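import Groth.Statements.S0880
import Groth.Agent.Lib.Helper1.RlimSheaves

set_option autoImplicit false
universe u
open CategoryTheory
open CohSite

namespace Groth.Agent.S0880

open Opposite CategoryTheory.Limits DerivedCategory
  Groth.Agent.H1.RlimSheaves Groth.Agent.H1.HDUNat Groth.Agent.H1.AbSheafRlim
  Groth.Agent.H1.AbSheafAcyc Groth.Agent.H1.HDUSections Groth.Agent.Lib.helper7.FreeYoneda
  Groth.Agent.H1.LocProjGen Groth.Agent.H1.SingleHom Groth.Agent.H1.MilnorHom

section general

variable {T : Type*} [Category T] (K : ℕ → T) (t : ∀ n, K (n + 1) ⟶ K n) {L : T}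
  (a : ∀ n, L ⟶ K n) (hcompat : ∀ n, a (n + 1) ≫ t n = a n)

include hcompat

lemma a_transition (n k : ℕ) : a (n + k) ≫ CohCx.transition K t n k = a n := by
  induction k with
  | zero => exact Category.comp_id _
  | succ k ih =>
    change a (n + k + 1) ≫ t (n + k) ≫ CohCx.transition K t n k = a n
    rw [← Category.assoc, hcompat, ih]

end general

section main

variable {C : Type u} [SmallCategory C] {J : GrothendieckTopology C}
  [HasDerivedCategory.{u} (Sheaf J AddCommGrpCat.{u})]
  {K : ℕ → DerivedCategory (Sheaf J AddCommGrpCat.{u})} {t : ∀ n, K (n + 1) ⟶ K n} [HasProduct K]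
  {L : DerivedCategory (Sheaf J AddCommGrpCat.{u})} {a : ∀ n, L ⟶ K n}

/-- a class over `Y` killed by `a nV` is zero, under the two hypotheses at `Y` -/
lemma eq_zero_of_comp_aN (hL : CohCx.IsRlimVia K t L a) (Y : C) (m : ℤ) (nV : ℕ)
    (hlim : CohCx.LimOneIsZero (fun n => CohCx.HDU (K n) (m - 1) Y)
      (fun n => Preadditive.rightComp _ ((shiftFunctor _ (m - 1)).map (t n))))
    (hinj : ∀ k : ℕ, Function.Injective
      (Preadditive.rightComp _ ((shiftFunctor _ m).map (CohCx.transition K t nV k)) :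
        CohCx.HDU (K (nV + k)) m Y → CohCx.HDU (K nV) m Y))
    (σ : CohCx.HDU L m Y) (hσ : σ ≫ (a nV)⟦m⟧' = 0) : σ = 0 := by
  have hc := a_compat hL
  -- vanishing of all components
  have h1 : ∀ k, σ ≫ (a (nV + k))⟦m⟧' = 0 := by
    intro k
    apply hinj k
    change (σ ≫ (a (nV + k))⟦m⟧') ≫ (CohCx.transition K t nV k)⟦m⟧' = 0 ≫ _
    rw [Category.assoc, ← Functor.map_comp, a_transition K t a hc, hσ, zero_comp]
  have h2 : ∀ j, j ≤ nV → σ ≫ (a (nV - j))⟦m⟧' = 0 := by
    intro j
    induction j with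
    | zero => intro _; exact hσ
    | succ j ih =>
      intro hj
      have e : nV - j = (nV - (j + 1)) + 1 := by omega
      have h3 := ih (by omega)
      rw [← hc (nV - (j + 1)), Functor.map_comp, ← Category.assoc]
      have h4 : σ ≫ (a (nV - (j + 1) + 1))⟦m⟧' = 0 := by
        rw [← e]; exact h3
      rw [h4, zero_comp]
  have h3 : ∀ n, σ ≫ (a n)⟦m⟧' = 0 := by
    intro n
    by_cases hn : nV ≤ n
    · obtain ⟨k, rfl⟩ := Nat.exists_eq_add_of_le hn
      exact h1 k
    · have := h2 (nV - n) (by omega)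
      have e : nV - (nV - n) = n := by omega
      rw [e] at this
      exact this
  -- pass to `X'`
  let τ : X' (J := J) Y m ⟶ L := (homShiftEquiv (eps Y m) L).symm σ
  have hτ : ∀ n, τ ≫ a n = 0 := by
    intro n
    apply (homShiftEquiv (eps Y m) (K n)).injective
    rw [homShiftEquiv_comp, AddEquiv.apply_symm_apply, map_zero]
    exact h3 n
  have hτ0 : τ = 0 := by
    apply eq_zero_of_limOne hL _ _ τ hτ
    intro v
    obtain ⟨wbar, hw⟩ := hlim (fun n => homShiftEquiv (eps' Y m) (K n) (v n))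
    refine ⟨fun n => (homShiftEquiv (eps' Y m) (K n)).symm (wbar n), fun n => ?_⟩
    apply (homShiftEquiv (eps' Y m) (K n)).injective
    rw [map_sub, homShiftEquiv_comp, AddEquiv.apply_symm_apply, AddEquiv.apply_symm_apply]
    exact (congrFun hw n).symm
  have := congrArg (homShiftEquiv (eps Y m) L) hτ0
  rw [AddEquiv.apply_symm_apply, map_zero] at this
  exact this

theorem main (hL : CohCx.IsRlimVia K t L a)
    (V : C) (m : ℤ) (nV : ℕ)
    (h : ∀ T ∈ J V, ∃ (ι : Type u) (Y : ι → C) (f : ∀ i, Y i ⟶ V), (∀ i, T.arrows (f i)) ∧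
      Sieve.ofArrows Y f ∈ J V ∧ ∀ i,
        CohCx.LimOneIsZero (fun n => CohCx.HDU (K n) (m - 1) (Y i))
          (fun n => Preadditive.rightComp _ ((shiftFunctor _ (m - 1)).map (t n))) ∧
        ∀ k : ℕ, Function.Injective
          (Preadditive.rightComp _ ((shiftFunctor _ m).map (CohCx.transition K t nV k)) :
            CohCx.HDU (K (nV + k)) m (Y i) → CohCx.HDU (K nV) m (Y i))) :
    Function.Injective (((DerivedCategory.homologyFunctor _ m).map (a nV)).hom.app (op V)) := by
  have hP := locProj_freeSheaf J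
  rw [injective_iff_map_eq_zero]
  intro x hx
  let s : (freeSheaf J).obj V ⟶ CohCx.HD L m := (homEquiv J V _).symm x
  have hxs : x = homEquiv J V _ s := by simp [s]
  have hs : s ≫ (homologyFunctor _ m).map (a nV) = 0 := by
    apply (homEquiv J V _).injective
    rw [homEquiv_naturality_right, ← hxs]
    exact hx.trans (map_zero (secAddEquiv V (CohCx.HD (K nV) m))).symm
  suffices hs0 : s = 0 by
    rw [hxs, hs0]
    exact map_zero (secAddEquiv V (CohCx.HD L m))
  let s' : (freeSheaf J).obj V ⟶ (homologyFunctor _ 0).obj (L⟦m⟧) := s ≫ (shIso L m).inv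
  have hss' : s = s' ≫ (shIso L m).hom := by simp [s']
  have hs'0 : s' ≫ (homologyFunctor _ 0).map ((a nV)⟦m⟧') = 0 := by
    have h1 := shIso_naturality (a nV) m
    have h2 : (shIso L m).inv ≫ (homologyFunctor _ 0).map ((a nV)⟦m⟧') =
        (homologyFunctor _ m).map (a nV) ≫ (shIso (K nV) m).inv := by
      rw [← cancel_mono (shIso (K nV) m).hom, Category.assoc, h1, Iso.inv_hom_id_assoc,
        Category.assoc, Iso.inv_hom_id, Category.comp_id]
    simp only [s', Category.assoc]
    rw [h2, ← Category.assoc, hs, zero_comp]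
  let T : Sieve V :=
    { arrows := fun Z f => ∃ σ : CohCx.HDU L m Z, rho σ = (freeSheaf J).map f ≫ s' ∧
        σ ≫ (a nV)⟦m⟧' = 0
      downward_closed := by
        rintro Z Z' f ⟨σ, h1, h2⟩ u
        refine ⟨(singleFunctor _ 0).map ((freeSheaf J).map u) ≫ σ, ?_, ?_⟩
        · rw [rho_precomp, h1, Functor.map_comp, Category.assoc]
        · rw [Category.assoc, h2, comp_zero] }
  have hT : T ∈ J V := by
    obtain ⟨T₁, hT₁, hl₁⟩ := exists_local_rep hP (L⟦m⟧) 0 s'
    refine J.transitive hT₁ T ?_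
    intro Y f hf
    obtain ⟨σ, hσ⟩ := hl₁ f hf
    have h0 : rho (σ ≫ (a nV)⟦m⟧') = 0 := by
      rw [rho_comp, hσ, Category.assoc, hs'0, comp_zero]
    obtain ⟨T₂, hT₂, hl₂⟩ := exists_local_zero hP ((K nV)⟦m⟧) 0 (σ ≫ (a nV)⟦m⟧') h0
    refine J.superset_covering ?_ hT₂
    intro Z u hu
    refine ⟨(singleFunctor _ 0).map ((freeSheaf J).map u) ≫ σ, ?_, ?_⟩
    · rw [rho_precomp, hσ, Functor.map_comp, Category.assoc]
    · rw [Category.assoc]
      exact hl₂ u hu
  obtain ⟨ι, Y, f, hYT, hYcov, hYgood⟩ := h T hT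
  apply eq_zero_of_family hP s Y f hYcov
  intro i
  obtain ⟨σ, h1, h2⟩ := hYT i
  have hσ0 : σ = 0 := eq_zero_of_comp_aN hL (Y i) m nV (hYgood i).1 (hYgood i).2 σ h2
  rw [hσ0, rho_zero] at h1
  rw [hss', ← Category.assoc, ← h1, zero_comp]

end main

open Opposite CategoryTheory.Limits in
/-- Let (K_n) be an inverse system in the derived category of abelian sheaves on a site with derived
limit L through maps a_n : L -> K_n, V an object and m an integer. Suppose there is an index n(V)
such that every covering sieve of V contains a covering family {V_i -> V} with, for each i, (1)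
vanishing R^1 lim of the system H^{m-1}(V_i, K_n) and (2) H^m(V_i, K_n) -> H^m(V_i, K_{n(V)})
injective for n >= n(V). Then H^m(L)(V) -> H^m(K_{n(V)})(V) is injective. -/
theorem result {C : Type u} [SmallCategory C]
    {J : GrothendieckTopology C} [HasDerivedCategory.{u} (Sheaf J AddCommGrpCat.{u})]
    (K : ℕ → DerivedCategory (Sheaf J AddCommGrpCat.{u})) (t : ∀ n, K (n + 1) ⟶ K n) [HasProduct K]
    (L : DerivedCategory (Sheaf J AddCommGrpCat.{u})) (a : ∀ n, L ⟶ K n) (hL : CohCx.IsRlimVia K t L a)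
    (V : C) (m : ℤ) (nV : ℕ)
    (h : ∀ T ∈ J V, ∃ (ι : Type u) (Y : ι → C) (f : ∀ i, Y i ⟶ V), (∀ i, T.arrows (f i)) ∧
      Sieve.ofArrows Y f ∈ J V ∧ ∀ i,
        CohCx.LimOneIsZero (fun n => CohCx.HDU (K n) (m - 1) (Y i))
          (fun n => Preadditive.rightComp _ ((shiftFunctor _ (m - 1)).map (t n))) ∧
        ∀ k : ℕ, Function.Injective
          (Preadditive.rightComp _ ((shiftFunctor _ m).map (CohCx.transition K t nV k)) :
            CohCx.HDU (K (nV + k)) m (Y i) → CohCx.HDU (K nV) m (Y i))) :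
    Function.Injective (((DerivedCategory.homologyFunctor _ m).map (a nV)).hom.app (op V)) := by
  exact main hL V m nV h

end Groth.Agent.S0880
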