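import Groth.Statements.S0874
import Groth.Agent.S0880

set_option autoImplicit false
universe u
open CategoryTheory
open CohTop

namespace Groth.Agent.S0874

open Opposite CategoryTheory.Limits DerivedCategory TopologicalSpace
  Groth.Agent.H1.RlimSheaves Groth.Agent.H1.HDUNat Groth.Agent.H1.AbSheafRlim
  Groth.Agent.H1.AbSheafAcyc Groth.Agent.H1.HDUSections Groth.Agent.Lib.helper7.FreeYoneda
  Groth.Agent.H1.LocProjGen Groth.Agent.H1.SingleHom Groth.Agent.H1.MilnorHom

section site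

variable {C : Type u} [SmallCategory C] {J : GrothendieckTopology C}
  [HasDerivedCategory.{u} (Sheaf J AddCommGrpCat.{u})]
  {L M : DerivedCategory (Sheaf J AddCommGrpCat.{u})}

/-- the sieve of arrows over which `s` is represented by a class killed by `φ` -/
def repSieve (φ : L ⟶ M) (m : ℤ) {V : C} (s : (freeSheaf J).obj V ⟶ CohCx.HD L m) : Sieve V where
  arrows := fun Z f => ∃ σ : CohCx.HDU L m Z,
    rho σ = (freeSheaf J).map f ≫ s ≫ (shIso L m).inv ∧ σ ≫ φ⟦m⟧' = 0
  downward_closed := by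
    rintro Z Z' f ⟨σ, h1, h2⟩ u
    refine ⟨(singleFunctor _ 0).map ((freeSheaf J).map u) ≫ σ, ?_, ?_⟩
    · rw [rho_precomp, h1, Functor.map_comp, Category.assoc]
    · rw [Category.assoc, h2, comp_zero]

lemma repSieve_mem (φ : L ⟶ M) (m : ℤ) {V : C} (s : (freeSheaf J).obj V ⟶ CohCx.HD L m)
    (hs : s ≫ (homologyFunctor _ m).map φ = 0) : repSieve φ m s ∈ J V := by
  have hP := locProj_freeSheaf J
  let s' : (freeSheaf J).obj V ⟶ (homologyFunctor _ 0).obj (L⟦m⟧) := s ≫ (shIso L m).inv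
  have hs'0 : s' ≫ (homologyFunctor _ 0).map (φ⟦m⟧') = 0 := by
    have h1 := shIso_naturality φ m
    have h2 : (shIso L m).inv ≫ (homologyFunctor _ 0).map (φ⟦m⟧') =
        (homologyFunctor _ m).map φ ≫ (shIso M m).inv := by
      rw [← cancel_mono (shIso M m).hom, Category.assoc, h1, Iso.inv_hom_id_assoc,
        Category.assoc, Iso.inv_hom_id, Category.comp_id]
    simp only [s', Category.assoc]
    rw [h2, ← Category.assoc, hs, zero_comp]
  obtain ⟨T₁, hT₁, hl₁⟩ := exists_local_rep hP (L⟦m⟧) 0 s'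
  refine J.transitive hT₁ _ ?_
  intro Y f hf
  obtain ⟨σ, hσ⟩ := hl₁ f hf
  have h0 : rho (σ ≫ φ⟦m⟧') = 0 := by
    rw [rho_comp, hσ, Category.assoc, hs'0, comp_zero]
  obtain ⟨T₂, hT₂, hl₂⟩ := exists_local_zero hP (M⟦m⟧) 0 (σ ≫ φ⟦m⟧') h0
  refine J.superset_covering ?_ hT₂
  intro Z u hu
  refine ⟨(singleFunctor _ 0).map ((freeSheaf J).map u) ≫ σ, ?_, ?_⟩
  · rw [rho_precomp, hσ, Functor.map_comp, Category.assoc]
  · rw [Category.assoc]
    exact hl₂ u hu

lemma comp_eq_zero_of_repSieve (φ : L ⟶ M) (m : ℤ) {V : C}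
    (s : (freeSheaf J).obj V ⟶ CohCx.HD L m) {Z : C} (f : Z ⟶ V)
    (h : ∀ σ : CohCx.HDU L m Z, σ ≫ φ⟦m⟧' = 0 → σ = 0) (hf : (repSieve φ m s).arrows f) :
    (freeSheaf J).map f ≫ s = 0 := by
  obtain ⟨σ, h1, h2⟩ := hf
  rw [h σ h2, rho_zero] at h1
  have h3 : ((freeSheaf J).map f ≫ s) ≫ (shIso L m).inv = 0 := by
    rw [Category.assoc]; exact h1.symm
  rw [← cancel_mono (shIso L m).inv, h3, zero_comp]

end site

theorem main {X : TopCat.{u}} [HasDerivedCategory.{u} (CohTop.Ab X)]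
    (K : ℕ → DerivedCategory (CohTop.Ab X)) (t : ∀ n, K (n + 1) ⟶ K n) [HasProduct K]
    (L : DerivedCategory (CohTop.Ab X)) (a : ∀ n, L ⟶ K n) (hL : CohCx.IsRlimVia K t L a)
    (x : X) (m : ℤ) (nx : ℕ)
    (h : ∀ V : Opens X, x ∈ V → ∃ U : Opens X, x ∈ U ∧ U ≤ V ∧
      CohCx.LimOneIsZero (fun n => CohCx.HDU (K n) (m - 1) U)
        (fun n => Preadditive.rightComp _ ((shiftFunctor _ (m - 1)).map (t n))) ∧
      ∀ k : ℕ, Function.Injective
        (Preadditive.rightComp _ ((shiftFunctor _ m).map (CohCx.transition K t nx k)) :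
          CohCx.HDU (K (nx + k)) m U → CohCx.HDU (K nx) m U)) :
    Function.Injective ((TopCat.Presheaf.stalkFunctor AddCommGrpCat.{u} x).map
      ((DerivedCategory.homologyFunctor (CohTop.Ab X) m).map (a nx)).hom) := by
  let φ : CohCx.HD L m ⟶ CohCx.HD (K nx) m := (homologyFunctor (CohTop.Ab X) m).map (a nx)
  change Function.Injective ((TopCat.Presheaf.stalkFunctor AddCommGrpCat.{u} x).map φ.hom)
  rw [injective_iff_map_eq_zero]
  intro y hy
  obtain ⟨W, hxW, s0, rfl⟩ := TopCat.Presheaf.exists_germ_eq (CohCx.HD L m).obj y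
  rw [TopCat.Presheaf.stalkFunctor_map_germ_apply] at hy
  have hy' : TopCat.Presheaf.germ (CohCx.HD (K nx) m).obj W x hxW (φ.hom.app (op W) s0) =
      TopCat.Presheaf.germ (CohCx.HD (K nx) m).obj W x hxW 0 := hy.trans (map_zero _).symm
  obtain ⟨W', hxW', iU, iV, e⟩ := TopCat.Presheaf.germ_eq _ x hxW hxW _ _ hy'
  rw [map_zero] at e
  let s1 := (CohCx.HD L m).obj.map iU.op s0
  have hs1 : φ.hom.app (op W') s1 = 0 := by
    have h2 := congrArg (fun f => (ConcreteCategory.hom f) s0) (φ.hom.naturality iU.op)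
    exact h2.trans e
  let J := Opens.grothendieckTopology X
  let s : (freeSheaf J).obj W' ⟶ CohCx.HD L m := (homEquiv J W' _).symm s1
  have hs1s : s1 = homEquiv J W' _ s := by simp [s]
  have hs : s ≫ φ = 0 := by
    apply (homEquiv J W' _).injective
    rw [homEquiv_naturality_right, ← hs1s]
    exact hs1.trans (map_zero (secAddEquiv W' (CohCx.HD (K nx) m))).symm
  have hT := repSieve_mem (a nx) m s hs
  obtain ⟨Z, g, hg, hxZ⟩ := hT x hxW'
  obtain ⟨U, hxU, hUZ, hlim, hinj⟩ := h Z hxZ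
  have hUT : (repSieve (a nx) m s).arrows (homOfLE hUZ ≫ g) :=
    (repSieve (a nx) m s).downward_closed hg (homOfLE hUZ)
  have h0 := comp_eq_zero_of_repSieve (a nx) m s (homOfLE hUZ ≫ g)
    (fun σ hσ => Groth.Agent.S0880.eq_zero_of_comp_aN hL U m nx hlim hinj σ hσ) hUT
  have h3 := congrArg (homEquiv J U _) h0
  rw [homEquiv_naturality_left, ← hs1s] at h3
  -- the germ
  have h4 : TopCat.Presheaf.germ (CohCx.HD L m).obj W x hxW s0 =
      TopCat.Presheaf.germ (CohCx.HD L m).obj U x hxU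
        ((CohCx.HD L m).obj.map (homOfLE hUZ ≫ g).op s1) := by
    rw [TopCat.Presheaf.germ_res_apply, TopCat.Presheaf.germ_res_apply]
  rw [h4, h3]
  exact (map_zero (secAddEquiv U (CohCx.HD L m))) ▸ map_zero _

open TopologicalSpace CategoryTheory.Limits in
/-- Let (K_n) be an inverse system in D(Ab X), the derived category of sheaves of abelian groups on X,
with derived limit L (through maps a_n : L -> K_n), x a point and m an integer. Suppose there are an
index n(x) and a fundamental system of open neighbourhoods U of x such that (1) the inverse system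
H^{m-1}(U, K_n) has vanishing R^1 lim and (2) for every n >= n(x), the transition map from H^m(U,
K_n) to H^m(U, K_{n(x)}) is one-to-one. Then a_{n(x)} induces an injection of stalks at x, from
H^m(L) into H^m(K_{n(x)}). -/
theorem result {X : TopCat.{u}} [HasDerivedCategory.{u} (CohTop.Ab X)]
    (K : ℕ → DerivedCategory (CohTop.Ab X)) (t : ∀ n, K (n + 1) ⟶ K n) [HasProduct K]
    (L : DerivedCategory (CohTop.Ab X)) (a : ∀ n, L ⟶ K n) (hL : CohCx.IsRlimVia K t L a)
    (x : X) (m : ℤ) (nx : ℕ)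
    (h : ∀ V : Opens X, x ∈ V → ∃ U : Opens X, x ∈ U ∧ U ≤ V ∧
      CohCx.LimOneIsZero (fun n => CohCx.HDU (K n) (m - 1) U)
        (fun n => Preadditive.rightComp _ ((shiftFunctor _ (m - 1)).map (t n))) ∧
      ∀ k : ℕ, Function.Injective
        (Preadditive.rightComp _ ((shiftFunctor _ m).map (CohCx.transition K t nx k)) :
          CohCx.HDU (K (nx + k)) m U → CohCx.HDU (K nx) m U)) :
    Function.Injective ((TopCat.Presheaf.stalkFunctor AddCommGrpCat.{u} x).map
      ((DerivedCategory.homologyFunctor (CohTop.Ab X) m).map (a nx)).hom) := by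
  exact main K t L a hL x m nx h

end Groth.Agent.S0874
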