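import Groth.Statements.S0892
import Mathlib
import Groth.Agent.Lib.Helper25.FLFLocus
-- import your own Groth.Agent.* helpers here

set_option autoImplicit false
universe u
open CategoryTheory
attribute [local instance] HasDerivedCategory.standard
open DCoh

namespace Groth.Agent.S0892

open Groth.Agent.Lib.helper25.FLFLocus

open AlgebraicGeometry in
/-- Let X be a scheme and E a perfect object of D(O_X). Then the set U of points x such that for every i
the stalk H^i(E)_x is a finite free O_{X,x}-module is open, all cohomology sheaves H^i(E) are finite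
locally free over U, and every open W over which all H^i(E) are finite locally free is contained in
U. (Stated for schemes; the published statement is for ringed spaces all of whose stalks of the
structure sheaf are local rings.) -/
theorem result {X : Scheme.{u}} (E : DCoh.D X) (hE : DCoh.IsPerfect E) :
    ∃ U : X.Opens,
      (U : Set X) = {x : X | ∀ i : ℤ, Module.Free (X.presheaf.stalk x) ((DCoh.HD E i).presheaf.stalk x) ∧
        Module.Finite (X.presheaf.stalk x) ((DCoh.HD E i).presheaf.stalk x)} ∧
      (∀ i : ℤ, FlatMod.IsFinLocFree ((DCoh.HD E i).restrict U.ι)) ∧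
      ∀ W : X.Opens, (∀ i : ℤ, FlatMod.IsFinLocFree ((DCoh.HD E i).restrict W.ι)) → W ≤ U := by
  classical
  have hq := fun i => isQuasicoherent_HD_of_isPerfect hE i
  let S : Set X := {x : X | ∀ i : ℤ, Module.Free (X.presheaf.stalk x) ((DCoh.HD E i).presheaf.stalk x) ∧
        Module.Finite (X.presheaf.stalk x) ((DCoh.HD E i).presheaf.stalk x)}
  have key : ∀ x ∈ S, ∃ W : X.Opens, x ∈ W ∧ ∀ i : ℤ, FLFOn (DCoh.HD E i) W := fun x hx =>
    exists_flfOn_HD_of_isPerfect hE x (fun i => (hx i).1)
  have hsub : ∀ (W : X.Opens), (∀ i : ℤ, FLFOn (DCoh.HD E i) W) → (W : Set X) ⊆ S := by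
    intro W hW z hz i
    exact free_finite_stalk_of_freeNear (DCoh.HD E i) (hW i z hz)
  have hopen : IsOpen S := by
    rw [isOpen_iff_forall_mem_open]
    intro x hx
    obtain ⟨W, hxW, hW⟩ := key x hx
    exact ⟨W, hsub W hW, W.isOpen, hxW⟩
  refine ⟨⟨S, hopen⟩, rfl, fun i => ?_, fun W hW => ?_⟩
  · refine FLFOn.isFinLocFree_restrict (W := ⟨S, hopen⟩) (fun z hz => ?_)
    obtain ⟨W, hzW, hW⟩ := key z hz
    exact hW i z hzW
  · exact hsub W (fun i => flfOn_of_isFinLocFree_restrict (hW i))

end Groth.Agent.S0892
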