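import Groth.Statements.S0894
import Mathlib

set_option autoImplicit false
universe u
open CategoryTheory
open Hyper

namespace Groth.Agent.S0894

open Opposite CategoryTheory.Limits

variable {C : Type u} [SmallCategory C]

/-- A split epimorphism of formal coproducts is an SR-covering. -/
theorem isSRCovering_of_section (J : GrothendieckTopology C) {K L : FormalCoproduct.{u} C}
    (f : K ⟶ L) (s : L ⟶ K) (hs : s ≫ f = 𝟙 L) : Hyper.IsSRCovering J f := by
  intro j
  have h := (FormalCoproduct.hom_ext_iff' (s ≫ f) (𝟙 L)).mp hs j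
  obtain ⟨h₁, h₂⟩ := h
  have h₁' : f.f (s.f j) = j := h₁
  have hmem : (Sieve.ofArrows (fun i : {i : K.I // f.f i = j} => K.obj i.1)
      (fun i => f.φ i.1 ≫ eqToHom (congrArg L.obj i.2))) (𝟙 (L.obj j)) := by
    rw [Sieve.mem_ofArrows_iff]
    refine ⟨⟨s.f j, h₁'⟩, s.φ j, ?_⟩
    have h₂' : (s.φ j ≫ f.φ (s.f j)) ≫ eqToHom (congrArg L.obj h₁') = 𝟙 (L.obj j) := by
      have := h₂
      simpa using this
    rw [← h₂', Category.assoc]
  have : Sieve.ofArrows (fun i : {i : K.I // f.f i = j} => K.obj i.1)
      (fun i => f.φ i.1 ≫ eqToHom (congrArg L.obj i.2)) = ⊤ := by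
    rw [← Sieve.id_mem_iff_eq_top]
    exact hmem
  rw [this]
  exact J.top_mem _

theorem main {C : Type u} [SmallCategory C]
    (J : GrothendieckTopology C) (X : C) (K : SimplicialObject (Limits.FormalCoproduct.{u} (Over X)))
    (hK0 : Sieve.ofArrows (fun i => ((K.obj (op (SimplexCategory.mk 0))).obj i).left)
      (fun i => ((K.obj (op (SimplexCategory.mk 0))).obj i).hom) ∈ J X) :
    (∀ n : ℕ, Sieve.ofArrows (fun i => ((K.obj (op (SimplexCategory.mk n))).obj i).left)
      (fun i => ((K.obj (op (SimplexCategory.mk n))).obj i).hom) ∈ J X) ∧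
    ∀ (n : ℕ) (i : Fin (n + 2)), Hyper.IsSRCovering (J.over X) (K.δ i) := by
  constructor
  · intro n
    induction n with
    | zero => exact hK0
    | succ n ih =>
      refine J.superset_covering ?_ ih
      rintro Y h hh
      rw [Sieve.mem_ofArrows_iff] at hh ⊢
      obtain ⟨j, a, rfl⟩ := hh
      refine ⟨(K.σ (0 : Fin (n + 1))).f j, a ≫ ((K.σ (0 : Fin (n + 1))).φ j).left, ?_⟩
      rw [Category.assoc, Over.w]
  · intro n i
    by_cases hi : i = Fin.last (n + 1)
    · subst hi
      refine isSRCovering_of_section _ _ (K.σ (Fin.last n)) ?_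
      have := K.δ_comp_σ_succ (i := Fin.last n)
      simpa using this
    · refine isSRCovering_of_section _ _ (K.σ (i.castPred hi)) ?_
      have := K.δ_comp_σ_self (i := i.castPred hi)
      simpa using this

open Opposite in
/-- For a hypercovering K of an object X of a site with fibre products (a simplicial semi-representable
object over X; coskeleta are assumed to exist): (1) for each n the family K_n is a covering of X,
and (2) every face map d_i : K_{n+1} -> K_n is a covering morphism of semi-representable objects. -/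
theorem result {C : Type u} [SmallCategory C] [Limits.HasPullbacks C]
    (J : GrothendieckTopology C) (X : C) (K : SimplicialObject (Limits.FormalCoproduct.{u} (Over X)))
    [∀ (n : ℕ) (F : (SimplexCategory.Truncated n)ᵒᵖ ⥤ Limits.FormalCoproduct.{u} (Over X)),
      (SimplexCategory.Truncated.inclusion n).op.HasRightKanExtension F]
    (hK : Hyper.IsHypercovering J X K) :
    (∀ n : ℕ, Sieve.ofArrows (fun i => ((K.obj (op (SimplexCategory.mk n))).obj i).left)
      (fun i => ((K.obj (op (SimplexCategory.mk n))).obj i).hom) ∈ J X) ∧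
    ∀ (n : ℕ) (i : Fin (n + 2)), Hyper.IsSRCovering (J.over X) (K.δ i) := by
  exact main J X K hK.1

end Groth.Agent.S0894
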