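import Groth.Statements.S0904
import Mathlib

set_option autoImplicit false
universe u
open CategoryTheory
open CohTop

namespace Groth.Agent.S0904

open CategoryTheory.Limits in
theorem preservesFiniteLimits_pullback {X Y : TopCat.{u}} (f : X ⟶ Y) :
    PreservesFiniteLimits (TopCat.Sheaf.pullback AddCommGrpCat.{u} f) := by
  have h1 : RepresentablyFlat (TopologicalSpace.Opens.map f) := inferInstance
  have h2 : ∀ (F : (TopologicalSpace.Opens ↑Y)ᵒᵖ ⥤ AddCommGrpCat.{u}),
      (TopologicalSpace.Opens.map f).op.HasLeftKanExtension F := inferInstance
  have h3 : PreservesFiniteLimits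
      ((TopologicalSpace.Opens.map f).op.lan : (_ ⥤ _ ⥤ AddCommGrpCat.{u})) := inferInstance
  exact Functor.sheafPullbackConstruction.preservesFiniteLimits _ _ _ _

/-- Abelian sheaves, for which every continuous map is flat: for a continuous map f : X -> Y and an
injective abelian sheaf I on X, the direct image f_* I is an injective abelian sheaf on Y. -/
theorem result {X Y : TopCat.{u}} (f : X ⟶ Y) (I : CohTop.Ab X) [Injective I] :
    Injective ((CohTop.push f).obj I) := by
  have := preservesFiniteLimits_pullback f
  have h : (TopCat.Sheaf.pullback AddCommGrpCat.{u} f).PreservesMonomorphisms := inferInstance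
  exact @Injective.injective_of_adjoint _ _ _ _ _ _ h
    (TopCat.Sheaf.pullbackPushforwardAdjunction AddCommGrpCat.{u} f) I ‹_›

end Groth.Agent.S0904
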