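import Groth.Statements.S0905
import Mathlib

set_option autoImplicit false
universe u
open CategoryTheory
open CohSite

namespace Groth.Agent.S0905

open Opposite CategoryTheory.Limits

variable {C : Type u} [SmallCategory C] (J : GrothendieckTopology C)

/-- An epimorphism of abelian sheaves is surjective on sections over a weakly contractible object. -/
theorem surjective_app_of_epi (U : C) (hU : CohSite.IsWeaklyContractible J U)
    {G G' : Sheaf J AddCommGrpCat.{u}} (e : G ⟶ G') [Epi e] :
    Function.Surjective (e.hom.app (op U)) := by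
  have h1 : Sheaf.IsLocallySurjective e :=
    (Sheaf.isLocallySurjective_iff_epi' AddCommGrpCat.{u} e).mpr inferInstance
  have h2 : Sheaf.IsLocallySurjective ((sheafCompose J (forget AddCommGrpCat.{u})).map e) :=
    inferInstance
  have h3 : Epi ((sheafCompose J (forget AddCommGrpCat.{u})).map e) :=
    (Sheaf.isLocallySurjective_iff_epi _).mp h2
  have := hU _ _ _ h3
  exact this

/-- The free abelian sheaf on a representable presheaf. -/
noncomputable abbrev freeSheaf (U : C) : Sheaf J AddCommGrpCat.{u} :=
  (presheafToSheaf J AddCommGrpCat.{u}).obj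
    (((Functor.whiskeringRight Cᵒᵖ _ _).obj AddCommGrpCat.free).obj (yoneda.obj U))

/-- The free abelian sheaf on a weakly contractible object is projective. -/
theorem projective_freeSheaf (U : C) (hU : CohSite.IsWeaklyContractible J U) :
    Projective (freeSheaf J U) := by
  refine ⟨fun {G G'} f e he => ?_⟩
  let adj₁ := sheafificationAdjunction J AddCommGrpCat.{u}
  let adj₂ := (AddCommGrpCat.adj.{u}).whiskerRight Cᵒᵖ
  let f₁ := adj₁.homEquiv _ _ f
  let f₂ := adj₂.homEquiv _ _ f₁
  let x' := yonedaEquiv f₂
  obtain ⟨x, hx⟩ := surjective_app_of_epi J U hU e x'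
  let g₂ : yoneda.obj U ⟶ ((Functor.whiskeringRight Cᵒᵖ _ _).obj (forget AddCommGrpCat.{u})).obj
    ((sheafToPresheaf J AddCommGrpCat.{u}).obj G) := yonedaEquiv.symm x
  let g₁ := (adj₂.homEquiv _ _).symm g₂
  let g := (adj₁.homEquiv _ _).symm g₁
  refine ⟨g, ?_⟩
  apply (adj₁.homEquiv _ _).injective
  rw [Adjunction.homEquiv_naturality_right]
  apply (adj₂.homEquiv _ _).injective
  rw [Adjunction.homEquiv_naturality_right]
  apply yonedaEquiv.injective
  simp only [g, g₁, Equiv.apply_symm_apply]
  rw [yonedaEquiv_comp]
  simp only [g₂, Equiv.apply_symm_apply]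
  exact hx

/-- Parts (1) and (2), for a weakly contractible object U of a site (one over which every epimorphism of
sheaves of sets is surjective on sections): (1) the functor F ↦ F(U) from abelian sheaves to abelian
groups preserves finite colimits (it is exact, finite limits being automatic), and (2) H^p(U, F) = 0
for every abelian sheaf F and every p > 0. (Part (3) about torsors is not included.) -/
theorem result {C : Type u} [SmallCategory C] (J : GrothendieckTopology C)
    (U : C) (hU : CohSite.IsWeaklyContractible J U) :
    PreservesFiniteColimits (sheafToPresheaf J AddCommGrpCat.{u} ⋙ (evaluation Cᵒᵖ AddCommGrpCat.{u}).obj (op U)) ∧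
    ∀ (F : Sheaf J AddCommGrpCat.{u}) (p : ℕ), Subsingleton (CohSite.HU F (p + 1) U) := by
  constructor
  · set Γ := sheafToPresheaf J AddCommGrpCat.{u} ⋙ (evaluation Cᵒᵖ AddCommGrpCat.{u}).obj (op U)
    have hlim : PreservesFiniteLimits Γ := inferInstance
    refine ((Functor.preservesFiniteColimits_tfae Γ).out 0 3).mp ?_
    intro S hS
    have h30 := (Functor.preservesFiniteLimits_tfae Γ).out 3 0
    refine ⟨(h30.mp hlim S hS).1, ?_⟩
    have := hS.epi_g
    have hsurj := surjective_app_of_epi J U hU S.g
    rw [AddCommGrpCat.epi_iff_surjective]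
    exact hsurj
  · intro F p
    have := projective_freeSheaf J U hU
    exact Abelian.Ext.subsingleton_of_projective (freeSheaf J U) F p

end Groth.Agent.S0905
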