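import Groth.Statements.S0907
import Groth.Agent.Lib.Helper1.HyperEx5

set_option autoImplicit false
universe u
open CategoryTheory
open Hyper

namespace Groth.Agent.S0907

open TopologicalSpace Opposite CategoryTheory.Limits

lemma cover_of_basis {X : TopCat.{u}} (B : Set (Opens X)) (hB : Opens.IsBasis B) (U : Opens X) :
    ∃ (ι : Type u) (V : ι → Opens X) (f : ∀ i, V i ⟶ U),
      Sieve.ofArrows V f ∈ Opens.grothendieckTopology X U ∧ ∀ i, V i ∈ B := by
  refine ⟨{V : Opens X // V ∈ B ∧ V ≤ U}, fun V => V.1, fun V => homOfLE V.2.2, ?_, fun V => V.2.1⟩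
  intro x hx
  obtain ⟨U', hU', hxU', hle⟩ := Opens.isBasis_iff_nbhd.1 hB hx
  exact ⟨U', homOfLE hle, Sieve.ofArrows_mk _ _ (⟨U', hU', hle⟩ : {V : Opens X // V ∈ B ∧ V ≤ U}), hxU'⟩

open TopologicalSpace Opposite CategoryTheory.Limits in
/-- Phrased in the site of opens of X, with X the top open: let B be a basis for the topology of X. Then
there is a hypercovering K of X such that every open occurring in every K_n belongs to B. -/
theorem result {X : TopCat.{u}} (B : Set (Opens X)) (hB : Opens.IsBasis B)
    [∀ (n : ℕ) (F : (SimplexCategory.Truncated n)ᵒᵖ ⥤ Limits.FormalCoproduct.{u} (Over (⊤ : Opens X))),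
      (SimplexCategory.Truncated.inclusion n).op.HasRightKanExtension F] :
    ∃ K : SimplicialObject (FormalCoproduct.{u} (Over (⊤ : Opens X))),
      Hyper.IsHypercovering (Opens.grothendieckTopology X) ⊤ K ∧
      ∀ (n : ℕ) (i : (K.obj (op (SimplexCategory.mk n))).I),
        ((K.obj (op (SimplexCategory.mk n))).obj i).left ∈ B := by
  exact Groth.Agent.H1.HyperEx.exists_hypercovering_in_class _ B (cover_of_basis B hB) ⊤

end Groth.Agent.S0907
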