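import Groth.Statements.S0913
import Groth.Agent.Lib.Helper25.FlatAmpPerfect

set_option autoImplicit false
universe u
open CategoryTheory
attribute [local instance] HasDerivedCategory.standard
open DCoh

namespace Groth.Agent.S0913

open AlgebraicGeometry in
/-- Let a ≤ b and let E in D(O_X) be represented by a complex of flat modules vanishing outside [a, b]
(tor-amplitude in [a, b]) and be (a-1)-pseudo-coherent. Then E is perfect. -/
theorem result {X : Scheme.{u}} (E : DCoh.D X) (a b : ℤ) (hab : a ≤ b)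
    (h1 : DCoh.HasFlatAmplitudeIn a b E) (h2 : DCoh.IsPseudoCoherentD (a - 1) E) : DCoh.IsPerfect E := by
  obtain ⟨F, hF, hFf, ⟨e⟩⟩ := h1
  intro x
  obtain ⟨V, hxV, hpc⟩ := Groth.Agent.Lib.helper25.DCohPC.exists_pcData h2 x
  exact Groth.Agent.Lib.helper25.FlatAmpPerfect.isPerfect_at_of_flat_of_pcData E V.ι
    (⟨x, hxV⟩ : (V : AlgebraicGeometry.Scheme.{u}))
    ((Groth.Agent.Lib.helper25.DCohRestrict.resCx V.ι).obj F) a b
    (fun i hi => (AlgebraicGeometry.Scheme.Modules.restrictFunctor V.ι).map_isZero (hF i hi))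
    (fun i => Groth.Agent.Lib.helper25.FlatClass.isFlat_restrict (F.X i) V (hFf i))
    ⟨(Groth.Agent.Lib.helper25.DCohRestrict.resDQIso V.ι F).symm ≪≫ (DCoh.restrictD V.ι).mapIso e⟩ hpc

end Groth.Agent.S0913
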