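import Groth.Statements.S0914
import Groth.Agent.Lib.Helper25.PerfectTor
import Groth.Agent.S0913

set_option autoImplicit false
universe u
open CategoryTheory
attribute [local instance] HasDerivedCategory.standard
open DCoh

namespace Groth.Agent.S0914

open AlgebraicGeometry in
/-- An object E of D(O_X) is perfect if and only if it is m-pseudo-coherent for every m and locally has
finite tor dimension. -/
theorem result {X : Scheme.{u}} (E : DCoh.D X) :
    DCoh.IsPerfect E ↔ (∀ m : ℤ, DCoh.IsPseudoCoherentD m E) ∧ DCoh.LocHasFiniteTorDim E := by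
  constructor
  · intro h
    exact ⟨fun m => Groth.Agent.Lib.helper25.PerfectTor.isPseudoCoherentD_of_isPerfect h m,
      Groth.Agent.Lib.helper25.PerfectTor.locHasFiniteTorDim_of_isPerfect h⟩
  · rintro ⟨hpc, htor⟩
    refine Groth.Agent.Lib.helper25.FlatAmpPerfect.isPerfect_of_restrict (fun x => ?_)
    obtain ⟨V, a, b, hxV, H⟩ := htor x
    obtain ⟨F₀, ⟨a₀⟩⟩ := Groth.Agent.Lib.helper25.DCohRestrict.exists_rep E
    obtain ⟨G, hG, hGf, ⟨e⟩⟩ := H F₀ ⟨a₀⟩
    exact ⟨V, hxV, Groth.Agent.S0913.result _ a (max a b) (le_max_left _ _)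
      ⟨G, fun i hi => hG i (by omega), hGf,
        ⟨e ≪≫ (Groth.Agent.Lib.helper25.DCohRestrict.resDQIso V.ι F₀).symm ≪≫
          (DCoh.restrictD V.ι).mapIso a₀⟩⟩
      (Groth.Agent.Lib.helper25.PerfectTor.isPseudoCoherentD_restrictD (hpc (a - 1)) V)⟩

end Groth.Agent.S0914
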