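import Groth.Statements.S0919
import Mathlib
-- import your own Groth.Agent.* helpers here

set_option autoImplicit false
universe v u
open CategoryTheory
open CohDer

namespace Groth.Agent.S0919

section helpers
open Limits Opposite

variable {A : Type u} [Category.{v} A]

/-- maps out of a point -/
def punitEquiv (T : Type v) : ((PUnit.{v+1} : Type v) ⟶ T) ≃ T where
  toFun g := g PUnit.unit
  invFun x := ↾(fun _ => x)
  left_inv g := by ext ⟨⟩; rfl
  right_inv x := rfl

/-- a right adjoint to types is representable -/
noncomputable def reprByAdj (F : Aᵒᵖ ⥤ Type v) (L : Type v ⥤ Aᵒᵖ) (adj : L ⊣ F) :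
    F.RepresentableBy (L.obj PUnit).unop where
  homEquiv {X} := ((opEquiv (L.obj PUnit) (op X)).symm.trans (adj.homEquiv PUnit (op X))).trans
    (punitEquiv _)
  homEquiv_comp {X X'} f g := by
    simp [punitEquiv, opEquiv, Adjunction.homEquiv_unit]

end helpers

open CategoryTheory.Limits in
/-- Let A be a Grothendieck abelian category and F a contravariant functor from A to sets (a functor on
the opposite category). Then F is representable if and only if F turns all small colimits of A into
limits, i.e. preserves small limits as a functor on the opposite category. -/
theorem result {A : Type u} [Category.{v} A] [Abelian A]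
    [IsGrothendieckAbelian.{v} A] (F : Aᵒᵖ ⥤ Type v) :
    F.IsRepresentable ↔ PreservesLimitsOfSize.{v, v} F := by
  constructor
  · intro h
    exact preservesLimits_of_natIso F.reprW
  · intro h
    have hsep : (ObjectProperty.singleton (separator A)).IsSeparating := isSeparator_separator A
    have hcosep : (ObjectProperty.singleton (separator A)).op.IsCoseparating :=
      (ObjectProperty.isCoseparating_op_iff _).2 hsep
    have : F.IsRightAdjoint :=
      isRightAdjoint_of_preservesLimits_of_isCoseparating hcosep F
    exact ⟨_, ⟨reprByAdj F F.leftAdjoint (Adjunction.ofIsRightAdjoint F)⟩⟩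

end Groth.Agent.S0919
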