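import Groth.Statements.S0923
import Mathlib
import Groth.Agent.Lib.Helper25.DCohRestrict

set_option autoImplicit false
universe u
open CategoryTheory
attribute [local instance] HasDerivedCategory.standard
open DCoh

namespace Groth.Agent.S0923

open AlgebraicGeometry CategoryTheory.Limits in
/-- On a scheme X, an object E of D(𝒪_X) is perfect if and only if every point has an open neighbourhood
V such that the restriction to V of any complex representing E is isomorphic in D(𝒪_V) to a bounded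
complex each of whose terms is isomorphic to a finite free 𝒪_V-module. (The published statement is
for ringed spaces whose stalks are local rings and lists further equivalent conditions; here X is a
scheme and only this equivalence is stated.) -/
theorem result {X : Scheme.{u}} (E : DCoh.D X) :
    DCoh.IsPerfect E ↔ ∀ x : X, ∃ V : X.Opens, x ∈ V ∧
      ∀ F : CochainComplex X.Modules ℤ, Nonempty (DCoh.toD X F ≅ E) →
        ∃ (P : CochainComplex (V : Scheme.{u}).Modules ℤ) (a b : ℤ), DCoh.VanishesOutside P a b ∧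
          (∀ i : ℤ, ∃ n : ℕ, Nonempty (P.X i ≅ FlatMod.freeMod (V : Scheme.{u}) n)) ∧
          Nonempty (DerivedCategory.Q.obj ((DCoh.restrictCx V).obj F) ≅ DerivedCategory.Q.obj P) := by
  constructor
  · intro hK x
    obtain ⟨V, hxV, hV⟩ := hK x
    obtain ⟨F₀, hF₀⟩ := Groth.Agent.Lib.helper25.DCohRestrict.exists_rep E
    obtain ⟨E₀, hE₀, ⟨e₀⟩⟩ := hV F₀ hF₀
    obtain ⟨W, hyW, hfree⟩ :=
      Groth.Agent.Lib.helper25.DCohRestrict.exists_open_all_free hE₀ (⟨x, hxV⟩ : (V : Scheme.{u}))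
    have hxj : x ∈ (W.ι ≫ V.ι).opensRange := ⟨⟨⟨x, hxV⟩, hyW⟩, rfl⟩
    refine ⟨(W.ι ≫ V.ι).opensRange, hxj, fun F hF => ?_⟩
    have e : Nonempty (DerivedCategory.Q.obj
        ((Groth.Agent.Lib.helper25.DCohRestrict.resCx (W.ι ≫ V.ι)).obj F₀) ≅
        DerivedCategory.Q.obj ((Groth.Agent.Lib.helper25.DCohRestrict.resCx W.ι).obj E₀)) := by
      obtain ⟨e1⟩ := Groth.Agent.Lib.helper25.DCohRestrict.nonempty_Q_res_iso W.ι ⟨e₀⟩
      exact ⟨DerivedCategory.Q.mapIso
        (Groth.Agent.Lib.helper25.DCohRestrict.resCxCompIso W.ι V.ι F₀) ≪≫ e1⟩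
    obtain ⟨a, b, hab⟩ := hE₀.1
    refine ⟨(Groth.Agent.Lib.helper25.DCohRestrict.resCx (W.ι ≫ V.ι).isoOpensRange.inv).obj
      ((Groth.Agent.Lib.helper25.DCohRestrict.resCx W.ι).obj E₀), a, b, ?_, ?_,
      Groth.Agent.Lib.helper25.DCohRestrict.nonempty_Q_restrict_opensRange_iso E (W.ι ≫ V.ι) F₀ hF₀ _ e F hF⟩
    · intro i hi
      exact (Scheme.Modules.restrictFunctor _).map_isZero
        ((Scheme.Modules.restrictFunctor _).map_isZero (hab i hi))
    · intro i
      exact Groth.Agent.Lib.helper25.DCohRestrict.exists_iso_freeMod_res _ (hfree i)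
  · intro h x
    obtain ⟨V, hxV, hV⟩ := h x
    refine ⟨V, hxV, fun F hF => ?_⟩
    obtain ⟨P, a, b, hab, hfree, hiso⟩ := hV F hF
    refine ⟨P, ⟨⟨a, b, hab⟩, fun i => ?_⟩, hiso⟩
    obtain ⟨n, ⟨e⟩⟩ := hfree i
    exact Groth.Agent.Lib.helper16.FLF.isFinLocFree_of_iso e.symm
      (Groth.Agent.Lib.helper16.FLF.isFinLocFree_freeMod _ n)

end Groth.Agent.S0923
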