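import Groth.Statements.S0928
import Mathlib
-- import your own Groth.Agent.* helpers here

set_option autoImplicit false
universe u
open CategoryTheory
open CohDer

namespace Groth.Agent.S0928

section helpers
open Limits MorphismProperty ZeroObject

universe w v' u'

/-- functorial injective embeddings in a Grothendieck abelian category -/
theorem functorial_injective (A : Type u') [Category.{v'} A] [Abelian A]
    [IsGrothendieckAbelian.{w} A] :
    ∃ (J : A ⥤ A) (j : 𝟭 A ⟶ J), ∀ F : A, Injective (J.obj F) ∧ Mono (j.app F) := by
  let data : FunctorialFactorizationData (monomorphisms A) (monomorphisms A).rlp :=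
    functorialFactorizationData _ _
  let toZero : A ⥤ Arrow A :=
    { obj := fun X => Arrow.mk (0 : X ⟶ (0 : A))
      map := fun {X Y} f => Arrow.homMk (f := Arrow.mk (0 : X ⟶ (0 : A)))
        (g := Arrow.mk (0 : Y ⟶ (0 : A))) f (𝟙 (0 : A)) (by simp)
      map_id := fun X => by ext <;> simp
      map_comp := fun f g => by ext <;> simp }
  refine ⟨toZero ⋙ data.Z,
    { app := fun X => data.i.app (toZero.obj X)
      naturality := fun X Y f => data.i.naturality (toZero.map f) }, ?_⟩
  intro F
  constructor
  · have hp := data.hp (toZero.obj F)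
    rw [injective_iff_rlp_monomorphisms_zero]
    have : data.p.app (toZero.obj F) = (0 : data.Z.obj (toZero.obj F) ⟶ 0) :=
      (isZero_zero A).eq_of_tgt _ _
    rw [this] at hp
    exact hp
  · exact data.hi (toZero.obj F)

instance ab5Presheaf {C : Type u} [SmallCategory C] :
    AB5OfSize.{u, u} (Cᵒᵖ ⥤ AddCommGrpCat.{u}) :=
  ⟨fun _ _ _ => inferInstance⟩

instance grothPresheaf {C : Type u} [SmallCategory C] :
    IsGrothendieckAbelian.{u} (Cᵒᵖ ⥤ AddCommGrpCat.{u}) where

end helpers

/-- On a small category C the category of presheaves of abelian groups has functorial injective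
embeddings: there are an endofunctor J of the presheaf category and a natural transformation from
the identity to J with each component a monomorphism into an injective presheaf. -/
theorem result {C : Type u} [SmallCategory C] :
    ∃ (J : (Cᵒᵖ ⥤ AddCommGrpCat.{u}) ⥤ (Cᵒᵖ ⥤ AddCommGrpCat.{u})) (j : 𝟭 _ ⟶ J),
      ∀ F : Cᵒᵖ ⥤ AddCommGrpCat.{u}, Injective (J.obj F) ∧ Mono (j.app F) := by
  exact functorial_injective.{u} (Cᵒᵖ ⥤ AddCommGrpCat.{u})

end Groth.Agent.S0928
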