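import Groth.Statements.S0929
import Mathlib
import Groth.Agent.S0928
-- import your own Groth.Agent.* helpers here

set_option autoImplicit false
universe u
open CategoryTheory
open CohDer

namespace Groth.Agent.S0929

section helpers
open Limits

variable {C : Type u} [SmallCategory C] (O : Cᵒᵖ ⥤ RingCat.{u})

instance ab5PresheafOfModules : AB5OfSize.{u, u} (PresheafOfModules.{u} O) :=
  ⟨fun J _ _ => HasExactColimitsOfShape.domain_of_functor J (PresheafOfModules.toPresheaf.{u} O)⟩

instance hasSeparatorPresheafOfModules : HasSeparator (PresheafOfModules.{u} O) :=
  ⟨⟨_, (PresheafOfModules.freeYoneda.isSeparating.{u} O).isSeparator_coproduct⟩⟩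

instance grothPresheafOfModules : IsGrothendieckAbelian.{u} (PresheafOfModules.{u} O) where

end helpers

/-- For a presheaf of rings O on a small category C, the category of presheaves of O-modules has
functorial injective embeddings (an endofunctor J with a natural transformation from the identity
whose components are monomorphisms into injective objects). -/
theorem result {C : Type u} [SmallCategory C]
    (O : Cᵒᵖ ⥤ RingCat.{u}) :
    ∃ (J : PresheafOfModules.{u} O ⥤ PresheafOfModules.{u} O) (j : 𝟭 _ ⟶ J),
      ∀ F : PresheafOfModules.{u} O, Injective (J.obj F) ∧ Mono (j.app F) := by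
  exact Groth.Agent.S0928.functorial_injective.{u} (PresheafOfModules.{u} O)

end Groth.Agent.S0929
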