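import Groth.Statements.S0941
import Groth.Agent.Lib.Helper27.CechSite
-- import your own Groth.Agent.* helpers here

set_option autoImplicit false
universe u
open CategoryTheory
open CohSite

namespace Groth.Agent.S0941

open CategoryTheory.Limits in
/-- Let C be a site with fibre products, {Y_i -> U} a covering family and F an abelian sheaf with
H^q(Y_{i_0} x_U ... x_U Y_{i_p}, F) = 0 for all q > 0 and all finite tuples of indices. Then for
every p the p-th Cech cohomology group of F with respect to the covering is isomorphic to H^p(U, F). -/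
theorem result {C : Type u} [SmallCategory C] [HasPullbacks C]
    (J : GrothendieckTopology C) (F : Sheaf J AddCommGrpCat.{u}) {U : C} {ι : Type u} (Y : ι → Over U)
    (hY : Sieve.ofArrows (fun i => (Y i).left) (fun i => (Y i).hom) ∈ J U)
    (h : ∀ (p : ℕ) (a : Fin (p + 1) → ι) (q : ℕ),
      Subsingleton (CohSite.HU F (q + 1) (∏ᶜ fun k => Y (a k)).left))
    (p : ℕ) : Nonempty (CohCx.cechH F.obj Y p ≃+ CohSite.HU F p U) := by
  obtain ⟨e⟩ := Groth.Agent.Lib.helper27.CechSite.leray J (Over.forget U) Y (fun i => (Y i).hom)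
    (fun T s s' => by
      show s.2.left ≫ (Y s.1).hom = s'.2.left ≫ (Y s'.1).hom
      rw [Over.w, Over.w])
    hY
    (fun i j Z gi gj hij => ⟨Over.mk (gi ≫ (Y i).hom), 𝟙 Z, Over.homMk gi rfl,
      Over.homMk gj hij.symm, by simp, by simp⟩)
    (fun I hI n => Groth.Agent.Lib.helper27.Cech.exactAt_over_of_injective U Y I n)
    F h p
  exact ⟨e.addCommGroupIsoToAddEquiv⟩

end Groth.Agent.S0941
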