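import Groth.Statements.S0947
import Groth.Agent.Lib.Helper27.SpecLimD
-- import your own Groth.Agent.* helpers here

set_option autoImplicit false
universe u
open CategoryTheory
open CohTop

namespace Groth.Agent.S0947

open TopologicalSpace Opposite CategoryTheory.Limits in
/-- Let X be a spectral space, F an abelian sheaf on X, E ⊆ X a quasi-compact subset and W the set of
points of X specializing to some point of E. Then for every p the group H^p(W, F|_W) (cohomology of
the pullback of F to the subspace W) is isomorphic to the colimit of the groups H^p(U, F) over the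
quasi-compact open neighbourhoods U of E (existence of an isomorphism). -/
theorem result {X : TopCat.{u}} [SpectralSpace X] (E : Set X)
    (hE : IsCompact E) (F : CohTop.Ab X) (p : ℕ) :
    Nonempty ((colimit (ObjectProperty.ι (fun U : (Opens X)ᵒᵖ => E ⊆ (U.unop : Set X) ∧ IsCompact (U.unop : Set X)) ⋙
        (Sheaf.cohomologyPresheafFunctor (Opens.grothendieckTopology X) p).obj F) : AddCommGrpCat.{u}) ≃+
      CohTop.H ((CohTop.pull (TopCat.ofHom ⟨Subtype.val, continuous_subtype_val⟩ :
        TopCat.of {x : X | ∃ e ∈ E, e ∈ closure {x}} ⟶ X)).obj F) p) := by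
  classical
  let P : ObjectProperty (Opens X)ᵒᵖ :=
    fun U : (Opens X)ᵒᵖ => E ⊆ (U.unop : Set X) ∧ IsCompact (U.unop : Set X)
  have : IsFiltered P.FullSubcategory := by
    refine Groth.Agent.Lib.helper27.SpecLim.isFiltered_fullSubcategory P
      ⟨op ⊤, Set.subset_univ _, isCompact_univ⟩ ?_
    rintro U V ⟨hEU, hU⟩ ⟨hEV, hV⟩
    exact ⟨Set.subset_inter hEU hEV,
      QuasiSeparatedSpace.inter_isCompact (U.unop : Set X) (V.unop : Set X) U.unop.2 hU V.unop.2 hV⟩
  obtain ⟨e⟩ := Groth.Agent.Lib.helper27.SpecLim.main (ObjectProperty.ι P)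
    (fun l => l.2.2) {x : X | ∃ e ∈ E, e ∈ closure {x}} (by
      intro x
      rw [Set.mem_ofPred_eq, Groth.Agent.Lib.helper27.SpecLim.mem_generalizations_iff E hE x]
      constructor
      · intro h l
        exact h l.obj.unop l.2.1 l.2.2
      · intro h U hEU hU
        exact h ⟨op U, hEU, hU⟩) F p
  exact ⟨e.addCommGroupIsoToAddEquiv⟩

end Groth.Agent.S0947
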