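import Groth.Statements.S0960
import Groth.Agent.Lib.Helper25.PullTensorCx
import Groth.Agent.Lib.Helper25.PullKFlatQis
import Groth.Agent.Lib.Helper25.LpullPerfect

set_option autoImplicit false
universe u
open CategoryTheory
attribute [local instance] HasDerivedCategory.standard
open DCoh

namespace Groth.Agent.S0960

open AlgebraicGeometry in
/-- Schemes; second factor given by a K-flat complex L, so that Lf^* L is the plain pullback f^* L: for
f : X -> Y, K in D(O_Y) and a K-flat complex L of O_Y-modules there is an isomorphism Lf^*(K ⊗^L L)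
≅ (Lf^* K) ⊗^L (f^* L). The derived functors are taken under their existence binders; the assertion
is the existence of an isomorphism for each K. -/
theorem result {X Y : Scheme.{u}} (f : X ⟶ Y) [DCoh.HasLpull f] (L : CochainComplex Y.Modules ℤ)
    (hL : DCoh.IsKFlat L) [DCoh.HasLTensorCx L] [DCoh.HasLTensorCx (((Scheme.Modules.pullback f).mapHomologicalComplex (ComplexShape.up ℤ)).obj L)] (K : DCoh.D Y) :
    Nonempty ((DCoh.Lpull f).obj ((DCoh.LTensorCx L).obj K) ≅
      (DCoh.LTensorCx (((Scheme.Modules.pullback f).mapHomologicalComplex (ComplexShape.up ℤ)).obj L)).obj ((DCoh.Lpull f).obj K)) := by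
  obtain ⟨P, hP, ⟨eP⟩⟩ := Groth.Agent.Lib.Helper25.LpullPerfect.exists_P₀_rep K
  -- the left hand side
  have h1 : IsIso ((Groth.Agent.Lib.Helper25.LTensorComp.ε L).app P) :=
    Groth.Agent.Lib.Helper25.LTensorComp.isIso_ε_app L P hP.1
  let e1 : (DCoh.LTensorCx L).obj (DerivedCategory.Q.obj P) ≅
      DerivedCategory.Q.obj ((DCoh.tensorCx.obj P).obj L) :=
    @asIso _ _ _ _ _ h1
  have hPL : DCoh.IsKFlat ((DCoh.tensorCx.obj P).obj L) :=
    Groth.Agent.Lib.Helper25.PullTensorCx.isKFlat_tensorCx P L hP.1 hL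
  obtain ⟨e2⟩ := Groth.Agent.Lib.Helper25.PullKFlatQis.nonempty_Lpull_iso_of_isKFlat f _ hPL
  let e3 := DerivedCategory.Q.mapIso (Groth.Agent.Lib.Helper25.PullTensorCx.pullTensorCxIso f P L)
  -- the right hand side
  obtain ⟨e4⟩ := Groth.Agent.Lib.Helper25.PullKFlatQis.nonempty_Lpull_iso_of_isKFlat f P hP.1
  have h5 : IsIso ((Groth.Agent.Lib.Helper25.LTensorComp.ε
      (((Scheme.Modules.pullback f).mapHomologicalComplex (ComplexShape.up ℤ)).obj L)).app
      (((Scheme.Modules.pullback f).mapHomologicalComplex (ComplexShape.up ℤ)).obj P)) :=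
    Groth.Agent.Lib.Helper25.LTensorComp.isIso_ε_app _ _
      (Groth.Agent.Lib.Helper25.PullKFlat.isKFlat_pullback f P hP.1)
  let e5 : (DCoh.LTensorCx (((Scheme.Modules.pullback f).mapHomologicalComplex
        (ComplexShape.up ℤ)).obj L)).obj (DerivedCategory.Q.obj
        (((Scheme.Modules.pullback f).mapHomologicalComplex (ComplexShape.up ℤ)).obj P)) ≅
      DerivedCategory.Q.obj ((DCoh.tensorCx.obj
        (((Scheme.Modules.pullback f).mapHomologicalComplex (ComplexShape.up ℤ)).obj P)).obj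
        (((Scheme.Modules.pullback f).mapHomologicalComplex (ComplexShape.up ℤ)).obj L)) :=
    @asIso _ _ _ _ _ h5
  exact ⟨(DCoh.Lpull f).mapIso ((DCoh.LTensorCx L).mapIso eP.symm ≪≫ e1) ≪≫ e2 ≪≫ e3 ≪≫ e5.symm ≪≫
    (DCoh.LTensorCx _).mapIso (e4.symm ≪≫ (DCoh.Lpull f).mapIso eP)⟩

end Groth.Agent.S0960
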