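import Groth.Statements.S0962
import Mathlib
import Groth.Agent.Lib.Helper13.RestrKFlat2
import Groth.Agent.Lib.Helper13.RestrKFlat3
import Groth.Agent.Lib.Helper25.LTensorComp
import Groth.Agent.Lib.Helper25.DCohPerfect
import Groth.Agent.Lib.Helper13.KFlat14
import Groth.Agent.Lib.Helper13.KFlat11
import Groth.Agent.Lib.Helper16.FLF3
-- import your own Groth.Agent.* helpers here

set_option autoImplicit false
universe u
open CategoryTheory
attribute [local instance] HasDerivedCategory.standard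
open DCoh

namespace Groth.Agent.S0962

open AlgebraicGeometry CategoryTheory.Limits in
lemma nonempty_iso_of_inverts {C D E : Type*} [Category C] [Category D] [Category E]
    (L : C ⥤ D) (W : MorphismProperty C) [L.IsLocalization W] (F : C ⥤ E)
    (hF : W.IsInvertedBy F) {A B : C} (e : L.obj A ≅ L.obj B) : Nonempty (F.obj A ≅ F.obj B) :=
  ⟨(Localization.fac F hF L).symm.app A ≪≫ (Localization.lift F hF L).mapIso e ≪≫
    (Localization.fac F hF L).app B⟩

open AlgebraicGeometry CategoryTheory.Limits in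
lemma isKFlat_of_isStrictlyPerfect {Y : Scheme.{u}} {E : CochainComplex Y.Modules ℤ}
    (hE : DCoh.IsStrictlyPerfect E) : DCoh.IsKFlat E := by
  obtain ⟨⟨a, b, hab⟩, hf⟩ := hE
  exact Groth.Agent.Lib.helper13.KFlat.dcoh_isKFlat_of_bounded_above E b
    (fun q hq => hab q (Or.inr hq))
    (fun n => Groth.Agent.Lib.helper16.FLF.isFlat_of_isFinLocFree _ (hf n))

open AlgebraicGeometry CategoryTheory.Limits in
/-- `A' ⊗ -` followed by `Q` inverts quasi-isomorphisms for K-flat `A'` -/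
lemma isInvertedBy_tensorLeft {Y : Scheme.{u}} (A : CochainComplex Y.Modules ℤ)
    (hA : DCoh.IsKFlat A) :
    (HomologicalComplex.quasiIso Y.Modules (ComplexShape.up ℤ)).IsInvertedBy
      ((DCoh.tensorCx (X := Y)).obj A ⋙ DerivedCategory.Q) := by
  intro P P' f hf
  haveI : QuasiIso f := hf
  change IsIso (DerivedCategory.Q.map
    (HomologicalComplex.mapBifunctorMap (𝟙 A) f (DCoh.tensorBi (X := Y)) (ComplexShape.up ℤ)))
  rw [DerivedCategory.isIso_Q_map_iff_quasiIso]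
  exact Groth.Agent.Lib.helper13.KFlat.quasiIso_mapBifunctorMap_right (DCoh.tensorBi (X := Y)) A
    (fun K hK => Groth.Agent.Lib.helper13.KFlat.dcoh_isKFlat_symm A hA K hK) f


open AlgebraicGeometry in
/-- Schemes; second factor given by a K-flat complex representing a perfect object: if K in D(O_X) is
perfect and L is a K-flat complex with perfect image in D(O_X), then K ⊗^L L is perfect (derived
tensor under its existence binder). -/
theorem result {X : Scheme.{u}} (L : CochainComplex X.Modules ℤ) (hL : DCoh.IsKFlat L)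
    (hLp : DCoh.IsPerfect (DerivedCategory.Q.obj L)) [DCoh.HasLTensorCx L] (K : DCoh.D X) (hK : DCoh.IsPerfect K) :
    DCoh.IsPerfect ((DCoh.LTensorCx L).obj K) := by
  intro x
  obtain ⟨V₁, hx₁, E₁, hE₁, e₁⟩ :=
    Groth.Agent.Lib.helper25.DCohPerfect.exists_restrictD_iso_of_isPerfect hK x
  obtain ⟨V₂, hx₂, E₂, hE₂, e₂⟩ :=
    Groth.Agent.Lib.helper25.DCohPerfect.exists_restrictD_iso_of_isPerfect hLp x
  have hle₁ : V₁ ⊓ V₂ ≤ V₁ := inf_le_left
  have hle₂ : V₁ ⊓ V₂ ≤ V₂ := inf_le_right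
  obtain ⟨bK⟩ := Groth.Agent.Lib.helper25.DCohPerfect.nonempty_restrictD_iso_of_le hle₁ e₁
  obtain ⟨bL⟩ := Groth.Agent.Lib.helper25.DCohPerfect.nonempty_restrictD_iso_of_le hle₂ e₂
  obtain ⟨K₀, ⟨a₀⟩⟩ := Groth.Agent.Lib.helper25.DCohRestrict.exists_rep K
  have hx : x ∈ (V₁ ⊓ V₂).ι.opensRange := by
    simpa using (⟨hx₁, hx₂⟩ : x ∈ V₁ ⊓ V₂)
  -- notation
  let j := (V₁ ⊓ V₂).ι
  let E₁' := (Groth.Agent.Lib.helper25.DCohRestrict.resCx (X.homOfLE hle₁)).obj E₁
  let E₂' := (Groth.Agent.Lib.helper25.DCohRestrict.resCx (X.homOfLE hle₂)).obj E₂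
  have hE₁' : DCoh.IsStrictlyPerfect E₁' :=
    Groth.Agent.Lib.helper25.DCohRestrict.isStrictlyPerfect_res _ hE₁
  have hE₂' : DCoh.IsStrictlyPerfect E₂' :=
    Groth.Agent.Lib.helper25.DCohRestrict.isStrictlyPerfect_res _ hE₂
  let K₀' := (Groth.Agent.Lib.helper25.DCohRestrict.resCx j).obj K₀
  let L' := (Groth.Agent.Lib.helper25.DCohRestrict.resCx j).obj L
  have hL' : DCoh.IsKFlat L' :=
    Groth.Agent.Lib.helper13.RestrKFlat.dcoh_isKFlat_restrict (V₁ ⊓ V₂) L hL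
  -- `Q K₀' ≅ Q E₁'` and `Q L' ≅ Q E₂'`
  let cK : DerivedCategory.Q.obj K₀' ≅ DerivedCategory.Q.obj E₁' :=
    (Groth.Agent.Lib.helper25.DCohRestrict.resDQIso j K₀).symm ≪≫
      (DCoh.restrictD j).mapIso a₀ ≪≫ bK
  let cL : DerivedCategory.Q.obj L' ≅ DerivedCategory.Q.obj E₂' :=
    (Groth.Agent.Lib.helper25.DCohRestrict.resDQIso j L).symm ≪≫ bL
  haveI := Groth.Agent.Lib.Helper25.LTensorComp.isIso_ε_of_isKFlat L hL
  let i1 : (DCoh.restrictD j).obj ((DCoh.LTensorCx L).obj K) ≅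
      (DCoh.restrictD j).obj ((DCoh.LTensorCx L).obj (DerivedCategory.Q.obj K₀)) :=
    (DCoh.restrictD j).mapIso ((DCoh.LTensorCx L).mapIso a₀.symm)
  let i2 : (DCoh.restrictD j).obj ((DCoh.LTensorCx L).obj (DerivedCategory.Q.obj K₀)) ≅
      (DCoh.restrictD j).obj (DerivedCategory.Q.obj (((DCoh.tensorCx (X := X)).obj K₀).obj L)) :=
    (DCoh.restrictD j).mapIso (asIso ((Groth.Agent.Lib.Helper25.LTensorComp.ε L).app K₀))
  let i3 := Groth.Agent.Lib.helper25.DCohRestrict.resDQIso j (((DCoh.tensorCx (X := X)).obj K₀).obj L)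
  let i4 := DerivedCategory.Q.mapIso (Groth.Agent.Lib.helper13.RestrKFlat.resTensorCxIso j K₀ L)
  obtain ⟨i5⟩ := nonempty_iso_of_inverts DerivedCategory.Q
    (HomologicalComplex.quasiIso _ (ComplexShape.up ℤ)) (DCoh.tensorCxQ L')
    (Groth.Agent.Lib.Helper25.SiteLTensor.isInvertedBy_tensorCxQ _ L' hL') cK
  obtain ⟨i6⟩ := nonempty_iso_of_inverts DerivedCategory.Q
    (HomologicalComplex.quasiIso _ (ComplexShape.up ℤ))
    ((DCoh.tensorCx (X := ((V₁ ⊓ V₂ : X.Opens) : Scheme.{u}))).obj E₁' ⋙ DerivedCategory.Q)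
    (isInvertedBy_tensorLeft E₁' (isKFlat_of_isStrictlyPerfect hE₁')) cL
  exact Groth.Agent.Lib.helper25.DCohPerfect.isPerfect_at_of_restrictD_iso _ x j hx
    (((DCoh.tensorCx (X := ((V₁ ⊓ V₂ : X.Opens) : Scheme.{u}))).obj E₁').obj E₂')
    (Groth.Agent.Lib.helper13.RestrKFlat.isStrictlyPerfect_tensor hE₁' hE₂')
    ⟨i1 ≪≫ i2 ≪≫ i3 ≪≫ i4 ≪≫ i5 ≪≫ i6⟩

end Groth.Agent.S0962
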