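import Groth.Statements.S0973
import Mathlib
-- import your own Groth.Agent.* helpers here

set_option autoImplicit false
universe w v u
open CategoryTheory CategoryTheory.Limits
open CohDer

namespace Groth.Agent.S0973

section helpers

open CategoryTheory Limits Pretriangulated DerivedCategory

variable {A : Type u} [Category.{v} A] [Abelian A] [HasDerivedCategory.{w} A]




lemma isIso_homology_mor₁0973 (T : Triangle (DerivedCategory A)) (hT : T ∈ distTriang _) (n₀ n₁ : ℤ)
    (h : n₀ + 1 = n₁) (h₀ : IsZero ((homologyFunctor A n₀).obj T.obj₃))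
    (h₁ : IsZero ((homologyFunctor A n₁).obj T.obj₃)) :
    IsIso ((homologyFunctor A n₁).map T.mor₁) := by
  have hm : Mono ((homologyFunctor A n₁).map T.mor₁) :=
    (HomologySequence.mono_homologyMap_mor₁_iff T hT n₀ n₁ h).2 (h₀.eq_of_src _ _)
  have he : Epi ((homologyFunctor A n₁).map T.mor₁) :=
    (HomologySequence.epi_homologyMap_mor₁_iff T hT n₁).2 (h₁.eq_of_tgt _ _)
  exact isIso_of_mono_of_epi _

lemma isIso_homology_mor₂0973 (T : Triangle (DerivedCategory A)) (hT : T ∈ distTriang _) (n₀ n₁ : ℤ)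
    (h : n₀ + 1 = n₁) (h₀ : IsZero ((homologyFunctor A n₀).obj T.obj₁))
    (h₁ : IsZero ((homologyFunctor A n₁).obj T.obj₁)) :
    IsIso ((homologyFunctor A n₀).map T.mor₂) := by
  have hm : Mono ((homologyFunctor A n₀).map T.mor₂) :=
    (HomologySequence.mono_homologyMap_mor₂_iff T hT n₀).2 (h₀.eq_of_src _ _)
  have he : Epi ((homologyFunctor A n₀).map T.mor₂) :=
    (HomologySequence.epi_homologyMap_mor₂_iff T hT n₀ n₁ h).2 (h₁.eq_of_tgt _ _)
  exact isIso_of_mono_of_epi _

lemma iso_single_homology0973 (X : DerivedCategory A) (n : ℤ) [X.IsGE n] [X.IsLE n] :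
    Nonempty (X ≅ (singleFunctor A n).obj ((homologyFunctor A n).obj X)) := by
  obtain ⟨Y, ⟨e⟩⟩ := exists_iso_singleFunctor_obj_of_isGE_of_isLE X n
  have e' : (homologyFunctor A n).obj X ≅ Y :=
    (homologyFunctor A n).mapIso e ≪≫ (singleFunctorCompHomologyFunctorIso A n).app Y
  exact ⟨e ≪≫ (singleFunctor A n).mapIso e'.symm⟩






lemma hom_single_shift_eq_zero0973 (X Y : A) (i j q p : ℤ) (hp : q + i = j + p)
    (h : ∀ f : (singleFunctor A 0).obj X ⟶ ((singleFunctor A 0).obj Y)⟦p⟧, f = 0)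
    (g : (singleFunctor A i).obj X ⟶ ((singleFunctor A j).obj Y)⟦q⟧) : g = 0 := by
  let eX : ((singleFunctor A i).obj X)⟦i⟧ ≅ (singleFunctor A 0).obj X :=
    ((singleFunctors A).shiftIso i 0 i (add_zero i)).app X
  let eY : ((singleFunctor A j).obj Y)⟦j⟧ ≅ (singleFunctor A 0).obj Y :=
    ((singleFunctors A).shiftIso j 0 j (add_zero j)).app Y
  let β : (((singleFunctor A j).obj Y)⟦q⟧)⟦i⟧ ≅ ((singleFunctor A 0).obj Y)⟦p⟧ :=
    ((shiftFunctorAdd' (DerivedCategory A) q i (j + p) hp).symm.app _) ≪≫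
      ((shiftFunctorAdd' (DerivedCategory A) j p (j + p) rfl).app _) ≪≫
      (shiftFunctor (DerivedCategory A) p).mapIso eY
  have h0 := h (eX.inv ≫ g⟦i⟧' ≫ β.hom)
  have h1 : g⟦i⟧' = 0 := by
    rw [← cancel_epi eX.inv, ← cancel_mono β.hom, Category.assoc, h0, comp_zero, zero_comp]
  exact (shiftFunctor (DerivedCategory A) i).map_injective (by rw [h1, Functor.map_zero])






lemma exists_trunc_triangle0973 (T : DerivedCategory A) (m : ℤ) :
    ∃ (T₁ T₃ : DerivedCategory A) (ι : T₁ ⟶ T) (π : T ⟶ T₃) (δ : T₃ ⟶ T₁⟦(1 : ℤ)⟧),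
      Triangle.mk ι π δ ∈ distTriang _ ∧ T₁.IsLE m ∧ T₃.IsGE (m + 1) ∧
      (∀ c : ℤ, T.IsGE c → T₁.IsGE c) ∧ (∀ c : ℤ, T.IsLE c → T₃.IsLE c) := by
  refine ⟨(TStructure.t.truncLE m).obj T, (TStructure.t.truncGE (m + 1)).obj T,
    (TStructure.t.truncLEι m).app T, (TStructure.t.truncGEπ (m + 1)).app T,
    (TStructure.t.truncGEδLE m (m + 1) rfl).app T,
    TStructure.t.triangleLEGE_distinguished m (m + 1) rfl T, inferInstance, inferInstance, ?_, ?_⟩
  · intro c hc
    infer_instance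
  · intro c hc
    infer_instance





section
variable {D : Type u} [Category.{v} D] [Preadditive D] [HasZeroObject D] [HasShift D ℤ]
    [∀ n : ℤ, (shiftFunctor D n).Additive] [Pretriangulated D]

lemma exact₂_signed0973 {X Y Z : D} (a : X ⟶ Y) (b : Y ⟶ Z) (c : Z ⟶ X⟦(1 : ℤ)⟧) (ε : ℤˣ)
    (hT : Triangle.mk (ε • a) (ε • b) c ∈ distTriang D) {W : D} (u : W ⟶ Y) (hu : u ≫ b = 0) :
    ∃ v : W ⟶ X, u = v ≫ a := by
  obtain ⟨v, hv⟩ : ∃ v : W ⟶ X, u = v ≫ (ε • a) :=
    Triangle.coyoneda_exact₂ _ hT u (by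
      change u ≫ (ε • b) = 0
      rw [Linear.comp_units_smul, hu, smul_zero])
  exact ⟨ε • v, by rw [hv, Linear.comp_units_smul, Linear.units_smul_comp]⟩

lemma exact₂_shift0973 {X Y Z : D} (a : X ⟶ Y) (b : Y ⟶ Z) (c : Z ⟶ X⟦(1 : ℤ)⟧)
    (hT : Triangle.mk a b c ∈ distTriang D) (n : ℤ) {W : D} (u : W ⟶ Y⟦n⟧) (hu : u ≫ b⟦n⟧' = 0) :
    ∃ v : W ⟶ X⟦n⟧, u = v ≫ a⟦n⟧' :=
  exact₂_signed0973 (a⟦n⟧') (b⟦n⟧') _ _ (Triangle.shift_distinguished _ hT n) u hu

end


lemma hom_shift_eq_zero_of_bounded0973 (Z : DerivedCategory A) :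
    ∀ (n : ℕ) (T : DerivedCategory A) (a' : ℤ), T.IsGE a' → T.IsLE (a' + n - 1) →
      (∀ (j : ℤ) (g : Z ⟶ ((singleFunctor A j).obj ((homologyFunctor A j).obj T))⟦(1 : ℤ)⟧), g = 0) →
      ∀ f : Z ⟶ T⟦(1 : ℤ)⟧, f = 0 := by
  intro n
  induction n with
  | zero =>
    intro T a' h₁ h₂ _ f
    have hT : IsZero T := TStructure.t.isZero T (a' + (0 : ℕ) - 1) a' (by simp)
    exact ((shiftFunctor (DerivedCategory A) (1 : ℤ)).map_isZero hT).eq_of_tgt _ _
  | succ n ih =>
    intro T a' h₁ h₂ hyp f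
    obtain ⟨T₁, T₃, ι, π, δ, hdist, hT₁LE, hT₃GE, hGE, hLE⟩ := exists_trunc_triangle0973 T a'
    have hT₁GE : T₁.IsGE a' := hGE a' h₁
    have hT₃LE : T₃.IsLE (a' + 1 + n - 1) := by
      have := hLE _ h₂
      have e : a' + ((n + 1 : ℕ) : ℤ) - 1 = a' + 1 + n - 1 := by push_cast; ring
      rwa [e] at this
    -- vanishing into T₃
    have h3 : f ≫ π⟦(1 : ℤ)⟧' = 0 := by
      apply ih T₃ (a' + 1) hT₃GE hT₃LE
      intro j g
      by_cases hj : j ≤ a'
      · have hz : IsZero ((homologyFunctor A j).obj T₃) := isZero_of_isGE T₃ (a' + 1) j (by lia)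
        exact ((shiftFunctor (DerivedCategory A) (1 : ℤ)).map_isZero
          ((singleFunctor A j).map_isZero hz)).eq_of_tgt _ _
      · have hiso : IsIso ((homologyFunctor A j).map π) :=
          isIso_homology_mor₂0973 _ hdist j (j + 1) rfl
            (isZero_of_isLE T₁ a' j (by lia)) (isZero_of_isLE T₁ a' (j + 1) (by lia))
        let e := asIso ((homologyFunctor A j).map π)
        have h0 := hyp j (g ≫ ((singleFunctor A j).map e.inv)⟦(1 : ℤ)⟧')
        have : g = (g ≫ ((singleFunctor A j).map e.inv)⟦(1 : ℤ)⟧') ≫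
            ((singleFunctor A j).map e.hom)⟦(1 : ℤ)⟧' := by
          rw [Category.assoc, ← Functor.map_comp, ← Functor.map_comp, e.inv_hom_id,
            CategoryTheory.Functor.map_id, CategoryTheory.Functor.map_id, Category.comp_id]
        rw [this, h0, zero_comp]
    obtain ⟨g, hg⟩ := exact₂_shift0973 ι π δ hdist 1 f h3
    have hiso : IsIso ((homologyFunctor A a').map ι) :=
      isIso_homology_mor₁0973 _ hdist (a' - 1) a' (by lia)
        (isZero_of_isGE T₃ (a' + 1) (a' - 1) (by lia)) (isZero_of_isGE T₃ (a' + 1) a' (by lia))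
    obtain ⟨φ₀⟩ := iso_single_homology0973 T₁ a'
    let φ : T₁ ≅ (singleFunctor A a').obj ((homologyFunctor A a').obj T) :=
      φ₀ ≪≫ (singleFunctor A a').mapIso (asIso ((homologyFunctor A a').map ι))
    have h0 := hyp a' (g ≫ φ.hom⟦(1 : ℤ)⟧')
    have hg0 : g = 0 := by
      have : g = (g ≫ φ.hom⟦(1 : ℤ)⟧') ≫ φ.inv⟦(1 : ℤ)⟧' := by
        rw [Category.assoc, ← Functor.map_comp, φ.hom_inv_id, CategoryTheory.Functor.map_id, Category.comp_id]
      rw [this, h0, zero_comp]
    rw [hg, hg0, zero_comp]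

lemma exists_section0973 (K : DerivedCategory A) (a : ℤ) [K.IsGE a]
    (hExt' : ∀ i j : ℤ, j < i → ∀ g : (singleFunctor A i).obj ((homologyFunctor A i).obj K) ⟶
      ((singleFunctor A j).obj ((homologyFunctor A j).obj K))⟦(1 : ℤ)⟧, g = 0) (i : ℤ) :
    ∃ s : (singleFunctor A i).obj ((homologyFunctor A i).obj K) ⟶ K,
      IsIso ((homologyFunctor A i).map s) := by
  obtain ⟨L, K₃, ιL, πL, δL, hdistL, hLLE, hK₃GE, hGEL, _⟩ := exists_trunc_triangle0973 K i
  have hLGE : L.IsGE a := hGEL a inferInstance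
  have hιL : ∀ j : ℤ, j ≤ i → IsIso ((homologyFunctor A j).map ιL) := fun j hj =>
    isIso_homology_mor₁0973 _ hdistL (j - 1) j (by lia)
      (isZero_of_isGE K₃ (i + 1) (j - 1) (by lia)) (isZero_of_isGE K₃ (i + 1) j (by lia))
  obtain ⟨T₁, T₃, ι', π', δ', hdist, hT₁LE, hT₃GE', hGE, hLE⟩ := exists_trunc_triangle0973 L (i - 1)
  have hT₃GE : T₃.IsGE i := by
    have e : i - 1 + 1 = i := by ring
    rwa [e] at hT₃GE'
  have hT₁GE : T₁.IsGE a := hGE a hLGE
  have hT₃LE : T₃.IsLE i := hLE i hLLE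
  have hπ' : IsIso ((homologyFunctor A i).map π') :=
    isIso_homology_mor₂0973 _ hdist i (i + 1) rfl
      (isZero_of_isLE T₁ (i - 1) i (by lia)) (isZero_of_isLE T₁ (i - 1) (i + 1) (by lia))
  have hι' : ∀ j : ℤ, j < i → IsIso ((homologyFunctor A j).map ι') := fun j hj =>
    isIso_homology_mor₁0973 _ hdist (j - 1) j (by lia)
      (isZero_of_isGE T₃ i (j - 1) (by lia)) (isZero_of_isGE T₃ i j (by lia))
  obtain ⟨ψ₀⟩ := iso_single_homology0973 T₃ i
  have := hιL i le_rfl
  let ψ : (singleFunctor A i).obj ((homologyFunctor A i).obj K) ≅ T₃ :=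
    (singleFunctor A i).mapIso ((asIso ((homologyFunctor A i).map ιL)).symm ≪≫
      asIso ((homologyFunctor A i).map π')) ≪≫ ψ₀.symm
  -- δ' = 0
  have hδ : δ' = 0 := by
    have hT₁LE' : T₁.IsLE (a + ((i - a).toNat : ℤ) - 1) :=
      TStructure.t.isLE_of_le T₁ (i - 1) _ (by
        have := Int.self_le_toNat (i - a)
        lia)
    apply hom_shift_eq_zero_of_bounded0973 T₃ (i - a).toNat T₁ a hT₁GE hT₁LE'
    intro j g
    by_cases hj : j < i
    · have h1 := hι' j hj
      have h2 := hιL j hj.le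
      let θ : (homologyFunctor A j).obj T₁ ≅ (homologyFunctor A j).obj K :=
        asIso ((homologyFunctor A j).map ι') ≪≫ asIso ((homologyFunctor A j).map ιL)
      have h0 := hExt' i j hj (ψ.hom ≫ g ≫ ((singleFunctor A j).map θ.hom)⟦(1 : ℤ)⟧')
      have : g = ψ.inv ≫ (ψ.hom ≫ g ≫ ((singleFunctor A j).map θ.hom)⟦(1 : ℤ)⟧') ≫
          ((singleFunctor A j).map θ.inv)⟦(1 : ℤ)⟧' := by
        simp only [Category.assoc, Iso.inv_hom_id_assoc]
        rw [← Functor.map_comp, ← Functor.map_comp, θ.hom_inv_id, CategoryTheory.Functor.map_id,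
          CategoryTheory.Functor.map_id, Category.comp_id]
      rw [this, h0, zero_comp, comp_zero]
    · have hz : IsZero ((homologyFunctor A j).obj T₁) := isZero_of_isLE T₁ (i - 1) j (by lia)
      exact ((shiftFunctor (DerivedCategory A) (1 : ℤ)).map_isZero
        ((singleFunctor A j).map_isZero hz)).eq_of_tgt _ _
  obtain ⟨σ, hσ⟩ : ∃ σ : T₃ ⟶ L, 𝟙 T₃ = σ ≫ π' :=
    Triangle.coyoneda_exact₃ _ hdist (𝟙 T₃) (by
      change 𝟙 T₃ ≫ δ' = 0
      rw [hδ, comp_zero])
  have hσiso : IsIso ((homologyFunctor A i).map σ) := by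
    have h1 : (homologyFunctor A i).map σ ≫ (homologyFunctor A i).map π' = 𝟙 _ := by
      rw [← Functor.map_comp, ← hσ, CategoryTheory.Functor.map_id]
    have : (homologyFunctor A i).map σ = inv ((homologyFunctor A i).map π') := by
      rw [← cancel_mono ((homologyFunctor A i).map π'), h1, IsIso.inv_hom_id]
    rw [this]
    infer_instance
  refine ⟨ψ.hom ≫ σ ≫ ιL, ?_⟩
  rw [Functor.map_comp, Functor.map_comp]
  infer_instance

lemma isZero_homology_single0973 (Y : A) (i n : ℤ) (h : i ≠ n) :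
    IsZero ((homologyFunctor A n).obj ((singleFunctor A i).obj Y)) := by
  rcases lt_or_gt_of_ne h with h | h
  · exact isZero_of_isLE _ i n h
  · exact isZero_of_isGE _ i n h

theorem main0973 (K : DerivedCategory A) (a b : ℤ) [K.IsGE a] [K.IsLE b]
    (hExt : ∀ (i j : ℤ) (p : ℕ), j < i → 2 ≤ p →
      ∀ f : (DerivedCategory.singleFunctor A 0).obj ((DerivedCategory.homologyFunctor A i).obj K) ⟶
        ((DerivedCategory.singleFunctor A 0).obj ((DerivedCategory.homologyFunctor A j).obj K))⟦(p : ℤ)⟧, f = 0)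
    [HasBiproduct (fun i : Finset.Icc a b => (DerivedCategory.singleFunctor A (i : ℤ)).obj ((DerivedCategory.homologyFunctor A (i : ℤ)).obj K))] :
    Nonempty (K ≅ ⨁ (fun i : Finset.Icc a b => (DerivedCategory.singleFunctor A (i : ℤ)).obj ((DerivedCategory.homologyFunctor A (i : ℤ)).obj K))) := by
  have hExt' : ∀ i j : ℤ, j < i → ∀ g : (singleFunctor A i).obj ((homologyFunctor A i).obj K) ⟶
      ((singleFunctor A j).obj ((homologyFunctor A j).obj K))⟦(1 : ℤ)⟧, g = 0 := by
    intro i j hji g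
    have hp : (1 : ℤ) + i = j + (((1 + i - j).toNat : ℕ) : ℤ) := by
      rw [Int.toNat_of_nonneg (by lia)]; ring
    exact hom_single_shift_eq_zero0973 _ _ i j 1 _ hp
      (hExt i j (1 + i - j).toNat hji (by
        have : (2 : ℤ) ≤ ((1 + i - j).toNat : ℤ) := by
          rw [Int.toNat_of_nonneg (by lia)]; lia
        exact_mod_cast this)) g
  choose s hs using exists_section0973 K a hExt'
  let X : Finset.Icc a b → DerivedCategory A :=
    fun i => (singleFunctor A (i : ℤ)).obj ((homologyFunctor A (i : ℤ)).obj K)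
  let φ : ⨁ X ⟶ K := biproduct.desc (fun i => s (i : ℤ))
  have htotal : ∀ n : ℤ, 𝟙 ((homologyFunctor A n).obj (⨁ X)) =
      ∑ i : Finset.Icc a b, (homologyFunctor A n).map (biproduct.π X i) ≫
        (homologyFunctor A n).map (biproduct.ι X i) := by
    intro n
    rw [← CategoryTheory.Functor.map_id, ← biproduct.total, Functor.map_sum]
    simp only [Functor.map_comp]
  have hφ : IsIso φ := by
    rw [isIso_iff]
    intro n
    by_cases hn : n ∈ Finset.Icc a b
    · let i₀ : Finset.Icc a b := ⟨n, hn⟩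
      have h1 : (homologyFunctor A n).map (biproduct.π X i₀) ≫
          (homologyFunctor A n).map (biproduct.ι X i₀) = 𝟙 _ := by
        rw [htotal n]
        symm
        apply Finset.sum_eq_single i₀
        · intro i _ hi
          have hz : IsZero ((homologyFunctor A n).obj (X i)) :=
            isZero_homology_single0973 _ _ _ (fun h => hi (Subtype.ext h))
          rw [hz.eq_of_tgt ((homologyFunctor A n).map (biproduct.π X i)) 0, zero_comp]
        · intro h
          exact absurd (Finset.mem_univ _) h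
      have h2 : (homologyFunctor A n).map (biproduct.ι X i₀) ≫
          (homologyFunctor A n).map (biproduct.π X i₀) = 𝟙 _ := by
        rw [← Functor.map_comp, biproduct.ι_π_self, CategoryTheory.Functor.map_id]
      have hι : IsIso ((homologyFunctor A n).map (biproduct.ι X i₀)) :=
        ⟨⟨_, h2, h1⟩⟩
      have h3 : (homologyFunctor A n).map (biproduct.ι X i₀) ≫ (homologyFunctor A n).map φ =
          (homologyFunctor A n).map (s n) := by
        rw [← Functor.map_comp, biproduct.ι_desc]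
      have : IsIso ((homologyFunctor A n).map (biproduct.ι X i₀) ≫ (homologyFunctor A n).map φ) := by
        rw [h3]; exact hs n
      exact IsIso.of_isIso_comp_left ((homologyFunctor A n).map (biproduct.ι X i₀)) _
    · have hz1 : IsZero ((homologyFunctor A n).obj (⨁ X)) := by
        rw [IsZero.iff_id_eq_zero, htotal n]
        apply Finset.sum_eq_zero
        intro i _
        have hz : IsZero ((homologyFunctor A n).obj (X i)) :=
          isZero_homology_single0973 _ _ _ (fun h => hn (h ▸ i.2))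
        rw [hz.eq_of_tgt ((homologyFunctor A n).map (biproduct.π X i)) 0, zero_comp]
      have hz2 : IsZero ((homologyFunctor A n).obj K) := by
        rw [Finset.mem_Icc, not_and_or, not_le, not_le] at hn
        rcases hn with hn | hn
        · exact isZero_of_isGE K a n hn
        · exact isZero_of_isLE K b n hn
      exact ⟨⟨0, hz1.eq_of_src _ _, hz2.eq_of_src _ _⟩⟩
  exact ⟨(asIso φ).symm⟩


end helpers

/-- Let K be an object of the derived category of an abelian category with cohomology concentrated in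
degrees a, …, b. Suppose that for all i > j and p ≥ 2 every morphism H^i(K) ⟶ H^j(K)[p] in the
derived category (an element of Ext^p) vanishes. Then K splits: it is isomorphic to ⨁_{a ≤ i ≤ b}
Hⁱ(K)[-i]. -/
theorem result {A : Type u} [Category.{v} A] [Abelian A] [HasDerivedCategory.{w} A]
    (K : DerivedCategory A) (a b : ℤ) [K.IsGE a] [K.IsLE b]
    (hExt : ∀ (i j : ℤ) (p : ℕ), j < i → 2 ≤ p →
      ∀ f : (DerivedCategory.singleFunctor A 0).obj ((DerivedCategory.homologyFunctor A i).obj K) ⟶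
        ((DerivedCategory.singleFunctor A 0).obj ((DerivedCategory.homologyFunctor A j).obj K))⟦(p : ℤ)⟧, f = 0)
    [HasBiproduct (fun i : Finset.Icc a b => (DerivedCategory.singleFunctor A (i : ℤ)).obj ((DerivedCategory.homologyFunctor A (i : ℤ)).obj K))] :
    Nonempty (K ≅ ⨁ (fun i : Finset.Icc a b => (DerivedCategory.singleFunctor A (i : ℤ)).obj ((DerivedCategory.homologyFunctor A (i : ℤ)).obj K))) := by
  exact main0973 K a b hExt

end Groth.Agent.S0973
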