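import Groth.Statements.S0982
import Groth.Agent.Lib.Helper27.DerivedTrunc
-- import your own Groth.Agent.* helpers here

set_option autoImplicit false
universe w v u
open CategoryTheory CategoryTheory.Limits
open CohDer

namespace Groth.Agent.S0982

section helpers

open DerivedCategory Groth.Agent.Lib.helper27

variable {A : Type u} [Category.{v} A] [Abelian A] [HasDerivedCategory.{w} A]

theorem main0982 (K : ℕ ⥤ CochainComplex A ℤ)
    (h0 : ∀ i : ℤ, 0 < i → IsZero ((K.obj 0).homology i)) :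
    ∀ (n : ℕ) (_ : ∀ j : ℕ, j < n → HomologicalComplex.homologyMap (K.map (homOfLE (Nat.le_succ j))) (-(j : ℤ)) = 0),
    ∃ φ : DerivedCategory.Q.obj (K.obj 0) ⟶ DerivedCategory.Q.obj ((K.obj n).truncLE (-(n : ℤ))),
      φ ≫ DerivedCategory.Q.map ((K.obj n).ιTruncLE (-(n : ℤ))) = DerivedCategory.Q.map (K.map (homOfLE (Nat.zero_le n))) := by
  intro n
  induction n with
  | zero =>
    intro _
    have : (Q.obj (K.obj 0)).IsLE (-((0 : ℕ) : ℤ)) := by
      rw [isLE_Q_obj_iff, CochainComplex.isLE_iff]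
      intro i hi
      rw [HomologicalComplex.exactAt_iff_isZero_homology]
      exact h0 i (by simpa using hi)
    obtain ⟨φ, hφ⟩ := factors_truncLE (Q.obj (K.obj 0)) (-((0 : ℕ) : ℤ)) (K.obj 0) (𝟙 _)
    refine ⟨φ, ?_⟩
    rw [hφ]
    have : homOfLE (Nat.zero_le 0) = 𝟙 (0 : ℕ) := Subsingleton.elim _ _
    rw [this, K.map_id, Q.map_id]
  | succ n ih =>
    intro hz
    obtain ⟨φ, hφ⟩ := ih (fun j hj => hz j (by omega))
    have hY : (Q.obj ((K.obj n).truncLE (-(n : ℤ)))).IsLE (-(n : ℤ)) := inferInstance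
    have hψ : (homologyFunctor A (-(n : ℤ))).map
        (Q.map ((K.obj n).ιTruncLE (-(n : ℤ)) ≫ K.map (homOfLE (Nat.le_succ n)))) = 0 :=
      homologyFunctor_map_Q_eq_zero _ _
        (by rw [HomologicalComplex.homologyMap_comp, hz n (by omega), comp_zero])
    obtain ⟨w, hw⟩ := factors_truncLE_of_ghost _ (-(n : ℤ)) (-((n + 1 : ℕ) : ℤ)) (by push_cast; ring)
      (K.obj (n + 1)) _ hψ
    refine ⟨φ ≫ w, ?_⟩
    rw [Category.assoc, hw, Functor.map_comp, ← Category.assoc, hφ, ← Functor.map_comp, ← K.map_comp]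
    rfl

end helpers

/-- Let K : ℕ ⥤ CochainComplex A ℤ be a sequence of cochain maps K₀ → K₁ → K₂ → … in an abelian category
with Hⁱ(K₀) = 0 for i > 0 and such that for every j < n the map H⁻ʲ(Kⱼ) → H⁻ʲ(Kⱼ₊₁) is zero. Then in
the derived category the composite K₀ → Kₙ factors through the canonical truncation τ_{≤ -n}Kₙ → Kₙ. -/
theorem result {A : Type u} [Category.{v} A] [Abelian A] [HasDerivedCategory.{w} A]
    (K : ℕ ⥤ CochainComplex A ℤ) (n : ℕ)
    (h0 : ∀ i : ℤ, 0 < i → IsZero ((K.obj 0).homology i))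
    (hz : ∀ j : ℕ, j < n → HomologicalComplex.homologyMap (K.map (homOfLE (Nat.le_succ j))) (-(j : ℤ)) = 0) :
    ∃ φ : DerivedCategory.Q.obj (K.obj 0) ⟶ DerivedCategory.Q.obj ((K.obj n).truncLE (-(n : ℤ))),
      φ ≫ DerivedCategory.Q.map ((K.obj n).ιTruncLE (-(n : ℤ))) = DerivedCategory.Q.map (K.map (homOfLE (Nat.zero_le n))) := by
  exact main0982 K h0 n hz

end Groth.Agent.S0982
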