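import Groth.Statements.S0983
import Mathlib
-- import your own Groth.Agent.* helpers here

set_option autoImplicit false
universe v u
open CategoryTheory
open CohDer

namespace Groth.Agent.S0983

open Pretriangulated Triangulated


open CategoryTheory.Pretriangulated in
/-- In a triangulated category, a commutative square f ≫ v = u ≫ f' (with f : X ⟶ Y, f' : X' ⟶ Y', u : X
⟶ X', v : Y ⟶ Y') extends to a diagram with three distinguished rows (X, Y, Z), (X', Y', Z'), (X'',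
Y'', Z'') and three distinguished columns (X, X', X''), (Y, Y', Y''), (Z, Z', Z''), in which all
squares commute except the one formed by the third morphisms of the last row and last column, which
anticommutes; the fourth row and column are the shifts of the first ones. -/
theorem result {D : Type u} [Category.{v} D] [Preadditive D] [Limits.HasZeroObject D] [HasShift D ℤ]
    [∀ n : ℤ, (shiftFunctor D n).Additive] [Pretriangulated D] [IsTriangulated D]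
    {X Y X' Y' : D} (f : X ⟶ Y) (f' : X' ⟶ Y') (u : X ⟶ X') (v : Y ⟶ Y') (comm : f ≫ v = u ≫ f') :
    ∃ (Z Z' X'' Y'' Z'' : D) (g : Y ⟶ Z) (h : Z ⟶ (shiftFunctor D (1 : ℤ)).obj X)
      (g' : Y' ⟶ Z') (h' : Z' ⟶ (shiftFunctor D (1 : ℤ)).obj X')
      (f'' : X'' ⟶ Y'') (g'' : Y'' ⟶ Z'') (h'' : Z'' ⟶ (shiftFunctor D (1 : ℤ)).obj X'')
      (u' : X' ⟶ X'') (u'' : X'' ⟶ (shiftFunctor D (1 : ℤ)).obj X)
      (v' : Y' ⟶ Y'') (v'' : Y'' ⟶ (shiftFunctor D (1 : ℤ)).obj Y)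
      (w : Z ⟶ Z') (w' : Z' ⟶ Z'') (w'' : Z'' ⟶ (shiftFunctor D (1 : ℤ)).obj Z),
      Triangle.mk f g h ∈ distinguishedTriangles ∧ Triangle.mk f' g' h' ∈ distinguishedTriangles ∧
      Triangle.mk f'' g'' h'' ∈ distinguishedTriangles ∧
      Triangle.mk u u' u'' ∈ distinguishedTriangles ∧ Triangle.mk v v' v'' ∈ distinguishedTriangles ∧
      Triangle.mk w w' w'' ∈ distinguishedTriangles ∧
      g ≫ w = v ≫ g' ∧ h ≫ (shiftFunctor D (1 : ℤ)).map u = w ≫ h' ∧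
      f' ≫ v' = u' ≫ f'' ∧ g' ≫ w' = v' ≫ g'' ∧ h' ≫ (shiftFunctor D (1 : ℤ)).map u' = w' ≫ h'' ∧
      f'' ≫ v'' = u'' ≫ (shiftFunctor D (1 : ℤ)).map f ∧ g'' ≫ w'' = v'' ≫ (shiftFunctor D (1 : ℤ)).map g ∧
      h'' ≫ (shiftFunctor D (1 : ℤ)).map u'' = -(w'' ≫ (shiftFunctor D (1 : ℤ)).map h) := by
  obtain ⟨Z, g, h, hT⟩ := distinguished_cocone_triangle f
  obtain ⟨Z', g', h', hT'⟩ := distinguished_cocone_triangle f'
  obtain ⟨X'', u', u'', hU⟩ := distinguished_cocone_triangle u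
  obtain ⟨Y'', v', v'', hV⟩ := distinguished_cocone_triangle v
  obtain ⟨A, p, q, hA⟩ := distinguished_cocone_triangle (f ≫ v)
  have hA' : Triangle.mk (u ≫ f') p q ∈ distTriang D := by rw [← comm]; exact hA
  -- first octahedron: X --f--> Y --v--> Y'
  let o₁ := someOctahedron (rfl : f ≫ v = f ≫ v) hT hV hA
  -- second octahedron: X --u--> X' --f'--> Y'
  let o₂ := someOctahedron (rfl : u ≫ f' = u ≫ f') hU hT' hA'
  let α : Z ⟶ A := o₁.m₁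
  let β : A ⟶ Y'' := o₁.m₃
  let α' : X'' ⟶ A := o₂.m₁
  let β' : A ⟶ Z' := o₂.m₃
  have hαβ : Triangle.mk α β (v'' ≫ g⟦(1 : ℤ)⟧') ∈ distTriang D := o₁.mem
  have hαβ' : Triangle.mk α' β' (h' ≫ u'⟦(1 : ℤ)⟧') ∈ distTriang D := o₂.mem
  have hrot : Triangle.mk β (v'' ≫ g⟦(1 : ℤ)⟧') (-α⟦(1 : ℤ)⟧') ∈ distTriang D :=
    rot_of_distTriang _ hαβ
  obtain ⟨Z'', g'', h'', hT''⟩ := distinguished_cocone_triangle (α' ≫ β)
  -- third octahedron: X'' --α'--> A --β--> Y''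
  let o₃ := someOctahedron (rfl : α' ≫ β = α' ≫ β) hαβ' hrot hT''
  have e3 : (-α⟦(1 : ℤ)⟧') ≫ β'⟦(1 : ℤ)⟧' = -(α ≫ β')⟦(1 : ℤ)⟧' := by
    rw [Functor.map_comp, Preadditive.neg_comp]
  have hW' : Triangle.mk o₃.m₁ o₃.m₃ (-(α ≫ β')⟦(1 : ℤ)⟧') ∈ distTriang D := by
    rw [← e3]
    exact o₃.mem
  have hW : Triangle.mk (α ≫ β') o₃.m₁ o₃.m₃ ∈ distTriang D :=
    (rotate_distinguished_triangle (Triangle.mk (α ≫ β') o₃.m₁ o₃.m₃)).2 hW'
  refine ⟨Z, Z', X'', Y'', Z'', g, h, g', h', α' ≫ β, g'', h'', u', u'', v', v'',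
    α ≫ β', o₃.m₁, o₃.m₃, hT, hT', hT'', hU, hV, hW, ?_, ?_, ?_, ?_, ?_, ?_, ?_, ?_⟩
  · -- g ≫ w = v ≫ g'
    have h1 : g ≫ α = v ≫ p := o₁.comm₁
    have h2 : p ≫ β' = g' := o₂.comm₃
    rw [← Category.assoc, h1, Category.assoc, h2]
  · -- h ≫ u[1] = w ≫ h'
    have h1 : α ≫ q = h := o₁.comm₂
    have h2 : q ≫ u⟦(1 : ℤ)⟧' = β' ≫ h' := o₂.comm₄
    rw [Category.assoc, ← h2, ← Category.assoc, h1]
  · -- f' ≫ v' = u' ≫ f''
    have h1 : u' ≫ α' = f' ≫ p := o₂.comm₁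
    have h2 : p ≫ β = v' := o₁.comm₃
    rw [← Category.assoc, h1, Category.assoc, h2]
  · -- g' ≫ w' = v' ≫ g''
    have h1 : β' ≫ o₃.m₁ = β ≫ g'' := o₃.comm₁
    have h2 : p ≫ β' = g' := o₂.comm₃
    have h3 : p ≫ β = v' := o₁.comm₃
    rw [← h2, Category.assoc, h1, ← Category.assoc, h3]
  · -- h' ≫ u'[1] = w' ≫ h''
    exact o₃.comm₂.symm
  · -- f'' ≫ v'' = u'' ≫ f[1]
    have h1 : q ≫ f⟦(1 : ℤ)⟧' = β ≫ v'' := o₁.comm₄
    have h2 : α' ≫ q = u'' := o₂.comm₂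
    rw [Category.assoc, ← h1, ← Category.assoc, h2]
  · -- g'' ≫ w'' = v'' ≫ g[1]
    exact o₃.comm₃
  · -- h'' ≫ u''[1] = -(w'' ≫ h[1])
    have h1 : h'' ≫ α'⟦(1 : ℤ)⟧' = o₃.m₃ ≫ (-α⟦(1 : ℤ)⟧') := o₃.comm₄
    have h2 : α' ≫ q = u'' := o₂.comm₂
    have h3 : α ≫ q = h := o₁.comm₂
    rw [← h2, ← h3, Functor.map_comp, Functor.map_comp, ← Category.assoc, h1]
    simp

end Groth.Agent.S0983
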