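import Groth.Statements.S0988
import Mathlib
import Groth.Agent.S11329
import Groth.Agent.S2249
import Groth.Agent.S9498
import Groth.Agent.Lib.Helper2.ModSec
import Groth.Agent.Lib.Helper11.QCohSigma
-- import your own Groth.Agent.* helpers here

set_option autoImplicit false
universe u
open CategoryTheory AlgebraicGeometry Opposite
open Perf

namespace Groth.Agent.S0988

section Aux
open CategoryTheory CategoryTheory.Limits AlgebraicGeometry Opposite TopologicalSpace
open AlgebraicGeometry.Scheme.Modules

namespace S0988aux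

variable {X : Scheme.{u}}

/-- sectionwise flasqueness of an `O_X`-module -/
def Fl (G : X.Modules) : Prop :=
  ∀ (U V : X.Opens) (h : U ≤ V), Function.Surjective (G.presheaf.map (homOfLE h).op)

lemma map_app_apply {M N : X.Modules} (φ : M ⟶ N) {U V : X.Opens} (i : U ⟶ V) (s : Γ(M, V)) :
    N.presheaf.map i.op (φ.app V s) = φ.app U (M.presheaf.map i.op s) := by
  have := φ.mapPresheaf.naturality i.op
  exact (congr($this s)).symm

/-- a retract of a flasque module is flasque -/
lemma fl_of_retract {J G : X.Modules} (i : J ⟶ G) (r : G ⟶ J) (h : i ≫ r = 𝟙 J) (hG : Fl G) : Fl J := by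
  intro U V hUV s
  obtain ⟨t, ht⟩ := hG U V hUV (i.app U s)
  refine ⟨r.app V t, ?_⟩
  rw [map_app_apply, ht]
  have : (i ≫ r).app U s = s := by rw [h]; rfl
  exact this

lemma sum_app_apply {ι : Type} [Fintype ι] {M N : X.Modules} (φ : ι → (M ⟶ N)) (U : X.Opens)
    (s : Γ(M, U)) : (∑ i, φ i).app U s = ∑ i, (φ i).app U s := by
  classical
  have : ∀ (t : Finset ι), (∑ i ∈ t, φ i).app U s = ∑ i ∈ t, (φ i).app U s := by
    intro t
    induction t using Finset.induction_on with
    | empty => simp
    | insert a t ha ih =>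
      rw [Finset.sum_insert ha, Finset.sum_insert ha, ← ih]
      rfl
  exact this _

instance hasFiniteBiproducts_modules : HasFiniteBiproducts X.Modules :=
  HasFiniteBiproducts.of_hasFiniteProducts

/-- a finite biproduct of flasque modules is flasque -/
lemma fl_biproduct {ι : Type} [Fintype ι] (G : ι → X.Modules) (h : ∀ i, Fl (G i)) : Fl (⨁ G) := by
  classical
  intro U V hUV s
  choose t ht using fun i => h i U V hUV ((biproduct.π G i).app U s)
  refine ⟨∑ i, (biproduct.ι G i).app V (t i), ?_⟩
  rw [map_sum]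
  have hs : s = ∑ i, (biproduct.ι G i).app U ((biproduct.π G i).app U s) := by
    have h1 : (𝟙 (⨁ G) : (⨁ G) ⟶ (⨁ G)).app U s = s := rfl
    have h2 : (𝟙 (⨁ G) : (⨁ G) ⟶ (⨁ G)) = ∑ i, biproduct.π G i ≫ biproduct.ι G i :=
      (biproduct.total (f := G)).symm
    rw [h2, sum_app_apply] at h1
    exact h1.symm
  rw [hs]
  refine Finset.sum_congr rfl (fun i _ => ?_)
  rw [map_app_apply, ht i]

/-- pushforward of a flasque module is flasque -/
lemma fl_pushforward {Y : Scheme.{u}} (f : Y ⟶ X) (G : Y.Modules) (h : Fl G) :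
    Fl ((pushforward f).obj G) := by
  intro U V hUV
  exact h (f ⁻¹ᵁ U) (f ⁻¹ᵁ V) (fun x hx => hUV hx)

/-- finite biproducts of quasi-coherent modules are quasi-coherent -/
lemma qcoh_biproduct {n : ℕ} (G : Fin n → X.Modules) (h : ∀ i, (G i).IsQuasicoherent) :
    (⨁ G).IsQuasicoherent := by
  let E : ULift.{u} (Fin n) → X.Modules := fun j => G j.down
  have hE : (∐ E).IsQuasicoherent :=
    Groth.Agent.Lib.helper11.QCohSigma.isQuasicoherent_sigma E (fun j => h j.down)
  let e1 : ∐ E ≅ ∐ G := Sigma.reindex Equiv.ulift G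
  let e2 : ⨁ G ≅ ∐ G := biproduct.isoCoproduct G
  exact (SheafOfModules.isQuasicoherent X.ringCatSheaf).prop_of_iso (e1 ≪≫ e2.symm) hE

/-- the construction for a single affine open -/
theorem exists_single [IsNoetherian X] (J : X.Modules) [J.IsQuasicoherent] (i : X.affineOpens) :
    ∃ (G : X.Modules) (_ : G.IsQuasicoherent) (b : J ⟶ G), Fl G ∧
      ∀ (W : X.Opens) (x : Γ(J, W)), b.app W x = 0 →
        J.presheaf.map (homOfLE (inf_le_left : W ⊓ i.1 ≤ W)).op x = 0 := by
  let A : CommRingCat.{u} := Γ(X, i.1)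
  let f : Spec A ⟶ X := i.2.fromSpec
  haveI : IsNoetherianRing A := IsLocallyNoetherian.component_noetherian i
  let N : (Spec A).Modules := (restrictFunctor f).obj J
  haveI : N.IsQuasicoherent := inferInstance
  haveI : IsIso N.fromTildeΓ := inferInstance
  let M : ModuleCat.{u} A := moduleSpecΓFunctor.obj N
  let I : ModuleCat.{u} A := Injective.under M
  let e : M ⟶ I := Injective.ι M
  haveI : Mono e := inferInstance
  have hI : Injective I := Injective.injective_under M
  haveI : Module.Injective A I := Module.injective_module_of_injective_object (inj := hI) A I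
  let te : tilde M ⟶ tilde I := tilde.map e
  haveI hte : Mono te :=
    Groth.Agent.S9498.mono_tilde_map e ((ModuleCat.mono_iff_injective e).mp inferInstance)
  let a : N ⟶ tilde I := inv N.fromTildeΓ ≫ te
  haveI : Mono a := by
    haveI h1 : Mono (inv N.fromTildeΓ) := inferInstance
    exact @mono_comp _ _ _ _ _ (inv N.fromTildeΓ) h1 te hte
  let G : X.Modules := (pushforward f).obj (tilde I)
  let b : J ⟶ G := (restrictAdjunction f).unit.app J ≫ (pushforward f).map a
  have hG : G.IsQuasicoherent := Groth.Agent.S2249.result f (tilde I)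
  refine ⟨G, hG, b, ?_, ?_⟩
  · apply fl_pushforward
    intro U V hUV
    exact Groth.Agent.S11329.result A I U V hUV
  · intro W x hx
    have ha : Function.Injective (a.app (f ⁻¹ᵁ W)) :=
      (Groth.Agent.Lib.helper2.ModSec.mono_iff_injective_app a).mp inferInstance _
    have h1 : a.app (f ⁻¹ᵁ W) (((restrictAdjunction f).unit.app J).app W x) = 0 := hx
    have h2 : ((restrictAdjunction f).unit.app J).app W x = 0 := by
      apply ha
      exact h1.trans (map_zero _).symm
    rw [restrictAdjunction_unit_app_app] at h2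
    have hle : W ⊓ i.1 ≤ f ''ᵁ (f ⁻¹ᵁ W) := by
      rw [Scheme.Hom.image_preimage_eq_opensRange_inf, i.2.opensRange_fromSpec]
      exact le_of_eq (inf_comm _ _)
    have h3 : J.presheaf.map (homOfLE (inf_le_left : W ⊓ i.1 ≤ W)).op x =
        J.presheaf.map (homOfLE hle).op (J.presheaf.map (homOfLE (f.image_preimage_le W)).op x) := by
      rw [← ConcreteCategory.comp_apply, ← Functor.map_comp]
      rfl
    exact h3.trans ((congrArg _ h2).trans (map_zero _))

lemma exists_fin_affine_cover [CompactSpace X] :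
    ∃ (n : ℕ) (S : Fin n → X.affineOpens), ∀ x : X, ∃ k, x ∈ (S k).1 := by
  obtain ⟨s, hs, e⟩ := (isCompact_iff_finite_and_eq_biUnion_affineOpens (X := X) (U := ⊤)).mp
    (by simpa using (isCompact_univ : IsCompact (Set.univ : Set X)))
  haveI : Finite s := hs.to_subtype
  obtain ⟨n, ⟨eq⟩⟩ := Finite.exists_equiv_fin s
  refine ⟨n, fun k => (eq.symm k).1, fun x => ?_⟩
  have hx : x ∈ (⊤ : X.Opens) := trivial
  rw [e] at hx
  simp only [Opens.mem_iSup] at hx
  obtain ⟨i, hi, hxi⟩ := hx
  exact ⟨eq ⟨i, hi⟩, by simpa using hxi⟩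

theorem exists_mono_flasque [IsNoetherian X] (J : X.Modules) [J.IsQuasicoherent] :
    ∃ (G : X.Modules) (_ : G.IsQuasicoherent) (ι : J ⟶ G), Mono ι ∧ Fl G := by
  obtain ⟨n, S, hS⟩ := exists_fin_affine_cover (X := X)
  choose G hG b hfl hb using fun k => exists_single J (S k)
  refine ⟨⨁ G, qcoh_biproduct G hG, biproduct.lift b, ?_, fl_biproduct G hfl⟩
  rw [Groth.Agent.Lib.helper2.ModSec.mono_iff_injective_app]
  intro W
  rw [injective_iff_map_eq_zero]
  intro x hx
  have h1 : ∀ k, (b k).app W x = 0 := by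
    intro k
    have h2 : (biproduct.lift b ≫ biproduct.π G k).app W x = 0 := by
      show (biproduct.π G k).app W ((biproduct.lift b).app W x) = 0
      exact (congrArg _ hx).trans (map_zero _)
    rwa [biproduct.lift_π] at h2
  refine (Groth.Agent.Lib.helper2.ModSec.sheaf J).eq_of_locally_eq' (fun k => W ⊓ (S k).1) W
    (fun k => homOfLE inf_le_left) ?_ x 0 ?_
  · intro y hy
    obtain ⟨k, hk⟩ := hS y
    exact Opens.mem_iSup.mpr ⟨k, hy, hk⟩
  · intro k
    exact (hb k W x (h1 k)).trans (map_zero _).symm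

end S0988aux

end Aux


/-- Let X be a Noetherian scheme and J an injective object of the category QCoh(O_X) of quasi-coherent
O_X-modules (the full subcategory of all O_X-modules). Then J is flasque: for opens U ⊆ V of X the
restriction map J(V) → J(U) is surjective. -/
theorem result (X : Scheme.{u}) [IsNoetherian X]
    (J : ObjectProperty.FullSubcategory (fun M : X.Modules => Coh.IsQCoh M)) (hJ : Injective J)
    (U V : X.Opens) (hUV : U ≤ V) :
    Function.Surjective (J.obj.val.map (homOfLE hUV).op).hom := by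
  haveI : J.obj.IsQuasicoherent := J.property
  obtain ⟨G, hG, ι, hι, hfl⟩ := S0988aux.exists_mono_flasque J.obj
  let G' : ObjectProperty.FullSubcategory (fun M : X.Modules => Coh.IsQCoh M) := ⟨G, hG⟩
  let ι' : J ⟶ G' := ObjectProperty.homMk ι
  haveI : Mono ι' := by
    apply Functor.mono_of_mono_map (ObjectProperty.ι _)
    exact hι
  let r' : G' ⟶ J := Injective.factorThru (𝟙 J) ι'
  have hr : ι' ≫ r' = 𝟙 J := Injective.comp_factorThru _ _
  have hr2 : ι ≫ r'.hom = 𝟙 J.obj := congrArg (fun t => t.hom) hr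
  have := S0988aux.fl_of_retract ι r'.hom hr2 hfl U V hUV
  exact this

end Groth.Agent.S0988
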