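import Groth.Statements.S0989
import Mathlib
-- import your own Groth.Agent.* helpers here

set_option autoImplicit false
universe w v u
open CategoryTheory CategoryTheory.Limits
open CohDer

namespace Groth.Agent.S0989

section helpers

open DerivedCategory Pretriangulated ComposableArrows ZeroObject

variable {A : Type u} [Category.{v} A] [Abelian A] [HasDerivedCategory.{w} A]

theorem main0989 (P : ObjectProperty A) [P.IsClosedUnderIsomorphisms] (h0 : ∃ Z : A, IsZero Z ∧ P Z)
    (hP : ∀ S : ComposableArrows A 4, S.Exact → P (S.obj 0) → P (S.obj 1) → P (S.obj 3) → P (S.obj 4) → P (S.obj 2)) :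
    ObjectProperty.IsTriangulated (fun X : DerivedCategory A => ∀ n : ℤ, P ((DerivedCategory.homologyFunctor A n).obj X)) ∧
    ObjectProperty.IsStableUnderRetracts (fun X : DerivedCategory A => ∀ n : ℤ, P ((DerivedCategory.homologyFunctor A n).obj X)) := by
  obtain ⟨Z, hZ, hPZ⟩ := h0
  have hPzero : ∀ W : A, IsZero W → P W := fun W hW => P.prop_of_iso (hZ.iso hW) hPZ
  let PP : ObjectProperty (DerivedCategory A) := fun X => ∀ n : ℤ, P ((homologyFunctor A n).obj X)
  have hiso : PP.IsClosedUnderIsomorphisms := ⟨fun e hX n => P.prop_of_iso ((homologyFunctor A n).mapIso e) (hX n)⟩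
  have hzero : PP.ContainsZero :=
    ⟨(0 : DerivedCategory A), isZero_zero _, fun n => hPzero _ ((homologyFunctor A n).map_isZero (isZero_zero _))⟩
  have hshift : PP.IsStableUnderShift ℤ :=
    ⟨fun a => ⟨fun X hX n =>
      P.prop_of_iso (((homologyFunctor A 0).shiftIso a n (a + n) rfl).app X).symm (hX (a + n))⟩⟩
  have hext : PP.IsTriangulatedClosed₂ := .mk' (fun T hT h₁ h₃ n => by
    let S : ComposableArrows A 4 := mk₄ (HomologySequence.δ T (n - 1) n (by lia))
      ((homologyFunctor A n).map T.mor₁) ((homologyFunctor A n).map T.mor₂)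
      (HomologySequence.δ T n (n + 1) rfl)
    have hS : S.Exact :=
      exact_of_δ₀ (HomologySequence.exact₁ T hT (n - 1) n (by lia)).exact_toComposableArrows
        (exact_of_δ₀ (HomologySequence.exact₂ T hT n).exact_toComposableArrows
          (HomologySequence.exact₃ T hT n (n + 1) rfl).exact_toComposableArrows)
    exact hP S hS (h₃ (n - 1)) (h₁ n) (h₃ n) (h₁ (n + 1)))
  refine ⟨{ }, ⟨fun {X Y} h hY n => ?_⟩⟩
  -- retracts
  let i := (homologyFunctor A n).map h.i
  let r := (homologyFunctor A n).map h.r
  have hir : i ≫ r = 𝟙 _ := by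
    rw [← Functor.map_comp, h.retract, CategoryTheory.Functor.map_id]
  let S : ComposableArrows A 4 := mk₄ (𝟙 _ - r ≫ i) r (0 : _ ⟶ Z) (0 : Z ⟶ Z)
  have e1 : (ShortComplex.mk (𝟙 _ - r ≫ i) r (by
      rw [Preadditive.sub_comp, Category.id_comp, Category.assoc, hir, Category.comp_id, sub_self])).Exact := by
    rw [ShortComplex.exact_iff_exact_up_to_refinements]
    intro W x hx
    dsimp at x hx
    refine ⟨W, 𝟙 _, inferInstance, x, ?_⟩
    dsimp
    rw [Category.id_comp, Preadditive.comp_sub, Category.comp_id, ← Category.assoc, hx, zero_comp, sub_zero]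
  have e2 : (ShortComplex.mk r (0 : _ ⟶ Z) comp_zero).Exact := by
    have : Epi r := SplitEpi.epi ⟨i, hir⟩
    rw [ShortComplex.exact_iff_epi _ rfl]
    exact this
  have e3 : (ShortComplex.mk (0 : (homologyFunctor A n).obj X ⟶ Z) (0 : Z ⟶ Z) comp_zero).Exact := by
    rw [ShortComplex.exact_iff_epi _ rfl]
    exact hZ.epi _
  have hS : S.Exact :=
    exact_of_δ₀ e1.exact_toComposableArrows
      (exact_of_δ₀ e2.exact_toComposableArrows e3.exact_toComposableArrows)
  exact hP S hS (hY n) (hY n) hPZ hPZ

end helpers

/-- Let P be a weak Serre class in an abelian category A: P is closed under isomorphisms, holds for a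
zero object, and whenever X₀ → X₁ → X₂ → X₃ → X₄ is exact with P holding for X₀, X₁, X₃, X₄ it holds
for X₂. Then the class of objects of the derived category all of whose cohomology objects satisfy P
is a triangulated subcategory (contains zero, stable under shifts, closed under extensions) which is
moreover closed under retracts (saturated). -/
theorem result {A : Type u} [Category.{v} A] [Abelian A] [HasDerivedCategory.{w} A]
    (P : ObjectProperty A) [P.IsClosedUnderIsomorphisms] (h0 : ∃ Z : A, IsZero Z ∧ P Z)
    (hP : ∀ S : ComposableArrows A 4, S.Exact → P (S.obj 0) → P (S.obj 1) → P (S.obj 3) → P (S.obj 4) → P (S.obj 2)) :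
    ObjectProperty.IsTriangulated (fun X : DerivedCategory A => ∀ n : ℤ, P ((DerivedCategory.homologyFunctor A n).obj X)) ∧
    ObjectProperty.IsStableUnderRetracts (fun X : DerivedCategory A => ∀ n : ℤ, P ((DerivedCategory.homologyFunctor A n).obj X)) := by
  exact main0989 P h0 hP

end Groth.Agent.S0989
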