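import Groth.Statements.S0992
import Mathlib


set_option autoImplicit false
universe w
open CategoryTheory CategoryTheory.Limits Opposite
open CohDer

namespace Groth.Agent.S0992

set_option linter.style.haveILetI false

lemma exact_elem (A : CochainComplex AddCommGrpCat.{w} ℤ) (r n s : ℤ) (hr : r + 1 = n)
    (hs : n + 1 = s) :
    A.ExactAt n ↔ ∀ x : A.X n, A.d n s x = 0 → ∃ y : A.X r, A.d r n y = x := by
  rw [HomologicalComplex.exactAt_iff' A r n s (by simp [← hr]) (by simp [← hs]),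
    ShortComplex.ab_exact_iff]
  rfl

section
variable {I : Type w} [LinearOrder I] (K : Iᵒᵖ ⥤ CochainComplex AddCommGrpCat.{w} ℤ)

/-- transition maps -/
noncomputable def tm {γ β : I} (h : γ ≤ β) (n : ℤ) : (K.obj (op β)).X n →+ (K.obj (op γ)).X n :=
  ((K.map (homOfLE h).op).f n).hom

lemma tm_refl (β : I) (n : ℤ) (x : (K.obj (op β)).X n) : tm K (le_refl β) n x = x := by
  have : (homOfLE (le_refl β)).op = 𝟙 (op β) := Subsingleton.elim _ _
  unfold tm
  rw [this, K.map_id]; rfl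

lemma tm_trans {δ γ β : I} (h1 : δ ≤ γ) (h2 : γ ≤ β) (n : ℤ) (x : (K.obj (op β)).X n) :
    tm K h1 n (tm K h2 n x) = tm K (h1.trans h2) n x := by
  have : (homOfLE (h1.trans h2)).op = (homOfLE h2).op ≫ (homOfLE h1).op := Subsingleton.elim _ _
  unfold tm
  rw [this, K.map_comp]; rfl

lemma tm_d {γ β : I} (h : γ ≤ β) (n n' : ℤ) (x : (K.obj (op β)).X n) :
    tm K h n' ((K.obj (op β)).d n n' x) = (K.obj (op γ)).d n n' (tm K h n x) :=
  (congr($((K.map (homOfLE h).op).comm n n').hom x)).symm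

lemma d_d (β : I) (a b c : ℤ) (x : (K.obj (op β)).X a) :
    (K.obj (op β)).d b c ((K.obj (op β)).d a b x) = 0 :=
  congr($((K.obj (op β)).d_comp_d a b c).hom x)


/-- extension property at `β` -/
def E (β : I) : Prop :=
  ∀ (r n : ℤ) (_ : r + 1 = n) (xβ : (K.obj (op β)).X n) (_ : (K.obj (op β)).d n (n + 1) xβ = 0)
    (y : ∀ γ : I, γ < β → (K.obj (op γ)).X r),
    (∀ γ (hγ : γ < β), (K.obj (op γ)).d r n (y γ hγ) = tm K hγ.le n xβ) →
    (∀ γ δ (hγ : γ < β) (hδ : δ ≤ γ), tm K hδ r (y γ hγ) = y δ (lt_of_le_of_lt hδ hγ)) →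
    ∃ yβ : (K.obj (op β)).X r, (K.obj (op β)).d r n yβ = xβ ∧
      ∀ γ (hγ : γ < β), tm K hγ.le r yβ = y γ hγ

/-- primitives on a lower set `S` -/
def P (S : I → Prop) : Prop :=
  ∀ (r n : ℤ) (_ : r + 1 = n) (x : ∀ γ : I, S γ → (K.obj (op γ)).X n),
    (∀ γ (hγ : S γ), (K.obj (op γ)).d n (n + 1) (x γ hγ) = 0) →
    (∀ γ δ (hγ : S γ) (hδ : S δ) (h : δ ≤ γ), tm K h n (x γ hγ) = x δ hδ) →
    ∃ y : ∀ γ : I, S γ → (K.obj (op γ)).X r,
      (∀ γ (hγ : S γ), (K.obj (op γ)).d r n (y γ hγ) = x γ hγ) ∧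
      (∀ γ δ (hγ : S γ) (hδ : S δ) (h : δ ≤ γ), tm K h r (y γ hγ) = y δ hδ)

variable [WellFoundedLT I]

open Classical in
lemma recursion (S : I → Prop) (hS : ∀ γ δ, δ ≤ γ → S γ → S δ) (hE : ∀ γ, S γ → E K γ) :
    P K S := by
  intro r n hrn x hxd hxc
  -- the recursive step
  let step : ∀ β : I, (∀ γ, γ < β → (K.obj (op γ)).X r) → (K.obj (op β)).X r := fun β ih =>
    if h : ∃ hβ : S β, (∀ γ (hγ : γ < β), (K.obj (op γ)).d r n (ih γ hγ) = tm K hγ.le n (x β hβ)) ∧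
        (∀ γ δ (hγ : γ < β) (hδ : δ ≤ γ), tm K hδ r (ih γ hγ) = ih δ (lt_of_le_of_lt hδ hγ)) then
      Classical.choose (hE β h.1 r n hrn (x β h.1) (hxd β h.1) ih h.2.1 h.2.2)
    else 0
  let y : ∀ β : I, (K.obj (op β)).X r := fun β => (wellFounded_lt (α := I)).fix step β
  have hy : ∀ β, y β = step β (fun γ _ => y γ) := fun β => (wellFounded_lt (α := I)).fix_eq step β
  have good : ∀ β (hβ : S β), (K.obj (op β)).d r n (y β) = x β hβ ∧
      ∀ γ (hγ : γ < β), tm K hγ.le r (y β) = y γ := by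
    intro β
    induction β using (wellFounded_lt (α := I)).induction with
    | _ β ih =>
      intro hβ
      have hcond : ∃ hβ : S β,
          (∀ γ (hγ : γ < β), (K.obj (op γ)).d r n (y γ) = tm K hγ.le n (x β hβ)) ∧
          (∀ γ δ (hγ : γ < β) (hδ : δ ≤ γ), tm K hδ r (y γ) = y δ) := by
        refine ⟨hβ, fun γ hγ => ?_, fun γ δ hγ hδ => ?_⟩
        · rw [(ih γ hγ (hS β γ hγ.le hβ)).1, hxc β γ hβ (hS β γ hγ.le hβ) hγ.le]
        · rcases hδ.lt_or_eq with hlt | heq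
          · exact (ih γ hγ (hS β γ hγ.le hβ)).2 δ hlt
          · subst heq; exact tm_refl K δ r _
      have hstep : step β (fun γ _ => y γ) =
          Classical.choose (hE β hcond.1 r n hrn (x β hcond.1) (hxd β hcond.1) (fun γ _ => y γ)
            hcond.2.1 hcond.2.2) := dif_pos hcond
      have hspec := Classical.choose_spec (hE β hcond.1 r n hrn (x β hcond.1) (hxd β hcond.1)
        (fun γ _ => y γ) hcond.2.1 hcond.2.2)
      rw [hy β, hstep]
      exact hspec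
  refine ⟨fun γ _ => y γ, fun γ hγ => (good γ hγ).1, fun γ δ hγ hδ h => ?_⟩
  rcases h.lt_or_eq with hlt | heq
  · exact (good γ hγ).2 δ hlt
  · subst heq; exact tm_refl K δ r _


lemma E_of_P (hac : ∀ (β : I) (n : ℤ), (K.obj (op β)).ExactAt n)
    (hsurj : ∀ (β : I) (n : ℤ) (x : ∀ γ : {γ : I // γ < β}, (K.obj (op γ.1)).X n),
      (∀ (γ γ' : {γ : I // γ < β}) (h : γ.1 ≤ γ'.1), ((K.map (homOfLE h).op).f n).hom (x γ') = x γ) →
      ∃ y : (K.obj (op β)).X n, ∀ γ : {γ : I // γ < β}, ((K.map (homOfLE γ.2.le).op).f n).hom y = x γ)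
    (β : I) (hP : P K (· < β)) : E K β := by
  intro r n hrn xβ hx y hyd hyc
  subst hrn
  obtain ⟨y', hy'⟩ := hsurj β r (fun γ => y γ.1 γ.2) (fun γ γ' h => hyc γ'.1 γ.1 γ'.2 h)
  have hy'' : ∀ γ (hγ : γ < β), tm K hγ.le r y' = y γ hγ := fun γ hγ => hy' ⟨γ, hγ⟩
  have hwd : (K.obj (op β)).d (r + 1) (r + 1 + 1) (xβ - (K.obj (op β)).d r (r + 1) y') = 0 := by
    rw [map_sub, hx, d_d, sub_zero]
  have hw0 : ∀ γ (hγ : γ < β),
      tm K hγ.le (r + 1) (xβ - (K.obj (op β)).d r (r + 1) y') = 0 := by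
    intro γ hγ
    rw [map_sub, tm_d, hy'' γ hγ, hyd γ hγ, sub_self]
  obtain ⟨v, hv⟩ := (exact_elem _ r (r + 1) (r + 1 + 1) rfl rfl).1 (hac β (r + 1)) _ hwd
  obtain ⟨u, hud, huc⟩ := hP (r - 1) r (by ring) (fun γ hγ => tm K (le_of_lt hγ) r v)
    (fun γ hγ => by
      show (K.obj (op γ)).d r (r + 1) (tm K (le_of_lt hγ) r v) = 0
      rw [← tm_d, hv, hw0 γ hγ])
    (fun γ δ hγ hδ h => tm_trans K h (le_of_lt hγ) r v)
  obtain ⟨u', hu'⟩ := hsurj β (r - 1) (fun γ => u γ.1 γ.2)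
    (fun γ γ' h => huc γ'.1 γ.1 γ'.2 γ.2 h)
  have hu'' : ∀ γ (hγ : γ < β), tm K hγ.le (r - 1) u' = u γ hγ := fun γ hγ => hu' ⟨γ, hγ⟩
  refine ⟨y' + (v - (K.obj (op β)).d (r - 1) r u'), ?_, fun γ hγ => ?_⟩
  · rw [map_add, map_sub, d_d, sub_zero, hv]
    abel
  · rw [map_add, map_sub, tm_d, hu'' γ hγ, hud γ hγ, sub_self, add_zero, hy'' γ hγ]

lemma E_all (hac : ∀ (β : I) (n : ℤ), (K.obj (op β)).ExactAt n)
    (hsurj : ∀ (β : I) (n : ℤ) (x : ∀ γ : {γ : I // γ < β}, (K.obj (op γ.1)).X n),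
      (∀ (γ γ' : {γ : I // γ < β}) (h : γ.1 ≤ γ'.1), ((K.map (homOfLE h).op).f n).hom (x γ') = x γ) →
      ∃ y : (K.obj (op β)).X n, ∀ γ : {γ : I // γ < β}, ((K.map (homOfLE γ.2.le).op).f n).hom y = x γ)
    (β : I) : E K β := by
  induction β using (wellFounded_lt (α := I)).induction with
  | _ β ih =>
    apply E_of_P K hac hsurj β
    exact recursion K (· < β) (fun γ δ h hγ => lt_of_le_of_lt h hγ) (fun γ hγ => ih γ hγ)


omit [WellFoundedLT I] in
lemma L_ext (q : ℤ) (x x' : (limit K).X q)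
    (h : ∀ β : I, (limit.π K (op β)).f q x = (limit.π K (op β)).f q x') : x = x' := by
  have hc := isLimitOfPreserves (HomologicalComplex.eval _ _ q) (limit.isLimit K)
  exact Concrete.isLimit_ext _ hc x x' (fun i => h i.unop)

omit [WellFoundedLT I] in
lemma L_mk (q : ℤ) (x : ∀ β : I, (K.obj (op β)).X q)
    (hx : ∀ (γ β : I) (h : γ ≤ β), tm K h q (x β) = x γ) :
    ∃ y : (limit K).X q, ∀ β : I, (limit.π K (op β)).f q y = x β := by
  have hc := isLimitOfPreserves (HomologicalComplex.eval _ _ q) (limit.isLimit K)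
  have hc' := isLimitOfPreserves (forget AddCommGrpCat) hc
  let s : ((K ⋙ HomologicalComplex.eval _ _ q) ⋙ forget AddCommGrpCat).sections :=
    ⟨fun i => x i.unop, by
      intro i j φ
      have hle : j.unop ≤ i.unop := leOfHom φ.unop
      have : φ = (homOfLE hle).op := Subsingleton.elim _ _
      rw [this]
      exact hx j.unop i.unop hle⟩
  refine ⟨(Types.isLimitEquivSections hc').symm s, fun β => ?_⟩
  exact Types.isLimitEquivSections_symm_apply hc' s (op β)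

omit [WellFoundedLT I] in
lemma pi_tm (q : ℤ) {γ β : I} (h : γ ≤ β) (y : (limit K).X q) :
    tm K h q ((limit.π K (op β)).f q y) = (limit.π K (op γ)).f q y := by
  have h1 : limit.π K (op β) ≫ K.map (homOfLE h).op = limit.π K (op γ) := limit.w K _
  have h2 := congrArg (fun g => (HomologicalComplex.Hom.f g q)) h1
  simp only [HomologicalComplex.comp_f] at h2
  exact congr($(h2).hom y)

lemma d_comm {A B : CochainComplex AddCommGrpCat.{w} ℤ} (f : A ⟶ B)
    (q q' : ℤ) (x : A.X q) : f.f q' (A.d q q' x) = B.d q q' (f.f q x) :=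
  (congr($(f.comm q q').hom x)).symm

theorem main (hac : ∀ (β : I) (n : ℤ), (K.obj (op β)).ExactAt n)
    (hsurj : ∀ (β : I) (n : ℤ) (x : ∀ γ : {γ : I // γ < β}, (K.obj (op γ.1)).X n),
      (∀ (γ γ' : {γ : I // γ < β}) (h : γ.1 ≤ γ'.1), ((K.map (homOfLE h).op).f n).hom (x γ') = x γ) →
      ∃ y : (K.obj (op β)).X n, ∀ γ : {γ : I // γ < β}, ((K.map (homOfLE γ.2.le).op).f n).hom y = x γ)
    (n : ℤ) : (limit K).ExactAt n := by
  rw [exact_elem (limit K) (n - 1) n (n + 1) (by ring) rfl]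
  intro x hx
  have hE := E_all K hac hsurj
  obtain ⟨y, hyd, hyc⟩ := recursion K (fun _ => True) (fun _ _ _ _ => trivial) (fun γ _ => hE γ)
    (n - 1) n (by ring) (fun γ _ => (limit.π K (op γ)).f n x)
    (fun γ _ => by
      show (K.obj (op γ)).d n (n + 1) ((limit.π K (op γ)).f n x) = 0
      rw [← d_comm, hx, map_zero])
    (fun γ δ _ _ h => pi_tm K n h x)
  obtain ⟨Y, hY⟩ := L_mk K (n - 1) (fun β => y β trivial) (fun γ β h => hyc β γ trivial trivial h)
  refine ⟨Y, ?_⟩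
  apply L_ext K n
  intro β
  rw [d_comm, hY, hyd]

end



/-- Let I be a well-ordered type and K : Iᵒᵖ ⥤ CochainComplex Ab an inverse system of acyclic complexes
of abelian groups such that for every β and every degree n, each family of elements of the Kⁿ_γ (γ <
β) compatible under the transition maps lifts to an element of Kⁿ_β (i.e. Kⁿ_β → lim_{γ<β} Kⁿ_γ is
surjective). Then the limit complex lim K is acyclic. -/
theorem result {I : Type w} [LinearOrder I] [WellFoundedLT I]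
    (K : Iᵒᵖ ⥤ CochainComplex AddCommGrpCat.{w} ℤ)
    (hac : ∀ (β : I) (n : ℤ), (K.obj (op β)).ExactAt n)
    (hsurj : ∀ (β : I) (n : ℤ) (x : ∀ γ : {γ : I // γ < β}, (K.obj (op γ.1)).X n),
      (∀ (γ γ' : {γ : I // γ < β}) (h : γ.1 ≤ γ'.1), ((K.map (homOfLE h).op).f n).hom (x γ') = x γ) →
      ∃ y : (K.obj (op β)).X n, ∀ γ : {γ : I // γ < β}, ((K.map (homOfLE γ.2.le).op).f n).hom y = x γ)
    (n : ℤ) : (limit K).ExactAt n := by
  exact main K hac hsurj n

end Groth.Agent.S0992
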