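import Groth.Statements.S10005
import Groth.Agent.Lib.Helper5.LimSepB
import Groth.Agent.Lib.Helper5.DimZeroField1
import Groth.Agent.Lib.Helper5.AlgSpCoprod

set_option autoImplicit false
universe u
open CategoryTheory CategoryTheory.Limits AlgebraicGeometry
open AlgSp

namespace Groth.Agent.S10005

/-- Let `S` be a quasi-separated scheme and `X` the limit, in fppf sheaves over `S`, of a cofiltered
system `(X_i)` of quasi-compact algebraic spaces over `S`, each quasi-separated over `S`, whose
transition maps are affine. If `X` is separated over `S`, then `X_i` is separated over `S` for some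
`i`. (The published statement uses absolute separatedness and quasi-separatedness and puts no
condition on `S`; this row assumes `S` quasi-separated and takes both notions over `S`, which gives
the same quasi-separatedness and, when `S` is separated, the same separatedness.) -/
theorem result (S : Scheme.{u}) [QuasiSeparatedSpace S] {I : Type u} [SmallCategory I] [IsCofiltered I]
    (D : I ⥤ AlgSp.Sp S) (hD : ∀ i, AlgSp.IsAlgSpace (D.obj i))
    (hDa : ∀ (i j : I) (φ : i ⟶ j), AlgSp.IsAffineMor (D.map φ))
    (hqc : ∀ i, AlgSp.IsQuasiCompactSp (D.obj i)) (hqs : ∀ i, AlgSp.IsQuasiSeparatedSp (D.obj i))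
    (c : Cone D) (hc : IsLimit c)
    (hX : AlgSp.IsSeparatedSp c.pt) : ∃ i, AlgSp.IsSeparatedSp (D.obj i) := by
  have hT := Groth.Agent.Lib.helper5.Coprod.isTerminalYon (S := S)
  obtain ⟨Y, hYdef⟩ : ∃ Y : AlgSp.Space S, Y.obj = (yon S).obj (Over.mk (𝟙 S)) :=
    ⟨⟨(yon S).obj (Over.mk (𝟙 S)), IsAlgSpace.yon_obj _⟩, rfl⟩
  have hYqs : IsQuasiSeparatedSp Y.obj := by
    rw [hYdef]
    refine (repWith_diag_yon_iff @QuasiCompact _).2 ?_
    show QuasiCompact (pullback.diagonal (𝟙 S))
    infer_instance
  have hTY : IsTerminal Y.obj := by rw [hYdef]; exact hT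
  let t : D ⟶ (Functor.const I).obj Y.obj :=
    { app := fun i => hTY.from _
      naturality := fun _ _ _ => hTY.hom_ext _ _ }
  have key : ∀ (F : Sp S) (p : F ⟶ Y.obj), (IsSeparatedSp F ↔ IsSeparatedMor p) := by
    rw [hYdef]
    intro F p
    constructor
    · exact Groth.Agent.Lib.helper5.DimZeroField.isSeparatedMor_of_isSeparatedSp p
    · intro h
      have e := Groth.Agent.Lib.helper5.DimZeroField.diagonal_eq_diag_comp p
      have e' : Limits.diag F =
          pullback.diagonal p ≫ (Groth.Agent.Lib.helper5.DimZeroField.pullbackIsoProd p).hom := by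
        rw [e, Category.assoc, Iso.inv_hom_id, Category.comp_id]
      unfold IsSeparatedSp
      rw [e']
      exact MorphismProperty.RespectsIso.postcomp (RepWith @IsClosedImmersion)
        (Groth.Agent.Lib.helper5.DimZeroField.pullbackIsoProd p).hom _ h
  obtain ⟨i₀, h⟩ := Groth.Agent.Lib.helper5.LimSep.eventually_isSeparatedMor Y D hD t hDa c hc
    (hTY.from c.pt) (fun i => hTY.hom_ext _ _) hqc hqs hYqs ((key _ _).1 hX)
  exact ⟨i₀, (key _ _).2 (h i₀ (𝟙 _))⟩

end Groth.Agent.S10005
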