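import Groth.Statements.S10010
import Groth.Agent.Lib.Helper5.ImmLimA
import Groth.Agent.Lib.Helper5.ImmLimB
import Groth.Agent.Lib.Helper5.ImmLimC
import Groth.Agent.Lib.Helper5.LimSpC
import Groth.Agent.Lib.Helper5.LimDescB
import Groth.Agent.Lib.Helper7.AlgSpQC
import Groth.Agent.S9920
import Groth.Agent.S9952

set_option autoImplicit false
universe u
open CategoryTheory CategoryTheory.Limits AlgebraicGeometry
open AlgSp

namespace Groth.Agent.S10010

/-- Let `S` be a quasi-separated scheme, `B` an algebraic space over `S`, and `X` the limit, in fppf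
sheaves, of a cofiltered system `(X_i)` of algebraic spaces over `B`, each quasi-separated over `S`,
whose transition maps are affine; let `y : Y ⟶ X` be an immersion from a quasi-compact algebraic
space `Y` whose structure map to `B` is locally of finite type. Then, for all `i` mapping to some
`i₀`, the composite `Y ⟶ X ⟶ X_i` is an immersion. (The published statement allows any base scheme
and uses absolute quasi-separatedness; this row assumes the base quasi-separated, over which
quasi-separatedness relative to the base is the absolute notion.) -/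
theorem result (S : Scheme.{u}) [QuasiSeparatedSpace S] {I : Type u} [SmallCategory I] [IsCofiltered I]
    (B : AlgSp.Space S) (D : I ⥤ AlgSp.Sp S) (hD : ∀ i, AlgSp.IsAlgSpace (D.obj i))
    (t : D ⟶ (Functor.const I).obj B.obj)
    (hDa : ∀ (i j : I) (φ : i ⟶ j), AlgSp.IsAffineMor (D.map φ))
    (c : Cone D) (hc : IsLimit c)
    (hqs : ∀ i, AlgSp.IsQuasiSeparatedSp (D.obj i))
    (Y : AlgSp.Space S) (hYqc : AlgSp.IsQuasiCompactSp Y.obj) (y : Y.obj ⟶ c.pt) (hy : AlgSp.RepWith @IsImmersion y) (i₁ : I)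
    (hYB : AlgSp.LocP @LocallyOfFiniteType (y ≫ c.π.app i₁ ≫ t.app i₁)) :
    ∃ i₀ : I, ∀ (i : I) (_ : i ⟶ i₀), AlgSp.RepWith @IsImmersion (y ≫ c.π.app i) := by
  classical
  -- `Y ⟶ X_{i₁}` is locally of finite type and quasi-compact
  have hYB' : LocP @LocallyOfFiniteType ((y ≫ c.π.app i₁) ≫ t.app i₁) := by
    rw [Category.assoc]; exact hYB
  have hlft : LocP @LocallyOfFiniteType (y ≫ c.π.app i₁) :=
    Groth.Agent.S9952.result (X := Y) (Y := ⟨D.obj i₁, hD i₁⟩) (Z := B)
      (ObjectProperty.homMk (y ≫ c.π.app i₁)) (ObjectProperty.homMk (t.app i₁)) hYB'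
  have hqcm : IsQuasiCompactMor (y ≫ c.π.app i₁) :=
    Groth.Agent.S9920.result (X := Y) (Y := ⟨D.obj i₁, hD i₁⟩)
      (ObjectProperty.homMk (y ≫ c.π.app i₁)) hYqc (hqs i₁)
  -- an affine étale chart of `X_{i₁}` covering the image of `Y`
  obtain ⟨V, g, hV, hge, hrange⟩ :=
    Groth.Agent.Lib.helper5.ImmLim.exists_affine_etale_cover_range (X := ⟨D.obj i₁, hD i₁⟩) (Y := Y)
      (y ≫ c.π.app i₁) hYqc
  haveI := hV
  obtain ⟨W, s, f, sq, L, hL, p, hp, sL, fL, hpb, h1, h2, h3, h4, h5, ⟨h6⟩⟩ :=
    Groth.Agent.Lib.helper5.LimSp.exists_chart_limit D c hc i₁ g hDa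
  have hfe : ∀ j, RepWith @Etale (f j) := fun j =>
    (RepWith (S := S) @Etale).of_isPullback (sq j).flip hge
  have hfLe : RepWith @Etale fL := (RepWith (S := S) @Etale).of_isPullback hpb.flip hge
  have hsqj : ∀ j : Over i₁, IsPullback fL ((yon S).map (p j)) (c.π.app j.left) (f j) := by
    intro j
    refine IsPullback.of_bot ?_ (h2 j).symm (sq j)
    have e1 : (yon S).map (p j) ≫ (yon S).map (s j) = (yon S).map sL := by
      rw [← Functor.map_comp, h1 j]
    have e2 : c.π.app j.left ≫ D.map j.hom = c.π.app i₁ := c.w j.hom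
    rw [e1, e2]
    exact hpb
  -- the base change of `y` to the chart of the limit
  obtain ⟨T, snd, fst, sqT⟩ := hy.rep fL
  haveI hsndimm : IsImmersion snd.left := hy.property fL fst snd sqT
  have hfste : RepWith @Etale fst := (RepWith (S := S) @Etale).of_isPullback sqT.flip hfLe
  haveI hklft : LocallyOfFiniteType (snd ≫ sL).left := by
    refine hlft fst g (snd ≫ sL) hfste hge ?_
    rw [← Category.assoc, sqT.w, Category.assoc, hpb.w, ← Category.assoc, ← Functor.map_comp]
  -- `T` is quasi-compact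
  have sqTV : IsPullback fst ((yon S).map (snd ≫ sL)) (y ≫ c.π.app i₁) g := by
    rw [Functor.map_comp]
    exact sqT.paste_vert hpb
  haveI hTqc : CompactSpace T.left :=
    Groth.Agent.Lib.helper7.AlgSpQC.compactSpace_of_isQuasiCompactSp_yon T
      (hqcm (IsAlgSpace.yon_obj V) (Groth.Agent.Lib.helper5.LimDesc.isQuasiCompactSp_yon_of_isAffine V)
        g fst ((yon S).map (snd ≫ sL)) sqTV)
  -- the diagram of schemes over `V`
  let E : Over i₁ ⥤ Scheme.{u} :=
    Groth.Agent.Lib.helper5.LimSp.repDiag D i₁ g W s f sq ⋙ Over.forget S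
  let sNat : E ⟶ (Functor.const (Over i₁)).obj V.left :=
    { app := fun j => (s j).left
      naturality := fun j k φ => by
        have := congrArg (fun m => m.left)
          (Groth.Agent.Lib.helper5.LimSp.repDiag_map_s D i₁ g W s f sq φ)
        simpa [E] using this }
  have hpL : ∀ j, ((Over.forget S).mapCone L).π.app j ≫ sNat.app j = sL.left := by
    intro j
    have := congrArg (fun m => m.left) (h1 j)
    rw [hp j] at this
    exact this
  haveI : Nonempty (Over i₁) := ⟨Over.mk (𝟙 i₁)⟩
  have hlim := Over.isLimitLiftCone E sNat ((Over.forget S).mapCone L) sL.left hpL h6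
  haveI : ∀ (i j : Over i₁) (φ : i ⟶ j), IsAffineHom ((Over.lift E sNat).map φ).left :=
    fun i j φ => h4 φ
  haveI : @IsImmersion T.left
      (Over.liftCone E sNat ((Over.forget S).mapCone L) sL.left hpL).pt.left snd.left := hsndimm
  haveI : @LocallyOfFiniteType T.left V.left
      (@CategoryStruct.comp Scheme.{u} _ T.left
        (Over.liftCone E sNat ((Over.forget S).mapCone L) sL.left hpL).pt.left V.left snd.left
        (Over.liftCone E sNat ((Over.forget S).mapCone L) sL.left hpL).pt.hom) := hklft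
  obtain ⟨j, hj⟩ := Groth.Agent.Lib.helper5.ImmLim.eventually_isImmersion_of_limit V.left
    (Over.lift E sNat)
    (Over.liftCone E sNat ((Over.forget S).mapCone L) sL.left hpL) hlim
    (snd.left : T.left ⟶ (Over.liftCone E sNat ((Over.forget S).mapCone L) sL.left hpL).pt.left)
  refine ⟨j.left, fun i ψ => ?_⟩
  -- the index `j' = (i ⟶ j.left ⟶ i₁)`
  obtain ⟨j', hj'def⟩ : ∃ j' : Over i₁, j' = Over.mk (ψ ≫ j.hom) := ⟨_, rfl⟩
  have φ' : j' ⟶ j := by rw [hj'def]; exact Over.homMk ψ
  have himm : IsImmersion (snd ≫ p j').left := by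
    have : (snd ≫ p j').left = snd.left ≫
        ((Over.liftCone E sNat ((Over.forget S).mapCone L) sL.left hpL).π.app j').left := by
      rw [hp j']; rfl
    rw [this]
    exact hj j' φ'
  subst hj'def
  have sqi : IsPullback fst ((yon S).map (snd ≫ p (Over.mk (ψ ≫ j.hom)))) (y ≫ c.π.app i)
      (f (Over.mk (ψ ≫ j.hom))) := by
    rw [Functor.map_comp]
    exact sqT.paste_vert (hsqj (Over.mk (ψ ≫ j.hom)))
  -- the image of `Y` in `X_i` is contained in the image of the chart
  have hrange_i : Set.range (Points.map (y ≫ c.π.app i)) ⊆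
      Set.range (Points.map (f (Over.mk (ψ ≫ j.hom)))) := by
    rintro _ ⟨x, rfl⟩
    obtain ⟨v, hv⟩ := hrange ⟨x, rfl⟩
    have e : Points.map (D.map (ψ ≫ j.hom)) (Points.map (y ≫ c.π.app i) x) = Points.map g v := by
      rw [hv, ← Points.map_comp, Category.assoc, c.w]
    obtain ⟨w, hw, -⟩ := Groth.Agent.Lib.helper10.exists_point_of_isPullback
      (sq (Over.mk (ψ ≫ j.hom))) (Points.map (y ≫ c.π.app i) x) v e
    exact ⟨w, hw⟩
  exact Groth.Agent.Lib.helper5.ImmLim.repWith_isImmersion_of_etale_chart (hD i) Y.property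
    (y ≫ c.π.app i) (W (Over.mk (ψ ≫ j.hom))) (f (Over.mk (ψ ≫ j.hom))) (hfe _) hrange_i T
    (snd ≫ p (Over.mk (ψ ≫ j.hom))) fst sqi himm

end Groth.Agent.S10010
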