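import Groth.Statements.S10012
import Groth.Agent.Lib.Helper5.LimMonoA
import Groth.Agent.Lib.Helper5.LimDescG
import Groth.Agent.Lib.Helper5.LimDescD
import Groth.Agent.Lib.Helper1.MonoSp
import Groth.Agent.S9192
import Groth.Agent.S9920
import Groth.Agent.S9952
import Groth.Agent.S9960
import Groth.Agent.S10261
import Groth.Agent.S10266
import Groth.Agent.S10194

set_option autoImplicit false
universe u
open CategoryTheory CategoryTheory.Limits AlgebraicGeometry
open AlgSp

namespace Groth.Agent.S10012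

/-- Let `S` be a quasi-separated scheme, `B` an algebraic space over `S`, and `X` the limit, in fppf
sheaves, of a cofiltered system `(X_i)` of algebraic spaces over `B`, each quasi-separated over `S`,
whose transition maps are affine; let `y : Y ⟶ X` be a monomorphism from a quasi-compact algebraic
space `Y` whose structure map to `B` is locally of finite type. Then, for all `i` mapping to some
`i₀`, the composite `Y ⟶ X ⟶ X_i` is a monomorphism. (The published statement allows any base scheme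
and uses absolute quasi-separatedness; this row assumes the base quasi-separated, over which
quasi-separatedness relative to the base is the absolute notion.) -/
theorem result (S : Scheme.{u}) [QuasiSeparatedSpace S] {I : Type u} [SmallCategory I] [IsCofiltered I]
    (B : AlgSp.Space S) (D : I ⥤ AlgSp.Sp S) (hD : ∀ i, AlgSp.IsAlgSpace (D.obj i))
    (t : D ⟶ (Functor.const I).obj B.obj)
    (hDa : ∀ (i j : I) (φ : i ⟶ j), AlgSp.IsAffineMor (D.map φ))
    (c : Cone D) (hc : IsLimit c)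
    (hqs : ∀ i, AlgSp.IsQuasiSeparatedSp (D.obj i))
    (Y : AlgSp.Space S) (hYqc : AlgSp.IsQuasiCompactSp Y.obj) (y : Y.obj ⟶ c.pt) [Mono y] (i₁ : I)
    (hYB : AlgSp.LocP @LocallyOfFiniteType (y ≫ c.π.app i₁ ≫ t.app i₁)) :
    ∃ i₀ : I, ∀ (i : I) (_ : i ⟶ i₀), Mono (y ≫ c.π.app i) := by
  classical
  -- the kernel-pair system `Z_i = Y ×_{X_i} Y`, with limit `Y`
  obtain ⟨D', hD'def⟩ : ∃ D' : I ⥤ Sp S, D' = Groth.Agent.Lib.helper5.LimMono.kerDiag D c y :=
    ⟨_, rfl⟩
  have hc' : IsLimit (Groth.Agent.Lib.helper5.LimMono.kerCone D c y) :=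
    Groth.Agent.Lib.helper5.LimMono.isLimitKerCone D c y hc i₁
  have hDobj : ∀ i, IsAlgSpace ((Groth.Agent.Lib.helper5.LimMono.kerDiag D c y).obj i) :=
    Groth.Agent.Lib.helper5.LimMono.isAlgSpace_kerDiag_obj D c y hD Y.property
  have hDa' : ∀ (i j : I) (φ : i ⟶ j),
      IsAffineMor ((Groth.Agent.Lib.helper5.LimMono.kerDiag D c y).map φ) := fun i j φ =>
    Groth.Agent.Lib.helper5.LimMono.isAffineMor_kerDiag_map D c y hDa φ
  -- `Y ⟶ X_{i₁}` is locally of finite type
  have hYB' : LocP @LocallyOfFiniteType ((y ≫ c.π.app i₁) ≫ t.app i₁) := by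
    rw [Category.assoc]; exact hYB
  have hlft : LocP @LocallyOfFiniteType (y ≫ c.π.app i₁) :=
    Groth.Agent.S9952.result (X := Y) (Y := ⟨D.obj i₁, hD i₁⟩) (Z := B)
      (ObjectProperty.homMk (y ≫ c.π.app i₁)) (ObjectProperty.homMk (t.app i₁)) hYB'
  -- the diagonal `Y ⟶ Z_{i₁}` is locally of finite presentation
  have hlfp : LocP @LocallyOfFinitePresentation (Groth.Agent.Lib.helper5.LimMono.kdiag D c y i₁) :=
    (Groth.Agent.S9960.result (X := Y) (Y := ⟨D.obj i₁, hD i₁⟩)
      (ObjectProperty.homMk (y ≫ c.π.app i₁)) hlft).1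
  -- `Z_{i₁}` is quasi-compact
  have hqcm : IsQuasiCompactMor (y ≫ c.π.app i₁) :=
    Groth.Agent.S9920.result (X := Y) (Y := ⟨D.obj i₁, hD i₁⟩)
      (ObjectProperty.homMk (y ≫ c.π.app i₁)) hYqc (hqs i₁)
  have hZqc : IsQuasiCompactSp ((Groth.Agent.Lib.helper5.LimMono.kerDiag D c y).obj i₁) :=
    hqcm Y.property hYqc (y ≫ c.π.app i₁) (Groth.Agent.Lib.helper5.LimMono.kfst D c y i₁)
      (Groth.Agent.Lib.helper5.LimMono.ksnd D c y i₁)
      (Groth.Agent.Lib.helper5.LimMono.isPullback_k D c y i₁)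
  -- the diagonal `Y ⟶ Z_{i₁}` is a closed immersion
  have hδci : RepWith @IsClosedImmersion (Groth.Agent.Lib.helper5.LimMono.kdiag D c y i₁) :=
    Groth.Agent.Lib.helper5.LimMono.repWith_isClosedImmersion_kdiag D c y hc hDa i₁
  have hδqc : RepWith @QuasiCompact (Groth.Agent.Lib.helper5.LimMono.kdiag D c y i₁) :=
    Groth.Agent.Lib.helper15.AlgSpDiag.repWith_mono_iff_le
      (fun _ _ f hf => by haveI : IsClosedImmersion f := hf; exact (inferInstance : QuasiCompact f))
      hδci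
  -- descent of étale + surjective
  have hdescE : Groth.Agent.Lib.helper5.LimDesc.SchDescent @Etale :=
    Groth.Agent.Lib.helper5.LimDesc.schDescent_of_general @Etale
      (fun E cE hcE _ j₀ _ _ _ _ f₀ g₀ _ _ _ _ _ _ _ f g qY qX hY hX hf => by
        haveI : Etale f := hf
        exact Groth.Agent.S9192.result E cE hcE j₀ f₀ g₀ f g qY qX hY hX)
  have hdesc : Groth.Agent.Lib.helper5.LimDesc.SchDescent (@Etale ⊓ @Surjective) :=
    Groth.Agent.Lib.helper5.LimDesc.SchDescent.inf hdescE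
      Groth.Agent.Lib.helper5.LimDesc.schDescent_surjective
  obtain ⟨i₂, φ₂, h₂⟩ := Groth.Agent.Lib.helper5.LimDesc.descend_charts'
    (Groth.Agent.Lib.helper5.LimMono.kerDiag D c y) hDa'
    (Groth.Agent.Lib.helper5.LimMono.kerCone D c y) hc' i₁ Y
    ⟨(Groth.Agent.Lib.helper5.LimMono.kerDiag D c y).obj i₁, hDobj i₁⟩
    (Groth.Agent.Lib.helper5.LimMono.kdiag D c y i₁) (𝟙 _) hZqc
    (fun V₀ v₀ hV₀ => Groth.Agent.Lib.helper5.LimMono.isQuasiCompactSp_pullback_of_repWith _ hδqc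
      V₀ v₀ hV₀)
    hlfp Y.obj Y.obj (𝟙 _) (Groth.Agent.Lib.helper5.LimMono.kdiag D c y i₁) (𝟙 _)
    (IsPullback.of_id_snd) (𝟙 _)
    (IsKernelPair.id_of_mono (Groth.Agent.Lib.helper5.LimMono.kdiag D c y i₁))
    (@Etale ⊓ @Surjective) hdesc
    (fun a b u comm hae _ hbe _ _ hls =>
      ⟨Groth.Agent.Lib.helper5.AlgSpWhereIso.locP_etale_of_isIso (𝟙 Y.obj) a b u hae hbe comm,
        Groth.Agent.Lib.helper5.LimDesc.surjective_chart_of_isSurjectiveMor _
          (Groth.Agent.Lib.helper5.AlgSpWhereIso.isSurjectiveMor_of_isIso (𝟙 Y.obj)) a b u comm hls⟩)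
  -- the diagonal `Y ⟶ Z_{i₂}` is an isomorphism
  have hg := h₂ Y.obj ((Groth.Agent.Lib.helper5.LimMono.kerDiag D c y).obj i₂)
    (Groth.Agent.Lib.helper5.LimMono.kdiag D c y i₂)
    ((Groth.Agent.Lib.helper5.LimMono.kerDiag D c y).map φ₂) (𝟙 _) (IsPullback.of_id_snd) (𝟙 _)
    (by
      have := (Groth.Agent.Lib.helper15.AlgSpDiag.isPullback_of_mono_comp
        (Groth.Agent.Lib.helper5.LimMono.kdiag D c y i₂)
        ((Groth.Agent.Lib.helper5.LimMono.kerDiag D c y).map φ₂)).flip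
      rw [Groth.Agent.Lib.helper5.LimMono.kdiag_map] at this
      exact this)
  have het : IsEtaleMor (Groth.Agent.Lib.helper5.LimMono.kdiag D c y i₂) :=
    Groth.Agent.S10266.isEtaleMor_of_locP_etale (hDobj i₂) _
      (Groth.Agent.Lib.helper5.LimDesc.locP_of_goodChart
        Groth.Agent.Lib.helper5.LocPBC.locPData_etale _
        (Groth.Agent.Lib.helper5.LimDesc.goodChart_mono inf_le_left hg))
  have hsurj : IsSurjectiveMor (Groth.Agent.Lib.helper5.LimMono.kdiag D c y i₂) :=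
    Groth.Agent.Lib.helper5.LimDesc.isSurjectiveMor_of_goodChart
      (Groth.Agent.Lib.helper5.LimDesc.goodChart_mono inf_le_right hg)
  have hinj : IsUnivInjectiveMor (Groth.Agent.Lib.helper5.LimMono.kdiag D c y i₂) :=
    Groth.Agent.H1.MonoSp.isUnivInjectiveMor_of_mono _
  have hoi : RepWith @IsOpenImmersion (Groth.Agent.Lib.helper5.LimMono.kdiag D c y i₂) :=
    Groth.Agent.S10261.result (X := Y)
      (Y := ⟨(Groth.Agent.Lib.helper5.LimMono.kerDiag D c y).obj i₂, hDobj i₂⟩)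
      (ObjectProperty.homMk (Groth.Agent.Lib.helper5.LimMono.kdiag D c y i₂)) het hinj
  haveI hiso : IsIso (Groth.Agent.Lib.helper5.LimMono.kdiag D c y i₂) :=
    Groth.Agent.S10194.isIso_of_openImmersion_of_surjective _ hoi hsurj
  haveI hm₂ : Mono (y ≫ c.π.app i₂) := Groth.Agent.Lib.helper5.LimMono.mono_of_isIso_kdiag D c y i₂
  refine ⟨i₂, fun i ψ => ?_⟩
  haveI : Mono ((y ≫ c.π.app i) ≫ D.map ψ) := by
    rw [Category.assoc, c.w]; exact hm₂
  exact mono_of_mono (y ≫ c.π.app i) (D.map ψ)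

end Groth.Agent.S10012
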