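import Groth.Statements.S10015
import Groth.Agent.Lib.Helper5.LimDescC
import Groth.Agent.Lib.Helper5.AlgSpImmDesc
import Groth.Agent.S2581

set_option autoImplicit false
universe u
open CategoryTheory CategoryTheory.Limits AlgebraicGeometry
open AlgSp

namespace Groth.Agent.S10015

/-- Let `S` be a quasi-separated scheme and `B` the limit, in fppf sheaves over `S`, of a cofiltered
system `(B_i)` of algebraic spaces over `S` whose transition maps are affine; fix an index `i₀` such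
that `B_{i₀}` is quasi-compact and quasi-separated over `S`, and a morphism `f₀ : X₀ ⟶ Y₀` of
algebraic spaces over `B_{i₀}` whose source and target are quasi-compact and quasi-separated over
`S`. Write `f_i` (for `i` mapping to `i₀`) and `f` for the base changes of `f₀` to `B_i` and to `B`,
given by pullback squares. If `f` is surjective and `f₀` locally of finite presentation, then for
some `i` mapping to `i₀` every such base change `f_i` is surjective. (The published statement allows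
any base scheme and uses absolute quasi-separatedness; this row assumes the base quasi-separated,
over which quasi-separatedness relative to the base is the absolute notion.) -/
theorem result (S : Scheme.{u}) [QuasiSeparatedSpace S] {I : Type u} [SmallCategory I] [IsCofiltered I]
    (D : I ⥤ AlgSp.Sp S) (hD : ∀ i, AlgSp.IsAlgSpace (D.obj i))
    (hDa : ∀ (i j : I) (φ : i ⟶ j), AlgSp.IsAffineMor (D.map φ))
    (c : Cone D) (hc : IsLimit c) (i₀ : I)
    (hBqc : AlgSp.IsQuasiCompactSp (D.obj i₀)) (hBqs : AlgSp.IsQuasiSeparatedSp (D.obj i₀))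
    (X₀ Y₀ : AlgSp.Space S) (f₀ : X₀.obj ⟶ Y₀.obj) (b₀ : Y₀.obj ⟶ D.obj i₀)
    (hXqc : AlgSp.IsQuasiCompactSp X₀.obj) (hXqs : AlgSp.IsQuasiSeparatedSp X₀.obj)
    (hYqc : AlgSp.IsQuasiCompactSp Y₀.obj) (hYqs : AlgSp.IsQuasiSeparatedSp Y₀.obj)
    (X Y : AlgSp.Sp S) (f : X ⟶ Y) (pY : Y ⟶ Y₀.obj) (qY : Y ⟶ c.pt)
    (hY : IsPullback pY qY b₀ (c.π.app i₀)) (pX : X ⟶ X₀.obj) (hX : IsPullback pX f f₀ pY)
    (hf : AlgSp.IsSurjectiveMor f) (hf₀ : AlgSp.LocP @LocallyOfFinitePresentation f₀) :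
    ∃ (i : I) (φ : i ⟶ i₀), ∀ (Xi Yi : AlgSp.Sp S) (fi : Xi ⟶ Yi) (pYi : Yi ⟶ Y₀.obj) (qYi : Yi ⟶ D.obj i)
      (_ : IsPullback pYi qYi b₀ (D.map φ)) (pXi : Xi ⟶ X₀.obj) (_ : IsPullback pXi fi f₀ pYi),
      AlgSp.IsSurjectiveMor fi := by
  have hdesc : Groth.Agent.Lib.helper5.LimDesc.SchDescent @Surjective := by
    intro J _ _ E cE hcE _ j₀ _ A₀ _ k₀ _ A k qA hA hPk
    have hY' : IsPullback (cE.π.app j₀) (𝟙 cE.pt) (𝟙 (E.obj j₀)) (cE.π.app j₀) :=
      IsPullback.of_id_snd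
    haveI : Surjective k := hPk
    haveI : LocallyOfFinitePresentation (k₀ ≫ 𝟙 (E.obj j₀)) := by
      rw [Category.comp_id]; infer_instance
    haveI : QuasiCompact (k₀ ≫ 𝟙 (E.obj j₀)) := by
      rw [Category.comp_id]; infer_instance
    haveI : QuasiSeparated (k₀ ≫ 𝟙 (E.obj j₀)) := by
      rw [Category.comp_id]; infer_instance
    obtain ⟨i, φ, Xi, Yi, fi, gi, pY', pX', h1, h2, h3⟩ :=
      Groth.Agent.S2581.result E cE hcE j₀ k₀ (𝟙 _) k (𝟙 _) (cE.π.app j₀) qA hY' hA
    haveI : IsIso gi := h1.isIso_snd_of_isIso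
    refine ⟨i, φ, Xi, fi ≫ gi, pX', ?_,
      (MorphismProperty.cancel_right_of_respectsIso @Surjective fi gi).2 h3⟩
    have := h2.paste_vert h1
    rwa [Category.comp_id] at this
  obtain ⟨i, φ, h⟩ := Groth.Agent.Lib.helper5.LimDesc.descend_charts D hDa c hc i₀ X₀ Y₀ f₀ b₀
    hXqc hYqc hYqs hf₀ X Y f pY qY hY pX hX @Surjective hdesc (by
      intro U W a b u comm _ _ _ _ _ hls
      refine ⟨fun w => ?_⟩
      obtain ⟨x, hx⟩ := hf (Points.ofPt b w)
      have sqP : IsPullback (pullback.fst f b) (pullback.snd f b) f b := IsPullback.of_hasPullback _ _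
      rw [Points.ofPt_eq_map_ofScheme] at hx
      obtain ⟨z, -, hz⟩ := Groth.Agent.Lib.helper10.exists_point_of_isPullback sqP x _ hx
      obtain ⟨t, ht⟩ := Groth.Agent.Lib.helper11.surjective_ofPt _ hls z
      refine ⟨t, ?_⟩
      apply Groth.Agent.Lib.helper5.ImmDesc.ofScheme_injective W
      rw [← hz, ← ht, Points.map_ofPt, pullback.lift_snd, Groth.Agent.Lib.helper11.ofPt_yon_map])
  refine ⟨i, φ, fun Xi Yi fi pYi qYi hYi pXi hXi => ?_⟩
  obtain ⟨U, W, a, b, u, comm, -, -, -, hbs, -, -, hu⟩ := h Xi Yi fi pYi qYi hYi pXi hXi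
  intro y
  obtain ⟨w, rfl⟩ := Groth.Agent.Lib.helper11.surjective_ofPt b hbs y
  obtain ⟨t, rfl⟩ := hu.surj w
  refine ⟨Points.ofPt a t, ?_⟩
  rw [Points.map_ofPt, comm, Groth.Agent.Lib.helper11.ofPt_yon_map_comp]

end Groth.Agent.S10015
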