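import Groth.Statements.S10020
import Groth.Agent.Lib.Helper5.LimRepA
import Groth.Agent.Lib.Helper5.LimDescG
import Groth.Agent.Lib.Helper5.LimSpB

set_option autoImplicit false
universe u
open CategoryTheory CategoryTheory.Limits AlgebraicGeometry
open AlgSp

namespace Groth.Agent.S10020

/-- Let `S` be a quasi-separated scheme and `B` the limit, in fppf sheaves over `S`, of a cofiltered
system `(B_i)` of algebraic spaces over `S` whose transition maps are affine; fix an index `i₀` such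
that `B_{i₀}` is quasi-compact and quasi-separated over `S`, and a morphism `f₀ : X₀ ⟶ Y₀` of
algebraic spaces over `B_{i₀}` whose source and target are quasi-compact and quasi-separated over
`S`. Write `f_i` (for `i` mapping to `i₀`) and `f` for the base changes of `f₀` to `B_i` and to `B`,
given by pullback squares. If `f` is separated (no finiteness condition on `f₀`), then for some `i`
mapping to `i₀` every such base change `f_i` is separated. (The published statement allows any base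
scheme and uses absolute quasi-separatedness; this row assumes the base quasi-separated, over which
quasi-separatedness relative to the base is the absolute notion.) -/
theorem result (S : Scheme.{u}) [QuasiSeparatedSpace S] {I : Type u} [SmallCategory I] [IsCofiltered I]
    (D : I ⥤ AlgSp.Sp S) (hD : ∀ i, AlgSp.IsAlgSpace (D.obj i))
    (hDa : ∀ (i j : I) (φ : i ⟶ j), AlgSp.IsAffineMor (D.map φ))
    (c : Cone D) (hc : IsLimit c) (i₀ : I)
    (hBqc : AlgSp.IsQuasiCompactSp (D.obj i₀)) (hBqs : AlgSp.IsQuasiSeparatedSp (D.obj i₀))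
    (X₀ Y₀ : AlgSp.Space S) (f₀ : X₀.obj ⟶ Y₀.obj) (b₀ : Y₀.obj ⟶ D.obj i₀)
    (hXqc : AlgSp.IsQuasiCompactSp X₀.obj) (hXqs : AlgSp.IsQuasiSeparatedSp X₀.obj)
    (hYqc : AlgSp.IsQuasiCompactSp Y₀.obj) (hYqs : AlgSp.IsQuasiSeparatedSp Y₀.obj)
    (X Y : AlgSp.Sp S) (f : X ⟶ Y) (pY : Y ⟶ Y₀.obj) (qY : Y ⟶ c.pt)
    (hY : IsPullback pY qY b₀ (c.π.app i₀)) (pX : X ⟶ X₀.obj) (hX : IsPullback pX f f₀ pY)
    (hf : AlgSp.IsSeparatedMor f) :
    ∃ (i : I) (φ : i ⟶ i₀), ∀ (Xi Yi : AlgSp.Sp S) (fi : Xi ⟶ Yi) (pYi : Yi ⟶ Y₀.obj) (qYi : Yi ⟶ D.obj i)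
      (_ : IsPullback pYi qYi b₀ (D.map φ)) (pXi : Xi ⟶ X₀.obj) (_ : IsPullback pXi fi f₀ pYi),
      AlgSp.IsSeparatedMor fi := by
  have sqZ₀ : IsPullback (pullback.fst f₀ f₀) (pullback.snd f₀ f₀) f₀ f₀ := IsPullback.of_hasPullback _ _
  have hZ₀ : IsAlgSpace (pullback f₀ f₀) :=
    Groth.Agent.Lib.helper5.isAlgSpace_of_isPullback Y₀.property.diag X₀.property X₀.property sqZ₀
  have hf₀qc : IsQuasiCompactMor f₀ :=
    Groth.Agent.S9920.result (X := X₀) (Y := Y₀) (ObjectProperty.homMk f₀) hXqc hYqs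
  have hZ₀qc : IsQuasiCompactSp (pullback f₀ f₀) :=
    hf₀qc X₀.property hXqc f₀ (pullback.fst f₀ f₀) (pullback.snd f₀ f₀) sqZ₀
  have hδqc : RepWith @QuasiCompact (pullback.diagonal f₀) :=
    (repWith_isStableUnderBaseChange (S := S) @QuasiCompact).of_isPullback
      (Groth.Agent.Lib.helper15.AlgSpDiag.isPullback_diagonal_diag f₀) hXqs
  obtain ⟨-, hδlft, -, hδsep, -⟩ :=
    Groth.Agent.Lib.helper15.AlgSpDiag.repWith_diagonal_properties X₀.property f₀
  have hδqs : RepWith @QuasiSeparated (pullback.diagonal f₀) :=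
    Groth.Agent.Lib.helper15.AlgSpDiag.repWith_mono_iff_le
      (fun _ _ f hf => by haveI : IsSeparated f := hf; exact (inferInstance : QuasiSeparated f)) hδsep
  have hYnew : IsPullback (Groth.Agent.Lib.helper5.LimDesc.diagMap hX) (pullback.fst f f ≫ f ≫ qY)
      (pullback.fst f₀ f₀ ≫ f₀ ≫ b₀) (c.π.app i₀) := by
    have := (Groth.Agent.Lib.helper5.LimDesc.isPullback_diagMap hX).paste_vert hY
    simpa only [Category.assoc] using this
  obtain ⟨i, φ, h⟩ := Groth.Agent.Lib.helper5.LimDesc.descend_rep_closedImmersion D hD hDa c hc i₀ X₀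
    ⟨pullback f₀ f₀, hZ₀⟩ (pullback.diagonal f₀) (pullback.fst f₀ f₀ ≫ f₀ ≫ b₀) hZ₀qc hδqc hδqs hδlft
    X (pullback f f) (pullback.diagonal f) (Groth.Agent.Lib.helper5.LimDesc.diagMap hX)
    (pullback.fst f f ≫ f ≫ qY) hYnew pX (Groth.Agent.Lib.helper5.LimDesc.isPullback_diagonal hX) hf
  refine ⟨i, φ, fun Xi Yi fi pYi qYi hYi pXi hXi => ?_⟩
  have hYnew' : IsPullback (Groth.Agent.Lib.helper5.LimDesc.diagMap hXi) (pullback.fst fi fi ≫ fi ≫ qYi)
      (pullback.fst f₀ f₀ ≫ f₀ ≫ b₀) (D.map φ) := by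
    have := (Groth.Agent.Lib.helper5.LimDesc.isPullback_diagMap hXi).paste_vert hYi
    simpa only [Category.assoc] using this
  exact h Xi (pullback fi fi) (pullback.diagonal fi) (Groth.Agent.Lib.helper5.LimDesc.diagMap hXi)
    (pullback.fst fi fi ≫ fi ≫ qYi) hYnew' pXi (Groth.Agent.Lib.helper5.LimDesc.isPullback_diagonal hXi)

end Groth.Agent.S10020
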