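import Groth.Statements.S10025
import Mathlib
import Groth.Agent.Lib.Helper21.RelLim
-- import your own Groth.Agent.* helpers here

set_option autoImplicit false
universe u
open CategoryTheory CategoryTheory.Limits AlgebraicGeometry
open AlgSp

namespace Groth.Agent.S10025

/-- The composite of two relatively limit preserving transformations of presheaves of sets on schemes
over `S` is relatively limit preserving. -/
theorem result (S : Scheme.{u}) {F G H : AlgSp.PSp S} (a : F ⟶ G) (b : G ⟶ H)
    (ha : AlgSp.IsRelLimitPreserving a) (hb : AlgSp.IsRelLimitPreserving b) :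
    AlgSp.IsRelLimitPreserving (a ≫ b) := by
  open Groth.Agent.Lib.Helper21.RelLim in
  exact (isRel_iff_EL _).mpr (EL_comp a b ((isRel_iff_EL _).mp ha) ((isRel_iff_EL _).mp hb))

end Groth.Agent.S10025
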