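import Groth.Statements.S1005
import Mathlib
import Groth.Agent.Lib.Helper13.PCStalk4
import Groth.Agent.S1039
import Groth.Agent.S0563
-- import your own Groth.Agent.* helpers here

set_option autoImplicit false
universe u
open CategoryTheory CategoryTheory.Limits AlgebraicGeometry
attribute [local instance] HasDerivedCategory.standard
open Perf

namespace Groth.Agent.S1005

/-- Let X be a locally Noetherian scheme all of whose local rings are regular. Then every object of
D(O_X) with bounded, coherent cohomology is perfect. -/
theorem result (X : Scheme.{u}) [IsLocallyNoetherian X]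
    (hreg : ∀ x : X, IsRegularLocalRing (X.presheaf.stalk x))
    (K : DCoh.D X) (a b : ℤ) [K.IsGE a] [K.IsLE b] (hK : DCoh.IsCohD K) : DCoh.IsPerfect K := by
  obtain ⟨F, ⟨e⟩⟩ := Groth.Agent.Lib.helper25.DCohRestrict.exists_rep K
  refine Groth.Agent.Lib.helper25.DCohPerfect.isPerfect_of_iso e ?_
  haveI : (DCoh.toD X F).IsGE a := DerivedCategory.TStructure.t.isGE_of_iso e.symm a
  haveI : (DCoh.toD X F).IsLE b := DerivedCategory.TStructure.t.isLE_of_iso e.symm b
  have hpc : ∀ m : ℤ, DCoh.IsPseudoCoherentD m (DCoh.toD X F) := by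
    intro m
    refine Groth.Agent.S1039.pc_of_coherent_homology m (b - m + 1).toNat (DCoh.toD X F) ?_ ?_
    · intro i hi
      have := Int.self_le_toNat (b - m + 1)
      exact DerivedCategory.isZero_of_isLE (DCoh.toD X F) b i (by omega)
    · intro i _
      exact Groth.Agent.Lib.helper7.CohKer.isCoh_of_iso
        ((DerivedCategory.homologyFunctor _ i).mapIso e.symm) (hK i)
  intro x
  haveI := hreg x
  have h1 := IsRegularLocalRing.spanFinrank_maximalIdeal (R := X.presheaf.stalk x)
  have hF : ∀ i : ℤ, (i < a ∨ b < i) → IsZero (F.homology i) := by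
    intro i hi
    have h1 : IsZero ((DerivedCategory.homologyFunctor X.Modules i).obj (DCoh.toD X F)) := by
      rcases hi with hi | hi
      · exact DerivedCategory.isZero_of_isGE (DCoh.toD X F) a i hi
      · exact DerivedCategory.isZero_of_isLE (DCoh.toD X F) b i hi
    exact h1.of_iso ((DerivedCategory.homologyFunctorFactors X.Modules i).app F).symm
  have hcd : ∀ i : ℤ, (i < a ∨ b < i) →
      IsZero ((DerivedCategory.homologyFunctor (ModuleCat.{u} (X.presheaf.stalk x)) i).obj
        (DRing.toD ((Groth.Agent.Lib.helper13.StalkD.stalkCx x).obj F))) := by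
    intro i hi
    have h2 := Groth.Agent.Lib.Helper25.StalkKFlat.isZero_homology_map (DerSch.stalkFunctor X x) F i
      (hF i hi)
    exact h2.of_iso ((DerivedCategory.homologyFunctorFactors _ i).app _)
  have hamp := Groth.Agent.Lib.helper23.TA.hasTorAmplitudeIn_of_globalDimension
    (IsLocalRing.maximalIdeal (X.presheaf.stalk x)).spanFinrank
    (fun M => Groth.Agent.S0563.result (X.presheaf.stalk x) _ h1.symm M)
    (DRing.toD ((Groth.Agent.Lib.helper13.StalkD.stalkCx x).obj F)) a b hcd
  exact Groth.Agent.Lib.helper13.PCStalk.isPerfect_at_of_pseudoCoherent_of_stalk F a b hpc x _ b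
    (by omega) hamp

end Groth.Agent.S1005
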