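import Groth.Statements.S10053
import Groth.Agent.Lib.Helper5.UCAffD
import Groth.Agent.Lib.Helper5.SchemeBridge
import Groth.Agent.Lib.Helper5.FppfBoot2
import Groth.Agent.Lib.Helper1.LocPStable

set_option autoImplicit false
universe u
open CategoryTheory CategoryTheory.Limits AlgebraicGeometry
open AlgSp

namespace Groth.Agent.S10053

/-- For a quasi-compact morphism `f : X ⟶ Y` of algebraic spaces over `S` these conditions are
equivalent: (1) `f` is universally closed; (2) for every `Z ⟶ Y` locally of finite presentation,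
with `Z` an algebraic space, the map `|X ×_Y Z| → |Z|` is closed; (3) for some scheme `V` with a
surjective etale morphism `V ⟶ Y`, the maps `|X ×_Y 𝐀^n_V| → |𝐀^n_V|` are closed for all `n`. Stated
as (1) ↔ (2) and (1) ↔ (3). -/
theorem result (S : Scheme.{u}) {X Y : AlgSp.Space S} (f : X ⟶ Y)
    (hqc : AlgSp.IsQuasiCompactMor f.hom) :
    (AlgSp.IsUnivClosedMor f.hom ↔
      ∀ (Z : AlgSp.Space S) (g : Z ⟶ Y), AlgSp.LocP @LocallyOfFinitePresentation g.hom →
        ∀ (P : AlgSp.Sp S) (fst : P ⟶ X.obj) (snd : P ⟶ Z.obj), IsPullback fst snd f.hom g.hom →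
          IsClosedMap (AlgSp.Points.map snd)) ∧
    (AlgSp.IsUnivClosedMor f.hom ↔
      ∃ (V : Over S) (p : (AlgSp.yon S).obj V ⟶ Y.obj), AlgSp.RepWith @Etale p ∧ AlgSp.RepWith @Surjective p ∧
        ∀ (n : ℕ) (P : AlgSp.Sp S) (fst : P ⟶ X.obj)
          (snd : P ⟶ (AlgSp.yon S).obj (Over.mk ((𝔸(ULift.{u} (Fin n); V.left) ↘ V.left) ≫ V.hom))),
          IsPullback fst snd f.hom ((AlgSp.yon S).map (Over.homMk (𝔸(ULift.{u} (Fin n); V.left) ↘ V.left)) ≫ p) →
            IsClosedMap (AlgSp.Points.map snd)) := by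
  open Groth.Agent.Lib.helper5 Groth.Agent.Lib.helper5.UCAff in
  -- (1) ⇒ closedness for the affine spaces over a chart
  have h13 : AlgSp.IsUnivClosedMor f.hom →
      ∃ (V : Over S) (p : (AlgSp.yon S).obj V ⟶ Y.obj), AlgSp.RepWith @Etale p ∧ AlgSp.RepWith @Surjective p ∧
        ∀ (n : ℕ) (P : AlgSp.Sp S) (fst : P ⟶ X.obj)
          (snd : P ⟶ (AlgSp.yon S).obj (Over.mk ((𝔸(ULift.{u} (Fin n); V.left) ↘ V.left) ≫ V.hom))),
          IsPullback fst snd f.hom ((AlgSp.yon S).map (Over.homMk (𝔸(ULift.{u} (Fin n); V.left) ↘ V.left)) ≫ p) →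
            IsClosedMap (AlgSp.Points.map snd) := by
    intro hf
    obtain ⟨V, p, hpe, hps⟩ := Y.property.atlas
    exact ⟨V, p, hpe, hps, fun n P fst snd sq => hf (IsAlgSpace.yon_obj _) _ fst snd sq⟩
  have h31 : (∃ (V : Over S) (p : (AlgSp.yon S).obj V ⟶ Y.obj), AlgSp.RepWith @Etale p ∧
      AlgSp.RepWith @Surjective p ∧
        ∀ (n : ℕ) (P : AlgSp.Sp S) (fst : P ⟶ X.obj)
          (snd : P ⟶ (AlgSp.yon S).obj (Over.mk ((𝔸(ULift.{u} (Fin n); V.left) ↘ V.left) ≫ V.hom))),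
          IsPullback fst snd f.hom ((AlgSp.yon S).map (Over.homMk (𝔸(ULift.{u} (Fin n); V.left) ↘ V.left)) ≫ p) →
            IsClosedMap (AlgSp.Points.map snd)) → AlgSp.IsUnivClosedMor f.hom := by
    rintro ⟨V, p, hpe, hps, hcl⟩
    exact isUnivClosedMor_of_affineSpace f.hom hqc V p hpe hps hcl
  refine ⟨⟨fun hf Z g _ P fst snd sq => hf Z.property g.hom fst snd sq, fun h2 => ?_⟩, ⟨h13, h31⟩⟩
  obtain ⟨V, p, hpe, hps⟩ := Y.property.atlas
  refine h31 ⟨V, p, hpe, hps, fun n P fst snd sq => ?_⟩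
  have hlfp : AlgSp.LocP @LocallyOfFinitePresentation
      ((AlgSp.yon S).map (Over.homMk (𝔸(ULift.{u} (Fin n); V.left) ↘ V.left) :
        Over.mk ((𝔸(ULift.{u} (Fin n); V.left) ↘ V.left) ≫ V.hom) ⟶ V) ≫ p) := by
    refine Groth.Agent.H1.LocPStable.locP_comp LocPBC.locPData_lfp.descend (IsAlgSpace.yon_obj V) _ _
      (Bridge.locP_yon_map LocPBC.locPData_lfp _ ?_)
      (FppfBoot.locP_of_repWith_etale _ (fun f hf => by haveI := hf; infer_instance) p hpe)
    change LocallyOfFinitePresentation (𝔸(ULift.{u} (Fin n); V.left) ↘ V.left)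
    infer_instance
  exact h2 ⟨_, IsAlgSpace.yon_obj _⟩ (ObjectProperty.homMk _) hlfp P fst snd sq

end Groth.Agent.S10053
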