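import Groth.Statements.S10055
import Groth.Agent.Lib.Helper5.AlgSpCoprod5
import Groth.Agent.Lib.Helper5.AlgSpProperSurj
import Groth.Agent.Lib.Helper1.BootE

set_option autoImplicit false
universe u
open CategoryTheory CategoryTheory.Limits AlgebraicGeometry
open AlgSp

namespace Groth.Agent.S10055

/-- Let `(X_i) ⟶ (Y_i)` be a morphism of cofiltered systems of algebraic spaces over `S`, both with
affine transition morphisms, with every `X_i ⟶ Y_i` a closed immersion. Then the induced morphism of
limits (in fppf sheaves) `lim X_i ⟶ lim Y_i` is a closed immersion. -/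
theorem result (S : Scheme.{u}) {I : Type u} [SmallCategory I] [IsCofiltered I]
    (DX DY : I ⥤ AlgSp.Sp S) (hDX : ∀ i, AlgSp.IsAlgSpace (DX.obj i)) (hDY : ∀ i, AlgSp.IsAlgSpace (DY.obj i))
    (hXa : ∀ (i j : I) (φ : i ⟶ j), AlgSp.IsAffineMor (DX.map φ)) (hYa : ∀ (i j : I) (φ : i ⟶ j), AlgSp.IsAffineMor (DY.map φ))
    (τ : DX ⟶ DY) (hτ : ∀ i, AlgSp.RepWith @IsClosedImmersion (τ.app i))
    (cX : Cone DX) (hcX : IsLimit cX) (cY : Cone DY) (hcY : IsLimit cY)
    (g : cX.pt ⟶ cY.pt) (hg : ∀ i, g ≫ cY.π.app i = cX.π.app i ≫ τ.app i) :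
    AlgSp.RepWith @IsClosedImmersion g := by
  classical
  have hτm : ∀ i, Mono (τ.app i) := fun i => Groth.Agent.Lib.helper5.ProperSurj.mono_of_closedImmersion (hτ i)
  haveI : Mono g := ⟨fun a b hab => hcX.hom_ext (fun i => by
    haveI := hτm i
    rw [← cancel_mono (τ.app i), Category.assoc, Category.assoc, ← hg, ← Category.assoc,
      ← Category.assoc, hab])⟩
  refine Groth.Agent.Lib.helper5.Coprod.repWith_of_forall_exists @IsClosedImmersion g (fun T t => ?_)
  choose W s f sq using fun i => (hτ i).rep (t ≫ cY.π.app i)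
  have hs : ∀ i, IsClosedImmersion (s i).left := fun i => (hτ i).2 _ _ _ (sq i)
  let J : T.left.IdealSheafData := ⨆ i, (s i).left.ker
  let Wo : Over S := Over.mk (J.subschemeι ≫ T.hom)
  let snd : Wo ⟶ T := Over.homMk J.subschemeι rfl
  have hsndker : snd.left.ker = J := Scheme.IdealSheafData.ker_subschemeι J
  haveI hsndci : IsClosedImmersion snd.left := inferInstanceAs (IsClosedImmersion J.subschemeι)
  have hle : ∀ i, (s i).left.ker ≤ snd.left.ker := fun i => by
    rw [hsndker]
    exact le_iSup (fun i => (s i).left.ker) i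
  let l : ∀ i, Wo ⟶ W i := fun i =>
    haveI := hs i
    Over.homMk (IsClosedImmersion.lift (s i).left snd.left (hle i)) (by
      rw [← Over.w (s i), ← Category.assoc, IsClosedImmersion.lift_fac]
      rfl)
  have hl : ∀ i, l i ≫ s i = snd := fun i => by
    haveI := hs i
    apply Over.OverMorphism.ext
    exact IsClosedImmersion.lift_fac _ _ _
  have key : ∀ i, ((AlgSp.yon S).map (l i) ≫ f i) ≫ τ.app i =
      (AlgSp.yon S).map snd ≫ t ≫ cY.π.app i := fun i => by
    rw [Category.assoc, (sq i).w, ← Category.assoc, ← Functor.map_comp, hl]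
  let cn : Cone DX :=
    { pt := (AlgSp.yon S).obj Wo
      π :=
        { app := fun i => (AlgSp.yon S).map (l i) ≫ f i
          naturality := fun i j φ => by
            haveI := hτm j
            rw [← cancel_mono (τ.app j)]
            change (𝟙 _ ≫ (AlgSp.yon S).map (l j) ≫ f j) ≫ τ.app j =
              (((AlgSp.yon S).map (l i) ≫ f i) ≫ DX.map φ) ≫ τ.app j
            rw [Category.id_comp, key, Category.assoc, τ.naturality φ,
              ← Category.assoc ((AlgSp.yon S).map (l i) ≫ f i), key, Category.assoc, Category.assoc,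
              cY.w φ] } }
  have hfst : ∀ i, hcX.lift cn ≫ cX.π.app i = (AlgSp.yon S).map (l i) ≫ f i := fun i => hcX.fac cn i
  have comm : hcX.lift cn ≫ g = (AlgSp.yon S).map snd ≫ t := by
    refine hcY.hom_ext (fun i => ?_)
    rw [Category.assoc, hg, ← Category.assoc, hfst, key, Category.assoc]
  haveI : Mono ((AlgSp.yon S).map snd) :=
    Groth.Agent.Lib.helper5.ProperSurj.mono_of_closedImmersion
      ((AlgSp.repWith_yon_map_iff @IsClosedImmersion snd).2 hsndci)
  refine ⟨Wo, snd, hcX.lift cn, ?_, hsndci⟩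
  refine Groth.Agent.H1.Boot.isPullback_of_mono_of_yon g t (hcX.lift cn) ((AlgSp.yon S).map snd) comm ?_
  intro U x y hxy
  obtain ⟨β, rfl⟩ := (AlgSp.yon S).map_surjective y
  have hc : ∀ i, ∃ c : U ⟶ W i, c ≫ s i = β := fun i => by
    have hw : (x ≫ cX.π.app i) ≫ τ.app i = (AlgSp.yon S).map β ≫ t ≫ cY.π.app i := by
      rw [Category.assoc, ← hg, ← Category.assoc, hxy, Category.assoc]
    obtain ⟨c, hc⟩ := (AlgSp.yon S).map_surjective ((sq i).lift _ _ hw)
    refine ⟨c, (AlgSp.yon S).map_injective ?_⟩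
    rw [Functor.map_comp, hc]
    exact (sq i).lift_snd _ _ _
  have hβ : snd.left.ker ≤ β.left.ker := by
    rw [hsndker]
    refine iSup_le (fun i => ?_)
    obtain ⟨c, hc⟩ := hc i
    rw [← hc, Over.comp_left]
    exact Scheme.Hom.le_ker_comp _ _
  refine ⟨(AlgSp.yon S).map (Over.homMk (IsClosedImmersion.lift snd.left β.left hβ) ?_ : U ⟶ Wo), ?_⟩
  · change IsClosedImmersion.lift snd.left β.left hβ ≫ J.subschemeι ≫ T.hom = U.hom
    rw [← Over.w β, ← Category.assoc]
    congr 1
    exact IsClosedImmersion.lift_fac snd.left β.left hβ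
  · rw [← Functor.map_comp]
    congr 1
    apply Over.OverMorphism.ext
    exact IsClosedImmersion.lift_fac snd.left β.left hβ

end Groth.Agent.S10055
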