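import Groth.Statements.S10057
import Groth.Agent.Lib.Helper5.LimSpPtB

set_option autoImplicit false
universe u
open CategoryTheory CategoryTheory.Limits AlgebraicGeometry
open AlgSp

namespace Groth.Agent.S10057

/-- Let `X` be the limit, in fppf sheaves over `S`, of a cofiltered system `(X_i)` of decent algebraic
spaces over `S` with affine transition morphisms. Then `|X| = lim |X_i|` as sets: the projections
separate the points of `X`, and every compatible family of points `(x_i ∈ |X_i|)` comes from a point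
of `X`. -/
theorem result (S : Scheme.{u}) {I : Type u} [SmallCategory I] [IsCofiltered I]
    (D : I ⥤ AlgSp.Sp S) (hD : ∀ i, AlgSp.IsAlgSpace (D.obj i))
    (hDa : ∀ (i j : I) (φ : i ⟶ j), AlgSp.IsAffineMor (D.map φ))
    (c : Cone D) (hc : IsLimit c)
    (hdec : ∀ i, AlgSp.IsDecent (D.obj i)) :
    (∀ x x' : AlgSp.Points c.pt, (∀ i, AlgSp.Points.map (c.π.app i) x = AlgSp.Points.map (c.π.app i) x') → x = x') ∧
    (∀ s : ∀ i, AlgSp.Points (D.obj i), (∀ (i j : I) (φ : i ⟶ j), AlgSp.Points.map (D.map φ) (s i) = s j) →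
      ∃ x : AlgSp.Points c.pt, ∀ i, AlgSp.Points.map (c.π.app i) x = s i) := by
  open Groth.Agent.Lib.helper5.LimSpPt in
  -- the key: for a compatible family of points there is a universal point of the limit
  have key : ∀ s : ∀ i, AlgSp.Points (D.obj i),
      (∀ (i j : I) (φ : i ⟶ j), AlgSp.Points.map (D.map φ) (s i) = s j) →
      ∃ x : AlgSp.Points c.pt, (∀ i, AlgSp.Points.map (c.π.app i) x = s i) ∧
        ∀ x' : AlgSp.Points c.pt, (∀ i, AlgSp.Points.map (c.π.app i) x' = s i) → x' = x := by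
    intro s hs
    choose p hp hm hq using fun i => hdec i (s i)
    have hr : ∀ i, AlgSp.Representable (p i).toHom := fun i => (hq i).rep
    have hcompat : ∀ ⦃i j : I⦄ (φ : i ⟶ j),
        AlgSp.Points.mk ((p i).map (D.map φ)) = AlgSp.Points.mk (p j) := by
      intro i j φ
      rw [← AlgSp.Points.map_mk, hp i, hs i j φ, hp j]
    obtain ⟨X, hX1, hX2⟩ := exists_limit_point D p hm hr hcompat c hc
    refine ⟨AlgSp.Points.mk X, fun i => ?_, fun x' hx' => ?_⟩
    · rw [AlgSp.Points.map_mk, hX1 i, hp i]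
    · obtain ⟨q, rfl⟩ := AlgSp.Points.mk_surjective x'
      refine hX2 q (fun i => ?_)
      rw [← AlgSp.Points.map_mk, hx' i, hp i]
  refine ⟨fun x x' hxx' => ?_, fun s hs => ?_⟩
  · have hs : ∀ (i j : I) (φ : i ⟶ j), AlgSp.Points.map (D.map φ) (AlgSp.Points.map (c.π.app i) x) =
        AlgSp.Points.map (c.π.app j) x := by
      intro i j φ
      rw [← AlgSp.Points.map_comp, c.w φ]
    obtain ⟨y, -, hy⟩ := key (fun i => AlgSp.Points.map (c.π.app i) x) hs
    rw [hy x (fun i => rfl), hy x' (fun i => (hxx' i).symm)]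
  · obtain ⟨x, hx, -⟩ := key s hs
    exact ⟨x, hx⟩

end Groth.Agent.S10057
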