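import Groth.Statements.S1006
import Mathlib
import Groth.Agent.Lib.Helper25.DCohHomology

set_option autoImplicit false
universe u
open CategoryTheory CategoryTheory.Limits AlgebraicGeometry
attribute [local instance] HasDerivedCategory.standard
open Perf

namespace Groth.Agent.S1006

/-- On a Noetherian scheme X every perfect object of D(O_X) has coherent cohomology sheaves and is
bounded. -/
theorem result (X : Scheme.{u}) [IsNoetherian X] (E : DCoh.D X) (hE : DCoh.IsPerfect E) :
    DCoh.IsCohD E ∧ ∃ a b : ℤ, E.IsGE a ∧ E.IsLE b := by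
  have H := fun x => Groth.Agent.Lib.helper25.DCohPerfect.exists_restrictD_iso_of_isPerfect hE x
  choose V hxV C hC e using H
  have hcov : ⨆ x, V x = ⊤ := by
    rw [eq_top_iff]
    intro x _
    exact TopologicalSpace.Opens.mem_iSup.mpr ⟨x, hxV x⟩
  have key : ∀ (x : X) (i : ℤ), Nonempty ((Scheme.Modules.restrictFunctor (V x).ι).obj (DCoh.HD E i) ≅
      (C x).homology i) := fun x i =>
    Groth.Agent.Lib.helper25.DCohHomology.nonempty_HD_restrict_iso_homology (V x).ι E (C x) (e x) i
  constructor
  · intro i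
    refine Groth.Agent.Lib.helper25.DCohHomology.isCoh_of_cover (DCoh.HD E i) V hcov (fun x => ?_)
    obtain ⟨a⟩ := key x i
    exact Groth.Agent.Lib.helper7.CohKer.isCoh_of_iso a.symm
      (Groth.Agent.Lib.helper25.DCohHomology.isCoh_homology_of_isStrictlyPerfect (hC x) i)
  · -- finite subcover
    obtain ⟨t, ht⟩ := isCompact_univ.elim_finite_subcover (fun x : X => ((V x : X.Opens) : Set X))
      (fun x => (V x).isOpen) (fun x _ => Set.mem_iUnion.mpr ⟨x, hxV x⟩)
    have hcov' : ⨆ x : t, V x.1 = ⊤ := by
      rw [eq_top_iff]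
      intro x _
      obtain ⟨y, hy⟩ := Set.mem_iUnion.mp (ht (Set.mem_univ x))
      obtain ⟨hyt, hxy⟩ := Set.mem_iUnion.mp hy
      exact TopologicalSpace.Opens.mem_iSup.mpr ⟨⟨y, hyt⟩, hxy⟩
    have hb := fun x => (hC x).1
    choose lo hi hlohi using hb
    obtain ⟨a, ha⟩ := (t.image (fun x => - lo x)).exists_le
    obtain ⟨b, hb⟩ := (t.image hi).exists_le
    refine ⟨-a, b, (DerivedCategory.isGE_iff _ _).2 ?_, (DerivedCategory.isLE_iff _ _).2 ?_⟩
    · intro i hia
      refine Groth.Agent.Lib.helper25.DCohHomology.isZero_of_cover _ (fun x : t => V x.1) hcov' (fun x => ?_)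
      obtain ⟨iso⟩ := key x.1 i
      refine IsZero.of_iso ?_ iso
      have hz : IsZero ((C x.1).X i) := hlohi x.1 i (Or.inl (by
        have := ha (- lo x.1) (Finset.mem_image_of_mem (fun x => - lo x) x.2)
        omega))
      exact HomologicalComplex.ExactAt.isZero_homology (ShortComplex.exact_of_isZero_X₂ _ hz)
    · intro i hib
      refine Groth.Agent.Lib.helper25.DCohHomology.isZero_of_cover _ (fun x : t => V x.1) hcov' (fun x => ?_)
      obtain ⟨iso⟩ := key x.1 i
      refine IsZero.of_iso ?_ iso
      have hz : IsZero ((C x.1).X i) := hlohi x.1 i (Or.inr (by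
        have := hb (hi x.1) (Finset.mem_image_of_mem hi x.2)
        omega))
      exact HomologicalComplex.ExactAt.isZero_homology (ShortComplex.exact_of_isZero_X₂ _ hz)

end Groth.Agent.S1006
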