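import Groth.Statements.S10290
import Mathlib.AlgebraicGeometry.Morphisms.ClosedImmersion
-- import your own Groth.Agent.* helpers here

set_option autoImplicit false
universe u
open CategoryTheory CategoryTheory.Limits AlgebraicGeometry
open AlgSp

namespace Groth.Agent.S10290

/-- A separated morphism of algebraic spaces satisfies the uniqueness part of the valuative criterion. -/
theorem result {S : Scheme.{u}} {X Y : AlgSp.Space S} (f : X ⟶ Y)
    (hf : AlgSp.IsSeparatedMor f.hom) : AlgSp.UniqVC f.hom := by
  intro sq l l' h1 h2 h1' h2'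
  have hrep := hf.rep
  let d : (AlgSp.yon S).obj sq.ptA ⟶ pullback f.hom f.hom := pullback.lift l l' (h2.trans h2'.symm)
  have hpb := hrep.isPullback d
  have hci : IsClosedImmersion (hrep.snd d).left := hf.property_snd d
  have hK : sq.top ≫ pullback.diagonal f.hom = (AlgSp.yon S).map sq.j ≫ d := by
    apply pullback.hom_ext
    · rw [Category.assoc, pullback.diagonal_fst, Category.comp_id, Category.assoc,
        pullback.lift_fst, h1]
    · rw [Category.assoc, pullback.diagonal_snd, Category.comp_id, Category.assoc,
        pullback.lift_snd, h1']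
  have hk₀ : hrep.lift sq.top sq.j hK ≫ hrep.snd d = sq.j := hrep.lift_snd _ _ _
  have hinj : Function.Injective (hrep.snd d).left.appTop := by
    have h3 : (hrep.lift sq.top sq.j hK).left ≫ (hrep.snd d).left = sq.j.left := by
      rw [← Over.comp_left, hk₀]
    have h4 : (hrep.snd d).left.appTop ≫ (hrep.lift sq.top sq.j hK).left.appTop =
        sq.j.left.appTop := by
      rw [← Scheme.Hom.comp_appTop, h3]
    have h5 : Function.Injective sq.j.left.appTop := by
      have h6 : sq.j.left.appTop ≫ (Scheme.ΓSpecIso (CommRingCat.of sq.K)).hom =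
          (Scheme.ΓSpecIso (CommRingCat.of sq.A)).hom ≫
            CommRingCat.ofHom (algebraMap sq.A sq.K) := Scheme.ΓSpecIso_naturality _
      intro a b hab
      have h7 := congrArg (fun t => (Scheme.ΓSpecIso (CommRingCat.of sq.K)).hom t) hab
      have h8 : ∀ x, (Scheme.ΓSpecIso (CommRingCat.of sq.K)).hom (sq.j.left.appTop x) =
          algebraMap sq.A sq.K ((Scheme.ΓSpecIso (CommRingCat.of sq.A)).hom x) := fun x => by
        have := congrArg (fun t => t.hom x) h6
        exact this
      simp only [h8] at h7
      have h9 := IsFractionRing.injective sq.A sq.K h7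
      exact (ConcreteCategory.bijective_of_isIso (Scheme.ΓSpecIso (CommRingCat.of sq.A)).hom).1 h9
    intro a b hab
    apply h5
    rw [← h4]
    simp only [CommRingCat.comp_apply, hab]
  have haff : IsAffine sq.ptA.left := inferInstanceAs (IsAffine (Spec (CommRingCat.of sq.A)))
  have hiso : IsIso (hrep.snd d).left := IsClosedImmersion.isIso_of_injective_of_isAffine hinj
  have hiso0 : IsIso ((Over.forget S).map (hrep.snd d)) := hiso
  have hiso' : IsIso (hrep.snd d) := isIso_of_reflects_iso _ (Over.forget S)
  have hd : d = inv ((AlgSp.yon S).map (hrep.snd d)) ≫ hrep.fst d ≫ pullback.diagonal f.hom := by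
    rw [hpb.w, IsIso.inv_hom_id_assoc]
  have hl : l = d ≫ pullback.fst _ _ := (pullback.lift_fst _ _ _).symm
  have hl' : l' = d ≫ pullback.snd _ _ := (pullback.lift_snd _ _ _).symm
  rw [hl, hl', hd]
  simp only [Category.assoc, pullback.diagonal_fst, pullback.diagonal_snd]

end Groth.Agent.S10290
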