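import Groth.Statements.S10288
import Groth.Agent.Lib.Helper7.AlgSpFibre
import Groth.Agent.Lib.Helper5.AlgSpFibreProduct
import Groth.Agent.S9923
import Groth.Agent.Lib.Helper7.AlgSpQC
import Mathlib.AlgebraicGeometry.ValuativeCriterion

set_option autoImplicit false
universe u
open CategoryTheory CategoryTheory.Limits AlgebraicGeometry
open AlgSp

namespace Groth.Agent.S10288

open Groth.Agent.Lib.helper11 Groth.Agent.Lib.helper10 IsLocalRing

set_option backward.isDefEq.respectTransparency.types false in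
/-- Specializations in the base lift along a morphism satisfying the existence part of the valuative
criterion (after base change). -/
theorem exists_specialization_lift {S : Scheme.{u}} {X Y : Sp S} (f : X ⟶ Y) (he : ExistVC f) {Z V : Over S}
    (g : (yon S).obj Z ⟶ Y) {P : Sp S} (fst : P ⟶ X) (snd : P ⟶ (yon S).obj Z) (sq : IsPullback fst snd f g)
    (r : (yon S).obj V ⟶ P) (h : V ⟶ Z) (hr : r ≫ snd = (yon S).map h) (v : ↥V.left) (z' : ↥Z.left)
    (hz : h.left v ⤳ z') :
    ∃ x' : Points P, Points.ofPt r v ⤳ x' ∧ Points.map snd x' = Points.schemeHomeo Z z' := by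
  let ρ : Z.left.presheaf.stalk z' ⟶ V.left.residueField v :=
    Z.left.presheaf.stalkSpecializes hz ≫ h.left.stalkMap v ≫ V.left.residue v
  obtain ⟨A, hA, hA_local⟩ := exists_factor_valuationRing ρ.hom
  let ρA : Z.left.presheaf.stalk z' ⟶ .of A := CommRingCat.ofHom (ρ.hom.codRestrict _ hA)
  have w : V.left.fromSpecResidueField v ≫ h.left =
      Spec.map (CommRingCat.ofHom (algebraMap A (V.left.residueField v))) ≫
        Spec.map ρA ≫ Z.left.fromSpecStalk z' := by
    rw [Scheme.fromSpecResidueField, Category.assoc, ← Scheme.SpecMap_stalkMap_fromSpecStalk,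
      ← Scheme.SpecMap_stalkSpecializes_fromSpecStalk hz]
    simp_rw [← Spec.map_comp_assoc]
    rfl
  let K : Type u := V.left.residueField v
  let strA : Spec (.of A) ⟶ S := (Spec.map ρA ≫ Z.left.fromSpecStalk z') ≫ Z.hom
  let ptA : Over S := Over.mk strA
  let ptK : Over S := Over.mk (Spec.map (CommRingCat.ofHom (algebraMap A K)) ≫ strA)
  let jj : ptK ⟶ ptA := Over.homMk (Spec.map (CommRingCat.ofHom (algebraMap A K))) rfl
  let aZ : ptA ⟶ Z := Over.homMk (Spec.map ρA ≫ Z.left.fromSpecStalk z') rfl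
  let kV : ptK ⟶ V := Over.homMk (V.left.fromSpecResidueField v) (by
    show V.left.fromSpecResidueField v ≫ V.hom = Spec.map (CommRingCat.ofHom (algebraMap A K)) ≫ strA
    rw [← Over.w h, ← Category.assoc, w]
    simp only [Category.assoc, strA])
  have hkV : kV ≫ h = jj ≫ aZ := by
    apply Over.OverMorphism.ext
    simp only [Over.comp_left]
    exact w
  have e1 : (yon S).map kV ≫ (yon S).map h = (yon S).map jj ≫ (yon S).map aZ := by
    rw [← Functor.map_comp, ← Functor.map_comp, hkV]
  let sqV : ValSq f :=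
    { A := A
      K := K
      str := strA
      top := (yon S).map kV ≫ r ≫ fst
      bot := (yon S).map aZ ≫ g
      comm := by
        calc ((yon S).map kV ≫ r ≫ fst) ≫ f = (yon S).map kV ≫ r ≫ (fst ≫ f) := by
              simp only [Category.assoc]
          _ = (yon S).map kV ≫ (r ≫ snd) ≫ g := by rw [sq.w]; simp only [Category.assoc]
          _ = ((yon S).map kV ≫ (yon S).map h) ≫ g := by rw [hr]; simp only [Category.assoc]
          _ = ((yon S).map jj ≫ (yon S).map aZ) ≫ g := by rw [e1]
          _ = _ := by simp only [Category.assoc]; rfl }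
  obtain ⟨e, l, hl1, hl2⟩ := he sqV
  let φA : e.ptA' ⟶ ptA := Over.homMk (Spec.map (CommRingCat.ofHom e.φ)) rfl
  let aZ' : e.ptA' ⟶ Z := φA ≫ aZ
  have hl2' : l ≫ f = (yon S).map aZ' ≫ g := by
    rw [hl2]
    show (yon S).map φA ≫ (yon S).map aZ ≫ g = _
    rw [← Category.assoc, ← Functor.map_comp]
  let l' : (yon S).obj e.ptA' ⟶ P := sq.lift l ((yon S).map aZ') hl2'
  have hl'1 : l' ≫ fst = l := sq.lift_fst _ _ _
  have hl'2 : l' ≫ snd = (yon S).map aZ' := sq.lift_snd _ _ _
  refine ⟨Points.ofPt l' (closedPoint e.A'), ?_, ?_⟩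
  · let jK' : e.ptK' ⟶ e.ptA' := Over.homMk (Spec.map (CommRingCat.ofHom (algebraMap e.A' e.K'))) rfl
    have hψ : Spec.map (CommRingCat.ofHom e.ψ) ≫ ptK.hom = e.ptK'.hom := by
      change Spec.map _ ≫ Spec.map _ ≫ _ = Spec.map _ ≫ Spec.map _ ≫ _
      rw [← Spec.map_comp_assoc, ← Spec.map_comp_assoc, ← CommRingCat.ofHom_comp,
        ← CommRingCat.ofHom_comp, e.comm]
    let ψ' : e.ptK' ⟶ ptK := Over.homMk (Spec.map (CommRingCat.ofHom e.ψ)) hψ
    have hl1' : (yon S).map jK' ≫ l = (yon S).map ψ' ≫ (yon S).map kV ≫ r ≫ fst := hl1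
    have key : (yon S).map jK' ≫ l' = (yon S).map ψ' ≫ (yon S).map kV ≫ r := by
      apply sq.hom_ext
      · rw [Category.assoc, hl'1, hl1']
        simp only [Category.assoc]
      · rw [Category.assoc, hl'2, Category.assoc, Category.assoc, hr, ← Functor.map_comp,
          ← Functor.map_comp, ← Functor.map_comp]
        congr 1
        apply Over.OverMorphism.ext
        show Spec.map (CommRingCat.ofHom (algebraMap e.A' e.K')) ≫ Spec.map (CommRingCat.ofHom e.φ) ≫
          Spec.map ρA ≫ Z.left.fromSpecStalk z' =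
          Spec.map (CommRingCat.ofHom e.ψ) ≫ V.left.fromSpecResidueField v ≫ h.left
        have hcomm' : Spec.map (CommRingCat.ofHom (algebraMap e.A' e.K')) ≫
            Spec.map (CommRingCat.ofHom e.φ) = Spec.map (CommRingCat.ofHom e.ψ) ≫
            Spec.map (CommRingCat.ofHom (algebraMap A (V.left.residueField v))) := by
          rw [← Spec.map_comp, ← Spec.map_comp, ← CommRingCat.ofHom_comp, ← CommRingCat.ofHom_comp]
          exact congrArg (fun t => Spec.map (CommRingCat.ofHom t)) e.comm
        rw [w, reassoc_of% hcomm']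
    have hη : Points.ofPt l' (jK'.left (closedPoint e.K')) = Points.ofPt r v := by
      rw [← ofPt_yon_map_comp, key, ← Category.assoc, ← Functor.map_comp, ofPt_yon_map_comp]
      congr 1
      show V.left.fromSpecResidueField v _ = v
      exact Scheme.fromSpecResidueField_apply _ _
    rw [← hη]
    exact (specializes_closedPoint _).map (Points.continuous_ofPt l')
  · rw [Points.map_ofPt, hl'2]
    have h0 : Points.ofPt ((yon S).map aZ') (closedPoint e.A') =
        Points.ofPt (𝟙 _) (aZ'.left (closedPoint e.A')) := by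
      rw [← ofPt_yon_map_comp, Category.comp_id]
    rw [h0]
    show Points.schemeHomeo Z _ = _
    congr 1
    show (Spec.map (CommRingCat.ofHom e.φ) ≫ Spec.map ρA ≫ Z.left.fromSpecStalk z') (closedPoint e.A') = z'
    simp only [Scheme.Hom.comp_base, TopCat.coe_comp, Function.comp_apply]
    have : IsLocalHom e.φ := e.isLocalHom
    have h1 : Spec.map (CommRingCat.ofHom e.φ) (closedPoint e.A') = closedPoint A :=
      comap_closedPoint e.φ
    have h2 : Spec.map ρA (closedPoint A) = closedPoint (Z.left.presheaf.stalk z') :=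
      comap_closedPoint (S := A) (ρ.hom.codRestrict A.toSubring hA)
    rw [h1, h2, Z.left.fromSpecStalk_closedPoint]

/-- The image of a closed subset under a morphism of affine schemes is closed as soon as it is stable under
specialization. -/
theorem isClosed_image_of_stableUnderSpecialization {R : CommRingCat.{u}} {Z : Scheme.{u}} [IsAffine Z]
    (h : Spec R ⟶ Z) (C : Set ↥(Spec R)) (hC : IsClosed C)
    (hs : StableUnderSpecialization (h '' C)) : IsClosed (h '' C) := by
  let e := Z.isoSpec
  let φ : Γ(Z, ⊤) ⟶ R := Spec.preimage (h ≫ e.hom)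
  have hφ : Spec.map φ = h ≫ e.hom := Spec.map_preimage _
  have himg : e.hom '' (h '' C) = (Spec.map φ) '' C := by
    rw [Set.image_image, hφ]
    rfl
  have hs' : StableUnderSpecialization (e.hom '' (h '' C)) :=
    hs.image (Scheme.homeoOfIso e).isClosedMap.specializingMap
  rw [himg] at hs'
  have hcl : IsClosed ((Spec.map φ) '' C) :=
    PrimeSpectrum.isClosed_image_of_stableUnderSpecialization φ.hom C hC hs'
  rw [← himg] at hcl
  exact (Scheme.homeoOfIso e).isClosed_image.1 hcl

theorem main {S : Scheme.{u}} {X Y : AlgSp.Space S} (f : X ⟶ Y)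
    (hq : AlgSp.IsQuasiCompactMor f.hom) (he : AlgSp.ExistVC f.hom) : AlgSp.IsUnivClosedMor f.hom := by
  rw [Groth.Agent.S9923.result]
  intro Z hZ g P fst snd sq
  have hZ' : IsAffine Z.left := hZ
  have hPqc : IsQuasiCompactSp P :=
    hq (IsAlgSpace.yon_obj Z) (Groth.Agent.Lib.helper7.AlgSpQC.isQuasiCompactSp_yon Z) g fst snd sq
  obtain ⟨U, p, hpe, hps, hU⟩ := hPqc
  have hU' : CompactSpace ↥U.left := hU
  obtain ⟨R, k, hk⟩ := compactSpace_iff_exists.mp hU'
  let V : Over S := Over.mk (k ≫ U.hom)
  let kV : V ⟶ U := Over.homMk k rfl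
  let r : (yon S).obj V ⟶ P := (yon S).map kV ≫ p
  have hrsurj : Function.Surjective (Points.ofPt r) := by
    intro x
    obtain ⟨u, rfl⟩ := surjective_ofPt p hps x
    obtain ⟨v, rfl⟩ := hk u
    exact ⟨v, ofPt_yon_map_comp kV p v⟩
  obtain ⟨h, hh⟩ := (yon S).map_surjective (r ≫ snd)
  have hpt : ∀ v : ↥V.left, Points.map snd (Points.ofPt r v) = Points.schemeHomeo Z (h.left v) := by
    intro v
    rw [Points.map_ofPt, ← hh]
    show _ = Points.ofPt (𝟙 _) (h.left v)
    rw [← ofPt_yon_map_comp, Category.comp_id]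
  intro C hC
  let CV : Set ↥V.left := Points.ofPt r ⁻¹' C
  have hCV : IsClosed CV := hC.preimage (Points.continuous_ofPt r)
  have himg : Points.map snd '' C = Points.schemeHomeo Z '' (h.left '' CV) := by
    ext y
    constructor
    · rintro ⟨x, hx, rfl⟩
      obtain ⟨v, rfl⟩ := hrsurj x
      exact ⟨h.left v, ⟨v, hx, rfl⟩, (hpt v).symm⟩
    · rintro ⟨z, ⟨v, hv, rfl⟩, rfl⟩
      exact ⟨Points.ofPt r v, hv, hpt v⟩
  rw [himg]
  apply (Points.schemeHomeo Z).isClosedMap
  apply isClosed_image_of_stableUnderSpecialization (R := R) (Z := Z.left) h.left CV hCV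
  rintro z z' hzz' ⟨v, hv, rfl⟩
  obtain ⟨x', hx'1, hx'2⟩ := exists_specialization_lift f.hom he g fst snd sq r h hh.symm v z' hzz'
  have hx'C : x' ∈ C := hC.stableUnderSpecialization hx'1 hv
  obtain ⟨v', rfl⟩ := hrsurj x'
  refine ⟨v', hx'C, ?_⟩
  apply (Points.schemeHomeo Z).injective
  rw [← hx'2, hpt]

/-- A quasi-compact morphism of algebraic spaces satisfying the existence part of the valuative
criterion is universally closed. -/
theorem result {S : Scheme.{u}} {X Y : AlgSp.Space S} (f : X ⟶ Y)
    (hq : AlgSp.IsQuasiCompactMor f.hom) (he : AlgSp.ExistVC f.hom) : AlgSp.IsUnivClosedMor f.hom := by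
  exact main f hq he

end Groth.Agent.S10288
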