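import Groth.Statements.S10291
import Groth.Agent.S10288
import Groth.Agent.Lib.Helper1.Diagonal
import Groth.Agent.Lib.Helper7.AlgSpQC

set_option autoImplicit false
universe u
open CategoryTheory CategoryTheory.Limits AlgebraicGeometry
open AlgSp

namespace Groth.Agent.S10291

variable {S : Scheme.{u}}

/-- The trivial dominating extension. -/
noncomputable def trivExt {F G : Sp S} {f : F ⟶ G} (sq : ValSq f) : sq.DomExt where
  A' := sq.A
  K' := sq.K
  φ := RingHom.id _
  ψ := RingHom.id _
  comm := rfl
  isLocalHom := ⟨fun _ h => h⟩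

/-- A lift of a valuative square restricts to a lift of every extension. -/
theorem hasLift_of_hasLift {F G : Sp S} {f : F ⟶ G} (sq : ValSq f) (e : sq.DomExt) (h : sq.HasLift) :
    e.HasLift := by
  obtain ⟨l, hl1, hl2⟩ := h
  let φA : e.ptA' ⟶ sq.ptA := Over.homMk (Spec.map (CommRingCat.ofHom e.φ)) rfl
  refine ⟨(yon S).map φA ≫ l, ?_, ?_⟩
  · rw [← hl1, ← Category.assoc, ← Category.assoc, ← Functor.map_comp, ← Functor.map_comp]
    congr 2
    apply Over.OverMorphism.ext
    show Spec.map (CommRingCat.ofHom (algebraMap e.A' e.K')) ≫ Spec.map (CommRingCat.ofHom e.φ) =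
      Spec.map (CommRingCat.ofHom e.ψ) ≫ Spec.map (CommRingCat.ofHom (algebraMap sq.A sq.K))
    rw [← Spec.map_comp, ← Spec.map_comp, ← CommRingCat.ofHom_comp, ← CommRingCat.ofHom_comp]
    exact congrArg (fun t => Spec.map (CommRingCat.ofHom t)) e.comm
  · rw [Category.assoc, hl2]

theorem hasLiftExt_of_hasLift {F G : Sp S} {f : F ⟶ G} (sq : ValSq f) (h : sq.HasLift) : sq.HasLiftExt :=
  ⟨trivExt sq, hasLift_of_hasLift sq _ h⟩

set_option backward.isDefEq.respectTransparency false in
theorem main {X Y : AlgSp.Space S} (f : X ⟶ Y)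
    (hqs : AlgSp.IsQuasiSeparatedMor f.hom) (hu : AlgSp.UniqVC f.hom) : AlgSp.IsSeparatedMor f.hom := by
  have hXX : IsAlgSpace (pullback f.hom f.hom) :=
    Groth.Agent.Lib.helper5.isAlgSpace_of_isPullback Y.property.diag X.property X.property
      (IsPullback.of_hasPullback _ _)
  let XX : AlgSp.Space S := ⟨pullback f.hom f.hom, hXX⟩
  let d : X ⟶ XX := ObjectProperty.homMk (pullback.diagonal f.hom)
  have hqc : IsQuasiCompactMor d.hom := Groth.Agent.Lib.helper7.AlgSpQC.isQuasiCompactMor_of_repWith hqs
  have hev : ExistVC d.hom := by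
    intro sq
    apply hasLiftExt_of_hasLift
    let a := sq.bot ≫ pullback.fst f.hom f.hom
    let b := sq.bot ≫ pullback.snd f.hom f.hom
    have hc : sq.top ≫ pullback.diagonal f.hom = (yon S).map sq.j ≫ sq.bot := sq.comm
    have ha : (yon S).map sq.j ≫ a = sq.top := by
      rw [← Category.assoc, ← hc, Category.assoc, pullback.diagonal_fst, Category.comp_id]
    have hb : (yon S).map sq.j ≫ b = sq.top := by
      rw [← Category.assoc, ← hc, Category.assoc, pullback.diagonal_snd, Category.comp_id]
    let sq' : ValSq f.hom :=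
      { A := sq.A
        K := sq.K
        str := sq.str
        top := sq.top
        bot := a ≫ f.hom
        comm := by rw [← ha, Category.assoc] }
    have hab : a = b := hu sq' a b ha rfl hb (by
      show b ≫ f.hom = a ≫ f.hom
      simp only [a, b, Category.assoc, pullback.condition])
    refine ⟨a, ha, ?_⟩
    apply pullback.hom_ext
    · rw [Category.assoc]
      erw [pullback.diagonal_fst]
      rw [Category.comp_id]
    · rw [Category.assoc]
      erw [pullback.diagonal_snd]
      rw [Category.comp_id]
      exact hab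
  have h := Groth.Agent.S10288.result d hqc hev
  exact Groth.Agent.H1.Diagonal.repWith_isClosedImmersion_diagonal_of_univClosed X.property Y.property f.hom h

/-- A quasi-separated morphism of algebraic spaces satisfying the uniqueness part of the valuative
criterion is separated. -/
theorem result {S : Scheme.{u}} {X Y : AlgSp.Space S} (f : X ⟶ Y)
    (hqs : AlgSp.IsQuasiSeparatedMor f.hom) (hu : AlgSp.UniqVC f.hom) : AlgSp.IsSeparatedMor f.hom := by
  exact main f hqs hu

end Groth.Agent.S10291
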