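import Groth.Statements.S9951
import Groth.Agent.Lib.Helper1.LocNoeth

set_option autoImplicit false
universe u
open CategoryTheory CategoryTheory.Limits AlgebraicGeometry
open AlgSp

namespace Groth.Agent.S9951

theorem main {S : Scheme.{u}} {X Y : AlgSp.Space S} (f : X ⟶ Y)
    (hf : AlgSp.LocP @LocallyOfFiniteType f.hom) (hY : AlgSp.IsLocNoethSp Y.obj) :
    AlgSp.IsLocNoethSp X.obj := by
  obtain ⟨A, a, hae, has⟩ := X.property.atlas
  obtain ⟨B, b, hbe, hbs, hBN⟩ := hY
  have hBN' : IsLocallyNoetherian B.left := hBN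
  obtain ⟨A', snd, fst, hpb⟩ := hbe.rep (a ≫ f.hom)
  obtain ⟨h, rfl⟩ := (yon S).map_surjective fst
  have hsnd_et : Etale snd.left := hbe.property _ _ snd hpb
  have hsnd_surj : Surjective snd.left := hbs.property _ _ snd hpb
  have ha'e : RepWith @Etale ((yon S).map snd ≫ a) :=
    (repWith_isMultiplicative (S := S) @Etale).comp_mem _ _
      ((repWith_yon_map_iff @Etale snd).2 hsnd_et) hae
  have ha's : RepWith @Surjective ((yon S).map snd ≫ a) :=
    (repWith_isMultiplicative (S := S) @Surjective).comp_mem _ _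
      ((repWith_yon_map_iff @Surjective snd).2 hsnd_surj) has
  have hsq : ((yon S).map snd ≫ a) ≫ f.hom = (yon S).map h ≫ b := by
    rw [Category.assoc]; exact hpb.w.symm
  have hlft : LocallyOfFiniteType h.left := hf _ b h ha'e hbe hsq
  have hA' : IsLocallyNoetherian A'.left := LocallyOfFiniteType.isLocallyNoetherian h.left
  exact ⟨A', (yon S).map snd ≫ a, ha'e, ha's, hA'⟩

/-- The source of a morphism locally of finite type with locally Noetherian target is locally
Noetherian. -/
theorem result {S : Scheme.{u}} {X Y : AlgSp.Space S} (f : X ⟶ Y)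
    (hf : AlgSp.LocP @LocallyOfFiniteType f.hom) (hY : AlgSp.IsLocNoethSp Y.obj) : AlgSp.IsLocNoethSp X.obj := by
  exact main f hf hY

end Groth.Agent.S9951
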