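import Groth.Statements.S10064
import Groth.Agent.Lib.Helper5.DvrCritA
import Groth.Agent.S10291
import Groth.Agent.S10290
import Groth.Agent.S9951
import Groth.Agent.Lib.Helper1.SevenProps

set_option autoImplicit false
universe u
open CategoryTheory CategoryTheory.Limits AlgebraicGeometry
open AlgSp

namespace Groth.Agent.S10064

variable {S : Scheme.{u}} in
set_option backward.isDefEq.respectTransparency false in
/-- The diagonal of a quasi-separated morphism locally of finite type to a locally Noetherian algebraic space satisfying
the uniqueness part of the valuative criterion for discrete valuation rings is universally closed. -/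
theorem main {X Y : AlgSp.Space S} (f : X ⟶ Y)
    (hqs : AlgSp.IsQuasiSeparatedMor f.hom) (hft : AlgSp.LocP @LocallyOfFiniteType f.hom)
    (hY : AlgSp.IsLocNoethSp Y.obj)
    (hu : ∀ sq : AlgSp.ValSq f.hom, IsDiscreteValuationRing sq.A → sq.HasUniq) :
    AlgSp.IsSeparatedMor f.hom := by
  have hXX : IsAlgSpace (pullback f.hom f.hom) :=
    Groth.Agent.Lib.helper5.isAlgSpace_of_isPullback Y.property.diag X.property X.property
      (IsPullback.of_hasPullback _ _)
  let XX : AlgSp.Space S := ⟨pullback f.hom f.hom, hXX⟩
  let d : X ⟶ XX := ObjectProperty.homMk (pullback.diagonal f.hom)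
  have hqc : IsQuasiCompactMor d.hom := Groth.Agent.Lib.helper7.AlgSpQC.isQuasiCompactMor_of_repWith hqs
  have hdrep := Groth.Agent.H1.Diagonal.repWith_lft_diagonal X.property Y.property f.hom
  have hlft : LocP @LocallyOfFiniteType d.hom :=
    (Groth.Agent.H1.Seven.locP_iff_repWith Groth.Agent.Lib.helper5.LocPBC.locPData_lft X.property hXX
      (pullback.diagonal f.hom) hdrep.1).2 hdrep
  have hXn : IsLocNoethSp X.obj := Groth.Agent.S9951.result f hft hY
  have hpr : LocP @LocallyOfFiniteType (pullback.snd f.hom f.hom) :=
    Groth.Agent.Lib.helper5.LocPBC.locP_of_isPullback Groth.Agent.Lib.helper5.LocPBC.locPData_lft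
      X.property Y.property X.property (IsPullback.of_hasPullback f.hom f.hom) hft
  have hXXn : IsLocNoethSp XX.obj :=
    Groth.Agent.S9951.result (X := XX) (Y := X) (ObjectProperty.homMk (pullback.snd f.hom f.hom)) hpr hXn
  have hev : ∀ sq : ValSq d.hom, IsDiscreteValuationRing sq.A → sq.HasLiftExt := by
    intro sq hA
    apply Groth.Agent.S10291.hasLiftExt_of_hasLift
    let a := sq.bot ≫ pullback.fst f.hom f.hom
    let b := sq.bot ≫ pullback.snd f.hom f.hom
    have hc : sq.top ≫ pullback.diagonal f.hom = (yon S).map sq.j ≫ sq.bot := sq.comm
    have ha : (yon S).map sq.j ≫ a = sq.top := by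
      rw [← Category.assoc, ← hc, Category.assoc, pullback.diagonal_fst, Category.comp_id]
    have hb : (yon S).map sq.j ≫ b = sq.top := by
      rw [← Category.assoc, ← hc, Category.assoc, pullback.diagonal_snd, Category.comp_id]
    let sq' : ValSq f.hom :=
      { A := sq.A
        K := sq.K
        str := sq.str
        top := sq.top
        bot := a ≫ f.hom
        comm := by rw [← ha, Category.assoc] }
    have hab : a = b := hu sq' hA a b ha rfl hb (by
      show b ≫ f.hom = a ≫ f.hom
      simp only [a, b, Category.assoc, pullback.condition])
    refine ⟨a, ha, ?_⟩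
    apply pullback.hom_ext
    · rw [Category.assoc]
      erw [pullback.diagonal_fst]
      rw [Category.comp_id]
    · rw [Category.assoc]
      erw [pullback.diagonal_snd]
      rw [Category.comp_id]
      exact hab
  have h := Groth.Agent.Lib.helper5.DvrCrit.isUnivClosedMor_of_dvr X.property hXX d.hom hqc hlft hXXn hev
  exact Groth.Agent.H1.Diagonal.repWith_isClosedImmersion_diagonal_of_univClosed X.property Y.property f.hom h

/-- Let `f : X ⟶ Y` be quasi-separated and locally of finite type with `Y` locally Noetherian. Then `f`
is separated if and only if every valuative test square for `f` whose valuation ring is a discrete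
valuation ring admits at most one dotted arrow. (The published statement also lists the uniqueness
part of the valuative criterion, over arbitrary valuation rings, as an equivalent condition, and a
refinement to squares hitting a codimension-0 point; neither is included in this row.) -/
theorem result (S : Scheme.{u}) {X Y : AlgSp.Space S} (f : X ⟶ Y)
    (hqs : AlgSp.IsQuasiSeparatedMor f.hom) (hft : AlgSp.LocP @LocallyOfFiniteType f.hom) (hY : AlgSp.IsLocNoethSp Y.obj) :
    AlgSp.IsSeparatedMor f.hom ↔ ∀ sq : AlgSp.ValSq f.hom, IsDiscreteValuationRing sq.A → sq.HasUniq := by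
  exact ⟨fun hs sq _ => Groth.Agent.S10290.result f hs sq, fun hu => main f hqs hft hY hu⟩

end Groth.Agent.S10064
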