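import Groth.Statements.S10284
import Groth.Agent.Lib.Helper5.FpqcVal3

set_option autoImplicit false
universe u
open CategoryTheory CategoryTheory.Limits AlgebraicGeometry
open AlgSp

namespace Groth.Agent.S10284

/-- For a separated morphism of algebraic spaces, a valuative square that has a lift after a dominating
extension of the valuation ring already has a lift. -/
theorem result {S : Scheme.{u}} {X Y : AlgSp.Space S} (f : X ⟶ Y)
    (hf : AlgSp.IsSeparatedMor f.hom) (sq : AlgSp.ValSq f.hom) (e : sq.DomExt) (he : e.HasLift) :
    sq.HasLift := by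
  obtain ⟨l', hl1, hl2⟩ := he
  haveI : IsLocalHom e.φ := e.isLocalHom
  exact Groth.Agent.Lib.helper5.FpqcSp.hasLift_of_domExt X.property Y.property f.hom hf e.φ e.ψ e.comm
    sq.str sq.top sq.bot sq.comm l' _ hl1 hl2

end Groth.Agent.S10284
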