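import Groth.Statements.S10285
import Groth.Agent.S10284

set_option autoImplicit false
universe u
open CategoryTheory CategoryTheory.Limits AlgebraicGeometry
open AlgSp

namespace Groth.Agent.S10285

/-- For a separated morphism of algebraic spaces the two forms of the existence part of the valuative
criterion (with and without extensions) agree. -/
theorem result {S : Scheme.{u}} {X Y : AlgSp.Space S} (f : X ⟶ Y)
    (hf : AlgSp.IsSeparatedMor f.hom) : AlgSp.ExistVC f.hom ↔ AlgSp.ExistVCStrict f.hom := by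
  constructor
  · intro h sq
    obtain ⟨e, he⟩ := h sq
    exact Groth.Agent.S10284.result f hf sq e he
  · intro h sq
    obtain ⟨l, hl1, hl2⟩ := h sq
    let e : sq.DomExt :=
      { A' := sq.A
        K' := sq.K
        φ := RingHom.id _
        ψ := RingHom.id _
        comm := rfl
        isLocalHom := ⟨fun a h => h⟩ }
    refine ⟨e, ?_⟩
    let φs : e.ptA' ⟶ sq.ptA := Over.homMk (Spec.map (CommRingCat.ofHom e.φ)) rfl
    let j' : e.ptK' ⟶ e.ptA' := Over.homMk (Spec.map (CommRingCat.ofHom (algebraMap e.A' e.K'))) rfl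
    let ψs : e.ptK' ⟶ sq.ptK := Over.homMk (Spec.map (CommRingCat.ofHom e.ψ)) (by
      change Spec.map _ ≫ Spec.map _ ≫ _ = Spec.map _ ≫ Spec.map _ ≫ _
      rw [← Spec.map_comp_assoc, ← Spec.map_comp_assoc, ← CommRingCat.ofHom_comp,
        ← CommRingCat.ofHom_comp, e.comm])
    have hsq : j' ≫ φs = ψs ≫ sq.j := Over.OverMorphism.ext (by
      change Spec.map _ ≫ Spec.map _ = Spec.map _ ≫ Spec.map _
      rw [← Spec.map_comp, ← Spec.map_comp, ← CommRingCat.ofHom_comp, ← CommRingCat.ofHom_comp, e.comm])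
    refine ⟨(AlgSp.yon S).map φs ≫ l, ?_, ?_⟩
    · calc (AlgSp.yon S).map j' ≫ (AlgSp.yon S).map φs ≫ l = (AlgSp.yon S).map (j' ≫ φs) ≫ l := by
            rw [Functor.map_comp, Category.assoc]
        _ = (AlgSp.yon S).map (ψs ≫ sq.j) ≫ l := by rw [hsq]
        _ = (AlgSp.yon S).map ψs ≫ ((AlgSp.yon S).map sq.j ≫ l) := by
            rw [Functor.map_comp, Category.assoc]
        _ = (AlgSp.yon S).map ψs ≫ sq.top := by rw [hl1]
    · rw [Category.assoc, hl2]

end Groth.Agent.S10285
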