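import Groth.Statements.S10099
import Groth.Agent.Lib.Helper1.MonoRepI
import Groth.Agent.Lib.Helper5.AlgSpUniv2

set_option autoImplicit false
universe u
open CategoryTheory CategoryTheory.Limits AlgebraicGeometry
open AlgSp

namespace Groth.Agent.S10099

open Groth.Agent.H1.MonoRep Groth.Agent.H1.Boot Opposite Groth.Agent.Lib.Helper14.AlgSpQuot

theorem surjective_of_points {S : Scheme.{u}} {A B : Over S} (g : A ⟶ B)
    (h : Function.Surjective (Points.map ((yon S).map g))) : Surjective g.left := by
  rw [Points.map_yon_map_eq] at h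
  constructor
  intro y
  obtain ⟨x, hx⟩ := h (Points.schemeHomeo B y)
  exact ⟨(Points.schemeHomeo A).symm x, (Points.schemeHomeo B).injective hx⟩

theorem main (S : Scheme.{u}) (F : AlgSp.Sp S) (X : AlgSp.Space S)
    (p : X.obj ⟶ F) (hp : AlgSp.RepBySpWith (AlgSp.IsSurjectiveMor ⊓ AlgSp.LocP @Flat ⊓ AlgSp.LocP @LocallyOfFinitePresentation) p.hom) :
    AlgSp.Representable (Limits.diag F) := by
  rw [repBySpWith_hom_iff] at hp
  obtain ⟨W, q, hqe, hqs⟩ := X.property.atlas
  have key : ∀ {T : Over S} (ξ : (yon S).obj T ⟶ F), ∃ (I : Over S) (i₁ : I ⟶ W) (i₂ : I ⟶ T),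
      IsPullback ((yon S).map i₁) ((yon S).map i₂) (q ≫ p) ξ ∧
      LocallyOfFiniteType (prod.lift i₁ i₂).left := by
    intro T ξ
    have sqX : IsPullback (pullback.fst p ξ) (pullback.snd p ξ) p ξ :=
      IsPullback.of_hasPullback _ _
    obtain ⟨hXT, ⟨hsurj, hflat⟩, hlfp⟩ := hp ξ _ _ sqX
    obtain ⟨I, j, k, hjm, hjl, sqI, hk⟩ := exists_rep_pullback hXT q hqe hqs p ξ sqX
      (fun {V} ψ t hψ ht => by
        have h1 : LocallyOfFinitePresentation t.left :=
          hlfp ψ (𝟙 _) t hψ (repWith_id _ T) (by rw [Category.comp_id, ht])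
        infer_instance)
    have sqB : IsPullback ((yon S).map (j ≫ prod.fst)) (k ≫ pullback.snd p ξ) (q ≫ p) ξ :=
      (sqI.flip.paste_horiz sqX.flip).flip
    rw [hk] at sqB
    refine ⟨I, j ≫ prod.fst, j ≫ prod.snd, sqB, ?_⟩
    have h2 : prod.lift (j ≫ prod.fst) (j ≫ prod.snd) = j := by
      apply Limits.prod.hom_ext
      · rw [prod.lift_fst]
      · rw [prod.lift_snd]
    rw [h2]
    exact hjl
  haveI : Epi q := Groth.Agent.Lib.helper5.epi_of_etale_surjective _ hqe hqs
  haveI : Epi p := by
    have h1 : Sheaf.IsLocallySurjective p := by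
      rw [isLocallySurjective_iff]
      intro T ξ
      have sqX : IsPullback (pullback.fst p ξ) (pullback.snd p ξ) p ξ :=
        IsPullback.of_hasPullback _ _
      obtain ⟨hXT, ⟨hsurj, hflat⟩, hlfp⟩ := hp ξ _ _ sqX
      obtain ⟨V, ψ, hψe, hψs⟩ := hXT.atlas
      obtain ⟨t, ht⟩ := (yon S).map_surjective (ψ ≫ pullback.snd p ξ)
      haveI h1 : LocallyOfFinitePresentation t.left :=
        hlfp ψ (𝟙 _) t hψe (repWith_id _ T) (by rw [Category.comp_id, ht])
      haveI h2 : Flat t.left :=
        hflat ψ (𝟙 _) t hψe (repWith_id _ T) (by rw [Category.comp_id, ht])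
      haveI h3 : Surjective t.left := by
        apply surjective_of_points
        rw [ht]
        have h3 : Points.map (ψ ≫ pullback.snd p ξ) =
            Points.map (pullback.snd p ξ) ∘ Points.map ψ := by
          funext x
          exact Points.map_comp _ _ x
        rw [h3]
        exact hsurj.comp (Groth.Agent.Lib.helper5.surjective_map_of_repWith_surjective ψ hψs)
      refine generate_singleton_mem' t ?_
      exact ⟨ψ ≫ pullback.fst p ξ, by rw [Category.assoc, sqX.w, ← Category.assoc, ht]⟩
    exact (Sheaf.isLocallySurjective_iff_epi p).1 h1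
  haveI : Epi (q ≫ p) := epi_comp _ _
  obtain ⟨R, r₁, r₂, hk, hr⟩ := key (q ≫ p)
  exact representable_diag_of_kernelPair' (q ≫ p) r₁ r₂ hk hr

/-- Let `F` be an fppf sheaf of sets over `S` and `X ⟶ F` a map from an algebraic space that is
representable by algebraic spaces and is flat, surjective and locally of finite presentation. It
follows that the diagonal `F ⟶ F × F` is representable (by schemes). -/
theorem result (S : Scheme.{u}) (F : AlgSp.Sp S) (X : AlgSp.Space S)
    (p : X.obj ⟶ F) (hp : AlgSp.RepBySpWith (AlgSp.IsSurjectiveMor ⊓ AlgSp.LocP @Flat ⊓ AlgSp.LocP @LocallyOfFinitePresentation) p.hom) :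
    AlgSp.Representable (Limits.diag F) := by
  exact main S F X p hp

end Groth.Agent.S10099
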