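import Groth.Statements.S10100
import Groth.Agent.Lib.Helper1.MonoRepH

set_option autoImplicit false
universe u
open CategoryTheory CategoryTheory.Limits AlgebraicGeometry
open AlgSp

namespace Groth.Agent.S10100

open Groth.Agent.H1.MonoRep Opposite

theorem main (S : Scheme.{u}) (F : AlgSp.PSp S) (X : Over S)
    (p : (AlgSp.pyon S).obj X ⟶ F)
    (hp : AlgSp.RepBySpWith (AlgSp.LocP (@LocallyQuasiFinite ⊓ @LocallyOfFiniteType)) p) :
    (AlgSp.pyon S).relativelyRepresentable p := by
  intro T ξ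
  have sqX : IsPullback (pullback.fst p ξ) (pullback.snd p ξ) p ξ :=
    IsPullback.of_hasPullback _ _
  obtain ⟨hsh, hZ, hloc⟩ := hp ξ _ _ sqX
  let Z : Sp S := ⟨pullback p ξ, hsh⟩
  let pX : Z ⟶ (yon S).obj X := ObjectProperty.homMk (pullback.fst p ξ)
  let pT : Z ⟶ (yon S).obj T := ObjectProperty.homMk (pullback.snd p ξ)
  let f : Z ⟶ (yon S).obj (X ⨯ T) := prod.lift pX pT ≫ inv (prodComparison (yon S) X T)
  have hf1 : f ≫ (yon S).map prod.fst = pX := by
    change (prod.lift pX pT ≫ inv (prodComparison (yon S) X T)) ≫ _ = _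
    rw [Category.assoc, inv_prodComparison_map_fst, prod.lift_fst]
  have hf2 : f ≫ (yon S).map prod.snd = pT := by
    change (prod.lift pX pT ≫ inv (prodComparison (yon S) X T)) ≫ _ = _
    rw [Category.assoc, inv_prodComparison_map_snd, prod.lift_snd]
  haveI : Mono f := by
    refine ⟨fun a b hab => ?_⟩
    have e1 : a ≫ pX = b ≫ pX := by rw [← hf1, ← Category.assoc, hab, Category.assoc]
    have e2 : a ≫ pT = b ≫ pT := by rw [← hf2, ← Category.assoc, hab, Category.assoc]
    apply ObjectProperty.hom_ext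
    refine sqX.hom_ext ?_ ?_
    · exact congrArg (fun φ => φ.hom) e1
    · exact congrArg (fun φ => φ.hom) e2
  obtain ⟨V, ψ, hψe, hψs⟩ := hZ.atlas
  haveI : Epi ψ := Groth.Agent.Lib.helper5.epi_of_etale_surjective ψ hψe hψs
  obtain ⟨g, hg⟩ := (yon S).map_surjective (ψ ≫ f)
  have ht : ψ ≫ pT = (yon S).map (g ≫ prod.snd) := by
    rw [Functor.map_comp, hg, Category.assoc, hf2]
  have htl : (@LocallyQuasiFinite ⊓ @LocallyOfFiniteType) (g ≫ prod.snd).left :=
    hloc ψ (𝟙 _) (g ≫ prod.snd) hψe (repWith_id _ T) (by rw [Category.comp_id, ht])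
  haveI : LocallyOfFiniteType g.left := by
    haveI : LocallyOfFiniteType (g.left ≫ (prod.snd : X ⨯ T ⟶ T).left) := by
      rw [← Over.comp_left]
      exact htl.2
    exact locallyOfFiniteType_of_comp g.left (prod.snd : X ⨯ T ⟶ T).left
  obtain ⟨I, j, e, he, hjm, hjl⟩ := exists_rep_of_mono f ψ hψe g hg.symm
  refine ⟨I, j ≫ prod.snd, (pyon S).map (j ≫ prod.fst), ?_⟩
  have e1 : (pyon S).map (j ≫ prod.fst) = e.hom.hom ≫ pullback.fst p ξ := by
    have : (yon S).map (j ≫ prod.fst) = e.hom ≫ pX := by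
      rw [Functor.map_comp, ← he, Category.assoc, hf1]
    exact congrArg (fun φ => φ.hom) this
  have e2 : (pyon S).map (j ≫ prod.snd) = e.hom.hom ≫ pullback.snd p ξ := by
    have : (yon S).map (j ≫ prod.snd) = e.hom ≫ pT := by
      rw [Functor.map_comp, ← he, Category.assoc, hf2]
    exact congrArg (fun φ => φ.hom) this
  let e' : (pyon S).obj I ≅ pullback p ξ := (sheafToPresheaf (AlgSp.J S) (Type (u + 1))).mapIso e
  exact IsPullback.of_iso sqX e'.symm (Iso.refl _) (Iso.refl _) (Iso.refl _)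
    (by rw [Iso.refl_hom, Category.comp_id, e1, Iso.symm_hom]; exact (e'.inv_hom_id_assoc _).symm)
    (by rw [Iso.refl_hom, Category.comp_id, e2, Iso.symm_hom]; exact (e'.inv_hom_id_assoc _).symm)
    (by simp) (by simp)

/-- Let `F` be a presheaf of sets on schemes over `S`, `X` a scheme over `S` and `h_X ⟶ F` a map which
is representable by algebraic spaces and locally quasi-finite. Then `h_X ⟶ F` is representable by
schemes. -/
theorem result (S : Scheme.{u}) (F : AlgSp.PSp S) (X : Over S)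
    (p : (AlgSp.pyon S).obj X ⟶ F)
    (hp : AlgSp.RepBySpWith (AlgSp.LocP (@LocallyQuasiFinite ⊓ @LocallyOfFiniteType)) p) :
    (AlgSp.pyon S).relativelyRepresentable p := by
  exact main S F X p hp

end Groth.Agent.S10100
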