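import Groth.Statements.S10101
import Groth.Agent.Lib.Helper1.MonoRepI
import Groth.Agent.Lib.Helper5.AlgSpUniv2

set_option autoImplicit false
universe u
open CategoryTheory CategoryTheory.Limits AlgebraicGeometry
open AlgSp

namespace Groth.Agent.S10101

open Groth.Agent.H1.MonoRep Groth.Agent.H1.Boot Opposite

theorem surjective_of_points {S : Scheme.{u}} {A B : Over S} (g : A ⟶ B)
    (h : Function.Surjective (Points.map ((yon S).map g))) : Surjective g.left := by
  rw [Points.map_yon_map_eq] at h
  constructor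
  intro y
  obtain ⟨x, hx⟩ := h (Points.schemeHomeo B y)
  exact ⟨(Points.schemeHomeo A).symm x, (Points.schemeHomeo B).injective hx⟩

theorem main (S : Scheme.{u}) (F : AlgSp.Sp S) (X : AlgSp.Space S)
    (p : X.obj ⟶ F) (hp : AlgSp.RepBySpWith (AlgSp.IsSurjectiveMor ⊓ AlgSp.IsEtaleMor) p.hom) :
    AlgSp.IsAlgSpace F := by
  rw [repBySpWith_hom_iff] at hp
  obtain ⟨W, q, hqe, hqs⟩ := X.property.atlas
  have key : ∀ {T : Over S} (ξ : (yon S).obj T ⟶ F), ∃ (I : Over S) (i₁ : I ⟶ W) (i₂ : I ⟶ T),
      IsPullback ((yon S).map i₁) ((yon S).map i₂) (q ≫ p) ξ ∧ Etale i₂.left ∧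
      Surjective i₂.left ∧ LocallyOfFiniteType (prod.lift i₁ i₂).left := by
    intro T ξ
    have sqX : IsPullback (pullback.fst p ξ) (pullback.snd p ξ) p ξ :=
      IsPullback.of_hasPullback _ _
    obtain ⟨hXT, hsurj, het⟩ := hp ξ _ _ sqX
    obtain ⟨I, j, k, hjm, hjl, sqI, hk⟩ := exists_rep_pullback hXT q hqe hqs p ξ sqX
      (fun {V} ψ t hψ ht => by
        have h1 : RepWith @Etale (ψ ≫ pullback.snd p ξ) := het ψ hψ
        rw [ht] at h1
        have : Etale t.left := (repWith_yon_map_iff _ _).1 h1
        infer_instance)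
    have hke : RepWith @Etale k :=
      (repWith_isStableUnderBaseChange (S := S) @Etale).of_isPullback sqI hqe
    have hks : RepWith @Surjective k :=
      (repWith_isStableUnderBaseChange (S := S) @Surjective).of_isPullback sqI hqs
    have sqB : IsPullback ((yon S).map (j ≫ prod.fst)) (k ≫ pullback.snd p ξ) (q ≫ p) ξ :=
      (sqI.flip.paste_horiz sqX.flip).flip
    rw [hk] at sqB
    refine ⟨I, j ≫ prod.fst, j ≫ prod.snd, sqB, ?_, ?_, ?_⟩
    · have h1 : RepWith @Etale (k ≫ pullback.snd p ξ) := het k hke
      rw [hk] at h1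
      exact (repWith_yon_map_iff _ _).1 h1
    · apply surjective_of_points
      rw [← hk]
      have h3 : Points.map (k ≫ pullback.snd p ξ) =
          Points.map (pullback.snd p ξ) ∘ Points.map k := by
        funext x
        exact Points.map_comp _ _ x
      rw [h3]
      exact hsurj.comp (Groth.Agent.Lib.helper5.surjective_map_of_repWith_surjective k hks)
    · have h2 : prod.lift (j ≫ prod.fst) (j ≫ prod.snd) = j := by
        apply Limits.prod.hom_ext
        · rw [prod.lift_fst]
        · rw [prod.lift_snd]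
      rw [h2]
      exact hjl
  have hae : RepWith @Etale (q ≫ p) := by
    apply MorphismProperty.relative.of_exists
    intro T ξ
    obtain ⟨I, i₁, i₂, sq, h1, h2, h3⟩ := key ξ
    exact ⟨I, (yon S).map i₁, i₂, sq, h1⟩
  have has : RepWith @Surjective (q ≫ p) := by
    apply MorphismProperty.relative.of_exists
    intro T ξ
    obtain ⟨I, i₁, i₂, sq, h1, h2, h3⟩ := key ξ
    exact ⟨I, (yon S).map i₁, i₂, sq, h2⟩
  haveI : Epi (q ≫ p) := Groth.Agent.Lib.helper5.epi_of_etale_surjective _ hae has
  obtain ⟨R, r₁, r₂, hk, -, -, hr⟩ := key (q ≫ p)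
  exact ⟨representable_diag_of_kernelPair' (q ≫ p) r₁ r₂ hk hr, W, q ≫ p, hae, has⟩

/-- Let `F` be an fppf sheaf of sets over `S` and `X ⟶ F` a map from an algebraic space that is
surjective, etale and representable by algebraic spaces. It follows that `F` is an algebraic space.
(The published statement also gives an equivalent set of conditions in which the diagonal of `F` is
representable by algebraic spaces; this row uses the form with the map representable by algebraic
spaces.) -/
theorem result (S : Scheme.{u}) (F : AlgSp.Sp S) (X : AlgSp.Space S)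
    (p : X.obj ⟶ F) (hp : AlgSp.RepBySpWith (AlgSp.IsSurjectiveMor ⊓ AlgSp.IsEtaleMor) p.hom) :
    AlgSp.IsAlgSpace F := by
  exact main S F X p hp

end Groth.Agent.S10101
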