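import Groth.Statements.S10106
import Mathlib
import Groth.Agent.Lib.Helper5.FppfBoot3

set_option autoImplicit false
universe u
open CategoryTheory CategoryTheory.Limits AlgebraicGeometry
open AlgSp

namespace Groth.Agent.S10106

/-- Let `a : F ⟶ G` and `b : G ⟶ H` be maps of fppf sheaves of sets over `S` where `a` is flat,
surjective, locally of finite presentation and representable by algebraic spaces, and the composite
`a ≫ b` is representable by algebraic spaces. Then so is `b`. -/
theorem result (S : Scheme.{u}) (F G H : AlgSp.Sp S) (a : F ⟶ G) (b : G ⟶ H)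
    (ha : AlgSp.RepBySpWith (AlgSp.IsSurjectiveMor ⊓ AlgSp.LocP @Flat ⊓ AlgSp.LocP @LocallyOfFinitePresentation) a.hom) (hab : AlgSp.RepBySp (a ≫ b).hom) :
    AlgSp.RepBySp b.hom := by
  have ha' := (AlgSp.repBySpWith_hom_iff _ a).1 ha
  have hab' := (AlgSp.repBySp_hom_iff (a ≫ b)).1 hab
  rw [AlgSp.repBySp_hom_iff]
  intro T ξ G' fst snd sq
  have sqA : IsPullback (pullback.fst a fst) (pullback.snd a fst) a fst :=
    IsPullback.of_hasPullback a fst
  have hF' : AlgSp.IsAlgSpace (pullback a fst) :=
    hab' ξ (pullback.fst a fst) (pullback.snd a fst ≫ snd) (sqA.paste_vert sq)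
  refine Groth.Agent.Lib.helper5.FppfBoot.isAlgSpace_of_repBySpWith_fppf hF' (pullback.snd a fst) ?_
  intro Z ζ F'' fst' snd' sqC
  exact ha' (ζ ≫ fst) (fst' ≫ pullback.fst a fst) snd' (sqC.paste_horiz sqA)

end Groth.Agent.S10106
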