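import Groth.Statements.S10108
import Groth.Agent.Lib.Helper1.EtFppfCmp

set_option autoImplicit false
universe u
open CategoryTheory CategoryTheory.Limits AlgebraicGeometry
open AlgSp

namespace Groth.Agent.S10108

open Groth.Agent.H1.EtFppf

theorem main (S : Scheme.{u}) (F : AlgSp.PSp S)
    (h1 : Presheaf.IsSheaf (QuotSh.J Scheme.etalePrecoverage S) F)
    (U : Over S) (p : (AlgSp.pyon S).obj U ⟶ F)
    (h3 : (MorphismProperty.inverseImage @Etale (Over.forget S)).relative (AlgSp.pyon S) p ∧
      (MorphismProperty.inverseImage @Surjective (Over.forget S)).relative (AlgSp.pyon S) p) :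
    AlgSp.IsAlgSpaceP F := by
  obtain ⟨R, r₂, fst, sq⟩ := h3.1.rep p
  obtain ⟨r₁, rfl⟩ := (pyon S).map_surjective fst
  have he₂ : Etale r₂.left := h3.1.2 p _ r₂ sq
  have he₁ : Etale r₁.left := h3.1.2 p _ r₁ sq.flip
  refine isAlgSpaceP_of_etale_presentation F h1 p r₂ r₁ sq he₂ he₁ ?_
  intro T ξ
  obtain ⟨I, i, fst', sq'⟩ := h3.1.rep ξ
  obtain ⟨l, rfl⟩ := (pyon S).map_surjective fst'
  exact ⟨I, i, l, h3.1.2 ξ _ i sq', h3.2.2 ξ _ i sq', sq'.w.symm⟩

/-- A presheaf of sets on schemes over `S` which is a sheaf for the etale topology, has diagonal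
representable by schemes, and receives a representable surjective etale map from a scheme over `S`,
is an algebraic space (in particular an fppf sheaf): algebraic spaces defined with the etale
topology are the same as with the fppf topology. -/
theorem result (S : Scheme.{u}) (F : AlgSp.PSp S)
    (h1 : Presheaf.IsSheaf (QuotSh.J Scheme.etalePrecoverage S) F)
    (h2 : (AlgSp.pyon S).relativelyRepresentable (Limits.diag F))
    (U : Over S) (p : (AlgSp.pyon S).obj U ⟶ F)
    (h3 : (MorphismProperty.inverseImage @Etale (Over.forget S)).relative (AlgSp.pyon S) p ∧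
      (MorphismProperty.inverseImage @Surjective (Over.forget S)).relative (AlgSp.pyon S) p) :
    AlgSp.IsAlgSpaceP F := by
  exact main S F h1 U p h3

end Groth.Agent.S10108
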