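import Groth.Statements.S10111
import Groth.Agent.Lib.Helper5.OverSheafFam

set_option autoImplicit false
universe u v
universe w
open CategoryTheory CategoryTheory.Limits AlgebraicGeometry
open AlgSp

namespace Groth.Agent.S10111

open Groth.Agent.Lib.helper5.OverFam Opposite

abbrev Pf : MorphismProperty Scheme.{u} := @Flat ⊓ @LocallyOfFinitePresentation

section
variable {S : Scheme.{u}} {F : AlgSp.PSp S} {ι : Type v} {Fi : ι → AlgSp.PSp S} (m : ∀ i, Fi i ⟶ F)

theorem inj [∀ i, Mono (m i)] (i : ι) (T : (Over S)ᵒᵖ) : Function.Injective ((m i).app T) := by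
  have : Mono ((m i).app T) := inferInstance
  exact (mono_iff_injective _).1 this

theorem claimA [∀ i, Mono (m i)] (hb : ∀ i, AlgSp.RepBySp (m i)) (i : ι) {T : Over S} {I : Type w} {X : I → Over S}
    {π : ∀ j, X j ⟶ T} (hπ : IsFam Pf X π) (x : F.obj (op T))
    (hx : ∀ j, F.map (π j).op x ∈ Set.range ((m i).app (op (X j)))) :
    x ∈ Set.range ((m i).app (op T)) := by
  let ξ : (pyon S).obj T ⟶ F := uliftYonedaEquiv.symm x
  have hξ : ∀ (Y : Over S) (g : Y ⟶ T), ξ.app (op Y) (ULift.up g) = F.map g.op x := fun Y g => rfl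
  have sq : IsPullback (pullback.fst (m i) ξ) (pullback.snd (m i) ξ) (m i) ξ := IsPullback.of_hasPullback _ _
  obtain ⟨hsh, -⟩ := hb i ξ _ _ sq
  have sqT : ∀ T' : Over S, IsPullback ((pullback.fst (m i) ξ).app (op T')) ((pullback.snd (m i) ξ).app (op T'))
      ((m i).app (op T')) (ξ.app (op T')) := fun T' => sq.map ((evaluation _ _).obj (op T'))
  choose y hy using hx
  have hz : ∀ j, ∃ z : (pullback (m i) ξ).obj (op (X j)), (pullback.fst (m i) ξ).app (op (X j)) z = y j ∧
      (pullback.snd (m i) ξ).app (op (X j)) z = ULift.up (π j) := fun j =>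
    Types.exists_of_isPullback (sqT (X j)) (y j) (ULift.up (π j)) (by rw [hy j, hξ])
  choose z hz1 hz2 using hz
  rw [J_eq_JP] at hsh
  obtain ⟨t, ht, -⟩ := existsUnique_of_isFam hsh hπ z (by
    intro j k Z gj gk hc
    apply Types.ext_of_isPullback (sqT Z)
    · rw [NatTrans.naturality_apply, NatTrans.naturality_apply, hz1, hz1]
      apply inj m i
      rw [NatTrans.naturality_apply, NatTrans.naturality_apply, hy, hy, ← Functor.map_comp_apply,
        ← Functor.map_comp_apply, ← op_comp, ← op_comp, hc]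
    · rw [NatTrans.naturality_apply, NatTrans.naturality_apply, hz2, hz2]
      change ULift.up (gj ≫ π j) = ULift.up (gk ≫ π k)
      rw [hc])
  -- the second component of `t` is the identity
  have hsnd : (pullback.snd (m i) ξ).app (op T) t = ULift.up (𝟙 T) := by
    have hyon : Presheaf.IsSheaf (JP Pf S) ((pyon S).obj T) := by
      rw [← J_eq_JP]
      exact ((yon S).obj T).property
    refine eq_of_isFam hyon hπ _ _ (fun j => ?_)
    rw [← NatTrans.naturality_apply, ht, hz2]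
    change ULift.up (π j) = ULift.up (π j ≫ 𝟙 T)
    rw [Category.comp_id]
  refine ⟨(pullback.fst (m i) ξ).app (op T) t, ?_⟩
  have h1 := ConcreteCategory.congr_hom (sqT T).w t
  rw [ConcreteCategory.comp_apply, ConcreteCategory.comp_apply, hsnd, hξ] at h1
  rw [h1]
  simp

/-- The open subscheme `W` of `T` as a scheme over `S`. -/
abbrev subOver (T : Over S) (W : T.left.Opens) : Over S := Over.mk (W.ι ≫ T.hom)

/-- The inclusion of the open subscheme `W` of `T` over `S`. -/
abbrev subι (T : Over S) (W : T.left.Opens) : subOver T W ⟶ T := Over.homMk W.ι rfl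

/-- The open image of an fppf morphism. -/
theorem exists_image {Y T : Over S} (f : Y ⟶ T) (hf : Pf f.left) :
    ∃ (W : T.left.Opens) (φ : Y ⟶ subOver T W), φ ≫ subι T W = f ∧
      IsFam Pf (fun _ : PUnit.{1} => Y) (fun _ => φ) ∧ (W : Set ↥T.left) = Set.range f.left := by
  have hfl : Flat f.left := hf.1
  have hlfp : LocallyOfFinitePresentation f.left := hf.2
  let W : T.left.Opens := ⟨Set.range f.left, f.left.isOpenMap.isOpen_range⟩
  have hrW : Set.range f.left ⊆ Set.range W.ι := by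
    rw [Scheme.Opens.range_ι]
    exact subset_rfl
  let r' : Y.left ⟶ (W : Scheme.{u}) := IsOpenImmersion.lift W.ι f.left hrW
  have hr' : r' ≫ W.ι = f.left := IsOpenImmersion.lift_fac _ _ _
  have hr'P : Pf r' := by
    refine MorphismProperty.of_postcomp (W := Pf) (W' := @IsOpenImmersion) r' W.ι inferInstance ?_
    rw [hr']
    exact hf
  have hr's : Function.Surjective r' := by
    intro y
    obtain ⟨w, hw⟩ : (W.ι y) ∈ Set.range f.left := y.2
    refine ⟨w, ?_⟩
    apply W.ι.isOpenEmbedding.injective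
    rw [← Scheme.Hom.comp_apply, hr', hw]
  let φ : Y ⟶ subOver T W := Over.homMk r' (by
    change r' ≫ W.ι ≫ T.hom = Y.hom
    rw [← Category.assoc, hr', Over.w])
  refine ⟨W, φ, ?_, ⟨fun t => ⟨PUnit.unit, hr's t⟩, fun _ => hr'P⟩, rfl⟩
  ext
  exact hr'

theorem claimB [∀ i, Mono (m i)] (hb : ∀ i, AlgSp.RepBySp (m i))
    (hc : ∀ (T : Over S) (x : F.obj (Opposite.op T)), ∃ R ∈ (AlgSp.J S) T,
      ∀ ⦃T' : Over S⦄ (f : T' ⟶ T), R.arrows f → ∃ i, F.map f.op x ∈ Set.range ((m i).app (Opposite.op T')))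
    {T : Over S} (x : F.obj (op T)) (p : ↥T.left) :
    ∃ (W : T.left.Opens) (i : ι), p ∈ W ∧
      F.map (subι T W).op x ∈ Set.range ((m i).app (op (subOver T W))) := by
  obtain ⟨R, hR, hRx⟩ := hc T x
  rw [GrothendieckTopology.mem_over_iff] at hR
  have : Scheme.fppfPrecoverage.{u}.HasIsos := ⟨fun f _ => f.singleton_mem_fppfPrecoverage⟩
  have : Scheme.fppfPrecoverage.{u}.HasPullbacks := ⟨fun f _ => inferInstance⟩
  obtain ⟨R', hR', hle⟩ := Precoverage.mem_toGrothendieck_iff_of_isStableUnderComposition.1 hR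
  obtain ⟨𝒰, rfl⟩ := R'.exists_eq_preZeroHypercover
  rw [Scheme.fppfPrecoverage, Scheme.ofArrows_mem_precoverage_iff] at hR'
  obtain ⟨j, q, hq⟩ := hR'.1 p
  let f : Over.mk (𝒰.f j ≫ T.hom) ⟶ T := Over.homMk (𝒰.f j) rfl
  have hRf : R.arrows f := by
    have h1 := hle _ _ (Presieve.ofArrows.mk j)
    rw [Sieve.overEquiv_iff] at h1
    exact h1
  obtain ⟨i, hi⟩ := hRx f hRf
  obtain ⟨W, φ, hφ, hfam, hW⟩ := exists_image f (hR'.2 j)
  refine ⟨W, i, ?_, ?_⟩
  · change p ∈ (W : Set _)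
    rw [hW]
    exact ⟨q, hq⟩
  · refine claimA m hb i hfam _ (fun _ => ?_)
    rw [← Functor.map_comp_apply, ← op_comp, hφ]
    exact hi

theorem claimC [∀ i, Mono (m i)] (h1 : Presheaf.IsSheaf (QuotSh.J Scheme.zariskiPrecoverage S) F)
    (ha : ∀ i, Presheaf.IsSheaf (AlgSp.J S) (Fi i)) (hb : ∀ i, AlgSp.RepBySp (m i))
    (hc : ∀ (T : Over S) (x : F.obj (Opposite.op T)), ∃ R ∈ (AlgSp.J S) T,
      ∀ ⦃T' : Over S⦄ (f : T' ⟶ T), R.arrows f → ∃ i, F.map f.op x ∈ Set.range ((m i).app (Opposite.op T')))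
    {T : Over S} {I : Type w} {X : I → Over S} {π : ∀ j, X j ⟶ T} (hπ : IsFam Pf X π)
    (x x' : F.obj (op T)) (hxx : ∀ j, F.map (π j).op x = F.map (π j).op x') : x = x' := by
  choose W i hpW hW using fun p => claimB m hb hc x p
  have hzar : IsFam @IsOpenImmersion (fun p : ↥T.left => subOver T (W p)) (fun p => subι T (W p)) :=
    ⟨fun t => ⟨t, ⟨⟨t, hpW t⟩, rfl⟩⟩, fun p => inferInstanceAs (IsOpenImmersion (W p).ι)⟩
  rw [Jzar_eq_JP] at h1
  refine eq_of_isFam h1 hzar x x' (fun p => ?_)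
  obtain ⟨y, hy⟩ := hW p
  have hπ' := hπ.pullback (subι T (W p))
  have key : ∀ j, F.map (pullback.snd (π j) (subι T (W p))).op (F.map (subι T (W p)).op x') =
      F.map (pullback.snd (π j) (subι T (W p))).op (F.map (subι T (W p)).op x) := by
    intro j
    rw [← Functor.map_comp_apply, ← Functor.map_comp_apply, ← op_comp, ← pullback.condition, op_comp,
      Functor.map_comp_apply, Functor.map_comp_apply, hxx]
  have hx' : F.map (subι T (W p)).op x' ∈ Set.range ((m (i p)).app (op (subOver T (W p)))) := by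
    refine claimA m hb (i p) hπ' _ (fun j => ?_)
    refine ⟨(Fi (i p)).map (pullback.snd (π j) (subι T (W p))).op y, ?_⟩
    rw [NatTrans.naturality_apply, hy, key]
  obtain ⟨y', hy'⟩ := hx'
  rw [← hy, ← hy']
  congr 1
  have ha' : Presheaf.IsSheaf (JP Pf S) (Fi (i p)) := by
    rw [← J_eq_JP]
    exact ha (i p)
  refine eq_of_isFam ha' hπ' y y' (fun j => ?_)
  apply inj m (i p)
  rw [NatTrans.naturality_apply, NatTrans.naturality_apply, hy, hy', key]

theorem claimD_local [∀ i, Mono (m i)] (h1 : Presheaf.IsSheaf (QuotSh.J Scheme.zariskiPrecoverage S) F)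
    (ha : ∀ i, Presheaf.IsSheaf (AlgSp.J S) (Fi i)) (hb : ∀ i, AlgSp.RepBySp (m i))
    (hc : ∀ (T : Over S) (x : F.obj (Opposite.op T)), ∃ R ∈ (AlgSp.J S) T,
      ∀ ⦃T' : Over S⦄ (f : T' ⟶ T), R.arrows f → ∃ i, F.map f.op x ∈ Set.range ((m i).app (Opposite.op T')))
    {T : Over S} {I : Type w} {X : I → Over S} {π : ∀ j, X j ⟶ T} (hπ : IsFam Pf X π)
    (x : ∀ j, F.obj (op (X j)))
    (hx : ∀ (i j : I) (Z : Over S) (gi : Z ⟶ X i) (gj : Z ⟶ X j), gi ≫ π i = gj ≫ π j →
      F.map gi.op (x i) = F.map gj.op (x j)) (p : ↥T.left) :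
    ∃ (W : T.left.Opens) (s : F.obj (op (subOver T W))), p ∈ W ∧
      ∀ (Z : Over S) (a : Z ⟶ subOver T W) (j : I) (d : Z ⟶ X j), d ≫ π j = a ≫ subι T W →
        F.map a.op s = F.map d.op (x j) := by
  obtain ⟨j0, q, hq⟩ := hπ.1 p
  obtain ⟨N, i, hqN, ⟨y, hy⟩⟩ := claimB m hb hc (x j0) q
  let f : subOver (X j0) N ⟶ T := subι (X j0) N ≫ π j0
  have hf : Pf f.left := by
    have h0 := hπ.2 j0
    have hfl : Flat (π j0).left := h0.1
    have hlfp : LocallyOfFinitePresentation (π j0).left := h0.2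
    change Pf (N.ι ≫ (π j0).left)
    exact ⟨inferInstance, inferInstance⟩
  obtain ⟨W, φ, hφ, hfam, hW⟩ := exists_image f hf
  have ha' : Presheaf.IsSheaf (JP Pf S) (Fi i) := by
    rw [← J_eq_JP]
    exact ha i
  obtain ⟨yW, hyW, -⟩ := existsUnique_of_isFam ha' hfam (fun _ => y) (by
    intro _ _ Z g1 g2 hg
    apply inj m i
    rw [NatTrans.naturality_apply, NatTrans.naturality_apply, hy, ← Functor.map_comp_apply,
      ← Functor.map_comp_apply, ← op_comp, ← op_comp]
    refine hx j0 j0 Z (g1 ≫ subι _ N) (g2 ≫ subι _ N) ?_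
    rw [Category.assoc, Category.assoc]
    change g1 ≫ f = g2 ≫ f
    rw [← hφ, ← Category.assoc, hg, Category.assoc])
  refine ⟨W, (m i).app _ yW, ?_, ?_⟩
  · change p ∈ (W : Set _)
    rw [hW]
    exact ⟨⟨q, hqN⟩, hq⟩
  · intro Z a j d hda
    have hfamZ := hfam.pullback a
    refine claimC m h1 ha hb hc hfamZ _ _ (fun _ => ?_)
    rw [← Functor.map_comp_apply, ← Functor.map_comp_apply, ← op_comp, ← op_comp, ← pullback.condition,
      op_comp, Functor.map_comp_apply, ← NatTrans.naturality_apply, hyW PUnit.unit, hy,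
      ← Functor.map_comp_apply, ← op_comp]
    refine hx j0 j _ _ _ ?_
    rw [Category.assoc, Category.assoc, hda]
    change pullback.fst φ a ≫ f = _
    rw [← hφ, ← Category.assoc, pullback.condition, Category.assoc]

theorem claimD [∀ i, Mono (m i)] (h1 : Presheaf.IsSheaf (QuotSh.J Scheme.zariskiPrecoverage S) F)
    (ha : ∀ i, Presheaf.IsSheaf (AlgSp.J S) (Fi i)) (hb : ∀ i, AlgSp.RepBySp (m i))
    (hc : ∀ (T : Over S) (x : F.obj (Opposite.op T)), ∃ R ∈ (AlgSp.J S) T,
      ∀ ⦃T' : Over S⦄ (f : T' ⟶ T), R.arrows f → ∃ i, F.map f.op x ∈ Set.range ((m i).app (Opposite.op T')))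
    {T : Over S} {I : Type w} {X : I → Over S} {π : ∀ j, X j ⟶ T} (hπ : IsFam Pf X π)
    (x : ∀ j, F.obj (op (X j)))
    (hx : ∀ (i j : I) (Z : Over S) (gi : Z ⟶ X i) (gj : Z ⟶ X j), gi ≫ π i = gj ≫ π j →
      F.map gi.op (x i) = F.map gj.op (x j)) :
    ∃ t : F.obj (op T), ∀ j, F.map (π j).op t = x j := by
  choose W s hpW hs using fun p => claimD_local m h1 ha hb hc hπ x hx p
  have hzar : IsFam @IsOpenImmersion (fun p : ↥T.left => subOver T (W p)) (fun p => subι T (W p)) :=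
    ⟨fun t => ⟨t, ⟨⟨t, hpW t⟩, rfl⟩⟩, fun p => inferInstanceAs (IsOpenImmersion (W p).ι)⟩
  have h1' : Presheaf.IsSheaf (JP @IsOpenImmersion S) F := by
    rw [← Jzar_eq_JP]
    exact h1
  obtain ⟨t, ht, -⟩ := existsUnique_of_isFam h1' hzar s (by
    intro p p' Z g g' hgg
    have hfamZ := hπ.pullback (g ≫ subι T (W p))
    refine claimC m h1 ha hb hc hfamZ _ _ (fun j => ?_)
    rw [← Functor.map_comp_apply, ← Functor.map_comp_apply, ← op_comp, ← op_comp,
      hs p _ (pullback.snd (π j) (g ≫ subι T (W p)) ≫ g) j (pullback.fst _ _)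
        (by rw [pullback.condition, Category.assoc]),
      hs p' _ (pullback.snd (π j) (g ≫ subι T (W p)) ≫ g') j (pullback.fst _ _)
        (by rw [pullback.condition, Category.assoc]; exact congrArg (fun z => pullback.snd (π j) (g ≫ subι T (W p)) ≫ z) hgg)])
  refine ⟨t, fun j => ?_⟩
  have hzarj := hzar.pullback (π j)
  refine eq_of_isFam h1' hzarj _ _ (fun p => ?_)
  rw [← Functor.map_comp_apply, ← op_comp, ← pullback.condition, op_comp, Functor.map_comp_apply, ht]
  exact hs p _ _ j _ pullback.condition.symm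

end


/-- Let `F` be a presheaf of sets on schemes over `S` which is a Zariski sheaf, and `F_i ⊂ F` a family
of subfunctors which are fppf sheaves, whose inclusions are representable by algebraic spaces, and
such that `∐ F_i ⟶ F` becomes surjective after fppf sheafification (every section of `F` lies fppf
locally in some `F_i`). Then `F` is an fppf sheaf. -/
theorem result (S : Scheme.{u}) (F : AlgSp.PSp S)
    (h1 : Presheaf.IsSheaf (QuotSh.J Scheme.zariskiPrecoverage S) F) {ι : Type v} (Fi : ι → AlgSp.PSp S)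
    (m : ∀ i, Fi i ⟶ F) [∀ i, Mono (m i)] (ha : ∀ i, Presheaf.IsSheaf (AlgSp.J S) (Fi i))
    (hb : ∀ i, AlgSp.RepBySp (m i))
    (hc : ∀ (T : Over S) (x : F.obj (Opposite.op T)), ∃ R ∈ (AlgSp.J S) T,
      ∀ ⦃T' : Over S⦄ (f : T' ⟶ T), R.arrows f → ∃ i, F.map f.op x ∈ Set.range ((m i).app (Opposite.op T'))) :
    Presheaf.IsSheaf (AlgSp.J S) F := by
  rw [J_eq_JP]
  refine isSheaf_of_forall_isFam (fun T I X π hπ => ?_)
  rw [Presieve.isSheafFor_arrows_iff]
  intro x hx
  obtain ⟨t, ht⟩ := claimD m h1 ha hb hc hπ x hx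
  exact ⟨t, ht, fun t' ht' => claimC m h1 ha hb hc hπ t' t (fun j => by rw [ht, ht'])⟩

end Groth.Agent.S10111
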