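import Groth.Statements.S10113
import Mathlib.CategoryTheory.Sites.RegularEpi

set_option autoImplicit false
universe u
open CategoryTheory CategoryTheory.Limits AlgebraicGeometry
open AlgSp

namespace Groth.Agent.S10113

/-- Let `s, t : R ⟶ U` be a pre-relation of algebraic spaces, `M` an algebraic space and `U ⟶ M` a
morphism which coequalizes `s, t`, is a surjection of sheaves, and for which `(t, s) : R ⟶ U ×_M U`
is a surjection of sheaves. Then the induced map `U/R ⟶ M` is an isomorphism: `M` represents the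
quotient sheaf. -/
theorem result (S : Scheme.{u}) (R U M : AlgSp.Sp S)
    (hR : AlgSp.IsAlgSpace R) (hU : AlgSp.IsAlgSpace U) (hM : AlgSp.IsAlgSpace M) (s t : R ⟶ U)
    (q : U ⟶ M) (w : s ≫ q = t ≫ q) [Epi q] [Epi (pullback.lift t s w.symm : R ⟶ pullback q q)] :
    IsIso (AlgSp.quotSpDesc q w) := by
  have : IsRegularEpi q := IsRegularEpiCategory.regularEpiOfEpi q
  have : EffectiveEpi q := inferInstance
  have hc : IsColimit (Cofork.ofπ q (pullback.condition (f := q) (g := q))) :=
    isColimitCoforkOfEffectiveEpi q _ (pullback.isLimit q q)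
  have key : ∀ {Z : AlgSp.Sp S} (k : U ⟶ Z), s ≫ k = t ≫ k →
      pullback.fst q q ≫ k = pullback.snd q q ≫ k := by
    intro Z k hk
    rw [← cancel_epi (pullback.lift t s w.symm : R ⟶ pullback q q)]
    rw [pullback.lift_fst_assoc, pullback.lift_snd_assoc]
    exact hk.symm
  let inv : M ⟶ AlgSp.quotSp s t :=
    Cofork.IsColimit.desc hc (AlgSp.quotSpπ s t) (key _ (AlgSp.quotSp_condition s t))
  have hinv : q ≫ inv = AlgSp.quotSpπ s t := Cofork.IsColimit.π_desc hc
  refine ⟨inv, ?_, ?_⟩
  · apply coequalizer.hom_ext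
    change AlgSp.quotSpπ s t ≫ AlgSp.quotSpDesc q w ≫ inv = AlgSp.quotSpπ s t ≫ 𝟙 _
    rw [AlgSp.quotSpπ_desc_assoc, hinv, Category.comp_id]
  · apply Cofork.IsColimit.hom_ext hc
    change q ≫ inv ≫ AlgSp.quotSpDesc q w = q ≫ 𝟙 _
    rw [← Category.assoc, hinv, AlgSp.quotSpπ_desc, Category.comp_id]

end Groth.Agent.S10113
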