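import Groth.Statements.S10115
import Groth.Agent.Lib.Helper14.AlgSpQuot6

set_option autoImplicit false
universe u
open CategoryTheory CategoryTheory.Limits AlgebraicGeometry
open AlgSp AlgSp.GroupoidSp

namespace Groth.Agent.S10115

/-- For a groupoid `(U, R, s, t, c)` in algebraic spaces over `B`, let `(U', R', s', t', c')` be its
restriction along a morphism `g : U' ⟶ U` over `B`. Then `U'/R' ⟶ U/R` is injective; if the
composite `h : U' ×_{g, U, t} R ⟶ R ⟶ U` of the projection with `s` is a surjection of fppf sheaves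
(for instance if `g` is), then it is bijective. -/
theorem result (S : Scheme.{u}) (B : AlgSp.Sp S) (hB : AlgSp.IsAlgSpace B)
    (G G' : AlgSp.GroupoidSp B) (hU : AlgSp.IsAlgSpace G.U) (hR : AlgSp.IsAlgSpace G.R)
    (hU' : AlgSp.IsAlgSpace G'.U) (hR' : AlgSp.IsAlgSpace G'.R) (φ : AlgSp.GroupoidSp.Hom G' G)
    (hφ : φ.IsRestriction) (ψ : G'.quot ⟶ G.quot) (hψ : G'.quotπ ≫ ψ = φ.fU ≫ G.quotπ) :
    Mono ψ ∧ (Epi (pullback.snd φ.fU G.t ≫ G.s) → IsIso ψ) := by
  have hpre : AlgSp.IsPreEqvRelSp G.s G.t := by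
    intro T
    refine ⟨fun x => ?_, fun {x y} hxy => ?_, fun {x y z} hxy hyz => ?_⟩
    · exact ⟨x ≫ G.e, by rw [Category.assoc, G.e_t, Category.comp_id],
        by rw [Category.assoc, G.e_s, Category.comp_id]⟩
    · obtain ⟨r, rfl, rfl⟩ := hxy
      exact ⟨r ≫ G.i, by rw [Category.assoc, G.i_t], by rw [Category.assoc, G.i_s]⟩
    · obtain ⟨r₁, rfl, rfl⟩ := hxy
      obtain ⟨r₂, h, rfl⟩ := hyz
      exact ⟨pullback.lift r₁ r₂ h.symm ≫ G.c, G.comp_t r₁ r₂ h.symm, G.comp_s r₁ r₂ h.symm⟩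
  have hm : Mono ψ := by
    refine Groth.Agent.Lib.Helper14.AlgSpQuot.mono_quotSp_of_restrict G.s G.t hpre φ.fU G'.s G'.t ?_ ψ hψ
    intro T y₁ y₂ ρ h1 h2
    have hpU : y₁ ≫ G'.pU = y₂ ≫ G'.pU := by
      rw [← φ.fU_over, ← Category.assoc, ← h1, ← Category.assoc, ← h2, Category.assoc,
        Category.assoc, G.t_over, G.s_over]
    have hw : ρ ≫ G.j = pullback.lift y₁ y₂ hpU ≫ φ.prodMap := by
      apply pullback.hom_ext
      · rw [Category.assoc, Category.assoc, AlgSp.GroupoidSp.j_fst, h1]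
        unfold AlgSp.GroupoidSp.Hom.prodMap
        rw [pullback.lift_fst, pullback.lift_fst_assoc]
      · rw [Category.assoc, Category.assoc, AlgSp.GroupoidSp.j_snd, h2]
        unfold AlgSp.GroupoidSp.Hom.prodMap
        rw [pullback.lift_snd, pullback.lift_snd_assoc]
    refine ⟨hφ.lift ρ (pullback.lift y₁ y₂ hpU) hw, ?_, ?_⟩
    · have := hφ.lift_snd ρ (pullback.lift y₁ y₂ hpU) hw
      have := congrArg (fun k => k ≫ pullback.fst _ _) this
      simp only [Category.assoc, AlgSp.GroupoidSp.j_fst, pullback.lift_fst] at this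
      exact this
    · have := hφ.lift_snd ρ (pullback.lift y₁ y₂ hpU) hw
      have := congrArg (fun k => k ≫ pullback.snd _ _) this
      simp only [Category.assoc, AlgSp.GroupoidSp.j_snd, pullback.lift_snd] at this
      exact this
  refine ⟨hm, fun hg => ?_⟩
  haveI : Epi G.quotπ := by
    unfold AlgSp.GroupoidSp.quotπ AlgSp.quotSpπ
    exact coequalizer.π_epi
  have e : (pullback.fst φ.fU G.t ≫ G'.quotπ) ≫ ψ = (pullback.snd φ.fU G.t ≫ G.s) ≫ G.quotπ := by
    rw [Category.assoc, hψ, ← Category.assoc, pullback.condition, Category.assoc, Category.assoc]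
    congr 1
    exact (AlgSp.quotSp_condition G.s G.t).symm
  haveI : Epi ((pullback.fst φ.fU G.t ≫ G'.quotπ) ≫ ψ) := by
    rw [e]
    exact epi_comp _ _
  haveI : Epi ψ := epi_of_epi (pullback.fst φ.fU G.t ≫ G'.quotπ) ψ
  exact isIso_of_mono_of_epi ψ

end Groth.Agent.S10115
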