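import Groth.Statements.S10116
import Groth.Agent.S10122

set_option autoImplicit false
universe u
open CategoryTheory CategoryTheory.Limits AlgebraicGeometry MonoidalCategory MonObj
open AlgSp

namespace Groth.Agent.S10116

open CartesianMonoidalCategory

section cat

variable {C : Type*} [Category C] [CartesianMonoidalCategory C] (G : C) [GrpObj G]

/-- `(g, g') ↦ g⁻¹ g'`. -/
noncomputable def φ : G ⊗ G ⟶ G := (fst G G)⁻¹ * snd G G

theorem sqUnit : IsPullback (toUnit G) (lift (𝟙 G) (𝟙 G)) η[G] (φ G) := by
  apply Groth.Agent.Lib.helper5.isPullback_of_exists_lift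
  · rw [← Hom.one_def]
    unfold φ
    rw [MonObj.comp_mul, GrpObj.comp_inv, lift_fst, lift_snd, inv_mul_cancel]
  · intro T a b hab
    have ha : a = toUnit T := toUnit_unique _ _
    have h1 : (1 : T ⟶ G) = (b ≫ fst G G)⁻¹ * (b ≫ snd G G) := by
      rw [Hom.one_def, ← ha, hab]
      unfold φ
      rw [MonObj.comp_mul, GrpObj.comp_inv]
    have h2 : b ≫ fst G G = b ≫ snd G G := by
      have := congrArg (fun x => (b ≫ fst G G) * x) h1
      simpa using this
    refine ⟨b ≫ fst G G, toUnit_unique _ _, ?_⟩
    apply CartesianMonoidalCategory.hom_ext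
    · simp
    · simp [h2]
  · intro T l l' _ h2
    simpa using congrArg (· ≫ fst G G) h2

end cat

variable {S : Scheme.{u}} {B : AlgSp.Sp S} (G : Over B) [GrpObj G]

theorem sqUnit_left :
    IsPullback G.hom (pullback.diagonal G.hom) (η[G]).left (φ G).left := by
  have := (sqUnit G).map (Over.forget B)
  exact this

theorem η_hom : (η[G]).left ≫ G.hom = 𝟙 B := by
  have := Over.w η[G]
  simpa using this

variable (P : MorphismProperty Scheme.{u})

theorem step2 (h : RepWith P (pullback.diagonal G.hom)) : RepWith P (η[G]).left :=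
  (repWith_isStableUnderBaseChange (S := S) P).of_isPullback
    (Groth.Agent.S10122.isPullback_section G.hom (η[G]).left (η_hom G)) h

theorem step3 (h : RepWith P (η[G]).left) : RepWith P (pullback.diagonal G.hom) :=
  (repWith_isStableUnderBaseChange (S := S) P).of_isPullback (sqUnit_left G) h

theorem main (S : Scheme.{u}) (B : AlgSp.Sp S) (hB : AlgSp.IsAlgSpace B)
    (G : Over B) [GrpObj G] (hG : AlgSp.IsAlgSpace G.left) :
    (AlgSp.IsSeparatedMor G.hom ↔ AlgSp.RepWith @IsClosedImmersion (η[G]).left) ∧
      (AlgSp.IsQuasiSeparatedMor G.hom ↔ AlgSp.IsQuasiCompactMor (η[G]).left) ∧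
      (AlgSp.IsLocallySeparatedMor G.hom → AlgSp.RepWith @IsImmersion (η[G]).left) := by
  have hrep : Representable (η[G]).left :=
    Groth.Agent.Lib.helper5.representable_of_isPullback
      (Groth.Agent.H1.Diagonal.representable_diagonal hG.diag G.hom)
      (Groth.Agent.S10122.isPullback_section G.hom (η[G]).left (η_hom G))
  refine ⟨⟨step2 G _, step3 G _⟩,
    ⟨fun h => Groth.Agent.Lib.helper7.AlgSpQC.isQuasiCompactMor_of_repWith (step2 G _ h),
     fun h => step3 G _ (Groth.Agent.Lib.helper7.AlgSpQC.repWith_of_isQuasiCompactMor hrep h)⟩,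
    step2 G _⟩

/-- Let `G` be a group algebraic space over an algebraic space `B` with unit `e : B ⟶ G`. Then `G ⟶ B`
is separated if and only if `e` is a closed immersion, quasi-separated if and only if `e` is
quasi-compact, and if `G ⟶ B` is locally separated then `e` is an immersion. (The published
statement makes the last part an equivalence as well; this row states only that a locally separated
`G ⟶ B` has `e` an immersion.) -/
theorem result (S : Scheme.{u}) (B : AlgSp.Sp S) (hB : AlgSp.IsAlgSpace B)
    (G : Over B) [GrpObj G] (hG : AlgSp.IsAlgSpace G.left) :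
    (AlgSp.IsSeparatedMor G.hom ↔ AlgSp.RepWith @IsClosedImmersion (η[G]).left) ∧
      (AlgSp.IsQuasiSeparatedMor G.hom ↔ AlgSp.IsQuasiCompactMor (η[G]).left) ∧
      (AlgSp.IsLocallySeparatedMor G.hom → AlgSp.RepWith @IsImmersion (η[G]).left) := by
  exact main S B hB G hG

end Groth.Agent.S10116
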