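import Groth.Statements.S10117
import Mathlib

set_option autoImplicit false
universe u
open CategoryTheory CategoryTheory.Limits AlgebraicGeometry MonoidalCategory MonObj
open AlgSp AlgSp.GAction

namespace Groth.Agent.S10117

section helpers
open CartesianMonoidalCategory MonoidalCategory MonObj
open scoped MonObj

variable {S : Scheme.{u}} {B : AlgSp.Sp S} {G X : Over B} [GrpObj G] (a : AlgSp.GAction G X)

/-- the action on `T`-points -/
noncomputable def sm {T : Over B} (g : T ⟶ G) (x : T ⟶ X) : T ⟶ X := lift g x ≫ a.act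

theorem one_sm {T : Over B} (x : T ⟶ X) : sm a (1 : T ⟶ G) x = x := by
  unfold sm
  have : lift (1 : T ⟶ G) x = lift (toUnit T) x ≫ (η[G] ▷ X) := by
    rw [Hom.one_def]; simp
  rw [this, Category.assoc, a.one_act]
  simp

theorem mul_sm {T : Over B} (g h : T ⟶ G) (x : T ⟶ X) :
    sm a (g * h) x = sm a g (sm a h x) := by
  unfold sm
  have : lift (g * h) x = lift (lift g h) x ≫ (μ[G] ▷ X) := by
    rw [Hom.mul_def]; simp
  rw [this, Category.assoc, a.mul_act]
  simp

theorem main (ha : a.IsFree) :
    Mono (lift a.act (snd G X)).left := by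
  refine ⟨fun {Z} u v huv => ?_⟩
  apply GrothendieckTopology.hom_ext_uliftYoneda.{u + 1, u, u + 1} (J := AlgSp.J S)
  intro T c
  set u' := c ≫ u with hu'
  set v' := c ≫ v with hv'
  have huv' : u' ≫ (lift a.act (snd G X)).left = v' ≫ (lift a.act (snd G X)).left := by
    rw [hu', hv', Category.assoc, Category.assoc, huv]
  have hβ : v' ≫ (G ⊗ X).hom = u' ≫ (G ⊗ X).hom := by
    rw [← Over.w (lift a.act (snd G X)), ← Category.assoc, ← huv', Category.assoc]
  let P : Over.mk (u' ≫ (G ⊗ X).hom) ⟶ G ⊗ X := Over.homMk u' rfl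
  let Q : Over.mk (u' ≫ (G ⊗ X).hom) ⟶ G ⊗ X := Over.homMk v' hβ
  have hPQ : P ≫ lift a.act (snd G X) = Q ≫ lift a.act (snd G X) :=
    Over.OverMorphism.ext huv'
  suffices P = Q from congrArg (fun f => f.left) this
  have hP : P = lift (P ≫ fst G X) (P ≫ snd G X) := by
    apply CartesianMonoidalCategory.hom_ext <;> simp
  have hQ : Q = lift (Q ≫ fst G X) (Q ≫ snd G X) := by
    apply CartesianMonoidalCategory.hom_ext <;> simp
  have hx : P ≫ snd G X = Q ≫ snd G X := by
    have := congrArg (· ≫ snd X X) hPQ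
    simpa using this
  have hg : sm a (P ≫ fst G X) (P ≫ snd G X) = sm a (Q ≫ fst G X) (Q ≫ snd G X) := by
    have := congrArg (· ≫ fst X X) hPQ
    simp only [Category.assoc, lift_fst] at this
    unfold sm
    rw [← hP, ← hQ]
    exact this
  set g₁ := P ≫ fst G X
  set g₂ := Q ≫ fst G X
  set x := P ≫ snd G X
  rw [← hx] at hg hQ
  have key : sm a (g₂⁻¹ * g₁) x = x := by
    rw [mul_sm, hg, ← mul_sm, inv_mul_cancel, one_sm]
  have h1 : g₂⁻¹ * g₁ = 1 := ha _ (g₂⁻¹ * g₁) x key
  have h2 : g₁ = g₂ := by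
    have := congrArg (g₂ * ·) h1
    simpa using this
  rw [hP, hQ, h2]

end helpers

/-- If a group algebraic space `G` over `B` acts freely on an algebraic space `X` over `B`, then `G ×_B
X ⟶ X ×_B X`, `(g, x) ↦ (g x, x)`, is a monomorphism. (The published statement is an equivalence;
this row states only the direction from free to monomorphism.) -/
theorem result (S : Scheme.{u}) (B : AlgSp.Sp S) (hB : AlgSp.IsAlgSpace B)
    (G X : Over B) [GrpObj G] (hG : AlgSp.IsAlgSpace G.left) (hX : AlgSp.IsAlgSpace X.left)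
    (a : AlgSp.GAction G X) (ha : a.IsFree) :
    Mono (CartesianMonoidalCategory.lift a.act (CartesianMonoidalCategory.snd G X)).left := by
  exact main a ha

end Groth.Agent.S10117
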