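import Groth.Statements.S10121
import Groth.Agent.Lib.Helper10.AlgSpPoints

set_option autoImplicit false
universe u
open CategoryTheory CategoryTheory.Limits AlgebraicGeometry
open AlgSp

namespace Groth.Agent.S10121

open Groth.Agent.Lib.helper10 in
theorem fieldPtOfHom_self {S : Scheme.{u}} {F : AlgSp.Sp S} (p : AlgSp.FieldPt F) :
    AlgSp.Points.mk (fieldPtOfHom p.str p.toHom) = AlgSp.Points.mk p := by
  have := mk_fieldPtOfHom_comp p p.str (𝟙 _)
  rwa [(AlgSp.yon S).map_id, Category.id_comp] at this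

open Groth.Agent.Lib.helper10 in
theorem map_mk_fieldPtOfHom {S : Scheme.{u}} {F G : AlgSp.Sp S} {Ω : Type u} [Field Ω]
    (w : Spec (CommRingCat.of Ω) ⟶ S) (l : (AlgSp.yon S).obj (Over.mk w) ⟶ F) (f : F ⟶ G) :
    AlgSp.Points.map f (AlgSp.Points.mk (fieldPtOfHom w l)) =
      AlgSp.Points.mk (fieldPtOfHom w (l ≫ f)) := by
  rw [AlgSp.Points.map_mk, fieldPtOfHom_map]

/-- For a pre-equivalence relation `s, t : R ⟶ U` of algebraic spaces, the relation on points of `U`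
given by `x ∼ y` when some point `r` of `R` has `t(r) = x` and `s(r) = y` is an equivalence relation
on `|U|`. -/
theorem result (S : Scheme.{u}) (R U : AlgSp.Sp S)
    (hR : AlgSp.IsAlgSpace R) (hU : AlgSp.IsAlgSpace U) (s t : R ⟶ U) (h : AlgSp.IsPreEqvRelSp s t) :
    _root_.Equivalence (fun x y : AlgSp.Points U =>
      ∃ r : AlgSp.Points R, AlgSp.Points.map t r = x ∧ AlgSp.Points.map s r = y) := by
  refine ⟨?_, ?_, ?_⟩
  · intro x
    induction x using AlgSp.Points.ind with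
    | h p =>
    obtain ⟨r, hr1, hr2⟩ := (h p.pt).refl p.toHom
    refine ⟨AlgSp.Points.mk (Groth.Agent.Lib.helper10.fieldPtOfHom p.str r), ?_, ?_⟩
    · rw [map_mk_fieldPtOfHom, hr1, fieldPtOfHom_self]
    · rw [map_mk_fieldPtOfHom, hr2, fieldPtOfHom_self]
  · rintro x y ⟨ρ, rfl, rfl⟩
    induction ρ using AlgSp.Points.ind with
    | h p =>
    obtain ⟨r, hr1, hr2⟩ := (h p.pt).symm ⟨p.toHom, rfl, rfl⟩
    refine ⟨AlgSp.Points.mk (Groth.Agent.Lib.helper10.fieldPtOfHom p.str r), ?_, ?_⟩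
    · rw [map_mk_fieldPtOfHom, hr1, ← map_mk_fieldPtOfHom, fieldPtOfHom_self]
    · rw [map_mk_fieldPtOfHom, hr2, ← map_mk_fieldPtOfHom, fieldPtOfHom_self]
  · rintro x y z ⟨ρ₁, rfl, rfl⟩ ⟨ρ₂, h₂, rfl⟩
    induction ρ₁ using AlgSp.Points.ind with
    | h p₁ =>
    induction ρ₂ using AlgSp.Points.ind with
    | h p₂ =>
    obtain ⟨Ω, _, w, a', b', hab'⟩ := AlgSp.Points.mk_eq_mk_iff.mp h₂
    obtain ⟨a, rfl⟩ : ∃ a : Over.mk w ⟶ p₂.pt, a = a' := ⟨a', rfl⟩
    obtain ⟨b, rfl⟩ : ∃ b : Over.mk w ⟶ p₁.pt, b = b' := ⟨b', rfl⟩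
    have hab : U.obj.map a.op (p₂.map t).val = U.obj.map b.op (p₁.map s).val := hab'
    have key : ∀ (r : AlgSp.FieldPt R) (c : Over.mk w ⟶ r.pt) (k : R ⟶ U),
        (AlgSp.J S).uliftYonedaEquiv (((AlgSp.yon S).map c ≫ r.toHom) ≫ k) =
          U.obj.map c.op (r.map k).val := by
      intro r c k
      rw [GrothendieckTopology.uliftYonedaEquiv_comp (AlgSp.J S) ((AlgSp.yon S).map c ≫ r.toHom) k,
        ← GrothendieckTopology.uliftYonedaEquiv_naturality, AlgSp.FieldPt.uliftYonedaEquiv_toHom,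
        NatTrans.naturality_apply]
      rfl
    have e : ((AlgSp.yon S).map a ≫ p₂.toHom) ≫ t = ((AlgSp.yon S).map b ≫ p₁.toHom) ≫ s := by
      apply (AlgSp.J S).uliftYonedaEquiv.injective
      rw [key, key]
      exact hab
    obtain ⟨r, hr1, hr2⟩ := (h (Over.mk w)).trans
      ⟨(AlgSp.yon S).map b ≫ p₁.toHom, rfl, rfl⟩ ⟨(AlgSp.yon S).map a ≫ p₂.toHom, e, rfl⟩
    refine ⟨AlgSp.Points.mk (Groth.Agent.Lib.helper10.fieldPtOfHom w r), ?_, ?_⟩
    · rw [map_mk_fieldPtOfHom, hr1, ← map_mk_fieldPtOfHom,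
        Groth.Agent.Lib.helper10.mk_fieldPtOfHom_comp]
    · rw [map_mk_fieldPtOfHom, hr2, ← map_mk_fieldPtOfHom,
        Groth.Agent.Lib.helper10.mk_fieldPtOfHom_comp]

end Groth.Agent.S10121
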