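import Groth.Statements.S10123
import Groth.Agent.Lib.Helper1.LocPStable
import Groth.Agent.Lib.Helper5.AlgSpLocPBC
import Groth.Agent.Lib.Helper5.AlgSpLocPInst
import Groth.Agent.Lib.Helper5.AlgSpLocPInst2

set_option autoImplicit false
universe u
open CategoryTheory CategoryTheory.Limits AlgebraicGeometry
open AlgSp AlgSp.GroupoidSp

namespace Groth.Agent.S10123

open Groth.Agent.Lib.helper5.LocPBC

variable {S : Scheme.{u}}

set_option backward.isDefEq.respectTransparency false in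
/-- Abstract form: `R' = U' ×_{U,p} R ×_{q,U} U'`, so `p'` is a composite of base changes of `g` and `p`. -/
theorem locP_restrict {P : MorphismProperty Scheme.{u}} (hP : LocPData P) [P.IsStableUnderComposition]
    {U U' R R' : Sp S} (hU : IsAlgSpace U) (hU' : IsAlgSpace U') (hR : IsAlgSpace R)
    (hR' : IsAlgSpace R')
    (g : U' ⟶ U) (p q : R ⟶ U) (p' q' : R' ⟶ U') (fR : R' ⟶ R)
    (comm_p : fR ≫ p = p' ≫ g) (comm_q : fR ≫ q = q' ≫ g)
    (Hex : ∀ {T : Sp S} (r : T ⟶ R) (u1 u2 : T ⟶ U'), r ≫ p = u1 ≫ g → r ≫ q = u2 ≫ g →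
      ∃ r' : T ⟶ R', r' ≫ fR = r ∧ r' ≫ p' = u1 ∧ r' ≫ q' = u2)
    (Huniq : ∀ {T : Sp S} (l l' : T ⟶ R'), l ≫ fR = l' ≫ fR → l ≫ p' = l' ≫ p' →
      l ≫ q' = l' ≫ q' → l = l')
    (hp : LocP P p) (hg : LocP P g) : LocP P p' := by
  have sqA : IsPullback (pullback.fst p g) (pullback.snd p g) p g := IsPullback.of_hasPullback p g
  have hA : IsAlgSpace (pullback p g) :=
    Groth.Agent.Lib.helper5.isAlgSpace_of_isPullback hU.diag hR hU' sqA
  have ha2 : LocP P (pullback.snd p g) := locP_of_isPullback hP hR hU hU' sqA hp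
  have sqM : IsPullback q' (pullback.lift fR p' comm_p) g (pullback.fst p g ≫ q) := by
    apply Groth.Agent.Lib.helper5.isPullback_of_exists_lift
    · rw [pullback.lift_fst_assoc, comm_q]
    · intro T u x hux
      obtain ⟨r', h1, h2, h3⟩ := Hex (x ≫ pullback.fst p g) (x ≫ pullback.snd p g) u
        (by rw [Category.assoc, Category.assoc, pullback.condition])
        (by rw [Category.assoc, hux])
      refine ⟨r', h3, ?_⟩
      apply pullback.hom_ext
      · rw [Category.assoc, pullback.lift_fst, h1]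
      · rw [Category.assoc, pullback.lift_snd, h2]
    · intro T l l' h1 h2
      apply Huniq l l'
      · simpa using congrArg (· ≫ pullback.fst p g) h2
      · simpa using congrArg (· ≫ pullback.snd p g) h2
      · exact h1
  have hm : LocP P (pullback.lift fR p' comm_p) := locP_of_isPullback hP hU' hU hA sqM hg
  have := Groth.Agent.H1.LocPStable.locP_comp (P := P)
    (fun f g he hs h => hP.descend f g he hs h) hA _ _ hm ha2
  rwa [pullback.lift_snd] at this

variable {B : AlgSp.Sp S}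

set_option backward.isDefEq.respectTransparency false in
theorem exists_lift_of_isRestriction {G G' : AlgSp.GroupoidSp B} (φ : AlgSp.GroupoidSp.Hom G' G)
    (hφ : φ.IsRestriction) {T : Sp S} (r : T ⟶ G.R) (u1 u2 : T ⟶ G'.U)
    (h1 : r ≫ G.s = u1 ≫ φ.fU) (h2 : r ≫ G.t = u2 ≫ φ.fU) :
    ∃ r' : T ⟶ G'.R, r' ≫ φ.fR = r ∧ r' ≫ G'.s = u1 ∧ r' ≫ G'.t = u2 := by
  have hc : u2 ≫ G'.pU = u1 ≫ G'.pU := by
    rw [← φ.fU_over, ← Category.assoc, ← h2, ← Category.assoc, ← h1, Category.assoc, Category.assoc,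
      G.s_over, G.t_over]
  have hw : r ≫ G.j = pullback.lift u2 u1 hc ≫ φ.prodMap := by
    unfold GroupoidSp.Hom.prodMap
    apply pullback.hom_ext
    · simp [h2]
    · simp [h1]
  have hφ' : IsPullback φ.fR G'.j G.j φ.prodMap := hφ
  refine ⟨hφ'.lift r _ hw, hφ'.lift_fst _ _ _, ?_, ?_⟩
  · rw [← G'.j_snd, ← Category.assoc, hφ'.lift_snd, pullback.lift_snd]
  · rw [← G'.j_fst, ← Category.assoc, hφ'.lift_snd, pullback.lift_fst]

set_option backward.isDefEq.respectTransparency false in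
theorem uniq_of_isRestriction {G G' : AlgSp.GroupoidSp B} (φ : AlgSp.GroupoidSp.Hom G' G)
    (hφ : φ.IsRestriction) {T : Sp S} (l l' : T ⟶ G'.R) (h0 : l ≫ φ.fR = l' ≫ φ.fR)
    (h1 : l ≫ G'.s = l' ≫ G'.s) (h2 : l ≫ G'.t = l' ≫ G'.t) : l = l' := by
  have hφ' : IsPullback φ.fR G'.j G.j φ.prodMap := hφ
  apply hφ'.hom_ext h0
  apply pullback.hom_ext
  · simpa using h2
  · simpa using h1

theorem both {P : MorphismProperty Scheme.{u}} (hP : LocPData P) [P.IsStableUnderComposition]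
    (G G' : AlgSp.GroupoidSp B) (hU : AlgSp.IsAlgSpace G.U) (hR : AlgSp.IsAlgSpace G.R)
    (hU' : AlgSp.IsAlgSpace G'.U) (hR' : AlgSp.IsAlgSpace G'.R) (φ : AlgSp.GroupoidSp.Hom G' G)
    (hφ : φ.IsRestriction) (hs : LocP P G.s) (ht : LocP P G.t) (hg : LocP P φ.fU) :
    LocP P G'.s ∧ LocP P G'.t := by
  constructor
  · exact locP_restrict hP hU hU' hR hR' φ.fU G.s G.t G'.s G'.t φ.fR φ.comm_s φ.comm_t
      (fun r u1 u2 h1 h2 => exists_lift_of_isRestriction φ hφ r u1 u2 h1 h2)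
      (fun l l' h0 h1 h2 => uniq_of_isRestriction φ hφ l l' h0 h1 h2) hs hg
  · exact locP_restrict hP hU hU' hR hR' φ.fU G.t G.s G'.t G'.s φ.fR φ.comm_t φ.comm_s
      (fun r u1 u2 h1 h2 => by
        obtain ⟨r', a, b, c⟩ := exists_lift_of_isRestriction φ hφ r u2 u1 h2 h1
        exact ⟨r', a, c, b⟩)
      (fun l l' h0 h1 h2 => uniq_of_isRestriction φ hφ l l' h0 h2 h1) ht hg

theorem main (S : Scheme.{u}) (B : AlgSp.Sp S) (hB : AlgSp.IsAlgSpace B)
    (G G' : AlgSp.GroupoidSp B) (hU : AlgSp.IsAlgSpace G.U) (hR : AlgSp.IsAlgSpace G.R)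
    (hU' : AlgSp.IsAlgSpace G'.U) (hR' : AlgSp.IsAlgSpace G'.R) (φ : AlgSp.GroupoidSp.Hom G' G)
    (hφ : φ.IsRestriction) :
    (AlgSp.LocP @LocallyOfFiniteType G.s → AlgSp.LocP @LocallyOfFiniteType G.t →
        AlgSp.LocP @LocallyOfFiniteType φ.fU →
        AlgSp.LocP @LocallyOfFiniteType G'.s ∧ AlgSp.LocP @LocallyOfFiniteType G'.t) ∧
      (AlgSp.LocP @LocallyOfFinitePresentation G.s → AlgSp.LocP @LocallyOfFinitePresentation G.t →
        AlgSp.LocP @LocallyOfFinitePresentation φ.fU →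
        AlgSp.LocP @LocallyOfFinitePresentation G'.s ∧ AlgSp.LocP @LocallyOfFinitePresentation G'.t) ∧
      (AlgSp.LocP @Flat G.s → AlgSp.LocP @Flat G.t → AlgSp.LocP @Flat φ.fU →
        AlgSp.LocP @Flat G'.s ∧ AlgSp.LocP @Flat G'.t) :=
  ⟨both locPData_lft G G' hU hR hU' hR' φ hφ, both locPData_lfp G G' hU hR hU' hR' φ hφ,
    both Groth.Agent.Lib.helper5.LocPBC.locPData_flat G G' hU hR hU' hR' φ hφ⟩

/-- Let `(U', R', s', t', c')` be the restriction of a groupoid in algebraic spaces `(U, R, s, t, c)`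
over `B` along `g : U' ⟶ U`. If `s, t, g` are locally of finite type (resp. locally of finite
presentation, resp. flat) then so are `s', t'`. -/
theorem result (S : Scheme.{u}) (B : AlgSp.Sp S) (hB : AlgSp.IsAlgSpace B)
    (G G' : AlgSp.GroupoidSp B) (hU : AlgSp.IsAlgSpace G.U) (hR : AlgSp.IsAlgSpace G.R)
    (hU' : AlgSp.IsAlgSpace G'.U) (hR' : AlgSp.IsAlgSpace G'.R) (φ : AlgSp.GroupoidSp.Hom G' G)
    (hφ : φ.IsRestriction) :
    (AlgSp.LocP @LocallyOfFiniteType G.s → AlgSp.LocP @LocallyOfFiniteType G.t →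
        AlgSp.LocP @LocallyOfFiniteType φ.fU →
        AlgSp.LocP @LocallyOfFiniteType G'.s ∧ AlgSp.LocP @LocallyOfFiniteType G'.t) ∧
      (AlgSp.LocP @LocallyOfFinitePresentation G.s → AlgSp.LocP @LocallyOfFinitePresentation G.t →
        AlgSp.LocP @LocallyOfFinitePresentation φ.fU →
        AlgSp.LocP @LocallyOfFinitePresentation G'.s ∧ AlgSp.LocP @LocallyOfFinitePresentation G'.t) ∧
      (AlgSp.LocP @Flat G.s → AlgSp.LocP @Flat G.t → AlgSp.LocP @Flat φ.fU →
        AlgSp.LocP @Flat G'.s ∧ AlgSp.LocP @Flat G'.t) := by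
  exact main S B hB G G' hU hR hU' hR' φ hφ

end Groth.Agent.S10123
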