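import Groth.Statements.S10142
import Mathlib

set_option autoImplicit false
universe u
open CategoryTheory CategoryTheory.Limits AlgebraicGeometry
open AlgSp AlgSp.GroupoidSp

namespace Groth.Agent.S10142

section helpers

variable {S : Scheme.{u}} {B : AlgSp.Sp S} (G : AlgSp.GroupoidSp B)

/-- composition of `T`-valued arrows -/
noncomputable def cmp {T : AlgSp.Sp S} (α β : T ⟶ G.R) (h : α ≫ G.s = β ≫ G.t) : T ⟶ G.R :=
  pullback.lift α β h ≫ G.c

theorem cmp_congr {T : AlgSp.Sp S} {α α' β β' : T ⟶ G.R} (h : α ≫ G.s = β ≫ G.t)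
    (hα : α = α') (hβ : β = β') : cmp G α β h = cmp G α' β' (by rw [← hα, ← hβ]; exact h) := by
  subst hα; subst hβ; rfl

theorem pre_cmp {T T' : AlgSp.Sp S} (f : T' ⟶ T) (α β : T ⟶ G.R) (h : α ≫ G.s = β ≫ G.t) :
    f ≫ cmp G α β h = cmp G (f ≫ α) (f ≫ β) (by rw [Category.assoc, Category.assoc, h]) := by
  unfold cmp
  rw [← Category.assoc]
  congr 1
  apply pullback.hom_ext
  · rw [Category.assoc, pullback.lift_fst, pullback.lift_fst]
  · rw [Category.assoc, pullback.lift_snd, pullback.lift_snd]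

theorem cmp_s {T : AlgSp.Sp S} (α β : T ⟶ G.R) (h : α ≫ G.s = β ≫ G.t) :
    cmp G α β h ≫ G.s = β ≫ G.s := G.comp_s α β h

theorem cmp_t {T : AlgSp.Sp S} (α β : T ⟶ G.R) (h : α ≫ G.s = β ≫ G.t) :
    cmp G α β h ≫ G.t = α ≫ G.t := G.comp_t α β h

theorem cmp_assoc {T : AlgSp.Sp S} (α β γ : T ⟶ G.R) (h₁ : α ≫ G.s = β ≫ G.t)
    (h₂ : β ≫ G.s = γ ≫ G.t) :
    cmp G (cmp G α β h₁) γ ((cmp_s G α β h₁).trans h₂) =
      cmp G α (cmp G β γ h₂) (h₁.trans (cmp_t G β γ h₂).symm) := G.assoc α β γ h₁ h₂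

theorem cmp_e {T : AlgSp.Sp S} (α ε : T ⟶ G.R) (hε : ε = α ≫ G.s ≫ G.e)
    (h : α ≫ G.s = ε ≫ G.t) : cmp G α ε h = α := by
  subst hε
  exact G.comp_e α

theorem e_cmp {T : AlgSp.Sp S} (α ε : T ⟶ G.R) (hε : ε = α ≫ G.t ≫ G.e)
    (h : ε ≫ G.s = α ≫ G.t) : cmp G ε α h = α := by
  subst hε
  exact G.e_comp α

theorem cmp_i {T : AlgSp.Sp S} (α : T ⟶ G.R) :
    cmp G α (α ≫ G.i) (by rw [Category.assoc, G.i_t]) = α ≫ G.t ≫ G.e := G.comp_i α

theorem i_cmp {T : AlgSp.Sp S} (α : T ⟶ G.R) :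
    cmp G (α ≫ G.i) α (by rw [Category.assoc, G.i_s]) = α ≫ G.s ≫ G.e := G.i_comp α

theorem c_eq : G.c = cmp G (pullback.fst G.s G.t) (pullback.snd G.s G.t) pullback.condition := by
  unfold cmp
  have : pullback.lift (pullback.fst G.s G.t) (pullback.snd G.s G.t) pullback.condition = 𝟙 _ := by
    apply pullback.hom_ext
    · rw [pullback.lift_fst, Category.id_comp]
    · rw [pullback.lift_snd, Category.id_comp]
  rw [this, Category.id_comp]

/-- `(α ∘ β) ∘ β⁻¹ = α`. -/
theorem cmp_cmp_inv {T : AlgSp.Sp S} (α β : T ⟶ G.R) (h : α ≫ G.s = β ≫ G.t) :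
    cmp G (cmp G α β h) (β ≫ G.i)
      ((cmp_s G α β h).trans (by rw [Category.assoc, G.i_t])) = α := by
  rw [cmp_assoc G α β (β ≫ G.i) h (by rw [Category.assoc, G.i_t])]
  exact cmp_e G α _ (by rw [cmp_i, ← Category.assoc, ← h, Category.assoc]) _

/-- `(γ ∘ β⁻¹) ∘ β = γ`. -/
theorem cmp_inv_cmp {T : AlgSp.Sp S} (γ β : T ⟶ G.R) (h : γ ≫ G.s = β ≫ G.s) :
    cmp G (cmp G γ (β ≫ G.i) (by rw [Category.assoc, G.i_t]; exact h)) β
      ((cmp_s G γ (β ≫ G.i) _).trans (by rw [Category.assoc, G.i_s])) = γ := by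
  rw [cmp_assoc G γ (β ≫ G.i) β (by rw [Category.assoc, G.i_t]; exact h)
    (by rw [Category.assoc, G.i_s])]
  exact cmp_e G γ _ (by rw [i_cmp, ← Category.assoc, ← h, Category.assoc]) _

/-- `α ∘ (α⁻¹ ∘ β) = β` when `t α = t β`. -/
theorem cmp_inv_cancel_left {T : AlgSp.Sp S} (α β : T ⟶ G.R) (h : α ≫ G.t = β ≫ G.t) :
    cmp G α (cmp G (α ≫ G.i) β (by rw [Category.assoc, G.i_s]; exact h))
      (by rw [cmp_t, Category.assoc, G.i_t]) = β := by
  rw [← cmp_assoc G α (α ≫ G.i) β (by rw [Category.assoc, G.i_t])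
    (by rw [Category.assoc, G.i_s]; exact h)]
  exact e_cmp G β _ (by rw [cmp_i, ← Category.assoc, h, Category.assoc]) _

/-- `α⁻¹ ∘ (α ∘ β) = β`. -/
theorem inv_cmp_cancel_left {T : AlgSp.Sp S} (α β : T ⟶ G.R) (h : α ≫ G.s = β ≫ G.t) :
    cmp G (α ≫ G.i) (cmp G α β h)
      (by rw [cmp_t, Category.assoc, G.i_s]) = β := by
  rw [← cmp_assoc G (α ≫ G.i) α β (by rw [Category.assoc, G.i_s]) h]
  exact e_cmp G β _ (by rw [i_cmp, ← Category.assoc, h, Category.assoc]) _

end helpers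

/-- For a groupoid in algebraic spaces `(U, R, s, t, c, e, i)` over `B`: the square with sides `c : R
×_{s,U,t} R ⟶ R`, `pr_1 : R ×_{s,U,t} R ⟶ R`, `s` and `s` is cartesian, and the morphism `R
×_{t,U,t} R ⟶ R ×_{s,U,t} R`, `(α, β) ↦ (α, i(α) ∘ β)`, is an isomorphism whose composite with `c`
is the second projection `pr_1 : R ×_{t,U,t} R ⟶ R`. (The published statement also lists the square
formed by `pr_0`, `pr_1`, `s`, `t`, which is cartesian by definition of the fibre product.) -/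
theorem result (S : Scheme.{u}) (B : AlgSp.Sp S) (hB : AlgSp.IsAlgSpace B)
    (G : AlgSp.GroupoidSp B) (hU : AlgSp.IsAlgSpace G.U) (hR : AlgSp.IsAlgSpace G.R) :
    IsPullback G.c (pullback.snd G.s G.t) G.s G.s ∧
      ∀ φ : pullback G.t G.t ⟶ pullback G.s G.t,
        φ ≫ pullback.fst G.s G.t = pullback.fst G.t G.t →
        φ ≫ pullback.snd G.s G.t =
          pullback.lift (pullback.fst G.t G.t ≫ G.i) (pullback.snd G.t G.t)
            ((Category.assoc _ _ _).trans ((congrArg (pullback.fst G.t G.t ≫ ·) G.i_s).trans pullback.condition)) ≫ G.c →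
        IsIso φ ∧ φ ≫ G.c = pullback.snd G.t G.t := by
  refine ⟨?_, ?_⟩
  · refine ⟨⟨?_⟩, ⟨PullbackCone.IsLimit.mk _
      (fun s => pullback.lift (cmp G s.fst (s.snd ≫ G.i)
        (by rw [Category.assoc, G.i_t]; exact s.condition)) s.snd
        (by rw [cmp_s, Category.assoc, G.i_s])) ?_ ?_ ?_⟩⟩
    · rw [c_eq G, cmp_s]
    · intro s
      rw [c_eq G, pre_cmp]
      rw [cmp_congr G _ (pullback.lift_fst _ _ _) (pullback.lift_snd _ _ _)]
      exact cmp_inv_cmp G s.fst s.snd s.condition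
    · intro s
      exact pullback.lift_snd _ _ _
    · intro s m hm1 hm2
      apply pullback.hom_ext
      · rw [pullback.lift_fst]
        have hc : (m ≫ pullback.fst G.s G.t) ≫ G.s = (m ≫ pullback.snd G.s G.t) ≫ G.t := by
          rw [Category.assoc, Category.assoc, pullback.condition]
        have h1 : s.fst = cmp G (m ≫ pullback.fst _ _) (m ≫ pullback.snd _ _) hc := by
          rw [← hm1, c_eq G, pre_cmp]
        have h2 := cmp_cmp_inv G (m ≫ pullback.fst _ _) (m ≫ pullback.snd _ _) hc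
        rw [← h2]
        exact cmp_congr G _ h1.symm (by rw [hm2])
      · rw [pullback.lift_snd]
        exact hm2
  · intro φ h1 h2
    have hφb : φ ≫ pullback.snd G.s G.t =
        cmp G (pullback.fst G.t G.t ≫ G.i) (pullback.snd G.t G.t)
          (by rw [Category.assoc, G.i_s]; exact pullback.condition) := h2
    have hcond : (φ ≫ pullback.fst G.s G.t) ≫ G.s = (φ ≫ pullback.snd G.s G.t) ≫ G.t := by
      rw [Category.assoc, Category.assoc, pullback.condition]
    have hφc : φ ≫ G.c = pullback.snd G.t G.t := by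
      rw [c_eq G, pre_cmp]
      rw [cmp_congr G _ h1 hφb]
      exact cmp_inv_cancel_left G _ _ pullback.condition
    refine ⟨?_, hφc⟩
    let ψ : pullback G.s G.t ⟶ pullback G.t G.t :=
      pullback.lift (pullback.fst G.s G.t) G.c (by rw [c_eq G, cmp_t])
    have hψ1 : ψ ≫ pullback.fst G.t G.t = pullback.fst G.s G.t := pullback.lift_fst _ _ _
    have hψ2 : ψ ≫ pullback.snd G.t G.t = G.c := pullback.lift_snd _ _ _
    refine ⟨ψ, ?_, ?_⟩
    · apply pullback.hom_ext
      · rw [Category.assoc, hψ1, h1, Category.id_comp]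
      · rw [Category.assoc, hψ2, hφc, Category.id_comp]
    · apply pullback.hom_ext
      · rw [Category.assoc, h1, hψ1, Category.id_comp]
      · rw [Category.assoc, hφb, pre_cmp, Category.id_comp]
        rw [cmp_congr G _ (by rw [← Category.assoc, hψ1]) hψ2]
        have := inv_cmp_cancel_left G (pullback.fst G.s G.t) (pullback.snd G.s G.t)
          pullback.condition
        rw [← this]
        exact cmp_congr G _ rfl (c_eq G)

end Groth.Agent.S10142
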