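import Groth.Statements.S10124
import Groth.Agent.S10142
import Mathlib

set_option autoImplicit false
universe u
open CategoryTheory CategoryTheory.Limits AlgebraicGeometry
open AlgSp AlgSp.GroupoidSp

namespace Groth.Agent.S10124

section helpers
open Groth.Agent.S10142

variable {S : Scheme.{u}} {B : AlgSp.Sp S} (G : AlgSp.GroupoidSp B)

/-- `r⁻¹ ∘ r'` -/
noncomputable def dlt {T : AlgSp.Sp S} (r r' : T ⟶ G.R) (h : r ≫ G.t = r' ≫ G.t) : T ⟶ G.R :=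
  cmp G (r ≫ G.i) r' (by rw [Category.assoc, G.i_s]; exact h)

theorem dlt_s {T : AlgSp.Sp S} (r r' : T ⟶ G.R) (h : r ≫ G.t = r' ≫ G.t) :
    dlt G r r' h ≫ G.s = r' ≫ G.s := cmp_s G _ _ _

theorem dlt_t {T : AlgSp.Sp S} (r r' : T ⟶ G.R) (h : r ≫ G.t = r' ≫ G.t) :
    dlt G r r' h ≫ G.t = r ≫ G.s := by
  unfold dlt
  rw [cmp_t, Category.assoc, G.i_t]

theorem dlt_cmp_dlt {T : AlgSp.Sp S} (r r' : T ⟶ G.R) (h : r ≫ G.t = r' ≫ G.t) :
    cmp G (dlt G r r' h) (dlt G r' r h.symm) (by rw [dlt_s, dlt_t]) = r ≫ G.s ≫ G.e := by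
  unfold dlt
  rw [cmp_assoc G (r ≫ G.i) r' (cmp G (r' ≫ G.i) r _) (by rw [Category.assoc, G.i_s]; exact h)
    (by rw [cmp_t, Category.assoc, G.i_t])]
  rw [cmp_congr G _ rfl (cmp_inv_cancel_left G r' r h.symm)]
  exact i_cmp G r

/-- translation map between fibres -/
noncomputable def Φ {T : AlgSp.Sp S} (r r' : T ⟶ G.R) (h : r ≫ G.t = r' ≫ G.t) :
    pullback (r ≫ G.s) G.s ⟶ pullback (r' ≫ G.s) G.s :=
  pullback.lift (pullback.fst _ _)
    (cmp G (pullback.snd (r ≫ G.s) G.s) (pullback.fst (r ≫ G.s) G.s ≫ dlt G r r' h)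
      (by rw [Category.assoc, dlt_t, ← pullback.condition]))
    (by rw [cmp_s, Category.assoc, dlt_s])

theorem Φ_fst {T : AlgSp.Sp S} (r r' : T ⟶ G.R) (h : r ≫ G.t = r' ≫ G.t) :
    Φ G r r' h ≫ pullback.fst _ _ = pullback.fst _ _ := pullback.lift_fst _ _ _

theorem Φ_snd {T : AlgSp.Sp S} (r r' : T ⟶ G.R) (h : r ≫ G.t = r' ≫ G.t) :
    Φ G r r' h ≫ pullback.snd _ _ =
      cmp G (pullback.snd (r ≫ G.s) G.s) (pullback.fst (r ≫ G.s) G.s ≫ dlt G r r' h)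
      (by rw [Category.assoc, dlt_t, ← pullback.condition]) := pullback.lift_snd _ _ _

theorem Φ_Φ {T : AlgSp.Sp S} (r r' : T ⟶ G.R) (h : r ≫ G.t = r' ≫ G.t) :
    Φ G r r' h ≫ Φ G r' r h.symm = 𝟙 _ := by
  apply pullback.hom_ext
  · rw [Category.assoc, Φ_fst, Φ_fst, Category.id_comp]
  · rw [Category.assoc, Φ_snd, pre_cmp, Category.id_comp]
    rw [cmp_congr G _ (Φ_snd G r r' h) (by rw [← Category.assoc, Φ_fst])]
    rw [cmp_assoc G (pullback.snd (r ≫ G.s) G.s) (pullback.fst (r ≫ G.s) G.s ≫ dlt G r r' h)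
      (pullback.fst (r ≫ G.s) G.s ≫ dlt G r' r h.symm)
      (by rw [Category.assoc, dlt_t, ← pullback.condition])
      (by rw [Category.assoc, Category.assoc, dlt_s, dlt_t])]
    refine cmp_e G _ _ ?_ _
    rw [← pre_cmp G (pullback.fst (r ≫ G.s) G.s) (dlt G r r' h) (dlt G r' r h.symm)
      (by rw [dlt_s, dlt_t])]
    rw [dlt_cmp_dlt, ← pullback.condition_assoc]
    simp only [Category.assoc]

end helpers

/-- Let `(U, R, s, t, c)` be a groupoid in algebraic spaces over `B`, `K` a field and `r, r' : Spec K ⟶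
R` with `t ∘ r = t ∘ r'`; put `u = s ∘ r`, `u' = s ∘ r'`. Then the fibres `Spec K ×_{u, U, s} R` and
`Spec K ×_{u', U, s} R` are isomorphic as spaces over `Spec K` (existence of an isomorphism over
`Spec K`). -/
theorem result (S : Scheme.{u}) (B : AlgSp.Sp S) (hB : AlgSp.IsAlgSpace B)
    (G : AlgSp.GroupoidSp B) (hU : AlgSp.IsAlgSpace G.U) (hR : AlgSp.IsAlgSpace G.R)
    (K : Type u) [Field K] (σ : Spec (CommRingCat.of K) ⟶ S)
    (r r' : (AlgSp.yon S).obj (Over.mk σ) ⟶ G.R) (h : r ≫ G.t = r' ≫ G.t) :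
    Nonempty (Over.mk (pullback.fst (r ≫ G.s) G.s) ≅ Over.mk (pullback.fst (r' ≫ G.s) G.s)) := by
  exact ⟨Over.isoMk ⟨Φ G r r' h, Φ G r' r h.symm, Φ_Φ G r r' h, Φ_Φ G r' r h.symm⟩
    (Φ_fst G r r' h)⟩

end Groth.Agent.S10124
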