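import Groth.Statements.S9911
import Groth.Agent.Lib.Helper7.AlgSpChartSq

set_option autoImplicit false
universe u
open CategoryTheory CategoryTheory.Limits AlgebraicGeometry
open AlgSp

namespace Groth.Agent.S9911

/-- A morphism from an algebraic space to the spectrum of a field is universally open. -/
theorem result {S : Scheme.{u}} (X : AlgSp.Space S) {k : Type u} [Field k]
    (str : Spec (CommRingCat.of k) ⟶ S) (p : X ⟶ (AlgSp.ofScheme S).obj (Over.mk str)) :
    AlgSp.IsUnivOpenMor p.hom := by
  intro Z Z' hZ g fst snd sq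
  obtain ⟨A, a, hae, has⟩ := X.property.atlas
  obtain ⟨B, b, hbe, hbs⟩ := hZ.atlas
  have hH : Representable (Limits.diag ((yon S).obj (Over.mk str))) :=
    (IsAlgSpace.yon_obj (Over.mk str)).diag
  have sq' : IsPullback fst snd (p.hom : X.obj ⟶ (yon S).obj (Over.mk str)) g := sq
  obtain ⟨V, s, t, c, hce, hcs, sqV, h1, h2, csq⟩ :=
    Groth.Agent.Lib.helper7.AlgSpChartSq.exists_chartSq_of_isPullback hH a hae has b hbe hbs sq'
  obtain ⟨φ, hφ⟩ := (yon S).map_surjective (a ≫ (p.hom : X.obj ⟶ (yon S).obj (Over.mk str)))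
  obtain ⟨ψ, hψ⟩ := (yon S).map_surjective (b ≫ g)
  rw [← hφ, ← hψ] at sqV
  have sqS := Groth.Agent.Lib.helper7.AlgSpChartSq.isPullback_left_of_yon sqV
  have h1 : IsIntegral (Over.mk str).left := by
    change IsIntegral (Spec (CommRingCat.of k)); infer_instance
  have h2 : Subsingleton ↥(Over.mk str).left := by
    change Subsingleton ↥(Spec (CommRingCat.of k)); infer_instance
  have hφo : UniversallyOpen φ.left := inferInstance
  have hto : UniversallyOpen t.left := MorphismProperty.of_isPullback sqS hφo
  exact csq.isOpenMap t.left.isOpenMap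

end Groth.Agent.S9911
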