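import Groth.Statements.S10126
import Groth.Agent.S10142
import Groth.Agent.S9911
import Groth.Agent.Lib.Helper1.LocPFlatBC

set_option autoImplicit false
universe u
open CategoryTheory CategoryTheory.Limits AlgebraicGeometry
open AlgSp AlgSp.GroupoidSp

namespace Groth.Agent.S10126

variable {S : Scheme.{u}}

/-- Every morphism of sheaves to (a sheaf isomorphic to) the spectrum of a field is flat on charts. -/
theorem locP_flat_to_field {X U : Sp S} (s : X ⟶ U) {k : Type u} [Field k]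
    (σ : Spec (CommRingCat.of k) ⟶ S) (eU : U ≅ (yon S).obj (Over.mk σ)) : LocP @Flat s := by
  intro A B a b h ha hb hsq
  have hb' : RepWith @Etale (b ≫ eU.hom) := MorphismProperty.RespectsIso.postcomp _ _ _ hb
  obtain ⟨b0, hb0⟩ := (yon S).map_surjective (b ≫ eU.hom)
  rw [← hb0] at hb'
  have hb0e : Etale b0.left := (repWith_yon_map_iff @Etale b0).1 hb'
  have : Flat (h.left ≫ b0.left) := by
    have h1 : Subsingleton ↥(Spec (CommRingCat.of k)) :=
      inferInstanceAs (Subsingleton (PrimeSpectrum k))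
    have h2 : IsIntegral (Spec (CommRingCat.of k)) := inferInstance
    exact inferInstanceAs (Flat (Y := Spec (CommRingCat.of k)) (h.left ≫ b0.left))
  exact Groth.Agent.H1.LocPFlatBC.flat_of_comp_etale h.left b0.left

/-- `UnivSp Q` is invariant under postcomposition with an isomorphism. -/
theorem univSp_of_comp_iso {Q : MorphismProperty (Sp S)} {X U K : Sp S} (s : X ⟶ U) (e : U ≅ K)
    (h : UnivSp Q (s ≫ e.hom)) : UnivSp Q s := by
  intro Z Z' hZ g fst snd sq
  have sq2 : IsPullback (𝟙 X) s (s ≫ e.hom) e.hom := IsPullback.of_horiz_isIso ⟨by simp⟩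
  have sq3 := sq.paste_horiz sq2
  rw [Category.comp_id] at sq3
  exact h hZ _ _ _ sq3

/-- `UnivSp Q` is stable under base change. -/
theorem univSp_of_isPullback {Q : MorphismProperty (Sp S)} {F G F' G' : Sp S} {a : F' ⟶ F}
    {s : F' ⟶ G'} {t : F ⟶ G} {b : G' ⟶ G} (sq : IsPullback a s t b) (ht : UnivSp Q t) :
    UnivSp Q s := by
  intro Z Z' hZ k u v sqZ
  exact ht hZ (k ≫ b) (u ≫ a) v (sqZ.paste_horiz sq)

theorem main (S : Scheme.{u}) (B : AlgSp.Sp S) (hB : AlgSp.IsAlgSpace B)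
    (G : AlgSp.GroupoidSp B) (hR : AlgSp.IsAlgSpace G.R) (k : Type u) [Field k]
    (σ : Spec (CommRingCat.of k) ⟶ S) (eU : G.U ≅ (AlgSp.yon S).obj (Over.mk σ)) :
    AlgSp.LocP @Flat G.c ∧ AlgSp.IsUnivOpenMor G.c := by
  have hU : IsAlgSpace G.U := (IsAlgSpace.yon_obj (Over.mk σ)).of_iso eU.symm
  have sqc := (Groth.Agent.S10142.result S B hB G hU hR).1
  refine ⟨Groth.Agent.H1.LocPFlatBC.locP_flat_of_isPullback hR hU hR sqc.flip
    (locP_flat_to_field G.s σ eU), ?_⟩
  have h1 : IsUnivOpenMor (G.s ≫ eU.hom) :=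
    Groth.Agent.S9911.result (X := ⟨G.R, hR⟩) σ (ObjectProperty.homMk (G.s ≫ eU.hom))
  exact univSp_of_isPullback sqc.flip (univSp_of_comp_iso G.s eU h1)

/-- Let `(U, R, s, t, c)` be a groupoid in algebraic spaces over `B` whose object space is `U = Spec k`,
with `k` a field. Then the composition `c : R ×_{s, U, t} R ⟶ R` is flat and universally open. -/
theorem result (S : Scheme.{u}) (B : AlgSp.Sp S) (hB : AlgSp.IsAlgSpace B)
    (G : AlgSp.GroupoidSp B) (hR : AlgSp.IsAlgSpace G.R) (k : Type u) [Field k]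
    (σ : Spec (CommRingCat.of k) ⟶ S) (eU : G.U ≅ (AlgSp.yon S).obj (Over.mk σ)) :
    AlgSp.LocP @Flat G.c ∧ AlgSp.IsUnivOpenMor G.c := by
  exact main S B hB G hR k σ eU

end Groth.Agent.S10126
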