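import Groth.Statements.S10125
import Groth.Agent.S10126

set_option autoImplicit false
universe u
open CategoryTheory CategoryTheory.Limits AlgebraicGeometry MonoidalCategory MonObj
open AlgSp

namespace Groth.Agent.S10125

open CartesianMonoidalCategory

section cat

variable {C : Type*} [Category C] [CartesianMonoidalCategory C] (G : C) [GrpObj G]

/-- The multiplication is a base change of the structure morphism: `(g, h) ↦ (g, gh)` is an isomorphism. -/
theorem sqMul : IsPullback (fst G G) μ[G] (toUnit G) (toUnit G) := by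
  apply Groth.Agent.Lib.helper5.isPullback_of_exists_lift
  · exact toUnit_unique _ _
  · intro T a b _
    refine ⟨lift a (a⁻¹ * b), lift_fst _ _, ?_⟩
    rw [← Hom.mul_def, mul_inv_cancel_left]
  · intro T l l' h1 h2
    have e : ∀ m : T ⟶ G ⊗ G, m ≫ μ[G] = (m ≫ fst G G) * (m ≫ snd G G) := by
      intro m
      rw [Hom.mul_def]
      congr 1
      apply CartesianMonoidalCategory.hom_ext <;> simp
    rw [e, e, h1] at h2
    apply CartesianMonoidalCategory.hom_ext
    · exact h1
    · exact mul_left_cancel h2

end cat

theorem main (k : Type u) [Field k]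
    (G : Over ((AlgSp.yon (Spec (CommRingCat.of k))).obj (Over.mk (𝟙 _)))) [GrpObj G]
    (hG : AlgSp.IsAlgSpace G.left) :
    AlgSp.LocP @Flat (μ[G]).left ∧ AlgSp.IsUnivOpenMor (μ[G]).left := by
  have sq : IsPullback (fst G G).left (μ[G]).left G.hom G.hom := (sqMul G).map (Over.forget _)
  have hB : IsAlgSpace ((AlgSp.yon (Spec (CommRingCat.of k))).obj (Over.mk (𝟙 _))) :=
    IsAlgSpace.yon_obj _
  have hfl : LocP @Flat G.hom :=
    Groth.Agent.S10126.locP_flat_to_field G.hom (𝟙 (Spec (CommRingCat.of k))) (Iso.refl _)
  have huo : IsUnivOpenMor G.hom :=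
    Groth.Agent.S9911.result (X := ⟨G.left, hG⟩) (𝟙 (Spec (CommRingCat.of k)))
      (ObjectProperty.homMk G.hom)
  exact ⟨Groth.Agent.H1.LocPFlatBC.locP_flat_of_isPullback hG hB hG sq hfl,
    Groth.Agent.S10126.univSp_of_isPullback sq huo⟩

/-- For a group algebraic space `G` over a field `k`, the multiplication `m` of `G`, a morphism `G ×_k G
⟶ G`, is both flat and universally open. (The published situation allows any base scheme `S` with
`k` a field over `S`; this row takes `S = Spec k`.) -/
theorem result (k : Type u) [Field k]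
    (G : Over ((AlgSp.yon (Spec (CommRingCat.of k))).obj (Over.mk (𝟙 _)))) [GrpObj G]
    (hG : AlgSp.IsAlgSpace G.left) :
    AlgSp.LocP @Flat (μ[G]).left ∧ AlgSp.IsUnivOpenMor (μ[G]).left := by
  exact main k G hG

end Groth.Agent.S10125
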