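import Groth.Statements.S10130
import Groth.Agent.S10194
import Groth.Agent.Lib.Helper5.GpdCalc

set_option autoImplicit false
universe u
open CategoryTheory CategoryTheory.Limits AlgebraicGeometry
open AlgSp AlgSp.GroupoidSp

namespace Groth.Agent.S10130

/-- A morphism of sheaves factors through an open subsheaf iff it does so on points. -/
theorem factors_iff {S : Scheme.{u}} {X X' Y : AlgSp.Sp S}
    (j : X' ⟶ X) (hj : AlgSp.RepWith @IsOpenImmersion j) (f : Y ⟶ X) :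
    (∃ g : Y ⟶ X', g ≫ j = f) ↔
      Set.range (AlgSp.Points.map f) ⊆ Set.range (AlgSp.Points.map j) := by
  constructor
  · rintro ⟨g, rfl⟩
    rintro _ ⟨y, rfl⟩
    exact ⟨AlgSp.Points.map g y, (AlgSp.Points.map_comp g j y).symm⟩
  · intro hsub
    have sq : IsPullback (pullback.fst f j) (pullback.snd f j) f j := IsPullback.of_hasPullback _ _
    have h1 : AlgSp.RepWith @IsOpenImmersion (pullback.fst f j) :=
      (AlgSp.repWith_isStableUnderBaseChange (S := S) @IsOpenImmersion).of_isPullback sq.flip hj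
    have h2 : AlgSp.IsSurjectiveMor (pullback.fst f j) := by
      intro y
      obtain ⟨x', hx'⟩ := hsub ⟨y, rfl⟩
      obtain ⟨w, hw, _⟩ := Groth.Agent.Lib.helper10.exists_point_of_isPullback sq y x' hx'.symm
      exact ⟨w, hw⟩
    have hiso : IsIso (pullback.fst f j) :=
      Groth.Agent.S10194.isIso_of_openImmersion_of_surjective _ h1 h2
    refine ⟨inv (pullback.fst f j) ≫ pullback.snd f j, ?_⟩
    rw [Category.assoc, ← pullback.condition, IsIso.inv_hom_id_assoc]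

open Groth.Agent.Lib.helper5.Gpd in
/-- composition of composable points of a groupoid -/
theorem exists_comp_point {S : Scheme.{u}} {B : AlgSp.Sp S} (G : AlgSp.GroupoidSp B)
    (ρ₁ ρ₂ : AlgSp.Points G.R) (h : AlgSp.Points.map G.s ρ₁ = AlgSp.Points.map G.t ρ₂) :
    ∃ ρ : AlgSp.Points G.R, AlgSp.Points.map G.t ρ = AlgSp.Points.map G.t ρ₁ ∧
      AlgSp.Points.map G.s ρ = AlgSp.Points.map G.s ρ₂ := by
  have sq : IsPullback (pullback.fst G.s G.t) (pullback.snd G.s G.t) G.s G.t :=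
    IsPullback.of_hasPullback _ _
  obtain ⟨π, hπ1, hπ2⟩ := Groth.Agent.Lib.helper10.exists_point_of_isPullback sq ρ₁ ρ₂ h
  have hct : G.c ≫ G.t = pullback.fst G.s G.t ≫ G.t := by
    conv_lhs => rw [c_eq G]
    exact mul_t G _ _ _
  have hcs : G.c ≫ G.s = pullback.snd G.s G.t ≫ G.s := by
    conv_lhs => rw [c_eq G]
    exact mul_s G _ _ _
  refine ⟨AlgSp.Points.map G.c π, ?_, ?_⟩
  · rw [← AlgSp.Points.map_comp, hct, AlgSp.Points.map_comp, hπ1]
  · rw [← AlgSp.Points.map_comp, hcs, AlgSp.Points.map_comp, hπ2]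

/-- `s (t⁻¹ Ω)` is invariant on points. -/
theorem invariant_points {S : Scheme.{u}} {B : AlgSp.Sp S} (G : AlgSp.GroupoidSp B)
    (Ω : Set (AlgSp.Points G.U)) (ρ : AlgSp.Points G.R) :
    AlgSp.Points.map G.t ρ ∈ AlgSp.Points.map G.s '' (AlgSp.Points.map G.t ⁻¹' Ω) ↔
      AlgSp.Points.map G.s ρ ∈ AlgSp.Points.map G.s '' (AlgSp.Points.map G.t ⁻¹' Ω) := by
  constructor
  · rintro ⟨ρ', hρ'Ω, hρ'⟩
    obtain ⟨ρ'', h1, h2⟩ := exists_comp_point G ρ' ρ hρ'
    exact ⟨ρ'', by rw [Set.mem_preimage, h1]; exact hρ'Ω, h2⟩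
  · rintro ⟨ρ', hρ'Ω, hρ'⟩
    have hi : AlgSp.Points.map G.t (AlgSp.Points.map G.i ρ) = AlgSp.Points.map G.s ρ := by
      rw [← AlgSp.Points.map_comp, G.i_t]
    have hi' : AlgSp.Points.map G.s (AlgSp.Points.map G.i ρ) = AlgSp.Points.map G.t ρ := by
      rw [← AlgSp.Points.map_comp, G.i_s]
    obtain ⟨ρ'', h1, h2⟩ := exists_comp_point G ρ' (AlgSp.Points.map G.i ρ) (hρ'.trans hi.symm)
    exact ⟨ρ'', by rw [Set.mem_preimage, h1]; exact hρ'Ω, h2.trans hi'⟩

/-- Let `(U, R, s, t, c)` be a groupoid in algebraic spaces over `B` with `s, t` open. For every open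
subspace `W ⊂ U`, the open subspace `s(t⁻¹(W))` of `U` is `R`-invariant. -/
theorem result (S : Scheme.{u}) (B : AlgSp.Sp S) (hB : AlgSp.IsAlgSpace B)
    (G : AlgSp.GroupoidSp B) (hU : AlgSp.IsAlgSpace G.U) (hR : AlgSp.IsAlgSpace G.R)
    (hs : AlgSp.IsOpenMor G.s) (ht : AlgSp.IsOpenMor G.t)
    (W W' : AlgSp.Sp S) (w : W ⟶ G.U) (w' : W' ⟶ G.U)
    (hw : AlgSp.RepWith @IsOpenImmersion w) (hw' : AlgSp.RepWith @IsOpenImmersion w')
    (himg : Set.range (AlgSp.Points.map w') =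
      AlgSp.Points.map G.s '' (AlgSp.Points.map G.t ⁻¹' Set.range (AlgSp.Points.map w))) :
    G.IsInvariant w' := by
  intro T r
  rw [factors_iff w' hw' (r ≫ G.t), factors_iff w' hw' (r ≫ G.s), himg]
  constructor
  · rintro h _ ⟨τ, rfl⟩
    rw [AlgSp.Points.map_comp]
    refine (invariant_points G _ _).1 ?_
    rw [← AlgSp.Points.map_comp]
    exact h ⟨τ, rfl⟩
  · rintro h _ ⟨τ, rfl⟩
    rw [AlgSp.Points.map_comp]
    refine (invariant_points G _ _).2 ?_
    rw [← AlgSp.Points.map_comp]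
    exact h ⟨τ, rfl⟩

end Groth.Agent.S10130
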