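import Groth.Statements.S10131
import Groth.Agent.S10196
import Groth.Agent.S10130
import Groth.Agent.Lib.Helper7.AlgSpFibre

set_option autoImplicit false
universe u
open CategoryTheory CategoryTheory.Limits AlgebraicGeometry
open AlgSp AlgSp.GroupoidSp

namespace Groth.Agent.S10131

/-- Let `(U, R, s, t, c)` be a groupoid in algebraic spaces over `B` with `s, t` open and quasi-compact.
Then `U` has an open covering by `R`-invariant quasi-compact open subspaces. -/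
theorem result (S : Scheme.{u}) (B : AlgSp.Sp S) (hB : AlgSp.IsAlgSpace B)
    (G : AlgSp.GroupoidSp B) (hU : AlgSp.IsAlgSpace G.U) (hR : AlgSp.IsAlgSpace G.R)
    (hs : AlgSp.IsOpenMor G.s ∧ AlgSp.IsQuasiCompactMor G.s) (ht : AlgSp.IsOpenMor G.t ∧ AlgSp.IsQuasiCompactMor G.t)
    (x : AlgSp.Points G.U) :
    ∃ (W : AlgSp.Sp S) (w : W ⟶ G.U), AlgSp.RepWith @IsOpenImmersion w ∧ G.IsInvariant w ∧
      AlgSp.IsQuasiCompactSp W ∧ x ∈ Set.range (AlgSp.Points.map w) := by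
  -- a quasi-compact open neighbourhood `W₀` of `x`
  obtain ⟨A, p, hpe, hps⟩ := hU.atlas
  obtain ⟨a, rfl⟩ := Groth.Agent.Lib.helper11.surjective_ofPt p hps x
  have hVex : ∃ V : A.left.Opens, IsAffineOpen V ∧ a ∈ V := by
    obtain ⟨_, ⟨V, hV, rfl⟩, haV, -⟩ :=
      (A.left.isBasis_affineOpens).exists_subset_of_mem_open (Set.mem_univ a) isOpen_univ
    exact ⟨V, hV, haV⟩
  obtain ⟨V, hV, haV⟩ := hVex
  let Vo : Over S := Over.mk (V.ι ≫ A.hom)
  let m : Vo ⟶ A := Over.homMk V.ι rfl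
  let b : (AlgSp.yon S).obj Vo ⟶ G.U := (AlgSp.yon S).map m ≫ p
  have hbe : AlgSp.RepWith @Etale b :=
    (AlgSp.repWith_isMultiplicative (S := S) @Etale).comp_mem _ _
      ((AlgSp.repWith_yon_map_iff _ m).2 (inferInstanceAs (Etale V.ι))) hpe
  have hΩ₀ : IsOpen (Set.range (AlgSp.Points.ofPt b)) :=
    (Groth.Agent.Lib.helper11.isOpenMap_ofPt b hbe).isOpen_range
  obtain ⟨W₀, j₀, hj₀, hj₀r, hj₀m⟩ :=
    Groth.Agent.Lib.helper5.OpenSub.exists_openSub ⟨G.U, hU⟩ _ hΩ₀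
  have hxΩ₀ : AlgSp.Points.ofPt p a ∈ Set.range (AlgSp.Points.ofPt b) := by
    refine ⟨⟨a, haV⟩, ?_⟩
    rw [Groth.Agent.Lib.helper11.ofPt_yon_map_comp]
    rfl
  have hW₀qc : AlgSp.IsQuasiCompactSp W₀.obj := by
    obtain ⟨a', _, ha'e, ha's, _⟩ := Groth.Agent.S10196.result (X := ⟨G.U, hU⟩) b hbe j₀ hj₀ hj₀r
    have hc : CompactSpace ↥Vo.left := by
      have : IsAffine Vo.left := hV
      infer_instance
    exact ⟨Vo, a', ha'e, ha's, hc⟩
  -- `P = t⁻¹ (W₀)`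
  have sqP : IsPullback (pullback.fst G.t j₀.hom) (pullback.snd G.t j₀.hom) G.t j₀.hom :=
    IsPullback.of_hasPullback _ _
  have hPqc : AlgSp.IsQuasiCompactSp (pullback G.t j₀.hom) := ht.2 W₀.property hW₀qc j₀.hom _ _ sqP
  -- the invariant open set
  have hE : Set.range (AlgSp.Points.map (pullback.fst G.t j₀.hom ≫ G.s)) =
      AlgSp.Points.map G.s '' (AlgSp.Points.map G.t ⁻¹' Set.range (AlgSp.Points.map j₀.hom)) := by
    apply Set.Subset.antisymm
    · rintro _ ⟨π, rfl⟩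
      refine ⟨AlgSp.Points.map (pullback.fst G.t j₀.hom) π, ?_, (AlgSp.Points.map_comp _ _ _).symm⟩
      refine ⟨AlgSp.Points.map (pullback.snd G.t j₀.hom) π, ?_⟩
      rw [← AlgSp.Points.map_comp, ← sqP.w, AlgSp.Points.map_comp]
    · rintro _ ⟨ρ, ⟨w, hw⟩, rfl⟩
      obtain ⟨π, hπ, _⟩ := Groth.Agent.Lib.helper10.exists_point_of_isPullback sqP ρ w hw.symm
      exact ⟨π, by rw [AlgSp.Points.map_comp, hπ]⟩
  have hEopen : IsOpen (Set.range (AlgSp.Points.map (pullback.fst G.t j₀.hom ≫ G.s))) := by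
    rw [hE]
    refine hs.1 _ ?_
    rw [hj₀r]
    exact hΩ₀.preimage (AlgSp.Points.continuous_map G.t)
  obtain ⟨W, w, hw, hwr, hwm⟩ :=
    Groth.Agent.Lib.helper5.OpenSub.exists_openSub ⟨G.U, hU⟩ _ hEopen
  refine ⟨W.obj, w.hom, hw, ?_, ?_, ?_⟩
  · exact Groth.Agent.S10130.result S B hB G hU hR hs.1 ht.1 W₀.obj W.obj j₀.hom w.hom hj₀ hw
      (hwr.trans hE)
  · -- quasi-compactness
    have hsub : Set.range (AlgSp.Points.map (pullback.fst G.t j₀.hom ≫ G.s)) ⊆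
        Set.range (AlgSp.Points.map w.hom) := hwr.ge
    obtain ⟨l, hl⟩ := (Groth.Agent.Lib.helper5.OpenSub.factors_iff w.hom hw _).2 hsub
    have hlsurj : Function.Surjective (AlgSp.Points.map l) := by
      intro y
      have hy : AlgSp.Points.map w.hom y ∈
          Set.range (AlgSp.Points.map (pullback.fst G.t j₀.hom ≫ G.s)) := by
        rw [← hwr]; exact ⟨y, rfl⟩
      obtain ⟨π, hπ⟩ := hy
      refine ⟨π, Groth.Agent.S10196.injective_map_of_mono w.hom ?_⟩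
      rw [← AlgSp.Points.map_comp, hl, hπ]
    have hc : CompactSpace (AlgSp.Points (pullback G.t j₀.hom)) :=
      Groth.Agent.Lib.helper7.AlgSpFibre.compactSpace_of_isQuasiCompactSp hPqc
    have hc' : CompactSpace (AlgSp.Points W.obj) :=
      Groth.Agent.Lib.helper7.AlgSpFibre.compactSpace_of_surjective l hlsurj
    exact Groth.Agent.Lib.helper7.AlgSpFibre.isQuasiCompactSp_of_compactSpace W.property.atlas
  · rw [hwr, hE]
    refine ⟨AlgSp.Points.map G.e (AlgSp.Points.ofPt p a), ?_, ?_⟩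
    · rw [Set.mem_preimage, ← AlgSp.Points.map_comp, G.e_t, AlgSp.Points.map_id, hj₀r]
      exact hxΩ₀
    · rw [← AlgSp.Points.map_comp, G.e_s, AlgSp.Points.map_id]

end Groth.Agent.S10131
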