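import Groth.Statements.S10551
import Groth.Agent.S9962

set_option autoImplicit false
universe u
open CategoryTheory CategoryTheory.Limits AlgebraicGeometry
open AlgSp

namespace Groth.Agent.S10551

/-- A flat lfp morphism of algebraic spaces (as sheaves) is universally open. -/
theorem univOpen_of_fppf {S : Scheme.{u}} {X Y : Sp S} (hX : IsAlgSpace X) (hY : IsAlgSpace Y)
    (f : X ⟶ Y) (hf : AlgSp.LocP @Flat f ∧ AlgSp.LocP @LocallyOfFinitePresentation f) :
    AlgSp.IsUnivOpenMor f :=
  Groth.Agent.S9962.main (X := ⟨X, hX⟩) (Y := ⟨Y, hY⟩) (ObjectProperty.homMk f) hf.1 hf.2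

theorem isOpenMor_of_univ {S : Scheme.{u}} {X Y : Sp S} (hY : IsAlgSpace Y)
    (f : X ⟶ Y) (h : AlgSp.IsUnivOpenMor f) : AlgSp.IsOpenMor f :=
  h hY (𝟙 Y) (𝟙 X) f (IsPullback.id_horiz f)

theorem isOpenMap_of_cover {A C : Type*} {ι : Type*} {B : ι → Type*} [TopologicalSpace A]
    [TopologicalSpace C] [∀ i, TopologicalSpace (B i)] (g : ∀ i, B i → A) (f : A → C)
    (hg : ∀ i, Continuous (g i)) (hs : ∀ x : A, ∃ i, x ∈ Set.range (g i))
    (h : ∀ i, IsOpenMap (f ∘ g i)) : IsOpenMap f := by
  intro Ω hΩ
  have : f '' Ω = ⋃ i, (f ∘ g i) '' (g i ⁻¹' Ω) := by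
    ext c
    simp only [Set.mem_image, Set.mem_iUnion, Set.mem_preimage, Function.comp]
    constructor
    · rintro ⟨x, hx, rfl⟩
      obtain ⟨i, y, rfl⟩ := hs x
      exact ⟨i, y, hx, rfl⟩
    · rintro ⟨i, y, hy, rfl⟩
      exact ⟨_, hy, rfl⟩
  rw [this]
  exact isOpen_iUnion fun i => h i _ (hΩ.preimage (hg i))

theorem main (S : Scheme.{u}) :
    AlgSp.IsLocalOnSource (AlgSp.IsFppfCover (S := S)) AlgSp.IsOpenMor := by
  intro ι X Xi g hX hXi hcov Y f hY
  constructor
  · intro hf i
    have h1 : AlgSp.IsOpenMor (g i) :=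
      isOpenMor_of_univ hX _ (univOpen_of_fppf (hXi i) hX _ (hcov.1 i))
    have e : Points.map (g i ≫ f) = Points.map f ∘ Points.map (g i) :=
      funext (Points.map_comp _ _)
    change IsOpenMap (Points.map (g i ≫ f))
    rw [e]
    exact IsOpenMap.comp hf h1
  · intro h
    refine isOpenMap_of_cover (fun i => Points.map (g i)) (Points.map f)
      (fun i => Points.continuous_map _) hcov.2 (fun i => ?_)
    have e : Points.map (g i ≫ f) = Points.map f ∘ Points.map (g i) :=
      funext (Points.map_comp _ _)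
    rw [← e]
    exact h i

/-- The property of morphisms of algebraic spaces over S given by f is open (the induced map on spaces
of points is open) is fppf local on the source: for a morphism f : X ⟶ Y of algebraic spaces and a
fppf covering of X by algebraic spaces X_i, f has the property if and only if every composite X_i ⟶
X ⟶ Y has it. -/
theorem result (S : Scheme.{u}) :
    AlgSp.IsLocalOnSource (AlgSp.IsFppfCover (S := S)) AlgSp.IsOpenMor := by
  exact main S

end Groth.Agent.S10551
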