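import Groth.Statements.S10552
import Groth.Agent.S10551

set_option autoImplicit false
universe u
open CategoryTheory CategoryTheory.Limits AlgebraicGeometry
open AlgSp

namespace Groth.Agent.S10552

open Groth.Agent.Lib.helper5

/-- Composition of universally open morphisms (the middle object is an algebraic space and the target
has representable diagonal). -/
theorem univOpen_comp {S : Scheme.{u}} {A B C : Sp S} (hB : IsAlgSpace B)
    (hC : Representable (Limits.diag C)) (q : A ⟶ B) (t : B ⟶ C)
    (hq : AlgSp.IsUnivOpenMor q) (ht : AlgSp.IsUnivOpenMor t) : AlgSp.IsUnivOpenMor (q ≫ t) := by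
  intro Z Z' hZ k fst snd sq
  have sqB : IsPullback (pullback.fst t k) (pullback.snd t k) t k := IsPullback.of_hasPullback _ _
  have hZB : IsAlgSpace (pullback t k) := isAlgSpace_of_isPullback hC hB hZ sqB
  have hl : (fst ≫ q) ≫ t = snd ≫ k := by rw [Category.assoc, sq.w]
  have sq3 : IsPullback fst (sqB.lift (fst ≫ q) snd hl) q (pullback.fst t k) := by
    refine IsPullback.of_bot ?_ (sqB.lift_fst _ _ _).symm sqB
    rw [sqB.lift_snd]
    exact sq
  have h1 : IsOpenMap (Points.map (sqB.lift (fst ≫ q) snd hl)) := hq hZB _ _ _ sq3
  have h2 : IsOpenMap (Points.map (pullback.snd t k)) := ht hZ _ _ _ sqB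
  have e : Points.map snd = Points.map (pullback.snd t k) ∘ Points.map (sqB.lift (fst ≫ q) snd hl) := by
    have := funext (Points.map_comp (sqB.lift (fst ≫ q) snd hl) (pullback.snd t k))
    rw [sqB.lift_snd] at this
    exact this
  change IsOpenMap (Points.map snd)
  rw [e]
  exact h2.comp h1

theorem main (S : Scheme.{u}) :
    AlgSp.IsLocalOnSource (AlgSp.IsFppfCover (S := S)) AlgSp.IsUnivOpenMor := by
  intro ι X Xi g hX hXi hcov Y f hY
  constructor
  · intro hf i
    exact univOpen_comp hX hY.diag _ _
      (Groth.Agent.S10551.univOpen_of_fppf (hXi i) hX _ (hcov.1 i)) hf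
  · intro h Z Z' hZ k fst snd sq
    have sqT : ∀ i, IsPullback (pullback.fst fst (g i)) (pullback.snd fst (g i)) fst (g i) :=
      fun i => IsPullback.of_hasPullback _ _
    have sq2 : ∀ i, IsPullback (pullback.snd fst (g i)) (pullback.fst fst (g i) ≫ snd) (g i ≫ f) k :=
      fun i => (sqT i).flip.paste_vert sq
    refine Groth.Agent.S10551.isOpenMap_of_cover (fun i => Points.map (pullback.fst fst (g i)))
      (Points.map snd) (fun i => Points.continuous_map _) (fun x => ?_) (fun i => ?_)
    · obtain ⟨i, y, hy⟩ := hcov.2 (Points.map fst x)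
      obtain ⟨w, hw, _⟩ := Groth.Agent.Lib.helper10.exists_point_of_isPullback (sqT i) x y hy.symm
      exact ⟨i, w, hw⟩
    · have e : Points.map (pullback.fst fst (g i) ≫ snd) =
          Points.map snd ∘ Points.map (pullback.fst fst (g i)) := funext (Points.map_comp _ _)
      rw [← e]
      exact h i hZ k _ _ (sq2 i)

/-- The property of morphisms of algebraic spaces over S given by f is universally open (every base
change along a morphism from an algebraic space is open on points) is fppf local on the source: for
a morphism f : X ⟶ Y of algebraic spaces and a fppf covering of X by algebraic spaces X_i, f has the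
property if and only if every composite X_i ⟶ X ⟶ Y has it. -/
theorem result (S : Scheme.{u}) :
    AlgSp.IsLocalOnSource (AlgSp.IsFppfCover (S := S)) AlgSp.IsUnivOpenMor := by
  exact main S

end Groth.Agent.S10552
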