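import Groth.Statements.S10132
import Groth.Agent.S10123
import Groth.Agent.S10126
import Groth.Agent.S10552
import Groth.Agent.S9944
import Groth.Agent.Lib.Helper10.AlgSpPoints
import Groth.Agent.Lib.Helper1.LocPFlatComp

set_option autoImplicit false
universe u
open CategoryTheory CategoryTheory.Limits AlgebraicGeometry
open AlgSp AlgSp.GroupoidSp

namespace Groth.Agent.S10132

open Groth.Agent.S10272

variable {S : Scheme.{u}}

/-! ### Surjectivity -/

theorem surj_of_section {F G : Sp S} (f : F ⟶ G) (e : G ⟶ F) (h : e ≫ f = 𝟙 G) :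
    IsSurjectiveMor f := by
  intro y
  exact ⟨Points.map e y, by rw [← Points.map_comp, h, Points.map_id]⟩

theorem surj_of_isPullback {F G G' P : Sp S} {fst : P ⟶ F} {snd : P ⟶ G'} {f : F ⟶ G} {g : G' ⟶ G}
    (sq : IsPullback fst snd f g) (hf : IsSurjectiveMor f) : IsSurjectiveMor snd := by
  intro z
  obtain ⟨x, hx⟩ := hf (Points.map g z)
  obtain ⟨w, _, hw⟩ := Groth.Agent.Lib.helper10.exists_point_of_isPullback sq x z hx
  exact ⟨w, hw⟩

theorem surj_comp {F G H : Sp S} {f : F ⟶ G} {g : G ⟶ H} (hf : IsSurjectiveMor f)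
    (hg : IsSurjectiveMor g) : IsSurjectiveMor (f ≫ g) := by
  intro z
  obtain ⟨y, rfl⟩ := hg z
  obtain ⟨x, rfl⟩ := hf y
  exact ⟨x, Points.map_comp _ _ _⟩

/-! ### Affine morphisms -/

theorem affQ_of_iso {F G : Sp S} (e : F ≅ G) : AffQ ⊤ e.hom := by
  intro Z hZ k
  refine ⟨Z, 𝟙 Z, k ≫ e.inv, ?_, hZ, trivial⟩
  have : IsIso ((yon S).map (𝟙 Z)) := by rw [(yon S).map_id]; infer_instance
  exact IsPullback.of_vert_isIso ⟨by simp⟩

theorem affQ_yon_map {T' T : Over S} (h : T' ⟶ T) (hh : IsAffineHom h.left) :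
    AffQ ⊤ ((yon S).map h) := by
  intro Z hZ k
  obtain ⟨k₀, rfl⟩ := (yon S).map_surjective k
  have sq : IsPullback (pullback.fst h k₀) (pullback.snd h k₀) h k₀ := IsPullback.of_hasPullback _ _
  have sq' := sq.map (Over.forget S)
  have h1 : IsAffineHom (pullback.snd h k₀).left :=
    MorphismProperty.of_isPullback (P := @IsAffineHom) sq' hh
  have hZ' : IsAffine Z.left := hZ
  exact ⟨pullback h k₀, pullback.snd h k₀, (yon S).map (pullback.fst h k₀), sq.map (yon S),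
    isAffine_of_isAffineHom (pullback.snd h k₀).left, trivial⟩

/-! ### The bundle of properties -/

def Good {F G : Sp S} (f : F ⟶ G) : Prop :=
  IsSurjectiveMor f ∧ LocP @Flat f ∧ IsUnivOpenMor f

theorem good_to_field {X U : Sp S} (hX : IsAlgSpace X) (s : X ⟶ U) {k : Type u} [Field k]
    (σ : Spec (CommRingCat.of k) ⟶ S) (eU : U ≅ (yon S).obj (Over.mk σ)) (hs : IsSurjectiveMor s) :
    Good s :=
  ⟨hs, Groth.Agent.S10126.locP_flat_to_field s σ eU,
    Groth.Agent.S10126.univSp_of_comp_iso s eU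
      (Groth.Agent.S9911.result (X := ⟨X, hX⟩) σ (ObjectProperty.homMk (s ≫ eU.hom)))⟩

theorem good_of_isPullback {F G G' P : Sp S} (hF : IsAlgSpace F) (hG : IsAlgSpace G)
    (hG' : IsAlgSpace G') {fst : P ⟶ F} {snd : P ⟶ G'} {f : F ⟶ G} {g : G' ⟶ G}
    (sq : IsPullback fst snd f g) (hf : Good f) : Good snd :=
  ⟨surj_of_isPullback sq hf.1,
    Groth.Agent.H1.LocPFlatBC.locP_flat_of_isPullback hF hG hG' sq hf.2.1,
    Groth.Agent.S10126.univSp_of_isPullback sq hf.2.2⟩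

theorem good_comp {F G H : Sp S} (hG : IsAlgSpace G) (hH : IsAlgSpace H) {f : F ⟶ G} {g : G ⟶ H}
    (hf : Good f) (hg : Good g) : Good (f ≫ g) :=
  ⟨surj_comp hf.1 hg.1,
    Groth.Agent.H1.LocPFlatComp.locP_flat_comp hG _ _ hf.2.1 hg.2.1,
    Groth.Agent.S10552.univOpen_comp hG hH.diag _ _ hf.2.2 hg.2.2⟩

/-! ### The restriction squares -/

variable {B : AlgSp.Sp S}

set_option backward.isDefEq.respectTransparency false in
theorem sqM {G G' : AlgSp.GroupoidSp B} (φ : AlgSp.GroupoidSp.Hom G' G) (hφ : φ.IsRestriction) :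
    IsPullback G'.t (pullback.lift φ.fR G'.s φ.comm_s) φ.fU (pullback.fst G.s φ.fU ≫ G.t) := by
  apply Groth.Agent.Lib.helper5.isPullback_of_exists_lift
  · rw [pullback.lift_fst_assoc, φ.comm_t]
  · intro T u x hux
    obtain ⟨r', h1, h2, h3⟩ := Groth.Agent.S10123.exists_lift_of_isRestriction φ hφ
      (x ≫ pullback.fst G.s φ.fU) (x ≫ pullback.snd G.s φ.fU) u
      (by rw [Category.assoc, Category.assoc, pullback.condition])
      (by rw [Category.assoc, hux])
    refine ⟨r', h3, ?_⟩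
    apply pullback.hom_ext
    · rw [Category.assoc, pullback.lift_fst, h1]
    · rw [Category.assoc, pullback.lift_snd, h2]
  · intro T l l' h1 h2
    apply Groth.Agent.S10123.uniq_of_isRestriction φ hφ l l'
    · simpa using congrArg (· ≫ pullback.fst G.s φ.fU) h2
    · simpa using congrArg (· ≫ pullback.snd G.s φ.fU) h2
    · exact h1

theorem main (S : Scheme.{u}) (B : AlgSp.Sp S) (hB : AlgSp.IsAlgSpace B)
    (G G' : AlgSp.GroupoidSp B) (hR : AlgSp.IsAlgSpace G.R) (hR' : AlgSp.IsAlgSpace G'.R)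
    (k k' : Type u) [Field k] [Field k'] [Algebra k k'] (σ : Spec (CommRingCat.of k) ⟶ S)
    (eU : G.U ≅ ((AlgSp.yon S).obj (Over.mk σ)))
    (eU' : G'.U ≅ ((AlgSp.yon S).obj (Over.mk (Spec.map (CommRingCat.ofHom (algebraMap k k')) ≫ σ))))
    (φ : AlgSp.GroupoidSp.Hom G' G) (hφ : φ.IsRestriction)
    (hfU : φ.fU = eU'.hom ≫ (AlgSp.yon S).map (Over.homMk (Spec.map (CommRingCat.ofHom (algebraMap k k'))) rfl :
      Over.mk (Spec.map (CommRingCat.ofHom (algebraMap k k')) ≫ σ) ⟶ Over.mk σ) ≫ eU.inv) :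
    (∀ f ∈ [G.s, G.t], AlgSp.IsSurjectiveMor f ∧ AlgSp.LocP @Flat f ∧ AlgSp.IsUnivOpenMor f) ∧
      (∀ f ∈ [G'.s, G'.t], AlgSp.IsSurjectiveMor f ∧ AlgSp.LocP @Flat f ∧ AlgSp.IsUnivOpenMor f) ∧
      (AlgSp.IsSurjectiveMor φ.fU ∧ AlgSp.LocP @Flat φ.fU ∧ AlgSp.IsUnivOpenMor φ.fU) ∧
      (AlgSp.IsSurjectiveMor φ.fR ∧ AlgSp.LocP @Flat φ.fR ∧ AlgSp.IsUnivOpenMor φ.fR ∧ AlgSp.IsAffineMor φ.fR) := by
  have hU : IsAlgSpace G.U := (IsAlgSpace.yon_obj (Over.mk σ)).of_iso eU.symm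
  have hU' : IsAlgSpace G'.U := (IsAlgSpace.yon_obj _).of_iso eU'.symm
  have hs : Good G.s := good_to_field hR G.s σ eU (surj_of_section _ _ G.e_s)
  have ht : Good G.t := good_to_field hR G.t σ eU (surj_of_section _ _ G.e_t)
  have hs' : Good G'.s := good_to_field hR' G'.s _ eU' (surj_of_section _ _ G'.e_s)
  have ht' : Good G'.t := good_to_field hR' G'.t _ eU' (surj_of_section _ _ G'.e_t)
  -- `φ.fU`
  have hsub : ∀ a b : Points G.U, a = b := by
    intro a b
    have h1 : ∀ c : Points G.U, Points.map eU.inv (Points.map eU.hom c) = c := by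
      intro c; rw [← Points.map_comp, eU.hom_inv_id, Points.map_id]
    have h2 : Subsingleton ↥(Over.mk σ).left :=
      inferInstanceAs (Subsingleton (PrimeSpectrum k))
    have h3 : Points.map eU.hom a = Points.map eU.hom b := by
      apply (Points.schemeHomeo (Over.mk σ)).symm.injective
      exact Subsingleton.elim _ _
    rw [← h1 a, ← h1 b, h3]
  have hfUs : IsSurjectiveMor φ.fU := by
    intro y
    let pt : ↥(Over.mk (Spec.map (CommRingCat.ofHom (algebraMap k k')) ≫ σ)).left :=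
      IsLocalRing.closedPoint k'
    exact ⟨Points.map eU'.inv (Points.schemeHomeo _ pt), hsub _ _⟩
  have hg : Good φ.fU := good_to_field hU' φ.fU σ eU hfUs
  have hga : AffQ ⊤ φ.fU := by
    rw [hfU]
    refine affQ_comp ⊤ (affQ_of_iso eU') (affQ_comp ⊤ (affQ_yon_map _ ?_) (affQ_of_iso eU.symm))
    show IsAffineHom (Spec.map (CommRingCat.ofHom (algebraMap k k')))
    infer_instance
  -- `φ.fR`
  have sqA : IsPullback (pullback.fst G.s φ.fU) (pullback.snd G.s φ.fU) G.s φ.fU :=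
    IsPullback.of_hasPullback _ _
  have hA : IsAlgSpace (pullback G.s φ.fU) :=
    Groth.Agent.Lib.helper5.isAlgSpace_of_isPullback hU.diag hR hU' sqA
  have h1 : Good (pullback.fst G.s φ.fU) := good_of_isPullback hU' hU hR sqA.flip hg
  have h1a : AffQ ⊤ (pullback.fst G.s φ.fU) := affQ_of_isPullback ⊤ sqA.flip hga
  have h2 : Good (pullback.lift φ.fR G'.s φ.comm_s) :=
    good_of_isPullback hU' hU hA (sqM φ hφ) hg
  have h2a : AffQ ⊤ (pullback.lift φ.fR G'.s φ.comm_s) := affQ_of_isPullback ⊤ (sqM φ hφ) hga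
  have h3 := good_comp hA hR h2 h1
  have h3a := affQ_comp ⊤ h2a h1a
  rw [pullback.lift_fst] at h3 h3a
  refine ⟨?_, ?_, hg, h3.1, h3.2.1, h3.2.2, (Groth.Agent.S9944.isAffineMor_iff_affQ _).2 h3a⟩
  · intro f hf
    simp only [List.mem_cons, List.not_mem_nil, or_false] at hf
    rcases hf with rfl | rfl
    · exact hs
    · exact ht
  · intro f hf
    simp only [List.mem_cons, List.not_mem_nil, or_false] at hf
    rcases hf with rfl | rfl
    · exact hs'
    · exact ht'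

/-- Let `(U, R, s, t, c)` be a groupoid in algebraic spaces over `B` whose object space is `U = Spec k`,
let `k ⊂ k'` be a field extension and `(U', R', s', t', c')` the restriction along `Spec k' ⟶ Spec
k`. Then `s, t, s', t'`, `Spec k' ⟶ Spec k` and `R' ⟶ R` are surjective, flat and universally open,
and `R' ⟶ R` is moreover affine. (The published statement lists every arrow of the restriction
diagram; this row omits the six arrows through `R ×_{s,U} U'` and `U' ×_{U,t} R`, each a base change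
of `s`, `t` or `Spec k' ⟶ Spec k`.) -/
theorem result (S : Scheme.{u}) (B : AlgSp.Sp S) (hB : AlgSp.IsAlgSpace B)
    (G G' : AlgSp.GroupoidSp B) (hR : AlgSp.IsAlgSpace G.R) (hR' : AlgSp.IsAlgSpace G'.R)
    (k k' : Type u) [Field k] [Field k'] [Algebra k k'] (σ : Spec (CommRingCat.of k) ⟶ S)
    (eU : G.U ≅ ((AlgSp.yon S).obj (Over.mk σ)))
    (eU' : G'.U ≅ ((AlgSp.yon S).obj (Over.mk (Spec.map (CommRingCat.ofHom (algebraMap k k')) ≫ σ))))
    (φ : AlgSp.GroupoidSp.Hom G' G) (hφ : φ.IsRestriction)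
    (hfU : φ.fU = eU'.hom ≫ (AlgSp.yon S).map (Over.homMk (Spec.map (CommRingCat.ofHom (algebraMap k k'))) rfl :
      Over.mk (Spec.map (CommRingCat.ofHom (algebraMap k k')) ≫ σ) ⟶ Over.mk σ) ≫ eU.inv) :
    (∀ f ∈ [G.s, G.t], AlgSp.IsSurjectiveMor f ∧ AlgSp.LocP @Flat f ∧ AlgSp.IsUnivOpenMor f) ∧
      (∀ f ∈ [G'.s, G'.t], AlgSp.IsSurjectiveMor f ∧ AlgSp.LocP @Flat f ∧ AlgSp.IsUnivOpenMor f) ∧
      (AlgSp.IsSurjectiveMor φ.fU ∧ AlgSp.LocP @Flat φ.fU ∧ AlgSp.IsUnivOpenMor φ.fU) ∧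
      (AlgSp.IsSurjectiveMor φ.fR ∧ AlgSp.LocP @Flat φ.fR ∧ AlgSp.IsUnivOpenMor φ.fR ∧ AlgSp.IsAffineMor φ.fR) := by
  exact main S B hB G G' hR hR' k k' σ eU eU' φ hφ hfU

end Groth.Agent.S10132
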