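import Groth.Statements.S10135
import Groth.Agent.Lib.Helper5.AlgSpLocalDim
import Groth.Agent.Lib.Helper5.AlgSpGrpdShear
import Groth.Agent.Lib.Helper5.AlgSpFibreProduct

set_option autoImplicit false
universe u
open CategoryTheory CategoryTheory.Limits AlgebraicGeometry
open AlgSp AlgSp.GroupoidSp

namespace Groth.Agent.S10135

/-- For a groupoid in algebraic spaces `(U, R, s, t, c)` over `B` with `U = Spec k` and `s, t` locally
of finite type, `dim_r(R) = dim(R)` for every point `r` of `R`. -/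
theorem result (S : Scheme.{u}) (B : AlgSp.Sp S) (hB : AlgSp.IsAlgSpace B)
    (G : AlgSp.GroupoidSp B) (hR : AlgSp.IsAlgSpace G.R) (k : Type u) [Field k]
    (σ : Spec (CommRingCat.of k) ⟶ S) (eU : G.U ≅ (AlgSp.yon S).obj (Over.mk σ))
    (hs : AlgSp.LocP @LocallyOfFiniteType G.s) (ht : AlgSp.LocP @LocallyOfFiniteType G.t) (r : AlgSp.Points G.R) :
    AlgSp.HasAt (fun V v => FlatMor.localDim ↥V v = AlgSp.dim G.R) G.R r := by
  classical
  have hHyon : AlgSp.IsAlgSpace ((AlgSp.yon S).obj (Over.mk σ)) := AlgSp.IsAlgSpace.yon_obj _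
  -- `s ≫ eU.hom`, `t ≫ eU.hom` are locally of finite type
  have hcomp : ∀ (f : G.R ⟶ G.U), AlgSp.LocP @LocallyOfFiniteType f →
      AlgSp.LocP @LocallyOfFiniteType (f ≫ eU.hom) := by
    intro f hf U V a b h ha hb hcomm
    refine hf a (b ≫ eU.inv) h ha ?_ ?_
    · exact (AlgSp.RepWith (S := S) @Etale).comp_mem _ _ hb
        (MorphismProperty.of_isIso (AlgSp.RepWith (S := S) @Etale) eU.inv)
    · rw [← Category.assoc, ← hcomm, Category.assoc, Category.assoc, eU.hom_inv_id,
        Category.comp_id]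
  have hs' := hcomp G.s hs
  have ht' := hcomp G.t ht
  have sq₁ : IsPullback (pullback.fst G.s G.t) (pullback.snd G.s G.t) (G.s ≫ eU.hom)
      (G.t ≫ eU.hom) :=
    ⟨⟨by rw [← Category.assoc, pullback.condition, Category.assoc]⟩,
      ⟨pullbackIsPullbackOfCompMono G.s G.t eU.hom⟩⟩
  have sq₂ : IsPullback (pullback.fst G.t G.t) (pullback.snd G.t G.t) (G.t ≫ eU.hom)
      (G.t ≫ eU.hom) :=
    ⟨⟨by rw [← Category.assoc, pullback.condition, Category.assoc]⟩,
      ⟨pullbackIsPullbackOfCompMono G.t G.t eU.hom⟩⟩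
  have hP₂ : AlgSp.IsAlgSpace (pullback G.t G.t) :=
    Groth.Agent.Lib.helper5.isAlgSpace_of_isPullback hHyon.diag hR hR sq₂
  -- local dimension at `r` equals that at `e (s r)`
  have key : ∀ (r : AlgSp.Points G.R) (d : WithBot ℕ∞),
      Groth.Agent.Lib.helper5.AlgSpLD.LD G.R r d →
      Groth.Agent.Lib.helper5.AlgSpLD.LD G.R (AlgSp.Points.map (G.s ≫ G.e) r) d := by
    intro r d hd
    obtain ⟨d', hd'⟩ := Groth.Agent.Lib.helper5.AlgSpLD.exists_LD ⟨G.R, hR⟩
      (AlgSp.Points.map (G.s ≫ G.e) r)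
    have f1 : AlgSp.Points.map (pullback.fst G.s G.t)
        (AlgSp.Points.map (Groth.Agent.Lib.helper5.AlgSpGrpdShear.sec G) r) = r := by
      rw [← AlgSp.Points.map_comp]
      unfold Groth.Agent.Lib.helper5.AlgSpGrpdShear.sec
      rw [pullback.lift_fst]
      exact AlgSp.Points.map_id r
    have f2 : AlgSp.Points.map (pullback.snd G.s G.t)
        (AlgSp.Points.map (Groth.Agent.Lib.helper5.AlgSpGrpdShear.sec G) r) =
        AlgSp.Points.map (G.s ≫ G.e) r := by
      rw [← AlgSp.Points.map_comp, Groth.Agent.Lib.helper5.AlgSpGrpdShear.sec_snd]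
    have f3 : AlgSp.Points.map (pullback.fst G.t G.t)
        (AlgSp.Points.map (pullback.diagonal G.t) r) = r := by
      rw [← AlgSp.Points.map_comp, pullback.diagonal_fst]
      exact AlgSp.Points.map_id r
    have f4 : AlgSp.Points.map (pullback.snd G.t G.t)
        (AlgSp.Points.map (pullback.diagonal G.t) r) = r := by
      rw [← AlgSp.Points.map_comp, pullback.diagonal_snd]
      exact AlgSp.Points.map_id r
    have e1 := Groth.Agent.Lib.helper5.AlgSpLD.LD_prod k σ hR hR _ _ hs' ht' sq₁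
      (AlgSp.Points.map (Groth.Agent.Lib.helper5.AlgSpGrpdShear.sec G) r) d d'
      (by rw [f1]; exact hd) (by rw [f2]; exact hd')
    have e2 := Groth.Agent.Lib.helper5.AlgSpLD.LD_prod k σ hR hR _ _ ht' ht' sq₂
      (AlgSp.Points.map (pullback.diagonal G.t) r) d d
      (by rw [f3]; exact hd) (by rw [f4]; exact hd)
    have e3 := Groth.Agent.Lib.helper5.AlgSpLD.LD_map_iso
      (Groth.Agent.Lib.helper5.AlgSpGrpdShear.shear G)
      (AlgSp.Points.map (Groth.Agent.Lib.helper5.AlgSpGrpdShear.sec G) r) _ e1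
    have e4 : AlgSp.Points.map (Groth.Agent.Lib.helper5.AlgSpGrpdShear.shear G).hom
        (AlgSp.Points.map (Groth.Agent.Lib.helper5.AlgSpGrpdShear.sec G) r) =
        AlgSp.Points.map (pullback.diagonal G.t) r := by
      rw [← AlgSp.Points.map_comp, Groth.Agent.Lib.helper5.AlgSpGrpdShear.sec_shear]
    rw [e4] at e3
    have e5 := Groth.Agent.Lib.helper5.AlgSpLD.LD_unique ⟨pullback G.t G.t, hP₂⟩ _ _ _ e3 e2
    obtain ⟨n, rfl⟩ := Groth.Agent.Lib.helper5.AlgSpLD.LD_nat k σ _ hs' _ _ hd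
    obtain ⟨n', rfl⟩ := Groth.Agent.Lib.helper5.AlgSpLD.LD_nat k σ _ hs' _ _ hd'
    have e6 : n + n' = n + n := by exact_mod_cast e5
    have e7 : n' = n := by omega
    rw [e7] at hd'
    exact hd'
  -- the image `e (s r)` is the same for all points
  have hε : ∀ r r' : AlgSp.Points G.R,
      AlgSp.Points.map (G.s ≫ G.e) r = AlgSp.Points.map (G.s ≫ G.e) r' := by
    intro r r'
    rw [AlgSp.Points.map_comp, AlgSp.Points.map_comp]
    congr 1
    have hss : Subsingleton (AlgSp.Points ((AlgSp.yon S).obj (Over.mk σ))) :=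
      Groth.Agent.Lib.helper5.AlgSpLD.subsingleton_points_yon_field k σ
    have hinj : Function.Injective (AlgSp.Points.map eU.hom) := by
      intro x y hxy
      have := congrArg (AlgSp.Points.map eU.inv) hxy
      rwa [← AlgSp.Points.map_comp, ← AlgSp.Points.map_comp, eU.hom_inv_id,
        AlgSp.Points.map_id, AlgSp.Points.map_id] at this
    exact hinj (hss.elim _ _)
  obtain ⟨d, hd⟩ := Groth.Agent.Lib.helper5.AlgSpLD.exists_LD ⟨G.R, hR⟩ r
  have hall : ∀ r' : AlgSp.Points G.R, Groth.Agent.Lib.helper5.AlgSpLD.LD G.R r' d := by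
    intro r'
    obtain ⟨d', hd'⟩ := Groth.Agent.Lib.helper5.AlgSpLD.exists_LD ⟨G.R, hR⟩ r'
    have h1 := key r d hd
    have h2 := key r' d' hd'
    rw [hε r' r] at h2
    have := Groth.Agent.Lib.helper5.AlgSpLD.LD_unique ⟨G.R, hR⟩ _ _ _ h1 h2
    rw [this]
    exact hd'
  haveI : Nonempty (AlgSp.Points G.R) := ⟨r⟩
  have hdim := Groth.Agent.Lib.helper5.AlgSpLD.dim_eq_of_forall_LD ⟨G.R, hR⟩ d hall
  change Groth.Agent.Lib.helper5.AlgSpLD.LD G.R r (AlgSp.dim G.R)
  rw [hdim]
  exact hd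

end Groth.Agent.S10135
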