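import Groth.Statements.S10136
import Groth.Agent.Lib.Helper5.AlgSpLocalDim
import Groth.Agent.Lib.Helper5.GrpHomog
import Groth.Agent.Lib.Helper5.AlgSpFibreProduct

set_option autoImplicit false
universe u
open CategoryTheory CategoryTheory.Limits AlgebraicGeometry MonoidalCategory MonObj
open AlgSp

namespace Groth.Agent.S10136

/-- For a group algebraic space `G` locally of finite type over a field `k`, `dim_g(G) = dim(G)` for
every point `g` of `G`. (The published situation allows any base scheme `S` with `k` a field over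
`S`; this row takes `S = Spec k`.) -/
theorem result (k : Type u) [Field k]
    (G : Over ((AlgSp.yon (Spec (CommRingCat.of k))).obj (Over.mk (𝟙 _)))) [GrpObj G] (hG : AlgSp.IsAlgSpace G.left)
    (hlft : AlgSp.LocP @LocallyOfFiniteType G.hom) (g : AlgSp.Points G.left) :
    AlgSp.HasAt (fun V v => FlatMor.localDim ↥V v = AlgSp.dim G.left) G.left g := by
  classical
  -- the fibre square defining `G ⊗ G`
  have sqP : IsPullback (CartesianMonoidalCategory.fst G G).left
      (CartesianMonoidalCategory.snd G G).left G.hom G.hom :=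
    IsPullback.of_hasPullback G.hom G.hom
  have hP : AlgSp.IsAlgSpace (G ⊗ G).left :=
    Groth.Agent.Lib.helper5.isAlgSpace_of_isPullback
      (AlgSp.IsAlgSpace.yon_obj _).diag hG hG sqP
  -- local dimension at `g` equals that at the image of the unit
  have key : ∀ (g : AlgSp.Points G.left) (d : WithBot ℕ∞),
      Groth.Agent.Lib.helper5.AlgSpLD.LD G.left g d →
      Groth.Agent.Lib.helper5.AlgSpLD.LD G.left
        (AlgSp.Points.map (CartesianMonoidalCategory.toUnit G ≫ η[G]).left g) d := by
    intro g d hd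
    obtain ⟨d', hd'⟩ := Groth.Agent.Lib.helper5.AlgSpLD.exists_LD ⟨G.left, hG⟩
      (AlgSp.Points.map (CartesianMonoidalCategory.toUnit G ≫ η[G]).left g)
    set s₁ : G ⟶ G ⊗ G := CartesianMonoidalCategory.lift (𝟙 G)
      (CartesianMonoidalCategory.toUnit G ≫ η[G]) with hs₁
    set Δ : G ⟶ G ⊗ G := CartesianMonoidalCategory.lift (𝟙 G) (𝟙 G) with hΔ
    have hsσ : s₁ ≫ (Groth.Agent.Lib.helper5.GrpHomog.shear G).hom = Δ :=
      Groth.Agent.Lib.helper5.GrpHomog.sec_shear G
    have f1 : AlgSp.Points.map (CartesianMonoidalCategory.fst G G).left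
        (AlgSp.Points.map s₁.left g) = g := by
      rw [← AlgSp.Points.map_comp, ← Over.comp_left, hs₁, CartesianMonoidalCategory.lift_fst]
      exact AlgSp.Points.map_id g
    have f2 : AlgSp.Points.map (CartesianMonoidalCategory.snd G G).left
        (AlgSp.Points.map s₁.left g) =
        AlgSp.Points.map (CartesianMonoidalCategory.toUnit G ≫ η[G]).left g := by
      rw [← AlgSp.Points.map_comp, ← Over.comp_left, hs₁, CartesianMonoidalCategory.lift_snd]
    have f3 : AlgSp.Points.map (CartesianMonoidalCategory.fst G G).left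
        (AlgSp.Points.map Δ.left g) = g := by
      rw [← AlgSp.Points.map_comp, ← Over.comp_left, hΔ, CartesianMonoidalCategory.lift_fst]
      exact AlgSp.Points.map_id g
    have f4 : AlgSp.Points.map (CartesianMonoidalCategory.snd G G).left
        (AlgSp.Points.map Δ.left g) = g := by
      rw [← AlgSp.Points.map_comp, ← Over.comp_left, hΔ, CartesianMonoidalCategory.lift_snd]
      exact AlgSp.Points.map_id g
    have e1 := Groth.Agent.Lib.helper5.AlgSpLD.LD_prod k (𝟙 _) hG hG G.hom G.hom hlft hlft sqP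
      (AlgSp.Points.map s₁.left g) d d' (by rw [f1]; exact hd) (by rw [f2]; exact hd')
    have e2 := Groth.Agent.Lib.helper5.AlgSpLD.LD_prod k (𝟙 _) hG hG G.hom G.hom hlft hlft sqP
      (AlgSp.Points.map Δ.left g) d d (by rw [f3]; exact hd) (by rw [f4]; exact hd)
    have e3 := Groth.Agent.Lib.helper5.AlgSpLD.LD_map_iso
      ((Over.forget _).mapIso (Groth.Agent.Lib.helper5.GrpHomog.shear G))
      (AlgSp.Points.map s₁.left g) _ e1
    have e4 : AlgSp.Points.map ((Over.forget _).mapIso
        (Groth.Agent.Lib.helper5.GrpHomog.shear G)).hom (AlgSp.Points.map s₁.left g) =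
        AlgSp.Points.map Δ.left g := by
      rw [← AlgSp.Points.map_comp]
      change AlgSp.Points.map (s₁.left ≫ (Groth.Agent.Lib.helper5.GrpHomog.shear G).hom.left) g = _
      rw [← Over.comp_left, hsσ]
    rw [e4] at e3
    have e5 := Groth.Agent.Lib.helper5.AlgSpLD.LD_unique ⟨(G ⊗ G).left, hP⟩ _ _ _ e3 e2
    obtain ⟨n, rfl⟩ := Groth.Agent.Lib.helper5.AlgSpLD.LD_nat k (𝟙 _) G.hom hlft _ _ hd
    obtain ⟨n', rfl⟩ := Groth.Agent.Lib.helper5.AlgSpLD.LD_nat k (𝟙 _) G.hom hlft _ _ hd'
    have e6 : n + n' = n + n := by exact_mod_cast e5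
    have e7 : n' = n := by omega
    rw [e7] at hd'
    exact hd'
  -- the image of the unit is the same for all points
  have hε : ∀ g g' : AlgSp.Points G.left,
      AlgSp.Points.map (CartesianMonoidalCategory.toUnit G ≫ η[G]).left g =
        AlgSp.Points.map (CartesianMonoidalCategory.toUnit G ≫ η[G]).left g' := by
    intro g g'
    rw [Over.comp_left, AlgSp.Points.map_comp, AlgSp.Points.map_comp]
    congr 1
    have hss : Subsingleton (AlgSp.Points (𝟙_ (Over ((AlgSp.yon (Spec (CommRingCat.of k))).obj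
        (Over.mk (𝟙 _))))).left) :=
      Groth.Agent.Lib.helper5.AlgSpLD.subsingleton_points_yon_field (S := Spec (CommRingCat.of k))
        k (𝟙 _)
    exact hss.elim _ _
  obtain ⟨d, hd⟩ := Groth.Agent.Lib.helper5.AlgSpLD.exists_LD ⟨G.left, hG⟩ g
  have hall : ∀ g' : AlgSp.Points G.left, Groth.Agent.Lib.helper5.AlgSpLD.LD G.left g' d := by
    intro g'
    obtain ⟨d', hd'⟩ := Groth.Agent.Lib.helper5.AlgSpLD.exists_LD ⟨G.left, hG⟩ g'
    have h1 := key g d hd
    have h2 := key g' d' hd'
    rw [hε g' g] at h2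
    have := Groth.Agent.Lib.helper5.AlgSpLD.LD_unique ⟨G.left, hG⟩ _ _ _ h1 h2
    rw [this]
    exact hd'
  haveI : Nonempty (AlgSp.Points G.left) := ⟨g⟩
  have hdim := Groth.Agent.Lib.helper5.AlgSpLD.dim_eq_of_forall_LD ⟨G.left, hG⟩ d hall
  change Groth.Agent.Lib.helper5.AlgSpLD.LD G.left g (AlgSp.dim G.left)
  rw [hdim]
  exact hd

end Groth.Agent.S10136
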