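import Groth.Statements.S10137
import Groth.Agent.Lib.Helper5.AlgSpGrpdStab
import Groth.Agent.S10135

set_option autoImplicit false
universe u
open CategoryTheory CategoryTheory.Limits AlgebraicGeometry
open AlgSp AlgSp.GroupoidSp

namespace Groth.Agent.S10137

/-- For a groupoid in algebraic spaces `(U, R, s, t, c)` over `B` with `U = Spec k` and `s, t` locally
of finite type, the stabilizer group algebraic space `G = Spec k ×_{Δ, Spec k ×_B Spec k, (t, s)} R`
satisfies `dim(R) = dim(G)`. -/
theorem result (S : Scheme.{u}) (B : AlgSp.Sp S) (hB : AlgSp.IsAlgSpace B)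
    (G : AlgSp.GroupoidSp B) (hR : AlgSp.IsAlgSpace G.R) (k : Type u) [Field k]
    (σ : Spec (CommRingCat.of k) ⟶ S) (eU : G.U ≅ (AlgSp.yon S).obj (Over.mk σ))
    (hs : AlgSp.LocP @LocallyOfFiniteType G.s) (ht : AlgSp.LocP @LocallyOfFiniteType G.t) :
    AlgSp.dim G.R = AlgSp.dim G.stabilizer := by
  apply le_antisymm
  · refine Groth.Agent.Lib.helper5.AlgSpGrpdStab.dim_le_dim_stabilizer G hR k σ eU ht ?_
    intro r
    exact Groth.Agent.S10135.result S B hB G hR k σ eU hs ht r
  · exact Groth.Agent.Lib.helper5.AlgSpGrpdStab.dim_stabilizer_le_dim G hB hR k σ eU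

end Groth.Agent.S10137
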