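import Groth.Statements.S10144
import Groth.Agent.Lib.Helper5.AlgSpGrpLocus
import Groth.Agent.Lib.Helper5.AlgSpLqfLocus

set_option autoImplicit false
universe u
open CategoryTheory CategoryTheory.Limits AlgebraicGeometry MonoidalCategory MonObj
open AlgSp

namespace Groth.Agent.S10144

open Groth.Agent.Lib.helper5 in
theorem pkg_lqf : GrpLocus.LocusPkg (LqfLocus.Plqf.{u}) (NearLocus.NearAt LqfLocus.Plqf.{u}) where
  isOpen := fun f => NearLocus.isOpen_nearLocus _ f
  baseChange := fun hX hY hY' _ _ _ _ sq hf x' => LqfLocus.lqfLocus_baseChange hX hY hY' sq hf x'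
  of_locP := fun hX hY f hf x => NearLocus.hasAtMor_of_locP LqfLocus.etLocal_lqf hX hY f hf x
  to_locP := fun f hf => NearLocus.locP_of_forall_hasAtMor LqfLocus.etLocal_lqf f hf

/-- Let `G` be a group algebraic space over an algebraic space `B` with `G ⟶ B` locally of finite type.
Then there is a largest open subspace `W ⊂ B` such that `G_W ⟶ W` is locally quasi-finite, and its
formation commutes with base change along any morphism of algebraic spaces `B' ⟶ B`. -/
theorem result (S : Scheme.{u}) (B : AlgSp.Sp S) (hB : AlgSp.IsAlgSpace B)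
    (G : Over B) [GrpObj G] (hG : AlgSp.IsAlgSpace G.left) (hlft : AlgSp.LocP @LocallyOfFiniteType G.hom) :
    ∃ (W : AlgSp.Sp S) (w : W ⟶ B), AlgSp.RepWith @IsOpenImmersion w ∧
      (∀ (W' : AlgSp.Sp S) (w' : W' ⟶ B), AlgSp.RepWith @IsOpenImmersion w' →
        (AlgSp.LocP (@LocallyQuasiFinite ⊓ @LocallyOfFiniteType) (pullback.snd G.hom w') ↔ ∃ k : W' ⟶ W, k ≫ w = w')) ∧
      (∀ (B' : AlgSp.Sp S), AlgSp.IsAlgSpace B' → ∀ (f : B' ⟶ B) (W'' : AlgSp.Sp S) (w'' : W'' ⟶ B'),
        AlgSp.RepWith @IsOpenImmersion w'' →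
        (AlgSp.LocP (@LocallyQuasiFinite ⊓ @LocallyOfFiniteType) (pullback.snd (pullback.snd G.hom f) w'') ↔
          ∃ k : W'' ⟶ pullback w f, k ≫ pullback.snd w f = w'')) := by
  exact Groth.Agent.Lib.helper5.GrpLocus.exists_largest_open pkg_lqf B hB G hG hlft

end Groth.Agent.S10144
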