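import Groth.Statements.S10145
import Groth.Agent.Lib.Helper5.AlgSpGrpdShear

set_option autoImplicit false
universe u
open CategoryTheory CategoryTheory.Limits AlgebraicGeometry
open AlgSp AlgSp.GroupoidSp

namespace Groth.Agent.S10145

/-- Let `(U, R, s, t, c)` be a groupoid in algebraic spaces over `B` whose object space is `U = Spec k`,
and let `r : Spec k ⟶ R` be such that `s ∘ r` and `t ∘ r` are automorphisms of `Spec k`; write `a =
r ∘ (s ∘ r)⁻¹`, so that `s ∘ a = id` and `t ∘ a` is an automorphism. Then `R ⟶ R`, `f ↦ c(a ∘ t ∘ f,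
f)`, is an automorphism of `R` mapping `e` to `a` (the point `r`). -/
theorem result (S : Scheme.{u}) (B : AlgSp.Sp S) (hB : AlgSp.IsAlgSpace B)
    (G : AlgSp.GroupoidSp B) (hR : AlgSp.IsAlgSpace G.R) (k : Type u) [Field k]
    (σ : Spec (CommRingCat.of k) ⟶ S) (eU : G.U ≅ (AlgSp.yon S).obj (Over.mk σ))
    (a : G.U ⟶ G.R) (ha : a ≫ G.s = 𝟙 G.U) [IsIso (a ≫ G.t)] :
    IsIso (pullback.lift (G.t ≫ a) (𝟙 G.R) (((Category.assoc _ _ _).trans (congrArg (G.t ≫ ·) ha)).trans ((Category.comp_id _).trans (Category.id_comp _).symm)) ≫ G.c) ∧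
      G.e ≫ (pullback.lift (G.t ≫ a) (𝟙 G.R) (((Category.assoc _ _ _).trans (congrArg (G.t ≫ ·) ha)).trans ((Category.comp_id _).trans (Category.id_comp _).symm)) ≫ G.c) = a := by
  classical
  have hcond : (G.t ≫ a) ≫ G.s = 𝟙 G.R ≫ G.t :=
    ((Category.assoc _ _ _).trans (congrArg (G.t ≫ ·) ha)).trans
      ((Category.comp_id _).trans (Category.id_comp _).symm)
  -- the translation `Φ`
  set Φ : G.R ⟶ G.R := pullback.lift (G.t ≫ a) (𝟙 G.R) hcond ≫ G.c with hΦ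
  have hΦm : Φ = Groth.Agent.Lib.helper5.AlgSpGrpdShear.m G (G.t ≫ a) (𝟙 G.R) hcond := rfl
  set θ : G.U ⟶ G.U := a ≫ G.t with hθ
  have hθ1 : θ ≫ inv θ = 𝟙 _ := IsIso.hom_inv_id θ
  have hθ2 : inv θ ≫ θ = 𝟙 _ := IsIso.inv_hom_id θ
  have hΦt : Φ ≫ G.t = G.t ≫ θ := by
    rw [hΦm, Groth.Agent.Lib.helper5.AlgSpGrpdShear.m_t, Category.assoc]
  -- the inverse translation `Ψ`
  have hcond' : (G.t ≫ inv θ ≫ a ≫ G.i) ≫ G.s = 𝟙 G.R ≫ G.t := by
    rw [Category.assoc, Category.assoc, Category.assoc, G.i_s, Category.id_comp]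
    change G.t ≫ inv θ ≫ θ = G.t
    rw [hθ2, Category.comp_id]
  set Ψ : G.R ⟶ G.R :=
    Groth.Agent.Lib.helper5.AlgSpGrpdShear.m G (G.t ≫ inv θ ≫ a ≫ G.i) (𝟙 G.R) hcond' with hΨ
  have hΨt : Ψ ≫ G.t = G.t ≫ inv θ := by
    rw [hΨ, Groth.Agent.Lib.helper5.AlgSpGrpdShear.m_t]
    simp only [Category.assoc]
    rw [G.i_t, ha, Category.comp_id]
  refine ⟨⟨⟨Ψ, ?_, ?_⟩⟩, ?_⟩
  · -- `Φ ≫ Ψ = 𝟙`
    rw [hΨ, Groth.Agent.Lib.helper5.AlgSpGrpdShear.comp_m]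
    have h1 : Φ ≫ G.t ≫ inv θ ≫ a ≫ G.i = (G.t ≫ a) ≫ G.i := by
      rw [← Category.assoc, hΦt, Category.assoc, ← Category.assoc θ, hθ1, Category.id_comp,
        Category.assoc]
    have h2 : Φ ≫ 𝟙 G.R = Groth.Agent.Lib.helper5.AlgSpGrpdShear.m G (G.t ≫ a) (𝟙 G.R) hcond := by
      rw [Category.comp_id, hΦm]
    refine (Groth.Agent.Lib.helper5.AlgSpGrpdShear.m_congr G h1 h2 _ ?_).trans
      (Groth.Agent.Lib.helper5.AlgSpGrpdShear.i_m_m G (G.t ≫ a) (𝟙 G.R) hcond)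
    rw [Category.assoc, G.i_s, Groth.Agent.Lib.helper5.AlgSpGrpdShear.m_t]
  · -- `Ψ ≫ Φ = 𝟙`
    rw [hΦm, Groth.Agent.Lib.helper5.AlgSpGrpdShear.comp_m]
    have h1 : Ψ ≫ G.t ≫ a = G.t ≫ inv θ ≫ a := by
      rw [← Category.assoc, hΨt, Category.assoc]
    have ht : (G.t ≫ inv θ ≫ a) ≫ G.t = 𝟙 G.R ≫ G.t := by
      rw [Category.assoc, Category.assoc, Category.id_comp]
      change G.t ≫ inv θ ≫ θ = G.t
      rw [hθ2, Category.comp_id]
    have h2 : Ψ ≫ 𝟙 G.R = Groth.Agent.Lib.helper5.AlgSpGrpdShear.m G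
        ((G.t ≫ inv θ ≫ a) ≫ G.i) (𝟙 G.R) (by rw [Category.assoc, G.i_s, ht]) := by
      rw [Category.comp_id, hΨ]
      refine Groth.Agent.Lib.helper5.AlgSpGrpdShear.m_congr G ?_ rfl _ _
      simp only [Category.assoc]
    refine (Groth.Agent.Lib.helper5.AlgSpGrpdShear.m_congr G h1 h2 _ ?_).trans
      (Groth.Agent.Lib.helper5.AlgSpGrpdShear.m_i_m G (G.t ≫ inv θ ≫ a) (𝟙 G.R) ht)
    rw [Groth.Agent.Lib.helper5.AlgSpGrpdShear.m_t]
    simp only [Category.assoc]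
    rw [G.i_t]
  · -- `e ↦ a`
    rw [hΦm, Groth.Agent.Lib.helper5.AlgSpGrpdShear.comp_m]
    have h1 : G.e ≫ G.t ≫ a = a := by
      rw [← Category.assoc, G.e_t, Category.id_comp]
    have h2 : G.e ≫ 𝟙 G.R = a ≫ G.s ≫ G.e := by
      rw [Category.comp_id, ← Category.assoc, ha, Category.id_comp]
    refine (Groth.Agent.Lib.helper5.AlgSpGrpdShear.m_congr G h1 h2 _ ?_).trans
      (Groth.Agent.Lib.helper5.AlgSpGrpdShear.m_e G a)
    rw [Category.assoc, Category.assoc, G.e_t, Category.comp_id]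

end Groth.Agent.S10145
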