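import Groth.Statements.S10148
import Groth.Agent.Lib.Helper2.Henselian
import Mathlib.Topology.Algebra.InfiniteSum.Nonarchimedean
import Mathlib.Topology.Algebra.Polynomial
import Mathlib.Topology.Algebra.OpenSubgroup
import Mathlib.Algebra.Ring.GeomSum
import Mathlib.Tactic.Ring
import Mathlib.Tactic.LinearCombination

set_option autoImplicit false
universe u
open LinTop

namespace Groth.Agent.S10148


open Topology Filter Polynomial

section aux

variable {A : Type u} [CommRing A] [UniformSpace A] [IsUniformAddGroup A] [IsTopologicalRing A]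
  [IsLinearTopology A A] [CompleteSpace A]

lemma nonarch : NonarchimedeanAddGroup A where
  is_nonarchimedean := by
    intro U hU
    obtain ⟨I, hIo, hIU⟩ := (IsLinearTopology.hasBasis_open_ideal (R := A)).mem_iff.mp hU
    exact ⟨⟨I.toAddSubgroup, hIo⟩, hIU⟩

lemma exists_lim (u : ℕ → A) (hu : Tendsto (fun n => u (n + 1) - u n) atTop (𝓝 0)) :
    ∃ z : A, Tendsto u atTop (𝓝 z) := by
  have : NonarchimedeanAddGroup A := nonarch
  exact cauchySeq_tendsto_of_complete (NonarchimedeanAddGroup.cauchySeq_of_tendsto_sub_nhds_zero hu)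

lemma isUnit_one_sub_of_nilp [T2Space A] (z : A) (hz : IsTopologicallyNilpotent z) :
    IsUnit (1 - z) := by
  set s : ℕ → A := fun n => ∑ k ∈ Finset.range n, z ^ k with hs
  have hdiff : (fun n => s (n + 1) - s n) = fun n => z ^ n := by
    funext n
    simp [hs, Finset.sum_range_succ]
  obtain ⟨σ, hσ⟩ := exists_lim s (by rw [hdiff]; exact hz)
  have h1 : Tendsto (fun n => (1 - z) * s n) atTop (𝓝 ((1 - z) * σ)) := hσ.const_mul _
  have h2 : Tendsto (fun n => (1 - z) * s n) atTop (𝓝 1) := by
    have : (fun n => (1 - z) * s n) = fun n => 1 - z ^ n := by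
      funext n; exact mul_neg_geom_sum z n
    rw [this]
    have : Tendsto (fun n => (1 : A) - z ^ n) atTop (𝓝 (1 - 0)) := tendsto_const_nhds.sub hz
    simpa using this
  exact IsUnit.of_mul_eq_one _ (tendsto_nhds_unique h1 h2)

end aux

/-- Let A be a weakly admissible topological ring (linearly topologized, Hausdorff and complete, having
a weak ideal of definition) and let I be a weak ideal of definition of A, that is, an open ideal
consisting of topologically nilpotent elements. Then (A, I) is a henselian pair. -/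
theorem result
    (A : Type u) [CommRing A] [UniformSpace A] [IsUniformAddGroup A] [IsTopologicalRing A]
    (hA : LinTop.IsWeaklyAdmissible A) (I : Ideal A) (hI : LinTop.IsWeakIdealOfDefinition A I) :
    HenselianRing A I := by
  classical
  obtain ⟨⟨hlin, -⟩, hT2, hcomp⟩ := hA
  obtain ⟨hIopen, hInil⟩ := hI
  have := hlin
  have := hT2
  have := hcomp
  have hjac : I ≤ Ideal.jacobson ⊥ := by
    intro x hx
    rw [Ideal.mem_jacobson_bot]
    intro y
    have hz : IsTopologicallyNilpotent (-(x * y)) := hInil _ (I.neg_mem (I.mul_mem_right y hx))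
    have := isUnit_one_sub_of_nilp _ hz
    rwa [sub_neg_eq_add, add_comm] at this
  rw [Groth.Agent.Lib.helper2.henselianRing_iff]
  refine ⟨hjac, fun f hf a₀ h0 h1 => ?_⟩
  set μ := f.eval a₀ with hμ
  have hμnil : IsTopologicallyNilpotent μ := hInil μ h0
  -- the Newton sequence
  let c : ℕ → A := fun n => Nat.rec a₀ (fun _ b => b - f.eval b * Ring.inverse (f.derivative.eval b)) n
  have hc0 : c 0 = a₀ := rfl
  have hcs : ∀ n, c (n + 1) = c n - f.eval (c n) * Ring.inverse (f.derivative.eval (c n)) :=
    fun n => rfl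
  have hunit : ∀ b : A, b - a₀ ∈ I → IsUnit (f.derivative.eval b) := by
    intro b hb
    have := Groth.Agent.Lib.helper2.isUnit_add_of_mem_jacobson hjac h1
      (Groth.Agent.Lib.helper2.eval_sub_eval_mem f.derivative hb)
    simpa using this
  have hQ : ∀ n, c n - a₀ ∈ I ∧ ∃ t, f.eval (c n) = μ ^ (n + 1) * t := by
    intro n
    induction n with
    | zero => exact ⟨by rw [hc0, sub_self]; exact I.zero_mem, 1, by rw [hc0]; ring⟩
    | succ n ih =>
      obtain ⟨ih1, t, ht⟩ := ih
      have hu := hunit _ ih1
      set b := c n with hb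
      set u := Ring.inverse (f.derivative.eval b) with hu'
      have hfu : f.derivative.eval b * u = 1 := Ring.mul_inverse_cancel _ hu
      obtain ⟨k, hk⟩ := f.binomExpansion b (-(f.eval b * u))
      have hcs' : c (n + 1) = b + -(f.eval b * u) := by rw [hcs]; ring
      constructor
      · rw [hcs', ht]
        have : b + -(μ ^ (n + 1) * t * u) - a₀ = (b - a₀) - μ * (μ ^ n * t * u) := by ring
        rw [this]
        exact I.sub_mem ih1 (I.mul_mem_right _ h0)
      · refine ⟨μ ^ n * k * t ^ 2 * u ^ 2, ?_⟩
        rw [hcs', hk]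
        have : f.eval b + f.derivative.eval b * -(f.eval b * u) = 0 := by
          linear_combination (-(f.eval b)) * hfu
        rw [this, ht]
        ring
  choose hQ1 t ht using hQ
  have hμpow : Tendsto (fun n => μ ^ (n + 1)) atTop (𝓝 0) :=
    (tendsto_add_atTop_iff_nat 1).2 hμnil
  have hf0 : Tendsto (fun n => f.eval (c n)) atTop (𝓝 0) := by
    have : (fun n => f.eval (c n)) = (fun n => t n) * (fun n => μ ^ (n + 1)) := by
      funext n; rw [ht n, Pi.mul_apply, mul_comm]
    rw [this]
    exact IsLinearTopology.tendsto_mul_zero_of_right _ _ hμpow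
  have hdiff : Tendsto (fun n => c (n + 1) - c n) atTop (𝓝 0) := by
    have : (fun n => c (n + 1) - c n)
        = (fun n => -(t n * Ring.inverse (f.derivative.eval (c n)))) * (fun n => μ ^ (n + 1)) := by
      funext n; rw [hcs, ht n, Pi.mul_apply]; ring
    rw [this]
    exact IsLinearTopology.tendsto_mul_zero_of_right _ _ hμpow
  obtain ⟨a, ha⟩ := exists_lim c hdiff
  refine ⟨a, ?_, ?_⟩
  · have h3 : Tendsto (fun n => f.eval (c n)) atTop (𝓝 (f.eval a)) :=
      (f.continuous.tendsto a).comp ha
    exact tendsto_nhds_unique h3 hf0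
  · have hclosed : IsClosed (I : Set A) :=
      AddSubgroup.isClosed_of_isOpen I.toAddSubgroup hIopen
    have h4 : Tendsto (fun n => c n - a₀) atTop (𝓝 (a - a₀)) := ha.sub tendsto_const_nhds
    exact hclosed.mem_of_tendsto h4 (Filter.Eventually.of_forall hQ1)

end Groth.Agent.S10148
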