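import Groth.Statements.S10155
import Mathlib
import Groth.Agent.Lib.Helper25.OpenMapApprox

set_option autoImplicit false
universe u v
open LinTop

namespace Groth.Agent.S10155

/-- Let φ : A → B be a taut homomorphism of linearly topologized rings with dense image. Assume A is
Hausdorff and complete with a countable fundamental system of open ideals and B is Hausdorff. Then φ
is surjective and open, so that B is the quotient of A by the closed ideal ker φ with the quotient
topology, and B is complete. -/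
theorem result
    (A : Type u) [CommRing A] [UniformSpace A] [IsUniformAddGroup A] [IsTopologicalRing A]
    [IsLinearTopology A A] [T2Space A] [CompleteSpace A] (hA : (nhds (0 : A)).IsCountablyGenerated)
    (B : Type v) [CommRing B] [UniformSpace B] [IsUniformAddGroup B] [IsTopologicalRing B]
    [IsLinearTopology B B] [T2Space B]
    (φ : A →+* B) (hφ : LinTop.IsTaut φ) (hd : DenseRange φ) :
    Function.Surjective φ ∧ IsOpenQuotientMap φ ∧ CompleteSpace B := by
  classical
  obtain ⟨hφc, hφo, hφs⟩ := hφ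
  haveI := hA
  obtain ⟨I, hI0, hIb⟩ := (IsLinearTopology.hasBasis_ideal (R := A)).exists_antitone_subbasis
  have hIanti : Antitone (fun j => (I j : Set A)) := hIb.antitone
  have hIopen : ∀ j, IsOpen (I j : Set A) := fun j => (I j).toAddSubgroup.isOpen_of_mem_nhds (hI0 j)
  let J : ℕ → Ideal B := fun j => ((I j).map φ).closure
  have hJdef : ∀ j, (J j : Set B) = closure (((I j).map φ : Ideal B) : Set B) := fun j => rfl
  have hJopen : ∀ j, IsOpen (J j : Set B) := fun j => by rw [hJdef]; exact hφo _ (hIopen j)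
  have hJ0 : ∀ j, (J j : Set B) ∈ nhds (0 : B) := fun j => (hJopen j).mem_nhds (J j).zero_mem
  let D : ℕ → AddSubgroup A := fun j => (I j).toAddSubgroup
  let C : ℕ → AddSubgroup B := fun j => (J j).toAddSubgroup
  have hDcl : ∀ j, IsClosed (D j : Set A) := fun j =>
    AddSubgroup.isClosed_of_isOpen (D j) (hIopen j)
  have hDanti : Antitone D := fun i j hij x hx => hIanti hij hx
  have hJanti : ∀ i j, i ≤ j → (J j : Set B) ⊆ (J i : Set B) := by
    intro i j hij
    rw [hJdef, hJdef]
    apply closure_mono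
    have : (I j).map φ ≤ (I i).map φ := Ideal.map_mono (fun x hx => hIanti hij hx)
    exact this
  have hCanti : Antitone C := fun i j hij x hx => hJanti i j hij hx
  have hDsmall : ∀ W ∈ nhds (0 : A), ∃ j, (D j : Set A) ⊆ W := by
    intro W hW
    obtain ⟨j, -, hj⟩ := hIb.toHasBasis.mem_iff.mp hW
    exact ⟨j, hj⟩
  have hCsmall : ∀ W ∈ nhds (0 : B), ∃ j, (C j : Set B) ⊆ W := by
    intro W hW
    obtain ⟨I', hI'o, hI'⟩ := hφs W hW
    obtain ⟨j, -, hj⟩ := hIb.toHasBasis.mem_iff.mp (hI'o.mem_nhds I'.zero_mem)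
    refine ⟨j, subset_trans ?_ hI'⟩
    show (J j : Set B) ⊆ _
    rw [hJdef]
    apply closure_mono
    have : (I j).map φ ≤ I'.map φ := Ideal.map_mono (fun x hx => hj hx)
    exact this
  -- density: every element of `B` is `φ c` modulo `J j`
  have hdense : ∀ (j : ℕ) (b : B), ∃ c : A, b - φ c ∈ J j := by
    intro j b
    have hnb : (fun z : B => b - z) ⁻¹' (J j : Set B) ∈ nhds b := by
      apply ContinuousAt.preimage_mem_nhds (by fun_prop)
      simpa using hJ0 j
    obtain ⟨_, ⟨c, rfl⟩, hz⟩ := hd.inter_nhds_nonempty hnb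
    exact ⟨c, hz⟩
  have hmapstep : ∀ (j : ℕ) (t : B), t ∈ (I j).map φ → ∃ d ∈ I j, t - φ d ∈ J (j + 1) := by
    intro j t ht
    refine Submodule.span_induction (p := fun t _ => ∃ d ∈ I j, t - φ d ∈ J (j + 1)) ?_ ?_ ?_ ?_ ht
    · rintro _ ⟨a, ha, rfl⟩
      exact ⟨a, ha, by simp⟩
    · exact ⟨0, (I j).zero_mem, by simp⟩
    · rintro x y _ _ ⟨d₁, hd₁, h₁⟩ ⟨d₂, hd₂, h₂⟩
      refine ⟨d₁ + d₂, (I j).add_mem hd₁ hd₂, ?_⟩
      have : x + y - φ (d₁ + d₂) = (x - φ d₁) + (y - φ d₂) := by rw [map_add]; ring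
      rw [this]
      exact (J (j + 1)).add_mem h₁ h₂
    · rintro b x _ ⟨d, hd', h⟩
      obtain ⟨c, hc⟩ := hdense (j + 1) b
      refine ⟨c * d, (I j).mul_mem_left c hd', ?_⟩
      have : b • x - φ (c * d) = (b - φ c) * x + φ c * (x - φ d) := by
        rw [map_mul, smul_eq_mul]; ring
      rw [this]
      exact (J (j + 1)).add_mem ((J (j + 1)).mul_mem_right _ hc) ((J (j + 1)).mul_mem_left _ h)
  have hstep : ∀ j, ∀ r ∈ C j, ∃ d ∈ D j, r - φ.toAddMonoidHom d ∈ C (j + 1) := by
    intro j r hr
    have hr' : r ∈ closure (((I j).map φ : Ideal B) : Set B) := hr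
    have hnb : (fun z : B => r - z) ⁻¹' (J (j + 1) : Set B) ∈ nhds r := by
      apply ContinuousAt.preimage_mem_nhds (by fun_prop)
      simpa using hJ0 (j + 1)
    obtain ⟨t, hz, ht⟩ := mem_closure_iff_nhds.mp hr' _ hnb
    obtain ⟨d, hdI, hdt⟩ := hmapstep j t ht
    refine ⟨d, hdI, ?_⟩
    have : r - φ d = (r - t) + (t - φ d) := by ring
    show r - φ d ∈ J (j + 1)
    rw [this]
    exact (J (j + 1)).add_mem hz hdt
  have key : ∀ n, ∀ y ∈ J n, ∃ x ∈ I n, φ x = y := fun n y hy =>
    Groth.Agent.Lib.helper25.OpenMapApprox.subset_image_of_approx φ.toAddMonoidHom hφc D C hDcl hDanti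
      hDsmall hCanti hCsmall hstep n y hy
  have hsurj : Function.Surjective φ := by
    intro b
    obtain ⟨c, hc⟩ := hdense 0 b
    obtain ⟨x, -, hx⟩ := key 0 _ hc
    exact ⟨c + x, by rw [map_add, hx]; ring⟩
  have hopen : IsOpenMap φ := by
    rw [isOpenMap_iff_nhds_le]
    intro a S hS
    rw [Filter.mem_map] at hS
    have h1 : (fun w : A => a + w) ⁻¹' (φ ⁻¹' S) ∈ nhds (0 : A) := by
      apply ContinuousAt.preimage_mem_nhds (by fun_prop)
      simpa using hS
    obtain ⟨j, hj⟩ := hDsmall _ h1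
    have h2 : (fun z : B => z - φ a) ⁻¹' (J j : Set B) ∈ nhds (φ a) := by
      apply ContinuousAt.preimage_mem_nhds (by fun_prop)
      simpa using hJ0 j
    refine Filter.mem_of_superset h2 ?_
    intro z hz
    obtain ⟨x, hxD, hx⟩ := key j _ hz
    have h4 : φ (a + x) ∈ S := hj hxD
    rw [map_add, hx] at h4
    simpa using h4
  refine ⟨hsurj, ⟨hsurj, hφc, hopen⟩, ?_⟩
  -- completeness of `B`
  let K : AddSubgroup A := φ.toAddMonoidHom.ker
  let uQ : UniformSpace (A ⧸ K) := IsTopologicalAddGroup.rightUniformSpace (A ⧸ K)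
  haveI : IsUniformAddGroup (A ⧸ K) := isUniformAddGroup_of_addCommGroup
  haveI : (uniformity A).IsCountablyGenerated := IsUniformAddGroup.uniformity_countably_generated
  haveI : CompleteSpace (A ⧸ K) := QuotientAddGroup.completeSpace_right A K
  let ψ : A ⧸ K →+ B := QuotientAddGroup.kerLift φ.toAddMonoidHom
  have hψinj : Function.Injective ψ := QuotientAddGroup.kerLift_injective _
  have hψsurj : Function.Surjective ψ := by
    intro b
    obtain ⟨a, rfl⟩ := hsurj b
    exact ⟨QuotientAddGroup.mk a, rfl⟩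
  have hψc : Continuous ψ := continuous_quot_lift _ hφc
  have hψo : IsOpenMap ψ := by
    intro V hV
    have : ψ '' V = φ '' ((QuotientAddGroup.mk : A → A ⧸ K) ⁻¹' V) := by
      ext b
      constructor
      · rintro ⟨q, hq, rfl⟩
        obtain ⟨a, rfl⟩ := QuotientAddGroup.mk_surjective q
        exact ⟨a, hq, rfl⟩
      · rintro ⟨a, ha, rfl⟩
        exact ⟨QuotientAddGroup.mk a, ha, rfl⟩
    rw [this]
    exact hopen _ (hV.preimage continuous_quot_mk)
  have hψind : Topology.IsInducing ψ := (Topology.IsOpenEmbedding.of_continuous_injective_isOpenMap hψc hψinj hψo).isInducing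
  have hψu : IsUniformInducing ψ := AddMonoidHom.isUniformInducing_of_isInducing hψind
  exact (hψu.completeSpace_congr hψsurj).1 inferInstance

end Groth.Agent.S10155
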