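import Groth.Statements.S10156
import Groth.Agent.Lib.Helper7.LinTopBasic

set_option autoImplicit false
universe u v w
open LinTop

namespace Groth.Agent.S10156

/-- Given pre-adic rings A, B, C and continuous ring maps ψ : B → C and φ : A → B, adicness of the
composite A → C implies that ψ is adic. -/
theorem result
    (A : Type u) [CommRing A] [TopologicalSpace A] [IsTopologicalRing A] (hA : LinTop.IsPreadic A)
    (B : Type v) [CommRing B] [TopologicalSpace B] [IsTopologicalRing B] (hB : LinTop.IsPreadic B)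
    (C : Type w) [CommRing C] [TopologicalSpace C] [IsTopologicalRing C] (hC : LinTop.IsPreadic C)
    (φ : A →+* B) (ψ : B →+* C) (hφ : Continuous φ) (hψ : Continuous ψ)
    (h : LinTop.IsAdicHom (ψ.comp φ)) : LinTop.IsAdicHom ψ := by
  obtain ⟨I, ⟨hIo, hIn⟩, hadic⟩ := h
  obtain ⟨K, hK⟩ := hB
  have hK' := isAdic_iff.mp hK
  have hL' := isAdic_iff.mp hadic
  set L : Ideal C := I.map (ψ.comp φ) with hL
  -- `K` is an ideal of definition of `B`
  have hKo : IsOpen (K : Set B) := by simpa using hK'.1 1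
  have hKdef : LinTop.IsIdealOfDefinition B K := by
    refine ⟨hKo, fun U hU => ?_⟩
    obtain ⟨n, hn⟩ := hK'.2 U hU
    refine ⟨n + 1, Nat.succ_pos n, ?_⟩
    have hle : K ^ (n + 1) ≤ K ^ n := Ideal.pow_le_pow_right (Nat.le_succ n)
    exact fun x hx => hn (hle hx)
  refine ⟨K, hKdef, ?_⟩
  -- `L ^ a ≤ ψ(K) C`
  obtain ⟨a, -, ha⟩ := hIn ((K.comap φ : Ideal A) : Set A)
    ((hKo.preimage hφ).mem_nhds (K.comap φ).zero_mem)
  have hLa : L ^ a ≤ K.map ψ := by
    rw [hL, ← Ideal.map_pow, ← Ideal.map_map]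
    apply Ideal.map_mono
    rw [Ideal.map_le_iff_le_comap]
    exact ha
  -- `(ψ(K) C) ^ b ≤ L`
  have hLo : IsOpen (L : Set C) := by simpa using hL'.1 1
  obtain ⟨b, hb⟩ := hK'.2 ((L.comap ψ : Ideal B) : Set B)
    ((hLo.preimage hψ).mem_nhds (L.comap ψ).zero_mem)
  have hKb : (K.map ψ) ^ b ≤ L := by
    rw [← Ideal.map_pow, Ideal.map_le_iff_le_comap]
    exact hb
  rw [isAdic_iff]
  constructor
  · intro n
    have hle : L ^ (a * n) ≤ (K.map ψ) ^ n := by
      rw [pow_mul]
      exact Ideal.pow_right_mono hLa n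
    exact Submodule.isOpen_mono hle (hL'.1 (a * n))
  · intro s hs
    obtain ⟨m, hm⟩ := hL'.2 s hs
    refine ⟨b * m, ?_⟩
    have hle : (K.map ψ) ^ (b * m) ≤ L ^ m := by
      rw [pow_mul]
      exact Ideal.pow_right_mono hKb m
    exact fun x hx => hm (hle hx)

end Groth.Agent.S10156
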