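import Groth.Statements.S10157
import Groth.Agent.Lib.Helper7.LinTopBasic

set_option autoImplicit false
universe u v
open LinTop

namespace Groth.Agent.S10157

/-- A continuous adic homomorphism φ : A → B between pre-adic topological rings is taut. -/
theorem result
    (A : Type u) [CommRing A] [TopologicalSpace A] [IsTopologicalRing A] (hA : LinTop.IsPreadic A)
    (B : Type v) [CommRing B] [TopologicalSpace B] [IsTopologicalRing B] (hB : LinTop.IsPreadic B)
    (φ : A →+* B) (hφ : Continuous φ) (h : LinTop.IsAdicHom φ) : LinTop.IsTaut φ := by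
  open Groth.Agent.Lib.helper7 in
  obtain ⟨I, ⟨hIo, hIn⟩, hadic⟩ := h
  have hlin : IsLinearTopology B B := by
    have h1 := (I.map φ).isLinearTopology
    have h2 : ‹TopologicalSpace B› = (I.map φ).adicTopology := hadic
    rw [← h2] at h1
    exact h1
  refine ⟨hφ, fun I' hI' => ?_, fun U hU => exists_isOpen_closure_map_subset φ hφ U hU⟩
  obtain ⟨n, -, hn⟩ := hIn (I' : Set A) (hI'.mem_nhds I'.zero_mem)
  have hle : (I.map φ) ^ n ≤ I'.map φ := by
    rw [← Ideal.map_pow]
    exact Ideal.map_mono hn
  have hopen : IsOpen (((I.map φ) ^ n : Ideal B) : Set B) := (isAdic_iff.mp hadic).1 n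
  have h3 : IsOpen ((I'.map φ : Ideal B) : Set B) := Submodule.isOpen_mono hle hopen
  rw [(isClosed_of_isOpen_ideal _ h3).closure_eq]
  exact h3

end Groth.Agent.S10157
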