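import Groth.Statements.S10158
import Groth.Agent.Lib.Helper7.LinTopFG

set_option autoImplicit false
universe u v
open LinTop

namespace Groth.Agent.S10158

/-- Let φ : A → B be a taut homomorphism of linearly topologized rings. Assume A is pre-adic with a
finitely generated ideal of definition I and B is Hausdorff and complete. Then the topology of B is
the φ(I)B-adic topology; in particular B is adic with a finitely generated ideal of definition and φ
is adic. -/
theorem result
    (A : Type u) [CommRing A] [TopologicalSpace A] [IsTopologicalRing A] (hA : LinTop.IsPreadic A)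
    (I : Ideal A) (hI : LinTop.IsIdealOfDefinition A I) (hfg : I.FG)
    (B : Type v) [CommRing B] [UniformSpace B] [IsUniformAddGroup B] [IsTopologicalRing B]
    [IsLinearTopology B B] [T2Space B] [CompleteSpace B]
    (φ : A →+* B) (hφ : LinTop.IsTaut φ) :
    IsAdic (I.map φ) := by
  open Groth.Agent.Lib.helper7 in
  obtain ⟨J, hJ⟩ := hA
  have hJ' := isAdic_iff.mp hJ
  obtain ⟨hIo, hIn⟩ := hI
  -- the powers of `I` are open
  have hIpow : ∀ n : ℕ, IsOpen ((I ^ n : Ideal A) : Set A) := by
    intro n
    obtain ⟨m, hm⟩ := hJ'.2 (I : Set A) (hIo.mem_nhds I.zero_mem)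
    have hle : J ^ (m * n) ≤ I ^ n := by
      rw [pow_mul]; exact Ideal.pow_right_mono hm n
    exact Submodule.isOpen_mono hle (hJ'.1 (m * n))
  apply isAdic_of_fg_of_closure_pow_basis (I.map φ) (hfg.map φ)
  · intro n
    rw [← Ideal.map_pow]
    exact hφ.2.1 (I ^ n) (hIpow n)
  · intro U hU
    obtain ⟨I', hI'o, hI'U⟩ := hφ.2.2 U hU
    obtain ⟨n, -, hn⟩ := hIn (I' : Set A) (hI'o.mem_nhds I'.zero_mem)
    refine ⟨n, ?_⟩
    rw [← Ideal.map_pow]
    have hle : I ^ n ≤ I' := hn
    exact (closure_mono_ideal (Ideal.map_mono hle)).trans hI'U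

end Groth.Agent.S10158
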