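import Groth.Statements.S10159
import Groth.Agent.Lib.Helper7.LinTopBasic
import Mathlib.Tactic.TFAE

set_option autoImplicit false
universe u
open LinTop

namespace Groth.Agent.S10159

/-- A copy of the ring `A`, carrying the `K`-adic topology. -/
def Copy (A : Type u) [CommRing A] (_K : Ideal A) : Type u := A

instance (A : Type u) [CommRing A] (K : Ideal A) : CommRing (Copy A K) := inferInstanceAs (CommRing A)

instance (A : Type u) [CommRing A] (K : Ideal A) : TopologicalSpace (Copy A K) := K.adicTopology

instance (A : Type u) [CommRing A] (K : Ideal A) : IsTopologicalRing (Copy A K) :=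
  K.nonarchimedean.toIsTopologicalRing

/-- The identity, as a ring homomorphism from the copy. -/
def Copy.toRing (A : Type u) [CommRing A] (K : Ideal A) : Copy A K →+* A := RingHom.id A

theorem Copy.isAdic (A : Type u) [CommRing A] (K : Ideal A) : @IsAdic (Copy A K) _ _ K := rfl

theorem Copy.map_toRing (A : Type u) [CommRing A] (K : Ideal A) (I : Ideal (Copy A K)) :
    I.map (Copy.toRing A K) = (I : Ideal A) := Ideal.map_id I

/-- For a ring A carrying a linear topology, the following four conditions are equivalent: (1) A is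
weakly pre-adic; (2) there exist a pre-adic topological ring A' and a taut continuous ring
homomorphism A' → A (A' is taken in the universe of A, which suffices since A with an adic topology
serves); (3) A has an ideal of definition, and for at least one ideal of definition I every closure
cl(I^n) with n ≥ 1 is open; (4) A has an ideal of definition, and for each of its ideals of
definition I every closure cl(I^n) with n ≥ 1 is open. -/
theorem result
    (A : Type u) [CommRing A] [TopologicalSpace A] [IsTopologicalRing A] [IsLinearTopology A A] :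
    List.TFAE [LinTop.IsWeaklyPreadic A,
      ∃ (A' : Type u) (_ : CommRing A') (_ : TopologicalSpace A') (_ : IsTopologicalRing A')
        (φ : A' →+* A), LinTop.IsPreadic A' ∧ LinTop.IsTaut φ,
      LinTop.IsPreadmissible A ∧ ∃ I : Ideal A, LinTop.IsIdealOfDefinition A I ∧
        ∀ n : ℕ, 0 < n → IsOpen (closure ((I ^ n : Ideal A) : Set A)),
      LinTop.IsPreadmissible A ∧ ∀ I : Ideal A, LinTop.IsIdealOfDefinition A I →
        ∀ n : ℕ, 0 < n → IsOpen (closure ((I ^ n : Ideal A) : Set A))] := by
  open Groth.Agent.Lib.helper7 in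
  tfae_have 1 → 4 := by
    rintro ⟨-, K, hKo, hKn⟩
    refine ⟨⟨inferInstance, K.closure, ?_, ?_⟩, ?_⟩
    · rw [Ideal.coe_closure]
      simpa using hKo 1
    · intro U hU
      obtain ⟨n, hn⟩ := hKn U hU
      refine ⟨n + 1, Nat.succ_pos n, ?_⟩
      have h1 : K.closure ^ (n + 1) ≤ (K ^ (n + 1)).closure := closure_pow_le K (n + 1)
      have h2 : (K ^ (n + 1)).closure ≤ (K ^ n).closure :=
        closure_le_closure (Ideal.pow_le_pow_right (Nat.le_succ n))
      intro x hx
      apply hn
      rw [← Ideal.coe_closure]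
      exact h2 (h1 hx)
    · intro I hI n _
      obtain ⟨m, hm⟩ := hKn (I : Set A) (hI.1.mem_nhds I.zero_mem)
      have hle : K ^ m ≤ I := fun x hx => hm (subset_closure hx)
      have hle' : K ^ (m * n) ≤ I ^ n := by
        rw [pow_mul]; exact Ideal.pow_right_mono hle n
      exact isOpen_closure_of_le hle' (hKo (m * n))
  tfae_have 4 → 3 := by
    rintro ⟨hpre, h⟩
    obtain ⟨I, hI⟩ := hpre.2
    exact ⟨hpre, I, hI, h I hI⟩
  tfae_have 3 → 1 := by
    rintro ⟨-, I, ⟨hIo, hIn⟩, hcl⟩
    refine ⟨inferInstance, I, fun n => ?_, fun U hU => ?_⟩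
    · rcases Nat.eq_zero_or_pos n with rfl | hn
      · simp
      · exact hcl n hn
    · obtain ⟨I', hI'o, hI'U⟩ := (IsLinearTopology.hasBasis_open_ideal (R := A)).mem_iff.mp hU
      obtain ⟨n, -, hn⟩ := hIn (I' : Set A) (hI'o.mem_nhds I'.zero_mem)
      refine ⟨n, ?_⟩
      calc closure ((I ^ n : Ideal A) : Set A) ⊆ closure (I' : Set A) := closure_mono hn
        _ = I' := (isClosed_of_isOpen_ideal I' hI'o).closure_eq
        _ ⊆ U := hI'U
  tfae_have 1 → 2 := by
    rintro ⟨-, K, hKo, hKn⟩
    have hK' := (isAdic_iff (R := Copy A K)).mp (Copy.isAdic A K)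
    refine ⟨Copy A K, inferInstance, inferInstance, inferInstance, Copy.toRing A K,
      ⟨K, Copy.isAdic A K⟩, ?_, ?_, ?_⟩
    · have : Continuous ((Copy.toRing A K : Copy A K →+* A) : Copy A K →+ A) := by
        apply continuous_of_continuousAt_zero
        rw [ContinuousAt, map_zero]
        intro U hU
        obtain ⟨n, hn⟩ := hKn U hU
        rw [Filter.mem_map]
        refine Filter.mem_of_superset ((hK'.1 n).mem_nhds (Ideal.zero_mem _)) ?_
        intro x hx
        exact hn (subset_closure hx)
      exact this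
    · intro I' hI'
      obtain ⟨n, hn⟩ := hK'.2 (I' : Set (Copy A K)) (hI'.mem_nhds I'.zero_mem)
      rw [Copy.map_toRing]
      have hle : K ^ n ≤ (I' : Ideal A) := hn
      exact isOpen_closure_of_le (B := A) hle (hKo n)
    · intro U hU
      obtain ⟨n, hn⟩ := hKn U hU
      refine ⟨(K : Ideal (Copy A K)) ^ n, hK'.1 n, ?_⟩
      rw [Copy.map_toRing]
      exact hn
  tfae_have 2 → 1 := by
    rintro ⟨A', _, _, _, φ, ⟨J, hJ⟩, hφ⟩
    have hJ' := isAdic_iff.mp hJ
    refine ⟨inferInstance, J.map φ, fun n => ?_, fun U hU => ?_⟩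
    · rw [← Ideal.map_pow]
      exact hφ.2.1 (J ^ n) (hJ'.1 n)
    · obtain ⟨I', hI'o, hI'U⟩ := hφ.2.2 U hU
      obtain ⟨n, hn⟩ := hJ'.2 (I' : Set A') (hI'o.mem_nhds I'.zero_mem)
      refine ⟨n, ?_⟩
      rw [← Ideal.map_pow]
      have hle : J ^ n ≤ I' := hn
      exact (closure_mono_ideal (Ideal.map_mono hle)).trans hI'U
  tfae_finish

end Groth.Agent.S10159
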