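import Groth.Statements.S10160
import Groth.Agent.Lib.Helper7.LinTopBasic

set_option autoImplicit false
universe u
open LinTop

namespace Groth.Agent.S10160

/-- A weakly adic topological ring is admissible and has a countable fundamental system of open ideals. -/
theorem result
    (A : Type u) [CommRing A] [UniformSpace A] [IsUniformAddGroup A] [IsTopologicalRing A] (hA : LinTop.IsWeaklyAdic A) :
    LinTop.IsAdmissible A ∧ (nhds (0 : A)).IsCountablyGenerated := by
  open Groth.Agent.Lib.helper7 in
  obtain ⟨⟨hlin, I, hIo, hIn⟩, hT2, hcomp⟩ := hA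
  refine ⟨⟨⟨hlin, I.closure, ?_, ?_⟩, hT2, hcomp⟩, ?_⟩
  · rw [Ideal.coe_closure]
    simpa using hIo 1
  · intro U hU
    obtain ⟨n, hn⟩ := hIn U hU
    refine ⟨n + 1, Nat.succ_pos n, ?_⟩
    have h1 : I.closure ^ (n + 1) ≤ (I ^ (n + 1)).closure := closure_pow_le I (n + 1)
    have h2 : (I ^ (n + 1)).closure ≤ (I ^ n).closure :=
      closure_le_closure (Ideal.pow_le_pow_right (Nat.le_succ n))
    intro x hx
    apply hn
    rw [← Ideal.coe_closure]
    exact h2 (h1 hx)
  · have hbasis : (nhds (0 : A)).HasBasis (fun _ : ℕ => True)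
        (fun n => closure ((I ^ n : Ideal A) : Set A)) := by
      rw [Filter.hasBasis_iff]
      intro t
      constructor
      · intro ht
        obtain ⟨n, hn⟩ := hIn t ht
        exact ⟨n, trivial, hn⟩
      · rintro ⟨n, -, hn⟩
        exact Filter.mem_of_superset
          ((hIo n).mem_nhds (subset_closure (I ^ n).zero_mem)) hn
    exact hbasis.isCountablyGenerated

end Groth.Agent.S10160
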