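import Groth.Statements.S10164
import Groth.Agent.Lib.Helper7.LinTopFG

set_option autoImplicit false
universe u
open LinTop

namespace Groth.Agent.S10164

/-- Let A be weakly adic and I an ideal of definition of A with I/I₂ finitely generated, where I₂
denotes the closure of I^2 (here: I maps onto a finitely generated ideal of A/I₂). Then A is adic,
and some finitely generated ideal of A is an ideal of definition. -/
theorem result
    (A : Type u) [CommRing A] [UniformSpace A] [IsUniformAddGroup A] [IsTopologicalRing A] (hA : LinTop.IsWeaklyAdic A)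
    (I : Ideal A) (hI : LinTop.IsIdealOfDefinition A I)
    (hfg : (I.map (Ideal.Quotient.mk ((I ^ 2).closure))).FG) :
    LinTop.IsAdicRing A ∧ ∃ J : Ideal A, LinTop.IsIdealOfDefinition A J ∧ J.FG := by
  open Groth.Agent.Lib.helper7 in
  obtain ⟨⟨hlin, K, hKo, hKn⟩, hT2, hcomp⟩ := hA
  obtain ⟨hIo, hIn⟩ := hI
  -- notation
  let C : ℕ → Ideal A := fun k => (I ^ k).closure
  have le_cl : ∀ J : Ideal A, J ≤ J.closure := fun J x hx => subset_closure hx
  -- Step 1: the closures of the powers of `I` are open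
  have hCo : ∀ n, IsOpen (closure ((I ^ n : Ideal A) : Set A)) := by
    intro n
    obtain ⟨m, hm⟩ := hKn (I : Set A) (hIo.mem_nhds I.zero_mem)
    have hle : K ^ m ≤ I := fun x hx => hm (subset_closure hx)
    have hle' : K ^ (m * n) ≤ I ^ n := by rw [pow_mul]; exact Ideal.pow_right_mono hle n
    exact isOpen_closure_of_le hle' (hKo (m * n))
  have hCo' : ∀ n, IsOpen (C n : Set A) := fun n => by
    change IsOpen (((I ^ n).closure : Ideal A) : Set A)
    rw [Ideal.coe_closure]; exact hCo n
  -- Step 2: they form a basis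
  have hCb : ∀ U ∈ nhds (0 : A), ∃ n : ℕ, closure ((I ^ n : Ideal A) : Set A) ⊆ U := by
    intro U hU
    obtain ⟨I'', hI''o, hI''U⟩ := (IsLinearTopology.hasBasis_open_ideal (R := A)).mem_iff.mp hU
    obtain ⟨n, -, hn⟩ := hIn (I'' : Set A) (hI''o.mem_nhds I''.zero_mem)
    refine ⟨n, ?_⟩
    calc closure ((I ^ n : Ideal A) : Set A) ⊆ closure (I'' : Set A) := closure_mono hn
      _ = I'' := (isClosed_of_isOpen_ideal I'' hI''o).closure_eq
      _ ⊆ U := hI''U
  have hCanti : ∀ {k l : ℕ}, k ≤ l → C l ≤ C k := fun {k l} hkl =>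
    closure_le_closure (Ideal.pow_le_pow_right hkl)
  have hCmul : ∀ k l, C k * C l ≤ C (k + l) := fun k l => by
    change (I ^ k).closure * (I ^ l).closure ≤ (I ^ (k + l)).closure
    rw [pow_add]; exact closure_mul_closure_le _ _
  -- Step 3: generators
  set mk := Ideal.Quotient.mk ((I ^ 2).closure) with hmk
  have hmksurj : Function.Surjective mk := Ideal.Quotient.mk_surjective
  obtain ⟨r, g', hg'⟩ := (Submodule.fg_iff_exists_fin_generating_family).mp hfg
  have hg'mem : ∀ j, g' j ∈ I.map mk := fun j => by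
    rw [← hg']; exact Submodule.subset_span ⟨j, rfl⟩
  have hlift : ∀ j, ∃ f : A, f ∈ I ∧ mk f = g' j := fun j =>
    (Ideal.mem_map_iff_of_surjective mk hmksurj).mp (hg'mem j)
  choose f hfI hfg' using hlift
  set I' : Ideal A := Ideal.span (Set.range f) with hI'
  have hI'le : I' ≤ I := by
    rw [hI', Ideal.span_le]
    rintro _ ⟨j, rfl⟩
    exact hfI j
  have hI'fg : I'.FG := Submodule.fg_span (Set.finite_range f)
  -- Step 4: `I ≤ I' ⊔ C 2`
  have h4 : I ≤ I' ⊔ C 2 := by
    intro x hx
    have hx' : mk x ∈ Ideal.span (Set.range g') := by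
      have : mk x ∈ I.map mk := Ideal.mem_map_of_mem mk hx
      rw [← hg'] at this
      exact this
    obtain ⟨c, hc⟩ := (Ideal.mem_span_range_iff_exists_fun).mp hx'
    choose c' hc' using fun j => hmksurj (c j)
    have hdiff : x - ∑ j, c' j * f j ∈ C 2 := by
      rw [← Ideal.Quotient.eq_zero_iff_mem (I := (I ^ 2).closure)]
      change mk (x - ∑ j, c' j * f j) = 0
      rw [map_sub, map_sum, ← hc, sub_eq_zero]
      apply Finset.sum_congr rfl
      intro j _
      rw [map_mul, hc', hfg']
    have hsum : ∑ j, c' j * f j ∈ I' := by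
      apply Submodule.sum_mem
      intro j _
      exact Ideal.mul_mem_left _ _ (Ideal.subset_span ⟨j, rfl⟩)
    have : x = ∑ j, c' j * f j + (x - ∑ j, c' j * f j) := by ring
    rw [this]
    exact Submodule.add_mem_sup hsum hdiff
  -- Step 5: `I ^ n ≤ I' ^ n ⊔ C (n + 1)`
  have hI'C : ∀ n, I' ^ n ≤ C n := fun n => (Ideal.pow_right_mono hI'le n).trans (le_cl _)
  have h5 : ∀ n, I ^ n ≤ I' ^ n ⊔ C (n + 1) := by
    intro n
    induction n with
    | zero => simp
    | succ n ih =>
      calc I ^ (n + 1) = I ^ n * I := pow_succ I n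
        _ ≤ (I' ^ n ⊔ C (n + 1)) * (I' ⊔ C 2) := Ideal.mul_mono ih h4
        _ = I' ^ n * I' ⊔ I' ^ n * C 2 ⊔ (C (n + 1) * I' ⊔ C (n + 1) * C 2) := by
            rw [Ideal.sup_mul, Ideal.mul_sup, Ideal.mul_sup]
        _ ≤ I' ^ (n + 1) ⊔ C (n + 1 + 1) := by
            refine sup_le (sup_le ?_ ?_) (sup_le ?_ ?_)
            · rw [← pow_succ]; exact le_sup_left
            · exact ((Ideal.mul_mono_left (hI'C n)).trans (hCmul n 2)).trans le_sup_right
            · have h1 : I' ≤ C 1 := by
                have := hI'C 1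
                rwa [pow_one] at this
              exact ((Ideal.mul_mono_right h1).trans (hCmul (n + 1) 1)).trans le_sup_right
            · exact ((hCmul (n + 1) 2).trans (hCanti (by omega))).trans le_sup_right
  -- Step 6
  have hCsub : ∀ k, C k ≤ I ^ k ⊔ C (k + 1) := by
    intro k x hx
    have hx' : x ∈ closure ((I ^ k : Ideal A) : Set A) := hx
    rw [mem_closure_ideal_iff] at hx'
    exact hx' (C (k + 1)) ((hCo' (k + 1)).mem_nhds (C (k + 1)).zero_mem)
  have h6 : ∀ n m, I ^ n ≤ I' ^ n ⊔ C (n + m + 1) := by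
    intro n m
    induction m with
    | zero => exact h5 n
    | succ m ih =>
      calc I ^ n ≤ I' ^ n ⊔ C (n + m + 1) := ih
        _ ≤ I' ^ n ⊔ (I ^ (n + m + 1) ⊔ C (n + m + 1 + 1)) := sup_le_sup_left (hCsub _) _
        _ ≤ I' ^ n ⊔ ((I' ^ (n + m + 1) ⊔ C (n + m + 1 + 1)) ⊔ C (n + m + 1 + 1)) :=
            sup_le_sup_left (sup_le_sup_right (h5 _) _) _
        _ ≤ I' ^ n ⊔ C (n + (m + 1) + 1) := by
            refine sup_le le_sup_left (sup_le (sup_le ?_ ?_) ?_)
            · exact (Ideal.pow_le_pow_right (by omega)).trans le_sup_left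
            · exact le_sup_right
            · exact le_sup_right
  -- Step 7: `I ^ n ≤ closure (I' ^ n)`
  have hbasisC : (nhds (0 : A)).HasBasis (fun _ : ℕ => True) (fun k => (C k : Set A)) := by
    rw [Filter.hasBasis_iff]
    intro t
    constructor
    · intro ht
      obtain ⟨n, hn⟩ := hCb t ht
      exact ⟨n, trivial, by change ((I ^ n).closure : Set A) ⊆ t; rw [Ideal.coe_closure]; exact hn⟩
    · rintro ⟨n, -, hn⟩
      exact Filter.mem_of_superset ((hCo' n).mem_nhds (C n).zero_mem) hn
  have h7 : ∀ n, I ^ n ≤ (I' ^ n).closure := by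
    intro n x hx
    change x ∈ closure ((I' ^ n : Ideal A) : Set A)
    rw [mem_closure_submodule_iff C hbasisC]
    intro k _
    have := h6 n k hx
    exact sup_le_sup_left (hCanti (by omega)) _ this
  -- Step 8
  have h8 : ∀ n, closure ((I' ^ n : Ideal A) : Set A) = closure ((I ^ n : Ideal A) : Set A) := by
    intro n
    apply Set.Subset.antisymm
    · exact closure_mono (Ideal.pow_right_mono hI'le n)
    · have : (I ^ n).closure ≤ (I' ^ n).closure.closure := closure_le_closure (h7 n)
      rw [closure_closure_ideal] at this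
      rw [← Ideal.coe_closure, ← Ideal.coe_closure]
      exact this
  have hadic : IsAdic I' := by
    apply isAdic_of_fg_of_closure_pow_basis I' hI'fg
    · intro n; rw [h8]; exact hCo n
    · intro U hU
      obtain ⟨n, hn⟩ := hCb U hU
      exact ⟨n, by rw [h8]; exact hn⟩
  have hadic' := isAdic_iff.mp hadic
  refine ⟨⟨⟨I', hadic⟩, hT2, hcomp⟩, I', ⟨?_, ?_⟩, hI'fg⟩
  · simpa using hadic'.1 1
  · intro U hU
    obtain ⟨n, hn⟩ := hadic'.2 U hU
    refine ⟨n + 1, Nat.succ_pos n, ?_⟩
    have hle : I' ^ (n + 1) ≤ I' ^ n := Ideal.pow_le_pow_right (Nat.le_succ n)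
    exact fun x hx => hn (hle hx)

end Groth.Agent.S10164
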