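import Groth.Statements.S10166
import Groth.Agent.Lib.Helper7.LinTopBasic

set_option autoImplicit false
universe u v
open LinTop

namespace Groth.Agent.S10166

/-- Let φ : A → B be a taut homomorphism of linearly topologized rings such that for every open ideal I
of A, with J the closure of φ(I)B, the induced map A/I → B/J is faithfully flat. If B has a
countable fundamental system of open ideals, then so does A. -/
theorem result
    (A : Type u) [CommRing A] [TopologicalSpace A] [IsTopologicalRing A] [IsLinearTopology A A]
    (B : Type v) [CommRing B] [TopologicalSpace B] [IsTopologicalRing B] [IsLinearTopology B B]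
    (φ : A →+* B) (hφ : LinTop.IsTautFFlat φ) (hB : (nhds (0 : B)).IsCountablyGenerated) :
    (nhds (0 : A)).IsCountablyGenerated := by
  open Groth.Agent.Lib.helper7 in
  obtain ⟨x, hxo, hx⟩ := (IsLinearTopology.hasBasis_open_ideal (R := B)).exists_antitone_subbasis
  have hex : ∀ n : ℕ, ∃ I : Ideal A, IsOpen (I : Set A) ∧
      closure ((I.map φ : Ideal B) : Set B) ⊆ (x n : Set B) :=
    fun n => hφ.1.2.2 _ ((hxo n).mem_nhds (x n).zero_mem)
  choose I hIo hIx using hex
  have hbasis : (nhds (0 : A)).HasBasis (fun _ : ℕ => True) (fun n => (I n : Set A)) := by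
    rw [Filter.hasBasis_iff]
    intro t
    constructor
    · intro ht
      obtain ⟨I', hI'o, hI't⟩ := (IsLinearTopology.hasBasis_open_ideal (R := A)).mem_iff.mp ht
      have hopen := hφ.1.2.1 I' hI'o
      obtain ⟨n, -, hn⟩ := hx.toHasBasis.mem_iff.mp
        (hopen.mem_nhds (subset_closure (I'.map φ).zero_mem))
      refine ⟨n, trivial, ?_⟩
      have hle : I n ≤ I' := by
        apply le_of_closure_map_le_of_isTautFFlat φ hφ hI'o
        intro y hy
        exact hn (hIx n (subset_closure hy))
      exact fun y hy => hI't (hle hy)
    · rintro ⟨n, -, hn⟩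
      exact Filter.mem_of_superset ((hIo n).mem_nhds (I n).zero_mem) hn
  exact hbasis.isCountablyGenerated

end Groth.Agent.S10166
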