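import Groth.Statements.S10167
import Groth.Agent.Lib.Helper7.LinTopBasic

set_option autoImplicit false
universe u v
open LinTop

namespace Groth.Agent.S10167

/-- Let φ : A → B be a taut homomorphism of linearly topologized rings such that for every open ideal I
of A the induced ring map A/I → B/J, where J denotes the closure of φ(I)B, is faithfully flat. If B
has a weak ideal of definition (B is weakly pre-admissible), then so does A. -/
theorem result
    (A : Type u) [CommRing A] [TopologicalSpace A] [IsTopologicalRing A] [IsLinearTopology A A]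
    (B : Type v) [CommRing B] [TopologicalSpace B] [IsTopologicalRing B] [IsLinearTopology B B]
    (φ : A →+* B) (hφ : LinTop.IsTautFFlat φ) (hB : LinTop.IsWeaklyPreadmissible B) :
    LinTop.IsWeaklyPreadmissible A := by
  open Groth.Agent.Lib.helper7 in
  obtain ⟨-, J, hJo, hJn⟩ := hB
  obtain ⟨I, hIo, hIJ⟩ := hφ.1.2.2 (J : Set B) (hJo.mem_nhds J.zero_mem)
  refine ⟨inferInstance, I, hIo, fun f hf => ?_⟩
  rw [isTopologicallyNilpotent_iff]
  intro I' hI'
  -- shrink to an open ideal
  obtain ⟨I'', hI''o, hI''⟩ := (IsLinearTopology.hasBasis_open_ideal (R := A)).mem_iff.mp hI'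
  have hφf : IsTopologicallyNilpotent (φ f) :=
    hJn (φ f) (hIJ (subset_closure (Ideal.mem_map_of_mem φ hf)))
  have hopen := hφ.1.2.1 I'' hI''o
  obtain ⟨n, hn⟩ := hφf.exists_pow_mem_of_mem_nhds
    (hopen.mem_nhds (subset_closure (I''.map φ).zero_mem))
  refine ⟨n, hI'' ?_⟩
  have : f ^ n ∈ (I''.map φ).closure.comap φ := by
    change φ (f ^ n) ∈ closure ((I''.map φ : Ideal B) : Set B)
    rw [map_pow]
    exact hn
  rw [comap_closure_map_eq_of_isTautFFlat φ hφ I'' hI''o] at this
  exact this

end Groth.Agent.S10167
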