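import Groth.Statements.S10168
import Groth.Agent.Lib.Helper7.LinTopBasic

set_option autoImplicit false
universe u v
open LinTop

namespace Groth.Agent.S10168

/-- Let φ : A → B be a taut homomorphism of linearly topologized rings such that for every open ideal I
of A, with J the closure of φ(I)B, the induced map A/I → B/J is faithfully flat. If B is
pre-admissible, then A is pre-admissible. -/
theorem result
    (A : Type u) [CommRing A] [TopologicalSpace A] [IsTopologicalRing A] [IsLinearTopology A A]
    (B : Type v) [CommRing B] [TopologicalSpace B] [IsTopologicalRing B] [IsLinearTopology B B]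
    (φ : A →+* B) (hφ : LinTop.IsTautFFlat φ) (hB : LinTop.IsPreadmissible B) :
    LinTop.IsPreadmissible A := by
  open Groth.Agent.Lib.helper7 in
  obtain ⟨-, J, hJo, hJn⟩ := hB
  obtain ⟨I, hIo, hIJ⟩ := hφ.1.2.2 (J : Set B) (hJo.mem_nhds J.zero_mem)
  refine ⟨inferInstance, I, ⟨hIo, fun U hU => ?_⟩⟩
  obtain ⟨I', hI'o, hI'U⟩ := (IsLinearTopology.hasBasis_open_ideal (R := A)).mem_iff.mp hU
  have hopen := hφ.1.2.1 I' hI'o
  obtain ⟨n, hn, hJn'⟩ := hJn _ (hopen.mem_nhds (subset_closure (I'.map φ).zero_mem))
  refine ⟨n, hn, ?_⟩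
  have hIJ' : I.map φ ≤ J := fun y hy => hIJ (subset_closure hy)
  have hle : I ^ n ≤ I' := by
    apply le_of_closure_map_le_of_isTautFFlat φ hφ hI'o
    rw [Ideal.map_pow]
    intro y hy
    exact hJn' (Ideal.pow_right_mono hIJ' n hy)
  exact fun y hy => hI'U (hle hy)

end Groth.Agent.S10168
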