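import Groth.Statements.S10169
import Groth.Agent.Lib.Helper7.LinTopBasic

set_option autoImplicit false
universe u v
open LinTop

namespace Groth.Agent.S10169

/-- Let φ : A → B be a taut homomorphism of linearly topologized rings such that for every open ideal I
of A the induced ring map A/I → B/J, where J denotes the closure of φ(I)B, is faithfully flat. Weak
pre-adicness then descends: when B is weakly pre-adic, A is as well. -/
theorem result
    (A : Type u) [CommRing A] [TopologicalSpace A] [IsTopologicalRing A] [IsLinearTopology A A]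
    (B : Type v) [CommRing B] [TopologicalSpace B] [IsTopologicalRing B] [IsLinearTopology B B]
    (φ : A →+* B) (hφ : LinTop.IsTautFFlat φ) (hB : LinTop.IsWeaklyPreadic B) :
    LinTop.IsWeaklyPreadic A := by
  open Groth.Agent.Lib.helper7 in
  obtain ⟨-, K, hKo, hKn⟩ := hB
  have le_cl : ∀ J : Ideal B, J ≤ J.closure := fun J x hx => subset_closure hx
  -- Step 1: an open ideal `I` of `A` with `closure (φ(I) B) ⊆ closure K`
  have hK1 : closure ((K : Ideal B) : Set B) ∈ nhds (0 : B) := by
    have := hKo 1
    rw [pow_one] at this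
    exact this.mem_nhds (subset_closure K.zero_mem)
  obtain ⟨I, hIo, hIK⟩ := hφ.1.2.2 _ hK1
  have hIK' : (I.map φ).closure ≤ K.closure := fun x hx => hIK hx
  -- Step 2: `closure (K ^ m) ⊆ closure (φ(I) B)`
  have hopenI := hφ.1.2.1 I hIo
  obtain ⟨m, hm⟩ := hKn _ (hopenI.mem_nhds (subset_closure (I.map φ).zero_mem))
  have hm' : (K ^ m).closure ≤ (I.map φ).closure := fun x hx => hm hx
  refine ⟨inferInstance, I, fun n => ?_, fun U hU => ?_⟩
  · -- (a) `closure (I ^ n)` is open
    have h1 : (K ^ (m * n)).closure ≤ ((I ^ n).map φ).closure := by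
      have : K ^ (m * n) ≤ ((I ^ n).map φ).closure := by
        rw [pow_mul, Ideal.map_pow]
        calc (K ^ m) ^ n ≤ ((I.map φ).closure) ^ n :=
              Ideal.pow_right_mono ((le_cl (K ^ m)).trans hm') n
          _ ≤ ((I.map φ) ^ n).closure := closure_pow_le _ n
      calc (K ^ (m * n)).closure ≤ ((I ^ n).map φ).closure.closure := closure_le_closure this
        _ = ((I ^ n).map φ).closure := closure_closure_ideal _
    have h2 : IsOpen ((((I ^ n).map φ).closure : Ideal B) : Set B) := by
      refine Submodule.isOpen_mono h1 ?_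
      rw [Ideal.coe_closure]; exact hKo (m * n)
    have h3 : IsOpen (((((I ^ n).map φ).closure).comap φ : Ideal A) : Set A) :=
      h2.preimage hφ.1.1
    have h4 : (((I ^ n).map φ).closure).comap φ ≤ (I ^ n).closure := by
      intro x hx
      change x ∈ closure ((I ^ n : Ideal A) : Set A)
      rw [mem_closure_ideal_iff]
      intro J' hJ'
      obtain ⟨J'', hJ''o, hJ''⟩ := (IsLinearTopology.hasBasis_open_ideal (R := A)).mem_iff.mp hJ'
      have hJ''le : J'' ≤ J' := hJ''
      have hopen : IsOpen ((I ^ n ⊔ J'' : Ideal A) : Set A) :=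
        Submodule.isOpen_mono le_sup_right hJ''o
      have h5 := comap_closure_map_eq_of_isTautFFlat φ hφ (I ^ n ⊔ J'') hopen
      have h6 : x ∈ ((I ^ n ⊔ J'').map φ).closure.comap φ :=
        closure_le_closure (Ideal.map_mono le_sup_left) hx
      rw [h5] at h6
      exact sup_le_sup_left hJ''le _ h6
    have := Submodule.isOpen_mono h4 h3
    rw [Ideal.coe_closure] at this
    exact this
  · -- (b) basis
    obtain ⟨I', hI'o, hI'U⟩ := (IsLinearTopology.hasBasis_open_ideal (R := A)).mem_iff.mp hU
    have hopen := hφ.1.2.1 I' hI'o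
    obtain ⟨n, hn⟩ := hKn _ (hopen.mem_nhds (subset_closure (I'.map φ).zero_mem))
    refine ⟨n, ?_⟩
    have hle : I ^ n ≤ I' := by
      apply le_of_closure_map_le_of_isTautFFlat φ hφ hI'o
      rw [Ideal.map_pow]
      calc (I.map φ) ^ n ≤ (K.closure) ^ n :=
            Ideal.pow_right_mono ((le_cl (I.map φ)).trans hIK') n
        _ ≤ (K ^ n).closure := closure_pow_le _ n
        _ ≤ (I'.map φ).closure := fun x hx => hn hx
    calc closure ((I ^ n : Ideal A) : Set A) ⊆ closure (I' : Set A) := closure_mono hle
      _ = I' := (isClosed_of_isOpen_ideal I' hI'o).closure_eq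
      _ ⊆ U := hI'U

end Groth.Agent.S10169
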