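import Groth.Statements.S10171
import Mathlib
-- import your own Groth.Agent.* helpers here

set_option autoImplicit false
universe u v
open LinTop

namespace Groth.Agent.S10171

/-- Let M be a linearly topologized module over a ring R and N a submodule. Write M^ for the separated
completion of M and (M/N)^ for that of M/N (quotient topology, additive uniform structure). Then the
kernel of the induced map M^ → (M/N)^ is the closure of the image of N in M^; that closure is the
completion of N, so this is the exactness of 0 → N^ → M^ → (M/N)^ at M^. -/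
theorem result
    {R : Type u} [Ring R] {M : Type v} [AddCommGroup M] [Module R M] [UniformSpace M]
    [IsUniformAddGroup M] [IsLinearTopology R M] (N : Submodule R M) :
    (@UniformSpace.Completion.map M _ (M ⧸ N.toAddSubgroup)
        (IsTopologicalAddGroup.rightUniformSpace (M ⧸ N.toAddSubgroup))
        (QuotientAddGroup.mk' N.toAddSubgroup)) ⁻¹' {0} =
      closure (Set.range (fun n : N => ((n : M) : UniformSpace.Completion M))) := by
  classical
  let uQ : UniformSpace (M ⧸ N.toAddSubgroup) :=
    IsTopologicalAddGroup.rightUniformSpace (M ⧸ N.toAddSubgroup)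
  have : IsUniformAddGroup (M ⧸ N.toAddSubgroup) := isUniformAddGroup_of_addCommGroup
  let π : M →+ M ⧸ N.toAddSubgroup := QuotientAddGroup.mk' N.toAddSubgroup
  have hπc : Continuous π := continuous_quot_mk
  let πc : UniformSpace.Completion M →+ UniformSpace.Completion (M ⧸ N.toAddSubgroup) :=
    π.completion hπc
  have hπcc : Continuous πc := π.continuous_completion hπc
  have hcoe : ∀ m : M, πc (m : UniformSpace.Completion M) =
      ((π m : M ⧸ N.toAddSubgroup) : UniformSpace.Completion (M ⧸ N.toAddSubgroup)) :=
    fun m => π.completion_coe hπc m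
  show (πc : UniformSpace.Completion M → _) ⁻¹' {0} = _
  apply Set.Subset.antisymm
  · intro x hx
    have hx0 : πc x = 0 := hx
    rw [mem_closure_iff_nhds]
    intro t ht
    have hW : (fun w : UniformSpace.Completion M => x - w) ⁻¹' t ∈
        nhds (0 : UniformSpace.Completion M) := by
      apply ContinuousAt.preimage_mem_nhds
      · fun_prop
      · simpa using ht
    obtain ⟨W', ⟨hW'0, hW'cl⟩, hW'sub⟩ :=
      (closed_nhds_basis (0 : UniformSpace.Completion M)).mem_iff.mp hW
    have hpre : ((↑) : M → UniformSpace.Completion M) ⁻¹' W' ∈ nhds (0 : M) := by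
      apply (UniformSpace.Completion.continuous_coe M).continuousAt.preimage_mem_nhds
      rwa [UniformSpace.Completion.coe_zero]
    obtain ⟨U, hU0, hUsub⟩ := (IsLinearTopology.hasBasis_submodule R).mem_iff.mp hpre
    have hUopen : IsOpen (U : Set M) := U.toAddSubgroup.isOpen_of_mem_nhds hU0
    let C : AddSubgroup (UniformSpace.Completion M) :=
      (U.toAddSubgroup.map UniformSpace.Completion.toCompl).topologicalClosure
    have hCdef : (C : Set (UniformSpace.Completion M)) =
        closure (((↑) : M → UniformSpace.Completion M) '' (U : Set M)) := rfl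
    have hCW : (C : Set (UniformSpace.Completion M)) ⊆ W' := by
      rw [hCdef]
      apply closure_minimal _ hW'cl
      rintro _ ⟨u, hu, rfl⟩
      exact hUsub hu
    have hC0 : (C : Set (UniformSpace.Completion M)) ∈ nhds (0 : UniformSpace.Completion M) := by
      have := (UniformSpace.Completion.isDenseInducing_coe (α := M)).closure_image_mem_nhds hU0
      rw [UniformSpace.Completion.coe_zero] at this
      rw [hCdef]
      exact this
    have hx_nhds : (fun y : UniformSpace.Completion M => y - x) ⁻¹' (C : Set _) ∈ nhds x := by
      apply ContinuousAt.preimage_mem_nhds (by fun_prop)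
      simpa using hC0
    obtain ⟨_, ⟨m, rfl⟩, hy⟩ :=
      (UniformSpace.Completion.denseRange_coe (α := M)).inter_nhds_nonempty hx_nhds
    have hmC : (m : UniformSpace.Completion M) - x ∈ C := hy
    have h1 : ((π m : M ⧸ N.toAddSubgroup) : UniformSpace.Completion (M ⧸ N.toAddSubgroup)) ∈
        closure (((↑) : M ⧸ N.toAddSubgroup → UniformSpace.Completion (M ⧸ N.toAddSubgroup)) '' (π '' (U : Set M))) := by
      have h2 : πc ((m : UniformSpace.Completion M) - x) ∈ πc '' (C : Set _) := ⟨_, hmC, rfl⟩
      rw [map_sub, hx0, sub_zero, hcoe, hCdef] at h2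
      have h3 := image_closure_subset_closure_image hπcc h2
      have h4 : (πc '' (((↑) : M → UniformSpace.Completion M) '' (U : Set M))) =
          (((↑) : M ⧸ N.toAddSubgroup → UniformSpace.Completion (M ⧸ N.toAddSubgroup)) '' (π '' (U : Set M))) := by
        ext z
        constructor
        · rintro ⟨_, ⟨u, hu, rfl⟩, rfl⟩
          exact ⟨π u, ⟨u, hu, rfl⟩, (hcoe u).symm⟩
        · rintro ⟨_, ⟨u, hu, rfl⟩, rfl⟩
          exact ⟨_, ⟨u, hu, rfl⟩, hcoe u⟩
      rwa [h4] at h3
    have h5 : π m ∈ closure (π '' (U : Set M)) := by
      rw [(UniformSpace.Completion.isUniformInducing_coe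
        (M ⧸ N.toAddSubgroup)).isInducing.closure_eq_preimage_closure_image]
      exact h1
    have hπUopen : IsOpen (π '' (U : Set M)) :=
      QuotientAddGroup.isOpenMap_coe (N := N.toAddSubgroup) _ hUopen
    have hπUclosed : IsClosed (π '' (U : Set M)) := by
      have : (π '' (U : Set M)) = ((U.toAddSubgroup.map π : AddSubgroup _) : Set _) := rfl
      rw [this]
      apply AddSubgroup.isClosed_of_isOpen
      rw [← this]
      exact hπUopen
    rw [hπUclosed.closure_eq] at h5
    obtain ⟨u, hu, hum⟩ := h5
    have hn : m - u ∈ N := by
      have h6 : π (m - u) = 0 := by rw [map_sub, hum, sub_self]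
      have h7 : (QuotientAddGroup.mk (m - u) : M ⧸ N.toAddSubgroup) = 0 := h6
      rw [QuotientAddGroup.eq_zero_iff] at h7
      exact h7
    refine ⟨((m - u : M) : UniformSpace.Completion M), ?_, ⟨⟨m - u, hn⟩, rfl⟩⟩
    have h8 : x - ((m - u : M) : UniformSpace.Completion M) ∈ C := by
      have hu' : ((u : M) : UniformSpace.Completion M) ∈ C :=
        subset_closure ⟨u, hu, rfl⟩
      have : x - ((m - u : M) : UniformSpace.Completion M) =
          ((u : M) : UniformSpace.Completion M) - ((m : UniformSpace.Completion M) - x) := by
        rw [UniformSpace.Completion.coe_sub]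
        abel
      rw [this]
      exact C.sub_mem hu' hmC
    have h9 := hW'sub (hCW h8)
    simpa using h9
  · apply closure_minimal
    · rintro _ ⟨n, rfl⟩
      show πc ((n : M) : UniformSpace.Completion M) = 0
      rw [hcoe]
      have : π (n : M) = 0 := by
        show (QuotientAddGroup.mk (n : M) : M ⧸ N.toAddSubgroup) = 0
        rw [QuotientAddGroup.eq_zero_iff]
        exact n.2
      rw [this]
      exact UniformSpace.Completion.coe_zero
    · exact isClosed_singleton.preimage hπcc

end Groth.Agent.S10171
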