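import Groth.Statements.S10172
import Mathlib
import Groth.Agent.Lib.Helper25.OpenMapApprox

set_option autoImplicit false
universe u v
open LinTop

namespace Groth.Agent.S10172

/-- Let M be a linearly topologized module over a ring R having a countable fundamental system of
neighbourhoods of 0, and N a submodule. With M^ and (M/N)^ the separated completions of M and of M/N
(quotient topology, additive uniform structure), the induced map M^ → (M/N)^ is surjective and open
(so, its kernel being the completion of N, the sequence 0 → N^ → M^ → (M/N)^ → 0 is exact). -/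
theorem result
    {R : Type u} [Ring R] {M : Type v} [AddCommGroup M] [Module R M] [UniformSpace M]
    [IsUniformAddGroup M] [IsLinearTopology R M] (hc : (nhds (0 : M)).IsCountablyGenerated)
    (N : Submodule R M) :
    Function.Surjective (@UniformSpace.Completion.map M _ (M ⧸ N.toAddSubgroup)
        (IsTopologicalAddGroup.rightUniformSpace (M ⧸ N.toAddSubgroup))
        (QuotientAddGroup.mk' N.toAddSubgroup)) ∧
      IsOpenMap (@UniformSpace.Completion.map M _ (M ⧸ N.toAddSubgroup)
        (IsTopologicalAddGroup.rightUniformSpace (M ⧸ N.toAddSubgroup))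
        (QuotientAddGroup.mk' N.toAddSubgroup)) := by
  classical
  let uQ : UniformSpace (M ⧸ N.toAddSubgroup) :=
    IsTopologicalAddGroup.rightUniformSpace (M ⧸ N.toAddSubgroup)
  have : IsUniformAddGroup (M ⧸ N.toAddSubgroup) := isUniformAddGroup_of_addCommGroup
  let π : M →+ M ⧸ N.toAddSubgroup := QuotientAddGroup.mk' N.toAddSubgroup
  have hπc : Continuous π := continuous_quot_mk
  have hπsurj : Function.Surjective π := QuotientAddGroup.mk'_surjective _
  let πc : UniformSpace.Completion M →+ UniformSpace.Completion (M ⧸ N.toAddSubgroup) :=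
    π.completion hπc
  have hπcc : Continuous πc := π.continuous_completion hπc
  have hcoe : ∀ m : M, πc (m : UniformSpace.Completion M) =
      ((π m : M ⧸ N.toAddSubgroup) : UniformSpace.Completion (M ⧸ N.toAddSubgroup)) :=
    fun m => π.completion_coe hπc m
  show Function.Surjective (πc : UniformSpace.Completion M → _) ∧
    IsOpenMap (πc : UniformSpace.Completion M → _)
  haveI := hc
  obtain ⟨U, hU0, hUb⟩ := (IsLinearTopology.hasBasis_submodule R (M := M)).exists_antitone_subbasis
  have hUanti : Antitone (fun j => (U j : Set M)) := hUb.antitone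
  have hUopen : ∀ j, IsOpen (U j : Set M) := fun j => (U j).toAddSubgroup.isOpen_of_mem_nhds (hU0 j)
  -- the subgroups `D j`, `C j`
  let D : ℕ → AddSubgroup (UniformSpace.Completion M) := fun j =>
    ((U j).toAddSubgroup.map UniformSpace.Completion.toCompl).topologicalClosure
  let C : ℕ → AddSubgroup (UniformSpace.Completion (M ⧸ N.toAddSubgroup)) := fun j =>
    (((U j).toAddSubgroup.map π).map UniformSpace.Completion.toCompl).topologicalClosure
  have hDdef : ∀ j, (D j : Set (UniformSpace.Completion M)) =
      closure (((↑) : M → UniformSpace.Completion M) '' (U j : Set M)) := fun j => rfl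
  have hCdef : ∀ j, (C j : Set (UniformSpace.Completion (M ⧸ N.toAddSubgroup))) =
      closure (((↑) : M ⧸ N.toAddSubgroup → UniformSpace.Completion (M ⧸ N.toAddSubgroup)) ''
        (π '' (U j : Set M))) := fun j => rfl
  have hDcl : ∀ j, IsClosed (D j : Set (UniformSpace.Completion M)) := fun j =>
    AddSubgroup.isClosed_topologicalClosure _
  have hDanti : Antitone D := by
    intro i j hij
    have h : (D j : Set (UniformSpace.Completion M)) ⊆ (D i : Set (UniformSpace.Completion M)) := by
      rw [hDdef, hDdef]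
      exact closure_mono (Set.image_mono (hUanti hij))
    exact h
  have hCanti : Antitone C := by
    intro i j hij
    have h : (C j : Set (UniformSpace.Completion (M ⧸ N.toAddSubgroup))) ⊆
        (C i : Set (UniformSpace.Completion (M ⧸ N.toAddSubgroup))) := by
      rw [hCdef, hCdef]
      exact closure_mono (Set.image_mono (Set.image_mono (hUanti hij)))
    exact h
  have hD0 : ∀ j, (D j : Set (UniformSpace.Completion M)) ∈ nhds (0 : UniformSpace.Completion M) := by
    intro j
    have := (UniformSpace.Completion.isDenseInducing_coe (α := M)).closure_image_mem_nhds (hU0 j)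
    rw [UniformSpace.Completion.coe_zero] at this
    rw [hDdef]
    exact this
  have hπU0 : ∀ j, π '' (U j : Set M) ∈ nhds (0 : M ⧸ N.toAddSubgroup) := by
    intro j
    have h1 : IsOpen (π '' (U j : Set M)) :=
      QuotientAddGroup.isOpenMap_coe (N := N.toAddSubgroup) _ (hUopen j)
    exact h1.mem_nhds ⟨0, (U j).zero_mem, map_zero π⟩
  have hC0 : ∀ j, (C j : Set (UniformSpace.Completion (M ⧸ N.toAddSubgroup))) ∈
      nhds (0 : UniformSpace.Completion (M ⧸ N.toAddSubgroup)) := by
    intro j
    have := (UniformSpace.Completion.isDenseInducing_coe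
      (α := M ⧸ N.toAddSubgroup)).closure_image_mem_nhds (hπU0 j)
    rw [UniformSpace.Completion.coe_zero] at this
    rw [hCdef]
    exact this
  have hDsmall : ∀ W ∈ nhds (0 : UniformSpace.Completion M), ∃ j, (D j : Set _) ⊆ W := by
    intro W hW
    obtain ⟨W', ⟨hW'0, hW'cl⟩, hW'sub⟩ :=
      (closed_nhds_basis (0 : UniformSpace.Completion M)).mem_iff.mp hW
    have hpre : ((↑) : M → UniformSpace.Completion M) ⁻¹' W' ∈ nhds (0 : M) := by
      apply (UniformSpace.Completion.continuous_coe M).continuousAt.preimage_mem_nhds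
      rwa [UniformSpace.Completion.coe_zero]
    obtain ⟨j, -, hj⟩ := hUb.toHasBasis.mem_iff.mp hpre
    refine ⟨j, subset_trans ?_ hW'sub⟩
    rw [hDdef]
    apply closure_minimal _ hW'cl
    rintro _ ⟨u, hu, rfl⟩
    exact hj hu
  have hCsmall : ∀ W ∈ nhds (0 : UniformSpace.Completion (M ⧸ N.toAddSubgroup)),
      ∃ j, (C j : Set _) ⊆ W := by
    intro W hW
    obtain ⟨W', ⟨hW'0, hW'cl⟩, hW'sub⟩ :=
      (closed_nhds_basis (0 : UniformSpace.Completion (M ⧸ N.toAddSubgroup))).mem_iff.mp hW
    have hpre : (fun m : M => ((π m : M ⧸ N.toAddSubgroup) :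
        UniformSpace.Completion (M ⧸ N.toAddSubgroup))) ⁻¹' W' ∈ nhds (0 : M) := by
      apply ((UniformSpace.Completion.continuous_coe _).comp hπc).continuousAt.preimage_mem_nhds
      show W' ∈ nhds (((π 0 : M ⧸ N.toAddSubgroup) : UniformSpace.Completion (M ⧸ N.toAddSubgroup)))
      rw [map_zero, UniformSpace.Completion.coe_zero]
      exact hW'0
    obtain ⟨j, -, hj⟩ := hUb.toHasBasis.mem_iff.mp hpre
    refine ⟨j, subset_trans ?_ hW'sub⟩
    rw [hCdef]
    apply closure_minimal _ hW'cl
    rintro _ ⟨_, ⟨u, hu, rfl⟩, rfl⟩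
    exact hj hu
  have hstep : ∀ j, ∀ r ∈ C j, ∃ d ∈ D j, r - πc d ∈ C (j + 1) := by
    intro j r hr
    have hnb : (fun z : UniformSpace.Completion (M ⧸ N.toAddSubgroup) => r - z) ⁻¹'
        (C (j + 1) : Set _) ∈ nhds r := by
      apply ContinuousAt.preimage_mem_nhds (by fun_prop)
      simpa using hC0 (j + 1)
    have hr' : r ∈ closure (((↑) : M ⧸ N.toAddSubgroup → UniformSpace.Completion (M ⧸ N.toAddSubgroup)) ''
        (π '' (U j : Set M))) := by rw [← hCdef]; exact hr
    obtain ⟨_, hz, ⟨_, ⟨u, hu, rfl⟩, rfl⟩⟩ := mem_closure_iff_nhds.mp hr' _ hnb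
    refine ⟨(u : UniformSpace.Completion M), ?_, ?_⟩
    · show ((u : M) : UniformSpace.Completion M) ∈ (D j : Set _)
      rw [hDdef]
      exact subset_closure ⟨u, hu, rfl⟩
    · rw [hcoe]
      exact hz
  have key : ∀ n, ∀ y ∈ C n, ∃ x ∈ D n, πc x = y := fun n y hy =>
    Groth.Agent.Lib.helper25.OpenMapApprox.subset_image_of_approx πc hπcc D C hDcl hDanti hDsmall hCanti
      hCsmall hstep n y hy
  constructor
  · intro y
    have hnb : (fun z : UniformSpace.Completion (M ⧸ N.toAddSubgroup) => y - z) ⁻¹'
        (C 0 : Set _) ∈ nhds y := by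
      apply ContinuousAt.preimage_mem_nhds (by fun_prop)
      simpa using hC0 0
    obtain ⟨_, ⟨q, rfl⟩, hz⟩ :=
      (UniformSpace.Completion.denseRange_coe (α := M ⧸ N.toAddSubgroup)).inter_nhds_nonempty hnb
    obtain ⟨m, rfl⟩ := hπsurj q
    obtain ⟨x, -, hx⟩ := key 0 _ hz
    have hx' : πc x = y - ((π m : M ⧸ N.toAddSubgroup) :
        UniformSpace.Completion (M ⧸ N.toAddSubgroup)) := hx
    refine ⟨(m : UniformSpace.Completion M) + x, ?_⟩
    rw [map_add, hx', hcoe]
    abel
  · rw [isOpenMap_iff_nhds_le]
    intro a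
    intro S hS
    rw [Filter.mem_map] at hS
    have h1 : (fun w : UniformSpace.Completion M => a + w) ⁻¹' (πc ⁻¹' S) ∈
        nhds (0 : UniformSpace.Completion M) := by
      apply ContinuousAt.preimage_mem_nhds (by fun_prop)
      simpa using hS
    obtain ⟨j, hj⟩ := hDsmall _ h1
    have h2 : (fun z : UniformSpace.Completion (M ⧸ N.toAddSubgroup) => z - πc a) ⁻¹'
        (C j : Set _) ∈ nhds (πc a) := by
      apply ContinuousAt.preimage_mem_nhds (by fun_prop)
      simpa using hC0 j
    refine Filter.mem_of_superset h2 ?_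
    intro z hz
    obtain ⟨x, hxD, hx⟩ := key j _ hz
    have h3 := hj hxD
    have h4 : πc (a + x) ∈ S := h3
    rw [map_add, hx] at h4
    simpa using h4

end Groth.Agent.S10172
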