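import Groth.Statements.S10173
import Mathlib
import Groth.Agent.Lib.Helper25.AdicClosure

set_option autoImplicit false
universe u v
open LinTop

namespace Groth.Agent.S10173

open Groth.Agent.Lib.helper25.AdicClosure

/-- Let R be a commutative ring, I a finitely generated ideal and M a topological R-module (additive
uniform structure, each scalar acting uniformly continuously) having an open submodule M' whose
topology is the I-adic one, i.e. the I^n M' are open in M and form a fundamental system of
neighbourhoods of 0. Then the separated completion M^ has an open submodule whose topology is I-adic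
in the same sense, and for every n ≥ 1 the map M → M^/I^n M^ is surjective with kernel I^n M,
identifying M^/I^n M^ with M/I^n M. -/
theorem result
    {R : Type u} [CommRing R] (I : Ideal R) (hI : I.FG)
    {M : Type v} [AddCommGroup M] [Module R M] [UniformSpace M] [IsUniformAddGroup M]
    [UniformContinuousConstSMul R M]
    (M' : Submodule R M) (hopen : ∀ n : ℕ, IsOpen ((I ^ n • M' : Submodule R M) : Set M))
    (hbasis : ∀ U ∈ nhds (0 : M), ∃ n : ℕ, ((I ^ n • M' : Submodule R M) : Set M) ⊆ U) :
    (∃ M'' : Submodule R (UniformSpace.Completion M),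
        (∀ n : ℕ, IsOpen ((I ^ n • M'' : Submodule R (UniformSpace.Completion M)) :
          Set (UniformSpace.Completion M))) ∧
        ∀ U ∈ nhds (0 : UniformSpace.Completion M), ∃ n : ℕ,
          ((I ^ n • M'' : Submodule R (UniformSpace.Completion M)) :
            Set (UniformSpace.Completion M)) ⊆ U) ∧
      ∀ n : ℕ, 0 < n →
        Function.Surjective ((QuotientAddGroup.mk' (I ^ n • ⊤ : Submodule R (UniformSpace.Completion M)).toAddSubgroup).comp
          (UniformSpace.Completion.toCompl : M →+ UniformSpace.Completion M)) ∧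
        ((QuotientAddGroup.mk' (I ^ n • ⊤ : Submodule R (UniformSpace.Completion M)).toAddSubgroup).comp
          (UniformSpace.Completion.toCompl : M →+ UniformSpace.Completion M)).ker = (I ^ n • ⊤ : Submodule R M).toAddSubgroup := by
  classical
  have hP0 : ∀ j : ℕ, ((I ^ j • M' : Submodule R M) : Set M) ∈ nhds (0 : M) := fun j =>
    (hopen j).mem_nhds (I ^ j • M' : Submodule R M).zero_mem
  have hM'0 : (M' : Set M) ∈ nhds (0 : M) := by
    have := hP0 0
    simpa using this
  have hkey : ∀ n : ℕ, I ^ n • cl M' = cl (I ^ n • M') := fun n =>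
    le_antisymm (smul_cl_le (I ^ n) M') (cl_pow_smul_le I hI M' hopen hbasis n)
  have hclsmall : ∀ W ∈ nhds (0 : UniformSpace.Completion M),
      ∃ j : ℕ, (cl (I ^ j • M') : Set (UniformSpace.Completion M)) ⊆ W := by
    intro W hW
    obtain ⟨W', ⟨hW'0, hW'cl⟩, hW'sub⟩ :=
      (closed_nhds_basis (0 : UniformSpace.Completion M)).mem_iff.mp hW
    have hpre : ((↑) : M → UniformSpace.Completion M) ⁻¹' W' ∈ nhds (0 : M) := by
      apply (UniformSpace.Completion.continuous_coe M).continuousAt.preimage_mem_nhds
      rwa [UniformSpace.Completion.coe_zero]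
    obtain ⟨j, hj⟩ := hbasis _ hpre
    refine ⟨j, subset_trans ?_ hW'sub⟩
    rw [coe_cl]
    apply closure_minimal _ hW'cl
    rintro _ ⟨u, hu, rfl⟩
    exact hj hu
  refine ⟨⟨cl M', fun n => ?_, fun W hW => ?_⟩, fun n _ => ⟨?_, ?_⟩⟩
  · rw [hkey]
    exact isOpen_cl _ (hP0 n)
  · obtain ⟨j, hj⟩ := hclsmall W hW
    exact ⟨j, by rw [hkey]; exact hj⟩
  · -- surjectivity
    intro q
    obtain ⟨z, rfl⟩ := QuotientAddGroup.mk'_surjective _ q
    have hnb : (fun w : UniformSpace.Completion M => z - w) ⁻¹'
        (cl (I ^ n • M') : Set (UniformSpace.Completion M)) ∈ nhds z := by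
      apply ContinuousAt.preimage_mem_nhds (by fun_prop)
      simpa using cl_mem_nhds _ (hP0 n)
    obtain ⟨_, ⟨m, rfl⟩, hz⟩ :=
      (UniformSpace.Completion.denseRange_coe (α := M)).inter_nhds_nonempty hnb
    refine ⟨m, ?_⟩
    show (QuotientAddGroup.mk' _) ((m : M) : UniformSpace.Completion M) = QuotientAddGroup.mk' _ z
    rw [QuotientAddGroup.mk'_eq_mk']
    refine ⟨z - (m : UniformSpace.Completion M), ?_, by abel⟩
    have h1 : z - (m : UniformSpace.Completion M) ∈ cl (I ^ n • M') := hz
    rw [← hkey] at h1
    exact Submodule.smul_mono le_rfl le_top h1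
  · -- kernel
    ext x
    rw [AddMonoidHom.mem_ker, AddMonoidHom.comp_apply, QuotientAddGroup.mk'_apply,
      QuotientAddGroup.eq_zero_iff]
    show ((x : M) : UniformSpace.Completion M) ∈ (I ^ n • ⊤ : Submodule R (UniformSpace.Completion M)) ↔
      x ∈ (I ^ n • ⊤ : Submodule R M)
    constructor
    · intro hx
      -- decomposition of `I^n • ⊤`
      have hdec : ∀ z ∈ (I ^ n • ⊤ : Submodule R (UniformSpace.Completion M)),
          ∃ m ∈ (I ^ n • ⊤ : Submodule R M), z - (m : UniformSpace.Completion M) ∈ cl (I ^ n • M') := by
        intro z hz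
        refine Submodule.smul_induction_on hz ?_ ?_
        · intro r hr w _
          have hnb : (fun v : UniformSpace.Completion M => w - v) ⁻¹'
              (cl M' : Set (UniformSpace.Completion M)) ∈ nhds w := by
            apply ContinuousAt.preimage_mem_nhds (by fun_prop)
            simpa using cl_mem_nhds _ hM'0
          obtain ⟨_, ⟨m, rfl⟩, hw⟩ :=
            (UniformSpace.Completion.denseRange_coe (α := M)).inter_nhds_nonempty hnb
          refine ⟨r • m, Submodule.smul_mem_smul hr Submodule.mem_top, ?_⟩
          have h1 : r • w - ((r • m : M) : UniformSpace.Completion M) =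
              r • (w - (m : UniformSpace.Completion M)) := by
            rw [UniformSpace.Completion.coe_smul, smul_sub]
          rw [h1, ← hkey]
          exact Submodule.smul_mem_smul hr hw
        · rintro a b ⟨m₁, hm₁, h₁⟩ ⟨m₂, hm₂, h₂⟩
          refine ⟨m₁ + m₂, Submodule.add_mem _ hm₁ hm₂, ?_⟩
          have h1 : a + b - ((m₁ + m₂ : M) : UniformSpace.Completion M) =
              (a - (m₁ : UniformSpace.Completion M)) + (b - (m₂ : UniformSpace.Completion M)) := by
            rw [UniformSpace.Completion.coe_add]; abel
          rw [h1]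
          exact Submodule.add_mem _ h₁ h₂
      obtain ⟨m, hm, hxm⟩ := hdec _ hx
      have h2 : ((x - m : M) : UniformSpace.Completion M) ∈ cl (I ^ n • M') := by
        rw [UniformSpace.Completion.coe_sub]; exact hxm
      have h3 : x - m ∈ (I ^ n • M' : Submodule R M) := mem_of_coe_mem_cl _ (hopen n) h2
      have h4 : x - m ∈ (I ^ n • ⊤ : Submodule R M) := Submodule.smul_mono le_rfl le_top h3
      have : x = m + (x - m) := by abel
      rw [this]
      exact Submodule.add_mem _ hm h4
    · intro hx
      refine Submodule.smul_induction_on hx ?_ ?_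
      · intro r hr m _
        rw [UniformSpace.Completion.coe_smul]
        exact Submodule.smul_mem_smul hr Submodule.mem_top
      · intro a b ha hb
        rw [UniformSpace.Completion.coe_add]
        exact Submodule.add_mem _ ha hb

end Groth.Agent.S10173
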