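import Groth.Statements.S10181
import Mathlib.AlgebraicGeometry.Morphisms.Separated

set_option autoImplicit false
universe u
open CategoryTheory CategoryTheory.Limits AlgebraicGeometry Topology TopologicalSpace
open AlgSp

namespace Groth.Agent.S10181

/-- Let X be an algebraic space over a scheme S and a : h_U ⟶ X a representable etale map from a scheme
U over S whose underlying scheme is separated. Then a is (representable and) separated, and the
scheme R = U ×_X U representing the fibre product h_U ×_X h_U is separated. -/
theorem result {S : Scheme.{u}} (X : AlgSp.Space S) {U : Over S}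
    (a : (AlgSp.yon S).obj U ⟶ X.obj) (ha : AlgSp.RepWith @Etale a) [U.left.IsSeparated] :
    AlgSp.RepWith @IsSeparated a ∧
      ∀ (R : Over S) (s t : R ⟶ U), IsPullback ((AlgSp.yon S).map t) ((AlgSp.yon S).map s) a a →
        R.left.IsSeparated := by
  have h1 : AlgSp.RepWith @IsSeparated a := by
    refine ⟨ha.rep, ?_⟩
    intro T V g fst snd hpb
    obtain ⟨φ, rfl⟩ := (AlgSp.yon S).map_surjective fst
    let l : V.left ⟶ pullback U.hom T.hom :=
      pullback.lift φ.left snd.left (by rw [Over.w φ, Over.w snd])
    have hl : Mono l := by
      constructor
      intro W α β hαβ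
      have e1 : α ≫ φ.left = β ≫ φ.left := by
        have := congr($hαβ ≫ pullback.fst _ _)
        simp only [l, Category.assoc] at this
        rwa [pullback.lift_fst] at this
      have e2 : α ≫ snd.left = β ≫ snd.left := by
        have := congr($hαβ ≫ pullback.snd _ _)
        simp only [l, Category.assoc] at this
        rwa [pullback.lift_snd] at this
      let W' : Over S := Over.mk (α ≫ V.hom)
      let α' : W' ⟶ V := Over.homMk α rfl
      let β' : W' ⟶ V := Over.homMk β (by
        show β ≫ V.hom = α ≫ V.hom
        rw [← Over.w snd, ← Category.assoc, ← e2, Category.assoc])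
      have h3 : (AlgSp.yon S).map α' = (AlgSp.yon S).map β' := by
        apply hpb.hom_ext
        · rw [← Functor.map_comp, ← Functor.map_comp]
          congr 1
          ext
          exact e1
        · rw [← Functor.map_comp, ← Functor.map_comp]
          congr 1
          ext
          exact e2
      have h4 := (AlgSp.yon S).map_injective h3
      exact congr_arg CommaMorphism.left h4
    have hs : snd.left = l ≫ pullback.snd _ _ := (pullback.lift_snd _ _ _).symm
    show IsSeparated snd.left
    rw [hs]
    infer_instance
  refine ⟨h1, fun R s t hR => ?_⟩
  have : IsSeparated s.left := h1.2 a _ s hR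
  rw [Scheme.isSeparated_iff, ← terminal.comp_from s.left]
  infer_instance

end Groth.Agent.S10181
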