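import Groth.Statements.S10184
import Groth.Agent.Lib.Helper7.AlgSpQC
import Groth.Agent.Lib.Helper5.AlgSpFibreProduct

set_option autoImplicit false
universe u
open CategoryTheory CategoryTheory.Limits AlgebraicGeometry Topology TopologicalSpace
open AlgSp

namespace Groth.Agent.S10184

variable {S : Scheme.{u}}

set_option backward.isDefEq.respectTransparency false in
/-- The pullback `E` of the diagonal of `X` along `(a, b) : h_T ⟶ X × X` is the pullback of the diagonal of `T` along
`P = h_T ×_X h_T ⟶ T × T`. -/
theorem sq_diag {X : Sp S} {T E P : Over S} (a b : (yon S).obj T ⟶ X) (fst snd : P ⟶ T)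
    (hP : IsPullback ((yon S).map fst) ((yon S).map snd) a b) (fstE : (yon S).obj E ⟶ X) (e : E ⟶ T)
    (hE : IsPullback fstE ((yon S).map e) (Limits.diag X) (prod.lift a b)) :
    ∃ l : E ⟶ P, l ≫ fst = e ∧ l ≫ snd = e ∧ IsPullback e l (Limits.diag T) (prod.lift fst snd) := by
  have he1 : fstE = (yon S).map e ≫ a := by
    simpa using congrArg (· ≫ prod.fst) hE.w
  have he2 : fstE = (yon S).map e ≫ b := by
    simpa using congrArg (· ≫ prod.snd) hE.w
  obtain ⟨l', hl1', hl2'⟩ := hP.exists_lift ((yon S).map e) ((yon S).map e) (by rw [← he1, ← he2])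
  obtain ⟨l, rfl⟩ := (yon S).map_surjective l'
  have hl1 : l ≫ fst = e := (yon S).map_injective (by rw [Functor.map_comp]; exact hl1')
  have hl2 : l ≫ snd = e := (yon S).map_injective (by rw [Functor.map_comp]; exact hl2')
  refine ⟨l, hl1, hl2, ?_⟩
  apply Groth.Agent.Lib.helper5.isPullback_of_exists_lift
  · apply Limits.prod.hom_ext
    · simp [hl1]
    · simp [hl2]
  · intro T' τ ρ hτρ
    have h1 : τ = ρ ≫ fst := by simpa using congrArg (· ≫ prod.fst) hτρ
    have h2 : τ = ρ ≫ snd := by simpa using congrArg (· ≫ prod.snd) hτρ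
    have hab : (yon S).map τ ≫ a = (yon S).map τ ≫ b := by
      conv_lhs => rw [h1, Functor.map_comp, Category.assoc, hP.w]
      conv_rhs => rw [h2, Functor.map_comp, Category.assoc]
    obtain ⟨ε', hε1, hε2⟩ := hE.exists_lift ((yon S).map τ ≫ a) ((yon S).map τ) (by
      apply Limits.prod.hom_ext
      · simp
      · simp [hab])
    obtain ⟨ε, rfl⟩ := (yon S).map_surjective ε'
    have hεe : ε ≫ e = τ := (yon S).map_injective (by rw [Functor.map_comp]; exact hε2)
    refine ⟨ε, hεe, ?_⟩
    apply (yon S).map_injective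
    apply hP.hom_ext
    · rw [← Functor.map_comp, ← Functor.map_comp, Category.assoc, hl1, hεe, h1]
    · rw [← Functor.map_comp, ← Functor.map_comp, Category.assoc, hl2, hεe, h2]
  · intro T' ε ε' h1 _
    apply (yon S).map_injective
    apply hE.hom_ext
    · rw [he1, ← Category.assoc, ← Category.assoc, ← Functor.map_comp, ← Functor.map_comp, h1]
    · rw [← Functor.map_comp, ← Functor.map_comp, h1]

theorem isClosedImmersion_diag_left (T : Over S) [IsAffine T.left] :
    IsClosedImmersion (Limits.diag T).left := by
  have h1 : IsSeparated T.hom := inferInstance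
  have h2 : IsClosedImmersion (pullback.diagonal T.hom) := inferInstance
  rw [← diag_left_comp_prodLeftIsoPullback] at h2
  exact (MorphismProperty.cancel_right_of_respectsIso @IsClosedImmersion (Limits.diag T).left
    (Over.prodLeftIsoPullback T T).hom).1 h2

set_option backward.isDefEq.respectTransparency false in
open Groth.Agent.Lib.helper7.AlgSpQC in
theorem main (X : AlgSp.Space S)
    (h : ∀ (U V P : Over S) (a : (AlgSp.yon S).obj U ⟶ X.obj) (b : (AlgSp.yon S).obj V ⟶ X.obj)
      (fst : P ⟶ U) (snd : P ⟶ V),
      IsAffine U.left → IsAffine V.left →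
      IsPullback ((AlgSp.yon S).map fst) ((AlgSp.yon S).map snd) a b → CompactSpace ↥P.left) :
    AlgSp.IsQuasiSeparatedSp X.obj := by
  refine ⟨X.property.diag, ?_⟩
  intro T E g fstE e sq
  change QuasiCompact e.left
  rw [quasiCompact_iff_forall_isAffineOpen]
  intro W hW
  have sq2 : IsPullback (e.left ⁻¹ᵁ W).ι (e.left ∣_ W) e.left W.ι :=
    (isPullback_morphismRestrict e.left W).flip
  obtain ⟨a', h', sq3⟩ := isPullback_paste_scheme sq sq2
  have hTWaff : IsAffine (Over.mk (W.ι ≫ T.hom) : Over S).left := hW
  set a := ((yon S).map h' ≫ g) ≫ prod.fst with ha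
  set b := ((yon S).map h' ≫ g) ≫ prod.snd with hb
  have hg : (yon S).map h' ≫ g = prod.lift a b := by
    apply Limits.prod.hom_ext <;> simp [ha, hb]
  rw [hg] at sq3
  obtain ⟨PW, sndP, fstP', sqP⟩ :=
    (Functor.relativelyRepresentable.of_diag X.property.diag b) a
  obtain ⟨fstP, rfl⟩ := (yon S).map_surjective fstP'
  have hPc : CompactSpace ↥PW.left := h _ _ PW a b sndP fstP hTWaff hTWaff sqP.flip
  obtain ⟨l, -, -, sqD⟩ := sq_diag a b sndP fstP sqP.flip _ _ sq3
  have sqD' := sqD.map (Over.forget S)
  have hci : IsClosedImmersion (Limits.diag (Over.mk (W.ι ≫ T.hom) : Over S)).left :=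
    @isClosedImmersion_diag_left _ _ hTWaff
  have hl : IsClosedImmersion l.left :=
    MorphismProperty.of_isPullback (P := @IsClosedImmersion) sqD' hci
  have hc : CompactSpace ↥(e.left ⁻¹ᵁ W : Scheme.{u}) :=
    QuasiCompact.compactSpace_of_compactSpace l.left
  exact isCompact_iff_compactSpace.mpr hc

/-- Let X be an algebraic space over a scheme S such that for all affine schemes U, V over S mapping to
X, every scheme P over S representing h_U ×_X h_V is quasi-compact. Then X is quasi-separated over
S. (The published statement is about absolute quasi-separatedness, over the integers, which this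
hypothesis also gives and which implies quasi-separatedness over S.) -/
theorem result {S : Scheme.{u}} (X : AlgSp.Space S)
    (h : ∀ (U V P : Over S) (a : (AlgSp.yon S).obj U ⟶ X.obj) (b : (AlgSp.yon S).obj V ⟶ X.obj)
      (fst : P ⟶ U) (snd : P ⟶ V),
      IsAffine U.left → IsAffine V.left →
      IsPullback ((AlgSp.yon S).map fst) ((AlgSp.yon S).map snd) a b → CompactSpace ↥P.left) :
    AlgSp.IsQuasiSeparatedSp X.obj := by
  exact main X h

end Groth.Agent.S10184
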