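import Groth.Statements.S10186
import Groth.Agent.S10184

set_option autoImplicit false
universe u
open CategoryTheory CategoryTheory.Limits AlgebraicGeometry Topology TopologicalSpace
open AlgSp

namespace Groth.Agent.S10186

open scoped TensorProduct

theorem comp_productMap {A B C D : Type u} [CommRing A] [CommRing B] [CommRing C] [CommRing D]
    (φ : C →+* D) (α : A →+* C) (β : B →+* C) :
    φ.comp (Algebra.TensorProduct.productMap α.toIntAlgHom β.toIntAlgHom).toRingHom =
      (Algebra.TensorProduct.productMap (φ.comp α).toIntAlgHom (φ.comp β).toIntAlgHom).toRingHom := by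
  apply RingHom.ext
  intro x
  induction x using TensorProduct.induction_on with
  | zero => simp
  | tmul a b => simp
  | add x y hx hy =>
    simp only [map_add] at hx hy ⊢
    rw [hx, hy]

/-- A morphism `(p₁, p₂) : P ⟶ Z` from an affine scheme such that `Γ(W₁) ⊗_ℤ Γ(W₂) ⟶ Γ(P)` is surjective is a closed
immersion, when `Z` is separated. -/
theorem isClosedImmersion_of_surjective_productMap {P Z W₁ W₂ : Scheme.{u}} [IsAffine P]
    [Z.IsSeparated] (f : P ⟶ Z) (p₁ : Z ⟶ W₁) (p₂ : Z ⟶ W₂)
    (hsurj : Function.Surjective (Algebra.TensorProduct.productMap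
      (f ≫ p₁).appTop.hom.toIntAlgHom (f ≫ p₂).appTop.hom.toIntAlgHom)) :
    IsClosedImmersion f := by
  let mZ : CommRingCat.of (Γ(W₁, ⊤) ⊗[ℤ] Γ(W₂, ⊤)) ⟶ Γ(Z, ⊤) :=
    CommRingCat.ofHom (Algebra.TensorProduct.productMap
      p₁.appTop.hom.toIntAlgHom p₂.appTop.hom.toIntAlgHom).toRingHom
  let mP : CommRingCat.of (Γ(W₁, ⊤) ⊗[ℤ] Γ(W₂, ⊤)) ⟶ Γ(P, ⊤) :=
    CommRingCat.ofHom (Algebra.TensorProduct.productMap
      (f ≫ p₁).appTop.hom.toIntAlgHom (f ≫ p₂).appTop.hom.toIntAlgHom).toRingHom
  have hm : mZ ≫ f.appTop = mP := by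
    apply CommRingCat.hom_ext
    have := comp_productMap f.appTop.hom p₁.appTop.hom p₂.appTop.hom
    simpa [mZ, mP, Scheme.Hom.comp_appTop] using this
  let g : Z ⟶ Spec (CommRingCat.of (Γ(W₁, ⊤) ⊗[ℤ] Γ(W₂, ⊤))) := Z.toSpecΓ ≫ Spec.map mZ
  have hfg : f ≫ g = P.toSpecΓ ≫ Spec.map mP := by
    simp only [g]
    rw [← Category.assoc, Scheme.toSpecΓ_naturality, Category.assoc, ← Spec.map_comp, hm]
  have h1 : IsClosedImmersion (Spec.map mP) := IsClosedImmersion.spec_of_surjective mP hsurj
  have h2 : IsClosedImmersion (f ≫ g) := by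
    rw [hfg]; infer_instance
  exact IsClosedImmersion.of_comp f g

variable {S : Scheme.{u}}

theorem isSeparated_pullback_of_isAffine {A B C : Scheme.{u}} (f : A ⟶ C) (g : B ⟶ C) [IsAffine A]
    [IsAffine B] : (pullback f g).IsSeparated := by
  have h1 : IsSeparated g := inferInstance
  have h2 : IsSeparated (pullback.fst f g ≫ terminal.from A) := inferInstance
  rw [terminal.comp_from] at h2
  exact ⟨h2⟩

set_option backward.isDefEq.respectTransparency false in
open Groth.Agent.Lib.helper7.AlgSpQC Groth.Agent.S10184 in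
theorem main (X : AlgSp.Space S)
    (h : ∀ (U V P : Over S) (a : (AlgSp.yon S).obj U ⟶ X.obj) (b : (AlgSp.yon S).obj V ⟶ X.obj)
      (fst : P ⟶ U) (snd : P ⟶ V),
      IsAffine U.left → IsAffine V.left →
      IsPullback ((AlgSp.yon S).map fst) ((AlgSp.yon S).map snd) a b →
        IsAffine P.left ∧ Function.Surjective
          (Algebra.TensorProduct.productMap fst.left.appTop.hom.toIntAlgHom snd.left.appTop.hom.toIntAlgHom)) :
    AlgSp.IsSeparatedSp X.obj := by
  refine ⟨X.property.diag, ?_⟩
  intro T E g fstE e sq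
  change IsClosedImmersion e.left
  rw [IsZariskiLocalAtTarget.iff_of_iSup_eq_top (P := @IsClosedImmersion) _
    (iSup_affineOpens_eq_top T.left)]
  intro W
  have sq2 : IsPullback (e.left ⁻¹ᵁ W.1).ι (e.left ∣_ W.1) e.left W.1.ι :=
    (isPullback_morphismRestrict e.left W.1).flip
  obtain ⟨a', h', sq3⟩ := isPullback_paste_scheme sq sq2
  have hTWaff : IsAffine (Over.mk (W.1.ι ≫ T.hom) : Over S).left := W.2
  set a := ((yon S).map h' ≫ g) ≫ prod.fst with ha
  set b := ((yon S).map h' ≫ g) ≫ prod.snd with hb
  have hg : (yon S).map h' ≫ g = prod.lift a b := by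
    apply Limits.prod.hom_ext <;> simp [ha, hb]
  rw [hg] at sq3
  obtain ⟨PW, sndP, fstP', sqP⟩ :=
    (Functor.relativelyRepresentable.of_diag X.property.diag b) a
  obtain ⟨fstP, rfl⟩ := (yon S).map_surjective fstP'
  obtain ⟨hPaff, hsurj⟩ := h _ _ PW a b sndP fstP hTWaff hTWaff sqP.flip
  obtain ⟨l, -, -, sqD⟩ := sq_diag a b sndP fstP sqP.flip _ _ sq3
  have sqD' := sqD.flip.map (Over.forget S)
  have hcl : IsClosedImmersion (prod.lift sndP fstP).left := by
    rw [← MorphismProperty.cancel_right_of_respectsIso @IsClosedImmersion _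
      (Over.prodLeftIsoPullback _ _).hom]
    have hZ := isSeparated_pullback_of_isAffine (Over.mk (W.1.ι ≫ T.hom) : Over S).hom
      (Over.mk (W.1.ι ≫ T.hom) : Over S).hom
    have e1 : ((prod.lift sndP fstP).left ≫ (Over.prodLeftIsoPullback _ _).hom) ≫
        pullback.fst _ _ = sndP.left := by
      rw [Category.assoc, Over.prodLeftIsoPullback_hom_fst, ← Over.comp_left, prod.lift_fst]
    have e2 : ((prod.lift sndP fstP).left ≫ (Over.prodLeftIsoPullback _ _).hom) ≫
        pullback.snd _ _ = fstP.left := by
      rw [Category.assoc, Over.prodLeftIsoPullback_hom_snd, ← Over.comp_left, prod.lift_snd]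
    exact isClosedImmersion_of_surjective_productMap _ (pullback.fst _ _) (pullback.snd _ _)
      (by rw [e1, e2]; exact hsurj)
  exact MorphismProperty.of_isPullback (P := @IsClosedImmersion) sqD' hcl

/-- Let X be an algebraic space over a scheme S such that for all affine schemes U, V over S mapping to
X and every scheme P over S representing h_U ×_X h_V, the scheme P is affine and the ring map from
the tensor product over the integers of the global sections of U and V to the global sections of P,
induced by the two projections, is surjective. Then X is separated over S. (The published statement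
concerns absolute separatedness, over the integers, which this hypothesis also gives and which
implies separatedness over S.) -/
theorem result {S : Scheme.{u}} (X : AlgSp.Space S)
    (h : ∀ (U V P : Over S) (a : (AlgSp.yon S).obj U ⟶ X.obj) (b : (AlgSp.yon S).obj V ⟶ X.obj)
      (fst : P ⟶ U) (snd : P ⟶ V),
      IsAffine U.left → IsAffine V.left →
      IsPullback ((AlgSp.yon S).map fst) ((AlgSp.yon S).map snd) a b →
        IsAffine P.left ∧ Function.Surjective
          (Algebra.TensorProduct.productMap fst.left.appTop.hom.toIntAlgHom snd.left.appTop.hom.toIntAlgHom)) :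
    AlgSp.IsSeparatedSp X.obj := by
  exact main X h

end Groth.Agent.S10186
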