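import Groth.Statements.S10187
import Groth.Agent.S10182
import Groth.Agent.S10186

set_option autoImplicit false
universe u
open CategoryTheory CategoryTheory.Limits AlgebraicGeometry Topology TopologicalSpace
open AlgSp

namespace Groth.Agent.S10187

open scoped TensorProduct

/-- In a pushout square of commutative rings the pushout is generated by the two images. -/
theorem surjective_productMap_of_isPushout {R A B C : CommRingCat.{u}} {f : R ⟶ A} {g : R ⟶ B}
    {inl : A ⟶ C} {inr : B ⟶ C} (h : IsPushout f g inl inr) :
    Function.Surjective (Algebra.TensorProduct.productMap inl.hom.toIntAlgHom inr.hom.toIntAlgHom) := by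
  set m := (Algebra.TensorProduct.productMap inl.hom.toIntAlgHom inr.hom.toIntAlgHom).toRingHom with hm
  let R' : Subring C := m.range
  have hl : ∀ a : A, inl.hom a ∈ R' := fun a => ⟨a ⊗ₜ 1, by simp [hm]⟩
  have hr : ∀ b : B, inr.hom b ∈ R' := fun b => ⟨1 ⊗ₜ b, by simp [hm]⟩
  let α' : A ⟶ CommRingCat.of R' := CommRingCat.ofHom (inl.hom.codRestrict R' hl)
  let β' : B ⟶ CommRingCat.of R' := CommRingCat.ofHom (inr.hom.codRestrict R' hr)
  let ι : CommRingCat.of R' ⟶ C := CommRingCat.ofHom R'.subtype
  have hαι : α' ≫ ι = inl := by ext a; rfl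
  have hβι : β' ≫ ι = inr := by ext b; rfl
  have hmono : Mono ι := ConcreteCategory.mono_of_injective _ Subtype.val_injective
  have w' : f ≫ α' = g ≫ β' := by
    rw [← cancel_mono ι, Category.assoc, Category.assoc, hαι, hβι, h.w]
  have hd : h.desc α' β' w' ≫ ι = 𝟙 C := by
    apply h.hom_ext
    · rw [← Category.assoc, h.inl_desc, hαι, Category.comp_id]
    · rw [← Category.assoc, h.inr_desc, hβι, Category.comp_id]
  intro c
  have hc : ι.hom ((h.desc α' β' w').hom c) = c := by
    have := congrArg (fun k => k.hom c) hd
    simpa using this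
  obtain ⟨x, hx⟩ := ((h.desc α' β' w').hom c).2
  refine ⟨x, ?_⟩
  rw [← hc]
  exact hx

variable {S : Scheme.{u}}

set_option backward.isDefEq.respectTransparency false in
theorem main [S.IsSeparated]
    (X : AlgSp.Space S) (hX : AlgSp.IsSeparatedSp X.obj) (U V P : Over S) (a : (AlgSp.yon S).obj U ⟶ X.obj) (b : (AlgSp.yon S).obj V ⟶ X.obj)
      (fst : P ⟶ U) (snd : P ⟶ V)
    (hU : IsAffine U.left) (hV : IsAffine V.left)
    (h : IsPullback ((AlgSp.yon S).map fst) ((AlgSp.yon S).map snd) a b) :
    IsAffine P.left ∧ Function.Surjective
          (Algebra.TensorProduct.productMap fst.left.appTop.hom.toIntAlgHom snd.left.appTop.hom.toIntAlgHom) := by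
  -- step 1: `P ⟶ U × V` is a closed immersion
  have sq0 := Groth.Agent.S10182.isPullback_diag_of_isPullback h
  have hlift : prod.lift ((yon S).map fst) ((yon S).map snd) =
      (yon S).map (prod.lift fst snd) ≫ prodComparison (yon S) U V := by
    apply Limits.prod.hom_ext
    · simp [← Functor.map_comp]
    · simp [← Functor.map_comp]
  rw [hlift] at sq0
  have sq : IsPullback ((yon S).map fst ≫ a) ((yon S).map (prod.lift fst snd)) (Limits.diag X.obj)
      (prodComparison (yon S) U V ≫ prod.map a b) :=
    sq0.of_iso (Iso.refl _) (Iso.refl _) (asIso (prodComparison (yon S) U V)).symm (Iso.refl _)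
      (by simp) (by simp) (by simp) (by simp)
  have hq : IsClosedImmersion (prod.lift fst snd).left := hX.2 _ _ _ sq
  -- step 2
  let f : P.left ⟶ pullback U.hom V.hom :=
    (prod.lift fst snd).left ≫ (Over.prodLeftIsoPullback U V).hom
  have hf : IsClosedImmersion f := inferInstance
  have e1 : f ≫ pullback.fst U.hom V.hom = fst.left := by
    simp only [f]
    rw [Category.assoc, Over.prodLeftIsoPullback_hom_fst, ← Over.comp_left, prod.lift_fst]
  have e2 : f ≫ pullback.snd U.hom V.hom = snd.left := by
    simp only [f]
    rw [Category.assoc, Over.prodLeftIsoPullback_hom_snd, ← Over.comp_left, prod.lift_snd]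
  -- step 3
  have hc : IsClosedImmersion (pullback.mapDesc U.hom V.hom (terminal.from S)) := inferInstance
  have hfc : IsClosedImmersion (f ≫ pullback.mapDesc U.hom V.hom (terminal.from S)) := inferInstance
  have hZ' : IsAffine (pullback (U.hom ≫ terminal.from S) (V.hom ≫ terminal.from S)) := inferInstance
  obtain ⟨hPaff, hsurj⟩ := IsClosedImmersion.isAffine_surjective_of_isAffine
    (f := f ≫ pullback.mapDesc U.hom V.hom (terminal.from S))
  refine ⟨hPaff, ?_⟩
  have hpo := isPushout_appTop_of_isPullback
    (IsPullback.of_hasPullback (U.hom ≫ terminal.from S) (V.hom ≫ terminal.from S))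
  have h6 := surjective_productMap_of_isPushout hpo
  have e1' : (f ≫ pullback.mapDesc U.hom V.hom (terminal.from S)) ≫
      pullback.fst (U.hom ≫ terminal.from S) (V.hom ≫ terminal.from S) = fst.left := by
    simp [e1]
  have e2' : (f ≫ pullback.mapDesc U.hom V.hom (terminal.from S)) ≫
      pullback.snd (U.hom ≫ terminal.from S) (V.hom ≫ terminal.from S) = snd.left := by
    simp [e2]
  have key := Groth.Agent.S10186.comp_productMap
    (f ≫ pullback.mapDesc U.hom V.hom (terminal.from S)).appTop.hom
    (pullback.fst (U.hom ≫ terminal.from S) (V.hom ≫ terminal.from S)).appTop.hom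
    (pullback.snd (U.hom ≫ terminal.from S) (V.hom ≫ terminal.from S)).appTop.hom
  rw [← e1', ← e2']
  simp only [Scheme.Hom.comp_appTop, CommRingCat.hom_comp] at key ⊢
  intro y
  obtain ⟨z, rfl⟩ := hsurj y
  obtain ⟨x, rfl⟩ := h6 z
  refine ⟨x, ?_⟩
  exact (congrArg (fun k => k x) key).symm

/-- Let S be a separated scheme and X an algebraic space over S whose diagonal over S is a closed
immersion. Then for all affine schemes U, V over S mapping to X and every scheme P over S
representing h_U ×_X h_V, the scheme P is affine and the ring map from the tensor product over the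
integers of the global sections of U and V to the global sections of P, induced by the projections,
is surjective. (The published statement uses absolute separatedness of X; over a separated base this
agrees with separatedness over S, and without a hypothesis on S the relative notion does not
suffice: take X = h_S for an affine line with doubled origin S and U, V the two copies of the line.) -/
theorem result {S : Scheme.{u}} [S.IsSeparated]
    (X : AlgSp.Space S) (hX : AlgSp.IsSeparatedSp X.obj) (U V P : Over S) (a : (AlgSp.yon S).obj U ⟶ X.obj) (b : (AlgSp.yon S).obj V ⟶ X.obj)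
      (fst : P ⟶ U) (snd : P ⟶ V)
    (hU : IsAffine U.left) (hV : IsAffine V.left)
    (h : IsPullback ((AlgSp.yon S).map fst) ((AlgSp.yon S).map snd) a b) :
    IsAffine P.left ∧ Function.Surjective
          (Algebra.TensorProduct.productMap fst.left.appTop.hom.toIntAlgHom snd.left.appTop.hom.toIntAlgHom) := by
  exact main X hX U V P a b fst snd hU hV h

end Groth.Agent.S10187
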