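import Groth.Statements.S10188
import Groth.Agent.Lib.Helper11.AlgSpBasic

set_option autoImplicit false
universe u
open CategoryTheory CategoryTheory.Limits AlgebraicGeometry Topology TopologicalSpace
open AlgSp

namespace Groth.Agent.S10188

/-- Let P be a property of schemes that is local in the etale topology (for every scheme V and every
etale covering family of V, V has P if and only if all members have P), and let X be an algebraic
space over a scheme S. Then X has P etale locally (some surjective etale chart from a scheme with P)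
if and only if every scheme admitting a representable etale map to X has P. -/
theorem result {S : Scheme.{u}} (P : Scheme.{u} → Prop)
    (hP : ∀ (V : Scheme.{u}) (𝒰 : Scheme.Cover.{u} (Scheme.precoverage @Etale) V), P V ↔ ∀ i, P (𝒰.X i))
    (X : AlgSp.Space S) :
    AlgSp.EtaleLocally P X.obj ↔
      ∀ (U : Over S) (a : (AlgSp.yon S).obj U ⟶ X.obj), AlgSp.RepWith @Etale a → P U.left := by
  constructor
  · rintro ⟨U, p, hpe, hps, hPU⟩ V a ha
    obtain ⟨W, snd, fst, hpb⟩ := hpe.rep a
    obtain ⟨φ, rfl⟩ := (AlgSp.yon S).map_surjective fst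
    have hsnd_et : Etale snd.left := hpe.2 a _ snd hpb
    have hsnd_surj : Surjective snd.left := hps.2 a _ snd hpb
    have hφ_et : Etale φ.left := ha.2 p _ φ hpb.flip
    -- P W from P U
    have hPW : P W.left := by
      let 𝒰 : Scheme.Cover.{u} (Scheme.precoverage @Etale) U.left :=
        (Scheme.coverOfIsIso.{u} (P := @Etale) (𝟙 U.left)).add φ.left hφ_et
      exact ((hP U.left 𝒰).mp hPU) none
    -- P V from P W
    let 𝒱 : Scheme.Cover.{u} (Scheme.precoverage @Etale) V.left :=
      Scheme.Cover.mkOfCovers PUnit.{u+1} (fun _ => W.left) (fun _ => snd.left)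
        (fun x => ⟨⟨⟩, hsnd_surj.surj x⟩) (fun _ => hsnd_et)
    exact (hP V.left 𝒱).mpr (fun _ => hPW)
  · intro h
    obtain ⟨U, p, hpe, hps⟩ := X.property.atlas
    exact ⟨U, p, hpe, hps, h U p hpe⟩

end Groth.Agent.S10188
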