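import Groth.Statements.S10190
import Groth.Agent.Lib.Helper11.AlgSpBasic
import Mathlib.RingTheory.Ideal.Height
import Mathlib.AlgebraicGeometry.AffineScheme

set_option autoImplicit false
universe u
open CategoryTheory CategoryTheory.Limits AlgebraicGeometry Topology TopologicalSpace
open AlgSp

namespace Groth.Agent.S10190

theorem exists_dim_zero_stalk (U : Scheme.{u}) (V : U.Opens) (hV : (V : Set U).Nonempty) :
    ∃ u ∈ V, ringKrullDim ↥(U.presheaf.stalk u) = 0 := by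
  obtain ⟨u₀, hu₀⟩ := hV
  obtain ⟨_, ⟨W, hW, rfl⟩, hu₀W, hWV⟩ :=
    (U.isBasis_affineOpens).exists_subset_of_mem_open hu₀ V.2
  have hW' : IsAffineOpen W := hW
  obtain ⟨𝔭, h𝔭min, -⟩ := Ideal.exists_minimalPrimes_le
    (bot_le : ⊥ ≤ (hW'.primeIdealOf ⟨u₀, hu₀W⟩).asIdeal)
  have h𝔭 : 𝔭.IsPrime := h𝔭min.1.1
  have hu : hW'.fromSpec ⟨𝔭, h𝔭⟩ ∈ W := by
    have := hW'.range_fromSpec
    rw [← SetLike.mem_coe, ← this]
    exact Set.mem_range_self _
  refine ⟨hW'.fromSpec ⟨𝔭, h𝔭⟩, hWV hu, ?_⟩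
  let _ := TopCat.Presheaf.algebra_section_stalk U.presheaf ⟨hW'.fromSpec ⟨𝔭, h𝔭⟩, hu⟩
  have hloc : IsLocalization.AtPrime (↥(U.presheaf.stalk (hW'.fromSpec ⟨𝔭, h𝔭⟩))) 𝔭 :=
    hW'.isLocalization_stalk' ⟨𝔭, h𝔭⟩ hu
  rw [IsLocalization.AtPrime.ringKrullDim_eq_height 𝔭, Ideal.height_eq_zero_iff.mpr h𝔭min]
  rfl

/-- For an algebraic space X over a scheme S, the set of codimension 0 points of X (points x of |X| such
that, for some representable etale h_U ⟶ X from a scheme U and some point u of U mapping to x, the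
local ring of U at u has dimension 0) is dense in |X|. -/
theorem result {S : Scheme.{u}} (X : AlgSp.Space S) :
    Dense {x : AlgSp.Points X.obj |
      AlgSp.HasAt (fun U u => ringKrullDim ↥(U.presheaf.stalk u) = 0) X.obj x} := by
  obtain ⟨U, p, hpe, hps⟩ := X.property.atlas
  rw [dense_iff_inter_open]
  intro W hW hWne
  obtain ⟨x, hx⟩ := hWne
  obtain ⟨u₀, rfl⟩ := Groth.Agent.Lib.helper11.surjective_ofPt p hps x
  obtain ⟨u, huV, hdim⟩ := exists_dim_zero_stalk U.left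
    ⟨AlgSp.Points.ofPt p ⁻¹' W, hW.preimage (AlgSp.Points.continuous_ofPt p)⟩ ⟨u₀, hx⟩
  exact ⟨AlgSp.Points.ofPt p u, huV, U, p, u, hpe, rfl, hdim⟩

end Groth.Agent.S10190
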