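import Groth.Statements.S10214
import Groth.Agent.S10196

set_option autoImplicit false
universe u
open CategoryTheory CategoryTheory.Limits AlgebraicGeometry Topology TopologicalSpace
open AlgSp

namespace Groth.Agent.S10214

/-- Every algebraic space X over a scheme S has a Zariski covering by open subspaces X_i such that each
X_i has a surjective etale map from an affine scheme; moreover the affine schemes may be taken to
map into affine opens of S. -/
theorem result {S : Scheme.{u}} (X : AlgSp.Space S) :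
    ∃ (ι : Type u) (Xi : ι → AlgSp.Space S) (j : ∀ i, Xi i ⟶ X),
      AlgSp.IsZarCover (fun i => (Xi i).obj) (fun i => (j i).hom) ∧
        ∀ i, ∃ (U : Over S) (p : (AlgSp.yon S).obj U ⟶ (Xi i).obj), IsAffine U.left ∧
          AlgSp.RepWith @Etale p ∧ AlgSp.RepWith @Surjective p ∧
          ∃ W : S.Opens, IsAffineOpen W ∧ ∀ v : ↥U.left, U.hom v ∈ W := by
  obtain ⟨U, a, hae, has⟩ := X.property.atlas
  -- for each point of `U` choose an affine open of `S` and an affine open of `U` inside its preimage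
  have hW : ∀ x : U.left, ∃ W : S.Opens, IsAffineOpen W ∧ U.hom x ∈ W := by
    intro x
    obtain ⟨_, ⟨W, hW, rfl⟩, hxW, -⟩ :=
      (S.isBasis_affineOpens).exists_subset_of_mem_open (Set.mem_univ (U.hom x)) isOpen_univ
    exact ⟨W, hW, hxW⟩
  choose W hWaff hWmem using hW
  have hV : ∀ x : U.left, ∃ V : U.left.Opens, IsAffineOpen V ∧ x ∈ V ∧ V ≤ U.hom ⁻¹ᵁ (W x) := by
    intro x
    obtain ⟨_, ⟨V, hV, rfl⟩, hxV, hVW⟩ :=
      (U.left.isBasis_affineOpens).exists_subset_of_mem_open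
        (show x ∈ ((U.hom ⁻¹ᵁ (W x) : U.left.Opens) : Set U.left) from hWmem x)
        (U.hom ⁻¹ᵁ (W x)).isOpen
    exact ⟨V, hV, hxV, hVW⟩
  choose V' hVaff hVmem hVle using hV
  -- the charts
  let Vo : U.left → Over S := fun x => Over.mk ((V' x).ι ≫ U.hom)
  let m : ∀ x, Vo x ⟶ U := fun x => Over.homMk (V' x).ι rfl
  let b : ∀ x, (AlgSp.yon S).obj (Vo x) ⟶ X.obj := fun x => (AlgSp.yon S).map (m x) ≫ a
  have hbe : ∀ x, AlgSp.RepWith @Etale (b x) := fun x =>
    (AlgSp.repWith_isMultiplicative (S := S) @Etale).comp_mem _ _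
      ((AlgSp.repWith_yon_map_iff _ (m x)).2 (inferInstanceAs (Etale (V' x).ι))) hae
  have hopen : ∀ x, IsOpen (Set.range (AlgSp.Points.ofPt (b x))) := fun x =>
    (Groth.Agent.Lib.helper11.isOpenMap_ofPt (b x) (hbe x)).isOpen_range
  choose Xi j hj1 hj2 hj3 using fun x =>
    Groth.Agent.Lib.helper5.OpenSub.exists_openSub X _ (hopen x)
  refine ⟨U.left, Xi, j, ⟨hj1, ?_⟩, ?_⟩
  · intro y
    obtain ⟨u, rfl⟩ := Groth.Agent.Lib.helper11.surjective_ofPt a has y
    refine ⟨u, ?_⟩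
    rw [hj2 u]
    refine ⟨⟨u, hVmem u⟩, ?_⟩
    rw [Groth.Agent.Lib.helper11.ofPt_yon_map_comp]
    rfl
  · intro x
    obtain ⟨a', _, ha'e, ha's, _⟩ := Groth.Agent.S10196.result (b x) (hbe x) (j x) (hj1 x) (hj2 x)
    refine ⟨Vo x, a', hVaff x, ha'e, ha's, W x, hWaff x, fun v => ?_⟩
    change ((V' x).ι ≫ U.hom) v ∈ W x
    rw [Scheme.Hom.comp_apply]
    exact hVle x v.2

end Groth.Agent.S10214
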