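import Groth.Statements.S10198
import Groth.Agent.S10182
import Groth.Agent.S10214
import Groth.Agent.Lib.Helper5.AlgSpLargestOpen

set_option autoImplicit false
universe u
open CategoryTheory CategoryTheory.Limits AlgebraicGeometry Topology TopologicalSpace
open AlgSp

namespace Groth.Agent.S10198

section cat

variable {C : Type*} [Category C]

theorem isPullback_of_comp_mono {P X Y Z Z' : C} {fst : P ⟶ X} {snd : P ⟶ Y} {f : X ⟶ Z} {g : Y ⟶ Z}
    (m : Z ⟶ Z') [Mono m] (h : IsPullback fst snd (f ≫ m) (g ≫ m)) : IsPullback fst snd f g := by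
  have w : fst ≫ f = snd ≫ g := by
    rw [← cancel_mono m, Category.assoc, Category.assoc, h.w]
  refine ⟨⟨w⟩, ⟨PullbackCone.IsLimit.mk _
    (fun s => h.lift s.fst s.snd (by rw [← Category.assoc, s.condition, Category.assoc]))
    (fun s => h.lift_fst _ _ _) (fun s => h.lift_snd _ _ _)
    (fun s l h1 h2 => h.hom_ext (by rw [h1, h.lift_fst]) (by rw [h2, h.lift_snd]))⟩⟩

theorem isPullback_diag_of_mono [HasBinaryProducts C] {A B : C} (j : A ⟶ B) [Mono j] :
    IsPullback j (Limits.diag A) (Limits.diag B) (prod.map j j) := by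
  refine IsPullback.mk' ?_ ?_ ?_
  · apply Limits.prod.hom_ext <;> simp
  · intro T φ φ' h1 _
    exact (cancel_mono j).1 h1
  · intro T a b h
    have h1 : a = (b ≫ prod.fst) ≫ j := by
      have := congrArg (· ≫ prod.fst) h
      simpa [Limits.diag, prod.lift_fst] using this
    have h2 : a = (b ≫ prod.snd) ≫ j := by
      have := congrArg (· ≫ prod.snd) h
      simpa [Limits.diag, prod.lift_snd] using this
    have h3 : b ≫ prod.fst = b ≫ prod.snd := (cancel_mono j).1 (h1.symm.trans h2)
    refine ⟨b ≫ prod.fst, h1.symm, ?_⟩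
    apply Limits.prod.hom_ext
    · simp [Limits.diag, prod.lift_fst]
    · simp [Limits.diag, prod.lift_snd, h3]

end cat

variable {S : Scheme.{u}}

/-- A subsheaf of a quasi-separated sheaf is quasi-separated. -/
theorem isQuasiSeparatedSp_of_mono {X' X : Sp S} (j : X' ⟶ X) [Mono j] (h : IsQuasiSeparatedSp X) :
    IsQuasiSeparatedSp X' :=
  (repWith_isStableUnderBaseChange (S := S) @QuasiCompact).of_isPullback (isPullback_diag_of_mono j) h

/-- An affine chart of a quasi-separated algebraic space, surjective and lying over an affine open of the base, is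
quasi-compact. -/
theorem repWith_quasiCompact_chart {Y : Sp S} (hY : IsAlgSpace Y) (hqs : IsQuasiSeparatedSp Y) (U : Over S)
    (hU : IsAffine U.left) (p : (yon S).obj U ⟶ Y) (hps : RepWith @Surjective p) (W : S.Opens)
    (hW : IsAffineOpen W) (hUW : ∀ v : ↥U.left, U.hom v ∈ W) : RepWith @QuasiCompact p := by
  refine ⟨hY.representable_from_yon p, ?_⟩
  intro T P g fst snd sq
  show QuasiCompact snd.left
  obtain ⟨fst', rfl⟩ := (yon S).map_surjective fst
  -- `T` lies over `W`
  have hsurj : Surjective snd.left := hps.2 g _ snd sq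
  have hTW : ∀ t : ↥T.left, T.hom t ∈ W := by
    intro t
    obtain ⟨x, rfl⟩ := hsurj.surj t
    have h1 : T.hom (snd.left x) = U.hom (fst'.left x) := by
      rw [← Scheme.Hom.comp_apply, ← Scheme.Hom.comp_apply, Over.w snd, Over.w fst']
    rw [h1]
    exact hUW _
  -- the map to the product is quasi-compact
  obtain ⟨E, gE, fstE, sqE⟩ := hqs.rep (prodComparison (yon S) U T ≫ prod.map p g)
  have hqc : QuasiCompact gE.left := hqs.2 _ fstE gE sqE
  have sq' : IsPullback fstE ((yon S).map gE ≫ prodComparison (yon S) U T) (Limits.diag Y)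
      (prod.map p g) :=
    sqE.of_iso (Iso.refl _) (Iso.refl _) (asIso (prodComparison (yon S) U T)) (Iso.refl _)
      (by simp) (by simp) (by simp) (by simp)
  have sq'' := Groth.Agent.Lib.helper15.AlgSpDiag.isPullback_of_isPullback_diag sq'
  have e1 : ((yon S).map gE ≫ prodComparison (yon S) U T) ≫ prod.fst =
      (yon S).map (gE ≫ prod.fst) := by
    rw [Category.assoc, prodComparison_fst, Functor.map_comp]
  have e2 : ((yon S).map gE ≫ prodComparison (yon S) U T) ≫ prod.snd =
      (yon S).map (gE ≫ prod.snd) := by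
    rw [Category.assoc, prodComparison_snd, Functor.map_comp]
  rw [e1, e2] at sq''
  let e : (yon S).obj P ≅ (yon S).obj E := sq.isoIsPullback _ _ sq''
  let e' : P ≅ E := (yon S).preimageIso e
  have he2 : e'.hom ≫ gE ≫ prod.snd = snd := by
    apply (yon S).map_injective
    rw [Functor.map_comp, Functor.preimageIso_hom, Functor.map_preimage]
    exact sq.isoIsPullback_hom_snd _ _ sq''
  -- the projection `U ⨯ T ⟶ T` is quasi-compact
  have hUr : Set.range U.hom ⊆ Set.range W.ι := by
    rintro _ ⟨v, rfl⟩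
    rw [Scheme.Opens.range_ι]
    exact hUW v
  have hTr : Set.range T.hom ⊆ Set.range W.ι := by
    rintro _ ⟨t, rfl⟩
    rw [Scheme.Opens.range_ι]
    exact hTW t
  let u' : U.left ⟶ (W : Scheme.{u}) := IsOpenImmersion.lift W.ι U.hom hUr
  let t' : T.left ⟶ (W : Scheme.{u}) := IsOpenImmersion.lift W.ι T.hom hTr
  have hu' : u' ≫ W.ι = U.hom := IsOpenImmersion.lift_fac _ _ _
  have ht' : t' ≫ W.ι = T.hom := IsOpenImmersion.lift_fac _ _ _
  have hprod : IsPullback (prod.fst : U ⨯ T ⟶ U).left (prod.snd : U ⨯ T ⟶ T).left U.hom T.hom := by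
    refine IsPullback.of_iso_pullback ⟨by rw [Over.w, Over.w]⟩ (Over.prodLeftIsoPullback U T) ?_ ?_
    · exact Over.prodLeftIsoPullback_hom_fst U T
    · exact Over.prodLeftIsoPullback_hom_snd U T
  rw [← hu', ← ht'] at hprod
  have hprod' := isPullback_of_comp_mono W.ι hprod
  have hWaff : IsAffine (W : Scheme.{u}) := hW
  have hUaff : IsAffine U.left := hU
  have hu'qc : QuasiCompact u' := inferInstance
  have hsndqc : QuasiCompact (prod.snd : U ⨯ T ⟶ T).left :=
    MorphismProperty.of_isPullback (P := @QuasiCompact) hprod' hu'qc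
  have : snd.left = e'.hom.left ≫ gE.left ≫ (prod.snd : U ⨯ T ⟶ T).left := by
    rw [← Over.comp_left, ← Over.comp_left, he2]
  rw [this]
  infer_instance

/-- (1) if and only if (3): for an algebraic space X over a scheme S, X is Zariski locally
quasi-separated over S (it has a Zariski covering by open subspaces whose diagonals over S are
quasi-compact) if and only if X has a Zariski covering by open subspaces each of which admits a
quasi-compact, etale, surjective map from an affine scheme. Since the second condition does not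
mention S, being Zariski locally quasi-separated does not depend on the base. -/
theorem result {S : Scheme.{u}} (X : AlgSp.Space S) :
    (∃ (ι : Type u) (Xi : ι → AlgSp.Space S) (j : ∀ i, Xi i ⟶ X),
        AlgSp.IsZarCover (fun i => (Xi i).obj) (fun i => (j i).hom) ∧ ∀ i, AlgSp.IsQuasiSeparatedSp (Xi i).obj) ↔
      (∃ (ι : Type u) (Xi : ι → AlgSp.Space S) (j : ∀ i, Xi i ⟶ X),
        AlgSp.IsZarCover (fun i => (Xi i).obj) (fun i => (j i).hom) ∧
          ∀ i, ∃ (U : Over S) (p : (AlgSp.yon S).obj U ⟶ (Xi i).obj), IsAffine U.left ∧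
            AlgSp.RepWith @QuasiCompact p ∧ AlgSp.RepWith @Etale p ∧ AlgSp.RepWith @Surjective p) := by
  constructor
  · rintro ⟨ι, Xi, j, ⟨hj1, hj2⟩, hqs⟩
    choose κ Xia ja hcov hch using fun i => Groth.Agent.S10214.result (Xi i)
    refine ⟨Σ i, κ i, fun a => Xia a.1 a.2, fun a => ja a.1 a.2 ≫ j a.1, ⟨?_, ?_⟩, ?_⟩
    · rintro ⟨i, a⟩
      exact (AlgSp.repWith_isMultiplicative (S := S) @IsOpenImmersion).comp_mem _ _ ((hcov i).1 a) (hj1 i)
    · intro x
      obtain ⟨i, y, rfl⟩ := hj2 x
      obtain ⟨a, z, rfl⟩ := (hcov i).2 y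
      exact ⟨⟨i, a⟩, z, Points.map_comp _ _ z⟩
    · rintro ⟨i, a⟩
      obtain ⟨U, p, hU, hpe, hps, W, hW, hUW⟩ := hch i a
      have hm : Mono (ja i a).hom := Groth.Agent.Lib.helper5.LargestOpen.mono_of_oi ((hcov i).1 a)
      have hqs' : IsQuasiSeparatedSp (Xia i a).obj := isQuasiSeparatedSp_of_mono (ja i a).hom (hqs i)
      exact ⟨U, p, hU, repWith_quasiCompact_chart (Xia i a).property hqs' U hU p hps W hW hUW, hpe, hps⟩
  · rintro ⟨ι, Xi, j, hj, hch⟩
    refine ⟨ι, Xi, j, hj, fun i => ?_⟩
    obtain ⟨U, p, hU, hpq, hpe, hps⟩ := hch i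
    obtain ⟨R, t, fst, sq⟩ := hpq.rep p
    have ht : QuasiCompact t.left := hpq.2 p fst t sq
    obtain ⟨s, rfl⟩ := (yon S).map_surjective fst
    have hUaff : IsAffine U.left := hU
    exact Groth.Agent.S10182.result (Xi i) p hpe hps s t sq.flip

end Groth.Agent.S10198
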