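import Groth.Statements.S10200
import Groth.Agent.Lib.Helper1.CodimZeroSch

set_option autoImplicit false
universe u
open CategoryTheory CategoryTheory.Limits AlgebraicGeometry Topology TopologicalSpace
open AlgSp

namespace Groth.Agent.S10200

open Groth.Agent.H1.GenFin Groth.Agent.Lib.helper15.AlgSpDiag

theorem main {S : Scheme.{u}} (X : AlgSp.Space S)
    (hX : ∃ (ι : Type u) (Xi : ι → AlgSp.Space S) (j : ∀ i, Xi i ⟶ X),
        AlgSp.IsZarCover (fun i => (Xi i).obj) (fun i => (j i).hom) ∧ ∀ i, AlgSp.IsQuasiSeparatedSp (Xi i).obj) :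
    ∃ (X' : AlgSp.Space S) (j : X' ⟶ X), AlgSp.RepWith @IsOpenImmersion j.hom ∧ X'.obj.obj.IsRepresentable ∧
      Dense (Set.range (AlgSp.Points.map j.hom)) ∧
      ∀ x : AlgSp.Points X.obj, AlgSp.HasAt (fun U u => ringKrullDim ↥(U.presheaf.stalk u) = 0) X.obj x →
        x ∈ Set.range (AlgSp.Points.map j.hom) := by
  obtain ⟨ι, Xi, j, ⟨hoi, hcov⟩, hqs⟩ := hX
  refine Groth.Agent.S10204.exists_dense_of_dimZero X ?_
  intro x hx
  obtain ⟨i, xi, rfl⟩ := hcov x
  have hje : RepWith @Etale (j i).hom :=
    repWith_mono_iff_le (fun _ _ f hf => by haveI : IsOpenImmersion f := hf; infer_instance) (hoi i)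
  have hxi : HasAt D0 (Xi i).obj xi :=
    (hasAt_dimZero_map_iff (Xi i).property X.property (j i).hom hje xi).2 hx
  obtain ⟨X'', j'', hj'', hrep, y, rfl⟩ :=
    Groth.Agent.H1.CodimZeroSch.exists_open_representable_of_dimZero (Xi i) (hqs i) xi hxi
  refine ⟨X'', j'' ≫ j i, ?_, hrep, y, ?_⟩
  · exact (RepWith (S := S) @IsOpenImmersion).comp_mem _ _ hj'' (hoi i)
  · exact Points.map_comp _ _ _

/-- Let X be an algebraic space over a scheme S that is Zariski locally quasi-separated over S (for
example quasi-separated over S). Then there is a dense open subspace of X which is a scheme; more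
precisely there is an open subspace X' ⟶ X with representable underlying sheaf such that |X'| is
dense in |X| and contains every codimension 0 point of X (every point under which some etale chart
has a zero-dimensional local ring). -/
theorem result {S : Scheme.{u}} (X : AlgSp.Space S)
    (hX : ∃ (ι : Type u) (Xi : ι → AlgSp.Space S) (j : ∀ i, Xi i ⟶ X),
        AlgSp.IsZarCover (fun i => (Xi i).obj) (fun i => (j i).hom) ∧ ∀ i, AlgSp.IsQuasiSeparatedSp (Xi i).obj) :
    ∃ (X' : AlgSp.Space S) (j : X' ⟶ X), AlgSp.RepWith @IsOpenImmersion j.hom ∧ X'.obj.obj.IsRepresentable ∧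
      Dense (Set.range (AlgSp.Points.map j.hom)) ∧
      ∀ x : AlgSp.Points X.obj, AlgSp.HasAt (fun U u => ringKrullDim ↥(U.presheaf.stalk u) = 0) X.obj x →
        x ∈ Set.range (AlgSp.Points.map j.hom) := by
  exact main X hX

end Groth.Agent.S10200
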