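import Groth.Statements.S10202
import Groth.Agent.Lib.Helper11.AlgSpBasic
import Mathlib.AlgebraicGeometry.Noetherian

set_option autoImplicit false
universe u
open CategoryTheory CategoryTheory.Limits AlgebraicGeometry Topology TopologicalSpace
open AlgSp

namespace Groth.Agent.S10202

/-- If X is a locally Noetherian algebraic space over a scheme S, then the space |X| is locally
Noetherian: every point of |X| has an open neighbourhood which is a Noetherian topological space in
the induced topology. -/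
theorem result {S : Scheme.{u}} (X : AlgSp.Space S)
    (hX : AlgSp.IsLocNoethSp X.obj) (x : AlgSp.Points X.obj) :
    ∃ W : Set (AlgSp.Points X.obj), IsOpen W ∧ x ∈ W ∧ NoetherianSpace ↥W := by
  obtain ⟨U, p, hpe, hps, hU⟩ := hX
  obtain ⟨u, rfl⟩ := Groth.Agent.Lib.helper11.surjective_ofPt p hps x
  have : IsLocallyNoetherian U.left := hU
  obtain ⟨_, ⟨U₀, hU₀, rfl⟩, hu, -⟩ :=
    (U.left.isBasis_affineOpens).exists_subset_of_mem_open (Set.mem_univ u) isOpen_univ
  have hN : IsNoetherianRing Γ(U.left, U₀) := IsLocallyNoetherian.component_noetherian ⟨U₀, hU₀⟩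
  have hNS : NoetherianSpace U₀ := noetherianSpace_of_isAffineOpen U₀ hU₀
  refine ⟨AlgSp.Points.ofPt p '' (U₀ : Set ↥U.left),
    Groth.Agent.Lib.helper11.isOpenMap_ofPt p hpe _ U₀.2, ⟨u, hu, rfl⟩, ?_⟩
  rw [noetherianSpace_set_iff]
  intro t ht
  have h1 : t = AlgSp.Points.ofPt p '' ((U₀ : Set ↥U.left) ∩ AlgSp.Points.ofPt p ⁻¹' t) := by
    ext y
    constructor
    · intro hy
      obtain ⟨v, hv, rfl⟩ := ht hy
      exact ⟨v, ⟨hv, hy⟩, rfl⟩
    · rintro ⟨v, ⟨_, hv⟩, rfl⟩
      exact hv
  rw [h1]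
  exact ((noetherianSpace_set_iff _).mp hNS _ Set.inter_subset_left).image
    (AlgSp.Points.continuous_ofPt p)

end Groth.Agent.S10202
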