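import Groth.Statements.S10203
import Mathlib
import Groth.Agent.Lib.Helper11.AlgSpBasic

set_option autoImplicit false
universe u
open CategoryTheory CategoryTheory.Limits AlgebraicGeometry Topology TopologicalSpace
open AlgSp

namespace Groth.Agent.S10203



/-- If X is a quasi-compact, locally Noetherian algebraic space over a scheme S, then |X| is a
Noetherian topological space. -/
theorem result {S : Scheme.{u}} (X : AlgSp.Space S)
    (hqc : AlgSp.IsQuasiCompactSp X.obj) (hX : AlgSp.IsLocNoethSp X.obj) :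
    NoetherianSpace (AlgSp.Points X.obj) := by
  obtain ⟨U, p, hpe, hps, hqc⟩ := hqc
  obtain ⟨U', p', hpe', hps', hN⟩ := hX
  obtain ⟨W, snd, fst, hpb⟩ := hpe'.rep p
  obtain ⟨φ, rfl⟩ := (yon S).map_surjective fst
  have hsnd_et : Etale snd.left := hpe'.2 _ _ snd hpb
  have hsnd_surj : Surjective snd.left := hps'.2 _ _ snd hpb
  have hφ_et : Etale φ.left := hpe.2 _ _ φ hpb.flip
  have : IsLocallyNoetherian U'.left := hN
  have : IsLocallyNoetherian W.left := LocallyOfFiniteType.isLocallyNoetherian φ.left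
  have : CompactSpace ↥U.left := hqc
  have hopen : IsOpenMap snd.left := snd.left.isOpenMap
  have hcov : (Set.univ : Set ↥U.left) ⊆
      ⋃ i : W.left.affineOpens, snd.left '' ((i : W.left.Opens) : Set ↥W.left) := by
    intro u _
    obtain ⟨w, rfl⟩ := hsnd_surj.surj u
    obtain ⟨_, ⟨W₀, hW₀, rfl⟩, hw, -⟩ :=
      (W.left.isBasis_affineOpens).exists_subset_of_mem_open (Set.mem_univ w) isOpen_univ
    exact Set.mem_iUnion.mpr ⟨⟨W₀, hW₀⟩, w, hw, rfl⟩
  obtain ⟨s, hs⟩ := isCompact_univ.elim_finite_subcover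
    (fun i : W.left.affineOpens => snd.left '' ((i : W.left.Opens) : Set ↥W.left))
    (fun i => hopen _ (i : W.left.Opens).2) hcov
  have hq : Continuous (Points.ofPt ((yon S).map snd ≫ p)) := Points.continuous_ofPt _
  have hpsurj := Groth.Agent.Lib.helper11.surjective_ofPt p hps
  have huniv : (Set.univ : Set (Points X.obj)) =
      ⋃ i : {i // i ∈ s}, Points.ofPt ((yon S).map snd ≫ p) '' ((i.1 : W.left.Opens) : Set ↥W.left) := by
    symm
    rw [Set.eq_univ_iff_forall]
    intro x
    obtain ⟨u, rfl⟩ := hpsurj x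
    have hu := hs (Set.mem_univ u)
    simp only [Set.mem_iUnion] at hu
    obtain ⟨i, hi, w, hw, rfl⟩ := hu
    refine Set.mem_iUnion.mpr ⟨⟨i, hi⟩, w, hw, ?_⟩
    rw [Groth.Agent.Lib.helper11.ofPt_yon_map_comp]
  rw [← TopologicalSpace.noetherian_univ_iff, huniv]
  have : ∀ i : {i // i ∈ s}, TopologicalSpace.NoetherianSpace
      ↥(Points.ofPt ((yon S).map snd ≫ p) '' ((i.1 : W.left.Opens) : Set ↥W.left)) := fun i => by
    have : IsNoetherianRing Γ(W.left, i.1.1) := IsLocallyNoetherian.component_noetherian i.1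
    have : TopologicalSpace.NoetherianSpace ↥(i.1 : W.left.Opens) :=
      noetherianSpace_of_isAffineOpen i.1.1 i.1.2
    rw [Set.image_eq_range]
    exact TopologicalSpace.NoetherianSpace.range _ (hq.comp continuous_subtype_val)
  exact TopologicalSpace.NoetherianSpace.iUnion _

end Groth.Agent.S10203
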