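import Groth.Statements.S10205
import Groth.Agent.Lib.Helper5.FieldQuotQS
import Groth.Agent.S9885
import Groth.Agent.S10194

set_option autoImplicit false
universe u
open CategoryTheory CategoryTheory.Limits AlgebraicGeometry Topology TopologicalSpace
open AlgSp

namespace Groth.Agent.S10205

/-- Let X be an algebraic space over a scheme S, k a field with a structure morphism Spec k ⟶ S, and p :
h_{Spec k} ⟶ X a surjective etale map. If the diagonal of X over S is quasi-compact, then X ≅
h_{Spec k'} for a field k' over S, where p corresponds to a finite etale morphism Spec k ⟶ Spec k'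
over S (that is, k is a finite separable extension of k'). (The published statement assumes X
quasi-separated in the absolute sense; the argument only uses that Spec k ×_X Spec k is
quasi-compact, which already follows from quasi-compactness of the diagonal over S since Spec k ×_S
Spec k is affine.) -/
theorem result {S : Scheme.{u}} (X : AlgSp.Space S)
    (hX : AlgSp.IsQuasiSeparatedSp X.obj) (k : Type u) [Field k] (str : Spec (CommRingCat.of k) ⟶ S)
    (p : (AlgSp.yon S).obj (Over.mk str) ⟶ X.obj) (hp : AlgSp.RepWith @Etale p) (hs : AlgSp.RepWith @Surjective p) :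
    ∃ (k' : Type u) (_ : Field k') (str' : Spec (CommRingCat.of k') ⟶ S)
      (e : (AlgSp.yon S).obj (Over.mk str') ≅ X.obj) (c : Over.mk str ⟶ Over.mk str'),
      (AlgSp.yon S).map c ≫ e.hom = p ∧ IsFinite c.left ∧ Etale c.left := by
  open Groth.Agent.Lib.helper5.FieldQuot in
  let q : FieldPt X.obj := fieldPtOfHom k str p
  have hq : q.toHom = p := toHom_fieldPtOfHom k str p
  have hqc : RepWith @QuasiCompact q.toHom := repWith_quasiCompact_fieldPt X.property hX q
  have sq : IsPullback (pullback.fst q.toHom q.toHom) (pullback.snd q.toHom q.toHom) q.toHom q.toHom :=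
    IsPullback.of_hasPullback _ _
  have he : RepWith @Etale (pullback.fst q.toHom q.toHom) :=
    (repWith_isStableUnderBaseChange (S := S) @Etale).of_isPullback sq.flip (hq ▸ hp)
  have hqc' : RepWith @QuasiCompact (pullback.fst q.toHom q.toHom) :=
    (repWith_isStableUnderBaseChange (S := S) @QuasiCompact).of_isPullback sq.flip hqc
  obtain ⟨p', c, hfac, hm, hfin⟩ := exists_mono_point_of_etale_qc q _ _ sq he hqc'
  -- `p'.toHom` is an epimorphism
  have hls : Sheaf.IsLocallySurjective p :=
    Groth.Agent.S9885.result S _ _ _
      (Groth.Agent.S10194.repWith_mono (fun _ _ g hg => by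
        have : Etale g := hg
        exact (inferInstance : Flat g)) hp)
      (Groth.Agent.S10194.repWith_mono (fun _ _ g hg => by
        have : Etale g := hg
        exact (inferInstance : LocallyOfFinitePresentation g)) hp) hs
  have hepi : Epi p := inferInstance
  have hepi' : Epi ((yon S).map c ≫ p'.toHom) := by rw [hfac, hq]; exact hepi
  have hepi'' : Epi p'.toHom := epi_of_epi ((yon S).map c) p'.toHom
  have hiso : IsIso p'.toHom := isIso_of_mono_of_epi p'.toHom
  refine ⟨p'.K, inferInstance, p'.str, asIso p'.toHom, c, ?_, hfin, ?_⟩
  · exact hfac.trans hq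
  · have h1 : (yon S).map c = p ≫ inv p'.toHom := (IsIso.eq_comp_inv _).2 (hfac.trans hq)
    have h2 : RepWith @Etale ((yon S).map c) := by
      rw [h1]
      exact MorphismProperty.RespectsIso.postcomp _ (inv p'.toHom) _ hp
    exact (repWith_yon_map_iff @Etale c).1 h2

end Groth.Agent.S10205
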