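import Groth.Statements.S10352
import Groth.Agent.S10360

set_option autoImplicit false
universe u
open CategoryTheory CategoryTheory.Limits AlgebraicGeometry Topology TopologicalSpace
open AlgSp

namespace Groth.Agent.S10352

/-- Let S be a scheme, X and Y algebraic spaces over S, and f : X ⟶ Y an etale morphism. If Y is decent
then X is decent. -/
theorem result {S : Scheme.{u}} {X Y : AlgSp.Space S} (f : X ⟶ Y)
    (hf : AlgSp.IsEtaleMor f.hom) (hY : AlgSp.IsDecent Y.obj) : AlgSp.IsDecent X.obj := by
  intro x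
  obtain ⟨py, hpy, hmy, hqy⟩ := hY (Points.map f.hom x)
  refine (Groth.Agent.S10360.result X x).1 ?_
  intro U φ hU hφ R s t sq
  have hφf : RepWith @Etale (φ ≫ f.hom) := hf φ hφ
  have hcomp : CompactSpace ↥U.left := inferInstance
  have hFY : (Points.ofPt (φ ≫ f.hom) ⁻¹' {Points.map f.hom x}).Finite := by
    rw [← hpy]
    exact Groth.Agent.S10343.finite_fibre_of_qc_point py hqy (φ ≫ f.hom) hφf
  have hsub : Points.ofPt φ ⁻¹' {x} ⊆ Points.ofPt (φ ≫ f.hom) ⁻¹' {Points.map f.hom x} := by
    intro u hu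
    have hu' : Points.ofPt φ u = x := hu
    change Points.ofPt (φ ≫ f.hom) u = _
    rw [← Points.map_ofPt, hu']
  have hF := hFY.subset hsub
  refine ⟨hF, ?_⟩
  obtain ⟨RY, sY, tY', sqY⟩ := hφf.1 (φ ≫ f.hom)
  obtain ⟨tY, rfl⟩ := (yon S).map_surjective tY'
  obtain ⟨l', hl1, hl2⟩ := sqY.exists_lift ((yon S).map t) ((yon S).map s) (by
    rw [← Category.assoc, ← Category.assoc, sq.w])
  obtain ⟨l, rfl⟩ := (yon S).map_surjective l'
  have hlt : l ≫ tY = t := (yon S).map_injective (by rw [Functor.map_comp, hl1])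
  have hls : l ≫ sY = s := (yon S).map_injective (by rw [Functor.map_comp, hl2])
  have hml : Mono l := by
    constructor
    intro Z a b hab
    have h1 : a ≫ t = b ≫ t := by rw [← hlt, ← Category.assoc, hab, Category.assoc]
    have h2 : a ≫ s = b ≫ s := by rw [← hls, ← Category.assoc, hab, Category.assoc]
    apply (yon S).map_injective
    apply sq.hom_ext
    · rw [← Functor.map_comp, ← Functor.map_comp, h1]
    · rw [← Functor.map_comp, ← Functor.map_comp, h2]
  have hml' : Mono l.left := inferInstance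
  have hinj : Function.Injective l.left := l.left.injective
  have hpair : ∀ u ∈ Points.ofPt φ ⁻¹' {x}, ∀ u' ∈ Points.ofPt φ ⁻¹' {x},
      {r : ↥R.left | s.left r = u ∧ t.left r = u'}.Finite := by
    intro u hu u' hu'
    have hY' := Groth.Agent.S10408.result Y (Points.map f.hom x) ⟨py, hpy, hmy⟩ (φ ≫ f.hom) hφf u u'
      (hsub hu) (hsub hu') RY sY tY sqY
    have : Finite {r' : ↥RY.left | sY.left r' = u ∧ tY.left r' = u'} := hY'
    have hmem : ∀ r : {r : ↥R.left | s.left r = u ∧ t.left r = u'},
        l.left r.1 ∈ {r' : ↥RY.left | sY.left r' = u ∧ tY.left r' = u'} := by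
      rintro ⟨r, hr1, hr2⟩
      constructor
      · change (l ≫ sY).left r = u
        rw [hls]; exact hr1
      · change (l ≫ tY).left r = u'
        rw [hlt]; exact hr2
    have : Finite {r : ↥R.left | s.left r = u ∧ t.left r = u'} :=
      Finite.of_injective (fun r => (⟨l.left r.1, hmem r⟩ :
        {r' : ↥RY.left | sY.left r' = u ∧ tY.left r' = u'}))
        (fun a b hab => Subtype.ext (hinj (congrArg Subtype.val hab)))
    exact Set.toFinite _
  refine ((hF.biUnion (fun u hu => hF.biUnion (fun u' hu' => hpair u hu u' hu')))).subset ?_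
  intro r hr
  have hr' : Points.ofPt ((yon S).map t ≫ φ) r = x := hr
  have h1 : Points.ofPt φ (t.left r) = x := by
    rw [← Groth.Agent.Lib.helper11.ofPt_yon_map_comp]; exact hr'
  have h2 : Points.ofPt φ (s.left r) = x := by
    rw [← Groth.Agent.Lib.helper11.ofPt_yon_map_comp, ← sq.w]; exact hr'
  simp only [Set.mem_iUnion]
  exact ⟨s.left r, h2, t.left r, h1, rfl, rfl⟩

end Groth.Agent.S10352
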