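import Groth.Statements.S10582
import Groth.Agent.Lib.Helper5.AlgSpEpi
import Groth.Agent.Lib.Helper5.AlgSpFibreProduct
import Groth.Agent.Lib.Helper5.AlgSpUniv3
import Groth.Agent.Lib.Helper7.AlgSpFibre
import Groth.Agent.S9888
import Groth.Agent.S10194
import Mathlib.AlgebraicGeometry.Morphisms.LocalFlatDescent

set_option autoImplicit false
universe u
open CategoryTheory CategoryTheory.Limits AlgebraicGeometry
open AlgSp

namespace Groth.Agent.S10582

variable {S : Scheme.{u}}

/-- For a mono `φ : F ⟶ h_B` with an étale chart `q : h_A ⟶ F` such that the induced `g : A ⟶ B` is flat,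
surjective and quasi-compact, `g` is étale (fpqc descent of étaleness along `g` itself). -/
theorem etale_of_mono_chart {F : Sp S} {A B : Over S} (φ : F ⟶ (yon S).obj B) [Mono φ]
    (q : (yon S).obj A ⟶ F) (hq : RepWith @Etale q) (g : A ⟶ B) (hg : (yon S).map g = q ≫ φ)
    (h1 : Flat g.left) (h2 : Surjective g.left) (h3 : QuasiCompact g.left) : Etale g.left := by
  have sq0 := IsPullback.of_hasPullback g g
  have sq1 := sq0.map (yon S)
  rw [hg] at sq1
  have sq2 := (Groth.Agent.S9888.isPullback_comp_mono_iff φ).1 sq1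
  have het : Etale (pullback.snd g g).left := hq.2 _ _ _ sq2
  have sq3 := sq0.map (Over.forget S)
  exact MorphismProperty.of_isPullback_of_descendsAlong (P := @Etale)
    (Q := @Surjective ⊓ @Flat ⊓ @QuasiCompact) sq3.flip ⟨⟨h2, h1⟩, h3⟩ het

/-- surjectivity of a morphism of schemes from surjectivity on points of the sheaves -/
theorem surjective_of_points {A B : Over S} (g : A ⟶ B)
    (h : Function.Surjective (Points.map ((yon S).map g))) : Surjective g.left := by
  rw [Points.map_yon_map_eq] at h
  constructor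
  intro y
  obtain ⟨x, hx⟩ := h (Points.schemeHomeo B y)
  exact ⟨(Points.schemeHomeo A).symm x, (Points.schemeHomeo B).injective hx⟩

open Groth.Agent.Lib.helper5 Groth.Agent.Lib.helper5.Epi in
/-- The local statement: over an affine étale chart `b : h_B ⟶ Y`, there is a scheme `A` étale and surjective over `B`
with a lift to `X`. -/
theorem exists_local_lift {X Y : Sp S} (hX : IsAlgSpace X) (hY : IsAlgSpace Y) (f : X ⟶ Y) [Mono f]
    (hqc : IsQuasiCompactMor f) (hflat : LocP @Flat f) (hsurj : IsSurjectiveMor f)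
    {B : Over S} (hB : IsAffine B.left) (b : (yon S).obj B ⟶ Y) (hb : RepWith @Etale b) :
    ∃ (A : Over S) (g : A ⟶ B) (x : (yon S).obj A ⟶ X),
      Sheaf.IsLocallySurjective ((yon S).map g) ∧ x ≫ f = (yon S).map g ≫ b := by
  have sq : IsPullback (pullback.fst f b) (pullback.snd f b) f b := IsPullback.of_hasPullback f b
  have hF : IsAlgSpace (pullback f b) :=
    isAlgSpace_of_isPullback hY.diag hX (IsAlgSpace.yon_obj B) sq
  have hBqc : IsQuasiCompactSp ((yon S).obj B) :=
    ⟨B, 𝟙 _, repWith_id _ _, repWith_id _ _, (inferInstance : CompactSpace ↥B.left)⟩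
  have hFqc : IsQuasiCompactSp (pullback f b) :=
    hqc (IsAlgSpace.yon_obj B) hBqc b _ _ sq
  have : CompactSpace (Points (pullback f b)) :=
    Groth.Agent.Lib.helper7.AlgSpFibre.compactSpace_of_isQuasiCompactSp hFqc
  obtain ⟨U, a, hae, has⟩ := hF.atlas
  obtain ⟨A, q, hA, hqe, hqs⟩ :=
    Groth.Agent.Lib.helper11.exists_affine_chart_of_compactSpace a hae has
  obtain ⟨g, hg⟩ := (yon S).map_surjective (q ≫ pullback.snd f b)
  have hfst : RepWith @Etale (pullback.fst f b) :=
    (AlgSp.repWith_isStableUnderBaseChange (S := S) @Etale).of_isPullback sq.flip hb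
  have hqf : RepWith @Etale (q ≫ pullback.fst f b) :=
    (AlgSp.repWith_isMultiplicative (S := S) @Etale).comp_mem _ _ hqe hfst
  have h1 : Flat g.left := by
    refine hflat (q ≫ pullback.fst f b) b g hqf hb ?_
    rw [Category.assoc, sq.w, ← Category.assoc, hg]
  have h2 : Surjective g.left := by
    apply surjective_of_points
    rw [hg]
    have : Points.map (q ≫ pullback.snd f b) = Points.map (pullback.snd f b) ∘ Points.map q := by
      funext x; exact Points.map_comp _ _ x
    rw [this]
    exact (Groth.Agent.Lib.helper7.AlgSpFibre.surjective_of_isPullback sq hsurj).comp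
      (surjective_map_of_repWith_surjective q hqs)
  have h3 : QuasiCompact g.left := inferInstance
  have : Mono (pullback.snd f b) := inferInstance
  have het : Etale g.left := etale_of_mono_chart (pullback.snd f b) q hqe g hg h1 h2 h3
  have hls : Sheaf.IsLocallySurjective ((yon S).map g) :=
    Groth.Agent.S9885.result S _ _ _
      ((AlgSp.repWith_yon_map_iff _ g).2 (inferInstance : Flat g.left))
      ((AlgSp.repWith_yon_map_iff _ g).2 (inferInstance : LocallyOfFinitePresentation g.left))
      ((AlgSp.repWith_yon_map_iff _ g).2 h2)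
  refine ⟨A, g, q ≫ pullback.fst f b, hls, ?_⟩
  rw [Category.assoc, sq.w, ← Category.assoc, hg]

open Groth.Agent.Lib.helper5 Groth.Agent.Lib.helper5.Epi in
theorem main {X Y : Sp S} (hX : IsAlgSpace X) (hY : IsAlgSpace Y) (f : X ⟶ Y) [Mono f]
    (hqc : IsQuasiCompactMor f) (hflat : LocP @Flat f) (hsurj : IsSurjectiveMor f) : IsIso f := by
  refine isIso_of_mono_of_liftSieve f ?_
  obtain ⟨V, e, hee, hes⟩ := hY.atlas
  have hels : Sheaf.IsLocallySurjective e :=
    Groth.Agent.S9885.result S _ _ e
      (Groth.Agent.S10194.repWith_mono (fun _ _ g hg => by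
        have : Etale g := hg
        exact (inferInstance : Flat g)) hee)
      (Groth.Agent.S10194.repWith_mono (fun _ _ g hg => by
        have : Etale g := hg
        exact (inferInstance : LocallyOfFinitePresentation g)) hee) hes
  refine liftSieve_mem_of_charts f e hels ?_
  intro v
  have hex : ∃ W : V.left.Opens, IsAffineOpen W ∧ v ∈ W := by
    obtain ⟨_, ⟨W, hW, rfl⟩, hv, -⟩ :=
      (V.left.isBasis_affineOpens).exists_subset_of_mem_open (Set.mem_univ v) isOpen_univ
    exact ⟨W, hW, hv⟩
  obtain ⟨W, hW, hv⟩ := hex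
  let Vk : Over S := Over.mk (W.ι ≫ V.hom)
  let jk : Vk ⟶ V := Over.homMk W.ι rfl
  have hjk : IsOpenImmersion jk.left := by change IsOpenImmersion W.ι; infer_instance
  refine ⟨Vk, jk, hjk, ⟨⟨v, hv⟩, rfl⟩, ?_⟩
  have hb : RepWith @Etale ((yon S).map jk ≫ e) :=
    (AlgSp.repWith_isMultiplicative (S := S) @Etale).comp_mem _ _
      ((AlgSp.repWith_yon_map_iff _ jk).2 (by change Etale W.ι; infer_instance)) hee
  obtain ⟨A, g, x, hg, hx⟩ := exists_local_lift hX hY f hqc hflat hsurj
    (B := Vk) (hW : IsAffine _) _ hb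
  intro T w
  rw [Functor.map_comp, Category.assoc]
  exact liftSieve_mem_of_factor f g hg x _ hx T w

/-- A monomorphism of algebraic spaces that is quasi-compact, flat and surjective is an isomorphism. -/
theorem result {S : Scheme.{u}} {X Y : AlgSp.Space S} (f : X ⟶ Y)
    (hqc : AlgSp.IsQuasiCompactMor f.hom) (hflat : AlgSp.LocP @Flat f.hom) (hsurj : AlgSp.IsSurjectiveMor f.hom)
    [Mono f.hom] : IsIso f.hom := by
  exact main X.property Y.property f.hom hqc hflat hsurj

end Groth.Agent.S10582
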