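import Groth.Statements.S10356
import Groth.Agent.S10366
import Groth.Agent.S10365
import Groth.Agent.S10582
import Groth.Agent.S9912

set_option autoImplicit false
universe u
open CategoryTheory CategoryTheory.Limits AlgebraicGeometry Topology TopologicalSpace
open AlgSp

namespace Groth.Agent.S10356

variable {S : Scheme.{u}}

theorem main (X : AlgSp.Space S)
    (hX : AlgSp.IsDecent X.obj) (hr : AlgSp.EtaleLocally (fun U => IsReduced U) X.obj)
    [Nonempty (AlgSp.Points X.obj)] [Subsingleton (AlgSp.Points X.obj)] :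
    ∃ (k : Type u) (_ : Field k) (str : Spec (CommRingCat.of k) ⟶ S),
      Nonempty ((AlgSp.yon S).obj (Over.mk str) ≅ X.obj) := by
  obtain ⟨k, hk, str, p, hpf, hps⟩ := Groth.Agent.S10366.forward X hr inferInstance inferInstance
  obtain ⟨x⟩ := (inferInstance : Nonempty (Points X.obj))
  obtain ⟨q, hq, hqm, hqc⟩ := hX x
  obtain ⟨hqf, hqs⟩ := Groth.Agent.S10365.main X k str p hpf hps q.K q.str q.toHom
  let Q : Space S := ⟨(yon S).obj q.pt, IsAlgSpace.yon_obj _⟩
  let f : Q ⟶ X := ObjectProperty.homMk q.toHom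
  have hfm : Mono f.hom := hqm
  have hqcm : IsQuasiCompactMor f.hom := (Groth.Agent.S9912.result f hqc.1).1 hqc
  have hiso : IsIso f.hom := Groth.Agent.S10582.result f hqcm hqf hqs
  exact ⟨q.K, inferInstance, q.str, ⟨asIso f.hom⟩⟩

/-- A reduced decent algebraic space X over a scheme S whose space of points is a single point is
isomorphic to h_{Spec k} for a field k over S. -/
theorem result {S : Scheme.{u}} (X : AlgSp.Space S)
    (hX : AlgSp.IsDecent X.obj) (hr : AlgSp.EtaleLocally (fun U => IsReduced U) X.obj)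
    [Nonempty (AlgSp.Points X.obj)] [Subsingleton (AlgSp.Points X.obj)] :
    ∃ (k : Type u) (_ : Field k) (str : Spec (CommRingCat.of k) ⟶ S),
      Nonempty ((AlgSp.yon S).obj (Over.mk str) ≅ X.obj) := by
  exact main X hX hr

end Groth.Agent.S10356
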