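import Groth.Statements.S10206
import Groth.Agent.Lib.Helper5.AlgSpCoprod
import Groth.Agent.Lib.Helper5.AlgSpQSep
import Groth.Agent.Lib.Helper5.FieldQuotChart
import Groth.Agent.S10356
import Groth.Agent.S10352
import Groth.Agent.S10196
import Groth.Agent.S10194

set_option autoImplicit false
universe u
open CategoryTheory CategoryTheory.Limits AlgebraicGeometry Topology TopologicalSpace
open AlgSp

namespace Groth.Agent.S10206

open Groth.Agent.Lib.helper5 Groth.Agent.Lib.helper5.FieldQuot

variable {S : Scheme.{u}}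

theorem hle_oi_etale : (@IsOpenImmersion : MorphismProperty Scheme.{u}) ≤ @Etale := fun A B g hg => by
  have : IsOpenImmersion g := hg
  infer_instance

/-- Etale charts of an algebraic space etale over a field are reduced and discrete. -/
theorem chart_reduced_discrete {Z : Sp S} (k : Type u) [Field k] (str : Spec (CommRingCat.of k) ⟶ S)
    (f : Z ⟶ (yon S).obj (Over.mk str)) (hf : IsEtaleMor f) {U : Over S} (a : (yon S).obj U ⟶ Z)
    (ha : RepWith @Etale a) : IsReduced U.left ∧ DiscreteTopology ↥U.left := by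
  obtain ⟨α, hα⟩ := (yon S).map_surjective (a ≫ f)
  have hαe : Etale α.left := (repWith_yon_map_iff @Etale α).1 (by rw [hα]; exact hf a ha)
  have hlqf : LocallyQuasiFinite α.left := lqf_of_etale α.left
  have hart : IsLocallyArtinian (Over.mk str).left :=
    inferInstanceAs (IsLocallyArtinian (Spec (CommRingCat.of k)))
  have hart' : IsLocallyArtinian U.left := IsLocallyArtinian.of_locallyQuasiFinite α.left
  have hred : IsReduced (Over.mk str).left := inferInstanceAs (IsReduced (Spec (CommRingCat.of k)))
  exact ⟨Groth.Agent.H1.EtaleReduced.isReduced_of_etale α.left, inferInstance⟩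

/-- Each point of an algebraic space etale over a field is an open subspace isomorphic to the spectrum of a field. -/
theorem exists_point_chart (X : AlgSp.Space S) (k : Type u) [Field k] (str : Spec (CommRingCat.of k) ⟶ S)
    (f : X.obj ⟶ (AlgSp.yon S).obj (Over.mk str)) (hf : AlgSp.IsEtaleMor f) (x : Points X.obj) :
    ∃ (k' : Type u) (_ : Field k') (str' : Spec (CommRingCat.of k') ⟶ S)
      (p : (yon S).obj (Over.mk str') ⟶ X.obj), RepWith @IsOpenImmersion p ∧
        Set.range (Points.map p) = {x} := by
  -- `X` is decent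
  have hX : IsDecent X.obj :=
    Groth.Agent.S10352.result (X := X) (Y := ⟨(yon S).obj (Over.mk str), IsAlgSpace.yon_obj _⟩)
      (ObjectProperty.homMk f) hf (QSep.isDecent_yon _)
  -- `|X|` is discrete
  obtain ⟨U, a, hae, has⟩ := X.property.atlas
  have hUd : DiscreteTopology ↥U.left := (chart_reduced_discrete k str f hf a hae).2
  have hopen : IsOpen ({x} : Set (Points X.obj)) :=
    (Groth.Agent.Lib.helper11.isQuotientMap_ofPt a hae has).isOpen_preimage.1 (isOpen_discrete _)
  obtain ⟨X', j, hj, hr, hm⟩ := OpenSub.exists_openSub X {x} hopen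
  have hje : IsEtaleMor j.hom := fun V φ hφ =>
    (RepWith (S := S) @Etale).comp_mem _ _ hφ (Groth.Agent.S10194.repWith_mono hle_oi_etale hj)
  have hX' : IsDecent X'.obj := Groth.Agent.S10352.result j hje hX
  have hf' : IsEtaleMor (j.hom ≫ f) := fun V φ hφ => by
    rw [← Category.assoc]
    exact hf _ (hje φ hφ)
  have hred : EtaleLocally (fun V => IsReduced V) X'.obj := by
    obtain ⟨U', a', hae', has'⟩ := X'.property.atlas
    exact ⟨U', a', hae', has', (chart_reduced_discrete k str _ hf' a' hae').1⟩
  have hinj : Function.Injective (Points.map j.hom) := Groth.Agent.S10196.injective_map_of_mono j.hom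
  have hne : Nonempty (Points X'.obj) := by
    have : x ∈ Set.range (Points.map j.hom) := by rw [hr]; rfl
    obtain ⟨y, -⟩ := this
    exact ⟨y⟩
  have hss : Subsingleton (Points X'.obj) := by
    constructor
    intro y y'
    apply hinj
    have h1 : Points.map j.hom y ∈ ({x} : Set (Points X.obj)) := by rw [← hr]; exact ⟨y, rfl⟩
    have h2 : Points.map j.hom y' ∈ ({x} : Set (Points X.obj)) := by rw [← hr]; exact ⟨y', rfl⟩
    exact h1.trans h2.symm
  obtain ⟨k', hk', str', ⟨e⟩⟩ := Groth.Agent.S10356.result X' hX' hred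
  refine ⟨k', hk', str', e.hom ≫ j.hom, ?_, ?_⟩
  · exact (RepWith (S := S) @IsOpenImmersion).comp_mem _ _
      (MorphismProperty.of_isIso (RepWith (S := S) @IsOpenImmersion) e.hom) hj
  · rw [← hr]
    ext y
    constructor
    · rintro ⟨z, rfl⟩
      exact ⟨Points.map e.hom z, by rw [← Points.map_comp]⟩
    · rintro ⟨z, rfl⟩
      refine ⟨Points.map e.inv z, ?_⟩
      rw [← Points.map_comp, ← Category.assoc, e.inv_hom_id, Category.id_comp]

/-- Let X be an algebraic space over a scheme S and X ⟶ h_{Spec k} an etale morphism of algebraic spaces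
over S, where k is a field and Spec k is given a structure morphism to S. Then X is a scheme (its
underlying sheaf is representable by a scheme over S). -/
theorem result {S : Scheme.{u}} (X : AlgSp.Space S)
    (k : Type u) [Field k] (str : Spec (CommRingCat.of k) ⟶ S)
    (f : X.obj ⟶ (AlgSp.yon S).obj (Over.mk str)) (hf : AlgSp.IsEtaleMor f) :
    X.obj.obj.IsRepresentable := by
  classical
  obtain ⟨U, a, hae, has⟩ := X.property.atlas
  have hsmall : Small.{u} (Points X.obj) :=
    small_of_surjective (Groth.Agent.Lib.helper11.surjective_ofPt a has)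
  let κ : Type u := Shrink.{u} (Points X.obj)
  let eqv : Points X.obj ≃ κ := equivShrink _
  choose k' hk' str' p hpoi hpr using fun i : κ => exists_point_chart X k str f hf (eqv.symm i)
  -- the disjoint union
  let T : Over S := Over.mk (Sigma.desc str' : (∐ fun i : κ => Spec (CommRingCat.of (k' i))) ⟶ S)
  let ι : ∀ i : κ, Over.mk (str' i) ⟶ T := fun i =>
    Over.homMk (Sigma.ι (fun i : κ => Spec (CommRingCat.of (k' i))) i) (Sigma.ι_desc _ _)
  have hoi : ∀ i, IsOpenImmersion (ι i).left := fun i =>
    inferInstanceAs (IsOpenImmersion (Sigma.ι (fun i : κ => Spec (CommRingCat.of (k' i))) i))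
  have hcov : ∀ t : ↥T.left, ∃ i, t ∈ Set.range (ι i).left := by
    intro t
    obtain ⟨i, y, hy⟩ := (sigmaOpenCover (fun i : κ => Spec (CommRingCat.of (k' i)))).exists_eq t
    exact ⟨i, y, hy⟩
  have hdisj : ∀ i j, i ≠ j → Disjoint (Set.range (ι i).left) (Set.range (ι j).left) := by
    intro i j hij
    rw [Set.disjoint_left]
    rintro _ ⟨y, rfl⟩ ⟨y', hy'⟩
    have h1 := (sigmaι_eq_iff (fun i : κ => Spec (CommRingCat.of (k' i))) _ _ _ _).mp hy'
    exact hij (congrArg Sigma.fst h1).symm
  let hc := Coprod.isColimitYonCofan (S := S) (V := T) (fun i => Over.mk (str' i)) ι hoi hcov hdisj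
  let P : (yon S).obj T ⟶ X.obj := hc.desc (Cofan.mk X.obj p)
  have hP : ∀ i, (yon S).map (ι i) ≫ P = p i := fun i => hc.fac (Cofan.mk X.obj p) ⟨i⟩
  -- points of the charts
  have hpt : ∀ (i : κ) (s : ↥(Over.mk (str' i)).left), Points.ofPt (p i) s = eqv.symm i := by
    intro i s
    have : Points.ofPt (p i) s ∈ Set.range (Points.map (p i)) := by
      rw [Points.ofPt_eq_map_ofScheme]; exact ⟨_, rfl⟩
    rw [hpr i] at this
    exact this
  -- `P` is an open immersion
  have hPoi : RepWith @IsOpenImmersion P := by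
    refine ⟨X.property.representable_from_yon P, ?_⟩
    intro W W' g fst snd sq
    obtain ⟨φ, rfl⟩ := (yon S).map_surjective fst
    change IsOpenImmersion snd.left
    -- local structure
    have key : ∀ (w' : ↥W'.left) (i : κ), φ.left w' ∈ Set.range (ι i).left →
        ∃ (D : Over S) (pr1 : D ⟶ W'), IsOpenImmersion pr1.left ∧ w' ∈ Set.range pr1.left ∧
          IsOpenImmersion (pr1 ≫ snd).left := by
      intro w' i hi
      have sqD : IsPullback ((yon S).map (pullback.fst φ (ι i))) ((yon S).map (pullback.snd φ (ι i)))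
          ((yon S).map φ) ((yon S).map (ι i)) := (IsPullback.of_hasPullback φ (ι i)).map (yon S)
      have sqL : IsPullback (pullback.fst φ (ι i)).left (pullback.snd φ (ι i)).left φ.left (ι i).left :=
        (IsPullback.of_hasPullback φ (ι i)).map (Over.forget S)
      refine ⟨pullback φ (ι i), pullback.fst φ (ι i), ?_, ?_, ?_⟩
      · exact MorphismProperty.of_isPullback sqL.flip (hoi i)
      · obtain ⟨s, hs⟩ := hi
        obtain ⟨τ, hτ, -⟩ := Scheme.Pullback.exists_preimage_pullback (f := φ.left) (g := (ι i).left) w' s hs.symm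
        refine ⟨(sqL.isoPullback.inv) τ, ?_⟩
        rw [← Scheme.Hom.comp_apply, IsPullback.isoPullback_inv_fst]
        exact hτ
      · have sq' := sqD.flip.paste_vert sq
        rw [hP i, ← Functor.map_comp] at sq'
        exact (hpoi i).2 _ _ _ sq'
    have hidx : ∀ (w' : ↥W'.left) (i : κ), φ.left w' ∈ Set.range (ι i).left →
        eqv.symm i = Points.ofPt g (snd.left w') := by
      rintro w' i ⟨s, hs⟩
      rw [← Groth.Agent.Lib.helper11.ofPt_yon_map_comp, ← sq.w,
        Groth.Agent.Lib.helper11.ofPt_yon_map_comp, ← hs,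
        ← Groth.Agent.Lib.helper11.ofPt_yon_map_comp, hP i, hpt i s]
    refine IsOpenImmersion.of_forall_source_exists snd.left ?_ ?_
    · intro w1 w2 h12
      obtain ⟨i1, hi1⟩ := hcov (φ.left w1)
      obtain ⟨i2, hi2⟩ := hcov (φ.left w2)
      have hi : i1 = i2 := by
        apply eqv.symm.injective
        rw [hidx w1 i1 hi1, hidx w2 i2 hi2, h12]
      subst hi
      obtain ⟨D, pr1, -, ⟨d1, hd1⟩, hD⟩ := key w1 i1 hi1
      obtain ⟨D', pr1', -, ⟨d2, hd2⟩, hD'⟩ := key w2 i1 hi2
      -- use the same `D` for both points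
      have sqL : IsPullback (pullback.fst φ (ι i1)).left (pullback.snd φ (ι i1)).left φ.left (ι i1).left :=
        (IsPullback.of_hasPullback φ (ι i1)).map (Over.forget S)
      obtain ⟨s1, hs1⟩ := hi1
      obtain ⟨s2, hs2⟩ := hi2
      obtain ⟨τ1, hτ1, -⟩ := Scheme.Pullback.exists_preimage_pullback (f := φ.left) (g := (ι i1).left) w1 s1 hs1.symm
      obtain ⟨τ2, hτ2, -⟩ := Scheme.Pullback.exists_preimage_pullback (f := φ.left) (g := (ι i1).left) w2 s2 hs2.symm
      have e1 : (pullback.fst φ (ι i1)).left ((sqL.isoPullback.inv) τ1) = w1 := by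
        rw [← Scheme.Hom.comp_apply, IsPullback.isoPullback_inv_fst]; exact hτ1
      have e2 : (pullback.fst φ (ι i1)).left ((sqL.isoPullback.inv) τ2) = w2 := by
        rw [← Scheme.Hom.comp_apply, IsPullback.isoPullback_inv_fst]; exact hτ2
      have sqD : IsPullback ((yon S).map (pullback.fst φ (ι i1))) ((yon S).map (pullback.snd φ (ι i1)))
          ((yon S).map φ) ((yon S).map (ι i1)) := (IsPullback.of_hasPullback φ (ι i1)).map (yon S)
      have sq' := sqD.flip.paste_vert sq
      rw [hP i1, ← Functor.map_comp] at sq'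
      have hOI : IsOpenImmersion (pullback.fst φ (ι i1) ≫ snd).left := (hpoi i1).2 _ _ _ sq'
      have hinj := (pullback.fst φ (ι i1) ≫ snd).left.isOpenEmbedding.injective
      have : (sqL.isoPullback.inv) τ1 = (sqL.isoPullback.inv) τ2 := by
        apply hinj
        rw [Over.comp_left, Scheme.Hom.comp_apply, Scheme.Hom.comp_apply, e1, e2, h12]
      rw [← e1, ← e2, this]
    · intro w'
      obtain ⟨i, hi⟩ := hcov (φ.left w')
      obtain ⟨D, pr1, h1, h2, h3⟩ := key w' i hi
      exact ⟨D.left, pr1.left, h1, h2, h3⟩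
  -- `P` is surjective
  have hPs : IsSurjectiveMor P := by
    intro y
    have : y ∈ Set.range (Points.map (p (eqv y))) := by
      rw [hpr (eqv y), eqv.symm_apply_apply]; rfl
    obtain ⟨z, hz⟩ := this
    refine ⟨Points.map ((yon S).map (ι (eqv y))) z, ?_⟩
    rw [← Points.map_comp, hP, hz]
  have hiso : IsIso P := Groth.Agent.S10194.isIso_of_openImmersion_of_surjective P hPoi hPs
  exact (representableByOfIso (asIso P)).isRepresentable

end Groth.Agent.S10206
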