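import Groth.Statements.S10207
import Groth.Agent.Lib.Helper5.FpqcSpD
import Groth.Agent.Lib.Helper14.SigSheaf

set_option autoImplicit false
universe u
open CategoryTheory CategoryTheory.Limits AlgebraicGeometry Topology TopologicalSpace
open AlgSp

namespace Groth.Agent.S10207


open Groth.Agent.Lib.helper5.FpqcSp Groth.Agent.Lib.Helper14 in
/-- The sheaf condition for a single fpqc morphism, from separatedness and gluing of maps. -/
theorem isSheafFor_singleton {S : Scheme.{u}} {X : AlgSp.Sp S} (hX : AlgSp.IsAlgSpace X) {T T' : Over S} (p : T' ⟶ T)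
    (hp : IsFpqcHom p) : Presieve.IsSheafFor X.obj (Presieve.singleton p) := by
  have e : Presieve.singleton p = Presieve.ofArrows (fun _ : PUnit.{u + 1} => T') (fun _ => p) :=
    (Presieve.ofArrows_pUnit p).symm
  rw [e, Presieve.isSheafFor_arrows_iff]
  intro x hx
  let c : (AlgSp.yon S).obj T' ⟶ X := (AlgSp.J S).uliftYonedaEquiv.symm (x PUnit.unit)
  have hc : Compat p c := by
    intro Z z1 z2 hz
    apply (AlgSp.J S).uliftYonedaEquiv.injective
    rw [← GrothendieckTopology.uliftYonedaEquiv_naturality,
      ← GrothendieckTopology.uliftYonedaEquiv_naturality, Equiv.apply_symm_apply]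
    exact hx PUnit.unit PUnit.unit Z z1 z2 hz
  obtain ⟨ξ, hξ⟩ := glue hX hp hc
  refine ⟨(AlgSp.J S).uliftYonedaEquiv ξ, fun _ => ?_, fun t ht => ?_⟩
  · rw [GrothendieckTopology.uliftYonedaEquiv_naturality, hξ, Equiv.apply_symm_apply]
  · have h1 : (AlgSp.J S).uliftYonedaEquiv.symm t = ξ := by
      apply sep hX hp
      rw [hξ]
      apply (AlgSp.J S).uliftYonedaEquiv.injective
      rw [← GrothendieckTopology.uliftYonedaEquiv_naturality, Equiv.apply_symm_apply,
        Equiv.apply_symm_apply]
      exact ht PUnit.unit
    rw [← h1, Equiv.apply_symm_apply]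

open Groth.Agent.Lib.helper5.FpqcSp Groth.Agent.Lib.Helper14 in
theorem isSheaf_fpqc_sig {S : Scheme.{u}} (X : AlgSp.Space S) :
    Presieve.IsSheaf Scheme.fpqcTopology (SigSheaf.sig X.obj.obj) := by
  rw [Scheme.fpqcTopology_eq_propQCTopology, isSheaf_type_propQCTopology_iff]
  refine ⟨?_, ?_⟩
  · intro X' R hR
    apply SigSheaf.isSheafFor_sig
    · exact GrothendieckTopology.Subcanonical.isSheaf_of_isRepresentable
        (J := Scheme.zariskiTopology) (yoneda.obj S) _ hR
    · intro g
      apply ((isSheaf_iff_isSheaf_of_type _ _).1 X.obj.property)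
      change _ ∈ (Scheme.fppfTopology.over S) (Over.mk g)
      rw [GrothendieckTopology.mem_over_iff]
      have e2 : (Sieve.overEquiv (Over.mk g)) ((Sieve.overEquiv (Over.mk g)).symm R) = R :=
        OrderIso.apply_symm_apply _ _
      rw [e2]
      exact (Precoverage.toGrothendieck_mono Scheme.zariskiPrecoverage_le_fppfPrecoverage) _ hR
  · intro R R' φ hφ hs
    rw [Presieve.isSheafFor_iff_generate]
    apply SigSheaf.isSheafFor_sig
    · have hmem : Sieve.generate (Presieve.singleton (Spec.map φ)) ∈
          Scheme.fpqcTopology (Spec R) := by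
        apply Precoverage.generate_mem_toGrothendieck
        haveI := hφ
        haveI := hs
        exact Scheme.Hom.singleton_mem_fpqcPrecoverage _
      exact GrothendieckTopology.Subcanonical.isSheaf_of_isRepresentable
        (J := Scheme.fpqcTopology) (yoneda.obj S) _ hmem
    · intro g
      rw [SigSheaf.overEquiv_symm_generate_singleton, ← Presieve.isSheafFor_iff_generate]
      refine isSheafFor_singleton X.property _ ⟨hφ, hs, ?_⟩
      change QuasiCompact (Spec.map φ)
      infer_instance

/-- An algebraic space X over a scheme S satisfies the sheaf property for the fpqc topology: its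
underlying presheaf on schemes over S is a sheaf for the fpqc topology (restricted from schemes to
schemes over S). -/
theorem result {S : Scheme.{u}} (X : AlgSp.Space S) :
    Presheaf.IsSheaf (Scheme.fpqcTopology.over S) X.obj.obj := by
  rw [isSheaf_iff_isSheaf_of_type]
  intro Y T hT
  rw [GrothendieckTopology.mem_over_iff] at hT
  apply Groth.Agent.Lib.Helper14.SigSheaf.isSheafFor_of_sig
  · exact isSheaf_fpqc_sig X _ hT
  · intro g g' hgg
    have hsep := (GrothendieckTopology.Subcanonical.isSheaf_of_isRepresentable
      (J := Scheme.fpqcTopology) (yoneda.obj S) _ hT).isSeparatedFor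
    exact hsep.ext (fun W h hh => hgg h hh)

end Groth.Agent.S10207
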