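import Groth.Statements.S10208
import Groth.Agent.S10212

set_option autoImplicit false
universe u
open CategoryTheory CategoryTheory.Limits AlgebraicGeometry Topology TopologicalSpace
open AlgSp

namespace Groth.Agent.S10208

theorem main {S : Scheme.{u}} {X Y : AlgSp.Space S} (f : X ⟶ Y) {U V : Over S}
    (a : (AlgSp.yon S).obj U ⟶ X.obj) (ha : AlgSp.RepWith @Etale a) (has : AlgSp.RepWith @Surjective a)
    (b : (AlgSp.yon S).obj V ⟶ Y.obj) (hb : AlgSp.RepWith @Etale b) (h : U ⟶ V) [Etale h.left]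
    (w : a ≫ f.hom = (AlgSp.yon S).map h ≫ b) :
    AlgSp.IsEtaleMor f.hom := by
  intro W φ hφ
  obtain ⟨W', r, β', sq⟩ := ha.1 φ
  obtain ⟨β, rfl⟩ := (yon S).map_surjective β'
  have hr : Etale r.left := ha.2 _ _ _ sq
  have hrs : Surjective r.left := has.2 _ _ _ sq
  have hβ : Etale β.left := hφ.2 _ _ _ sq.flip
  have hβh : Etale (β ≫ h).left := by rw [Over.comp_left]; infer_instance
  have h1 : RepWith @Etale ((yon S).map r ≫ φ ≫ f.hom) := by
    have e1 : (yon S).map r ≫ φ ≫ f.hom = (yon S).map (β ≫ h) ≫ b := by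
      rw [← Category.assoc, ← sq.w, Category.assoc, w, Functor.map_comp, Category.assoc]
    rw [e1]
    exact (RepWith (S := S) @Etale).comp_mem _ _ ((repWith_yon_map_iff @Etale _).2 hβh) hb
  exact Groth.Agent.S10212.main Y r (φ ≫ f.hom) h1

/-- Let f : X ⟶ Y be a morphism of algebraic spaces over a scheme S. Suppose there is a commutative
square with a : h_U ⟶ X representable etale and surjective, b : h_V ⟶ Y representable etale, and an
etale morphism of schemes h : U ⟶ V over S with a ≫ f = h_h ≫ b. Then f is etale. -/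
theorem result {S : Scheme.{u}} {X Y : AlgSp.Space S} (f : X ⟶ Y) {U V : Over S}
    (a : (AlgSp.yon S).obj U ⟶ X.obj) (ha : AlgSp.RepWith @Etale a) (has : AlgSp.RepWith @Surjective a)
    (b : (AlgSp.yon S).obj V ⟶ Y.obj) (hb : AlgSp.RepWith @Etale b) (h : U ⟶ V) [Etale h.left]
    (w : a ≫ f.hom = (AlgSp.yon S).map h ≫ b) :
    AlgSp.IsEtaleMor f.hom := by
  exact main f a ha has b hb h w

end Groth.Agent.S10208
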