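import Groth.Statements.S10209
import Groth.Agent.S10212

set_option autoImplicit false
universe u
open CategoryTheory CategoryTheory.Limits AlgebraicGeometry Topology TopologicalSpace
open AlgSp

namespace Groth.Agent.S10209

theorem main {S : Scheme.{u}} {X Y Z P : AlgSp.Space S} (f : X ⟶ Y) (g : Z ⟶ Y)
    (fst : P ⟶ Z) (snd : P ⟶ X) (h : IsPullback fst.hom snd.hom g.hom f.hom) (hf : AlgSp.IsEtaleMor f.hom) :
    AlgSp.IsEtaleMor fst.hom := by
  intro W φ hφ
  obtain ⟨U, a, hae, has⟩ := X.property.atlas
  have sqE : IsPullback (pullback.fst snd.hom a) (pullback.snd snd.hom a) snd.hom a :=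
    IsPullback.of_hasPullback snd.hom a
  have he1 : RepWith @Etale (pullback.fst snd.hom a) :=
    (repWith_isStableUnderBaseChange (S := S) @Etale).of_isPullback sqE.flip hae
  have he1s : RepWith @Surjective (pullback.fst snd.hom a) :=
    (repWith_isStableUnderBaseChange (S := S) @Surjective).of_isPullback sqE.flip has
  have sqZ : IsPullback (pullback.fst snd.hom a ≫ fst.hom) (pullback.snd snd.hom a) g.hom (a ≫ f.hom) :=
    sqE.paste_horiz h
  have he1f : RepWith @Etale (pullback.fst snd.hom a ≫ fst.hom) :=
    (repWith_isStableUnderBaseChange (S := S) @Etale).of_isPullback sqZ.flip (hf a hae)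
  obtain ⟨W1, r, τ, sqT⟩ := he1.1 φ
  have hr : Etale r.left := he1.2 _ _ _ sqT
  have hrs : Surjective r.left := he1s.2 _ _ _ sqT
  have hτ : RepWith @Etale τ :=
    (repWith_isStableUnderBaseChange (S := S) @Etale).of_isPullback sqT.flip hφ
  have h1 : RepWith @Etale ((yon S).map r ≫ φ ≫ fst.hom) := by
    have e1 : (yon S).map r ≫ φ ≫ fst.hom = τ ≫ pullback.fst snd.hom a ≫ fst.hom := by
      rw [← Category.assoc, ← sqT.w, Category.assoc]
    rw [e1]
    exact (RepWith (S := S) @Etale).comp_mem _ _ hτ he1f
  exact Groth.Agent.S10212.main Z r (φ ≫ fst.hom) h1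

/-- Etaleness of morphisms of algebraic spaces is preserved by every base change: let f : X ⟶ Y and g :
Z ⟶ Y be morphisms of algebraic spaces over a scheme S and P an algebraic space with morphisms P ⟶ Z
and P ⟶ X making the square of underlying sheaves cartesian (P = Z ×_Y X). If f is etale (every
composite of f with a representable etale map h_U ⟶ X from a scheme U is representable etale), then
the projection P ⟶ Z is etale. -/
theorem result {S : Scheme.{u}} {X Y Z P : AlgSp.Space S} (f : X ⟶ Y) (g : Z ⟶ Y)
    (fst : P ⟶ Z) (snd : P ⟶ X) (h : IsPullback fst.hom snd.hom g.hom f.hom) (hf : AlgSp.IsEtaleMor f.hom) :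
    AlgSp.IsEtaleMor fst.hom := by
  exact main f g fst snd h hf

end Groth.Agent.S10209
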