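import Groth.Statements.S10215
import Groth.Agent.Lib.Helper5.AlgSpUnivInj

set_option autoImplicit false
universe u
open CategoryTheory CategoryTheory.Limits AlgebraicGeometry Topology TopologicalSpace
open AlgSp

namespace Groth.Agent.S10215

/-- Let X be an algebraic space over a scheme S and p : Spec K ⟶ X, q : Spec L ⟶ X morphisms from
spectra of fields over S which determine the same point of |X|, with p a monomorphism. Then q
factors uniquely through p. -/
theorem result {S : Scheme.{u}} (X : AlgSp.Space S) (p q : AlgSp.FieldPt X.obj)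
    (h : AlgSp.Points.mk p = AlgSp.Points.mk q) [Mono p.toHom] :
    ∃! c : q.pt ⟶ p.pt, (AlgSp.yon S).map c ≫ p.toHom = q.toHom := by
  obtain ⟨Ω, hΩ, w, a, b, hab⟩ := Groth.Agent.Lib.helper5.UnivInj.hom_eq_of_rel
    (AlgSp.Points.mk_eq_mk_iff.mp h)
  -- the fibre product `Spec L ×_X Spec K`
  obtain ⟨E, snd, fst, sqE⟩ := X.2.representable_from_yon p.toHom q.toHom
  have hmono : Mono ((AlgSp.yon S).map snd) := sqE.mono_snd_of_mono
  obtain ⟨t, ht1, ht2⟩ := sqE.exists_lift ((AlgSp.yon S).map a) ((AlgSp.yon S).map b) hab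
  have hne : ¬ IsEmpty (AlgSp.Points ((AlgSp.yon S).obj E)) := fun h =>
    h.elim (AlgSp.Points.mk (Groth.Agent.Lib.helper10.fieldPtOfHom w t))
  let φ : (⟨(AlgSp.yon S).obj E, AlgSp.IsAlgSpace.yon_obj E⟩ : AlgSp.Space S) ⟶
      (AlgSp.ofScheme S).obj (Over.mk q.str) := ObjectProperty.homMk ((AlgSp.yon S).map snd)
  have hφm : Mono φ.hom := hmono
  have hres := Groth.Agent.S9929.result q.str _ φ
  rcases hres with h' | h'
  · exact absurd h' hne
  · have hiso : IsIso ((AlgSp.yon S).map snd) :=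
      (ObjectProperty.ι (AlgSp.IsAlgSpace (S := S))).map_isIso φ
    obtain ⟨c, hc⟩ := (AlgSp.yon S).map_surjective (inv ((AlgSp.yon S).map snd) ≫ fst)
    refine ⟨c, ?_, ?_⟩
    · show (AlgSp.yon S).map c ≫ p.toHom = q.toHom
      rw [hc, Category.assoc, sqE.w, IsIso.inv_hom_id_assoc]
    · intro c' hc'
      apply (AlgSp.yon S).map_injective
      rw [← cancel_mono p.toHom, hc']
      rw [hc, Category.assoc, sqE.w, IsIso.inv_hom_id_assoc]

end Groth.Agent.S10215
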