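import Groth.Statements.S10220
import Groth.Agent.Lib.Helper5.EtPoint4
import Groth.Agent.S10219

set_option autoImplicit false
universe u
open CategoryTheory CategoryTheory.Limits AlgebraicGeometry Topology TopologicalSpace
open AlgSp

namespace Groth.Agent.S10220

/-- Let X be an algebraic space over a scheme S and a : F ⟶ G a map of sheaves of sets on the small
etale site of X. Then a is injective (a monomorphism) if and only if the induced map on stalks F_x̄
→ G_x̄ is injective for every geometric point x̄ of X, and a is surjective (an epimorphism of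
sheaves) if and only if all these stalk maps are surjective. -/
theorem result {S : Scheme.{u}} (X : AlgSp.Space S) {F G : AlgSp.EtSh X.obj (Type (u + 1))} (a : F ⟶ G) :
    (Mono a ↔ ∀ p : AlgSp.FieldPt X.obj, p.IsGeometric →
        Function.Injective ((AlgSp.stalkEtFunctor (Type (u + 1)) p).map a)) ∧
    (Epi a ↔ ∀ p : AlgSp.FieldPt X.obj, p.IsGeometric →
        Function.Surjective ((AlgSp.stalkEtFunctor (Type (u + 1)) p).map a)) := by
  refine ⟨⟨fun hm p hp => ?_, fun h => ?_⟩, ⟨fun he p hp => ?_, fun h => ?_⟩⟩
  · obtain ⟨⟨h1, -⟩, -⟩ := Groth.Agent.S10219.result X p hp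
    have : Mono ((AlgSp.stalkEtFunctor (Type (u + 1)) p).map a) := inferInstance
    exact (mono_iff_injective _).1 this
  · have : Presheaf.IsLocallyInjective (AlgSp.etTop X.obj) a.hom :=
      Groth.Agent.Lib.helper5.EtPoint.isLocallyInjective_of_stalks X.property a.hom
        (fun p hp => h p hp)
    exact Sheaf.mono_of_isLocallyInjective a
  · obtain ⟨⟨-, h2⟩, -⟩ := Groth.Agent.S10219.result X p hp
    have : Epi ((AlgSp.stalkEtFunctor (Type (u + 1)) p).map a) := inferInstance
    exact (epi_iff_surjective _).1 this
  · have : Presheaf.IsLocallySurjective (AlgSp.etTop X.obj) a.hom :=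
      Groth.Agent.Lib.helper5.EtPoint.isLocallySurjective_of_stalks X.property a.hom
        (fun p hp => h p hp)
    exact (Sheaf.isLocallySurjective_iff_epi a).1 this

end Groth.Agent.S10220
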