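import Groth.Statements.S10221
import Groth.Agent.Lib.Helper5.EtPoint4
import Groth.Agent.S10219
import Mathlib.Algebra.Homology.ShortComplex.Ab
import Mathlib.Algebra.Homology.ShortComplex.ExactFunctor

set_option autoImplicit false
universe u
open CategoryTheory CategoryTheory.Limits AlgebraicGeometry Topology TopologicalSpace
open AlgSp

namespace Groth.Agent.S10221

open Groth.Agent.Lib.helper5.EtPoint
open ZeroObject

/-- An abelian sheaf on the small etale site all of whose geometric stalks vanish is zero. -/
theorem isZero_of_stalks {S : Scheme.{u}} (X : AlgSp.Space S) (H : AlgSp.AbEt X.obj)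
    (h : ∀ p : AlgSp.FieldPt X.obj, p.IsGeometric →
      IsZero ((AlgSp.stalkEtFunctor AddCommGrpCat.{u + 1} p).obj H)) : IsZero H := by
  let φ : H ⟶ 0 := 0
  have hpf : PreservesFilteredColimitsOfSize.{u, u} (forget AddCommGrpCat.{u + 1}) :=
    preservesFilteredColimitsOfSize_shrink.{u, u + 1, u, u + 1} _
  have hli : Presheaf.IsLocallyInjective (AlgSp.etTop X.obj) φ.hom := by
    refine isLocallyInjective_of_stalks X.property φ.hom (fun p hp => ?_)
    have hz : IsZero ((AlgSp.stalkEtFunctor AddCommGrpCat.{u + 1} p).obj H) := h p hp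
    have : Subsingleton ↑((AlgSp.stalkEtFunctor AddCommGrpCat.{u + 1} p).obj H) :=
      AddCommGrpCat.subsingleton_of_isZero hz
    intro a b _
    exact Subsingleton.elim (α := ↑((AlgSp.stalkEtFunctor AddCommGrpCat.{u + 1} p).obj H)) a b
  have : Mono φ := Sheaf.mono_of_isLocallyInjective φ
  exact IsZero.of_mono φ (isZero_zero _)

/-- Let X be an algebraic space over a scheme S. A short complex of abelian sheaves on the small etale
site of X (maps f, g with g ∘ f = 0) is exact if and only if it is exact on stalks at all geometric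
points x̄ of X: every element of the middle stalk killed by g_x̄ is in the image of f_x̄. -/
theorem result {S : Scheme.{u}} (X : AlgSp.Space S) (C : ShortComplex (AlgSp.AbEt X.obj)) :
    C.Exact ↔ ∀ p : AlgSp.FieldPt X.obj, p.IsGeometric →
      ∀ y : ↥((AlgSp.stalkEtFunctor AddCommGrpCat.{u + 1} p).obj C.X₂),
        ((AlgSp.stalkEtFunctor AddCommGrpCat.{u + 1} p).map C.g) y = 0 →
          ∃ x : ↥((AlgSp.stalkEtFunctor AddCommGrpCat.{u + 1} p).obj C.X₁),
            ((AlgSp.stalkEtFunctor AddCommGrpCat.{u + 1} p).map C.f) x = y := by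
  have key : ∀ p : AlgSp.FieldPt X.obj, p.IsGeometric →
      ∃ (_ : (AlgSp.stalkEtFunctor AddCommGrpCat.{u + 1} p).PreservesZeroMorphisms),
        (AlgSp.stalkEtFunctor AddCommGrpCat.{u + 1} p).PreservesHomology := by
    intro p hp
    obtain ⟨-, h1, h2⟩ := Groth.Agent.S10219.result X p hp
    have hz : (AlgSp.stalkEtFunctor AddCommGrpCat.{u + 1} p).PreservesZeroMorphisms := inferInstance
    exact ⟨hz, ⟨fun f => inferInstance, fun f => inferInstance⟩⟩
  constructor
  · intro hC p hp
    obtain ⟨hz, hh⟩ := key p hp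
    have hex : (C.map (AlgSp.stalkEtFunctor AddCommGrpCat.{u + 1} p)).Exact := hC.map _
    exact (ShortComplex.ab_exact_iff _).1 hex
  · intro h
    rw [ShortComplex.exact_iff_isZero_homology]
    refine isZero_of_stalks X _ (fun p hp => ?_)
    obtain ⟨hz, hh⟩ := key p hp
    have hex : (C.map (AlgSp.stalkEtFunctor AddCommGrpCat.{u + 1} p)).Exact :=
      (ShortComplex.ab_exact_iff _).2 (h p hp)
    exact ((ShortComplex.exact_iff_isZero_homology _).1 hex).of_iso
      (C.mapHomologyIso (AlgSp.stalkEtFunctor AddCommGrpCat.{u + 1} p)).symm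

end Groth.Agent.S10221
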