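import Groth.Statements.S10223
import Groth.Agent.Lib.Helper5.StrictHensScheme
import Groth.Agent.Lib.Helper5.EtPoint3
import Mathlib.Algebra.Field.ULift

set_option autoImplicit false
universe u
open CategoryTheory CategoryTheory.Limits AlgebraicGeometry Topology TopologicalSpace
open AlgSp

namespace Groth.Agent.S10223

theorem isSepClosed_of_ringEquiv {K L : Type*} [Field K] [Field L] (e : K ≃+* L) [IsSepClosed K] :
    IsSepClosed L := by
  refine ⟨fun q hq => ?_⟩
  have h1 : (q.map e.symm.toRingHom).Separable := hq.map
  have h2 := (IsSepClosed.splits_of_separable _ h1).map e.toRingHom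
  rw [Polynomial.map_map] at h2
  have : e.toRingHom.comp e.symm.toRingHom = RingHom.id L := by
    ext a
    simp
  rwa [this, Polynomial.map_id] at h2

/-- Let X be an algebraic space over a scheme S and x̄ a geometric point of X. Then the etale local ring
of X at x̄ (the stalk at x̄ of the structure sheaf of the small etale site) is a strictly henselian
local ring. (The published statement identifies this ring with the strict henselisation of the local
ring of any etale neighbourhood (U, ū) at the image point of ū; this row records the resulting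
property of the ring, not the identification.) -/
theorem result {S : Scheme.{u}} (X : AlgSp.Space S) (p : AlgSp.FieldPt X.obj)
    (hp : p.IsGeometric) :
    IsLocalRing ↥(AlgSp.OEtStalk p) ∧ EtCoh.IsStrictlyHenselianLocalRing ↥(AlgSp.OEtStalk p) := by
  open Groth.Agent.Lib.helper5.StrictHens Groth.Agent.Lib.helper5.EtPoint in
  have hac : IsAlgClosed p.K := hp
  have hsc : IsSepClosed p.K := inferInstance
  have hX : IsAlgSpace X.obj := X.property
  have hsc' : IsSepClosed (ULift.{u + 1} p.K) := isSepClosed_of_ringEquiv (ULift.ringEquiv (R := p.K)).symm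
  have : HasColimitsOfSize.{u, u} CommRingCat.{u + 1} := hasColimitsOfSizeShrink.{u, u, u + 1, u + 1} _
  have : PreservesFilteredColimitsOfSize.{u, u} (forget CommRingCat.{u + 1}) :=
    preservesFilteredColimitsOfSize_shrink.{u, u + 1, u, u + 1} _
  let e : ∀ (E : EtOver X.obj) (_ : (point p hX).fiber.obj E),
      (OEt X.obj).obj.obj (Opposite.op E) ⟶ CommRingCat.of (ULift.{u + 1} p.K) := fun E x =>
    CommRingCat.ofHom ((ULift.ringEquiv (R := p.K)).symm.toRingHom.comp
      ((evPt (U := E.obj.left.left) x.1.left).hom.comp
        (ULift.ringEquiv (R := Γ(E.obj.left.left, ⊤))).toRingHom))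
  have key : ∃ _ : HenselianLocalRing ↑((point p hX).presheafFiber.obj (OEt X.obj).obj),
      IsSepClosed (IsLocalRing.ResidueField ↑((point p hX).presheafFiber.obj (OEt X.obj).obj)) := by
    refine strictlyHenselian_presheafFiber (point p hX) (OEt X.obj).obj (ULift.{u + 1} p.K) e ?_ ?_ ?_
    · intro V U g y
      ext s
      change (evPt y.1.left).hom (g.hom.left.left.appTop.hom s.down) =
        (evPt (y.1.left ≫ g.hom.left.left)).hom s.down
      rw [evPt_comp]
      rfl
    · intro E x s hs
      have hs' : (evPt x.1.left).hom s.down ≠ 0 := by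
        intro h0
        apply hs
        change ULift.up ((evPt x.1.left).hom s.down) = 0
        rw [h0]
        rfl
      obtain ⟨V, g, hg, y, hy, hu⟩ := exists_unit_nbhd x.1.left s.down hs'
      let V' : E.obj.left.left.Etale := MorphismProperty.Over.mk ⊤ g hg
      let E' : EtOver X.obj := (EtOver.ofChart E.obj.hom E.property).obj V'
      let m : E' ⟶ E := EtOver.homMk (EtOver.homOfEtale V') rfl
      have hw : y ≫ g ≫ E.obj.left.hom = p.str := by
        rw [← Category.assoc, hy]
        exact Over.w x.1
      let y₀ : p.pt ⟶ EtOver.overOfEtale V' := Over.homMk y hw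
      have hy₀ : y₀ ≫ EtOver.homOfEtale V' = x.1 := by
        apply Over.OverMorphism.ext
        exact hy
      have hy₁ : (yon S).map y₀ ≫ E'.obj.hom = p.toHom := by
        change (yon S).map y₀ ≫ (yon S).map (EtOver.homOfEtale V') ≫ E.obj.hom = _
        rw [← Category.assoc, ← Functor.map_comp, hy₀]
        exact x.2
      refine ⟨E', m, ⟨y₀, hy₁⟩, liftsTo_ext p _ _ hy₀, ?_⟩
      change IsUnit (ULift.up (g.appTop.hom s.down))
      exact hu.map (ULift.ringEquiv (R := Γ(V, ⊤))).symm.toRingHom
    · intro E x f hf a₀ h0 h0'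
      let dΓ : ULift.{u + 1} Γ(E.obj.left.left, ⊤) →+* Γ(E.obj.left.left, ⊤) :=
        (ULift.ringEquiv (R := Γ(E.obj.left.left, ⊤))).toRingHom
      let uK : p.K →+* ULift.{u + 1} p.K := (ULift.ringEquiv (R := p.K)).symm.toRingHom
      have huK : Function.Injective uK := (ULift.ringEquiv (R := p.K)).symm.injective
      have hcomp : (e E x).hom = uK.comp ((evPt x.1.left).hom.comp dΓ) := rfl
      have ha₀ : a₀ = uK a₀.down := rfl
      let f₀ := f.map dΓ
      have hf₀ : f₀.Monic := hf.map _
      have hmm : f.map (e E x).hom = (f₀.map (evPt x.1.left).hom).map uK := by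
        rw [hcomp, Polynomial.map_map, Polynomial.map_map]
        rfl
      have h0₀ : (f₀.map (evPt x.1.left).hom).eval a₀.down = 0 := by
        apply huK
        rw [← Polynomial.eval_map_apply, ← hmm, ← ha₀, h0, map_zero]
      have h0₀' : (f₀.map (evPt x.1.left).hom).derivative.eval a₀.down ≠ 0 := by
        intro h
        apply h0'
        rw [hmm, Polynomial.derivative_map, ha₀, Polynomial.eval_map_apply, h, map_zero]
      obtain ⟨V, g, hg, y, hy, b, hb1, hb2⟩ := exists_root_nbhd x.1.left f₀ hf₀ a₀.down h0₀ h0₀'
      let V' : E.obj.left.left.Etale := MorphismProperty.Over.mk ⊤ g hg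
      let E' : EtOver X.obj := (EtOver.ofChart E.obj.hom E.property).obj V'
      let m : E' ⟶ E := EtOver.homMk (EtOver.homOfEtale V') rfl
      have hw : y ≫ g ≫ E.obj.left.hom = p.str := by
        rw [← Category.assoc, hy]
        exact Over.w x.1
      let y₀ : p.pt ⟶ EtOver.overOfEtale V' := Over.homMk y hw
      have hy₀ : y₀ ≫ EtOver.homOfEtale V' = x.1 := by
        apply Over.OverMorphism.ext
        exact hy
      have hy₁ : (yon S).map y₀ ≫ E'.obj.hom = p.toHom := by
        change (yon S).map y₀ ≫ (yon S).map (EtOver.homOfEtale V') ≫ E.obj.hom = _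
        rw [← Category.assoc, ← Functor.map_comp, hy₀]
        exact x.2
      refine ⟨E', m, ⟨y₀, hy₁⟩, liftsTo_ext p _ _ hy₀, ULift.up b, ?_, ?_⟩
      · let uV : Γ(V, ⊤) →+* ULift.{u + 1} Γ(V, ⊤) := (ULift.ringEquiv (R := Γ(V, ⊤))).symm.toRingHom
        have hm : ((OEt X.obj).obj.map m.op).hom = uV.comp (g.appTop.hom.comp dΓ) := rfl
        have : f.map ((OEt X.obj).obj.map m.op).hom = (f₀.map g.appTop.hom).map uV := by
          rw [hm, Polynomial.map_map, Polynomial.map_map]
          rfl
        rw [this]
        change Polynomial.eval (uV b) _ = 0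
        rw [Polynomial.eval_map_apply, hb1, map_zero]
      · change ULift.up ((evPt y).hom b) = a₀
        rw [hb2]
  exact ⟨key.1.toIsLocalRing, key⟩

end Groth.Agent.S10223
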