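import Groth.Statements.S10246
import Groth.Agent.LibAlgSpAffHom29
-- import your own Groth.Agent.* helpers here

set_option autoImplicit false
universe u
open CategoryTheory CategoryTheory.Limits AlgebraicGeometry Topology TopologicalSpace
open AlgSp

namespace Groth.Agent.S10246

/-- Let X be an algebraic space over a terminal base scheme (so that morphisms over the base are all
morphisms) and T an affine scheme. Then f ↦ f♯ is a bijection from morphisms X ⟶ T to ring maps Γ(T,
O_T) ⟶ Γ(X, O_X), where Γ(X, O_X) is the ring of global sections of the structure sheaf on the small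
etale site and f♯ is characterised by: for every scheme U etale over X, following f♯ by the
restriction Γ(X, O_X) ⟶ Γ(U, O_U) gives the map on global sections of the induced morphism U ⟶ T. -/
theorem result {S : Scheme.{u}} (hS : IsTerminal S) (X : AlgSp.Space S)
    (T : Over S) [IsAffine T.left] (φ : Γ(T.left, ⊤) →+* ↥(AlgSp.gsectEt (AlgSp.OEt X.obj))) :
    ∃! f : X.obj ⟶ (AlgSp.yon S).obj T,
      ∀ (E : AlgSp.EtOver X.obj) (r : Γ(T.left, ⊤)),
        ((limit.π (AlgSp.OEt X.obj).obj (Opposite.op E)) (φ r)).down =
          ((AlgSp.yon S).preimage (E.obj.hom ≫ f)).left.appTop r := by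
  have hiff : ∀ f : X.obj ⟶ (AlgSp.yon S).obj T,
      (∀ (E : AlgSp.EtOver X.obj) (r : Γ(T.left, ⊤)),
        ((limit.π (AlgSp.OEt X.obj).obj (Opposite.op E)) (φ r)).down =
          ((AlgSp.yon S).preimage (E.obj.hom ≫ f)).left.appTop r) ↔
      ∀ E : AlgSp.EtOver X.obj, E.obj.hom ≫ f =
        (AlgSp.yon S).map (Groth.Agent.LibAlgSpAffHom29.aHom hS φ E) := by
    intro f
    constructor
    · intro h E
      have h1 : ((AlgSp.yon S).preimage (E.obj.hom ≫ f)).left =
          (Groth.Agent.LibAlgSpAffHom29.aHom hS φ E).left := by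
        apply ext_of_isAffine
        rw [Groth.Agent.LibAlgSpAffHom29.aHom_appTop]
        ext r
        rw [CommRingCat.hom_ofHom]
        exact (h E r).symm
      have h2 : (AlgSp.yon S).preimage (E.obj.hom ≫ f) =
          Groth.Agent.LibAlgSpAffHom29.aHom hS φ E := Over.OverMorphism.ext h1
      rw [← h2, Functor.map_preimage]
    · intro h E r
      rw [h E, Functor.preimage_map, Groth.Agent.LibAlgSpAffHom29.aHom_appTop]
      rfl
  obtain ⟨f, hf, hu⟩ := Groth.Agent.LibAlgSpAffHom29.existsUnique_hom hS X.property T φ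
  exact ⟨f, (hiff f).2 hf, fun f' hf' => hu f' ((hiff f').1 hf')⟩

end Groth.Agent.S10246
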