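import Groth.Statements.S10247
-- import your own Groth.Agent.* helpers here

set_option autoImplicit false
universe u
open CategoryTheory CategoryTheory.Limits AlgebraicGeometry Topology TopologicalSpace
open AlgSp

namespace Groth.Agent.S10247

theorem isUnit_of_basicOpen_eq_top {Z : Scheme.{u}} (s : Γ(Z, ⊤)) (h : Z.basicOpen s = ⊤) :
    IsUnit s := by
  apply Z.toRingedSpace.isUnit_of_isUnit_germ
  intro x hx
  have hx' : x ∈ Z.basicOpen s := by rw [h]; trivial
  exact (Z.mem_basicOpen_top s x).1 hx'

theorem mem_basicOpen_or {Z : Scheme.{u}} (g : Γ(Z, ⊤)) (x : Z) :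
    x ∈ Z.basicOpen g ∨ x ∈ Z.basicOpen (1 - g) := by
  rw [Z.mem_basicOpen_top, Z.mem_basicOpen_top, map_sub, map_one]
  exact IsLocalRing.isUnit_or_isUnit_one_sub_self _

theorem isEmpty_of_zero_eq_one {Z : Scheme.{u}} (h : (0 : Γ(Z, ⊤)) = 1) : IsEmpty Z := by
  refine ⟨fun x => ?_⟩
  have := congrArg (Z.presheaf.germ ⊤ x trivial).hom h
  rw [map_zero, map_one] at this
  exact zero_ne_one this

/-- the open subscheme `D` of the scheme underlying `E`, as an object of the small etale site -/
noncomputable def sub {S : Scheme.{u}} {X : AlgSp.Sp S} (E : AlgSp.EtOver X) (D : E.obj.left.left.Opens) :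
    AlgSp.EtOver X :=
  AlgSp.EtOver.mk (U := Over.mk (D.ι ≫ E.obj.left.hom))
    ((AlgSp.yon S).map (Over.homMk (U := Over.mk (D.ι ≫ E.obj.left.hom)) D.ι rfl) ≫ E.obj.hom)
    ((AlgSp.repWith_isMultiplicative (S := S) @Etale).comp_mem _ _
      ((AlgSp.repWith_yon_map_iff _ _).2 (inferInstance : Etale D.ι)) E.property)

noncomputable def subι {S : Scheme.{u}} {X : AlgSp.Sp S} (E : AlgSp.EtOver X) (D : E.obj.left.left.Opens) :
    sub E D ⟶ E :=
  AlgSp.EtOver.homMk (E := sub E D) (E' := E)
    (Over.homMk (U := Over.mk (D.ι ≫ E.obj.left.hom)) D.ι rfl) rfl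

theorem subι_left {S : Scheme.{u}} {X : AlgSp.Sp S} (E : AlgSp.EtOver X) (D : E.obj.left.left.Opens) :
    (subι E D).hom.left.left = D.ι := rfl

theorem isUnit_map_subι {S : Scheme.{u}} {X : AlgSp.Sp S} (E : AlgSp.EtOver X)
    (f : (AlgSp.OEt X).obj.obj (Opposite.op E)) :
    IsUnit (((AlgSp.OEt X).obj.map (subι E (E.obj.left.left.basicOpen f.down)).op).hom f) := by
  have h1 : IsUnit ((E.obj.left.left.basicOpen f.down).ι.appTop.hom f.down) := by
    apply isUnit_of_basicOpen_eq_top
    rw [← Scheme.preimage_basicOpen_top]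
    exact Scheme.Opens.ι_preimage_self _
  exact h1.map (ULift.ringEquiv.symm : _ ≃+* ULift.{u + 1} _)

/-- Let X be an algebraic space over a scheme S. Together with its structure sheaf O_X, the small etale
site of X is a locally ringed site: for every scheme U etale over X and every global function f on U
there is a covering sieve of U in the small etale site along each of whose arrows f or 1 - f pulls
back to a unit, and whenever 0 = 1 holds in the ring of global functions of U the empty sieve covers
U. -/
theorem result {S : Scheme.{u}} (X : AlgSp.Space S) :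
    ModSite.IsLocallyRinged (AlgSp.etTop X.obj) (AlgSp.OEt X.obj) := by
  refine ⟨?_, ?_⟩
  · intro E f
    let D : Bool → E.obj.left.left.Opens := fun b =>
      cond b (E.obj.left.left.basicOpen f.down) (E.obj.left.left.basicOpen (1 - f).down)
    refine ⟨Sieve.ofArrows (fun b => sub E (D b)) (fun b => subι E (D b)),
      AlgSp.ofArrows_mem_etTop _ _ ?_, ?_⟩
    · intro x
      have hx := mem_basicOpen_or (Z := E.obj.left.left) f.down x
      rcases hx with hm | hm
      · exact ⟨true, ⟨x, hm⟩, rfl⟩
      · exact ⟨false, ⟨x, hm⟩, rfl⟩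
    · rintro V k ⟨_, a, _, ⟨b⟩, rfl⟩
      rw [op_comp, Functor.map_comp, CommRingCat.hom_comp, RingHom.comp_apply,
        RingHom.comp_apply]
      cases b
      · right
        exact (isUnit_map_subι E (1 - f)).map _
      · left
        exact (isUnit_map_subι E f).map _
  · intro E h01
    have hempty : IsEmpty ↥E.obj.left.left :=
      isEmpty_of_zero_eq_one (Z := E.obj.left.left) (congrArg ULift.down h01)
    have hmem : Sieve.ofArrows (fun e : PEmpty.{1} => (e.elim : AlgSp.EtOver X.obj))
        (fun e => (e.elim : _ ⟶ E)) ∈ AlgSp.etTop X.obj E :=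
      AlgSp.ofArrows_mem_etTop _ _ (fun x => (hempty.false x).elim)
    refine (AlgSp.etTop X.obj).superset_covering ?_ hmem
    rintro V k ⟨_, a, _, ⟨e⟩, _⟩
    exact e.elim

end Groth.Agent.S10247
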