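import Groth.Statements.S10249
import Groth.Agent.Lib.Helper5.AlgSpChartInd
import Groth.Agent.Lib.Helper5.EtLocalDim

set_option autoImplicit false
universe u
open CategoryTheory CategoryTheory.Limits AlgebraicGeometry Topology TopologicalSpace
open AlgSp

namespace Groth.Agent.S10249

open AlgSp in
theorem hasAt_iff_of_isEtaleMor {S : Scheme.{u}} {Q : ∀ U : Scheme.{u}, ↥U → Prop}
    (hQ : ∀ {V U : Scheme.{u}} (g : V ⟶ U) [Etale g] (v : ↥V), Q V v ↔ Q U (g v))
    {X Y : AlgSp.Space S} (f : X ⟶ Y) (hf : AlgSp.IsEtaleMor f.hom) (x : AlgSp.Points X.obj) :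
    AlgSp.HasAt Q X.obj x ↔ AlgSp.HasAt Q Y.obj (AlgSp.Points.map f.hom x) := by
  constructor
  · rintro ⟨U, a, u, ha, hu, hQu⟩
    exact ⟨U, a ≫ f.hom, u, hf a ha, by rw [← AlgSp.Points.map_ofPt, hu], hQu⟩
  · intro h
    obtain ⟨U, a, u, ha, -, hu⟩ := Groth.Agent.Lib.helper11.exists_chart_ofPt X x
    refine ⟨U, a, u, ha, hu, ?_⟩
    exact (Groth.Agent.Lib.helper5.ChartInd.hasAt_iff_forall hQ Y _).1 h U (a ≫ f.hom) u (hf a ha)
      (by rw [← AlgSp.Points.map_ofPt, hu])

/-- Let X and Y be algebraic spaces over a scheme S, f : X ⟶ Y an etale morphism and x ∈ |X| with image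
y ∈ |Y|. Then (1) X at x and Y at y have the same dimension: for every d, some etale chart h_U ⟶ X
from a scheme U and some point u of U over x have local dimension d (of the topological space U at
u) if and only if the same holds for Y at y; and (2) the local rings of X at x and of Y at y have
the same Krull dimension, in the same some-chart sense with the Krull dimension of the local ring of
U at u. -/
theorem result {S : Scheme.{u}} {X Y : AlgSp.Space S} (f : X ⟶ Y)
    (hf : AlgSp.IsEtaleMor f.hom) (x : AlgSp.Points X.obj) :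
    (∀ d : WithBot ℕ∞,
        AlgSp.HasAt (fun U u => FlatMor.localDim ↥U u = d) X.obj x ↔
          AlgSp.HasAt (fun U u => FlatMor.localDim ↥U u = d) Y.obj (AlgSp.Points.map f.hom x)) ∧
    (∀ d : WithBot ℕ∞,
        AlgSp.HasAt (fun U u => ringKrullDim ↥(U.presheaf.stalk u) = d) X.obj x ↔
          AlgSp.HasAt (fun U u => ringKrullDim ↥(U.presheaf.stalk u) = d) Y.obj (AlgSp.Points.map f.hom x)) := by
  refine ⟨fun d => ?_, fun d => ?_⟩
  · refine hasAt_iff_of_isEtaleMor (Q := fun U u => FlatMor.localDim ↥U u = d) ?_ f hf x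
    intro V U g _ v
    rw [Groth.Agent.Lib.helper5.EtLocalDim.localDim_eq_of_etale g v]
  · refine hasAt_iff_of_isEtaleMor (Q := fun U u => ringKrullDim ↥(U.presheaf.stalk u) = d) ?_ f hf x
    intro V U g _ v
    rw [Groth.Agent.Lib.helper5.EtLocalProp.ringKrullDim_stalk_eq_of_etale g v]

end Groth.Agent.S10249
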