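import Groth.Statements.S10250
import Groth.Agent.S9906
import Mathlib

set_option autoImplicit false
universe u
open CategoryTheory CategoryTheory.Limits AlgebraicGeometry Topology TopologicalSpace
open AlgSp

namespace Groth.Agent.S10250

section topdim
open TopologicalSpace

variable {A B : Type*} [TopologicalSpace A] [TopologicalSpace B]

/-- the closure of a point as an irreducible closed subset -/
def clPt (x : A) : IrreducibleCloseds A := ⟨closure {x}, isIrreducible_singleton.closure, isClosed_closure⟩

theorem exists_ltSeries_lift [QuasiSober B] {f : A → B} (hc : Continuous f)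
    (hg : GeneralizingMap f) :
    ∀ (n : ℕ) (p : LTSeries (IrreducibleCloseds B)) (_ : p.length = n) (x : A),
      p.head = clPt (f x) → ∃ q : LTSeries (IrreducibleCloseds A), q.length = n ∧ q.head = clPt x := by
  intro n
  induction n with
  | zero =>
    intro p hp x hx
    exact ⟨RelSeries.singleton _ (clPt x), rfl, rfl⟩
  | succ n ih =>
    intro p hp x hx
    have hlen : p.length ≠ 0 := by omega
    have hlt : p.head < (p.tail hlen).head := by
      rw [RelSeries.head_tail]
      exact p.strictMono (by
        rw [Fin.lt_def]
        show (0 : ℕ) < ((1 : Fin (p.length + 1)) : ℕ)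
        rw [Fin.val_one']
        rw [Nat.mod_eq_of_lt (by omega)]
        exact Nat.one_pos)
    set Z₁ := (p.tail hlen).head with hZ₁
    have hcl : closure {Z₁.isIrreducible'.genericPoint} = (Z₁ : Set B) :=
      Z₁.isIrreducible'.closure_genericPoint Z₁.isClosed'
    set y₁ := Z₁.isIrreducible'.genericPoint
    have hy : y₁ ⤳ f x := by
      rw [specializes_iff_mem_closure, hcl]
      have h1 : f x ∈ (p.head : Set B) := by rw [hx]; exact subset_closure rfl
      exact hlt.le h1
    obtain ⟨x₁, hx₁, hfx₁⟩ := hg hy
    have hZ : Z₁ = clPt (f x₁) := by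
      rw [hfx₁]; exact SetLike.coe_injective hcl.symm
    obtain ⟨q', hq'len, hq'head⟩ := ih (p.tail hlen) (by simp [hp]) x₁ hZ
    have hrel : clPt x < q'.head := by
      rw [hq'head]
      refine lt_of_le_of_ne ?_ ?_
      · show closure {x} ⊆ closure {x₁}
        exact hx₁.closure_subset
      · intro heq
        have h1 : x ⤳ x₁ := by
          rw [specializes_iff_closure_subset]
          exact (congrArg (fun Z : IrreducibleCloseds A => (Z : Set A)) heq).ge
        have h2 : f x ⤳ f x₁ := h1.map hc
        have h3 : Z₁ ≤ p.head := by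
          rw [hZ, hx]
          show closure {f x₁} ⊆ closure {f x}
          exact h2.closure_subset
        exact absurd hlt (not_lt_of_ge h3)
    exact ⟨q'.cons (clPt x) hrel, by simp [hq'len], rfl⟩

theorem topologicalKrullDim_le_of_generalizing [QuasiSober B] {f : A → B} (hc : Continuous f)
    (hg : GeneralizingMap f) (hs : Function.Surjective f) :
    topologicalKrullDim B ≤ topologicalKrullDim A := by
  unfold topologicalKrullDim Order.krullDim
  refine iSup_le fun p => ?_
  have hcl : closure {p.head.isIrreducible'.genericPoint} = (p.head : Set B) :=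
    p.head.isIrreducible'.closure_genericPoint p.head.isClosed'
  obtain ⟨x, hx⟩ := hs p.head.isIrreducible'.genericPoint
  obtain ⟨q, hq1, hq2⟩ := exists_ltSeries_lift hc hg p.length p rfl x
    (by rw [hx]; exact SetLike.coe_injective hcl.symm)
  rw [← hq1]
  exact le_iSup (fun q : LTSeries (IrreducibleCloseds A) => (q.length : WithBot ℕ∞)) q

end topdim

theorem main {S : Scheme.{u}} {X Y : AlgSp.Space S} (f : X ⟶ Y)
    (hf : AlgSp.IsEtaleMor f.hom) (hs : AlgSp.IsSurjectiveMor f.hom) :
    AlgSp.dim X.obj = AlgSp.dim Y.obj := by
  apply le_antisymm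
  · unfold AlgSp.dim
    refine iSup_le fun U => iSup_le fun a => iSup_le fun ha => ?_
    exact le_iSup_of_le U (le_iSup_of_le (a ≫ f.hom) (le_iSup_of_le (hf a ha) le_rfl))
  · unfold AlgSp.dim
    refine iSup_le fun V => iSup_le fun b => iSup_le fun hb => ?_
    obtain ⟨U, a, ha1, ha2⟩ := X.property.atlas
    have hc : RepWith @Etale (a ≫ f.hom) := hf a ha1
    obtain ⟨W, g, fst, sq⟩ := hb.rep (a ≫ f.hom)
    have hg : Etale g.left := ((repWith_iff _ b).1 hb).2 _ fst g sq
    obtain ⟨k, hk⟩ := (yon S).map_surjective fst
    have sq' : IsPullback ((yon S).map g) ((yon S).map k) (a ≫ f.hom) b := by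
      rw [hk]; exact sq.flip
    have hk1 : Etale k.left := ((repWith_iff _ _).1 hc).2 b ((yon S).map g) k sq'
    have hchart : RepWith @Etale ((yon S).map g ≫ a) :=
      (RepWith @Etale).comp_mem _ _ ((repWith_yon_map_iff _ g).2 hg) ha1
    have hasurj : IsSurjectiveMor a := by
      let a' : (⟨(yon S).obj U, IsAlgSpace.yon_obj U⟩ : Space S) ⟶ X := ObjectProperty.homMk a
      exact (Groth.Agent.S9906.result a' ha2.rep).1 ha2
    have hksurj : Function.Surjective (fun w => k.left w) := by
      intro v
      obtain ⟨x, hx⟩ := hs (Points.map b (Points.schemeHomeo V v))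
      obtain ⟨u', hu'⟩ := hasurj x
      have e : Points.map b (Points.schemeHomeo V v) = Points.map (a ≫ f.hom) u' := by
        rw [Points.map_comp, hu', hx]
      obtain ⟨w, hw1, hw2⟩ := Groth.Agent.Lib.helper10.exists_point_of_isPullback sq.flip u'
        (Points.schemeHomeo V v) e.symm
      refine ⟨(Points.schemeHomeo W).symm w, ?_⟩
      apply (Points.schemeHomeo V).injective
      rw [← hk] at hw2
      rw [← hw2]
      conv_rhs => rw [← (Points.schemeHomeo W).apply_symm_apply w]
      exact (Points.map_yon_map_apply k _).symm
    have hdim : topologicalKrullDim ↥V.left ≤ topologicalKrullDim ↥W.left :=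
      topologicalKrullDim_le_of_generalizing k.left.continuous (Flat.generalizingMap k.left) hksurj
    exact hdim.trans (le_iSup_of_le W (le_iSup_of_le ((yon S).map g ≫ a)
      (le_iSup_of_le hchart le_rfl)))

/-- Let f : X ⟶ Y be an etale and surjective morphism of algebraic spaces over a scheme S. Then X and Y
have the same dimension (the dimension of an algebraic space being the supremum of the Krull
dimensions of the schemes etale over it). -/
theorem result {S : Scheme.{u}} {X Y : AlgSp.Space S} (f : X ⟶ Y)
    (hf : AlgSp.IsEtaleMor f.hom) (hs : AlgSp.IsSurjectiveMor f.hom) :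
    AlgSp.dim X.obj = AlgSp.dim Y.obj := by
  exact main f hf hs

end Groth.Agent.S10250
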