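import Groth.Statements.S10254
import Groth.Agent.Lib.Helper5.EtPoint5

set_option autoImplicit false
universe u
open CategoryTheory CategoryTheory.Limits AlgebraicGeometry Topology TopologicalSpace
open AlgSp

namespace Groth.Agent.S10254

/-- On the small etale site with scheme objects: let X be an algebraic space over a scheme S, F an
abelian sheaf on the small etale site of X, U an object of that site and σ ∈ F(U). Then there is an
open subset W of U such that: for every morphism φ : V ⟶ U of the site, σ|_V = 0 if and only if φ
maps V into W (in particular W is the largest open subscheme of U on which σ restricts to zero); and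
for every geometric point x̄ of X and every lift ū of x̄ to U, the image of σ in the stalk F_x̄
through the etale neighbourhood (U, ū) vanishes if and only if the point of U under ū lies in W.
(The published statement is for abelian sheaves on the site of algebraic spaces etale over X; this
row is its restriction to the site of schemes etale over X, where V ranges over schemes.) -/
theorem result {S : Scheme.{u}} (X : AlgSp.Space S) (F : AlgSp.AbEt X.obj)
    (U : AlgSp.EtOver X.obj) (σ : ↥(F.obj.obj (Opposite.op U))) :
    ∃ W : TopologicalSpace.Opens ↥U.obj.left.left,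
      (∀ (V : AlgSp.EtOver X.obj) (φ : V ⟶ U),
          (F.obj.map φ.op).hom σ = 0 ↔ Set.range (fun v => φ.hom.left.left v) ⊆ (W : Set ↥U.obj.left.left)) ∧
      (∀ p : AlgSp.FieldPt X.obj, p.IsGeometric → ∀ l : (AlgSp.FieldPt.liftsTo p).obj U,
          (AlgSp.stalkEtι p F ⟨U, l⟩).hom σ = 0 ↔ l.1.left (IsLocalRing.closedPoint p.K) ∈ W) := by
  have hpf : PreservesFilteredColimitsOfSize.{u, u} (forget AddCommGrpCat.{u + 1}) :=
    preservesFilteredColimitsOfSize_shrink.{u, u + 1, u, u + 1} _
  refine ⟨⟨Groth.Agent.Lib.helper5.EtPoint.agreeLocus F.obj σ 0,
    Groth.Agent.Lib.helper5.EtPoint.isOpen_agreeLocus F.obj σ 0⟩, ?_, ?_⟩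
  · intro V φ
    constructor
    · intro h
      refine Groth.Agent.Lib.helper5.EtPoint.range_subset_agreeLocus F.obj σ 0 φ ?_
      rw [map_zero]
      exact h
    · intro h
      have := Groth.Agent.Lib.helper5.EtPoint.eq_of_range_subset_agreeLocus F σ 0 φ h
      rw [map_zero] at this
      exact this
  · intro p hp l
    have : IsAlgClosed p.K := hp
    have key := Groth.Agent.Lib.helper5.EtPoint.germ_eq_iff_mem_agreeLocus X.property p F.obj σ 0 l
    rw [map_zero] at key
    have e : (IsLocalRing.closedPoint p.K : PrimeSpectrum p.K) = (default : ↥(Spec (CommRingCat.of p.K))) :=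
      Subsingleton.elim (α := PrimeSpectrum p.K) _ _
    rw [e]
    exact key

end Groth.Agent.S10254
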