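import Groth.Statements.S10256
import Groth.Agent.Lib.Helper5.EtPoint5

set_option autoImplicit false
universe u
open CategoryTheory CategoryTheory.Limits AlgebraicGeometry Topology TopologicalSpace
open AlgSp

namespace Groth.Agent.S10256

open Groth.Agent.Lib.helper5.EtPoint Groth.Agent.Lib.helper11

set_option backward.isDefEq.respectTransparency false in
/-- the point of `X` under a lift of a field-valued point -/
theorem ofPt_lift {S : Scheme.{u}} {X : AlgSp.Sp S} (p : AlgSp.FieldPt X) {U : AlgSp.EtOver X}
    (l : (AlgSp.FieldPt.liftsTo p).obj U) :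
    AlgSp.Points.ofPt U.obj.hom (l.1.left (default : ↥(Spec (CommRingCat.of p.K)))) = AlgSp.Points.mk p := by
  rw [← ofPt_yon_map_comp, l.2, AlgSp.Points.ofPt_toHom]

/-- Let X be an algebraic space over a scheme S, F an abelian sheaf on the small etale site of X and x ∈
|X|. Then x lies in the support of F, in the sense that the stalk F_x̄ is nonzero for some geometric
point x̄ over x, if and only if x is the image of a point u of some U etale over X lying in the
support of some section σ ∈ F(U), i.e. such that σ does not restrict to zero on any V ⟶ U whose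
image contains u. (The published definition of the support allows any, equivalently some, geometric
point over x; this row uses the existential form and does not assert that the two readings agree.) -/
theorem result {S : Scheme.{u}} (X : AlgSp.Space S) (F : AlgSp.AbEt X.obj)
    (x : AlgSp.Points X.obj) :
    (∃ p : AlgSp.FieldPt X.obj, p.IsGeometric ∧ AlgSp.Points.mk p = x ∧ ¬ IsZero (AlgSp.stalkEt p F)) ↔
      ∃ (U : AlgSp.EtOver X.obj) (σ : ↥(F.obj.obj (Opposite.op U))) (u : ↥U.obj.left.left),
        AlgSp.Points.ofPt U.obj.hom u = x ∧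
          ∀ (V : AlgSp.EtOver X.obj) (φ : V ⟶ U), (F.obj.map φ.op).hom σ = 0 →
            u ∉ Set.range (fun v => φ.hom.left.left v) := by
  have hpf : PreservesFilteredColimitsOfSize.{u, u} (forget AddCommGrpCat.{u + 1}) :=
    preservesFilteredColimitsOfSize_shrink.{u, u + 1, u, u + 1} _
  constructor
  · rintro ⟨p, hp, hx, hnz⟩
    have : IsAlgClosed p.K := hp
    let Φ := point p X.property
    have hns : ¬ Subsingleton ↑(AlgSp.stalkEt p F) := fun hs =>
      hnz (AddCommGrpCat.isZero_of_subsingleton _)
    rw [not_subsingleton_iff_nontrivial] at hns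
    obtain ⟨ξ, hξ⟩ := exists_ne (0 : ↑(AlgSp.stalkEt p F))
    obtain ⟨U, l, σ, hσ⟩ := Φ.toPresheafFiber_jointly_surjective (P := F.obj) ξ
    refine ⟨U, σ, l.1.left (default : ↥(Spec (CommRingCat.of p.K))), ?_, ?_⟩
    · rw [ofPt_lift p l, hx]
    · intro V φ hφ hu
      apply hξ
      rw [← hσ]
      have h1 : F.obj.map φ.op σ = F.obj.map φ.op 0 := by rw [map_zero]; exact hφ
      have h2 := (germ_eq_iff_mem_agreeLocus X.property p F.obj σ 0 l).2
        (range_subset_agreeLocus F.obj σ 0 φ h1 hu)
      rw [map_zero] at h2
      exact h2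
  · rintro ⟨U, σ, u, hu, h⟩
    obtain ⟨p, hp, l, hl⟩ := exists_geomPoint U u
    refine ⟨p, hp, ?_, fun hz => ?_⟩
    · rw [← hu, ← hl, ofPt_lift p l]
    · have hs : Subsingleton ↑(AlgSp.stalkEt p F) := AddCommGrpCat.subsingleton_of_isZero hz
      have h2 : (point p X.property).toPresheafFiber U l F.obj σ =
          (point p X.property).toPresheafFiber U l F.obj 0 :=
        Subsingleton.elim (α := ↑(AlgSp.stalkEt p F)) _ _
      obtain ⟨V, φ, hφ, hv⟩ := (germ_eq_iff_mem_agreeLocus X.property p F.obj σ 0 l).1 h2
      rw [map_zero] at hφ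
      rw [hl] at hv
      exact h V φ hφ hv

end Groth.Agent.S10256
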