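import Groth.Statements.S10257
import Groth.Agent.Lib.Helper5.EtPoint5
import Groth.Agent.S10256

set_option autoImplicit false
universe u
open CategoryTheory CategoryTheory.Limits AlgebraicGeometry Topology TopologicalSpace
open AlgSp

namespace Groth.Agent.S10257

open Groth.Agent.Lib.helper5.EtPoint Groth.Agent.Lib.helper11

/-- Let X be an algebraic space over a scheme S and O' a sheaf of commutative rings on the small etale
site of X. Then the support of O', the set of points x ∈ |X| such that the stalk O'_x̄ is not the
zero ring for some geometric point x̄ over x, is closed in |X|. (The published definition of the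
support allows any, equivalently some, geometric point over x; this row uses the existential form
and does not assert that the two readings agree.) -/
theorem result {S : Scheme.{u}} (X : AlgSp.Space S)
    (O' : AlgSp.EtSh X.obj CommRingCat.{u + 1}) :
    IsClosed {x : AlgSp.Points X.obj |
      ∃ p : AlgSp.FieldPt X.obj, p.IsGeometric ∧ AlgSp.Points.mk p = x ∧ Nontrivial ↥(AlgSp.stalkEt p O')} := by
  have hpf : PreservesFilteredColimitsOfSize.{u, u} (forget CommRingCat.{u + 1}) :=
    preservesFilteredColimitsOfSize_shrink.{u, u + 1, u, u + 1} _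
  have hcol : HasColimitsOfSize.{u, u} CommRingCat.{u + 1} :=
    hasColimitsOfSizeShrink.{u, u, u + 1, u + 1} _
  obtain ⟨U₀, a, hae, has⟩ := X.property.atlas
  let E₀ : AlgSp.EtOver X.obj := AlgSp.EtOver.mk a hae
  rw [← isOpen_compl_iff, ← (isQuotientMap_ofPt a hae has).isOpen_preimage]
  have key : AlgSp.Points.ofPt a ⁻¹' {x : AlgSp.Points X.obj |
      ∃ p : AlgSp.FieldPt X.obj, p.IsGeometric ∧ AlgSp.Points.mk p = x ∧
        Nontrivial ↥(AlgSp.stalkEt p O')}ᶜ =
      agreeLocus O'.obj (U := E₀) (1 : ↑(O'.obj.obj (Opposite.op E₀))) 0 := by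
    ext u
    constructor
    · intro hu
      obtain ⟨p, hp, l, hl⟩ := exists_geomPoint E₀ u
      have hmk : AlgSp.Points.mk p = AlgSp.Points.ofPt a u := by
        rw [← hl]
        exact (Groth.Agent.S10256.ofPt_lift p l).symm
      have hs : Subsingleton ↥(AlgSp.stalkEt p O') := by
        rw [← not_nontrivial_iff_subsingleton]
        exact fun hn => hu ⟨p, hp, hmk, hn⟩
      rw [← hl]
      exact (germ_eq_iff_mem_agreeLocus X.property p O'.obj _ _ l).1
        (Subsingleton.elim (α := ↥(AlgSp.stalkEt p O')) _ _)
    · rintro hu ⟨p, hp, hmk, hn⟩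
      have : IsAlgClosed p.K := hp
      obtain ⟨l₀, hl1, hl2⟩ := exists_lift_chart a hae p u hmk.symm
      let l : (AlgSp.FieldPt.liftsTo p).obj E₀ := ⟨l₀, hl1⟩
      have h1 := (germ_eq_iff_mem_agreeLocus X.property p O'.obj
        (1 : ↑(O'.obj.obj (Opposite.op E₀))) 0 l).2 (by rw [← hl2] at hu; exact hu)
      rw [map_one, map_zero] at h1
      exact one_ne_zero (α := ↥(AlgSp.stalkEt p O')) h1
  rw [key]
  exact isOpen_agreeLocus _ _ _

end Groth.Agent.S10257
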