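import Groth.Statements.S10260
import Groth.Agent.Lib.Helper1.QLocD

set_option autoImplicit false
universe u
open CategoryTheory CategoryTheory.Limits AlgebraicGeometry
open AlgSp

namespace Groth.Agent.S10260

open Groth.Agent.Lib.helper5 in
theorem main {S : Scheme.{u}} {X Y : AlgSp.Space S} (f : X ⟶ Y)
    (hqf : AlgSp.LocP (@LocallyQuasiFinite ⊓ @LocallyOfFiniteType) f.hom) (hsep : AlgSp.IsSeparatedMor f.hom) :
    AlgSp.Representable f.hom := by
  intro U g
  have sq : IsPullback (pullback.fst f.hom g) (pullback.snd f.hom g) f.hom g :=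
    IsPullback.of_hasPullback _ _
  have hXU : IsAlgSpace (pullback f.hom g) :=
    isAlgSpace_of_isPullback Y.property.diag X.property (IsAlgSpace.yon_obj _) sq
  have hs := Groth.Agent.H1.QDesc.isSeparatedMor_of_isPullback sq hsep
  have hq := LocPBC.locP_of_isPullback LocPBC.locPData_lqf X.property Y.property
    (IsAlgSpace.yon_obj _) sq hqf
  obtain ⟨W, α, hα⟩ := Groth.Agent.H1.QLoc.exists_iso_of_lqf_separated hXU _ hs hq
  obtain ⟨w, hw⟩ := (yon S).map_surjective (α ≫ pullback.snd f.hom g)
  refine ⟨W, w, α ≫ pullback.fst f.hom g, ?_⟩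
  rw [hw]
  have h1 : IsPullback α (α ≫ pullback.snd f.hom g) (pullback.snd f.hom g) (𝟙 _) :=
    IsPullback.of_horiz_isIso ⟨by rw [Category.comp_id]⟩
  have h2 := h1.paste_horiz sq
  rw [Category.id_comp] at h2
  exact h2

/-- A locally quasi-finite separated morphism of algebraic spaces is representable by schemes. -/
theorem result {S : Scheme.{u}} {X Y : AlgSp.Space S} (f : X ⟶ Y)
    (hqf : AlgSp.LocP (@LocallyQuasiFinite ⊓ @LocallyOfFiniteType) f.hom) (hsep : AlgSp.IsSeparatedMor f.hom) :
    AlgSp.Representable f.hom := by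
  exact main f hqf hsep

end Groth.Agent.S10260
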