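import Groth.Statements.S10263
import Groth.Agent.Lib.Helper2.AlgSpCancel

set_option autoImplicit false
universe u
open CategoryTheory CategoryTheory.Limits AlgebraicGeometry
open AlgSp

namespace Groth.Agent.S10263

/-- If the composite X -> Y -> Z is unramified then X -> Y is unramified. -/
theorem result {S : Scheme.{u}} {X Y Z : AlgSp.Space S} (f : X ⟶ Y) (g : Y ⟶ Z)
    (h : AlgSp.LocP (@LocallyOfFiniteType ⊓ @FormallyUnramified) (f ≫ g).hom) :
    AlgSp.LocP (@LocallyOfFiniteType ⊓ @FormallyUnramified) f.hom := by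
  refine Groth.Agent.Lib.helper2.AlgSpCancel.locP_of_comp
    (@LocallyOfFiniteType ⊓ @FormallyUnramified) ⊤ ?_ f g ?_ h
  · intro A B C u v _ huv
    have h1 : LocallyOfFiniteType (u ≫ v) := huv.1
    have h2 : FormallyUnramified (u ≫ v) := huv.2
    exact ⟨locallyOfFiniteType_of_comp u v, FormallyUnramified.of_comp u v⟩
  · intro U V a b h' _ _ _
    trivial

end Groth.Agent.S10263
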