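import Groth.Statements.S10273
import Groth.Agent.S10275
import Groth.Agent.S10536
import Groth.Agent.Lib.Helper5.AlgSpEtFpqc2

set_option autoImplicit false
universe u
open CategoryTheory CategoryTheory.Limits AlgebraicGeometry
open AlgSp

namespace Groth.Agent.S10273

/-- (1) ⇔ (3): properness of a morphism of algebraic spaces can be tested after base change to affine
schemes over the target. -/
theorem result {S : Scheme.{u}} {X Y : AlgSp.Space S} (f : X ⟶ Y) :
    AlgSp.IsProperMor f.hom ↔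
      ∀ (Z : Over S), IsAffine Z.left → ∀ (g : (AlgSp.yon S).obj Z ⟶ Y.obj) (P : AlgSp.Sp S) (fst : P ⟶ X.obj)
        (snd : P ⟶ (AlgSp.yon S).obj Z), IsPullback fst snd f.hom g → AlgSp.IsProperMor snd := by
  constructor
  · intro hf Z hZ g P fst snd sq
    have hP : IsAlgSpace P := Groth.Agent.Lib.helper5.isAlgSpace_of_isPullback Y.property.diag X.property
      (IsAlgSpace.yon_obj Z) sq
    exact Groth.Agent.S10275.result f
      (ObjectProperty.homMk g : (⟨(AlgSp.yon S).obj Z, IsAlgSpace.yon_obj Z⟩ : AlgSp.Space S) ⟶ Y)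
      (ObjectProperty.homMk fst : (⟨P, hP⟩ : AlgSp.Space S) ⟶ X) (ObjectProperty.homMk snd) sq hf
  · intro h
    obtain ⟨V₀, b₀, hb₀e, hb₀s⟩ := Y.property.atlas
    have hcov := Groth.Agent.Lib.helper5.EtFpqc.isFpqcCover_affineOpens Y.property V₀ b₀ hb₀e hb₀s
    have sqk : ∀ k : V₀.left.affineOpens, IsPullback
        (pullback.fst f.hom ((AlgSp.yon S).map (Groth.Agent.Lib.helper5.OpenSub.subOverι V₀ k.1) ≫ b₀))
        (pullback.snd f.hom ((AlgSp.yon S).map (Groth.Agent.Lib.helper5.OpenSub.subOverι V₀ k.1) ≫ b₀))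
        f.hom ((AlgSp.yon S).map (Groth.Agent.Lib.helper5.OpenSub.subOverι V₀ k.1) ≫ b₀) :=
      fun k => IsPullback.of_hasPullback _ _
    refine (Groth.Agent.S10536.result S (ι := V₀.left.affineOpens)
      (fun k => (AlgSp.yon S).obj (Groth.Agent.Lib.helper5.OpenSub.subOver V₀ k.1))
      (fun k => (AlgSp.yon S).map (Groth.Agent.Lib.helper5.OpenSub.subOverι V₀ k.1) ≫ b₀)
      Y.property (fun _ => IsAlgSpace.yon_obj _) hcov f.hom X.property
      (fun k => pullback f.hom ((AlgSp.yon S).map (Groth.Agent.Lib.helper5.OpenSub.subOverι V₀ k.1) ≫ b₀))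
      (fun k => pullback.snd _ _) (fun k => pullback.fst _ _)
      (fun k => Groth.Agent.Lib.helper5.isAlgSpace_of_isPullback Y.property.diag X.property
        (IsAlgSpace.yon_obj _) (sqk k)) sqk).2 ?_
    intro k
    have hVk : IsAffine (Groth.Agent.Lib.helper5.OpenSub.subOver V₀ k.1).left := k.2
    exact h _ hVk _ _ _ _ (sqk k)

end Groth.Agent.S10273
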