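import Groth.Statements.S10274
import Groth.Agent.S9904
import Groth.Agent.Lib.Helper1.SevenProps

set_option autoImplicit false
universe u
open CategoryTheory CategoryTheory.Limits AlgebraicGeometry
open AlgSp

namespace Groth.Agent.S10274

/-- `LocP P` descends along a surjective etale base change from a scheme. -/
theorem locP_of_etale_cover {S : Scheme.{u}} {P₀ : MorphismProperty Scheme.{u}}
    (hP₀ : Groth.Agent.Lib.helper5.LocPBC.LocPData P₀) {X Y : Sp S} (hX : IsAlgSpace X) (hY : IsAlgSpace Y)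
    (f : X ⟶ Y) (V : Over S)
    (p : (AlgSp.yon S).obj V ⟶ Y) (hp : AlgSp.RepWith @Etale p) (hps : AlgSp.RepWith @Surjective p)
    {P : AlgSp.Sp S} (fst : P ⟶ X) (snd : P ⟶ (AlgSp.yon S).obj V) (sq : IsPullback fst snd f p)
    (h : LocP P₀ snd) : LocP P₀ f := by
  have hP : IsAlgSpace P :=
    Groth.Agent.Lib.helper5.isAlgSpace_of_isPullback hY.diag hX (IsAlgSpace.yon_obj V) sq
  obtain ⟨U, a, hae, has⟩ := hP.atlas
  obtain ⟨k, hk⟩ := (yon S).map_surjective (a ≫ snd)
  have hfe : RepWith @Etale fst := (repWith_isStableUnderBaseChange (S := S) @Etale).of_isPullback sq.flip hp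
  have hfs : RepWith @Surjective fst :=
    (repWith_isStableUnderBaseChange (S := S) @Surjective).of_isPullback sq.flip hps
  have hk' : P₀ k.left := h a (𝟙 _) k hae (repWith_id @Etale V) (by rw [hk, Category.comp_id])
  refine Groth.Agent.H1.Seven.locP_of_one_chart hP₀ f (a ≫ fst) p k
    ((repWith_isMultiplicative (S := S) @Etale).comp_mem _ _ hae hfe)
    ((repWith_isMultiplicative (S := S) @Surjective).comp_mem _ _ has hfs) hp ?_ hk'
  rw [Category.assoc, sq.w, ← Category.assoc, hk]

theorem main {S : Scheme.{u}} {X Y : AlgSp.Space S} (f : X ⟶ Y) (V : Over S)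
    (p : (AlgSp.yon S).obj V ⟶ Y.obj) (hp : AlgSp.RepWith @Etale p) (hps : AlgSp.RepWith @Surjective p)
    {P : AlgSp.Sp S} (fst : P ⟶ X.obj) (snd : P ⟶ (AlgSp.yon S).obj V) (sq : IsPullback fst snd f.hom p)
    (h : AlgSp.IsProperMor snd) : AlgSp.IsProperMor f.hom := by
  obtain ⟨h1, ⟨h2, h3⟩, h4⟩ := h
  refine ⟨(Groth.Agent.S9904.result f V p hp hps fst snd sq).1 h1, ⟨?_, ?_⟩,
    Groth.Agent.S9924.result f V p hp hps fst snd sq h4⟩
  · exact locP_of_etale_cover Groth.Agent.Lib.helper5.LocPBC.locPData_lft X.property Y.property f.hom V p hp hps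
      fst snd sq h2
  · exact Groth.Agent.Lib.helper5.isQuasiCompactMor_of_etale_cover X.property.atlas Y.property.diag f.hom p hp hps
      sq h3

/-- (4) ⇒ (1): properness of a morphism of algebraic spaces descends along a surjective etale base
change from a scheme. -/
theorem result {S : Scheme.{u}} {X Y : AlgSp.Space S} (f : X ⟶ Y) (V : Over S)
    (p : (AlgSp.yon S).obj V ⟶ Y.obj) (hp : AlgSp.RepWith @Etale p) (hps : AlgSp.RepWith @Surjective p)
    {P : AlgSp.Sp S} (fst : P ⟶ X.obj) (snd : P ⟶ (AlgSp.yon S).obj V) (sq : IsPullback fst snd f.hom p)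
    (h : AlgSp.IsProperMor snd) : AlgSp.IsProperMor f.hom := by
  exact main f V p hp hps fst snd sq h

end Groth.Agent.S10274
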