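import Groth.Statements.S10280
import Groth.Agent.Lib.Helper1.Diagonal
import Groth.Agent.S10277

set_option autoImplicit false
universe u
open CategoryTheory CategoryTheory.Limits AlgebraicGeometry
open AlgSp

namespace Groth.Agent.S10280

theorem isProperMor_diagonal_of_isSeparatedMor {S : Scheme.{u}} {X Y : AlgSp.Space S} (f : X ⟶ Y)
    (h : AlgSp.IsSeparatedMor f.hom) : AlgSp.IsProperMor (pullback.diagonal f.hom) := by
  have hPull : IsAlgSpace (pullback f.hom f.hom) :=
    Groth.Agent.Lib.helper5.isAlgSpace_of_isPullback Y.property.diag X.property X.property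
      (IsPullback.of_hasPullback f.hom f.hom)
  let P : AlgSp.Space S := ⟨pullback f.hom f.hom, hPull⟩
  let d : X ⟶ P := ObjectProperty.homMk (pullback.diagonal f.hom)
  exact Groth.Agent.S10277.result d h

theorem main {S : Scheme.{u}} {X Y : AlgSp.Space S} (f : X ⟶ Y) :
    (AlgSp.IsSeparatedMor f.hom ↔ AlgSp.IsUnivClosedMor (pullback.diagonal f.hom)) ∧
    (AlgSp.IsSeparatedMor f.hom ↔ AlgSp.IsProperMor (pullback.diagonal f.hom)) := by
  refine ⟨⟨fun h => (isProperMor_diagonal_of_isSeparatedMor f h).2.2, fun h => ?_⟩,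
    ⟨isProperMor_diagonal_of_isSeparatedMor f, fun h => ?_⟩⟩
  · exact Groth.Agent.H1.Diagonal.repWith_isClosedImmersion_diagonal_of_univClosed X.property Y.property
      f.hom h
  · exact Groth.Agent.H1.Diagonal.repWith_isClosedImmersion_diagonal_of_univClosed X.property Y.property
      f.hom h.2.2

/-- F is separated if and only if its diagonal is universally closed, if and only if its diagonal is
proper. -/
theorem result {S : Scheme.{u}} {X Y : AlgSp.Space S} (f : X ⟶ Y) :
    (AlgSp.IsSeparatedMor f.hom ↔ AlgSp.IsUnivClosedMor (pullback.diagonal f.hom)) ∧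
    (AlgSp.IsSeparatedMor f.hom ↔ AlgSp.IsProperMor (pullback.diagonal f.hom)) := by
  exact main f

end Groth.Agent.S10280
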