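import Groth.Statements.S10281
import Groth.Agent.LibAlgSpKer29c
import Groth.Agent.S10278
import Groth.Agent.S9925
import Groth.Agent.S10276
import Groth.Agent.S10277
import Groth.Agent.Lib.Helper5.AlgSpProperSurj
-- import your own Groth.Agent.* helpers here

set_option autoImplicit false
universe u
open CategoryTheory CategoryTheory.Limits AlgebraicGeometry
open AlgSp

namespace Groth.Agent.S10281

/-- The scheme theoretic image of a space proper over B in a space separated and locally of finite type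
over B is proper over B, and the source surjects onto it. -/
theorem result {S : Scheme.{u}} {X Y Z B : AlgSp.Space S} (h : X ⟶ Y) (f : X ⟶ B)
    (g : Y ⟶ B) (comm : h ≫ g = f) (hf : AlgSp.IsProperMor f.hom) (hg : AlgSp.IsSeparatedMor g.hom)
    (hg' : AlgSp.LocP @LocallyOfFiniteType g.hom) (i : Z ⟶ Y) (hZ : AlgSp.IsSchImage h.hom i.hom)
    (h' : X ⟶ Z) (fac : h' ≫ i = h) :
    AlgSp.IsProperMor (i ≫ g).hom ∧ AlgSp.IsSurjectiveMor h'.hom := by
  obtain ⟨hf1, ⟨hf2, hf3⟩, hf4⟩ := hf
  obtain ⟨hhc, hhcl⟩ := (Groth.Agent.S10278.result h f g comm hg).1 hf4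
  have hhq : AlgSp.IsQuasiCompactMor h.hom := Groth.Agent.S9925.result h hhc
  have hcut := (Groth.Agent.LibAlgSpIdeal29.isSchImage_iff_isCutOutBy_kerIdeal h hhq Z i).1 hZ
  have hdense := Groth.Agent.LibAlgSpIdeal29.range_subset_closure_of_isCutOutBy h i hcut
  rw [hhcl.closure_eq] at hdense
  have hi := hcut.1
  have hs : AlgSp.IsSurjectiveMor h'.hom := by
    intro z
    obtain ⟨x, hx⟩ := hdense ⟨z, rfl⟩
    refine ⟨x, Groth.Agent.Lib.helper5.ProperSurj.injective_map_of_closedImmersion hi ?_⟩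
    rw [← hx, ← fac]
    exact (AlgSp.Points.map_comp h'.hom i.hom x).symm
  have hisep : AlgSp.IsSeparatedMor i.hom := (Groth.Agent.S10277.result i hi).1
  have hsep : AlgSp.IsSeparatedMor (i ≫ g).hom :=
    Groth.Agent.S10276.isSeparatedMor_comp i.hom g.hom hisep hg
  have comm' : h' ≫ (i ≫ g) = f := by rw [← Category.assoc, fac, comm]
  have hc' : AlgSp.IsUnivClosedMor h'.hom :=
    ((Groth.Agent.S10278.result h' f (i ≫ g) comm' hsep).1 hf4).1
  have hlft : AlgSp.LocP @LocallyOfFiniteType (i ≫ g).hom :=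
    Groth.Agent.S10276.locP_lft_comp Y.property i.hom g.hom
      (Groth.Agent.Lib.helper5.ProperSurj.locP_lft_of_closedImmersion Z.property Y.property hi) hg'
  exact ⟨Groth.Agent.Lib.helper5.ProperSurj.isProperMor_of_surjective_univClosed h' f (i ≫ g)
    comm' hs hc' ⟨hf1, ⟨hf2, hf3⟩, hf4⟩ hlft, hs⟩

end Groth.Agent.S10281
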