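import Groth.Statements.S10283
import Groth.Agent.S10289
import Mathlib.AlgebraicGeometry.Morphisms.FormallyUnramified
import Mathlib.AlgebraicGeometry.Morphisms.UniversallyOpen

set_option autoImplicit false
universe u
open CategoryTheory CategoryTheory.Limits AlgebraicGeometry
open AlgSp

namespace Groth.Agent.S10283

open Groth.Agent.Lib.helper11 Groth.Agent.Lib.helper10 IsLocalRing
open Groth.Agent.S10289

variable {S : Scheme.{u}}

/-- Residue field extensions of an unramified morphism locally of finite type are finite. -/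
theorem finite_residueFieldMap {X Y : Scheme.{u}} (f : X ⟶ Y) [FormallyUnramified f]
    [LocallyOfFiniteType f] (x : X) :
    letI : Algebra (Y.residueField (f.base x)) (X.residueField x) :=
      (f.residueFieldMap x).hom.toAlgebra
    Module.Finite (Y.residueField (f.base x)) (X.residueField x) := by
  algebraize [(f.stalkMap x).hom]
  have : IsLocalHom (algebraMap (Y.presheaf.stalk (f x)) (X.presheaf.stalk x)) :=
    inferInstanceAs <| IsLocalHom (f.stalkMap x).hom
  have : Algebra.EssFiniteType (Y.presheaf.stalk (f x)) (X.presheaf.stalk x) := by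
    rw [← RingHom.essFiniteType_algebraMap, RingHom.algebraMap_toAlgebra]
    exact LocallyOfFiniteType.stalkMap f x
  have : Algebra.FormallyUnramified (Y.presheaf.stalk (f x)) (X.presheaf.stalk x) := by
    rw [← RingHom.formallyUnramified_algebraMap, RingHom.algebraMap_toAlgebra]
    exact FormallyUnramified.stalkMap f x
  have h : Module.Finite
      (IsLocalRing.ResidueField <| Y.presheaf.stalk (f x))
      (IsLocalRing.ResidueField <| X.presheaf.stalk x) := inferInstance
  have key : (f.residueFieldMap x).hom.toAlgebra =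
      (inferInstance : Algebra (IsLocalRing.ResidueField <| Y.presheaf.stalk (f x))
        (IsLocalRing.ResidueField <| X.presheaf.stalk x)) := by
    refine Algebra.algebra_ext _ _ fun x ↦ ?_
    obtain ⟨x, rfl⟩ := IsLocalRing.residue_surjective x
    rfl
  show @Module.Finite (Y.residueField (f.base x)) (X.residueField x) _ _
    (@Algebra.toModule _ _ _ _ (f.residueFieldMap x).hom.toAlgebra)
  rw [key]
  exact h

/-- The residue field of a point on a scheme etale over a field is finite separable over it. -/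
theorem finite_separable_of_etale_field {K : Type u} [Field K] {W : Scheme.{u}}
    (c : W ⟶ Spec (CommRingCat.of K)) [Etale c] (w : W) (ψ : K →+* W.residueField w)
    (hψ : Spec.map (CommRingCat.ofHom ψ) = W.fromSpecResidueField w ≫ c) :
    letI := ψ.toAlgebra
    Module.Finite K (W.residueField w) ∧ Algebra.IsSeparable K (W.residueField w) := by
  let y : Spec (CommRingCat.of K) := c w
  let k₀ := (Spec (CommRingCat.of K)).residueField y
  let iso := Scheme.Spec.residueFieldIso (CommRingCat.of K) y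
  let ι : CommRingCat.of K ⟶ k₀ :=
    CommRingCat.ofHom (algebraMap K y.asIdeal.ResidueField) ≫ iso.inv
  have hι : Spec.map ι = (Spec (CommRingCat.of K)).fromSpecResidueField y := by
    rw [Spec.map_comp]
    exact Scheme.Spec.map_residueFieldIso_inv_eq_fromSpecResidueField _ _
  have hψι : CommRingCat.ofHom ψ = ι ≫ c.residueFieldMap w := by
    apply Spec.map_injective
    rw [hψ, Spec.map_comp, hι, Scheme.Hom.SpecMap_residueFieldMap_fromSpecResidueField]
  have hbij : Function.Bijective ι.hom := by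
    refine ⟨RingHom.injective _, ?_⟩
    have hmax : y.asIdeal.IsMaximal := by
      have : y.asIdeal = ⊥ := Ideal.eq_bot_of_prime _
      rw [this]; exact Ideal.bot_isMaximal
    have h1 : Function.Surjective (algebraMap K y.asIdeal.ResidueField) := by
      rw [IsScalarTower.algebraMap_eq K (K ⧸ y.asIdeal) y.asIdeal.ResidueField]
      exact (Ideal.bijective_algebraMap_quotient_residueField y.asIdeal).surjective.comp
        Ideal.Quotient.mk_surjective
    intro z
    obtain ⟨r, hr⟩ := h1 (iso.hom z)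
    refine ⟨r, ?_⟩
    show iso.inv (algebraMap K _ r) = z
    rw [hr]
    exact congrArg (fun m => m.hom z) iso.hom_inv_id
  let e₁ : k₀ ≃+* K := (RingEquiv.ofBijective ι.hom hbij).symm
  let _ : Algebra k₀ (W.residueField w) := (c.residueFieldMap w).hom.toAlgebra
  let _ : Algebra K (W.residueField w) := ψ.toAlgebra
  have he : RingHom.comp (algebraMap K (W.residueField w)) (e₁ : k₀ →+* K) =
      RingHom.comp ((RingEquiv.refl (W.residueField w) : _ →+* _)) (algebraMap k₀ (W.residueField w)) := by
    ext z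
    obtain ⟨r, rfl⟩ := hbij.2 z
    have h1 : e₁ (ι.hom r) = r := (RingEquiv.ofBijective ι.hom hbij).symm_apply_apply r
    show ψ (e₁ (ι.hom r)) = (c.residueFieldMap w).hom (ι.hom r)
    rw [h1]
    exact congrArg (fun m => m.hom r) hψι
  have hfin : Module.Finite k₀ (W.residueField w) := finite_residueFieldMap c w
  have hsep : Algebra.IsSeparable k₀ (W.residueField w) := inferInstance
  exact ⟨Module.Finite.of_equiv_equiv e₁ (RingEquiv.refl _) he,
    Algebra.IsSeparable.of_equiv_equiv e₁ (RingEquiv.refl _) he⟩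


set_option backward.isDefEq.respectTransparency.types false in
set_option maxHeartbeats 1600000 in
theorem main {X Y : AlgSp.Space S} (f : X ⟶ Y)
    (hf : AlgSp.ExistVC f.hom) (sq : AlgSp.ValSq f.hom) :
    ∃ e : sq.DomExt, (letI := e.ψ.toAlgebra; Module.Finite sq.K e.K' ∧ Algebra.IsSeparable sq.K e.K') ∧
      e.HasLift := by
  obtain ⟨e₀, l₀, hl₀1, hl₀2⟩ := hf sq
  have sqP : IsPullback (pullback.fst f.hom sq.bot) (pullback.snd f.hom sq.bot) f.hom sq.bot :=
    IsPullback.of_hasPullback _ _
  generalize pullback.fst f.hom sq.bot = fst at sqP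
  generalize pullback.snd f.hom sq.bot = snd at sqP
  generalize pullback f.hom sq.bot = P at fst snd sqP
  have hP : IsAlgSpace P :=
    Groth.Agent.Lib.helper5.isAlgSpace_of_isPullback Y.property.diag X.property (IsAlgSpace.yon_obj sq.ptA) sqP
  obtain ⟨x₀, hx₀1, hx₀2⟩ := sqP.exists_lift sq.top ((yon S).map sq.j) sq.comm
  -- the given lift, as a morphism to `P`
  let jA₀ : e₀.ptA' ⟶ sq.ptA := Over.homMk (Spec.map (CommRingCat.ofHom e₀.φ)) rfl
  let jK₀ : e₀.ptK' ⟶ e₀.ptA' := Over.homMk (Spec.map (CommRingCat.ofHom (algebraMap e₀.A' e₀.K'))) rfl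
  have hψ₀ : Spec.map (CommRingCat.ofHom e₀.ψ) ≫ sq.ptK.hom = e₀.ptK'.hom := by
    change Spec.map _ ≫ Spec.map _ ≫ _ = Spec.map _ ≫ Spec.map _ ≫ _
    rw [← Spec.map_comp_assoc, ← Spec.map_comp_assoc, ← CommRingCat.ofHom_comp,
      ← CommRingCat.ofHom_comp, e₀.comm]
  let ψ₀ : e₀.ptK' ⟶ sq.ptK := Over.homMk (Spec.map (CommRingCat.ofHom e₀.ψ)) hψ₀
  have hl₀1' : (yon S).map jK₀ ≫ l₀ = (yon S).map ψ₀ ≫ sq.top := hl₀1
  have hl₀2' : l₀ ≫ f.hom = (yon S).map jA₀ ≫ sq.bot := hl₀2
  obtain ⟨l₀', hl₀'1, hl₀'2⟩ := sqP.exists_lift l₀ ((yon S).map jA₀) hl₀2'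
  have hjψ : jK₀ ≫ jA₀ = ψ₀ ≫ sq.j := by
    apply Over.OverMorphism.ext
    show Spec.map _ ≫ Spec.map _ = Spec.map _ ≫ Spec.map _
    rw [← Spec.map_comp, ← Spec.map_comp, ← CommRingCat.ofHom_comp, ← CommRingCat.ofHom_comp, e₀.comm]
  have hl₀'K : (yon S).map jK₀ ≫ l₀' = (yon S).map ψ₀ ≫ x₀ := by
    apply sqP.hom_ext
    · rw [Category.assoc, Category.assoc, hl₀'1, hx₀1, hl₀1']
    · rw [Category.assoc, Category.assoc, hl₀'2, hx₀2, ← Functor.map_comp, ← Functor.map_comp, hjψ]
  -- a chart at the image of the closed point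
  obtain ⟨U, a, u', hU, ha, hau'⟩ := exists_affine_chart hP (Points.ofPt l₀' (closedPoint e₀.A'))
  obtain ⟨h, hh⟩ := (yon S).map_surjective (a ≫ snd)
  -- pull the chart back to `Spec A₀'`
  obtain ⟨V, pV, dV', sqV⟩ := ha.1 l₀'
  obtain ⟨dV, rfl⟩ := (yon S).map_surjective dV'
  have hpV : Etale pV.left := ha.2 _ _ _ sqV
  obtain ⟨v', hv'1, hv'2⟩ := exists_of_isPullback_schemes sqV u' (closedPoint e₀.A') hau'
  have hgen₀ : ((⊥ : PrimeSpectrum e₀.A') : ↥(Spec (CommRingCat.of e₀.A'))) ⤳ pV.left v' := by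
    rw [hv'2]
    exact specializes_closedPoint (R := e₀.A') _
  obtain ⟨v, hvv', hv⟩ := (Flat.generalizingMap pV.left) hgen₀
  have huu'₁ : dV.left v ⤳ u' := by
    rw [← hv'1]
    exact hvv'.map dV.left.continuous
  -- the fibre of the chart over the `K`-point
  obtain ⟨W, cW, dW', sqW⟩ := ha.1 x₀
  obtain ⟨dW, rfl⟩ := (yon S).map_surjective dW'
  have hcW : Etale cW.left := ha.2 _ _ _ sqW
  let pt₀ : ↥e₀.ptK'.left := (closedPoint e₀.K' : ↥(Spec (CommRingCat.of e₀.K')))
  have hbot₀ : jK₀.left pt₀ = ((⊥ : PrimeSpectrum e₀.A') : ↥(Spec (CommRingCat.of e₀.A'))) := by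
    apply PrimeSpectrum.ext
    show Ideal.comap (algebraMap e₀.A' e₀.K') (maximalIdeal e₀.K') = ⊥
    rw [IsLocalRing.maximalIdeal_eq_bot, ← RingHom.ker_eq_comap_bot]
    exact (RingHom.injective_iff_ker_eq_bot _).mp (IsFractionRing.injective e₀.A' e₀.K')
  have hpt : Points.ofPt a (dV.left v) = Points.ofPt x₀ (ψ₀.left pt₀) := by
    rw [← ofPt_yon_map_comp, sqV.w, ofPt_yon_map_comp, hv, ← hbot₀, ← ofPt_yon_map_comp, hl₀'K,
      ofPt_yon_map_comp]
  obtain ⟨w, hw1, hw2⟩ := exists_of_isPullback_schemes sqW (dV.left v) (ψ₀.left pt₀) hpt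
  have huu' : dW.left w ⤳ u' := hw1 ▸ huu'₁
  let ρ : U.left.presheaf.stalk u' ⟶ W.left.residueField w :=
    U.left.presheaf.stalkSpecializes huu' ≫ U.left.residue (dW.left w) ≫ dW.left.residueFieldMap w
  obtain ⟨A', hA', hA'loc⟩ := exists_factor_valuationRing ρ.hom
  let ρA' : U.left.presheaf.stalk u' ⟶ .of A' := CommRingCat.ofHom (ρ.hom.codRestrict _ hA')
  let cl : Spec (.of A') ⟶ U.left := Spec.map ρA' ≫ U.left.fromSpecStalk u'
  have F1 : Spec.map (CommRingCat.ofHom (algebraMap A' (W.left.residueField w))) ≫ cl =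
      W.left.fromSpecResidueField w ≫ dW.left := by
    have e : ρA' ≫ CommRingCat.ofHom (algebraMap A' (W.left.residueField w)) = ρ := rfl
    show Spec.map (CommRingCat.ofHom (algebraMap A' _)) ≫ Spec.map ρA' ≫ U.left.fromSpecStalk u' = _
    rw [← Category.assoc, ← Spec.map_comp, e]
    show Spec.map (U.left.presheaf.stalkSpecializes huu' ≫ U.left.residue _ ≫
      dW.left.residueFieldMap w) ≫ _ = _
    rw [Spec.map_comp, Spec.map_comp, Category.assoc, Category.assoc,
      Scheme.SpecMap_stalkSpecializes_fromSpecStalk]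
    exact Scheme.Hom.SpecMap_residueFieldMap_fromSpecResidueField dW.left w
  have hdc : dW ≫ h = cW ≫ sq.j := by
    apply (yon S).map_injective
    rw [Functor.map_comp, Functor.map_comp, hh, ← Category.assoc, sqW.w, Category.assoc, hx₀2]
  let φc : CommRingCat.of sq.A ⟶ CommRingCat.of A' := Spec.preimage (cl ≫ h.left)
  have hφ : Spec.map φc = cl ≫ h.left := Spec.map_preimage _
  let ψc : CommRingCat.of sq.K ⟶ W.left.residueField w :=
    Spec.preimage (W.left.fromSpecResidueField w ≫ cW.left)
  have hψ : Spec.map ψc = W.left.fromSpecResidueField w ≫ cW.left := Spec.map_preimage _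
  have hcomm : φc ≫ CommRingCat.ofHom (algebraMap A' (W.left.residueField w)) =
      CommRingCat.ofHom (algebraMap sq.A sq.K) ≫ ψc := by
    apply Spec.map_injective
    rw [Spec.map_comp, Spec.map_comp, hφ, hψ, ← Category.assoc, F1, Category.assoc, Category.assoc]
    congr 1
    exact congrArg (fun m => m.left) hdc
  have hcp : jA₀.left (closedPoint e₀.A') = closedPoint sq.A := by
    have := e₀.isLocalHom
    exact comap_closedPoint (S := e₀.A') e₀.φ
  have hpt2 : Points.schemeHomeo sq.ptA (h.left u') = Points.schemeHomeo sq.ptA (closedPoint sq.A) := by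
    show Points.ofPt (𝟙 _) (h.left u') = Points.ofPt (𝟙 _) (closedPoint sq.A)
    rw [← ofPt_yon_map_comp, Category.comp_id, hh, ← Points.map_ofPt, hau', Points.map_ofPt, hl₀'2,
      ← hcp, ← ofPt_yon_map_comp, Category.comp_id]
  have hclosed : (Spec.map φc) (closedPoint A') = closedPoint sq.A := by
    rw [hφ]
    show (Spec.map ρA' ≫ U.left.fromSpecStalk u' ≫ h.left) (closedPoint A') = _
    simp only [Scheme.Hom.comp_base, TopCat.coe_comp, Function.comp_apply]
    have h2 : Spec.map ρA' (closedPoint A') = closedPoint (U.left.presheaf.stalk u') :=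
      comap_closedPoint (S := A') (ρ.hom.codRestrict A'.toSubring hA')
    rw [h2, U.left.fromSpecStalk_closedPoint]
    exact (Points.schemeHomeo sq.ptA).injective hpt2
  have hloc : IsLocalHom φc.hom := by
    apply ((IsLocalRing.local_hom_TFAE φc.hom).out 0 4).mpr
    exact congrArg PrimeSpectrum.asIdeal hclosed
  let e : sq.DomExt :=
    { A' := A'
      K' := W.left.residueField w
      φ := φc.hom
      ψ := ψc.hom
      comm := congrArg CommRingCat.Hom.hom hcomm
      isLocalHom := hloc }
  have hfs := finite_separable_of_etale_field (K := sq.K) cW.left w ψc.hom hψ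
  refine ⟨e, hfs, ?_⟩
  have hcl_over : cl ≫ U.hom = Spec.map (CommRingCat.ofHom e.φ) ≫ sq.str := by
    rw [← Over.w h]
    show cl ≫ h.left ≫ sq.str = Spec.map φc ≫ sq.str
    rw [← Category.assoc, ← hφ]
  let cA' : e.ptA' ⟶ U := Over.homMk cl hcl_over
  refine ⟨(yon S).map cA' ≫ a ≫ fst, ?_, ?_⟩
  · have hκ : W.left.fromSpecResidueField w ≫ W.hom = e.ptK'.hom := by
      show _ = Spec.map (CommRingCat.ofHom (algebraMap A' (W.left.residueField w))) ≫ Spec.map φc ≫ sq.str
      rw [hφ, Category.assoc, reassoc_of% F1]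
      have h1 : dW.left ≫ h.left ≫ sq.str = W.hom := by
        have := Over.w (dW ≫ h)
        simpa using this
      rw [h1]
    let κw : e.ptK' ⟶ W := Over.homMk (W.left.fromSpecResidueField w) hκ
    let jK' : e.ptK' ⟶ e.ptA' := Over.homMk (Spec.map (CommRingCat.ofHom (algebraMap e.A' e.K'))) rfl
    have e3 : jK' ≫ cA' = κw ≫ dW := by
      apply Over.OverMorphism.ext
      show Spec.map (CommRingCat.ofHom (algebraMap A' (W.left.residueField w))) ≫ cl =
        W.left.fromSpecResidueField w ≫ dW.left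
      exact F1
    have hψ' : Spec.map (CommRingCat.ofHom e.ψ) ≫ sq.ptK.hom = e.ptK'.hom := by
      change Spec.map _ ≫ Spec.map _ ≫ _ = Spec.map _ ≫ Spec.map _ ≫ _
      rw [← Spec.map_comp_assoc, ← Spec.map_comp_assoc, ← CommRingCat.ofHom_comp,
        ← CommRingCat.ofHom_comp, e.comm]
    let ψ' : e.ptK' ⟶ sq.ptK := Over.homMk (Spec.map (CommRingCat.ofHom e.ψ)) hψ'
    have e4 : ψ' = κw ≫ cW := by
      apply Over.OverMorphism.ext
      show Spec.map ψc = W.left.fromSpecResidueField w ≫ cW.left
      exact hψ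
    show (yon S).map jK' ≫ (yon S).map cA' ≫ a ≫ fst = (yon S).map ψ' ≫ sq.top
    calc (yon S).map jK' ≫ (yon S).map cA' ≫ a ≫ fst
        = (yon S).map (jK' ≫ cA') ≫ a ≫ fst := by rw [Functor.map_comp, Category.assoc]
      _ = (yon S).map κw ≫ ((yon S).map dW ≫ a) ≫ fst := by
          rw [e3]; simp only [Functor.map_comp, Category.assoc]
      _ = (yon S).map κw ≫ ((yon S).map cW ≫ x₀) ≫ fst := by rw [sqW.w]
      _ = (yon S).map ψ' ≫ sq.top := by
          rw [e4]
          have hcomp : (yon S).map (κw ≫ cW) = (yon S).map κw ≫ (yon S).map cW :=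
            Functor.map_comp _ _ _
          rw [hcomp]; simp only [Category.assoc]; rw [hx₀1]
  · rw [Category.assoc, Category.assoc, sqP.w, ← Category.assoc a, ← hh, ← Category.assoc,
      ← Functor.map_comp]
    congr 2
    apply Over.OverMorphism.ext
    show cl ≫ h.left = Spec.map φc
    exact hφ.symm

/-- In the existence part of the valuative criterion for a morphism of algebraic spaces one may restrict
to finite separable extensions of the fraction field. -/
theorem result {S : Scheme.{u}} {X Y : AlgSp.Space S} (f : X ⟶ Y)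
    (hf : AlgSp.ExistVC f.hom) (sq : AlgSp.ValSq f.hom) :
    ∃ e : sq.DomExt, (letI := e.ψ.toAlgebra; Module.Finite sq.K e.K' ∧ Algebra.IsSeparable sq.K e.K') ∧
      e.HasLift := by
  exact main f hf sq

end Groth.Agent.S10283
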