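import Groth.Statements.S10286
-- import your own Groth.Agent.* helpers here

set_option autoImplicit false
universe u
open CategoryTheory CategoryTheory.Limits AlgebraicGeometry
open AlgSp

namespace Groth.Agent.S10286

/-- The existence and uniqueness parts of the valuative criterion are stable under base change. -/
theorem result {S : Scheme.{u}} {X Y Z X' : AlgSp.Space S} (f : X ⟶ Y) (g : Z ⟶ Y)
    (fst : X' ⟶ X) (f' : X' ⟶ Z) (sq : IsPullback fst.hom f'.hom f.hom g.hom) :
    (AlgSp.ExistVC f.hom → AlgSp.ExistVC f'.hom) ∧ (AlgSp.UniqVC f.hom → AlgSp.UniqVC f'.hom) := by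
  constructor
  · intro hf sq'
    let sqf : AlgSp.ValSq f.hom :=
      { A := sq'.A, K := sq'.K, str := sq'.str, top := sq'.top ≫ fst.hom, bot := sq'.bot ≫ g.hom,
        comm := by
          rw [Category.assoc, sq.w, ← Category.assoc, sq'.comm, Category.assoc] }
    obtain ⟨e, l, hl1, hl2⟩ := hf sqf
    let e' : sq'.DomExt :=
      { A' := e.A', K' := e.K', φ := e.φ, ψ := e.ψ, comm := e.comm, isLocalHom := e.isLocalHom }
    have hcond : l ≫ f.hom = ((AlgSp.yon S).map
        (Over.homMk (Spec.map (CommRingCat.ofHom e'.φ)) rfl : e'.ptA' ⟶ sq'.ptA) ≫ sq'.bot) ≫ g.hom := by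
      rw [Category.assoc]; exact hl2
    refine ⟨e', sq.lift l _ hcond, ?_, sq.lift_snd _ _ _⟩
    apply sq.hom_ext
    · rw [Category.assoc, sq.lift_fst, Category.assoc]
      exact hl1
    · rw [Category.assoc, sq.lift_snd, Category.assoc, sq'.comm, ← Category.assoc,
        ← Category.assoc, ← Functor.map_comp, ← Functor.map_comp]
      congr 2
      ext
      change Spec.map _ ≫ Spec.map _ = Spec.map _ ≫ Spec.map _
      rw [← Spec.map_comp, ← Spec.map_comp, ← CommRingCat.ofHom_comp, ← CommRingCat.ofHom_comp,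
        e.comm]
  · intro hf sq' l l' h1 h2 h1' h2'
    let sqf : AlgSp.ValSq f.hom :=
      { A := sq'.A, K := sq'.K, str := sq'.str, top := sq'.top ≫ fst.hom, bot := sq'.bot ≫ g.hom,
        comm := by
          rw [Category.assoc, sq.w, ← Category.assoc, sq'.comm, Category.assoc] }
    have e1 : l ≫ fst.hom = l' ≫ fst.hom :=
      hf sqf (l ≫ fst.hom) (l' ≫ fst.hom) (by rw [← Category.assoc, h1])
        (by rw [Category.assoc, sq.w, ← Category.assoc, h2])
        (by rw [← Category.assoc, h1'])
        (by rw [Category.assoc, sq.w, ← Category.assoc, h2'])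
    exact sq.hom_ext e1 (h2.trans h2'.symm)

end Groth.Agent.S10286
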