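import Groth.Statements.S10287
-- import your own Groth.Agent.* helpers here

set_option autoImplicit false
universe u
open CategoryTheory CategoryTheory.Limits AlgebraicGeometry
open AlgSp

namespace Groth.Agent.S10287

lemma spec_comm_sq {P Q Q' R : Type u} [CommRing P] [CommRing Q] [CommRing Q'] [CommRing R]
    (a : Q →+* P) (b : R →+* Q) (c : Q' →+* P) (d : R →+* Q') (h : a.comp b = c.comp d)
    {T : Scheme.{u}} (t : Spec (CommRingCat.of R) ⟶ T) :
    Spec.map (CommRingCat.ofHom a) ≫ Spec.map (CommRingCat.ofHom b) ≫ t =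
      Spec.map (CommRingCat.ofHom c) ≫ Spec.map (CommRingCat.ofHom d) ≫ t := by
  rw [← Spec.map_comp_assoc, ← Spec.map_comp_assoc, ← CommRingCat.ofHom_comp,
    ← CommRingCat.ofHom_comp, h]

/-- The existence and uniqueness parts of the valuative criterion are stable under composition. -/
theorem result {S : Scheme.{u}} {X Y Z : AlgSp.Space S} (f : X ⟶ Y) (g : Y ⟶ Z) :
    (AlgSp.ExistVC f.hom → AlgSp.ExistVC g.hom → AlgSp.ExistVC (f ≫ g).hom) ∧
    (AlgSp.UniqVC f.hom → AlgSp.UniqVC g.hom → AlgSp.UniqVC (f ≫ g).hom) := by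
  constructor
  · intro hf hg sq
    let sqg : AlgSp.ValSq g.hom :=
      { A := sq.A, K := sq.K, str := sq.str, top := sq.top ≫ f.hom, bot := sq.bot,
        comm := by rw [Category.assoc]; exact sq.comm }
    obtain ⟨e, m, hm1, hm2⟩ := hg sqg
    let sqf : AlgSp.ValSq f.hom :=
      { A := e.A', K := e.K', str := Spec.map (CommRingCat.ofHom e.φ) ≫ sq.str,
        top := (AlgSp.yon S).map (Over.homMk (Spec.map (CommRingCat.ofHom e.ψ)) (by
          change Spec.map _ ≫ Spec.map _ ≫ _ = Spec.map _ ≫ Spec.map _ ≫ _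
          rw [← Spec.map_comp_assoc, ← Spec.map_comp_assoc, ← CommRingCat.ofHom_comp,
            ← CommRingCat.ofHom_comp, e.comm]) : e.ptK' ⟶ sq.ptK) ≫ sq.top,
        bot := m,
        comm := by
          rw [Category.assoc]
          exact hm1.symm }
    obtain ⟨e', l, hl1, hl2⟩ := hf sqf
    have hloc : IsLocalHom (e'.φ.comp e.φ) := by
      have := e.isLocalHom
      have := e'.isLocalHom
      exact RingHom.isLocalHom_comp _ _
    let e'' : sq.DomExt :=
      { A' := e'.A', K' := e'.K', φ := e'.φ.comp e.φ, ψ := e'.ψ.comp e.ψ,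
        comm := by
          have h1 := e.comm
          have h2 := e'.comm
          ext a
          have h1a := congrArg (fun r => r a) h1
          have h2a := congrArg (fun r => r (e.φ a)) h2
          simp only [RingHom.comp_apply] at h1a h2a ⊢
          rw [h2a]
          exact congrArg e'.ψ h1a
        isLocalHom := hloc }
    have hw : 𝟙 (Spec (CommRingCat.of e'.A')) ≫ e'.ptA'.hom = e''.ptA'.hom := by
      change 𝟙 _ ≫ Spec.map _ ≫ Spec.map _ ≫ _ = Spec.map _ ≫ _
      rw [Category.id_comp, ← Spec.map_comp_assoc, ← CommRingCat.ofHom_comp]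
    let ιA : e''.ptA' ⟶ e'.ptA' := Over.homMk (𝟙 _) hw
    refine ⟨e'', (AlgSp.yon S).map ιA ≫ l, ?_, ?_⟩
    · have hwK : 𝟙 (Spec (CommRingCat.of e'.K')) ≫ e'.ptK'.hom = e''.ptK'.hom := by
        change 𝟙 _ ≫ Spec.map _ ≫ Spec.map _ ≫ Spec.map _ ≫ _ = Spec.map _ ≫ Spec.map _ ≫ _
        rw [Category.id_comp, ← Spec.map_comp_assoc (CommRingCat.ofHom e.φ),
          ← CommRingCat.ofHom_comp]
      let ιK : e''.ptK' ⟶ e'.ptK' := Over.homMk (𝟙 _) hwK
      have wψ' : Spec.map (CommRingCat.ofHom e'.ψ) ≫ sqf.ptK.hom = e'.ptK'.hom :=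
        spec_comm_sq e'.ψ (algebraMap sqf.A sqf.K) (algebraMap e'.A' e'.K') e'.φ e'.comm.symm
          sqf.str
      have wψ : Spec.map (CommRingCat.ofHom e.ψ) ≫ sq.ptK.hom = e.ptK'.hom := by
        change Spec.map _ ≫ Spec.map _ ≫ _ = Spec.map _ ≫ Spec.map _ ≫ _
        rw [← Spec.map_comp_assoc, ← Spec.map_comp_assoc, ← CommRingCat.ofHom_comp,
          ← CommRingCat.ofHom_comp, e.comm]
      have wψ'' : Spec.map (CommRingCat.ofHom e''.ψ) ≫ sq.ptK.hom = e''.ptK'.hom := by
        change Spec.map _ ≫ Spec.map _ ≫ _ = Spec.map _ ≫ Spec.map _ ≫ _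
        rw [← Spec.map_comp_assoc, ← Spec.map_comp_assoc, ← CommRingCat.ofHom_comp,
          ← CommRingCat.ofHom_comp, e''.comm]
      have hA : (Over.homMk (Spec.map (CommRingCat.ofHom (algebraMap e''.A' e''.K'))) rfl :
          e''.ptK' ⟶ e''.ptA') ≫ ιA =
          ιK ≫ (Over.homMk (Spec.map (CommRingCat.ofHom (algebraMap e'.A' e'.K'))) rfl :
            e'.ptK' ⟶ e'.ptA') := by
        ext
        change Spec.map _ ≫ 𝟙 _ = 𝟙 _ ≫ Spec.map _
        rw [Category.comp_id, Category.id_comp]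
      have hB : ιK ≫ (Over.homMk (Spec.map (CommRingCat.ofHom e'.ψ)) wψ' : e'.ptK' ⟶ sqf.ptK) ≫
          (Over.homMk (Spec.map (CommRingCat.ofHom e.ψ)) wψ : e.ptK' ⟶ sq.ptK) =
          (Over.homMk (Spec.map (CommRingCat.ofHom e''.ψ)) wψ'' : e''.ptK' ⟶ sq.ptK) := by
        ext
        change 𝟙 _ ≫ Spec.map _ ≫ Spec.map _ = Spec.map _
        rw [Category.id_comp, ← Spec.map_comp, ← CommRingCat.ofHom_comp]
      rw [← Category.assoc, ← Functor.map_comp, hA, Functor.map_comp, Category.assoc, hl1]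
      change (AlgSp.yon S).map ιK ≫ (AlgSp.yon S).map _ ≫ (AlgSp.yon S).map _ ≫ sq.top = _
      rw [← hB, Functor.map_comp, Functor.map_comp, Category.assoc, Category.assoc]
    · have hcomp : ιA ≫ (Over.homMk (Spec.map (CommRingCat.ofHom e'.φ)) rfl : e'.ptA' ⟶ sqf.ptA) ≫
          (Over.homMk (Spec.map (CommRingCat.ofHom e.φ)) rfl : e.ptA' ⟶ sqg.ptA) =
          (Over.homMk (Spec.map (CommRingCat.ofHom e''.φ)) rfl : e''.ptA' ⟶ sq.ptA) := by
        ext
        change 𝟙 _ ≫ Spec.map _ ≫ Spec.map _ = Spec.map _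
        rw [Category.id_comp, ← Spec.map_comp, ← CommRingCat.ofHom_comp]
      change ((AlgSp.yon S).map ιA ≫ l) ≫ f.hom ≫ g.hom = _
      rw [Category.assoc, ← Category.assoc l, hl2]
      change (AlgSp.yon S).map ιA ≫ ((AlgSp.yon S).map _ ≫ m) ≫ g.hom = _
      rw [Category.assoc, hm2, ← hcomp, Functor.map_comp, Functor.map_comp, Category.assoc,
        Category.assoc]
  · intro hf hg sq l l' h1 h2 h1' h2'
    let sqg : AlgSp.ValSq g.hom :=
      { A := sq.A, K := sq.K, str := sq.str, top := sq.top ≫ f.hom, bot := sq.bot,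
        comm := by rw [Category.assoc]; exact sq.comm }
    have e1 : l ≫ f.hom = l' ≫ f.hom :=
      hg sqg (l ≫ f.hom) (l' ≫ f.hom) (by rw [← Category.assoc, h1])
        (by rw [Category.assoc]; exact h2) (by rw [← Category.assoc, h1'])
        (by rw [Category.assoc]; exact h2')
    let sqf : AlgSp.ValSq f.hom :=
      { A := sq.A, K := sq.K, str := sq.str, top := sq.top, bot := l ≫ f.hom,
        comm := by rw [← Category.assoc, h1] }
    exact hf sqf l l' h1 rfl h1' e1.symm

end Groth.Agent.S10287
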