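import Groth.Statements.S10292
import Groth.Agent.S10289
import Groth.Agent.Lib.Helper5.AlgSpLocPBC
import Groth.Agent.Lib.Helper5.AlgSpLocPInst2
import Mathlib.AlgebraicGeometry.Morphisms.UniversallyOpen

set_option autoImplicit false
universe u
open CategoryTheory CategoryTheory.Limits AlgebraicGeometry
open AlgSp

namespace Groth.Agent.S10292

open Groth.Agent.Lib.helper11 Groth.Agent.Lib.helper10 IsLocalRing
open Groth.Agent.S10289

variable {S : Scheme.{u}}

set_option backward.isDefEq.respectTransparency.types false in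
set_option maxHeartbeats 800000 in
theorem main {X Y : AlgSp.Space S} (f : X ⟶ Y)
    (hf : AlgSp.LocP @Flat f.hom) (A : Type u) [CommRing A] [IsDomain A] [ValuationRing A]
    (str : Spec (.of A) ⟶ S) (b : (AlgSp.yon S).obj (Over.mk str) ⟶ Y.obj)
    (hb : AlgSp.Points.ofPt b (IsLocalRing.closedPoint A) ∈ Set.range (AlgSp.Points.map f.hom)) :
    ∃ (A' : Type u) (_ : CommRing A') (_ : IsDomain A') (_ : ValuationRing A') (φ : A →+* A'),
      Function.Injective φ ∧ IsLocalHom φ ∧
      ∃ l : (AlgSp.yon S).obj (Over.mk (Spec.map (CommRingCat.ofHom φ) ≫ str)) ⟶ X.obj,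
        l ≫ f.hom = (AlgSp.yon S).map (Over.homMk (Spec.map (CommRingCat.ofHom φ)) rfl :
          Over.mk (Spec.map (CommRingCat.ofHom φ) ≫ str) ⟶ Over.mk str) ≫ b := by
  have sqP : IsPullback (pullback.fst f.hom b) (pullback.snd f.hom b) f.hom b :=
    IsPullback.of_hasPullback _ _
  generalize pullback.fst f.hom b = fst at sqP
  generalize pullback.snd f.hom b = snd at sqP
  generalize pullback f.hom b = P at fst snd sqP
  let Z : Over S := Over.mk str
  have hP : IsAlgSpace P :=
    Groth.Agent.Lib.helper5.isAlgSpace_of_isPullback Y.property.diag X.property (IsAlgSpace.yon_obj Z) sqP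
  have hflat : LocP @Flat snd :=
    Groth.Agent.Lib.helper5.LocPBC.locP_of_isPullback Groth.Agent.Lib.helper5.LocPBC.locPData_flat X.property Y.property
      (IsAlgSpace.yon_obj Z) sqP hf
  obtain ⟨x, hx⟩ := hb
  have hbs : Points.map b (Points.schemeHomeo Z (closedPoint A)) = Points.ofPt b (closedPoint A) := by
    show Points.map b (Points.ofPt (𝟙 _) (closedPoint A)) = _
    rw [Points.map_ofPt, Category.id_comp]
  obtain ⟨x', hx'1, hx'2⟩ := exists_point_of_isPullback sqP x (Points.schemeHomeo Z (closedPoint A))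
    (hx.trans hbs.symm)
  obtain ⟨U, a, u', hU, ha, hau'⟩ := exists_affine_chart hP x'
  obtain ⟨h, hh⟩ := (yon S).map_surjective (a ≫ snd)
  have hhflat : Flat h.left := hflat a (𝟙 _) h ha (repWith_id @Etale Z) (by rw [Category.comp_id, hh])
  have hpt : Points.schemeHomeo Z (h.left u') = Points.schemeHomeo Z (closedPoint A) := by
    rw [← hx'2, ← hau', Points.map_ofPt, ← hh]
    show Points.ofPt (𝟙 _) (h.left u') = _
    rw [← ofPt_yon_map_comp, Category.comp_id]
  have hhu' : h.left u' = closedPoint A := (Points.schemeHomeo Z).injective hpt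
  -- the generic point
  let η : ↥(Spec (CommRingCat.of A)) := (⊥ : PrimeSpectrum A)
  have hη : η ⤳ h.left u' := by
    rw [hhu']
    exact specializes_closedPoint (R := A) _
  obtain ⟨u, huu', hu⟩ := (Flat.generalizingMap h.left) hη
  let ρ : U.left.presheaf.stalk u' ⟶ U.left.residueField u :=
    U.left.presheaf.stalkSpecializes huu' ≫ U.left.residue u
  obtain ⟨A', hA', hA'loc⟩ := exists_factor_valuationRing ρ.hom
  let ρA' : U.left.presheaf.stalk u' ⟶ .of A' := CommRingCat.ofHom (ρ.hom.codRestrict _ hA')
  let cl : Spec (.of A') ⟶ U.left := Spec.map ρA' ≫ U.left.fromSpecStalk u'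
  let φc : CommRingCat.of A ⟶ CommRingCat.of A' := Spec.preimage (cl ≫ h.left)
  have hφ : Spec.map φc = cl ≫ h.left := Spec.map_preimage _
  have hclosed : (Spec.map φc) (closedPoint A') = closedPoint A := by
    rw [hφ]
    show (Spec.map ρA' ≫ U.left.fromSpecStalk u' ≫ h.left) (closedPoint A') = _
    simp only [Scheme.Hom.comp_base, TopCat.coe_comp, Function.comp_apply]
    have h2 : Spec.map ρA' (closedPoint A') = closedPoint (U.left.presheaf.stalk u') :=
      comap_closedPoint (S := A') (ρ.hom.codRestrict A'.toSubring hA')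
    rw [h2, U.left.fromSpecStalk_closedPoint]
    exact hhu'
  have hloc : IsLocalHom φc.hom := by
    apply ((IsLocalRing.local_hom_TFAE φc.hom).out 0 4).mpr
    exact congrArg PrimeSpectrum.asIdeal hclosed
  -- injectivity: the generic point of `Spec A'` goes to the generic point of `Spec A`
  have F1 : Spec.map (CommRingCat.ofHom (algebraMap A' (U.left.residueField u))) ≫ cl =
      U.left.fromSpecResidueField u := by
    have e : ρA' ≫ CommRingCat.ofHom (algebraMap A' (U.left.residueField u)) = ρ := rfl
    show Spec.map (CommRingCat.ofHom (algebraMap A' _)) ≫ Spec.map ρA' ≫ U.left.fromSpecStalk u' = _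
    rw [← Category.assoc, ← Spec.map_comp, e]
    show Spec.map (U.left.presheaf.stalkSpecializes huu' ≫ U.left.residue u) ≫ _ = _
    rw [Spec.map_comp, Category.assoc, Scheme.SpecMap_stalkSpecializes_fromSpecStalk]
    rfl
  have hbot : (Spec.map (CommRingCat.ofHom (algebraMap A' (U.left.residueField u))))
      (⊥ : PrimeSpectrum (U.left.residueField u)) = (⊥ : PrimeSpectrum A') := by
    apply PrimeSpectrum.ext
    show Ideal.comap (algebraMap A' (U.left.residueField u)) ⊥ = ⊥
    rw [← RingHom.ker_eq_comap_bot]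
    exact (RingHom.injective_iff_ker_eq_bot _).mp Subtype.val_injective
  have hclbot : cl (⊥ : PrimeSpectrum A') = u := by
    rw [← hbot]
    have := congrArg (fun m => m (⊥ : PrimeSpectrum (U.left.residueField u))) F1
    simp only [Scheme.Hom.comp_base, TopCat.coe_comp, Function.comp_apply] at this
    rw [this]
    exact U.left.fromSpecResidueField_apply u _
  have hgen : (Spec.map φc) (⊥ : PrimeSpectrum A') = η := by
    rw [hφ]
    simp only [Scheme.Hom.comp_base, TopCat.coe_comp, Function.comp_apply]
    rw [hclbot, hu]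
  have hinj : Function.Injective φc.hom := by
    rw [injective_iff_map_eq_zero]
    intro r hr
    have : r ∈ ((Spec.map φc) (⊥ : PrimeSpectrum A')).asIdeal := by
      show φc.hom r ∈ (⊥ : Ideal A')
      rw [hr]; exact Ideal.zero_mem _
    rw [hgen] at this
    exact this
  have hcl_over : cl ≫ U.hom = Spec.map (CommRingCat.ofHom φc.hom) ≫ str := by
    rw [← Over.w h]
    show cl ≫ h.left ≫ str = Spec.map φc ≫ str
    rw [← Category.assoc, ← hφ]
  let cA' : Over.mk (Spec.map (CommRingCat.ofHom φc.hom) ≫ str) ⟶ U := Over.homMk cl hcl_over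
  refine ⟨A', inferInstance, inferInstance, inferInstance, φc.hom, hinj, hloc,
    (yon S).map cA' ≫ a ≫ fst, ?_⟩
  rw [Category.assoc, Category.assoc, sqP.w, ← Category.assoc a, ← hh, ← Category.assoc,
    ← Functor.map_comp]
  congr 2
  apply Over.OverMorphism.ext
  show cl ≫ h.left = Spec.map φc
  exact hφ.symm

/-- Along a flat morphism of algebraic spaces, a morphism from the spectrum of a valuation ring to the
target whose closed point is hit lifts to the source after an extension of valuation rings
(injective and local). -/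
theorem result {S : Scheme.{u}} {X Y : AlgSp.Space S} (f : X ⟶ Y)
    (hf : AlgSp.LocP @Flat f.hom) (A : Type u) [CommRing A] [IsDomain A] [ValuationRing A]
    (str : Spec (.of A) ⟶ S) (b : (AlgSp.yon S).obj (Over.mk str) ⟶ Y.obj)
    (hb : AlgSp.Points.ofPt b (IsLocalRing.closedPoint A) ∈ Set.range (AlgSp.Points.map f.hom)) :
    ∃ (A' : Type u) (_ : CommRing A') (_ : IsDomain A') (_ : ValuationRing A') (φ : A →+* A'),
      Function.Injective φ ∧ IsLocalHom φ ∧
      ∃ l : (AlgSp.yon S).obj (Over.mk (Spec.map (CommRingCat.ofHom φ) ≫ str)) ⟶ X.obj,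
        l ≫ f.hom = (AlgSp.yon S).map (Over.homMk (Spec.map (CommRingCat.ofHom φ)) rfl :
          Over.mk (Spec.map (CommRingCat.ofHom φ) ≫ str) ⟶ Over.mk str) ≫ b := by
  exact main f hf A str b hb

end Groth.Agent.S10292
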