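import Groth.Statements.S10545
import Groth.Agent.Lib.Helper5.AlgSpAffDesc5
import Mathlib.AlgebraicGeometry.Morphisms.FinitePresentation
import Mathlib.AlgebraicGeometry.Morphisms.Flat

set_option autoImplicit false
universe u
open CategoryTheory CategoryTheory.Limits AlgebraicGeometry
open AlgSp

namespace Groth.Agent.S10545

theorem finLocFree_eq : (AlgSp.finLocFree.{u}) =
    (@IsFinite ⊓ (@Flat ⊓ @LocallyOfFinitePresentation) : MorphismProperty Scheme.{u}) := by
  ext X Y f
  exact Iff.rfl

instance : IsZariskiLocalAtTarget AlgSp.finLocFree.{u} := by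
  rw [finLocFree_eq]
  infer_instance

/-- The property of morphisms of algebraic spaces over S given by f is finite locally free
(representable by finite, flat, locally finitely presented morphisms of schemes) is fpqc local on
the base: for an fpqc covering of an algebraic space Y by algebraic spaces Y_i, a morphism f : X ⟶ Y
of algebraic spaces and cartesian squares X_i = Y_i ×_Y X, f has the property if and only if every
X_i ⟶ Y_i has it. -/
theorem result (S : Scheme.{u}) :
    AlgSp.IsLocalOnBase (AlgSp.IsFpqcCover (S := S)) AlgSp.IsFinLocFreeMor := by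
  refine Groth.Agent.Lib.helper5.AffDesc.isLocalOnBase_fpqc_repWith (P := AlgSp.finLocFree.{u})
    (Q := fun f => f.Finite ∧ f.Flat ∧ f.FinitePresentation) ?_ ?_
    (RingHom.Finite.codescendsAlong_faithfullyFlat.and
      (Groth.Agent.Lib.helper5.AffDescProp.RingHom.Flat.codescendsAlong_faithfullyFlat.and
        RingHom.FinitePresentation.codescendsAlong_faithfullyFlat))
  · intro X Y f hf
    have : IsFinite f := hf.1
    exact inferInstanceAs (IsAffineHom f)
  · intro X Y f hX hY
    show (IsFinite f ∧ Flat f ∧ LocallyOfFinitePresentation f) ↔ _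
    rw [HasAffineProperty.iff_of_isAffine (P := @IsFinite),
      HasRingHomProperty.iff_of_isAffine (P := @Flat),
      HasRingHomProperty.iff_of_isAffine (P := @LocallyOfFinitePresentation)]
    exact ⟨fun h => ⟨h.1.2, h.2⟩, fun h => ⟨⟨hX, h.1⟩, h.2⟩⟩

end Groth.Agent.S10545
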