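import Groth.Statements.S10294
import Groth.Agent.S10267
import Groth.Agent.Lib.Helper5.AlgSpLocPBC
import Groth.Agent.Lib.Helper5.AlgSpLocPInst
import Groth.Agent.Lib.Helper5.AlgSpLocPInst2
import Groth.Agent.Lib.Helper1.SevenProps
import Mathlib.AlgebraicGeometry.Noetherian

set_option autoImplicit false
universe u
open CategoryTheory CategoryTheory.Limits AlgebraicGeometry
open AlgSp

namespace Groth.Agent.S10294

open Groth.Agent.Lib.helper5.LocPBC Groth.Agent.H1.Seven

variable {S : Scheme.{u}}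

theorem part1 {X Y : AlgSp.Space S} (f : X ⟶ Y) :
    AlgSp.IsFinLocFreeMor f.hom ↔
      (AlgSp.IsFiniteMor f.hom ∧ AlgSp.LocP @Flat f.hom ∧ AlgSp.LocP @LocallyOfFinitePresentation f.hom) := by
  constructor
  · intro h
    refine ⟨(Groth.Agent.S10267.finite_iff f.hom).mpr ⟨h.1, fun T T' g fst snd sq => (h.2 g fst snd sq).1⟩,
      (locP_iff_repWith Groth.Agent.H1.Seven.locPData_flat X.property Y.property f.hom h.1).mpr
        ⟨h.1, fun T T' g fst snd sq => (h.2 g fst snd sq).2.1⟩,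
      (locP_iff_repWith locPData_lfp X.property Y.property f.hom h.1).mpr
        ⟨h.1, fun T T' g fst snd sq => (h.2 g fst snd sq).2.2⟩⟩
  · rintro ⟨hfin, hflat, hlfp⟩
    have hfin' := (Groth.Agent.S10267.finite_iff f.hom).mp hfin
    have rf := (locP_iff_repWith Groth.Agent.H1.Seven.locPData_flat X.property Y.property f.hom hfin'.1).mp hflat
    have rp := (locP_iff_repWith locPData_lfp X.property Y.property f.hom hfin'.1).mp hlfp
    exact ⟨hfin'.1, fun T T' g fst snd sq => ⟨hfin'.2 g fst snd sq, rf.2 g fst snd sq, rp.2 g fst snd sq⟩⟩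

theorem lfp_of_finite {X Y : AlgSp.Space S} (f : X ⟶ Y) (hY : AlgSp.IsLocNoethSp Y.obj)
    (hfin : AlgSp.IsFiniteMor f.hom) : AlgSp.LocP @LocallyOfFinitePresentation f.hom := by
  obtain ⟨V, b, hbe, hbs, hVN⟩ := hY
  have hfin' := (Groth.Agent.S10267.finite_iff f.hom).mp hfin
  obtain ⟨W, w, fstW, sq⟩ := hfin'.1 b
  have hw : IsFinite w.left := hfin'.2 _ _ _ sq
  have hae : RepWith @Etale fstW := (RepWith (S := S) @Etale).of_isPullback sq.flip hbe
  have has : RepWith @Surjective fstW := (RepWith (S := S) @Surjective).of_isPullback sq.flip hbs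
  have hVN' : IsLocallyNoetherian V.left := hVN
  have hlfp : LocallyOfFinitePresentation w.left :=
    LocallyOfFinitePresentation.iff_locallyOfFiniteType.mpr inferInstance
  exact locP_of_one_chart locPData_lfp f.hom fstW b w hae has hbe sq.w hlfp

theorem main {X Y : AlgSp.Space S} (f : X ⟶ Y) :
    (AlgSp.IsFinLocFreeMor f.hom ↔
      (AlgSp.IsFiniteMor f.hom ∧ AlgSp.LocP @Flat f.hom ∧ AlgSp.LocP @LocallyOfFinitePresentation f.hom)) ∧
    (AlgSp.IsLocNoethSp Y.obj →
      (AlgSp.IsFinLocFreeMor f.hom ↔ (AlgSp.IsFiniteMor f.hom ∧ AlgSp.LocP @Flat f.hom))) := by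
  refine ⟨part1 f, fun hY => ?_⟩
  rw [part1]
  exact ⟨fun h => ⟨h.1, h.2.1⟩, fun h => ⟨h.1, h.2, lfp_of_finite f hY h.1⟩⟩

/-- Finite locally free is the same as finite, flat and locally of finite presentation; over a locally
Noetherian target it is the same as finite and flat. -/
theorem result {S : Scheme.{u}} {X Y : AlgSp.Space S} (f : X ⟶ Y) :
    (AlgSp.IsFinLocFreeMor f.hom ↔
      (AlgSp.IsFiniteMor f.hom ∧ AlgSp.LocP @Flat f.hom ∧ AlgSp.LocP @LocallyOfFinitePresentation f.hom)) ∧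
    (AlgSp.IsLocNoethSp Y.obj →
      (AlgSp.IsFinLocFreeMor f.hom ↔ (AlgSp.IsFiniteMor f.hom ∧ AlgSp.LocP @Flat f.hom))) := by
  exact main f

end Groth.Agent.S10294
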