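import Groth.Statements.S10298
import Groth.Agent.Lib.Helper1.ZarRep

set_option autoImplicit false
universe u
open CategoryTheory CategoryTheory.Limits AlgebraicGeometry
open AlgSp

namespace Groth.Agent.S10298

/-- `h_m` is integral if `m` is. -/
theorem isIntegralMor_yon_map {S : Scheme.{u}} {A B : Over S} (m : A ⟶ B) [IsIntegralHom m.left] :
    IsIntegralMor ((yon S).map m) := by
  intro Z hZ g
  obtain ⟨ζ, rfl⟩ := (yon S).map_surjective g
  have sq0 : IsPullback (pullback.fst m ζ) (pullback.snd m ζ) m ζ := IsPullback.of_hasPullback m ζ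
  have sqL := sq0.map (Over.forget S)
  have hfin : IsIntegralHom (pullback.snd m ζ).left :=
    MorphismProperty.of_isPullback (P := @IsIntegralHom) sqL (inferInstanceAs (IsIntegralHom m.left))
  haveI : IsAffine Z.left := hZ
  refine ⟨pullback m ζ, pullback.snd m ζ, (yon S).map (pullback.fst m ζ), sq0.map (yon S), ?_, hfin⟩
  exact isAffine_of_isAffineHom (pullback.snd m ζ).left

/-- An integral morphism to a scheme has source a scheme. -/
theorem exists_scheme_of_isIntegralMor {S : Scheme.{u}} {U : Over S} {Z : Sp S}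
    (π : Z ⟶ (yon S).obj U) (hπ : IsIntegralMor π) :
    ∃ (Z₀ : Over S) (π₀ : Z₀ ⟶ U) (ε : (yon S).obj Z₀ ≅ Z), ε.hom ≫ π = (yon S).map π₀ ∧
      IsIntegralHom π₀.left := by
  have hrep : RepWith @IsIntegralHom π := by
    refine Groth.Agent.H1.ZarRep.repWith_of_affine π @IsIntegralHom ?_
    intro T hT t
    obtain ⟨W, i, fst, sq, -, hi⟩ := hπ hT t
    exact ⟨W, i, fst, sq, hi⟩
  obtain ⟨Z₀, π₀, fst, sq⟩ := hrep.1 (𝟙 ((yon S).obj U))
  have hint : IsIntegralHom π₀.left := hrep.2 _ fst π₀ sq
  haveI : IsIso fst := sq.isIso_fst_of_isIso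
  refine ⟨Z₀, π₀, asIso fst, ?_, hint⟩
  show fst ≫ π = (yon S).map π₀
  rw [sq.w, Category.comp_id]

set_option backward.isDefEq.respectTransparency false in
theorem main {S : Scheme.{u}} {V U N : Over S} (g : V ⟶ U)
    [QuasiCompact g.left] [QuasiSeparated g.left] (f' : V ⟶ N) (ν : N ⟶ U)
    (e : N.left ≅ g.left.normalization) (he1 : f'.left ≫ e.hom = g.left.toNormalization)
    (he2 : e.hom ≫ g.left.fromNormalization = ν.left) :
    AlgSp.IsRelNormalization ((AlgSp.yon S).map g) ((AlgSp.yon S).map ν) ((AlgSp.yon S).map f') := by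
  have hfg : f' ≫ ν = g := by
    apply Over.OverMorphism.ext
    rw [Over.comp_left, ← he2, ← Category.assoc, he1, Scheme.Hom.toNormalization_fromNormalization]
  haveI : IsIntegralHom ν.left := by
    rw [← he2]
    infer_instance
  refine ⟨by rw [← Functor.map_comp, hfg], isIntegralMor_yon_map ν, ?_⟩
  intro Z hZ π γ hπ hγ
  obtain ⟨Z₀, π₀, ε, hε, hint⟩ := exists_scheme_of_isIntegralMor π hπ
  obtain ⟨γ₀, hγ₀⟩ := (yon S).map_surjective (γ ≫ ε.inv)
  have hγπ : γ₀ ≫ π₀ = g := by
    apply (yon S).map_injective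
    rw [Functor.map_comp, hγ₀, ← hε, Category.assoc, ε.inv_hom_id_assoc, hγ]
  have H : g.left = γ₀.left ≫ π₀.left := by rw [← Over.comp_left, hγπ]
  let d : g.left.normalization ⟶ Z₀.left := g.left.normalizationDesc γ₀.left π₀.left H
  have hd1 : g.left.toNormalization ≫ d = γ₀.left := g.left.toNormalization_normalizationDesc _ _ H
  have hd2 : d ≫ π₀.left = g.left.fromNormalization := g.left.normalizationDesc_comp _ _ H
  let h₀ : N ⟶ Z₀ := Over.homMk (e.hom ≫ d) (by
    rw [← Over.w π₀, Category.assoc, ← Category.assoc d, hd2, ← Category.assoc, he2, Over.w ν])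
  have hh1 : f' ≫ h₀ = γ₀ := by
    apply Over.OverMorphism.ext
    show f'.left ≫ e.hom ≫ d = γ₀.left
    rw [← Category.assoc, he1, hd1]
  have hh2 : h₀ ≫ π₀ = ν := by
    apply Over.OverMorphism.ext
    show (e.hom ≫ d) ≫ π₀.left = ν.left
    rw [Category.assoc, hd2, he2]
  refine ⟨(yon S).map h₀ ≫ ε.hom, ⟨?_, ?_⟩, ?_⟩
  · rw [← Functor.map_comp_assoc, hh1, hγ₀, Category.assoc, ε.inv_hom_id, Category.comp_id]
  · rw [Category.assoc, hε, ← Functor.map_comp, hh2]
  · rintro h' ⟨h'1, h'2⟩
    obtain ⟨h₀', hh₀'⟩ := (yon S).map_surjective (h' ≫ ε.inv)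
    have e1 : f' ≫ h₀' = γ₀ := by
      apply (yon S).map_injective
      rw [Functor.map_comp, hh₀', ← Category.assoc, h'1, hγ₀]
    have e2 : h₀' ≫ π₀ = ν := by
      apply (yon S).map_injective
      rw [Functor.map_comp, hh₀', ← hε, Category.assoc, ε.inv_hom_id_assoc, h'2]
    haveI : IsAffineHom π₀.left := inferInstance
    have key : e.inv ≫ h₀'.left = d := by
      apply Scheme.Hom.normalization.hom_ext g.left _ _ π₀.left
      · rw [hd1, ← he1, Category.assoc, e.hom_inv_id_assoc, ← Over.comp_left, e1]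
      · rw [Category.assoc, ← Over.comp_left, e2, ← he2, e.inv_hom_id_assoc]
      · exact hd2
    have hh : h₀' = h₀ := by
      apply Over.OverMorphism.ext
      show h₀'.left = e.hom ≫ d
      rw [← key, e.hom_inv_id_assoc]
    have : h' = (h' ≫ ε.inv) ≫ ε.hom := by rw [Category.assoc, ε.inv_hom_id, Category.comp_id]
    rw [this, ← hh₀', hh]

/-- For a quasi-compact quasi-separated morphism of schemes, the relative normalization of schemes is
the normalization in the sense of algebraic spaces. -/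
theorem result {S : Scheme.{u}} {V U N : Over S} (g : V ⟶ U)
    [QuasiCompact g.left] [QuasiSeparated g.left] (f' : V ⟶ N) (ν : N ⟶ U)
    (e : N.left ≅ g.left.normalization) (he1 : f'.left ≫ e.hom = g.left.toNormalization)
    (he2 : e.hom ≫ g.left.fromNormalization = ν.left) :
    AlgSp.IsRelNormalization ((AlgSp.yon S).map g) ((AlgSp.yon S).map ν) ((AlgSp.yon S).map f') := by
  exact main g f' ν e he1 he2

end Groth.Agent.S10298
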