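import Groth.Statements.S10302
import Mathlib
import Groth.Agent.Lib.Helper11.AlgSpBasic

set_option autoImplicit false
universe u
open CategoryTheory CategoryTheory.Limits AlgebraicGeometry
open AlgSp

namespace Groth.Agent.S10302



/-- Lemma A: unramified-type local extension preserves dimension zero. -/
theorem dimZero_of_map_maximalIdeal {R S : Type*} [CommRing R] [CommRing S] [IsLocalRing R] [IsLocalRing S]
    [Algebra R S] (h : (IsLocalRing.maximalIdeal R).map (algebraMap R S) = IsLocalRing.maximalIdeal S)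
    (hR : ringKrullDim R = 0) : ringKrullDim S = 0 := by
  rw [← ringKrullDimZero_iff_ringKrullDim_eq_zero] at hR ⊢
  rw [Ring.krullDimLE_zero_iff]
  intro q hq
  have hle : IsLocalRing.maximalIdeal S ≤ q := by
    rw [← h, Ideal.map_le_iff_le_comap]
    intro r hr
    have hnil : IsNilpotent r := Ring.KrullDimLE.isNilpotent_iff_mem_maximalIdeal.mpr hr
    obtain ⟨n, hn⟩ := hnil
    apply hq.mem_of_pow_mem n
    rw [← map_pow, hn, map_zero]
    exact zero_mem _
  have : q = IsLocalRing.maximalIdeal S := le_antisymm (IsLocalRing.le_maximalIdeal hq.ne_top) hle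
  rw [this]; infer_instance

/-- Lemma B: faithfully flat descent of dimension zero for local homs. -/
theorem dimZero_of_flat_local {R S : Type*} [CommRing R] [CommRing S] [IsLocalRing R] [IsLocalRing S]
    [Algebra R S] [Module.Flat R S] [IsLocalHom (algebraMap R S)]
    (hS : ringKrullDim S = 0) : ringKrullDim R = 0 := by
  rw [← ringKrullDimZero_iff_ringKrullDim_eq_zero] at hS ⊢
  rw [Ring.krullDimLE_zero_iff]
  intro p hp
  have : Module.FaithfullyFlat R S := Module.FaithfullyFlat.of_flat_of_isLocalHom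
  obtain ⟨q, hqp, hq⟩ := Ideal.exists_isPrime_liesOver_of_faithfullyFlat (B := S) p
  have hqm : q = IsLocalRing.maximalIdeal S := Ring.KrullDimLE.eq_maximalIdeal_of_isPrime q
  have : p = IsLocalRing.maximalIdeal R := by
    rw [hq.over, hqm, Ideal.under_def]
    exact ((IsLocalRing.local_hom_TFAE (algebraMap R S)).out 0 4).mp ‹IsLocalHom (algebraMap R S)›
  rw [this]; infer_instance

theorem stalk_dimZero_of_etale {W U : Scheme.{u}} (g : W ⟶ U) [Etale g] (w : W)
    (h : ringKrullDim (U.presheaf.stalk (g w)) = 0) : ringKrullDim (W.presheaf.stalk w) = 0 := by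
  algebraize [(g.stalkMap w).hom]
  have : IsLocalHom (algebraMap (U.presheaf.stalk (g w)) (W.presheaf.stalk w)) :=
    inferInstanceAs <| IsLocalHom (g.stalkMap w).hom
  have : Algebra.EssFiniteType (U.presheaf.stalk (g w)) (W.presheaf.stalk w) := by
    rw [← RingHom.essFiniteType_algebraMap, RingHom.algebraMap_toAlgebra]
    exact LocallyOfFiniteType.stalkMap g w
  have : Algebra.FormallyUnramified (U.presheaf.stalk (g w)) (W.presheaf.stalk w) := by
    rw [← RingHom.formallyUnramified_algebraMap, RingHom.algebraMap_toAlgebra]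
    exact FormallyUnramified.stalkMap g w
  exact dimZero_of_map_maximalIdeal Algebra.FormallyUnramified.map_maximalIdeal h

theorem stalk_dimZero_of_flat {W V : Scheme.{u}} (g : W ⟶ V) [Flat g] (w : W)
    (h : ringKrullDim (W.presheaf.stalk w) = 0) : ringKrullDim (V.presheaf.stalk (g w)) = 0 := by
  algebraize [(g.stalkMap w).hom]
  have : IsLocalHom (algebraMap (V.presheaf.stalk (g w)) (W.presheaf.stalk w)) :=
    inferInstanceAs <| IsLocalHom (g.stalkMap w).hom
  have : Module.Flat (V.presheaf.stalk (g w)) (W.presheaf.stalk w) := by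
    have := Flat.stalkMap g w
    rwa [RingHom.Flat] at this
  exact dimZero_of_flat_local (S := W.presheaf.stalk w) h



/-- A flat morphism of algebraic spaces maps points of codimension 0 to points of codimension 0. -/
theorem result {S : Scheme.{u}} {X Y : AlgSp.Space S} (f : X ⟶ Y) (hf : AlgSp.LocP @Flat f.hom)
    (x : AlgSp.Points X.obj) (hx : AlgSp.HasAt (fun U u => ringKrullDim ↥(U.presheaf.stalk u) = 0) X.obj x) :
    AlgSp.HasAt (fun U u => ringKrullDim ↥(U.presheaf.stalk u) = 0) Y.obj (AlgSp.Points.map f.hom x) := by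
  obtain ⟨U, a, u, hae, rfl, hdim⟩ := hx
  obtain ⟨V, b, hbe, hbs⟩ := Y.property.atlas
  obtain ⟨W, snd, fst, hpb⟩ := hbe.rep (a ≫ f.hom)
  obtain ⟨φ, rfl⟩ := (yon S).map_surjective fst
  have hsnd_et : Etale snd.left := hbe.2 _ _ snd hpb
  have hsnd_surj : Surjective snd.left := hbs.2 _ _ snd hpb
  obtain ⟨w, hw⟩ := hsnd_surj.surj u
  subst hw
  have ha'e : RepWith @Etale ((yon S).map snd ≫ a) :=
    (repWith_isMultiplicative (S := S) @Etale).comp_mem _ _
      ((repWith_yon_map_iff _ _).2 hsnd_et) hae
  have hflat : Flat φ.left :=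
    hf ((yon S).map snd ≫ a) b φ ha'e hbe (by rw [Category.assoc]; exact hpb.w.symm)
  refine ⟨V, b, φ.left w, hbe, ?_, ?_⟩
  · rw [← Groth.Agent.Lib.helper11.ofPt_yon_map_comp, hpb.w,
      Groth.Agent.Lib.helper11.ofPt_yon_map_comp, Points.map_ofPt]
  · exact stalk_dimZero_of_flat φ.left w (stalk_dimZero_of_etale snd.left w hdim)

end Groth.Agent.S10302
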