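import Groth.Statements.S10303
import Groth.Agent.Lib.Helper5.IrrCompCover
import Groth.Agent.Lib.Helper5.AlgSpFibreProduct

set_option autoImplicit false
universe u
open CategoryTheory CategoryTheory.Limits AlgebraicGeometry
open AlgSp

namespace Groth.Agent.S10303

/-- If Y has an etale surjective chart whose quasi-compact opens have finitely many irreducible
components and f : X -> Y is flat and locally of finite type, then X has such a chart too. -/
theorem result {S : Scheme.{u}} {X Y : AlgSp.Space S} (f : X ⟶ Y)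
    (hf : AlgSp.LocP @Flat f.hom) (hf' : AlgSp.LocP @LocallyOfFiniteType f.hom)
    (hY : AlgSp.EtaleLocally (fun U => ∀ W : U.Opens, IsCompact (W : Set ↥U) → (irreducibleComponents ↥W).Finite) Y.obj) :
    AlgSp.EtaleLocally (fun U => ∀ W : U.Opens, IsCompact (W : Set ↥U) → (irreducibleComponents ↥W).Finite) X.obj := by
  obtain ⟨V, p, hpe, hps, hV⟩ := hY
  have sq : IsPullback (pullback.fst f.hom p) (pullback.snd f.hom p) f.hom p := IsPullback.of_hasPullback _ _
  have hP : IsAlgSpace (pullback f.hom p) :=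
    Groth.Agent.Lib.helper5.isAlgSpace_of_isPullback Y.2.diag X.2 (IsAlgSpace.yon_obj V) sq
  obtain ⟨U, a₀, ha₀e, ha₀s⟩ := hP.atlas
  obtain ⟨k, hk⟩ := (yon S).map_surjective (a₀ ≫ pullback.snd f.hom p)
  have hae : RepWith @Etale (a₀ ≫ pullback.fst f.hom p) :=
    (RepWith (S := S) @Etale).comp_mem _ _ ha₀e (MorphismProperty.pullback_fst f.hom p hpe)
  have has : RepWith @Surjective (a₀ ≫ pullback.fst f.hom p) :=
    (RepWith (S := S) @Surjective).comp_mem _ _ ha₀s (MorphismProperty.pullback_fst f.hom p hps)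
  have hc : (a₀ ≫ pullback.fst f.hom p) ≫ f.hom = (yon S).map k ≫ p := by
    rw [Category.assoc, sq.w, hk, Category.assoc]
  haveI : Flat k.left := hf _ p k hae hpe hc
  haveI : LocallyOfFiniteType k.left := hf' _ p k hae hpe hc
  exact ⟨U, a₀ ≫ pullback.fst f.hom p, hae, has,
    Groth.Agent.Lib.helper5.IrrCover.locFinIrr_of_flat_lft k.left hV⟩

end Groth.Agent.S10303
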