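import Groth.Statements.S10304
import Groth.Agent.Lib.Helper5.LocFinIrr
import Groth.Agent.Lib.Helper5.AlgSpChartInd
import Groth.Agent.Lib.Helper5.EtLocalProp
import Groth.Agent.Lib.Helper11.AlgSpBasic

set_option autoImplicit false
universe u
open CategoryTheory CategoryTheory.Limits AlgebraicGeometry
open AlgSp

namespace Groth.Agent.S10304

open Groth.Agent.Lib.helper5 Groth.Agent.Lib.helper5.IrrCover

variable {S : Scheme.{u}}

/-- every étale chart of a space with one good chart is good -/
theorem locFinIrr_of_chart {X : AlgSp.Sp S} (hX : AlgSp.EtaleLocally LocFinIrr X)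
    (U : Over S) (a : (AlgSp.yon S).obj U ⟶ X) (hae : AlgSp.RepWith @Etale a) : LocFinIrr U.left := by
  obtain ⟨V, p, hpe, hps, hV⟩ := hX
  obtain ⟨W, w, p', sq⟩ := hpe.1 a
  haveI : Etale w.left := hpe.2 a p' w sq
  haveI : Surjective w.left := hps.2 a p' w sq
  obtain ⟨v, rfl⟩ := (yon S).map_surjective p'
  have hve : RepWith @Etale ((yon S).map v) := (RepWith (S := S) @Etale).of_isPullback sq.flip hae
  haveI : Etale v.left := (repWith_yon_map_iff _ v).1 hve
  have h1 : LocFinIrr W.left := locFinIrr_of_flat_lft v.left hV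
  exact locFinIrr_of_open_surjective w.left w.left.isOpenMap w.left.surjective h1

theorem finite_irreducibleComponents_of_locFinIrr_compact {U : Scheme.{u}} (hU : LocFinIrr U) [CompactSpace U] :
    (irreducibleComponents U).Finite := by
  have h1 := hU ⊤ isCompact_univ
  exact finite_irreducibleComponents_of_isOpenEmbedding (fun x : U => (⟨x, trivial⟩ : ↥(⊤ : U.Opens)))
    (Homeomorph.Set.univ U).symm.isOpenEmbedding h1

/-- the open subscheme `W` of a chart as a space étale over `X` -/
theorem exists_open_chart (X : AlgSp.Space S) {U : Over S} (a : (AlgSp.yon S).obj U ⟶ X.obj)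
    (hae : AlgSp.RepWith @Etale a) (W : U.left.Opens) (hW : IsCompact (W : Set ↥U.left)) :
    ∃ (T : Over S) (g : (⟨(AlgSp.yon S).obj T, IsAlgSpace.yon_obj T⟩ : AlgSp.Space S) ⟶ X),
      ((irreducibleComponents ↥T.left).Finite → (irreducibleComponents ↥W).Finite) ∧ AlgSp.IsEtaleMor g.hom ∧ AlgSp.IsQuasiCompactSp ((AlgSp.yon S).obj T) := by
  let T : Over S := Over.mk (W.ι ≫ U.hom)
  let j : T ⟶ U := Over.homMk W.ι rfl
  have hj : RepWith @Etale ((yon S).map j) := (repWith_yon_map_iff _ j).2 (inferInstanceAs (Etale W.ι))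
  have hja : RepWith @Etale ((yon S).map j ≫ a) := (RepWith (S := S) @Etale).comp_mem _ _ hj hae
  refine ⟨T, ObjectProperty.homMk ((yon S).map j ≫ a), fun h => h, ?_, ?_⟩
  · intro T' φ hφ
    exact (RepWith (S := S) @Etale).comp_mem _ _ hφ hja
  · exact ⟨T, 𝟙 _, repWith_id _ T, repWith_id _ T, isCompact_iff_compactSpace.1 hW⟩

/-- Equivalent forms of the condition that the schemes etale over X have locally finitely many
irreducible components: one etale surjective chart, every etale chart, finiteness of codimension-0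
points of quasi-compact spaces etale over X, finiteness of irreducible components of such spaces. -/
theorem result {S : Scheme.{u}} (X : AlgSp.Space S) :
    (AlgSp.EtaleLocally (fun U => ∀ W : U.Opens, IsCompact (W : Set ↥U) → (irreducibleComponents ↥W).Finite) X.obj ↔
      ∀ (U : Over S) (a : (AlgSp.yon S).obj U ⟶ X.obj), AlgSp.RepWith @Etale a →
        ∀ W : U.left.Opens, IsCompact (W : Set ↥U.left) → (irreducibleComponents ↥W).Finite) ∧
    (AlgSp.EtaleLocally (fun U => ∀ W : U.Opens, IsCompact (W : Set ↥U) → (irreducibleComponents ↥W).Finite) X.obj ↔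
      ∀ (Y : AlgSp.Space S) (g : Y ⟶ X), AlgSp.IsEtaleMor g.hom → AlgSp.IsQuasiCompactSp Y.obj →
        {y : AlgSp.Points Y.obj |
          AlgSp.HasAt (fun U u => ringKrullDim ↥(U.presheaf.stalk u) = 0) Y.obj y}.Finite) ∧
    (AlgSp.EtaleLocally (fun U => ∀ W : U.Opens, IsCompact (W : Set ↥U) → (irreducibleComponents ↥W).Finite) X.obj ↔
      ∀ (Y : AlgSp.Space S) (g : Y ⟶ X), AlgSp.IsEtaleMor g.hom → AlgSp.IsQuasiCompactSp Y.obj →
        (irreducibleComponents (AlgSp.Points Y.obj)).Finite) := by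
  refine ⟨⟨fun hX U a hae => locFinIrr_of_chart hX U a hae, fun h => ?_⟩, ⟨fun hX Y g hg hqc => ?_, fun h => ?_⟩,
    ⟨fun hX Y g hg hqc => ?_, fun h => ?_⟩⟩
  · obtain ⟨U, a, hae, has⟩ := X.2.atlas
    exact ⟨U, a, hae, has, h U a hae⟩
  · -- codimension zero points of a quasi-compact étale `Y`
    obtain ⟨U', p', hp'e, hp's, hc⟩ := hqc
    haveI : CompactSpace ↥U'.left := hc
    have h1 : LocFinIrr U'.left := locFinIrr_of_chart hX U' (p' ≫ g.hom) (hg p' hp'e)
    have h2 := finite_irreducibleComponents_of_locFinIrr_compact h1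
    have h3 := (finite_codimZero_iff U'.left).2 h2
    refine (h3.image (Points.ofPt p')).subset ?_
    intro y hy
    obtain ⟨u', rfl⟩ := Groth.Agent.Lib.helper11.surjective_ofPt p' hp's y
    refine ⟨u', ?_, rfl⟩
    exact (ChartInd.hasAt_iff_forall (Q := fun U u => ringKrullDim ↥(U.presheaf.stalk u) = 0)
      (fun g _ v => by rw [EtLocalProp.ringKrullDim_stalk_eq_of_etale g v]) Y _).1 hy U' p' u' hp'e rfl
  · obtain ⟨U, a, hae, has⟩ := X.2.atlas
    refine ⟨U, a, hae, has, fun W hW => ?_⟩
    obtain ⟨T, g, hT, hg, hqc⟩ := exists_open_chart X a hae W hW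
    have h1 := h ⟨(yon S).obj T, IsAlgSpace.yon_obj T⟩ g hg hqc
    have h2 : {t : T.left | ringKrullDim ↥(T.left.presheaf.stalk t) = 0}.Finite := by
      refine (h1.preimage (Points.schemeHomeo T).injective.injOn).subset ?_
      intro t ht
      exact ⟨T, 𝟙 _, t, repWith_id _ T, rfl, ht⟩
    exact hT ((finite_codimZero_iff T.left).1 h2)
  · obtain ⟨U', p', hp'e, hp's, hc⟩ := hqc
    haveI : CompactSpace ↥U'.left := hc
    have h1 : LocFinIrr U'.left := locFinIrr_of_chart hX U' (p' ≫ g.hom) (hg p' hp'e)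
    have h2 := finite_irreducibleComponents_of_locFinIrr_compact h1
    exact finite_irreducibleComponents_of_surjective (Points.ofPt p') (Points.continuous_ofPt p')
      (Groth.Agent.Lib.helper11.surjective_ofPt p' hp's) h2
  · obtain ⟨U, a, hae, has⟩ := X.2.atlas
    refine ⟨U, a, hae, has, fun W hW => ?_⟩
    obtain ⟨T, g, hT, hg, hqc⟩ := exists_open_chart X a hae W hW
    have h1 := h ⟨(yon S).obj T, IsAlgSpace.yon_obj T⟩ g hg hqc
    exact hT ((finite_irreducibleComponents_of_homeomorph (Points.schemeHomeo T)).2 h1)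

end Groth.Agent.S10304
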