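import Groth.Statements.S10308
import Groth.Agent.S0402
import Groth.Agent.Lib.Helper11.AlgSpBasic

set_option autoImplicit false
universe u
open CategoryTheory CategoryTheory.Limits AlgebraicGeometry
open AlgSp

namespace Groth.Agent.S10308

/-- For f locally of finite type, the locus of points where the relative dimension of f is at most n is
open. -/
theorem result {S : Scheme.{u}} {X Y : AlgSp.Space S} (f : X ⟶ Y)
    (hf : AlgSp.LocP @LocallyOfFiniteType f.hom) (n : ℕ) :
    IsOpen {x : AlgSp.Points X.obj |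
      AlgSp.HasAtMor (fun _ _ h u => FlatMor.fibreDimAt h u ≤ (n : WithBot ℕ∞)) f.hom x} := by
  rw [isOpen_iff_forall_mem_open]
  intro x hx
  obtain ⟨U, V, a, b, h, u, hae, hbe, hc, hu, hQ⟩ := hx
  have hft : LocallyOfFiniteType h.left := hf a b h hae hbe hc
  have hopen : IsOpen {u' : ↥U.left | FlatMor.fibreDimAt h.left u' ≤ (n : WithBot ℕ∞)} :=
    Groth.Agent.S0402.result h.left n
  refine ⟨AlgSp.Points.ofPt a '' {u' : ↥U.left | FlatMor.fibreDimAt h.left u' ≤ (n : WithBot ℕ∞)},
    ?_, Groth.Agent.Lib.helper11.isOpenMap_ofPt a hae _ hopen, ⟨u, hQ, hu⟩⟩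
  rintro _ ⟨u', hu', rfl⟩
  exact ⟨U, V, a, b, h, u', hae, hbe, hc, rfl, hu'⟩

end Groth.Agent.S10308
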