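import Groth.Statements.S10309
import Groth.Agent.Lib.Helper11.AlgSpBasic
import Groth.Agent.Lib.Helper3.FibreDimRetro
import Groth.Agent.Lib.Helper5.AlgSpThickRelDim

set_option autoImplicit false
universe u
open CategoryTheory CategoryTheory.Limits AlgebraicGeometry
open AlgSp

namespace Groth.Agent.S10309

/-- For f locally of finite presentation, the locus where the relative dimension is at most n is
retrocompact in |X|. -/
theorem result {S : Scheme.{u}} {X Y : AlgSp.Space S} (f : X ⟶ Y)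
    (hf : AlgSp.LocP @LocallyOfFinitePresentation f.hom) (n : ℕ) (V : Set (AlgSp.Points X.obj))
    (hV : IsOpen V) (hVc : IsCompact V) :
    IsCompact (V ∩ {x : AlgSp.Points X.obj |
      AlgSp.HasAtMor (fun _ _ h u => FlatMor.fibreDimAt h u ≤ (n : WithBot ℕ∞)) f.hom x}) := by
  classical
  set E : Set (AlgSp.Points X.obj) := {x : AlgSp.Points X.obj |
      AlgSp.HasAtMor (fun _ _ h u => FlatMor.fibreDimAt h u ≤ (n : WithBot ℕ∞)) f.hom x} with hE
  -- local pieces
  have hcover : ∀ x ∈ V, ∃ W : Set (AlgSp.Points X.obj), IsOpen W ∧ x ∈ W ∧ W ⊆ V ∧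
      IsCompact (W ∩ E) := by
    intro x hx
    obtain ⟨U, V', a, b, h, u, hae, hbe, hc, hu⟩ :=
      Groth.Agent.Lib.helper5.LocPFam.exists_chart_at_point X.property Y.property f.hom x
    haveI hfp : LocallyOfFinitePresentation h.left := hf a b h hae hbe hc
    have hcont : Continuous (AlgSp.Points.ofPt a) := AlgSp.Points.continuous_ofPt a
    have hpre : IsOpen (AlgSp.Points.ofPt a ⁻¹' V) := hV.preimage hcont
    obtain ⟨W, hW, huW, hWsub⟩ := exists_isAffineOpen_mem_and_subset (x := u)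
      (U := ⟨AlgSp.Points.ofPt a ⁻¹' V, hpre⟩) (by rw [← hu] at hx; exact hx)
    refine ⟨AlgSp.Points.ofPt a '' (W : Set ↥U.left),
      Groth.Agent.Lib.helper11.isOpenMap_ofPt a hae _ W.2, ⟨u, huW, hu⟩, ?_, ?_⟩
    · rintro _ ⟨w, hw, rfl⟩
      exact hWsub hw
    · have hset : AlgSp.Points.ofPt a '' (W : Set ↥U.left) ∩ E = AlgSp.Points.ofPt a ''
          ({u' : ↥U.left | FlatMor.fibreDimAt h.left u' ≤ (n : WithBot ℕ∞)} ∩ (W : Set ↥U.left)) := by
        ext y
        constructor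
        · rintro ⟨⟨w, hw, rfl⟩, hy⟩
          refine ⟨w, ⟨?_, hw⟩, rfl⟩
          exact Groth.Agent.Lib.helper5.ThickRelDim.locPAt_fibreDim_of_hasAtMor f.hom
            (AlgSp.Points.ofPt a w) (fun e => e ≤ (n : WithBot ℕ∞)) hy a b h w hae hbe hc rfl
        · rintro ⟨w, ⟨hw1, hw2⟩, rfl⟩
          exact ⟨⟨w, hw2, rfl⟩, U, V', a, b, h, w, hae, hbe, hc, rfl, hw1⟩
      rw [hset]
      exact (Groth.Agent.Lib.helper3.FibreDimRetro.isRetrocompact_fibreDimAt_le h.left n
        hW.isCompact W.2).image hcont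
  choose! W hW1 hW2 hW3 hW4 using hcover
  obtain ⟨t, htV, htfin, ht⟩ := hVc.elim_finite_subcover_image (b := V)
    (c := fun x => W x) (fun x hx => hW1 x hx)
    (fun x hx => Set.mem_biUnion hx (hW2 x hx))
  have hset : V ∩ E = ⋃ i ∈ t, (W i ∩ E) := by
    ext x
    simp only [Set.mem_inter_iff, Set.mem_iUnion, exists_prop]
    constructor
    · rintro ⟨h1, h2⟩
      obtain ⟨i, hi, hxi⟩ := Set.mem_iUnion₂.mp (ht h1)
      exact ⟨i, hi, hxi, h2⟩
    · rintro ⟨i, hi, hxi, h2⟩
      exact ⟨hW3 i (htV hi) hxi, h2⟩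
  rw [hset]
  exact htfin.isCompact_biUnion (fun i hi => hW4 i (htV hi))

end Groth.Agent.S10309
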