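import Groth.Statements.S1031
import Mathlib

set_option autoImplicit false
universe v u
open CategoryTheory
open CohDer

namespace Groth.Agent.S1031

section helpers

open CategoryTheory Limits ObjectProperty Pretriangulated

variable {D : Type u} [Category.{v} D] [Preadditive D] [Limits.HasZeroObject D] [HasShift D ℤ]
    [∀ n : ℤ, (shiftFunctor D n).Additive] [Pretriangulated D]

lemma closedBinProd_of_pi (R : ObjectProperty D) [R.IsClosedUnderIsomorphisms]
    (h : ∀ (X : WalkingPair → D), (∀ j, R (X j)) → R (∏ᶜ X)) :
    R.IsClosedUnderBinaryProducts :=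
  .mk' (by
    rintro _ ⟨F, hF⟩
    exact R.prop_of_iso (HasLimit.isoOfNatIso Discrete.natIsoFunctor).symm
      (h _ (fun j => hF ⟨j⟩)))

lemma extensionProduct_closedBinProd (P Q : ObjectProperty D) [P.IsClosedUnderBinaryProducts]
    [Q.IsClosedUnderBinaryProducts] : (extensionProduct P Q).IsClosedUnderBinaryProducts := by
  apply closedBinProd_of_pi
  intro X hX
  choose Y Z f g h hT hP hQ using hX
  have := productTriangle_distinguished (fun j => Triangle.mk (f j) (g j) (h j)) hT
  exact ⟨_, _, _, _, _, this, P.prop_pi Y hP, Q.prop_pi Z hQ⟩

lemma retractClosure_closedBinProd (P : ObjectProperty D) [P.IsClosedUnderBinaryProducts] :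
    P.retractClosure.IsClosedUnderBinaryProducts := by
  apply closedBinProd_of_pi
  intro X hX
  choose W hW r using hX
  refine ⟨∏ᶜ W, P.prop_pi W hW, ⟨?_⟩⟩
  exact
    { i := Limits.Pi.map (fun j => (r j).some.i)
      r := Limits.Pi.map (fun j => (r j).some.r)
      retract := by
        rw [Limits.Pi.map_comp_map]
        simp [Limits.Pi.map_id] }

lemma closedTerminal_of_retracts (R : ObjectProperty D) [R.IsStableUnderRetracts] [R.Nonempty] :
    R.IsClosedUnderLimitsOfShape (Discrete.{0} PEmpty) :=
  .mk' (by
    rintro _ ⟨F, hF⟩
    obtain ⟨A, hA⟩ := ‹R.Nonempty›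
    refine R.prop_of_retract (Y := A) ?_ hA
    exact
      { i := 0
        r := 0
        retract := limit.hom_ext (fun j => j.as.elim) })

end helpers

section main

open CategoryTheory Limits ObjectProperty Pretriangulated

variable {D : Type u} [Category.{v} D] [Preadditive D] [Limits.HasZeroObject D] [HasShift D ℤ]
    [∀ n : ℤ, (shiftFunctor D n).Additive] [Pretriangulated D]

lemma extensionProductIter_closedBinProd (R : ObjectProperty D) [R.IsClosedUnderBinaryProducts]
    (n : ℕ) : (R.extensionProductIter n).IsClosedUnderBinaryProducts := by
  induction n with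
  | zero => rw [extensionProductIter_zero]; infer_instance
  | succ n ih =>
    rw [extensionProductIter_succ]
    exact extensionProduct_closedBinProd _ _

lemma triangEnvelopeIter_closedBinProd (Q : ObjectProperty D) (m : ℕ) :
    (Q.triangEnvelopeIter m).IsClosedUnderBinaryProducts := by
  have h1 := retractClosure_closedBinProd (Q.shiftClosure ℤ).binaryProductsClosure
  have h2 := extensionProductIter_closedBinProd
    (Q.shiftClosure ℤ).binaryProductsClosure.retractClosure m
  exact retractClosure_closedBinProd _

lemma key [IsTriangulated D] (P Q : ObjectProperty D) [Q.Nonempty] (m : ℕ)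
    (h : P ≤ Q.triangEnvelopeIter m) (n : ℕ) :
    P.triangEnvelopeIter n ≤ Q.triangEnvelopeIter (n * (m + 1) + m) := by
  have i1 := triangEnvelopeIter_closedBinProd Q m
  have i2 : (Q.triangEnvelopeIter m).Nonempty := .mono (Q.le_triangEnvelopeIter m)
  have i3 := closedTerminal_of_retracts (Q.triangEnvelopeIter m)
  have h0 : P.triangEnvelopeIter 0 ≤ Q.triangEnvelopeIter m := by
    rw [triangEnvelopeIter_zero, retractClosure_le_iff, binaryProductsClosure_le_iff,
      shiftClosure_le_iff]
    exact h
  induction n with
  | zero => simpa using h0
  | succ n ih =>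
    rw [triangEnvelopeIter_succ, ← triangEnvelopeIter_zero]
    have e : (n + 1) * (m + 1) + m = (m + 1) + (n * (m + 1) + m) := by ring
    rw [e, triangEnvelopeIter_add Q (n := m + 1) (n' := m) rfl]
    apply monotone_retractClosure
    exact (monotone_extensionProduct_left _ h0).trans (monotone_extensionProduct_right _ ih)

end main

/-- Let D be a triangulated category admitting a strong generator G (every object is reached from G by
shifts, finite sums, summands and a uniformly bounded number of extensions). Then every classical
generator E of D (every object reached from E with some finite number of extensions) is itself a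
strong generator. -/
theorem result {D : Type u} [Category.{v} D] [Preadditive D] [Limits.HasZeroObject D] [HasShift D ℤ]
    [∀ n : ℤ, (shiftFunctor D n).Additive] [Pretriangulated D] [IsTriangulated D]
    (G E : D) (hG : ObjectProperty.IsStrongTriangulatedGenerator (fun X : D => X = G))
    (hE : ObjectProperty.IsClassicalTriangulatedGenerator (fun X : D => X = E)) :
    ObjectProperty.IsStrongTriangulatedGenerator (fun X : D => X = E) := by
  obtain ⟨n, hn⟩ := hG
  have hGE : ObjectProperty.triangEnvelope (fun X : D => X = E) G := by
    rw [ObjectProperty.isClassicalTriangulatedGenerator_iff] at hE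
    rw [hE]; trivial
  rw [ObjectProperty.prop_triangEnvelope_iff] at hGE
  obtain ⟨m, hm⟩ := hGE
  have hle : (fun X : D => X = G) ≤ ObjectProperty.triangEnvelopeIter (fun X : D => X = E) m := by
    rintro X rfl
    exact hm
  haveI : ObjectProperty.Nonempty (fun X : D => X = E) := ⟨E, rfl⟩
  refine ⟨n * (m + 1) + m, ?_⟩
  rw [eq_top_iff, ← hn]
  exact key _ _ m hle n

end Groth.Agent.S1031
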