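import Groth.Statements.S10311
import Groth.Agent.Lib.Helper5.FieldBCLocalDim
import Groth.Agent.Lib.Helper5.AlgSpLqfLocus
import Groth.Agent.Lib.Helper11.HasAtMorInd

set_option autoImplicit false
universe u
open CategoryTheory CategoryTheory.Limits AlgebraicGeometry
open AlgSp

namespace Groth.Agent.S10311

/-- The relative dimension at a point of a morphism locally of finite type is preserved by base change. -/
theorem result {S : Scheme.{u}} {X Y Y' X' : AlgSp.Space S} (f : X ⟶ Y) (g : Y' ⟶ Y)
    (g' : X' ⟶ X) (f' : X' ⟶ Y') (sq : IsPullback g'.hom f'.hom f.hom g.hom)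
    (hf : AlgSp.LocP @LocallyOfFiniteType f.hom) (x' : AlgSp.Points X'.obj) (d : WithBot ℕ∞)
    (hd : AlgSp.HasAtMor (fun _ _ h u => FlatMor.fibreDimAt h u = d) f.hom (AlgSp.Points.map g'.hom x')) :
    AlgSp.HasAtMor (fun _ _ h u => FlatMor.fibreDimAt h u = d) f'.hom x' := by
  have hQ : Groth.Agent.Lib.helper11.EtInv
      (fun _ _ h u => FlatMor.fibreDimAt h u = d) := by
    intro U V U' V' h h' p q hp hq comm u'
    haveI := hp
    haveI := hq
    have e : FlatMor.fibreDimAt h (p u') = FlatMor.fibreDimAt h' u' := by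
      rw [← Groth.Agent.Lib.helper5.FibreDimLocal.fibreDimAt_comp_etale_left p h u', comm,
        Groth.Agent.Lib.helper5.FibreDimLocal.fibreDimAt_comp_etale_right h' q u']
    change FlatMor.fibreDimAt h (p u') = d ↔ FlatMor.fibreDimAt h' u' = d
    rw [e]
  obtain ⟨U, V, U', V', a, b, a', b', h, h', p, k, u', hae, hbe, hae', hbe', hc, hc', hcg', hcg,
      sqS, hu', -⟩ :=
    Groth.Agent.Lib.helper17.ChartBC.exists_bc_charts X.property Y.property Y'.property sq x'
  haveI : LocallyOfFiniteType h.left := hf a b h hae hbe hc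
  have sqL : IsPullback p.left h'.left h.left k.left := sqS.map (Over.forget S)
  have hx : AlgSp.Points.map g'.hom x' = AlgSp.Points.ofPt a (p.left u') := by
    rw [← hu', AlgSp.Points.map_ofPt, hcg', Groth.Agent.Lib.helper11.ofPt_yon_map_comp]
  have h1 := (Groth.Agent.Lib.helper11.hasAtMor_iff hQ f.hom _ a b h (p.left u') hae hbe hc
    hx.symm).mp hd
  refine ⟨U', V', a', b', h', u', hae', hbe', hc', hu', ?_⟩
  change FlatMor.fibreDimAt h'.left u' = d
  rw [Groth.Agent.Lib.helper5.FieldBC.fibreDimAt_eq_of_isPullback sqL u']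
  exact h1

end Groth.Agent.S10311
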