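import Groth.Statements.S9359
import Mathlib
import Groth.Agent.Lib.Helper3.FlatRelDim
import Groth.Agent.Lib.Helper17.FibreDim
import Groth.Agent.Lib.Helper3.TopDim

set_option autoImplicit false
universe u
open FibDim

namespace Groth.Agent.S9359
open Groth.Agent.Lib.helper3.DimIneq Groth.Agent.Lib.helper3.DimFibre Groth.Agent.Lib.helper3.RelDim Groth.Agent.Lib.helper3.TopDim Groth.Agent.Lib.helper3.FTField

open AlgebraicGeometry CategoryTheory in
/-- Let f : X → Y be flat, locally of finite type and of relative dimension d, with X and Y locally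
Noetherian. Then dim_x(X) = dim_y(Y) + d for every x ∈ X with image y. -/
theorem result {X Y : Scheme.{u}} [IsLocallyNoetherian X] [IsLocallyNoetherian Y] (f : X ⟶ Y)
    [Flat f] [LocallyOfFiniteType f] (d : ℕ) (hd : Cyc.HasRelDim f d) (x : X) :
    FlatMor.localDim ↑X x = FlatMor.localDim ↑Y (f.base x) + (d : WithBot ℕ∞) := by
  have hfd : ∀ a : X, FlatMor.fibreDimAt f a = (d : WithBot ℕ∞) :=
    fibreDimAt_eq_of_hasRelDim f d hd
  have hstalk : ∀ a : X, ringKrullDim (X.presheaf.stalk a) =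
      ringKrullDim (Y.presheaf.stalk (f a)) +
        ringKrullDim ((f.fiber (f a)).presheaf.stalk (f.asFiber a)) :=
    fun a => Groth.Agent.Lib.helper17.FibreDim.dim_stalk_eq f a (Flat.stalkMap f a)
  have hle : ∀ a : X, ringKrullDim ((f.fiber (f a)).presheaf.stalk (f.asFiber a)) ≤
      (d : WithBot ℕ∞) := by
    intro a
    obtain ⟨a', b', -, hb, hab⟩ := fibreDimAt_eq_add f a
    rw [hfd a] at hab
    rw [hb]
    have h1 : a' + b' = d := by exact_mod_cast hab.symm
    have h2 : b' ≤ d := by omega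
    exact_mod_cast h2
  apply le_antisymm
  · obtain ⟨V, hyV, hV⟩ := exists_open_dim_eq_localDim (f.base x)
    rw [← hV]
    let U : X.Opens := f ⁻¹ᵁ V
    have hxU : x ∈ U := hyV
    refine (iInf_le (fun U : {U : TopologicalSpace.Opens X // x ∈ U} =>
      topologicalKrullDim (U.1 : Set X)) ⟨U, hxU⟩).trans ?_
    change topologicalKrullDim (U.1 : Set X) ≤ topologicalKrullDim (V.1 : Set Y) + _
    rw [dim_opens_eq_iSup_stalk U, dim_opens_eq_iSup_stalk V]
    refine iSup_le fun a => ?_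
    rw [hstalk a.1]
    exact add_le_add (le_iSup (fun b : V => ringKrullDim (Y.presheaf.stalk b.1)) ⟨f a.1, a.2⟩)
      (hle a.1)
  · obtain ⟨U, hxU, hU⟩ := exists_open_dim_eq_localDim x
    rw [← hU]
    obtain ⟨V, hVdef⟩ : ∃ V : Y.Opens, (V : Set Y) = f '' U :=
      ⟨⟨_, f.isOpenMap _ U.isOpen⟩, rfl⟩
    have hVmem : ∀ b : Y, b ∈ V ↔ ∃ a₀ ∈ U, f a₀ = b := fun b => by
      change b ∈ (V : Set Y) ↔ _
      rw [hVdef]; rfl
    have hyV : f.base x ∈ V := (hVmem _).mpr ⟨x, hxU, rfl⟩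
    have h1 : FlatMor.localDim Y (f.base x) ≤ topologicalKrullDim (V.1 : Set Y) :=
      iInf_le (fun V : {V : TopologicalSpace.Opens Y // f.base x ∈ V} =>
        topologicalKrullDim (V.1 : Set Y)) ⟨V, hyV⟩
    refine (add_le_add_left h1 _).trans ?_
    rw [dim_opens_eq_iSup_stalk V]
    haveI : Nonempty V := ⟨⟨f.base x, hyV⟩⟩
    have h2 : (fun b : V => ringKrullDim (Y.presheaf.stalk b.1)) =
        fun b : V => ((Order.coheight b.1 : ℕ∞) : WithBot ℕ∞) := by
      funext b
      exact ringKrullDim_stalk_eq_coheight b.1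
    rw [h2]
    refine @iSup_add_nat_le _ ⟨⟨f.base x, hyV⟩⟩ _ d _ ?_
    rintro ⟨b, hb⟩
    obtain ⟨a₀, ha₀, rfl⟩ := (hVmem b).mp hb
    obtain ⟨a, haU, hfa, hdim⟩ := exists_mem_fibre_stalk_dim_eq f d hd U a₀ ha₀
    rw [← ringKrullDim_stalk_eq_coheight (f a₀)]
    have h3 := hstalk a
    rw [hdim] at h3
    have h4 : ringKrullDim (Y.presheaf.stalk (f a)) = ringKrullDim (Y.presheaf.stalk (f a₀)) := by
      rw [hfa]
    rw [h4] at h3
    rw [← h3, dim_opens_eq_iSup_stalk U]
    exact le_iSup (fun y : U => ringKrullDim (X.presheaf.stalk y.1)) ⟨a, haU⟩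

end Groth.Agent.S9359
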