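import Groth.Statements.S10314
import Groth.Agent.S9359
import Groth.Agent.Lib.Helper3.RelDim
import Groth.Agent.Lib.Helper1.LocNoeth
import Groth.Agent.Lib.Helper5.EtLocalDim
import Groth.Agent.Lib.Helper5.AlgSpChartInd
import Groth.Agent.Lib.Helper5.AlgSpThickRelDim
import Groth.Agent.Lib.Helper11.AlgSpBasic

set_option autoImplicit false
universe u
open CategoryTheory CategoryTheory.Limits AlgebraicGeometry
open AlgSp

namespace Groth.Agent.S10314

/-- For a flat morphism locally of finite type of relative dimension d between locally Noetherian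
algebraic spaces, the dimension of X at a point equals the dimension of Y at the image point plus d. -/
theorem result {S : Scheme.{u}} {X Y : AlgSp.Space S} (f : X ⟶ Y)
    (hX : AlgSp.IsLocNoethSp X.obj) (hY : AlgSp.IsLocNoethSp Y.obj) (hf : AlgSp.LocP @Flat f.hom)
    (hf' : AlgSp.LocP @LocallyOfFiniteType f.hom) (d : ℕ)
    (hd : ∀ x : AlgSp.Points X.obj, AlgSp.HasAtMor (fun _ _ h u => FlatMor.fibreDimAt h u = (d : WithBot ℕ∞)) f.hom x)
    (x : AlgSp.Points X.obj) (dX dY : WithBot ℕ∞) (hx : AlgSp.HasAt (fun U u => FlatMor.localDim ↥U u = dX) X.obj x)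
    (hy : AlgSp.HasAt (fun U u => FlatMor.localDim ↥U u = dY) Y.obj (AlgSp.Points.map f.hom x)) :
    dX = dY + (d : WithBot ℕ∞) := by
  obtain ⟨U, V, p, q, h, u, hpe, hqe, hc, hu, -⟩ := hd x
  haveI : IsLocallyNoetherian U.left := Groth.Agent.H1.LocNoeth.isLocallyNoetherian_of_chart hX p hpe
  haveI : IsLocallyNoetherian V.left := Groth.Agent.H1.LocNoeth.isLocallyNoetherian_of_chart hY q hqe
  haveI : Flat h.left := hf p q h hpe hqe hc
  haveI : LocallyOfFiniteType h.left := hf' p q h hpe hqe hc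
  have hrel : Cyc.HasRelDim h.left d := by
    refine Groth.Agent.Lib.helper3.RelDim.hasRelDim_of_forall_fibreDimAt h.left d (fun u' => ?_)
    exact Groth.Agent.Lib.helper5.ThickRelDim.locPAt_fibreDim_of_hasAtMor f.hom (AlgSp.Points.ofPt p u')
      (fun t => t = (d : WithBot ℕ∞)) (hd _) p q h u' hpe hqe hc rfl
  have key := Groth.Agent.S9359.result h.left d hrel u
  have hdimEt : ∀ (c : WithBot ℕ∞) {V U : Scheme.{u}} (g : V ⟶ U) [Etale g] (v : ↥V),
      FlatMor.localDim ↥V v = c ↔ FlatMor.localDim ↥U (g v) = c := by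
    intro c V U g _ v
    rw [Groth.Agent.Lib.helper5.EtLocalDim.localDim_eq_of_etale g v]
  have hx' := (Groth.Agent.Lib.helper5.ChartInd.hasAt_iff_forall
    (Q := fun U u => FlatMor.localDim ↥U u = dX) (hdimEt dX) X x).1 hx U p u hpe hu
  have hy' := (Groth.Agent.Lib.helper5.ChartInd.hasAt_iff_forall
    (Q := fun U u => FlatMor.localDim ↥U u = dY) (hdimEt dY) Y (AlgSp.Points.map f.hom x)).1 hy
    V q (h.left u) hqe (by
      rw [← hu, AlgSp.Points.map_ofPt, hc, Groth.Agent.Lib.helper11.ofPt_yon_map_comp])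
  rw [← hx', ← hy']
  exact key

end Groth.Agent.S10314
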