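import Groth.Statements.S10315
import Groth.Agent.S9359
import Groth.Agent.Lib.Helper3.RelDim
import Groth.Agent.Lib.Helper1.LocNoeth
import Groth.Agent.Lib.Helper5.EtLocalDim
import Groth.Agent.Lib.Helper5.AlgSpChartInd
import Groth.Agent.Lib.Helper5.AlgSpAffTower
import Groth.Agent.Lib.Helper5.SmoothFibreDim2
import Groth.Agent.Lib.Helper11.AlgSpBasic

set_option autoImplicit false
universe u
open CategoryTheory CategoryTheory.Limits AlgebraicGeometry
open AlgSp

namespace Groth.Agent.S10315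

/-- For a smooth morphism of locally Noetherian algebraic spaces, the dimension of X at x is the
dimension of Y at the image of x plus the relative dimension of f at x. -/
theorem result {S : Scheme.{u}} {X Y : AlgSp.Space S} (f : X ⟶ Y)
    (hX : AlgSp.IsLocNoethSp X.obj) (hY : AlgSp.IsLocNoethSp Y.obj) (hf : AlgSp.LocP @Smooth f.hom)
    (x : AlgSp.Points X.obj) (d dX dY : WithBot ℕ∞)
    (hd : AlgSp.HasAtMor (fun _ _ h u => FlatMor.fibreDimAt h u = d) f.hom x)
    (hx : AlgSp.HasAt (fun U u => FlatMor.localDim ↥U u = dX) X.obj x)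
    (hy : AlgSp.HasAt (fun U u => FlatMor.localDim ↥U u = dY) Y.obj (AlgSp.Points.map f.hom x)) :
    dX = dY + d := by
  obtain ⟨U, V, p, q, h, u, hpe, hqe, hc, hu, hQ⟩ := hd
  haveI : Smooth h.left := hf p q h hpe hqe hc
  obtain ⟨O, m, huO, hO⟩ :=
    Groth.Agent.Lib.helper5.SmoothFibreDim.exists_open_fibreDimAt_eq_of_smooth h.left u
  have hdm : d = (m : WithBot ℕ∞) := by rw [← hQ]; exact hO u huO
  subst hdm
  -- the restricted chart
  obtain ⟨hp1, hp2⟩ := Groth.Agent.Lib.helper11.chart_comp p hpe (Scheme.Opens.ι O)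
  set W := Groth.Agent.Lib.helper5.AffTower.ovOpen U O with hW
  set ι := Groth.Agent.Lib.helper5.AffTower.ovι U O with hι
  have hc' : ((yon S).map ι ≫ p) ≫ f.hom = (yon S).map (ι ≫ h) ≫ q := by
    rw [Category.assoc, hc, Functor.map_comp, Category.assoc]
  haveI : IsLocallyNoetherian W.left :=
    Groth.Agent.H1.LocNoeth.isLocallyNoetherian_of_chart hX _ hp1
  haveI : IsLocallyNoetherian V.left := Groth.Agent.H1.LocNoeth.isLocallyNoetherian_of_chart hY q hqe
  haveI : Smooth (ι ≫ h).left := hf _ q (ι ≫ h) hp1 hqe hc'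
  haveI : Flat (ι ≫ h).left := inferInstance
  haveI : LocallyOfFiniteType (ι ≫ h).left := inferInstance
  have hrel : Cyc.HasRelDim (ι ≫ h).left m := by
    refine Groth.Agent.Lib.helper3.RelDim.hasRelDim_of_forall_fibreDimAt _ m (fun w => ?_)
    have : (ι ≫ h).left = O.ι ≫ h.left := rfl
    rw [this, Groth.Agent.Lib.helper5.FibreDimLocal.fibreDimAt_comp_etale_left]
    exact hO _ w.2
  have key := Groth.Agent.S9359.result (ι ≫ h).left m hrel ⟨u, huO⟩
  have hdimEt : ∀ (c : WithBot ℕ∞) {V U : Scheme.{u}} (g : V ⟶ U) [Etale g] (v : ↥V),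
      FlatMor.localDim ↥V v = c ↔ FlatMor.localDim ↥U (g v) = c := by
    intro c V U g _ v
    rw [Groth.Agent.Lib.helper5.EtLocalDim.localDim_eq_of_etale g v]
  have hx' := (Groth.Agent.Lib.helper5.ChartInd.hasAt_iff_forall
    (Q := fun U u => FlatMor.localDim ↥U u = dX) (hdimEt dX) X x).1 hx W _ ⟨u, huO⟩ hp1
    (by rw [hp2, ← hu]; rfl)
  have hy' := (Groth.Agent.Lib.helper5.ChartInd.hasAt_iff_forall
    (Q := fun U u => FlatMor.localDim ↥U u = dY) (hdimEt dY) Y (AlgSp.Points.map f.hom x)).1 hy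
    V q (h.left u) hqe (by
      rw [← hu, AlgSp.Points.map_ofPt, hc, Groth.Agent.Lib.helper11.ofPt_yon_map_comp])
  rw [← hx', ← hy']
  exact key

end Groth.Agent.S10315
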