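import Groth.Statements.S10316
import Mathlib
import Groth.Agent.Lib.Helper11.HasAtMorInd

set_option autoImplicit false
universe u
open CategoryTheory CategoryTheory.Limits AlgebraicGeometry
open AlgSp

namespace Groth.Agent.S10316

/-- For X -> Y locally quasi-finite and Y -> Z locally of finite type, the transcendence degree of x
over Z equals that of its image y over Z. -/
theorem result {S : Scheme.{u}} {X Y Z : AlgSp.Space S} (f : X ⟶ Y) (g : Y ⟶ Z)
    (hf : AlgSp.LocP (@LocallyQuasiFinite ⊓ @LocallyOfFiniteType) f.hom) (hg : AlgSp.LocP @LocallyOfFiniteType g.hom)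
    (x : AlgSp.Points X.obj) (r : Cardinal.{u}) :
    AlgSp.HasAtMor (fun _ _ h u => Dual3.resTrdeg h u = r) (f ≫ g).hom x ↔
      AlgSp.HasAtMor (fun _ _ h u => Dual3.resTrdeg h u = r) g.hom (AlgSp.Points.map f.hom x) := by
  obtain ⟨U, V, W, a, b, c, h, k, u, hae, hbe, hce, c1, c2, hu⟩ :=
    Groth.Agent.Lib.helper11.exists_comp_diagram X.property Y.property Z.property f.hom g.hom x
  have hv : Points.ofPt b (h.left u) = Points.map f.hom x := by
    rw [← hu, Points.map_ofPt, c1, Groth.Agent.Lib.helper11.ofPt_yon_map_comp]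
  have c3 : a ≫ (f ≫ g).hom = (yon S).map (h ≫ k) ≫ c := by
    change a ≫ f.hom ≫ g.hom = _
    rw [reassoc_of% c1, c2, Functor.map_comp, Category.assoc]
  have hlqf : LocallyQuasiFinite h.left := (hf a b h hae hbe c1).1
  rw [Groth.Agent.Lib.helper11.hasAtMor_iff (Groth.Agent.Lib.helper11.etInv_resTrdeg r)
    (f ≫ g).hom x a c (h ≫ k) u hae hce c3 hu,
    Groth.Agent.Lib.helper11.hasAtMor_iff (Groth.Agent.Lib.helper11.etInv_resTrdeg r)
    g.hom _ b c k (h.left u) hbe hce c2 hv, Over.comp_left,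
    Groth.Agent.Lib.helper11.resTrdeg_comp, Groth.Agent.Lib.helper11.resTrdeg_eq_zero_of_lqf h.left,
    add_zero]

end Groth.Agent.S10316
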