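import Groth.Statements.S10319
import Mathlib
import Groth.Agent.Lib.Helper11.HasAtMorInd

set_option autoImplicit false
universe u
open CategoryTheory CategoryTheory.Limits AlgebraicGeometry
open AlgSp

namespace Groth.Agent.S10319

/-- Transcendence degrees at a point add up along a composition of morphisms locally of finite type. -/
theorem result {S : Scheme.{u}} {X Y Z : AlgSp.Space S} (f : X ⟶ Y) (g : Y ⟶ Z)
    (hf : AlgSp.LocP @LocallyOfFiniteType f.hom) (hg : AlgSp.LocP @LocallyOfFiniteType g.hom)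
    (x : AlgSp.Points X.obj) (r₁ r₂ : Cardinal.{u})
    (h1 : AlgSp.HasAtMor (fun _ _ h u => Dual3.resTrdeg h u = r₁) f.hom x)
    (h2 : AlgSp.HasAtMor (fun _ _ h u => Dual3.resTrdeg h u = r₂) g.hom (AlgSp.Points.map f.hom x)) :
    AlgSp.HasAtMor (fun _ _ h u => Dual3.resTrdeg h u = r₁ + r₂) (f ≫ g).hom x := by
  obtain ⟨U, V, W, a, b, c, h, k, u, hae, hbe, hce, c1, c2, hu⟩ :=
    Groth.Agent.Lib.helper11.exists_comp_diagram X.property Y.property Z.property f.hom g.hom x
  have e1 := (Groth.Agent.Lib.helper11.hasAtMor_iff (Groth.Agent.Lib.helper11.etInv_resTrdeg r₁)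
    f.hom x a b h u hae hbe c1 hu).1 h1
  have hv : Points.ofPt b (h.left u) = Points.map f.hom x := by
    rw [← hu, Points.map_ofPt, c1, Groth.Agent.Lib.helper11.ofPt_yon_map_comp]
  have e2 := (Groth.Agent.Lib.helper11.hasAtMor_iff (Groth.Agent.Lib.helper11.etInv_resTrdeg r₂)
    g.hom _ b c k (h.left u) hbe hce c2 hv).1 h2
  refine ⟨U, W, a, c, h ≫ k, u, hae, hce, ?_, hu, ?_⟩
  · change a ≫ f.hom ≫ g.hom = _
    rw [reassoc_of% c1, c2, Functor.map_comp, Category.assoc]
  · change Dual3.resTrdeg (h ≫ k).left u = r₁ + r₂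
    rw [Over.comp_left, Groth.Agent.Lib.helper11.resTrdeg_comp, e1, e2, add_comm]

end Groth.Agent.S10319
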