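import Groth.Statements.S1032
import Mathlib
import Groth.Agent.Lib.Helper23.RDerK
-- import your own Groth.Agent.* helpers here

set_option autoImplicit false
universe w v v' u u'
open CategoryTheory CategoryTheory.Limits
open CohDer

namespace Groth.Agent.S1032

/-- Let A be an abelian category in which every cochain complex admits a quasi-isomorphism to a
K-injective complex, and let F be an exact functor from the homotopy category K(A) to a
pretriangulated category. Then F has a right derived functor RF with respect to quasi-isomorphisms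
(defined on D(A)), and the canonical map F(I) ⟶ RF(I) is an isomorphism for every K-injective
complex I. -/
theorem result {A : Type u} [Category.{v} A] [Abelian A] [HasDerivedCategory.{w} A]
    (hKinj : ∀ K : CochainComplex A ℤ, ∃ (I : CochainComplex A ℤ) (f : K ⟶ I), I.IsKInjective ∧ QuasiIso f)
    {D' : Type u'} [Category.{v'} D'] [Preadditive D'] [Limits.HasZeroObject D'] [HasShift D' ℤ]
    [∀ n : ℤ, (shiftFunctor D' n).Additive] [Pretriangulated D']
    [IsTriangulated D']
    (F : HomotopyCategory A (ComplexShape.up ℤ) ⥤ D') [F.CommShift ℤ] [F.IsTriangulated] :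
    F.HasRightDerivedFunctor (HomotopyCategory.quasiIso A (ComplexShape.up ℤ)) ∧
    ∀ [F.HasRightDerivedFunctor (HomotopyCategory.quasiIso A (ComplexShape.up ℤ))] (I : CochainComplex A ℤ), I.IsKInjective →
      IsIso ((F.totalRightDerivedUnit DerivedCategory.Qh (HomotopyCategory.quasiIso A (ComplexShape.up ℤ))).app
        ((HomotopyCategory.quotient A (ComplexShape.up ℤ)).obj I)) := by
  classical
  have hex : ∀ Y : DerivedCategory A, ∃ (I : CochainComplex A ℤ), I.IsKInjective ∧
      Nonempty (DerivedCategory.Qh.obj ((HomotopyCategory.quotient A (ComplexShape.up ℤ)).obj I) ≅ Y) := by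
    intro Y
    obtain ⟨I, f, hI, hf⟩ := hKinj (DerivedCategory.Q.objPreimage Y)
    haveI : IsIso (DerivedCategory.Q.map f) := by
      rw [DerivedCategory.isIso_Q_map_iff_quasiIso]; exact hf
    exact ⟨I, hI, ⟨(DerivedCategory.quotientCompQhIso A).app I ≪≫
      (asIso (DerivedCategory.Q.map f)).symm ≪≫ DerivedCategory.Q.objObjPreimageIso Y⟩⟩
  choose I hI hiso using hex
  let r : DerivedCategory A → HomotopyCategory A (ComplexShape.up ℤ) :=
    fun Y => (HomotopyCategory.quotient A (ComplexShape.up ℤ)).obj (I Y)
  let e : ∀ Y, DerivedCategory.Qh.obj (r Y) ≅ Y := fun Y => (hiso Y).some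
  have hr : ∀ (X : HomotopyCategory A (ComplexShape.up ℤ)) (Y : DerivedCategory A),
      Function.Bijective (fun f : X ⟶ r Y => DerivedCategory.Qh.map f) := fun X Y => by
    haveI := hI Y
    exact CochainComplex.IsKInjective.Qh_map_bijective X (I Y)
  have hK := Groth.Agent.Lib.helper23.RDerK.isLeftKanExtension DerivedCategory.Qh r e hr F
  refine ⟨?_, ?_⟩
  · haveI : (Groth.Agent.Lib.helper23.RDerK.R DerivedCategory.Qh r e hr ⋙ F).IsRightDerivedFunctor
        (Groth.Agent.Lib.helper23.RDerK.η DerivedCategory.Qh r e hr F)
        (HomotopyCategory.quasiIso A (ComplexShape.up ℤ)) := ⟨hK⟩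
    exact Functor.HasRightDerivedFunctor.mk' (Groth.Agent.Lib.helper23.RDerK.R DerivedCategory.Qh r e hr ⋙ F)
      (Groth.Agent.Lib.helper23.RDerK.η DerivedCategory.Qh r e hr F)
  · intro _ J hJ
    haveI := hJ
    haveI : (F.totalRightDerived DerivedCategory.Qh
        (HomotopyCategory.quasiIso A (ComplexShape.up ℤ))).IsLeftKanExtension
        (F.totalRightDerivedUnit DerivedCategory.Qh
          (HomotopyCategory.quasiIso A (ComplexShape.up ℤ))) :=
      Functor.IsRightDerivedFunctor.isLeftKanExtension _ _
        (HomotopyCategory.quasiIso A (ComplexShape.up ℤ))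
    exact Groth.Agent.Lib.helper23.RDerK.isIso_unit_app DerivedCategory.Qh r e hr F _
      (F.totalRightDerivedUnit DerivedCategory.Qh (HomotopyCategory.quasiIso A (ComplexShape.up ℤ)))
      _ (fun X' => CochainComplex.IsKInjective.Qh_map_bijective X' J)

end Groth.Agent.S1032
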