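import Groth.Statements.S10320
import Groth.Agent.Lib.Helper5.ResTrdegChart
import Groth.Agent.Lib.Helper5.AlgSpThickRelDim
import Groth.Agent.Lib.Helper3.FibreDimNat

set_option autoImplicit false
universe u
open CategoryTheory CategoryTheory.Limits AlgebraicGeometry
open AlgSp

namespace Groth.Agent.S10320

/-- For f locally of finite type, the relative dimension of f at x equals the dimension of the local
ring of the fibre at x plus the transcendence degree of x over its image. -/
theorem result {S : Scheme.{u}} {X Y : AlgSp.Space S} (f : X ⟶ Y)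
    (hf : AlgSp.LocP @LocallyOfFiniteType f.hom) (x : AlgSp.Points X.obj) (d e : WithBot ℕ∞) (r : Cardinal.{u})
    (hd : AlgSp.HasAtMor (fun _ _ h u => FlatMor.fibreDimAt h u = d) f.hom x)
    (he : AlgSp.HasAtMor (fun _ _ h u => ringKrullDim ↥((h.fiber (h u)).presheaf.stalk (h.asFiber u)) = e) f.hom x)
    (hr : AlgSp.HasAtMor (fun _ _ h u => Dual3.resTrdeg h u = r) f.hom x) :
    d = e + ((Cardinal.toENat r : ℕ∞) : WithBot ℕ∞) := by
  obtain ⟨U, V, a, b, h, u, hae, hbe, hc, hu, hQ⟩ := he
  have h1 := Groth.Agent.Lib.helper5.ThickRelDim.locPAt_fibreDim_of_hasAtMor f.hom x (fun t => t = d) hd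
    a b h u hae hbe hc hu
  have h2 := Groth.Agent.Lib.helper5.ResTrdegChart.locPAt_resTrdeg_of_hasAtMor f.hom x (fun t => t = r) hr
    a b h u hae hbe hc hu
  haveI : LocallyOfFiniteType h.left := hf a b h hae hbe hc
  obtain ⟨n, m, hn, hm, hnm⟩ := Groth.Agent.Lib.helper3.DimFibre.fibreDimAt_eq_add h.left u
  simp only at h1 h2 hQ
  rw [← h1, ← hQ, ← h2, hnm, hm, Groth.Agent.Lib.helper5.ResTrdegChart.resTrdeg_eq_td, hn]
  simp [add_comm]

end Groth.Agent.S10320
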