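import Groth.Statements.S10321
import Groth.Agent.Lib.Helper1.QDescG

set_option autoImplicit false
universe u
open CategoryTheory CategoryTheory.Limits AlgebraicGeometry
open AlgSp

namespace Groth.Agent.S10321

theorem main {S : Scheme.{u}} {T T' : Over S} [IsAffine T.left]
    [IsAffine T'.left] (e : T' ⟶ T) [Etale e.left] {X P V' : AlgSp.Space S} (f : X ⟶ (AlgSp.ofScheme S).obj T)
    (hsep : AlgSp.IsSeparatedMor f.hom) (hqf : AlgSp.LocP (@LocallyQuasiFinite ⊓ @LocallyOfFiniteType) f.hom)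
    (p1 : P ⟶ (AlgSp.ofScheme S).obj T') (p2 : P ⟶ X)
    (sq : IsPullback p2.hom p1.hom f.hom ((AlgSp.yon S).map e)) (j : V' ⟶ P)
    (hj : AlgSp.RepWith @IsOpenImmersion j.hom) (hqa : AlgSp.IsQuasiAffineMor (j ≫ p1).hom) :
    ∃ (W : Over S) (i : (AlgSp.yon S).obj W ⟶ X.obj), AlgSp.RepWith @IsOpenImmersion i ∧ CompactSpace ↥W.left ∧
      Set.range (AlgSp.Points.map i) = Set.range (AlgSp.Points.map (j ≫ p2).hom) := by
  obtain ⟨Y', y', fst, sqV0, hY'⟩ := hqa (inferInstance : IsAffine T'.left) (𝟙 ((yon S).obj T'))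
  let p1' : P.obj ⟶ (yon S).obj T' := p1.hom
  have sqV : IsPullback fst ((yon S).map y') (j.hom ≫ p1') (𝟙 ((yon S).obj T')) := sqV0
  have hfst : IsIso fst := sqV.isIso_fst_of_isIso
  have ha : RepWith @IsOpenImmersion (fst ≫ j.hom) :=
    (RepWith (S := S) @IsOpenImmersion).comp_mem _ _
      (Groth.Agent.Lib.helper7.repWith_of_isIso _ fst) hj
  have hy' : (fst ≫ j.hom) ≫ p1' = (yon S).map y' := by
    have := sqV.w
    rw [Category.comp_id] at this
    rw [Category.assoc]
    exact this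
  have hyqc : QuasiCompact y'.left := by
    haveI : CompactSpace Y'.left := hY'.toCompactSpace
    exact HasAffineProperty.iff_of_isAffine.mpr (inferInstance : CompactSpace Y'.left)
  obtain ⟨W, i, hi, hc, hr⟩ := Groth.Agent.H1.QDesc.exists_rep_image_affine e X.property f.hom hsep hqf
    sq (fst ≫ j.hom) ha y' hy' hyqc
  refine ⟨W, i, hi, hc, ?_⟩
  rw [hr]
  ext x
  constructor
  · rintro ⟨y, rfl⟩
    refine ⟨Points.map fst y, ?_⟩
    rw [← Points.map_comp]
    rfl
  · rintro ⟨y, rfl⟩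
    refine ⟨Points.map (inv fst) y, ?_⟩
    rw [← Points.map_comp]
    congr 1
    rw [Category.assoc, IsIso.inv_hom_id_assoc]
    rfl

/-- Let X be separated and locally quasi-finite over an affine scheme T, let T' -> T be etale with T'
affine, and let V' be an open subspace of T' ×_T X that is quasi-affine over T'. Then V' maps onto a
quasi-compact open subspace of X that is itself a scheme. -/
theorem result {S : Scheme.{u}} {T T' : Over S} [IsAffine T.left]
    [IsAffine T'.left] (e : T' ⟶ T) [Etale e.left] {X P V' : AlgSp.Space S} (f : X ⟶ (AlgSp.ofScheme S).obj T)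
    (hsep : AlgSp.IsSeparatedMor f.hom) (hqf : AlgSp.LocP (@LocallyQuasiFinite ⊓ @LocallyOfFiniteType) f.hom)
    (p1 : P ⟶ (AlgSp.ofScheme S).obj T') (p2 : P ⟶ X)
    (sq : IsPullback p2.hom p1.hom f.hom ((AlgSp.yon S).map e)) (j : V' ⟶ P)
    (hj : AlgSp.RepWith @IsOpenImmersion j.hom) (hqa : AlgSp.IsQuasiAffineMor (j ≫ p1).hom) :
    ∃ (W : Over S) (i : (AlgSp.yon S).obj W ⟶ X.obj), AlgSp.RepWith @IsOpenImmersion i ∧ CompactSpace ↥W.left ∧
      Set.range (AlgSp.Points.map i) = Set.range (AlgSp.Points.map (j ≫ p2).hom) := by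
  exact main e f hsep hqf p1 p2 sq j hj hqa

end Groth.Agent.S10321
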