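import Groth.Statements.S10322
import Mathlib

set_option autoImplicit false
universe u
open CategoryTheory CategoryTheory.Limits AlgebraicGeometry
open AlgSp

namespace Groth.Agent.S10322



theorem lqf_of_unramified {X Y : Scheme.{u}} (g : X ⟶ Y) [LocallyOfFiniteType g] [FormallyUnramified g] :
    LocallyQuasiFinite g := by
  rw [HasRingHomProperty.iff_appLE (P := @LocallyQuasiFinite)]
  intro U V e
  have h1 := HasRingHomProperty.appLE (P := @LocallyOfFiniteType) g inferInstance U V e
  have h2 := HasRingHomProperty.appLE (P := @FormallyUnramified) g inferInstance U V e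
  algebraize [(g.appLE U.1 V.1 e).hom]
  rw [RingHom.QuasiFinite]
  have : Algebra.FiniteType Γ(Y, U.1) Γ(X, V.1) := h1
  have : Algebra.FormallyUnramified Γ(Y, U.1) Γ(X, V.1) := h2
  infer_instance



/-- Unramified at a point implies quasi-finite at that point; an unramified morphism of algebraic spaces
is locally quasi-finite. -/
theorem result {S : Scheme.{u}} {X Y : AlgSp.Space S} (f : X ⟶ Y) :
    (∀ x : AlgSp.Points X.obj, AlgSp.HasAtMor (fun U _ h u => ∃ W : U.Opens, u ∈ W ∧ LocallyOfFiniteType (W.ι ≫ h) ∧ FormallyUnramified (W.ι ≫ h)) f.hom x → AlgSp.HasAtMor (fun U _ h u => ∃ W : U.Opens, u ∈ W ∧ LocallyQuasiFinite (W.ι ≫ h) ∧ LocallyOfFiniteType (W.ι ≫ h)) f.hom x) ∧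
    (AlgSp.LocP (@LocallyOfFiniteType ⊓ @FormallyUnramified) f.hom →
      AlgSp.LocP (@LocallyQuasiFinite ⊓ @LocallyOfFiniteType) f.hom) := by
  refine ⟨?_, ?_⟩
  · rintro x ⟨U, V, a, b, h, u, hae, hbe, hcomm, hx, W, huW, hlft, hunr⟩
    exact ⟨U, V, a, b, h, u, hae, hbe, hcomm, hx, W, huW, lqf_of_unramified _, hlft⟩
  · intro hf U V a b h hae hbe hcomm
    obtain ⟨h1, h2⟩ := hf a b h hae hbe hcomm
    have h1' : LocallyOfFiniteType h.left := h1
    have h2' : FormallyUnramified h.left := h2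
    exact ⟨lqf_of_unramified _, h1⟩

end Groth.Agent.S10322
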