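import Groth.Statements.S10323
import Groth.Agent.Lib.Helper5.AlgSpDimIneq
import Groth.Agent.Lib.Helper11.AlgSpBasic

set_option autoImplicit false
universe u
open CategoryTheory CategoryTheory.Limits AlgebraicGeometry
open AlgSp

namespace Groth.Agent.S10323

/-- For Y locally Noetherian and f locally of finite type, the dimension of the local ring of X at x is
at most the dimension of the local ring of Y at the image point plus E minus the transcendence
degree of x over its image, where E bounds the transcendence degrees of the codimension-0 points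
specializing to x. -/
theorem result {S : Scheme.{u}} {X Y : AlgSp.Space S} (f : X ⟶ Y)
    (hY : AlgSp.IsLocNoethSp Y.obj) (hf : AlgSp.LocP @LocallyOfFiniteType f.hom) (x : AlgSp.Points X.obj)
    (E : Cardinal.{u})
    (hE : ∀ ξ : AlgSp.Points X.obj, ξ ⤳ x → AlgSp.HasAt (fun U u => ringKrullDim ↥(U.presheaf.stalk u) = 0) X.obj ξ →
      ∀ s : Cardinal.{u}, AlgSp.HasAtMor (fun _ _ h u => Dual3.resTrdeg h u = s) f.hom ξ → s ≤ E)
    (a b : WithBot ℕ∞) (r : Cardinal.{u})
    (ha : AlgSp.HasAt (fun U u => ringKrullDim ↥(U.presheaf.stalk u) = a) X.obj x)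
    (hb : AlgSp.HasAt (fun U u => ringKrullDim ↥(U.presheaf.stalk u) = b) Y.obj (AlgSp.Points.map f.hom x))
    (hr : AlgSp.HasAtMor (fun _ _ h u => Dual3.resTrdeg h u = r) f.hom x) :
    a + ((Cardinal.toENat r : ℕ∞) : WithBot ℕ∞) ≤ b + ((Cardinal.toENat E : ℕ∞) : WithBot ℕ∞) := by
  obtain ⟨U, V, p, q, h, u, hpe, hqe, hc, hu, hQ⟩ := hr
  have hdimEt : ∀ (c : WithBot ℕ∞) {V U : Scheme.{u}} (g : V ⟶ U) [Etale g] (v : ↥V),
      ringKrullDim ↥(V.presheaf.stalk v) = c ↔ ringKrullDim ↥(U.presheaf.stalk (g v)) = c := by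
    intro c V U g _ v
    rw [Groth.Agent.Lib.helper5.EtLocalProp.ringKrullDim_stalk_eq_of_etale g v]
  have ha' := (Groth.Agent.Lib.helper5.ChartInd.hasAt_iff_forall
    (Q := fun U u => ringKrullDim ↥(U.presheaf.stalk u) = a) (hdimEt a) X x).1 ha U p u hpe hu
  have hb' := (Groth.Agent.Lib.helper5.ChartInd.hasAt_iff_forall
    (Q := fun U u => ringKrullDim ↥(U.presheaf.stalk u) = b) (hdimEt b) Y (AlgSp.Points.map f.hom x)).1 hb
    V q (h.left u) hqe (by
      rw [← hu, AlgSp.Points.map_ofPt, hc, Groth.Agent.Lib.helper11.ofPt_yon_map_comp])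
  have := Groth.Agent.Lib.helper5.AlgSpDimIneq.stalk_dim_add_le' f.hom hY hf E p q h hpe hqe hc u
    (fun ξ hξ => hE ξ (hu ▸ hξ))
  simp only at ha' hb' hQ
  rw [ha', hb', hQ] at this
  exact this

end Groth.Agent.S10323
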