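import Groth.Statements.S10324
import Groth.Agent.Lib.Helper5.AlgSpDimIneq
import Groth.Agent.Lib.Helper11.AlgSpBasic

set_option autoImplicit false
universe u
open CategoryTheory CategoryTheory.Limits AlgebraicGeometry
open AlgSp

namespace Groth.Agent.S10324

/-- For Y locally Noetherian and f : X -> Y locally of finite type, dim X ≤ dim Y + E where E bounds the
transcendence degrees over Y of the codimension-0 points of X. -/
theorem result {S : Scheme.{u}} {X Y : AlgSp.Space S} (f : X ⟶ Y)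
    (hY : AlgSp.IsLocNoethSp Y.obj) (hf : AlgSp.LocP @LocallyOfFiniteType f.hom) (E : Cardinal.{u})
    (hE : ∀ ξ : AlgSp.Points X.obj, AlgSp.HasAt (fun U u => ringKrullDim ↥(U.presheaf.stalk u) = 0) X.obj ξ → ∀ s : Cardinal.{u}, AlgSp.HasAtMor (fun _ _ h u => Dual3.resTrdeg h u = s) f.hom ξ → s ≤ E) :
    AlgSp.dim X.obj ≤ AlgSp.dim Y.obj + ((Cardinal.toENat E : ℕ∞) : WithBot ℕ∞) := by
  unfold AlgSp.dim
  refine iSup_le fun U => iSup_le fun a => iSup_le fun hae => ?_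
  rw [Groth.Agent.Lib.helper3.DimIneq.dim_eq_iSup_stalk U.left]
  refine iSup_le fun u => ?_
  obtain ⟨U1, V, a1, b, h, u1, ha1e, hbe, hc, hu1⟩ :=
    Groth.Agent.Lib.helper5.LocPFam.exists_chart_at_point X.2 Y.2 f.hom (AlgSp.Points.ofPt a u)
  have hdimEt : ∀ (c : WithBot ℕ∞) {V U : Scheme.{u}} (g : V ⟶ U) [Etale g] (v : ↥V),
      ringKrullDim ↥(V.presheaf.stalk v) = c ↔ ringKrullDim ↥(U.presheaf.stalk (g v)) = c := by
    intro c V U g _ v
    rw [Groth.Agent.Lib.helper5.EtLocalProp.ringKrullDim_stalk_eq_of_etale g v]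
  have h1 := (Groth.Agent.Lib.helper5.ChartInd.hasAt_iff_forall
    (Q := fun W w => ringKrullDim ↥(W.presheaf.stalk w) = ringKrullDim ↥(U.left.presheaf.stalk u))
    (hdimEt _) X (AlgSp.Points.ofPt a u)).1 ⟨U, a, u, hae, rfl, rfl⟩ U1 a1 u1 ha1e hu1
  have h2 := Groth.Agent.Lib.helper5.AlgSpDimIneq.stalk_dim_add_le f.hom hY hf E hE a1 b h ha1e hbe hc u1
  rw [← h1]
  calc ringKrullDim ↥(U1.left.presheaf.stalk u1)
      ≤ ringKrullDim ↥(U1.left.presheaf.stalk u1) +
        ((Cardinal.toENat (Dual3.resTrdeg h.left u1) : ℕ∞) : WithBot ℕ∞) :=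
        le_add_of_nonneg_right (by exact_mod_cast bot_le)
    _ ≤ ringKrullDim ↥(V.left.presheaf.stalk (h.left u1)) + ((Cardinal.toENat E : ℕ∞) : WithBot ℕ∞) := h2
    _ ≤ _ := by
        gcongr
        refine le_trans (Groth.Agent.Lib.helper3.DimIneq.stalk_le_dim (h.left u1)) ?_
        exact le_iSup_of_le V (le_iSup_of_le b (le_iSup_of_le hbe le_rfl))

end Groth.Agent.S10324
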