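import Groth.Statements.S10325
import Groth.Agent.Lib.Helper5.AlgSpCoprod4
import Groth.Agent.Lib.Helper5.SigmaFinite

set_option autoImplicit false
universe u
open CategoryTheory CategoryTheory.Limits AlgebraicGeometry
open AlgSp

namespace Groth.Agent.S10325

/-- A finite disjoint union of algebraic spaces finite over Y is finite over Y. -/
theorem result {S : Scheme.{u}} {n : ℕ} (X : Fin n → AlgSp.Space S) (Y : AlgSp.Space S)
    (g : ∀ i, X i ⟶ Y) (hg : ∀ i, AlgSp.IsFiniteMor (g i).hom) (c : Cofan fun i => (X i).obj) (hc : IsColimit c)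
    (d : c.pt ⟶ Y.obj) (hd : ∀ i, c.inj i ≫ d = (g i).hom) : AlgSp.IsFiniteMor d := by
  intro Z hZ ξ
  choose W i fst hW using fun k => hg k hZ ξ
  let κ := ULift.{u} (Fin n)
  let W' : κ → Over S := fun k => W k.down
  have hc' : IsColimit (Cofan.mk c.pt (fun k : κ => c.inj k.down)) :=
    Cofan.IsColimit.mk _ (fun s => hc.desc (Cofan.mk s.pt (fun i => s.inj ⟨i⟩)))
      (fun s k => hc.fac (Cofan.mk s.pt (fun i => s.inj ⟨i⟩)) ⟨k.down⟩)
      (fun s m hm => hc.uniq (Cofan.mk s.pt (fun i => s.inj ⟨i⟩)) m (fun ⟨i⟩ => hm ⟨i⟩))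
  have hWaff : ∀ k : κ, IsAffine (W' k).left := fun k => (hW k.down).2.1
  have hfin : ∀ k : κ, IsFinite (i k.down).left := fun k => (hW k.down).2.2
  let hYon := Groth.Agent.Lib.helper5.Coprod.isColimitYonSigma W'
  -- the chosen pullback
  let ℓ : ∀ k : κ, (AlgSp.yon S).obj (W' k) ⟶ pullback d ξ := fun k =>
    pullback.lift (fst k.down ≫ c.inj k.down) ((AlgSp.yon S).map (i k.down)) (by
      rw [Category.assoc, hd]
      exact (hW k.down).1.w)
  have sqℓ : ∀ k : κ, IsPullback (ℓ k) (fst k.down) (pullback.fst d ξ) (c.inj k.down) := by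
    intro k
    have big : IsPullback (ℓ k ≫ pullback.snd d ξ) (fst k.down) ξ (c.inj k.down ≫ d) := by
      have h1 : ℓ k ≫ pullback.snd d ξ = (AlgSp.yon S).map (i k.down) := pullback.lift_snd _ _ _
      rw [h1, hd]
      exact (hW k.down).1.flip
    exact IsPullback.of_right big (pullback.lift_fst _ _ _) (IsPullback.of_hasPullback d ξ).flip
  obtain ⟨hP⟩ := Groth.Agent.Lib.helper5.Coprod.nonempty_isColimit_of_isPullback
    (fun k : κ => (X k.down).obj) _ hc' (pullback.fst d ξ) (fun k => (AlgSp.yon S).obj (W' k)) ℓ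
    (fun k => fst k.down) sqℓ
  let e := hYon.coconePointUniqueUpToIso hP
  have he : ∀ k : κ, (AlgSp.yon S).map (Groth.Agent.Lib.helper5.Coprod.sigmaOverι W' k) ≫ e.hom = ℓ k :=
    fun k => hYon.comp_coconePointUniqueUpToIso_hom hP ⟨k⟩
  refine ⟨Groth.Agent.Lib.helper5.Coprod.sigmaOver W',
    Groth.Agent.Lib.helper5.Coprod.sigmaOverDesc W' (fun k => i k.down), e.hom ≫ pullback.fst d ξ, ?_, ?_, ?_⟩
  · refine IsPullback.of_iso_pullback ⟨?_⟩ e rfl ?_
    · rw [Category.assoc, pullback.condition]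
      apply hYon.hom_ext
      rintro ⟨k⟩
      simp only [Cofan.mk_pt, Cofan.mk_ι_app]
      rw [← Category.assoc, ← Category.assoc, he k, ← Category.assoc, ← Functor.map_comp,
        Groth.Agent.Lib.helper5.Coprod.sigmaOverι_desc]
      have h1 : ℓ k ≫ pullback.snd d ξ = (AlgSp.yon S).map (i k.down) := pullback.lift_snd _ _ _
      rw [h1]
    · apply hYon.hom_ext
      rintro ⟨k⟩
      simp only [Cofan.mk_pt, Cofan.mk_ι_app]
      rw [← Category.assoc, he k, ← Functor.map_comp,
        Groth.Agent.Lib.helper5.Coprod.sigmaOverι_desc]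
      exact pullback.lift_snd _ _ _
  · exact inferInstanceAs (IsAffine (∐ fun k : κ => (W' k).left))
  · exact Groth.Agent.Lib.helper5.SigmaFinite.isFinite_sigmaDesc_of_isAffine (fun k : κ => (W' k).left)
      (fun k => (i k.down).left) hfin

end Groth.Agent.S10325
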