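import Groth.Statements.S10327
import Groth.Agent.S10285
import Groth.Agent.S10288
import Groth.Agent.S10289
import Groth.Agent.S10290
import Groth.Agent.S10291

set_option autoImplicit false
universe u
open CategoryTheory CategoryTheory.Limits AlgebraicGeometry
open AlgSp

namespace Groth.Agent.S10327

/-- For f quasi-compact and quasi-separated, f is separated and universally closed if and only if the
valuative criterion holds, if and only if every valuative square has a unique lift. -/
theorem result {S : Scheme.{u}} {X Y : AlgSp.Space S} (f : X ⟶ Y)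
    (hqc : AlgSp.IsQuasiCompactMor f.hom) (hqs : AlgSp.IsQuasiSeparatedMor f.hom) :
    ((AlgSp.IsSeparatedMor f.hom ∧ AlgSp.IsUnivClosedMor f.hom) ↔ AlgSp.VC f.hom) ∧
    ((AlgSp.IsSeparatedMor f.hom ∧ AlgSp.IsUnivClosedMor f.hom) ↔
      (AlgSp.UniqVC f.hom ∧ AlgSp.ExistVCStrict f.hom)) := by
  refine ⟨⟨fun ⟨h1, h2⟩ => ⟨Groth.Agent.S10290.result f h1, Groth.Agent.S10289.result f hqs h2⟩,
      fun ⟨h1, h2⟩ => ⟨Groth.Agent.S10291.result f hqs h1, Groth.Agent.S10288.result f hqc h2⟩⟩,
    ⟨fun ⟨h1, h2⟩ => ⟨Groth.Agent.S10290.result f h1,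
        (Groth.Agent.S10285.result f h1).1 (Groth.Agent.S10289.result f hqs h2)⟩,
      fun ⟨h1, h2⟩ => ?_⟩⟩
  have hsep := Groth.Agent.S10291.result f hqs h1
  exact ⟨hsep, Groth.Agent.S10288.result f hqc ((Groth.Agent.S10285.result f hsep).2 h2)⟩

end Groth.Agent.S10327
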