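import Groth.Statements.S10328
import Groth.Agent.Lib.Helper5.AlgSpThickRelDim
import Groth.Agent.Lib.Helper17.ChartTower
import Groth.Agent.Lib.Helper3.FibreComp

set_option autoImplicit false
universe u
open CategoryTheory CategoryTheory.Limits AlgebraicGeometry
open AlgSp

namespace Groth.Agent.S10328

/-- The relative dimension of a composite at a point is at most the sum of the relative dimensions, with
equality when the first morphism is flat at the point. (The published part (2) allows more generally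
flatness of a fibre of X -> Y over a field point of Z; only the case f flat at x is stated.) -/
theorem result {S : Scheme.{u}} {X Y Z : AlgSp.Space S} (f : X ⟶ Y) (g : Y ⟶ Z)
    (hf : AlgSp.LocP @LocallyOfFiniteType f.hom) (hg : AlgSp.LocP @LocallyOfFiniteType g.hom)
    (x : AlgSp.Points X.obj) (a b : WithBot ℕ∞)
    (ha : AlgSp.HasAtMor (fun _ _ h u => FlatMor.fibreDimAt h u = a) f.hom x)
    (hb : AlgSp.HasAtMor (fun _ _ h u => FlatMor.fibreDimAt h u = b) g.hom (AlgSp.Points.map f.hom x)) :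
    AlgSp.HasAtMor (fun _ _ h u => FlatMor.fibreDimAt h u ≤ a + b) (f ≫ g).hom x ∧
    (AlgSp.IsFlatAtMor f.hom x → AlgSp.HasAtMor (fun _ _ h u => FlatMor.fibreDimAt h u = a + b) (f ≫ g).hom x) := by
  open Groth.Agent.Lib.helper5 in
  obtain ⟨U, V, W, ca, cb, cc, h1, h2, u, hae, hbe, hce, hc1, hc2, hu, -⟩ :=
    Groth.Agent.Lib.helper17.ChartTower.exists_tower X.2 Y.2 Z.2 f.hom g.hom x
  have hpt : AlgSp.Points.ofPt cb (h1.left u) = AlgSp.Points.map f.hom x := by
    rw [← hu, AlgSp.Points.map_ofPt, hc1, Groth.Agent.Lib.helper11.ofPt_yon_map_comp]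
  have h1ft : LocallyOfFiniteType h1.left := hf ca cb h1 hae hbe hc1
  have h2ft : LocallyOfFiniteType h2.left := hg cb cc h2 hbe hce hc2
  have e1 : FlatMor.fibreDimAt h1.left u = a :=
    ThickRelDim.locPAt_fibreDim_of_hasAtMor f.hom x (fun e => e = a) ha ca cb h1 u hae hbe hc1 hu
  have e2 : FlatMor.fibreDimAt h2.left (h1.left u) = b :=
    ThickRelDim.locPAt_fibreDim_of_hasAtMor g.hom _ (fun e => e = b) hb cb cc h2 (h1.left u) hbe hce
      hc2 hpt
  have hc12 : ca ≫ (f ≫ g).hom = (AlgSp.yon S).map (h1 ≫ h2) ≫ cc := by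
    change ca ≫ f.hom ≫ g.hom = _
    rw [← Category.assoc, hc1, Category.assoc, hc2, Functor.map_comp, Category.assoc]
  obtain ⟨r1, r2⟩ := Groth.Agent.Lib.helper3.FibreComp.fibreDimAt_comp h1.left h2.left u
  rw [e1, e2] at r1 r2
  refine ⟨⟨U, W, ca, cc, h1 ≫ h2, u, hae, hce, hc12, hu, r1⟩, fun hfl => ?_⟩
  exact ⟨U, W, ca, cc, h1 ≫ h2, u, hae, hce, hc12, hu, r2 (hfl ca cb h1 u hae hbe hc1 hu)⟩

end Groth.Agent.S10328
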