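import Groth.Statements.S10329
import Groth.Agent.Lib.Helper5.AlgSpLqfLocus
import Groth.Agent.Lib.Helper5.FibreDimLocal
import Groth.Agent.Lib.Helper5.AlgSpChartInd

set_option autoImplicit false
universe u
open CategoryTheory CategoryTheory.Limits AlgebraicGeometry
open AlgSp

namespace Groth.Agent.S10329

open Groth.Agent.S10310 Groth.Agent.Lib.helper5 Groth.Agent.Lib.helper5.IsolBC

/-- a point at which the source has local dimension zero and whose image is an open point is isolated in its fibre -/
theorem isol_of_localDim_eq_zero {U V : Scheme.{u}} (h : U ⟶ V) [LocallyOfFiniteType h] (u : U)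
    (hV : IsOpen ({h u} : Set V)) (hd : FlatMor.localDim U u = 0) : Isol h u := by
  rw [← fibreDimAt_eq_zero_iff, FibreDimLocal.fibreDimAt_eq_localDim_preimage]
  have hO : IsOpen (h ⁻¹' {h u}) := hV.preimage h.continuous
  rw [FibreDimLocal.localDim_eq_of_isOpenEmbedding Subtype.val hO.isOpenEmbedding_subtypeVal ⟨u, rfl⟩]
  exact hd

/-- a scheme étale over a field is a discrete space -/
theorem isOpen_singleton_of_etale_field {V : Scheme.{u}} (k : Type u) [Field k] (β : V ⟶ Spec (.of k)) [Etale β]
    (v : V) : IsOpen ({v} : Set V) := by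
  haveI : LocallyQuasiFinite β := Groth.Agent.S10265.lqf_of_etale β
  have h1 := β.isDiscrete_preimage_singleton (β v)
  have h2 : β ⁻¹' {β v} = Set.univ := by
    ext w
    simp only [Set.mem_preimage, Set.mem_singleton_iff, Set.mem_univ, iff_true]
    exact Subsingleton.elim (α := PrimeSpectrum k) _ _
  rw [h2, isDiscrete_iff_forall_mem_exists_isOpen] at h1
  obtain ⟨O, hO, hOe⟩ := h1 v trivial
  rw [Set.inter_univ] at hOe
  exact hOe ▸ hO

/-- If the fibre of a morphism locally of finite type has dimension 0 at a point, then the morphism is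
locally quasi-finite on some open subspace containing the image of that point. -/
theorem result {S : Scheme.{u}} {X Y F : AlgSp.Space S} (f : X ⟶ Y)
    (hf : AlgSp.LocP @LocallyOfFiniteType f.hom) (k : Type u) [Field k] (str : Spec (.of k) ⟶ S)
    (y : (AlgSp.yon S).obj (Over.mk str) ⟶ Y.obj) (p : F ⟶ X) (q : F.obj ⟶ (AlgSp.yon S).obj (Over.mk str))
    (sq : IsPullback p.hom q f.hom y) (z : AlgSp.Points F.obj)
    (hz : AlgSp.HasAt (fun U u => FlatMor.localDim ↥U u = 0) F.obj z) :
    ∃ (X' : AlgSp.Space S) (j : X' ⟶ X), AlgSp.RepWith @IsOpenImmersion j.hom ∧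
      AlgSp.Points.map p.hom z ∈ Set.range (AlgSp.Points.map j.hom) ∧
      AlgSp.LocP (@LocallyQuasiFinite ⊓ @LocallyOfFiniteType) (j ≫ f).hom := by
  obtain ⟨X', j, hj, hr, hl⟩ := LqfLocus.exists_lqf_openSub f
  refine ⟨X', j, hj, ?_, hl⟩
  rw [hr]
  obtain ⟨U, V, U', V', a, b, a', b', h, h', pp, kk, u', hae, hbe, hae', hbe', hc, hc', hcg', hcg, sqS, hu', -⟩ :=
    Groth.Agent.Lib.helper17.ChartBC.exists_bc_charts X.2 Y.2 (IsAlgSpace.yon_obj _) sq z
  haveI : LocallyOfFiniteType h.left := hf a b h hae hbe hc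
  have sqL : IsPullback pp.left h'.left h.left kk.left := sqS.map (Over.forget S)
  haveI : LocallyOfFiniteType h'.left := MorphismProperty.of_isPullback sqL inferInstance
  have hd : FlatMor.localDim ↥U'.left u' = 0 :=
    (ChartInd.hasAt_iff_forall (Q := fun U u => FlatMor.localDim ↥U u = 0)
      (fun g _ v => by rw [EtLocalDim.localDim_eq_of_etale g v]) F z).1 hz U' a' u' hae' hu'
  obtain ⟨β, hβ⟩ := (yon S).map_surjective b'
  haveI hβe : Etale β.left := (repWith_yon_map_iff _ β).1 (hβ ▸ hbe')
  have hi : Isol h'.left u' :=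
    isol_of_localDim_eq_zero h'.left u' (isOpen_singleton_of_etale_field k β.left _) hd
  have hi2 : Isol h.left (pp.left u') := isol_of_isPullback sqL u' hi
  have hx : Points.map p.hom z = Points.ofPt a (pp.left u') := by
    rw [← hu', Points.map_ofPt, hcg', Groth.Agent.Lib.helper11.ofPt_yon_map_comp]
  exact ⟨U, V, a, b, h, pp.left u', hae, hbe, hc, hx.symm, lqfNear_of_isol h.left _ hi2⟩

end Groth.Agent.S10329
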