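import Groth.Statements.S1033
import Mathlib
import Groth.Agent.Lib.Helper25.ExtEfface

set_option autoImplicit false
universe w v u
open CategoryTheory CategoryTheory.Abelian
open CohDer

namespace Groth.Agent.S1033

/-- Let A be an abelian category (with Ext groups in some universe) and p ≥ 0. If Extᵖ(B, C) = 0 for all
objects B, C, then Extⁱ(B, C) = 0 for all i ≥ p and all B, C. -/
theorem result {A : Type u} [Category.{v} A] [Abelian A] [HasExt.{w} A] (p : ℕ)
    (h : ∀ (B C : A) (x : Ext B C p), x = 0) (i : ℕ) (hi : p ≤ i) (B C : A) (x : Ext B C i) : x = 0 := by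
  induction i, hi using Nat.le_induction generalizing B C with
  | base => exact h B C x
  | succ i hi ih =>
    obtain ⟨X', q, hq, z, hz⟩ := Groth.Agent.Lib.helper25.ExtEfface.exists_epi_extClass_comp x
    rw [← hz, ih _ _ z, Abelian.Ext.comp_zero]

end Groth.Agent.S1033
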