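import Groth.Statements.S10333
import Groth.Agent.S10192
import Groth.Agent.S10193
import Groth.Agent.S10267
import Groth.Agent.Lib.Helper5.AlgSpProperSurj
-- import your own Groth.Agent.* helpers here

set_option autoImplicit false
universe u
open CategoryTheory CategoryTheory.Limits AlgebraicGeometry
open AlgSp

namespace Groth.Agent.S10333

/-- Let f : Y -> X be a morphism of algebraic spaces over S that is quasi-compact and quasi-separated,
and X' -> X the normalization of X in Y (an integral morphism through which f factors, initial among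
such factorizations). If Y is reduced then X' is reduced. -/
theorem result {S : Scheme.{u}} {Y X X' : AlgSp.Space S} (f : Y ⟶ X)
    (hqc : AlgSp.IsQuasiCompactMor f.hom) (hqs : AlgSp.IsQuasiSeparatedMor f.hom) (ν : X' ⟶ X) (f' : Y ⟶ X')
    (hn : AlgSp.IsRelNormalization f.hom ν.hom f'.hom) (hY : AlgSp.IsReducedSp Y.obj) :
    AlgSp.IsReducedSp X'.obj := by
  obtain ⟨hfac, hνint, hUP⟩ := hn
  obtain ⟨Z, i, hicl, hirange, hZred⟩ := Groth.Agent.S10192.result X' Set.univ isClosed_univ
  obtain ⟨g, hg⟩ := (Groth.Agent.S10193.result i hicl hY f').2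
    (by rw [hirange]; exact Set.subset_univ _)
  have hicl' : AlgSp.RepWith @IsIntegralHom i.hom :=
    ⟨hicl.1, fun _ _ a fst snd sq => by
      have : IsClosedImmersion snd.left := hicl.2 a fst snd sq
      exact (inferInstance : IsIntegralHom snd.left)⟩
  have hνint' : AlgSp.RepWith @IsIntegralHom ν.hom := ((Groth.Agent.S10267.result ν).1).1 hνint
  have hπ : AlgSp.IsIntegralMor (i ≫ ν).hom :=
    ((Groth.Agent.S10267.result (i ≫ ν)).1).2
      ((AlgSp.RepWith (S := S) @IsIntegralHom).comp_mem _ _ hicl' hνint')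
  have hgf : g.hom ≫ (i ≫ ν).hom = f.hom := by
    have h1 : (g ≫ i).hom = f'.hom := congrArg (fun k => k.hom) hg
    change g.hom ≫ (i.hom ≫ ν.hom) = f.hom
    rw [← Category.assoc]
    change (g ≫ i).hom ≫ ν.hom = f.hom
    rw [h1, hfac]
  obtain ⟨h, ⟨hh1, hh2⟩, -⟩ := hUP Z.property (i ≫ ν).hom g.hom hπ hgf
  obtain ⟨h', -, huniq⟩ := hUP X'.property ν.hom f'.hom hνint hfac
  have e1 : h ≫ i.hom = h' := by
    refine huniq _ ⟨?_, ?_⟩
    · rw [← Category.assoc, hh1]
      exact congrArg (fun k => k.hom) hg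
    · rw [Category.assoc]
      exact hh2
  have e2 : 𝟙 X'.obj = h' := huniq _ ⟨Category.comp_id _, Category.id_comp _⟩
  have e3 : h ≫ i.hom = 𝟙 _ := e1.trans e2.symm
  haveI : Mono i.hom := Groth.Agent.Lib.helper5.ProperSurj.mono_of_closedImmersion hicl
  have e4 : i.hom ≫ h = 𝟙 _ := by
    rw [← cancel_mono i.hom, Category.assoc, e3, Category.comp_id, Category.id_comp]
  haveI hiso : IsIso i.hom := ⟨h, e4, e3⟩
  obtain ⟨U, p, hpe, hps, hU⟩ := hZred
  refine ⟨U, p ≫ i.hom, ?_, ?_, hU⟩
  · exact (AlgSp.RepWith (S := S) @Etale).comp_mem _ _ hpe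
      (MorphismProperty.of_isIso (AlgSp.RepWith (S := S) @Etale) i.hom)
  · exact (AlgSp.RepWith (S := S) @Surjective).comp_mem _ _ hps
      (MorphismProperty.of_isIso (AlgSp.RepWith (S := S) @Surjective) i.hom)

end Groth.Agent.S10333
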