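import Groth.Statements.S10336
import Groth.Agent.Lib.Helper5.AlgSpEtFpqc
import Groth.Agent.S10539
import Groth.Agent.S10540
import Groth.Agent.S10545

set_option autoImplicit false
universe u
open CategoryTheory CategoryTheory.Limits AlgebraicGeometry
open AlgSp

namespace Groth.Agent.S10336

/-- Integrality, finiteness and finite local freeness of a morphism f : X -> Y of algebraic spaces over
S can be checked on the restrictions of f over the members of a Zariski covering of Y by open
subspaces. -/
theorem result {S : Scheme.{u}} {X Y : AlgSp.Space S} (f : X ⟶ Y) {ι : Type u}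
    (Yi : ι → AlgSp.Space S) (j : ∀ i, Yi i ⟶ Y) (hj : AlgSp.IsZarCover (fun i => (Yi i).obj) (fun i => (j i).hom))
    (Xi : ι → AlgSp.Sp S) (p : ∀ i, Xi i ⟶ X.obj) (q : ∀ i, Xi i ⟶ (Yi i).obj)
    (sq : ∀ i, IsPullback (p i) (q i) f.hom (j i).hom) :
    ((∀ i, AlgSp.IsIntegralMor (q i)) → AlgSp.IsIntegralMor f.hom) ∧
    ((∀ i, AlgSp.IsFiniteMor (q i)) → AlgSp.IsFiniteMor f.hom) ∧
    ((∀ i, AlgSp.IsFinLocFreeMor (q i)) → AlgSp.IsFinLocFreeMor f.hom) := by
  have hcov : IsFpqcCover (fun i => (Yi i).obj) (fun i => (j i).hom) := by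
    refine Groth.Agent.S10505.result (S := S) Y Yi j ⟨fun i => ?_, hj.2⟩
    have h0 : RepWith @Etale (j i).hom := Groth.Agent.S10194.repWith_mono (fun X Y f hf => by
      have : IsOpenImmersion f := hf
      exact inferInstanceAs (Etale f)) (hj.1 i)
    have h1 : IsEtaleMor (j i).hom := fun U φ hφ => (RepWith (S := S) @Etale).comp_mem _ _ hφ h0
    have h2 : LocP @Etale (j i).hom := Groth.Agent.S10265.locP_etale_of_isEtaleMor _ h1
    exact ⟨Groth.Agent.S10265.locP_mono (fun X Y f hf => by
        have : Etale f := hf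
        exact inferInstanceAs (Flat f)) h2,
      Groth.Agent.S10265.locP_mono (fun X Y f hf => by
        have : Etale f := hf
        exact inferInstanceAs (LocallyOfFinitePresentation f)) h2⟩
  have hXi : ∀ i, IsAlgSpace (Xi i) := fun i =>
    Groth.Agent.Lib.helper5.isAlgSpace_of_isPullback Y.property.diag X.property (Yi i).property (sq i)
  refine ⟨fun h => ?_, fun h => ?_, fun h => ?_⟩
  · exact (Groth.Agent.S10539.result S (fun i => (Yi i).obj) (fun i => (j i).hom) Y.property
      (fun i => (Yi i).property) hcov f.hom X.property Xi q p hXi sq).2 h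
  · exact (Groth.Agent.S10540.result S (fun i => (Yi i).obj) (fun i => (j i).hom) Y.property
      (fun i => (Yi i).property) hcov f.hom X.property Xi q p hXi sq).2 h
  · exact (Groth.Agent.S10545.result S (fun i => (Yi i).obj) (fun i => (j i).hom) Y.property
      (fun i => (Yi i).property) hcov f.hom X.property Xi q p hXi sq).2 h

end Groth.Agent.S10336
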