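import Groth.Statements.S10344
import Groth.Agent.S10343
import Groth.Agent.Lib.Helper5.AlgSpFibreProduct
import Groth.Agent.Lib.Helper10.AlgSpPoints

set_option autoImplicit false
universe u
open CategoryTheory CategoryTheory.Limits AlgebraicGeometry Topology TopologicalSpace
open AlgSp

namespace Groth.Agent.S10344

open Groth.Agent.Lib.helper11

variable {S : Scheme.{u}}

theorem main {X Y : AlgSp.Space S} (f : Y ⟶ X)
    (hf : AlgSp.LocP @Flat f.hom) (x x' : AlgSp.Points X.obj) (h : x' ⤳ x)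
    (hx' : ∃ p : AlgSp.FieldPt X.obj, AlgSp.Points.mk p = x' ∧ AlgSp.RepWith @QuasiCompact p.toHom)
    (y : AlgSp.Points Y.obj) (hy : AlgSp.Points.map f.hom y = x) :
    ∃ y' : AlgSp.Points Y.obj, y' ⤳ y ∧ AlgSp.Points.map f.hom y' = x' := by
  obtain ⟨V, b, hbe, hbs⟩ := X.property.atlas
  obtain ⟨v, hv⟩ := surjective_ofPt b hbs x
  have sq : IsPullback (pullback.fst f.hom b) (pullback.snd f.hom b) f.hom b :=
    IsPullback.of_hasPullback _ _
  have hW : IsAlgSpace (pullback f.hom b) :=
    Groth.Agent.Lib.helper5.isAlgSpace_of_isPullback X.property.diag Y.property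
      (IsAlgSpace.yon_obj V) sq
  obtain ⟨U, c, hce, hcs⟩ := hW.atlas
  have hyv : Points.map f.hom y = Points.map b (Points.ofScheme V v) := by
    rw [hy, ← Points.ofPt_eq_map_ofScheme, hv]
  obtain ⟨w, hw1, hw2⟩ := Groth.Agent.Lib.helper10.exists_point_of_isPullback sq y _ hyv
  obtain ⟨u, rfl⟩ := surjective_ofPt c hcs w
  obtain ⟨k, hk⟩ := (yon S).map_surjective (c ≫ pullback.snd f.hom b)
  have hfe : RepWith @Etale (pullback.fst f.hom b) :=
    (RepWith (S := S) @Etale).of_isPullback sq.flip hbe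
  have hae : RepWith @Etale (c ≫ pullback.fst f.hom b) :=
    (RepWith (S := S) @Etale).comp_mem _ _ hce hfe
  have hcomm : (c ≫ pullback.fst f.hom b) ≫ f.hom = (yon S).map k ≫ b := by
    rw [Category.assoc, sq.w, hk, Category.assoc]
  have hflat : Flat k.left := hf _ _ k hae hbe hcomm
  have hku : k.left u = v := by
    rw [Points.map_ofPt, ← hk, ofPt_yon_map] at hw2
    exact (Points.schemeEquiv V).injective hw2
  obtain ⟨v', hv's, hv'x⟩ := Groth.Agent.S10343.main X x x' h hx' b hbe v hv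
  obtain ⟨u', hu's, hu'v⟩ := (Flat.generalizingMap k.left) (hku ▸ hv's : v' ⤳ k.left u)
  refine ⟨Points.ofPt (c ≫ pullback.fst f.hom b) u', ?_, ?_⟩
  · rw [← hw1, Points.map_ofPt]
    exact hu's.map (Points.continuous_ofPt _)
  · rw [Points.map_ofPt, hcomm, ofPt_yon_map_comp, hu'v, hv'x]

/-- Let S be a scheme, Y and X algebraic spaces over S, and f : Y ⟶ X a flat morphism, and let x' ⤳ x be
a specialization in |X|, where x' is represented by a monomorphism Spec k ⟶ X which is representable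
quasi-compact (for instance X decent). Then generalizations lift along f at x: every y ∈ |Y| over x
has a generization y' over x'. -/
theorem result {S : Scheme.{u}} {X Y : AlgSp.Space S} (f : Y ⟶ X)
    (hf : AlgSp.LocP @Flat f.hom) (x x' : AlgSp.Points X.obj) (h : x' ⤳ x)
    (hx' : ∃ p : AlgSp.FieldPt X.obj, AlgSp.Points.mk p = x' ∧ Mono p.toHom ∧ AlgSp.RepWith @QuasiCompact p.toHom)
    (y : AlgSp.Points Y.obj) (hy : AlgSp.Points.map f.hom y = x) :
    ∃ y' : AlgSp.Points Y.obj, y' ⤳ y ∧ AlgSp.Points.map f.hom y' = x' := by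
  obtain ⟨p, h1, _, h3⟩ := hx'
  exact main f hf x x' h ⟨p, h1, h3⟩ y hy

end Groth.Agent.S10344
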