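import Groth.Statements.S10345
import Groth.Agent.Lib.Helper1.DecentDim

set_option autoImplicit false
universe u
open CategoryTheory CategoryTheory.Limits AlgebraicGeometry Topology TopologicalSpace
open AlgSp

namespace Groth.Agent.S10345

open Groth.Agent.H1.DecentDim in
theorem main {S : Scheme.{u}} (X : AlgSp.Space S)
    (hX : AlgSp.IsDecent X.obj) :
    topologicalKrullDim (AlgSp.Points X.obj) = AlgSp.dim X.obj := by
  haveI : T0Space (AlgSp.Points X.obj) := Groth.Agent.S10338.main X hX
  haveI : QuasiSober (AlgSp.Points X.obj) := Groth.Agent.S10339.main X hX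
  unfold AlgSp.dim
  apply le_antisymm
  · obtain ⟨U, a, hae, has⟩ := X.property.atlas
    have h := (genLift_ofPt X hX a hae).topologicalKrullDim_eq (Groth.Agent.Lib.helper11.surjective_ofPt a has)
    rw [← h]
    exact le_iSup_of_le U (le_iSup_of_le a (le_iSup_of_le hae le_rfl))
  · refine iSup_le fun U => iSup_le fun a => iSup_le fun hae => ?_
    exact (genLift_ofPt X hX a hae).topologicalKrullDim_le

/-- For a decent algebraic space X over a scheme S the Krull dimension of the topological space |X|
equals the dimension of X (the supremum of the Krull dimensions of the schemes etale over X). -/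
theorem result {S : Scheme.{u}} (X : AlgSp.Space S)
    (hX : AlgSp.IsDecent X.obj) :
    topologicalKrullDim (AlgSp.Points X.obj) = AlgSp.dim X.obj := by
  exact main X hX

end Groth.Agent.S10345
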