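import Groth.Statements.S10346
import Groth.Agent.Lib.Helper1.DecentDim

set_option autoImplicit false
universe u
open CategoryTheory CategoryTheory.Limits AlgebraicGeometry Topology TopologicalSpace
open AlgSp

namespace Groth.Agent.S10346

open Groth.Agent.H1.DecentDim in
theorem main {S : Scheme.{u}} (X : AlgSp.Space S)
    (hX : AlgSp.IsDecent X.obj) {U : Over S} (a : (AlgSp.yon S).obj U ⟶ X.obj) (ha : AlgSp.RepWith @Etale a)
    (u : ↥U.left) :
    FlatMor.localDim ↥U.left u = FlatMor.localDim (AlgSp.Points X.obj) (AlgSp.Points.ofPt a u) := by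
  haveI : T0Space (AlgSp.Points X.obj) := Groth.Agent.S10338.main X hX
  haveI : QuasiSober (AlgSp.Points X.obj) := Groth.Agent.S10339.main X hX
  have hg := genLift_ofPt X hX a ha
  unfold FlatMor.localDim
  apply le_antisymm
  · refine le_iInf fun W => ?_
    have hO : IsOpen (AlgSp.Points.ofPt a ⁻¹' (W.1 : Set (AlgSp.Points X.obj))) :=
      W.1.2.preimage hg.cont
    refine iInf_le_of_le ⟨⟨_, hO⟩, W.2⟩ ?_
    exact hg.topologicalKrullDim_restrict_le hO W.1.2 (fun v hv => hv)
  · refine le_iInf fun V => ?_
    have hO : IsOpen (AlgSp.Points.ofPt a '' (V.1 : Set ↥U.left)) :=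
      Groth.Agent.Lib.helper11.isOpenMap_ofPt a ha _ V.1.2
    refine iInf_le_of_le ⟨⟨_, hO⟩, ⟨u, V.2, rfl⟩⟩ ?_
    exact (hg.topologicalKrullDim_restrict_eq V.1.2 hO (Set.mapsTo_image _ _)
      (Set.surjOn_image _ _)).ge

/-- Let S be a scheme and X a decent algebraic space over S. Then for every representable etale a : h_U
⟶ X from a scheme U and every point u of U with image x ∈ |X|, the local dimension of U at u (the
dimension of X at x) equals the local dimension of the topological space |X| at x. -/
theorem result {S : Scheme.{u}} (X : AlgSp.Space S)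
    (hX : AlgSp.IsDecent X.obj) {U : Over S} (a : (AlgSp.yon S).obj U ⟶ X.obj) (ha : AlgSp.RepWith @Etale a)
    (u : ↥U.left) :
    FlatMor.localDim ↥U.left u = FlatMor.localDim (AlgSp.Points X.obj) (AlgSp.Points.ofPt a u) := by
  exact main X hX a ha u

end Groth.Agent.S10346
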