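import Groth.Statements.S10348
import Mathlib
import Groth.Agent.Lib.Helper11.AlgSpBasic
import Groth.Agent.Lib.Helper11.SpecDim

set_option autoImplicit false
universe u
open CategoryTheory CategoryTheory.Limits AlgebraicGeometry Topology TopologicalSpace
open AlgSp

namespace Groth.Agent.S10348

open Groth.Agent.Lib.helper11.SpecDim in
theorem coheight_le_of_lqf {W V : Scheme.{u}} (h : W ⟶ V) [LocallyQuasiFinite h] (w : W) :
    Order.coheight w ≤ Order.coheight (h w) :=
  Order.coheight_le_coheight_apply_of_strictMono h (strictMono_of_fibres h.continuous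
    (eq_of_specializes_of_isDiscrete (fun y => h.isDiscrete_preimage_singleton y))) w

open Groth.Agent.Lib.helper11.SpecDim in
theorem coheight_le_of_flat {W U : Scheme.{u}} (φ : W ⟶ U) [Flat φ] (w : W) :
    Order.coheight (φ w) ≤ Order.coheight w :=
  coheight_le_of_generalizingMap φ.continuous (Flat.generalizingMap φ) w


/-- Let S be a scheme, X and Y algebraic spaces over S, and f : X ⟶ Y a morphism which is locally
quasi-finite; let x ∈ |X| have image y ∈ |Y|. Then the local ring of X at x has dimension at most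
that of the local ring of Y at the point y (both dimensions read on etale charts through the
points). -/
theorem result {S : Scheme.{u}} {X Y : AlgSp.Space S} (f : X ⟶ Y)
    (hf : AlgSp.LocP (@LocallyQuasiFinite ⊓ @LocallyOfFiniteType) f.hom) (x : AlgSp.Points X.obj)
    (d e : WithBot ℕ∞)
    (hx : AlgSp.HasAt (fun U u => ringKrullDim ↥(U.presheaf.stalk u) = d) X.obj x)
    (hy : AlgSp.HasAt (fun V v => ringKrullDim ↥(V.presheaf.stalk v) = e) Y.obj (AlgSp.Points.map f.hom x)) :
    d ≤ e := by
  obtain ⟨U, a, u, hae, hau, hu⟩ := hx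
  obtain ⟨V, b, v, hbe, hbv, hv⟩ := hy
  obtain ⟨W, snd, fst, hpb⟩ := hbe.rep (a ≫ f.hom)
  obtain ⟨h, rfl⟩ := (yon S).map_surjective fst
  have he : RepWith @Etale ((yon S).map snd) :=
    (repWith_isStableUnderBaseChange (S := S) @Etale).of_isPullback hpb hbe
  have hae' : RepWith @Etale ((yon S).map snd ≫ a) :=
    (repWith_isMultiplicative (S := S) @Etale).comp_mem _ _ he hae
  have het : Etale snd.left := (repWith_yon_map_iff @Etale snd).1 he
  have hcomm : ((yon S).map snd ≫ a) ≫ f.hom = (yon S).map h ≫ b := by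
    rw [Category.assoc]; exact hpb.w.symm
  have hlqf : LocallyQuasiFinite h.left :=
    (hf ((yon S).map snd ≫ a) b h hae' hbe hcomm).1
  have hpt : Points.ofPt b v = Points.ofPt (a ≫ f.hom) u := by
    rw [hbv, ← hau]; rfl
  obtain ⟨w, hw1, hw2⟩ := Groth.Agent.Lib.helper11.exists_of_isPullback_schemes hpb v u hpt
  rw [← hu, ← hv, ringKrullDim_stalk_eq_coheight, ringKrullDim_stalk_eq_coheight]
  refine WithBot.coe_le_coe.2 ?_
  rw [← hw1, ← hw2]
  exact (coheight_le_of_flat snd.left w).trans (coheight_le_of_lqf h.left w)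

end Groth.Agent.S10348
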