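import Groth.Statements.S10349
import Groth.Agent.S10362
import Groth.Agent.S10265
import Groth.Agent.S10194
import Groth.Agent.S9885
import Groth.Agent.Lib.Helper11.AlgSpBasic

set_option autoImplicit false
universe u
open CategoryTheory CategoryTheory.Limits AlgebraicGeometry Topology TopologicalSpace
open AlgSp

namespace Groth.Agent.S10349

open Groth.Agent.Lib.helper11

variable {S : Scheme.{u}}

/-- An etale morphism between spectra of fields is finite. -/
theorem isFinite_of_etale_fields {k k' : Type u} [Field k] [Field k']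
    (f : Spec (CommRingCat.of k) ⟶ Spec (CommRingCat.of k')) [Etale f] : IsFinite f := by
  have hlqf : LocallyQuasiFinite f := Groth.Agent.S10265.lqf_of_etale f
  have : QuasiCompact f := inferInstance
  have : IsLocallyArtinian (Spec (CommRingCat.of k')) := inferInstance
  exact IsFinite.of_locallyQuasiFinite f

theorem main (X : AlgSp.Space S)
    (hX : AlgSp.IsDecent X.obj) (k : Type u) [Field k] (str : Spec (CommRingCat.of k) ⟶ S)
    (p : (AlgSp.yon S).obj (Over.mk str) ⟶ X.obj) (hp : AlgSp.RepWith @Etale p)
    (hs : AlgSp.RepWith @Surjective p) :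
    ∃ (k' : Type u) (_ : Field k') (str' : Spec (CommRingCat.of k') ⟶ S)
      (e : (AlgSp.yon S).obj (Over.mk str') ≅ X.obj) (c : Over.mk str ⟶ Over.mk str'),
      (AlgSp.yon S).map c ≫ e.hom = p ∧ IsFinite c.left ∧ Etale c.left := by
  let s0 : ↥(Over.mk str).left := (IsLocalRing.closedPoint k : ↥(Spec (CommRingCat.of k)))
  obtain ⟨q, hq, hqm, hqc⟩ := hX (Points.ofPt p s0)
  obtain ⟨T, c', a', sq⟩ := hp.1 q.toHom
  obtain ⟨a, rfl⟩ := (yon S).map_surjective a'
  have hc' : Etale c'.left := hp.2 _ _ _ sq
  have hamono : Mono ((yon S).map a) := sq.mono_fst_of_mono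
  have ham : Mono a := (yon S).mono_of_mono_map hamono
  have haml : Mono a.left := inferInstance
  let t0 : ↥q.pt.left := (IsLocalRing.closedPoint q.K : ↥(Spec (CommRingCat.of q.K)))
  have hpt : Points.ofPt p s0 = Points.ofPt q.toHom t0 := by rw [Points.ofPt_toHom, hq]
  obtain ⟨τ, -, -⟩ := exists_of_isPullback_schemes sq s0 t0 hpt
  have hne : Nonempty ↥T.left := ⟨τ⟩
  have hiso : IsIso a.left := Groth.Agent.S10362.isIso_of_mono_to_field (K := k) a.left
  have hisoa : IsIso a := by
    have : IsIso ((Over.forget S).map a) := hiso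
    exact isIso_of_reflects_iso a (Over.forget S)
  let c : Over.mk str ⟶ q.pt := inv a ≫ c'
  have hcp : (yon S).map c ≫ q.toHom = p := by
    rw [Functor.map_comp, Category.assoc, ← sq.w, ← Category.assoc, ← Functor.map_comp,
      IsIso.inv_hom_id, CategoryTheory.Functor.map_id, Category.id_comp]
  have hls : Sheaf.IsLocallySurjective p := Groth.Agent.S9885.result S _ _ p
    (Groth.Agent.S10194.repWith_mono (fun X Y g hg => by have : Etale g := hg; infer_instance) hp)
    (Groth.Agent.S10194.repWith_mono (fun X Y g hg => by have : Etale g := hg; infer_instance) hp)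
    hs
  have hepi_p : Epi p := inferInstance
  have hepiq : Epi q.toHom := by
    rw [← hcp] at hepi_p
    exact epi_of_epi ((yon S).map c) q.toHom
  have hqiso : IsIso q.toHom := isIso_of_mono_of_epi _
  have hce : Etale c.left := by
    change Etale ((inv a ≫ c').left)
    rw [Over.comp_left]
    have : IsIso (inv a).left := by
      have : IsIso ((Over.forget S).map (inv a)) := inferInstance
      exact this
    infer_instance
  refine ⟨q.K, inferInstance, q.str, asIso q.toHom, c, hcp, ?_, hce⟩
  exact isFinite_of_etale_fields (k := k) (k' := q.K) c.left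

/-- Let S be a scheme, X a decent algebraic space over S, k a field over S and p : h_{Spec k} ⟶ X a
surjective etale map. Then X ≅ h_{Spec k'} for a field k' over S, and p corresponds to a finite
etale morphism Spec k ⟶ Spec k' over S, so that k is a finite separable extension of k'. -/
theorem result {S : Scheme.{u}} (X : AlgSp.Space S)
    (hX : AlgSp.IsDecent X.obj) (k : Type u) [Field k] (str : Spec (CommRingCat.of k) ⟶ S)
    (p : (AlgSp.yon S).obj (Over.mk str) ⟶ X.obj) (hp : AlgSp.RepWith @Etale p) (hs : AlgSp.RepWith @Surjective p) :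
    ∃ (k' : Type u) (_ : Field k') (str' : Spec (CommRingCat.of k') ⟶ S)
      (e : (AlgSp.yon S).obj (Over.mk str') ≅ X.obj) (c : Over.mk str ⟶ Over.mk str'),
      (AlgSp.yon S).map c ≫ e.hom = p ∧ IsFinite c.left ∧ Etale c.left := by
  exact main X hX k str p hp hs

end Groth.Agent.S10349
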