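import Groth.Statements.S10353
import Groth.Agent.S10204
import Groth.Agent.Lib.Helper1.QuotFin
import Groth.Agent.Lib.Helper1.FinEtNowhere
import Groth.Agent.Lib.Helper1.GenFinF

set_option autoImplicit false
universe u
open CategoryTheory CategoryTheory.Limits AlgebraicGeometry Topology TopologicalSpace
open AlgSp

namespace Groth.Agent.S10353

open Groth.Agent.H1.QuotFin Groth.Agent.H1.GenFin Groth.Agent.H1.FinEtNowhere
  Groth.Agent.Lib.helper5 Groth.Agent.Lib.helper11

/-- A finite union of pairwise disjoint affine opens is affine. -/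
theorem isAffineOpen_finsetSup {M : Scheme.{u}} (s : Finset M.Opens)
    (h1 : ∀ A ∈ s, IsAffineOpen A) (h2 : (s : Set M.Opens).PairwiseDisjoint id) :
    IsAffineOpen (s.sup id) := by
  classical
  induction s using Finset.induction_on with
  | empty => simpa using isAffineOpen_bot M
  | @insert A s hA ih =>
    rw [Finset.sup_insert]
    refine (h1 A (Finset.mem_insert_self A s)).sup_of_disjoint
      (ih (fun B hB => h1 B (Finset.mem_insert_of_mem hB))
        (h2.subset (by simp))) ?_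
    rw [Finset.disjoint_sup_right]
    intro B hB
    exact h2 (Finset.mem_coe.2 (Finset.mem_insert_self A s))
      (Finset.mem_coe.2 (Finset.mem_insert_of_mem hB)) (by rintro rfl; exact hA hB)

/-- Every scheme has a dense open subset which is a disjoint union of affine opens; every finite
subset of it lies in an affine open. -/
theorem exists_dense_open_finite_affine (M : Scheme.{u}) :
    ∃ W : M.Opens, Dense (W : Set M) ∧ ∀ F : Set M, F.Finite → F ⊆ (W : Set M) →
      ∃ A : M.Opens, IsAffineOpen A ∧ F ⊆ (A : Set M) := by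
  classical
  obtain ⟨𝒮, h𝒮max⟩ := zorn_subset
    {𝒮 : Set M.Opens | (∀ A ∈ 𝒮, IsAffineOpen A) ∧ 𝒮.PairwiseDisjoint id} (by
    intro c hc hchain
    refine ⟨⋃₀ c, ⟨?_, ?_⟩, fun s hs => Set.subset_sUnion_of_mem hs⟩
    · rintro A ⟨s, hs, hA⟩
      exact (hc hs).1 A hA
    · rintro A ⟨s, hs, hA⟩ B ⟨s', hs', hB⟩ hAB
      rcases hchain.total hs hs' with h | h
      · exact (hc hs').2 (h hA) hB hAB
      · exact (hc hs).2 hA (h hB) hAB)
  obtain ⟨⟨h𝒮a, h𝒮d⟩, hmax⟩ := h𝒮max
  refine ⟨sSup 𝒮, ?_, ?_⟩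
  · rw [dense_iff_inter_open]
    intro O hO hOne
    by_contra hcon
    rw [Set.not_nonempty_iff_eq_empty] at hcon
    obtain ⟨x, hx⟩ := hOne
    obtain ⟨_, ⟨A, hA, rfl⟩, hxA, hAO⟩ := M.isBasis_affineOpens.exists_subset_of_mem_open hx hO
    have hAdisj : ∀ B ∈ 𝒮, Disjoint A B := by
      intro B hB
      rw [← Opens.coe_disjoint, Set.disjoint_left]
      intro y hyA hyB
      have : y ∈ O ∩ ((sSup 𝒮 : M.Opens) : Set M) :=
        ⟨hAO hyA, Opens.mem_sSup.2 ⟨B, hB, hyB⟩⟩
      rw [hcon] at this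
      exact this
    have hmem : insert A 𝒮 ∈ {𝒮 : Set M.Opens | (∀ A ∈ 𝒮, IsAffineOpen A) ∧ 𝒮.PairwiseDisjoint id} := by
      refine ⟨?_, ?_⟩
      · rintro B (rfl | hB)
        · exact hA
        · exact h𝒮a B hB
      · exact h𝒮d.insert (fun B hB _ => hAdisj B hB)
    have hA𝒮 : A ∈ 𝒮 := hmax hmem (Set.subset_insert A 𝒮) (Set.mem_insert A 𝒮)
    have := hAdisj A hA𝒮
    rw [disjoint_self] at this
    rw [this] at hxA
    exact hxA
  · intro F hF hFW
    choose! B hB𝒮 hB using fun (x : M) (hx : x ∈ F) => Opens.mem_sSup.1 (hFW hx)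
    refine ⟨(hF.toFinset.image B).sup id, isAffineOpen_finsetSup _ ?_ ?_, ?_⟩
    · intro A hA
      obtain ⟨x, hx, rfl⟩ := Finset.mem_image.1 hA
      exact h𝒮a _ (hB𝒮 x (hF.mem_toFinset.1 hx))
    · refine h𝒮d.subset ?_
      intro A hA
      obtain ⟨x, hx, rfl⟩ := Finset.mem_image.1 (Finset.mem_coe.1 hA)
      exact hB𝒮 x (hF.mem_toFinset.1 hx)
    · intro x hx
      have h1 : B x ≤ (hF.toFinset.image B).sup id :=
        Finset.le_sup (f := id) (Finset.mem_image_of_mem B (hF.mem_toFinset.2 hx))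
      exact h1 (hB x hx)

theorem main {S : Scheme.{u}} (X : AlgSp.Space S)
    {U : Over S} (a : (AlgSp.yon S).obj U ⟶ X.obj) (hf : AlgSp.RepWith @IsFinite a) (he : AlgSp.RepWith @Etale a)
    (hs : AlgSp.RepWith @Surjective a) :
    ∃ (X' : AlgSp.Space S) (j : X' ⟶ X), AlgSp.RepWith @IsOpenImmersion j.hom ∧ X'.obj.obj.IsRepresentable ∧
      Dense (Set.range (AlgSp.Points.map j.hom)) := by
  have hfl : RepWith finLocFree a := ⟨hf.rep, fun _ _ g fst snd h => by
    have h1 : IsFinite snd.left := hf.property g fst snd h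
    have h2 : Etale snd.left := he.property g fst snd h
    exact ⟨h1, (inferInstance : Flat snd.left), (inferInstance : LocallyOfFinitePresentation snd.left)⟩⟩
  -- the equivalence relation
  obtain ⟨R, s, t', sq⟩ := hf.rep a
  obtain ⟨t, rfl⟩ := (yon S).map_surjective t'
  haveI : IsFinite s.left := hf.property a _ s sq
  haveI : Etale s.left := he.property a _ s sq
  haveI : IsFinite t.left := hf.property a _ t sq.flip
  haveI : Etale t.left := he.property a _ t sq.flip
  -- a dense open in which finite sets lie in affine opens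
  obtain ⟨W, hWd, hWaff⟩ := exists_dense_open_finite_affine U.left
  have hZi : interior ((W : Set ↥U.left)ᶜ) = ∅ := by
    rw [interior_compl, hWd.closure_eq, Set.compl_univ]
  have hTc : IsClosed (s.left ⁻¹' (W : Set ↥U.left)ᶜ) := W.isOpen.isClosed_compl.preimage s.left.continuous
  have hTi : interior (s.left ⁻¹' (W : Set ↥U.left)ᶜ) = ∅ := by
    rw [Set.eq_empty_iff_forall_notMem]
    intro x hx
    have h1 : s.left x ∈ interior (s.left '' (s.left ⁻¹' (W : Set ↥U.left)ᶜ)) :=
      s.left.isOpenMap.image_interior_subset _ ⟨x, hx, rfl⟩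
    have h2 : s.left x ∈ interior ((W : Set ↥U.left)ᶜ) :=
      interior_mono (Set.image_preimage_subset _ _) h1
    rw [hZi] at h2
    exact h2
  have hZ'i := interior_image_eq_empty t.left _ hTc hTi
  -- the schematic locus
  obtain ⟨X', j, hj, hrep, hmax⟩ := Groth.Agent.S10204.exists_schematicLocus' X
  refine ⟨X', j, hj, hrep, ?_⟩
  rw [dense_iff_inter_open]
  intro Ω hΩ hΩne
  have hD : IsOpen (Points.ofPt a ⁻¹' Ω) := hΩ.preimage (Points.continuous_ofPt a)
  obtain ⟨x₀, hx₀⟩ := hΩne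
  obtain ⟨u₀, rfl⟩ := surjective_ofPt a hs x₀
  -- a point of the preimage outside the bad closed set
  obtain ⟨u₁, hu₁D, hu₁Z⟩ : ∃ u₁, u₁ ∈ Points.ofPt a ⁻¹' Ω ∧
      u₁ ∉ t.left '' (s.left ⁻¹' (W : Set ↥U.left)ᶜ) := by
    by_contra hcon
    push Not at hcon
    have : u₀ ∈ interior (t.left '' (s.left ⁻¹' (W : Set ↥U.left)ᶜ)) :=
      interior_maximal hcon hD hx₀
    rw [hZ'i] at this
    exact this
  have hcl : IsClosed (t.left '' (s.left ⁻¹' (W : Set ↥U.left)ᶜ)) := t.left.isClosedMap _ hTc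
  obtain ⟨η, hη, hηmax⟩ := Groth.Agent.S3207.exists_maximal_generization u₁
  have hηD : η ∈ Points.ofPt a ⁻¹' Ω := hη.mem_open hD hu₁D
  have hηZ : η ∉ t.left '' (s.left ⁻¹' (W : Set ↥U.left)ᶜ) := fun h => hu₁Z (hη.mem_closed hcl h)
  have hdim : ringKrullDim ↥(U.left.presheaf.stalk η) = 0 := dim_zero_of_maximal η hηmax
  -- the fibre through `η` lies in `W`
  have hfib : ∀ u', Points.ofPt a u' = Points.ofPt a η → u' ∈ W := by
    intro u' hu'
    by_contra hW
    obtain ⟨r, hr1, hr2⟩ := exists_of_isPullback_schemes sq η u' hu'.symm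
    exact hηZ ⟨r, by change s.left r ∈ (W : Set ↥U.left)ᶜ; rw [hr2]; exact hW, hr1⟩
  obtain ⟨A, hA, hFA⟩ := hWaff _ (finite_fibre_ofPt a hf η) (fun u' hu' => hfib u' hu')
  obtain ⟨X'', j'', hj'', hrep'', hx''⟩ := exists_open_representable X a hfl hs (Points.ofPt a η) A hA
    (fun u' hu' => hFA hu')
  exact ⟨Points.ofPt a η, hηD, hmax X'' j'' hj'' hrep'' hx''⟩

/-- Let X be an algebraic space over a scheme S and suppose there is a finite, etale, surjective map h_U
⟶ X from a scheme U. Then some dense open subspace of X is a scheme: an open subspace X' ⟶ X with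
representable underlying sheaf and |X'| dense in |X|. -/
theorem result {S : Scheme.{u}} (X : AlgSp.Space S)
    {U : Over S} (a : (AlgSp.yon S).obj U ⟶ X.obj) (hf : AlgSp.RepWith @IsFinite a) (he : AlgSp.RepWith @Etale a)
    (hs : AlgSp.RepWith @Surjective a) :
    ∃ (X' : AlgSp.Space S) (j : X' ⟶ X), AlgSp.RepWith @IsOpenImmersion j.hom ∧ X'.obj.obj.IsRepresentable ∧
      Dense (Set.range (AlgSp.Points.map j.hom)) := by
  exact main X a hf he hs

end Groth.Agent.S10353
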