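import Groth.Statements.S10355
import Groth.Agent.Lib.Helper1.DecentOpen

set_option autoImplicit false
universe u
open CategoryTheory CategoryTheory.Limits AlgebraicGeometry Topology TopologicalSpace
open AlgSp

namespace Groth.Agent.S10355

theorem main {S : Scheme.{u}} (X : AlgSp.Space S)
    (hX : AlgSp.IsDecent X.obj) [Nonempty (AlgSp.Points X.obj)] [Subsingleton (AlgSp.Points X.obj)] :
    X.obj.obj.IsRepresentable := by
  obtain ⟨X', j, hj, hrep, hdense⟩ := Groth.Agent.H1.DecentOpen.main X hX
  have hs : IsSurjectiveMor j.hom := by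
    intro x
    obtain ⟨_, ⟨y, rfl⟩⟩ := hdense.nonempty
    exact ⟨y, Subsingleton.elim _ _⟩
  haveI : IsIso j.hom := Groth.Agent.S10194.isIso_of_openImmersion_of_surjective j.hom hj hs
  obtain ⟨M, ⟨r⟩⟩ := hrep.has_representation
  let ε : (yon S).obj M ≅ X'.obj := isoOfRepresentableBy r
  exact (representableByOfIso (ε ≪≫ asIso j.hom)).isRepresentable

/-- A decent algebraic space X over a scheme S whose space of points is a single point is a scheme (the
underlying sheaf of X is representable). -/
theorem result {S : Scheme.{u}} (X : AlgSp.Space S)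
    (hX : AlgSp.IsDecent X.obj) [Nonempty (AlgSp.Points X.obj)] [Subsingleton (AlgSp.Points X.obj)] :
    X.obj.obj.IsRepresentable := by
  exact main X hX

end Groth.Agent.S10355
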