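import Groth.Statements.S10357
import Groth.Agent.Lib.Helper5.ClosedPtField
import Groth.Agent.Lib.Helper5.FieldQuotQS
import Groth.Agent.Lib.Helper11.AlgSpBasic
import Groth.Agent.Lib.Helper24.EtaleReduced
import Groth.Agent.S10215

set_option autoImplicit false
universe u
open CategoryTheory CategoryTheory.Limits AlgebraicGeometry Topology TopologicalSpace
open AlgSp

namespace Groth.Agent.S10357

open Groth.Agent.Lib.helper5 Groth.Agent.Lib.helper5.FieldQuot Groth.Agent.Lib.helper5.ClosedPtField
  Groth.Agent.Lib.helper5.MonoDiscrete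

/-- The integrality of the structure morphism of a mono point through which an integral point factors. -/
theorem isIntegralHom_str {S : Scheme.{u}} (s : ↥S) (hs : IsClosed ({s} : Set ↥S)) (k : Type u) [Field k]
    (φ : S.residueField s ⟶ CommRingCat.of k) (hφ : φ.hom.IsIntegral) {K : Type u} [Field K]
    (strK : Spec (CommRingCat.of K) ⟶ S) (c : Spec (CommRingCat.of k) ⟶ Spec (CommRingCat.of K))
    (hc : c ≫ strK = Spec.map φ ≫ S.fromSpecResidueField s) :
    ∃ (d : S.residueField s ⟶ CommRingCat.of K) (ψ : CommRingCat.of K ⟶ CommRingCat.of k),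
      Spec.map d ≫ S.fromSpecResidueField s = strK ∧ Spec.map ψ = c ∧ d ≫ ψ = φ ∧ d.hom.IsIntegral ∧
        IsIntegralHom strK := by
  have hqs : strK (IsLocalRing.closedPoint K) = s := by
    have h1 : (c ≫ strK) (IsLocalRing.closedPoint k) = s := by
      rw [hc, Scheme.Hom.comp_apply, Scheme.fromSpecResidueField_apply]
    rw [Scheme.Hom.comp_apply] at h1
    rwa [show c (IsLocalRing.closedPoint k) = IsLocalRing.closedPoint K from Subsingleton.elim _ _] at h1
  obtain ⟨d, hd⟩ := exists_desc_residueField strK s hqs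
  obtain ⟨ψ, hψ⟩ := Spec.map_surjective c
  have hcomp : d ≫ ψ = φ := by
    apply Spec.map_injective
    rw [← cancel_mono (S.fromSpecResidueField s), Spec.map_comp, Category.assoc, hd, hψ, hc]
  have hdint : d.hom.IsIntegral := by
    refine RingHom.IsIntegral.tower_bot d.hom ψ.hom ψ.hom.injective ?_
    rw [← CommRingCat.hom_comp, hcomp]; exact hφ
  have hint_d : IsIntegralHom (Spec.map d) := IsIntegralHom.SpecMap_iff.2 hdint
  have hcl_s : IsClosedImmersion (S.fromSpecResidueField s) := isClosed_singleton_iff_isClosedImmersion.1 hs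
  have hint_q : IsIntegralHom strK := by rw [← hd]; infer_instance
  exact ⟨d, ψ, hd, hψ, hcomp, hdint, hint_q⟩

/-- Let S be a scheme, X a decent algebraic space over S, and Spec k ⟶ X a morphism over S from the
spectrum of a field whose image in S is a closed point s with k algebraic over κ(s). Then the image
point of |X| is closed. Here Spec k ⟶ S is written as Spec k ⟶ Spec κ(s) ⟶ S for a ring map φ : κ(s)
→ k, integral since k is algebraic over κ(s). -/
theorem result {S : Scheme.{u}} (X : AlgSp.Space S)
    (hX : AlgSp.IsDecent X.obj) (s : ↥S) (hs : IsClosed ({s} : Set ↥S)) (k : Type u) [Field k]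
    (φ : S.residueField s ⟶ CommRingCat.of k) (hφ : φ.hom.IsIntegral)
    (p : (AlgSp.yon S).obj (Over.mk (Spec.map φ ≫ S.fromSpecResidueField s)) ⟶ X.obj)
    (t : ↥(Spec (CommRingCat.of k))) :
    IsClosed ({AlgSp.Points.ofPt p t} : Set (AlgSp.Points X.obj)) := by
  obtain ⟨str, hstr⟩ : ∃ str : Spec (CommRingCat.of k) ⟶ S, str = Spec.map φ ≫ S.fromSpecResidueField s := ⟨_, rfl⟩
  obtain ⟨p', hp'⟩ : ∃ p' : (yon S).obj (Over.mk str) ⟶ X.obj, HEq p' p := by subst hstr; exact ⟨p, HEq.rfl⟩
  let p₀ : FieldPt X.obj := fieldPtOfHom k str p'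
  have hp₀ : p₀.toHom = p' := toHom_fieldPtOfHom k str p'
  have hx : Points.ofPt p t = Points.mk p₀ := by
    have h := Points.ofPt_toHom p₀ t
    rw [hp₀] at h
    subst hstr
    rw [← h]
    congr 1
    exact (eq_of_heq hp').symm
  rw [hx]
  obtain ⟨q, hq, hqm, hqq⟩ := hX (Points.mk p₀)
  have := hqm
  obtain ⟨c, hc, -⟩ := Groth.Agent.S10215.result X q p₀ hq
  have hcw : c.left ≫ q.str = str := Over.w c
  obtain ⟨d, ψ, hd, hψ, hcomp, hdint, hint_q⟩ := isIntegralHom_str s hs k φ hφ q.str c.left (hcw.trans hstr)
  obtain ⟨U₀, a, hae, has⟩ := X.property.atlas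
  obtain ⟨V, g, fst, sq⟩ := X.property.representable_from_yon q.toHom a
  obtain ⟨τ, rfl⟩ := (yon S).map_surjective fst
  have hmono' : Mono ((yon S).map g) := sq.mono_snd_of_mono
  have hmono : Mono g := (yon S).mono_of_mono_map hmono'
  have hmonol : Mono g.left := inferInstance
  have hqc : QuasiCompact g.left := hqq.2 a _ g sq
  have hτe : Etale τ.left := hae.2 q.toHom _ τ sq.flip
  have hlqf : LocallyQuasiFinite τ.left := lqf_of_etale τ.left
  have hart : IsLocallyArtinian q.pt.left := inferInstanceAs (IsLocallyArtinian (Spec (CommRingCat.of q.K)))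
  have hart' : IsLocallyArtinian V.left := IsLocallyArtinian.of_locallyQuasiFinite τ.left
  have hred : IsReduced q.pt.left := inferInstanceAs (IsReduced (Spec (CommRingCat.of q.K)))
  have hred' : IsReduced V.left := Groth.Agent.H1.EtaleReduced.isReduced_of_etale τ.left
  have hdisc : DiscreteTopology ↥V.left := inferInstance
  have hfib : ∀ v : ↥V.left, Points.ofPt a (g.left v) = Points.mk p₀ := by
    intro v
    rw [Groth.Agent.Lib.helper11.ofPt_comm sq.w.symm v, Points.ofPt_toHom, hq]
  have hrange : Set.range g.left = Points.ofPt a ⁻¹' {Points.mk p₀} := by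
    ext u
    constructor
    · rintro ⟨v, rfl⟩
      exact hfib v
    · intro hu
      have hu' : Points.ofPt a u = Points.ofPt q.toHom (IsLocalRing.closedPoint q.K) := by
        rw [Points.ofPt_toHom, hq]; exact hu
      obtain ⟨v, hv, -⟩ := Groth.Agent.Lib.helper11.exists_of_isPullback_schemes sq.flip u _ hu'
      exact ⟨v, hv⟩
  have hpt : ∀ v : ↥V.left, IsClosed ({g.left v} : Set ↥U₀.left) := by
    intro v
    have hoi : IsOpenImmersion (V.left.fromSpecResidueField v) :=
      isOpenImmersion_fromSpecResidueField_of_discrete V.left v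
    have hw : (V.left.fromSpecResidueField v ≫ g.left) ≫ U₀.hom =
        (V.left.fromSpecResidueField v ≫ τ.left) ≫ q.str := by
      rw [Category.assoc, Category.assoc, Over.w g]
      exact congrArg (V.left.fromSpecResidueField v ≫ ·) (Over.w τ).symm
    have hqcv : QuasiCompact (V.left.fromSpecResidueField v ≫ τ.left) := quasiCompact_of_field _
    have hfin : IsFinite (V.left.fromSpecResidueField v ≫ τ.left) :=
      isFinite_of_etale_qc (K := q.K) (V.left.fromSpecResidueField v ≫ τ.left)
    have hint : IsIntegralHom ((V.left.fromSpecResidueField v ≫ g.left) ≫ U₀.hom) := by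
      rw [hw]; infer_instance
    have h := @isClosed_singleton_of_isIntegralHom_comp _ _ U₀.hom _ _
      (V.left.fromSpecResidueField v ≫ g.left) hint
    convert h using 2
    rw [Scheme.Hom.comp_apply]
    exact congrArg _ (Scheme.fromSpecResidueField_apply _ _).symm
  have hcl : IsClosed (Set.range g.left) := by
    refine isClosed_of_locally_finite_closed_points _ ?_ ?_
    · rintro _ ⟨v, rfl⟩
      exact hpt v
    · intro W hW
      have hcomp : IsCompact (g.left ⁻¹' W) :=
        QuasiCompact.isCompact_preimage (f := g.left) _ W.isOpen hW.isCompact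
      have hfin : (g.left ⁻¹' (W : Set ↥U₀.left)).Finite := hcomp.finite_of_discrete
      rw [← Set.image_preimage_eq_range_inter]
      exact hfin.image _
  rw [hrange] at hcl
  exact (Groth.Agent.Lib.helper11.isQuotientMap_ofPt a hae has).isClosed_preimage.1 hcl

end Groth.Agent.S10357
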