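import Groth.Statements.S10359
import Groth.Agent.Lib.Helper5.ClosedPtImm
import Groth.Agent.Lib.Helper5.AlgSpEtFpqc
import Groth.Agent.Lib.Helper11.AlgSpBasic
import Groth.Agent.Lib.Helper24.EtaleReduced
import Groth.Agent.S10534
import Groth.Agent.S10340

set_option autoImplicit false
universe u
open CategoryTheory CategoryTheory.Limits AlgebraicGeometry Topology TopologicalSpace
open AlgSp

namespace Groth.Agent.S10359

open Groth.Agent.Lib.helper5 Groth.Agent.Lib.helper5.FieldQuot Groth.Agent.Lib.helper5.ClosedPtImm

/-- On a decent algebraic space X over a scheme S every closed point x of |X| is represented by a closed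
immersion Spec k ⟶ X, where k is a field. -/
theorem result {S : Scheme.{u}} (X : AlgSp.Space S)
    (hX : AlgSp.IsDecent X.obj) (x : AlgSp.Points X.obj) (hx : IsClosed ({x} : Set (AlgSp.Points X.obj))) :
    ∃ p : AlgSp.FieldPt X.obj, AlgSp.Points.mk p = x ∧ AlgSp.RepWith @IsClosedImmersion p.toHom := by
  obtain ⟨p, hp, hm, hq⟩ := hX x
  refine ⟨p, hp, ?_⟩
  obtain ⟨U₀, a, hae, has⟩ := X.property.atlas
  obtain ⟨V, g, fst, sq⟩ := X.property.representable_from_yon p.toHom a
  obtain ⟨τ, rfl⟩ := (yon S).map_surjective fst
  have hmono' : Mono ((yon S).map g) := sq.mono_snd_of_mono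
  have hmono : Mono g := (yon S).mono_of_mono_map hmono'
  have hmonol : Mono g.left := inferInstance
  have hqc : QuasiCompact g.left := hq.2 a _ g sq
  have hτe : Etale τ.left := hae.2 p.toHom _ τ sq.flip
  have hlqf : LocallyQuasiFinite τ.left := lqf_of_etale τ.left
  have hart : IsLocallyArtinian p.pt.left := inferInstanceAs (IsLocallyArtinian (Spec (CommRingCat.of p.K)))
  have hart' : IsLocallyArtinian V.left := IsLocallyArtinian.of_locallyQuasiFinite τ.left
  have hred : IsReduced p.pt.left := inferInstanceAs (IsReduced (Spec (CommRingCat.of p.K)))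
  have hred' : IsReduced V.left := Groth.Agent.H1.EtaleReduced.isReduced_of_etale τ.left
  have hdisc : DiscreteTopology ↥V.left := inferInstance
  have hinj : Function.Injective g.left := g.left.injective
  have hfib : ∀ v : ↥V.left, Points.ofPt a (g.left v) = x := by
    intro v
    rw [Groth.Agent.Lib.helper11.ofPt_comm sq.w.symm v, Points.ofPt_toHom, hp]
  have hrange : Set.range g.left = Points.ofPt a ⁻¹' {x} := by
    ext u
    constructor
    · rintro ⟨v, rfl⟩
      exact hfib v
    · intro hu
      have hu' : Points.ofPt a u = Points.ofPt p.toHom (IsLocalRing.closedPoint p.K) := by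
        rw [Points.ofPt_toHom, hp]; exact hu
      obtain ⟨v, hv, -⟩ := Groth.Agent.Lib.helper11.exists_of_isPullback_schemes sq.flip u _ hu'
      exact ⟨v, hv⟩
  have hcl : IsClosed (Set.range g.left) := by
    rw [hrange]; exact hx.preimage (Points.continuous_ofPt a)
  have hsp : ∀ v v' : ↥V.left, g.left v' ⤳ g.left v → v = v' := fun v v' h =>
    hinj (Groth.Agent.S10340.result X hX a hae (g.left v) (g.left v') ((hfib v).trans (hfib v').symm) h)
  have hci : IsClosedImmersion g.left := isClosedImmersion_of_mono_discrete g.left hcl hsp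
  refine ((Groth.Agent.S10534.result S) (ι := PUnit.{u + 1}) (fun _ => (yon S).obj U₀) (fun _ => a) X.property
    (fun _ => IsAlgSpace.yon_obj _) (EtFpqc.isFpqcCover_of_chart X.property U₀ a hae has) p.toHom
    (IsAlgSpace.yon_obj _) (fun _ => (yon S).obj V) (fun _ => (yon S).map g) (fun _ => (yon S).map τ)
    (fun _ => IsAlgSpace.yon_obj _) (fun _ => sq)).2 fun _ => (repWith_yon_map_iff @IsClosedImmersion g).2 hci

end Groth.Agent.S10359
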