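import Groth.Statements.S10358
import Groth.Agent.S10357
import Groth.Agent.S10359
import Groth.Agent.S9928
import Groth.Agent.S10194

set_option autoImplicit false
universe u
open CategoryTheory CategoryTheory.Limits AlgebraicGeometry Topology TopologicalSpace
open AlgSp

namespace Groth.Agent.S10358

open Groth.Agent.Lib.helper5 Groth.Agent.Lib.helper5.FieldQuot Groth.Agent.Lib.helper5.ClosedPtField

/-- Let S be a scheme, X a decent algebraic space over S, and Spec k ⟶ X a morphism over S from the
spectrum of a field whose image in S is a closed point s with k finite over κ(s) (Spec k ⟶ S written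
through a ring map φ : κ(s) → k). Then Spec k ⟶ X is finite; if moreover φ is bijective (k = κ(s))
it is a closed immersion. -/
theorem result {S : Scheme.{u}} (X : AlgSp.Space S)
    (hX : AlgSp.IsDecent X.obj) (s : ↥S) (hs : IsClosed ({s} : Set ↥S)) (k : Type u) [Field k]
    (φ : S.residueField s ⟶ CommRingCat.of k) (hφ : φ.hom.Finite)
    (p : (AlgSp.yon S).obj (Over.mk (Spec.map φ ≫ S.fromSpecResidueField s)) ⟶ X.obj) :
    AlgSp.RepWith @IsFinite p ∧
      (Function.Bijective φ.hom → AlgSp.RepWith @IsClosedImmersion p) := by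
  have hφi : φ.hom.IsIntegral := hφ.to_isIntegral
  have hxcl := Groth.Agent.S10357.result X hX s hs k φ hφi p (IsLocalRing.closedPoint k)
  obtain ⟨str, hstr⟩ : ∃ str : Spec (CommRingCat.of k) ⟶ S, str = Spec.map φ ≫ S.fromSpecResidueField s := ⟨_, rfl⟩
  obtain ⟨p', hp'⟩ : ∃ p' : (yon S).obj (Over.mk str) ⟶ X.obj, HEq p' p := by subst hstr; exact ⟨p, HEq.rfl⟩
  let p₀ : FieldPt X.obj := fieldPtOfHom k str p'
  have hp₀ : p₀.toHom = p' := toHom_fieldPtOfHom k str p'
  have hx : Points.ofPt p (IsLocalRing.closedPoint k) = Points.mk p₀ := by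
    have h := Points.ofPt_toHom p₀ (IsLocalRing.closedPoint k)
    rw [hp₀] at h
    subst hstr
    rw [← h]
    congr 1
    exact (eq_of_heq hp').symm
  rw [hx] at hxcl
  obtain ⟨q, hq, hqci⟩ := Groth.Agent.S10359.result X hX _ hxcl
  have hqimm : RepWith @IsImmersion q.toHom :=
    Groth.Agent.S10194.repWith_mono (fun _ _ f hf => by
      have : IsClosedImmersion f := hf
      exact inferInstanceAs (IsImmersion f)) hqci
  have hqm : Mono q.toHom := Groth.Agent.S9928.mono_of_repWith_mono _ hqimm
  obtain ⟨c, hc, -⟩ := Groth.Agent.S10215.result X q p₀ hq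
  have hcw : c.left ≫ q.str = str := Over.w c
  obtain ⟨d, ψ, hd, hψ, hcomp, hdint, hint_q⟩ :=
    Groth.Agent.S10357.isIntegralHom_str s hs k φ hφi q.str c.left (hcw.trans hstr)
  have hψfin : ψ.hom.Finite := by
    have h1 : (ψ.hom.comp d.hom).Finite := by rw [← CommRingCat.hom_comp, hcomp]; exact hφ
    exact RingHom.Finite.of_comp_finite h1
  have hcfin : IsFinite c.left := by rw [← hψ]; exact (IsFinite.SpecMap_iff ψ).2 hψfin
  have hqfin : RepWith @IsFinite q.toHom :=
    Groth.Agent.S10194.repWith_mono (fun _ _ f hf => by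
      have : IsClosedImmersion f := hf
      exact inferInstanceAs (IsFinite f)) hqci
  have hp'eq : p' = (yon S).map c ≫ q.toHom := by rw [hc, hp₀]
  have key1 : RepWith @IsFinite p' := by
    rw [hp'eq]
    exact (RepWith (S := S) @IsFinite).comp_mem _ _ ((repWith_yon_map_iff @IsFinite c).2 hcfin) hqfin
  have key2 : Function.Bijective φ.hom → RepWith @IsClosedImmersion p' := by
    intro hbij
    have hψsurj : Function.Surjective ψ.hom := by
      have h1 : Function.Surjective (ψ.hom.comp d.hom) := by
        rw [← CommRingCat.hom_comp, hcomp]; exact hbij.2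
      exact Function.Surjective.of_comp h1
    have hciso : IsIso c.left := by
      rw [← hψ]; exact isIso_SpecMap_iff.2 ⟨ψ.hom.injective, hψsurj⟩
    have hcci : IsClosedImmersion c.left := inferInstance
    rw [hp'eq]
    exact (RepWith (S := S) @IsClosedImmersion).comp_mem _ _
      ((repWith_yon_map_iff @IsClosedImmersion c).2 hcci) hqci
  subst hstr
  have := eq_of_heq hp'
  subst this
  exact ⟨key1, key2⟩

end Groth.Agent.S10358
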