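import Groth.Statements.S10361
import Groth.Agent.Lib.Helper5.FieldQuotChart
import Groth.Agent.Lib.Helper11.AlgSpBasic

set_option autoImplicit false
universe u
open CategoryTheory CategoryTheory.Limits AlgebraicGeometry Topology TopologicalSpace
open AlgSp

namespace Groth.Agent.S10361

/-- (5) ⇒ (4): let S be a scheme and X an algebraic space over S. Suppose k is any field and Spec k ⟶ X
is a morphism which is representable quasi-compact. Then the point of |X| it defines is represented
by a monomorphism Spec k' ⟶ X which is representable quasi-compact. -/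
theorem result {S : Scheme.{u}} (X : AlgSp.Space S)
    (q : AlgSp.FieldPt X.obj) (hq : AlgSp.RepWith @QuasiCompact q.toHom) :
    ∃ p : AlgSp.FieldPt X.obj, AlgSp.Points.mk p = AlgSp.Points.mk q ∧ Mono p.toHom ∧
      AlgSp.RepWith @QuasiCompact p.toHom := by
  open Groth.Agent.Lib.helper5.FieldQuot in
  obtain ⟨U, φ, hφe, hφs⟩ := X.property.atlas
  obtain ⟨u, hu⟩ := Groth.Agent.Lib.helper11.surjective_ofPt φ hφs (Points.mk q)
  have hq' : RepWith @QuasiCompact (FieldPt.ofPt φ u).toHom :=
    repWith_qc_of_mk_eq X.property q (FieldPt.ofPt φ u) hu hq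
  obtain ⟨p, c, hfac, hm, -, hpq⟩ := exists_mono_point_of_chart_qc X.property φ hφe u hq'
  exact ⟨p, (mk_eq_of_factor c hfac).trans hu, hm, hpq⟩

end Groth.Agent.S10361
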