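import Groth.Statements.S10363
import Groth.Agent.S10265
import Groth.Agent.Lib.Helper11.AlgSpBasic

set_option autoImplicit false
universe u
open CategoryTheory CategoryTheory.Limits AlgebraicGeometry Topology TopologicalSpace
open AlgSp

namespace Groth.Agent.S10363

open Groth.Agent.Lib.helper11

instance quasiCompact_fromSpecResidueField (U : Scheme.{u}) (x : U) :
    QuasiCompact (U.fromSpecResidueField x) := by
  rw [quasiCompact_iff]
  intro V _ _
  exact (Set.toFinite _).isCompact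

/-- A locally quasi-finite morphism from a quasi-compact scheme has finite fibres. -/
theorem finite_fibre_of_compact {W U : Scheme.{u}} (t : W ⟶ U) [LocallyQuasiFinite t]
    [CompactSpace W] (x : U) : (t ⁻¹' {x}).Finite := by
  have h1 : QuasiCompact (t.fiberι x) := by
    unfold Scheme.Hom.fiberι
    exact MorphismProperty.pullback_fst _ _ (quasiCompact_fromSpecResidueField U x)
  have h2 : CompactSpace (t.fiber x) := QuasiCompact.compactSpace_of_compactSpace (t.fiberι x)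
  have h3 : IsArtinianScheme (t.fiber x) := { }
  have h4 : Finite (t.fiber x) := inferInstance
  have := Set.finite_univ.image (t.fiberι x)
  simpa [Scheme.Hom.range_fiberι] using this

variable {S : Scheme.{u}}

theorem finite_inter_preimage {P U : Scheme.{u}} (q : P ⟶ U) [Etale q] (W : P.Opens)
    (hW : IsAffineOpen W) (Φ : Set U) (hΦ : Φ.Finite) : ((W : Set P) ∩ q ⁻¹' Φ).Finite := by
  have hWa : IsAffine (W : Scheme.{u}) := hW
  have hlqf : LocallyQuasiFinite (W.ι ≫ q) := Groth.Agent.S10265.lqf_of_etale _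
  have h1 : ((W.ι ≫ q) ⁻¹' Φ).Finite :=
    hΦ.preimage' fun b _ => finite_fibre_of_compact (W.ι ≫ q) b
  refine (h1.image W.ι).subset ?_
  rintro p ⟨hpW, hpΦ⟩
  exact ⟨⟨p, hpW⟩, by simpa using hpΦ, rfl⟩

theorem main (X : AlgSp.Space S)
    (x : AlgSp.Points X.obj) {ι : Type u} (U : ι → Over S)
    (φ : ∀ i, (AlgSp.yon S).obj (U i) ⟶ X.obj)
    (hφ : ∀ i, AlgSp.RepWith @Etale (φ i))
    (hsurj : ∀ y : AlgSp.Points X.obj, ∃ (i : ι) (v : ↥(U i).left), AlgSp.Points.ofPt (φ i) v = y)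
    (hfin : ∀ i, (AlgSp.Points.ofPt (φ i) ⁻¹' {x}).Finite)
    {V : Over S} [IsAffine V.left] (ψ : (AlgSp.yon S).obj V ⟶ X.obj)
    (hψ : AlgSp.RepWith @Etale ψ) :
    (AlgSp.Points.ofPt ψ ⁻¹' {x}).Finite := by
  classical
  have hP : ∀ i, ∃ (P : Over S) (q : P ⟶ U i) (pr : P ⟶ V),
      IsPullback ((yon S).map pr) ((yon S).map q) ψ (φ i) := by
    intro i
    obtain ⟨P, q, pr', sq⟩ := hψ.1 (φ i)
    obtain ⟨pr, rfl⟩ := (yon S).map_surjective pr'
    exact ⟨P, q, pr, sq⟩
  choose P q pr sq using hP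
  have hpr : ∀ i, Etale (pr i).left := fun i => (hφ i).2 _ _ _ (sq i).flip
  have hq : ∀ i, Etale (q i).left := fun i => hψ.2 _ _ _ (sq i)
  have hv : ∀ v : ↥V.left, ∃ (i : ι) (W : (P i).left.Opens), IsAffineOpen W ∧
      v ∈ (pr i).left '' (W : Set (P i).left) := by
    intro v
    obtain ⟨i, u, hu⟩ := hsurj (Points.ofPt ψ v)
    obtain ⟨p, hp1, hp2⟩ := exists_of_isPullback_schemes (sq i) v u hu.symm
    obtain ⟨W, hW, hpW, -⟩ := exists_isAffineOpen_mem_and_subset (x := p) (U := ⊤) trivial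
    exact ⟨i, W, hW, p, hpW, hp1⟩
  choose iv Wv hWv hvW using hv
  have hopen : ∀ v, IsOpen ((pr (iv v)).left '' (Wv v : Set (P (iv v)).left)) :=
    fun v => (pr (iv v)).left.isOpenMap _ (Wv v).isOpen
  obtain ⟨T, hT⟩ := isCompact_univ.elim_finite_subcover
    (fun v => (pr (iv v)).left '' (Wv v : Set (P (iv v)).left)) hopen
    (fun v _ => Set.mem_iUnion.2 ⟨v, hvW v⟩)
  refine Set.Finite.subset (s := ⋃ v ∈ T, (pr (iv v)).left ''
    ((Wv v : Set (P (iv v)).left) ∩ (q (iv v)).left ⁻¹' (Points.ofPt (φ (iv v)) ⁻¹' {x}))) ?_ ?_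
  · refine Set.Finite.biUnion T.finite_toSet fun v _ => Set.Finite.image _ ?_
    exact finite_inter_preimage (q (iv v)).left (Wv v) (hWv v) _ (hfin (iv v))
  · intro v hvx
    obtain ⟨v0, hv0T, p, hpW, hpv⟩ : ∃ v0 ∈ T, ∃ p ∈ (Wv v0 : Set (P (iv v0)).left),
        (pr (iv v0)).left p = v := by
      simpa using hT (Set.mem_univ v)
    refine Set.mem_iUnion₂.2 ⟨v0, hv0T, p, ⟨hpW, ?_⟩, hpv⟩
    have h1 := ofPt_comm (sq (iv v0)).w p
    change Points.ofPt (φ (iv v0)) ((q (iv v0)).left p) = x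
    rw [← h1, hpv]
    exact hvx

/-- Let X be an algebraic space over a scheme S and x ∈ |X|. If there is a family of etale maps U_i ⟶ X
from schemes, jointly surjective on points, each with finite fibre of |U_i| → |X| over x, then every
etale V ⟶ X with V an affine scheme has finite fibre of |V| → |X| over x. (The converse implication
is immediate.) -/
theorem result {S : Scheme.{u}} (X : AlgSp.Space S)
    (x : AlgSp.Points X.obj) {ι : Type u} (U : ι → Over S) (φ : ∀ i, (AlgSp.yon S).obj (U i) ⟶ X.obj)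
    (hφ : ∀ i, AlgSp.RepWith @Etale (φ i))
    (hsurj : ∀ y : AlgSp.Points X.obj, ∃ (i : ι) (v : ↥(U i).left), AlgSp.Points.ofPt (φ i) v = y)
    (hfin : ∀ i, (AlgSp.Points.ofPt (φ i) ⁻¹' {x}).Finite)
    {V : Over S} [IsAffine V.left] (ψ : (AlgSp.yon S).obj V ⟶ X.obj) (hψ : AlgSp.RepWith @Etale ψ) :
    (AlgSp.Points.ofPt ψ ⁻¹' {x}).Finite := by
  exact main X x U φ hφ hsurj hfin ψ hψ

end Groth.Agent.S10363
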