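import Groth.Statements.S10364
import Groth.Agent.Lib.Helper5.FieldQuotFinite
import Groth.Agent.S10363
import Groth.Agent.S10343
import Groth.Agent.S10196
import Groth.Agent.S10194

set_option autoImplicit false
universe u
open CategoryTheory CategoryTheory.Limits AlgebraicGeometry Topology TopologicalSpace
open AlgSp

namespace Groth.Agent.S10364

open Groth.Agent.Lib.helper5 Groth.Agent.Lib.helper5.FieldQuot

/-- Let X be an algebraic space over a scheme S with a Zariski covering by open subspaces X_i ⟶ X. If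
each X_i is decent then X is decent. -/
theorem result {S : Scheme.{u}} (X : AlgSp.Space S) {ι : Type u} (Xi : ι → AlgSp.Space S)
    (j : ∀ i, Xi i ⟶ X) (hj : AlgSp.IsZarCover (fun i => (Xi i).obj) (fun i => (j i).hom))
    (hd : ∀ i, AlgSp.IsDecent (Xi i).obj) : AlgSp.IsDecent X.obj := by
  have hle : (@IsOpenImmersion : MorphismProperty Scheme.{u}) ≤ @Etale := fun A B g hg => by
    have : IsOpenImmersion g := hg
    infer_instance
  have hle' : (@IsOpenImmersion : MorphismProperty Scheme.{u}) ≤ @IsImmersion := fun A B g hg => by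
    have : IsOpenImmersion g := hg
    infer_instance
  have hjm : ∀ i, Mono (j i).hom := fun i =>
    Groth.Agent.S9928.mono_of_repWith_mono _ (Groth.Agent.S10194.repWith_mono hle' (hj.1 i))
  have hje : ∀ i, RepWith @Etale (j i).hom := fun i => Groth.Agent.S10194.repWith_mono hle (hj.1 i)
  have hjinj : ∀ i, Function.Injective (Points.map (j i).hom) := fun i =>
    have := hjm i
    Groth.Agent.S10196.injective_map_of_mono (j i).hom
  -- atlases of the `X_i`
  choose U a hae has using fun i => (Xi i).property.atlas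
  intro x
  obtain ⟨i, xi, hxi⟩ := hj.2 x
  obtain ⟨pi, hpi, hmi, hqi⟩ := hd i xi
  have hp : Points.mk (pi.map (j i).hom) = x := by
    rw [← Points.map_mk, hpi, hxi]
  have hm : Mono (pi.map (j i).hom).toHom := by
    rw [FieldPt.toHom_map]
    exact @mono_comp _ _ _ _ _ _ hmi _ (hjm i)
  refine ⟨pi.map (j i).hom, hp, hm, ?_⟩
  refine repWith_qc_of_finite_fibres X.property _ hm ?_
  intro V ψ hV hψ
  rw [hp]
  -- the family of affine charts
  let κ : Type u := Σ k : ι, (U k).left.affineOpens
  let W : κ → Over S := fun c => OpenSub.subOver (U c.1) c.2.1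
  let φ : ∀ c : κ, (yon S).obj (W c) ⟶ X.obj := fun c =>
    (yon S).map (OpenSub.subOverι (U c.1) c.2.1) ≫ a c.1 ≫ (j c.1).hom
  have hφ : ∀ c, RepWith @Etale (φ c) := fun c =>
    (RepWith (S := S) @Etale).comp_mem _ _
      ((repWith_yon_map_iff @Etale (OpenSub.subOverι (U c.1) c.2.1)).2 (inferInstanceAs (Etale c.2.1.ι)))
      ((RepWith (S := S) @Etale).comp_mem _ _ (hae c.1) (hje c.1))
  refine Groth.Agent.S10363.result X x W φ hφ ?_ ?_ ψ hψ
  · intro y
    obtain ⟨k, yk, hyk⟩ := hj.2 y
    obtain ⟨u, hu⟩ := Groth.Agent.Lib.helper11.surjective_ofPt (a k) (has k) yk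
    obtain ⟨D, hD, huD, -⟩ := exists_isAffineOpen_mem_and_subset (x := u) (U := (⊤ : (U k).left.Opens)) trivial
    refine ⟨⟨k, ⟨D, hD⟩⟩, ⟨u, huD⟩, ?_⟩
    change Points.ofPt ((yon S).map (OpenSub.subOverι (U k) D) ≫ a k ≫ (j k).hom) _ = y
    rw [Groth.Agent.Lib.helper11.ofPt_yon_map_comp, ← Points.map_ofPt]
    change Points.map (j k).hom (Points.ofPt (a k) u) = y
    rw [hu, hyk]
  · intro c
    by_cases hx : ∃ xk : Points (Xi c.1).obj, Points.map (j c.1).hom xk = x
    · obtain ⟨xk, hxk⟩ := hx
      obtain ⟨pk, hpk, hmk, hqk⟩ := hd c.1 xk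
      have hW : IsAffine (W c).left := c.2.2
      have hfin := Groth.Agent.S10343.finite_fibre_of_qc_point pk hqk
        ((yon S).map (OpenSub.subOverι (U c.1) c.2.1) ≫ a c.1)
        ((RepWith (S := S) @Etale).comp_mem _ _
          ((repWith_yon_map_iff @Etale (OpenSub.subOverι (U c.1) c.2.1)).2 (inferInstanceAs (Etale c.2.1.ι)))
          (hae c.1))
      refine hfin.subset ?_
      intro w hw
      change Points.ofPt (((yon S).map (OpenSub.subOverι (U c.1) c.2.1) ≫ a c.1)) w = Points.mk pk
      apply hjinj c.1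
      rw [hpk, hxk, Points.map_ofPt, Category.assoc]
      exact hw
    · convert Set.finite_empty
      ext w
      simp only [Set.mem_preimage, Set.mem_singleton_iff, Set.mem_empty_iff_false, iff_false]
      intro hw
      apply hx
      refine ⟨Points.ofPt ((yon S).map (OpenSub.subOverι (U c.1) c.2.1) ≫ a c.1) w, ?_⟩
      rw [Points.map_ofPt, Category.assoc]
      exact hw

end Groth.Agent.S10364
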