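import Groth.Statements.S10367
import Groth.Agent.S10365
import Groth.Agent.S10265

set_option autoImplicit false
universe u
open CategoryTheory CategoryTheory.Limits AlgebraicGeometry Topology TopologicalSpace
open AlgSp

namespace Groth.Agent.S10367

variable {S : Scheme.{u}}

/-- A locally finite type morphism to a scheme followed by a representable etale morphism is locally of
finite type on all etale charts. -/
theorem locP_lft_yon_map_comp {Z : Sp S} {U T : Over S} (g : T ⟶ U)
    [LocallyOfFiniteType g.left] (a : (yon S).obj U ⟶ Z) (ha : RepWith @Etale a) :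
    LocP @LocallyOfFiniteType ((yon S).map g ≫ a) := by
  intro A B a' b h ha' hb hsq
  obtain ⟨a0, rfl⟩ := (yon S).map_surjective a'
  have ha0 : Etale a0.left := (repWith_yon_map_iff @Etale a0).1 ha'
  obtain ⟨W, snd, fst, hpb⟩ := hb.rep a
  obtain ⟨φ, rfl⟩ := (yon S).map_surjective fst
  have hsnd : Etale snd.left := hb.property a _ snd hpb
  have hφ : Etale φ.left := ha.property b _ φ hpb.flip
  -- the induced morphism `A ⟶ W`
  have e : (yon S).map h ≫ b = (yon S).map (a0 ≫ g) ≫ a := by
    rw [Functor.map_comp, Category.assoc, hsq]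
  obtain ⟨l, hl1, hl2⟩ := hpb.exists_lift ((yon S).map h) ((yon S).map (a0 ≫ g)) e
  obtain ⟨l0, rfl⟩ := (yon S).map_surjective l
  have e1 : l0 ≫ φ = h := by
    apply (yon S).map_injective
    rw [Functor.map_comp, hl1]
  have e2 : l0 ≫ snd = a0 ≫ g := by
    apply (yon S).map_injective
    rw [Functor.map_comp, hl2]
  have e2' : l0.left ≫ snd.left = a0.left ≫ g.left := by
    rw [← Over.comp_left, ← Over.comp_left, e2]
  have : LocallyOfFiniteType (l0.left ≫ snd.left) := by rw [e2']; infer_instance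
  have : LocallyOfFiniteType l0.left := locallyOfFiniteType_of_comp l0.left snd.left
  rw [← e1, Over.comp_left]
  infer_instance

theorem main (Z : AlgSp.Space S)
    (k : Type u) [Field k] (str : Spec (CommRingCat.of k) ⟶ S)
    (p : (AlgSp.yon S).obj (Over.mk str) ⟶ Z.obj)
    (hpf : AlgSp.LocP @Flat p) (hps : AlgSp.IsSurjectiveMor p) :
    ∃ (k' : Type u) (_ : Field k') (str' : Spec (CommRingCat.of k') ⟶ S)
      (q : (AlgSp.yon S).obj (Over.mk str') ⟶ Z.obj),
      AlgSp.LocP @LocallyOfFiniteType q ∧ AlgSp.LocP @Flat q ∧ AlgSp.IsSurjectiveMor q := by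
  obtain ⟨U, a, hae, has⟩ := Z.property.atlas
  obtain ⟨u, -⟩ := Groth.Agent.Lib.helper11.surjective_ofPt a has
    (Points.ofPt p (IsLocalRing.closedPoint k : ↥(Spec (CommRingCat.of k))))
  obtain ⟨W, hW, huW, -⟩ := exists_isAffineOpen_mem_and_subset (x := u) (U := ⊤) trivial
  -- a point of `Spec Γ(U, W)` and a maximal ideal above it
  have hu' : u ∈ Set.range hW.fromSpec := by rw [hW.range_fromSpec]; exact huW
  obtain ⟨x, -⟩ := hu'
  obtain ⟨m, hm, -⟩ := Ideal.exists_le_maximal x.asIdeal x.isPrime.ne_top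
  let g0 : Spec (CommRingCat.of (Γ(U.left, W) ⧸ m)) ⟶ U.left :=
    Spec.map (CommRingCat.ofHom (Ideal.Quotient.mk m)) ≫ hW.fromSpec
  have hg0 : LocallyOfFiniteType g0 := by
    have : LocallyOfFiniteType (Spec.map (CommRingCat.ofHom (Ideal.Quotient.mk m))) := by
      rw [HasRingHomProperty.Spec_iff (P := @LocallyOfFiniteType)]
      exact RingHom.FiniteType.of_surjective _ Ideal.Quotient.mk_surjective
    infer_instance
  let g : Over.mk (g0 ≫ U.hom) ⟶ U := Over.homMk g0 rfl
  have : LocallyOfFiniteType g.left := hg0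
  refine ⟨Γ(U.left, W) ⧸ m, Ideal.Quotient.field m, g0 ≫ U.hom, (yon S).map g ≫ a,
    locP_lft_yon_map_comp g a hae, ?_⟩
  have : m.IsMaximal := hm
  exact @Groth.Agent.S10365.main _ Z k _ str p hpf hps _ (Ideal.Quotient.field m) _ _

/-- (2) ⇒ (3): if an algebraic space Z over a scheme S admits a surjective flat morphism Spec k ⟶ Z with
k a field, then it also admits such a morphism which is moreover locally of finite type. -/
theorem result {S : Scheme.{u}} (Z : AlgSp.Space S)
    (k : Type u) [Field k] (str : Spec (CommRingCat.of k) ⟶ S) (p : (AlgSp.yon S).obj (Over.mk str) ⟶ Z.obj)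
    (hpf : AlgSp.LocP @Flat p) (hps : AlgSp.IsSurjectiveMor p) :
    ∃ (k' : Type u) (_ : Field k') (str' : Spec (CommRingCat.of k') ⟶ S) (q : (AlgSp.yon S).obj (Over.mk str') ⟶ Z.obj),
      AlgSp.LocP @LocallyOfFiniteType q ∧ AlgSp.LocP @Flat q ∧ AlgSp.IsSurjectiveMor q := by
  exact main Z k str p hpf hps

end Groth.Agent.S10367
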