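import Groth.Statements.S10368
import Groth.Agent.S10365
import Groth.Agent.S10366
import Groth.Agent.S10265

set_option autoImplicit false
universe u
open CategoryTheory CategoryTheory.Limits AlgebraicGeometry Topology TopologicalSpace
open AlgSp

namespace Groth.Agent.S10368

/-- A ring with a faithfully flat Noetherian algebra is Noetherian. -/
theorem isNoetherianRing_of_faithfullyFlat {R A : Type u} [CommRing R] [CommRing A]
    (φ : R →+* A) (hφ : φ.FaithfullyFlat) [IsNoetherianRing A] : IsNoetherianRing R := by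
  algebraize [φ]
  have : Module.FaithfullyFlat R A := hφ
  have h : IsNoetherian A (TensorProduct R A R) :=
    isNoetherian_of_linearEquiv (TensorProduct.AlgebraTensorModule.rid R A A).symm
  exact Submodule.IsNoetherian.of_isNoetherian_tensorProduct_of_faithfullyFlat (A := A) h

/-- Local Noetherianity descends along flat surjective open morphisms. -/
theorem isLocallyNoetherian_of_flat_surjective {T U : Scheme.{u}} (f : T ⟶ U) [Flat f]
    [Surjective f] (hopen : IsOpenMap f) [IsLocallyNoetherian T] : IsLocallyNoetherian U := by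
  have key : ∀ u : U, ∃ D : U.Opens, IsAffineOpen D ∧ u ∈ D ∧ IsNoetherianRing Γ(U, D) := by
    intro u
    obtain ⟨V, hV, huV, -⟩ := exists_isAffineOpen_mem_and_subset (x := u) (U := ⊤) trivial
    obtain ⟨t, rfl⟩ := f.surjective u
    obtain ⟨W, hW, htW, hWV⟩ := exists_isAffineOpen_mem_and_subset (x := t) (U := f ⁻¹ᵁ V) huV
    let O : U.Opens := ⟨f '' (W : Set T), hopen _ W.isOpen⟩
    have hO : f t ∈ O := ⟨t, htW, rfl⟩
    obtain ⟨r, hrO, hr⟩ := hV.exists_basicOpen_le (V := O) ⟨f t, hO⟩ huV
    let W' : T.Opens := T.basicOpen (f.appLE V W hWV r)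
    have hW' : IsAffineOpen W' := hW.basicOpen _
    have hD : IsAffineOpen (U.basicOpen r) := hV.basicOpen r
    have hW'eq : W' = W ⊓ f ⁻¹ᵁ (U.basicOpen r) := Scheme.basicOpen_appLE f W V hWV r
    have e : W' ≤ f ⁻¹ᵁ (U.basicOpen r) := by rw [hW'eq]; exact inf_le_right
    refine ⟨U.basicOpen r, hD, hr, ?_⟩
    let g := f.resLE (U.basicOpen r) W' e
    have : IsAffine (W' : Scheme) := hW'
    have : IsAffine ((U.basicOpen r) : Scheme) := hD
    have hgs : Surjective g := by
      refine ⟨fun d => ?_⟩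
      obtain ⟨w, hwW, hw⟩ := hrO d.2
      have hwW' : w ∈ W' := by
        rw [hW'eq]
        refine ⟨hwW, ?_⟩
        show f w ∈ U.basicOpen r
        rw [hw]; exact d.2
      refine ⟨⟨w, hwW'⟩, ?_⟩
      apply Subtype.ext
      simp [g, hw]
    have hff : g.appTop.hom.FaithfullyFlat :=
      (Flat.flat_and_surjective_iff_faithfullyFlat_of_isAffine g).1 ⟨inferInstance, hgs⟩
    have hN : IsNoetherianRing Γ(W', ⊤) :=
      IsLocallyNoetherian.component_noetherian ⟨⊤, isAffineOpen_top _⟩
    have hN' : IsNoetherianRing Γ(U.basicOpen r, ⊤) :=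
      isNoetherianRing_of_faithfullyFlat _ hff
    exact isNoetherianRing_of_ringEquiv _ (U.basicOpen r).topIso.commRingCatIsoToRingEquiv
  choose D hD huD hN using key
  refine isLocallyNoetherian_of_affine_cover (S := fun u : U => ⟨D u, hD u⟩) ?_ hN
  rw [eq_top_iff]
  intro u _
  exact Opens.mem_iSup.2 ⟨u, huD u⟩


variable {S : Scheme.{u}}

/-- Local finite presentation cancels on the right against etale morphisms. -/
theorem lfp_of_comp_etale {A B C : Scheme.{u}} (k : A ⟶ B) (b : B ⟶ C) [Etale b]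
    [LocallyOfFinitePresentation (k ≫ b)] : LocallyOfFinitePresentation k := by
  have : MorphismProperty.IsMultiplicative @LocallyOfFinitePresentation :=
    { id_mem := fun _ => inferInstance }
  have : MorphismProperty.HasOfPostcompProperty @LocallyOfFinitePresentation @Etale := by
    rw [MorphismProperty.hasOfPostcompProperty_iff_le_diagonal]
    intro X Y f hf
    have : Etale f := hf
    have : Etale (pullback.diagonal f) := inferInstance
    exact inferInstanceAs <| LocallyOfFinitePresentation (pullback.diagonal f)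
  exact MorphismProperty.of_postcomp (W := @LocallyOfFinitePresentation) (W' := @Etale) k b ‹_› ‹_›

/-- A locally finitely presented morphism to a scheme followed by a representable etale morphism is
locally of finite presentation on all etale charts. -/
theorem locP_lfp_yon_map_comp {Z : Sp S} {U T : Over S} (g : T ⟶ U)
    [LocallyOfFinitePresentation g.left] (a : (yon S).obj U ⟶ Z) (ha : RepWith @Etale a) :
    LocP @LocallyOfFinitePresentation ((yon S).map g ≫ a) := by
  intro A B a' b h ha' hb hsq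
  obtain ⟨a0, rfl⟩ := (yon S).map_surjective a'
  have ha0 : Etale a0.left := (repWith_yon_map_iff @Etale a0).1 ha'
  obtain ⟨W, snd, fst, hpb⟩ := hb.rep a
  obtain ⟨φ, rfl⟩ := (yon S).map_surjective fst
  have hsnd : Etale snd.left := hb.property a _ snd hpb
  have hφ : Etale φ.left := ha.property b _ φ hpb.flip
  have e : (yon S).map h ≫ b = (yon S).map (a0 ≫ g) ≫ a := by
    rw [Functor.map_comp, Category.assoc, hsq]
  obtain ⟨l, hl1, hl2⟩ := hpb.exists_lift ((yon S).map h) ((yon S).map (a0 ≫ g)) e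
  obtain ⟨l0, rfl⟩ := (yon S).map_surjective l
  have e1 : l0 ≫ φ = h := by
    apply (yon S).map_injective
    rw [Functor.map_comp, hl1]
  have e2 : l0 ≫ snd = a0 ≫ g := by
    apply (yon S).map_injective
    rw [Functor.map_comp, hl2]
  have e2' : l0.left ≫ snd.left = a0.left ≫ g.left := by
    rw [← Over.comp_left, ← Over.comp_left, e2]
  have : LocallyOfFinitePresentation (l0.left ≫ snd.left) := by rw [e2']; infer_instance
  have : LocallyOfFinitePresentation l0.left := lfp_of_comp_etale l0.left snd.left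
  rw [← e1, Over.comp_left]
  infer_instance

open Groth.Agent.S10365 Groth.Agent.S10366 Groth.Agent.Lib.helper11 in
theorem forward (Z : AlgSp.Space S)
    (hR : AlgSp.EtaleLocally (fun U => IsReduced U) Z.obj) (hN : AlgSp.IsLocNoethSp Z.obj)
    (hne : Nonempty (AlgSp.Points Z.obj)) (hsub : Subsingleton (AlgSp.Points Z.obj)) :
    ∃ (k : Type u) (_ : Field k) (str : Spec (CommRingCat.of k) ⟶ S)
      (p : (AlgSp.yon S).obj (Over.mk str) ⟶ Z.obj),
      AlgSp.LocP @LocallyOfFinitePresentation p ∧ AlgSp.LocP @Flat p ∧ AlgSp.IsSurjectiveMor p := by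
  obtain ⟨k, hk, str, p, hpf, hps⟩ := Groth.Agent.S10366.forward Z hR hne hsub
  obtain ⟨U, a, hae, has, hUN⟩ := hN
  have hUN' : IsLocallyNoetherian U.left := hUN
  obtain ⟨z⟩ := hne
  obtain ⟨u, -⟩ := surjective_ofPt a has z
  obtain ⟨W, hW, huW, -⟩ := exists_isAffineOpen_mem_and_subset (x := u) (U := ⊤) trivial
  have hu' : u ∈ Set.range hW.fromSpec := by rw [hW.range_fromSpec]; exact huW
  obtain ⟨x, -⟩ := hu'
  obtain ⟨m, hm, -⟩ := Ideal.exists_le_maximal x.asIdeal x.isPrime.ne_top
  let g0 : Spec (CommRingCat.of (Γ(U.left, W) ⧸ m)) ⟶ U.left :=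
    Spec.map (CommRingCat.ofHom (Ideal.Quotient.mk m)) ≫ hW.fromSpec
  have hg0 : LocallyOfFiniteType g0 := by
    have : LocallyOfFiniteType (Spec.map (CommRingCat.ofHom (Ideal.Quotient.mk m))) := by
      rw [HasRingHomProperty.Spec_iff (P := @LocallyOfFiniteType)]
      exact RingHom.FiniteType.of_surjective _ Ideal.Quotient.mk_surjective
    infer_instance
  have hg0' : LocallyOfFinitePresentation g0 := inferInstance
  let g : Over.mk (g0 ≫ U.hom) ⟶ U := Over.homMk g0 rfl
  have : LocallyOfFinitePresentation g.left := hg0'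
  refine ⟨Γ(U.left, W) ⧸ m, Ideal.Quotient.field m, g0 ≫ U.hom, (yon S).map g ≫ a,
    locP_lfp_yon_map_comp g a hae, ?_⟩
  have : m.IsMaximal := hm
  exact @Groth.Agent.S10365.main _ Z k _ str p hpf hps _ (Ideal.Quotient.field m) _ _

open Groth.Agent.S10365 Groth.Agent.S10366 Groth.Agent.Lib.helper11 in
theorem backward (Z : AlgSp.Space S) (k : Type u) [Field k] (str : Spec (CommRingCat.of k) ⟶ S)
    (p : (AlgSp.yon S).obj (Over.mk str) ⟶ Z.obj)
    (hpp : AlgSp.LocP @LocallyOfFinitePresentation p) (hpf : AlgSp.LocP @Flat p)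
    (hps : AlgSp.IsSurjectiveMor p) :
    AlgSp.EtaleLocally (fun U => IsReduced U) Z.obj ∧ AlgSp.IsLocNoethSp Z.obj ∧
      Nonempty (AlgSp.Points Z.obj) ∧ Subsingleton (AlgSp.Points Z.obj) := by
  obtain ⟨h1, h2, h3⟩ := Groth.Agent.S10366.backward Z k str p hpf hps
  refine ⟨h1, ?_, h2, h3⟩
  let s0 : ↥(Over.mk str).left := (IsLocalRing.closedPoint k : ↥(Spec (CommRingCat.of k)))
  obtain ⟨U, a, hae, has⟩ := Z.property.atlas
  refine ⟨U, a, hae, has, ?_⟩
  obtain ⟨T, c, h', sq⟩ := hae.1 p
  obtain ⟨h, rfl⟩ := (yon S).map_surjective h'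
  have hc : Etale c.left := hae.2 _ _ _ sq
  have hflat : Flat h.left :=
    hpf ((yon S).map c) a h ((repWith_yon_map_iff @Etale c).2 hc) hae sq.w.symm
  have hlfp : LocallyOfFinitePresentation h.left :=
    hpp ((yon S).map c) a h ((repWith_yon_map_iff @Etale c).2 hc) hae sq.w.symm
  have hsurj : Surjective h.left := by
    refine ⟨fun u => ?_⟩
    have hu : Points.ofPt a u = Points.ofPt p s0 := eq_mk_of_surjective k str p hps _
    obtain ⟨τ, hτ, -⟩ := exists_of_isPullback_schemes sq u s0 hu
    exact ⟨τ, hτ⟩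
  have hT : IsLocallyNoetherian T.left :=
    LocallyOfFiniteType.isLocallyNoetherian (Y := Spec (CommRingCat.of k)) c.left
  exact isLocallyNoetherian_of_flat_surjective h.left h.left.isOpenMap

theorem main (Z : AlgSp.Space S) :
    (AlgSp.EtaleLocally (fun U => IsReduced U) Z.obj ∧ AlgSp.IsLocNoethSp Z.obj ∧ Nonempty (AlgSp.Points Z.obj) ∧ Subsingleton (AlgSp.Points Z.obj)) ↔
      ∃ (k : Type u) (_ : Field k) (str : Spec (CommRingCat.of k) ⟶ S) (p : (AlgSp.yon S).obj (Over.mk str) ⟶ Z.obj),
        AlgSp.LocP @LocallyOfFinitePresentation p ∧ AlgSp.LocP @Flat p ∧ AlgSp.IsSurjectiveMor p := by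
  constructor
  · rintro ⟨h1, h2, h3, h4⟩
    exact forward Z h1 h2 h3 h4
  · rintro ⟨k, hk, str, p, hpp, hpf, hps⟩
    exact backward Z k str p hpp hpf hps

/-- An algebraic space Z over a scheme S is reduced, locally Noetherian and has |Z| a single point if
and only if there is a locally finitely presented, flat, surjective morphism Spec k ⟶ Z from the
spectrum of a field. -/
theorem result {S : Scheme.{u}} (Z : AlgSp.Space S) :
    (AlgSp.EtaleLocally (fun U => IsReduced U) Z.obj ∧ AlgSp.IsLocNoethSp Z.obj ∧ Nonempty (AlgSp.Points Z.obj) ∧ Subsingleton (AlgSp.Points Z.obj)) ↔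
      ∃ (k : Type u) (_ : Field k) (str : Spec (CommRingCat.of k) ⟶ S) (p : (AlgSp.yon S).obj (Over.mk str) ⟶ Z.obj),
        AlgSp.LocP @LocallyOfFinitePresentation p ∧ AlgSp.LocP @Flat p ∧ AlgSp.IsSurjectiveMor p := by
  exact main Z

end Groth.Agent.S10368
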