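import Groth.Statements.S10369
import Groth.Agent.S9929
import Groth.Agent.S9885
import Groth.Agent.S10194
import Groth.Agent.Lib.Helper5.AlgSpFibreProduct
import Groth.Agent.Lib.Helper11.AlgSpBasic

set_option autoImplicit false
universe u
open CategoryTheory CategoryTheory.Limits AlgebraicGeometry Topology TopologicalSpace
open AlgSp

namespace Groth.Agent.S10369

open Groth.Agent.Lib.helper11

variable {S : Scheme.{u}}

/-- A flat, lfp morphism of algebraic spaces which is surjective on points is an epimorphism of fppf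
sheaves. -/
theorem epi_of_fppf_surjective {X Z : Sp S} (hX : IsAlgSpace X) (hZ : IsAlgSpace Z) (p : X ⟶ Z)
    (hlfp : LocP @LocallyOfFinitePresentation p) (hfl : LocP @Flat p) (hs : IsSurjectiveMor p) :
    Epi p := by
  obtain ⟨V, b, hbe, hbs⟩ := hZ.atlas
  have sq : IsPullback (pullback.fst p b) (pullback.snd p b) p b := IsPullback.of_hasPullback _ _
  have hW : IsAlgSpace (pullback p b) :=
    Groth.Agent.Lib.helper5.isAlgSpace_of_isPullback hZ.diag hX (IsAlgSpace.yon_obj V) sq
  obtain ⟨U, a0, hae, has⟩ := hW.atlas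
  obtain ⟨h, hh⟩ := (yon S).map_surjective (a0 ≫ pullback.snd p b)
  have hfe : RepWith @Etale (pullback.fst p b) :=
    (RepWith (S := S) @Etale).of_isPullback sq.flip hbe
  have hae' : RepWith @Etale (a0 ≫ pullback.fst p b) :=
    (RepWith (S := S) @Etale).comp_mem _ _ hae hfe
  have hcomm : (a0 ≫ pullback.fst p b) ≫ p = (yon S).map h ≫ b := by
    rw [Category.assoc, sq.w, hh, Category.assoc]
  have : Flat h.left := hfl _ _ h hae' hbe hcomm
  have : LocallyOfFinitePresentation h.left := hlfp _ _ h hae' hbe hcomm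
  have : Surjective h.left := by
    refine ⟨fun v => ?_⟩
    obtain ⟨x, hx⟩ := hs (Points.ofPt b v)
    rw [Points.ofPt_eq_map_ofScheme] at hx
    obtain ⟨w, -, hw⟩ := Groth.Agent.Lib.helper10.exists_point_of_isPullback sq x _ hx
    obtain ⟨u, rfl⟩ := surjective_ofPt a0 has w
    rw [Points.map_ofPt, ← hh, ofPt_yon_map] at hw
    exact ⟨u, (Points.schemeEquiv V).injective hw⟩
  have h1 := Groth.Agent.S9929.isLocallySurjective_yon_map h
  have : Epi ((yon S).map h) := inferInstance
  have h2 : Sheaf.IsLocallySurjective b := Groth.Agent.S9885.result S _ _ b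
    (Groth.Agent.S10194.repWith_mono (fun _ _ f hf => by
      have : Etale f := hf
      exact inferInstanceAs (Flat f)) hbe)
    (Groth.Agent.S10194.repWith_mono (fun _ _ f hf => by
      have : Etale f := hf
      exact inferInstanceAs (LocallyOfFinitePresentation f)) hbe) hbs
  have : Epi b := inferInstance
  have : Epi ((yon S).map h ≫ b) := epi_comp _ _
  exact epi_of_epi_fac hcomm

theorem main {Z' Z : AlgSp.Space S} (f : Z' ⟶ Z) [Mono f.hom]
    (hZ : ∃ (k : Type u) (_ : Field k) (str : Spec (CommRingCat.of k) ⟶ S) (p : (AlgSp.yon S).obj (Over.mk str) ⟶ Z.obj),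
        AlgSp.LocP @LocallyOfFinitePresentation p ∧ AlgSp.LocP @Flat p ∧ AlgSp.IsSurjectiveMor p) :
    IsEmpty (AlgSp.Points Z'.obj) ∨ IsIso f := by
  obtain ⟨k, _, str, p, hlfp, hfl, hs⟩ := hZ
  have hepi : Epi p := epi_of_fppf_surjective (IsAlgSpace.yon_obj _) Z.property p hlfp hfl hs
  have sq : IsPullback (pullback.fst f.hom p) (pullback.snd f.hom p) f.hom p :=
    IsPullback.of_hasPullback _ _
  have hW : IsAlgSpace (pullback f.hom p) :=
    Groth.Agent.Lib.helper5.isAlgSpace_of_isPullback Z.property.diag Z'.property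
      (IsAlgSpace.yon_obj _) sq
  let W : AlgSp.Space S := ⟨pullback f.hom p, hW⟩
  let g : W ⟶ (AlgSp.ofScheme S).obj (Over.mk str) := ObjectProperty.homMk (pullback.snd f.hom p)
  have : Mono g.hom := inferInstanceAs (Mono (pullback.snd f.hom p))
  rcases Groth.Agent.S9929.result str W g with hE | hI
  · left
    refine ⟨fun z' => ?_⟩
    obtain ⟨t, ht⟩ := hs (Points.map f.hom z')
    obtain ⟨w, -, -⟩ := Groth.Agent.Lib.helper10.exists_point_of_isPullback sq z' t ht.symm
    exact hE.false w
  · right
    have hI' : IsIso (pullback.snd f.hom p) :=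
      inferInstanceAs (IsIso ((ObjectProperty.ι (IsAlgSpace (S := S))).map g))
    have hfac : (inv (pullback.snd f.hom p) ≫ pullback.fst f.hom p) ≫ f.hom = p := by
      rw [Category.assoc, sq.w, IsIso.inv_hom_id_assoc]
    have : Epi f.hom := epi_of_epi_fac hfac
    have : IsIso f.hom := isIso_of_mono_of_epi f.hom
    have : IsIso ((ObjectProperty.ι (IsAlgSpace (S := S))).map f) := ‹IsIso f.hom›
    exact isIso_of_reflects_iso f (ObjectProperty.ι (IsAlgSpace (S := S)))

/-- Let S be a scheme, Z' and Z algebraic spaces over S, and Z' ⟶ Z a monomorphism, and suppose there is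
a locally finitely presented, flat, surjective morphism Spec k ⟶ Z from the spectrum of a field.
Then Z' is empty or Z' ⟶ Z is an isomorphism. -/
theorem result {S : Scheme.{u}} {Z' Z : AlgSp.Space S} (f : Z' ⟶ Z)
    [Mono f.hom]
    (hZ : ∃ (k : Type u) (_ : Field k) (str : Spec (CommRingCat.of k) ⟶ S) (p : (AlgSp.yon S).obj (Over.mk str) ⟶ Z.obj),
        AlgSp.LocP @LocallyOfFinitePresentation p ∧ AlgSp.LocP @Flat p ∧ AlgSp.IsSurjectiveMor p) :
    IsEmpty (AlgSp.Points Z'.obj) ∨ IsIso f := by
  exact main f hZ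

end Groth.Agent.S10369
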