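import Groth.Statements.S10371
import Groth.Agent.S10369

set_option autoImplicit false
universe u
open CategoryTheory CategoryTheory.Limits AlgebraicGeometry Topology TopologicalSpace
open AlgSp

namespace Groth.Agent.S10371

variable {S : Scheme.{u}}

theorem main (X : AlgSp.Space S) (x : AlgSp.Points X.obj)
    {Z Z' : AlgSp.Space S} (i : Z ⟶ X) (i' : Z' ⟶ X) [Mono i.hom] [Mono i'.hom]
    (hi : Set.range (AlgSp.Points.map i.hom) = {x}) (hi' : Set.range (AlgSp.Points.map i'.hom) = {x})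
    (hZ : ∃ (k : Type u) (_ : Field k) (str : Spec (CommRingCat.of k) ⟶ S) (p : (AlgSp.yon S).obj (Over.mk str) ⟶ Z.obj),
        AlgSp.LocP @LocallyOfFinitePresentation p ∧ AlgSp.LocP @Flat p ∧ AlgSp.IsSurjectiveMor p)
    (hZ' : ∃ (k : Type u) (_ : Field k) (str : Spec (CommRingCat.of k) ⟶ S) (p : (AlgSp.yon S).obj (Over.mk str) ⟶ Z'.obj),
        AlgSp.LocP @LocallyOfFinitePresentation p ∧ AlgSp.LocP @Flat p ∧ AlgSp.IsSurjectiveMor p) :
    ∃ e : Z' ≅ Z, e.hom ≫ i = i' := by
  have sq : IsPullback (pullback.fst i.hom i'.hom) (pullback.snd i.hom i'.hom) i.hom i'.hom :=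
    IsPullback.of_hasPullback _ _
  have hW : IsAlgSpace (pullback i.hom i'.hom) :=
    Groth.Agent.Lib.helper5.isAlgSpace_of_isPullback X.property.diag Z.property Z'.property sq
  let W : AlgSp.Space S := ⟨pullback i.hom i'.hom, hW⟩
  let pr1 : W ⟶ Z := ObjectProperty.homMk (pullback.fst i.hom i'.hom)
  let pr2 : W ⟶ Z' := ObjectProperty.homMk (pullback.snd i.hom i'.hom)
  have hm1 : Mono pr1.hom := inferInstanceAs (Mono (pullback.fst i.hom i'.hom))
  have hm2 : Mono pr2.hom := inferInstanceAs (Mono (pullback.snd i.hom i'.hom))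
  -- `W` has a point
  have hne : Nonempty (AlgSp.Points W.obj) := by
    have hz : x ∈ Set.range (AlgSp.Points.map i.hom) := by rw [hi]; rfl
    have hz' : x ∈ Set.range (AlgSp.Points.map i'.hom) := by rw [hi']; rfl
    obtain ⟨z, hz⟩ := hz
    obtain ⟨z', hz'⟩ := hz'
    obtain ⟨w, -, -⟩ :=
      Groth.Agent.Lib.helper10.exists_point_of_isPullback sq z z' (hz.trans hz'.symm)
    exact ⟨w⟩
  have h1 : IsIso pr1 := by
    rcases Groth.Agent.S10369.main pr1 hZ with hE | hI
    · exact (hE.false hne.some).elim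
    · exact hI
  have h2 : IsIso pr2 := by
    rcases Groth.Agent.S10369.main pr2 hZ' with hE | hI
    · exact (hE.false hne.some).elim
    · exact hI
  have hcond : pr1 ≫ i = pr2 ≫ i' := by
    apply ObjectProperty.hom_ext
    exact sq.w
  refine ⟨(asIso pr2).symm ≪≫ asIso pr1, ?_⟩
  simp only [Iso.trans_hom, Iso.symm_hom, asIso_inv, asIso_hom, Category.assoc]
  rw [hcond, IsIso.inv_hom_id_assoc]

/-- Two monomorphisms Z ⟶ X, Z' ⟶ X of algebraic spaces over a scheme S with image {x} in |X|, whose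
sources admit a locally finitely presented, flat, surjective morphism from the spectrum of a field,
are isomorphic over X. -/
theorem result {S : Scheme.{u}} (X : AlgSp.Space S) (x : AlgSp.Points X.obj)
    {Z Z' : AlgSp.Space S} (i : Z ⟶ X) (i' : Z' ⟶ X) [Mono i.hom] [Mono i'.hom]
    (hi : Set.range (AlgSp.Points.map i.hom) = {x}) (hi' : Set.range (AlgSp.Points.map i'.hom) = {x})
    (hZ : ∃ (k : Type u) (_ : Field k) (str : Spec (CommRingCat.of k) ⟶ S) (p : (AlgSp.yon S).obj (Over.mk str) ⟶ Z.obj),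
        AlgSp.LocP @LocallyOfFinitePresentation p ∧ AlgSp.LocP @Flat p ∧ AlgSp.IsSurjectiveMor p)
    (hZ' : ∃ (k : Type u) (_ : Field k) (str : Spec (CommRingCat.of k) ⟶ S) (p : (AlgSp.yon S).obj (Over.mk str) ⟶ Z'.obj),
        AlgSp.LocP @LocallyOfFinitePresentation p ∧ AlgSp.LocP @Flat p ∧ AlgSp.IsSurjectiveMor p) :
    ∃ e : Z' ≅ Z, e.hom ≫ i = i' := by
  exact main X x i i' hi hi' hZ hZ'

end Groth.Agent.S10371
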