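import Groth.Statements.S10372
import Groth.Agent.S10368

set_option autoImplicit false
universe u
open CategoryTheory CategoryTheory.Limits AlgebraicGeometry Topology TopologicalSpace
open AlgSp

namespace Groth.Agent.S10372

variable {S : Scheme.{u}}

/-- The local rings of a reduced locally Artinian scheme are fields. -/
theorem isField_stalk {X : Scheme.{u}} [IsLocallyArtinian X] [IsReduced X] (x : X) :
    IsField (X.presheaf.stalk x) := by
  obtain ⟨V, hV, hxV, -⟩ := exists_isAffineOpen_mem_and_subset (x := x) (U := ⊤) trivial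
  have hloc := hV.isLocalization_stalk ⟨x, hxV⟩
  have hA : IsArtinianRing Γ(X, V) := IsLocallyArtinian.isArtinianRing_presheaf_obj ⟨V, hV⟩
  have : IsArtinianRing (X.presheaf.stalk x) :=
    @IsArtinianRing.localization_artinian _ _ _ (hV.primeIdealOf ⟨x, hxV⟩).asIdeal.primeCompl
      (X.presheaf.stalk x) _ (X.presheaf.algebra_section_stalk ⟨x, hxV⟩) hloc
  exact IsArtinianRing.isField_of_isReduced_of_isLocalRing _

theorem isRegularLocalRing_of_isField (R : Type u) [CommRing R] (h : IsField R) :
    IsRegularLocalRing R := by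
  let _ := h.toField
  infer_instance

/-- The target of an open surjection from a discrete space is discrete. -/
theorem discreteTopology_of_isOpenMap {A B : Type*} [TopologicalSpace A] [TopologicalSpace B]
    [DiscreteTopology A] (f : A → B) (hf : IsOpenMap f) (hs : Function.Surjective f) :
    DiscreteTopology B := by
  rw [discreteTopology_iff_isOpen_singleton]
  intro b
  obtain ⟨a, rfl⟩ := hs b
  have := hf {a} (isOpen_discrete _)
  rwa [Set.image_singleton] at this

open Groth.Agent.S10365 Groth.Agent.S10366 Groth.Agent.Lib.helper11 in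
theorem main (Z : AlgSp.Space S)
    (hr : AlgSp.EtaleLocally (fun U => IsReduced U) Z.obj) (hN : AlgSp.IsLocNoethSp Z.obj)
    [Nonempty (AlgSp.Points Z.obj)] [Subsingleton (AlgSp.Points Z.obj)] :
    AlgSp.EtaleLocally (fun U => IsLocallyNoetherian U ∧
      ∀ u : ↥U, IsRegularLocalRing ↥(U.presheaf.stalk u)) Z.obj := by
  obtain ⟨k, hk, str, p, hpp, hpf, hps⟩ :=
    Groth.Agent.S10368.forward Z hr hN inferInstance inferInstance
  obtain ⟨U, a, hae, has, hred⟩ := hr
  have hredU : IsReduced U.left := hred
  let s0 : ↥(Over.mk str).left := (IsLocalRing.closedPoint k : ↥(Spec (CommRingCat.of k)))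
  obtain ⟨T, c, h', sq⟩ := hae.1 p
  obtain ⟨h, rfl⟩ := (yon S).map_surjective h'
  have hc : Etale c.left := hae.2 _ _ _ sq
  have hflat : Flat h.left :=
    hpf ((yon S).map c) a h ((repWith_yon_map_iff @Etale c).2 hc) hae sq.w.symm
  have hlfp : LocallyOfFinitePresentation h.left :=
    hpp ((yon S).map c) a h ((repWith_yon_map_iff @Etale c).2 hc) hae sq.w.symm
  have hsurj : Surjective h.left := by
    refine ⟨fun u => ?_⟩
    have hu : Points.ofPt a u = Points.ofPt p s0 := eq_mk_of_surjective k str p hps _
    obtain ⟨τ, hτ, -⟩ := exists_of_isPullback_schemes sq u s0 hu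
    exact ⟨τ, hτ⟩
  have hlqf : LocallyQuasiFinite c.left := Groth.Agent.S10265.lqf_of_etale c.left
  have hTA : IsLocallyArtinian T.left :=
    IsLocallyArtinian.of_locallyQuasiFinite (Y := Spec (CommRingCat.of k)) c.left
  have hTd : DiscreteTopology ↥T.left := inferInstance
  have hUd : DiscreteTopology ↥U.left :=
    discreteTopology_of_isOpenMap h.left h.left.isOpenMap h.left.surjective
  have hUA : IsLocallyArtinian U.left := inferInstance
  refine ⟨U, a, hae, has, inferInstance, fun u => ?_⟩
  exact isRegularLocalRing_of_isField _ (isField_stalk u)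

/-- A reduced, locally Noetherian algebraic space Z over a scheme S whose space of points is a single
point is regular (etale locally a regular scheme). -/
theorem result {S : Scheme.{u}} (Z : AlgSp.Space S)
    (hr : AlgSp.EtaleLocally (fun U => IsReduced U) Z.obj) (hN : AlgSp.IsLocNoethSp Z.obj)
    [Nonempty (AlgSp.Points Z.obj)] [Subsingleton (AlgSp.Points Z.obj)] :
    AlgSp.EtaleLocally (fun U => IsLocallyNoetherian U ∧ ∀ u : ↥U, IsRegularLocalRing ↥(U.presheaf.stalk u)) Z.obj := by
  exact main Z hr hN

end Groth.Agent.S10372
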