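import Groth.Statements.S10418
import Groth.Agent.Lib.Helper1.Conf6
import Groth.Agent.S9920

set_option autoImplicit false
universe u
open CategoryTheory CategoryTheory.Limits AlgebraicGeometry Topology TopologicalSpace
open AlgSp

namespace Groth.Agent.S10418

open Groth.Agent.H1.ConfSp Groth.Agent.H1.FibDeg Groth.Agent.H1.DecentOpen
  Groth.Agent.Lib.helper11 in
theorem main {S : Scheme.{u}} (X : AlgSp.Space S)
    (hX : AlgSp.IsQuasiCompactSp X.obj) :
    ∃ (Uo : ℕ → AlgSp.Space S) (j : ∀ p, Uo p ⟶ X) (k : ∀ p, Uo (p + 1) ⟶ Uo p)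
      (T : ℕ → AlgSp.Space S) (i : ∀ p, T p ⟶ Uo p),
      (∀ p, AlgSp.RepWith @IsOpenImmersion (j p).hom) ∧ (∀ p, k p ≫ j p = j (p + 1)) ∧ IsIso (j 1) ∧
      (∀ p, AlgSp.IsRedInduced (Set.range (AlgSp.Points.map (k p).hom))ᶜ (i p).hom) ∧
      (∀ p, 1 ≤ p → ∃ (V : Over S) (f : (AlgSp.yon S).obj V ⟶ (Uo p).obj), V.left.IsSeparated ∧
        AlgSp.RepWith @Etale f ∧ AlgSp.RepWith @Surjective f ∧
        ∀ (P : AlgSp.Sp S) (fst : P ⟶ (T p).obj) (snd : P ⟶ (AlgSp.yon S).obj V),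
          IsPullback fst snd (i p).hom f → IsIso fst) ∧
      (∀ x : AlgSp.Points X.obj, (∃ q : AlgSp.FieldPt X.obj, AlgSp.Points.mk q = x ∧ AlgSp.RepWith @QuasiCompact q.toHom) →
        ∃ p, 1 ≤ p ∧ x ∈ Set.range (AlgSp.Points.map ((i p) ≫ (j p)).hom)) := by
  obtain ⟨U, a, hUaff, hae, has⟩ := Groth.Agent.S9920.exists_affine_chart X.property hX
  obtain ⟨R, t, fst, sq0⟩ := hae.rep a
  obtain ⟨s, rfl⟩ := (yon S).map_surjective fst
  have sq : IsPullback ((yon S).map s) ((yon S).map t) a a := sq0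
  have hsurj : Function.Surjective (Points.ofPt a) := surjective_ofPt a has
  obtain ⟨Uo, j, k, T, i, hj, hk, hj1, hjr, hi, hV⟩ :=
    filtration_abstract X (fun n => Dset a s n) (fun n => isOpen_Dset hae sq n)
      (fun n => Dset_anti n) (Dset_one sq hsurj) (fun _ => True)
      (fun p => by
        obtain ⟨M, f, h1, h2, h3, -, h5⟩ := exists_stratum_chart X.property hae sq p
        exact ⟨M, f, h1, trivial, h2, h3, h5⟩)
  refine ⟨Uo, j, k, T, i, hj, hk, hj1, hi, ?_, ?_⟩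
  · intro p hp
    obtain ⟨V, f, h1, -, h2, h3, h4⟩ := hV p hp
    exact ⟨V, f, h1, h2, h3, h4⟩
  · rintro x ⟨q, hqx, hq⟩
    obtain ⟨u, hu⟩ := hsurj x
    classical
    have hbound : ∃ d : ℕ, ¬ DegGE s.left (d + 1) u :=
      exists_bound_of_qc_point hae sq u q (by rw [hqx, hu]) hq
    have h1 : DegGE s.left 1 u := by
      rw [← ofPt_mem_Dset_iff sq, Dset_one sq hsurj]
      trivial
    let p := Nat.find hbound
    have hp1 : ¬ DegGE s.left (p + 1) u := Nat.find_spec hbound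
    have hp0 : 1 ≤ p := by
      by_contra hcon
      have : p = 0 := by omega
      rw [this] at hp1
      exact hp1 h1
    have hp2 : DegGE s.left p u := by
      have := Nat.find_min hbound (m := p - 1) (by omega)
      rw [not_not] at this
      have e : p - 1 + 1 = p := by omega
      rwa [e] at this
    refine ⟨p, hp0, ?_⟩
    have hxD : x ∈ Dset a s p := by rw [← hu]; exact (ofPt_mem_Dset_iff sq p u).2 hp2
    have hxD' : x ∉ Dset a s (p + 1) := by
      rw [← hu]; exact fun h => hp1 ((ofPt_mem_Dset_iff sq (p + 1) u).1 h)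
    rw [← hjr p] at hxD
    obtain ⟨y, rfl⟩ := hxD
    have hy : y ∈ (Set.range (Points.map (k p).hom))ᶜ := by
      rintro ⟨z, rfl⟩
      apply hxD'
      rw [← hjr (p + 1), ← hk p]
      exact ⟨z, Points.map_comp _ _ z⟩
    rw [← (hi p).2.1] at hy
    obtain ⟨z, rfl⟩ := hy
    exact ⟨z, Points.map_comp _ _ z⟩

/-- Let S be a scheme and X an algebraic space over S which is quasi-compact. There are open subspaces X
= U_1 ⊇ U_2 ⊇ U_3 ⊇ ⋯ such that (1) with T_p = U_p ∖ U_{p+1} (reduced induced subspace structure)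
there is a separated scheme V_p with a surjective etale f_p : V_p ⟶ U_p for which the map f_p⁻¹(T_p)
⟶ T_p is an isomorphism, and (2) every x ∈ |X| admitting a representative given by a quasi-compact
morphism from the spectrum of a field lies in T_p for some p. -/
theorem result {S : Scheme.{u}} (X : AlgSp.Space S)
    (hX : AlgSp.IsQuasiCompactSp X.obj) :
    ∃ (Uo : ℕ → AlgSp.Space S) (j : ∀ p, Uo p ⟶ X) (k : ∀ p, Uo (p + 1) ⟶ Uo p)
      (T : ℕ → AlgSp.Space S) (i : ∀ p, T p ⟶ Uo p),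
      (∀ p, AlgSp.RepWith @IsOpenImmersion (j p).hom) ∧ (∀ p, k p ≫ j p = j (p + 1)) ∧ IsIso (j 1) ∧
      (∀ p, AlgSp.IsRedInduced (Set.range (AlgSp.Points.map (k p).hom))ᶜ (i p).hom) ∧
      (∀ p, 1 ≤ p → ∃ (V : Over S) (f : (AlgSp.yon S).obj V ⟶ (Uo p).obj), V.left.IsSeparated ∧
        AlgSp.RepWith @Etale f ∧ AlgSp.RepWith @Surjective f ∧
        ∀ (P : AlgSp.Sp S) (fst : P ⟶ (T p).obj) (snd : P ⟶ (AlgSp.yon S).obj V),
          IsPullback fst snd (i p).hom f → IsIso fst) ∧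
      (∀ x : AlgSp.Points X.obj, (∃ q : AlgSp.FieldPt X.obj, AlgSp.Points.mk q = x ∧ AlgSp.RepWith @QuasiCompact q.toHom) →
        ∃ p, 1 ≤ p ∧ x ∈ Set.range (AlgSp.Points.map ((i p) ≫ (j p)).hom)) := by
  exact main X hX

end Groth.Agent.S10418
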