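import Groth.Statements.S10374
import Groth.Agent.S10418
import Groth.Agent.Lib.Helper1.ElemNbhd
import Groth.Agent.Lib.Helper1.ZSplitD

set_option autoImplicit false
universe u
open CategoryTheory CategoryTheory.Limits AlgebraicGeometry Topology TopologicalSpace
open AlgSp

namespace Groth.Agent.S10374

open Groth.Agent.Lib.helper5.OpenSub Groth.Agent.Lib.helper11 Groth.Agent.Lib.helper5.LargestOpen in
/-- Every point of an algebraic space lies in a quasi-compact open subspace. -/
theorem exists_qc_open {S : Scheme.{u}} (X : AlgSp.Space S) (x : AlgSp.Points X.obj) :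
    ∃ (X' : AlgSp.Space S) (ι : X' ⟶ X), RepWith @IsOpenImmersion ι.hom ∧
      IsQuasiCompactSp X'.obj ∧ x ∈ Set.range (Points.map ι.hom) := by
  obtain ⟨U, p, u, hpe, hps, hu⟩ := exists_chart_ofPt X x
  obtain ⟨_, ⟨U₀', hU₀, rfl⟩, huU₀, -⟩ :=
    (U.left.isBasis_affineOpens).exists_subset_of_mem_open (Set.mem_univ u) isOpen_univ
  obtain ⟨U₀, rfl⟩ : ∃ U₀ : U.left.Opens, U₀ = U₀' := ⟨U₀', rfl⟩
  obtain ⟨h1, h2⟩ := chart_comp p hpe U₀.ι
  set a₀ := (yon S).map (Over.homMk (U := Over.mk (U₀.ι ≫ U.hom)) U₀.ι rfl) ≫ p with ha₀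
  let Ω : Set (Points X.obj) := Set.range (Points.ofPt a₀)
  have hΩ : IsOpen Ω := (isOpenMap_ofPt a₀ h1).isOpen_range
  have hmem : ∀ t, Points.ofPt a₀ t ∈ Ω := fun t => ⟨t, rfl⟩
  haveI : Mono (ι X.obj Ω) := inferInstance
  have hinj : Function.Injective (Points.map (ι X.obj Ω)) := injective_of_oi (repWith_ι X.obj hΩ)
  have hle : RepWith @Etale (lift a₀ hmem) :=
    Groth.Agent.H1.QGlue.repWith_of_comp_mono @Etale (lift a₀ hmem) (ι X.obj Ω)
      (by rw [lift_ι]; exact h1)
  have hls : Function.Surjective (Points.ofPt (lift a₀ hmem)) := by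
    intro y
    have : Points.map (ι X.obj Ω) y ∈ Ω :=
      (range_map_ι X.obj Ω).subset ⟨y, rfl⟩
    obtain ⟨t, ht⟩ := this
    refine ⟨t, hinj ?_⟩
    rw [Points.map_ofPt, lift_ι, ht]
  refine ⟨⟨sub X.obj Ω, isAlgSpace_sub X.property hΩ⟩, ObjectProperty.homMk (ι X.obj Ω),
    repWith_ι X.obj hΩ, ⟨_, lift a₀ hmem, hle, repWith_surjective_of_surjective _ hle.1 hls, ?_⟩, ?_⟩
  · haveI : IsAffine (U₀ : Scheme.{u}) := hU₀
    exact (inferInstance : CompactSpace ↥(U₀ : Scheme.{u}))
  · change x ∈ Set.range (Points.map (ι X.obj Ω))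
    rw [range_map_ι]
    refine ⟨⟨u, huU₀⟩, ?_⟩
    rw [h2]
    exact hu

open Groth.Agent.Lib.helper5.OpenSub Groth.Agent.Lib.helper5.LargestOpen in
/-- A quasi-compact field point lying in an open subspace is a quasi-compact field point of it. -/
theorem exists_qc_fieldPt {S : Scheme.{u}} {X' X : Sp S} (ι : X' ⟶ X)
    (hι : RepWith @IsOpenImmersion ι) (p : FieldPt X) (hp : RepWith @QuasiCompact p.toHom)
    (hmem : Points.mk p ∈ Set.range (Points.map ι)) :
    ∃ q : FieldPt X', Points.map ι (Points.mk q) = Points.mk p ∧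
      RepWith @QuasiCompact q.toHom := by
  haveI : Mono ι := mono_of_oi hι
  obtain ⟨g, hg⟩ := (factors_iff ι hι p.toHom).2 (by
    rintro _ ⟨y, rfl⟩
    rw [← Points.ofScheme_toScheme p.pt y, ← Points.ofPt_eq_map_ofScheme, Points.ofPt_toHom]
    exact hmem)
  let q : FieldPt X' := ⟨p.K, p.str, (J S).uliftYonedaEquiv g⟩
  have hq : q.toHom = g := Equiv.symm_apply_apply _ _
  refine ⟨q, ?_, ?_⟩
  · rw [Points.map_mk]
    congr 1
    have hval : ι.hom.app _ ((J S).uliftYonedaEquiv g) = p.val := by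
      rw [← FieldPt.uliftYonedaEquiv_toHom p, ← hg, GrothendieckTopology.uliftYonedaEquiv_comp]
    change (⟨p.K, p.str, ι.hom.app _ ((J S).uliftYonedaEquiv g)⟩ : FieldPt X) = p
    rw [hval]
    cases p
    rfl
  · rw [hq]
    exact Groth.Agent.H1.QGlue.repWith_of_comp_mono @QuasiCompact g ι (by rw [hg]; exact hp)

open Groth.Agent.Lib.helper5.OpenSub Groth.Agent.Lib.helper5.LargestOpen
  Groth.Agent.Lib.helper11 Groth.Agent.H1.ElemNbhd Groth.Agent.Lib.helper5.AlgSpWhereIso in
theorem main {S : Scheme.{u}} (X : AlgSp.Space S) (hX : AlgSp.IsDecent X.obj)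
    (x : AlgSp.Points X.obj) :
    ∃ (U : Over S) (a : (AlgSp.yon S).obj U ⟶ X.obj) (u : ↥U.left), IsAffine U.left ∧
      AlgSp.IsElemEtaleNbhd a u x ∧ AlgSp.Points.ofPt a ⁻¹' {x} = {u} := by
  obtain ⟨p, hpx, -, hpq⟩ := hX x
  obtain ⟨X', ι, hι, hX'qc, hxι⟩ := exists_qc_open X x
  obtain ⟨q, hq1, hq2⟩ := exists_qc_fieldPt ι.hom hι p hpq (by rw [hpx]; exact hxι)
  obtain ⟨Uo, j, k, T, i, hj, hk, hj1, hi, hV, hfin⟩ := Groth.Agent.S10418.result X' hX'qc
  obtain ⟨n, hn, z, hz⟩ := hfin (Points.mk q) ⟨q, rfl, hq2⟩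
  obtain ⟨V, f, hVsep, hfe, hfs, hiso⟩ := hV n hn
  obtain ⟨Z, ζ, fstZ, sqZ⟩ := (hi n).1.rep f
  have hζ : IsClosedImmersion ζ.left := (hi n).1.2 _ _ _ sqZ
  haveI : IsIso fstZ := hiso _ fstZ ((yon S).map ζ) sqZ
  -- monomorphisms
  haveI hιm : Mono ι.hom := mono_of_oi hι
  haveI hjm : Mono (j n).hom := mono_of_oi (hj n)
  haveI him : Mono (i n).hom := Groth.Agent.Lib.helper7.mono_of_repWith (fun _ _ g hg => by
    have : IsClosedImmersion g := hg
    exact MorphismProperty.monomorphisms.infer_property g) (hi n).1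
  have hιinj := injective_of_oi hι
  have hjinj := injective_of_oi (hj n)
  -- the point of `Z`
  obtain ⟨z', hz'⟩ := isSurjectiveMor_of_isIso fstZ z
  let zz : ↥Z.left := Points.toScheme Z z'
  have hzz : Points.ofPt fstZ zz = z := by
    rw [Points.ofPt_eq_map_ofScheme, Points.ofScheme_toScheme, hz']
  let v : ↥V.left := ζ.left zz
  have hfv : Points.ofPt f v = Points.map (i n).hom z := by
    rw [← ofPt_yon_map_comp, ← sqZ.w, ← Points.map_ofPt, hzz]
  let Φ : (yon S).obj V ⟶ X.obj := f ≫ (j n).hom ≫ ι.hom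
  have hΦe : RepWith @Etale Φ := by
    refine (repWith_isMultiplicative (S := S) @Etale).comp_mem _ _ hfe
      ((repWith_isMultiplicative (S := S) @Etale).comp_mem _ _ ?_ ?_)
    · exact Groth.Agent.S10194.repWith_mono (fun _ _ g hg => by
        have : IsOpenImmersion g := hg
        exact (inferInstance : Etale g)) (hj n)
    · exact Groth.Agent.S10194.repWith_mono (fun _ _ g hg => by
        have : IsOpenImmersion g := hg
        exact (inferInstance : Etale g)) hι
  have hΦpt : ∀ v' : ↥V.left, Points.ofPt Φ v' =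
      Points.map ι.hom (Points.map (j n).hom (Points.ofPt f v')) := by
    intro v'
    rw [Points.map_ofPt, Points.map_ofPt, Category.assoc]
  have hzq : Points.map (j n).hom (Points.map (i n).hom z) = Points.mk q := by
    rw [← Points.map_comp]; exact hz
  have hΦv : Points.ofPt Φ v = x := by
    rw [hΦpt, hfv, hzq, hq1, hpx]
  have huniq : ∀ v' : ↥V.left, Points.ofPt Φ v' = x → v' = v := by
    intro v' hv'
    have h1 : Points.ofPt f v' = Points.map (i n).hom z := by
      apply hjinj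
      apply hιinj
      rw [← hΦpt, hv', hzq, hq1, hpx]
    obtain ⟨zz', hzz'1, hzz'2⟩ := exists_of_isPullback_scheme sqZ z v' h1.symm
    haveI : Mono fstZ := inferInstance
    have : zz' = zz :=
      Groth.Agent.H1.ZSplit.ofPt_injective_of_mono fstZ (hzz'1.trans hzz.symm)
    rw [← hzz'2, this]
  -- the lift of `Spec κ(v)` to `Z`
  have hmono : Mono (FieldPt.ofPt Φ v).toHom := by
    rw [FieldPt.toHom_ofPt]
    change Mono ((yon S).map (resι V v) ≫ Φ)
    haveI : IsClosedImmersion ζ.left := hζ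
    let fs := pullback.fst (V.left.fromSpecResidueField v) ζ.left
    haveI hne : Nonempty ↥(pullback (V.left.fromSpecResidueField v) ζ.left) := by
      obtain ⟨w, -, -⟩ := Scheme.Pullback.exists_preimage_pullback
        (f := V.left.fromSpecResidueField v) (g := ζ.left)
        (IsLocalRing.closedPoint _) zz (Scheme.fromSpecResidueField_apply _ _)
      exact ⟨w⟩
    haveI : IsClosedImmersion fs :=
      MorphismProperty.pullback_fst (P := @IsClosedImmersion) _ _ hζ
    haveI : IsPreimmersion fs := inferInstance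
    have hfsm : Mono fs := inferInstance
    haveI : IsIso fs :=
      @isIso_of_mono_of_nonempty _ ↥(V.left.residueField v) _ fs hfsm hne
    let l₀ : Spec (V.left.residueField v) ⟶ Z.left :=
      inv fs ≫ pullback.snd (V.left.fromSpecResidueField v) ζ.left
    have hl₀ : l₀ ≫ ζ.left = V.left.fromSpecResidueField v := by
      show (inv fs ≫ pullback.snd _ _) ≫ ζ.left = _
      rw [Category.assoc, ← pullback.condition, ← Category.assoc, IsIso.inv_hom_id,
        Category.id_comp]
    let l : resPt V v ⟶ Z := Over.homMk l₀ (by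
      show l₀ ≫ Z.hom = V.left.fromSpecResidueField v ≫ V.hom
      rw [← Over.w ζ, ← Category.assoc, hl₀])
    have hl : l ≫ ζ = resι V v := by
      apply Over.OverMorphism.ext
      exact hl₀
    haveI : Mono (resι V v) := by
      haveI : Mono (resι V v).left := by
        show Mono (V.left.fromSpecResidueField v)
        infer_instance
      exact Over.mono_of_mono_left _
    haveI : Mono l := by
      haveI : Mono (l ≫ ζ) := by rw [hl]; infer_instance
      exact mono_of_mono l ζ
    haveI : Mono ((yon S).map l) := inferInstance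
    have hfac : (yon S).map (resι V v) ≫ Φ =
        (yon S).map l ≫ fstZ ≫ (i n).hom ≫ (j n).hom ≫ ι.hom := by
      rw [← hl, Functor.map_comp, Category.assoc]
      show (yon S).map l ≫ (yon S).map ζ ≫ f ≫ (j n).hom ≫ ι.hom = _
      rw [← Category.assoc ((yon S).map ζ), ← sqZ.w, Category.assoc]
    rw [hfac]
    infer_instance
  -- restrict to an affine open neighbourhood
  obtain ⟨_, ⟨V₀', hV₀, rfl⟩, hvV₀, -⟩ :=
    (V.left.isBasis_affineOpens).exists_subset_of_mem_open (Set.mem_univ v) isOpen_univ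
  obtain ⟨V₀, rfl⟩ : ∃ V₀ : V.left.Opens, V₀ = V₀' := ⟨V₀', rfl⟩
  let E : Over S := Over.mk (V₀.ι ≫ V.hom)
  let jE : E ⟶ V := Over.homMk V₀.ι rfl
  haveI : IsOpenImmersion jE.left := inferInstanceAs (IsOpenImmersion V₀.ι)
  obtain ⟨h1, h2⟩ := chart_comp Φ hΦe V₀.ι
  refine ⟨E, (yon S).map jE ≫ Φ, ⟨v, hvV₀⟩, hV₀, ⟨h1, ?_, ?_⟩, ?_⟩
  · rw [h2]; exact hΦv
  · exact mono_ofPt_comp jE Φ ⟨v, hvV₀⟩ hmono
  · ext w
    simp only [Set.mem_preimage, Set.mem_singleton_iff]
    constructor
    · intro hw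
      rw [h2] at hw
      exact Subtype.ext (huniq _ hw)
    · rintro rfl
      rw [h2]; exact hΦv

/-- Let S be a scheme and X a decent algebraic space over S. Every point x ∈ |X| admits an etale
neighbourhood (U, u) ⟶ (X, x) which is elementary, with U an affine scheme and u the only point of U
over x; being elementary means that Spec κ(u) ⟶ X is a monomorphism, equivalently that the residue
field of X at x maps isomorphically to κ(u). -/
theorem result {S : Scheme.{u}} (X : AlgSp.Space S) (hX : AlgSp.IsDecent X.obj)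
    (x : AlgSp.Points X.obj) :
    ∃ (U : Over S) (a : (AlgSp.yon S).obj U ⟶ X.obj) (u : ↥U.left), IsAffine U.left ∧
      AlgSp.IsElemEtaleNbhd a u x ∧ AlgSp.Points.ofPt a ⁻¹' {x} = {u} := by
  exact main X hX x

end Groth.Agent.S10374
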