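import Groth.Statements.S10419
import Groth.Agent.Lib.Helper1.Conf6
import Groth.Agent.S9920
import Groth.Agent.Lib.Helper13.PC9
import Groth.Agent.Lib.Helper5.FieldQuotQS

set_option autoImplicit false
universe u
open CategoryTheory CategoryTheory.Limits AlgebraicGeometry Topology TopologicalSpace
open AlgSp

namespace Groth.Agent.S10419

open Groth.Agent.H1.FibDeg in
/-- Uniform bound on the fibre degree of an étale morphism with quasi-compact source. -/
theorem exists_bound_degGE {R U : Scheme.{u}} (s : R ⟶ U) [Etale s] [CompactSpace R] :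
    ∃ N : ℕ, ∀ u : U, ¬ DegGE s (N + 1) u := by
  haveI : LocallyQuasiFinite s := Groth.Agent.H1.FinAff.locallyQuasiFinite_of_etale s
  obtain ⟨N, hN⟩ := Groth.Agent.Lib.helper13.PC.exists_bound_lifts_of_compact s
  refine ⟨N, ?_⟩
  rintro u ⟨K, hK, g, -, hn⟩
  obtain ⟨hfin, hcard⟩ := hN K g
  have hfin' : (Lifts s g).Finite := hfin
  have hcard' : Nat.card ↥(Lifts s g) ≤ N := hcard
  rw [Nat.card_coe_set_eq] at hcard'
  rw [← hfin'.cast_ncard_eq] at hn
  have : N + 1 ≤ (Lifts s g).ncard := by exact_mod_cast hn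
  omega

open Groth.Agent.H1.ConfSp Groth.Agent.H1.FibDeg Groth.Agent.H1.DecentOpen
  Groth.Agent.Lib.helper11 in
theorem main {S : Scheme.{u}} [QuasiSeparatedSpace ↥S] (X : AlgSp.Space S)
    (hqc : AlgSp.IsQuasiCompactSp X.obj) (hqs : AlgSp.IsQuasiSeparatedSp X.obj) :
    ∃ (n : ℕ) (Uo : ℕ → AlgSp.Space S) (j : ∀ p, Uo p ⟶ X) (k : ∀ p, Uo (p + 1) ⟶ Uo p)
      (T : ℕ → AlgSp.Space S) (i : ∀ p, T p ⟶ Uo p),
      (∀ p, AlgSp.RepWith @IsOpenImmersion (j p).hom) ∧ (∀ p, k p ≫ j p = j (p + 1)) ∧ IsIso (j 1) ∧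
      IsEmpty (AlgSp.Points (Uo (n + 1)).obj) ∧
      (∀ p, AlgSp.IsRedInduced (Set.range (AlgSp.Points.map (k p).hom))ᶜ (i p).hom) ∧
      (∀ p, 1 ≤ p → ∃ (V : Over S) (f : (AlgSp.yon S).obj V ⟶ (Uo p).obj), V.left.IsSeparated ∧ CompactSpace ↥V.left ∧
        AlgSp.RepWith @Etale f ∧ AlgSp.RepWith @Surjective f ∧
        ∀ (P : AlgSp.Sp S) (fst : P ⟶ (T p).obj) (snd : P ⟶ (AlgSp.yon S).obj V),
          IsPullback fst snd (i p).hom f → IsIso fst) := by
  obtain ⟨U, a, hUaff, hae, has⟩ := Groth.Agent.S9920.exists_affine_chart X.property hqc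
  obtain ⟨R, t, fst, sq0⟩ := hae.rep a
  obtain ⟨s, rfl⟩ := (yon S).map_surjective fst
  have sq : IsPullback ((yon S).map s) ((yon S).map t) a a := sq0
  have hsurj : Function.Surjective (Points.ofPt a) := surjective_ofPt a has
  have hqa : RepWith @QuasiCompact a :=
    Groth.Agent.Lib.helper5.FieldQuot.repWith_quasiCompact_of_quasiCompact_hom X.property hqs U
      inferInstance a
  haveI hset : Etale s.left := hae.2 _ _ _ sq.flip
  haveI hsqc : QuasiCompact s.left := hqa.2 _ _ _ sq.flip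
  haveI : CompactSpace ↥R.left := QuasiCompact.compactSpace_of_compactSpace s.left
  obtain ⟨N, hN⟩ := exists_bound_degGE s.left
  obtain ⟨Uo, j, k, T, i, hj, hk, hj1, hjr, hi, hV⟩ :=
    filtration_abstract X (fun n => Dset a s n) (fun n => isOpen_Dset hae sq n)
      (fun n => Dset_anti n) (Dset_one sq hsurj) (fun M => CompactSpace ↥M.left)
      (fun p => by
        obtain ⟨M, f, h1, h2, h3, h4, h5⟩ := exists_stratum_chart X.property hae sq p
        exact ⟨M, f, h1, h4 hqa, h2, h3, h5⟩)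
  refine ⟨N, Uo, j, k, T, i, hj, hk, hj1, ?_, hi, hV⟩
  constructor
  intro y
  have : Points.map (j (N + 1)).hom y ∈ Dset a s (N + 1) := by
    rw [← hjr (N + 1)]; exact ⟨y, rfl⟩
  obtain ⟨u, hu, -⟩ := this
  exact hN u hu

/-- Let S be a scheme with quasi-separated underlying space and X an algebraic space over S that is
quasi-compact and quasi-separated (X quasi-separated over S). There are an integer n and open
subspaces X = U_1 ⊇ U_2 ⊇ ⋯ ⊇ U_{n+1} = ∅ such that, with T_p = U_p ∖ U_{p+1} (reduced induced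
structure), there is a quasi-compact separated scheme V_p with a surjective etale f_p : V_p ⟶ U_p
for which f_p⁻¹(T_p) ⟶ T_p is an isomorphism. -/
theorem result {S : Scheme.{u}} [QuasiSeparatedSpace ↥S] (X : AlgSp.Space S)
    (hqc : AlgSp.IsQuasiCompactSp X.obj) (hqs : AlgSp.IsQuasiSeparatedSp X.obj) :
    ∃ (n : ℕ) (Uo : ℕ → AlgSp.Space S) (j : ∀ p, Uo p ⟶ X) (k : ∀ p, Uo (p + 1) ⟶ Uo p)
      (T : ℕ → AlgSp.Space S) (i : ∀ p, T p ⟶ Uo p),
      (∀ p, AlgSp.RepWith @IsOpenImmersion (j p).hom) ∧ (∀ p, k p ≫ j p = j (p + 1)) ∧ IsIso (j 1) ∧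
      IsEmpty (AlgSp.Points (Uo (n + 1)).obj) ∧
      (∀ p, AlgSp.IsRedInduced (Set.range (AlgSp.Points.map (k p).hom))ᶜ (i p).hom) ∧
      (∀ p, 1 ≤ p → ∃ (V : Over S) (f : (AlgSp.yon S).obj V ⟶ (Uo p).obj), V.left.IsSeparated ∧ CompactSpace ↥V.left ∧
        AlgSp.RepWith @Etale f ∧ AlgSp.RepWith @Surjective f ∧
        ∀ (P : AlgSp.Sp S) (fst : P ⟶ (T p).obj) (snd : P ⟶ (AlgSp.yon S).obj V),
          IsPullback fst snd (i p).hom f → IsIso fst) := by
  exact main X hqc hqs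

end Groth.Agent.S10419
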