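import Groth.Statements.S10377
import Groth.Agent.S10419
import Groth.Agent.S10374
import Groth.Agent.S10198
import Groth.Agent.Lib.Helper1.ConstrSp
import Groth.Agent.Lib.Helper1.ZSplitD

set_option autoImplicit false
universe u
open CategoryTheory CategoryTheory.Limits AlgebraicGeometry Topology TopologicalSpace
open AlgSp

namespace Groth.Agent.S10377

open Groth.Agent.Lib.helper11 in
/-- If the base change of `f : h_V ⟶ Y` along a representable `i : Z ⟶ Y` is an isomorphism, then `f`
is injective on points over the image of `i`. -/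
theorem ofPt_injective_over {S : Scheme.{u}} {Y Z : Sp S} {V : Over S} (i : Z ⟶ Y)
    (hi : Representable i) (f : (yon S).obj V ⟶ Y)
    (hiso : ∀ (P : Sp S) (fst : P ⟶ Z) (snd : P ⟶ (yon S).obj V), IsPullback fst snd i f → IsIso fst)
    (v v' : ↥V.left) (hv : Points.ofPt f v ∈ Set.range (Points.map i))
    (h : Points.ofPt f v = Points.ofPt f v') : v = v' := by
  obtain ⟨Zs, ζ, fstZ, sqZ⟩ := hi f
  haveI : IsIso fstZ := hiso _ fstZ ((yon S).map ζ) sqZ
  obtain ⟨z, hz⟩ := hv
  obtain ⟨zz, h1, h2⟩ := exists_of_isPullback_scheme sqZ z v hz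
  obtain ⟨zz', h1', h2'⟩ := exists_of_isPullback_scheme sqZ z v' (hz.trans h)
  haveI : Mono fstZ := inferInstance
  have : zz = zz' := Groth.Agent.H1.ZSplit.ofPt_injective_of_mono fstZ (h1.trans h1'.symm)
  rw [← h2, ← h2', this]

open Groth.Agent.Lib.helper11 Groth.Agent.Lib.helper5.LargestOpen
  Groth.Agent.Lib.helper5.AlgSpWhereIso Groth.Agent.H1.ConstrSp in
/-- An étale locally constructible subset of a quasi-compact quasi-separated algebraic space is
constructible. -/
theorem isConstructible_of_etale_locally {S : Scheme.{u}} [QuasiSeparatedSpace ↥S]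
    (X : AlgSp.Space S) (hqc : IsQuasiCompactSp X.obj) (hqs : IsQuasiSeparatedSp X.obj)
    (E : Set (Points X.obj))
    (hE : ∀ (U : Over S) (a : (yon S).obj U ⟶ X.obj), RepWith @Etale a →
        IsLocallyConstructible (Points.ofPt a ⁻¹' E)) : IsConstructible E := by
  classical
  haveI : SpectralSpace (Points X.obj) :=
    Groth.Agent.Lib.helper4.AlgSpSpectral.spectralSpace_points X hqc hqs
  obtain ⟨n, Uo, j, k, T, i, hj, hk, hj1, hempty, hi, hV⟩ := Groth.Agent.S10419.result X hqc hqs
  let D : ℕ → Set (Points X.obj) := fun p => Set.range (Points.map (j p).hom)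
  have hk' : ∀ p, (k p).hom ≫ (j p).hom = (j (p + 1)).hom := fun p => congrArg (·.hom) (hk p)
  have hjinj : ∀ p, Function.Injective (Points.map (j p).hom) := fun p => injective_of_oi (hj p)
  have hDanti : ∀ p, D (p + 1) ⊆ D p := by
    rintro p _ ⟨y, rfl⟩
    refine ⟨Points.map (k p).hom y, ?_⟩
    rw [← Points.map_comp, hk']
  have hD1 : D 1 = Set.univ := by
    haveI : IsIso (j 1).hom := by
      have : IsIso ((ObjectProperty.ι (IsAlgSpace (S := S))).map (j 1)) := inferInstance
      exact this
    rw [Set.eq_univ_iff_forall]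
    exact isSurjectiveMor_of_isIso (j 1).hom
  have hDempty : D (n + 1) = ∅ := by
    rw [Set.eq_empty_iff_forall_notMem]
    rintro _ ⟨y, -⟩
    exact hempty.false y
  -- the strata are constructible
  have hDco : ∀ p, 1 ≤ p → IsCompact (D p) ∧ IsOpen (D p) := by
    intro p hp
    obtain ⟨V, f, hsep, hcomp, hfe, hfs, -⟩ := hV p hp
    refine ⟨?_, isOpen_range_of_oi (j p) (hj p)⟩
    have hr : D p = Set.range (Points.ofPt (f ≫ (j p).hom)) := by
      ext x
      constructor
      · rintro ⟨y, rfl⟩
        obtain ⟨v, rfl⟩ := surjective_ofPt f hfs y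
        exact ⟨v, (Points.map_ofPt f (j p).hom v).symm⟩
      · rintro ⟨v, rfl⟩
        exact ⟨Points.ofPt f v, Points.map_ofPt f (j p).hom v⟩
    rw [hr]
    exact isCompact_range (Points.continuous_ofPt _)
  have hstr : ∀ p, 1 ≤ p → IsConstructible (E ∩ (D p \ D (p + 1))) := by
    intro p hp
    obtain ⟨V, f, hsep, hcomp, hfe, hfs, hiso⟩ := hV p hp
    haveI := hsep
    haveI := hcomp
    let Φ : (yon S).obj V ⟶ X.obj := f ≫ (j p).hom
    have hΦe : RepWith @Etale Φ :=
      (repWith_isMultiplicative (S := S) @Etale).comp_mem _ _ hfe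
        (Groth.Agent.S10194.repWith_mono (fun _ _ g hg => by
          have : IsOpenImmersion g := hg
          exact (inferInstance : Etale g)) (hj p))
    let g : ↥V.left → Points X.obj := Points.ofPt Φ
    have hg : ∀ v, g v = Points.map (j p).hom (Points.ofPt f v) := fun v =>
      (Points.map_ofPt f (j p).hom v).symm
    have hTc : IsConstructible (D p \ D (p + 1)) :=
      ((hDco p hp).1.isConstructible (hDco p hp).2).sdiff
        ((hDco (p + 1) (by omega)).1.isConstructible (hDco (p + 1) (by omega)).2)
    have hTr : D p \ D (p + 1) ⊆ Set.range g := by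
      rintro _ ⟨⟨y, rfl⟩, -⟩
      obtain ⟨v, rfl⟩ := surjective_ofPt f hfs y
      exact ⟨v, hg v⟩
    have hinj : ∀ v v', g v ∈ D p \ D (p + 1) → g v = g v' → v = v' := by
      intro v v' hv hvv'
      refine ofPt_injective_over (i p).hom (hi p).1.1 f hiso v v' ?_ ?_
      · rw [(hi p).2.1]
        rintro ⟨w, hw⟩
        apply hv.2
        refine ⟨w, ?_⟩
        rw [← hk', Points.map_comp, hw, hg]
      · apply hjinj p
        rw [← hg, ← hg, hvv']
    have hEV : IsConstructible (g ⁻¹' E) := (hE V Φ hΦe).isConstructible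
    have := Groth.Agent.H1.ConstrTop.isConstructible_image_inter_preimage g
      (Points.continuous_ofPt Φ) (isOpenMap_ofPt Φ hΦe) _ hTc hTr hinj _ hEV
    have heq : g '' (g ⁻¹' E ∩ g ⁻¹' (D p \ D (p + 1))) = E ∩ (D p \ D (p + 1)) := by
      rw [← Set.preimage_inter, Set.image_preimage_eq_inter_range]
      rw [Set.inter_assoc, Set.inter_eq_left.2 hTr]
    rw [heq] at this
    exact this
  -- `E` is the union of its parts over the strata
  have hEeq : E = ⋃ p ∈ Finset.Icc 1 n, E ∩ (D p \ D (p + 1)) := by
    apply Set.Subset.antisymm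
    · intro x hx
      have hex : ∃ p, x ∉ D (p + 1) := ⟨n, by rw [hDempty]; exact Set.notMem_empty x⟩
      let p := Nat.find hex
      have hp1 : x ∉ D (p + 1) := Nat.find_spec hex
      have hp0 : 1 ≤ p := by
        by_contra hcon
        have h0 : p = 0 := by omega
        rw [h0, hD1] at hp1
        exact hp1 trivial
      have hp2 : x ∈ D p := by
        have := Nat.find_min hex (m := p - 1) (by omega)
        rw [not_not] at this
        have e : p - 1 + 1 = p := by omega
        rwa [e] at this
      have hpn : p ≤ n := Nat.find_min' hex (by rw [hDempty]; exact Set.notMem_empty x)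
      simp only [Set.mem_iUnion]
      exact ⟨p, Finset.mem_Icc.2 ⟨hp0, hpn⟩, hx, hp2, hp1⟩
    · intro x hx
      simp only [Set.mem_iUnion] at hx
      obtain ⟨p, -, hx, -⟩ := hx
      exact hx
  rw [hEeq]
  exact IsConstructible.biUnion (Finset.Icc 1 n).finite_toSet
    (fun p hp => hstr p (Finset.mem_Icc.1 hp).1)

open Groth.Agent.Lib.helper5.LargestOpen Groth.Agent.H1.ConstrSp in
theorem main {S : Scheme.{u}} [QuasiSeparatedSpace ↥S]
    (X : AlgSp.Space S) (hX : AlgSp.IsQuasiSeparatedSp X.obj) (E : Set (AlgSp.Points X.obj)) :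
    (∀ (U : Over S) (a : (AlgSp.yon S).obj U ⟶ X.obj), AlgSp.RepWith @Etale a →
        IsLocallyConstructible (AlgSp.Points.ofPt a ⁻¹' E)) ↔
      IsLocallyConstructible E := by
  constructor
  · intro hE x
    obtain ⟨X', ι, hι, hX'qc, hxι⟩ := Groth.Agent.S10374.exists_qc_open X x
    haveI : Mono ι.hom := mono_of_oi hι
    have hX'qs : IsQuasiSeparatedSp X'.obj := Groth.Agent.S10198.isQuasiSeparatedSp_of_mono ι.hom hX
    have hιe : RepWith @Etale ι.hom := Groth.Agent.S10194.repWith_mono (fun _ _ g hg => by
      have : IsOpenImmersion g := hg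
      exact (inferInstance : Etale g)) hι
    let E' : Set (Points X'.obj) := Points.map ι.hom ⁻¹' E
    have hE' : IsConstructible E' := by
      refine isConstructible_of_etale_locally X' hX'qc hX'qs E' ?_
      intro U a ha
      have := hE U (a ≫ ι.hom) ((repWith_isMultiplicative (S := S) @Etale).comp_mem _ _ ha hιe)
      have e : Points.ofPt a ⁻¹' E' = Points.ofPt (a ≫ ι.hom) ⁻¹' E := by
        ext u
        show Points.map ι.hom (Points.ofPt a u) ∈ E ↔ _
        rw [Points.map_ofPt]
        rfl
      rw [e]
      exact this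
    have hopen : IsOpenMap (Points.map ι.hom) :=
      Groth.Agent.S10211.result ι (isEtaleMor_of_oi ι.hom hι)
    have hoe : IsOpenEmbedding (Points.map ι.hom) :=
      .of_continuous_injective_isOpenMap (Points.continuous_map ι.hom) (injective_of_oi hι) hopen
    let h := hoe.isEmbedding.toHomeomorph
    refine ⟨Set.range (Points.map ι.hom), hoe.isOpen_range.mem_nhds hxι, hoe.isOpen_range, ?_⟩
    have e : (Subtype.val ⁻¹' E : Set ↥(Set.range (Points.map ι.hom))) = h.symm ⁻¹' E' := by
      ext y
      show y.1 ∈ E ↔ Points.map ι.hom (h.symm y) ∈ E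
      have : (h (h.symm y)).1 = Points.map ι.hom (h.symm y) := rfl
      rw [← this, h.apply_symm_apply]
    rw [e]
    exact hE'.preimage_of_isOpenEmbedding h.symm.isOpenEmbedding
  · intro hE U a ha
    exact isLocallyConstructible_preimage X hX E hE a ha

/-- Let S be a scheme with quasi-separated underlying space, X an algebraic space over S which is
quasi-separated over S, and E ⊆ |X|. Then E is etale locally constructible (its inverse image in
every scheme etale over X is locally constructible) exactly when E, as a subset of the topological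
space |X|, is locally constructible. (The published statement assumes X quasi-separated in the
absolute sense; this row assumes S has quasi-separated underlying space and X quasi-separated over
S, which together imply it.) -/
theorem result {S : Scheme.{u}} [QuasiSeparatedSpace ↥S]
    (X : AlgSp.Space S) (hX : AlgSp.IsQuasiSeparatedSp X.obj) (E : Set (AlgSp.Points X.obj)) :
    (∀ (U : Over S) (a : (AlgSp.yon S).obj U ⟶ X.obj), AlgSp.RepWith @Etale a →
        IsLocallyConstructible (AlgSp.Points.ofPt a ⁻¹' E)) ↔
      IsLocallyConstructible E := by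
  exact main X hX E

end Groth.Agent.S10377
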