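import Groth.Statements.S10378
import Groth.Agent.Lib.Helper5.LocSepFin
import Groth.Agent.Lib.Helper5.FieldQuotFinite

set_option autoImplicit false
universe u
open CategoryTheory CategoryTheory.Limits AlgebraicGeometry Topology TopologicalSpace
open AlgSp

namespace Groth.Agent.S10378

open Groth.Agent.Lib.helper5 Groth.Agent.Lib.helper5.FieldQuot Groth.Agent.Lib.helper5.LocSepFin

/-- A locally separated algebraic space is decent. Stated for X locally separated over the base scheme S
(diagonal over S representable by immersions), which agrees with the absolute notion because the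
diagonal of any scheme is an immersion. -/
theorem result {S : Scheme.{u}} (X : AlgSp.Space S)
    (hX : AlgSp.IsLocallySeparatedSp X.obj) : AlgSp.IsDecent X.obj := by
  intro x
  obtain ⟨U, φ, u, hU, hφ, hu⟩ := exists_affine_chart X.property x
  -- the self fibre product of the residue field point of `u` is finite
  obtain ⟨T, s', t', sq, hs'⟩ := exists_chart_selfProduct φ hφ u
  have hq : (FieldPt.ofPt φ u).toHom = (yon S).map (ptι φ u) ≫ φ := FieldPt.toHom_ofPt φ u
  have hmι : Mono (ptι φ u) := by
    have : Mono (ptι φ u).left := inferInstanceAs (Mono (U.left.fromSpecResidueField u))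
    exact (Over.forget S).mono_of_mono_map this
  have hTfin : Finite ↥T.left := by
    refine finite_of_etale_over_fieldPt hX φ hφ (FieldPt.ofPt φ u) s' (t' ≫ ptι φ u) ?_ ?_
    · rw [Functor.map_comp, Category.assoc, ← hq]
      exact sq.w.symm
    · intro W y y' h1 h2
      have h3 : y ≫ t' = y' ≫ t' := by
        rw [← cancel_mono (ptι φ u), Category.assoc, Category.assoc, h2]
      apply (yon S).map_injective
      apply sq.hom_ext
      · rw [← Functor.map_comp, ← Functor.map_comp, h3]
      · rw [← Functor.map_comp, ← Functor.map_comp, h1]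
  have hcomp : CompactSpace ↥T.left := inferInstance
  have haff : IsAffine (FieldPt.ofPt φ u).pt.left :=
    inferInstanceAs (IsAffine (Spec (U.left.residueField u)))
  have hqc : QuasiCompact s'.left := HasAffineProperty.iff_of_isAffine.mpr hcomp
  have hfin' : IsFinite s'.left := isFinite_of_etale_qc (K := (FieldPt.ofPt φ u).K) s'.left
  obtain ⟨p, c, hc, hpm, -⟩ := exists_mono_point (FieldPt.ofPt φ u) s' t' sq hfin'
  have hpx : Points.mk p = x := (mk_eq_of_factor c hc).trans hu
  refine ⟨p, hpx, hpm, ?_⟩
  refine repWith_qc_of_finite_fibres X.property p hpm ?_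
  intro U' φ' hU' hφ'
  -- the fibre of `U'` over the point
  obtain ⟨V, g, fst, sqV⟩ := X.property.representable_from_yon p.toHom φ'
  obtain ⟨τ, rfl⟩ := (yon S).map_surjective fst
  have hτe : Etale τ.left := hφ'.2 p.toHom _ τ sqV.flip
  have hVfin : Finite ↥V.left := by
    refine finite_of_etale_over_fieldPt hX φ' hφ' p τ g sqV.w ?_
    intro W y y' h1 h2
    apply (yon S).map_injective
    apply sqV.hom_ext
    · rw [← Functor.map_comp, ← Functor.map_comp, h1]
    · rw [← Functor.map_comp, ← Functor.map_comp, h2]
  have hsub : Points.ofPt φ' ⁻¹' {Points.mk p} ⊆ Set.range g.left := by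
    intro u' hu'
    have hu'' : Points.ofPt φ' u' = Points.ofPt p.toHom (IsLocalRing.closedPoint p.K) := by
      rw [Points.ofPt_toHom]; exact hu'
    obtain ⟨v, hv, -⟩ := Groth.Agent.Lib.helper11.exists_of_isPullback_schemes sqV.flip u' _ hu''
    exact ⟨v, hv⟩
  exact (Set.finite_range g.left).subset hsub

end Groth.Agent.S10378
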