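import Groth.Statements.S10380
import Groth.Agent.S10351
import Groth.Agent.Lib.Helper5.AlgSpUniv

set_option autoImplicit false
universe u
open CategoryTheory CategoryTheory.Limits AlgebraicGeometry Topology TopologicalSpace
open AlgSp

namespace Groth.Agent.S10380

variable {S : Scheme.{u}}

/-- A morphism with decent source to an algebraic space is a decent morphism. -/
theorem isDecentMor_of_isDecent_source {F G : Sp S} (f : F ⟶ G) (hG : IsAlgSpace G)
    (hF : IsDecent F) : IsDecentMor f := by
  intro T F' g fst snd sq
  have hg : Representable g := hG.representable_from_yon g
  have hfst : Representable fst := Groth.Agent.Lib.helper5.representable_of_isPullback hg sq.flip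
  exact Groth.Agent.S10351.isDecent_of_representable fst hfst hF

/-- A morphism f : X ⟶ Y of algebraic spaces over a scheme S whose source X is decent is a decent
morphism. -/
theorem result {S : Scheme.{u}} {X Y : AlgSp.Space S} (f : X ⟶ Y)
    (hX : AlgSp.IsDecent X.obj) : AlgSp.IsDecentMor f.hom := by
  exact isDecentMor_of_isDecent_source f.hom Y.property hX

end Groth.Agent.S10380
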