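import Groth.Statements.S10381
import Groth.Agent.S10351
import Groth.Agent.Lib.Helper10.AlgSpPoints

set_option autoImplicit false
universe u
open CategoryTheory CategoryTheory.Limits AlgebraicGeometry Topology TopologicalSpace
open AlgSp

namespace Groth.Agent.S10381

variable {S : Scheme.{u}}

/-- A decent morphism to a decent sheaf has decent source. -/
theorem isDecent_of_isDecentMor {F G : Sp S} (f : F ⟶ G) (hf : IsDecentMor f) (hG : IsDecent G) :
    IsDecent F := by
  intro x
  obtain ⟨q, hq, hqm, hqc⟩ := hG (Points.map f x)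
  have sq : IsPullback (pullback.fst f q.toHom) (pullback.snd f q.toHom) f q.toHom :=
    IsPullback.of_hasPullback _ _
  have hD : IsDecent (pullback f q.toHom) := hf q.toHom _ _ sq
  have hz : Points.map f x = Points.map q.toHom
      (Points.ofScheme q.pt (IsLocalRing.closedPoint q.K)) := by
    rw [Groth.Agent.Lib.helper10.map_toHom_ofScheme, hq]
  obtain ⟨w, hw1, -⟩ := Groth.Agent.Lib.helper10.exists_point_of_isPullback sq x _ hz
  obtain ⟨r, hr, hrm, hrc⟩ := hD w
  have hmono : Mono (pullback.fst f q.toHom) := sq.mono_fst_of_mono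
  refine ⟨r.map (pullback.fst f q.toHom), ?_, ?_, ?_⟩
  · rw [← Points.map_mk, hr, hw1]
  · rw [FieldPt.toHom_map]; exact @mono_comp _ _ _ _ _ _ hrm _ hmono
  · rw [FieldPt.toHom_map]
    exact (AlgSp.RepWith @QuasiCompact).comp_mem _ _ hrc
      ((AlgSp.RepWith @QuasiCompact).of_isPullback sq.flip hqc)

/-- Base change of a decent morphism is a decent morphism. -/
theorem isDecentMor_of_isPullback {F G F' G' : Sp S} {f : F ⟶ G} {g : G' ⟶ G} {fst : F' ⟶ F}
    {snd : F' ⟶ G'} (sq : IsPullback fst snd f g) (hf : IsDecentMor f) : IsDecentMor snd := by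
  intro T F'' t a b sq2
  exact hf (t ≫ g) (a ≫ fst) b (sq2.paste_horiz sq)

/-- If f : X ⟶ Y is a decent morphism of algebraic spaces over a scheme S and Y is decent, then X is
decent. -/
theorem result {S : Scheme.{u}} {X Y : AlgSp.Space S} (f : X ⟶ Y)
    (hf : AlgSp.IsDecentMor f.hom) (hY : AlgSp.IsDecent Y.obj) : AlgSp.IsDecent X.obj := by
  exact isDecent_of_isDecentMor f.hom hf hY

end Groth.Agent.S10381
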