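import Groth.Statements.S10382
import Groth.Agent.S10381

set_option autoImplicit false
universe u
open CategoryTheory CategoryTheory.Limits AlgebraicGeometry Topology TopologicalSpace
open AlgSp

namespace Groth.Agent.S10382

variable {S : Scheme.{u}}

theorem isDecentMor_comp {F G H : Sp S} (f : F ⟶ G) (g : G ⟶ H) (hf : IsDecentMor f)
    (hg : IsDecentMor g) : IsDecentMor (f ≫ g) := by
  intro T F' t fst snd sq
  -- `G_T = G ×_H T`
  have sqG : IsPullback (pullback.fst g t) (pullback.snd g t) g t := IsPullback.of_hasPullback _ _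
  have hGT : IsDecent (pullback g t) := hg t _ _ sqG
  -- the map `F' ⟶ G_T`
  let m : F' ⟶ pullback g t := pullback.lift (fst ≫ f) snd (by rw [Category.assoc]; exact sq.w)
  have hm1 : m ≫ pullback.fst g t = fst ≫ f := pullback.lift_fst _ _ _
  have hm2 : m ≫ pullback.snd g t = snd := pullback.lift_snd _ _ _
  have sqL : IsPullback fst m f (pullback.fst g t) := by
    refine IsPullback.of_bot ?_ hm1.symm sqG
    rw [hm2]
    exact sq
  have hmD : IsDecentMor m := Groth.Agent.S10381.isDecentMor_of_isPullback sqL hf
  exact Groth.Agent.S10381.isDecent_of_isDecentMor m hmD hGT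

/-- The composition of two decent morphisms of algebraic spaces over a scheme S is decent. -/
theorem result {S : Scheme.{u}} {X Y Z : AlgSp.Space S} (f : X ⟶ Y) (g : Y ⟶ Z)
    (hf : AlgSp.IsDecentMor f.hom) (hg : AlgSp.IsDecentMor g.hom) : AlgSp.IsDecentMor (f ≫ g).hom := by
  exact isDecentMor_comp f.hom g.hom hf hg

end Groth.Agent.S10382
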