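import Groth.Statements.S10384
import Groth.Agent.S10361
import Groth.Agent.Lib.Helper5.AlgSpQCFam
import Groth.Agent.Lib.Helper7.AlgSpQC

set_option autoImplicit false
universe u
open CategoryTheory CategoryTheory.Limits AlgebraicGeometry Topology TopologicalSpace
open AlgSp

namespace Groth.Agent.S10384

/-- Let f : X ⟶ Y be a quasi-compact, etale and surjective morphism of algebraic spaces over a scheme S.
If X is decent then Y is decent. -/
theorem result {S : Scheme.{u}} {X Y : AlgSp.Space S} (f : X ⟶ Y)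
    (hq : AlgSp.IsQuasiCompactMor f.hom) (he : AlgSp.IsEtaleMor f.hom) (hs : AlgSp.IsSurjectiveMor f.hom)
    (hX : AlgSp.IsDecent X.obj) : AlgSp.IsDecent Y.obj := by
  intro y
  obtain ⟨x, rfl⟩ := hs y
  obtain ⟨p, hp, hm, hqc⟩ := hX x
  have hq : RepWith @QuasiCompact (p.map f.hom).toHom := by
    rw [FieldPt.toHom_map]
    exact Groth.Agent.Lib.helper7.AlgSpQC.repWith_of_isQuasiCompactMor
      (Y.property.representable_from_yon _)
      (Groth.Agent.Lib.helper5.isQuasiCompactMor_comp X.property Y.property.diag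
        (Groth.Agent.Lib.helper7.AlgSpQC.isQuasiCompactMor_of_repWith hqc) hq)
  obtain ⟨p', hp', hm', hqc'⟩ := Groth.Agent.S10361.result Y (p.map f.hom) hq
  refine ⟨p', hp'.trans ?_, hm', hqc'⟩
  rw [← hp]
  rfl

end Groth.Agent.S10384
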