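import Groth.Statements.S10409
import Groth.Agent.Lib.Helper5.FieldQuot

set_option autoImplicit false
universe u
open CategoryTheory CategoryTheory.Limits AlgebraicGeometry Topology TopologicalSpace
open AlgSp

namespace Groth.Agent.S10409

/-- (3) ⇔ (4): for an algebraic space X over a scheme S and x ∈ |X|, there is a monomorphism Spec k ⟶ X
representing x if and only if there is a morphism Spec k' ⟶ X representing x whose
self-fibre-product has etale and quasi-compact projections to Spec k'. -/
theorem result {S : Scheme.{u}} (X : AlgSp.Space S)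
    (x : AlgSp.Points X.obj) :
    (∃ p : AlgSp.FieldPt X.obj, AlgSp.Points.mk p = x ∧ Mono p.toHom) ↔
      ∃ q : AlgSp.FieldPt X.obj, AlgSp.Points.mk q = x ∧
        ∀ (P : AlgSp.Sp S) (fst snd : P ⟶ (AlgSp.yon S).obj q.pt), IsPullback fst snd q.toHom q.toHom →
          AlgSp.RepWith @Etale fst ∧ AlgSp.RepWith @QuasiCompact fst := by
  open Groth.Agent.Lib.helper5.FieldQuot in
  constructor
  · rintro ⟨p, hp, hm⟩
    refine ⟨p, hp, fun P fst snd sq => ?_⟩
    have hk : IsKernelPair p.toHom fst snd := sq
    have hiso : IsIso fst := hk.isIso_of_mono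
    exact ⟨MorphismProperty.of_isIso (RepWith (S := S) @Etale) fst,
      MorphismProperty.of_isIso (RepWith (S := S) @QuasiCompact) fst⟩
  · rintro ⟨q, hq, h⟩
    obtain ⟨he, hqc⟩ := h _ _ _ (IsPullback.of_hasPullback q.toHom q.toHom)
    obtain ⟨p, c, hfac, hm, -⟩ := exists_mono_point_of_etale_qc q _ _
      (IsPullback.of_hasPullback q.toHom q.toHom) he hqc
    exact ⟨p, (mk_eq_of_factor c hfac).trans hq, hm⟩

end Groth.Agent.S10409
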