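import Groth.Statements.S10430
import Groth.Agent.S10360

set_option autoImplicit false
universe u
open CategoryTheory CategoryTheory.Limits AlgebraicGeometry Topology TopologicalSpace
open AlgSp

namespace Groth.Agent.S10430

open Groth.Agent.Lib.helper5.FieldQuot

/-- A scheme finite over the spectrum of a field has finitely many points. -/
theorem finite_of_isFinite {K : Type u} [Field K] {T : Scheme.{u}} (c : T ⟶ Spec (CommRingCat.of K))
    [IsFinite c] : (Set.univ : Set ↥T).Finite := by
  have hsub : Subsingleton ↥(Spec (CommRingCat.of K)) := inferInstanceAs (Subsingleton (PrimeSpectrum K))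
  let s0 : ↥(Spec (CommRingCat.of K)) := (IsLocalRing.closedPoint K : ↥(Spec (CommRingCat.of K)))
  have h1 := Scheme.Hom.finite_preimage_singleton c s0
  have h2 : c ⁻¹' {s0} = Set.univ := by
    ext w
    simp only [Set.mem_preimage, Set.mem_singleton_iff, Set.mem_univ, iff_true]
    exact Subsingleton.elim _ _
  rwa [h2] at h1

/-- If every etale morphism U ⟶ X from an affine scheme to the algebraic space X has universally bounded
fibres, then X is decent. -/
theorem result {S : Scheme.{u}} (X : AlgSp.Space S)
    (h : ∀ (U : Over S) (φ : (AlgSp.yon S).obj U ⟶ X.obj), IsAffine U.left → AlgSp.RepWith @Etale φ → W4dec.HasUnivBddFibres φ) :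
    AlgSp.IsDecent X.obj := by
  intro x
  refine (Groth.Agent.S10360.result X x).1 ?_
  intro U φ hU hφ R s t sq
  obtain ⟨n, hn⟩ := h U φ hU hφ
  -- the fibre of `U` over `x`
  have hF : (Points.ofPt φ ⁻¹' {x}).Finite := by
    induction x using Points.ind with
    | h q =>
    obtain ⟨T, c, snd', sqT'⟩ := hφ.1 q.toHom
    obtain ⟨snd, rfl⟩ := (yon S).map_surjective snd'
    have sqT : IsPullback ((yon S).map c) ((yon S).map snd) q.toHom φ := sqT'.flip
    have hc : IsFinite c.left := (hn q T c _ sqT).1
    have hTfin : (Set.univ : Set ↥T.left).Finite := finite_of_isFinite (K := q.K) c.left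
    let s0 : ↥q.pt.left := (IsLocalRing.closedPoint q.K : ↥(Spec (CommRingCat.of q.K)))
    refine (hTfin.image snd.left).subset ?_
    intro u hu
    have hu' : Points.ofPt φ u = Points.mk q := hu
    obtain ⟨τ, -, hτ⟩ := Groth.Agent.Lib.helper11.exists_of_isPullback_schemes sqT s0 u
      ((Points.ofPt_toHom q s0).trans hu'.symm)
    exact ⟨τ, Set.mem_univ _, hτ⟩
  refine ⟨hF, ?_⟩
  -- the fibres of `t`
  have hfib : ∀ u : ↥U.left, (t.left ⁻¹' {u}).Finite := by
    intro u
    have hq : (FieldPt.ofPt φ u).toHom = (yon S).map (ptι φ u) ≫ φ := FieldPt.toHom_ofPt φ u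
    have sqV : IsPullback ((yon S).map (pullback.fst t (ptι φ u))) ((yon S).map (pullback.snd t (ptι φ u)))
        ((yon S).map t) ((yon S).map (ptι φ u)) := (IsPullback.of_hasPullback t (ptι φ u)).map (yon S)
    have sqP := (sqV.paste_horiz sq.flip).flip
    rw [← hq] at sqP
    have hc : IsFinite (pullback.snd t (ptι φ u)).left := (hn _ _ _ _ sqP).1
    have hTfin : (Set.univ : Set ↥(pullback t (ptι φ u)).left).Finite :=
      finite_of_isFinite (K := (FieldPt.ofPt φ u).K) (pullback.snd t (ptι φ u)).left
    have sqL : IsPullback (pullback.fst t (ptι φ u)).left (pullback.snd t (ptι φ u)).left t.left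
        (U.left.fromSpecResidueField u) := (IsPullback.of_hasPullback t (ptι φ u)).map (Over.forget S)
    refine (hTfin.image (pullback.fst t (ptι φ u)).left).subset ?_
    intro r hr
    have hr' : t.left r = u := hr
    let s0 : ↥(Spec (U.left.residueField u)) := IsLocalRing.closedPoint (U.left.residueField u)
    obtain ⟨τ, hτ, -⟩ := Scheme.Pullback.exists_preimage_pullback (f := t.left)
      (g := U.left.fromSpecResidueField u) r s0 (by
        rw [hr']; exact (Scheme.fromSpecResidueField_apply _ _).symm)
    refine ⟨(sqL.isoPullback.inv) τ, Set.mem_univ _, ?_⟩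
    rw [← Scheme.Hom.comp_apply, IsPullback.isoPullback_inv_fst]
    exact hτ
  have heq : Points.ofPt ((yon S).map t ≫ φ) ⁻¹' {x} = t.left ⁻¹' (Points.ofPt φ ⁻¹' {x}) := by
    ext r
    simp only [Set.mem_preimage, Set.mem_singleton_iff]
    rw [Groth.Agent.Lib.helper11.ofPt_yon_map_comp]
  rw [heq]
  exact hF.preimage' (fun u _ => hfib u)

end Groth.Agent.S10430
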