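import Groth.Statements.S10385
import Groth.Agent.Lib.Helper5.MonoDiscrete
import Groth.Agent.Lib.Helper7.AlgSpQC
import Groth.Agent.S10206
import Groth.Agent.S10209
import Groth.Agent.S10409
import Groth.Agent.S10430

set_option autoImplicit false
universe u
open CategoryTheory CategoryTheory.Limits AlgebraicGeometry Topology TopologicalSpace
open AlgSp

namespace Groth.Agent.S10385

open Groth.Agent.Lib.helper5 Groth.Agent.Lib.helper5.FieldQuot Groth.Agent.Lib.helper5.MonoDiscrete

/-- Let S be a scheme, X and Y algebraic spaces over S, and f : X ⟶ Y a quasi-compact, etale and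
surjective morphism. If each point of X can be represented by a monomorphism whose source is the
spectrum of a field, then so can each point of Y. -/
theorem result {S : Scheme.{u}} {X Y : AlgSp.Space S} (f : X ⟶ Y)
    (hq : AlgSp.IsQuasiCompactMor f.hom) (he : AlgSp.IsEtaleMor f.hom) (hs : AlgSp.IsSurjectiveMor f.hom)
    (hX : ∀ x : AlgSp.Points X.obj, ∃ p : AlgSp.FieldPt X.obj, AlgSp.Points.mk p = x ∧ Mono p.toHom)
    (y : AlgSp.Points Y.obj) : ∃ q : AlgSp.FieldPt Y.obj, AlgSp.Points.mk q = y ∧ Mono q.toHom := by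
  obtain ⟨x, hx⟩ := hs y
  obtain ⟨p, hp, hpm⟩ := hX x
  refine (Groth.Agent.S10409.result Y y).2 ⟨p.map f.hom, ?_, ?_⟩
  · rw [← Points.map_mk, hp, hx]
  intro P fst snd sq
  obtain ⟨p', hp'⟩ : ∃ p' : (yon S).obj (p.map f.hom).pt ⟶ X.obj, p' = p.toHom := ⟨_, rfl⟩
  have hqh : (p.map f.hom).toHom = p' ≫ f.hom := by rw [hp']; exact FieldPt.toHom_map _ _
  have hpm' : Mono p' := by rw [hp']; exact hpm
  -- `E = Spec k ×_Y X`
  have sqE : IsPullback (pullback.fst (p.map f.hom).toHom f.hom) (pullback.snd (p.map f.hom).toHom f.hom)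
      (p.map f.hom).toHom f.hom := IsPullback.of_hasPullback _ _
  set E := pullback (p.map f.hom).toHom f.hom with hEdef
  set e1 := pullback.fst (p.map f.hom).toHom f.hom with he1def
  set e2 := pullback.snd (p.map f.hom).toHom f.hom with he2def
  have hE : IsAlgSpace E := isAlgSpace_of_isPullback Y.property.diag (IsAlgSpace.yon_obj _) X.property sqE
  have he1 : IsEtaleMor e1 :=
    Groth.Agent.S10209.result (X := X) (Y := Y) (Z := ⟨(yon S).obj (p.map f.hom).pt, IsAlgSpace.yon_obj _⟩)
      (P := ⟨E, hE⟩) f (ObjectProperty.homMk (p.map f.hom).toHom) (ObjectProperty.homMk e1)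
      (ObjectProperty.homMk e2) sqE he
  have hq1 : IsQuasiCompactMor e1 := by
    intro Z Z' hZ hZc g fst' snd' sq'
    exact hq hZ hZc (g ≫ (p.map f.hom).toHom) (fst' ≫ e2) snd' (sq'.paste_horiz sqE.flip)
  -- `E` is a scheme
  have hErep : E.obj.IsRepresentable :=
    Groth.Agent.S10206.result ⟨E, hE⟩ (p.map f.hom).K (p.map f.hom).str e1 he1
  obtain ⟨TE, ⟨rep⟩⟩ := hErep.has_representation
  let ε : (yon S).obj TE ≅ E := isoOfRepresentableBy rep
  obtain ⟨τ, hτ⟩ := (yon S).map_surjective (ε.hom ≫ e1)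
  have hτe : Etale τ.left := by
    rw [← isEtaleMor_yon_map_iff, hτ]
    intro V φ hφ
    rw [← Category.assoc]
    exact he1 _ ((RepWith (S := S) @Etale).comp_mem _ _ hφ
      (MorphismProperty.of_isIso (RepWith (S := S) @Etale) ε.hom))
  have hτq : QuasiCompact τ.left := by
    rw [← repWith_yon_map_iff @QuasiCompact τ, hτ]
    refine Groth.Agent.Lib.helper7.AlgSpQC.repWith_of_isQuasiCompactMor ?_ ?_
    · rw [← hτ]
      exact (IsAlgSpace.yon_obj _).representable_from_yon _
    · intro Z Z' hZ hZc g fst'' snd'' sq''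
      have sqr : IsPullback ε.hom (ε.hom ≫ e1) e1 (𝟙 _) := IsPullback.of_horiz_isIso ⟨by simp⟩
      have := sq''.paste_horiz sqr
      rw [Category.comp_id] at this
      exact hq1 hZ hZc g _ _ this
  -- `TE` is finite, discrete and reduced
  have hfinτ : IsFinite τ.left := isFinite_of_etale_qc (K := (p.map f.hom).K) τ.left
  have hTEfin : Finite ↥TE.left := Set.finite_univ_iff.mp (Groth.Agent.S10430.finite_of_isFinite (K := (p.map f.hom).K) τ.left)
  have hlqf : LocallyQuasiFinite τ.left := lqf_of_etale τ.left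
  have hart : IsLocallyArtinian (p.map f.hom).pt.left :=
    inferInstanceAs (IsLocallyArtinian (Spec (CommRingCat.of (p.map f.hom).K)))
  have hart' : IsLocallyArtinian TE.left := IsLocallyArtinian.of_locallyQuasiFinite τ.left
  have hred : IsReduced (p.map f.hom).pt.left := inferInstanceAs (IsReduced (Spec (CommRingCat.of (p.map f.hom).K)))
  have hred' : IsReduced TE.left := Groth.Agent.H1.EtaleReduced.isReduced_of_etale τ.left
  have hdisc : DiscreteTopology ↥TE.left := inferInstance
  -- the map `P ⟶ E`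
  let m : P ⟶ E := sqE.lift fst (snd ≫ p') (by rw [Category.assoc, ← hqh]; exact sq.w)
  have hm1 : m ≫ e1 = fst := sqE.lift_fst _ _ _
  have hm2 : m ≫ e2 = snd ≫ p' := sqE.lift_snd _ _ _
  have sqm : IsPullback snd m p' e2 := by
    have hbig : IsPullback snd (m ≫ e1) (p' ≫ f.hom) (p.map f.hom).toHom := by
      rw [hm1, ← hqh]; exact sq.flip
    exact IsPullback.of_bot hbig hm2.symm sqE.flip
  have sqm' : IsPullback snd (m ≫ ε.inv) p' (ε.hom ≫ e2) := by
    have sql : IsPullback (𝟙 P) (m ≫ ε.inv) m ε.hom := IsPullback.of_horiz_isIso ⟨by simp⟩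
    have := sql.paste_horiz sqm
    rwa [Category.id_comp] at this
  -- the representing scheme of `P`
  obtain ⟨TP, m', fst₀, sq₀⟩ := X.property.representable_from_yon p' (ε.hom ≫ e2)
  have hmm' : Mono ((yon S).map m') := sq₀.mono_snd_of_mono
  have hmm : Mono m' := (yon S).mono_of_mono_map hmm'
  have hoi : IsOpenImmersion m'.left := isOpenImmersion_of_mono_discrete m'
  have hmml : Mono m'.left := inferInstance
  have hTPfin : Finite ↥TP.left := Finite.of_injective m'.left m'.left.injective
  have hqc : QuasiCompact m'.left := ⟨fun U _ _ => (Set.toFinite _).isCompact⟩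
  let κ : P ≅ (yon S).obj TP := sqm'.isoIsPullback _ _ sq₀
  have hκ : κ.hom ≫ (yon S).map m' = m ≫ ε.inv := IsPullback.isoIsPullback_hom_snd _ _ sqm' sq₀
  have hfst : fst = κ.hom ≫ (yon S).map (m' ≫ τ) := by
    rw [Functor.map_comp, hτ, ← Category.assoc, hκ, Category.assoc, ← Category.assoc ε.inv, ε.inv_hom_id,
      Category.id_comp, hm1]
  rw [hfst]
  constructor
  · refine (RepWith (S := S) @Etale).comp_mem _ _ (MorphismProperty.of_isIso (RepWith (S := S) @Etale) κ.hom) ?_
    refine (repWith_yon_map_iff @Etale _).2 ?_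
    change Etale (m'.left ≫ τ.left)
    infer_instance
  · refine (RepWith (S := S) @QuasiCompact).comp_mem _ _
      (MorphismProperty.of_isIso (RepWith (S := S) @QuasiCompact) κ.hom) ?_
    refine (repWith_yon_map_iff @QuasiCompact _).2 ?_
    change QuasiCompact (m'.left ≫ τ.left)
    infer_instance

end Groth.Agent.S10385
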