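import Groth.Statements.S10386
import Groth.Agent.Lib.Helper5.AlgSpDecentLocal

set_option autoImplicit false
universe u
open CategoryTheory CategoryTheory.Limits AlgebraicGeometry Topology TopologicalSpace
open AlgSp

namespace Groth.Agent.S10386

open Groth.Agent.Lib.helper5 Groth.Agent.Lib.helper5.DecentLocal

/-- (3) ⇒ (1): let S be a scheme, X and Y algebraic spaces over S, and f : X ⟶ Y a morphism such that Z
×_Y X is decent for every affine scheme Z and every Z ⟶ Y. Then f is decent, i.e. T ×_Y X is decent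
for every scheme T over Y. -/
theorem result {S : Scheme.{u}} {X Y : AlgSp.Space S} (f : X ⟶ Y)
    (h : ∀ (Z : Over S) (g : (AlgSp.yon S).obj Z ⟶ Y.obj) (P : AlgSp.Sp S) (fst : P ⟶ X.obj)
      (snd : P ⟶ (AlgSp.yon S).obj Z), IsAffine Z.left → IsPullback fst snd f.hom g → AlgSp.IsDecent P) :
    AlgSp.IsDecentMor f.hom := by
  intro T F' g fst snd sq
  have hF' : IsAlgSpace F' :=
    isAlgSpace_of_isPullback Y.property.diag X.property (IsAlgSpace.yon_obj T) sq
  refine isDecent_of_open_cover_base hF' snd ?_
  intro t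
  obtain ⟨D, hD, htD, -⟩ := exists_isAffineOpen_mem_and_subset (x := t) (U := (⊤ : T.left.Opens)) trivial
  refine ⟨D, htD, ?_⟩
  refine h (OpenSub.subOver T D) ((yon S).map (OpenSub.subOverι T D) ≫ g) _
    (pullback.fst snd ((yon S).map (OpenSub.subOverι T D)) ≫ fst)
    (pullback.snd snd ((yon S).map (OpenSub.subOverι T D))) hD ?_
  exact (IsPullback.of_hasPullback snd ((yon S).map (OpenSub.subOverι T D))).flip.paste_vert sq.flip |>.flip

end Groth.Agent.S10386
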