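import Groth.Statements.S10387
import Groth.Agent.Lib.Helper5.AlgSpDecentLocal
import Groth.Agent.S10384
import Groth.Agent.S9906

set_option autoImplicit false
universe u
open CategoryTheory CategoryTheory.Limits AlgebraicGeometry Topology TopologicalSpace
open AlgSp

namespace Groth.Agent.S10387

open Groth.Agent.Lib.helper5 Groth.Agent.Lib.helper5.DecentLocal

/-- (5) ⇒ (1): let S be a scheme, X and Y algebraic spaces over S, f : X ⟶ Y a morphism, and V ⟶ Y a
surjective etale morphism from a scheme. If the base change V ×_Y X ⟶ V is a decent morphism, then f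
is decent. -/
theorem result {S : Scheme.{u}} {X Y : AlgSp.Space S} (f : X ⟶ Y) {V : Over S}
    (p : (AlgSp.yon S).obj V ⟶ Y.obj) (hp : AlgSp.RepWith @Etale p) (hps : AlgSp.RepWith @Surjective p)
    (X' : AlgSp.Sp S) (fst : X' ⟶ X.obj) (snd : X' ⟶ (AlgSp.yon S).obj V) (hsq : IsPullback fst snd f.hom p)
    (h : AlgSp.IsDecentMor snd) : AlgSp.IsDecentMor f.hom := by
  intro T F' g fst' snd' sq
  have hF' : IsAlgSpace F' :=
    isAlgSpace_of_isPullback Y.property.diag X.property (IsAlgSpace.yon_obj T) sq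
  refine isDecent_of_open_cover_base hF' snd' ?_
  intro t
  -- `T' = T ×_Y V`
  obtain ⟨T', c, d', sqT⟩ := hp.1 g
  obtain ⟨d, rfl⟩ := (yon S).map_surjective d'
  have hce : Etale c.left := hp.2 _ _ _ sqT
  have hcs : Surjective c.left := hps.2 _ _ _ sqT
  obtain ⟨t', ht'⟩ := hcs.surj t
  obtain ⟨D0, hD0, htD0, -⟩ := exists_isAffineOpen_mem_and_subset (x := t) (U := (⊤ : T.left.Opens)) trivial
  obtain ⟨D', hD', ht'D', hD'sub⟩ := exists_isAffineOpen_mem_and_subset (x := t') (U := c.left ⁻¹ᵁ D0)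
    (by change c.left t' ∈ D0; rw [ht']; exact htD0)
  let D : T.left.Opens := ⟨c.left '' (D' : Set ↥T'.left), c.left.isOpenMap _ D'.2⟩
  have htD : t ∈ D := ⟨t', ht'D', ht'⟩
  have hDD0 : D ≤ D0 := by
    rintro _ ⟨y, hy, rfl⟩
    exact hD'sub hy
  refine ⟨D, htD, ?_⟩
  -- the restriction `D' ⟶ D` of `c`
  have hrange : Set.range (D'.ι ≫ c.left) ⊆ Set.range D.ι := by
    rintro _ ⟨y, rfl⟩
    rw [Scheme.Opens.range_ι]
    exact ⟨y.1, y.2, by rw [Scheme.Hom.comp_apply]; rfl⟩
  let cD0 : (D' : Scheme.{u}) ⟶ (D : Scheme.{u}) := IsOpenImmersion.lift D.ι (D'.ι ≫ c.left) hrange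
  have hcD0 : cD0 ≫ D.ι = D'.ι ≫ c.left := IsOpenImmersion.lift_fac _ _ _
  let cD : OpenSub.subOver T' D' ⟶ OpenSub.subOver T D := Over.homMk cD0 (by
    change cD0 ≫ D.ι ≫ T.hom = D'.ι ≫ T'.hom
    rw [← Category.assoc, hcD0, Category.assoc, Over.w c])
  have hcDι : cD ≫ OpenSub.subOverι T D = OpenSub.subOverι T' D' ≫ c := by
    ext1
    exact hcD0
  have hcDe : Etale cD.left := by
    have : Etale (cD0 ≫ D.ι) := by rw [hcD0]; infer_instance
    exact Etale.of_comp cD0 D.ι
  have hcDs : Surjective cD.left := by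
    constructor
    rintro ⟨_, y, hy, rfl⟩
    refine ⟨⟨y, hy⟩, ?_⟩
    apply D.ι.injective
    change (cD0 ≫ D.ι) _ = _
    rw [hcD0]
    rfl
  have hcDq : QuasiCompact cD.left := by
    have haD' : IsAffine (D' : Scheme.{u}) := hD'
    have haD0 : IsAffine (D0 : Scheme.{u}) := hD0
    have : QuasiCompact (cD0 ≫ T.left.homOfLE hDD0) := inferInstance
    exact QuasiCompact.of_comp cD0 (T.left.homOfLE hDD0)
  -- the spaces involved
  let ιD := (yon S).map (OpenSub.subOverι T D)
  have sq2 : IsPullback (pullback.fst snd' ιD) (pullback.snd snd' ιD) snd' ιD := IsPullback.of_hasPullback _ _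
  have hPD : IsAlgSpace (pullback snd' ιD) :=
    isAlgSpace_of_isPullback (IsAlgSpace.yon_obj T).diag hF' (IsAlgSpace.yon_obj _) sq2
  have sq1 : IsPullback (pullback.fst (pullback.snd snd' ιD) ((yon S).map cD))
      (pullback.snd (pullback.snd snd' ιD) ((yon S).map cD)) (pullback.snd snd' ιD) ((yon S).map cD) :=
    IsPullback.of_hasPullback _ _
  have hX'' : IsAlgSpace (pullback (pullback.snd snd' ιD) ((yon S).map cD)) :=
    isAlgSpace_of_isPullback (IsAlgSpace.yon_obj _).diag hPD (IsAlgSpace.yon_obj _) sq1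
  -- the covering `X'' ⟶ P_D`
  have hre : RepWith @Etale (pullback.fst (pullback.snd snd' ιD) ((yon S).map cD)) :=
    (repWith_isStableUnderBaseChange (S := S) @Etale).of_isPullback sq1.flip
      ((repWith_yon_map_iff @Etale cD).2 hcDe)
  have hrq : RepWith @QuasiCompact (pullback.fst (pullback.snd snd' ιD) ((yon S).map cD)) :=
    (repWith_isStableUnderBaseChange (S := S) @QuasiCompact).of_isPullback sq1.flip
      ((repWith_yon_map_iff @QuasiCompact cD).2 hcDq)
  have hrs : RepWith @Surjective (pullback.fst (pullback.snd snd' ιD) ((yon S).map cD)) :=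
    (repWith_isStableUnderBaseChange (S := S) @Surjective).of_isPullback sq1.flip
      ((repWith_yon_map_iff @Surjective cD).2 hcDs)
  let φ : (⟨_, hX''⟩ : Space S) ⟶ (⟨_, hPD⟩ : Space S) :=
    ObjectProperty.homMk (pullback.fst (pullback.snd snd' ιD) ((yon S).map cD))
  refine Groth.Agent.S10384.result φ
    (Groth.Agent.Lib.helper7.AlgSpQC.isQuasiCompactMor_of_repWith hrq)
    (fun U ψ hψ => (RepWith (S := S) @Etale).comp_mem _ _ hψ hre)
    ((Groth.Agent.S9906.result φ hrs.1).1 hrs) ?_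
  -- `X''` is decent
  have hbot : ((yon S).map cD ≫ ιD) ≫ g = (yon S).map (OpenSub.subOverι T' D' ≫ d) ≫ p := by
    change ((yon S).map cD ≫ (yon S).map (OpenSub.subOverι T D)) ≫ g = _
    rw [← Functor.map_comp, hcDι, Functor.map_comp, Functor.map_comp, Category.assoc, Category.assoc, sqT.w]
  have sqBig := (sq1.paste_horiz sq2).paste_horiz sq
  rw [hbot] at sqBig
  let k : pullback (pullback.snd snd' ιD) ((yon S).map cD) ⟶ X' :=
    hsq.lift ((pullback.fst (pullback.snd snd' ιD) ((yon S).map cD) ≫ pullback.fst snd' ιD) ≫ fst')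
      (pullback.snd (pullback.snd snd' ιD) ((yon S).map cD) ≫ (yon S).map (OpenSub.subOverι T' D' ≫ d)) (by
        rw [Category.assoc _ _ p]
        exact sqBig.w)
  have hk1 : k ≫ fst = (pullback.fst (pullback.snd snd' ιD) ((yon S).map cD) ≫ pullback.fst snd' ιD) ≫ fst' :=
    hsq.lift_fst _ _ _
  have hk2 : k ≫ snd = pullback.snd (pullback.snd snd' ιD) ((yon S).map cD) ≫
      (yon S).map (OpenSub.subOverι T' D' ≫ d) := hsq.lift_snd _ _ _
  rw [← hk1] at sqBig
  exact h _ k _ (IsPullback.of_right sqBig hk2 hsq)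

end Groth.Agent.S10387
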