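import Groth.Statements.S10388
import Groth.Agent.S10289
import Groth.Agent.S10343

set_option autoImplicit false
universe u
open CategoryTheory CategoryTheory.Limits AlgebraicGeometry Topology TopologicalSpace
open AlgSp

namespace Groth.Agent.S10388

open Groth.Agent.Lib.helper11 Groth.Agent.Lib.helper10 IsLocalRing
open Groth.Agent.S10289

variable {S : Scheme.{u}}

set_option backward.isDefEq.respectTransparency.types false in
set_option maxHeartbeats 800000 in
theorem main {X Y : AlgSp.Space S} (f : X ⟶ Y)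
    (hd : AlgSp.IsDecentMor f.hom) (hc : AlgSp.IsUnivClosedMor f.hom) : AlgSp.ExistVC f.hom := by
  intro sq
  have sqP : IsPullback (pullback.fst f.hom sq.bot) (pullback.snd f.hom sq.bot) f.hom sq.bot :=
    IsPullback.of_hasPullback _ _
  generalize pullback.fst f.hom sq.bot = fst at sqP
  generalize pullback.snd f.hom sq.bot = snd at sqP
  generalize pullback f.hom sq.bot = P at fst snd sqP
  have hP : IsAlgSpace P :=
    Groth.Agent.Lib.helper5.isAlgSpace_of_isPullback Y.property.diag X.property (IsAlgSpace.yon_obj sq.ptA) sqP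
  have hcl : IsClosedMap (Points.map snd) := hc (IsAlgSpace.yon_obj sq.ptA) sq.bot fst snd sqP
  have hPd : IsDecent P := hd sq.bot fst snd sqP
  obtain ⟨x₀, hx₀1, hx₀2⟩ := sqP.exists_lift sq.top ((yon S).map sq.j) sq.comm
  let q : FieldPt P := fieldPtOfHom sq.ptK.hom x₀
  have hq : q.toHom = x₀ := fieldPtOfHom_toHom _ _
  obtain ⟨x', hxx', hx'⟩ := exists_specialization_over_closedPoint sq.str snd hcl (Points.mk q)
  obtain ⟨U, a, u', hU, ha, hau'⟩ := exists_affine_chart hP x'
  have hAaff : IsAffine sq.ptA.left := by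
    show IsAffine (Spec (CommRingCat.of sq.A))
    infer_instance
  obtain ⟨u, huu', hau⟩ := Groth.Agent.S10343.result ⟨P, hP⟩ x' (Points.mk q) hxx'
    (hPd (Points.mk q)) a ha u' hau'
  obtain ⟨Ω, _, w, α, β, hαβ⟩ := exists_common_extension (p := FieldPt.ofPt a u) (q := q) hau
  rw [FieldPt.toHom_ofPt, hq] at hαβ
  obtain ⟨h, hh⟩ := (yon S).map_surjective (a ≫ snd)
  -- the ring side
  let αr : U.left.residueField u ⟶ CommRingCat.of Ω := Spec.preimage α.left
  have hαr : Spec.map αr = α.left := Spec.map_preimage _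
  let ρ : U.left.presheaf.stalk u' ⟶ CommRingCat.of Ω :=
    U.left.presheaf.stalkSpecializes huu' ≫ U.left.residue u ≫ αr
  obtain ⟨A', hA', hA'loc⟩ := exists_factor_valuationRing ρ.hom
  let ρA' : U.left.presheaf.stalk u' ⟶ .of A' := CommRingCat.ofHom (ρ.hom.codRestrict _ hA')
  let cl : Spec (.of A') ⟶ U.left := Spec.map ρA' ≫ U.left.fromSpecStalk u'
  have F1 : Spec.map (CommRingCat.ofHom (algebraMap A' Ω)) ≫ cl =
      α.left ≫ U.left.fromSpecResidueField u := by
    have e : ρA' ≫ CommRingCat.ofHom (algebraMap A' Ω) = ρ := rfl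
    show Spec.map (CommRingCat.ofHom (algebraMap A' Ω)) ≫ Spec.map ρA' ≫ U.left.fromSpecStalk u' = _
    rw [← Category.assoc, ← Spec.map_comp, e]
    show Spec.map (U.left.presheaf.stalkSpecializes huu' ≫ U.left.residue u ≫ αr) ≫ _ = _
    rw [Spec.map_comp, Spec.map_comp, Category.assoc, Category.assoc,
      Scheme.SpecMap_stalkSpecializes_fromSpecStalk, hαr]
    rfl
  let κu : (FieldPt.ofPt a u).pt ⟶ U := Over.homMk (U.left.fromSpecResidueField u) rfl
  have hαβ' : (yon S).map α ≫ (yon S).map κu ≫ a = (yon S).map β ≫ x₀ := hαβ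
  let β' : Over.mk w ⟶ sq.ptK := β
  have F2' : α ≫ κu ≫ h = β' ≫ sq.j := by
    apply (yon S).map_injective
    calc (yon S).map (α ≫ κu ≫ h) = (yon S).map α ≫ (yon S).map κu ≫ (yon S).map h := by
          rw [Functor.map_comp, Functor.map_comp]
      _ = ((yon S).map α ≫ (yon S).map κu ≫ a) ≫ snd := by rw [hh]; simp only [Category.assoc]
      _ = ((yon S).map β' ≫ x₀) ≫ snd := by rw [hαβ']; rfl
      _ = (yon S).map β' ≫ (yon S).map sq.j := by rw [Category.assoc, hx₀2]
      _ = (yon S).map (β' ≫ sq.j) := (Functor.map_comp _ _ _).symm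
  have F2 : α.left ≫ U.left.fromSpecResidueField u ≫ h.left = β.left ≫ sq.j.left :=
    congrArg (fun m => m.left) F2'
  let φc : CommRingCat.of sq.A ⟶ CommRingCat.of A' := Spec.preimage (cl ≫ h.left)
  have hφ : Spec.map φc = cl ≫ h.left := Spec.map_preimage _
  let ψc : CommRingCat.of sq.K ⟶ CommRingCat.of Ω := Spec.preimage β.left
  have hψ : Spec.map ψc = β.left := Spec.map_preimage _
  have hcomm : φc ≫ CommRingCat.ofHom (algebraMap A' Ω) =
      CommRingCat.ofHom (algebraMap sq.A sq.K) ≫ ψc := by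
    apply Spec.map_injective
    rw [Spec.map_comp, Spec.map_comp, hφ, hψ, ← Category.assoc, F1, Category.assoc, F2]
    rfl
  have hpt : Points.schemeHomeo sq.ptA (h.left u') = Points.schemeHomeo sq.ptA (closedPoint sq.A) := by
    rw [← hx', ← hau', Points.map_ofPt, ← hh]
    show Points.ofPt (𝟙 _) (h.left u') = _
    rw [← ofPt_yon_map_comp, Category.comp_id]
  have hclosed : (Spec.map φc) (closedPoint A') = closedPoint sq.A := by
    rw [hφ]
    show (Spec.map ρA' ≫ U.left.fromSpecStalk u' ≫ h.left) (closedPoint A') = _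
    simp only [Scheme.Hom.comp_base, TopCat.coe_comp, Function.comp_apply]
    have h2 : Spec.map ρA' (closedPoint A') = closedPoint (U.left.presheaf.stalk u') :=
      comap_closedPoint (S := A') (ρ.hom.codRestrict A'.toSubring hA')
    rw [h2, U.left.fromSpecStalk_closedPoint]
    exact (Points.schemeHomeo sq.ptA).injective hpt
  have hloc : IsLocalHom φc.hom := by
    apply ((IsLocalRing.local_hom_TFAE φc.hom).out 0 4).mpr
    exact congrArg PrimeSpectrum.asIdeal hclosed
  let e : sq.DomExt :=
    { A' := A'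
      K' := Ω
      φ := φc.hom
      ψ := ψc.hom
      comm := congrArg CommRingCat.Hom.hom hcomm
      isLocalHom := hloc }
  have hcl_over : cl ≫ U.hom = Spec.map (CommRingCat.ofHom e.φ) ≫ sq.str := by
    rw [← Over.w h]
    show cl ≫ h.left ≫ sq.str = Spec.map φc ≫ sq.str
    rw [← Category.assoc, ← hφ]
  let cA' : e.ptA' ⟶ U := Over.homMk cl hcl_over
  refine ⟨e, (yon S).map cA' ≫ a ≫ fst, ?_, ?_⟩
  · have hw : w = e.ptK'.hom := by
      have hwα : α.left ≫ U.left.fromSpecResidueField u ≫ U.hom = w := Over.w α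
      rw [← hwα]
      show α.left ≫ U.left.fromSpecResidueField u ≫ U.hom =
        Spec.map (CommRingCat.ofHom (algebraMap A' Ω)) ≫ Spec.map φc ≫ sq.str
      rw [hφ, ← Over.w h]
      simp only [Category.assoc]
      rw [reassoc_of% F1]
      rfl
    let θ : e.ptK' ⟶ Over.mk w := Over.homMk (𝟙 _) (by rw [Category.id_comp]; exact hw)
    let jK' : e.ptK' ⟶ e.ptA' := Over.homMk (Spec.map (CommRingCat.ofHom (algebraMap e.A' e.K'))) rfl
    have e3 : jK' ≫ cA' = θ ≫ α ≫ κu := by
      apply Over.OverMorphism.ext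
      show Spec.map (CommRingCat.ofHom (algebraMap A' Ω)) ≫ cl =
        𝟙 _ ≫ α.left ≫ U.left.fromSpecResidueField u
      rw [Category.id_comp, F1]
    have hψ' : Spec.map (CommRingCat.ofHom e.ψ) ≫ sq.ptK.hom = e.ptK'.hom := by
      change Spec.map _ ≫ Spec.map _ ≫ _ = Spec.map _ ≫ Spec.map _ ≫ _
      rw [← Spec.map_comp_assoc, ← Spec.map_comp_assoc, ← CommRingCat.ofHom_comp,
        ← CommRingCat.ofHom_comp, e.comm]
    let ψ' : e.ptK' ⟶ sq.ptK := Over.homMk (Spec.map (CommRingCat.ofHom e.ψ)) hψ'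
    have e4 : ψ' = θ ≫ β' := by
      apply Over.OverMorphism.ext
      show Spec.map ψc = 𝟙 _ ≫ β.left
      rw [Category.id_comp, hψ]
    show (yon S).map jK' ≫ (yon S).map cA' ≫ a ≫ fst = (yon S).map ψ' ≫ sq.top
    calc (yon S).map jK' ≫ (yon S).map cA' ≫ a ≫ fst
        = (yon S).map (jK' ≫ cA') ≫ a ≫ fst := by rw [Functor.map_comp, Category.assoc]
      _ = (yon S).map θ ≫ ((yon S).map α ≫ (yon S).map κu ≫ a) ≫ fst := by
          rw [e3]; simp only [Functor.map_comp, Category.assoc]
      _ = (yon S).map θ ≫ ((yon S).map β' ≫ x₀) ≫ fst := by rw [hαβ']; rfl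
      _ = (yon S).map ψ' ≫ sq.top := by
          rw [e4]
          have hcomp : (yon S).map (θ ≫ β') = (yon S).map θ ≫ (yon S).map β' :=
            Functor.map_comp _ _ _
          rw [hcomp]; simp only [Category.assoc]; rw [hx₀1]
  · rw [Category.assoc, Category.assoc, sqP.w, ← Category.assoc a, ← hh, ← Category.assoc,
      ← Functor.map_comp]
    congr 2
    apply Over.OverMorphism.ext
    show cl ≫ h.left = Spec.map φc
    exact hφ.symm

/-- Let S be a scheme, X and Y algebraic spaces over S, and f : X ⟶ Y a quasi-compact decent morphism.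
If f is universally closed, then the valuative criterion's existence part holds for f. (The
published statement is the equivalence of the two conditions; the converse implication holds for
every quasi-compact f and is not part of this row.) -/
theorem result {S : Scheme.{u}} {X Y : AlgSp.Space S} (f : X ⟶ Y)
    (hq : AlgSp.IsQuasiCompactMor f.hom) (hd : AlgSp.IsDecentMor f.hom) (hc : AlgSp.IsUnivClosedMor f.hom) :
    AlgSp.ExistVC f.hom := by
  exact main f hd hc

end Groth.Agent.S10388
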