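import Groth.Statements.S10390
import Groth.Agent.Lib.Helper5.PreimmDiscrete
import Groth.Agent.Lib.Helper5.FieldQuotQS
import Groth.Agent.Lib.Helper5.AlgSpInf2
import Groth.Agent.Lib.Helper5.AlgSpAffDesc
import Groth.Agent.Lib.Helper5.AlgSpFpqcBase
import Groth.Agent.Lib.Helper11.AlgSpBasic
import Groth.Agent.Lib.Helper24.EtaleReduced
import Groth.Agent.S10341
import Groth.Agent.S10343
import Groth.Agent.S10196

set_option autoImplicit false
universe u
open CategoryTheory CategoryTheory.Limits AlgebraicGeometry Topology TopologicalSpace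
open AlgSp

namespace Groth.Agent.S10390

open Groth.Agent.Lib.helper5 Groth.Agent.Lib.helper5.FieldQuot Groth.Agent.Lib.helper5.PreimmDiscrete
  Groth.Agent.Lib.helper11

theorem map_toHom_eq {S : Scheme.{u}} {F : Sp S} (r : FieldPt F) (w : Points ((yon S).obj r.pt)) :
    Points.map r.toHom w = Points.mk r := by
  rw [← Points.ofScheme_toScheme r.pt w, ← Points.ofPt_eq_map_ofScheme]
  exact Points.ofPt_toHom r _

/-- the fibre of an etale chart over a quasi-compact mono point is a preimmersion -/
theorem isPreimmersion_fibre {S : Scheme.{u}} (Y : AlgSp.Space S) (r : AlgSp.FieldPt Y.obj) (hm : Mono r.toHom)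
    (hq : AlgSp.RepWith @QuasiCompact r.toHom) {V Vk : Over S} (b : (yon S).obj V ⟶ Y.obj) (hbe : RepWith @Etale b)
    (τ : Vk ⟶ r.pt) (g : Vk ⟶ V) (sq : IsPullback ((yon S).map τ) ((yon S).map g) r.toHom b) :
    IsPreimmersion g.left := by
  have hmono' : Mono ((yon S).map g) := sq.mono_snd_of_mono
  have hmono : Mono g := (yon S).mono_of_mono_map hmono'
  have hmonol : Mono g.left := inferInstance
  have hqc : QuasiCompact g.left := hq.2 b _ g sq
  have hτe : Etale τ.left := hbe.2 r.toHom _ τ sq.flip
  have hlqf : LocallyQuasiFinite τ.left := lqf_of_etale τ.left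
  have hart : IsLocallyArtinian r.pt.left := inferInstanceAs (IsLocallyArtinian (Spec (CommRingCat.of r.K)))
  have hart' : IsLocallyArtinian Vk.left := IsLocallyArtinian.of_locallyQuasiFinite τ.left
  have hred : IsReduced r.pt.left := inferInstanceAs (IsReduced (Spec (CommRingCat.of r.K)))
  have hred' : IsReduced Vk.left := Groth.Agent.H1.EtaleReduced.isReduced_of_etale τ.left
  have hdisc : DiscreteTopology ↥Vk.left := inferInstance
  have hfib : ∀ v : ↥Vk.left, Points.ofPt b (g.left v) = Points.mk r := by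
    intro v
    rw [ofPt_comm sq.w.symm v, Points.ofPt_toHom]
  refine isPreimmersion_of_mono_discrete g.left ?_
  intro v v' hs
  have hx : ∀ (V' : Over S) (b' : (AlgSp.yon S).obj V' ⟶ Y.obj), IsAffine V'.left → AlgSp.RepWith @Etale b' →
      (AlgSp.Points.ofPt b' ⁻¹' {Points.mk r}).Finite := by
    intro V' b' hV' hb'
    have := hV'
    exact Groth.Agent.S10343.finite_fibre_of_qc_point r hq b' hb'
  have := Groth.Agent.S10341.main Y (Points.mk r) hx b hbe (g.left v) (g.left v') (hfib v) (hfib v') hs
  exact g.left.injective this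

/-- Let S be a scheme, X and Y algebraic spaces over S, and f : X ⟶ Y a morphism, and let y ∈ |Y| be a
point represented by a monomorphism Spec k ⟶ Y which is representable quasi-compact. Then for the
fibre X_k = Spec k ×_Y X the map |X_k| → |X| is a homeomorphism of |X_k| onto f⁻¹({y}) with its
induced topology. -/
theorem result {S : Scheme.{u}} {X Y : AlgSp.Space S} (f : X ⟶ Y)
    (r : AlgSp.FieldPt Y.obj) (hm : Mono r.toHom) (hq : AlgSp.RepWith @QuasiCompact r.toHom)
    (Xk : AlgSp.Space S) (fst : Xk ⟶ X) (snd : Xk.obj ⟶ (AlgSp.yon S).obj r.pt) (hsq : IsPullback fst.hom snd f.hom r.toHom) :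
    IsEmbedding (AlgSp.Points.map fst.hom) ∧
      Set.range (AlgSp.Points.map fst.hom) = AlgSp.Points.map f.hom ⁻¹' {AlgSp.Points.mk r} := by
  have := hm
  obtain ⟨U, V, a, b, h, hae, has, hbe, hbs, hab⟩ := exists_chart_diagram X.property Y.property f.hom
  obtain ⟨Vk, gV, fstV, sqV⟩ := Y.property.representable_from_yon r.toHom b
  obtain ⟨τV, rfl⟩ := (yon S).map_surjective fstV
  obtain ⟨Uk, gU, fstU, sqU⟩ := Y.property.representable_from_yon r.toHom ((yon S).map h ≫ b)
  obtain ⟨τU, rfl⟩ := (yon S).map_surjective fstU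
  have hpreV : IsPreimmersion gV.left := isPreimmersion_fibre Y r hm hq b hbe τV gV sqV
  obtain ⟨ρ', -, sqρ⟩ := isPullback_of_lift sqV sqU
  obtain ⟨ρ, rfl⟩ := (yon S).map_surjective ρ'
  have sqρl : IsPullback ρ.left gU.left gV.left h.left := AffDesc.isPullback_left_of_yon sqρ
  have hpreU : IsPreimmersion gU.left := MorphismProperty.of_isPullback (P := @IsPreimmersion) sqρl hpreV
  have sqU' : IsPullback ((yon S).map τU) ((yon S).map gU) r.toHom (a ≫ f.hom) := by rw [hab]; exact sqU
  obtain ⟨b', hb'snd, sqX⟩ := isPullback_of_lift hsq.flip sqU'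
  have hb'e : RepWith @Etale b' := MorphismProperty.of_isPullback (P := RepWith @Etale) sqX.flip hae
  have hb's : RepWith @Surjective b' := MorphismProperty.of_isPullback (P := RepWith @Surjective) sqX.flip has
  have hmonofst : Mono fst.hom := hsq.mono_fst_of_mono
  refine ⟨⟨⟨?_⟩, Groth.Agent.S10196.injective_map_of_mono fst.hom⟩, ?_⟩
  · refine le_antisymm (continuous_iff_le_induced.1 (Points.continuous_map fst.hom)) ?_
    intro W hW
    rw [isOpen_induced_iff]
    have hW₁ : IsOpen (Points.ofPt b' ⁻¹' W) := (Points.continuous_ofPt b').isOpen_preimage W hW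
    obtain ⟨W₂, hW₂, hW₂eq⟩ := hpreU.isEmbedding.toIsInducing.isOpen_iff.1 hW₁
    refine ⟨Points.ofPt a '' W₂, isOpenMap_ofPt a hae W₂ hW₂, ?_⟩
    ext z
    constructor
    · rintro ⟨u, hu, huz⟩
      obtain ⟨v, hv, hvu⟩ := exists_of_isPullback_scheme sqX z u huz.symm
      have : v ∈ gU.left ⁻¹' W₂ := by
        show gU.left v ∈ W₂
        rw [hvu]; exact hu
      rw [hW₂eq] at this
      rw [← hv]
      exact this
    · intro hz
      obtain ⟨v, rfl⟩ := surjective_ofPt b' hb's z
      have hv : v ∈ gU.left ⁻¹' W₂ := by rw [hW₂eq]; exact hz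
      refine ⟨gU.left v, hv, ?_⟩
      rw [← ofPt_yon_map_comp, ← sqX.w, Points.map_ofPt]
  · ext x
    constructor
    · rintro ⟨z, rfl⟩
      show Points.map f.hom (Points.map fst.hom z) = Points.mk r
      rw [← Points.map_comp, hsq.w, Points.map_comp]
      exact map_toHom_eq r _
    · intro hx
      have hx' : Points.map f.hom x = Points.mk r := hx
      let w : Points ((yon S).obj r.pt) := Points.ofScheme r.pt (IsLocalRing.closedPoint r.K : ↥(Spec (CommRingCat.of r.K)))
      obtain ⟨z, hz, -⟩ := Groth.Agent.Lib.helper10.exists_point_of_isPullback hsq x w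
        (hx'.trans (map_toHom_eq r w).symm)
      exact ⟨z, hz⟩

end Groth.Agent.S10390
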