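import Groth.Statements.S10389
import Groth.Agent.S10390
import Groth.Agent.S10215
import Groth.Agent.Lib.Helper5.AlgSpInfNbhd
import Groth.Agent.Lib.Helper5.FieldQuotChart

set_option autoImplicit false
universe u
open CategoryTheory CategoryTheory.Limits AlgebraicGeometry Topology TopologicalSpace
open AlgSp

namespace Groth.Agent.S10389

open Groth.Agent.Lib.helper5 Groth.Agent.Lib.helper5.FieldQuot Groth.Agent.Lib.helper11

/-- A residue field point of a scheme, composed with a morphism locally quasi-finite near the point, is locally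
quasi-finite. -/
theorem lqf_fromSpecResidueField_comp {U V : Scheme.{u}} (h : U ⟶ V) (u : ↥U) (W₀ : U.Opens) (hu : u ∈ W₀)
    (hlqf : LocallyQuasiFinite (W₀.ι ≫ h)) : LocallyQuasiFinite (U.fromSpecResidueField u ≫ h) := by
  have hr : Set.range (U.fromSpecResidueField u) ⊆ Set.range W₀.ι := by
    rw [Scheme.range_fromSpecResidueField, Scheme.Opens.range_ι]
    exact Set.singleton_subset_iff.2 hu
  have hl : IsOpenImmersion.lift W₀.ι (U.fromSpecResidueField u) hr ≫ W₀.ι = U.fromSpecResidueField u :=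
    IsOpenImmersion.lift_fac _ _ _
  have h1 : IsPreimmersion (IsOpenImmersion.lift W₀.ι (U.fromSpecResidueField u) hr ≫ W₀.ι) := by
    rw [hl]; infer_instance
  have h2 : IsPreimmersion (IsOpenImmersion.lift W₀.ι (U.fromSpecResidueField u) hr) :=
    IsPreimmersion.of_comp _ W₀.ι
  rw [← hl, Category.assoc]
  infer_instance

/-- Let W = X ×_Y Z be a fibre product of algebraic spaces over a scheme S with projections p, q, and
let x ∈ |X|, z ∈ |Z| lie over the same point y ∈ |Y|. If y is represented by a monomorphism Spec k ⟶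
Y from the spectrum of a field and g : Z ⟶ Y is quasi-finite at z, then the set of points of |W|
mapping to x and to z is finite. (Special case: Y decent and g etale.) -/
theorem result {S : Scheme.{u}} {X Y Z W : AlgSp.Space S} (f : X ⟶ Y)
    (g : Z ⟶ Y) (p : W ⟶ X) (q : W ⟶ Z) (hW : IsPullback p.hom q.hom f.hom g.hom) (x : AlgSp.Points X.obj)
    (z : AlgSp.Points Z.obj) (hxz : AlgSp.Points.map f.hom x = AlgSp.Points.map g.hom z)
    (hy : ∃ r : AlgSp.FieldPt Y.obj, AlgSp.Points.mk r = AlgSp.Points.map g.hom z ∧ Mono r.toHom)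
    (hg : AlgSp.HasAtMor (fun U _ h u => ∃ W : U.Opens, u ∈ W ∧ LocallyQuasiFinite (W.ι ≫ h) ∧ LocallyOfFiniteType (W.ι ≫ h)) g.hom z) :
    {w : AlgSp.Points W.obj | AlgSp.Points.map p.hom w = x ∧ AlgSp.Points.map q.hom w = z}.Finite := by
  obtain ⟨r, hr, hrm⟩ := hy
  obtain ⟨U, V, a, b, h, u, hae, hbe, hab, hu, W₀, huW, hlqf, hlft⟩ := hg
  induction x using Points.ind with
  | h pX =>
  let qz : FieldPt Z.obj := FieldPt.ofPt a u
  have hz : Points.mk qz = z := hu
  have hqtoHom : qz.toHom = (yon S).map (ptι a u) ≫ a := FieldPt.toHom_ofPt a u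
  have h1 : Points.mk r = Points.mk (pX.map f.hom) := hr.trans hxz.symm
  have h2 : Points.mk r = Points.mk (qz.map g.hom) := by rw [hr, ← hz]; rfl
  obtain ⟨cK, hcK⟩ : ∃ cK : pX.pt ⟶ r.pt, (yon S).map cK ≫ r.toHom = pX.toHom ≫ f.hom := by
    obtain ⟨c, hc, -⟩ := Groth.Agent.S10215.result Y r (pX.map f.hom) h1
    exact ⟨c, by rw [← FieldPt.toHom_map]; exact hc⟩
  obtain ⟨cL, hcL⟩ : ∃ cL : qz.pt ⟶ r.pt, (yon S).map cL ≫ r.toHom = qz.toHom ≫ g.hom := by
    obtain ⟨c, hc, -⟩ := Groth.Agent.S10215.result Y r (qz.map g.hom) h2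
    exact ⟨c, by rw [← FieldPt.toHom_map]; exact hc⟩
  -- the fibre product of the two points over `Y`
  obtain ⟨T, τL, fstT, sqT⟩ := Y.property.representable_from_yon (pX.toHom ≫ f.hom) (qz.toHom ≫ g.hom)
  obtain ⟨τK, rfl⟩ := (yon S).map_surjective fstT
  have sqT' : IsPullback ((yon S).map τK) ((yon S).map τL) ((yon S).map cK) ((yon S).map cL) := by
    refine isPullback_of_comp_mono r.toHom ?_
    rw [hcK, hcL]; exact sqT
  have sqTl : IsPullback τK.left τL.left cK.left cL.left := AffDesc.isPullback_left_of_yon sqT'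
  -- `cL` is locally quasi-finite
  obtain ⟨Vk, gV, fstV, sqV⟩ := Y.property.representable_from_yon r.toHom b
  obtain ⟨τV, rfl⟩ := (yon S).map_surjective fstV
  obtain ⟨l', hl1, hl2⟩ := sqV.exists_lift ((yon S).map cL) ((yon S).map (ptι a u ≫ h)) (by
    rw [hcL, hqtoHom, Functor.map_comp, Category.assoc, Category.assoc, hab])
  obtain ⟨l, rfl⟩ := (yon S).map_surjective l'
  have hl1' : l ≫ τV = cL := (yon S).map_injective (by rw [Functor.map_comp, hl1])
  have hl2' : l ≫ gV = ptι a u ≫ h := (yon S).map_injective (by rw [Functor.map_comp, hl2])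
  have hlqf1 : LocallyQuasiFinite (l.left ≫ gV.left) := by
    have : l.left ≫ gV.left = U.left.fromSpecResidueField u ≫ h.left := by
      rw [← Over.comp_left, hl2']; rfl
    rw [this]
    exact lqf_fromSpecResidueField_comp h.left u W₀ huW hlqf
  have hlqf2 : LocallyQuasiFinite l.left := LocallyQuasiFinite.of_comp l.left gV.left
  have hτVe : Etale τV.left := hbe.2 r.toHom _ τV sqV.flip
  have hlqf3 : LocallyQuasiFinite τV.left := lqf_of_etale τV.left
  have hlqf4 : LocallyQuasiFinite cL.left := by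
    rw [← hl1', Over.comp_left]; infer_instance
  have hqc4 : QuasiCompact cL.left := quasiCompact_of_field (K := qz.K) cL.left
  have hlqf5 : LocallyQuasiFinite τK.left :=
    MorphismProperty.of_isPullback (P := @LocallyQuasiFinite) sqTl.flip hlqf4
  have hqc5 : QuasiCompact τK.left :=
    MorphismProperty.of_isPullback (P := @QuasiCompact) sqTl.flip hqc4
  have hsub : Subsingleton ↥pX.pt.left := by
    change Subsingleton ↥(Spec (CommRingCat.of pX.K))
    exact inferInstanceAs (Subsingleton (PrimeSpectrum pX.K))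
  let s0 : ↥pX.pt.left := (IsLocalRing.closedPoint pX.K : ↥(Spec (CommRingCat.of pX.K)))
  have hfinT : Finite ↥T.left := by
    rw [← Set.finite_univ_iff]
    have h1 := Scheme.Hom.finite_preimage_singleton τK.left s0
    have h2 : τK.left ⁻¹' {s0} = Set.univ := by
      ext w
      simp only [Set.mem_preimage, Set.mem_singleton_iff, Set.mem_univ, iff_true]
      exact Subsingleton.elim _ _
    rwa [h2] at h1
  -- the iterated fibre product
  have sq1 : IsPullback (pullback.fst p.hom pX.toHom) (pullback.snd p.hom pX.toHom) p.hom pX.toHom :=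
    IsPullback.of_hasPullback _ _
  have sq2 : IsPullback (pullback.fst (pullback.fst p.hom pX.toHom ≫ q.hom) qz.toHom)
      (pullback.snd (pullback.fst p.hom pX.toHom ≫ q.hom) qz.toHom)
      (pullback.fst p.hom pX.toHom ≫ q.hom) qz.toHom := IsPullback.of_hasPullback _ _
  have big1 := sq1.paste_horiz hW.flip
  have big2 := sq2.flip.paste_vert big1
  let e := big2.isoIsPullback _ _ sqT.flip
  let Φ : (yon S).obj T ⟶ W.obj := e.inv ≫ pullback.fst (pullback.fst p.hom pX.toHom ≫ q.hom) qz.toHom ≫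
    pullback.fst p.hom pX.toHom
  refine (Set.finite_range (Points.ofPt Φ)).subset ?_
  rintro w ⟨hw1, hw2⟩
  let ξK : Points ((yon S).obj pX.pt) := Points.ofScheme pX.pt s0
  let ξL : Points ((yon S).obj qz.pt) :=
    Points.ofScheme qz.pt (IsLocalRing.closedPoint qz.K : ↥(Spec (CommRingCat.of qz.K)))
  obtain ⟨w₁, hw₁, -⟩ := Groth.Agent.Lib.helper10.exists_point_of_isPullback sq1 w ξK
    (hw1.trans (Groth.Agent.S10390.map_toHom_eq pX ξK).symm)
  obtain ⟨t', ht', -⟩ := Groth.Agent.Lib.helper10.exists_point_of_isPullback sq2 w₁ ξL (by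
    rw [Points.map_comp, hw₁, hw2, Groth.Agent.S10390.map_toHom_eq qz ξL, hz])
  refine ⟨Points.toScheme T (Points.map e.hom t'), ?_⟩
  rw [Points.ofPt_eq_map_ofScheme, Points.ofScheme_toScheme, ← Points.map_comp]
  show Points.map (e.hom ≫ e.inv ≫ _ ≫ _) t' = w
  rw [Iso.hom_inv_id_assoc, Points.map_comp, ht', hw₁]

end Groth.Agent.S10389
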