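import Groth.Statements.S10391
import Groth.Agent.Lib.Helper1.FieldDim
import Groth.Agent.S10338

set_option autoImplicit false
universe u
open CategoryTheory CategoryTheory.Limits AlgebraicGeometry Topology TopologicalSpace
open AlgSp

namespace Groth.Agent.S10391

open Groth.Agent.H1.FieldDim Groth.Agent.Lib.helper11

theorem main (k : Type u) [Field k] (X : AlgSp.Space (Spec (CommRingCat.of k)))
    (p : X.obj ⟶ (AlgSp.yon (Spec (CommRingCat.of k))).obj (Over.mk (𝟙 _)))
    (hp : AlgSp.LocP @LocallyOfFiniteType p) (x : AlgSp.Points X.obj) :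
    (IsOpen ({x} : Set (AlgSp.Points X.obj)) ↔
        (IsClosed ({x} : Set (AlgSp.Points X.obj)) ∧ ∀ x' : AlgSp.Points X.obj, x' ⤳ x → x' = x)) ∧
      (IsOpen ({x} : Set (AlgSp.Points X.obj)) ↔
        AlgSp.HasAt (fun U u => FlatMor.localDim ↥U u = 0) X.obj x) ∧
      (AlgSp.IsDecent X.obj →
        (FlatMor.localDim (AlgSp.Points X.obj) x = 0 ↔ IsOpen ({x} : Set (AlgSp.Points X.obj)))) := by
  refine ⟨⟨fun h => ⟨isClosed_singleton_of_isOpen_singleton X p hp x h,
      fun x' hx' => hx'.mem_open h rfl⟩,
    fun ⟨h1, h2⟩ => isOpen_singleton_of_closedChart X p hp x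
      (closedChart_of_isLocallyClosed X p hp x h1.isLocallyClosed) h2⟩, ⟨?_, ?_⟩, ?_⟩
  · intro h
    obtain ⟨U, a, u, hae, -, hu⟩ := exists_chart_ofPt X x
    exact ⟨U, a, u, hae, hu, localDim_eq_zero_of_isOpen_singleton u
      (isOpen_chart_of_isOpen_singleton X p hp x h a hae u hu)⟩
  · rintro ⟨U, a, u, hae, hu, hd⟩
    haveI : LocallyOfFiniteType U.hom := lft_chart X p hp a hae
    haveI : IsLocallyNoetherian U.left := LocallyOfFiniteType.isLocallyNoetherian U.hom
    obtain ⟨W, huW, hW⟩ := exists_open_dim_zero_of_localDim u hd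
    obtain ⟨hlc, hmax⟩ := isLocallyClosed_and_maximal_of_open_dim_le_zero u W huW hW.le
    have hop := isOpen_singleton_of_isLocallyNoetherian u hlc hmax
    have := isOpenMap_ofPt a hae _ hop
    rwa [Set.image_singleton, hu] at this
  · intro hdec
    haveI : T0Space (Points X.obj) := Groth.Agent.S10338.main X hdec
    constructor
    · intro hd
      obtain ⟨V, hxV, hV⟩ := exists_open_dim_zero_of_localDim x hd
      obtain ⟨hlc, hmax⟩ := isLocallyClosed_and_maximal_of_open_dim_le_zero x V hxV hV.le
      exact isOpen_singleton_of_closedChart X p hp x (closedChart_of_isLocallyClosed X p hp x hlc) hmax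
    · exact localDim_eq_zero_of_isOpen_singleton x

/-- Let k be a field, X an algebraic space over k which is locally of finite type, and x ∈ |X|. The
conditions (2) x is closed in |X| and has no proper generization, (3) x is an isolated point of |X|,
(4) dim_x(X) = 0 are equivalent; if X is decent they are also equivalent to (1) dim_x(|X|) = 0. (The
equivalence with quasi-finiteness of X → Spec k at x is not part of this row.) -/
theorem result (k : Type u) [Field k] (X : AlgSp.Space (Spec (CommRingCat.of k)))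
    (p : X.obj ⟶ (AlgSp.yon (Spec (CommRingCat.of k))).obj (Over.mk (𝟙 _))) (hp : AlgSp.LocP @LocallyOfFiniteType p) (x : AlgSp.Points X.obj) :
    (IsOpen ({x} : Set (AlgSp.Points X.obj)) ↔
        (IsClosed ({x} : Set (AlgSp.Points X.obj)) ∧ ∀ x' : AlgSp.Points X.obj, x' ⤳ x → x' = x)) ∧
      (IsOpen ({x} : Set (AlgSp.Points X.obj)) ↔ AlgSp.HasAt (fun U u => FlatMor.localDim ↥U u = 0) X.obj x) ∧
      (AlgSp.IsDecent X.obj →
        (FlatMor.localDim (AlgSp.Points X.obj) x = 0 ↔ IsOpen ({x} : Set (AlgSp.Points X.obj)))) := by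
  exact main k X p hp x

end Groth.Agent.S10391
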