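import Groth.Statements.S10392
import Groth.Agent.Lib.Helper1.FieldDim
import Groth.Agent.S10338

set_option autoImplicit false
universe u
open CategoryTheory CategoryTheory.Limits AlgebraicGeometry Topology TopologicalSpace
open AlgSp

namespace Groth.Agent.S10392

open Groth.Agent.H1.FieldDim Groth.Agent.Lib.helper11

/-- In a finite `T0` space every point is locally closed. -/
theorem isLocallyClosed_singleton_of_finite {T : Type*} [TopologicalSpace T] [T0Space T] [Finite T]
    (x : T) : IsLocallyClosed ({x} : Set T) := by
  refine ⟨(⋃ y ∈ {y : T | x ⤳ y ∧ y ≠ x}, closure {y})ᶜ, closure {x}, ?_, isClosed_closure, ?_⟩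
  · rw [isOpen_compl_iff]
    exact (Set.toFinite _).isClosed_biUnion fun _ _ => isClosed_closure
  · ext w
    simp only [Set.mem_singleton_iff, Set.mem_inter_iff, Set.mem_compl_iff, Set.mem_iUnion,
      Set.mem_ofPred_eq, exists_prop, not_exists, not_and]
    constructor
    · rintro rfl
      refine ⟨fun y hy hw => ?_, subset_closure rfl⟩
      have h1 : y ⤳ w := specializes_iff_mem_closure.2 hw
      exact hy.2 ((hy.1.antisymm h1).eq).symm
    · rintro ⟨h1, h2⟩
      by_contra hne
      exact h1 w ⟨specializes_iff_mem_closure.2 h2, hne⟩ (subset_closure rfl)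

theorem main (k : Type u) [Field k] (X : AlgSp.Space (Spec (CommRingCat.of k)))
    (p : X.obj ⟶ (AlgSp.yon (Spec (CommRingCat.of k))).obj (Over.mk (𝟙 _)))
    (hp : AlgSp.LocP @LocallyOfFiniteType p) [Nonempty (AlgSp.Points X.obj)] :
    (DiscreteTopology (AlgSp.Points X.obj) ↔ AlgSp.dim X.obj = 0) ∧
      (DiscreteTopology (AlgSp.Points X.obj) → topologicalKrullDim (AlgSp.Points X.obj) = 0) ∧
      (AlgSp.IsDecent X.obj → topologicalKrullDim (AlgSp.Points X.obj) = 0 →
        DiscreteTopology (AlgSp.Points X.obj)) ∧
      (AlgSp.IsDecent X.obj → Finite (AlgSp.Points X.obj) → AlgSp.dim X.obj = 0) := by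
  have h24 : DiscreteTopology (AlgSp.Points X.obj) → AlgSp.dim X.obj = 0 := by
    intro hd
    apply le_antisymm
    · unfold AlgSp.dim
      refine iSup_le fun U => iSup_le fun a => iSup_le fun hae => ?_
      haveI : DiscreteTopology ↥U.left := by
        rw [discreteTopology_iff_isOpen_singleton]
        intro u
        exact isOpen_chart_of_isOpen_singleton X p hp _ (isOpen_discrete _) a hae u rfl
      exact topologicalKrullDim_zero_of_discreteTopology _
    · obtain ⟨x⟩ := ‹Nonempty (AlgSp.Points X.obj)›
      obtain ⟨U, a, u, hae, -, hu⟩ := exists_chart_ofPt X x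
      unfold AlgSp.dim
      refine le_trans ?_ (le_iSup _ U)
      refine le_trans ?_ (le_iSup _ a)
      refine le_trans ?_ (le_iSup _ hae)
      haveI : Nonempty (IrreducibleCloseds ↥U.left) :=
        ⟨⟨closure {u}, isIrreducible_singleton.closure, isClosed_closure⟩⟩
      exact Order.krullDim_nonneg
  have hlc : (∀ x : Points X.obj, IsLocallyClosed ({x} : Set (Points X.obj))) →
      DiscreteTopology (AlgSp.Points X.obj) := fun h =>
    discreteTopology_of_closedChart X p hp fun x => closedChart_of_isLocallyClosed X p hp x (h x)
  refine ⟨⟨h24, ?_⟩, ?_, ?_, ?_⟩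
  · intro hd
    refine discreteTopology_of_closedChart X p hp ?_
    intro x U a hae u _
    have h1 : topologicalKrullDim ↥U.left ≤ 0 := by
      rw [← hd]
      unfold AlgSp.dim
      refine le_trans ?_ (le_iSup _ U)
      refine le_trans ?_ (le_iSup _ a)
      exact le_iSup (fun _ : RepWith @Etale a => topologicalKrullDim ↥U.left) hae
    exact isClosed_singleton_of_dim_le_zero h1 u
  · intro hd
    apply le_antisymm (topologicalKrullDim_zero_of_discreteTopology _)
    obtain ⟨x⟩ := ‹Nonempty (AlgSp.Points X.obj)›
    haveI : Nonempty (IrreducibleCloseds (Points X.obj)) :=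
      ⟨⟨closure {x}, isIrreducible_singleton.closure, isClosed_closure⟩⟩
    exact Order.krullDim_nonneg
  · intro hdec h0
    haveI : T0Space (Points X.obj) := Groth.Agent.S10338.main X hdec
    exact hlc fun x => (isClosed_singleton_of_dim_le_zero h0.le x).isLocallyClosed
  · intro hdec hfin
    haveI : T0Space (Points X.obj) := Groth.Agent.S10338.main X hdec
    exact h24 (hlc fun x => isLocallyClosed_singleton_of_finite x)

/-- Let k be a field and X a nonempty algebraic space over k which is locally of finite type. Then (2)
|X| is discrete if and only if (4) dim X = 0, and these imply (3) dim |X| = 0; if X is decent then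
(3) implies (2) and (1) |X| finite implies (4). (The published statement asserts (2) ⇔ (3) ⇔ (4) for
every such X and does not exclude the empty space; for the quotient of the affine line over a field
of characteristic zero by the translation action of the integers, |X| is an infinite set with the
indiscrete topology, so (3) holds while (2) and (4) fail, and for the empty space (2) holds while
dim X = ⊥. The equivalence with local quasi-finiteness of X → Spec k is not part of this row.) -/
theorem result (k : Type u) [Field k] (X : AlgSp.Space (Spec (CommRingCat.of k)))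
    (p : X.obj ⟶ (AlgSp.yon (Spec (CommRingCat.of k))).obj (Over.mk (𝟙 _))) (hp : AlgSp.LocP @LocallyOfFiniteType p) [Nonempty (AlgSp.Points X.obj)] :
    (DiscreteTopology (AlgSp.Points X.obj) ↔ AlgSp.dim X.obj = 0) ∧
      (DiscreteTopology (AlgSp.Points X.obj) → topologicalKrullDim (AlgSp.Points X.obj) = 0) ∧
      (AlgSp.IsDecent X.obj → topologicalKrullDim (AlgSp.Points X.obj) = 0 → DiscreteTopology (AlgSp.Points X.obj)) ∧
      (AlgSp.IsDecent X.obj → Finite (AlgSp.Points X.obj) → AlgSp.dim X.obj = 0) := by
  exact main k X p hp

end Groth.Agent.S10392
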