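import Groth.Statements.S10393
import Groth.Agent.S10355
import Groth.Agent.S10350
import Groth.Agent.Lib.Helper1.ZarGlue
import Groth.Agent.Lib.Helper5.AlgSpQSep
import Groth.Agent.Lib.Helper5.AlgSpOpenSub
import Groth.Agent.Lib.Helper5.AlgSpFpqcIso

set_option autoImplicit false
universe u
open CategoryTheory CategoryTheory.Limits AlgebraicGeometry Topology TopologicalSpace
open AlgSp

namespace Groth.Agent.S10393

open Groth.Agent.Lib.helper5 Groth.Agent.Lib.helper11

variable {S : Scheme.{u}}

theorem map_ι_mem (X : Sp S) (Ω : Set (Points X)) (w : Points (OpenSub.sub X Ω)) :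
    Points.map (OpenSub.ι X Ω) w ∈ Ω := by
  have := Set.mem_range_self (f := Points.map (OpenSub.ι X Ω)) w
  rwa [OpenSub.range_map_ι] at this

/-- An algebraic space with a monomorphism to an affine scheme and at most one point, which it
has, is a scheme. -/
theorem isRepresentable_of_mono_affine (P : Space S) {Z : Over S} [IsAffine Z.left]
    (g : P.obj ⟶ (yon S).obj Z) [Mono g] [Nonempty (Points P.obj)] [Subsingleton (Points P.obj)] :
    P.obj.obj.IsRepresentable := by
  haveI : IsIso (pullback.diagonal g) := inferInstance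
  have hqs : IsQuasiSeparatedSp P.obj :=
    QSep.isQuasiSeparatedSp_of_isQuasiSeparatedMor_affine P.property g
      (Groth.Agent.Lib.helper7.repWith_of_isIso _ _)
  exact Groth.Agent.S10355.main P (Groth.Agent.S10350.result P hqs)

theorem main (Y : Over S) [DiscreteTopology ↥Y.left]
    (X : AlgSp.Space S) (f : X.obj ⟶ (yon S).obj Y) [Mono f] : X.obj.obj.IsRepresentable := by
  have hinj : Function.Injective (Points.map f) := FpqcIso.injective_map_of_mono f
  -- the open pieces
  have hopen : ∀ y : ↥Y.left, IsOpen ({Points.ofScheme Y y} : Set (Points ((yon S).obj Y))) := by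
    intro y
    have := (Points.schemeHomeo Y).isOpenMap _ (isOpen_discrete {y})
    rwa [Set.image_singleton] at this
  have hΩ : ∀ y : ↥Y.left, IsOpen (Points.map f ⁻¹' {Points.ofScheme Y y}) := fun y =>
    (hopen y).preimage (Points.continuous_map f)
  have hsub : ∀ y : ↥Y.left, Subsingleton ↥(Points.map f ⁻¹' {Points.ofScheme Y y}) := fun y =>
    ⟨fun a b => Subtype.ext (hinj (a.2.trans b.2.symm))⟩
  -- each nonempty piece is a scheme
  have hrep : ∀ y : ↥Y.left, (Points.map f ⁻¹' {Points.ofScheme Y y}).Nonempty →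
      ∃ (M : Over S), Nonempty ((yon S).obj M ≅ OpenSub.sub X.obj
        (Points.map f ⁻¹' {Points.ofScheme Y y})) := by
    intro y hne
    let P : Space S := ⟨OpenSub.sub X.obj _, OpenSub.isAlgSpace_sub X.property (hΩ y)⟩
    -- the affine open `{y}`
    obtain ⟨_, ⟨A, hA, rfl⟩, hyA, hAsub⟩ := Y.left.isBasis_affineOpens.exists_subset_of_mem_open
      (Set.mem_singleton y) (isOpen_discrete {y})
    haveI : IsAffine (OpenSub.subOver Y A).left := hA
    have hfac : Set.range (Points.map (OpenSub.ι X.obj (Points.map f ⁻¹' {Points.ofScheme Y y}) ≫ f)) ⊆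
        Set.range (Points.map ((yon S).map (OpenSub.subOverι Y A))) := by
      rintro _ ⟨w, rfl⟩
      rw [OpenSub.range_map_subOverι]
      refine ⟨y, hyA, ?_⟩
      rw [Points.map_comp]
      have hw : Points.map (OpenSub.ι X.obj _) w ∈ Points.map f ⁻¹' {Points.ofScheme Y y} :=
        map_ι_mem X.obj _ w
      exact hw.symm
    obtain ⟨g, hg⟩ := (OpenSub.factors_iff _ (OpenSub.repWith_subOverι Y A) _).2 hfac
    haveI : Mono (g ≫ (yon S).map (OpenSub.subOverι Y A)) := by
      rw [hg]; exact mono_comp _ _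
    haveI : Mono g := mono_of_mono g ((yon S).map (OpenSub.subOverι Y A))
    have hιinj : Function.Injective (Points.map (OpenSub.ι X.obj
        (Points.map f ⁻¹' {Points.ofScheme Y y}))) := FpqcIso.injective_map_of_mono _
    haveI : Subsingleton (Points P.obj) := ⟨fun a b => hιinj (by
      have ha : Points.map (OpenSub.ι X.obj _) a ∈ Points.map f ⁻¹' {Points.ofScheme Y y} :=
        map_ι_mem X.obj _ a
      have hb : Points.map (OpenSub.ι X.obj _) b ∈ Points.map f ⁻¹' {Points.ofScheme Y y} :=
        map_ι_mem X.obj _ b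
      exact hinj (ha.trans hb.symm))⟩
    haveI : Nonempty (Points P.obj) := by
      obtain ⟨x, hx⟩ := hne
      rw [← OpenSub.range_map_ι X.obj (Points.map f ⁻¹' {Points.ofScheme Y y})] at hx
      obtain ⟨w, -⟩ := hx
      exact ⟨w⟩
    have hP : P.obj.obj.IsRepresentable := isRepresentable_of_mono_affine P g
    obtain ⟨M, ⟨r⟩⟩ := hP.has_representation
    exact ⟨M, ⟨isoOfRepresentableBy r⟩⟩
  -- glue
  let ι : Type u := {y : ↥Y.left // (Points.map f ⁻¹' {Points.ofScheme Y y}).Nonempty}
  let W : ι → Over S := fun i => (hrep i.1 i.2).choose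
  let ε : ∀ i : ι, (yon S).obj (W i) ≅ OpenSub.sub X.obj (Points.map f ⁻¹' {Points.ofScheme Y i.1}) :=
    fun i => (hrep i.1 i.2).choose_spec.some
  let a : ∀ i : ι, (yon S).obj (W i) ⟶ X.obj := fun i => (ε i).hom ≫ OpenSub.ι X.obj _
  have ha : ∀ i, RepWith @IsOpenImmersion (a i) := fun i =>
    (RepWith (S := S) @IsOpenImmersion).comp_mem _ _
      (Groth.Agent.Lib.helper7.repWith_of_isIso _ _) (OpenSub.repWith_ι X.obj (hΩ i.1))
  obtain ⟨G₀, α, -, hα, -⟩ := Groth.Agent.H1.ZarGlue.exists_rep ha (by
    intro Z η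
    apply Groth.Agent.Lib.Helper14.AlgSpQuot.mem_J_of_forall_exists_flat
    intro z
    obtain ⟨y, hy⟩ := (Points.schemeHomeo Y).surjective (Points.map f (Points.ofPt η z))
    have hy' : Points.map f (Points.ofPt η z) = Points.ofScheme Y y := hy.symm
    have hne : (Points.map f ⁻¹' {Points.ofScheme Y y}).Nonempty := ⟨_, hy'⟩
    obtain ⟨fst, sq⟩ := OpenSub.isPullback_preim (hΩ y) η
    refine ⟨OpenSub.subOver Z (OpenSub.preim (hΩ y) η), OpenSub.subOverι Z _, ?_, ⟨⟨z, hy'⟩, rfl⟩,
      inferInstanceAs (Flat (Scheme.Opens.ι _)),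
      inferInstanceAs (LocallyOfFinitePresentation (Scheme.Opens.ι _))⟩
    obtain ⟨u, hu⟩ := (yon S).map_surjective (fst ≫ (ε ⟨y, hne⟩).inv)
    refine ⟨⟨y, hne⟩, u, ?_⟩
    change (yon S).map u ≫ (ε ⟨y, hne⟩).hom ≫ OpenSub.ι X.obj _ = _
    rw [hu, Category.assoc, Iso.inv_hom_id_assoc, sq.w])
  haveI := hα
  exact (representableByOfIso (asIso α)).isRepresentable

/-- Let S be a scheme, Y a scheme over S whose underlying topological space is discrete (equivalently, Y
is a disjoint union of spectra of local rings of dimension zero), and X an algebraic space over S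
with a monomorphism X ⟶ Y over S. Then X is a scheme. -/
theorem result {S : Scheme.{u}} (Y : Over S) [DiscreteTopology ↥Y.left]
    (X : AlgSp.Space S) (f : X ⟶ (AlgSp.ofScheme S).obj Y) [Mono f.hom] : X.obj.obj.IsRepresentable := by
  have h : Mono (show X.obj ⟶ (AlgSp.yon S).obj Y from f.hom) := ‹Mono f.hom›
  exact @main S Y _ X f.hom h

end Groth.Agent.S10393
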