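import Groth.Statements.S10452
import Groth.Agent.S10343
import Groth.Agent.S10340
import Groth.Agent.S10350
import Groth.Agent.S10199
import Groth.Agent.Lib.Helper1.GenFinF
import Groth.Agent.Lib.Helper11.AlgSpBasic

set_option autoImplicit false
universe u
open CategoryTheory CategoryTheory.Limits AlgebraicGeometry Topology TopologicalSpace
open AlgSp

namespace Groth.Agent.S10452

open Groth.Agent.H1.GenFin Groth.Agent.Lib.helper11

/-- In a quasi-sober T0 space the generic points of irreducible components are the points without
proper generizations. -/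
theorem exists_irreducibleComponent_iff {T : Type*} [TopologicalSpace T] [QuasiSober T] [T0Space T]
    (x : T) : (∃ Z ∈ irreducibleComponents T, IsGenericPoint x Z) ↔ ∀ y : T, y ⤳ x → y = x := by
  constructor
  · rintro ⟨Z, hZ, hx⟩ y hy
    have h1 : closure {x} ⊆ closure {y} := specializes_iff_closure_subset.1 hy
    have h2 : IsIrreducible (closure ({y} : Set T)) := isIrreducible_singleton.closure
    have h3 : closure {y} ⊆ Z := hZ.2 h2 (by rw [← hx.def]; exact h1)
    have h4 : closure ({y} : Set T) = closure {x} := by
      rw [hx.def]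
      exact Set.Subset.antisymm h3 (by rw [← hx.def]; exact h1)
    have h5 : IsGenericPoint y (closure {x}) := h4
    exact h5.eq (isGenericPoint_closure)
  · intro hmax
    refine ⟨closure {x}, ⟨isIrreducible_singleton.closure, ?_⟩, isGenericPoint_closure⟩
    intro Z' hZ' hle
    have hZc : IsIrreducible (closure Z') := hZ'.closure
    obtain ⟨ξ, hξ⟩ := QuasiSober.sober hZc isClosed_closure
    have hxZ : x ∈ closure Z' := subset_closure (hle (subset_closure rfl))
    have h1 : ξ ⤳ x := hξ.specializes hxZ
    have h2 : ξ = x := hmax ξ h1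
    rw [h2] at hξ
    show Z' ⊆ closure {x}
    rw [hξ.def]
    exact subset_closure

theorem main {S : Scheme.{u}}
    (X : AlgSp.Space S) (hqs : AlgSp.IsQuasiSeparatedSp X.obj) (x : AlgSp.Points X.obj) :
    AlgSp.HasAt (fun U u => ringKrullDim ↥(U.presheaf.stalk u) = 0) X.obj x ↔
      ∃ Z ∈ irreducibleComponents (AlgSp.Points X.obj), IsGenericPoint x Z := by
  have hdec : IsDecent X.obj := Groth.Agent.S10350.result X hqs
  obtain ⟨hsob, ht0⟩ := Groth.Agent.S10199.result X ⟨PUnit, fun _ => X, fun _ => 𝟙 X,
    ⟨fun _ => Groth.Agent.Lib.helper7.repWith_of_isIso _ _, fun y => ⟨PUnit.unit, y, by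
      show Points.map (𝟙 X.obj) y = y
      exact Points.map_id y⟩⟩, fun _ => hqs⟩
  rw [exists_irreducibleComponent_iff]
  constructor
  · rintro ⟨U, a, u, hae, rfl, hdim⟩ y hy
    obtain ⟨p, hp, -, hpq⟩ := hdec y
    obtain ⟨u', hu', rfl⟩ := Groth.Agent.S10343.main X _ y hy ⟨p, hp, hpq⟩ a hae u rfl
    rw [maximal_of_dim_zero u hdim u' hu']
  · intro hmax
    obtain ⟨U, a, u, hae, -, rfl⟩ := exists_chart_ofPt X x
    refine ⟨U, a, u, hae, rfl, ?_⟩
    show ringKrullDim ↥(U.left.presheaf.stalk u) = 0
    rw [dim_zero_iff_maximal]
    intro u' hu'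
    have h1 : Points.ofPt a u' ⤳ Points.ofPt a u := hu'.map (Points.continuous_ofPt a)
    exact (Groth.Agent.S10340.main X hdec a hae u u' (hmax _ h1).symm hu').symm

/-- (2) ⇔ (3): let X be a quasi-separated algebraic space over a quasi-separated scheme S and x a point
of X. Then the local ring of X at x is zero-dimensional exactly when x is the generic point of an
irreducible component of |X|. (The published statement allows any base scheme S and takes X
quasi-separated in the absolute sense; this row asks S to be quasi-separated and X quasi-separated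
over S, which together imply absolute quasi-separatedness.) -/
theorem result {S : Scheme.{u}} [QuasiSeparatedSpace S]
    (X : AlgSp.Space S) (hqs : AlgSp.IsQuasiSeparatedSp X.obj) (x : AlgSp.Points X.obj) :
    AlgSp.HasAt (fun U u => ringKrullDim ↥(U.presheaf.stalk u) = 0) X.obj x ↔
      ∃ Z ∈ irreducibleComponents (AlgSp.Points X.obj), IsGenericPoint x Z := by
  exact main X hqs x

end Groth.Agent.S10452
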