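import Groth.Statements.S10394
import Groth.Agent.S10452
import Groth.Agent.S10339
import Groth.Agent.S10338

set_option autoImplicit false
universe u
open CategoryTheory CategoryTheory.Limits AlgebraicGeometry Topology TopologicalSpace
open AlgSp

namespace Groth.Agent.S10394

open Groth.Agent.H1.GenFin Groth.Agent.Lib.helper11

/-- On a decent algebraic space the codimension zero points are the points without proper
generizations. -/
theorem hasAt_dimZero_iff_maximal {S : Scheme.{u}} (X : AlgSp.Space S) (hdec : AlgSp.IsDecent X.obj)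
    (x : AlgSp.Points X.obj) :
    AlgSp.HasAt (fun U u => ringKrullDim ↥(U.presheaf.stalk u) = 0) X.obj x ↔
      ∀ y : AlgSp.Points X.obj, y ⤳ x → y = x := by
  constructor
  · rintro ⟨U, a, u, hae, rfl, hdim⟩ y hy
    obtain ⟨p, hp, -, hpq⟩ := hdec y
    obtain ⟨u', hu', rfl⟩ := Groth.Agent.S10343.main X _ y hy ⟨p, hp, hpq⟩ a hae u rfl
    rw [maximal_of_dim_zero u hdim u' hu']
  · intro hmax
    obtain ⟨U, a, u, hae, -, rfl⟩ := exists_chart_ofPt X x
    refine ⟨U, a, u, hae, rfl, ?_⟩
    show ringKrullDim ↥(U.left.presheaf.stalk u) = 0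
    rw [dim_zero_iff_maximal]
    intro u' hu'
    have h1 : Points.ofPt a u' ⤳ Points.ofPt a u := hu'.map (Points.continuous_ofPt a)
    exact (Groth.Agent.S10340.main X hdec a hae u u' (hmax _ h1).symm hu').symm

theorem main {S : Scheme.{u}} (X : AlgSp.Space S)
    (hX : AlgSp.IsDecent X.obj) (x : AlgSp.Points X.obj) :
    (∃ T ∈ irreducibleComponents (AlgSp.Points X.obj), IsGenericPoint x T) ↔ AlgSp.HasAt (fun U u => ringKrullDim ↥(U.presheaf.stalk u) = 0) X.obj x := by
  haveI := Groth.Agent.S10339.main X hX
  haveI := Groth.Agent.S10338.main X hX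
  rw [Groth.Agent.S10452.exists_irreducibleComponent_iff, hasAt_dimZero_iff_maximal X hX]

/-- (1) ⇔ (4): let S be a scheme, X a decent algebraic space over S and x ∈ |X|. Then x is the generic
point of some irreducible component of |X| if and only if the local ring of X at x has dimension
zero (x is a codimension 0 point of X). -/
theorem result {S : Scheme.{u}} (X : AlgSp.Space S)
    (hX : AlgSp.IsDecent X.obj) (x : AlgSp.Points X.obj) :
    (∃ T ∈ irreducibleComponents (AlgSp.Points X.obj), IsGenericPoint x T) ↔ AlgSp.HasAt (fun U u => ringKrullDim ↥(U.presheaf.stalk u) = 0) X.obj x := by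
  exact main X hX x

end Groth.Agent.S10394
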