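import Groth.Statements.S10397
import Groth.Agent.Lib.Helper1.DecentEtale
import Groth.Agent.S10339
import Groth.Agent.S10338
import Groth.Agent.S10452
import Groth.Agent.S10191
import Groth.Agent.S3207
import Groth.Agent.Lib.Helper5.FieldQuotFinite

set_option autoImplicit false
universe u
open CategoryTheory CategoryTheory.Limits AlgebraicGeometry Topology TopologicalSpace
open AlgSp

namespace Groth.Agent.S10397

open Groth.Agent.H1.FibDeg Groth.Agent.H1.DecentOpen Groth.Agent.Lib.helper5 Groth.Agent.Lib.helper10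
  Groth.Agent.Lib.helper11

variable {S : Scheme.{u}}

/-- Maximal points correspond under open embeddings. -/
theorem maximal_iff_of_isOpenEmbedding {A B : Type*} [TopologicalSpace A] [TopologicalSpace B]
    {f : A → B} (hf : IsOpenEmbedding f) (a : A) :
    (∀ a' : A, a' ⤳ a → a' = a) ↔ ∀ b' : B, b' ⤳ f a → b' = f a := by
  constructor
  · intro h b' hb'
    obtain ⟨a', rfl⟩ := hb'.mem_open hf.isOpen_range ⟨a, rfl⟩
    rw [h a' (hf.isInducing.specializes_iff.1 hb')]
  · intro h a' ha'
    exact hf.injective (h _ (ha'.map hf.continuous))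

theorem mem_genericPoints_iff {T : Type*} [TopologicalSpace T] [QuasiSober T] [T0Space T] (x : T) :
    x ∈ genericPoints T ↔ ∀ y : T, y ⤳ x → y = x := by
  rw [← Groth.Agent.S10452.exists_irreducibleComponent_iff]
  constructor
  · intro h
    exact ⟨_, h, rfl⟩
  · rintro ⟨Z, hZ, hx⟩
    change closure {x} ∈ irreducibleComponents T
    rw [hx.def]; exact hZ

/-- The chart of an open subscheme as a morphism of spaces. -/
theorem isOpenEmbedding_ofPt (X : Space S) {X' : Over S} (j : (yon S).obj X' ⟶ X.obj)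
    (hj : RepWith @IsOpenImmersion j) : IsOpenEmbedding (Points.ofPt j) := by
  let M' : Space S := ⟨(yon S).obj X', IsAlgSpace.yon_obj X'⟩
  let j' : M' ⟶ X := ObjectProperty.homMk j
  have himmj : RepWith @IsImmersion j'.hom := Groth.Agent.S10194.repWith_mono (fun _ _ g hg => by
    have : IsOpenImmersion g := hg; infer_instance) hj
  obtain ⟨hemb, -⟩ := Groth.Agent.S10191.result j' himmj
  have hopen : IsOpen (Set.range (Points.map j'.hom)) :=
    Groth.Agent.Lib.helper5.AlgSpWhereIso.isOpen_range_of_oi j' hj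
  have h1 : IsOpenEmbedding (Points.map j) := ⟨hemb, hopen⟩
  have h2 : Points.ofPt j = Points.map j ∘ Points.schemeHomeo X' := by
    funext m
    exact Points.ofPt_eq_map_ofScheme j m
  rw [h2]
  exact h1.comp (Points.schemeHomeo X').isOpenEmbedding

theorem forward (X : Space S) (hX : IsDecent X.obj)
    (hXf : (irreducibleComponents (Points X.obj)).Finite) :
    ∃ (X' : Over S) (j : (yon S).obj X' ⟶ X.obj), RepWith @IsOpenImmersion j ∧
      Dense (Set.range (Points.ofPt j)) ∧ (irreducibleComponents ↥X'.left).Finite ∧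
      ∀ x' : ↥X'.left, (∃ T ∈ irreducibleComponents ↥X'.left, IsGenericPoint x' T) →
        RepWith @QuasiCompact (FieldPt.ofPt j x').toHom := by
  obtain ⟨X'₀, j₀, hj₀, hrep, hdense⟩ := Groth.Agent.H1.DecentOpen.main X hX
  obtain ⟨M, ⟨r⟩⟩ := hrep.has_representation
  let ε : (yon S).obj M ≅ X'₀.obj := isoOfRepresentableBy r
  have hj : RepWith @IsOpenImmersion (ε.hom ≫ j₀.hom) :=
    (RepWith (S := S) @IsOpenImmersion).comp_mem _ _
      (Groth.Agent.Lib.helper7.repWith_of_isIso _ _) hj₀
  haveI hmono : Mono (ε.hom ≫ j₀.hom) := Groth.Agent.S9928.mono_of_repWith_mono _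
    (Groth.Agent.S10194.repWith_mono (fun _ _ g hg => by
      have : IsOpenImmersion g := hg; infer_instance) hj)
  haveI := Groth.Agent.S10339.main X hX
  haveI := Groth.Agent.S10338.main X hX
  have hoe := isOpenEmbedding_ofPt X (ε.hom ≫ j₀.hom) hj
  refine ⟨M, ε.hom ≫ j₀.hom, hj, ?_, ?_, ?_⟩
  · refine hdense.mono ?_
    rintro _ ⟨z', rfl⟩
    refine ⟨Points.toScheme M (Points.map ε.inv z'), ?_⟩
    rw [Points.ofPt_eq_map_ofScheme, Points.ofScheme_toScheme, ← Points.map_comp,
      Iso.inv_hom_id_assoc]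
  · have hgf : (genericPoints ↥M.left).Finite := by
      refine ((genericPoints.finite hXf).preimage hoe.injective.injOn).subset ?_
      intro m hm
      change Points.ofPt (ε.hom ≫ j₀.hom) m ∈ genericPoints (Points X.obj)
      rw [mem_genericPoints_iff] at hm ⊢
      exact (maximal_iff_of_isOpenEmbedding hoe m).1 hm
    haveI : Finite ↥(genericPoints ↥M.left) := hgf.to_subtype
    exact Set.finite_coe_iff.1 (Finite.of_equiv _ (genericPoints.equiv (α := ↥M.left)))
  · intro x' _
    have hm : Mono (FieldPt.ofPt (ε.hom ≫ j₀.hom) x').toHom := mono_toHom_ofPt _ x'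
    refine FieldQuot.repWith_qc_of_finite_fibres X.property _ hm ?_
    intro U φ hU hφ
    haveI := hU
    obtain ⟨p, hp1, -, hp3⟩ := hX (Points.mk (FieldPt.ofPt (ε.hom ≫ j₀.hom) x'))
    rw [← hp1]
    exact Groth.Agent.S10343.finite_fibre_of_qc_point p hp3 φ hφ


section Backward

variable (X : Space S) {X' : Over S} (j : (yon S).obj X' ⟶ X.obj)

include X in
theorem finite_components (hd : Dense (Set.range (Points.ofPt j)))
    (hfin : (irreducibleComponents ↥X'.left).Finite) :
    (irreducibleComponents (Points X.obj)).Finite := by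
  have hG : (genericPoints ↥X'.left).Finite := genericPoints.finite hfin
  have hcover : ∀ x : Points X.obj, ∃ g ∈ genericPoints ↥X'.left,
      x ∈ closure ({Points.ofPt j g} : Set (Points X.obj)) := by
    have hCcl : IsClosed (⋃ g ∈ genericPoints ↥X'.left,
        closure ({Points.ofPt j g} : Set (Points X.obj))) :=
      hG.isClosed_biUnion (fun _ _ => isClosed_closure)
    have hsub : Set.range (Points.ofPt j) ⊆ ⋃ g ∈ genericPoints ↥X'.left,
        closure ({Points.ofPt j g} : Set (Points X.obj)) := by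
      rintro _ ⟨m, rfl⟩
      obtain ⟨η, hη, hηmax⟩ := Groth.Agent.S3207.exists_maximal_generization m
      refine Set.mem_iUnion₂.2 ⟨η, (mem_genericPoints_iff η).2 hηmax, ?_⟩
      exact specializes_iff_mem_closure.1 (hη.map (Points.continuous_ofPt j))
    intro x
    have hx : x ∈ ⋃ g ∈ genericPoints ↥X'.left,
        closure ({Points.ofPt j g} : Set (Points X.obj)) :=
      (hCcl.closure_subset_iff.2 hsub) (hd x)
    obtain ⟨g, hg, hxg⟩ := Set.mem_iUnion₂.1 hx
    exact ⟨g, hg, hxg⟩
  refine (hG.image (fun g => closure ({Points.ofPt j g} : Set (Points X.obj)))).subset ?_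
  intro T hT
  have hirr : IsIrreducible T := hT.1
  classical
  obtain ⟨z, hz, hTz⟩ := (isIrreducible_iff_sUnion_isClosed.1 hirr)
    (hG.toFinset.image (fun g => closure ({Points.ofPt j g} : Set (Points X.obj)))) (by
      intro z hz
      rw [Finset.mem_image] at hz
      obtain ⟨g, -, rfl⟩ := hz
      exact isClosed_closure) (by
      intro x _
      obtain ⟨g, hg, hxg⟩ := hcover x
      refine Set.mem_sUnion.2 ⟨closure {Points.ofPt j g}, ?_, hxg⟩
      rw [Finset.mem_coe, Finset.mem_image]
      exact ⟨g, hG.mem_toFinset.2 hg, rfl⟩)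
  rw [Finset.mem_image] at hz
  obtain ⟨g, hg, rfl⟩ := hz
  refine ⟨g, hG.mem_toFinset.1 hg, ?_⟩
  exact Set.Subset.antisymm (hT.2 isIrreducible_singleton.closure hTz) hTz

variable (hj : RepWith @IsOpenImmersion j) (hd : Dense (Set.range (Points.ofPt j)))
  (hfin : (irreducibleComponents ↥X'.left).Finite)
  (hqc : ∀ x' : ↥X'.left, (∃ T ∈ irreducibleComponents ↥X'.left, IsGenericPoint x' T) →
    RepWith @QuasiCompact (FieldPt.ofPt j x').toHom)

include hj hd hfin hqc in
theorem finite_fibres_chart {U R : Over S} [IsAffine U.left] {φ : (yon S).obj U ⟶ X.obj}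
    (hφ : RepWith @Etale φ) {s t : R ⟶ U}
    (sq : IsPullback ((yon S).map s) ((yon S).map t) φ φ) (u : ↥U.left) :
    (s.left ⁻¹' {u}).Finite := by
  haveI : IsSeparated s.left := isSeparated_left_of_affine sq
  haveI : Etale s.left := hφ.2 _ _ _ sq.flip
  obtain ⟨V, snd, fst, sqV⟩ := hj.rep φ
  obtain ⟨ψ, rfl⟩ := (yon S).map_surjective fst
  haveI hsnd : IsOpenImmersion snd.left := hj.2 _ _ _ sqV
  haveI hψ : Etale ψ.left := hφ.2 _ _ _ sqV.flip
  have hΩopen : IsOpen (Set.range (Points.ofPt j)) := (isOpenEmbedding_ofPt X j hj).isOpen_range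
  have hGUfin : {g : ↥U.left | ∃ x' ∈ genericPoints ↥X'.left,
      Points.ofPt φ g = Points.ofPt j x'}.Finite := by
    refine ((genericPoints.finite hfin).biUnion (fun x' hx' =>
      Groth.Agent.S10343.finite_fibre_of_qc_point (FieldPt.ofPt j x') (hqc x' ⟨_, hx', rfl⟩)
        φ hφ)).subset ?_
    rintro g ⟨x', hx', hg⟩
    exact Set.mem_iUnion₂.2 ⟨x', hx', hg⟩
  have hgen : ∀ u : ↥U.left, ∃ g, (∃ x' ∈ genericPoints ↥X'.left,
      Points.ofPt φ g = Points.ofPt j x') ∧ g ⤳ u := by
    have hCcl : IsClosed (⋃ g ∈ {g : ↥U.left | ∃ x' ∈ genericPoints ↥X'.left,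
        Points.ofPt φ g = Points.ofPt j x'}, closure ({g} : Set ↥U.left)) :=
      hGUfin.isClosed_biUnion (fun _ _ => isClosed_closure)
    have hDsub : Points.ofPt φ ⁻¹' (Set.range (Points.ofPt j)) ⊆
        ⋃ g ∈ {g : ↥U.left | ∃ x' ∈ genericPoints ↥X'.left,
          Points.ofPt φ g = Points.ofPt j x'}, closure ({g} : Set ↥U.left) := by
      intro d hd'
      obtain ⟨η, hη, hηmax⟩ := Groth.Agent.S3207.exists_maximal_generization d
      have hηD : Points.ofPt φ η ∈ Set.range (Points.ofPt j) :=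
        hη.mem_open (hΩopen.preimage (Points.continuous_ofPt φ)) hd'
      obtain ⟨x', hx'⟩ := hηD
      obtain ⟨v, hv1, hv2⟩ := exists_of_isPullback_schemes sqV x' η hx'
      have hvmax : ∀ v' : ↥V.left, v' ⤳ v → v' = v :=
        (maximal_iff_of_isOpenEmbedding snd.left.isOpenEmbedding v).2 (by rw [hv2]; exact hηmax)
      have hx'max := Groth.Agent.S3207.maximal_map_of_flat ψ.left v hvmax
      rw [hv1] at hx'max
      have hx'g : x' ∈ genericPoints ↥X'.left := (mem_genericPoints_iff x').2 hx'max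
      exact Set.mem_iUnion₂.2 ⟨η, ⟨x', hx'g, hx'.symm⟩, specializes_iff_mem_closure.1 hη⟩
    have hDdense : Dense (Points.ofPt φ ⁻¹' (Set.range (Points.ofPt j))) :=
      hd.preimage (isOpenMap_ofPt φ hφ)
    intro u
    have hu : u ∈ ⋃ g ∈ {g : ↥U.left | ∃ x' ∈ genericPoints ↥X'.left,
        Points.ofPt φ g = Points.ofPt j x'}, closure ({g} : Set ↥U.left) :=
      (hCcl.closure_subset_iff.2 hDsub) (hDdense u)
    obtain ⟨g, hg, hug⟩ := Set.mem_iUnion₂.1 hu
    exact ⟨g, hg, specializes_iff_mem_closure.2 hug⟩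
  obtain ⟨g, ⟨x', hx'g, hgx'⟩, hgu⟩ := hgen u
  obtain ⟨d, hdg⟩ := exists_bound_of_qc_point hφ sq g (FieldPt.ofPt j x') hgx'.symm
    (hqc x' ⟨_, hx'g, rfl⟩)
  refine finite_fibre_of_not_degGE s.left u d (fun hdeg => hdg ?_)
  exact hgu.mem_open (isOpen_degGE _ s.left) hdeg

include hj hd hfin hqc in
theorem backward_decent : IsDecent X.obj := by
  intro x
  refine (Groth.Agent.S10360.result X x).1 ?_
  intro U φ hU hφ R s t sq
  haveI := hU
  have hfib : ∀ u, (t.left ⁻¹' {u}).Finite := fun u =>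
    finite_fibres_chart X j hj hd hfin hqc hφ sq u
  have hF : (Points.ofPt φ ⁻¹' {x}).Finite := by
    by_cases hne : (Points.ofPt φ ⁻¹' {x}).Nonempty
    · obtain ⟨u₀, hu₀⟩ := hne
      have hu₀' : Points.ofPt φ u₀ = x := hu₀
      refine ((hfib u₀).image s.left).subset ?_
      intro u hu
      have hu' : Points.ofPt φ u = x := hu
      obtain ⟨r, hr1, hr2⟩ := exists_of_isPullback_schemes sq u₀ u (hu₀'.trans hu'.symm)
      exact ⟨r, hr1, hr2⟩
    · rw [Set.not_nonempty_iff_eq_empty] at hne
      rw [hne]; exact Set.finite_empty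
  refine ⟨hF, (hF.biUnion (fun u _ => hfib u)).subset ?_⟩
  intro r hr
  have hr' : Points.ofPt ((yon S).map t ≫ φ) r = x := hr
  rw [ofPt_yon_map_comp] at hr'
  simp only [Set.mem_iUnion]
  exact ⟨t.left r, hr', rfl⟩

end Backward

theorem main (X : AlgSp.Space S) :
    (AlgSp.IsDecent X.obj ∧ (irreducibleComponents (AlgSp.Points X.obj)).Finite) ↔
      ∃ (X' : Over S) (j : (AlgSp.yon S).obj X' ⟶ X.obj), AlgSp.RepWith @IsOpenImmersion j ∧
        Dense (Set.range (AlgSp.Points.ofPt j)) ∧ (irreducibleComponents ↥X'.left).Finite ∧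
        ∀ x' : ↥X'.left, (∃ T ∈ irreducibleComponents ↥X'.left, IsGenericPoint x' T) →
          AlgSp.RepWith @QuasiCompact (AlgSp.FieldPt.ofPt j x').toHom := by
  constructor
  · rintro ⟨hX, hXf⟩
    exact forward X hX hXf
  · rintro ⟨X', j, hj, hd, hfin, hqc⟩
    exact ⟨backward_decent X j hj hd hfin hqc, finite_components X j hd hfin⟩

/-- (1) ⇔ (3): an algebraic space X over a scheme S is decent with |X| having finitely many irreducible
components if and only if X has a dense open subscheme X' with finitely many irreducible components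
whose generic points x'_j give quasi-compact morphisms Spec κ(x'_j) ⟶ X. -/
theorem result {S : Scheme.{u}} (X : AlgSp.Space S) :
    (AlgSp.IsDecent X.obj ∧ (irreducibleComponents (AlgSp.Points X.obj)).Finite) ↔
      ∃ (X' : Over S) (j : (AlgSp.yon S).obj X' ⟶ X.obj), AlgSp.RepWith @IsOpenImmersion j ∧
        Dense (Set.range (AlgSp.Points.ofPt j)) ∧ (irreducibleComponents ↥X'.left).Finite ∧
        ∀ x' : ↥X'.left, (∃ T ∈ irreducibleComponents ↥X'.left, IsGenericPoint x' T) →
          AlgSp.RepWith @QuasiCompact (AlgSp.FieldPt.ofPt j x').toHom := by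
  exact main X

end Groth.Agent.S10397
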