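import Groth.Statements.S10398
import Groth.Agent.Lib.Helper1.GenFinA
import Groth.Agent.Lib.Helper1.GenFinC
import Groth.Agent.Lib.Helper1.GenFinD
import Groth.Agent.Lib.Helper1.GenFinE
import Groth.Agent.S9995
import Groth.Agent.S9920

set_option autoImplicit false
universe u
open CategoryTheory CategoryTheory.Limits AlgebraicGeometry Topology TopologicalSpace
open AlgSp

namespace Groth.Agent.S10398

open Groth.Agent.Lib.helper5 Groth.Agent.Lib.helper5.NearLocus Groth.Agent.Lib.helper5.LqfLocus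
open Groth.Agent.H1.GenFin Groth.Agent.Lib.helper15.AlgSpDiag

theorem main {S : Scheme.{u}} {X Y : AlgSp.Space S} (f : X ⟶ Y)
    (hqs : AlgSp.IsQuasiSeparatedMor f.hom) (hft : AlgSp.IsFiniteTypeMor f.hom)
    (y : AlgSp.Points Y.obj)
    (hy : AlgSp.HasAt (fun U u => ringKrullDim ↥(U.presheaf.stalk u) = 0) Y.obj y)
    (hqf : ∀ x : AlgSp.Points X.obj, AlgSp.Points.map f.hom x = y →
      HasAtMor (NearAt Plqf) f.hom x) :
    ∃ (Y' X' : AlgSp.Space S) (j : Y' ⟶ Y) (fst : X' ⟶ Y') (snd : X' ⟶ X),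
      AlgSp.RepWith @IsOpenImmersion j.hom ∧
      y ∈ Set.range (AlgSp.Points.map j.hom) ∧ IsPullback fst.hom snd.hom j.hom f.hom ∧
      AlgSp.IsFiniteMor fst.hom := by
  obtain ⟨hlft, hqc⟩ := hft
  obtain ⟨V₀, b₀, v₀, hb₀e, rfl, hdim⟩ := hy
  have hv₀max := maximal_of_dim_zero v₀ hdim
  obtain ⟨_, ⟨O, hO, rfl⟩, hvO, -⟩ := V₀.left.isBasis_affineOpens.exists_subset_of_mem_open
    (Set.mem_univ v₀) isOpen_univ
  let V : Over S := OpenSub.subOver V₀ O
  haveI : IsAffine V.left := hO
  let b : (yon S).obj V ⟶ Y.obj := (yon S).map (OpenSub.subOverι V₀ O) ≫ b₀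
  have hbe : RepWith @Etale b :=
    (RepWith (S := S) @Etale).comp_mem _ _
      ((repWith_yon_map_iff @Etale _).2 (inferInstanceAs (Etale (Scheme.Opens.ι O)))) hb₀e
  let v : V.left := ⟨v₀, hvO⟩
  have hv : Points.ofPt b v = Points.ofPt b₀ v₀ := by
    show Points.ofPt ((yon S).map (OpenSub.subOverι V₀ O) ≫ b₀) v = _
    rw [Groth.Agent.Lib.helper11.ofPt_yon_map_comp]
    rfl
  have hvmax : ∀ v' : V.left, v' ⤳ v → v' = v := by
    intro v' hv'
    have h1 : (Scheme.Opens.ι O) v' ⤳ (Scheme.Opens.ι O) v :=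
      hv'.map (Scheme.Opens.ι O).continuous
    exact (Scheme.Opens.ι O).injective (hv₀max _ h1)
  -- the base change to `V`
  have sq : IsPullback (pullback.fst f.hom b) (pullback.snd f.hom b) f.hom b :=
    IsPullback.of_hasPullback _ _
  have hZ : IsAlgSpace (pullback f.hom b) :=
    isAlgSpace_of_isPullback Y.property.diag X.property (IsAlgSpace.yon_obj V) sq
  have hqcZ : IsQuasiCompactSp (pullback f.hom b) :=
    hqc (IsAlgSpace.yon_obj V) (Groth.Agent.S9995.isQuasiCompactSp_yon V) b _ _ sq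
  obtain ⟨W, c, hWaff, hce, hcs⟩ := Groth.Agent.S9920.exists_affine_chart hZ hqcZ
  haveI : IsAffine W.left := hWaff
  obtain ⟨h, hh⟩ := (yon S).map_surjective (c ≫ pullback.snd f.hom b)
  have hlftV : LocP @LocallyOfFiniteType (pullback.snd f.hom b) :=
    LocPBC.locP_of_isPullback LocPBC.locPData_lft X.property Y.property (IsAlgSpace.yon_obj V) sq hlft
  have hcomm : c ≫ pullback.snd f.hom b = (yon S).map h ≫ 𝟙 _ := by rw [Category.comp_id, hh]
  haveI : LocallyOfFiniteType h.left := hlftV c (𝟙 _) h hce (repWith_id @Etale V) hcomm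
  -- quasi-finiteness at the points over `v`
  have hqfh : ∀ w : W.left, h.left w = v → h.left.QuasiFiniteAt w := by
    intro w hw
    have hx : Points.map f.hom (Points.map (pullback.fst f.hom b) (Points.ofPt c w)) =
        Points.ofPt b₀ v₀ := by
      rw [← Points.map_comp, sq.w, Points.map_comp, Points.map_ofPt, ← hh,
        Groth.Agent.Lib.helper11.ofPt_yon_map, hw, ← hv, Points.ofPt_eq_map_ofScheme]
    have h1 : HasAtMor (NearAt Plqf) (pullback.snd f.hom b) (Points.ofPt c w) :=
      (lqfLocus_baseChange X.property Y.property (IsAlgSpace.yon_obj V) sq hlft _).2 (hqf _ hx)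
    have h2 : NearAt Plqf W.left V.left h.left w :=
      locPAt_nearAt_of_hasAtMor etLocal_lqf _ _ h1 c (𝟙 _) h w hce (repWith_id @Etale V) hcomm rfl
    obtain ⟨O', hwO', hO'⟩ := h2
    haveI : LocallyQuasiFinite (O'.ι ≫ h.left) := hO'.1
    have h3 : (O'.ι ≫ h.left).QuasiFiniteAt ⟨w, hwO'⟩ := (O'.ι ≫ h.left).quasiFiniteAt _
    exact Scheme.Hom.quasiFiniteAt_comp_iff_of_isOpenImmersion.1 h3
  -- the kernel pair of the chart
  set g := pullback.snd f.hom b with hg
  obtain ⟨R, r₂, fst', sqR'⟩ := hZ.representable_from_yon c c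
  obtain ⟨r₁, rfl⟩ := (yon S).map_surjective fst'
  haveI hr₁e : Etale r₁.left := hce.2 c _ r₁ sqR'.flip
  -- `W ×_V W`
  have sqPV : IsPullback (pullback.fst h h) (pullback.snd h h) h h := IsPullback.of_hasPullback h h
  have hr : r₁ ≫ h = r₂ ≫ h := (yon S).map_injective (by
    rw [Functor.map_comp, Functor.map_comp, hh, ← Category.assoc, sqR'.w, Category.assoc])
  let m : R ⟶ pullback h h := pullback.lift r₁ r₂ hr
  have hm₁ : m ≫ pullback.fst h h = r₁ := pullback.lift_fst _ _ _
  have hm₂ : m ≫ pullback.snd h h = r₂ := pullback.lift_snd _ _ _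
  have hPV' : IsPullback ((yon S).map (pullback.fst h h)) ((yon S).map (pullback.snd h h))
      (c ≫ g) (c ≫ g) := by rw [← hh]; exact sqPV.map (yon S)
  have sqd := isPullback_diag_chart sqR' hPV' ((yon S).map m)
    (by rw [← Functor.map_comp, hm₁]) (by rw [← Functor.map_comp, hm₂])
  -- quasi-compactness and separatedness of `m`
  have hqsg : RepWith @QuasiCompact (pullback.diagonal g) :=
    (repWith_isStableUnderBaseChange (S := S) @QuasiCompact).of_isPullback
      (isPullback_diagonal_of_isPullback sq) hqs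
  haveI hmqc : QuasiCompact m.left := hqsg.2 _ _ m sqd
  obtain ⟨-, -, -, hsep, -⟩ := repWith_diagonal_properties hZ g
  haveI hmsep : IsSeparated m.left := hsep.2 _ _ m sqd
  have sqPVl : IsPullback (pullback.fst h h).left (pullback.snd h h).left h.left h.left :=
    sqPV.map (Over.forget S)
  haveI : IsAffine (pullback h h).left := IsAffine.of_isPullback sqPVl
  have hρ : r₁.left ≫ h.left = m.left ≫ ((pullback.fst h h).left ≫ h.left) := by
    have e1 : r₁.left = m.left ≫ (pullback.fst h h).left := by rw [← Over.comp_left, hm₁]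
    rw [e1, Category.assoc]
  haveI : IsSeparated (r₁.left ≫ h.left) := by rw [hρ]; infer_instance
  haveI : QuasiCompact (r₁.left ≫ h.left) := by rw [hρ]; infer_instance
  have hqfρ : ∀ t : R.left, (r₁.left ≫ h.left) t = v → (r₁.left ≫ h.left).QuasiFiniteAt t := by
    intro t ht
    haveI : LocallyQuasiFinite r₁.left := Groth.Agent.S10265.lqf_of_etale r₁.left
    exact quasiFiniteAt_comp r₁.left h.left t (r₁.left.quasiFiniteAt t) (hqfh _ ht)
  obtain ⟨V', hvV', hV'aff, hfinV'⟩ := exists_finite_nbhd (r₁.left ≫ h.left) v hvmax hqfρ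
  -- base change to `V'`
  let Vp : Over S := OpenSub.subOver V V'
  let j : Vp ⟶ V := OpenSub.subOverι V V'
  haveI : IsAffine Vp.left := hV'aff
  let b' : (yon S).obj Vp ⟶ Y.obj := (yon S).map j ≫ b
  have hb'e : RepWith @Etale b' :=
    (RepWith (S := S) @Etale).comp_mem _ _
      ((repWith_yon_map_iff @Etale _).2 (inferInstanceAs (Etale (Scheme.Opens.ι V')))) hbe
  have sqZ : IsPullback (pullback.fst g ((yon S).map j)) (pullback.snd g ((yon S).map j)) g
      ((yon S).map j) := IsPullback.of_hasPullback _ _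
  have sqZf : IsPullback (pullback.fst g ((yon S).map j) ≫ pullback.fst f.hom b)
      (pullback.snd g ((yon S).map j)) f.hom b' := sqZ.paste_horiz sq
  have hZ' : IsAlgSpace (pullback g ((yon S).map j)) :=
    isAlgSpace_of_isPullback Y.property.diag X.property (IsAlgSpace.yon_obj Vp) sqZf
  have sqW0 : IsPullback (pullback.fst h j) (pullback.snd h j) h j := IsPullback.of_hasPullback h j
  have sqW : IsPullback ((yon S).map (pullback.fst h j)) ((yon S).map (pullback.snd h j)) (c ≫ g)
      ((yon S).map j) := by rw [← hh]; exact sqW0.map (yon S)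
  have sqR0 : IsPullback (pullback.fst (r₁ ≫ h) j) (pullback.snd (r₁ ≫ h) j) (r₁ ≫ h) j :=
    IsPullback.of_hasPullback _ _
  have sqRy : IsPullback ((yon S).map (pullback.fst (r₁ ≫ h) j))
      ((yon S).map (pullback.snd (r₁ ≫ h) j)) ((yon S).map r₁ ≫ c ≫ g) ((yon S).map j) := by
    rw [← hh, ← Functor.map_comp]; exact sqR0.map (yon S)
  obtain ⟨c', r₁'', r₂'', hc'g, sqtop, h11, h21, h12, h22, sqK⟩ :=
    chart_baseChange sqR' sqZ sqW sqRy
  obtain ⟨r₁', rfl⟩ := (yon S).map_surjective r₁''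
  obtain ⟨r₂', rfl⟩ := (yon S).map_surjective r₂''
  have hc'e : RepWith @Etale c' :=
    (repWith_isStableUnderBaseChange (S := S) @Etale).of_isPullback sqtop hce
  have hc's : RepWith @Surjective c' :=
    (repWith_isStableUnderBaseChange (S := S) @Surjective).of_isPullback sqtop hcs
  -- finiteness of `ρ'`
  have sqR0l := sqR0.map (Over.forget S)
  haveI hρ'fin : IsFinite (pullback.snd (r₁ ≫ h) j).left :=
    isFinite_of_isPullback_restrict (r₁.left ≫ h.left) V' sqR0l hfinV'
  have e12 : r₁' ≫ pullback.snd h j = pullback.snd (r₁ ≫ h) j := (yon S).map_injective (by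
    rw [Functor.map_comp]; exact h12)
  have e22 : r₂' ≫ pullback.snd h j = pullback.snd (r₁ ≫ h) j := (yon S).map_injective (by
    rw [Functor.map_comp]; exact h22)
  -- finiteness of `h'`
  have sqW0l : IsPullback (pullback.fst h j).left (pullback.snd h j).left h.left j.left :=
    sqW0.map (Over.forget S)
  haveI : IsAffineHom (pullback.snd h j).left :=
    MorphismProperty.of_isPullback (P := @IsAffineHom) sqW0l inferInstance
  haveI : LocallyOfFiniteType (pullback.snd h j).left :=
    MorphismProperty.of_isPullback (P := @LocallyOfFiniteType) sqW0l inferInstance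
  haveI : Surjective r₁'.left := hc's.2 c' _ r₁' sqK.flip
  haveI : IsFinite (r₁'.left ≫ (pullback.snd h j).left) := by
    rw [← Over.comp_left, e12]; exact hρ'fin
  haveI hfinh' : IsFinite (pullback.snd h j).left :=
    isFinite_of_surjective_comp r₁'.left (pullback.snd h j).left
  -- `m'` is universally closed
  set h' := pullback.snd h j with hh'def
  have sqPV' : IsPullback (pullback.fst h' h') (pullback.snd h' h') h' h' :=
    IsPullback.of_hasPullback h' h'
  have hr' : r₁' ≫ h' = r₂' ≫ h' := by rw [e12, e22]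
  let m' : pullback (r₁ ≫ h) j ⟶ pullback h' h' := pullback.lift r₁' r₂' hr'
  have hm₁' : m' ≫ pullback.fst h' h' = r₁' := pullback.lift_fst _ _ _
  have hm₂' : m' ≫ pullback.snd h' h' = r₂' := pullback.lift_snd _ _ _
  have sqPV'l : IsPullback (pullback.fst h' h').left (pullback.snd h' h').left h'.left h'.left :=
    sqPV'.map (Over.forget S)
  haveI : IsAffineHom (pullback.snd h' h').left :=
    MorphismProperty.of_isPullback (P := @IsAffineHom) sqPV'l inferInstance
  have hρ' : m'.left ≫ ((pullback.snd h' h').left ≫ h'.left) = (pullback.snd (r₁ ≫ h) j).left := by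
    rw [← Category.assoc, ← Over.comp_left, hm₂', ← Over.comp_left, e22]
  haveI : UniversallyClosed (m'.left ≫ ((pullback.snd h' h').left ≫ h'.left)) := by
    rw [hρ']; infer_instance
  have hm'uc : UniversallyClosed m'.left :=
    UniversallyClosed.of_comp_of_isSeparated m'.left ((pullback.snd h' h').left ≫ h'.left)
  have hfin : IsFiniteMor (pullback.snd g ((yon S).map j)) :=
    isFiniteMor_of_chart hZ' _ c' hc'e hc's h' hc'g.symm sqK sqPV' m' hm₁' hm₂' hm'uc hfinh'
  obtain ⟨Y', X', jY, fstX, sndX, hjY, hrange, hsq, hfinX⟩ :=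
    exists_openSub_finite f b' hb'e sqZf hfin
  refine ⟨Y', X', jY, fstX, sndX, hjY, hrange ⟨⟨v, hvV'⟩, ?_⟩, hsq, hfinX⟩
  rw [← hv]
  show Points.ofPt ((yon S).map j ≫ b) _ = _
  rw [Groth.Agent.Lib.helper11.ofPt_yon_map_comp]
  rfl

/-- (2) ⇒ (3): let S be a scheme, X and Y algebraic spaces over S, and f : X ⟶ Y a quasi-separated
morphism of finite type, and let y ∈ |Y| be a codimension 0 point of Y. Suppose that at every point
of |X| lying over y the morphism f is quasi-finite. Then there is an open subspace Y' ⊆ Y containing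
y for which the morphism Y' ×_Y X ⟶ Y' is finite. -/
theorem result {S : Scheme.{u}} {X Y : AlgSp.Space S} (f : X ⟶ Y)
    (hqs : AlgSp.IsQuasiSeparatedMor f.hom) (hft : AlgSp.IsFiniteTypeMor f.hom) (y : AlgSp.Points Y.obj)
    (hy : AlgSp.HasAt (fun U u => ringKrullDim ↥(U.presheaf.stalk u) = 0) Y.obj y)
    (hqf : ∀ x : AlgSp.Points X.obj, AlgSp.Points.map f.hom x = y → AlgSp.HasAtMor (fun U _ h u => ∃ W : U.Opens, u ∈ W ∧ LocallyQuasiFinite (W.ι ≫ h) ∧ LocallyOfFiniteType (W.ι ≫ h)) f.hom x) :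
    ∃ (Y' X' : AlgSp.Space S) (j : Y' ⟶ Y) (fst : X' ⟶ Y') (snd : X' ⟶ X), AlgSp.RepWith @IsOpenImmersion j.hom ∧
      y ∈ Set.range (AlgSp.Points.map j.hom) ∧ IsPullback fst.hom snd.hom j.hom f.hom ∧
      AlgSp.IsFiniteMor fst.hom := by
  exact main f hqs hft y hy hqf

end Groth.Agent.S10398
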