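import Groth.Statements.S1040
import Groth.Agent.Lib.Helper25.DCoprodHomology
import Groth.Agent.Lib.Helper25.QCohCoprod
import Groth.Agent.Lib.Helper21.ModGroth

set_option autoImplicit false
universe u
open CategoryTheory CategoryTheory.Limits AlgebraicGeometry
attribute [local instance] HasDerivedCategory.standard
open Perf

namespace Groth.Agent.S1040

/-- Let X be a scheme and Kᵢ a family of objects of D(O_X) with quasi-coherent cohomology sheaves,
indexed by a small type, whose direct sum exists in D(O_X). Then ∐ Kᵢ has quasi-coherent cohomology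
sheaves. -/
theorem result (X : Scheme.{u}) {ι : Type u} (K : ι → DCoh.D X) (hK : ∀ i, DCoh.IsQCohD (K i)) [HasCoproduct K] :
    DCoh.IsQCohD (∐ K) := by
  haveI : HasFiniteBiproducts X.Modules := Abelian.hasFiniteBiproducts
  haveI : AB5OfSize.{u, u} X.Modules := Groth.Agent.Lib.Helper21.ModGroth.ab5_mod X.ringCatSheaf
  haveI : HasFilteredColimitsOfSize.{u, u} X.Modules := inferInstance
  haveI h4 : AB4OfSize.{u} X.Modules := AB4.of_AB5 X.Modules
  haveI : HasExactColimitsOfShape (Discrete ι) X.Modules := h4.ofShape ι
  intro n
  let P : ObjectProperty X.Modules := SheafOfModules.isQuasicoherent X.ringCatSheaf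
  haveI : P.IsClosedUnderIsomorphisms :=
    inferInstanceAs (SheafOfModules.isQuasicoherent X.ringCatSheaf).IsClosedUnderIsomorphisms
  exact Groth.Agent.Lib.helper25.DCoprodHomology.prop_homology_coprod (A := X.Modules) P
    (fun M hM => Groth.Agent.Lib.helper25.QCohCoprod.isQuasicoherent_coproduct X M hM) K n (fun j => hK j n)

end Groth.Agent.S1040
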