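import Groth.Statements.S10400
import Groth.Agent.Lib.Helper1.GenFinK
import Groth.Agent.Lib.Helper1.GenFinL
import Groth.Agent.S10540
import Groth.Agent.S10505
import Groth.Agent.S10118
import Groth.Agent.S10196

set_option autoImplicit false
universe u
open CategoryTheory CategoryTheory.Limits AlgebraicGeometry Topology TopologicalSpace
open AlgSp

namespace Groth.Agent.S10400

open Groth.Agent.Lib.helper5 Groth.Agent.Lib.helper11 Groth.Agent.H1.GenFin

set_option maxHeartbeats 1600000 in
theorem main {S : Scheme.{u}} {X Y : AlgSp.Space S} (f : X ⟶ Y)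
    (hf : AlgSp.LocP @LocallyOfFiniteType f.hom) (hY : AlgSp.IsDecent Y.obj)
    (hX0 : {x : AlgSp.Points X.obj | AlgSp.HasAt D0 X.obj x}.Finite)
    (hY0 : {y : AlgSp.Points Y.obj | AlgSp.HasAt D0 Y.obj y}.Finite)
    (hpre : ∀ x : AlgSp.Points X.obj, AlgSp.HasAt D0 X.obj x ↔
      AlgSp.HasAt D0 Y.obj (AlgSp.Points.map f.hom x))
    (hqs : AlgSp.IsQuasiCompactMor f.hom ∨ AlgSp.IsSeparatedMor f.hom) :
    ∃ (V X' : AlgSp.Space S) (j : V ⟶ Y) (fst : X' ⟶ V) (snd : X' ⟶ X),
      AlgSp.RepWith @IsOpenImmersion j.hom ∧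
      Dense (Set.range (AlgSp.Points.map j.hom)) ∧ IsPullback fst.hom snd.hom j.hom f.hom ∧
      AlgSp.IsFiniteMor fst.hom := by
  classical
  -- charts at the codimension zero points
  have hchart : ∀ y : Points Y.obj, HasAt D0 Y.obj y →
      ∃ (U₂ : Over S) (b₂ : (yon S).obj U₂ ⟶ Y.obj), IsAffine U₂.left ∧ RepWith @Etale b₂ ∧
        y ∈ Set.range (Points.ofPt b₂) ∧
        ∃ (Z' : Sp S) (k : Z' ⟶ X.obj) (g' : Z' ⟶ (yon S).obj U₂),
          IsPullback k g' f.hom b₂ ∧ IsFiniteMor g' := by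
    intro y hy
    rcases hqs with hqc | hsep
    · exact exists_chart_finite_of_quasiCompact f hf hqc hY hY0 hpre y hy
    · refine exists_chart_finite_of_separated f hf hsep hY hY0 hpre y hy ?_
      refine hX0.subset (fun x hx => (hpre x).2 ?_)
      rw [show Points.map f.hom x = y from hx]
      exact hy
  -- index the codimension zero points
  haveI : Finite ↥{y : Points Y.obj | HasAt D0 Y.obj y} := hY0.to_subtype
  let n := Nat.card ↥{y : Points Y.obj | HasAt D0 Y.obj y}
  let e : Fin n ≃ ↥{y : Points Y.obj | HasAt D0 Y.obj y} := (Finite.equivFin _).symm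
  let ι : Type u := ULift.{u} (Fin n)
  choose U b hUaff hbe hyb Z' k g' sqZ hfin using
    fun i : ι => hchart (e i.down).1 (e i.down).2
  let Ω : Set (Points Y.obj) := ⋃ i, Set.range (Points.ofPt (b i))
  have hΩ : IsOpen Ω := isOpen_iUnion fun i => (isOpenMap_ofPt (b i) (hbe i)).isOpen_range
  have hdense : Dense Ω := by
    refine (dense_dimZero Y.property).mono (fun y hy => ?_)
    have h0 := hyb (ULift.up.{u} (e.symm ⟨y, hy⟩) : ι)
    have h1 : (e (ULift.up.{u} (e.symm ⟨y, hy⟩) : ι).down).1 = y := by simp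
    rw [h1] at h0
    exact Set.mem_iUnion.2 ⟨_, h0⟩
  let V : Space S := ⟨OpenSub.sub Y.obj Ω, OpenSub.isAlgSpace_sub Y.property hΩ⟩
  let j : V ⟶ Y := ObjectProperty.homMk (OpenSub.ι Y.obj Ω)
  have hj : RepWith @IsOpenImmersion j.hom := OpenSub.repWith_ι Y.obj hΩ
  haveI hjm : Mono j.hom := inferInstanceAs (Mono (OpenSub.ι Y.obj Ω))
  have sqX : IsPullback (pullback.fst j.hom f.hom) (pullback.snd j.hom f.hom) j.hom f.hom :=
    IsPullback.of_hasPullback _ _
  have hX' : IsAlgSpace (pullback j.hom f.hom) :=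
    isAlgSpace_of_isPullback Y.property.diag V.property X.property sqX
  let X' : Space S := ⟨pullback j.hom f.hom, hX'⟩
  refine ⟨V, X', j, ObjectProperty.homMk (pullback.fst j.hom f.hom),
    ObjectProperty.homMk (pullback.snd j.hom f.hom), hj, ?_, sqX, ?_⟩
  · show Dense (Set.range (Points.map (OpenSub.ι Y.obj Ω)))
    rw [OpenSub.range_map_ι]
    exact hdense
  · show IsFiniteMor (pullback.fst j.hom f.hom)
    -- the covering of `V` by the charts
    let gi : ∀ i : ι, (yon S).obj (U i) ⟶ V.obj := fun i =>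
      OpenSub.lift (b i) (fun t => Set.mem_iUnion.2 ⟨i, ⟨t, rfl⟩⟩)
    have hgi : ∀ i, gi i ≫ j.hom = b i := fun i => OpenSub.lift_ι _ _
    have hgie : ∀ i, RepWith @Etale (gi i) := by
      intro i
      have s : IsPullback (𝟙 _) (gi i) (gi i ≫ j.hom) j.hom :=
        (IsPullback.of_vert_isIso_mono ⟨by simp⟩ : IsPullback (gi i) (𝟙 _) j.hom (gi i ≫ j.hom)).flip
      exact (repWith_isStableUnderBaseChange (S := S) @Etale).of_isPullback s
        (by rw [hgi]; exact hbe i)
    have hcov : IsFpqcCover (fun i : ι => (yon S).obj (U i)) gi := by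
      refine Groth.Agent.S10505.result V (fun i : ι => ⟨(yon S).obj (U i), IsAlgSpace.yon_obj _⟩)
        (fun i => ObjectProperty.homMk (gi i)) ⟨fun i => ⟨?_, ?_⟩, ?_⟩
      · exact Groth.Agent.S10118.locP_of_repWith_etale
          (fun g hg => by haveI := hg; infer_instance) (gi i) (hgie i)
      · exact Groth.Agent.S10118.locP_of_repWith_etale
          (fun g hg => by haveI := hg; infer_instance) (gi i) (hgie i)
      · intro x
        have hx : Points.map j.hom x ∈ Ω := by
          have : Points.map j.hom x ∈ Set.range (Points.map (OpenSub.ι Y.obj Ω)) := ⟨x, rfl⟩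
          rwa [OpenSub.range_map_ι] at this
        obtain ⟨i, t, ht⟩ := Set.mem_iUnion.1 hx
        refine ⟨i, Points.ofScheme (U i) t, ?_⟩
        apply Groth.Agent.S10196.injective_map_of_mono j.hom
        show Points.map j.hom (Points.map (gi i) (Points.ofScheme (U i) t)) = _
        rw [← Points.map_comp, hgi, ← Points.ofPt_eq_map_ofScheme, ht]
    -- the base changes
    have hw : ∀ i, (g' i ≫ gi i) ≫ j.hom = k i ≫ f.hom := by
      intro i
      rw [Category.assoc, hgi]
      exact (sqZ i).w.symm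
    let q : ∀ i, Z' i ⟶ pullback j.hom f.hom := fun i => sqX.lift (g' i ≫ gi i) (k i) (hw i)
    have hq1 : ∀ i, q i ≫ pullback.fst j.hom f.hom = g' i ≫ gi i := fun i => sqX.lift_fst _ _ _
    have hq2 : ∀ i, q i ≫ pullback.snd j.hom f.hom = k i := fun i => sqX.lift_snd _ _ _
    have sqi : ∀ i, IsPullback (q i) (g' i) (pullback.fst j.hom f.hom) (gi i) := by
      intro i
      refine IsPullback.of_right ?_ (hq1 i) sqX.flip
      rw [hq2, hgi]
      exact sqZ i
    have hZ' : ∀ i, IsAlgSpace (Z' i) := fun i =>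
      isAlgSpace_of_isPullback Y.property.diag X.property (IsAlgSpace.yon_obj _) (sqZ i)
    exact (Groth.Agent.S10540.result S (fun i : ι => (yon S).obj (U i)) gi V.property
      (fun i => IsAlgSpace.yon_obj _) hcov (pullback.fst j.hom f.hom) hX' Z' g' q hZ' sqi).2 hfin

/-- Let f : X ⟶ Y be a morphism locally of finite type of algebraic spaces over a scheme S with Y
decent. Assume the codimension 0 points of X and of Y form finite sets, that a point of X has
codimension 0 exactly when its image does, and that f is quasi-compact or separated. Then there is a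
dense open subspace V ⊆ Y with f⁻¹(V) ⟶ V finite. -/
theorem result {S : Scheme.{u}} {X Y : AlgSp.Space S} (f : X ⟶ Y)
    (hf : AlgSp.LocP @LocallyOfFiniteType f.hom) (hY : AlgSp.IsDecent Y.obj)
    (hX0 : {x : AlgSp.Points X.obj | AlgSp.HasAt (fun U u => ringKrullDim ↥(U.presheaf.stalk u) = 0) X.obj x}.Finite)
    (hY0 : {y : AlgSp.Points Y.obj | AlgSp.HasAt (fun U u => ringKrullDim ↥(U.presheaf.stalk u) = 0) Y.obj y}.Finite)
    (hpre : ∀ x : AlgSp.Points X.obj, AlgSp.HasAt (fun U u => ringKrullDim ↥(U.presheaf.stalk u) = 0) X.obj x ↔ AlgSp.HasAt (fun U u => ringKrullDim ↥(U.presheaf.stalk u) = 0) Y.obj (AlgSp.Points.map f.hom x))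
    (hqs : AlgSp.IsQuasiCompactMor f.hom ∨ AlgSp.IsSeparatedMor f.hom) :
    ∃ (V X' : AlgSp.Space S) (j : V ⟶ Y) (fst : X' ⟶ V) (snd : X' ⟶ X), AlgSp.RepWith @IsOpenImmersion j.hom ∧
      Dense (Set.range (AlgSp.Points.map j.hom)) ∧ IsPullback fst.hom snd.hom j.hom f.hom ∧
      AlgSp.IsFiniteMor fst.hom := by
  exact main f hf hY hX0 hY0 hpre hqs

end Groth.Agent.S10400
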