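import Groth.Statements.S10401

set_option autoImplicit false
universe u
open CategoryTheory CategoryTheory.Limits AlgebraicGeometry Topology TopologicalSpace
open AlgSp

namespace Groth.Agent.S10401

/-- If Y is a Jacobson algebraic space and X is an algebraic space that is locally of finite type over
Y, then X is Jacobson. -/
theorem result {S : Scheme.{u}} {X Y : AlgSp.Space S} (hX : AlgSp.EtaleLocally (fun U => JacobsonSpace ↥U) X.obj)
    (f : Y ⟶ X) (hf : AlgSp.LocP @LocallyOfFiniteType f.hom) : AlgSp.EtaleLocally (fun U => JacobsonSpace ↥U) Y.obj := by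
  obtain ⟨U, p, hpe, hps, hU⟩ := hX
  obtain ⟨V, q, hqe, hqs⟩ := Y.property.atlas
  obtain ⟨W, snd, fst, hpb⟩ := hpe.rep (q ≫ f.hom)
  obtain ⟨h, rfl⟩ := (yon S).map_surjective fst
  have he : RepWith @Etale ((yon S).map snd) :=
    (repWith_isStableUnderBaseChange (S := S) @Etale).of_isPullback hpb hpe
  have hs : RepWith @Surjective ((yon S).map snd) :=
    (repWith_isStableUnderBaseChange (S := S) @Surjective).of_isPullback hpb hps
  have hae : RepWith @Etale ((yon S).map snd ≫ q) :=
    (repWith_isMultiplicative (S := S) @Etale).comp_mem _ _ he hqe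
  refine ⟨W, (yon S).map snd ≫ q, hae,
    (repWith_isMultiplicative (S := S) @Surjective).comp_mem _ _ hs hqs, ?_⟩
  have hlft : LocallyOfFiniteType h.left :=
    hf ((yon S).map snd ≫ q) p h hae hpe (by rw [Category.assoc]; exact hpb.w.symm)
  have : JacobsonSpace ↥U.left := hU
  exact LocallyOfFiniteType.jacobsonSpace h.left

end Groth.Agent.S10401
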