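import Groth.Statements.S10402
import Groth.Agent.S10318
import Groth.Agent.Lib.Helper1.FtPts
import Groth.Agent.Lib.Helper11.AlgSpBasic
import Groth.Agent.Lib.Helper1.LocPStable

set_option autoImplicit false
universe u
open CategoryTheory CategoryTheory.Limits AlgebraicGeometry Topology TopologicalSpace
open AlgSp

namespace Groth.Agent.S10402

open Groth.Agent.H1.FtPts

/-- A point closed in an open neighbourhood is a locally closed point. -/
theorem isLocallyClosed_singleton_of_closed_in_open {X : Type*} [TopologicalSpace X] (U : Set X)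
    (hU : IsOpen U) (s : X) (hs : s ∈ U) (hc : IsClosed ({⟨s, hs⟩} : Set U)) :
    IsLocallyClosed ({s} : Set X) := by
  have h := hc.isLocallyClosed.image Topology.IsEmbedding.subtypeVal.isInducing
    (by rw [Subtype.range_coe]; exact hU.isLocallyClosed)
  simpa using h

/-- Being Jacobson descends along etale surjective morphisms of schemes. -/
theorem jacobsonSpace_of_etale_surjective {S' S : Scheme.{u}} (f : S' ⟶ S) [Etale f] [Surjective f]
    [JacobsonSpace S'] : JacobsonSpace S := by
  have hlqf := Groth.Agent.S10318.locallyQuasiFinite_of_etale f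
  rw [jacobsonSpace_iff_locallyClosed]
  intro T hT hTlc
  have hT' : (f ⁻¹' T).Nonempty := hT.preimage f.surjective
  have hT'lc : IsLocallyClosed (f ⁻¹' T) := hTlc.preimage f.continuous
  obtain ⟨s', hs'T, hs'c⟩ := nonempty_inter_closedPoints hT' hT'lc
  refine ⟨f s', hs'T, ?_⟩
  have hs'c' : IsClosed ({s'} : Set S') := hs'c
  have hft' : LocallyOfFiniteType (S'.fromSpecResidueField s') :=
    isClosed_singleton_iff_locallyOfFiniteType.mp hs'c'
  have hft : LocallyOfFiniteType (S.fromSpecResidueField (f s')) := ft_map f s' hft'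
  obtain ⟨O, -, hsO, hcO⟩ := (ft_iff S (f s')).mp hft
  have hlc : IsLocallyClosed ({f s'} : Set S) :=
    isLocallyClosed_singleton_of_closed_in_open O O.isOpen (f s') hsO hcO
  set A : Set S' := f ⁻¹' {f s'} with hA
  have hAlc : IsLocallyClosed A := hlc.preimage f.continuous
  have hAd : _root_.IsDiscrete A := f.isDiscrete_preimage_singleton (f s')
  -- every point of `A` is closed
  have hpt : ∀ a ∈ A, IsClosed ({a} : Set S') := by
    intro a ha
    apply isClosed_singleton_of_isLocallyClosed_singleton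
    rw [isDiscrete_iff_forall_mem_exists_isOpen] at hAd
    obtain ⟨O', hO', hO'e⟩ := hAd a ha
    have : ({a} : Set S') = O' ∩ A := hO'e.symm
    rw [this]
    exact hO'.isLocallyClosed.inter hAlc
  -- `A` is closed
  have hAc : IsClosed A := by
    refine isClosed_of_closure_subset fun t ht => ?_
    obtain ⟨V, hV, hfV, -⟩ := exists_isAffineOpen_mem_and_subset (X := S) (x := f t) (U := ⊤) trivial
    obtain ⟨V', hV', htV', hV'V⟩ := exists_isAffineOpen_mem_and_subset (X := S') (x := t)
      (U := f ⁻¹ᵁ V) hfV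
    -- the restriction `V' ⟶ V`
    have hfin : (A ∩ V').Finite := by
      have hqc : QuasiCompact (f.resLE V V' hV'V) := by
        have h1 : IsAffine (V : Scheme.{u}) := hV
        have h2 : IsAffine (V' : Scheme.{u}) := hV'
        infer_instance
      by_cases hsV : f s' ∈ V
      · have hfin0 := (f.resLE V V' hV'V).finite_preimage_singleton ⟨f s', hsV⟩
        refine (hfin0.image (fun x : V' => (x : S'))).subset ?_
        rintro a ⟨haA, haV'⟩
        refine ⟨⟨a, haV'⟩, ?_, rfl⟩
        apply Subtype.ext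
        have := Scheme.Hom.resLE_comp_ι f hV'V
        have h3 : (V.ι) ((f.resLE V V' hV'V) ⟨a, haV'⟩) = f a := by
          rw [← Scheme.Hom.comp_apply, this, Scheme.Hom.comp_apply]
          rfl
        exact h3.trans haA
      · have : A ∩ V' = ∅ := by
          ext a
          simp only [Set.mem_inter_iff, Set.mem_empty_iff_false, iff_false, not_and]
          intro haA haV'
          apply hsV
          have h4 : f a ∈ V := hV'V haV'
          rwa [show f a = f s' from haA] at h4
        rw [this]
        exact Set.finite_empty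
    have hcl : IsClosed (A ∩ V') := by
      have : A ∩ V' = ⋃ a ∈ A ∩ V', ({a} : Set S') := (Set.biUnion_of_singleton _).symm
      rw [this]
      exact hfin.isClosed_biUnion (fun a ha => hpt a ha.1)
    have h5 : t ∈ closure (A ∩ V') := by
      rw [mem_closure_iff] at ht ⊢
      intro o ho hto
      obtain ⟨y, ⟨hyo, hyV'⟩, hyA⟩ := ht (o ∩ V') (ho.inter V'.isOpen) ⟨hto, htV'⟩
      exact ⟨y, hyo, hyA, hyV'⟩
    rw [hcl.closure_eq] at h5
    exact h5.1
  have hq : Topology.IsQuotientMap f :=
    f.isOpenMap.isQuotientMap f.continuous f.surjective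
  exact hq.isClosed_preimage.mp hAc

variable {S : Scheme.{u}}

theorem locP_lft_of_repWith_etale {F G : Sp S} (b : F ⟶ G) (hb : RepWith @Etale b) :
    LocP @LocallyOfFiniteType b := by
  intro U' V' a' b' k ha' hb' hsq
  have : Etale k.left := Groth.Agent.H1.LocPStable.etale_of_charts (a' ≫ b) b'
    ((RepWith (S := S) @Etale).comp_mem _ _ ha' hb) hb' k hsq.symm
  infer_instance

open Groth.Agent.Lib.helper11 in
theorem main (X : AlgSp.Space S) (hX : AlgSp.EtaleLocally (fun U => JacobsonSpace ↥U) X.obj)
    (x : AlgSp.Points X.obj) (hx : AlgSp.HasAt (fun U u => IsClosed ({u} : Set ↥U)) X.obj x) {W : Over S} (g : (AlgSp.yon S).obj W ⟶ X.obj)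
    (hg : AlgSp.LocP @LocallyOfFiniteType g) (hxW : x ∈ Set.range (AlgSp.Points.ofPt g)) :
    ∃ w : ↥W.left, IsClosed ({w} : Set ↥W.left) ∧ AlgSp.Points.ofPt g w = x := by
  obtain ⟨U, p, hpe, hps, hUJ⟩ := hX
  obtain ⟨U0, φ0, u0, hφ0e, hu0x, hu0c⟩ := hx
  obtain ⟨w0, hw0⟩ := hxW
  have key : ∀ (T : Over S) (a : (yon S).obj T ⟶ X.obj), LocP @LocallyOfFiniteType a →
      JacobsonSpace ↥T.left := by
    intro T a ha
    obtain ⟨TU, snd, fst', sq⟩ := hpe.rep a
    obtain ⟨h, rfl⟩ := (yon S).map_surjective fst'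
    have he : Etale snd.left := hpe.2 _ _ _ sq
    have hs : Surjective snd.left := hps.2 _ _ _ sq
    have hlft : LocallyOfFiniteType h.left :=
      ha ((yon S).map snd) p h ((repWith_yon_map_iff @Etale snd).2 he) hpe sq.w.symm
    have h1 : JacobsonSpace ↥U.left := hUJ
    have h2 : JacobsonSpace ↥TU.left := LocallyOfFiniteType.jacobsonSpace h.left
    exact jacobsonSpace_of_etale_surjective snd.left
  have hWJ : JacobsonSpace ↥W.left := key W g hg
  have hU0J : JacobsonSpace ↥U0.left := key U0 φ0 (locP_lft_of_repWith_etale φ0 hφ0e)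
  obtain ⟨W0, π0, h0', sq0⟩ := hφ0e.rep g
  obtain ⟨h0, rfl⟩ := (yon S).map_surjective h0'
  have hπ0 : Etale π0.left := hφ0e.2 _ _ _ sq0
  have hh0 : LocallyOfFiniteType h0.left :=
    hg ((yon S).map π0) φ0 h0 ((repWith_yon_map_iff @Etale π0).2 hπ0) hφ0e sq0.w.symm
  have hW0J : JacobsonSpace ↥W0.left := LocallyOfFiniteType.jacobsonSpace h0.left
  obtain ⟨z0, hz0u, hz0w⟩ := exists_of_isPullback_schemes sq0 u0 w0 (by rw [hu0x, hw0])
  -- the fibre over `u0` is closed and nonempty
  have hFc : IsClosed (h0.left ⁻¹' {u0}) := hu0c.preimage h0.left.continuous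
  obtain ⟨z, hzF, hzc⟩ := nonempty_inter_closedPoints (X := ↥W0.left) (Z := h0.left ⁻¹' {u0})
    ⟨z0, hz0u⟩ hFc.isLocallyClosed
  have hzc' : IsClosed ({z} : Set ↥W0.left) := hzc
  have hzft : LocallyOfFiniteType (W0.left.fromSpecResidueField z) :=
    isClosed_singleton_iff_locallyOfFiniteType.mp hzc'
  have hπ0lft : LocallyOfFiniteType π0.left := inferInstance
  have hw1ft : LocallyOfFiniteType (W.left.fromSpecResidueField (π0.left z)) := ft_map π0.left z hzft
  refine ⟨π0.left z, isClosed_singleton_iff_locallyOfFiniteType.mpr hw1ft, ?_⟩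
  have h1 : Points.ofPt φ0 (h0.left z) = Points.ofPt g (π0.left z) := ofPt_comm sq0.w z
  rw [← h1, show h0.left z = u0 from hzF, hu0x]

/-- Let S be a scheme and X a Jacobson algebraic space over S. Fix a finite type point x of |X|, and let
g : W ⟶ X be locally of finite type, where W is a scheme. If x lies in the image of |W| → |X|, then
some closed point of W is mapped to x. -/
theorem result {S : Scheme.{u}} (X : AlgSp.Space S) (hX : AlgSp.EtaleLocally (fun U => JacobsonSpace ↥U) X.obj)
    (x : AlgSp.Points X.obj) (hx : AlgSp.HasAt (fun U u => IsClosed ({u} : Set ↥U)) X.obj x) {W : Over S} (g : (AlgSp.yon S).obj W ⟶ X.obj)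
    (hg : AlgSp.LocP @LocallyOfFiniteType g) (hxW : x ∈ Set.range (AlgSp.Points.ofPt g)) :
    ∃ w : ↥W.left, IsClosed ({w} : Set ↥W.left) ∧ AlgSp.Points.ofPt g w = x := by
  exact main X hX x hx g hg hxW

end Groth.Agent.S10402
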