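import Groth.Statements.S10403
import Groth.Agent.S10402

set_option autoImplicit false
universe u
open CategoryTheory CategoryTheory.Limits AlgebraicGeometry Topology TopologicalSpace
open AlgSp

namespace Groth.Agent.S10403

open Groth.Agent.H1.FtPts Groth.Agent.Lib.helper11 IsLocalRing

variable {S : Scheme.{u}}

/-- A set of closed points of a scheme meeting every affine open in a finite set is closed. -/
theorem isClosed_of_locally_finite {U : Scheme.{u}} (A : Set U) (hpt : ∀ a ∈ A, IsClosed ({a} : Set U))
    (hfin : ∀ V : U.Opens, IsAffineOpen V → (A ∩ V).Finite) : IsClosed A := by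
  refine isClosed_of_closure_subset fun t ht => ?_
  obtain ⟨V, hV, htV, -⟩ := exists_isAffineOpen_mem_and_subset (X := U) (x := t) (U := ⊤) trivial
  have hcl : IsClosed (A ∩ V) := by
    have : A ∩ V = ⋃ a ∈ A ∩ V, ({a} : Set U) := (Set.biUnion_of_singleton _).symm
    rw [this]
    exact (hfin V hV).isClosed_biUnion (fun a ha => hpt a ha.1)
  have h5 : t ∈ closure (A ∩ V) := by
    rw [mem_closure_iff] at ht ⊢
    intro o ho hto
    obtain ⟨y, ⟨hyo, hyV⟩, hyA⟩ := ht (o ∩ V) (ho.inter V.isOpen) ⟨hto, htV⟩
    exact ⟨y, hyo, hyA, hyV⟩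
  rw [hcl.closure_eq] at h5
  exact h5.1

/-- The fibre of an etale chart from a quasi-compact scheme over a point represented by a quasi-compact field point is
finite. -/
theorem finite_fibre {F : Sp S} (q : FieldPt F) (hq : RepWith @QuasiCompact q.toHom) {V : Over S}
    [CompactSpace ↥V.left] (a : (yon S).obj V ⟶ F) (ha : RepWith @Etale a) :
    {v : ↥V.left | Points.ofPt a v = Points.mk q}.Finite := by
  obtain ⟨E, e2, e1', sq⟩ := ha.rep q.toHom
  obtain ⟨e1, rfl⟩ := (yon S).map_surjective e1'
  have he2 : Etale e2.left := ha.2 _ _ _ sq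
  have he1 : QuasiCompact e1.left := hq.2 _ _ _ sq.flip
  have hEc : CompactSpace ↥E.left := QuasiCompact.compactSpace_of_compactSpace e1.left
  have hlqf : LocallyQuasiFinite e2.left := Groth.Agent.S10318.locallyQuasiFinite_of_etale e2.left
  have hqc : QuasiCompact e2.left := by
    have h1 : IsAffine q.pt.left := by change IsAffine (Spec (CommRingCat.of q.K)); infer_instance
    infer_instance
  have hfin : (e2.left ⁻¹' {closedPoint q.K}).Finite := e2.left.finite_preimage_singleton _
  refine (hfin.image e1.left).subset ?_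
  intro v hv
  have hv' : Points.ofPt a v = Points.ofPt q.toHom (closedPoint q.K) := by
    rw [Points.ofPt_toHom]; exact hv
  obtain ⟨e, he1v, he2v⟩ := exists_of_isPullback_schemes sq v (closedPoint q.K) hv'
  exact ⟨e, he2v, he1v⟩

theorem main (X : AlgSp.Space S) (hd : AlgSp.IsDecent X.obj)
    (hX : AlgSp.EtaleLocally (fun U => JacobsonSpace ↥U) X.obj) (x : AlgSp.Points X.obj) :
    AlgSp.HasAt (fun U u => IsClosed ({u} : Set ↥U)) X.obj x ↔ IsClosed ({x} : Set (AlgSp.Points X.obj)) := by
  obtain ⟨U, p, hpe, hps, hUJ⟩ := hX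
  have hUJ' : JacobsonSpace ↥U.left := hUJ
  have hq : Topology.IsQuotientMap (Points.ofPt p) :=
    (isOpenMap_ofPt p hpe).isQuotientMap (Points.continuous_ofPt p) (surjective_ofPt p hps)
  constructor
  · rintro ⟨U0, φ0, u0, hφ0e, hu0x, hu0c⟩
    obtain ⟨q, hqx, -, hqqc⟩ := hd x
    rw [← hq.isClosed_preimage]
    apply isClosed_of_locally_finite
    · intro u hu
      obtain ⟨W, w2, w1', sq⟩ := hφ0e.rep p
      obtain ⟨w1, rfl⟩ := (yon S).map_surjective w1'
      have hw2 : Etale w2.left := hφ0e.2 _ _ _ sq
      have hw1 : Etale w1.left := hpe.2 _ _ _ sq.flip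
      obtain ⟨z, hz1, hz2⟩ := exists_of_isPullback_schemes sq u0 u (by rw [hu0x]; exact hu.symm)
      have hzc : IsClosed ({z} : Set ↥W.left) :=
        Groth.Agent.S10318.isClosed_singleton_of_etale w1.left z (by rw [hz1]; exact hu0c)
      have hzci : IsClosedImmersion (W.left.fromSpecResidueField z) :=
        isClosed_singleton_iff_isClosedImmersion.mp hzc
      have hzft : LocallyOfFiniteType (W.left.fromSpecResidueField z) := inferInstance
      have hw2lft : LocallyOfFiniteType w2.left := inferInstance
      have huft := ft_map w2.left z hzft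
      rw [hz2] at huft
      exact isClosed_singleton_iff_locallyOfFiniteType.mpr huft
    · intro V hV
      obtain ⟨hae, hapt⟩ := chart_comp p hpe V.ι
      have hVc : CompactSpace ↥(Over.mk (V.ι ≫ U.hom) : Over S).left :=
        isCompact_iff_compactSpace.mp hV.isCompact
      have hfin := finite_fibre q hqqc _ hae
      refine (hfin.image (fun v : V => (v : U.left))).subset ?_
      rintro u ⟨huA, huV⟩
      refine ⟨⟨u, huV⟩, ?_, rfl⟩
      change Points.ofPt _ _ = Points.mk q
      rw [hapt, hqx]
      exact huA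
  · intro hx
    have hAc : IsClosed (Points.ofPt p ⁻¹' {x}) := hx.preimage (Points.continuous_ofPt p)
    obtain ⟨u0, hu0⟩ := surjective_ofPt p hps x
    obtain ⟨u, huA, huc⟩ := nonempty_inter_closedPoints (X := ↥U.left)
      (Z := Points.ofPt p ⁻¹' {x}) ⟨u0, hu0⟩ hAc.isLocallyClosed
    exact ⟨U, p, u, hpe, huA, huc⟩

/-- For a decent Jacobson algebraic space X over a scheme S, the finite type points of |X| are exactly
the closed points. -/
theorem result {S : Scheme.{u}} (X : AlgSp.Space S) (hd : AlgSp.IsDecent X.obj)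
    (hX : AlgSp.EtaleLocally (fun U => JacobsonSpace ↥U) X.obj) (x : AlgSp.Points X.obj) :
    AlgSp.HasAt (fun U u => IsClosed ({u} : Set ↥U)) X.obj x ↔ IsClosed ({x} : Set (AlgSp.Points X.obj)) := by
  exact main X hd hX x

end Groth.Agent.S10403
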