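import Groth.Statements.S10404
import Groth.Agent.S10403
import Groth.Agent.S10340
import Groth.Agent.S10343

set_option autoImplicit false
universe u
open CategoryTheory CategoryTheory.Limits AlgebraicGeometry Topology TopologicalSpace
open AlgSp

namespace Groth.Agent.S10404

open Groth.Agent.Lib.helper11

variable {S : Scheme.{u}}

/-- A scheme all of whose locally closed points are closed is Jacobson. -/
theorem jacobsonSpace_of_locallyClosed_points (U : Scheme.{u})
    (H : ∀ u : U, IsLocallyClosed ({u} : Set U) → IsClosed ({u} : Set U)) : JacobsonSpace U := by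
  rw [jacobsonSpace_iff_locallyClosed]
  rintro T ⟨t, ht⟩ ⟨O, C, hO, hC, rfl⟩
  obtain ⟨B, hB, htB, hBO⟩ := exists_isAffineOpen_mem_and_subset (X := U) (x := t) (U := ⟨O, hO⟩) ht.1
  have hBc : CompactSpace ↥B := isCompact_iff_compactSpace.mp hB.isCompact
  have hSc : IsClosed ((Subtype.val : B → U) ⁻¹' C) := hC.preimage continuous_subtype_val
  obtain ⟨z, hzS, hzc⟩ := hSc.exists_closed_singleton ⟨⟨t, htB⟩, ht.2⟩
  refine ⟨z.1, ⟨hBO z.2, hzS⟩, ?_⟩
  apply H
  exact Groth.Agent.S10402.isLocallyClosed_singleton_of_closed_in_open B B.isOpen z.1 z.2 hzc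

theorem forward (X : AlgSp.Space S) (hd : AlgSp.IsDecent X.obj)
    (hX : AlgSp.EtaleLocally (fun U => JacobsonSpace ↥U) X.obj) : JacobsonSpace (AlgSp.Points X.obj) := by
  have hX' := hX
  obtain ⟨U, p, hpe, hps, hUJ⟩ := hX
  have hUJ' : JacobsonSpace ↥U.left := hUJ
  rw [jacobsonSpace_iff_locallyClosed]
  intro T hT hTlc
  have hT' : (Points.ofPt p ⁻¹' T).Nonempty := hT.preimage (surjective_ofPt p hps)
  have hT'lc : IsLocallyClosed (Points.ofPt p ⁻¹' T) := hTlc.preimage (Points.continuous_ofPt p)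
  obtain ⟨u, huT, huc⟩ := nonempty_inter_closedPoints (X := ↥U.left) hT' hT'lc
  refine ⟨Points.ofPt p u, huT, ?_⟩
  exact (Groth.Agent.S10403.main X hd hX' _).1 ⟨U, p, u, hpe, rfl, huc⟩

theorem backward (X : AlgSp.Space S) (hd : AlgSp.IsDecent X.obj)
    (hJ : JacobsonSpace (AlgSp.Points X.obj)) : AlgSp.EtaleLocally (fun U => JacobsonSpace ↥U) X.obj := by
  obtain ⟨U, p, hpe, hps⟩ := X.property.atlas
  refine ⟨U, p, hpe, hps, ?_⟩
  apply jacobsonSpace_of_locallyClosed_points
  intro u hu
  set x := Points.ofPt p u with hx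
  -- `x` is closed in `|X|`
  have hxc : IsClosed ({x} : Set (Points X.obj)) := by
    apply isClosed_singleton_of_isLocallyClosed_singleton
    obtain ⟨O, C, hO, hC, huOC⟩ := hu
    have huO : u ∈ O := (huOC ▸ Set.mem_singleton u : u ∈ O ∩ C).1
    obtain ⟨V, hV, huV, hVO⟩ := exists_isAffineOpen_mem_and_subset (X := U.left) (x := u)
      (U := ⟨O, hO⟩) huO
    obtain ⟨q, hqx, hqm, hqqc⟩ := hd x
    -- the fibre over `x` in `V` is finite
    have hFfin : (Points.ofPt p ⁻¹' {x} ∩ V).Finite := by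
      obtain ⟨hae, hapt⟩ := chart_comp p hpe V.ι
      have hVc : CompactSpace ↥(Over.mk (V.ι ≫ U.hom) : Over S).left :=
        isCompact_iff_compactSpace.mp hV.isCompact
      have hfin := Groth.Agent.S10403.finite_fibre q hqqc _ hae
      refine (hfin.image (fun v : V => (v : U.left))).subset ?_
      rintro u' ⟨huA, huV'⟩
      refine ⟨⟨u', huV'⟩, ?_, rfl⟩
      change Points.ofPt _ _ = Points.mk q
      rw [hapt, hqx]
      exact huA
    set F := Points.ofPt p ⁻¹' {x} ∩ V with hF
    set B : Set U.left := ⋃ u' ∈ F \ {u}, closure ({u'} : Set U.left) with hBdef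
    have hBc : IsClosed B :=
      (hFfin.subset Set.sdiff_subset).isClosed_biUnion (fun _ _ => isClosed_closure)
    have huB : u ∉ B := by
      intro h
      obtain ⟨u', ⟨hu'F, hu'ne⟩, hcl⟩ := Set.mem_iUnion₂.mp h
      have hsp : u' ⤳ u := specializes_iff_mem_closure.mpr hcl
      have he : Points.ofPt p u = Points.ofPt p u' := hu'F.1.symm
      exact hu'ne (Groth.Agent.S10340.result X hd p hpe u u' he hsp).symm
    set V' : Set U.left := (V : Set U.left) ∩ Bᶜ with hV'
    have hV'o : IsOpen V' := V.isOpen.inter hBc.isOpen_compl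
    have huV' : u ∈ V' := ⟨huV, huB⟩
    have hfib : ∀ v ∈ V', Points.ofPt p v = x → v = u := by
      intro v hv hvx
      by_contra hne
      apply hv.2
      exact Set.mem_iUnion₂.mpr ⟨v, ⟨⟨hvx, hv.1⟩, hne⟩, subset_closure rfl⟩
    refine ⟨Points.ofPt p '' V', closure {x}, isOpenMap_ofPt p hpe V' hV'o, isClosed_closure, ?_⟩
    apply subset_antisymm
    · rintro _ rfl
      exact ⟨⟨u, huV', rfl⟩, subset_closure rfl⟩
    · rintro y ⟨⟨v, hvV', rfl⟩, hycl⟩
      have hsp : x ⤳ Points.ofPt p v := specializes_iff_mem_closure.mpr hycl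
      obtain ⟨v', hv'v, hv'x⟩ := Groth.Agent.S10343.result X (Points.ofPt p v) x hsp
        ⟨q, hqx, hqm, hqqc⟩ p hpe v rfl
      have hv'V' : v' ∈ V' := hv'v.mem_open hV'o hvV'
      have hv'u : v' = u := hfib v' hv'V' hv'x
      rw [hv'u] at hv'v
      -- `u ⤳ v` and `v ∈ O`, `{u} = O ∩ C`
      have hvO : v ∈ O := hVO hvV'.1
      have hvC : v ∈ C := by
        have huC : u ∈ C := (huOC ▸ Set.mem_singleton u : u ∈ O ∩ C).2
        exact hv'v.mem_closed hC huC
      have : v ∈ ({u} : Set U.left) := by rw [huOC]; exact ⟨hvO, hvC⟩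
      rw [Set.mem_singleton_iff] at this
      rw [this]
      rfl
  -- hence `u` is closed
  have hfc : IsClosed (Points.ofPt p ⁻¹' {x}) := hxc.preimage (Points.continuous_ofPt p)
  refine isClosed_of_closure_subset fun u' hu' => ?_
  have hsub : ({u} : Set U.left) ⊆ Points.ofPt p ⁻¹' {x} := by
    rintro _ rfl
    rfl
  have h1 : u' ∈ Points.ofPt p ⁻¹' {x} := closure_minimal hsub hfc hu'
  have h2 : u ⤳ u' := specializes_iff_mem_closure.mpr hu'
  exact Groth.Agent.S10340.result X hd p hpe u' u h1 h2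

theorem main (X : AlgSp.Space S) (hd : AlgSp.IsDecent X.obj) :
    AlgSp.EtaleLocally (fun U => JacobsonSpace ↥U) X.obj ↔ JacobsonSpace (AlgSp.Points X.obj) :=
  ⟨forward X hd, backward X hd⟩

/-- A decent algebraic space X over a scheme S is Jacobson if and only if the topological space |X| is
Jacobson. -/
theorem result {S : Scheme.{u}} (X : AlgSp.Space S) (hd : AlgSp.IsDecent X.obj) :
    AlgSp.EtaleLocally (fun U => JacobsonSpace ↥U) X.obj ↔ JacobsonSpace (AlgSp.Points X.obj) := by
  exact main X hd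

end Groth.Agent.S10404
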