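import Groth.Statements.S10406
import Groth.Agent.S10343
import Groth.Agent.S10340
import Groth.Agent.S10267
import Groth.Agent.S10265
import Groth.Agent.Lib.Helper1.QuotFin
import Groth.Agent.Lib.Helper11.AlgSpBasic

set_option autoImplicit false
universe u
open CategoryTheory CategoryTheory.Limits AlgebraicGeometry Topology TopologicalSpace
open AlgSp

namespace Groth.Agent.S10406

open Groth.Agent.Lib.helper11

variable {S : Scheme.{u}}

/-- There are no nontrivial specializations in the fibres of a finite morphism of decent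
algebraic spaces. -/
theorem eq_of_specializes_of_map_eq {X Y : AlgSp.Space S} (f : Y ⟶ X)
    (hf : RepWith @IsFinite f.hom) (hX : IsDecent X.obj) (hY : IsDecent Y.obj)
    (a' c' : Points Y.obj) (hs : a' ⤳ c') (he : Points.map f.hom a' = Points.map f.hom c') :
    a' = c' := by
  obtain ⟨V, b, v, hbe, -, hbv⟩ := exists_chart_ofPt X (Points.map f.hom c')
  obtain ⟨W, g, fst, sqW⟩ := hf.rep b
  haveI hgfin : IsFinite g.left := hf.2 _ _ _ sqW
  have hfe : RepWith @Etale fst :=
    (repWith_isStableUnderBaseChange (S := S) @Etale).of_isPullback sqW.flip hbe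
  obtain ⟨w_c, hwc1, hwc2⟩ := exists_of_isPullback_scheme sqW c' v hbv.symm
  obtain ⟨p, hp, -, hpq⟩ := hY a'
  obtain ⟨w_a, hwa1, hwa2⟩ := Groth.Agent.S10343.main Y c' a' hs ⟨p, hp, hpq⟩ fst hfe w_c hwc1
  have hcomm : ∀ w : ↥W.left, Points.ofPt b (g.left w) = Points.map f.hom (Points.ofPt fst w) := by
    intro w
    rw [Points.map_ofPt, sqW.w, ofPt_yon_map_comp]
  have hva : Points.ofPt b (g.left w_c) = Points.ofPt b (g.left w_a) := by
    rw [hcomm, hcomm, hwc1, hwa2, he]
  have hgeq : g.left w_c = g.left w_a :=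
    Groth.Agent.S10340.main X hX b hbe (g.left w_c) (g.left w_a) hva (hwa1.map g.left.continuous)
  haveI : LocallyQuasiFinite g.left := inferInstance
  have hD := (g.left.isDiscrete_preimage_singleton (g.left w_c)).to_subtype
  have h2 : (⟨w_a, hgeq.symm⟩ : g.left ⁻¹' {g.left w_c}) ⤳ ⟨w_c, rfl⟩ :=
    (subtype_specializes_iff _ _).2 hwa1
  have h3 := h2.eq
  have h4 : w_a = w_c := congrArg Subtype.val h3
  rw [← hwa2, ← hwc1, h4]

theorem main {X Y : AlgSp.Space S} (f : Y ⟶ X)
    (hf : AlgSp.IsFiniteMor f.hom) (hs : AlgSp.IsSurjectiveMor f.hom) (hX : AlgSp.IsDecent X.obj)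
    (hY : AlgSp.IsDecent Y.obj)
    (δ : AlgSp.Points X.obj → ℤ)
    (hδ : (∀ a b : AlgSp.Points Y.obj, a ⤳ b → a ≠ b → (δ ∘ AlgSp.Points.map f.hom) b < (δ ∘ AlgSp.Points.map f.hom) a ∧ ((∀ c : AlgSp.Points Y.obj, a ⤳ c → c ⤳ b → c = a ∨ c = b) → (δ ∘ AlgSp.Points.map f.hom) a = (δ ∘ AlgSp.Points.map f.hom) b + 1))) :
    (∀ a b : AlgSp.Points X.obj, a ⤳ b → a ≠ b → δ b < δ a ∧ ((∀ c : AlgSp.Points X.obj, a ⤳ c → c ⤳ b → c = a ∨ c = b) → δ a = δ b + 1)) := by
  have hfin : RepWith @IsFinite f.hom := (Groth.Agent.S10267.finite_iff f.hom).1 hf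
  have hclosed : IsClosedMap (Points.map f.hom) :=
    Groth.Agent.H1.QuotFin.isClosedMap_map_of_finite f.hom hfin
  intro a b hab hne
  obtain ⟨a', rfl⟩ := hs a
  have hb : b ∈ Points.map f.hom '' closure {a'} := by
    have hcl : IsClosed (Points.map f.hom '' closure {a'}) := hclosed _ isClosed_closure
    have h1 : closure {Points.map f.hom a'} ⊆ Points.map f.hom '' closure {a'} :=
      hcl.closure_subset_iff.2 (by
        rintro _ rfl
        exact ⟨a', subset_closure rfl, rfl⟩)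
    exact h1 (specializes_iff_mem_closure.1 hab)
  obtain ⟨b', hb', rfl⟩ := hb
  have hab' : a' ⤳ b' := specializes_iff_mem_closure.2 hb'
  have hne' : a' ≠ b' := fun h => hne (by rw [h])
  obtain ⟨h1, h2⟩ := hδ a' b' hab' hne'
  refine ⟨h1, fun himm => h2 ?_⟩
  intro c' hac hcb
  rcases himm (Points.map f.hom c') (hac.map (Points.continuous_map f.hom))
    (hcb.map (Points.continuous_map f.hom)) with h | h
  · left
    exact (eq_of_specializes_of_map_eq f hfin hX hY a' c' hac h.symm).symm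
  · right
    exact eq_of_specializes_of_map_eq f hfin hX hY c' b' hcb h

/-- Let S be a scheme, Y and X decent, locally Noetherian algebraic spaces over S, and f : Y ⟶ X a
surjective finite morphism, and let δ : |X| → ℤ be a function. Suppose δ ∘ |f| is a dimension
function on |Y| (it decreases strictly along nontrivial specializations and by exactly one along
immediate specializations). Then δ is a dimension function on |X|. -/
theorem result {S : Scheme.{u}} {X Y : AlgSp.Space S} (f : Y ⟶ X)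
    (hf : AlgSp.IsFiniteMor f.hom) (hs : AlgSp.IsSurjectiveMor f.hom) (hX : AlgSp.IsDecent X.obj)
    (hY : AlgSp.IsDecent Y.obj) (hXN : AlgSp.IsLocNoethSp X.obj) (hYN : AlgSp.IsLocNoethSp Y.obj)
    (δ : AlgSp.Points X.obj → ℤ)
    (hδ : (∀ a b : AlgSp.Points Y.obj, a ⤳ b → a ≠ b → (δ ∘ AlgSp.Points.map f.hom) b < (δ ∘ AlgSp.Points.map f.hom) a ∧ ((∀ c : AlgSp.Points Y.obj, a ⤳ c → c ⤳ b → c = a ∨ c = b) → (δ ∘ AlgSp.Points.map f.hom) a = (δ ∘ AlgSp.Points.map f.hom) b + 1))) :
    (∀ a b : AlgSp.Points X.obj, a ⤳ b → a ≠ b → δ b < δ a ∧ ((∀ c : AlgSp.Points X.obj, a ⤳ c → c ⤳ b → c = a ∨ c = b) → δ a = δ b + 1)) := by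
  exact main f hf hs hX hY δ hδ

end Groth.Agent.S10406
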