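import Groth.Statements.S10407
import Groth.Agent.Lib.Helper5.FieldQuotFinite

set_option autoImplicit false
universe u
open CategoryTheory CategoryTheory.Limits AlgebraicGeometry Topology TopologicalSpace
open AlgSp

namespace Groth.Agent.S10407

open Groth.Agent.Lib.helper5.FieldQuot

/-- The fibre product of two residue field points of an etale chart is a scheme, etale over the first residue field. -/
theorem exists_chart_product {S : Scheme.{u}} {X : Sp S} {U : Over S} (φ : (yon S).obj U ⟶ X)
    (hφ : RepWith @Etale φ) (u u' : ↥U.left) :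
    ∃ (T : Over S) (s : T ⟶ (FieldPt.ofPt φ u).pt) (t : T ⟶ (FieldPt.ofPt φ u').pt),
      IsPullback ((yon S).map s) ((yon S).map t) (FieldPt.ofPt φ u).toHom (FieldPt.ofPt φ u').toHom ∧
        Etale s.left := by
  have hq : (FieldPt.ofPt φ u').toHom = (yon S).map (ptι φ u') ≫ φ := FieldPt.toHom_ofPt φ u'
  obtain ⟨W', b, a', sqW⟩ := hφ.1 (FieldPt.ofPt φ u).toHom
  obtain ⟨a, rfl⟩ := (yon S).map_surjective a'
  have hb : Etale b.left := hφ.2 _ _ _ sqW
  have sqV : IsPullback ((yon S).map (pullback.fst a (ptι φ u'))) ((yon S).map (pullback.snd a (ptι φ u')))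
      ((yon S).map a) ((yon S).map (ptι φ u')) := (IsPullback.of_hasPullback a (ptι φ u')).map (yon S)
  have sqP := sqV.paste_horiz sqW.flip
  rw [← hq, ← Functor.map_comp] at sqP
  refine ⟨_, pullback.fst a (ptι φ u') ≫ b, pullback.snd a (ptι φ u'), sqP, ?_⟩
  have hlqf : LocallyQuasiFinite b.left := lqf_of_etale b.left
  have hart : IsLocallyArtinian (FieldPt.ofPt φ u).pt.left :=
    inferInstanceAs (IsLocallyArtinian (Spec (U.left.residueField u)))
  have hart' : IsLocallyArtinian W'.left := IsLocallyArtinian.of_locallyQuasiFinite b.left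
  have hred : IsReduced (FieldPt.ofPt φ u).pt.left :=
    inferInstanceAs (IsReduced (Spec (U.left.residueField u)))
  have hred' : IsReduced W'.left := Groth.Agent.H1.EtaleReduced.isReduced_of_etale b.left
  have sqL : IsPullback (pullback.fst a (ptι φ u')).left (pullback.snd a (ptι φ u')).left a.left
      (U.left.fromSpecResidueField u') := (IsPullback.of_hasPullback a (ptι φ u')).map (Over.forget S)
  have hoi : IsOpenImmersion (pullback.fst a (ptι φ u')).left :=
    isOpenImmersion_fst_of_discrete a.left u' _ _ sqL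
  rw [Over.comp_left]
  infer_instance

/-- (1) ⇒ (4): let X be an algebraic space over a scheme S, φ : U ⟶ X etale with U a scheme, and u, u' ∈
U points over the same x ∈ |X| such that, with R = U ×_X U, the map |R| → |U| ×_{|X|} |U| has finite
fibre over (u, u'). Then x is represented by a monomorphism Spec k ⟶ X with k a field. -/
theorem result {S : Scheme.{u}} (X : AlgSp.Space S) {U : Over S}
    (φ : (AlgSp.yon S).obj U ⟶ X.obj) (hφ : AlgSp.RepWith @Etale φ) (u u' : ↥U.left)
    (he : AlgSp.Points.ofPt φ u = AlgSp.Points.ofPt φ u')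
    (hfin : ∀ (R : Over S) (s t : R ⟶ U), IsPullback ((AlgSp.yon S).map t) ((AlgSp.yon S).map s) φ φ →
          {r : ↥R.left | s.left r = u ∧ t.left r = u'}.Finite) :
    ∃ p : AlgSp.FieldPt X.obj, AlgSp.Points.mk p = AlgSp.Points.ofPt φ u ∧ Mono p.toHom := by
  -- the relation
  obtain ⟨R, s, t', sqR⟩ := hφ.1 φ
  obtain ⟨t, rfl⟩ := (yon S).map_surjective t'
  have hF := hfin R s t sqR
  -- the product of the points `u'` and `u`
  obtain ⟨T2, s2, t2, sq2, hs2⟩ := exists_chart_product φ hφ u' u
  have hqu : (FieldPt.ofPt φ u).toHom = (yon S).map (ptι φ u) ≫ φ := FieldPt.toHom_ofPt φ u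
  have hqu' : (FieldPt.ofPt φ u').toHom = (yon S).map (ptι φ u') ≫ φ := FieldPt.toHom_ofPt φ u'
  -- the map `T2 ⟶ R`
  obtain ⟨l', hl1, hl2⟩ := sqR.exists_lift ((yon S).map (s2 ≫ ptι φ u')) ((yon S).map (t2 ≫ ptι φ u)) (by
    rw [Functor.map_comp, Functor.map_comp, Category.assoc, Category.assoc, ← hqu, ← hqu', sq2.w])
  obtain ⟨l, rfl⟩ := (yon S).map_surjective l'
  have hlt : l ≫ t = s2 ≫ ptι φ u' := (yon S).map_injective (by rw [Functor.map_comp, hl1])
  have hls : l ≫ s = t2 ≫ ptι φ u := (yon S).map_injective (by rw [Functor.map_comp, hl2])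
  have hmι : ∀ v : ↥U.left, Mono (ptι φ v) := by
    intro v
    have : Mono (ptι φ v).left := inferInstanceAs (Mono (U.left.fromSpecResidueField v))
    exact (Over.forget S).mono_of_mono_map this
  have hml : Mono l := by
    constructor
    intro Z a b hab
    have h1 : a ≫ s2 = b ≫ s2 := by
      have := hmι u'
      rw [← cancel_mono (ptι φ u'), Category.assoc, Category.assoc, ← hlt, ← Category.assoc, hab,
        Category.assoc]
    have h2 : a ≫ t2 = b ≫ t2 := by
      have := hmι u
      rw [← cancel_mono (ptι φ u), Category.assoc, Category.assoc, ← hls, ← Category.assoc, hab,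
        Category.assoc]
    apply (yon S).map_injective
    apply sq2.hom_ext
    · rw [← Functor.map_comp, ← Functor.map_comp, h1]
    · rw [← Functor.map_comp, ← Functor.map_comp, h2]
  have hml' : Mono l.left := inferInstance
  have hinj : Function.Injective l.left := l.left.injective
  have himg : ∀ τ : ↥T2.left, l.left τ ∈ {r : ↥R.left | s.left r = u ∧ t.left r = u'} := by
    intro τ
    constructor
    · change (l ≫ s).left τ = u
      rw [hls, Over.comp_left, Scheme.Hom.comp_apply]
      exact Scheme.fromSpecResidueField_apply _ _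
    · change (l ≫ t).left τ = u'
      rw [hlt, Over.comp_left, Scheme.Hom.comp_apply]
      exact Scheme.fromSpecResidueField_apply _ _
  have hT2fin : Finite ↥T2.left := by
    have : Finite {r : ↥R.left | s.left r = u ∧ t.left r = u'} := hF
    exact Finite.of_injective (fun τ => (⟨l.left τ, himg τ⟩ : {r : ↥R.left | s.left r = u ∧ t.left r = u'}))
      (fun a b hab => hinj (congrArg Subtype.val hab))
  -- `T2` is nonempty
  have hsubu : Subsingleton ↥(FieldPt.ofPt φ u).pt.left :=
    inferInstanceAs (Subsingleton (PrimeSpectrum (U.left.residueField u)))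
  have hT2ne : Nonempty ↥T2.left := by
    let x' : ↥(FieldPt.ofPt φ u').pt.left := (IsLocalRing.closedPoint (U.left.residueField u') :
      PrimeSpectrum (U.left.residueField u'))
    let x : ↥(FieldPt.ofPt φ u).pt.left := (IsLocalRing.closedPoint (U.left.residueField u) :
      PrimeSpectrum (U.left.residueField u))
    obtain ⟨v, -, -⟩ := Groth.Agent.Lib.helper11.exists_of_isPullback_schemes sq2 x' x (by
      rw [Points.ofPt_toHom, Points.ofPt_toHom]
      exact he.symm)
    exact ⟨v⟩
  -- `s2` is finite
  have hcomp2 : CompactSpace ↥T2.left := inferInstance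
  have haff' : IsAffine (FieldPt.ofPt φ u').pt.left :=
    inferInstanceAs (IsAffine (Spec (U.left.residueField u')))
  have hqc2 : QuasiCompact s2.left := HasAffineProperty.iff_of_isAffine.mpr hcomp2
  have hfin2 : IsFinite s2.left := isFinite_of_etale_qc (K := (FieldPt.ofPt φ u').K) s2.left
  -- the self product of `u`
  obtain ⟨T1, s1, t1, sq1, hs1⟩ := exists_chart_selfProduct φ hφ u
  -- `T0 = T2 ×_{u'} T2` is finite
  have sqA : IsPullback ((yon S).map (pullback.fst s2 s2)) ((yon S).map (pullback.snd s2 s2))
      ((yon S).map s2) ((yon S).map s2) := (IsPullback.of_hasPullback s2 s2).map (yon S)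
  have sqA' := sqA.paste_horiz sq2.flip
  have sqAL : IsPullback (pullback.fst s2 s2).left (pullback.snd s2 s2).left s2.left s2.left :=
    (IsPullback.of_hasPullback s2 s2).map (Over.forget S)
  have hfinA : IsFinite (pullback.snd s2 s2).left := MorphismProperty.of_isPullback sqAL hfin2
  have hT0fin : Finite ↥(pullback s2 s2).left := by
    have hlqfA : LocallyQuasiFinite (pullback.snd s2 s2).left := inferInstance
    have h := Set.Finite.of_finite_fibers (pullback.snd s2 s2).left (s := Set.univ) (Set.toFinite _)
      (fun τ _ => ((pullback.snd s2 s2).left.finite_preimage_singleton τ).subset Set.inter_subset_right)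
    exact Set.finite_univ_iff.mp h
  -- `T0' = T1 ×_u T2` surjects onto `T1`
  have sqB : IsPullback ((yon S).map (pullback.fst t1 t2)) ((yon S).map (pullback.snd t1 t2))
      ((yon S).map t1) ((yon S).map t2) := (IsPullback.of_hasPullback t1 t2).map (yon S)
  have sqB' := sqB.paste_horiz sq1.flip
  have sqBL : IsPullback (pullback.fst t1 t2).left (pullback.snd t1 t2).left t1.left t2.left :=
    (IsPullback.of_hasPullback t1 t2).map (Over.forget S)
  have hsurj2 : Surjective t2.left := by
    constructor
    intro y
    obtain ⟨τ⟩ := hT2ne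
    exact ⟨τ, Subsingleton.elim _ _⟩
  have hsurjB : Surjective (pullback.fst t1 t2).left := MorphismProperty.of_isPullback sqBL.flip hsurj2
  -- comparison of `T0` and `T0'`
  have hw : (yon S).map s2 ≫ (FieldPt.ofPt φ u').toHom = (yon S).map t2 ≫ (FieldPt.ofPt φ u).toHom := sq2.w
  rw [hw] at sqA'
  let e := sqB'.isoIsPullback _ _ sqA'
  obtain ⟨f, hf⟩ := (yon S).map_surjective e.hom
  obtain ⟨g, hg⟩ := (yon S).map_surjective e.inv
  have hfg : f ≫ g = 𝟙 _ := (yon S).map_injective (by rw [Functor.map_comp, hf, hg, e.hom_inv_id, CategoryTheory.Functor.map_id])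
  have hfinj : Function.Injective f.left := by
    intro a b hab
    have h1 : (f ≫ g).left a = (f ≫ g).left b := by
      rw [Over.comp_left, Scheme.Hom.comp_apply, Scheme.Hom.comp_apply, hab]
    rw [hfg] at h1
    exact h1
  have hT0'fin : Finite ↥(pullback t1 t2).left := Finite.of_injective f.left hfinj
  have hT1fin : Finite ↥T1.left := Finite.of_surjective (pullback.fst t1 t2).left hsurjB.surj
  -- conclusion
  have hcomp1 : CompactSpace ↥T1.left := inferInstance
  have haff : IsAffine (FieldPt.ofPt φ u).pt.left :=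
    inferInstanceAs (IsAffine (Spec (U.left.residueField u)))
  have hqc1 : QuasiCompact s1.left := HasAffineProperty.iff_of_isAffine.mpr hcomp1
  have hfin1 : IsFinite s1.left := isFinite_of_etale_qc (K := (FieldPt.ofPt φ u).K) s1.left
  obtain ⟨p, c, hfac, hm, -⟩ := exists_mono_point (FieldPt.ofPt φ u) s1 t1 sq1 hfin1
  exact ⟨p, mk_eq_of_factor c hfac, hm⟩

end Groth.Agent.S10407
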