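import Groth.Statements.S10410
import Groth.Agent.Lib.Helper5.FieldQuotFinite
import Groth.Agent.S10408

set_option autoImplicit false
universe u
open CategoryTheory CategoryTheory.Limits AlgebraicGeometry Topology TopologicalSpace
open AlgSp

namespace Groth.Agent.S10410

/-- Let X be an algebraic space over a scheme S, x ∈ |X|, and φ : U ⟶ X etale with U a scheme. Then x
lies in the image of |U| and the fibres of |U| → |X| and |U ×_X U| → |X| over x are finite, if and
only if x is represented by a monomorphism Spec k ⟶ X such that Spec k ×_X U is a nonempty scheme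
finite over k. -/
theorem result {S : Scheme.{u}} (X : AlgSp.Space S) (x : AlgSp.Points X.obj)
    {U : Over S} (φ : (AlgSp.yon S).obj U ⟶ X.obj) (hφ : AlgSp.RepWith @Etale φ) :
    (x ∈ Set.range (AlgSp.Points.ofPt φ) ∧ (AlgSp.Points.ofPt φ ⁻¹' {x}).Finite ∧
        ∀ (R : Over S) (s t : R ⟶ U), IsPullback ((AlgSp.yon S).map t) ((AlgSp.yon S).map s) φ φ →
          (AlgSp.Points.ofPt ((AlgSp.yon S).map t ≫ φ) ⁻¹' {x}).Finite) ↔
      ∃ p : AlgSp.FieldPt X.obj, AlgSp.Points.mk p = x ∧ Mono p.toHom ∧
        ∀ (T : Over S) (c : T ⟶ p.pt) (snd : (AlgSp.yon S).obj T ⟶ (AlgSp.yon S).obj U),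
          IsPullback ((AlgSp.yon S).map c) snd p.toHom φ → Nonempty ↥T.left ∧ IsFinite c.left := by
  open Groth.Agent.Lib.helper5.FieldQuot in
  constructor
  · rintro ⟨⟨u, hu⟩, hF, HR⟩
    obtain ⟨R, s, t', sq⟩ := hφ.1 φ
    obtain ⟨t, rfl⟩ := (yon S).map_surjective t'
    have hfinR := HR R s t sq
    have hfin : {r : ↥R.left | s.left r = u ∧ t.left r = u}.Finite := by
      refine hfinR.subset ?_
      rintro r ⟨-, hr⟩
      change Points.ofPt ((yon S).map t ≫ φ) r = x
      rw [Groth.Agent.Lib.helper11.ofPt_yon_map_comp, hr, hu]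
    obtain ⟨p, c₀, hfac, hm, -⟩ := exists_mono_point_of_finite_pair φ hφ u s t sq hfin
    have hp : Points.mk p = x := (mk_eq_of_factor c₀ hfac).trans hu
    refine ⟨p, hp, hm, ?_⟩
    intro T c snd' sqT
    obtain ⟨snd, rfl⟩ := (yon S).map_surjective snd'
    have hsub : Subsingleton ↥p.pt.left := inferInstanceAs (Subsingleton (PrimeSpectrum p.K))
    let s0 : ↥p.pt.left := (IsLocalRing.closedPoint p.K : ↥(Spec (CommRingCat.of p.K)))
    constructor
    · obtain ⟨τ, -, -⟩ := Groth.Agent.Lib.helper11.exists_of_isPullback_schemes sqT s0 u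
        ((Points.ofPt_toHom p s0).trans (hp.trans hu.symm))
      exact ⟨τ⟩
    · have hce : Etale c.left := hφ.2 _ _ _ sqT.flip
      have hms' : Mono ((yon S).map snd) :=
        (MorphismProperty.monomorphisms (Sp S)).of_isPullback sqT
          (MorphismProperty.monomorphisms.infer_property p.toHom)
      have hms : Mono snd := (yon S).mono_of_mono_map hms'
      have hmsl : Mono snd.left := inferInstance
      have hinj : Function.Injective snd.left := snd.left.injective
      have hmem : ∀ τ : ↥T.left, snd.left τ ∈ Points.ofPt φ ⁻¹' {x} := by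
        intro τ
        change Points.ofPt φ (snd.left τ) = x
        rw [← Groth.Agent.Lib.helper11.ofPt_yon_map_comp, ← sqT.w,
          Groth.Agent.Lib.helper11.ofPt_yon_map_comp, ← hp]
        exact Points.ofPt_toHom p _
      have hTfin : Finite ↥T.left := by
        have : Finite (Points.ofPt φ ⁻¹' {x}) := hF
        exact Finite.of_injective (fun τ => (⟨snd.left τ, hmem τ⟩ : (Points.ofPt φ ⁻¹' {x})))
          (fun a b hab => hinj (congrArg Subtype.val hab))
      have hcomp : CompactSpace ↥T.left := inferInstance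
      have haff : IsAffine p.pt.left := inferInstanceAs (IsAffine (Spec (CommRingCat.of p.K)))
      have hqc : QuasiCompact c.left := HasAffineProperty.iff_of_isAffine.mpr hcomp
      exact isFinite_of_etale_qc (K := p.K) c.left
  · rintro ⟨p, hp, hm, HT⟩
    obtain ⟨T, c, snd', sqT'⟩ := hφ.1 p.toHom
    obtain ⟨snd, rfl⟩ := (yon S).map_surjective snd'
    have sqT : IsPullback ((yon S).map c) ((yon S).map snd) p.toHom φ := sqT'.flip
    obtain ⟨⟨τ₀⟩, hcfin⟩ := HT T c _ sqT
    have hpt : ∀ τ : ↥T.left, Points.ofPt φ (snd.left τ) = x := by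
      intro τ
      rw [← Groth.Agent.Lib.helper11.ofPt_yon_map_comp, ← sqT.w,
        Groth.Agent.Lib.helper11.ofPt_yon_map_comp, ← hp]
      exact Points.ofPt_toHom p _
    have hsub : Subsingleton ↥p.pt.left := inferInstanceAs (Subsingleton (PrimeSpectrum p.K))
    let s0 : ↥p.pt.left := (IsLocalRing.closedPoint p.K : ↥(Spec (CommRingCat.of p.K)))
    have hTfin : (Set.univ : Set ↥T.left).Finite := by
      have h1 := Scheme.Hom.finite_preimage_singleton c.left s0
      have h2 : c.left ⁻¹' {s0} = Set.univ := by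
        ext w
        simp only [Set.mem_preimage, Set.mem_singleton_iff, Set.mem_univ, iff_true]
        exact Subsingleton.elim _ _
      rwa [h2] at h1
    have hF : (Points.ofPt φ ⁻¹' {x}).Finite := by
      refine (hTfin.image snd.left).subset ?_
      intro u hu
      have hu' : Points.ofPt φ u = x := hu
      obtain ⟨τ, -, hτ⟩ := Groth.Agent.Lib.helper11.exists_of_isPullback_schemes sqT s0 u
        ((Points.ofPt_toHom p s0).trans (hp.trans hu'.symm))
      exact ⟨τ, Set.mem_univ _, hτ⟩
    refine ⟨⟨snd.left τ₀, hpt τ₀⟩, hF, ?_⟩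
    intro R s t sq
    have hpair : ∀ u ∈ Points.ofPt φ ⁻¹' {x}, ∀ u' ∈ Points.ofPt φ ⁻¹' {x},
        {r : ↥R.left | s.left r = u ∧ t.left r = u'}.Finite := fun u hu u' hu' =>
      Groth.Agent.S10408.result X x ⟨p, hp, hm⟩ φ hφ u u' hu hu' R s t sq
    refine ((hF.biUnion (fun u hu => hF.biUnion (fun u' hu' => hpair u hu u' hu')))).subset ?_
    intro r hr
    have hr' : Points.ofPt ((yon S).map t ≫ φ) r = x := hr
    have h1 : Points.ofPt φ (t.left r) = x := by
      rw [← Groth.Agent.Lib.helper11.ofPt_yon_map_comp]; exact hr'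
    have h2 : Points.ofPt φ (s.left r) = x := by
      rw [← Groth.Agent.Lib.helper11.ofPt_yon_map_comp, ← sq.w]; exact hr'
    simp only [Set.mem_iUnion]
    exact ⟨s.left r, h2, t.left r, h1, rfl, rfl⟩

end Groth.Agent.S10410
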