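import Groth.Statements.S10411
import Groth.Agent.Lib.Helper1.QuotFin
import Groth.Agent.Lib.Helper7.AlgSpMono

set_option autoImplicit false
universe u
open CategoryTheory CategoryTheory.Limits AlgebraicGeometry Topology TopologicalSpace
open AlgSp

namespace Groth.Agent.S10411

open Groth.Agent.H1.QuotFin Groth.Agent.Lib.helper5 Groth.Agent.Lib.helper11

variable {S : Scheme.{u}}

theorem mono_of_openImmersion {F G : Sp S} (f : F ⟶ G) (hf : RepWith @IsOpenImmersion f) : Mono f :=
  Groth.Agent.Lib.helper7.mono_of_repWith (P := @IsOpenImmersion) (fun _ _ g hg => by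
    have : IsOpenImmersion g := hg
    exact (inferInstance : Mono g)) hf

theorem range_map_eq_range_ofPt {F : Sp S} {U : Over S} (a : (yon S).obj U ⟶ F) :
    Set.range (Points.map a) = Set.range (Points.ofPt a) := by
  ext x
  constructor
  · rintro ⟨z, rfl⟩
    refine ⟨Points.toScheme U z, ?_⟩
    rw [Points.ofPt_eq_map_ofScheme, Points.ofScheme_toScheme]
  · rintro ⟨u, rfl⟩
    exact ⟨Points.ofScheme U u, (Points.ofPt_eq_map_ofScheme a u).symm⟩

theorem backward_aux {X Y : Space S} (f : X ⟶ Y) (hf : IsFinLocFreeMor f.hom)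
    (hs : RepWith @Surjective f.hom) (U : Over S) (a : (yon S).obj U ⟶ X.obj)
    (hU : IsAffine U.left) (ha : RepWith @IsOpenImmersion a) (Ω : Set (Points Y.obj)) (hΩ : IsOpen Ω)
    (hΩa : ∀ x, Points.map f.hom x ∈ Ω → x ∈ Set.range (Points.ofPt a)) :
    ∃ M : Over S, Nonempty ((yon S).obj M ≅ OpenSub.sub Y.obj Ω) := by
  let D : U.left.Opens := OpenSub.preim hΩ (a ≫ f.hom)
  let ιD : OpenSub.subOver U D ⟶ U := OpenSub.subOverι U D
  have hmem : ∀ t : ↥(OpenSub.subOver U D).left,
      Points.ofPt (((yon S).map ιD ≫ a) ≫ f.hom) t ∈ Ω := by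
    intro t
    rw [Category.assoc, ofPt_yon_map_comp]
    exact t.2
  let a' : (yon S).obj (OpenSub.subOver U D) ⟶ OpenSub.sub Y.obj Ω := OpenSub.lift _ hmem
  have ha' : a' ≫ OpenSub.ι Y.obj Ω = ((yon S).map ιD ≫ a) ≫ f.hom := OpenSub.lift_ι _ hmem
  have hιD : RepWith @IsOpenImmersion ((yon S).map ιD) := OpenSub.repWith_subOverι U D
  have hcomp : RepWith @IsOpenImmersion ((yon S).map ιD ≫ a) :=
    (RepWith (S := S) @IsOpenImmersion).comp_mem _ _ hιD ha
  haveI : Mono ((yon S).map ιD ≫ a) := mono_of_openImmersion _ hcomp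
  have sq : IsPullback ((yon S).map ιD ≫ a) a' f.hom (OpenSub.ι Y.obj Ω) := by
    refine isPullback_of_exists_lift ha'.symm ?_ ?_
    · intro Z α β hαβ
      have hmemΩ : ∀ z, Points.map f.hom (Points.map α z) ∈ Ω := by
        intro z
        rw [← Points.map_comp, hαβ, Points.map_comp]
        exact (OpenSub.range_map_ι Y.obj Ω).subset ⟨_, rfl⟩
      have h1 : Set.range (Points.map α) ⊆ Set.range (Points.map a) := by
        rintro _ ⟨z, rfl⟩
        rw [range_map_eq_range_ofPt]
        exact hΩa _ (hmemΩ z)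
      obtain ⟨α', hα'⟩ := (OpenSub.factors_iff a ha α).2 h1
      have h3 : Set.range (Points.map α') ⊆ Set.range (Points.map ((yon S).map ιD)) := by
        rintro _ ⟨z, rfl⟩
        rw [OpenSub.range_map_subOverι]
        obtain ⟨t, ht⟩ := (Points.schemeHomeo U).surjective (Points.map α' z)
        refine ⟨t, ?_, ht⟩
        change Points.ofPt (a ≫ f.hom) t ∈ Ω
        have e1 : Points.ofPt (a ≫ f.hom) t = Points.map (a ≫ f.hom) (Points.schemeHomeo U t) :=
          Points.ofPt_eq_map_ofScheme _ t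
        rw [e1, ht, ← Points.map_comp, ← Category.assoc, hα', Points.map_comp]
        exact hmemΩ z
      obtain ⟨l, hl⟩ := (OpenSub.factors_iff _ hιD α').2 h3
      refine ⟨l, ?_, ?_⟩
      · rw [← Category.assoc, hl, hα']
      · rw [← cancel_mono (OpenSub.ι Y.obj Ω), Category.assoc, ha', ← Category.assoc,
          ← Category.assoc, hl, hα', hαβ]
    · intro Z l l' h1 _
      exact (cancel_mono _).1 h1
  have hfl' : RepWith finLocFree a' :=
    (repWith_isStableUnderBaseChange (S := S) finLocFree).of_isPullback sq hf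
  have hs' : RepWith @Surjective a' :=
    (repWith_isStableUnderBaseChange (S := S) @Surjective).of_isPullback sq hs
  exact isRepresentable_of_finLocFree_cover_of_openImmersion_affine a' hfl' hs' (A := U.left) D.ι

theorem backward {X Y : Space S} (f : X ⟶ Y) (hf : IsFinLocFreeMor f.hom)
    (hs : RepWith @Surjective f.hom) (y : Points Y.obj) (U : Over S) (a : (yon S).obj U ⟶ X.obj)
    (hU : IsAffine U.left) (ha : RepWith @IsOpenImmersion a)
    (hfib : Points.map f.hom ⁻¹' {y} ⊆ Set.range (Points.ofPt a)) :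
    ∃ (Y' : Space S) (j : Y' ⟶ Y), RepWith @IsOpenImmersion j.hom ∧ Y'.obj.obj.IsRepresentable ∧
      y ∈ Set.range (Points.map j.hom) := by
  have hfin : RepWith @IsFinite f.hom :=
    ⟨hf.rep, fun _ _ g fst snd h => (hf.property g fst snd h).1⟩
  have hae : RepWith @Etale a := ⟨ha.rep, fun _ _ g fst snd h => by
    have : IsOpenImmersion snd.left := ha.property g fst snd h
    exact (inferInstance : Etale snd.left)⟩
  have hRo : IsOpen (Set.range (Points.ofPt a)) := by
    rw [← Set.image_univ]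
    exact isOpenMap_ofPt a hae _ isOpen_univ
  have hC : IsClosed (Points.map f.hom '' (Set.range (Points.ofPt a))ᶜ) :=
    isClosedMap_map_of_finite f.hom hfin _ hRo.isClosed_compl
  have hΩ : IsOpen (Points.map f.hom '' (Set.range (Points.ofPt a))ᶜ)ᶜ := hC.isOpen_compl
  have hyΩ : y ∈ (Points.map f.hom '' (Set.range (Points.ofPt a))ᶜ)ᶜ := by
    rintro ⟨x, hx, hxy⟩
    exact hx (hfib hxy)
  obtain ⟨M, ⟨e⟩⟩ := backward_aux f hf hs U a hU ha _ hΩ (by
    intro x hx
    by_contra h
    exact hx ⟨x, h, rfl⟩)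
  refine ⟨⟨OpenSub.sub Y.obj _, OpenSub.isAlgSpace_sub Y.property hΩ⟩,
    ObjectProperty.homMk (OpenSub.ι Y.obj _), OpenSub.repWith_ι Y.obj hΩ,
    (representableByOfIso e).isRepresentable, ?_⟩
  change y ∈ Set.range (Points.map (OpenSub.ι Y.obj _))
  rw [OpenSub.range_map_ι]
  exact hyΩ

theorem forward {X Y : Space S} (f : X ⟶ Y) (hf : IsFinLocFreeMor f.hom) (y : Points Y.obj)
    (Y' : Space S) (j : Y' ⟶ Y) (hj : RepWith @IsOpenImmersion j.hom)
    (hrep : Y'.obj.obj.IsRepresentable) (hy : y ∈ Set.range (Points.map j.hom)) :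
    ∃ (U : Over S) (a : (yon S).obj U ⟶ X.obj), IsAffine U.left ∧ RepWith @IsOpenImmersion a ∧
      Points.map f.hom ⁻¹' {y} ⊆ Set.range (Points.ofPt a) := by
  obtain ⟨M, ⟨r⟩⟩ := hrep.has_representation
  let e : (yon S).obj M ≅ Y'.obj := isoOfRepresentableBy r
  obtain ⟨y', rfl⟩ := hy
  have hm : Points.map e.hom (Points.ofScheme M (Points.toScheme M (Points.map e.inv y'))) = y' := by
    rw [Points.ofScheme_toScheme, ← Points.map_comp, e.inv_hom_id, Points.map_id]
  generalize Points.toScheme M (Points.map e.inv y') = m at hm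
  obtain ⟨_, ⟨V, hV, rfl⟩, hmV, -⟩ :=
    M.left.isBasis_affineOpens.exists_subset_of_mem_open (Set.mem_univ m) isOpen_univ
  have hg : RepWith @IsOpenImmersion
      ((yon S).map (OpenSub.subOverι M V) ≫ e.hom ≫ j.hom) :=
    (RepWith (S := S) @IsOpenImmersion).comp_mem _ _ (OpenSub.repWith_subOverι M V)
      (MorphismProperty.RespectsIso.precomp _ e.hom j.hom hj)
  obtain ⟨I, i, fst, sq⟩ := hf.rep ((yon S).map (OpenSub.subOverι M V) ≫ e.hom ≫ j.hom)
  have hi : IsFinite i.left := (hf.property _ fst i sq).1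
  haveI : IsAffine (OpenSub.subOver M V).left := hV
  have hI : IsAffine I.left := isAffine_of_isAffineHom i.left
  refine ⟨I, fst, hI,
    (repWith_isStableUnderBaseChange (S := S) @IsOpenImmersion).of_isPullback sq.flip hg, ?_⟩
  intro x hx
  have hx' : Points.map f.hom x =
      Points.ofPt ((yon S).map (OpenSub.subOverι M V) ≫ e.hom ≫ j.hom) ⟨m, hmV⟩ := by
    rw [ofPt_yon_map_comp, Points.ofPt_eq_map_ofScheme, Points.map_comp]
    have : (OpenSub.subOverι M V).left ⟨m, hmV⟩ = m := rfl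
    rw [this, hm]
    exact hx
  obtain ⟨w, hw, -⟩ := exists_of_isPullback_scheme sq x ⟨m, hmV⟩ hx'
  exact ⟨w, hw⟩

theorem main {X Y : AlgSp.Space S} (f : X ⟶ Y)
    (hf : AlgSp.IsFinLocFreeMor f.hom) (hs : AlgSp.RepWith @Surjective f.hom) (y : AlgSp.Points Y.obj) :
    (∃ (Y' : AlgSp.Space S) (j : Y' ⟶ Y), AlgSp.RepWith @IsOpenImmersion j.hom ∧ Y'.obj.obj.IsRepresentable ∧
        y ∈ Set.range (AlgSp.Points.map j.hom)) ↔
      ∃ (U : Over S) (a : (AlgSp.yon S).obj U ⟶ X.obj), IsAffine U.left ∧ AlgSp.RepWith @IsOpenImmersion a ∧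
        AlgSp.Points.map f.hom ⁻¹' {y} ⊆ Set.range (AlgSp.Points.ofPt a) := by
  constructor
  · rintro ⟨Y', j, hj, hrep, hy⟩
    exact forward f hf y Y' j hj hrep hy
  · rintro ⟨U, a, hU, ha, hfib⟩
    exact backward f hf hs y U a hU ha hfib

/-- Let S be a scheme, X and Y algebraic spaces over S, X ⟶ Y a surjective finite locally free morphism,
and y ∈ |Y|. Then y lies in the schematic locus of Y (some open subspace of Y containing y is a
scheme) if and only if there is an affine open subscheme U ⊆ X containing the preimage of y. -/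
theorem result {S : Scheme.{u}} {X Y : AlgSp.Space S} (f : X ⟶ Y)
    (hf : AlgSp.IsFinLocFreeMor f.hom) (hs : AlgSp.RepWith @Surjective f.hom) (y : AlgSp.Points Y.obj) :
    (∃ (Y' : AlgSp.Space S) (j : Y' ⟶ Y), AlgSp.RepWith @IsOpenImmersion j.hom ∧ Y'.obj.obj.IsRepresentable ∧
        y ∈ Set.range (AlgSp.Points.map j.hom)) ↔
      ∃ (U : Over S) (a : (AlgSp.yon S).obj U ⟶ X.obj), IsAffine U.left ∧ AlgSp.RepWith @IsOpenImmersion a ∧
        AlgSp.Points.map f.hom ⁻¹' {y} ⊆ Set.range (AlgSp.Points.ofPt a) := by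
  exact main f hf hs y

end Groth.Agent.S10411
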