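import Groth.Statements.S10412
import Groth.Agent.S10182
import Groth.Agent.S10198
import Groth.Agent.S10196
import Groth.Agent.Lib.Helper5.QAffDescScheme2

set_option autoImplicit false
universe u
open CategoryTheory CategoryTheory.Limits AlgebraicGeometry Topology TopologicalSpace
open AlgSp

namespace Groth.Agent.S10412

/-- For an algebraic space X over a scheme S the following are equivalent: (1) X has a Zariski covering
by open subspaces X_i, each X_i admitting a surjective, etale and quasi-compact morphism U_i ⟶ X_i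
with U_i a scheme; (2) there are etale morphisms U_i ⟶ X from schemes, jointly surjective, such that
for each i both projection morphisms from U_i ×_X U_i to U_i are quasi-compact. -/
theorem result {S : Scheme.{u}} (X : AlgSp.Space S) :
    (∃ (ι : Type u) (Xi : ι → AlgSp.Space S) (j : ∀ i, Xi i ⟶ X) (U : ι → Over S)
        (a : ∀ i, (AlgSp.yon S).obj (U i) ⟶ (Xi i).obj),
        AlgSp.IsZarCover (fun i => (Xi i).obj) (fun i => (j i).hom) ∧
          ∀ i, AlgSp.RepWith @Etale (a i) ∧ AlgSp.RepWith @Surjective (a i) ∧ AlgSp.RepWith @QuasiCompact (a i)) ↔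
      ∃ (ι : Type u) (U : ι → Over S) (φ : ∀ i, (AlgSp.yon S).obj (U i) ⟶ X.obj),
        (∀ i, AlgSp.RepWith @Etale (φ i)) ∧
          (∀ x : AlgSp.Points X.obj, ∃ (i : ι) (v : ↥(U i).left), AlgSp.Points.ofPt (φ i) v = x) ∧
          ∀ (i : ι) (R : Over S) (s t : R ⟶ U i), IsPullback ((AlgSp.yon S).map t) ((AlgSp.yon S).map s) (φ i) (φ i) →
            QuasiCompact s.left ∧ QuasiCompact t.left := by
  constructor
  · rintro ⟨ι, Xi, j, U, a, ⟨hj1, hj2⟩, ha⟩
    have hm : ∀ i, Mono (j i).hom := fun i => Groth.Agent.Lib.helper5.LargestOpen.mono_of_oi (hj1 i)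
    refine ⟨ι, U, fun i => a i ≫ (j i).hom, fun i => ?_, fun x => ?_, fun i R s t sq => ?_⟩
    · have h1 : RepWith @Etale (j i).hom :=
        Groth.Agent.Lib.helper15.AlgSpDiag.repWith_mono_iff_le (fun _ _ f hf => by
          have : IsOpenImmersion f := hf
          exact (inferInstance : Etale f)) (hj1 i)
      exact (AlgSp.repWith_isMultiplicative (S := S) @Etale).comp_mem _ _ (ha i).1 h1
    · obtain ⟨i, y, rfl⟩ := hj2 x
      obtain ⟨v, rfl⟩ := Groth.Agent.Lib.helper11.surjective_ofPt (a i) (ha i).2.1 y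
      exact ⟨i, v, (Points.map_ofPt _ _ _).symm⟩
    · have := hm i
      have sq' : IsPullback ((yon S).map t) ((yon S).map s) (a i) (a i) :=
        Groth.Agent.S10198.isPullback_of_comp_mono (j i).hom sq
      exact ⟨(ha i).2.2.2 _ _ s sq', (ha i).2.2.2 _ _ t sq'.flip⟩
  · rintro ⟨ι, U, φ, hφe, hsurj, hqc⟩
    have hopen : ∀ i, IsOpen (Set.range (Points.ofPt (φ i))) := fun i =>
      (Groth.Agent.Lib.helper11.isOpenMap_ofPt (φ i) (hφe i)).isOpen_range
    choose Xi j hj1 hj2 hj3 using fun i =>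
      Groth.Agent.Lib.helper5.OpenSub.exists_openSub X _ (hopen i)
    choose a ha1 ha2 ha3 ha4 using fun i =>
      Groth.Agent.S10196.result (φ i) (hφe i) (j i) (hj1 i) (hj2 i)
    refine ⟨ι, Xi, j, U, a, ⟨hj1, fun x => ?_⟩, fun i => ⟨ha2 i, ha3 i, ?_⟩⟩
    · obtain ⟨i, v, rfl⟩ := hsurj x
      refine ⟨i, ?_⟩
      rw [hj2 i]
      exact ⟨v, rfl⟩
    · obtain ⟨R, s, fst, sq⟩ := (ha2 i).rep (a i)
      obtain ⟨t, rfl⟩ := (yon S).map_surjective fst
      have := hj3 i
      have sq' : IsPullback ((yon S).map t) ((yon S).map s) (a i ≫ (j i).hom) (a i ≫ (j i).hom) :=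
        Groth.Agent.Lib.helper5.Bridge.isPullback_comp_mono sq (j i).hom
      rw [ha1 i] at sq'
      have hs : QuasiCompact s.left := (hqc i R s t sq').1
      exact Groth.Agent.Lib.helper15.AlgSpDiag.repWith_of_chart (a i) (ha2 i).1 (a i) (ha2 i) (ha3 i)
        _ s sq @QuasiCompact hs

end Groth.Agent.S10412
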