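import Groth.Statements.S10414
import Groth.Agent.S10371
import Groth.Agent.S10365
import Groth.Agent.S10265

set_option autoImplicit false
universe u
open CategoryTheory CategoryTheory.Limits AlgebraicGeometry Topology TopologicalSpace
open AlgSp

namespace Groth.Agent.S10414

variable {S : Scheme.{u}}

open Groth.Agent.S10365 in
/-- All points of the spectrum of a field map to the class of the corresponding field point. -/
theorem map_eq_mk_of_field {F : Sp S} (k : Type u) [Field k] (str : Spec (CommRingCat.of k) ⟶ S)
    (q : (yon S).obj (Over.mk str) ⟶ F) (y : Points ((yon S).obj (Over.mk str))) :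
    Points.map q y = Points.mk (fieldPtOfHom k str q) := by
  rw [Groth.Agent.Lib.helper10.map_eq_ofPt_toScheme]
  have := Points.ofPt_toHom (fieldPtOfHom k str q) (Points.toScheme (Over.mk str) y)
  rw [toHom_fieldPtOfHom] at this
  exact this

/-- The identity of a sheaf is flat and locally of finite presentation on charts. -/
theorem locP_id (F : Sp S) :
    LocP @LocallyOfFinitePresentation (𝟙 F) ∧ LocP @Flat (𝟙 F) := by
  have h : LocP @Etale (𝟙 F) := Groth.Agent.S10265.locP_etale_of_isEtaleMor (𝟙 F)
    (fun U φ hφ => by rwa [Category.comp_id])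
  constructor
  · refine Groth.Agent.S10265.locP_mono ?_ h
    intro A B g hg
    have : Etale g := hg
    exact inferInstanceAs (LocallyOfFinitePresentation g)
  · refine Groth.Agent.S10265.locP_mono ?_ h
    intro A B g hg
    have : Etale g := hg
    exact inferInstanceAs (Flat g)

open Groth.Agent.S10365 in
theorem main (X : AlgSp.Space S) (x : AlgSp.Points X.obj)
    {Z : AlgSp.Space S} (i : Z ⟶ X) [Mono i.hom]
    (hi : Set.range (AlgSp.Points.map i.hom) = {x})
    (hZ : ∃ (k : Type u) (_ : Field k) (str : Spec (CommRingCat.of k) ⟶ S) (p : (AlgSp.yon S).obj (Over.mk str) ⟶ Z.obj),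
        AlgSp.LocP @LocallyOfFinitePresentation p ∧ AlgSp.LocP @Flat p ∧ AlgSp.IsSurjectiveMor p) :
    (∃ (k : Type u) (_ : Field k) (str : Spec (CommRingCat.of k) ⟶ S), Nonempty (Z.obj ≅ (AlgSp.yon S).obj (Over.mk str))) ↔
      ∃ p : AlgSp.FieldPt X.obj, AlgSp.Points.mk p = x ∧ Mono p.toHom := by
  constructor
  · rintro ⟨k, hk, str, ⟨e⟩⟩
    refine ⟨fieldPtOfHom k str (e.inv ≫ i.hom), ?_, ?_⟩
    · have h1 := map_eq_mk_of_field k str (e.inv ≫ i.hom)
        (Points.ofScheme _ (IsLocalRing.closedPoint k : ↥(Spec (CommRingCat.of k))))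
      rw [← h1, Points.map_comp]
      have : Points.map i.hom (Points.map e.inv
          (Points.ofScheme _ (IsLocalRing.closedPoint k : ↥(Spec (CommRingCat.of k))))) ∈
          Set.range (Points.map i.hom) := ⟨_, rfl⟩
      rw [hi] at this
      exact this
    · rw [toHom_fieldPtOfHom]
      exact mono_comp _ _
  · rintro ⟨p, hp, hm⟩
    let Z' : AlgSp.Space S := (AlgSp.ofScheme S).obj p.pt
    let i' : Z' ⟶ X := ObjectProperty.homMk p.toHom
    have hm' : Mono i'.hom := hm
    have hi' : Set.range (AlgSp.Points.map i'.hom) = {x} := by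
      ext z
      constructor
      · rintro ⟨y, rfl⟩
        have h1 := map_eq_mk_of_field p.K p.str p.toHom y
        have h2 : fieldPtOfHom p.K p.str p.toHom = p := by
          unfold fieldPtOfHom
          rw [FieldPt.uliftYonedaEquiv_toHom]
          rfl
        rw [h2, hp] at h1
        exact h1
      · rintro rfl
        refine ⟨Points.ofScheme _ (IsLocalRing.closedPoint p.K : ↥(Spec (CommRingCat.of p.K))), ?_⟩
        rw [← hp]
        have h1 := map_eq_mk_of_field p.K p.str p.toHom
          (Points.ofScheme _ (IsLocalRing.closedPoint p.K : ↥(Spec (CommRingCat.of p.K))))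
        have h2 : fieldPtOfHom p.K p.str p.toHom = p := by
          unfold fieldPtOfHom
          rw [FieldPt.uliftYonedaEquiv_toHom]
          rfl
        rw [h2] at h1
        exact h1
    have hZ' : ∃ (k : Type u) (_ : Field k) (str : Spec (CommRingCat.of k) ⟶ S)
        (q : (AlgSp.yon S).obj (Over.mk str) ⟶ Z'.obj),
        AlgSp.LocP @LocallyOfFinitePresentation q ∧ AlgSp.LocP @Flat q ∧ AlgSp.IsSurjectiveMor q :=
      ⟨p.K, p.field, p.str, 𝟙 _, (locP_id _).1, (locP_id _).2, fun y => ⟨y, Points.map_id y⟩⟩
    obtain ⟨e, -⟩ := Groth.Agent.S10371.main X x i i' hi hi' hZ hZ'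
    refine ⟨p.K, p.field, p.str, ⟨?_⟩⟩
    exact ((ObjectProperty.ι _).mapIso e).symm

/-- Let S be a scheme, X an algebraic space over S, x ∈ |X|, and Z_x ⟶ X the residual space of x (a
monomorphism with image {x} from a space which admits a locally finitely presented, flat, surjective
morphism whose source is the spectrum of a field). Then Z_x is isomorphic to Spec k' for some field
k' if and only if the point x is represented by some monomorphism Spec k ⟶ X. (The decent case, in
which the right side holds at every point, is not part of this row.) -/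
theorem result {S : Scheme.{u}} (X : AlgSp.Space S) (x : AlgSp.Points X.obj)
    {Z : AlgSp.Space S} (i : Z ⟶ X) [Mono i.hom] (hi : Set.range (AlgSp.Points.map i.hom) = {x})
    (hZ : ∃ (k : Type u) (_ : Field k) (str : Spec (CommRingCat.of k) ⟶ S) (p : (AlgSp.yon S).obj (Over.mk str) ⟶ Z.obj),
        AlgSp.LocP @LocallyOfFinitePresentation p ∧ AlgSp.LocP @Flat p ∧ AlgSp.IsSurjectiveMor p) :
    (∃ (k : Type u) (_ : Field k) (str : Spec (CommRingCat.of k) ⟶ S), Nonempty (Z.obj ≅ (AlgSp.yon S).obj (Over.mk str))) ↔
      ∃ p : AlgSp.FieldPt X.obj, AlgSp.Points.mk p = x ∧ Mono p.toHom := by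
  exact main X x i hi hZ

end Groth.Agent.S10414
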