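import Groth.Statements.S10422
import Groth.Agent.Lib.Helper5.LocSepRank

set_option autoImplicit false
universe u
open Topology TopologicalSpace TensorProduct
open AlgSp

namespace Groth.Agent.S10422

open Groth.Agent.Lib.helper5.LocSepRank

/-- Finitely many field extensions of `k` embed into a common field. -/
theorem exists_common_field (k : Type u) [Field k] (K : ℕ → Type u) [∀ n, Field (K n)]
    [∀ n, Algebra k (K n)] (N : ℕ) :
    ∃ (Ω : Type u) (_ : Field Ω) (_ : Algebra k Ω), ∀ n, n < N → Nonempty (K n →ₐ[k] Ω) := by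
  induction N with
  | zero => exact ⟨k, inferInstance, inferInstance, fun n hn => absurd hn (Nat.not_lt_zero n)⟩
  | succ N ih =>
    obtain ⟨Ω, _, _, hσ⟩ := ih
    have hnt : Nontrivial (Ω ⊗[k] K N) := by
      have hinj : Function.Injective (Algebra.TensorProduct.includeLeft : Ω →ₐ[k] Ω ⊗[k] K N) :=
        Algebra.TensorProduct.includeLeft_injective (algebraMap k (K N)).injective
      exact hinj.nontrivial
    obtain ⟨𝔪, h𝔪⟩ := Ideal.exists_maximal (Ω ⊗[k] K N)
    let _ : Field ((Ω ⊗[k] K N) ⧸ 𝔪) := Ideal.Quotient.field 𝔪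
    refine ⟨(Ω ⊗[k] K N) ⧸ 𝔪, inferInstance, inferInstance, fun n hn => ?_⟩
    rcases Nat.lt_succ_iff_lt_or_eq.1 hn with h | rfl
    · obtain ⟨σ⟩ := hσ n h
      exact ⟨((Ideal.Quotient.mkₐ k 𝔪).comp Algebra.TensorProduct.includeLeft).comp σ⟩
    · exact ⟨(Ideal.Quotient.mkₐ k 𝔪).comp Algebra.TensorProduct.includeRight⟩

theorem exists_tensor_decomp (A : Type u) [CommRing A] (f : A ⊗[ℤ] A) :
    ∃ (κ : Type) (_ : Fintype κ) (a b : κ → A), f = ∑ i, a i ⊗ₜ[ℤ] b i := by
  induction f using TensorProduct.induction_on with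
  | zero => exact ⟨Empty, inferInstance, Empty.elim, Empty.elim, by simp⟩
  | tmul a b => exact ⟨Unit, inferInstance, fun _ => a, fun _ => b, by simp⟩
  | add x y hx hy =>
    obtain ⟨κ₁, _, a₁, b₁, h₁⟩ := hx
    obtain ⟨κ₂, _, a₂, b₂, h₂⟩ := hy
    refine ⟨κ₁ ⊕ κ₂, inferInstance, Sum.elim a₁ a₂, Sum.elim b₁ b₂, ?_⟩
    rw [h₁, h₂, Fintype.sum_sum_type]
    simp

/-- Let A be a ring, k a field, (p_n) a sequence of primes of A which are pairwise distinct, and k →
κ(p_n) field embeddings. Then the closure in Spec(A ⊗ A) of the image of ∐_{n ≠ m} Spec(κ(p_n) ⊗_k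
κ(p_m)) meets the diagonal. Here κ(p_n) is any A-algebra K_n which is a field whose structure map
has kernel p_n and whose elements are quotients of images of elements of A. -/
theorem result (A : Type u) [CommRing A] (k : Type u) [Field k]
    (p : ℕ → PrimeSpectrum A) (hp : Function.Injective p) (K : ℕ → Type u) [∀ n, Field (K n)]
    [∀ n, Algebra A (K n)] [∀ n, Algebra k (K n)]
    (hker : ∀ n, RingHom.ker (algebraMap A (K n)) = (p n).asIdeal)
    (hfrac : ∀ n (x : K n), ∃ a b : A, algebraMap A (K n) b ≠ 0 ∧ x * algebraMap A (K n) b = algebraMap A (K n) a) :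
    (closure (⋃ (n : ℕ) (m : ℕ) (_ : n ≠ m),
        Set.range (PrimeSpectrum.comap
          (Algebra.TensorProduct.lift
            ((Algebra.TensorProduct.includeLeft (R := k) (S := ℤ) (A := K n) (B := K m)).toRingHom.toIntAlgHom.comp
              (Algebra.ofId A (K n)).toRingHom.toIntAlgHom)
            ((Algebra.TensorProduct.includeRight (R := k) (A := K n) (B := K m)).toRingHom.toIntAlgHom.comp
              (Algebra.ofId A (K m)).toRingHom.toIntAlgHom)
            (fun _ _ => Commute.all _ _)).toRingHom)) ∩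
      Set.range (PrimeSpectrum.comap (Algebra.TensorProduct.lmul' (S := A) ℤ).toRingHom)).Nonempty := by
  by_contra hne
  rw [Set.not_nonempty_iff_eq_empty] at hne
  have hms : Function.Surjective (Algebra.TensorProduct.lmul' (S := A) ℤ).toRingHom :=
    fun a => ⟨a ⊗ₜ[ℤ] 1, by simp⟩
  rw [range_comap_of_surjective _ _ hms] at hne
  obtain ⟨f, hfC, hf1⟩ := exists_separating _ _ isClosed_closure hne
  obtain ⟨κ, _, a, b, hab⟩ := exists_tensor_decomp A f
  obtain ⟨Ω, _, _, hσ⟩ := exists_common_field k K (Fintype.card κ + 1)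
  choose σ hσ' using fun n : Fin (Fintype.card κ + 1) => (⟨(hσ n n.2).some, trivial⟩ : ∃ _ : K n →ₐ[k] Ω, True)
  let z : Fin (Fintype.card κ + 1) → A →+* Ω := fun n => (σ n).toRingHom.comp (algebraMap A (K n))
  -- the values of `f` at pairs
  have hoff : ∀ n m : Fin (Fintype.card κ + 1), n ≠ m → ∑ i, z n (a i) * z m (b i) = 0 := by
    intro n m hnm
    have hnm' : (n : ℕ) ≠ (m : ℕ) := fun h => hnm (Fin.ext h)
    let L : K n ⊗[k] K m →ₐ[k] Ω := Algebra.TensorProduct.lift (σ n) (σ m) (fun _ _ => Commute.all _ _)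
    let 𝔮' : PrimeSpectrum (K n ⊗[k] K m) := ⟨RingHom.ker L.toRingHom, RingHom.ker_isPrime _⟩
    have hmem := (PrimeSpectrum.mem_vanishingIdeal _ _).1 hfC
      (PrimeSpectrum.comap _ 𝔮') (subset_closure (Set.mem_iUnion.2 ⟨n, Set.mem_iUnion.2 ⟨m,
        Set.mem_iUnion.2 ⟨hnm', ⟨𝔮', rfl⟩⟩⟩⟩))
    rw [PrimeSpectrum.comap_asIdeal, Ideal.mem_comap] at hmem
    have h2 : L.toRingHom _ = 0 := hmem
    rw [hab, map_sum, map_sum] at h2
    rw [← h2]
    refine Finset.sum_congr rfl fun i _ => ?_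
    simp [L, z]
  have hdiag : ∀ n : Fin (Fintype.card κ + 1), ∑ i, z n (a i) * z n (b i) = 1 := by
    intro n
    have h3 : (∑ i, a i * b i : A) = 1 := by
      rw [hab, map_sum] at hf1
      simpa using hf1
    rw [← map_one (z n), ← h3, map_sum]
    exact Finset.sum_congr rfl fun i _ => (map_mul _ _ _).symm
  let M : Matrix (Fin (Fintype.card κ + 1)) κ Ω := fun n i => z n (a i)
  let N : Matrix κ (Fin (Fintype.card κ + 1)) Ω := fun i m => z m (b i)
  have hMN : M * N = 1 := by
    ext n m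
    rw [Matrix.mul_apply, Matrix.one_apply]
    change ∑ i, z n (a i) * z m (b i) = _
    split_ifs with hnm
    · rw [hnm]; exact hdiag _
    · exact hoff _ _ hnm
  have hrank : (M * N).rank ≤ Fintype.card κ :=
    (Matrix.rank_mul_le_left M N).trans (Matrix.rank_le_card_width M)
  rw [hMN, Matrix.rank_one, Fintype.card_fin] at hrank
  omega

end Groth.Agent.S10422
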