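import Groth.Statements.S10423
import Groth.Agent.Lib.Helper5.AlgSpQSep
import Groth.Agent.S10386
import Groth.Agent.S10350

set_option autoImplicit false
universe u
open CategoryTheory CategoryTheory.Limits AlgebraicGeometry Topology TopologicalSpace
open AlgSp

namespace Groth.Agent.S10423

open Groth.Agent.Lib.helper5 Groth.Agent.Lib.helper5.QSep

/-- A morphism of algebraic spaces over a scheme S which is representable, or which is quasi-separated,
is decent (all its base changes to schemes are decent algebraic spaces). The implications through
reasonable and very reasonable morphisms are not part of this row. -/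
theorem result {S : Scheme.{u}} {X Y : AlgSp.Space S} (f : X ⟶ Y) :
    (AlgSp.Representable f.hom → AlgSp.IsDecentMor f.hom) ∧
      (AlgSp.IsQuasiSeparatedMor f.hom → AlgSp.IsDecentMor f.hom) := by
  constructor
  · intro hf T F' g fst snd sq
    have hsnd : AlgSp.Representable snd := MorphismProperty.of_isPullback sq hf
    exact Groth.Agent.S10351.isDecent_of_representable snd hsnd (isDecent_yon T)
  · intro hf
    refine Groth.Agent.S10386.result f ?_
    intro Z g P fst snd hZ sq
    have hP : IsAlgSpace P :=
      isAlgSpace_of_isPullback Y.property.diag X.property (IsAlgSpace.yon_obj Z) sq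
    have hsnd : IsQuasiSeparatedMor snd :=
      (AlgSp.repWith_isStableUnderBaseChange _).of_isPullback
        (Groth.Agent.Lib.helper15.AlgSpDiag.isPullback_diagonal_of_isPullback sq) hf
    have hqs : IsQuasiSeparatedSp P := isQuasiSeparatedSp_of_isQuasiSeparatedMor_affine hP snd hsnd
    exact Groth.Agent.S10350.result ⟨P, hP⟩ hqs

end Groth.Agent.S10423
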