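import Groth.Statements.S10424
import Groth.Agent.Lib.Helper5.OverField3
import Groth.Agent.Lib.Helper5.FieldQuot
import Groth.Agent.Lib.Helper5.AlgSpAffDesc

set_option autoImplicit false
universe u
open CategoryTheory CategoryTheory.Limits AlgebraicGeometry Topology TopologicalSpace
open AlgSp

namespace Groth.Agent.S10424

open Groth.Agent.Lib.helper5 Groth.Agent.Lib.helper5.FieldQuot Groth.Agent.Lib.helper5.OverField

/-- The fibres of a morphism of schemes with universally bounded fibres, in scheme-theoretic form. -/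
theorem fibre_bound {S : Scheme.{u}} {U V : Over S} (f : V ⟶ U) (m : ℕ)
    (hm : W4dec.DegFibresLE m ((AlgSp.yon S).map f)) {TU TV : Over S} (d : TV ⟶ TU) (sU : TU ⟶ U) (sV : TV ⟶ V)
    (sqd : IsPullback ((yon S).map sV) ((yon S).map d) ((yon S).map f) ((yon S).map sU))
    (κ : Type u) [Field κ] (x : Spec (CommRingCat.of κ) ⟶ TU.left) (F : Scheme.{u})
    (e : F ⟶ Spec (CommRingCat.of κ)) (g : F ⟶ TV.left) (hpb : IsPullback e g x d.left) :
    IsFinite e ∧ ∀ s, e.finrank s ≤ m := by
  let x' : Over.mk (x ≫ TU.hom) ⟶ TU := Over.homMk x rfl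
  let e' : Over.mk (e ≫ x ≫ TU.hom) ⟶ Over.mk (x ≫ TU.hom) := Over.homMk e rfl
  let g' : Over.mk (e ≫ x ≫ TU.hom) ⟶ TV := Over.homMk g (by
    have := Over.w d
    dsimp at this ⊢
    rw [← this, ← Category.assoc, ← hpb.w, Category.assoc])
  have sq3 : IsPullback e' g' x' d := by
    refine IsPullback.of_map (Over.forget S) ?_ ?_
    · apply Over.OverMorphism.ext
      simpa [e', g', x'] using hpb.w
    · exact hpb
  have sq4 := ((sq3.map (yon S)).flip.paste_horiz sqd).flip
  have := hm (fieldPtOfHom κ (x ≫ TU.hom) ((yon S).map x' ≫ (yon S).map sU)) _ e'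
    ((yon S).map g' ≫ (yon S).map sV) (by rw [toHom_fieldPtOfHom]; exact sq4)
  exact this

/-- Let X be an algebraic space over a scheme S, V ⟶ U a morphism of schemes over S and U ⟶ X a
morphism. Suppose that the fibres of V ⟶ U and of U ⟶ X are universally bounded. Then V ⟶ X also has
universally bounded fibres. -/
theorem result {S : Scheme.{u}} (X : AlgSp.Space S) {U V : Over S} (f : V ⟶ U)
    (g : (AlgSp.yon S).obj U ⟶ X.obj) (hf : W4dec.HasUnivBddFibres ((AlgSp.yon S).map f)) (hg : W4dec.HasUnivBddFibres g) :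
    W4dec.HasUnivBddFibres ((AlgSp.yon S).map f ≫ g) := by
  obtain ⟨m, hm⟩ := hf
  obtain ⟨n, hn⟩ := hg
  refine ⟨m * n, ?_⟩
  intro q TV cV sndV sqV
  obtain ⟨sV, rfl⟩ := (yon S).map_surjective sndV
  obtain ⟨TU, sU, fstU, sqU⟩ := X.property.representable_from_yon q.toHom g
  obtain ⟨cU, rfl⟩ := (yon S).map_surjective fstU
  obtain ⟨hfinU, hrankU⟩ := hn q TU cU ((yon S).map sU) sqU
  obtain ⟨d', hd1, hd2⟩ := sqU.exists_lift ((yon S).map cV) ((yon S).map sV ≫ (yon S).map f) (by
    rw [sqV.w, Category.assoc])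
  obtain ⟨d, rfl⟩ := (yon S).map_surjective d'
  have hdc : d ≫ cU = cV := (yon S).map_injective (by rw [Functor.map_comp, hd1])
  have sqd : IsPullback ((yon S).map sV) ((yon S).map d) ((yon S).map f) ((yon S).map sU) := by
    refine IsPullback.of_bot ?_ hd2.symm sqU.flip
    rw [hd1]
    exact sqV.flip
  have key := isFinite_comp_of_fibres (K := q.K) cU.left d.left hfinU n m hrankU
    (fun κ _ x F e g hpb => fibre_bound f m hm d sU sV sqd κ x F e g hpb)
  rw [← Over.comp_left, hdc] at key
  exact key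

end Groth.Agent.S10424
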