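import Groth.Statements.S10426
import Groth.Agent.Lib.Helper5.OverField
import Groth.Agent.Lib.Helper5.FieldQuotQS
import Groth.Agent.Lib.Helper5.AlgSpUnivInj
import Groth.Agent.Lib.Helper5.AlgSpFpqcBase
import Groth.Agent.Lib.Helper11.AlgSpBasic
import Groth.Agent.S0084

set_option autoImplicit false
universe u
open CategoryTheory CategoryTheory.Limits AlgebraicGeometry Topology TopologicalSpace
open AlgSp

namespace Groth.Agent.S10426

open Groth.Agent.Lib.helper5 Groth.Agent.Lib.helper5.FieldQuot Groth.Agent.Lib.helper5.OverField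
  Groth.Agent.Lib.helper11

/-- Let S be a scheme, X and Y algebraic spaces over S, and g : Y ⟶ X a representable morphism; let U be
a scheme, f : U ⟶ X a morphism, and f′ : U ×_X Y ⟶ Y its base change. Assume the image of |U| → |X|
is contained in the image of |Y| → |X| and that f′ has universally bounded fibres. Then the morphism
f also has universally bounded fibres. -/
theorem result {S : Scheme.{u}} {X Y : AlgSp.Space S} (g : Y ⟶ X)
    (hg : AlgSp.Representable g.hom) {U V : Over S} (f : (AlgSp.yon S).obj U ⟶ X.obj)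
    (fst : (AlgSp.yon S).obj V ⟶ (AlgSp.yon S).obj U) (f' : (AlgSp.yon S).obj V ⟶ Y.obj) (h : IsPullback fst f' f g.hom)
    (him : Set.range (AlgSp.Points.ofPt f) ⊆ Set.range (AlgSp.Points.map g.hom)) (hf' : W4dec.HasUnivBddFibres f') :
    W4dec.HasUnivBddFibres f := by
  obtain ⟨n, hn⟩ := hf'
  refine ⟨n, ?_⟩
  intro q T c snd sqT
  have hflat : Flat c.left := flat_of_field (K := q.K) c.left
  by_cases hT : IsEmpty ↥T.left
  · have hfin : IsFinite c.left := inferInstance
    exact ⟨hfin, fun s => (finrank_eq_zero_of_isEmpty (K := q.K) c.left s).le.trans (Nat.zero_le n)⟩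
  rw [not_isEmpty_iff] at hT
  obtain ⟨t⟩ := hT
  obtain ⟨snd₀, rfl⟩ := (yon S).map_surjective snd
  have hpt : Points.ofPt f (snd₀.left t) = Points.mk q := by
    rw [ofPt_comm sqT.w.symm t]
    exact Points.ofPt_toHom q _
  obtain ⟨y, hy⟩ := him ⟨snd₀.left t, rfl⟩
  induction y using Points.ind with
  | h p =>
  have hrel : Points.mk (p.map g.hom) = Points.mk q := hy.trans hpt
  obtain ⟨Ω, hΩ, w, a, b, hab⟩ := UnivInj.hom_eq_of_rel (Points.mk_eq_mk_iff.mp hrel)
  rw [FieldPt.toHom_map] at hab
  obtain ⟨a, rfl⟩ : ∃ a' : Over.mk w ⟶ p.pt, a' = a := ⟨a, rfl⟩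
  -- the base change of `T` to `Ω`
  have sqL : IsPullback ((yon S).map (pullback.fst c b)) ((yon S).map (pullback.snd c b))
      ((yon S).map c) ((yon S).map b) := (IsPullback.of_hasPullback c b).map (yon S)
  have sqL₀ : IsPullback (pullback.fst c b).left (pullback.snd c b).left c.left b.left :=
    (IsPullback.of_hasPullback c b).map (Over.forget S)
  have big := (sqL.flip.paste_vert sqT).flip
  have hl : (yon S).map b ≫ q.toHom = ((yon S).map a ≫ p.toHom) ≫ g.hom := by
    rw [Category.assoc]; exact hab.symm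
  rw [hl] at big
  obtain ⟨r, -, sqr⟩ := isPullback_of_lift h big
  have hres := hn (fieldPtOfHom Ω w ((yon S).map a ≫ p.toHom)) (pullback c b) (pullback.snd c b) r (by
    rw [toHom_fieldPtOfHom]; exact sqr.flip)
  obtain ⟨hfin', hrank'⟩ := hres
  -- descend along `Spec Ω ⟶ Spec K`
  have hsub : Subsingleton ↥q.pt.left := subsingleton_spec_field q.K
  have hbflat : Flat b.left := flat_of_field (K := q.K) b.left
  have hbqc : QuasiCompact b.left := quasiCompact_of_field (K := Ω) b.left
  have hne : Nonempty ↥(Over.mk w).left :=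
    ⟨(IsLocalRing.closedPoint Ω : ↥(Spec (CommRingCat.of Ω)))⟩
  have hbsurj : Surjective b.left := surjective_of_field (K := q.K) b.left
  have hfin : IsFinite c.left :=
    Groth.Agent.S0084.result.of_isPullback sqL₀.flip ⟨⟨hbsurj, hbflat⟩, hbqc⟩ hfin'
  refine ⟨hfin, fun s => ?_⟩
  obtain ⟨y⟩ := hne
  have h1 := Scheme.Hom.finrank_of_isPullback _ _ _ _ sqL₀ y
  rw [Subsingleton.elim s (b.left y), ← h1]
  exact hrank' y

end Groth.Agent.S10426
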