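import Groth.Statements.S10427
import Groth.Agent.Lib.Helper5.OverField2

set_option autoImplicit false
universe u
open CategoryTheory CategoryTheory.Limits AlgebraicGeometry Topology TopologicalSpace
open AlgSp

namespace Groth.Agent.S10427

open Groth.Agent.Lib.helper5.OverField

/-- Let X be an algebraic space over a scheme S and U ⟶ V ⟶ X with U, V schemes, U ⟶ V surjective and
flat. If U ⟶ X has universally bounded fibres, then so does V ⟶ X. -/
theorem result {S : Scheme.{u}} (X : AlgSp.Space S) {U V : Over S} (f : U ⟶ V)
    [Surjective f.left] [Flat f.left] (h : (AlgSp.yon S).obj V ⟶ X.obj) (hg : W4dec.HasUnivBddFibres ((AlgSp.yon S).map f ≫ h)) :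
    W4dec.HasUnivBddFibres h := by
  obtain ⟨n, hn⟩ := hg
  refine ⟨n, ?_⟩
  intro q T c snd sqT
  obtain ⟨snd₀, rfl⟩ := (yon S).map_surjective snd
  have sqL : IsPullback ((yon S).map (pullback.fst snd₀ f)) ((yon S).map (pullback.snd snd₀ f))
      ((yon S).map snd₀) ((yon S).map f) := (IsPullback.of_hasPullback snd₀ f).map (yon S)
  have sqL₀ : IsPullback (pullback.fst snd₀ f).left (pullback.snd snd₀ f).left snd₀.left f.left :=
    (IsPullback.of_hasPullback snd₀ f).map (Over.forget S)
  have big := (sqL.flip.paste_vert sqT.flip).flip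
  rw [← Functor.map_comp] at big
  obtain ⟨hfin', hrank'⟩ := hn q _ (pullback.fst snd₀ f ≫ c) _ big
  have hsurj : Surjective (pullback.fst snd₀ f).left :=
    MorphismProperty.of_isPullback (P := @Surjective) sqL₀.flip inferInstance
  have hflat : Flat (pullback.fst snd₀ f).left :=
    MorphismProperty.of_isPullback (P := @Flat) sqL₀.flip inferInstance
  exact isFinite_of_flat_surjective_cover (K := q.K) c.left (pullback.fst snd₀ f).left hfin' n hrank'

end Groth.Agent.S10427
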