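import Groth.Statements.S10428
import Groth.Prelude.Def_AlgSp4
import Groth.Agent.Lib.Helper10.AlgSpPoints
import Groth.Agent.Lib.Helper10.FiniteOverField

set_option autoImplicit false
universe u
open CategoryTheory CategoryTheory.Limits AlgebraicGeometry Topology TopologicalSpace
open AlgSp

namespace Groth.Agent.S10428

/-- Let X be an algebraic space over a scheme S and φ : U ⟶ X a morphism from a scheme with universally
bounded fibres. Then for some integer n, every fibre of |U| → |X| contains at most n elements. -/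
theorem result {S : Scheme.{u}} (X : AlgSp.Space S) {U : Over S}
    (φ : (AlgSp.yon S).obj U ⟶ X.obj) (hφ : W4dec.HasUnivBddFibres φ) :
    ∃ n : ℕ, ∀ x : AlgSp.Points X.obj, (AlgSp.Points.ofPt φ ⁻¹' {x}).encard ≤ n := by
  obtain ⟨n, hn⟩ := hφ
  refine ⟨n, fun x => ?_⟩
  induction x using AlgSp.Points.ind with
  | h q =>
  have hrep := X.property.representable_from_yon φ
  obtain ⟨T, snd, fst, hpb⟩ := hrep q.toHom
  obtain ⟨hfin, hrk⟩ := hn q T snd fst hpb.flip
  obtain ⟨fst', rfl⟩ := (AlgSp.yon S).map_surjective fst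
  obtain ⟨hTfin, hTcard⟩ := Groth.Agent.Lib.helper10.card_le_of_isFinite_finrank_le snd.left n hrk
  have hsub : AlgSp.Points.ofPt φ ⁻¹' {AlgSp.Points.mk q} ⊆ Set.range (fun t : ↥T.left => fst'.left t) := by
    intro u hu
    have hu' : AlgSp.Points.ofPt φ u = AlgSp.Points.mk q := hu
    obtain ⟨w, hw1, -⟩ := Groth.Agent.Lib.helper10.exists_point_of_isPullback hpb
      (AlgSp.Points.ofScheme U u) (AlgSp.Points.ofScheme q.pt (IsLocalRing.closedPoint q.K))
      (by rw [← AlgSp.Points.ofPt_eq_map_ofScheme, hu']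
          exact (Groth.Agent.Lib.helper10.map_toHom_ofScheme q _).symm)
    refine ⟨AlgSp.Points.toScheme T w, ?_⟩
    have h2 := AlgSp.Points.map_yon_map_apply fst' (AlgSp.Points.toScheme T w)
    have h3 : AlgSp.Points.schemeHomeo T (AlgSp.Points.toScheme T w) = w :=
      AlgSp.Points.ofScheme_toScheme T w
    rw [h3, hw1] at h2
    exact (AlgSp.Points.schemeHomeo U).injective h2.symm
  calc (AlgSp.Points.ofPt φ ⁻¹' {AlgSp.Points.mk q}).encard
      ≤ (Set.range (fun t : ↥T.left => fst'.left t)).encard := Set.encard_mono hsub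
    _ ≤ (Set.univ : Set ↥T.left).encard := by
        rw [← Set.image_univ]; exact Set.encard_image_le _ _
    _ = (Nat.card ↥T.left : ℕ∞) := by
        rw [Set.encard_univ, ENat.card_eq_coe_natCard]
    _ ≤ n := by exact_mod_cast hTcard

end Groth.Agent.S10428
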