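import Groth.Statements.S10429
import Groth.Agent.Lib.Helper5.UBF
import Groth.Agent.Lib.Helper5.EtaleLocalStd
import Groth.Agent.Lib.Helper11.AlgSpBasic
import Groth.Agent.S10424
import Groth.Agent.S10427

set_option autoImplicit false
universe u
open CategoryTheory CategoryTheory.Limits AlgebraicGeometry Topology TopologicalSpace
open AlgSp

namespace Groth.Agent.S10429

open Groth.Agent.Lib.helper5 Groth.Agent.Lib.helper5.OverField Groth.Agent.Lib.helper5.UBF
open Groth.Agent.Lib.helper5.EtaleLocalStd Groth.Agent.Lib.helper11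

/-- Local form: every point of `V` has an open neighbourhood on which `ψ` has universally bounded fibres. -/
theorem local_bound {S : Scheme.{u}} (X : AlgSp.Space S) {ι : Type u} (U : ι → Over S)
    (φ : ∀ i, (AlgSp.yon S).obj (U i) ⟶ X.obj) (hφ : ∀ i, AlgSp.RepWith @Etale (φ i))
    (hsurj : ∀ x : AlgSp.Points X.obj, ∃ (i : ι) (v : ↥(U i).left), AlgSp.Points.ofPt (φ i) v = x)
    (hb : ∀ i, W4dec.HasUnivBddFibres (φ i)) {V : Over S} (ψ : (AlgSp.yon S).obj V ⟶ X.obj)
    (hψ : AlgSp.RepWith @Etale ψ) (v : ↥V.left) :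
    ∃ O : V.left.Opens, v ∈ O ∧ W4dec.HasUnivBddFibres
      ((yon S).map (Over.homMk (U := Over.mk (O.ι ≫ V.hom)) (V := V) O.ι rfl) ≫ ψ) := by
  obtain ⟨i, u, hu⟩ := hsurj (Points.ofPt ψ v)
  obtain ⟨W, p₁, fst, sq⟩ := (hφ i).1 ψ
  obtain ⟨p₂, rfl⟩ := (yon S).map_surjective fst
  have het1 : Etale p₁.left := (hφ i).2 ψ _ p₁ sq
  have het2 : Etale p₂.left := hψ.2 (φ i) _ p₂ sq.flip
  obtain ⟨w, hw2, hw1⟩ := exists_of_isPullback_schemes sq u v hu
  obtain ⟨R, R', _, _, _, P, a, b, ha, hb', hcomm, hwb⟩ := exists_standardEtale_nbhd p₂.left w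
  let A' : Over S := Over.mk (a ≫ (U i).hom)
  let W' : Over S := Over.mk (b ≫ W.hom)
  let a' : A' ⟶ U i := Over.homMk a rfl
  let b' : W' ⟶ W := Over.homMk b rfl
  let σ : W' ⟶ A' := Over.homMk (Spec.map (CommRingCat.ofHom (algebraMap R R'))) (by
    change Spec.map _ ≫ a ≫ (U i).hom = b ≫ W.hom
    rw [← Category.assoc, ← hcomm, Category.assoc, Over.w p₂])
  have hσ : b' ≫ p₂ = σ ≫ a' := by
    apply Over.OverMorphism.ext
    exact hcomm
  have h1 : W4dec.HasUnivBddFibres ((yon S).map σ) :=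
    ⟨P.f.natDegree, degFibresLE_yon_map σ _
      (fun κ _ x F e g hpb => fibre_bound_of_standardEtale P κ x F e g hpb)⟩
  have haoi : IsOpenImmersion a'.left := ha
  have h2 : W4dec.HasUnivBddFibres ((yon S).map a') :=
    ⟨1, degFibresLE_one_of_isOpenImmersion a'⟩
  have h3 := S10424.result X a' (φ i) h2 (hb i)
  have h4 := S10424.result X σ _ h1 h3
  have heq : (yon S).map σ ≫ (yon S).map a' ≫ φ i = (yon S).map (b' ≫ p₁) ≫ ψ := by
    rw [← Category.assoc, ← Functor.map_comp, ← hσ, Functor.map_comp, Category.assoc, sq.w,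
      Functor.map_comp, Category.assoc]
  rw [heq] at h4
  have hetc : Etale (b ≫ p₁.left) := inferInstance
  let O : V.left.Opens := ⟨Set.range (b ≫ p₁.left), (b ≫ p₁.left).isOpenMap.isOpen_range⟩
  have hrange : Set.range (b ≫ p₁.left) ⊆ Set.range O.ι := by
    rw [Scheme.Opens.range_ι]
    exact subset_rfl
  let f₀ := IsOpenImmersion.lift O.ι (b ≫ p₁.left) hrange
  have hf₀ : f₀ ≫ O.ι = b ≫ p₁.left := IsOpenImmersion.lift_fac _ _ _
  have hflat : Flat f₀ := by
    refine MorphismProperty.of_postcomp (W := @Flat) (W' := MorphismProperty.monomorphisms Scheme)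
      f₀ O.ι (inferInstance : Mono O.ι) ?_
    rw [hf₀]
    infer_instance
  have hsurj₀ : Surjective f₀ := by
    refine ⟨fun y => ?_⟩
    obtain ⟨z, hz⟩ : (O.ι y) ∈ Set.range (b ≫ p₁.left) := y.2
    refine ⟨z, O.ι.isOpenEmbedding.injective ?_⟩
    rw [← Scheme.Hom.comp_apply, hf₀, hz]
  let Ov : Over S := Over.mk (O.ι ≫ V.hom)
  let ιv : Ov ⟶ V := Over.homMk O.ι rfl
  let f₀' : W' ⟶ Ov := Over.homMk f₀ (by
    change f₀ ≫ O.ι ≫ V.hom = b ≫ W.hom
    rw [← Category.assoc, hf₀, Category.assoc, Over.w p₁])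
  have hf₀' : f₀' ≫ ιv = b' ≫ p₁ := by
    apply Over.OverMorphism.ext
    exact hf₀
  have : Surjective f₀'.left := hsurj₀
  have : Flat f₀'.left := hflat
  refine ⟨O, ?_, S10427.result X f₀' ((yon S).map ιv ≫ ψ) ?_⟩
  · obtain ⟨z, hz⟩ := hwb
    exact ⟨z, by rw [Scheme.Hom.comp_apply, hz, hw1]⟩
  · rw [← Category.assoc, ← Functor.map_comp, hf₀']
    exact h4

/-- For an algebraic space X over a scheme S, if there are etale morphisms U_i ⟶ X from schemes with ∐
U_i ⟶ X surjective and each U_i ⟶ X with universally bounded fibres, then every etale morphism U ⟶ X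
from an affine scheme has universally bounded fibres (the converse implication is immediate). -/
theorem result {S : Scheme.{u}} (X : AlgSp.Space S) {ι : Type u} (U : ι → Over S)
    (φ : ∀ i, (AlgSp.yon S).obj (U i) ⟶ X.obj) (hφ : ∀ i, AlgSp.RepWith @Etale (φ i))
    (hsurj : ∀ x : AlgSp.Points X.obj, ∃ (i : ι) (v : ↥(U i).left), AlgSp.Points.ofPt (φ i) v = x)
    (hb : ∀ i, W4dec.HasUnivBddFibres (φ i)) {V : Over S} [IsAffine V.left] (ψ : (AlgSp.yon S).obj V ⟶ X.obj)
    (hψ : AlgSp.RepWith @Etale ψ) : W4dec.HasUnivBddFibres ψ := by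
  choose O hvO hO using fun v => local_bound X U φ hφ hsurj hb ψ hψ v
  choose n hn using hO
  obtain ⟨t, ht⟩ := isCompact_univ.elim_finite_subcover
    (fun v => ((O v : V.left.Opens) : Set ↥V.left)) (fun v => (O v).isOpen)
    (fun x _ => Set.mem_iUnion.2 ⟨x, hvO x⟩)
  refine ⟨∑ i : ↥t, n i.1, degFibresLE_of_openCover ψ (fun i : ↥t => O i.1) ?_ (fun i => n i.1)
    (fun i => hn i.1)⟩
  intro x
  have := ht (Set.mem_univ x)
  simp only [Set.mem_iUnion] at this
  obtain ⟨v, hv, hx⟩ := this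
  exact ⟨⟨v, hv⟩, hx⟩

end Groth.Agent.S10429
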