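import Groth.Statements.S10431
import Groth.Agent.Lib.Helper11.AlgSpBasic
import Groth.Agent.S10425
import Groth.Agent.S10429

set_option autoImplicit false
universe u
open CategoryTheory CategoryTheory.Limits AlgebraicGeometry Topology TopologicalSpace
open AlgSp

namespace Groth.Agent.S10431

open Groth.Agent.Lib.helper11

/-- Let S be a scheme, X and Y algebraic spaces over S, and X ⟶ Y a representable morphism. If every
etale morphism from an affine scheme to Y has universally bounded fibres, then so does every etale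
morphism from an affine scheme to X. -/
theorem result {S : Scheme.{u}} {X Y : AlgSp.Space S} (f : X ⟶ Y)
    (hf : AlgSp.Representable f.hom)
    (hY : ∀ (V : Over S) (ψ : (AlgSp.yon S).obj V ⟶ Y.obj), IsAffine V.left → AlgSp.RepWith @Etale ψ → W4dec.HasUnivBddFibres ψ)
    (U : Over S) (φ : (AlgSp.yon S).obj U ⟶ X.obj) (hU : IsAffine U.left) (hφ : AlgSp.RepWith @Etale φ) :
    W4dec.HasUnivBddFibres φ := by
  obtain ⟨Y₀, p, hpe, hps⟩ := Y.property.atlas
  let 𝒰 := Y₀.left.affineCover
  let Vj : 𝒰.I₀ → Over S := fun j => Over.mk (𝒰.f j ≫ Y₀.hom)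
  let ιj : ∀ j, Vj j ⟶ Y₀ := fun j => Over.homMk (𝒰.f j) rfl
  let pj : ∀ j, (yon S).obj (Vj j) ⟶ Y.obj := fun j => (yon S).map (ιj j) ≫ p
  have hpj : ∀ j, RepWith @Etale (pj j) := fun j => (chart_comp p hpe (𝒰.f j)).1
  have hpjU : ∀ j, W4dec.HasUnivBddFibres (pj j) := fun j =>
    hY (Vj j) (pj j) (inferInstanceAs (IsAffine (𝒰.X j))) (hpj j)
  choose W snd fst sq using fun j => hf (pj j)
  have hfe : ∀ j, RepWith @Etale (fst j) := fun j =>
    (repWith_isStableUnderBaseChange (S := S) @Etale).of_isPullback (sq j).flip (hpj j)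
  have hfb : ∀ j, W4dec.HasUnivBddFibres (fst j) := fun j =>
    S10425.result f hf (pj j) (hpjU j) ((yon S).map (snd j)) (fst j) (sq j).flip
  have hsurj : ∀ x : AlgSp.Points X.obj, ∃ (j : 𝒰.I₀) (w : ↥(W j).left),
      AlgSp.Points.ofPt (fst j) w = x := by
    intro x
    obtain ⟨y₀, hy₀⟩ := surjective_ofPt p hps (Points.map f.hom x)
    obtain ⟨v, hv⟩ := 𝒰.covers y₀
    have hxu : Points.map f.hom x = Points.ofPt (pj (𝒰.idx y₀)) v := by
      rw [ofPt_yon_map_comp, ← hy₀]
      congr 1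
      exact hv.symm
    obtain ⟨w, hw, -⟩ := exists_of_isPullback_scheme (sq (𝒰.idx y₀)) x v hxu
    exact ⟨_, w, hw⟩
  have := hU
  exact S10429.result X W fst hfe hsurj hfb φ hφ

end Groth.Agent.S10431
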