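import Groth.Statements.S10432
import Groth.Agent.Lib.Helper11.AlgSpBasic
import Groth.Agent.Lib.Helper5.AlgSpLargestOpen
import Groth.Agent.S10426
import Groth.Agent.S10429

set_option autoImplicit false
universe u
open CategoryTheory CategoryTheory.Limits AlgebraicGeometry Topology TopologicalSpace
open AlgSp

namespace Groth.Agent.S10432

open Groth.Agent.Lib.helper11 Groth.Agent.Lib.helper5.LargestOpen

/-- Let X be an algebraic space over a scheme S with a Zariski covering by open subspaces X_i ⟶ X such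
that every etale morphism from an affine scheme to X_i has universally bounded fibres. Then every
etale morphism from an affine scheme to X has universally bounded fibres. -/
theorem result {S : Scheme.{u}} (X : AlgSp.Space S) {ι : Type u}
    (Xi : ι → AlgSp.Space S) (j : ∀ i, Xi i ⟶ X) (hj : AlgSp.IsZarCover (fun i => (Xi i).obj) (fun i => (j i).hom))
    (h : ∀ (i : ι) (V : Over S) (ψ : (AlgSp.yon S).obj V ⟶ (Xi i).obj), IsAffine V.left → AlgSp.RepWith @Etale ψ → W4dec.HasUnivBddFibres ψ)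
    (U : Over S) (φ : (AlgSp.yon S).obj U ⟶ X.obj) (hU : IsAffine U.left) (hφ : AlgSp.RepWith @Etale φ) :
    W4dec.HasUnivBddFibres φ := by
  choose A p hpe hps using fun i => (Xi i).property.atlas
  let 𝒰 := fun i => (A i).left.affineCover
  let I := Σ i, (𝒰 i).I₀
  let V : I → Over S := fun ik => Over.mk ((𝒰 ik.1).f ik.2 ≫ (A ik.1).hom)
  let ιV : ∀ ik : I, V ik ⟶ A ik.1 := fun ik => Over.homMk ((𝒰 ik.1).f ik.2) rfl
  let ψ : ∀ ik : I, (yon S).obj (V ik) ⟶ (Xi ik.1).obj := fun ik => (yon S).map (ιV ik) ≫ p ik.1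
  have hψe : ∀ ik, RepWith @Etale (ψ ik) := fun ik => (chart_comp (p ik.1) (hpe ik.1) ((𝒰 ik.1).f ik.2)).1
  have hψb : ∀ ik, W4dec.HasUnivBddFibres (ψ ik) := fun ik =>
    h ik.1 (V ik) (ψ ik) (inferInstanceAs (IsAffine ((𝒰 ik.1).X ik.2))) (hψe ik)
  have hje : ∀ i, RepWith @Etale (j i).hom := fun i =>
    MorphismProperty.relative_monotone (F := yon S) (fun _ _ f hf => by
      have : IsOpenImmersion f.left := hf
      exact (inferInstance : Etale f.left)) _ (hj.1 i)
  let φ' : ∀ ik : I, (yon S).obj (V ik) ⟶ X.obj := fun ik => ψ ik ≫ (j ik.1).hom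
  have hφ'e : ∀ ik, RepWith @Etale (φ' ik) := fun ik =>
    (repWith_isMultiplicative (S := S) @Etale).comp_mem _ _ (hψe ik) (hje ik.1)
  have hφ'b : ∀ ik, W4dec.HasUnivBddFibres (φ' ik) := fun ik => by
    have := mono_of_oi (hj.1 ik.1)
    refine S10426.result (j ik.1) (hj.1 ik.1).1 (φ' ik) (𝟙 _) (ψ ik)
      (isPullback_id_of_mono (ψ ik) (j ik.1).hom) ?_ (hψb ik)
    rintro _ ⟨v, rfl⟩
    exact ⟨Points.ofPt (ψ ik) v, Points.map_ofPt _ _ _⟩
  have hsurj : ∀ x : AlgSp.Points X.obj, ∃ (ik : I) (v : ↥(V ik).left),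
      AlgSp.Points.ofPt (φ' ik) v = x := by
    intro x
    obtain ⟨i, y, rfl⟩ := hj.2 x
    obtain ⟨a₀, rfl⟩ := surjective_ofPt (p i) (hps i) y
    obtain ⟨v, hv⟩ := (𝒰 i).covers a₀
    refine ⟨⟨i, (𝒰 i).idx a₀⟩, v, ?_⟩
    change Points.ofPt (((yon S).map (ιV ⟨i, (𝒰 i).idx a₀⟩) ≫ p i) ≫ (j i).hom) v = _
    rw [Points.map_ofPt, Category.assoc, ofPt_yon_map_comp]
    congr 1
  have := hU
  exact S10429.result X V φ' hφ'e hsurj hφ'b φ hφ

end Groth.Agent.S10432
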