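import Groth.Statements.S10433
import Groth.Agent.Lib.Helper1.FibRankSp
import Groth.Agent.S10192

set_option autoImplicit false
universe u
open CategoryTheory CategoryTheory.Limits AlgebraicGeometry Topology TopologicalSpace
open AlgSp

namespace Groth.Agent.S10433

open Groth.Agent.H1.FibRank in
theorem main {S : Scheme.{u}} (X : AlgSp.Space S) {W : Over S}
    (w : (AlgSp.yon S).obj W ⟶ X.obj) (hfl : AlgSp.RepWith @Flat w) (hfp : AlgSp.RepWith @LocallyOfFinitePresentation w)
    (hsep : AlgSp.RepWith @IsSeparated w) (hqf : AlgSp.RepWith @LocallyQuasiFinite w) (hb : W4dec.HasUnivBddFibres w) :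
    ∃ (n : ℕ) (Zs : ℕ → AlgSp.Space S) (i : ∀ r, Zs r ⟶ X),
      (∀ r, AlgSp.IsRedInduced (Set.range (AlgSp.Points.map (i r).hom)) (i r).hom) ∧
      IsEmpty (AlgSp.Points (Zs 0).obj) ∧ Set.range (AlgSp.Points.map (i (n + 1)).hom) = Set.univ ∧
      (∀ r, Set.range (AlgSp.Points.map (i r).hom) ⊆ Set.range (AlgSp.Points.map (i (r + 1)).hom)) ∧
      ∀ (r : ℕ) (T : AlgSp.Space S) (g : T ⟶ X) (P : AlgSp.Sp S) (fst : P ⟶ (AlgSp.yon S).obj W) (snd : P ⟶ T.obj),
        IsPullback fst snd w g.hom →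
          (AlgSp.IsFinLocFreeOfDegMor r snd ↔
            Set.range (AlgSp.Points.map g.hom) ⊆
              Set.range (AlgSp.Points.map (i (r + 1)).hom) \ Set.range (AlgSp.Points.map (i r).hom)) := by
  obtain ⟨n, hn⟩ := hb
  have hcl : ∀ r : ℕ, IsClosed {x : Points X.obj | degSp w hfl hn x < r} := fun r => by
    have := (isOpen_le_degSp w hfl hfp hsep hqf hn r).isClosed_compl
    convert this using 1
    ext x
    simp only [Set.mem_ofPred_eq, Set.mem_compl_iff, not_le]
  choose Zs i hi using fun r : ℕ => Groth.Agent.S10192.result X _ (hcl r)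
  have hrange : ∀ r, Set.range (Points.map (i r).hom) = {x | degSp w hfl hn x < r} :=
    fun r => (hi r).2.1
  refine ⟨n, Zs, i, ?_, ?_, ?_, ?_, ?_⟩
  · intro r
    exact ⟨(hi r).1, rfl, (hi r).2.2⟩
  · constructor
    intro z
    have : Points.map (i 0).hom z ∈ {x | degSp w hfl hn x < 0} := by
      rw [← hrange 0]
      exact ⟨z, rfl⟩
    exact Nat.not_lt_zero _ this
  · rw [hrange]
    ext x
    simp only [Set.mem_ofPred_eq, Set.mem_univ, iff_true]
    exact Nat.lt_succ_of_le (degSp_le w hfl hn x)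
  · intro r
    rw [hrange, hrange]
    intro x hx
    exact Nat.lt_succ_of_lt hx
  · intro r T g P fst snd sq
    rw [isFinLocFreeOfDegMor_iff w hfl hfp hsep hqf hn g.hom fst snd sq r, hrange, hrange]
    constructor
    · rintro h _ ⟨x, rfl⟩
      refine ⟨?_, ?_⟩
      · show degSp w hfl hn _ < r + 1
        rw [h x]
        exact Nat.lt_succ_self r
      · show ¬ degSp w hfl hn _ < r
        rw [h x]
        exact lt_irrefl r
    · intro h x
      obtain ⟨h1, h2⟩ := h ⟨x, rfl⟩
      have h1' : degSp w hfl hn (Points.map g.hom x) < r + 1 := h1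
      have h2' : ¬ degSp w hfl hn (Points.map g.hom x) < r := h2
      omega

/-- Let S be a scheme, X an algebraic space over S, W a scheme over S, and W ⟶ X a morphism which is
flat, separated, locally of finite presentation and locally quasi-finite, with universally bounded
fibres. Then X has closed subspaces, each reduced, ∅ = Z_{-1} ⊆ Z_0 ⊆ ⋯ ⊆ Z_n with |Z_n| = |X| such
that, putting X_r = Z_r ∖ Z_{r-1}, for every morphism g : T ⟶ X the second projection W ×_X T ⟶ T is
a finite locally free morphism of degree r exactly when g(|T|) ⊆ |X_r|. (Indexing: Zs 0 = Z_{-1}, Zs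
(r+1) = Z_r.) -/
theorem result {S : Scheme.{u}} (X : AlgSp.Space S) {W : Over S}
    (w : (AlgSp.yon S).obj W ⟶ X.obj) (hfl : AlgSp.RepWith @Flat w) (hfp : AlgSp.RepWith @LocallyOfFinitePresentation w)
    (hsep : AlgSp.RepWith @IsSeparated w) (hqf : AlgSp.RepWith @LocallyQuasiFinite w) (hb : W4dec.HasUnivBddFibres w) :
    ∃ (n : ℕ) (Zs : ℕ → AlgSp.Space S) (i : ∀ r, Zs r ⟶ X),
      (∀ r, AlgSp.IsRedInduced (Set.range (AlgSp.Points.map (i r).hom)) (i r).hom) ∧
      IsEmpty (AlgSp.Points (Zs 0).obj) ∧ Set.range (AlgSp.Points.map (i (n + 1)).hom) = Set.univ ∧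
      (∀ r, Set.range (AlgSp.Points.map (i r).hom) ⊆ Set.range (AlgSp.Points.map (i (r + 1)).hom)) ∧
      ∀ (r : ℕ) (T : AlgSp.Space S) (g : T ⟶ X) (P : AlgSp.Sp S) (fst : P ⟶ (AlgSp.yon S).obj W) (snd : P ⟶ T.obj),
        IsPullback fst snd w g.hom →
          (AlgSp.IsFinLocFreeOfDegMor r snd ↔
            Set.range (AlgSp.Points.map g.hom) ⊆
              Set.range (AlgSp.Points.map (i (r + 1)).hom) \ Set.range (AlgSp.Points.map (i r).hom)) := by
  exact main X w hfl hfp hsep hqf hb

end Groth.Agent.S10433
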