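import Groth.Statements.S10439
import Groth.Agent.S10339

set_option autoImplicit false
universe u
open CategoryTheory CategoryTheory.Limits AlgebraicGeometry Topology TopologicalSpace
open AlgSp

namespace Groth.Agent.S10439

theorem main {S : Scheme.{u}} {X Y : AlgSp.Space S} (f : X ⟶ Y)
    (hY : AlgSp.IsDecent Y.obj)
    (hf : W4stk3decentspacesp2.IsBirational f.hom) : AlgSp.IsDominantMor f.hom := by
  haveI := Groth.Agent.S10339.main Y hY
  intro y
  have hT : irreducibleComponent y ∈ irreducibleComponents (Points Y.obj) :=
    irreducibleComponent_mem_irreducibleComponents y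
  obtain ⟨η, hη⟩ := QuasiSober.sober (isIrreducible_irreducibleComponent (x := y))
    (isClosed_irreducibleComponent (x := y))
  have hηg : η ∈ genericPoints (Points Y.obj) := by
    change closure {η} ∈ irreducibleComponents (Points Y.obj)
    rw [hη.def]; exact hT
  obtain ⟨x, -, hx⟩ := hf.bijOn.surjOn hηg
  have h1 : y ∈ closure ({η} : Set (Points Y.obj)) := by
    rw [hη.def]; exact mem_irreducibleComponent
  refine closure_mono ?_ h1
  rintro _ rfl
  exact ⟨x, hx⟩

/-- A birational morphism between decent algebraic spaces over a scheme S, each with only finitely many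
irreducible components, is dominant: the image of |X| is dense in |Y|. -/
theorem result {S : Scheme.{u}} {X Y : AlgSp.Space S} (f : X ⟶ Y)
    (hX : AlgSp.IsDecent X.obj) (hY : AlgSp.IsDecent Y.obj)
    (hXf : (irreducibleComponents (AlgSp.Points X.obj)).Finite)
    (hYf : (irreducibleComponents (AlgSp.Points Y.obj)).Finite)
    (hf : W4stk3decentspacesp2.IsBirational f.hom) : AlgSp.IsDominantMor f.hom := by
  exact main f hY hf

end Groth.Agent.S10439
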