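import Groth.Statements.S10440
import Groth.Agent.Lib.Helper1.EssEtStalk
import Groth.Agent.Lib.Helper1.ElemNbhd
import Groth.Agent.Lib.Helper5.AlgSpUnivThk

set_option autoImplicit false
universe u
open CategoryTheory CategoryTheory.Limits AlgebraicGeometry Topology TopologicalSpace
open AlgSp

namespace Groth.Agent.S10440

open Groth.Agent.H1.ElemNbhd Groth.Agent.H1.EssEtStalk

variable {S : Scheme.{u}}

/-- A morphism of elementary étale neighbourhoods induces an isomorphism of residue fields. -/
theorem bijective_residueFieldMap {X : Sp S} {U U' : Over S}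
    (a : (yon S).obj U ⟶ X) (a' : (yon S).obj U' ⟶ X) (g : U' ⟶ U) (u' : ↥U'.left)
    (hg : (yon S).map g ≫ a = a') (hm' : Mono (FieldPt.ofPt a' u').toHom) :
    Function.Bijective (g.left.residueFieldMap u').hom := by
  rw [FieldPt.toHom_ofPt] at hm'
  have hm'' : Mono ((yon S).map (resι U' u') ≫ a') := hm'
  have hw : Spec.map (g.left.residueFieldMap u') ≫ (U.left.fromSpecResidueField (g.left u') ≫ U.hom) =
      U'.left.fromSpecResidueField u' ≫ U'.hom := by
    rw [← Category.assoc, Scheme.Hom.SpecMap_residueFieldMap_fromSpecResidueField, Category.assoc,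
      Over.w g]
  let e : resPt U' u' ⟶ resPt U (g.left u') := Over.homMk (Spec.map (g.left.residueFieldMap u')) hw
  have hfac : resι U' u' ≫ g = e ≫ resι U (g.left u') := by
    apply Over.OverMorphism.ext
    exact (Scheme.Hom.SpecMap_residueFieldMap_fromSpecResidueField g.left u').symm
  have h1 : (yon S).map (resι U' u') ≫ a' =
      (yon S).map e ≫ ((yon S).map (resι U (g.left u')) ≫ a) := by
    rw [← hg, ← Category.assoc, ← Functor.map_comp, hfac, Functor.map_comp, Category.assoc]
  rw [h1] at hm''
  haveI : Mono ((yon S).map e) := mono_of_mono _ ((yon S).map (resι U (g.left u')) ≫ a)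
  haveI : Mono e := (yon S).mono_of_mono_map (by assumption)
  haveI : Mono e.left := inferInstance
  haveI : Mono (Spec.map (g.left.residueFieldMap u')) := (inferInstance : Mono e.left)
  haveI : Nonempty ↥(Spec (U'.left.residueField u')) := inferInstance
  have hiso : IsIso (Spec.map (g.left.residueFieldMap u')) :=
    isIso_of_mono_of_nonempty (K := U.left.residueField (g.left u')) _
  exact isIso_SpecMap_iff.mp hiso

theorem main (X : AlgSp.Space S)
    (hX : AlgSp.IsDecent X.obj) (x : AlgSp.Points X.obj) {U U' : Over S}
    (a : (AlgSp.yon S).obj U ⟶ X.obj) (a' : (AlgSp.yon S).obj U' ⟶ X.obj) (g : U' ⟶ U) (u' : ↥U'.left)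
    (hg : (AlgSp.yon S).map g ≫ a = a') (ha : AlgSp.IsElemEtaleNbhd a (g.left.base u') x)
    (ha' : AlgSp.IsElemEtaleNbhd a' u' x) (R : Type u) [CommRing R] [IsLocalRing R]
    [Algebra ↥(U'.left.presheaf.stalk u') R] [IsLocalHom (algebraMap ↥(U'.left.presheaf.stalk u') R)]
    [Hensel.IsHenselization ↥(U'.left.presheaf.stalk u') R] :
    letI : Algebra ↥(U.left.presheaf.stalk (g.left.base u')) R :=
      ((algebraMap ↥(U'.left.presheaf.stalk u') R).comp (g.left.stalkMap u').hom).toAlgebra
    ∃ (_ : IsLocalHom (algebraMap ↥(U.left.presheaf.stalk (g.left.base u')) R)),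
      Hensel.IsHenselization ↥(U.left.presheaf.stalk (g.left.base u')) R := by
  haveI het : Etale g.left :=
    Groth.Agent.Lib.helper5.etale_of_comp_repWith a ha.etale g (by rw [hg]; exact ha'.etale)
  letI : Algebra ↥(U.left.presheaf.stalk (g.left.base u')) ↥(U'.left.presheaf.stalk u') :=
    (g.left.stalkMap u').hom.toAlgebra
  haveI : IsLocalHom (algebraMap ↥(U.left.presheaf.stalk (g.left.base u')) ↥(U'.left.presheaf.stalk u')) :=
    inferInstanceAs (IsLocalHom (g.left.stalkMap u').hom)
  have hess := isEssentiallyEtale_stalkMap g.left u'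
  have hbij := bijective_residueFieldMap a a' g u' hg ha'.mono
  exact isHenselization_of_strictEssEtale _ _ R ⟨hess, hbij⟩

/-- For a decent algebraic space X over a scheme S and x ∈ |X|, let g : (U', u') ⟶ (U, u) be a morphism
of elementary etale neighbourhoods of (X, x). If R is a henselization of O_{U', u'} then, through
the local ring map O_{U, u} ⟶ O_{U', u'} induced by g, R is a henselization of O_{U, u} as well.
(The published statement identifies the henselian local ring at x, defined as the colimit of global
sections over all elementary etale neighbourhoods, with the henselization of O_{U, u}; that ring is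
not a separate construction here, and this row states the resulting independence of the
henselization from the chosen neighbourhood.) -/
theorem result {S : Scheme.{u}} (X : AlgSp.Space S)
    (hX : AlgSp.IsDecent X.obj) (x : AlgSp.Points X.obj) {U U' : Over S}
    (a : (AlgSp.yon S).obj U ⟶ X.obj) (a' : (AlgSp.yon S).obj U' ⟶ X.obj) (g : U' ⟶ U) (u' : ↥U'.left)
    (hg : (AlgSp.yon S).map g ≫ a = a') (ha : AlgSp.IsElemEtaleNbhd a (g.left.base u') x)
    (ha' : AlgSp.IsElemEtaleNbhd a' u' x) (R : Type u) [CommRing R] [IsLocalRing R]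
    [Algebra ↥(U'.left.presheaf.stalk u') R] [IsLocalHom (algebraMap ↥(U'.left.presheaf.stalk u') R)]
    [Hensel.IsHenselization ↥(U'.left.presheaf.stalk u') R] :
    letI : Algebra ↥(U.left.presheaf.stalk (g.left.base u')) R :=
      ((algebraMap ↥(U'.left.presheaf.stalk u') R).comp (g.left.stalkMap u').hom).toAlgebra
    ∃ (_ : IsLocalHom (algebraMap ↥(U.left.presheaf.stalk (g.left.base u')) R)),
      Hensel.IsHenselization ↥(U.left.presheaf.stalk (g.left.base u')) R := by
  exact main X hX x a a' g u' hg ha ha' R

end Groth.Agent.S10440
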