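import Groth.Statements.S10441
import Groth.Agent.S10440
import Groth.Agent.Lib.Helper9.UnibrGeom2
import Groth.Agent.Lib.Helper24.UnibranchMin
import Groth.Agent.Lib.Helper24.Henselization

set_option autoImplicit false
universe u
open CategoryTheory CategoryTheory.Limits AlgebraicGeometry Topology TopologicalSpace
open AlgSp

namespace Groth.Agent.S10441

open Groth.Agent.H1.ElemNbhd Groth.Agent.H1.EssEtStalk Groth.Agent.Lib.helper11

variable {S : Scheme.{u}}

/-- The closure of the point of a minimal prime of the local ring at `u` is an irreducible component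
through `u`. -/
theorem closure_mem_of_minimalPrime (U : Scheme.{u}) (u : U) (p : Ideal (U.presheaf.stalk u))
    (hp : p ∈ minimalPrimes (U.presheaf.stalk u)) :
    haveI : p.IsPrime := hp.1.1
    closure {U.fromSpecStalk u ⟨p, hp.1.1⟩} ∈ irreducibleComponents U ∧
      u ∈ closure ({U.fromSpecStalk u ⟨p, hp.1.1⟩} : Set U) := by
  haveI : p.IsPrime := hp.1.1
  set ξ : U := U.fromSpecStalk u ⟨p, hp.1.1⟩ with hξ
  have hξu : ξ ⤳ u := by
    have : ξ ∈ Set.range (U.fromSpecStalk u) := ⟨_, rfl⟩
    rw [Scheme.range_fromSpecStalk] at this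
    exact this
  refine ⟨⟨isIrreducible_singleton.closure, ?_⟩, specializes_iff_mem_closure.1 hξu⟩
  intro T hT hle
  -- generic point of the closure of `T`
  obtain ⟨η, hη⟩ := QuasiSober.sober hT.closure isClosed_closure
  have hξT : ξ ∈ closure T := subset_closure (hle (subset_closure rfl))
  have hηξ : η ⤳ ξ := hη.specializes hξT
  have hηu : η ⤳ u := hηξ.trans hξu
  have : η ∈ Set.range (U.fromSpecStalk u) := by
    rw [Scheme.range_fromSpecStalk]; exact hηu
  obtain ⟨P, rfl⟩ := this
  have hemb := (U.fromSpecStalk u).isEmbedding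
  have hPp : P ⤳ (⟨p, hp.1.1⟩ : PrimeSpectrum (U.presheaf.stalk u)) :=
    (hemb.toIsInducing.specializes_iff).1 hηξ
  have hle' : P.asIdeal ≤ p := (PrimeSpectrum.le_iff_specializes _ _).2 hPp
  have hge : p ≤ P.asIdeal := hp.2 ⟨P.isPrime, bot_le⟩ hle'
  have hPeq : P = ⟨p, hp.1.1⟩ := PrimeSpectrum.ext (le_antisymm hle' hge)
  intro t ht
  have : t ∈ closure T := subset_closure ht
  rw [← hη.def, hPeq] at this
  exact this

/-- The local ring at `u` has a unique minimal prime iff a unique irreducible component passes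
through `u`. -/
theorem hasUniqueMinimalPrime_iff (U : Scheme.{u}) (u : U) :
    CAlgX.HasUniqueMinimalPrime (U.presheaf.stalk u) ↔
      {Z : Set U | Z ∈ irreducibleComponents U ∧ u ∈ Z}.encard = 1 := by
  constructor
  · intro h
    have hnil := Groth.Agent.Lib.Helper24.Unibranch.isPrime_nilradical_of_hasUniqueMinimalPrime h
    obtain ⟨Z, hZ, hZu⟩ :=
      Groth.Agent.Lib.helper9.UnramGeom.existsUnique_irreducibleComponent_of_nilradical_isPrime U u hnil
    rw [Set.encard_eq_one]
    refine ⟨Z, ?_⟩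
    ext Z'
    constructor
    · intro hZ'
      exact hZu Z' hZ'
    · rintro rfl
      exact hZ
  · intro h
    rw [Set.encard_eq_one] at h
    obtain ⟨Z, hZ⟩ := h
    obtain ⟨p, hp, -⟩ := Ideal.exists_minimalPrimes_le
      (bot_le : (⊥ : Ideal (U.presheaf.stalk u)) ≤ IsLocalRing.maximalIdeal _)
    have hp' : p ∈ minimalPrimes (U.presheaf.stalk u) := hp
    refine ⟨p, hp', ?_⟩
    intro q hq
    have h1 := closure_mem_of_minimalPrime U u p hp'
    have h2 := closure_mem_of_minimalPrime U u q hq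
    have e1 : closure {U.fromSpecStalk u ⟨p, hp'.1.1⟩} = Z := by
      have : closure {U.fromSpecStalk u ⟨p, hp'.1.1⟩} ∈ ({Z} : Set (Set U)) := by
        rw [← hZ]; exact h1
      exact this
    have e2 : closure {U.fromSpecStalk u ⟨q, hq.1.1⟩} = Z := by
      have : closure {U.fromSpecStalk u ⟨q, hq.1.1⟩} ∈ ({Z} : Set (Set U)) := by
        rw [← hZ]; exact h2
      exact this
    have e3 : U.fromSpecStalk u ⟨q, hq.1.1⟩ = U.fromSpecStalk u ⟨p, hp'.1.1⟩ :=
      (inseparable_iff_closure_eq.2 (e2.trans e1.symm)).eq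
    have e4 := (U.fromSpecStalk u).isEmbedding.injective e3
    exact congrArg PrimeSpectrum.asIdeal e4

/-- The field point of `v` for `h_j ≫ a` is a monomorphism when that of `j v` for `a` is and `j`
induces an isomorphism of residue fields at `v`. -/
theorem mono_ofPt_comp' {X : Sp S} {E U : Over S} (j : E ⟶ U)
    (a : (yon S).obj U ⟶ X) (v : ↥E.left) (hb : Function.Bijective (j.left.residueFieldMap v).hom)
    (hm : Mono (FieldPt.ofPt a (j.left v)).toHom) :
    Mono (FieldPt.ofPt ((yon S).map j ≫ a) v).toHom := by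
  rw [FieldPt.toHom_ofPt] at hm
  have hm' : Mono ((yon S).map (resι U (j.left v)) ≫ a) := hm
  rw [FieldPt.toHom_ofPt ((yon S).map j ≫ a) v]
  change Mono ((yon S).map (resι E v) ≫ (yon S).map j ≫ a)
  have hw : Spec.map (j.left.residueFieldMap v) ≫ (U.left.fromSpecResidueField (j.left v) ≫ U.hom) =
      E.left.fromSpecResidueField v ≫ E.hom := by
    rw [← Category.assoc, Scheme.Hom.SpecMap_residueFieldMap_fromSpecResidueField, Category.assoc,
      Over.w j]
  let e : resPt E v ⟶ resPt U (j.left v) := Over.homMk (Spec.map (j.left.residueFieldMap v)) hw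
  have he : IsIso e := by
    have : IsIso ((Over.forget S).map e) := by
      change IsIso (Spec.map (j.left.residueFieldMap v))
      exact isIso_SpecMap_iff.mpr hb
    exact isIso_of_reflects_iso e (Over.forget S)
  have hfac : resι E v ≫ j = e ≫ resι U (j.left v) := by
    apply Over.OverMorphism.ext
    exact (Scheme.Hom.SpecMap_residueFieldMap_fromSpecResidueField j.left v).symm
  have : (yon S).map (resι E v) ≫ (yon S).map j ≫ a =
      (yon S).map e ≫ ((yon S).map (resι U (j.left v)) ≫ a) := by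
    rw [← Category.assoc, ← Functor.map_comp, hfac, Functor.map_comp, Category.assoc]
  rw [this]
  infer_instance

/-- An étale neighbourhood with trivial residue field extension of an elementary étale
neighbourhood is an elementary étale neighbourhood. -/
theorem isElem_of_etaleNbhd {X : Sp S} {x : Points X} {U : Over S} (a : (yon S).obj U ⟶ X)
    (u : ↥U.left) (ha : IsElemEtaleNbhd a u x) {U' : Scheme.{u}} (g : U' ⟶ U.left) (u' : ↥U')
    (hg : Hens2.IsEtaleNbhd g u' u) :
    IsElemEtaleNbhd ((yon S).map (Over.homMk (U := Over.mk (g ≫ U.hom)) g rfl) ≫ a) u' x := by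
  haveI := hg.etale
  obtain ⟨h1, h2⟩ := chart_comp a ha.etale g
  refine ⟨h1, ?_, ?_⟩
  · rw [h2 u']
    have : g u' = u := hg.base_eq
    rw [this]
    exact ha.ofPt_eq
  · refine mono_ofPt_comp' (E := Over.mk (g ≫ U.hom)) (Over.homMk g rfl) a u' hg.residue_bijective ?_
    have : g u' = u := hg.base_eq
    change Mono (FieldPt.ofPt a (g u')).toHom
    rw [this]
    exact ha.mono

theorem main (X : AlgSp.Space S)
    (hX : AlgSp.IsDecent X.obj) (x : AlgSp.Points X.obj) {U₀ : Over S}
    (a₀ : (AlgSp.yon S).obj U₀ ⟶ X.obj) (u₀ : ↥U₀.left) (h₀ : AlgSp.IsElemEtaleNbhd a₀ u₀ x)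
    (R : Type u) [CommRing R] [IsLocalRing R] [Algebra ↥(U₀.left.presheaf.stalk u₀) R]
    [IsLocalHom (algebraMap ↥(U₀.left.presheaf.stalk u₀) R)] [Hensel.IsHenselization ↥(U₀.left.presheaf.stalk u₀) R] :
    ((∀ (U : Over S) (a : (AlgSp.yon S).obj U ⟶ X.obj) (u : ↥U.left), AlgSp.IsElemEtaleNbhd a u x →
        CAlgX.HasUniqueMinimalPrime ↥(U.left.presheaf.stalk u)) ↔
      (∀ (U : Over S) (a : (AlgSp.yon S).obj U ⟶ X.obj) (u : ↥U.left), AlgSp.IsElemEtaleNbhd a u x →
        {Z : Set ↥U.left | Z ∈ irreducibleComponents ↥U.left ∧ u ∈ Z}.encard = 1)) ∧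
    ((∀ (U : Over S) (a : (AlgSp.yon S).obj U ⟶ X.obj) (u : ↥U.left), AlgSp.IsElemEtaleNbhd a u x →
        {Z : Set ↥U.left | Z ∈ irreducibleComponents ↥U.left ∧ u ∈ Z}.encard = 1) ↔
      (∀ (U : Over S) (a : (AlgSp.yon S).obj U ⟶ X.obj) (u : ↥U.left), AlgSp.IsElemEtaleNbhd a u x →
        CAlg2.IsUnibranch ↥(U.left.presheaf.stalk u))) ∧
    ((∀ (U : Over S) (a : (AlgSp.yon S).obj U ⟶ X.obj) (u : ↥U.left), AlgSp.IsElemEtaleNbhd a u x →
        CAlg2.IsUnibranch ↥(U.left.presheaf.stalk u)) ↔ CAlgX.HasUniqueMinimalPrime R) := by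
  refine ⟨?_, ?_, ?_⟩
  · exact ⟨fun h U a u hu => (hasUniqueMinimalPrime_iff U.left u).1 (h U a u hu),
      fun h U a u hu => (hasUniqueMinimalPrime_iff U.left u).2 (h U a u hu)⟩
  · constructor
    · intro h U a u hu
      apply Groth.Agent.Lib.helper9.UnramGeom.isUnibranch_stalk_of_etaleNbhds U.left u
      intro U' g u' hg
      exact h (Over.mk (g ≫ U.hom)) _ u' (isElem_of_etaleNbhd a u hu g u' hg)
    · intro h U a u hu
      have hid : Hens2.IsEtaleNbhd (𝟙 U.left) u u := by
        refine ⟨inferInstance, rfl, ?_⟩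
        rw [Scheme.residueFieldMap_id]
        exact Function.bijective_id
      exact Groth.Agent.Lib.helper9.UnramGeom.encard_components_eq_one_of_etaleNbhd
        (𝟙 U.left) u u hid (h U a u hu)
  · constructor
    · intro h
      exact (Groth.Agent.Lib.Helper24.Unibranch.isUnibranch_iff_hasUniqueMinimalPrime
        (U₀.left.presheaf.stalk u₀) R).1 (h U₀ a₀ u₀ h₀)
    · intro hR U a u hu
      obtain ⟨U'', a'', v, k₁, k₂, hv, hk₁, hk₂, hk₁v, hk₂v⟩ := dominate X x a a₀ u u₀ hu h₀
      subst hk₁v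
      subst hk₂v
      -- the henselization of the local ring of the dominating neighbourhood
      let H := Groth.Agent.Lib.helper24.Henselization.Hens (U''.left.presheaf.stalk v)
      -- it is a henselization of the local ring at `u₀`
      have hU0 : CAlg2.IsUnibranch (U₀.left.presheaf.stalk (k₂.left v)) :=
        (Groth.Agent.Lib.Helper24.Unibranch.isUnibranch_iff_hasUniqueMinimalPrime _ R).2 hR
      have hH : CAlgX.HasUniqueMinimalPrime H := by
        letI : Algebra ↥(U₀.left.presheaf.stalk (k₂.left.base v)) H :=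
          ((algebraMap ↥(U''.left.presheaf.stalk v) H).comp (k₂.left.stalkMap v).hom).toAlgebra
        obtain ⟨hloc, hhens⟩ := Groth.Agent.S10440.main X hX x a₀ a'' k₂ v hk₂ h₀ hv H
        exact (Groth.Agent.Lib.Helper24.Unibranch.isUnibranch_iff_hasUniqueMinimalPrime
          (U₀.left.presheaf.stalk (k₂.left.base v)) H).1 hU0
      letI : Algebra ↥(U.left.presheaf.stalk (k₁.left.base v)) H :=
        ((algebraMap ↥(U''.left.presheaf.stalk v) H).comp (k₁.left.stalkMap v).hom).toAlgebra
      obtain ⟨hloc, hhens⟩ := Groth.Agent.S10440.main X hX x a a'' k₁ v hk₁ hu hv H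
      exact (Groth.Agent.Lib.Helper24.Unibranch.isUnibranch_iff_hasUniqueMinimalPrime
        (U.left.presheaf.stalk (k₁.left.base v)) H).2 hH

/-- For a decent algebraic space X over a scheme S and x ∈ |X|, fix an elementary etale neighbourhood
(U₀, u₀) of (X, x) and a henselization R of O_{U₀, u₀} (a model of the henselian local ring at x).
The following are equivalent: (1) O_{U, u} has exactly one minimal prime whenever (U, u) is an
elementary etale neighbourhood of (X, x); (2) a unique irreducible component of U passes through u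
for all such (U, u); (3) O_{U, u} is unibranch for all such (U, u); (4) R has exactly one minimal
prime. -/
theorem result {S : Scheme.{u}} (X : AlgSp.Space S)
    (hX : AlgSp.IsDecent X.obj) (x : AlgSp.Points X.obj) {U₀ : Over S}
    (a₀ : (AlgSp.yon S).obj U₀ ⟶ X.obj) (u₀ : ↥U₀.left) (h₀ : AlgSp.IsElemEtaleNbhd a₀ u₀ x)
    (R : Type u) [CommRing R] [IsLocalRing R] [Algebra ↥(U₀.left.presheaf.stalk u₀) R]
    [IsLocalHom (algebraMap ↥(U₀.left.presheaf.stalk u₀) R)] [Hensel.IsHenselization ↥(U₀.left.presheaf.stalk u₀) R] :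
    ((∀ (U : Over S) (a : (AlgSp.yon S).obj U ⟶ X.obj) (u : ↥U.left), AlgSp.IsElemEtaleNbhd a u x →
        CAlgX.HasUniqueMinimalPrime ↥(U.left.presheaf.stalk u)) ↔
      (∀ (U : Over S) (a : (AlgSp.yon S).obj U ⟶ X.obj) (u : ↥U.left), AlgSp.IsElemEtaleNbhd a u x →
        {Z : Set ↥U.left | Z ∈ irreducibleComponents ↥U.left ∧ u ∈ Z}.encard = 1)) ∧
    ((∀ (U : Over S) (a : (AlgSp.yon S).obj U ⟶ X.obj) (u : ↥U.left), AlgSp.IsElemEtaleNbhd a u x →
        {Z : Set ↥U.left | Z ∈ irreducibleComponents ↥U.left ∧ u ∈ Z}.encard = 1) ↔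
      (∀ (U : Over S) (a : (AlgSp.yon S).obj U ⟶ X.obj) (u : ↥U.left), AlgSp.IsElemEtaleNbhd a u x →
        CAlg2.IsUnibranch ↥(U.left.presheaf.stalk u))) ∧
    ((∀ (U : Over S) (a : (AlgSp.yon S).obj U ⟶ X.obj) (u : ↥U.left), AlgSp.IsElemEtaleNbhd a u x →
        CAlg2.IsUnibranch ↥(U.left.presheaf.stalk u)) ↔ CAlgX.HasUniqueMinimalPrime R) := by
  exact main X hX x a₀ u₀ h₀ R

end Groth.Agent.S10441
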