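import Groth.Statements.S10442
import Groth.Agent.S10441
import Groth.Agent.S9237
import Groth.Agent.Lib.Helper1.BranchCount

set_option autoImplicit false
universe u
open CategoryTheory CategoryTheory.Limits AlgebraicGeometry Topology TopologicalSpace
open AlgSp

namespace Groth.Agent.S10442

open Groth.Agent.H1.ElemNbhd Groth.Agent.H1.EssEtStalk Groth.Agent.Lib.helper11
open Groth.Agent.H1.BranchCount Groth.Agent.Lib.helper24.Henselization

variable {S : Scheme.{u}}

/-- The henselizations of the local rings of two elementary étale neighbourhoods of `(X, x)` have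
the same number of minimal primes. -/
theorem encard_hens_eq (X : AlgSp.Space S) (hX : AlgSp.IsDecent X.obj) (x : AlgSp.Points X.obj)
    {U₀ U : Over S} (a₀ : (AlgSp.yon S).obj U₀ ⟶ X.obj) (u₀ : ↥U₀.left)
    (h₀ : AlgSp.IsElemEtaleNbhd a₀ u₀ x)
    (a : (AlgSp.yon S).obj U ⟶ X.obj) (u : ↥U.left) (hu : AlgSp.IsElemEtaleNbhd a u x)
    (R : Type u) [CommRing R] [IsLocalRing R] [Algebra ↥(U₀.left.presheaf.stalk u₀) R]
    [IsLocalHom (algebraMap ↥(U₀.left.presheaf.stalk u₀) R)]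
    [Hensel.IsHenselization ↥(U₀.left.presheaf.stalk u₀) R]
    (R' : Type u) [CommRing R'] [IsLocalRing R'] [Algebra ↥(U.left.presheaf.stalk u) R']
    [IsLocalHom (algebraMap ↥(U.left.presheaf.stalk u) R')]
    [Hensel.IsHenselization ↥(U.left.presheaf.stalk u) R'] :
    (minimalPrimes R').encard = (minimalPrimes R).encard := by
  obtain ⟨U'', a'', v, k₁, k₂, hv, hk₁, hk₂, hk₁v, hk₂v⟩ := dominate X x a a₀ u u₀ hu h₀
  subst hk₁v
  subst hk₂v
  let H := Hens (U''.left.presheaf.stalk v)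
  have e1 : (minimalPrimes H).encard = (minimalPrimes R).encard := by
    letI : Algebra ↥(U₀.left.presheaf.stalk (k₂.left.base v)) H :=
      ((algebraMap ↥(U''.left.presheaf.stalk v) H).comp (k₂.left.stalkMap v).hom).toAlgebra
    obtain ⟨hloc, hhens⟩ := Groth.Agent.S10440.main X hX x a₀ a'' k₂ v hk₂ h₀ hv H
    obtain ⟨e⟩ := exists_algEquiv (U₀.left.presheaf.stalk (k₂.left.base v)) H R
    exact encard_minimalPrimes_of_ringEquiv e.toRingEquiv
  have e2 : (minimalPrimes H).encard = (minimalPrimes R').encard := by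
    letI : Algebra ↥(U.left.presheaf.stalk (k₁.left.base v)) H :=
      ((algebraMap ↥(U''.left.presheaf.stalk v) H).comp (k₁.left.stalkMap v).hom).toAlgebra
    obtain ⟨hloc, hhens⟩ := Groth.Agent.S10440.main X hX x a a'' k₁ v hk₁ hu hv H
    obtain ⟨e⟩ := exists_algEquiv (U.left.presheaf.stalk (k₁.left.base v)) H R'
    exact encard_minimalPrimes_of_ringEquiv e.toRingEquiv
  rw [← e2, e1]

theorem main (X : AlgSp.Space S)
    (hX : AlgSp.IsDecent X.obj) (x : AlgSp.Points X.obj) (n : ℕ) (hn : 1 ≤ n) {U₀ : Over S}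
    (a₀ : (AlgSp.yon S).obj U₀ ⟶ X.obj) (u₀ : ↥U₀.left) (h₀ : AlgSp.IsElemEtaleNbhd a₀ u₀ x)
    (R : Type u) [CommRing R] [IsLocalRing R] [Algebra ↥(U₀.left.presheaf.stalk u₀) R]
    [IsLocalHom (algebraMap ↥(U₀.left.presheaf.stalk u₀) R)] [Hensel.IsHenselization ↥(U₀.left.presheaf.stalk u₀) R] :
    (((∀ (U : Over S) (a : (AlgSp.yon S).obj U ⟶ X.obj) (u : ↥U.left), AlgSp.IsElemEtaleNbhd a u x →
        (minimalPrimes ↥(U.left.presheaf.stalk u)).encard ≤ n) ∧
      (∃ (U : Over S) (a : (AlgSp.yon S).obj U ⟶ X.obj) (u : ↥U.left), AlgSp.IsElemEtaleNbhd a u x ∧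
        (minimalPrimes ↥(U.left.presheaf.stalk u)).encard = n)) ↔
     ((∀ (U : Over S) (a : (AlgSp.yon S).obj U ⟶ X.obj) (u : ↥U.left), AlgSp.IsElemEtaleNbhd a u x →
        {Z : Set ↥U.left | Z ∈ irreducibleComponents ↥U.left ∧ u ∈ Z}.encard ≤ n) ∧
      (∃ (U : Over S) (a : (AlgSp.yon S).obj U ⟶ X.obj) (u : ↥U.left), AlgSp.IsElemEtaleNbhd a u x ∧
        {Z : Set ↥U.left | Z ∈ irreducibleComponents ↥U.left ∧ u ∈ Z}.encard = n))) ∧
    (((∀ (U : Over S) (a : (AlgSp.yon S).obj U ⟶ X.obj) (u : ↥U.left), AlgSp.IsElemEtaleNbhd a u x →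
        {Z : Set ↥U.left | Z ∈ irreducibleComponents ↥U.left ∧ u ∈ Z}.encard ≤ n) ∧
      (∃ (U : Over S) (a : (AlgSp.yon S).obj U ⟶ X.obj) (u : ↥U.left), AlgSp.IsElemEtaleNbhd a u x ∧
        {Z : Set ↥U.left | Z ∈ irreducibleComponents ↥U.left ∧ u ∈ Z}.encard = n)) ↔
     ((∀ (U : Over S) (a : (AlgSp.yon S).obj U ⟶ X.obj) (u : ↥U.left), AlgSp.IsElemEtaleNbhd a u x →
        Brnch.numBranchesAt U.left u ≤ n) ∧
      (∃ (U : Over S) (a : (AlgSp.yon S).obj U ⟶ X.obj) (u : ↥U.left), AlgSp.IsElemEtaleNbhd a u x ∧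
        Brnch.numBranchesAt U.left u = n))) ∧
    (((∀ (U : Over S) (a : (AlgSp.yon S).obj U ⟶ X.obj) (u : ↥U.left), AlgSp.IsElemEtaleNbhd a u x →
        Brnch.numBranchesAt U.left u ≤ n) ∧
      (∃ (U : Over S) (a : (AlgSp.yon S).obj U ⟶ X.obj) (u : ↥U.left), AlgSp.IsElemEtaleNbhd a u x ∧
        Brnch.numBranchesAt U.left u = n)) ↔
     (minimalPrimes R).encard = n) := by
  -- Fact 1: minimal primes of the local ring = components through the point
  have F1 : ∀ (U : Over S) (u : ↥U.left),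
      (minimalPrimes ↥(U.left.presheaf.stalk u)).encard =
        {Z : Set ↥U.left | Z ∈ irreducibleComponents ↥U.left ∧ u ∈ Z}.encard :=
    fun U u => encard_minimalPrimes_stalk_eq U.left u
  -- Fact 2: the branch number is the number of minimal primes of `R`
  have F2 : ∀ (U : Over S) (a : (AlgSp.yon S).obj U ⟶ X.obj) (u : ↥U.left),
      AlgSp.IsElemEtaleNbhd a u x → Brnch.numBranchesAt U.left u = (minimalPrimes R).encard := by
    intro U a u hu
    have h1 := Groth.Agent.S9237.result (U.left.presheaf.stalk u) (Hens (U.left.presheaf.stalk u))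
    have h2 := encard_hens_eq X hX x a₀ u₀ h₀ a u hu R (Hens (U.left.presheaf.stalk u))
    show Brnch.numBranches (U.left.presheaf.stalk u) = _
    rw [← h1, ← h2]
    rfl
  -- Fact 3: the local ring has at most as many minimal primes as `R`
  have F3 : ∀ (U : Over S) (a : (AlgSp.yon S).obj U ⟶ X.obj) (u : ↥U.left),
      AlgSp.IsElemEtaleNbhd a u x →
        (minimalPrimes ↥(U.left.presheaf.stalk u)).encard ≤ (minimalPrimes R).encard := by
    intro U a u hu
    have h2 := encard_hens_eq X hX x a₀ u₀ h₀ a u hu R (Hens (U.left.presheaf.stalk u))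
    rw [← h2]
    haveI := faithfullyFlat_of_isHenselization (U.left.presheaf.stalk u)
      (Hens (U.left.presheaf.stalk u))
    exact encard_minimalPrimes_le_of_faithfullyFlat _ _
  -- Fact 4: the number of minimal primes of `R` is approximated by neighbourhoods
  have F4 : ∀ j : ℕ, (j : ℕ∞) ≤ (minimalPrimes R).encard →
      ∃ (U : Over S) (a : (AlgSp.yon S).obj U ⟶ X.obj) (u : ↥U.left),
        AlgSp.IsElemEtaleNbhd a u x ∧ (j : ℕ∞) ≤ (minimalPrimes ↥(U.left.presheaf.stalk u)).encard := by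
    intro j hj
    have h2 := encard_hens_eq X hX x a₀ u₀ h₀ a₀ u₀ h₀ R (Hens (U₀.left.presheaf.stalk u₀))
    rw [← h2] at hj
    obtain ⟨i, hi⟩ := exists_idx_le_encard j hj
    obtain ⟨W, g, w, hg, ⟨e⟩⟩ := exists_etaleNbhd_stalk_equiv U₀.left u₀ i
    refine ⟨Over.mk (g ≫ U₀.hom), _, w, Groth.Agent.S10441.isElem_of_etaleNbhd a₀ u₀ h₀ g w hg, ?_⟩
    show (j : ℕ∞) ≤ (minimalPrimes ↥(W.presheaf.stalk w)).encard
    rw [encard_minimalPrimes_of_ringEquiv e]
    exact hi
  -- the middle statement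
  have K : ((∀ (U : Over S) (a : (AlgSp.yon S).obj U ⟶ X.obj) (u : ↥U.left), AlgSp.IsElemEtaleNbhd a u x →
        (minimalPrimes ↥(U.left.presheaf.stalk u)).encard ≤ n) ∧
      (∃ (U : Over S) (a : (AlgSp.yon S).obj U ⟶ X.obj) (u : ↥U.left), AlgSp.IsElemEtaleNbhd a u x ∧
        (minimalPrimes ↥(U.left.presheaf.stalk u)).encard = n)) ↔ (minimalPrimes R).encard = n := by
    constructor
    · rintro ⟨hall, U, a, u, hu, hun⟩
      apply le_antisymm
      · by_contra hcon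
        push Not at hcon
        have h1 : ((n + 1 : ℕ) : ℕ∞) ≤ (minimalPrimes R).encard := by
          have := Order.add_one_le_of_lt hcon
          exact_mod_cast this
        obtain ⟨U', a', u', hu', hle⟩ := F4 (n + 1) h1
        have h2 := hall U' a' u' hu'
        have h3 : ((n + 1 : ℕ) : ℕ∞) ≤ (n : ℕ∞) := hle.trans h2
        have h4 : n + 1 ≤ n := by exact_mod_cast h3
        omega
      · rw [← hun]
        exact F3 U a u hu
    · intro hM
      refine ⟨fun U a u hu => hM ▸ F3 U a u hu, ?_⟩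
      obtain ⟨U, a, u, hu, hle⟩ := F4 n hM.ge
      exact ⟨U, a, u, hu, le_antisymm (hM ▸ F3 U a u hu) hle⟩
  have K3 : ((∀ (U : Over S) (a : (AlgSp.yon S).obj U ⟶ X.obj) (u : ↥U.left), AlgSp.IsElemEtaleNbhd a u x →
        Brnch.numBranchesAt U.left u ≤ n) ∧
      (∃ (U : Over S) (a : (AlgSp.yon S).obj U ⟶ X.obj) (u : ↥U.left), AlgSp.IsElemEtaleNbhd a u x ∧
        Brnch.numBranchesAt U.left u = n)) ↔
     (minimalPrimes R).encard = n := by
    constructor
    · rintro ⟨-, U, a, u, hu, hun⟩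
      rw [← F2 U a u hu]
      exact hun
    · intro hM
      refine ⟨fun U a u hu => ?_, U₀, a₀, u₀, h₀, ?_⟩
      · rw [F2 U a u hu, hM]
      · rw [F2 U₀ a₀ u₀ h₀, hM]
  have K2 : ((∀ (U : Over S) (a : (AlgSp.yon S).obj U ⟶ X.obj) (u : ↥U.left), AlgSp.IsElemEtaleNbhd a u x →
        {Z : Set ↥U.left | Z ∈ irreducibleComponents ↥U.left ∧ u ∈ Z}.encard ≤ n) ∧
      (∃ (U : Over S) (a : (AlgSp.yon S).obj U ⟶ X.obj) (u : ↥U.left), AlgSp.IsElemEtaleNbhd a u x ∧
        {Z : Set ↥U.left | Z ∈ irreducibleComponents ↥U.left ∧ u ∈ Z}.encard = n)) ↔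
      (minimalPrimes R).encard = n := by
    rw [← K]
    constructor
    · rintro ⟨hall, U, a, u, hu, hun⟩
      exact ⟨fun U' a' u' hu' => (F1 U' u').symm ▸ hall U' a' u' hu', U, a, u, hu, (F1 U u).symm ▸ hun⟩
    · rintro ⟨hall, U, a, u, hu, hun⟩
      exact ⟨fun U' a' u' hu' => (F1 U' u') ▸ hall U' a' u' hu', U, a, u, hu, (F1 U u) ▸ hun⟩
  exact ⟨K.trans K2.symm, K2.trans K3.symm, K3⟩

/-- For a decent algebraic space X over a scheme S, x ∈ |X| and n ≥ 1, fix an elementary etale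
neighbourhood (U₀, u₀) of (X, x) and a henselization R of O_{U₀, u₀} (a model of the henselian local
ring at x). The following are equivalent: (1) over all elementary etale neighbourhoods (U, u) of (X,
x), O_{U, u} has at most n minimal primes, with the value n attained; (2) the same for the number of
irreducible components of U through u; (3) the same for the branch number of U at u; (4) R has
exactly n minimal primes. -/
theorem result {S : Scheme.{u}} (X : AlgSp.Space S)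
    (hX : AlgSp.IsDecent X.obj) (x : AlgSp.Points X.obj) (n : ℕ) (hn : 1 ≤ n) {U₀ : Over S}
    (a₀ : (AlgSp.yon S).obj U₀ ⟶ X.obj) (u₀ : ↥U₀.left) (h₀ : AlgSp.IsElemEtaleNbhd a₀ u₀ x)
    (R : Type u) [CommRing R] [IsLocalRing R] [Algebra ↥(U₀.left.presheaf.stalk u₀) R]
    [IsLocalHom (algebraMap ↥(U₀.left.presheaf.stalk u₀) R)] [Hensel.IsHenselization ↥(U₀.left.presheaf.stalk u₀) R] :
    (((∀ (U : Over S) (a : (AlgSp.yon S).obj U ⟶ X.obj) (u : ↥U.left), AlgSp.IsElemEtaleNbhd a u x →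
        (minimalPrimes ↥(U.left.presheaf.stalk u)).encard ≤ n) ∧
      (∃ (U : Over S) (a : (AlgSp.yon S).obj U ⟶ X.obj) (u : ↥U.left), AlgSp.IsElemEtaleNbhd a u x ∧
        (minimalPrimes ↥(U.left.presheaf.stalk u)).encard = n)) ↔
     ((∀ (U : Over S) (a : (AlgSp.yon S).obj U ⟶ X.obj) (u : ↥U.left), AlgSp.IsElemEtaleNbhd a u x →
        {Z : Set ↥U.left | Z ∈ irreducibleComponents ↥U.left ∧ u ∈ Z}.encard ≤ n) ∧
      (∃ (U : Over S) (a : (AlgSp.yon S).obj U ⟶ X.obj) (u : ↥U.left), AlgSp.IsElemEtaleNbhd a u x ∧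
        {Z : Set ↥U.left | Z ∈ irreducibleComponents ↥U.left ∧ u ∈ Z}.encard = n))) ∧
    (((∀ (U : Over S) (a : (AlgSp.yon S).obj U ⟶ X.obj) (u : ↥U.left), AlgSp.IsElemEtaleNbhd a u x →
        {Z : Set ↥U.left | Z ∈ irreducibleComponents ↥U.left ∧ u ∈ Z}.encard ≤ n) ∧
      (∃ (U : Over S) (a : (AlgSp.yon S).obj U ⟶ X.obj) (u : ↥U.left), AlgSp.IsElemEtaleNbhd a u x ∧
        {Z : Set ↥U.left | Z ∈ irreducibleComponents ↥U.left ∧ u ∈ Z}.encard = n)) ↔
     ((∀ (U : Over S) (a : (AlgSp.yon S).obj U ⟶ X.obj) (u : ↥U.left), AlgSp.IsElemEtaleNbhd a u x →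
        Brnch.numBranchesAt U.left u ≤ n) ∧
      (∃ (U : Over S) (a : (AlgSp.yon S).obj U ⟶ X.obj) (u : ↥U.left), AlgSp.IsElemEtaleNbhd a u x ∧
        Brnch.numBranchesAt U.left u = n))) ∧
    (((∀ (U : Over S) (a : (AlgSp.yon S).obj U ⟶ X.obj) (u : ↥U.left), AlgSp.IsElemEtaleNbhd a u x →
        Brnch.numBranchesAt U.left u ≤ n) ∧
      (∃ (U : Over S) (a : (AlgSp.yon S).obj U ⟶ X.obj) (u : ↥U.left), AlgSp.IsElemEtaleNbhd a u x ∧
        Brnch.numBranchesAt U.left u = n)) ↔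
     (minimalPrimes R).encard = n) := by
  exact main X hX x n hn a₀ u₀ h₀ R

end Groth.Agent.S10442
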