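import Groth.Statements.S10443
import Groth.Agent.Lib.Helper1.DecentDim
import Groth.Agent.S9684

set_option autoImplicit false
universe u
open CategoryTheory CategoryTheory.Limits AlgebraicGeometry Topology TopologicalSpace
open AlgSp

namespace Groth.Agent.S10443

open Groth.Agent.H1.DecentDim Groth.Agent.Lib.helper11 in
theorem main {S : Scheme.{u}} (δ : ↥S → ℤ) (hS : Cyc.IsSetup S δ)
    (X : AlgSp.Space S) (hX : AlgSp.IsDecent X.obj) {U : Over S} (a : (AlgSp.yon S).obj U ⟶ X.obj)
    (ha : AlgSp.RepWith @Etale a) (hs : AlgSp.RepWith @Surjective a) [LocallyOfFiniteType U.hom]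
    (δX : AlgSp.Points X.obj → ℤ) (hδ : Cyc.DeltaCompat U.hom (δX ∘ AlgSp.Points.ofPt a) δ) :
    ∀ x y : AlgSp.Points X.obj, x ⤳ y → x ≠ y →
      δX y < δX x ∧ ((∀ z : AlgSp.Points X.obj, x ⤳ z → z ⤳ y → z = x ∨ z = y) → δX x = δX y + 1) := by
  have hdim : Cyc.IsDimFun U.left (δX ∘ AlgSp.Points.ofPt a) :=
    Groth.Agent.S9684.result U.hom δ hS _ hδ
  have hg := genLift_ofPt X hX a ha
  intro x y hxy hne
  obtain ⟨u', rfl⟩ := surjective_ofPt a hs y
  obtain ⟨u, hu, rfl⟩ := hg.lift u' x hxy
  have hne' : u ≠ u' := fun h => hne (by rw [h])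
  obtain ⟨h1, h2⟩ := hdim u u' hu hne'
  refine ⟨h1, fun himm => h2 ?_⟩
  intro w huw hwu'
  rcases himm (Points.ofPt a w) (huw.map hg.cont) (hwu'.map hg.cont) with h | h
  · left
    exact hg.inj w u huw h
  · right
    exact (hg.inj u' w hwu' h.symm).symm

/-- Let S be a locally Noetherian, universally catenary scheme carrying a dimension function δ, and X a
decent algebraic space over S that is locally of finite type over S. Define δ_X : |X| → ℤ by δ_X(x)
= δ(s) + (transcendence degree of x over s), s the image of x in S; concretely, for an etale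
surjective chart U ⟶ X with U locally of finite type over S, the composite of δ_X with |U| → |X| is
the function induced from δ along U ⟶ S. Then δ_X is a dimension function: strictly decreasing along
nontrivial specializations, and dropping by one along immediate ones. -/
theorem result {S : Scheme.{u}} (δ : ↥S → ℤ) (hS : Cyc.IsSetup S δ)
    (X : AlgSp.Space S) (hX : AlgSp.IsDecent X.obj) {U : Over S} (a : (AlgSp.yon S).obj U ⟶ X.obj)
    (ha : AlgSp.RepWith @Etale a) (hs : AlgSp.RepWith @Surjective a) [LocallyOfFiniteType U.hom]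
    (δX : AlgSp.Points X.obj → ℤ) (hδ : Cyc.DeltaCompat U.hom (δX ∘ AlgSp.Points.ofPt a) δ) :
    ∀ x y : AlgSp.Points X.obj, x ⤳ y → x ≠ y →
      δX y < δX x ∧ ((∀ z : AlgSp.Points X.obj, x ⤳ z → z ⤳ y → z = x ∨ z = y) → δX x = δX y + 1) := by
  exact main δ hS X hX a ha hs δX hδ

end Groth.Agent.S10443
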