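import Groth.Statements.S10446
import Groth.Agent.Lib.Helper1.GenFinG
import Groth.Agent.S10398

set_option autoImplicit false
universe u
open CategoryTheory CategoryTheory.Limits AlgebraicGeometry Topology TopologicalSpace
open AlgSp

namespace Groth.Agent.S10446

open Groth.Agent.Lib.helper5 Groth.Agent.Lib.helper5.NearLocus Groth.Agent.Lib.helper5.LqfLocus
open Groth.Agent.H1.GenFin Groth.Agent.Lib.helper15.AlgSpDiag

/-- With finite fibre over `y`, `f` is quasi-finite at every point over `y`. -/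
theorem hasAtMor_of_finite_fibre {S : Scheme.{u}} [QuasiSeparatedSpace ↥S] {X Y : AlgSp.Space S}
    (f : X ⟶ Y) (hqs : AlgSp.IsQuasiSeparatedMor f.hom) (hft : AlgSp.LocP @LocallyOfFiniteType f.hom)
    (hY : AlgSp.IsQuasiSeparatedSp Y.obj) (y : AlgSp.Points Y.obj)
    (hF : (AlgSp.Points.map f.hom ⁻¹' {y}).Finite) (x : Points X.obj)
    (hx : Points.map f.hom x = y) : HasAtMor (NearAt Plqf) f.hom x := by
  obtain ⟨U, V, a, b, h, u, hae, hbe, hc, hu⟩ :=
    LocPFam.exists_chart_at_point X.property Y.property f.hom x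
  obtain ⟨_, ⟨O, hO, rfl⟩, huO, -⟩ := U.left.isBasis_affineOpens.exists_subset_of_mem_open
    (Set.mem_univ u) isOpen_univ
  let U₀ : Over S := OpenSub.subOver U O
  haveI : IsAffine U₀.left := hO
  let a₀ : (yon S).obj U₀ ⟶ X.obj := (yon S).map (OpenSub.subOverι U O) ≫ a
  let h₀ : U₀ ⟶ V := OpenSub.subOverι U O ≫ h
  let u₀ : U₀.left := ⟨u, huO⟩
  have ha₀e : RepWith @Etale a₀ :=
    (RepWith (S := S) @Etale).comp_mem _ _
      ((repWith_yon_map_iff @Etale _).2 (inferInstanceAs (Etale (Scheme.Opens.ι O)))) hae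
  have hc₀ : a₀ ≫ f.hom = (yon S).map h₀ ≫ b := by
    show ((yon S).map (OpenSub.subOverι U O) ≫ a) ≫ f.hom = (yon S).map (OpenSub.subOverι U O ≫ h) ≫ b
    rw [Category.assoc, hc, Functor.map_comp, Category.assoc]
  have hu₀ : Points.ofPt a₀ u₀ = x := by
    show Points.ofPt ((yon S).map (OpenSub.subOverι U O) ≫ a) u₀ = x
    rw [Groth.Agent.Lib.helper11.ofPt_yon_map_comp]
    exact hu
  haveI : LocallyOfFiniteType h₀.left := hft a₀ b h₀ ha₀e hbe hc₀
  have hmapf : ∀ u' : U₀.left, Points.map f.hom (Points.ofPt a₀ u') = Points.ofPt b (h₀.left u') := by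
    intro u'
    rw [Points.map_ofPt, hc₀, Groth.Agent.Lib.helper11.ofPt_yon_map_comp]
  have hfib : (h₀.left ⁻¹' {h₀.left u₀}).Finite := by
    have hbig : (⋃ x' ∈ (AlgSp.Points.map f.hom ⁻¹' {y}), Points.ofPt a₀ ⁻¹' {x'}).Finite :=
      hF.biUnion (fun x' _ => finite_preimage_ofPt X.property Y.property f.hom hqs hY a₀ ha₀e x')
    refine hbig.subset ?_
    intro u' hu'
    have h1 : Points.map f.hom (Points.ofPt a₀ u') = y := by
      rw [hmapf, hu', ← hmapf, hu₀, hx]
    exact Set.mem_biUnion h1 rfl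
  have hq : h₀.left.QuasiFiniteAt u₀ := quasiFiniteAt_of_finite_fibre h₀.left u₀ hfib
  exact ⟨U₀, V, a₀, b, h₀, u₀, ha₀e, hbe, hc₀, hu₀,
    ⟨h₀.left.quasiFiniteLocus, hq, inferInstance, inferInstance⟩⟩

theorem main {S : Scheme.{u}} [QuasiSeparatedSpace ↥S] {X Y : AlgSp.Space S}
    (f : X ⟶ Y) (hqs : AlgSp.IsQuasiSeparatedMor f.hom) (hft : AlgSp.LocP @LocallyOfFiniteType f.hom)
    (hY : AlgSp.IsQuasiSeparatedSp Y.obj) (y : AlgSp.Points Y.obj)
    (hy : AlgSp.HasAt (fun U u => ringKrullDim ↥(U.presheaf.stalk u) = 0) Y.obj y) :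
    (AlgSp.Points.map f.hom ⁻¹' {y}).Finite ↔
      ∃ (X' Y' : AlgSp.Space S) (i : X' ⟶ X) (j : Y' ⟶ Y) (f' : X' ⟶ Y'),
        AlgSp.RepWith @IsOpenImmersion i.hom ∧
        AlgSp.RepWith @IsOpenImmersion j.hom ∧ f' ≫ j = i ≫ f ∧
        y ∈ Set.range (AlgSp.Points.map j.hom) ∧
          AlgSp.Points.map f.hom ⁻¹' {y} ⊆ Set.range (AlgSp.Points.map i.hom) ∧
          AlgSp.IsFiniteMor f'.hom := by
  constructor
  · intro hF
    haveI : Finite ↥(AlgSp.Points.map f.hom ⁻¹' {y}) := hF.to_subtype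
    -- affine charts through the points of the fibre
    have hch : ∀ x : ↥(AlgSp.Points.map f.hom ⁻¹' {y}), ∃ (U : Over S) (a : (yon S).obj U ⟶ X.obj)
        (u : ↥U.left), IsAffine U.left ∧ RepWith @Etale a ∧ Points.ofPt a u = x.1 := by
      intro x
      obtain ⟨U, p, u, hpe, -, hu⟩ := Groth.Agent.Lib.helper11.exists_chart_ofPt X x.1
      obtain ⟨_, ⟨O, hO, rfl⟩, huO, -⟩ := U.left.isBasis_affineOpens.exists_subset_of_mem_open
        (Set.mem_univ u) isOpen_univ
      refine ⟨OpenSub.subOver U O, (yon S).map (OpenSub.subOverι U O) ≫ p, ⟨u, huO⟩, hO, ?_, ?_⟩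
      · exact (RepWith (S := S) @Etale).comp_mem _ _
          ((repWith_yon_map_iff @Etale _).2 (inferInstanceAs (Etale (Scheme.Opens.ι O)))) hpe
      · rw [Groth.Agent.Lib.helper11.ofPt_yon_map_comp]
        exact hu
    choose U a u hUaff hae hu using hch
    set Ω : Set (Points X.obj) := ⋃ x, Set.range (Points.ofPt (a x)) with hΩdef
    have hΩ : IsOpen Ω := isOpen_iUnion fun x => by
      rw [← Set.image_univ]
      exact Groth.Agent.Lib.helper11.isOpenMap_ofPt (a x) (hae x) _ isOpen_univ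
    have hX' : IsAlgSpace (OpenSub.sub X.obj Ω) := OpenSub.isAlgSpace_sub X.property hΩ
    have hι : RepWith @IsOpenImmersion (OpenSub.ι X.obj Ω) := OpenSub.repWith_ι X.obj hΩ
    have hιe : RepWith @Etale (OpenSub.ι X.obj Ω) :=
      Groth.Agent.S10194.repWith_mono
        (fun _ _ g hg => by have : IsOpenImmersion g := hg; exact inferInstanceAs (Etale g)) hι
    have hinj : Function.Injective (Points.map (OpenSub.ι X.obj Ω)) :=
      Groth.Agent.S10196.injective_map_of_mono _
    -- compactness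
    have hmem : ∀ x t, Points.ofPt (a x) t ∈ Ω := fun x t => Set.mem_iUnion.2 ⟨x, t, rfl⟩
    haveI : CompactSpace (Points (OpenSub.sub X.obj Ω)) := by
      constructor
      have hcov : (Set.univ : Set (Points (OpenSub.sub X.obj Ω))) =
          ⋃ x, Set.range (Points.ofPt (OpenSub.lift (a x) (hmem x))) := by
        apply Set.eq_univ_iff_forall.2 ?_ |>.symm
        intro p
        have hp : Points.map (OpenSub.ι X.obj Ω) p ∈ Ω :=
          (OpenSub.range_map_ι X.obj Ω).le ⟨p, rfl⟩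
        obtain ⟨x, t, ht⟩ := Set.mem_iUnion.1 hp
        refine Set.mem_iUnion.2 ⟨x, t, hinj ?_⟩
        rw [Points.map_ofPt, OpenSub.lift_ι]
        exact ht
      rw [hcov]
      refine isCompact_iUnion fun x => ?_
      haveI : IsAffine (U x).left := hUaff x
      exact isCompact_range (Points.continuous_ofPt _)
    have hqcX' : IsQuasiCompactSp (OpenSub.sub X.obj Ω) :=
      Groth.Agent.Lib.helper7.AlgSpFibre.isQuasiCompactSp_of_compactSpace hX'.atlas
    let X's : Space S := ⟨OpenSub.sub X.obj Ω, hX'⟩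
    let ιs : X's ⟶ X := ObjectProperty.homMk (OpenSub.ι X.obj Ω)
    have hqc' : IsQuasiCompactMor (ιs ≫ f).hom :=
      Groth.Agent.S9920.main hX' Y.property _ hqcX' hY
    have hlft' : LocP @LocallyOfFiniteType (ιs ≫ f).hom := by
      intro U₁ V₁ a₁ b₁ h₁ ha₁e hb₁e hc₁
      refine hft (a₁ ≫ OpenSub.ι X.obj Ω) b₁ h₁ ((RepWith (S := S) @Etale).comp_mem _ _ ha₁e hιe)
        hb₁e ?_
      rw [Category.assoc]; exact hc₁
    have hqs' : IsQuasiSeparatedMor (ιs ≫ f).hom :=
      (repWith_isStableUnderBaseChange (S := S) @QuasiCompact).of_isPullback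
        (isPullback_diagonal_mono_comp (OpenSub.ι X.obj Ω) f.hom).flip hqs
    have hqf' : ∀ x' : Points X's.obj, Points.map (ιs ≫ f).hom x' = y →
        HasAtMor (NearAt Plqf) (ιs ≫ f).hom x' := by
      intro x' hx'
      refine hasAtMor_comp_openImm etLocal_lqf (OpenSub.ι X.obj Ω) hι f.hom x' ?_
      refine hasAtMor_of_finite_fibre f hqs hft hY y hF _ ?_
      rw [← Points.map_comp]; exact hx'
    obtain ⟨Y'', X'', j, fst, snd, hj, hyj, hsq, hfin⟩ :=
      Groth.Agent.S10398.main (ιs ≫ f) hqs' ⟨hlft', hqc'⟩ y hy hqf'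
    refine ⟨X'', Y'', snd ≫ ιs, j, fst, ?_, hj, ?_, hyj, ?_, hfin⟩
    · exact (RepWith (S := S) @IsOpenImmersion).comp_mem _ _
        ((repWith_isStableUnderBaseChange (S := S) @IsOpenImmersion).of_isPullback hsq hj) hι
    · apply ObjectProperty.hom_ext
      have := hsq.w
      simpa using this
    · intro x hx
      have hxΩ : x ∈ Ω := Set.mem_iUnion.2 ⟨⟨x, hx⟩, u ⟨x, hx⟩, hu ⟨x, hx⟩⟩
      obtain ⟨x', rfl⟩ := (OpenSub.range_map_ι X.obj Ω).ge hxΩ
      obtain ⟨y'', hy''⟩ := hyj
      have h1 : Points.map (ιs ≫ f).hom x' = Points.map j.hom y'' := by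
        rw [hy'']
        show Points.map (OpenSub.ι X.obj Ω ≫ f.hom) x' = y
        rw [Points.map_comp]; exact hx
      obtain ⟨w, hw1, -⟩ := Groth.Agent.Lib.helper10.exists_point_of_isPullback hsq.flip x' y'' h1
      refine ⟨w, ?_⟩
      show Points.map (snd.hom ≫ OpenSub.ι X.obj Ω) w = _
      rw [Points.map_comp, hw1]
  · rintro ⟨X', Y', i, j, f', hi, hj, hcomm, ⟨y', rfl⟩, hsub, hfin⟩
    haveI : Mono j.hom := Groth.Agent.S9928.mono_of_repWith_mono _
      (Groth.Agent.S10194.repWith_mono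
        (fun _ _ g hg => by have : IsOpenImmersion g := hg; exact inferInstanceAs (IsImmersion g)) hj)
    have hinj := Groth.Agent.S10196.injective_map_of_mono j.hom
    refine ((finite_fibre_of_isFiniteMor f'.hom hfin y').image (Points.map i.hom)).subset ?_
    intro x hx
    obtain ⟨x', rfl⟩ := hsub hx
    refine ⟨x', ?_, rfl⟩
    apply hinj
    have h1 : Points.map j.hom (Points.map f'.hom x') = Points.map f.hom (Points.map i.hom x') := by
      rw [← Points.map_comp, ← Points.map_comp]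
      have : f'.hom ≫ j.hom = i.hom ≫ f.hom := congrArg (fun k => k.hom) hcomm
      rw [this]
    rw [h1]; exact hx

/-- (1) ⇔ (3): let S be a scheme with quasi-separated underlying space, f : X ⟶ Y a quasi-separated
morphism of algebraic spaces over S that is locally of finite type, with Y quasi-separated over S,
and y ∈ |Y| a point of codimension 0. Then |f|⁻¹(y) is finite if and only if f restricts to a finite
morphism X' ⟶ Y' between an open subspace X' of X containing the whole fibre |f|⁻¹(y) and an open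
subspace Y' of Y through y. (The published statement assumes Y quasi-separated in the absolute
sense; this row assumes S has quasi-separated underlying space and Y quasi-separated over S. Its
condition on the finiteness of |Spec k ×_Y X| is not part of this row.) -/
theorem result {S : Scheme.{u}} [QuasiSeparatedSpace ↥S] {X Y : AlgSp.Space S}
    (f : X ⟶ Y) (hqs : AlgSp.IsQuasiSeparatedMor f.hom) (hft : AlgSp.LocP @LocallyOfFiniteType f.hom)
    (hY : AlgSp.IsQuasiSeparatedSp Y.obj) (y : AlgSp.Points Y.obj)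
    (hy : AlgSp.HasAt (fun U u => ringKrullDim ↥(U.presheaf.stalk u) = 0) Y.obj y) :
    (AlgSp.Points.map f.hom ⁻¹' {y}).Finite ↔
      ∃ (X' Y' : AlgSp.Space S) (i : X' ⟶ X) (j : Y' ⟶ Y) (f' : X' ⟶ Y'), AlgSp.RepWith @IsOpenImmersion i.hom ∧
        AlgSp.RepWith @IsOpenImmersion j.hom ∧ f' ≫ j = i ≫ f ∧ y ∈ Set.range (AlgSp.Points.map j.hom) ∧
          AlgSp.Points.map f.hom ⁻¹' {y} ⊆ Set.range (AlgSp.Points.map i.hom) ∧ AlgSp.IsFiniteMor f'.hom := by
  exact main f hqs hft hY y hy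

end Groth.Agent.S10446
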