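import Groth.Statements.S10448
import Groth.Agent.Lib.Helper1.IntegralDim

set_option autoImplicit false
universe u
open CategoryTheory CategoryTheory.Limits AlgebraicGeometry Topology TopologicalSpace
open AlgSp

namespace Groth.Agent.S10448

open Groth.Agent.H1.DecentDim Groth.Agent.H1.IntegralDim Groth.Agent.Lib.helper11 in
theorem main {S : Scheme.{u}} {X Y : AlgSp.Space S} (f : X ⟶ Y)
    (hf : AlgSp.IsIntegralMor f.hom) : AlgSp.dim X.obj ≤ AlgSp.dim Y.obj := by
  unfold AlgSp.dim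
  refine iSup_le fun U => iSup_le fun a => iSup_le fun hae => ?_
  rw [topologicalKrullDim_eq_iSup_coheight]
  refine iSup_le fun u => ?_
  obtain ⟨V, b, v, hbe, -, hv⟩ := exists_chart_ofPt Y (Points.map f.hom (Points.ofPt a u))
  obtain ⟨Z, hZ, hvZ, -⟩ := exists_isAffineOpen_mem_and_subset (x := v) (U := ⊤) trivial
  have hZa : IsAffine (Z : Scheme.{u}) := hZ
  obtain ⟨hb0e, hpt⟩ := chart_comp b hbe Z.ι
  let V₀ : Over S := Over.mk (Z.ι ≫ V.hom)
  have hV₀ : IsAffine V₀.left := hZa
  obtain ⟨W, i, fst, sq, hWa, hint⟩ := hf hV₀ ((yon S).map (Over.homMk (U := V₀) Z.ι rfl) ≫ b)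
  have hfst : RepWith @Etale fst :=
    MorphismProperty.of_isPullback (P := RepWith @Etale) sq.flip hb0e
  have hxv : Points.map f.hom (Points.ofPt a u) =
      Points.ofPt ((yon S).map (Over.homMk (U := V₀) Z.ι rfl) ≫ b) ⟨v, hvZ⟩ := by
    rw [hpt]; exact hv.symm
  obtain ⟨w, hw1, hw2⟩ := exists_of_isPullback_scheme sq (Points.ofPt a u) ⟨v, hvZ⟩ hxv
  obtain ⟨P, snd, fst', sq'⟩ := hae.rep fst
  obtain ⟨φ, rfl⟩ := (yon S).map_surjective fst'
  have hsnd : Etale snd.left := hae.2 fst _ snd sq'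
  have hφ : Etale φ.left := hfst.2 a _ φ sq'.flip
  obtain ⟨p, hp1, hp2⟩ := exists_of_isPullback_schemes sq' u w hw1.symm
  have h1 := (genLift_of_etale φ.left).coheight_eq p
  have h2 := (genLift_of_etale snd.left).coheight_eq p
  rw [hp1] at h1
  rw [← h1, h2]
  have h3 := coheight_le_topologicalKrullDim W.left (snd.left p)
  have h4 : topologicalKrullDim W.left ≤ topologicalKrullDim V₀.left :=
    topologicalKrullDim_le_of_isIntegralHom i.left
  refine h3.trans (h4.trans ?_)
  exact le_iSup_of_le V₀ (le_iSup_of_le _ (le_iSup_of_le hb0e le_rfl))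

/-- For an integral morphism f : X ⟶ Y of algebraic spaces over a scheme S, the dimension of X is at
most the dimension of Y. -/
theorem result {S : Scheme.{u}} {X Y : AlgSp.Space S} (f : X ⟶ Y)
    (hf : AlgSp.IsIntegralMor f.hom) : AlgSp.dim X.obj ≤ AlgSp.dim Y.obj := by
  exact main f hf

end Groth.Agent.S10448
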