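import Groth.Statements.S10449
import Groth.Agent.Lib.Helper1.IntegralDim

set_option autoImplicit false
universe u
open CategoryTheory CategoryTheory.Limits AlgebraicGeometry Topology TopologicalSpace
open AlgSp

namespace Groth.Agent.S10449

open Groth.Agent.H1.DecentDim Groth.Agent.H1.IntegralDim Groth.Agent.Lib.helper11 in
theorem main {S : Scheme.{u}} {X Y : AlgSp.Space S} (f : X ⟶ Y)
    (hf : AlgSp.IsIntegralMor f.hom) (hs : AlgSp.IsSurjectiveMor f.hom) :
    AlgSp.dim Y.obj ≤ AlgSp.dim X.obj := by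
  unfold AlgSp.dim
  refine iSup_le fun V => iSup_le fun b => iSup_le fun hbe => ?_
  rw [topologicalKrullDim_eq_iSup_coheight]
  refine iSup_le fun v => ?_
  obtain ⟨Z, hZ, hvZ, -⟩ := exists_isAffineOpen_mem_and_subset (x := v) (U := ⊤) trivial
  have hZa : IsAffine (Z : Scheme.{u}) := hZ
  obtain ⟨hb0e, hpt⟩ := chart_comp b hbe Z.ι
  let V₀ : Over S := Over.mk (Z.ι ≫ V.hom)
  have hV₀ : IsAffine V₀.left := hZa
  obtain ⟨W, i, fst, sq, hWa, hint⟩ := hf hV₀ ((yon S).map (Over.homMk (U := V₀) Z.ι rfl) ≫ b)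
  have hfst : RepWith @Etale fst :=
    MorphismProperty.of_isPullback (P := RepWith @Etale) sq.flip hb0e
  have hsurj : Surjective i.left := ⟨fun z => by
    obtain ⟨x, hx⟩ := hs (Points.ofPt ((yon S).map (Over.homMk (U := V₀) Z.ι rfl) ≫ b) z)
    obtain ⟨w, -, hw⟩ := exists_of_isPullback_scheme sq x z hx
    exact ⟨w, hw⟩⟩
  have h1 := (genLift_of_etale Z.ι).coheight_eq ⟨v, hvZ⟩
  have h1' : (Z.ι : Z → V.left) ⟨v, hvZ⟩ = v := rfl
  rw [h1'] at h1
  rw [← h1]
  have h3 := coheight_le_topologicalKrullDim (Z : Scheme.{u}) ⟨v, hvZ⟩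
  have h4 : topologicalKrullDim W.left = topologicalKrullDim V₀.left :=
    topologicalKrullDim_eq_of_isIntegralHom_of_surjective i.left
  refine h3.trans (h4.ge.trans ?_)
  exact le_iSup_of_le W (le_iSup_of_le fst (le_iSup_of_le hfst le_rfl))

/-- For an integral surjective morphism f : X ⟶ Y of algebraic spaces over a scheme S, the dimension of
Y is at most the dimension of X (together with the inequality dim X ≤ dim Y, which holds for every
integral morphism, the two dimensions are equal). -/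
theorem result {S : Scheme.{u}} {X Y : AlgSp.Space S} (f : X ⟶ Y)
    (hf : AlgSp.IsIntegralMor f.hom) (hs : AlgSp.IsSurjectiveMor f.hom) :
    AlgSp.dim Y.obj ≤ AlgSp.dim X.obj := by
  exact main f hf hs

end Groth.Agent.S10449
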