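import Groth.Statements.S10450
import Groth.Agent.Lib.Helper1.CodimZeroSch
import Groth.Agent.Lib.Helper1.DimZeroSch
import Groth.Agent.Lib.Helper1.FieldDim
import Groth.Agent.S10185
import Groth.Agent.S10194

set_option autoImplicit false
universe u
open CategoryTheory CategoryTheory.Limits AlgebraicGeometry Topology TopologicalSpace
open AlgSp

namespace Groth.Agent.S10450

open Groth.Agent.H1.GenFin Groth.Agent.Lib.helper5 Groth.Agent.Lib.helper11

variable {S : Scheme.{u}}

/-- A scheme representing a quasi-separated algebraic space over a quasi-separated base is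
quasi-separated. -/
theorem quasiSeparatedSpace_of_iso_yon [QuasiSeparatedSpace S] (X : Space S)
    (hqs : IsQuasiSeparatedSp X.obj) (M : Over S) (e : (yon S).obj M ≅ X.obj) :
    QuasiSeparatedSpace M.left := by
  rw [quasiSeparatedSpace_iff_forall_affineOpens]
  intro A B
  haveI : IsAffine (OpenSub.subOver M A.1).left := A.2
  haveI : IsAffine (OpenSub.subOver M B.1).left := B.2
  obtain ⟨P, snd, fst, hpb⟩ := X.property.representable_from_yon
    ((yon S).map (OpenSub.subOverι M A.1) ≫ e.hom) ((yon S).map (OpenSub.subOverι M B.1) ≫ e.hom)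
  obtain ⟨fst', rfl⟩ := (yon S).map_surjective fst
  haveI hP : CompactSpace ↥P.left := Groth.Agent.S10185.compact_of_qs hqs _ _ P _ _ fst' snd hpb
  have hw : fst' ≫ OpenSub.subOverι M A.1 = snd ≫ OpenSub.subOverι M B.1 := by
    apply (yon S).map_injective
    rw [Functor.map_comp, Functor.map_comp, ← cancel_mono e.hom, Category.assoc, Category.assoc]
    exact hpb.w
  have hrange : ((A.1 : Set ↥M.left) ∩ (B.1 : Set ↥M.left)) =
      Set.range (fst' ≫ OpenSub.subOverι M A.1).left := by
    ext m
    constructor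
    · rintro ⟨hmA, hmB⟩
      have h : Points.ofPt ((yon S).map (OpenSub.subOverι M A.1) ≫ e.hom) (⟨m, hmA⟩ : ↥A.1) =
          Points.ofPt ((yon S).map (OpenSub.subOverι M B.1) ≫ e.hom) (⟨m, hmB⟩ : ↥B.1) := by
        rw [ofPt_yon_map_comp, ofPt_yon_map_comp]; rfl
      obtain ⟨p, hp1, -⟩ := exists_of_isPullback_schemes hpb _ _ h
      refine ⟨p, ?_⟩
      rw [Over.comp_left, Scheme.Hom.comp_apply, hp1]
      rfl
    · rintro ⟨p, rfl⟩
      refine ⟨?_, ?_⟩
      · rw [Over.comp_left, Scheme.Hom.comp_apply]
        exact (fst'.left p).2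
      · rw [hw, Over.comp_left, Scheme.Hom.comp_apply]
        exact (snd.left p).2
  rw [hrange]
  exact isCompact_range (fst' ≫ OpenSub.subOverι M A.1).left.continuous

theorem main [QuasiSeparatedSpace S]
    (X : AlgSp.Space S) (hqs : AlgSp.IsQuasiSeparatedSp X.obj) (hd : AlgSp.dim X.obj = 0) :
    ∃ (U : Over S) (_ : (AlgSp.yon S).obj U ≅ X.obj), U.left.IsSeparated ∧
      ∀ V : U.left.Opens, IsCompact (V : Set ↥U.left) → IsAffineOpen V := by
  -- all charts have dimension zero
  have hchart : ∀ (U : Over S) (a : (yon S).obj U ⟶ X.obj), RepWith @Etale a →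
      ∀ u : ↥U.left, ringKrullDim ↥(U.left.presheaf.stalk u) = 0 := by
    intro U a ha u
    have h1 : topologicalKrullDim ↥U.left ≤ 0 := by
      rw [← hd]
      unfold AlgSp.dim
      exact le_iSup_of_le U (le_iSup_of_le a (le_iSup_of_le ha le_rfl))
    rw [dim_zero_iff_maximal]
    intro u' hu'
    exact Groth.Agent.H1.FieldDim.eq_of_specializes_of_dim_le_zero h1 hu'
  have hall : ∀ x : Points X.obj, HasAt D0 X.obj x := by
    intro x
    obtain ⟨U, a, u, hae, -, rfl⟩ := exists_chart_ofPt X x
    exact ⟨U, a, u, hae, rfl, hchart U a hae u⟩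
  obtain ⟨X', j, hj, hrep, -, hmem⟩ := Groth.Agent.S10204.exists_dense_of_dimZero X
    (fun x hx => Groth.Agent.H1.CodimZeroSch.exists_open_representable_of_dimZero X hqs x hx)
  haveI : IsIso j.hom := Groth.Agent.S10194.isIso_of_openImmersion_of_surjective j.hom hj
    (fun x => hmem x (hall x))
  obtain ⟨M, ⟨r⟩⟩ := hrep
  let e : (yon S).obj M ≅ X.obj := isoOfRepresentableBy r ≪≫ asIso j.hom
  haveI := quasiSeparatedSpace_of_iso_yon X hqs M e
  have hstalk : ∀ m : ↥M.left, ringKrullDim ↥(M.left.presheaf.stalk m) = 0 :=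
    hchart M e.hom (Groth.Agent.Lib.helper7.repWith_of_isIso _ _)
  exact ⟨M, e, Groth.Agent.H1.DimZeroSch.isSeparated_and_isAffineOpen hstalk⟩

/-- Let X be a quasi-separated algebraic space of dimension 0 over a quasi-separated scheme S. Then X is
a separated scheme and every quasi-compact open of X is affine. (The published statement allows any
base scheme S and takes X quasi-separated in the absolute sense; this row asks S to be
quasi-separated and X quasi-separated over S, which together imply absolute quasi-separatedness.) -/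
theorem result {S : Scheme.{u}} [QuasiSeparatedSpace S]
    (X : AlgSp.Space S) (hqs : AlgSp.IsQuasiSeparatedSp X.obj) (hd : AlgSp.dim X.obj = 0) :
    ∃ (U : Over S) (_ : (AlgSp.yon S).obj U ≅ X.obj), U.left.IsSeparated ∧
      ∀ V : U.left.Opens, IsCompact (V : Set ↥U.left) → IsAffineOpen V := by
  exact main X hqs hd

end Groth.Agent.S10450
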