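import Groth.Statements.S10456
import Groth.Agent.Lib.Helper1.GenFinO

set_option autoImplicit false
universe u
open CategoryTheory CategoryTheory.Limits AlgebraicGeometry Topology TopologicalSpace
open AlgSp

namespace Groth.Agent.S10456

open Groth.Agent.Lib.helper5 Groth.Agent.Lib.helper5.NearLocus Groth.Agent.Lib.helper5.LqfLocus
open Groth.Agent.Lib.helper11 Groth.Agent.H1.GenFin

/-- If the quasi-finite locus of a morphism locally of finite type to a locally Noetherian space is dense, it
contains all codimension zero points. -/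
theorem hasAtMor_of_dense_of_dimZero {S : Scheme.{u}} {X Y : AlgSp.Space S} (f : X ⟶ Y)
    (hf : AlgSp.LocP @LocallyOfFiniteType f.hom) (hY : AlgSp.IsLocNoethSp Y.obj)
    (h : Dense {x : AlgSp.Points X.obj | HasAtMor (NearAt Plqf) f.hom x})
    (x : AlgSp.Points X.obj) (hx : AlgSp.HasAt D0 X.obj x) : HasAtMor (NearAt Plqf) f.hom x := by
  obtain ⟨U, V, a, b, k, u, hae, hbe, hc, hu⟩ :=
    LocPFam.exists_chart_at_point X.property Y.property f.hom x
  haveI : IsLocallyNoetherian V.left :=
    Groth.Agent.H1.LocNoeth.isLocallyNoetherian_of_chart hY b hbe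
  haveI : LocallyOfFiniteType k.left := hf a b k hae hbe hc
  haveI : IsLocallyNoetherian U.left := LocallyOfFiniteType.isLocallyNoetherian k.left
  have humax := maximal_of_dim_zero u
    ((Groth.Agent.S10399.hasAt_dimZero_iff_chart X.property a hae u).1 (by rw [hu]; exact hx))
  have hop : IsOpen (Points.ofPt a ⁻¹' {x : AlgSp.Points X.obj | HasAtMor (NearAt Plqf) f.hom x}) :=
    (isOpen_nearLocus Plqf f.hom).preimage (Points.continuous_ofPt a)
  have hd := h.preimage (isOpenMap_ofPt a hae)
  have := mem_of_dense_open_of_maximal _ hop hd u humax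
  rw [← hu]
  exact this

theorem main {S : Scheme.{u}} {X Y : AlgSp.Space S} (f : X ⟶ Y)
    (hf : AlgSp.LocP @LocallyOfFiniteType f.hom) (hY : AlgSp.IsLocNoethSp Y.obj) (y : AlgSp.Points Y.obj)
    (hy : AlgSp.HasAt (fun U u => ringKrullDim ↥(U.presheaf.stalk u) ≤ 1) Y.obj y)
    (h : Dense {x : AlgSp.Points X.obj | HasAtMor (NearAt Plqf) f.hom x})
    (x : AlgSp.Points X.obj) (hx : AlgSp.Points.map f.hom x = y) :
    HasAtMor (NearAt Plqf) f.hom x :=
  hasAtMor_lqf_of_codim_le_one f hf hY y hy
    (fun x h0 _ => hasAtMor_of_dense_of_dimZero f hf hY h x h0) x hx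

/-- Let f : X ⟶ Y be a morphism of algebraic spaces over a scheme S which is locally of finite type,
with Y locally Noetherian, and let y be a point of Y of codimension at most 1. If the points of |X|
where f is quasi-finite form a dense subset, then every point of X mapping to y is a point where f
is quasi-finite. -/
theorem result {S : Scheme.{u}} {X Y : AlgSp.Space S} (f : X ⟶ Y)
    (hf : AlgSp.LocP @LocallyOfFiniteType f.hom) (hY : AlgSp.IsLocNoethSp Y.obj) (y : AlgSp.Points Y.obj)
    (hy : AlgSp.HasAt (fun U u => ringKrullDim ↥(U.presheaf.stalk u) ≤ 1) Y.obj y)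
    (h : Dense {x : AlgSp.Points X.obj | AlgSp.HasAtMor (fun U _ h u => ∃ W : U.Opens, u ∈ W ∧ LocallyQuasiFinite (W.ι ≫ h) ∧ LocallyOfFiniteType (W.ι ≫ h)) f.hom x})
    (x : AlgSp.Points X.obj) (hx : AlgSp.Points.map f.hom x = y) :
    AlgSp.HasAtMor (fun U _ h u => ∃ W : U.Opens, u ∈ W ∧ LocallyQuasiFinite (W.ι ≫ h) ∧ LocallyOfFiniteType (W.ι ≫ h)) f.hom x := by
  exact main f hf hY y hy h x hx

end Groth.Agent.S10456
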