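import Groth.Statements.S10459
import Groth.Agent.Lib.Helper1.GenFinM
import Groth.Agent.Lib.Helper5.ResTrdegChart
import Groth.Agent.S10324

set_option autoImplicit false
universe u
open CategoryTheory CategoryTheory.Limits AlgebraicGeometry Topology TopologicalSpace
open AlgSp

namespace Groth.Agent.S10459

open Groth.Agent.H1.GenFin

theorem main {S : Scheme.{u}} {X Y : AlgSp.Space S} (f : X ⟶ Y)
    (hY : AlgSp.IsLocNoethSp Y.obj) (hXi : AlgSp.IsIntegralSp X.obj)
    (hft : AlgSp.LocP @LocallyOfFiniteType f.hom)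
    (x : AlgSp.Points X.obj) (hx : IsGenericPoint x (Set.univ : Set (AlgSp.Points X.obj))) (r : ℕ)
    (hr : AlgSp.HasAtMor (fun _ _ h u => Dual3.resTrdeg h u = (r : Cardinal.{u})) f.hom x) :
    AlgSp.dim X.obj ≤ AlgSp.dim Y.obj + ((r : ℕ∞) : WithBot ℕ∞) := by
  have key := Groth.Agent.S10324.result f hY hft (r : Cardinal.{u}) (fun ξ h0 s hs => by
    have hξ : ξ = x := (hasAt_dimZero_iff_eq_generic X hXi.2.1 x hx ξ).1 h0
    subst hξ
    obtain ⟨U, V, a, b, h, u, hae, hbe, hc, hu, hQ⟩ := hs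
    have h1 := Groth.Agent.Lib.helper5.ResTrdegChart.locPAt_resTrdeg_of_hasAtMor f.hom ξ
      (fun t => t = (r : Cardinal.{u})) hr a b h u hae hbe hc hu
    simp only at h1 hQ
    rw [← hQ, h1])
  rwa [Cardinal.toENat_nat] at key

/-- Let f : X ⟶ Y be a dominant morphism locally of finite type between integral algebraic spaces over a
scheme S, with Y locally Noetherian, and let r be the transcendence degree of the generic point of X
over its image (the generic point of Y). Then dim X ≤ dim Y + r. -/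
theorem result {S : Scheme.{u}} {X Y : AlgSp.Space S} (f : X ⟶ Y)
    (hY : AlgSp.IsLocNoethSp Y.obj) (hXi : AlgSp.IsIntegralSp X.obj) (hYi : AlgSp.IsIntegralSp Y.obj)
    (hd : AlgSp.IsDominantMor f.hom) (hft : AlgSp.LocP @LocallyOfFiniteType f.hom)
    (x : AlgSp.Points X.obj) (hx : IsGenericPoint x (Set.univ : Set (AlgSp.Points X.obj))) (r : ℕ)
    (hr : AlgSp.HasAtMor (fun _ _ h u => Dual3.resTrdeg h u = (r : Cardinal.{u})) f.hom x) :
    AlgSp.dim X.obj ≤ AlgSp.dim Y.obj + ((r : ℕ∞) : WithBot ℕ∞) := by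
  exact main f hY hXi hft x hx r hr

end Groth.Agent.S10459
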