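import Groth.Statements.S10465
import Groth.Agent.Lib.Helper5.AlgSpUniv2
import Groth.Agent.Lib.Helper5.AlgSpUniv3

set_option autoImplicit false
universe u
open CategoryTheory CategoryTheory.Limits AlgebraicGeometry Topology TopologicalSpace
open AlgSp

namespace Groth.Agent.S10465

theorem isPullback_prod_map_snd {C : Type*} [Category C] [HasBinaryProducts C] (X : C) {A B : C}
    (g : A ⟶ B) : IsPullback (prod.map (𝟙 X) g) prod.snd prod.snd g := by
  refine ⟨⟨by rw [Limits.prod.map_snd]⟩, ⟨PullbackCone.IsLimit.mk _
    (fun s => prod.lift (s.fst ≫ prod.fst) s.snd) ?_ ?_ ?_⟩⟩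
  · intro s
    apply Limits.prod.hom_ext
    · rw [Category.assoc, Limits.prod.map_fst, Category.comp_id, Limits.prod.lift_fst]
    · rw [Category.assoc, Limits.prod.map_snd, ← Category.assoc, Limits.prod.lift_snd,
        s.condition]
  · intro s
    rw [Limits.prod.lift_snd]
  · intro s m h1 h2
    apply Limits.prod.hom_ext
    · rw [Limits.prod.lift_fst, ← h1, Category.assoc, Limits.prod.map_fst, Category.comp_id]
    · rw [Limits.prod.lift_snd, h2]

theorem main (k : Type u) [Field k] (X : AlgSp.Space (Spec (CommRingCat.of k))) (k' : Type u)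
    [Field k'] [Algebra k k'] :
    (∀ (K : Type u) [Field K] [Algebra k K], ConnectedSpace (AlgSp.Points (X.obj ⨯ (AlgSp.yon (Spec (CommRingCat.of k))).obj (Over.mk (Spec.map (CommRingCat.ofHom (algebraMap k K))))))) ↔
      ∀ (K : Type u) [Field K] [Algebra k K] [Algebra k' K] [IsScalarTower k k' K],
        ConnectedSpace (AlgSp.Points (X.obj ⨯ (AlgSp.yon (Spec (CommRingCat.of k))).obj (Over.mk (Spec.map (CommRingCat.ofHom (algebraMap k K)))))) := by
  constructor
  · intro h K _ _ _ _
    exact h K
  · intro h K _ _
    obtain ⟨Ω, hΩ, i₁, i₂, hi⟩ := FieldPt.exists_amalgamation (algebraMap k K) (algebraMap k k')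
    let _ : Algebra k Ω := (i₁.comp (algebraMap k K)).toAlgebra
    let _ : Algebra k' Ω := i₂.toAlgebra
    have htower : IsScalarTower k k' Ω := IsScalarTower.of_algebraMap_eq' hi
    have hc := h Ω
    let g₀ : Over.mk (Spec.map (CommRingCat.ofHom (algebraMap k Ω))) ⟶
        Over.mk (Spec.map (CommRingCat.ofHom (algebraMap k K))) :=
      Over.homMk (Spec.map (CommRingCat.ofHom i₁)) (by
        change Spec.map _ ≫ Spec.map _ = Spec.map _
        rw [← Spec.map_comp]
        rfl)
    have hsurj0 : Surjective g₀.left := by
      have : Subsingleton ↥(Spec (CommRingCat.of K)) :=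
        inferInstanceAs (Subsingleton (PrimeSpectrum K))
      exact ⟨fun y => ⟨(IsLocalRing.closedPoint Ω : ↥(Spec (CommRingCat.of Ω))),
        @Subsingleton.elim ↥(Spec (CommRingCat.of K)) this _ _⟩⟩
    have hsurj1 : IsSurjectiveMor ((yon _).map g₀) :=
      Groth.Agent.Lib.helper5.surjective_map_of_repWith_surjective _
        ((repWith_yon_map_iff @Surjective g₀).2 hsurj0)
    have sq := isPullback_prod_map_snd X.obj ((yon _).map g₀)
    have hsurj2 := Groth.Agent.Lib.helper5.isSurjectiveMor_of_isPullback sq hsurj1
    exact Function.Surjective.connectedSpace hsurj2 (Points.continuous_map _)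

/-- For a field extension k'/k and an algebraic space X over k, geometric connectedness of X over k is
equivalent to geometric connectedness of its base change X_{k'} over k' (the base changes of X_{k'}
to extensions K of k' being the base changes X_K of X, geometric connectedness of X_{k'} over k'
reads: |X_K| is connected for every field K over k'). -/
theorem result (k : Type u) [Field k] (X : AlgSp.Space (Spec (CommRingCat.of k))) (k' : Type u) [Field k'] [Algebra k k'] :
    (∀ (K : Type u) [Field K] [Algebra k K], ConnectedSpace (AlgSp.Points (X.obj ⨯ (AlgSp.yon (Spec (CommRingCat.of k))).obj (Over.mk (Spec.map (CommRingCat.ofHom (algebraMap k K))))))) ↔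
      ∀ (K : Type u) [Field K] [Algebra k K] [Algebra k' K] [IsScalarTower k k' K],
        ConnectedSpace (AlgSp.Points (X.obj ⨯ (AlgSp.yon (Spec (CommRingCat.of k))).obj (Over.mk (Spec.map (CommRingCat.ofHom (algebraMap k K)))))) := by
  exact main k X k'

end Groth.Agent.S10465
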