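import Groth.Statements.S10475
import Groth.Agent.Lib.Helper9.GRPt2
import Groth.Agent.Lib.Helper3.GeomRed
import Groth.Agent.Lib.Helper11.AlgSpBasic

set_option autoImplicit false
universe u
open CategoryTheory CategoryTheory.Limits AlgebraicGeometry Topology TopologicalSpace
open AlgSp

namespace Groth.Agent.S10475

attribute [local instance] Curv2.stalkAlgebra

theorem main (k : Type u) [Field k] [PerfectField k]
    (X : AlgSp.Space (Spec (CommRingCat.of k))) (hX : AlgSp.EtaleLocally (fun U => IsReduced U) X.obj) (x : AlgSp.Points X.obj) :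
    (∃ (U : Over (Spec (CommRingCat.of k))) (a : (AlgSp.yon (Spec (CommRingCat.of k))).obj U ⟶ X.obj) (u : ↥U.left),
      AlgSp.RepWith @Etale a ∧ AlgSp.Points.ofPt a u = x ∧ FBase.IsGeomReducedAt U.hom u) := by
  obtain ⟨U, p, hpe, hps, hU⟩ := hX
  obtain ⟨u, hu⟩ := Groth.Agent.Lib.helper11.surjective_ofPt p hps x
  refine ⟨U, p, u, hpe, hu, ?_⟩
  haveI : IsReduced U.left := hU
  rw [Groth.Agent.Lib.helper9.GRPt.isGeomReducedAt_iff_stalk]
  exact Groth.Agent.Lib.helper3.GeomRed.isGeometricallyReduced_of_perfectField k _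

/-- Let k be a perfect field and X a reduced algebraic space over k. Then X is geometrically reduced
over k (geometrically reduced at every point). -/
theorem result (k : Type u) [Field k] [PerfectField k]
    (X : AlgSp.Space (Spec (CommRingCat.of k))) (hX : AlgSp.EtaleLocally (fun U => IsReduced U) X.obj) (x : AlgSp.Points X.obj) :
    (∃ (U : Over (Spec (CommRingCat.of k))) (a : (AlgSp.yon (Spec (CommRingCat.of k))).obj U ⟶ X.obj) (u : ↥U.left),
      AlgSp.RepWith @Etale a ∧ AlgSp.Points.ofPt a u = x ∧ FBase.IsGeomReducedAt U.hom u) := by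
  exact main k X hX x

end Groth.Agent.S10475
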