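import Groth.Statements.S10480
import Groth.Agent.Lib.Helper5.GeomReducedEt

set_option autoImplicit false
universe u
open CategoryTheory CategoryTheory.Limits AlgebraicGeometry Topology TopologicalSpace
open AlgSp

namespace Groth.Agent.S10480

/-- Let k be a field and f : X ⟶ Y a surjective etale morphism of algebraic spaces over k. Then X is
geometrically reduced over k if and only if Y is geometrically reduced over k. -/
theorem result (k : Type u) [Field k] {X Y : AlgSp.Space (Spec (CommRingCat.of k))} (f : X ⟶ Y)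
    (he : AlgSp.IsEtaleMor f.hom) (hs : AlgSp.IsSurjectiveMor f.hom) :
    (∀ x : AlgSp.Points X.obj, (∃ (U : Over (Spec (CommRingCat.of k))) (a : (AlgSp.yon (Spec (CommRingCat.of k))).obj U ⟶ X.obj) (u : ↥U.left),
      AlgSp.RepWith @Etale a ∧ AlgSp.Points.ofPt a u = x ∧ FBase.IsGeomReducedAt U.hom u)) ↔
      ∀ y : AlgSp.Points Y.obj, (∃ (U : Over (Spec (CommRingCat.of k))) (a : (AlgSp.yon (Spec (CommRingCat.of k))).obj U ⟶ Y.obj) (u : ↥U.left),
      AlgSp.RepWith @Etale a ∧ AlgSp.Points.ofPt a u = y ∧ FBase.IsGeomReducedAt U.hom u) := by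
  open Groth.Agent.Lib.helper5.GeomReducedEt in
  constructor
  · intro h y
    obtain ⟨x, rfl⟩ := hs y
    obtain ⟨U, a, u, ha, hu, hQ⟩ := h x
    exact ⟨U, a ≫ f.hom, u, he a ha, by rw [← AlgSp.Points.map_ofPt, hu], hQ⟩
  · intro h x
    obtain ⟨U, a, u, ha, -, hu⟩ := Groth.Agent.Lib.helper11.exists_chart_ofPt X x
    refine ⟨U, a, u, ha, hu, ?_⟩
    exact (exists_iff_forall_over (Q := fun U u => FBase.IsGeomReducedAt U.hom u)
      (fun g hg v => isGeomReducedAt_over_iff g hg v) Y (AlgSp.Points.map f.hom x)).1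
      (h _) U (a ≫ f.hom) u (he a ha) (by rw [← AlgSp.Points.map_ofPt, hu])

end Groth.Agent.S10480
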