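import Groth.Statements.S10481
import Groth.Agent.Lib.Helper5.GeomReducedEt

set_option autoImplicit false
universe u
open CategoryTheory CategoryTheory.Limits AlgebraicGeometry Topology TopologicalSpace
open AlgSp

namespace Groth.Agent.S10481

/-- Let k be a field, f : X ⟶ Y a morphism of algebraic spaces over k and x a point of X at which f is
etale. Then X is geometrically reduced at x if and only if Y is geometrically reduced at the image
of x. -/
theorem result (k : Type u) [Field k] {X Y : AlgSp.Space (Spec (CommRingCat.of k))} (f : X ⟶ Y)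
    (x : AlgSp.Points X.obj)
    (he : AlgSp.HasAtMor (fun U _ h u => ∃ W : U.Opens, u ∈ W ∧ Etale (W.ι ≫ h)) f.hom x) :
    (∃ (U : Over (Spec (CommRingCat.of k))) (a : (AlgSp.yon (Spec (CommRingCat.of k))).obj U ⟶ X.obj) (u : ↥U.left),
      AlgSp.RepWith @Etale a ∧ AlgSp.Points.ofPt a u = x ∧ FBase.IsGeomReducedAt U.hom u) ↔ (∃ (U : Over (Spec (CommRingCat.of k))) (a : (AlgSp.yon (Spec (CommRingCat.of k))).obj U ⟶ Y.obj) (u : ↥U.left),
      AlgSp.RepWith @Etale a ∧ AlgSp.Points.ofPt a u = (AlgSp.Points.map f.hom x) ∧ FBase.IsGeomReducedAt U.hom u) := by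
  open Groth.Agent.Lib.helper5.GeomReducedEt in
  obtain ⟨U, V, a, b, h, u, ha, hb, hcomm, hu, W, huW, hW⟩ := he
  -- the open neighbourhood as a scheme over the base
  let W' : Over (Spec (CommRingCat.of k)) := Over.mk (W.ι ≫ U.hom)
  let ι' : W' ⟶ U := Over.homMk W.ι rfl
  have hι' : Etale ι'.left := (inferInstance : Etale W.ι)
  have hh' : Etale (ι' ≫ h).left := hW
  let w : ↥W'.left := ⟨u, huW⟩
  have hw : ι'.left w = u := rfl
  have hv : AlgSp.Points.ofPt b (h.left u) = AlgSp.Points.map f.hom x := by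
    rw [← Groth.Agent.Lib.helper11.ofPt_yon_map_comp, ← hcomm, ← AlgSp.Points.map_ofPt, hu]
  have e1 : FBase.IsGeomReducedAt W'.hom w ↔ FBase.IsGeomReducedAt U.hom u :=
    isGeomReducedAt_over_iff ι' hι' w
  have e2 : FBase.IsGeomReducedAt W'.hom w ↔ FBase.IsGeomReducedAt V.hom (h.left u) :=
    isGeomReducedAt_over_iff (ι' ≫ h) hh' w
  have hX := exists_iff_forall_over (Q := fun U u => FBase.IsGeomReducedAt U.hom u)
      (fun g hg v => isGeomReducedAt_over_iff g hg v) X x
  have hY := exists_iff_forall_over (Q := fun U u => FBase.IsGeomReducedAt U.hom u)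
      (fun g hg v => isGeomReducedAt_over_iff g hg v) Y (AlgSp.Points.map f.hom x)
  constructor
  · intro hx
    exact ⟨V, b, h.left u, hb, hv, e2.1 (e1.2 (hX.1 hx U a u ha hu))⟩
  · intro hy
    exact ⟨U, a, u, ha, hu, e1.1 (e2.2 (hY.1 hy V b (h.left u) hb hv))⟩

end Groth.Agent.S10481
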