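import Groth.Statements.S10482
import Groth.Agent.Lib.Helper1.FieldDim

set_option autoImplicit false
universe u
open CategoryTheory CategoryTheory.Limits AlgebraicGeometry Topology TopologicalSpace
open AlgSp

namespace Groth.Agent.S10482

open Groth.Agent.H1.FieldDim Groth.Agent.Lib.helper11

theorem main (k : Type u) [Field k] (X : AlgSp.Space (Spec (CommRingCat.of k)))
    (p : X.obj ⟶ (AlgSp.yon (Spec (CommRingCat.of k))).obj (Over.mk (𝟙 _))) :
    AlgSp.LocP (@LocallyQuasiFinite ⊓ @LocallyOfFiniteType : MorphismProperty Scheme.{u}) p ↔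
      AlgSp.LocP @LocallyOfFiniteType p ∧ AlgSp.dim X.obj ≤ 0 := by
  constructor
  · intro hp
    refine ⟨fun U V a b h hae hbe hc => (hp a b h hae hbe hc).2, ?_⟩
    unfold AlgSp.dim
    refine iSup_le fun U => iSup_le fun a => iSup_le fun hae => ?_
    have h1 := hp a (𝟙 _) (Over.homMk U.hom) hae (repWith_id _ _) (comp_eq_yon_map p a)
    haveI : LocallyQuasiFinite U.hom := h1.1
    haveI : Subsingleton ↥(Spec (CommRingCat.of k)) := inferInstanceAs (Subsingleton (PrimeSpectrum k))
    obtain ⟨pt⟩ : Nonempty ↥(Spec (CommRingCat.of k)) := inferInstanceAs (Nonempty (PrimeSpectrum k))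
    have h2 := U.hom.isDiscrete_preimage_singleton pt
    have h3 : U.hom ⁻¹' {pt} = Set.univ := by
      ext u
      simp only [Set.mem_preimage, Set.mem_singleton_iff, Set.mem_univ, iff_true]
      exact Subsingleton.elim _ _
    rw [h3, isDiscrete_univ_iff] at h2
    exact topologicalKrullDim_zero_of_discreteTopology _
  · rintro ⟨hp, hd⟩ U V a b h hae hbe hc
    haveI : LocallyOfFiniteType h.left := hp a b h hae hbe hc
    haveI : LocallyOfFiniteType U.hom := lft_chart X p hp a hae
    haveI : IsLocallyNoetherian U.left := LocallyOfFiniteType.isLocallyNoetherian U.hom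
    have h1 : topologicalKrullDim ↥U.left ≤ 0 := by
      refine le_trans ?_ hd
      unfold AlgSp.dim
      refine le_trans ?_ (le_iSup _ U)
      refine le_trans ?_ (le_iSup _ a)
      exact le_iSup (fun _ : RepWith @Etale a => topologicalKrullDim ↥U.left) hae
    haveI : IsLocallyArtinian U.left := IsLocallyArtinian.of_topologicalKrullDim_le_zero h1
    haveI : DiscreteTopology ↥U.left := inferInstance
    refine ⟨?_, inferInstance⟩
    rw [locallyQuasiFinite_iff_isDiscrete_preimage_singleton]
    intro x
    exact DiscreteTopology.isDiscrete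

/-- (1) ⇔ (2): let k be a field and X an algebraic space over k. Then X is locally quasi-finite over k
if and only if X is locally of finite type over k of dimension at most 0. (The published statement
says dimension 0; dimension at most 0 is used so that the empty space, whose dimension is the bottom
element, is covered by both sides.) -/
theorem result (k : Type u) [Field k] (X : AlgSp.Space (Spec (CommRingCat.of k))) (p : X.obj ⟶ (AlgSp.yon (Spec (CommRingCat.of k))).obj (Over.mk (𝟙 _))) :
    AlgSp.LocP (@LocallyQuasiFinite ⊓ @LocallyOfFiniteType : MorphismProperty Scheme.{u}) p ↔ AlgSp.LocP @LocallyOfFiniteType p ∧ AlgSp.dim X.obj ≤ 0 := by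
  exact main k X p

end Groth.Agent.S10482
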