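import Groth.Statements.S10483
import Groth.Agent.Lib.Helper5.DimZeroField1

set_option autoImplicit false
universe u
open CategoryTheory CategoryTheory.Limits AlgebraicGeometry Topology TopologicalSpace
open AlgSp

namespace Groth.Agent.S10483

open Groth.Agent.Lib.helper5.DimZeroField Groth.Agent.Lib.helper5.LocPBC

/-- A locally quasi-finite algebraic space over a field is a (separated, locally Artinian) scheme. -/
theorem exists_scheme_of_lqf (k : Type u) [Field k]
    (X : AlgSp.Space (Spec (CommRingCat.of k)))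
    (p : X.obj ⟶ (AlgSp.yon (Spec (CommRingCat.of k))).obj (Over.mk (𝟙 _)))
    (hlqf : AlgSp.LocP (@LocallyQuasiFinite ⊓ @LocallyOfFiniteType : MorphismProperty Scheme.{u}) p) :
    ∃ (U : Over (Spec (CommRingCat.of k))) (_ : (AlgSp.yon (Spec (CommRingCat.of k))).obj U ≅ X.obj),
      LocallyQuasiFinite U.hom ∧ IsLocallyArtinian U.left := by
  haveI : IsLocallyArtinian (Spec (CommRingCat.of k)) :=
    Scheme.isLocallyArtinianScheme_Spec.mpr (inferInstanceAs (IsArtinianRing k))
  have key : ∀ {U : Over (Spec (CommRingCat.of k))} (a : (yon _).obj U ⟶ X.obj), RepWith @Etale a →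
      LocallyOfFiniteType U.hom ∧ IsLocallyArtinian U.left ∧ LocallyQuasiFinite U.hom := by
    intro U a hae
    obtain ⟨h1, h2⟩ := chart_prop p hlqf a hae
    haveI := h1
    exact ⟨h2, IsLocallyArtinian.of_locallyQuasiFinite U.hom, h1⟩
  obtain ⟨U, a, hae, has⟩ := X.property.atlas
  obtain ⟨hUft, hUart, hUqf⟩ := key a hae
  -- separatedness
  have hsep : IsSeparatedSp X.obj := by
    obtain ⟨R, r₂, r₁', hk⟩ := hae.1 a
    obtain ⟨r₁, rfl⟩ := (yon _).map_surjective r₁'
    have hr₂ : Etale r₂.left := hae.2 _ _ _ hk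
    refine Groth.Agent.Lib.helper5.QuotDiag.repWith_diag_of_kernelPair (P := @IsClosedImmersion) X.property a hae has
      r₁ r₂ hk ?_
    haveI : Mono (prod.lift r₁ r₂ : R ⟶ U ⨯ U) := ⟨fun f' g' h => by
      have h1 : f' ≫ r₁ = g' ≫ r₁ := by
        have := congrArg (· ≫ prod.fst) h
        simpa only [Category.assoc, prod.lift_fst] using this
      have h2 : f' ≫ r₂ = g' ≫ r₂ := by
        have := congrArg (· ≫ prod.snd) h
        simpa only [Category.assoc, prod.lift_snd] using this
      exact (yon _).map_injective (hk.hom_ext (by rw [← Functor.map_comp, ← Functor.map_comp, h1])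
        (by rw [← Functor.map_comp, ← Functor.map_comp, h2]))⟩
    haveI : Mono (prod.lift r₁ r₂ : R ⟶ U ⨯ U).left := inferInstance
    haveI : LocallyQuasiFinite (prod.snd : U ⨯ U ⟶ U).left :=
      MorphismProperty.of_isPullback (Groth.Agent.Lib.helper5.FppfBoot.isPullback_prod_left U U) hUqf
    haveI : IsLocallyArtinian (U ⨯ U).left :=
      IsLocallyArtinian.of_locallyQuasiFinite (prod.snd : U ⨯ U ⟶ U).left
    have hc : (prod.lift r₁ r₂ : R ⟶ U ⨯ U).left ≫ (prod.snd : U ⨯ U ⟶ U).left = r₂.left := by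
      rw [← Over.comp_left, prod.lift_snd]
    haveI : LocallyOfFiniteType ((prod.lift r₁ r₂ : R ⟶ U ⨯ U).left ≫ (prod.snd : U ⨯ U ⟶ U).left) := by
      rw [hc]; infer_instance
    haveI : LocallyOfFiniteType (prod.lift r₁ r₂ : R ⟶ U ⨯ U).left :=
      locallyOfFiniteType_of_comp _ (prod.snd : U ⨯ U ⟶ U).left
    exact isClosedImmersion_of_mono_of_isLocallyArtinian _
  -- representability
  have hrep : X.obj.obj.IsRepresentable :=
    Groth.Agent.S10259.result (Over.mk (𝟙 _)) X
      (ObjectProperty.homMk p : X ⟶ (AlgSp.ofScheme _).obj (Over.mk (𝟙 _))) hlqf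
      (isSeparatedMor_of_isSeparatedSp p hsep)
  obtain ⟨U', ⟨e⟩⟩ := hrep.has_representation
  let ε : (yon _).obj U' ≅ X.obj := isoOfRepresentableBy e
  have hεe : RepWith @Etale ε.hom := by
    have := MorphismProperty.RespectsIso.postcomp (RepWith @Etale) ε.hom (𝟙 _) (repWith_id @Etale U')
    rwa [Category.id_comp] at this
  obtain ⟨hU'ft, hU'art, hU'qf⟩ := key ε.hom hεe
  exact ⟨U', ε, hU'qf, hU'art⟩

/-- A ring with exactly one prime is local. -/
theorem isLocalRing_of_subsingleton_primeSpectrum (R : Type*) [CommRing R] [Nontrivial R]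
    [Subsingleton (PrimeSpectrum R)] : IsLocalRing R := by
  obtain ⟨m, hm⟩ := Ideal.exists_maximal R
  refine IsLocalRing.of_unique_max_ideal ⟨m, hm, fun m' hm' => ?_⟩
  have := Subsingleton.elim (⟨m', hm'.isPrime⟩ : PrimeSpectrum R) ⟨m, hm.isPrime⟩
  exact congrArg PrimeSpectrum.asIdeal this

theorem main (k : Type u) [Field k] (X : AlgSp.Space (Spec (CommRingCat.of k))) (p : X.obj ⟶ (AlgSp.yon (Spec (CommRingCat.of k))).obj (Over.mk (𝟙 _))) :
    AlgSp.LocP (@LocallyQuasiFinite ⊓ @LocallyOfFiniteType : MorphismProperty Scheme.{u}) p ↔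
      ∃ (U : Over (Spec (CommRingCat.of k))) (_ : (AlgSp.yon (Spec (CommRingCat.of k))).obj U ≅ X.obj), ∀ u : ↥U.left, ∃ V : U.left.Opens,
        u ∈ V ∧ IsAffineOpen V ∧ IsArtinianRing ↥Γ(U.left, V) ∧ IsLocalRing ↥Γ(U.left, V) ∧
          IsFinite (V.ι ≫ U.hom) := by
  haveI : IsLocallyArtinian (Spec (CommRingCat.of k)) :=
    Scheme.isLocallyArtinianScheme_Spec.mpr (inferInstanceAs (IsArtinianRing k))
  constructor
  · intro hlqf
    obtain ⟨U, ε, hqf, hart⟩ := exists_scheme_of_lqf k X p hlqf
    refine ⟨U, ε, fun u => ?_⟩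
    haveI := hqf
    haveI := hart
    let V : U.left.Opens := ⟨{u}, isOpen_discrete _⟩
    have hVc : IsCompact (V : Set ↥U.left) := isCompact_singleton
    have hV : IsAffineOpen V := isAffineOpen_of_isCompact U.hom V hVc
    haveI : IsAffine V.toScheme := hV
    haveI : CompactSpace ↥(V : Scheme.{u}) := isCompact_iff_compactSpace.mp hVc
    haveI : QuasiCompact (V.ι ≫ U.hom) :=
      (HasAffineProperty.iff_of_isAffine (P := @QuasiCompact)).mpr ‹_›
    have hfin : IsFinite (V.ι ≫ U.hom) := IsFinite.of_locallyQuasiFinite (V.ι ≫ U.hom)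
    have hArt : IsArtinianRing ↥Γ(U.left, V) :=
      IsLocallyArtinian.isArtinianRing_presheaf_obj ⟨V, hV⟩
    refine ⟨V, rfl, hV, hArt, ?_, hfin⟩
    -- the coordinate ring is local: its spectrum is a single point
    have hsub : Subsingleton (PrimeSpectrum ↥Γ(U.left, V)) := by
      have hinj : Function.Injective hV.fromSpec := hV.fromSpec.isOpenEmbedding.injective
      refine ⟨fun a b => hinj ?_⟩
      have ha : hV.fromSpec a ∈ (V : Set ↥U.left) := by
        rw [← hV.range_fromSpec]; exact ⟨a, rfl⟩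
      have hb : hV.fromSpec b ∈ (V : Set ↥U.left) := by
        rw [← hV.range_fromSpec]; exact ⟨b, rfl⟩
      exact (Set.mem_singleton_iff.1 ha).trans (Set.mem_singleton_iff.1 hb).symm
    haveI : Nontrivial ↥Γ(U.left, V) := by
      have hne : Nonempty (PrimeSpectrum ↥Γ(U.left, V)) := by
        have hu : u ∈ Set.range hV.fromSpec := by
          rw [hV.range_fromSpec]; exact rfl
        obtain ⟨q, -⟩ := hu
        exact ⟨q⟩
      exact (PrimeSpectrum.nonempty_iff_nontrivial).1 hne
    exact isLocalRing_of_subsingleton_primeSpectrum _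
  · rintro ⟨U, ε, hU⟩
    have hεe : RepWith @Etale ε.hom := Groth.Agent.Lib.helper7.repWith_of_isIso _ _
    have hεs : RepWith @Surjective ε.hom := Groth.Agent.Lib.helper7.repWith_of_isIso _ _
    -- `U ⟶ Spec k` is locally quasi-finite and locally of finite type
    choose V hV using hU
    have hcov : ⨆ u, V u = ⊤ := by
      rw [eq_top_iff]
      intro u _
      exact Opens.mem_iSup.2 ⟨u, (hV u).1⟩
    have h1 : LocallyQuasiFinite U.hom := by
      refine (IsZariskiLocalAtSource.iff_of_iSup_eq_top (P := @LocallyQuasiFinite) V hcov).2 ?_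
      intro u
      haveI := (hV u).2.2.2.2
      infer_instance
    have h2 : LocallyOfFiniteType U.hom := by
      refine (IsZariskiLocalAtSource.iff_of_iSup_eq_top (P := @LocallyOfFiniteType) V hcov).2 ?_
      intro u
      haveI := (hV u).2.2.2.2
      infer_instance
    exact Groth.Agent.H1.Seven.locP_of_one_chart locPData_lqf p ε.hom (𝟙 _)
      (Over.mkIdTerminal.from U) hεe hεs (repWith_id _ _) (chart_comm p ε.hom)
      (by rw [Over.mkIdTerminal_from_left]; exact ⟨h1, h2⟩)

/-- (1) ⇔ (5): let k be a field and X an algebraic space over k. Then X is locally quasi-finite over k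
if and only if X decomposes as a disjoint union of spectra of finite-dimensional Artinian local
k-algebras: X is a scheme every point of which has an affine open neighbourhood with Artinian local
coordinate ring, finite over k. -/
theorem result (k : Type u) [Field k] (X : AlgSp.Space (Spec (CommRingCat.of k))) (p : X.obj ⟶ (AlgSp.yon (Spec (CommRingCat.of k))).obj (Over.mk (𝟙 _))) :
    AlgSp.LocP (@LocallyQuasiFinite ⊓ @LocallyOfFiniteType : MorphismProperty Scheme.{u}) p ↔
      ∃ (U : Over (Spec (CommRingCat.of k))) (_ : (AlgSp.yon (Spec (CommRingCat.of k))).obj U ≅ X.obj), ∀ u : ↥U.left, ∃ V : U.left.Opens,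
        u ∈ V ∧ IsAffineOpen V ∧ IsArtinianRing ↥Γ(U.left, V) ∧ IsLocalRing ↥Γ(U.left, V) ∧
          IsFinite (V.ι ≫ U.hom) := by
  exact main k X p

end Groth.Agent.S10483
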