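import Groth.Statements.S10485
import Groth.Agent.Lib.Helper1.GenFinM
import Groth.Agent.Lib.Helper5.AlgSpLocPFam

set_option autoImplicit false
universe u
open CategoryTheory CategoryTheory.Limits AlgebraicGeometry Topology TopologicalSpace
open AlgSp

namespace Groth.Agent.S10485

open Groth.Agent.Lib.helper5 Groth.Agent.Lib.helper5.NearLocus Groth.Agent.Lib.helper5.LqfLocus
open Groth.Agent.Lib.helper11 Groth.Agent.H1.GenFin

theorem main {S : Scheme.{u}} {X Y : AlgSp.Space S} (hXi : AlgSp.IsIntegralSp X.obj)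
    (hYi : AlgSp.IsIntegralSp Y.obj)
    (f : X ⟶ Y) (hft : AlgSp.LocP @LocallyOfFiniteType f.hom) (hd : AlgSp.IsDominantMor f.hom)
    (x : AlgSp.Points X.obj) (hx : IsGenericPoint x (Set.univ : Set (AlgSp.Points X.obj)))
    (y : AlgSp.Points Y.obj) (hy : IsGenericPoint y (Set.univ : Set (AlgSp.Points Y.obj))) :
    HasAtMor (NearAt Plqf) f.hom x ↔
      (∀ x' : AlgSp.Points X.obj, AlgSp.Points.map f.hom x' = y → x' = x) := by
  have hXd : IsDecent X.obj := hXi.2.1
  have hYd : IsDecent Y.obj := hYi.2.1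
  haveI : T0Space (Points Y.obj) := Groth.Agent.S10338.main Y hYd
  have hfx : Points.map f.hom x = y := map_generic_eq f.hom hd x hx y hy
  have hy0 : HasAt D0 Y.obj y := (hasAt_dimZero_iff_eq_generic Y hYd y hy y).2 rfl
  constructor
  · intro hq x' hx'
    obtain ⟨U, V, a, b, h, u', hae, hbe, hc, hu'⟩ :=
      LocPFam.exists_chart_at_point X.property Y.property f.hom x'
    haveI : LocallyOfFiniteType h.left := hft a b h hae hbe hc
    -- the image point is maximal
    have hbv : Points.ofPt b (h.left u') = y := by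
      rw [← ofPt_yon_map_comp, ← hc, ← Points.map_ofPt, hu', hx']
    have hvmax := maximal_of_dim_zero (h.left u')
      ((Groth.Agent.S10399.hasAt_dimZero_iff_chart Y.property b hbe (h.left u')).1
        (by rw [hbv]; exact hy0))
    -- lift the generic point
    have hsp : x ⤳ x' := hx.specializes (Set.mem_univ _)
    obtain ⟨p, hp, -, hpq⟩ := hXd x
    obtain ⟨u, hus, hux⟩ := Groth.Agent.S10343.main X x' x hsp ⟨p, hp, hpq⟩ a hae u' hu'
    have huv : h.left u = h.left u' := hvmax _ (hus.map h.left.continuous)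
    -- quasi-finiteness at `u`
    have h2 : NearAt Plqf U.left V.left h.left u :=
      locPAt_nearAt_of_hasAtMor etLocal_lqf _ _ hq a b h u hae hbe hc hux
    obtain ⟨O', huO', hO'⟩ := h2
    haveI : LocallyQuasiFinite (O'.ι ≫ h.left) := hO'.1
    have h3 : (O'.ι ≫ h.left).QuasiFiniteAt ⟨u, huO'⟩ := (O'.ι ≫ h.left).quasiFiniteAt _
    have h4 : h.left.QuasiFiniteAt u := Scheme.Hom.quasiFiniteAt_comp_iff_of_isOpenImmersion.1 h3
    have h5 : u' = u := eq_of_specializes_of_quasiFiniteAt' h.left u' u h4 hus huv.symm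
    rw [← hu', h5, hux]
  · intro hu
    refine ((Groth.Agent.S10399.main f hft y hy0).1).1 (fun x' hx' => ?_) x hfx
    rw [hu x' hx']
    exact (hasAt_dimZero_iff_eq_generic X hXd x hx x).2 rfl

/-- (4) ⇔ (5): let f : X ⟶ Y be a dominant morphism locally of finite type between integral algebraic
spaces over a scheme S, with generic points x and y. Then f is quasi-finite at x if and only if x is
the only point of X mapping to y. -/
theorem result {S : Scheme.{u}} {X Y : AlgSp.Space S} (hXi : AlgSp.IsIntegralSp X.obj) (hYi : AlgSp.IsIntegralSp Y.obj)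
    (f : X ⟶ Y) (hft : AlgSp.LocP @LocallyOfFiniteType f.hom) (hd : AlgSp.IsDominantMor f.hom)
    (x : AlgSp.Points X.obj) (hx : IsGenericPoint x (Set.univ : Set (AlgSp.Points X.obj)))
    (y : AlgSp.Points Y.obj) (hy : IsGenericPoint y (Set.univ : Set (AlgSp.Points Y.obj))) :
    AlgSp.HasAtMor (fun U _ h u => ∃ W : U.Opens, u ∈ W ∧ LocallyQuasiFinite (W.ι ≫ h) ∧ LocallyOfFiniteType (W.ι ≫ h)) f.hom x ↔ (∀ x' : AlgSp.Points X.obj, AlgSp.Points.map f.hom x' = y → x' = x) := by
  exact main hXi hYi f hft hd x hx y hy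

end Groth.Agent.S10485
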