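import Groth.Statements.S10486
import Groth.Agent.Lib.Helper1.GenFinQ
import Groth.Agent.Lib.Helper1.GenFinM
import Groth.Agent.S10485

set_option autoImplicit false
universe u
open CategoryTheory CategoryTheory.Limits AlgebraicGeometry Topology TopologicalSpace
open AlgSp

namespace Groth.Agent.S10486

open Groth.Agent.Lib.helper5 Groth.Agent.Lib.helper5.NearLocus Groth.Agent.Lib.helper5.LqfLocus
open Groth.Agent.H1.GenFin

theorem main {S : Scheme.{u}} {X Y : AlgSp.Space S} (hXi : AlgSp.IsIntegralSp X.obj)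
    (hYi : AlgSp.IsIntegralSp Y.obj)
    (f : X ⟶ Y) (hft : AlgSp.LocP @LocallyOfFiniteType f.hom) (hd : AlgSp.IsDominantMor f.hom)
    (x : AlgSp.Points X.obj) (hx : IsGenericPoint x (Set.univ : Set (AlgSp.Points X.obj)))
    (y : AlgSp.Points Y.obj) (hy : IsGenericPoint y (Set.univ : Set (AlgSp.Points Y.obj))) :
    AlgSp.HasAtMor (fun _ _ h u => Dual3.resTrdeg h u = 0) f.hom x ↔
      (∀ x' : AlgSp.Points X.obj, AlgSp.Points.map f.hom x' = y → x' = x) := by
  rw [← Groth.Agent.S10485.main hXi hYi f hft hd x hx y hy]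
  have hx0 : HasAt D0 X.obj x := (hasAt_dimZero_iff_eq_generic X hXi.2.1 x hx x).2 rfl
  constructor
  · intro ht
    exact hasAtMor_lqf_of_dimZero_of_resTrdeg f hft x hx0 ht
  · rintro ⟨U, V, a, b, k, u, hae, hbe, hc, hu, O', huO', hO'⟩
    haveI : LocallyOfFiniteType k.left := hft a b k hae hbe hc
    haveI : LocallyQuasiFinite (O'.ι ≫ k.left) := hO'.1
    have h3 : (O'.ι ≫ k.left).QuasiFiniteAt ⟨u, huO'⟩ := (O'.ι ≫ k.left).quasiFiniteAt _
    have h4 : k.left.QuasiFiniteAt u := Scheme.Hom.quasiFiniteAt_comp_iff_of_isOpenImmersion.1 h3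
    exact ⟨U, V, a, b, k, u, hae, hbe, hc, hu, resTrdeg_eq_zero_of_quasiFiniteAt k.left u h4⟩

/-- (1) ⇔ (5): let f : X ⟶ Y be a dominant morphism locally of finite type between integral algebraic
spaces over a scheme S, with generic points x and y. Then the transcendence degree of x over y is 0
if and only if x is the only point of X mapping to y. -/
theorem result {S : Scheme.{u}} {X Y : AlgSp.Space S} (hXi : AlgSp.IsIntegralSp X.obj) (hYi : AlgSp.IsIntegralSp Y.obj)
    (f : X ⟶ Y) (hft : AlgSp.LocP @LocallyOfFiniteType f.hom) (hd : AlgSp.IsDominantMor f.hom)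
    (x : AlgSp.Points X.obj) (hx : IsGenericPoint x (Set.univ : Set (AlgSp.Points X.obj)))
    (y : AlgSp.Points Y.obj) (hy : IsGenericPoint y (Set.univ : Set (AlgSp.Points Y.obj))) :
    AlgSp.HasAtMor (fun _ _ h u => Dual3.resTrdeg h u = 0) f.hom x ↔ (∀ x' : AlgSp.Points X.obj, AlgSp.Points.map f.hom x' = y → x' = x) := by
  exact main hXi hYi f hft hd x hx y hy

end Groth.Agent.S10486
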