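import Groth.Statements.S10489
import Groth.Agent.S1535
-- import your own Groth.Agent.* helpers here

set_option autoImplicit false
universe u
open CategoryTheory CategoryTheory.Limits AlgebraicGeometry Topology TopologicalSpace
open AlgSp

namespace Groth.Agent.S10489

/-- Let k be a field and X an algebraic space which is smooth over k. Then X is regular as an algebraic
space. -/
theorem result (k : Type u) [Field k] (X : AlgSp.Space (Spec (CommRingCat.of k))) (p : X.obj ⟶ (AlgSp.yon (Spec (CommRingCat.of k))).obj (Over.mk (𝟙 _))) (hp : AlgSp.LocP @Smooth p) :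
    AlgSp.EtaleLocally (fun U => IsLocallyNoetherian U ∧ ∀ u : ↥U, IsRegularLocalRing ↥(U.presheaf.stalk u)) X.obj := by
  obtain ⟨U, a, ha1, ha2⟩ := X.property.atlas
  obtain ⟨h, hh⟩ := (AlgSp.yon (Spec (CommRingCat.of k))).map_surjective (a ≫ p)
  have hb : AlgSp.RepWith @Etale
      (𝟙 ((AlgSp.yon (Spec (CommRingCat.of k))).obj (Over.mk (𝟙 (Spec (CommRingCat.of k)))))) := by
    rw [← (AlgSp.yon (Spec (CommRingCat.of k))).map_id]
    exact (AlgSp.repWith_yon_map_iff _ _).2 (by dsimp; infer_instance)
  have hsm : Smooth h.left :=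
    hp a (𝟙 _) h ha1 hb (by rw [hh, Category.comp_id])
  refine ⟨U, a, ha1, ha2, ?_, ?_⟩
  · haveI : LocallyOfFiniteType h.left := inferInstance
    haveI : IsLocallyNoetherian (Over.mk (𝟙 (Spec (CommRingCat.of k)))).left :=
      (inferInstance : IsLocallyNoetherian (Spec (CommRingCat.of k)))
    exact LocallyOfFiniteType.isLocallyNoetherian h.left
  · intro u
    letI : U.left.Over (Spec (CommRingCat.of k)) := ⟨h.left⟩
    haveI : Smooth (U.left ↘ (Spec (CommRingCat.of k))) := hsm
    exact Groth.Agent.S1535.result k U.left u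

end Groth.Agent.S10489
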