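import Groth.Statements.S10491
import Groth.Agent.Lib.Helper5.LocFinIrr2
import Groth.Agent.Lib.Helper11.AlgSpBasic

set_option autoImplicit false
universe u
open CategoryTheory CategoryTheory.Limits AlgebraicGeometry Topology TopologicalSpace
open AlgSp

namespace Groth.Agent.S10491

/-- Let X be an algebraic space over a scheme S which is locally Noetherian, and T ⊂ |X| a closed
subset. Then every point of |X| has a neighbourhood meeting only finitely many irreducible
components of T. -/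
theorem result {S : Scheme.{u}} (X : AlgSp.Space S)
    (hX : AlgSp.IsLocNoethSp X.obj) (T : Set (AlgSp.Points X.obj)) (hT : IsClosed T) :
    LocallyFinite (fun Z : ↥(irreducibleComponents ↥T) => ((↑) : ↥T → AlgSp.Points X.obj) '' (Z : Set ↥T)) := by
  intro x
  obtain ⟨U, p, hpe, hps, hU⟩ := hX
  obtain ⟨u, rfl⟩ := Groth.Agent.Lib.helper11.surjective_ofPt p hps x
  obtain ⟨_, ⟨U₀', hU₀', rfl⟩, huU₀, -⟩ :=
    U.left.isBasis_affineOpens.exists_subset_of_mem_open (Set.mem_univ u) isOpen_univ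
  obtain ⟨U₀, hU₀⟩ : ∃ U₀ : U.left.Opens, U₀ = U₀' := ⟨U₀', rfl⟩
  subst hU₀
  have hU₀ : IsAffineOpen U₀ := hU₀'
  obtain ⟨hae, hav⟩ := Groth.Agent.Lib.helper11.chart_comp p hpe U₀.ι
  set a := (yon S).map (Over.homMk (U := Over.mk (U₀.ι ≫ U.hom)) U₀.ι rfl) ≫ p with ha
  have hOopen : IsOpen (Set.range (Points.ofPt a)) :=
    (Groth.Agent.Lib.helper11.isOpenMap_ofPt a hae).isOpen_range
  refine ⟨Set.range (Points.ofPt a), hOopen.mem_nhds ⟨⟨u, huU₀⟩, hav ⟨u, huU₀⟩⟩, ?_⟩
  -- the Noetherian space `T' = a⁻¹ T`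
  haveI : IsNoetherian (U₀ : Scheme.{u}) := by
    haveI : IsAffine (U₀ : Scheme.{u}) := hU₀
    exact ⟨⟩
  haveI : TopologicalSpace.NoetherianSpace ↥(U₀ : Scheme.{u}) := inferInstance
  let T' : Set ↥(U₀ : Scheme.{u}) := Points.ofPt a ⁻¹' T
  haveI : TopologicalSpace.NoetherianSpace ↥T' := TopologicalSpace.NoetherianSpace.set T'
  have hfin' : (irreducibleComponents ↥T').Finite := TopologicalSpace.NoetherianSpace.finite_irreducibleComponents
  -- the open subspace `Y = T ∩ O` of `T`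
  let Y := {t : ↥T // t.1 ∈ Set.range (Points.ofPt a)}
  let f : Y → ↥T := Subtype.val
  have hf : Topology.IsOpenEmbedding f :=
    (hOopen.preimage continuous_subtype_val).isOpenEmbedding_subtypeVal
  let q : ↥T' → Y := fun t => ⟨⟨Points.ofPt a t.1, t.2⟩, ⟨t.1, rfl⟩⟩
  have hqc : Continuous q :=
    (((Points.continuous_ofPt a).comp continuous_subtype_val).subtype_mk _).subtype_mk _
  have hqs : Function.Surjective q := by
    rintro ⟨⟨y, hyT⟩, ⟨t, ht⟩⟩
    have ht' : Points.ofPt a t = y := ht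
    subst ht'
    exact ⟨⟨t, hyT⟩, rfl⟩
  have hfinY : (irreducibleComponents Y).Finite :=
    Groth.Agent.Lib.helper5.IrrCover.finite_irreducibleComponents_of_surjective q hqc hqs hfin'
  have h1 := Groth.Agent.Lib.helper5.IrrCover.finite_meeting_of_isOpenEmbedding f hf hfinY
  refine Set.Finite.of_finite_image (f := Subtype.val) (h1.subset ?_) Subtype.val_injective.injOn
  rintro _ ⟨Z, hZ, rfl⟩
  refine ⟨Z.2, ?_⟩
  obtain ⟨_, ⟨z, hzZ, rfl⟩, hzO⟩ := hZ
  exact ⟨z, hzZ, ⟨z, hzO⟩, rfl⟩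

end Groth.Agent.S10491
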