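import Groth.Statements.S10496
import Groth.Agent.S10192
import Groth.Agent.S10351
import Groth.Agent.S10191

set_option autoImplicit false
universe u
open CategoryTheory CategoryTheory.Limits AlgebraicGeometry Topology TopologicalSpace
open AlgSp

namespace Groth.Agent.S10496

variable {S : Scheme.{u}}

theorem irreducibleSpace_of_isEmbedding {A B : Type*} [TopologicalSpace A] [TopologicalSpace B]
    (e : A → B) (he : IsEmbedding e) (h : IsIrreducible (Set.range e)) : IrreducibleSpace A := by
  have h1 : IrreducibleSpace (Set.range e) := Subtype.irreducibleSpace h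
  let φ := he.toHomeomorph
  have h2 : IsIrreducible (φ.symm '' Set.univ) :=
    (IrreducibleSpace.isIrreducible_univ _).image φ.symm φ.symm.continuous.continuousOn
  rw [Set.image_univ, φ.symm.surjective.range_eq] at h2
  exact (irreducibleSpace_def A).2 h2

theorem main (X : AlgSp.Space S)
    (hX : AlgSp.IsDecent X.obj) (T : Set (AlgSp.Points X.obj)) (hT : IsClosed T) (hTi : IsIrreducible T) :
    ∃ (Z : AlgSp.Space S) (i : Z ⟶ X), AlgSp.RepWith @IsClosedImmersion i.hom ∧ AlgSp.IsIntegralSp Z.obj ∧
      Set.range (AlgSp.Points.map i.hom) = T := by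
  obtain ⟨Z, i, hcl, hr, hred⟩ := Groth.Agent.S10192.main X T hT
  refine ⟨Z, i, hcl, ⟨hred, ?_, ?_⟩, hr⟩
  · exact Groth.Agent.S10351.result i hcl.1 hX
  · have himm : RepWith @IsImmersion i.hom :=
      Groth.Agent.S10194.repWith_mono (fun _ _ f hf => by
        have : IsClosedImmersion f := hf
        exact inferInstanceAs (IsImmersion f)) hcl
    have hemb := (Groth.Agent.S10191.result i himm).1
    exact irreducibleSpace_of_isEmbedding _ hemb (by rw [hr]; exact hTi)

/-- Let X be a decent algebraic space over a scheme S. For every irreducible closed subset T of |X|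
there is an integral closed subspace Z of X with |Z| = T. -/
theorem result {S : Scheme.{u}} (X : AlgSp.Space S)
    (hX : AlgSp.IsDecent X.obj) (T : Set (AlgSp.Points X.obj)) (hT : IsClosed T) (hTi : IsIrreducible T) :
    ∃ (Z : AlgSp.Space S) (i : Z ⟶ X), AlgSp.RepWith @IsClosedImmersion i.hom ∧ AlgSp.IsIntegralSp Z.obj ∧
      Set.range (AlgSp.Points.map i.hom) = T := by
  exact main X hX T hT hTi

end Groth.Agent.S10496
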