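import Groth.Statements.S10498
import Groth.Agent.S12237
import Groth.Agent.S0733
import Groth.Agent.Lib.Helper24.IndEtaleProps
-- import your own Groth.Agent.* helpers here

set_option autoImplicit false
universe u
open TensorProduct
open Hensel

namespace Groth.Agent.S10498

/-- (1) ⇔ (2): let k be a field, A a local k-algebra and R a strict henselization of A. Then A is
geometrically reduced over k (K ⊗_k A reduced for every field extension K of k) if and only if R is
geometrically reduced over k. -/
theorem result (k : Type u) [Field k]
    (A : Type u) [CommRing A] [IsLocalRing A] [Algebra k A]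
    (R : Type u) [CommRing R] [IsLocalRing R] [Algebra A R] [IsLocalHom (algebraMap A R)]
    [Hensel.IsStrictHenselization A R] [Algebra k R] [IsScalarTower k A R] :
    (∀ (K : Type u) [Field K] [Algebra k K], IsReduced (TensorProduct k K A)) ↔
      ∀ (K : Type u) [Field K] [Algebra k K], IsReduced (TensorProduct k K R) := by
  constructor
  · intro hA K _ _
    have hind : EtPBC.IsIndEtale A R := Groth.Agent.S12237.result A R
    have hind' : EtPBC.IsIndEtale (TensorProduct k A K) (TensorProduct A (TensorProduct k A K) R) :=
      Groth.Agent.S0733.result A R (TensorProduct k A K) hind
    have hred0 : IsReduced (TensorProduct k K A) := hA K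
    have hred1 : IsReduced (TensorProduct k A K) :=
      isReduced_of_injective (Algebra.TensorProduct.comm k A K).toRingEquiv.toRingHom
        (Algebra.TensorProduct.comm k A K).injective
    have hred2 : IsReduced (TensorProduct A (TensorProduct k A K) R) :=
      Groth.Agent.Lib.Helper24.IndEtaleProps.isReduced_of_isIndEtale _ _ hind'
    have hred3 : IsReduced (TensorProduct A R (TensorProduct k A K)) :=
      isReduced_of_injective (Algebra.TensorProduct.comm A R (TensorProduct k A K)).toRingEquiv.toRingHom
        (Algebra.TensorProduct.comm A R (TensorProduct k A K)).injective
    have hred4 : IsReduced (TensorProduct k R K) :=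
      isReduced_of_injective (Algebra.TensorProduct.cancelBaseChange k A A R K).symm.toRingEquiv.toRingHom
        (Algebra.TensorProduct.cancelBaseChange k A A R K).symm.injective
    exact isReduced_of_injective (Algebra.TensorProduct.comm k K R).toRingEquiv.toRingHom
        (Algebra.TensorProduct.comm k K R).injective
  · intro hR K _ _
    have hred : IsReduced (TensorProduct k K R) := hR K
    have hff : Module.FaithfullyFlat A R :=
      Groth.Agent.Lib.Helper24.StrictHens.faithfullyFlat_of_isStrictHenselization A R
    have hinj : Function.Injective (IsScalarTower.toAlgHom k A R) :=
      FaithfulSMul.algebraMap_injective A R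
    have hinj' : Function.Injective
        (Algebra.TensorProduct.map (AlgHom.id k K) (IsScalarTower.toAlgHom k A R)) :=
      Module.Flat.lTensor_preserves_injective_linearMap (M := K)
        (IsScalarTower.toAlgHom k A R).toLinearMap hinj
    exact isReduced_of_injective
      (Algebra.TensorProduct.map (AlgHom.id k K) (IsScalarTower.toAlgHom k A R)).toRingHom hinj'

end Groth.Agent.S10498
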