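import Groth.Statements.S10500
import Groth.Agent.Lib.Helper1.GenFinM
import Groth.Agent.S10400
import Groth.Agent.S16833

set_option autoImplicit false
universe u
open CategoryTheory CategoryTheory.Limits AlgebraicGeometry Topology TopologicalSpace
open AlgSp

namespace Groth.Agent.S10500

open Groth.Agent.Lib.helper5 Groth.Agent.Lib.helper5.NearLocus Groth.Agent.Lib.helper5.LqfLocus
open Groth.Agent.Lib.helper11 Groth.Agent.Lib.helper10 Groth.Agent.H1.GenFin

theorem main {S : Scheme.{u}} {X Y : AlgSp.Space S}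
    (hXi : AlgSp.IsIntegralSp X.obj) (hYi : AlgSp.IsIntegralSp Y.obj) (f : X ⟶ Y)
    (hp : AlgSp.IsProperMor f.hom) (hd : AlgSp.IsDominantMor f.hom)
    (x : AlgSp.Points X.obj) (hx : IsGenericPoint x (Set.univ : Set (AlgSp.Points X.obj)))
    (y : AlgSp.Points Y.obj) (hy : IsGenericPoint y (Set.univ : Set (AlgSp.Points Y.obj))) :
    (∃ (V : AlgSp.Space S) (j : V ⟶ Y), AlgSp.RepWith @IsOpenImmersion j.hom ∧
      Nonempty (AlgSp.Points V.obj) ∧
      ∀ (P : AlgSp.Space S) (fst : P ⟶ V) (snd : P ⟶ X), IsPullback fst.hom snd.hom j.hom f.hom →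
        AlgSp.IsFiniteMor fst.hom) ↔
      (∀ x' : AlgSp.Points X.obj, AlgSp.Points.map f.hom x' = y → x' = x) := by
  obtain ⟨hsep, ⟨hft, -⟩, -⟩ := hp
  have hXd : IsDecent X.obj := hXi.2.1
  have hYd : IsDecent Y.obj := hYi.2.1
  haveI : T0Space (Points Y.obj) := Groth.Agent.S10338.main Y hYd
  have hfx : Points.map f.hom x = y := map_generic_eq f.hom hd x hx y hy
  have hy0 : HasAt D0 Y.obj y := (hasAt_dimZero_iff_eq_generic Y hYd y hy y).2 rfl
  constructor
  · rintro ⟨V, j, hj, hne, H⟩ x' hx'
    refine (hasAt_dimZero_iff_eq_generic X hXd x hx x').1 ?_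
    refine ((Groth.Agent.S10399.main f hft y hy0).1).2 (fun x'' hx'' => ?_) x' hx'
    -- `y` lies in `V`
    have hyV : y ∈ Set.range (Points.map j.hom) := by
      have hop : IsOpen (Set.range (Points.map j.hom)) := by
        obtain ⟨T, p, hpe, hps⟩ := V.property.atlas
        have e : Set.range (Points.map j.hom) = Set.range (Points.ofPt (p ≫ j.hom)) := by
          ext z
          constructor
          · rintro ⟨w, rfl⟩
            obtain ⟨t, rfl⟩ := surjective_ofPt p hps w
            exact ⟨t, (Points.map_ofPt _ _ _).symm⟩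
          · rintro ⟨t, rfl⟩
            exact ⟨Points.ofPt p t, Points.map_ofPt _ _ _⟩
        rw [e]
        have hpj : RepWith @Etale (p ≫ j.hom) :=
          (RepWith (S := S) @Etale).comp_mem _ _ hpe
            (Groth.Agent.S10194.repWith_mono (fun A B g hg => by
              have : IsOpenImmersion g := hg; infer_instance) hj)
        exact (isOpenMap_ofPt _ hpj).isOpen_range
      obtain ⟨v⟩ := hne
      exact (hy.mem_open_set_iff hop).2 ⟨Points.map j.hom v, Set.mem_univ _, ⟨v, rfl⟩⟩
    obtain ⟨v, hv⟩ := hyV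
    -- the base change
    have sq : IsPullback (pullback.fst j.hom f.hom) (pullback.snd j.hom f.hom) j.hom f.hom :=
      IsPullback.of_hasPullback _ _
    have hP : IsAlgSpace (pullback j.hom f.hom) :=
      isAlgSpace_of_isPullback Y.property.diag V.property X.property sq
    have hfin : IsFiniteMor (pullback.fst j.hom f.hom) :=
      H ⟨_, hP⟩ (ObjectProperty.homMk (pullback.fst j.hom f.hom))
        (ObjectProperty.homMk (pullback.snd j.hom f.hom)) sq
    have hlqf : LocP Plqf (pullback.fst j.hom f.hom) :=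
      Groth.Agent.S16833.locP_lqf_of_isFiniteMor _ hfin
    obtain ⟨w, hw1, hw2⟩ := exists_point_of_isPullback sq.flip x'' v (by rw [hx'', hv])
    have h1 : HasAtMor (NearAt Plqf) (pullback.fst j.hom f.hom) w :=
      hasAtMor_of_locP etLocal_lqf hP V.property _ hlqf w
    have h2 := (lqfLocus_baseChange X.property Y.property V.property sq.flip hft w).1 h1
    rwa [hw1] at h2
  · intro hu
    have hX0 : {x' : Points X.obj | HasAt D0 X.obj x'}.Finite :=
      (Set.finite_singleton x).subset fun x' h => (hasAt_dimZero_iff_eq_generic X hXd x hx x').1 h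
    have hY0 : {y' : Points Y.obj | HasAt D0 Y.obj y'}.Finite :=
      (Set.finite_singleton y).subset fun y' h => (hasAt_dimZero_iff_eq_generic Y hYd y hy y').1 h
    have hpre : ∀ x' : Points X.obj, HasAt D0 X.obj x' ↔ HasAt D0 Y.obj (Points.map f.hom x') := by
      intro x'
      rw [hasAt_dimZero_iff_eq_generic X hXd x hx, hasAt_dimZero_iff_eq_generic Y hYd y hy]
      exact ⟨fun h => by rw [h, hfx], hu x'⟩
    obtain ⟨V, X', j, fst, snd, hj, hdense, sq, hfin⟩ :=
      Groth.Agent.S10400.main f hft hYd hX0 hY0 hpre (Or.inr hsep)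
    refine ⟨V, j, hj, ?_, fun P fst' snd' sqP => ?_⟩
    · obtain ⟨z, hz⟩ := hdense.nonempty_iff.2 ⟨y⟩
      obtain ⟨v, -⟩ := hz
      exact ⟨v⟩
    · let e := sqP.isoIsPullback _ _ sq
      have he : e.inv ≫ fst'.hom = fst.hom := IsPullback.isoIsPullback_inv_fst _ _ sqP sq
      refine isFiniteMor_of_iso_comp e.inv fst'.hom ?_
      rw [he]
      exact hfin

/-- Let X and Y be integral algebraic spaces over a scheme S with generic points x and y, and f : X ⟶ Y
a morphism which is proper and dominant. Then f is an alteration (finite over some nonempty open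
subspace of Y) if and only if x is the only point of X mapping to y. -/
theorem result {S : Scheme.{u}} {X Y : AlgSp.Space S}
    (hXi : AlgSp.IsIntegralSp X.obj) (hYi : AlgSp.IsIntegralSp Y.obj) (f : X ⟶ Y) (hp : AlgSp.IsProperMor f.hom)
    (hd : AlgSp.IsDominantMor f.hom)
    (x : AlgSp.Points X.obj) (hx : IsGenericPoint x (Set.univ : Set (AlgSp.Points X.obj)))
    (y : AlgSp.Points Y.obj) (hy : IsGenericPoint y (Set.univ : Set (AlgSp.Points Y.obj))) :
    (∃ (V : AlgSp.Space S) (j : V ⟶ Y), AlgSp.RepWith @IsOpenImmersion j.hom ∧ Nonempty (AlgSp.Points V.obj) ∧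
      ∀ (P : AlgSp.Space S) (fst : P ⟶ V) (snd : P ⟶ X), IsPullback fst.hom snd.hom j.hom f.hom →
        AlgSp.IsFiniteMor fst.hom) ↔ (∀ x' : AlgSp.Points X.obj, AlgSp.Points.map f.hom x' = y → x' = x) := by
  exact main hXi hYi f hp hd x hx y hy

end Groth.Agent.S10500
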