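import Groth.Statements.S10507
import Groth.Agent.Lib.Helper1.LocPFlatComp

set_option autoImplicit false
universe u
open CategoryTheory CategoryTheory.Limits AlgebraicGeometry
open AlgSp

namespace Groth.Agent.S10507

/-- If `{X_i ⟶ X}` is an fpqc covering of the algebraic space `X` by algebraic spaces and each `X_i` has
an fpqc covering `{X_ij ⟶ X_i}` by algebraic spaces, then the composites `X_ij ⟶ X_i ⟶ X`, indexed
by the pairs `(i, j)`, form an fpqc covering of `X`. -/
theorem result {S : Scheme.{u}} (X : AlgSp.Space S) {ι : Type u}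
    (Xi : ι → AlgSp.Space S) (g : ∀ i, Xi i ⟶ X) (κ : ι → Type u) (Xij : ∀ i, κ i → AlgSp.Space S)
    (gij : ∀ i j, Xij i j ⟶ Xi i)
    (h : AlgSp.IsFpqcCover (fun i => (Xi i).obj) (fun i => (g i).hom))
    (hij : ∀ i, AlgSp.IsFpqcCover (fun j => (Xij i j).obj) (fun j => (gij i j).hom)) :
    AlgSp.IsFpqcCover (fun r : Σ i, κ i => (Xij r.1 r.2).obj) (fun r => (gij r.1 r.2 ≫ g r.1).hom) := by
  obtain ⟨hfl, href⟩ := h
  refine ⟨fun r => ?_, ?_⟩
  · have := Groth.Agent.H1.LocPFlatComp.locP_flat_comp (Xi r.1).property (gij r.1 r.2).hom (g r.1).hom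
      ((hij r.1).1 r.2) (hfl r.1)
    exact this
  · intro Z hZ hh
    obtain ⟨m, W, c, hWaff, hcflat, hcsurj, hlift⟩ := href Z hZ hh
    choose i l hl using hlift
    have key : ∀ j, ∃ (m' : ℕ) (W' : Fin m' → Over S) (c' : ∀ k, W' k ⟶ W j),
        (∀ k, IsAffine (W' k).left) ∧ (∀ k, Flat (c' k).left) ∧
        (∀ z : ↥(W j).left, ∃ k, z ∈ Set.range (c' k).left) ∧
        ∀ k, ∃ (j' : κ (i j)) (l' : (yon S).obj (W' k) ⟶ (Xij (i j) j').obj),
          l' ≫ (gij (i j) j').hom = (yon S).map (c' k) ≫ l j :=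
      fun j => (hij (i j)).2 (W j) (hWaff j) (l j)
    choose m' W' c' hW'aff hc'flat hc'surj hlift' using key
    choose j' l' hl' using hlift'
    let e : (Σ j : Fin m, Fin (m' j)) ≃ Fin (∑ j, m' j) := finSigmaFinEquiv
    refine ⟨∑ j, m' j, fun n => W' (e.symm n).1 (e.symm n).2,
      fun n => c' (e.symm n).1 (e.symm n).2 ≫ c (e.symm n).1, fun n => hW'aff _ _, fun n => ?_, ?_, ?_⟩
    · have h1 := hc'flat (e.symm n).1 (e.symm n).2
      have h2 := hcflat (e.symm n).1
      rw [Over.comp_left]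
      infer_instance
    · intro z
      obtain ⟨j, w, rfl⟩ := hcsurj z
      obtain ⟨k, w', rfl⟩ := hc'surj j w
      have aux : ∀ (n : Fin (∑ j, m' j)) (p : Σ j : Fin m, Fin (m' j)), e.symm n = p →
          ∀ w' : ↥(W' p.1 p.2).left, (c p.1).left ((c' p.1 p.2).left w') ∈
            Set.range (c' (e.symm n).1 (e.symm n).2 ≫ c (e.symm n).1).left := by
        intro n p hp w'
        subst hp
        exact ⟨w', by simp⟩
      exact ⟨e ⟨j, k⟩, aux (e ⟨j, k⟩) ⟨j, k⟩ (e.symm_apply_apply _) w'⟩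
    · intro n
      refine ⟨⟨i (e.symm n).1, j' (e.symm n).1 (e.symm n).2⟩, l' (e.symm n).1 (e.symm n).2, ?_⟩
      show _ ≫ (gij _ _).hom ≫ (g _).hom = _
      rw [← Category.assoc, hl', Category.assoc, hl, Functor.map_comp, Category.assoc]

end Groth.Agent.S10507
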