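import Groth.Statements.S10508
import Groth.Agent.Lib.Helper1.LocPFlatComp
import Groth.Agent.Lib.Helper11.AlgSpBasic

set_option autoImplicit false
universe u
open CategoryTheory CategoryTheory.Limits AlgebraicGeometry
open AlgSp

namespace Groth.Agent.S10508

variable {S : Scheme.{u}}

section
variable {X : Sp S} {ι : Type u} {Xi : ι → Sp S} {g : ∀ i, Xi i ⟶ X} {U : Over S}
  {p : (yon S).obj U ⟶ X} {Ui : ι → Sp S} {q : ∀ i, Ui i ⟶ (yon S).obj U} {p' : ∀ i, Ui i ⟶ Xi i}

theorem forward (hp : RepWith @Etale p) (sq : ∀ i, IsPullback (q i) (p' i) p (g i))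
    (hcov : IsFpqcCover Xi g) : IsFpqcCover Ui q := by
  refine ⟨fun i => ?_, ?_⟩
  · intro A B a b h ha hb hsq
    have hp'i : RepWith @Etale (p' i) := (RepWith (S := S) @Etale).of_isPullback (sq i) hp
    refine hcov.1 i (a ≫ p' i) (b ≫ p) h ((RepWith (S := S) @Etale).comp_mem _ _ ha hp'i)
      ((RepWith (S := S) @Etale).comp_mem _ _ hb hp) ?_
    rw [Category.assoc, ← (sq i).w, ← Category.assoc, hsq, Category.assoc]
  · intro Z hZ hh
    obtain ⟨m, W, c, h1, h2, h3, h4⟩ := hcov.2 Z hZ (hh ≫ p)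
    refine ⟨m, W, c, h1, h2, h3, fun j => ?_⟩
    obtain ⟨i, l, hl⟩ := h4 j
    exact ⟨i, (sq i).lift ((yon S).map (c j) ≫ hh) l (by rw [Category.assoc, hl]),
      (sq i).lift_fst _ _ _⟩

theorem backward_flat (hp : RepWith @Etale p) (hps : RepWith @Surjective p)
    (sq : ∀ i, IsPullback (q i) (p' i) p (g i)) (i : ι) (hq : LocP @Flat (q i)) :
    LocP @Flat (g i) := by
  intro A B a b h ha hb hsq
  obtain ⟨B', rB, tB', sqB⟩ := hp.1 b
  have hrB_et : Etale rB.left := hp.2 _ _ _ sqB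
  have hrB_surj : Surjective rB.left := hps.2 _ _ _ sqB
  obtain ⟨tB, rfl⟩ := (yon S).map_surjective tB'
  have htB_et : Etale tB.left := hb.2 _ _ _ sqB.flip
  -- `A' = A ×_B B'`
  have sqA0 := IsPullback.of_hasPullback h rB
  have sqA := sqA0.flip.map (yon S)
  have big := sqA.paste_horiz sqB
  have hw : (yon S).map (pullback.snd h rB ≫ tB) ≫ p =
      ((yon S).map (pullback.fst h rB) ≫ a) ≫ g i := by
    rw [Category.assoc, hsq, ← Category.assoc, ← Functor.map_comp, pullback.condition,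
      Functor.map_comp, Functor.map_comp, Category.assoc, Category.assoc, sqB.w]
  set a' := (sq i).lift _ _ hw with ha'def
  have ha'1 : a' ≫ q i = (yon S).map (pullback.snd h rB ≫ tB) := (sq i).lift_fst _ _ hw
  have ha'2 : a' ≫ p' i = (yon S).map (pullback.fst h rB) ≫ a := (sq i).lift_snd _ _ hw
  have big' : IsPullback (a' ≫ q i) ((yon S).map (pullback.fst h rB)) p (a ≫ g i) := by
    rw [ha'1, hsq, Functor.map_comp]; exact big
  have sqA' := IsPullback.of_right big' ha'2 (sq i)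
  have ha'et : RepWith @Etale a' := (RepWith (S := S) @Etale).of_isPullback sqA'.flip ha
  have hflat1 : Flat (pullback.snd h rB).left := by
    refine hq a' ((yon S).map tB) (pullback.snd h rB) ha'et
      ((repWith_yon_map_iff @Etale tB).2 htB_et) ?_
    rw [ha'1, Functor.map_comp]
  have sqS := sqA0.map (Over.forget S)
  have hfst_et : Etale (pullback.fst h rB).left :=
    MorphismProperty.of_isPullback (P := @Etale) sqS.flip hrB_et
  have hfst_surj : Surjective (pullback.fst h rB).left :=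
    MorphismProperty.of_isPullback (P := @Surjective) sqS.flip hrB_surj
  have hcomp : Flat ((pullback.fst h rB).left ≫ h.left) := by
    have : (pullback.fst h rB).left ≫ h.left = (pullback.snd h rB).left ≫ rB.left := by
      rw [← Over.comp_left, ← Over.comp_left, pullback.condition]
    rw [this]; infer_instance
  exact Groth.Agent.Lib.helper22.flat_of_flat_comp (pullback.fst h rB).left h.left

theorem backward_refine (hp : RepWith @Etale p) (hps : RepWith @Surjective p)
    (sq : ∀ i, IsPullback (q i) (p' i) p (g i)) (hcov : IsFpqcCover Ui q)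
    (Z : Over S) (hZ : IsAffine Z.left) (hh : (yon S).obj Z ⟶ X) :
    ∃ (m : ℕ) (W : Fin m → Over S) (c : ∀ j, W j ⟶ Z),
      (∀ j, IsAffine (W j).left) ∧ (∀ j, Flat (c j).left) ∧
      (∀ z : ↥Z.left, ∃ j, z ∈ Set.range (c j).left) ∧
      ∀ j, ∃ (i : _) (l : (yon S).obj (W j) ⟶ Xi i), l ≫ g i = (yon S).map (c j) ≫ hh := by
  obtain ⟨Z', z, z2, sqZ⟩ := hp.1 hh
  have hz_et : Etale z.left := hp.2 _ _ _ sqZ
  have hz_surj : Surjective z.left := hps.2 _ _ _ sqZ
  let 𝒰 := Z'.left.affineCover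
  let Zk : 𝒰.I₀ → Over S := fun k => Over.mk (𝒰.f k ≫ Z'.hom)
  let ιk : ∀ k, Zk k ⟶ Z' := fun k => Over.homMk (𝒰.f k) rfl
  have haff : ∀ k, IsAffine (Zk k).left := fun k => inferInstanceAs (IsAffine (𝒰.X k))
  choose m' W' c' h1 h2 h3 h4 using fun k => hcov.2 (Zk k) (haff k) ((yon S).map (ιk k) ≫ z2)
  -- finitely many of the opens `z(𝒰_k)` cover `Z`
  have hopen : ∀ k, IsOpen (Set.range (𝒰.f k ≫ z.left)) := fun k =>
    (𝒰.f k ≫ z.left).isOpenMap.isOpen_range
  have hcover : (Set.univ : Set ↥Z.left) ⊆ ⋃ k, Set.range (𝒰.f k ≫ z.left) := by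
    intro x _
    obtain ⟨y, rfl⟩ := hz_surj.surj x
    obtain ⟨k, y', rfl⟩ := 𝒰.exists_eq y
    exact Set.mem_iUnion.2 ⟨k, y', rfl⟩
  obtain ⟨t, ht⟩ := isCompact_univ.elim_finite_subcover _ hopen hcover
  let e := Fintype.equivFin (Σ k : {k // k ∈ t}, Fin (m' k.1))
  refine ⟨Fintype.card (Σ k : {k // k ∈ t}, Fin (m' k.1)),
    fun n => W' (e.symm n).1.1 (e.symm n).2,
    fun n => c' (e.symm n).1.1 (e.symm n).2 ≫ ιk (e.symm n).1.1 ≫ z,
    fun n => h1 _ _, fun n => ?_, ?_, ?_⟩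
  · have := h2 (e.symm n).1.1 (e.symm n).2
    have h𝒰 : Flat (ιk (e.symm n).1.1).left := by
      change Flat (𝒰.f (e.symm n).1.1); infer_instance
    rw [Over.comp_left, Over.comp_left]
    infer_instance
  · intro x
    obtain ⟨k, hk⟩ := Set.mem_iUnion.1 (ht (Set.mem_univ x))
    obtain ⟨hkt, y, rfl⟩ := Set.mem_iUnion.1 hk
    obtain ⟨j, w, hw⟩ := h3 k y
    have aux : ∀ (n : Fin (Fintype.card (Σ k : {k // k ∈ t}, Fin (m' k.1))))
        (pr : Σ k : {k // k ∈ t}, Fin (m' k.1)), e.symm n = pr →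
        ∀ w' : ↥(W' pr.1.1 pr.2).left,
          (𝒰.f pr.1.1 ≫ z.left) ((c' pr.1.1 pr.2).left w') ∈
            Set.range (c' (e.symm n).1.1 (e.symm n).2 ≫ ιk (e.symm n).1.1 ≫ z).left := by
      intro n pr hpr w'
      subst hpr
      exact ⟨w', rfl⟩
    have := aux (e ⟨⟨k, hkt⟩, j⟩) ⟨⟨k, hkt⟩, j⟩ (e.symm_apply_apply _) w
    rw [hw] at this
    exact ⟨_, this⟩
  · intro n
    obtain ⟨i, l, hl⟩ := h4 (e.symm n).1.1 (e.symm n).2
    refine ⟨i, l ≫ p' i, ?_⟩
    rw [Category.assoc, ← (sq i).w, ← Category.assoc, hl, Functor.map_comp, Functor.map_comp]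
    simp only [Category.assoc]
    rw [sqZ.w]

end

/-- Let `X` be an algebraic space over `S`, `{X_i ⟶ X}` a family of morphisms of algebraic spaces and
`h_U ⟶ X` a representable etale, representable surjective map from a scheme `U` over `S`, with
pullback squares of sheaves exhibiting algebraic spaces `U_i` as `U ×_X X_i`. Then `{X_i ⟶ X}` is an
fpqc covering of `X` if and only if `{U_i ⟶ h_U}` is an fpqc covering of `h_U`. -/
theorem result {S : Scheme.{u}} (X : AlgSp.Space S) {ι : Type u}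
    (Xi : ι → AlgSp.Space S) (g : ∀ i, Xi i ⟶ X) {U : Over S} (p : (AlgSp.yon S).obj U ⟶ X.obj)
    (hp : AlgSp.RepWith @Etale p) (hps : AlgSp.RepWith @Surjective p)
    (Ui : ι → AlgSp.Space S) (q : ∀ i, (Ui i).obj ⟶ (AlgSp.yon S).obj U) (p' : ∀ i, Ui i ⟶ Xi i)
    (sq : ∀ i, IsPullback (q i) (p' i).hom p (g i).hom) :
    AlgSp.IsFpqcCover (fun i => (Xi i).obj) (fun i => (g i).hom) ↔
      AlgSp.IsFpqcCover (fun i => (Ui i).obj) q := by
  constructor
  · intro hcov
    exact forward hp sq hcov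
  · intro hcov
    exact ⟨fun i => backward_flat hp hps sq i (hcov.1 i),
      fun Z hZ hh => backward_refine hp hps sq hcov Z hZ hh⟩

end Groth.Agent.S10508
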