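import Groth.Statements.S10509
import Groth.Agent.S0412
import Groth.Agent.Lib.Helper5.AlgSpSmLocal
import Groth.Agent.Lib.Helper5.AlgSpLargestOpen
import Groth.Agent.Lib.Helper11.AlgSpBasic

set_option autoImplicit false
universe u
open CategoryTheory CategoryTheory.Limits AlgebraicGeometry
open AlgSp

namespace Groth.Agent.S10509

/-- A smooth covering of an algebraic space `X` over `S` by algebraic spaces can be refined by an etale
covering of `X` by algebraic spaces: there is an etale covering `{U_j ⟶ X}` each member of which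
factors through some member of the given smooth covering. -/
theorem result {S : Scheme.{u}} (X : AlgSp.Space S) {ι : Type u}
    (Xi : ι → AlgSp.Space S) (g : ∀ i, Xi i ⟶ X)
    (h : AlgSp.IsSmCover (fun i => (Xi i).obj) (fun i => (g i).hom)) :
    ∃ (κ : Type u) (U : κ → AlgSp.Space S) (c : ∀ j, U j ⟶ X),
      AlgSp.IsEtCover (fun j => (U j).obj) (fun j => (c j).hom) ∧
      ∀ j, ∃ (i : ι) (r : U j ⟶ Xi i), r ≫ g i = c j := by
  obtain ⟨V, a, hae, has⟩ := Groth.Agent.Lib.helper5.SmLocal.exists_atlas_points X.property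
  have haE : AlgSp.IsEtaleMor a := fun U φ hφ => (RepWith (S := S) @Etale).comp_mem φ a hφ hae
  -- local construction at each point of the atlas
  have key : ∀ v : ↥V.left, ∃ (T : Over S) (e : T ⟶ V) (t : ↥T.left) (i : ι)
      (r : (AlgSp.yon S).obj T ⟶ (Xi i).obj), Etale e.left ∧ e.left t = v ∧
        r ≫ (g i).hom = (AlgSp.yon S).map e ≫ a := by
    intro v
    obtain ⟨i, y, hy⟩ := h.2 (Points.ofPt a v)
    obtain ⟨W, b, hbe, hbs⟩ := Groth.Agent.Lib.helper5.SmLocal.exists_atlas_points (Xi i).property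
    obtain ⟨w, hw⟩ := hbs y
    have hxw : Points.ofPt a v = Points.ofPt (b ≫ (g i).hom) w := by
      rw [← Points.map_ofPt, hw, hy]
    obtain ⟨P, snd, fst, hpb⟩ := hae.rep (b ≫ (g i).hom)
    obtain ⟨φ, rfl⟩ := (AlgSp.yon S).map_surjective fst
    have hsnd : Etale snd.left := hae.2 _ _ snd hpb
    have hsm : Smooth φ.left := by
      refine h.1 i ((AlgSp.yon S).map snd ≫ b) a φ ?_ hae ?_
      · exact (RepWith (S := S) @Etale).comp_mem _ b
          ((repWith_yon_map_iff _ _).2 hsnd) hbe
      · rw [Category.assoc, ← hpb.w]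
    obtain ⟨pt, hpt1, -⟩ :=
      Groth.Agent.Lib.helper11.exists_of_isPullback_schemes hpb v w hxw
    obtain ⟨S', e, s', he, hes', hh, hhe⟩ := Groth.Agent.S0412.result φ.left v ⟨pt, hpt1⟩
    let T : Over S := Over.mk (e ≫ V.hom)
    let eo : T ⟶ V := Over.homMk e rfl
    let ho : T ⟶ P := Over.homMk hh (by
      show hh ≫ P.hom = e ≫ V.hom
      rw [← Over.w φ, ← Category.assoc, hhe])
    have hho : ho ≫ φ = eo := by
      ext
      exact hhe
    refine ⟨T, eo, s', i, (AlgSp.yon S).map ho ≫ (AlgSp.yon S).map snd ≫ b, he, hes', ?_⟩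
    rw [Category.assoc, Category.assoc, ← hpb.w, ← Category.assoc, ← Functor.map_comp, hho]
  choose T e t i r he het hr using key
  refine ⟨↥V.left, fun v => ⟨(AlgSp.yon S).obj (T v), IsAlgSpace.yon_obj _⟩,
    fun v => ObjectProperty.homMk ((AlgSp.yon S).map (e v) ≫ a), ⟨?_, ?_⟩, ?_⟩
  · intro v
    exact Groth.Agent.Lib.helper5.LargestOpen.isEtaleMor_comp _ _
      ((isEtaleMor_yon_map_iff (e v)).2 (he v)) haE
  · intro x
    obtain ⟨v, rfl⟩ := has x
    refine ⟨v, Points.ofScheme (T v) (t v), ?_⟩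
    show Points.map ((AlgSp.yon S).map (e v) ≫ a) (Points.ofScheme (T v) (t v)) = _
    rw [← Points.ofPt_eq_map_ofScheme, Groth.Agent.Lib.helper11.ofPt_yon_map_comp, het]
  · intro v
    refine ⟨i v, ObjectProperty.homMk (r v), ?_⟩
    apply ObjectProperty.hom_ext
    exact hr v

end Groth.Agent.S10509
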