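import Groth.Statements.S1051
import Mathlib
-- import your own Groth.Agent.* helpers here

set_option autoImplicit false
universe v u
open CategoryTheory
open CohDer

namespace Groth.Agent.S1051

section helpers

open CategoryTheory Limits Pretriangulated ZeroObject

variable {D : Type u} [Category.{v} D] [Preadditive D] [Limits.HasZeroObject D] [HasShift D ℤ]
    [∀ n : ℤ, (shiftFunctor D n).Additive] [Pretriangulated D]

/-- kernel of composition with `mor₁` in a distinguished triangle, after one shift -/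
lemma eq_zero_of_comp_mor₁_1051 {Y' X' Y₀ : D} (a' : Y' ⟶ X') (b : X' ⟶ Y₀) (c : Y₀ ⟶ Y'⟦(1 : ℤ)⟧)
    (hT : Triangle.mk a' b c ∈ distTriang D) {W : D} (v : W ⟶ Y') (hv : v ≫ a' = 0)
    (hW : ∀ g : W⟦(1 : ℤ)⟧ ⟶ Y₀, g = 0) : v = 0 := by
  obtain ⟨g, hg⟩ : ∃ g : W⟦(1 : ℤ)⟧ ⟶ Y₀, v⟦(1 : ℤ)⟧' = g ≫ c :=
    Triangle.coyoneda_exact₁ _ hT (v⟦(1 : ℤ)⟧') (by
      change v⟦(1 : ℤ)⟧' ≫ a'⟦(1 : ℤ)⟧' = 0
      rw [← Functor.map_comp, hv, Functor.map_zero])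
  rw [hW g, zero_comp] at hg
  exact (shiftFunctor D (1 : ℤ)).map_injective (by rw [hg, Functor.map_zero])

variable (X : ChainComplex D ℕ) (n : ℕ)

/-- The invariant carried along the construction. -/
structure Inv1051 (m : ℕ) (Y : D) (a : Y ⟶ X.X m) : Prop where
  L : m + 1 ≤ n → ∃ b : X.X (m + 1) ⟶ Y, b ≫ a = X.d (m + 1) m
  Q : ∀ (i : ℕ) (s : ℤ), s = (i : ℤ) - m - 2 → m + 2 < i → i ≤ n →
    ∀ v : (X.X i)⟦s⟧ ⟶ Y, v = 0
  K : m + 2 ≤ n → ∀ v : X.X (m + 2) ⟶ Y, v ≫ a = 0 → v = 0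

structure State1051 (m : ℕ) where
  Y : D
  a : Y ⟶ X.X m
  inv : Inv1051 X n m Y a

structure Step1051 (m : ℕ) (st : State1051 X n m) where
  Y' : D
  a' : Y' ⟶ X.X (m + 1)
  b : X.X (m + 1) ⟶ st.Y
  c : st.Y ⟶ Y'⟦(1 : ℤ)⟧
  inv : Inv1051 X n (m + 1) Y' a'
  tri : m < n → Triangle.mk a' b c ∈ distTriang D ∧ b ≫ st.a = X.d (m + 1) m

lemma step_nonempty1051 (hX : ∀ i j : ℕ, j + 2 < i → i ≤ n → ∀ φ : (shiftFunctor D ((i : ℤ) - j - 2)).obj (X.X i) ⟶ X.X j, φ = 0) (m : ℕ) (st : State1051 X n m) : Nonempty (Step1051 X n m st) := by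
  by_cases hm : m < n
  · obtain ⟨b, hb⟩ := st.inv.L hm
    obtain ⟨Y', a', c, hT⟩ := distinguished_cocone_triangle₁ b
    refine ⟨⟨Y', a', b, c, ⟨?_, ?_, ?_⟩, fun _ => ⟨hT, hb⟩⟩⟩
    · -- L
      intro hm2
      have h0 : X.d (m + 1 + 1) (m + 1) ≫ b = 0 := by
        apply st.inv.K hm2
        rw [Category.assoc, hb, X.d_comp_d]
      obtain ⟨l, hl⟩ : ∃ l : X.X (m + 1 + 1) ⟶ Y', X.d (m + 1 + 1) (m + 1) = l ≫ a' :=
        Triangle.coyoneda_exact₂ _ hT _ h0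
      exact ⟨l, hl.symm⟩
    · -- Q
      intro i s hs hi hin v
      apply eq_zero_of_comp_mor₁_1051 a' b c hT v
      · subst hs
        have := hX i (m + 1) hi hin
        push_cast at this ⊢
        exact this _
      · intro g
        let e := shiftFunctorAdd' D s 1 (s + 1) rfl
        have h0 := st.inv.Q i (s + 1) (by rw [hs]; push_cast; ring) (by lia) hin (e.hom.app _ ≫ g)
        rw [← cancel_epi (e.hom.app (X.X i)), h0, comp_zero]
    · -- K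
      intro hm3 v hv
      apply eq_zero_of_comp_mor₁_1051 a' b c hT v hv
      intro g
      exact st.inv.Q (m + 1 + 2) 1 (by push_cast; ring) (by lia) hm3 g
  · refine ⟨⟨0, 0, 0, 0, ⟨?_, ?_, ?_⟩, fun h => absurd h hm⟩⟩
    · intro h; lia
    · intro i s _ hi hin; lia
    · intro h; lia

noncomputable def seq1051 (hX : ∀ i j : ℕ, j + 2 < i → i ≤ n → ∀ φ : (shiftFunctor D ((i : ℤ) - j - 2)).obj (X.X i) ⟶ X.X j, φ = 0) : ∀ m : ℕ, State1051 X n m
  | 0 => ⟨X.X 0, 𝟙 _, ⟨fun _ => ⟨X.d 1 0, Category.comp_id _⟩,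
      fun i s hs hi hin v => by
        subst hs
        exact hX i 0 hi hin v,
      fun _ v hv => by rwa [Category.comp_id] at hv⟩⟩
  | m + 1 =>
    let st := seq1051 hX m
    let sp := (step_nonempty1051 X n hX m st).some
    ⟨sp.Y', sp.a', sp.inv⟩

theorem main1051 (hX : ∀ i j : ℕ, j + 2 < i → i ≤ n → ∀ φ : (shiftFunctor D ((i : ℤ) - j - 2)).obj (X.X i) ⟶ X.X j, φ = 0) :
    ∃ (Y : ℕ → D) (a : ∀ k, Y k ⟶ X.X k) (b : ∀ k, X.X (k + 1) ⟶ Y k) (c : ∀ k, Y k ⟶ (shiftFunctor D (1 : ℤ)).obj (Y (k + 1))),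
      IsIso (a 0) ∧ ∀ k, k < n → Triangle.mk (a (k + 1)) (b k) (c k) ∈ distinguishedTriangles ∧ b k ≫ a k = X.d (k + 1) k := by
  refine ⟨fun k => (seq1051 X n hX k).Y, fun k => (seq1051 X n hX k).a,
    fun k => (step_nonempty1051 X n hX k (seq1051 X n hX k)).some.b,
    fun k => (step_nonempty1051 X n hX k (seq1051 X n hX k)).some.c, ?_, ?_⟩
  · change IsIso (𝟙 (X.X 0))
    infer_instance
  · intro k hk
    exact (step_nonempty1051 X n hX k (seq1051 X n hX k)).some.tri hk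

end helpers

open CategoryTheory.Pretriangulated in
/-- Let X be a chain complex in a triangulated category D and n a natural number; consider the finite
complex Xₙ → Xₙ₋₁ → … → X₀. If every morphism Xᵢ[i - j - 2] ⟶ Xⱼ with j + 2 < i ≤ n vanishes, then
there is a Postnikov system for it: objects Yₖ (k ≤ n), an isomorphism Y₀ ⟶ X₀, and for each k < n a
distinguished triangle Yₖ₊₁ ⟶ Xₖ₊₁ ⟶ Yₖ ⟶ Yₖ₊₁[1] such that Xₖ₊₁ ⟶ Yₖ ⟶ Xₖ is the differential of X. -/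
theorem result {D : Type u} [Category.{v} D] [Preadditive D] [Limits.HasZeroObject D] [HasShift D ℤ]
    [∀ n : ℤ, (shiftFunctor D n).Additive] [Pretriangulated D] [IsTriangulated D]
    (X : ChainComplex D ℕ) (n : ℕ)
    (hX : ∀ i j : ℕ, j + 2 < i → i ≤ n → ∀ φ : (shiftFunctor D ((i : ℤ) - j - 2)).obj (X.X i) ⟶ X.X j, φ = 0) :
    ∃ (Y : ℕ → D) (a : ∀ k, Y k ⟶ X.X k) (b : ∀ k, X.X (k + 1) ⟶ Y k) (c : ∀ k, Y k ⟶ (shiftFunctor D (1 : ℤ)).obj (Y (k + 1))),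
      IsIso (a 0) ∧ ∀ k, k < n → Triangle.mk (a (k + 1)) (b k) (c k) ∈ distinguishedTriangles ∧ b k ≫ a k = X.d (k + 1) k := by
  exact main1051 X n hX

end Groth.Agent.S1051
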