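import Groth.Statements.S10514
-- import your own Groth.Agent.* helpers here
import Groth.Agent.Lib.Helper9.PhFppf1
import Groth.Agent.S0441
import Groth.Agent.S10505

set_option autoImplicit false
set_option linter.style.haveILetI false
universe u
open CategoryTheory CategoryTheory.Limits AlgebraicGeometry
open AlgSp

namespace Groth.Agent.S10514

/-- An fppf covering of an algebraic space `X` over `S` by algebraic spaces is a ph covering of `X`: its
members are locally of finite type and every morphism from an affine scheme `Z` to `X` admits a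
standard ph covering of `Z` whose members lift through members of the family. -/
theorem result {S : Scheme.{u}} (X : AlgSp.Space S) {ι : Type u}
    (Xi : ι → AlgSp.Space S) (g : ∀ i, Xi i ⟶ X)
    (h : AlgSp.IsFppfCover (fun i => (Xi i).obj) (fun i => (g i).hom)) :
    AlgSp.IsPhCover (fun i => (Xi i).obj) (fun i => (g i).hom) := by
  refine ⟨fun i U V a b c ha hb hc => ?_, ?_⟩
  · have : LocallyOfFinitePresentation c.left := (h.1 i).2 a b c ha hb hc
    infer_instance
  intro Z hZ t
  obtain ⟨κ, Tk, c, hc1, hc2, hc3, hc4⟩ := Groth.Agent.S10505.exists_family X Xi g h Z t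
  let E : PreZeroHypercover.{u} Z.left :=
    { I₀ := κ
      X := fun k => (Tk k).left
      f := fun k => (c k).left }
  have hE : HTop.IsPhCover E :=
    PhFppf.isPhCover_of_fppf (fun g => Groth.Agent.S0441.result g) E hc1 hc2 (fun z => by
      obtain ⟨k, x, hx⟩ := hc3 z
      exact ⟨k, x, hx⟩)
  obtain ⟨F₀, hF₀, hF₀E⟩ := hE.2 ⟨⊤, isAffineOpen_top Z.left⟩
  let F : PreZeroHypercover.{0} Z.left :=
    { I₀ := F₀.I₀
      X := F₀.X
      f := fun j => F₀.f j ≫ (⊤ : Z.left.Opens).ι }
  refine ⟨F, ⟨hZ, hF₀.finite_index, hF₀.isAffine_obj, ?_⟩, fun j => ?_⟩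
  · obtain ⟨P, f, ι', hp, hs, hoi, hf, hcov⟩ := hF₀.exists_proper
    haveI := hp
    haveI := hs
    haveI : IsIso (⊤ : Z.left.Opens).ι := (inferInstance : IsIso Z.left.topIso.hom)
    refine ⟨P, f ≫ (⊤ : Z.left.Opens).ι, ι', inferInstance, inferInstance, hoi, fun j => ?_, hcov⟩
    change ι' j ≫ f ≫ _ = F₀.f j ≫ _
    rw [← Category.assoc, hf]
  · obtain ⟨k, hk, hkc⟩ := hF₀E j
    obtain ⟨i, l₀, hl₀⟩ := hc4 k
    have hw : hk ≫ (Tk k).hom = F.f j ≫ Z.hom := by
      have h1 : (c k).left ≫ Z.hom = (Tk k).hom := Over.w (c k)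
      rw [← h1, ← Category.assoc]
      congr 1
    let m : Over.mk (F.f j ≫ Z.hom) ⟶ Tk k := Over.homMk hk hw
    have hm : m ≫ c k = (Over.homMk (F.f j) rfl : Over.mk (F.f j ≫ Z.hom) ⟶ Z) := by
      apply Over.OverMorphism.ext
      exact hkc
    refine ⟨i, (AlgSp.yon S).map m ≫ l₀, ?_⟩
    change ((AlgSp.yon S).map m ≫ l₀) ≫ (g i).hom = _
    rw [Category.assoc ((AlgSp.yon S).map m) l₀ (g i).hom, hl₀, ← Functor.map_comp_assoc, hm]

end Groth.Agent.S10514
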