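import Groth.Statements.S10529
import Groth.Agent.S10527
import Groth.Agent.S10519
import Groth.Agent.S10520

set_option autoImplicit false
universe u
open CategoryTheory CategoryTheory.Limits AlgebraicGeometry
open AlgSp

namespace Groth.Agent.S10529

/-- The property of morphisms of algebraic spaces over S given by f is of finite presentation (locally
of finite presentation on etale charts, quasi-compact and quasi-separated) is fpqc local on the
base: for an fpqc covering of an algebraic space Y by algebraic spaces Y_i, a morphism f : X ⟶ Y of
algebraic spaces and cartesian squares X_i = Y_i ×_Y X, f has the property if and only if every X_i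
⟶ Y_i has it. -/
theorem result (S : Scheme.{u}) :
    AlgSp.IsLocalOnBase (AlgSp.IsFpqcCover (S := S)) AlgSp.IsFinitePresentationMor := by
  intro ι Y Yi g hY hYi hcov X f hX Xi p q hXi sq
  have e1 := Groth.Agent.S10527.result S Yi g hY hYi hcov f hX Xi p q hXi sq
  have e2 := Groth.Agent.S10519.result S Yi g hY hYi hcov f hX Xi p q hXi sq
  have e3 := Groth.Agent.S10520.result S Yi g hY hYi hcov f hX Xi p q hXi sq
  constructor
  · rintro ⟨a, b, c⟩ i
    exact ⟨e1.1 a i, e2.1 b i, e3.1 c i⟩
  · intro H
    exact ⟨e1.2 fun i => (H i).1, e2.2 fun i => (H i).2.1, e3.2 fun i => (H i).2.2⟩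

end Groth.Agent.S10529
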