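import Groth.Statements.S1053
import Mathlib
-- import your own Groth.Agent.* helpers here

set_option autoImplicit false
universe w v u
open CategoryTheory CategoryTheory.Limits
open CohDer

namespace Groth.Agent.S1053

section helpers

open CategoryTheory Limits DerivedCategory

variable {A : Type u} [Category.{v} A] [Abelian A] [HasDerivedCategory.{w} A]

theorem main1053 (P K : CochainComplex A ℤ) (n b : ℤ) [P.IsStrictlyGE n] [P.IsStrictlyLE b] (hP : ∀ i : ℤ, Projective (P.X i))
    (hK : ∀ i : ℤ, n ≤ i → IsZero (K.homology i)) :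
    (∀ φ : (HomotopyCategory.quotient A (ComplexShape.up ℤ)).obj P ⟶ (HomotopyCategory.quotient A (ComplexShape.up ℤ)).obj K, φ = 0) ∧
    (∀ φ : DerivedCategory.Q.obj P ⟶ DerivedCategory.Q.obj K, φ = 0) := by
  have hPK : P.IsKProjective := CochainComplex.isKProjective_of_projective P b
  have hKLE : K.IsLE (n - 1) := by
    rw [CochainComplex.isLE_iff]
    intro i hi
    rw [HomologicalComplex.exactAt_iff_isZero_homology]
    exact hK i (by lia)
  have part2 : ∀ φ : DerivedCategory.Q.obj P ⟶ DerivedCategory.Q.obj K, φ = 0 := by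
    intro φ
    have hq : QuasiIso (K.ιTruncLE (n - 1)) := (K.quasiIso_ιTruncLE_iff (n - 1)).2 hKLE
    have hι : IsIso (Q.map (K.ιTruncLE (n - 1))) := (isIso_Q_map_iff_quasiIso (φ := K.ιTruncLE (n - 1))).2 hq
    let e := @asIso _ _ _ _ (Q.map (K.ιTruncLE (n - 1))) hι
    obtain ⟨χ, hχ⟩ := (CochainComplex.IsKProjective.Qh_map_bijective P
      ((HomotopyCategory.quotient _ _).obj (K.truncLE (n - 1)))).2 (φ ≫ e.inv)
    obtain ⟨χ₀, rfl⟩ := (HomotopyCategory.quotient _ _).map_surjective χ
    have hχ₀ : χ₀ = 0 := by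
      ext i
      by_cases hi : i < n
      · exact (P.isZero_of_isStrictlyGE n i hi).eq_of_src _ _
      · exact ((K.truncLE (n - 1)).isZero_of_isStrictlyLE (n - 1) i (by lia)).eq_of_tgt _ _
    rw [hχ₀, Functor.map_zero, Functor.map_zero] at hχ
    have : φ = (φ ≫ e.inv) ≫ e.hom := by simp
    rw [this]
    exact (congrArg (· ≫ e.hom) hχ.symm).trans zero_comp
  refine ⟨fun φ => ?_, part2⟩
  apply (CochainComplex.IsKProjective.Qh_map_bijective P ((HomotopyCategory.quotient _ _).obj K)).1
  rw [Functor.map_zero]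
  exact part2 _

end helpers

/-- Let P and K be cochain complexes in an abelian category with P bounded, consisting of projective
objects and zero in degrees below n, and with Hⁱ(K) = 0 for all i ≥ n. Then every morphism P ⟶ K in
the homotopy category and every morphism P ⟶ K in the derived category is zero. -/
theorem result {A : Type u} [Category.{v} A] [Abelian A] [HasDerivedCategory.{w} A]
    (P K : CochainComplex A ℤ) (n b : ℤ) [P.IsStrictlyGE n] [P.IsStrictlyLE b] (hP : ∀ i : ℤ, Projective (P.X i))
    (hK : ∀ i : ℤ, n ≤ i → IsZero (K.homology i)) :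
    (∀ φ : (HomotopyCategory.quotient A (ComplexShape.up ℤ)).obj P ⟶ (HomotopyCategory.quotient A (ComplexShape.up ℤ)).obj K, φ = 0) ∧
    (∀ φ : DerivedCategory.Q.obj P ⟶ DerivedCategory.Q.obj K, φ = 0) := by
  exact main1053 P K n b hP hK

end Groth.Agent.S1053
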