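import Groth.Statements.S10554
import Groth.Agent.Lib.Helper5.EtaleSourceDescent
import Groth.Agent.Lib.Helper1.EtLocalSource
import Groth.Agent.S10265
import Groth.Agent.S10266

set_option autoImplicit false
universe u
open CategoryTheory CategoryTheory.Limits AlgebraicGeometry
open AlgSp

namespace Groth.Agent.S10554

/-- The property of morphisms of algebraic spaces over S given by f is etale (composition with every
representable etale map from a scheme is representable etale) is etale local on the source: for a
morphism f : X ⟶ Y of algebraic spaces and a etale covering of X by algebraic spaces X_i, f has the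
property if and only if every composite X_i ⟶ X ⟶ Y has it. -/
theorem result (S : Scheme.{u}) :
    AlgSp.IsLocalOnSource (AlgSp.IsEtCover (S := S)) AlgSp.IsEtaleMor := by
  have key := Groth.Agent.H1.EtLocalSource.isLocalOnSource_etale (S := S) (P := @Etale)
    (fun f g hf hs h => by
      have := hf; have := hs; have := h
      exact Groth.Agent.Lib.helper5.EtSrc.etale_of_etale_comp f g)
  intro ι X Xi g hX hXi hcov Y f hY
  have h1 := key Xi g hX hXi hcov f hY
  constructor
  · intro hf i
    exact Groth.Agent.S10266.isEtaleMor_of_locP_etale hY _
      (h1.1 (Groth.Agent.S10265.locP_etale_of_isEtaleMor f hf) i)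
  · intro H
    exact Groth.Agent.S10266.isEtaleMor_of_locP_etale hY f
      (h1.2 (fun i => Groth.Agent.S10265.locP_etale_of_isEtaleMor _ (H i)))

end Groth.Agent.S10554
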