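import Groth.Statements.S10562
import Groth.Agent.Lib.Helper1.LocNoeth

set_option autoImplicit false
universe u
open CategoryTheory CategoryTheory.Limits AlgebraicGeometry
open AlgSp

namespace Groth.Agent.S10562

open Groth.Agent.Lib.helper11 in
theorem main {S : Scheme.{u}} {X Y : AlgSp.Space S} (f : X ⟶ Y)
    (hfp : AlgSp.LocP @LocallyOfFinitePresentation f.hom) (hfl : AlgSp.LocP @Flat f.hom)
    (hs : AlgSp.IsSurjectiveMor f.hom) (hX : AlgSp.IsLocNoethSp X.obj) :
    AlgSp.IsLocNoethSp Y.obj := by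
  obtain ⟨B, b, hbe, hbs⟩ := Y.property.atlas
  obtain ⟨A, a, hae, has, hAN⟩ := hX
  have hAN' : IsLocallyNoetherian A.left := hAN
  obtain ⟨A', snd, fst, hpb⟩ := hbe.rep (a ≫ f.hom)
  obtain ⟨h, rfl⟩ := (yon S).map_surjective fst
  have hsnd_et : Etale snd.left := hbe.property _ _ snd hpb
  have ha'e : RepWith @Etale ((yon S).map snd ≫ a) :=
    (repWith_isMultiplicative (S := S) @Etale).comp_mem _ _
      ((repWith_yon_map_iff @Etale snd).2 hsnd_et) hae
  have hsq : ((yon S).map snd ≫ a) ≫ f.hom = (yon S).map h ≫ b := by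
    rw [Category.assoc]; exact hpb.w.symm
  have hlfp : LocallyOfFinitePresentation h.left := hfp _ b h ha'e hbe hsq
  have hflat : Flat h.left := hfl _ b h ha'e hbe hsq
  have hA' : IsLocallyNoetherian A'.left := LocallyOfFiniteType.isLocallyNoetherian snd.left
  have hsurj : Surjective h.left := by
    refine ⟨fun v => ?_⟩
    obtain ⟨x, hx⟩ := hs (Points.ofPt b v)
    obtain ⟨a0, rfl⟩ := surjective_ofPt a has x
    have hut : Points.ofPt b v = Points.ofPt (a ≫ f.hom) a0 := by
      rw [← hx, Points.map_ofPt]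
    obtain ⟨τ, hτ, -⟩ := exists_of_isPullback_schemes hpb v a0 hut
    exact ⟨τ, hτ⟩
  refine ⟨B, b, hbe, hbs, ?_⟩
  exact Groth.Agent.H1.LocNoeth.isLocallyNoetherian_of_fppf h.left

/-- Let f : X ⟶ Y be a morphism of algebraic spaces over S which is locally of finite presentation, flat
and surjective. If X is locally Noetherian then Y is locally Noetherian. -/
theorem result {S : Scheme.{u}} {X Y : AlgSp.Space S} (f : X ⟶ Y)
    (hfp : AlgSp.LocP @LocallyOfFinitePresentation f.hom) (hfl : AlgSp.LocP @Flat f.hom)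
    (hs : AlgSp.IsSurjectiveMor f.hom) (hX : AlgSp.IsLocNoethSp X.obj) :
    AlgSp.IsLocNoethSp Y.obj := by
  exact main f hfp hfl hs hX

end Groth.Agent.S10562
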