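import Groth.Statements.S10563
import Mathlib
import Groth.Agent.S10562
import Groth.Agent.S0065
import Groth.Agent.S0565

set_option autoImplicit false
universe u
open CategoryTheory CategoryTheory.Limits AlgebraicGeometry
open AlgSp

namespace Groth.Agent.S10563

/-- Let f : X ⟶ Y be a morphism of algebraic spaces over S which is locally of finite presentation, flat
and surjective. If X is regular (etale locally a locally Noetherian scheme all of whose local rings
are regular local rings) then Y is regular. -/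
theorem result {S : Scheme.{u}} {X Y : AlgSp.Space S} (f : X ⟶ Y)
    (hfp : AlgSp.LocP @LocallyOfFinitePresentation f.hom) (hfl : AlgSp.LocP @Flat f.hom)
    (hs : AlgSp.IsSurjectiveMor f.hom)
    (hX : AlgSp.EtaleLocally (fun U => IsLocallyNoetherian U ∧ ∀ u : ↥U, IsRegularLocalRing ↥(U.presheaf.stalk u)) X.obj) :
    AlgSp.EtaleLocally (fun U => IsLocallyNoetherian U ∧ ∀ u : ↥U, IsRegularLocalRing ↥(U.presheaf.stalk u)) Y.obj := by
  open Groth.Agent.Lib.helper11 in
  obtain ⟨B, b, hbe, hbs⟩ := Y.property.atlas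
  obtain ⟨A, a, hae, has, hAN, hAR⟩ := hX
  haveI hAN' : IsLocallyNoetherian A.left := hAN
  obtain ⟨A', snd, fst, hpb⟩ := hbe.rep (a ≫ f.hom)
  obtain ⟨h, rfl⟩ := (AlgSp.yon S).map_surjective fst
  haveI hsnd_et : Etale snd.left := hbe.property _ _ snd hpb
  have ha'e : AlgSp.RepWith @Etale ((AlgSp.yon S).map snd ≫ a) :=
    (AlgSp.repWith_isMultiplicative (S := S) @Etale).comp_mem _ _
      ((AlgSp.repWith_yon_map_iff @Etale snd).2 hsnd_et) hae
  have hsq : ((AlgSp.yon S).map snd ≫ a) ≫ f.hom = (AlgSp.yon S).map h ≫ b := by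
    rw [Category.assoc]; exact hpb.w.symm
  haveI hlfp : LocallyOfFinitePresentation h.left := hfp _ b h ha'e hbe hsq
  haveI hflat : Flat h.left := hfl _ b h ha'e hbe hsq
  haveI hA' : IsLocallyNoetherian A'.left := LocallyOfFiniteType.isLocallyNoetherian snd.left
  haveI hsurj : Surjective h.left := by
    refine ⟨fun v => ?_⟩
    obtain ⟨x, hx⟩ := hs (AlgSp.Points.ofPt b v)
    obtain ⟨a0, rfl⟩ := surjective_ofPt a has x
    have hut : AlgSp.Points.ofPt b v = AlgSp.Points.ofPt (a ≫ f.hom) a0 := by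
      rw [← hx, AlgSp.Points.map_ofPt]
    obtain ⟨τ, hτ, -⟩ := exists_of_isPullback_schemes hpb v a0 hut
    exact ⟨τ, hτ⟩
  haveI hBN : IsLocallyNoetherian B.left := Groth.Agent.H1.LocNoeth.isLocallyNoetherian_of_fppf h.left
  refine ⟨B, b, hbe, hbs, hBN, ?_⟩
  intro v
  obtain ⟨w, rfl⟩ := hsurj.surj v
  haveI hregw : IsRegularLocalRing (A'.left.presheaf.stalk w) :=
    (Groth.Agent.S0065.result snd.left w).mpr (hAR _)
  have hfl : (h.left.stalkMap w).hom.Flat := Flat.stalkMap h.left w
  algebraize [(h.left.stalkMap w).hom]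
  haveI : IsLocalHom (algebraMap (B.left.presheaf.stalk (h.left w)) (A'.left.presheaf.stalk w)) :=
    inferInstanceAs (IsLocalHom (h.left.stalkMap w).hom)
  exact Groth.Agent.S0565.result (B.left.presheaf.stalk (h.left w)) (A'.left.presheaf.stalk w)

end Groth.Agent.S10563
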