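import Groth.Statements.S10564
import Groth.Agent.Lib.Helper1.SmoothReduced
import Groth.Agent.S10561
import Groth.Agent.S10265

set_option autoImplicit false
universe u
open CategoryTheory CategoryTheory.Limits AlgebraicGeometry
open AlgSp

namespace Groth.Agent.S10564

theorem main {S : Scheme.{u}} {X Y : AlgSp.Space S} (f : X ⟶ Y) (hf : AlgSp.LocP @Smooth f.hom) :
    (AlgSp.IsReducedSp Y.obj → AlgSp.IsReducedSp X.obj) ∧
    (AlgSp.IsSurjectiveMor f.hom → AlgSp.IsReducedSp X.obj → AlgSp.IsReducedSp Y.obj) := by
  constructor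
  · intro hY
    obtain ⟨A, a, hae, has⟩ := X.property.atlas
    obtain ⟨B, b, hbe, hbs, hBR⟩ := hY
    have hBR' : IsReduced B.left := hBR
    obtain ⟨A', snd, fst, hpb⟩ := hbe.rep (a ≫ f.hom)
    obtain ⟨h, rfl⟩ := (yon S).map_surjective fst
    have hsnd_et : Etale snd.left := hbe.property _ _ snd hpb
    have hsnd_surj : Surjective snd.left := hbs.property _ _ snd hpb
    have ha'e : RepWith @Etale ((yon S).map snd ≫ a) :=
      (repWith_isMultiplicative (S := S) @Etale).comp_mem _ _
        ((repWith_yon_map_iff @Etale snd).2 hsnd_et) hae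
    have ha's : RepWith @Surjective ((yon S).map snd ≫ a) :=
      (repWith_isMultiplicative (S := S) @Surjective).comp_mem _ _
        ((repWith_yon_map_iff @Surjective snd).2 hsnd_surj) has
    have hsq : ((yon S).map snd ≫ a) ≫ f.hom = (yon S).map h ≫ b := by
      rw [Category.assoc]; exact hpb.w.symm
    have hsm : Smooth h.left := hf _ b h ha'e hbe hsq
    have hA' : IsReduced A'.left := Groth.Agent.H1.SmoothReduced.isReduced_of_smooth h.left
    exact ⟨A', (yon S).map snd ≫ a, ha'e, ha's, hA'⟩
  · intro hs hX
    refine Groth.Agent.S10561.main f ?_ hs hX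
    refine Groth.Agent.S10265.locP_mono ?_ hf
    intro A B g hg
    have : Smooth g := hg
    exact inferInstanceAs (Flat g)

/-- For a smooth morphism f : X ⟶ Y of algebraic spaces over S, reducedness of Y implies reducedness of
X, and when f is moreover surjective, reducedness of X implies reducedness of Y. -/
theorem result {S : Scheme.{u}} {X Y : AlgSp.Space S} (f : X ⟶ Y) (hf : AlgSp.LocP @Smooth f.hom) :
    (AlgSp.IsReducedSp Y.obj → AlgSp.IsReducedSp X.obj) ∧
    (AlgSp.IsSurjectiveMor f.hom → AlgSp.IsReducedSp X.obj → AlgSp.IsReducedSp Y.obj) := by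
  exact main f hf

end Groth.Agent.S10564
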