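import Groth.Statements.S10565
import Groth.Agent.Lib.Helper5.AlgSpSmLocal

set_option autoImplicit false
universe u
open CategoryTheory CategoryTheory.Limits AlgebraicGeometry
open AlgSp AlgSp.IsSmoothLocalST

namespace Groth.Agent.S10565

/-- A property P of morphisms of algebraic spaces over S that is smooth local on source-and-target is
(1) smooth local on the source, (2) smooth local on the base, and (3) stable under postcomposition
with smooth morphisms: whenever g : Y ⟶ Z is smooth and f : X ⟶ Y has P, the composite f ≫ g has P. -/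
theorem result {S : Scheme.{u}} {P : MorphismProperty (AlgSp.Sp S)}
    (hP : AlgSp.IsSmoothLocalST P) :
    AlgSp.IsLocalOnSource (AlgSp.IsSmCover (S := S)) P ∧
    AlgSp.IsLocalOnBase (AlgSp.IsSmCover (S := S)) P ∧
    (∀ ⦃X Y Z : AlgSp.Space S⦄ (f : X ⟶ Y) (g : Y ⟶ Z), P f.hom → AlgSp.LocP @Smooth g.hom → P (f ≫ g).hom) := by
  open Groth.Agent.Lib.helper5.SmLocal Groth.Agent.Lib.helper5.LocPBC in
  refine ⟨?_, ?_, ?_⟩
  · intro ι X Xi g hX hXi hcov Y f hY
    constructor
    · intro hf i
      exact hP.precomp (hXi i) hX hY (g i) f (hcov.1 i) hf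
    · intro H
      rw [hP.locality hX hY f]
      intro x
      obtain ⟨i, ξ, hξ⟩ := hcov.2 x
      exact ⟨Xi i, Y, g i, 𝟙 Y, g i ≫ f, ξ, hXi i, hY, hcov.1 i, locP_smooth_id Y,
        by rw [Category.comp_id], hξ, H i⟩
  · intro ι Y Yi g hY hYi hcov X f hX Xi p q hXi sq
    constructor
    · intro hf i
      exact hP.baseChange hX hY (hXi i) (hYi i) f (g i) (p i) (q i) (sq i) (hcov.1 i) hf
    · intro H
      rw [hP.locality hX hY f]
      intro x
      obtain ⟨i, η, hη⟩ := hcov.2 (Points.map f x)
      obtain ⟨w, hw1, hw2⟩ := Groth.Agent.Lib.helper10.exists_point_of_isPullback (sq i) x η hη.symm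
      exact ⟨Xi i, Yi i, q i, g i, p i, w, hXi i, hYi i,
        locP_of_isPullback locPData_smooth (hYi i) hY hX (sq i).flip (hcov.1 i), hcov.1 i,
        (sq i).w, hw1, H i⟩
  · intro X Y Z f g hf hg
    show P (f.hom ≫ g.hom)
    rw [hP.locality X.property Z.property (f.hom ≫ g.hom)]
    intro x
    exact ⟨X.obj, Y.obj, 𝟙 _, g.hom, f.hom, x, X.property, Y.property, locP_smooth_id _, hg,
      by rw [Category.id_comp], Points.map_id x, hf⟩

end Groth.Agent.S10565
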