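import Groth.Statements.S10566
import Groth.Agent.Lib.Helper5.AlgSpSmLocal
import Groth.Agent.S10565

set_option autoImplicit false
universe u
open CategoryTheory CategoryTheory.Limits AlgebraicGeometry
open AlgSp AlgSp.IsSmoothLocalST

namespace Groth.Agent.S10566

/-- For a property P of morphisms of algebraic spaces over S that is smooth local on source-and-target
and a morphism f : X ⟶ Y of algebraic spaces, each of the following is equivalent to P f: (c) for
some commutative square a ≫ f = h ≫ b with a : U ⟶ X and b : V ⟶ Y smooth and a surjective, h has P;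
(d) for every commutative square a ≫ f = h ≫ b with b smooth and the induced morphism U ⟶ X ×_Y V
smooth, h has P; (e) for some smooth covering of Y by algebraic spaces Y_i every base change Y_i ×_Y
X ⟶ Y_i has P; (f) for some smooth covering of X by algebraic spaces X_i every composite X_i ⟶ Y has
P. (Condition (b) of the published list is the defining locality condition, and its condition (g)
combines (e) and (f); they are not repeated here.) -/
theorem result {S : Scheme.{u}} {P : MorphismProperty (AlgSp.Sp S)}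
    (hP : AlgSp.IsSmoothLocalST P) {X Y : AlgSp.Space S} (f : X ⟶ Y) :
    (P f.hom ↔ ∃ (U V : AlgSp.Space S) (a : U ⟶ X) (b : V ⟶ Y) (h : U ⟶ V),
      AlgSp.LocP @Smooth a.hom ∧ AlgSp.LocP @Smooth b.hom ∧ AlgSp.IsSurjectiveMor a.hom ∧
      a ≫ f = h ≫ b ∧ P h.hom) ∧
    (P f.hom ↔ ∀ (U V W : AlgSp.Space S) (a : U ⟶ X) (b : V ⟶ Y) (h : U ⟶ V) (p : W ⟶ X) (q : W ⟶ V)
      (e : U ⟶ W), IsPullback p.hom q.hom f.hom b.hom → e ≫ p = a → e ≫ q = h →
      AlgSp.LocP @Smooth b.hom → AlgSp.LocP @Smooth e.hom → P h.hom) ∧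
    (P f.hom ↔ ∃ (ι : Type u) (Yi Xi : ι → AlgSp.Space S) (g : ∀ i, Yi i ⟶ Y) (p : ∀ i, Xi i ⟶ Yi i)
      (q : ∀ i, Xi i ⟶ X), AlgSp.IsSmCover (fun i => (Yi i).obj) (fun i => (g i).hom) ∧
      (∀ i, IsPullback (q i).hom (p i).hom f.hom (g i).hom) ∧ ∀ i, P (p i).hom) ∧
    (P f.hom ↔ ∃ (ι : Type u) (Xi : ι → AlgSp.Space S) (g : ∀ i, Xi i ⟶ X),
      AlgSp.IsSmCover (fun i => (Xi i).obj) (fun i => (g i).hom) ∧ ∀ i, P (g i ≫ f).hom) := by
  open Groth.Agent.Lib.helper5.SmLocal Groth.Agent.Lib.helper5.LocPBC in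
  obtain ⟨hsrc, hbase, -⟩ := Groth.Agent.S10565.result hP
  refine ⟨⟨?_, ?_⟩, ⟨?_, ?_⟩, ⟨?_, ?_⟩, ⟨?_, ?_⟩⟩
  · intro hf
    refine ⟨X, Y, 𝟙 X, 𝟙 Y, f, locP_smooth_id _, locP_smooth_id _, ?_, ?_, hf⟩
    · intro x
      exact ⟨x, Points.map_id x⟩
    · rw [Category.id_comp, Category.comp_id]
  · rintro ⟨U, V, a, b, h, ha, hb, has, hsq, hh⟩
    rw [hP.locality X.property Y.property f.hom]
    intro x
    obtain ⟨v, hv⟩ := has x
    exact ⟨U.obj, V.obj, a.hom, b.hom, h.hom, v, U.property, V.property, ha, hb,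
      congrArg (fun k => k.hom) hsq, hv, hh⟩
  · intro hf U V W a b h p q e sq hea heq hb he
    have hq : P q.hom :=
      hP.baseChange X.property Y.property W.property V.property f.hom b.hom q.hom p.hom sq hb hf
    have := hP.precomp U.property W.property V.property e.hom q.hom he hq
    rw [← heq]
    exact this
  · intro H
    refine H X Y X (𝟙 X) (𝟙 Y) f (𝟙 X) f (𝟙 X) ?_ (Category.id_comp _) (Category.id_comp _)
      (locP_smooth_id _) (locP_smooth_id _)
    exact IsPullback.of_horiz_isIso ⟨by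
      show 𝟙 X.obj ≫ f.hom = f.hom ≫ 𝟙 Y.obj
      rw [Category.id_comp, Category.comp_id]⟩
  · intro hf
    refine ⟨PUnit.{u + 1}, fun _ => Y, fun _ => X, fun _ => 𝟙 Y, fun _ => f, fun _ => 𝟙 X,
      ⟨fun _ => locP_smooth_id _, fun y => ⟨PUnit.unit, y, Points.map_id y⟩⟩, fun _ => ?_,
      fun _ => hf⟩
    exact IsPullback.of_horiz_isIso ⟨by
      show 𝟙 X.obj ≫ f.hom = f.hom ≫ 𝟙 Y.obj
      rw [Category.id_comp, Category.comp_id]⟩
  · rintro ⟨ι, Yi, Xi, g, p, q, hcov, hsq, hp⟩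
    exact (hbase (fun i => (Yi i).obj) (fun i => (g i).hom) Y.property (fun i => (Yi i).property)
      hcov f.hom X.property (fun i => (Xi i).obj) (fun i => (p i).hom) (fun i => (q i).hom)
      (fun i => (Xi i).property) hsq).2 hp
  · intro hf
    refine ⟨PUnit.{u + 1}, fun _ => X, fun _ => 𝟙 X,
      ⟨fun _ => locP_smooth_id _, fun x => ⟨PUnit.unit, x, Points.map_id x⟩⟩, fun _ => ?_⟩
    rw [Category.id_comp]
    exact hf
  · rintro ⟨ι, Xi, g, hcov, hp⟩
    exact (hsrc (fun i => (Xi i).obj) (fun i => (g i).hom) X.property (fun i => (Xi i).property)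
      hcov f.hom Y.property).2 hp

end Groth.Agent.S10566
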