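import Groth.Statements.S10568
import Groth.Agent.Lib.Helper5.AlgSpSmLocal

set_option autoImplicit false
universe u
open CategoryTheory CategoryTheory.Limits AlgebraicGeometry
open AlgSp AlgSp.IsEtaleSmoothLocalST

namespace Groth.Agent.S10568

/-- A property P of morphisms of algebraic spaces over S, local on source-and-target in the etale-smooth
sense, is (1) etale local on the source, (2) smooth local on the base, (3) stable under
postcomposition with etale morphisms: whenever g : Y ⟶ Z is etale and f : X ⟶ Y has P, the composite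
f ≫ g has P, and (4) conversely, if g : Y ⟶ Z is etale and f ≫ g has P then f has P. -/
theorem result {S : Scheme.{u}} {P : MorphismProperty (AlgSp.Sp S)}
    (hP : AlgSp.IsEtaleSmoothLocalST P) :
    AlgSp.IsLocalOnSource (AlgSp.IsEtCover (S := S)) P ∧
    AlgSp.IsLocalOnBase (AlgSp.IsSmCover (S := S)) P ∧
    (∀ ⦃X Y Z : AlgSp.Space S⦄ (f : X ⟶ Y) (g : Y ⟶ Z), P f.hom → AlgSp.IsEtaleMor g.hom → P (f ≫ g).hom) ∧
    (∀ ⦃X Y Z : AlgSp.Space S⦄ (f : X ⟶ Y) (g : Y ⟶ Z), AlgSp.IsEtaleMor g.hom → P (f ≫ g).hom → P f.hom) := by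
  open Groth.Agent.Lib.helper5.SmLocal Groth.Agent.Lib.helper5.LocPBC in
  refine ⟨?_, ?_, ?_, ?_⟩
  · intro ι X Xi g hX hXi hcov Y f hY
    constructor
    · intro hf i
      exact hP.precomp (hXi i) hX hY (g i) f (hcov.1 i) hf
    · intro H
      rw [hP.locality hX hY f]
      intro x
      obtain ⟨i, ξ, hξ⟩ := hcov.2 x
      refine ⟨Y, X, Xi i, 𝟙 Y, 𝟙 X, f, g i, ξ, hY, hX, hXi i, locP_smooth_id Y, ?_, hcov.1 i, ?_,
        ?_⟩
      · exact IsPullback.of_horiz_isIso ⟨by rw [Category.id_comp, Category.comp_id]⟩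
      · rw [Category.comp_id]
        exact hξ
      · exact H i
  · intro ι Y Yi g hY hYi hcov X f hX Xi p q hXi sq
    constructor
    · intro hf i
      exact hP.baseChange hX hY (hXi i) (hYi i) f (g i) (p i) (q i) (sq i) (hcov.1 i) hf
    · intro H
      rw [hP.locality hX hY f]
      intro x
      obtain ⟨i, η, hη⟩ := hcov.2 (Points.map f x)
      obtain ⟨w, hw1, hw2⟩ := Groth.Agent.Lib.helper10.exists_point_of_isPullback (sq i) x η hη.symm
      refine ⟨Yi i, Xi i, Xi i, g i, q i, p i, 𝟙 _, w, hYi i, hXi i, hXi i, hcov.1 i, sq i,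
        isEtaleMor_id _, ?_, ?_⟩
      · rw [Category.id_comp]
        exact hw1
      · rw [Category.id_comp]
        exact H i
  · intro X Y Z f g hf hg
    show P (f.hom ≫ g.hom)
    obtain ⟨W, p, q, e, hW, sq, he, hep, heq⟩ :=
      exists_graph_of_isEtaleMor X.property Y.property Z.property f.hom g.hom hg
    rw [hP.locality X.property Z.property (f.hom ≫ g.hom)]
    intro x
    refine ⟨Y.obj, W, X.obj, g.hom, p, q, e, x, Y.property, hW, X.property,
      locP_smooth_of_isEtaleMor _ hg, sq, he, ?_, ?_⟩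
    · rw [hep]
      exact Points.map_id x
    · rw [heq]
      exact hf
  · intro X Y Z f g hg hfg
    obtain ⟨W, p, q, e, hW, sq, he, hep, heq⟩ :=
      exists_graph_of_isEtaleMor X.property Y.property Z.property f.hom g.hom hg
    have hq : P q := hP.baseChange X.property Z.property hW Y.property (f.hom ≫ g.hom) g.hom q p sq
      (locP_smooth_of_isEtaleMor _ hg) hfg
    have := hP.precomp X.property hW Y.property e q he hq
    rw [heq] at this
    exact this

end Groth.Agent.S10568
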