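import Groth.Statements.S10571
import Groth.Agent.Lib.Helper5.AlgSpCoprod4
import Groth.Agent.Lib.Helper5.AlgSpFibreProduct

set_option autoImplicit false
universe u
open CategoryTheory CategoryTheory.Limits AlgebraicGeometry
open AlgSp

namespace Groth.Agent.S10571

/-- Suppose a property P of morphisms between algebraic spaces over S satisfies: (1) if finitely many
morphisms X_i ⟶ Y_i have P then so does the induced morphism ∐ X_i ⟶ ∐ Y_i, (2) f : X ⟶ Y has P
exactly when, for each affine scheme Z and each h_Z ⟶ Y, the base change h_Z ×_Y X ⟶ h_Z has P, and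
(3) for every surjective flat morphism of affine schemes Z' ⟶ Z over S and every f : X ⟶ h_Z, if the
base change h_{Z'} ×_{h_Z} X ⟶ h_{Z'} has P then f has P. Under these hypotheses, P is local on the
base for the fpqc topology. (The published statement asks (1) only for two morphisms; its proof
applies (1) to a disjoint union indexed by a finite set that may be empty, and with (1) for two
morphisms only the property that holds for no morphism satisfies all three hypotheses without being
fpqc local on the base, as the empty covering of the empty algebraic space shows. This row asks (1)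
for all finite families, the empty one included.) -/
theorem result {S : Scheme.{u}} (P : MorphismProperty (AlgSp.Sp S))
    (h1 : ∀ ⦃ι : Type u⦄ [Finite ι] (Xi Yi : ι → AlgSp.Sp S) (fi : ∀ i, Xi i ⟶ Yi i)
      (cX : Cofan Xi) (cY : Cofan Yi) (hcX : IsColimit cX) (hcY : IsColimit cY) (m : cX.pt ⟶ cY.pt),
      (∀ i, AlgSp.IsAlgSpace (Xi i)) → (∀ i, AlgSp.IsAlgSpace (Yi i)) →
      AlgSp.IsAlgSpace cX.pt → AlgSp.IsAlgSpace cY.pt →
      (∀ i, cX.inj i ≫ m = fi i ≫ cY.inj i) → (∀ i, P (fi i)) → P m)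
    (h2 : ∀ ⦃X Y : AlgSp.Sp S⦄, AlgSp.IsAlgSpace X → AlgSp.IsAlgSpace Y → ∀ (f : X ⟶ Y),
      P f ↔ ∀ (Z : Over S), IsAffine Z.left → ∀ (g : (AlgSp.yon S).obj Z ⟶ Y) (W : AlgSp.Sp S)
        (fst : W ⟶ X) (snd : W ⟶ (AlgSp.yon S).obj Z), AlgSp.IsAlgSpace W → IsPullback fst snd f g → P snd)
    (h3 : ∀ ⦃Z Z' : Over S⦄ (c : Z' ⟶ Z), IsAffine Z.left → IsAffine Z'.left → Surjective c.left → Flat c.left →
      ∀ ⦃X X' : AlgSp.Sp S⦄ (f : X ⟶ (AlgSp.yon S).obj Z) (fst : X' ⟶ X) (f' : X' ⟶ (AlgSp.yon S).obj Z'),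
        AlgSp.IsAlgSpace X → AlgSp.IsAlgSpace X' → IsPullback fst f' f ((AlgSp.yon S).map c) → P f' → P f) :
    AlgSp.IsLocalOnBase (AlgSp.IsFpqcCover (S := S)) P := by
  intro ι Y Yi g hY hYi hcov X f hX Xi p q hXi sq
  constructor
  · intro hPf i
    rw [h2 (hXi i) (hYi i)]
    intro Z hZ g' W fst snd hW sq'
    exact (h2 hX hY f).1 hPf Z hZ (g' ≫ g i) W (fst ≫ q i) snd hW (sq'.paste_horiz (sq i))
  · intro hPp
    rw [h2 hX hY]
    intro Z hZ ξ W fst snd hW sqW
    obtain ⟨m, Wj, c, hWaff, hflat, hsurj, hl⟩ := hcov.2 Z hZ ξ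
    choose idx l hl using hl
    let κ := ULift.{u} (Fin m)
    let W' : κ → Over S := fun k => Wj k.down
    let Z' : Over S := Groth.Agent.Lib.helper5.Coprod.sigmaOver W'
    let cZ : Z' ⟶ Z := Groth.Agent.Lib.helper5.Coprod.sigmaOverDesc W' (fun k => c k.down)
    have hWaff' : ∀ k : κ, IsAffine (W' k).left := fun k => hWaff k.down
    have hZ' : IsAffine Z'.left := inferInstanceAs (IsAffine (∐ fun k : κ => (W' k).left))
    have hflat' : ∀ k : κ, Flat (c k.down).left := fun k => hflat k.down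
    have hcf : Flat cZ.left := inferInstanceAs (Flat (Sigma.desc (fun k : κ => (c k.down).left)))
    have hcs : Surjective cZ.left := by
      show Surjective (Sigma.desc (fun k : κ => (c k.down).left))
      apply Surjective.sigmaDesc_of_union_range_eq_univ
      rw [Set.eq_univ_iff_forall]
      intro z
      obtain ⟨j, hj⟩ := hsurj z
      exact Set.mem_iUnion.2 ⟨⟨j⟩, hj⟩
    have sqX' : IsPullback (pullback.fst snd ((AlgSp.yon S).map cZ)) (pullback.snd snd ((AlgSp.yon S).map cZ))
        snd ((AlgSp.yon S).map cZ) := IsPullback.of_hasPullback _ _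
    have hX' : AlgSp.IsAlgSpace (pullback snd ((AlgSp.yon S).map cZ)) :=
      Groth.Agent.Lib.helper5.isAlgSpace_of_isPullback (AlgSp.IsAlgSpace.yon_obj Z).diag hW
        (AlgSp.IsAlgSpace.yon_obj Z') sqX'
    refine h3 cZ hZ hZ' hcs hcf snd (pullback.fst _ _) (pullback.snd _ _) hW hX' sqX' ?_
    let Xk : κ → AlgSp.Sp S := fun k => pullback (pullback.snd snd ((AlgSp.yon S).map cZ))
      ((AlgSp.yon S).map (Groth.Agent.Lib.helper5.Coprod.sigmaOverι W' k))
    have sqk : ∀ k, IsPullback (pullback.fst (pullback.snd snd ((AlgSp.yon S).map cZ))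
        ((AlgSp.yon S).map (Groth.Agent.Lib.helper5.Coprod.sigmaOverι W' k)))
        (pullback.snd (pullback.snd snd ((AlgSp.yon S).map cZ))
        ((AlgSp.yon S).map (Groth.Agent.Lib.helper5.Coprod.sigmaOverι W' k)))
        (pullback.snd snd ((AlgSp.yon S).map cZ))
        ((AlgSp.yon S).map (Groth.Agent.Lib.helper5.Coprod.sigmaOverι W' k)) :=
      fun k => IsPullback.of_hasPullback _ _
    have hXk : ∀ k, AlgSp.IsAlgSpace (Xk k) := fun k =>
      Groth.Agent.Lib.helper5.isAlgSpace_of_isPullback (AlgSp.IsAlgSpace.yon_obj Z').diag hX'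
        (AlgSp.IsAlgSpace.yon_obj (W' k)) (sqk k)
    obtain ⟨hcX⟩ := Groth.Agent.Lib.helper5.Coprod.nonempty_isColimit_of_isPullback _ _
      (Groth.Agent.Lib.helper5.Coprod.isColimitYonSigma W') (pullback.snd snd ((AlgSp.yon S).map cZ)) Xk
      (fun k => pullback.fst _ _) (fun k => pullback.snd _ _) (fun k => sqk k)
    refine h1 Xk (fun k => (AlgSp.yon S).obj (W' k)) (fun k => pullback.snd _ _) _ _ hcX
      (Groth.Agent.Lib.helper5.Coprod.isColimitYonSigma W') (pullback.snd snd ((AlgSp.yon S).map cZ)) hXk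
      (fun k => AlgSp.IsAlgSpace.yon_obj _) hX' (AlgSp.IsAlgSpace.yon_obj _) (fun k => (sqk k).w) (fun k => ?_)
    have big := ((sqk k).paste_horiz sqX').paste_horiz sqW
    have hbot : ((AlgSp.yon S).map (Groth.Agent.Lib.helper5.Coprod.sigmaOverι W' k) ≫ (AlgSp.yon S).map cZ) ≫ ξ
        = l k.down ≫ g (idx k.down) := by
      rw [← Functor.map_comp, Groth.Agent.Lib.helper5.Coprod.sigmaOverι_desc]
      exact (hl k.down).symm
    rw [hbot] at big
    let t : Xk k ⟶ Xi (idx k.down) := (sq (idx k.down)).lift _ (pullback.snd _ _ ≫ l k.down) big.w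
    have ht : t ≫ q (idx k.down) = _ := (sq (idx k.down)).lift_fst _ _ big.w
    rw [← ht] at big
    have left := IsPullback.of_right big ((sq (idx k.down)).lift_snd _ _ _) (sq (idx k.down))
    exact (h2 (hXi _) (hYi _) (p (idx k.down))).1 (hPp _) (W' k) (hWaff' k) (l k.down) (Xk k) t _ (hXk k) left

end Groth.Agent.S10571
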