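import Groth.Statements.S10572
import Groth.Agent.Lib.Helper5.FpqcHomB

set_option autoImplicit false
universe u
open CategoryTheory CategoryTheory.Limits AlgebraicGeometry
open AlgSp

namespace Groth.Agent.S10572

/-- Let {g_i : T_i ⟶ T} be a family of algebraic spaces over S forming an fpqc covering, and B an
algebraic space over S. Then Mor(T, B) ⟶ ∏ Mor(T_i, B) ⇉ ∏ Mor(T_i ×_T T_j, B) is an equalizer
diagram: a morphism T ⟶ B is determined by its restrictions to the T_i, and every family T_i ⟶ B
agreeing on the fibre products T_i ×_T T_j comes from a morphism T ⟶ B. -/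
theorem result {S : Scheme.{u}} {ι : Type u} {T : AlgSp.Space S}
    (Ti : ι → AlgSp.Space S) (g : ∀ i, Ti i ⟶ T)
    (hg : AlgSp.IsFpqcCover (fun i => (Ti i).obj) (fun i => (g i).hom)) (B : AlgSp.Space S) :
    (∀ a b : T ⟶ B, (∀ i, g i ≫ a = g i ≫ b) → a = b) ∧
    (∀ bi : ∀ i, Ti i ⟶ B,
      (∀ i j, pullback.fst (g i).hom (g j).hom ≫ (bi i).hom = pullback.snd (g i).hom (g j).hom ≫ (bi j).hom) →
      ∃ b : T ⟶ B, ∀ i, g i ≫ b = bi i) := by
  have hstd : Groth.Agent.Lib.helper5.FpqcHom.StdCovers (fun i => (g i).hom) := hg.2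
  refine ⟨fun a b h => ?_, fun bi hbi => ?_⟩
  · have := Groth.Agent.Lib.helper5.FpqcHom.hom_ext_of_stdCovers T.property B.property hstd a.hom b.hom
      (fun i => by
        have := congrArg (fun m => m.hom) (h i)
        exact this)
    exact ObjectProperty.hom_ext _ this
  · have hcoh : Groth.Agent.Lib.helper5.FpqcHom.Coh (fun i => (g i).hom) (fun i => (bi i).hom) := by
      intro Q i j l l' hll
      have h1 : pullback.lift l l' hll ≫ pullback.fst (g i).hom (g j).hom = l := pullback.lift_fst _ _ _
      have h2 : pullback.lift l l' hll ≫ pullback.snd (g i).hom (g j).hom = l' := pullback.lift_snd _ _ _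
      rw [← h1, Category.assoc, hbi i j, ← Category.assoc, h2]
    obtain ⟨b, hb⟩ := Groth.Agent.Lib.helper5.FpqcHom.exists_hom_of_stdCovers T.property
      (fun i => (Ti i).property) B.property hstd hcoh
    exact ⟨ObjectProperty.homMk b, fun i => ObjectProperty.hom_ext _ (hb i)⟩

end Groth.Agent.S10572
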