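import Groth.Statements.S10573
import Groth.Agent.Lib.Helper5.AlgSpFpqcBase
import Groth.Agent.Lib.Helper5.AlgSpOpenSub
import Groth.Agent.Lib.Helper11.AlgSpBasic

set_option autoImplicit false
universe u
open CategoryTheory CategoryTheory.Limits AlgebraicGeometry
open AlgSp

namespace Groth.Agent.S10573

/-- Let {g_i : T_i ⟶ T} be a family of algebraic spaces over S forming an fpqc covering, and let W_i ⊂
|T_i| be open subsets (open subspaces) such that for all i, j the two projections T_i ×_T T_j ⟶ T_i,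
T_j pull W_i and W_j back to the same subset of |T_i ×_T T_j|. Then there is a unique open subset W
⊂ |T| with g_i⁻¹(W) = W_i for every i. -/
theorem result {S : Scheme.{u}} {ι : Type u} {T : AlgSp.Space S}
    (Ti : ι → AlgSp.Space S) (g : ∀ i, Ti i ⟶ T)
    (hg : AlgSp.IsFpqcCover (fun i => (Ti i).obj) (fun i => (g i).hom))
    (Wi : ∀ i, Set (AlgSp.Points (Ti i).obj)) (hW : ∀ i, IsOpen (Wi i))
    (hc : ∀ i j, AlgSp.Points.map (pullback.fst (g i).hom (g j).hom) ⁻¹' Wi i =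
      AlgSp.Points.map (pullback.snd (g i).hom (g j).hom) ⁻¹' Wi j) :
    ∃! W : TopologicalSpace.Opens (AlgSp.Points T.obj), ∀ i, AlgSp.Points.map (g i).hom ⁻¹' (W : Set (AlgSp.Points T.obj)) = Wi i := by
  classical
  obtain ⟨hflat, href⟩ := hg
  let W₀ : Set (AlgSp.Points T.obj) := ⋃ i, AlgSp.Points.map (g i).hom '' Wi i
  -- (a) preimages
  have hpre : ∀ i, AlgSp.Points.map (g i).hom ⁻¹' W₀ = Wi i := by
    intro i
    apply Set.Subset.antisymm
    · intro t ht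
      obtain ⟨_, ⟨j, rfl⟩, w, hw, hwt⟩ := ht
      have sq : IsPullback (pullback.fst (g i).hom (g j).hom) (pullback.snd (g i).hom (g j).hom)
          (g i).hom (g j).hom := IsPullback.of_hasPullback _ _
      obtain ⟨z, hz1, hz2⟩ := Groth.Agent.Lib.helper10.exists_point_of_isPullback sq t w hwt.symm
      have hz : z ∈ AlgSp.Points.map (pullback.snd (g i).hom (g j).hom) ⁻¹' Wi j := by
        show AlgSp.Points.map _ z ∈ Wi j
        rw [hz2]; exact hw
      rw [← hc i j] at hz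
      have hz' : AlgSp.Points.map (pullback.fst (g i).hom (g j).hom) z ∈ Wi i := hz
      rwa [hz1] at hz'
    · intro t ht
      exact Set.mem_iUnion.2 ⟨i, t, ht, rfl⟩
  -- key: the fpqc refinement on an affine scheme
  have hopenAff : ∀ (Z : Over S), IsAffine Z.left → ∀ (h : (AlgSp.yon S).obj Z ⟶ T.obj),
      IsOpen (AlgSp.Points.ofPt h ⁻¹' W₀) := by
    intro Z hZ h
    obtain ⟨m, W', c, hW'aff, hcflat, hcsurj, hlift⟩ := href Z hZ h
    have : ∀ j, IsAffine (W' j).left := hW'aff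
    have : ∀ j, Flat (c j).left := hcflat
    refine Groth.Agent.Lib.helper5.isOpen_of_forall_preimage_flat (fun j => (W' j).left)
      (fun j => (c j).left) hcsurj _ ?_
    intro j
    obtain ⟨i, l, hl⟩ := hlift j
    have : (c j).left ⁻¹' (AlgSp.Points.ofPt h ⁻¹' W₀) = AlgSp.Points.ofPt l ⁻¹' Wi i := by
      ext w
      show AlgSp.Points.ofPt h ((c j).left w) ∈ W₀ ↔ AlgSp.Points.ofPt l w ∈ Wi i
      rw [← Groth.Agent.Lib.helper11.ofPt_yon_map_comp, ← hl, ← AlgSp.Points.map_ofPt, ← hpre i]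
      rfl
    rw [this]
    exact (hW i).preimage (AlgSp.Points.continuous_ofPt l)
  -- (b) openness
  have hW₀ : IsOpen W₀ := by
    rw [AlgSp.Points.isOpen_iff]
    intro T' h
    rw [isOpen_iff_forall_mem_open]
    intro t ht
    obtain ⟨_, ⟨(Z : T'.left.Opens), hZ : IsAffineOpen Z, rfl⟩, htZ, -⟩ :=
      T'.left.isBasis_affineOpens.exists_subset_of_mem_open (Set.mem_univ t) isOpen_univ
    have hZaff : IsAffine (Groth.Agent.Lib.helper5.OpenSub.subOver T' Z).left := hZ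
    have h1 := hopenAff (Groth.Agent.Lib.helper5.OpenSub.subOver T' Z) hZaff
      ((AlgSp.yon S).map (Groth.Agent.Lib.helper5.OpenSub.subOverι T' Z) ≫ h)
    have h2 : AlgSp.Points.ofPt ((AlgSp.yon S).map (Groth.Agent.Lib.helper5.OpenSub.subOverι T' Z) ≫ h) ⁻¹' W₀ =
        Z.ι ⁻¹' (AlgSp.Points.ofPt h ⁻¹' W₀) := by
      ext w
      show AlgSp.Points.ofPt _ w ∈ W₀ ↔ AlgSp.Points.ofPt h (Z.ι w) ∈ W₀
      rw [Groth.Agent.Lib.helper11.ofPt_yon_map_comp]
      rfl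
    rw [h2] at h1
    refine ⟨Z.ι '' (Z.ι ⁻¹' (AlgSp.Points.ofPt h ⁻¹' W₀)), ?_, Z.ι.isOpenEmbedding.isOpenMap _ h1, ?_⟩
    · rintro _ ⟨w, hw, rfl⟩
      exact hw
    · exact ⟨⟨t, htZ⟩, ht, rfl⟩
  -- (c) joint surjectivity
  have hsurj : ∀ x : AlgSp.Points T.obj, ∃ i t, AlgSp.Points.map (g i).hom t = x := by
    intro x
    obtain ⟨U, p, hpe, hps⟩ := T.property.atlas
    obtain ⟨u, rfl⟩ := Groth.Agent.Lib.helper11.surjective_ofPt p hps x
    obtain ⟨_, ⟨(Z : U.left.Opens), hZ : IsAffineOpen Z, rfl⟩, huZ, -⟩ :=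
      U.left.isBasis_affineOpens.exists_subset_of_mem_open (Set.mem_univ u) isOpen_univ
    have hZaff : IsAffine (Groth.Agent.Lib.helper5.OpenSub.subOver U Z).left := hZ
    obtain ⟨m, W', c, -, -, hcsurj, hlift⟩ := href (Groth.Agent.Lib.helper5.OpenSub.subOver U Z) hZaff
      ((AlgSp.yon S).map (Groth.Agent.Lib.helper5.OpenSub.subOverι U Z) ≫ p)
    obtain ⟨j, w, hw⟩ := hcsurj ⟨u, huZ⟩
    obtain ⟨i, l, hl⟩ := hlift j
    refine ⟨i, AlgSp.Points.ofPt l w, ?_⟩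
    rw [AlgSp.Points.map_ofPt, hl, Groth.Agent.Lib.helper11.ofPt_yon_map_comp,
      Groth.Agent.Lib.helper11.ofPt_yon_map_comp, hw]
    rfl
  refine ⟨⟨W₀, hW₀⟩, hpre, ?_⟩
  intro W' hW'
  apply TopologicalSpace.Opens.ext
  ext x
  obtain ⟨i, t, rfl⟩ := hsurj x
  have h1 : t ∈ AlgSp.Points.map (g i).hom ⁻¹' (W' : Set (AlgSp.Points T.obj)) ↔ t ∈ Wi i := by
    rw [hW' i]
  have h2 : t ∈ AlgSp.Points.map (g i).hom ⁻¹' W₀ ↔ t ∈ Wi i := by rw [hpre i]
  exact h1.trans h2.symm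

end Groth.Agent.S10573
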