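import Groth.Statements.S10579
-- import your own Groth.Agent.* helpers here
import Groth.Agent.Lib.Helper9.SmBranch4
import Groth.Agent.Lib.Helper5.AlgSpLocPFam
import Groth.Agent.Lib.Helper5.AlgSpChartInd
import Groth.Agent.Lib.Helper11.AlgSpBasic

set_option backward.isDefEq.respectTransparency false
set_option linter.style.haveILetI false

set_option autoImplicit false
universe u
open CategoryTheory CategoryTheory.Limits AlgebraicGeometry
open AlgSp

namespace Groth.Agent.S10579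

/-- Let f : X ⟶ Y be a morphism of algebraic spaces over S and x ∈ |X|. If X is geometrically unibranch
at x and f is flat at x, then Y is geometrically unibranch at the image point f(x). Here an
algebraic space is geometrically unibranch at a point when for every etale chart from a scheme U and
every point u of U over it the local ring of U at u is geometrically unibranch. -/
theorem result {S : Scheme.{u}} {X Y : AlgSp.Space S} (f : X ⟶ Y) (x : AlgSp.Points X.obj)
    (hf : AlgSp.IsFlatAtMor f.hom x)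
    (hX : ∀ (U : Over S) (a : (AlgSp.yon S).obj U ⟶ X.obj) (v : ↥U.left), AlgSp.RepWith @Etale a →
      AlgSp.Points.ofPt a v = x → CAlg2.IsGeomUnibranch ↥(U.left.presheaf.stalk v))
    (V : Over S) (b : (AlgSp.yon S).obj V ⟶ Y.obj) (w : ↥V.left) (hb : AlgSp.RepWith @Etale b)
    (hw : AlgSp.Points.ofPt b w = AlgSp.Points.map f.hom x) :
    CAlg2.IsGeomUnibranch ↥(V.left.presheaf.stalk w) := by
  obtain ⟨U₁, V₁, a₁, b₁, h₁, u₁, ha₁, hb₁, hc₁, hu₁⟩ :=
    Groth.Agent.Lib.helper5.LocPFam.exists_chart_at_point X.property Y.property f.hom x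
  have hpt : AlgSp.Points.ofPt b₁ (h₁.left u₁) = AlgSp.Points.ofPt b w := by
    rw [hw, ← hu₁, AlgSp.Points.map_ofPt, hc₁, Groth.Agent.Lib.helper11.ofPt_yon_map_comp]
  obtain ⟨W, g, g', w', hg, hg', hgg', hw1, hw2⟩ :=
    Groth.Agent.Lib.helper5.ChartInd.exists_common_chart b₁ hb₁ b hb (h₁.left u₁) w hpt
  -- the fibre product `U₂ = U₁ ×_{V₁} W`
  haveI : Etale g.left := hg
  haveI : Etale (pullback.fst h₁.left g.left) := inferInstance
  let j : pullback h₁.left g.left ⟶ U₁.left := pullback.fst h₁.left g.left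
  let U₂ : Over S := Over.mk (j ≫ U₁.hom)
  let p₁ : U₂ ⟶ U₁ := Over.homMk (U := Over.mk (j ≫ U₁.hom)) j rfl
  have hp₂w : pullback.snd h₁.left g.left ≫ W.hom = j ≫ U₁.hom := by
    rw [← Over.w g, ← Over.w h₁, ← Category.assoc, ← Category.assoc, pullback.condition]
  let p₂ : U₂ ⟶ W := Over.homMk (U := Over.mk (j ≫ U₁.hom)) (pullback.snd h₁.left g.left) hp₂w
  have hsq : p₁ ≫ h₁ = p₂ ≫ g := by
    apply Over.OverMorphism.ext
    exact pullback.condition
  obtain ⟨ha₂, ha₂pt⟩ := Groth.Agent.Lib.helper11.chart_comp a₁ ha₁ j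
  let a₂ : (AlgSp.yon S).obj U₂ ⟶ X.obj := (AlgSp.yon S).map p₁ ≫ a₁
  let h₂ : U₂ ⟶ V := p₂ ≫ g'
  have hc₂ : a₂ ≫ f.hom = (AlgSp.yon S).map h₂ ≫ b := by
    show ((AlgSp.yon S).map p₁ ≫ a₁) ≫ f.hom = (AlgSp.yon S).map (p₂ ≫ g') ≫ b
    rw [Category.assoc, hc₁, ← Category.assoc, ← Functor.map_comp, hsq, Functor.map_comp,
      Functor.map_comp, Category.assoc, Category.assoc, hgg']
  obtain ⟨u₂, hu₂1, hu₂2⟩ :=
    Scheme.Pullback.exists_preimage_pullback (f := h₁.left) (g := g.left) u₁ w' hw1.symm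
  have hu₂ : AlgSp.Points.ofPt a₂ u₂ = x := by
    rw [ha₂pt u₂]
    show AlgSp.Points.ofPt a₁ (pullback.fst h₁.left g.left u₂) = x
    rw [hu₂1, hu₁]
  have hflat := hf a₂ b h₂ u₂ ha₂ hb hc₂ hu₂
  have hGU := hX U₂ a₂ u₂ ha₂ hu₂
  have hpt₂ : h₂.left u₂ = w := by
    show (p₂ ≫ g').left u₂ = w
    rw [Over.comp_left, Scheme.Hom.comp_apply]
    show g'.left (pullback.snd h₁.left g.left u₂) = w
    rw [hu₂2, hw2]
  have key : CAlg2.IsGeomUnibranch ↥(V.left.presheaf.stalk (h₂.left u₂)) :=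
    Groth.Agent.Lib.helper9.SmBranch.isGeomUnibranch_of_flat_local (h₂.left.stalkMap u₂).hom
      hflat hGU
  rw [hpt₂] at key
  exact key

end Groth.Agent.S10579
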