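import Groth.Statements.S10583
import Groth.Agent.Lib.Helper5.AlgSpThkTop
import Groth.Agent.Lib.Helper5.AlgSpOpenSub
import Groth.Agent.Lib.Helper5.AlgSpLargestOpen

set_option autoImplicit false
universe u
open CategoryTheory CategoryTheory.Limits AlgebraicGeometry
open AlgSp

namespace Groth.Agent.S10583

open Groth.Agent.Lib.helper5 Groth.Agent.Lib.helper5.OpenSub Groth.Agent.Lib.helper5.LargestOpen

/-- Two open subsheaves with the same set of points are isomorphic over the ambient sheaf. -/
theorem exists_iso_of_range_eq {S : Scheme.{u}} {A B X : Sp S} (a : A ⟶ X) (b : B ⟶ X)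
    (ha : RepWith @IsOpenImmersion a) (hb : RepWith @IsOpenImmersion b)
    (h : Set.range (Points.map a) = Set.range (Points.map b)) :
    ∃ e : A ≅ B, e.hom ≫ b = a := by
  obtain ⟨g, hg⟩ := (factors_iff b hb a).2 h.le
  obtain ⟨g', hg'⟩ := (factors_iff a ha b).2 h.ge
  have := mono_of_oi ha
  have := mono_of_oi hb
  refine ⟨⟨g, g', ?_, ?_⟩, hg⟩
  · rw [← cancel_mono a, Category.assoc, hg', hg, Category.id_comp]
  · rw [← cancel_mono b, Category.assoc, hg, hg', Category.id_comp]

/-- The range on points of an open subspace pulling back to `u` along a thickening. -/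
theorem range_eq_of_isPullback {S : Scheme.{u}} {X X' U U₁ : Sp S} (i : X ⟶ X')
    (hinj : Function.Injective (Points.map i)) (hsurj : Function.Surjective (Points.map i))
    (u : U ⟶ X) (u₁ : U₁ ⟶ X') (k₁ : U ⟶ U₁) (sq : IsPullback u k₁ i u₁) :
    Set.range (Points.map u₁) = Points.map i '' Set.range (Points.map u) := by
  apply Set.Subset.antisymm
  · rintro _ ⟨z, rfl⟩
    obtain ⟨x, hx⟩ := hsurj (Points.map u₁ z)
    obtain ⟨w, hw1, hw2⟩ := Groth.Agent.Lib.helper10.exists_point_of_isPullback sq x z hx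
    exact ⟨x, ⟨w, hw1⟩, hx⟩
  · rintro _ ⟨_, ⟨w, rfl⟩, rfl⟩
    refine ⟨Points.map k₁ w, ?_⟩
    rw [← Points.map_comp, ← Points.map_comp, sq.w]


/-- Let i : X ⟶ X' be a thickening of algebraic spaces (representable, every base change to a scheme a
surjective closed immersion) and let u : U ⟶ X be an open immersion. Then there is an open immersion
u' : U' ⟶ X' with U = X ×_{X'} U' (a pullback square), and any two open subspaces of X' with this
property are isomorphic over X'. -/
theorem result {S : Scheme.{u}} {X X' U : AlgSp.Space S} (i : X ⟶ X')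
    (hi : AlgSp.IsThickMor i.hom)
    (u : U ⟶ X) (hu : AlgSp.RepWith @IsOpenImmersion u.hom) :
    (∃ (U' : AlgSp.Space S) (u' : U' ⟶ X') (k : U ⟶ U'),
      AlgSp.RepWith @IsOpenImmersion u'.hom ∧ IsPullback u.hom k.hom i.hom u'.hom) ∧
    (∀ (U₁ U₂ : AlgSp.Space S) (u₁ : U₁ ⟶ X') (u₂ : U₂ ⟶ X') (k₁ : U ⟶ U₁) (k₂ : U ⟶ U₂),
      AlgSp.RepWith @IsOpenImmersion u₁.hom → IsPullback u.hom k₁.hom i.hom u₁.hom →
      AlgSp.RepWith @IsOpenImmersion u₂.hom → IsPullback u.hom k₂.hom i.hom u₂.hom →
      ∃ e : U₁ ≅ U₂, e.hom ≫ u₂ = u₁) := by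
  have hX' := X'.property
  have hhom := ThkTop.isHomeomorph_map hi hX'
  have hinj : Function.Injective (Points.map i.hom) := hhom.injective
  have hsurj : Function.Surjective (Points.map i.hom) := hhom.surjective
  have hmonoi := ThkTop.mono_of_isThickMor hi
  have hmonou := mono_of_oi hu
  constructor
  · -- existence
    have hopen : IsOpen (Set.range (Points.map u.hom)) :=
      (qData_isEtaleMor.isOpenMap u.hom U.property X.property (isEtaleMor_of_oi u.hom hu)).isOpen_range
    have hW : IsOpen (Points.map i.hom '' Set.range (Points.map u.hom)) :=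
      hhom.isOpenMap _ hopen
    obtain ⟨U', u', hu', hrange, hmono'⟩ := exists_openSub X' _ hW
    have hsub : Set.range (Points.map (u.hom ≫ i.hom)) ⊆ Set.range (Points.map u'.hom) := by
      rw [hrange]
      rintro _ ⟨w, rfl⟩
      exact ⟨Points.map u.hom w, ⟨w, rfl⟩, (Points.map_comp _ _ _).symm⟩
    obtain ⟨k, hk⟩ := (factors_iff u'.hom hu' (u.hom ≫ i.hom)).2 hsub
    refine ⟨U', u', ObjectProperty.homMk k, hu', ?_⟩
    show IsPullback u.hom k i.hom u'.hom
    -- compare with the chosen pullback
    have sq : IsPullback (pullback.fst i.hom u'.hom) (pullback.snd i.hom u'.hom) i.hom u'.hom :=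
      IsPullback.of_hasPullback _ _
    have hfstoi : RepWith @IsOpenImmersion (pullback.fst i.hom u'.hom) :=
      (repWith_isStableUnderBaseChange (S := S) @IsOpenImmersion).of_isPullback sq.flip hu'
    have hfstsub : Set.range (Points.map (pullback.fst i.hom u'.hom)) ⊆
        Set.range (Points.map u.hom) := by
      rintro _ ⟨w, rfl⟩
      have h1 : Points.map i.hom (Points.map (pullback.fst i.hom u'.hom) w) ∈
          Set.range (Points.map u'.hom) := by
        refine ⟨Points.map (pullback.snd i.hom u'.hom) w, ?_⟩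
        rw [← Points.map_comp, ← Points.map_comp, pullback.condition]
      rw [hrange] at h1
      obtain ⟨x, hx, hxe⟩ := h1
      rw [← hinj hxe]
      exact hx
    obtain ⟨g, hg⟩ := (factors_iff u.hom hu (pullback.fst i.hom u'.hom)).2 hfstsub
    let l : U.obj ⟶ pullback i.hom u'.hom := pullback.lift u.hom k hk.symm
    have hl1 : l ≫ pullback.fst i.hom u'.hom = u.hom := pullback.lift_fst _ _ _
    have hl2 : l ≫ pullback.snd i.hom u'.hom = k := pullback.lift_snd _ _ _
    have hgk : g ≫ k = pullback.snd i.hom u'.hom := by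
      rw [← cancel_mono u'.hom, Category.assoc, hk, ← Category.assoc, hg, pullback.condition]
    let e : U.obj ≅ pullback i.hom u'.hom :=
      ⟨l, g, by rw [← cancel_mono u.hom, Category.assoc, hg, hl1, Category.id_comp], by
        apply pullback.hom_ext
        · rw [Category.assoc, hl1, hg, Category.id_comp]
        · rw [Category.assoc, hl2, hgk, Category.id_comp]⟩
    exact IsPullback.of_iso_pullback ⟨hk.symm⟩ e hl1 hl2
  · -- uniqueness
    intro U₁ U₂ u₁ u₂ k₁ k₂ hu₁ sq₁ hu₂ sq₂
    have h1 := range_eq_of_isPullback i.hom hinj hsurj u.hom u₁.hom k₁.hom sq₁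
    have h2 := range_eq_of_isPullback i.hom hinj hsurj u.hom u₂.hom k₂.hom sq₂
    obtain ⟨e, he⟩ := exists_iso_of_range_eq u₁.hom u₂.hom hu₁ hu₂ (h1.trans h2.symm)
    refine ⟨⟨ObjectProperty.homMk e.hom, ObjectProperty.homMk e.inv, ?_, ?_⟩, ?_⟩
    · apply ObjectProperty.hom_ext
      exact e.hom_inv_id
    · apply ObjectProperty.hom_ext
      exact e.inv_hom_id
    · apply ObjectProperty.hom_ext
      exact he

end Groth.Agent.S10583
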