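import Groth.Statements.S10589
import Groth.Agent.Lib.Helper5.AlgSpThickDiag

set_option autoImplicit false
universe u
open CategoryTheory CategoryTheory.Limits AlgebraicGeometry
open AlgSp

namespace Groth.Agent.S10589

/-- Consider a morphism (f, f') from the thickening X ⊂ X' to the thickening Y ⊂ Y' of algebraic spaces
over S, meaning: i : X ⟶ X' and j : Y ⟶ Y' are thickenings (representable, every base change to a
scheme a surjective closed immersion) and i ≫ f' = f ≫ j. Then f is separated if and only if f' is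
separated, and f is quasi-separated if and only if f' is quasi-separated. -/
theorem result {S : Scheme.{u}} {X X' Y Y' : AlgSp.Space S} (i : X ⟶ X') (j : Y ⟶ Y')
    (f : X ⟶ Y) (f' : X' ⟶ Y')
    (hi : AlgSp.IsThickMor i.hom)
    (hj : AlgSp.IsThickMor j.hom) (w : i ≫ f' = f ≫ j) :
    (AlgSp.IsSeparatedMor f.hom ↔ AlgSp.IsSeparatedMor f'.hom) ∧
    (AlgSp.IsQuasiSeparatedMor f.hom ↔ AlgSp.IsQuasiSeparatedMor f'.hom) := by
  have hw : i.hom ≫ f'.hom = f.hom ≫ j.hom := congr($(w).hom)
  haveI : Mono i.hom := Groth.Agent.Lib.helper5.ThkTop.mono_of_isThickMor hi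
  have sqΔ := Groth.Agent.Lib.helper5.ThickDiag.isPullback_diagonal_of_mono i.hom j.hom f.hom f'.hom hw
  refine ⟨⟨fun h => ?_, fun h => ?_⟩, ⟨fun h => ?_, fun h => ?_⟩⟩
  · exact Groth.Agent.Lib.helper5.ThickDiag.repWith_diagonal_of_thick @IsClosedImmersion
      (fun g' τ e1 e2 sq hτ hm hl hP =>
        Groth.Agent.Lib.helper5.ThickDiag.isClosedImmersion_of_thick g' τ e1 e2 sq hτ hm hl hP)
      X'.2 hi hj hw h
  · exact (AlgSp.RepWith (S := S) @IsClosedImmersion).of_isPullback sqΔ h
  · exact Groth.Agent.Lib.helper5.ThickDiag.repWith_diagonal_of_thick @QuasiCompact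
      (fun g' τ e1 e2 sq hτ hm hl hP =>
        Groth.Agent.Lib.helper5.ThickDiag.quasiCompact_of_thick g' τ e1 e2 sq hτ hm hl hP)
      X'.2 hi hj hw h
  · exact (AlgSp.RepWith (S := S) @QuasiCompact).of_isPullback sqΔ h

end Groth.Agent.S10589
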