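import Groth.Statements.S10593
import Groth.Agent.Lib.Helper5.ThickUnram
import Groth.Agent.Lib.Helper5.AlgSpLocPInst
-- import your own Groth.Agent.* helpers here

set_option autoImplicit false
universe u
open CategoryTheory CategoryTheory.Limits AlgebraicGeometry
open AlgSp

namespace Groth.Agent.S10593

open Groth.Agent.Lib.helper5 in
/-- Pull a chart diagram of `f'` back along the thickenings to a chart diagram of `f`; the resulting square of
schemes is cartesian. -/
theorem exists_chart_down {S : Scheme.{u}} {X X' Y Y' : AlgSp.Sp S} {i : X ⟶ X'} {j : Y ⟶ Y'}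
    {f : X ⟶ Y} {f' : X' ⟶ Y'} (hi : AlgSp.IsThickMor i) (hj : AlgSp.IsThickMor j)
    (hcart : IsPullback i f f' j)
    {U' V' : Over S} (a' : (AlgSp.yon S).obj U' ⟶ X') (b' : (AlgSp.yon S).obj V' ⟶ Y') (h' : U' ⟶ V')
    (ha' : AlgSp.RepWith @Etale a') (hb' : AlgSp.RepWith @Etale b')
    (hsq : a' ≫ f' = (AlgSp.yon S).map h' ≫ b') :
    ∃ (U V : Over S) (ι : U ⟶ U') (κ : V ⟶ V') (h : U ⟶ V) (a0 : (AlgSp.yon S).obj U ⟶ X)
      (b0 : (AlgSp.yon S).obj V ⟶ Y), AlgSp.RepWith @Etale a0 ∧ AlgSp.RepWith @Etale b0 ∧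
      a0 ≫ f = (AlgSp.yon S).map h ≫ b0 ∧ AlgSp.thick ι.left ∧ AlgSp.thick κ.left ∧
      IsPullback ι.left h.left h'.left κ.left := by
  obtain ⟨U, ι, a0, sqU⟩ := hi.1 a'
  obtain ⟨V, κ, b0, sqV⟩ := hj.1 b'
  have hι : AlgSp.thick ι.left := hi.2 _ _ _ sqU
  have hκ : AlgSp.thick κ.left := hj.2 _ _ _ sqV
  have ha0 : AlgSp.RepWith @Etale a0 := (AlgSp.RepWith (S := S) @Etale).of_isPullback sqU.flip ha'
  have hb0 : AlgSp.RepWith @Etale b0 := (AlgSp.RepWith (S := S) @Etale).of_isPullback sqV.flip hb'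
  obtain ⟨h0, hh1, hh2⟩ := sqV.exists_lift (a0 ≫ f) ((AlgSp.yon S).map ι ≫ (AlgSp.yon S).map h') (by
    rw [Category.assoc, ← hcart.w, ← Category.assoc, sqU.w, Category.assoc, hsq, Category.assoc])
  obtain ⟨h, rfl⟩ := (AlgSp.yon S).map_surjective h0
  refine ⟨U, V, ι, κ, h, a0, b0, ha0, hb0, hh1.symm, hι, hκ, ?_⟩
  have big : IsPullback ((AlgSp.yon S).map ι) (a0 ≫ f) (a' ≫ f') j := sqU.flip.paste_vert hcart
  rw [hsq, ← hh1] at big
  have sqY : IsPullback ((AlgSp.yon S).map ι) ((AlgSp.yon S).map h) ((AlgSp.yon S).map h')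
      ((AlgSp.yon S).map κ) := IsPullback.of_bot big hh2.symm sqV.flip
  have hcomm : ι ≫ h' = h ≫ κ := (AlgSp.yon S).map_injective (by
    rw [Functor.map_comp, Functor.map_comp]; exact sqY.w)
  have sqO : IsPullback ι h h' κ := IsPullback.of_map (AlgSp.yon S) hcomm sqY
  exact sqO.map (Over.forget S)

/-- Consider a morphism (f, f') from the thickening X ⊂ X' to the thickening Y ⊂ Y' of algebraic spaces
over S, meaning: i : X ⟶ X' and j : Y ⟶ Y' are thickenings (representable, every base change to a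
scheme a surjective closed immersion) and i ≫ f' = f ≫ j. Assume moreover that the square is
cartesian (X = Y ×_{Y'} X') and that f and f' are locally of finite type. Then f is locally
quasi-finite, resp. unramified, if and only if f' is (etale-local sense, both notions including
locally of finite type). -/
theorem result {S : Scheme.{u}} {X X' Y Y' : AlgSp.Space S} (i : X ⟶ X') (j : Y ⟶ Y')
    (f : X ⟶ Y) (f' : X' ⟶ Y')
    (hi : AlgSp.IsThickMor i.hom)
    (hj : AlgSp.IsThickMor j.hom) (w : i ≫ f' = f ≫ j)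
    (hcart : IsPullback i.hom f.hom f'.hom j.hom)
    (hft : AlgSp.LocP @LocallyOfFiniteType f.hom) (hft' : AlgSp.LocP @LocallyOfFiniteType f'.hom) :
    (AlgSp.LocP (@LocallyQuasiFinite ⊓ @LocallyOfFiniteType) f.hom ↔
      AlgSp.LocP (@LocallyQuasiFinite ⊓ @LocallyOfFiniteType) f'.hom) ∧
    (AlgSp.LocP (@LocallyOfFiniteType ⊓ @FormallyUnramified) f.hom ↔
      AlgSp.LocP (@LocallyOfFiniteType ⊓ @FormallyUnramified) f'.hom) := by
  open Groth.Agent.Lib.helper5 in
  have hcart' : IsPullback i.hom f.hom f'.hom j.hom := hcart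
  have hlqf := LocPBC.locPData_lqf.{u}
  have hunr := LocPBC.locPData_unramified.{u}
  refine ⟨⟨fun hf => ?_, fun hf' => ?_⟩, ⟨fun hf => ?_, fun hf' => ?_⟩⟩
  · intro U' V' a' b' h' ha' hb' hsq
    obtain ⟨U, V, ι, κ, h, a0, b0, ha0, hb0, hsq0, hι, hκ, sq⟩ :=
      exists_chart_down hi hj hcart' a' b' h' ha' hb' hsq
    have hP := hf a0 b0 h ha0 hb0 hsq0
    have : LocallyOfFiniteType h'.left := hft' a' b' h' ha' hb' hsq
    have : LocallyQuasiFinite h.left := hP.1
    have h1 : IsClosedImmersion ι.left := hι.1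
    have h2 : Surjective ι.left := hι.2
    have h3 : IsClosedImmersion κ.left := hκ.1
    have h4 : Surjective κ.left := hκ.2
    exact ⟨ThickUnram.locallyQuasiFinite_of_comm sq.w ι.left.surjective
      ι.left.isClosedEmbedding.isInducing κ.left.isClosedEmbedding.injective κ.left.surjective,
      inferInstance⟩
  · exact LocPBC.locP_of_isPullback hlqf X'.2 Y'.2 Y.2 hcart' hf'
  · intro U' V' a' b' h' ha' hb' hsq
    obtain ⟨U, V, ι, κ, h, a0, b0, ha0, hb0, hsq0, hι, hκ, sq⟩ :=
      exists_chart_down hi hj hcart' a' b' h' ha' hb' hsq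
    have hP := hf a0 b0 h ha0 hb0 hsq0
    have : LocallyOfFiniteType h'.left := hft' a' b' h' ha' hb' hsq
    have : FormallyUnramified h.left := hP.2
    have h3 : IsClosedImmersion κ.left := hκ.1
    have h4 : Surjective κ.left := hκ.2
    exact ⟨inferInstance, ThickUnram.formallyUnramified_of_isPullback sq⟩
  · exact LocPBC.locP_of_isPullback hunr X'.2 Y'.2 Y.2 hcart' hf'

end Groth.Agent.S10593
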