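import Groth.Statements.S10591
import Groth.Agent.S10593
import Groth.Agent.Lib.Helper5.AlgSpThickTower
import Groth.Agent.Lib.Helper5.AlgSpThickRelDim
import Groth.Agent.Lib.Helper5.ThickStepLft

set_option autoImplicit false
universe u
open CategoryTheory CategoryTheory.Limits AlgebraicGeometry
open AlgSp

namespace Groth.Agent.S10591

/-- Consider a morphism (f, f') from the thickening X ⊂ X' to the thickening Y ⊂ Y' of algebraic spaces
over S, meaning: i : X ⟶ X' and j : Y ⟶ Y' are thickenings (representable, every base change to a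
scheme a surjective closed immersion) and i ≫ f' = f ≫ j. Assume moreover that the square is
cartesian (X = Y ×_{Y'} X') and that i is a finite order thickening (for one n, on every affine
etale scheme chart of X' the (n+1)-st power of the ideal of the base change of X vanishes). Then f
is locally of finite type of relative dimension d, resp. locally of finite type, resp. locally
quasi-finite, resp. unramified, if and only if f' is (relative dimension d at a point: some chart
diagram through the point has fibre of local dimension d there) (all in the etale-local sense,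
locally quasi-finite and unramified including locally of finite type). -/
theorem result {S : Scheme.{u}} {X X' Y Y' : AlgSp.Space S} (i : X ⟶ X') (j : Y ⟶ Y')
    (f : X ⟶ Y) (f' : X' ⟶ Y')
    (hi : AlgSp.IsThickMor i.hom)
    (hj : AlgSp.IsThickMor j.hom) (w : i ≫ f' = f ≫ j)
    (hcart : IsPullback i.hom f.hom f'.hom j.hom)
    (hfo : AlgSp.IsFinThickMor i.hom) (d : ℕ) :
    ((AlgSp.LocP @LocallyOfFiniteType f.hom ∧
        ∀ x, AlgSp.HasAtMor (fun _ _ h u => FlatMor.fibreDimAt h u = (d : WithBot ℕ∞)) f.hom x) ↔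
      (AlgSp.LocP @LocallyOfFiniteType f'.hom ∧
        ∀ x', AlgSp.HasAtMor (fun _ _ h u => FlatMor.fibreDimAt h u = (d : WithBot ℕ∞)) f'.hom x')) ∧
    (AlgSp.LocP @LocallyOfFiniteType f.hom ↔ AlgSp.LocP @LocallyOfFiniteType f'.hom) ∧
    (AlgSp.LocP (@LocallyQuasiFinite ⊓ @LocallyOfFiniteType) f.hom ↔
      AlgSp.LocP (@LocallyQuasiFinite ⊓ @LocallyOfFiniteType) f'.hom) ∧
    (AlgSp.LocP (@LocallyOfFiniteType ⊓ @FormallyUnramified) f.hom ↔
      AlgSp.LocP (@LocallyOfFiniteType ⊓ @FormallyUnramified) f'.hom) := by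
  open Groth.Agent.Lib.helper5 in
  obtain ⟨n, -, hpow⟩ := hfo
  have hcY : IsPullback j.hom (𝟙 Y.obj) (𝟙 Y'.obj) j.hom := IsPullback.of_vert_isIso ⟨by simp⟩
  have hlft : AlgSp.LocP @LocallyOfFiniteType f.hom ↔ AlgSp.LocP @LocallyOfFiniteType f'.hom := by
    refine ⟨fun h => ?_, fun h => LocPBC.locP_of_isPullback LocPBC.locPData_lft X'.2 Y'.2 Y.2 hcart h⟩
    refine ThickTower.locP_of_thickTower (g := 𝟙 Y.obj) (g' := 𝟙 Y'.obj) LocPBC.locPData_lft X'.2 Y'.2
      Y'.2 hj hcart hcY (fun T h0 => ?_) h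
    have := T.affU
    have := T.affV
    have := T.isClosedImmersion_κ
    have := T.isClosedImmersion_ι
    have : LocallyOfFiniteType T.h₀.left := h0
    have hp : T.ι.left.ker ^ (n + 1) = ⊥ := hpow T.a T.a0 T.ι T.affU T.hae T.sqU
    have hnil : IsNilpotent (RingHom.ker T.ι.left.appTop.hom) := by
      refine ⟨n + 1, ?_⟩
      have h1 := congr($(hp).ideal ⟨⊤, isAffineOpen_top T.U.left⟩)
      rw [Scheme.IdealSheafData.ideal_pow, Pi.pow_apply, Scheme.Hom.ker_apply] at h1
      exact h1
    exact ThickStepLft.locallyOfFiniteType_of_thick_affine T.h1.left T.κ.left T.ι.left T.h₀.left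
      T.pbU_left hnil
  have h93 := fun hft hft' => Groth.Agent.S10593.result i j f f' hi hj w hcart hft hft'
  refine ⟨?_, hlft, ?_, ?_⟩
  · have hdim := ThickRelDim.hasAtMor_fibreDim_iff_of_thick X'.2 Y'.2 hi hj hcart (d : WithBot ℕ∞)
    exact ⟨fun h => ⟨hlft.1 h.1, hdim.1 h.2⟩, fun h => ⟨hlft.2 h.1, hdim.2 h.2⟩⟩
  · refine ⟨fun h => ?_, fun h =>
      LocPBC.locP_of_isPullback LocPBC.locPData_lqf X'.2 Y'.2 Y.2 hcart h⟩
    have hft : AlgSp.LocP @LocallyOfFiniteType f.hom := fun U V a b k ha hb hc => (h a b k ha hb hc).2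
    exact (h93 hft (hlft.1 hft)).1.1 h
  · refine ⟨fun h => ?_, fun h =>
      LocPBC.locP_of_isPullback LocPBC.locPData_unramified X'.2 Y'.2 Y.2 hcart h⟩
    have hft : AlgSp.LocP @LocallyOfFiniteType f.hom := fun U V a b k ha hb hc => (h a b k ha hb hc).1
    exact (h93 hft (hlft.1 hft)).2.1 h

end Groth.Agent.S10591
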