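import Groth.Statements.S10649
import Groth.Agent.Lib.Helper1.QFib
import Groth.Agent.S10271
import Groth.Agent.S16833

set_option autoImplicit false
universe u
open CategoryTheory CategoryTheory.Limits AlgebraicGeometry
open AlgSp

namespace Groth.Agent.S10649

open Groth.Agent.Lib.helper5

variable {S : Scheme.{u}}

/-- The fibres of a separated locally quasi-finite morphism are discrete. -/
theorem discrete_fibre {X Y : Sp S} (hX : IsAlgSpace X) (hY : IsAlgSpace Y) (f : X ⟶ Y)
    (hs : IsSeparatedMor f) (hq : LocP (@LocallyQuasiFinite ⊓ @LocallyOfFiniteType) f)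
    (k : FieldPt Y) (Xk : Sp S) (fst : Xk ⟶ X) (snd : Xk ⟶ (yon S).obj k.pt)
    (sq : IsPullback fst snd f k.toHom) : DiscreteTopology (Points Xk) := by
  have hXk : IsAlgSpace Xk := isAlgSpace_of_isPullback hY.diag hX (IsAlgSpace.yon_obj _) sq
  have hs' := Groth.Agent.H1.QDesc.isSeparatedMor_of_isPullback sq hs
  have hq' := LocPBC.locP_of_isPullback LocPBC.locPData_lqf hX hY (IsAlgSpace.yon_obj _) sq hq
  obtain ⟨W, α, hα⟩ := Groth.Agent.H1.QLoc.exists_iso_of_lqf_separated hXk snd hs' hq'
  obtain ⟨w, hw⟩ := (yon S).map_surjective (α ≫ snd)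
  have hαe : RepWith @Etale α := MorphismProperty.of_isIso (RepWith (S := S) @Etale) α
  have hw' : (@LocallyQuasiFinite ⊓ @LocallyOfFiniteType) w.left :=
    hq' α (𝟙 _) w hαe (repWith_id @Etale _) (by rw [Category.comp_id, hw])
  haveI : LocallyQuasiFinite w.left := hw'.1
  haveI : IsLocallyArtinian k.pt.left := inferInstanceAs (IsLocallyArtinian (Spec (.of k.K)))
  haveI : IsLocallyArtinian W.left := IsLocallyArtinian.of_locallyQuasiFinite w.left
  haveI : DiscreteTopology W.left := inferInstance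
  refine DiscreteTopology.of_continuous_injective
    (f := (Points.schemeHomeo W).symm ∘ Points.map (inv α))
    ((Points.schemeHomeo W).symm.continuous.comp (Points.continuous_map _)) ?_
  refine (Points.schemeHomeo W).symm.injective.comp ?_
  intro x y hxy
  have := congrArg (Points.map α) hxy
  simpa [← Points.map_comp] using this

theorem main {X Y : AlgSp.Space S} (f : X ⟶ Y) :
    [AlgSp.IsFiniteMor f.hom,
      AlgSp.IsProperMor f.hom ∧ AlgSp.LocP (@LocallyQuasiFinite ⊓ @LocallyOfFiniteType) f.hom,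
      AlgSp.IsProperMor f.hom ∧
        ∀ (k : AlgSp.FieldPt Y.obj) (Xk : AlgSp.Sp S) (fst : Xk ⟶ X.obj) (snd : Xk ⟶ (AlgSp.yon S).obj k.pt),
          IsPullback fst snd f.hom k.toHom → DiscreteTopology (AlgSp.Points Xk),
      AlgSp.IsUnivClosedMor f.hom ∧ AlgSp.IsSeparatedMor f.hom ∧ AlgSp.LocP @LocallyOfFiniteType f.hom ∧
        ∀ (k : AlgSp.FieldPt Y.obj) (Xk : AlgSp.Sp S) (fst : Xk ⟶ X.obj) (snd : Xk ⟶ (AlgSp.yon S).obj k.pt),
          IsPullback fst snd f.hom k.toHom → DiscreteTopology (AlgSp.Points Xk)].TFAE := by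
  tfae_have 1 → 2 := fun h =>
    ⟨((Groth.Agent.S10271.result f).1 h).2, Groth.Agent.S16833.locP_lqf_of_isFiniteMor f.hom h⟩
  tfae_have 2 → 3 := fun ⟨hp, hq⟩ =>
    ⟨hp, fun k Xk fst snd sq => discrete_fibre X.property Y.property f.hom hp.1 hq k Xk fst snd sq⟩
  tfae_have 3 → 4 := fun ⟨⟨hs, ⟨hl, _⟩, hc⟩, hfib⟩ => ⟨hc, hs, hl, hfib⟩
  tfae_have 4 → 1 := fun ⟨hc, hs, hl, hfib⟩ =>
    Groth.Agent.H1.QFin.isFiniteMor_of_sep_lqf_univClosed X.property Y.property f.hom hs
      (Groth.Agent.H1.QFib.locP_lqf_of_discrete_fibres X.property Y.property f.hom hl hfib) hc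
  tfae_finish

/-- The following conditions on a morphism f : X ⟶ Y of algebraic spaces over S are equivalent: (1)
finiteness of f; (2) f is locally quasi-finite as well as proper (locally quasi-finite and locally
of finite type etale locally); (3) f is proper and for every field k and every k-point Spec k ⟶ Y
the fibre X_k (any pullback of f along it in fppf sheaves) has discrete space of points; (4) f is
universally closed, separated and locally of finite type, and every such fibre X_k has discrete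
space of points. -/
theorem result {S : Scheme.{u}} {X Y : AlgSp.Space S} (f : X ⟶ Y) :
    [AlgSp.IsFiniteMor f.hom,
      AlgSp.IsProperMor f.hom ∧ AlgSp.LocP (@LocallyQuasiFinite ⊓ @LocallyOfFiniteType) f.hom,
      AlgSp.IsProperMor f.hom ∧
        ∀ (k : AlgSp.FieldPt Y.obj) (Xk : AlgSp.Sp S) (fst : Xk ⟶ X.obj) (snd : Xk ⟶ (AlgSp.yon S).obj k.pt),
          IsPullback fst snd f.hom k.toHom → DiscreteTopology (AlgSp.Points Xk),
      AlgSp.IsUnivClosedMor f.hom ∧ AlgSp.IsSeparatedMor f.hom ∧ AlgSp.LocP @LocallyOfFiniteType f.hom ∧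
        ∀ (k : AlgSp.FieldPt Y.obj) (Xk : AlgSp.Sp S) (fst : Xk ⟶ X.obj) (snd : Xk ⟶ (AlgSp.yon S).obj k.pt),
          IsPullback fst snd f.hom k.toHom → DiscreteTopology (AlgSp.Points Xk)].TFAE := by
  exact main f

end Groth.Agent.S10649
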