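import Groth.Statements.S10592
import Groth.Agent.Lib.Helper5.ThkImm
import Groth.Agent.S10589
import Groth.Agent.S10591
import Groth.Agent.S10649

set_option autoImplicit false
universe u
open CategoryTheory CategoryTheory.Limits AlgebraicGeometry
open AlgSp

namespace Groth.Agent.S10592

/-- Consider a morphism (f, f') from the thickening X ⊂ X' to the thickening Y ⊂ Y' of algebraic spaces
over S, meaning: i : X ⟶ X' and j : Y ⟶ Y' are thickenings (representable, every base change to a
scheme a surjective closed immersion) and i ≫ f' = f ≫ j. Assume moreover that the square is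
cartesian (X = Y ×_{Y'} X') and that i is a finite order thickening (for one n, on every affine
etale scheme chart of X' the (n+1)-st power of the ideal of the base change of X vanishes). Then f
is a closed immersion, resp. proper, resp. finite, resp. an immersion, if and only if f' is
(immersions of algebraic spaces being the representable ones). -/
theorem result {S : Scheme.{u}} {X X' Y Y' : AlgSp.Space S} (i : X ⟶ X') (j : Y ⟶ Y')
    (f : X ⟶ Y) (f' : X' ⟶ Y')
    (hi : AlgSp.IsThickMor i.hom)
    (hj : AlgSp.IsThickMor j.hom) (w : i ≫ f' = f ≫ j)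
    (hcart : IsPullback i.hom f.hom f'.hom j.hom)
    (hfo : AlgSp.IsFinThickMor i.hom) :
    (AlgSp.RepWith @IsClosedImmersion f.hom ↔ AlgSp.RepWith @IsClosedImmersion f'.hom) ∧
    (AlgSp.IsProperMor f.hom ↔ AlgSp.IsProperMor f'.hom) ∧
    (AlgSp.IsFiniteMor f.hom ↔ AlgSp.IsFiniteMor f'.hom) ∧
    (AlgSp.RepWith @IsImmersion f.hom ↔ AlgSp.RepWith @IsImmersion f'.hom) := by
  have h87 := Groth.Agent.S10587.result i j f f' hi hj w
  have h89 := Groth.Agent.S10589.result i j f f' hi hj w
  have h91 := Groth.Agent.S10591.result i j f f' hi hj w hcart hfo 0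
  have hprop : AlgSp.IsProperMor f.hom ↔ AlgSp.IsProperMor f'.hom :=
    and_congr h89.1 (and_congr (and_congr h91.2.1 h87.2.1) h87.2.2.1)
  refine ⟨?_, hprop, ?_, ?_⟩
  · exact ((Groth.Agent.S10614.result f).2.1).trans
      ((and_congr h87.2.2.1 (and_congr h91.2.2.2 h87.2.2.2.1)).trans
        ((Groth.Agent.S10614.result f').2.1).symm)
  · exact ((Groth.Agent.S10649.result f).out 0 1).trans
      ((and_congr hprop h91.2.2.1).trans ((Groth.Agent.S10649.result f').out 0 1).symm)
  · constructor
    · intro hf
      exact Groth.Agent.Lib.helper5.ThkImm.repWith_isImmersion_of_thick i j f f' hj hcart hf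
        (h91.2.2.2.1 (Groth.Agent.S10264.result f hf))
    · intro hf'
      exact (AlgSp.RepWith (S := S) @IsImmersion).of_isPullback hcart hf'

end Groth.Agent.S10592
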