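import Groth.Statements.S10594
import Groth.Agent.Lib.Helper5.ThkImm
import Groth.Agent.S10589
import Groth.Agent.S10593
import Groth.Agent.S10649

set_option autoImplicit false
universe u
open CategoryTheory CategoryTheory.Limits AlgebraicGeometry
open AlgSp

namespace Groth.Agent.S10594

/-- Consider a morphism (f, f') from the thickening X ⊂ X' to the thickening Y ⊂ Y' of algebraic spaces
over S, meaning: i : X ⟶ X' and j : Y ⟶ Y' are thickenings (representable, every base change to a
scheme a surjective closed immersion) and i ≫ f' = f ≫ j. Assume moreover that the square is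
cartesian (X = Y ×_{Y'} X') and that f and f' are locally of finite type. Then f is finite, resp. a
closed immersion, resp. an immersion, resp. proper, if and only if f' is (immersions of algebraic
spaces being the representable ones). -/
theorem result {S : Scheme.{u}} {X X' Y Y' : AlgSp.Space S} (i : X ⟶ X') (j : Y ⟶ Y')
    (f : X ⟶ Y) (f' : X' ⟶ Y')
    (hi : AlgSp.IsThickMor i.hom)
    (hj : AlgSp.IsThickMor j.hom) (w : i ≫ f' = f ≫ j)
    (hcart : IsPullback i.hom f.hom f'.hom j.hom)
    (hft : AlgSp.LocP @LocallyOfFiniteType f.hom) (hft' : AlgSp.LocP @LocallyOfFiniteType f'.hom) :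
    (AlgSp.IsFiniteMor f.hom ↔ AlgSp.IsFiniteMor f'.hom) ∧
    (AlgSp.RepWith @IsClosedImmersion f.hom ↔ AlgSp.RepWith @IsClosedImmersion f'.hom) ∧
    (AlgSp.RepWith @IsImmersion f.hom ↔ AlgSp.RepWith @IsImmersion f'.hom) ∧
    (AlgSp.IsProperMor f.hom ↔ AlgSp.IsProperMor f'.hom) := by
  have h87 := Groth.Agent.S10587.result i j f f' hi hj w
  have h89 := Groth.Agent.S10589.result i j f f' hi hj w
  have h93 := Groth.Agent.S10593.result i j f f' hi hj w hcart hft hft'
  have hprop : AlgSp.IsProperMor f.hom ↔ AlgSp.IsProperMor f'.hom :=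
    and_congr h89.1 (and_congr (and_congr (iff_of_true hft hft') h87.2.1) h87.2.2.1)
  refine ⟨?_, ?_, ?_, hprop⟩
  · exact ((Groth.Agent.S10649.result f).out 0 1).trans
      ((and_congr hprop h93.1).trans ((Groth.Agent.S10649.result f').out 0 1).symm)
  · exact ((Groth.Agent.S10614.result f).2.1).trans
      ((and_congr h87.2.2.1 (and_congr h93.2 h87.2.2.2.1)).trans
        ((Groth.Agent.S10614.result f').2.1).symm)
  · constructor
    · intro hf
      exact Groth.Agent.Lib.helper5.ThkImm.repWith_isImmersion_of_thick i j f f' hj hcart hf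
        (h93.2.1 (Groth.Agent.S10264.result f hf))
    · intro hf'
      exact (AlgSp.RepWith (S := S) @IsImmersion).of_isPullback hcart hf'

end Groth.Agent.S10594
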