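import Groth.Statements.S10595
import Groth.Agent.Lib.Helper5.NilFlatScheme
import Groth.Agent.Lib.Helper5.AlgSpAffTower
import Groth.Agent.Lib.Helper17.LocPAtChart
import Groth.Agent.Lib.Helper17.GorAtEtale

set_option autoImplicit false
universe u
open CategoryTheory CategoryTheory.Limits AlgebraicGeometry
open AlgSp

namespace Groth.Agent.S10595

open Groth.Agent.Lib.helper5 in
/-- Through every point of `X'` there is a tower of affine étale charts on which `f'` is flat and `g'` is flat along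
the image. -/
theorem exists_flat_tower {S : Scheme.{u}} {X X' Y Y' B B' : AlgSp.Space S} (iX : X ⟶ X') (iY : Y ⟶ Y')
    (iB : B ⟶ B') (f : X ⟶ Y) (f' : X' ⟶ Y') (g : Y ⟶ B) (g' : Y' ⟶ B')
    (hcX : IsPullback iX.hom (f ≫ g).hom (f' ≫ g').hom iB.hom) (hcY : IsPullback iY.hom g.hom g'.hom iB.hom)
    (w : iX ≫ f' = f ≫ iY)
    (hB : AlgSp.IsFinThickMor iB.hom) (hflat : AlgSp.LocP @Flat (f' ≫ g').hom)
    (hf : AlgSp.LocP @Flat f.hom) (x' : AlgSp.Points X'.obj) :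
    ∃ (U V W : Over S) (a : (AlgSp.yon S).obj U ⟶ X'.obj) (b : (AlgSp.yon S).obj V ⟶ Y'.obj)
      (c : (AlgSp.yon S).obj W ⟶ B'.obj) (h1 : U ⟶ V) (h2 : V ⟶ W) (u : ↥U.left),
      AlgSp.RepWith @Etale a ∧ AlgSp.RepWith @Etale b ∧ AlgSp.RepWith @Etale c ∧
      a ≫ f'.hom = (AlgSp.yon S).map h1 ≫ b ∧ b ≫ g'.hom = (AlgSp.yon S).map h2 ≫ c ∧
      AlgSp.Points.ofPt a u = x' ∧ Flat h1.left ∧ ∀ u : ↥U.left, (h2.left.stalkMap (h1.left u)).hom.Flat := by
  obtain ⟨n, hBthick, hBpow⟩ := hB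
  have hw : iX.hom ≫ f'.hom = f.hom ≫ iY.hom := congr($(w).hom)
  have hcXY : IsPullback iX.hom f.hom f'.hom iY.hom := IsPullback.of_bot hcX hw hcY
  have hYthick : AlgSp.IsThickMor iY.hom :=
    (AlgSp.RepWith (S := S) AlgSp.thick).of_isPullback hcY.flip hBthick
  have hXthick : AlgSp.IsThickMor iX.hom :=
    (AlgSp.RepWith (S := S) AlgSp.thick).of_isPullback hcXY.flip hYthick
  obtain ⟨U, V, W, a, b, c, h1, h2, u, hU, hV, hW, hae, hbe, hce, hc1, hc2, hu⟩ :=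
    AffTower.exists_affine_tower X'.2 Y'.2 B'.2 f'.hom g'.hom x'
  obtain ⟨W₀, lam, c0, sqW⟩ := hBthick.1 c
  obtain ⟨V₀, κ, k₀, b0, sqV, hb0, pbV⟩ := AffTower.chart_down_step hYthick hcY b c h2 hc2 sqW
  obtain ⟨U₀, ι, h₀, a0, sqU, ha0, pbU⟩ := AffTower.chart_down_step hXthick hcXY a b h1 hc1 sqV
  have hlam : AlgSp.thick lam.left := hBthick.2 _ _ _ sqW
  have hlamci : IsClosedImmersion lam.left := hlam.1
  have hpow : lam.left.ker ^ (n + 1) = ⊥ := hBpow c c0 lam hW hce sqW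
  have ha0e : AlgSp.RepWith @Etale a0 := (AlgSp.RepWith (S := S) @Etale).of_isPullback sqU.flip hae
  have hb0e : AlgSp.RepWith @Etale b0 := (AlgSp.RepWith (S := S) @Etale).of_isPullback sqV.flip hbe
  have hfl₀ : Flat h₀.left := hf a0 b0 h₀ ha0e hb0e ha0
  have hc12 : a ≫ (f' ≫ g').hom = (AlgSp.yon S).map (h1 ≫ h2) ≫ c := by
    change a ≫ f'.hom ≫ g'.hom = _
    rw [← Category.assoc, hc1, Category.assoc, hc2, Functor.map_comp, Category.assoc]
  have hfl : Flat (h1.left ≫ h2.left) := hflat a c (h1 ≫ h2) hae hce hc12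
  have hnil : IsNilpotent (RingHom.ker lam.left.appTop.hom) := by
    refine ⟨n + 1, ?_⟩
    have h1 := congr($(hpow).ideal ⟨⊤, isAffineOpen_top W.left⟩)
    rw [Scheme.IdealSheafData.ideal_pow, Pi.pow_apply, Scheme.Hom.ker_apply] at h1
    exact h1
  obtain ⟨r1, r2⟩ := NilFlatScheme.flat_of_nilpotent_affine h1.left h2.left lam.left κ.left ι.left
    h₀.left k₀.left hnil (pbV.map (Over.forget S)) (pbU.map (Over.forget S)) hfl hfl₀
  exact ⟨U, V, W, a, b, c, h1, h2, u, hae, hbe, hce, hc1, hc2, hu, r1, r2⟩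

/-- Let iB : B ⟶ B' be a finite order thickening of algebraic spaces over S (a thickening such that for
one n the (n+1)-st power of the ideal vanishes on every affine etale scheme chart), f' : X' ⟶ Y' a
morphism of algebraic spaces over B' (via g' : Y' ⟶ B') with X' flat over B', and f : X ⟶ Y, g : Y ⟶
B its base change to B (both squares to iB cartesian, iX ≫ f' = f ≫ iY). If f is flat, then f' is
flat and g' : Y' ⟶ B' is flat at every point of Y' in the image of f'. -/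
theorem result {S : Scheme.{u}} {X X' Y Y' B B' : AlgSp.Space S} (iX : X ⟶ X') (iY : Y ⟶ Y') (iB : B ⟶ B')
    (f : X ⟶ Y) (f' : X' ⟶ Y') (g : Y ⟶ B) (g' : Y' ⟶ B')
    (hcX : IsPullback iX.hom (f ≫ g).hom (f' ≫ g').hom iB.hom) (hcY : IsPullback iY.hom g.hom g'.hom iB.hom)
    (w : iX ≫ f' = f ≫ iY)
    (hB : AlgSp.IsFinThickMor iB.hom) (hflat : AlgSp.LocP @Flat (f' ≫ g').hom)
    (hf : AlgSp.LocP @Flat f.hom) :
    AlgSp.LocP @Flat f'.hom ∧
    ∀ x' : AlgSp.Points X'.obj, AlgSp.IsFlatAtMor g'.hom (AlgSp.Points.map f'.hom x') := by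
  have hS : ∀ {W U V : Scheme.{u}} (g : W ⟶ U) [Etale g] (h : U ⟶ V) (w : ↥W),
      ((g ≫ h).stalkMap w).hom.Flat ↔ (h.stalkMap (g w)).hom.Flat := fun g _ h w =>
    Groth.Agent.Lib.helper17.GorAtEtale.flat_stalkMap_comp_etale_left g h w
  have hT : ∀ {W T V : Scheme.{u}} (m : W ⟶ T) (k : T ⟶ V) [Etale k] (w : ↥W),
      ((m ≫ k).stalkMap w).hom.Flat ↔ (m.stalkMap w).hom.Flat := fun m k _ w =>
    Groth.Agent.Lib.helper17.GorAtEtale.flat_stalkMap_comp_etale_right m k w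
  refine ⟨?_, fun x' => ?_⟩
  · intro U' V' a' b' h' ha' hb' hsq
    rw [Flat.iff_flat_stalkMap]
    intro u'
    obtain ⟨U, V, W, a, b, c, h1, h2, u, hae, hbe, hce, hc1, hc2, hu, r1, r2⟩ :=
      exists_flat_tower iX iY iB f f' g g' hcX hcY w hB hflat hf (AlgSp.Points.ofPt a' u')
    have hQ : (h1.left.stalkMap u).hom.Flat := Flat.stalkMap h1.left u
    exact Groth.Agent.Lib.helper17.LocPAtChart.locPAt_of_chart
      (Q := fun h u => (Scheme.Hom.stalkMap h u).hom.Flat) hS hT f'.hom _ a b h1 u hae hbe hc1 hu hQ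
      a' b' h' u' ha' hb' hsq rfl
  · obtain ⟨U, V, W, a, b, c, h1, h2, u, hae, hbe, hce, hc1, hc2, hu, r1, r2⟩ :=
      exists_flat_tower iX iY iB f f' g g' hcX hcY w hB hflat hf x'
    have hpt : AlgSp.Points.ofPt b (h1.left u) = AlgSp.Points.map f'.hom x' := by
      rw [← hu, AlgSp.Points.map_ofPt, hc1, Groth.Agent.Lib.helper11.ofPt_yon_map_comp]
    exact Groth.Agent.Lib.helper17.LocPAtChart.locPAt_of_chart
      (Q := fun h u => (Scheme.Hom.stalkMap h u).hom.Flat) hS hT g'.hom _ b c h2 (h1.left u) hbe hce hc2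
      hpt (r2 u)

end Groth.Agent.S10595
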