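import Groth.Statements.S10596
import Groth.Agent.S10593
import Groth.Agent.S10595
import Groth.Agent.S10266
import Groth.Agent.Lib.Helper5.AlgSpThickTower
import Groth.Agent.Lib.Helper5.AlgSpThickRelDim
import Groth.Agent.Lib.Helper5.ThickStepLft
import Groth.Agent.Lib.Helper18.NilBaseSmooth

set_option autoImplicit false
universe u
open CategoryTheory CategoryTheory.Limits AlgebraicGeometry
open AlgSp

namespace Groth.Agent.S10596

/-- Let iB : B ⟶ B' be a finite order thickening of algebraic spaces over S (a thickening such that for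
one n the (n+1)-st power of the ideal vanishes on every affine etale scheme chart), f' : X' ⟶ Y' a
morphism of algebraic spaces over B' (via g' : Y' ⟶ B') with X' flat over B', and f : X ⟶ Y, g : Y ⟶
B its base change to B (both squares to iB cartesian, iX ≫ f' = f ≫ iY). Then f is locally of finite
type of relative dimension d, resp. flat, resp. locally of finite type, locally quasi-finite,
locally of finite presentation, smooth, unramified, etale, if and only if f' is (etale-local sense;
locally quasi-finite and unramified include locally of finite type). -/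
theorem result {S : Scheme.{u}} {X X' Y Y' B B' : AlgSp.Space S} (iX : X ⟶ X') (iY : Y ⟶ Y') (iB : B ⟶ B')
    (f : X ⟶ Y) (f' : X' ⟶ Y') (g : Y ⟶ B) (g' : Y' ⟶ B')
    (hcX : IsPullback iX.hom (f ≫ g).hom (f' ≫ g').hom iB.hom) (hcY : IsPullback iY.hom g.hom g'.hom iB.hom)
    (w : iX ≫ f' = f ≫ iY)
    (hB : AlgSp.IsFinThickMor iB.hom) (hflat : AlgSp.LocP @Flat (f' ≫ g').hom) (d : ℕ) :
    ((AlgSp.LocP @LocallyOfFiniteType f.hom ∧
        ∀ x, AlgSp.HasAtMor (fun _ _ h u => FlatMor.fibreDimAt h u = (d : WithBot ℕ∞)) f.hom x) ↔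
      (AlgSp.LocP @LocallyOfFiniteType f'.hom ∧
        ∀ x', AlgSp.HasAtMor (fun _ _ h u => FlatMor.fibreDimAt h u = (d : WithBot ℕ∞)) f'.hom x')) ∧
    (AlgSp.LocP @Flat f.hom ↔ AlgSp.LocP @Flat f'.hom) ∧
    (AlgSp.LocP @LocallyOfFiniteType f.hom ↔ AlgSp.LocP @LocallyOfFiniteType f'.hom) ∧
    (AlgSp.LocP (@LocallyQuasiFinite ⊓ @LocallyOfFiniteType) f.hom ↔
      AlgSp.LocP (@LocallyQuasiFinite ⊓ @LocallyOfFiniteType) f'.hom) ∧
    (AlgSp.LocP @LocallyOfFinitePresentation f.hom ↔ AlgSp.LocP @LocallyOfFinitePresentation f'.hom) ∧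
    (AlgSp.LocP @Smooth f.hom ↔ AlgSp.LocP @Smooth f'.hom) ∧
    (AlgSp.LocP (@LocallyOfFiniteType ⊓ @FormallyUnramified) f.hom ↔
      AlgSp.LocP (@LocallyOfFiniteType ⊓ @FormallyUnramified) f'.hom) ∧
    (AlgSp.IsEtaleMor f.hom ↔ AlgSp.IsEtaleMor f'.hom) := by
  open Groth.Agent.Lib.helper5 in
  have hB0 := hB
  obtain ⟨n, hBthick, hBpow⟩ := hB
  have hw : iX.hom ≫ f'.hom = f.hom ≫ iY.hom := congr($(w).hom)
  have hcXY : IsPullback iX.hom f.hom f'.hom iY.hom := IsPullback.of_bot hcX hw hcY
  have hYthick : AlgSp.IsThickMor iY.hom :=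
    (AlgSp.RepWith (S := S) AlgSp.thick).of_isPullback hcY.flip hBthick
  have hXthick : AlgSp.IsThickMor iX.hom :=
    (AlgSp.RepWith (S := S) AlgSp.thick).of_isPullback hcXY.flip hYthick
  -- base change direction
  have down : ∀ {P : MorphismProperty Scheme.{u}}, LocPBC.LocPData P → AlgSp.LocP P f'.hom →
      AlgSp.LocP P f.hom := fun hP h => LocPBC.locP_of_isPullback hP X'.2 Y'.2 Y.2 hcXY h
  -- lifting direction
  have up : ∀ {P : MorphismProperty Scheme.{u}}, LocPBC.LocPData P → IsZariskiLocalAtSource P →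
      (∀ T : ThickTower.Tower iX.hom iY.hom iB.hom f.hom f'.hom g.hom g'.hom,
        P T.h₀.left → P T.h1.left) → AlgSp.LocP P f.hom → AlgSp.LocP P f'.hom :=
    fun hP _ hstep h => ThickTower.locP_of_thickTower hP X'.2 Y'.2 B'.2 hBthick hcXY hcY hstep h
  -- nilpotency along towers
  have hpowT : ∀ T : ThickTower.Tower iX.hom iY.hom iB.hom f.hom f'.hom g.hom g'.hom,
      T.lam.left.ker ^ (n + 1) = ⊥ := fun T => hBpow T.c T.c0 T.lam T.affW T.hce T.sqW
  have hnilS : ∀ T : ThickTower.Tower iX.hom iY.hom iB.hom f.hom f'.hom g.hom g'.hom,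
      IsNilpotent T.lam.left.ker := fun T => ⟨n + 1, hpowT T⟩
  have hnilR : ∀ T : ThickTower.Tower iX.hom iY.hom iB.hom f.hom f'.hom g.hom g'.hom,
      RingHom.ker T.lam.left.appTop.hom ^ (n + 1) = ⊥ := by
    intro T
    have := T.affW
    have := T.isClosedImmersion_lam
    have h1 := congr($(hpowT T).ideal ⟨⊤, isAffineOpen_top T.W.left⟩)
    rw [Scheme.IdealSheafData.ideal_pow, Pi.pow_apply, Scheme.Hom.ker_apply] at h1
    exact h1
  have hnilι : ∀ T : ThickTower.Tower iX.hom iY.hom iB.hom f.hom f'.hom g.hom g'.hom,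
      IsNilpotent (RingHom.ker T.ι.left.appTop.hom) := by
    intro T
    have := T.affU
    have := T.affW
    have := T.isClosedImmersion_lam
    rw [ThickStepLft.ker_appTop_of_isPullback (T.h1.left ≫ T.h2.left) T.lam.left T.ι.left
      (T.h₀.left ≫ T.k₀.left) T.pbUW_left]
    refine ⟨n + 1, ?_⟩
    rw [← Ideal.map_pow, hnilR T, Ideal.map_bot, Ideal.zero_eq_bot]
  have hflT : ∀ T : ThickTower.Tower iX.hom iY.hom iB.hom f.hom f'.hom g.hom g'.hom,
      Flat (T.h1.left ≫ T.h2.left) := fun T => hflat T.a T.c (T.h1 ≫ T.h2) T.hae T.hce T.hc12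
  -- locally of finite type
  have hlft : AlgSp.LocP @LocallyOfFiniteType f.hom ↔ AlgSp.LocP @LocallyOfFiniteType f'.hom := by
    refine ⟨up LocPBC.locPData_lft inferInstance (fun T h0 => ?_), down LocPBC.locPData_lft⟩
    have := T.affU
    have := T.affV
    have := T.isClosedImmersion_κ
    have : LocallyOfFiniteType T.h₀.left := h0
    exact ThickStepLft.locallyOfFiniteType_of_thick_affine T.h1.left T.κ.left T.ι.left T.h₀.left
      T.pbU_left (hnilι T)
  have h93 := fun hft hft' => Groth.Agent.S10593.result iX iY f f' hXthick hYthick w hcXY hft hft'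
  refine ⟨?_, ?_, hlft, ?_, ?_, ?_, ?_, ?_⟩
  · -- relative dimension
    have hdim := ThickRelDim.hasAtMor_fibreDim_iff_of_thick X'.2 Y'.2 hXthick hYthick hcXY
      (d : WithBot ℕ∞)
    exact ⟨fun h => ⟨hlft.1 h.1, hdim.1 h.2⟩, fun h => ⟨hlft.2 h.1, hdim.2 h.2⟩⟩
  · -- flat
    exact ⟨fun hf => (Groth.Agent.S10595.result iX iY iB f f' g g' hcX hcY w hB0 hflat hf).1,
      down LocPBC.locPData_flat⟩
  · -- locally quasi-finite
    refine ⟨fun h => ?_, down LocPBC.locPData_lqf⟩
    have hft : AlgSp.LocP @LocallyOfFiniteType f.hom := fun U V a b k ha hb hc => (h a b k ha hb hc).2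
    exact (h93 hft (hlft.1 hft)).1.1 h
  · -- locally of finite presentation
    refine ⟨up LocPBC.locPData_lfp inferInstance (fun T h0 => ?_), down LocPBC.locPData_lfp⟩
    have := T.isClosedImmersion_lam
    have := hflT T
    have : LocallyOfFinitePresentation T.h₀.left := h0
    exact Groth.Agent.Lib.Helper18.NilBase.locallyOfFinitePresentation_of_thickening_base_scheme
      (hnilS T) T.pbUW_left T.pbV_left T.pbU_left.w
  · -- smooth
    refine ⟨up LocPBC.locPData_smooth inferInstance (fun T h0 => ?_), down LocPBC.locPData_smooth⟩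
    have := T.isClosedImmersion_lam
    have := T.surjective_lam
    have := hflT T
    have : Smooth T.h₀.left := h0
    exact Groth.Agent.Lib.Helper18.NilBase.smooth_of_thickening_base_scheme
      (hnilS T) T.pbUW_left T.pbV_left T.pbU_left.w
  · -- unramified
    refine ⟨fun h => ?_, down LocPBC.locPData_unramified⟩
    have hft : AlgSp.LocP @LocallyOfFiniteType f.hom := fun U V a b k ha hb hc => (h a b k ha hb hc).1
    exact (h93 hft (hlft.1 hft)).2.1 h
  · -- etale
    have hup : AlgSp.LocP @Etale f.hom → AlgSp.LocP @Etale f'.hom := by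
      refine up LocPBC.locPData_etale inferInstance (fun T h0 => ?_)
      have := T.isClosedImmersion_lam
      have := T.surjective_lam
      have := hflT T
      have : Etale T.h₀.left := h0
      exact Groth.Agent.Lib.Helper18.NilBase.etale_of_thickening_base_scheme
        (hnilS T) T.pbUW_left T.pbV_left T.pbU_left.w
    exact ⟨fun h => Groth.Agent.S10266.isEtaleMor_of_locP_etale Y'.2 f'.hom
        (hup (Groth.Agent.S10265.locP_etale_of_isEtaleMor f.hom h)),
      fun h => Groth.Agent.S10266.isEtaleMor_of_locP_etale Y.2 f.hom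
        (down LocPBC.locPData_etale (Groth.Agent.S10265.locP_etale_of_isEtaleMor f'.hom h))⟩

end Groth.Agent.S10596
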