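import Groth.Statements.S10610
import Groth.Agent.Lib.Helper5.ThkAffL
import Groth.Agent.Lib.Helper18.NilBaseFinite2

set_option autoImplicit false
universe u
open CategoryTheory CategoryTheory.Limits AlgebraicGeometry
open AlgSp

namespace Groth.Agent.S10610

/-- Let iB : B ⟶ B' be a finite order thickening of algebraic spaces over S (a thickening such that for
one n the (n+1)-st power of the ideal vanishes on every affine etale scheme chart), f' : X' ⟶ Y' a
morphism of algebraic spaces over B' (via g' : Y' ⟶ B') with X' flat over B', and f : X ⟶ Y, g : Y ⟶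
B its base change to B (both squares to iB cartesian, iX ≫ f' = f ≫ iY). Then f is finite if and
only if f' is finite. (The published statement lists eleven further properties with the same
equivalence: representable by schemes, quasi-compact, universally closed, separated,
quasi-separated, surjective, universally injective, affine, universally open, proper and integral.
Since iX and iY are again thickenings and X = Y ×_{Y'} X', those cases follow from the corresponding
statements for morphisms of thickenings and are not restated here.) -/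
theorem result {S : Scheme.{u}} {X X' Y Y' B B' : AlgSp.Space S} (iX : X ⟶ X') (iY : Y ⟶ Y') (iB : B ⟶ B')
    (f : X ⟶ Y) (f' : X' ⟶ Y') (g : Y ⟶ B) (g' : Y' ⟶ B')
    (hcX : IsPullback iX.hom (f ≫ g).hom (f' ≫ g').hom iB.hom) (hcY : IsPullback iY.hom g.hom g'.hom iB.hom)
    (w : iX ≫ f' = f ≫ iY)
    (hB : AlgSp.IsFinThickMor iB.hom) (hflat : AlgSp.LocP @Flat (f' ≫ g').hom) :
    (AlgSp.IsFiniteMor f.hom ↔ AlgSp.IsFiniteMor f'.hom) := by
  have sqXY : IsPullback iX.hom f.hom f'.hom iY.hom :=
    (IsPullback.of_right (h₁₁ := f.hom) (h₁₂ := g.hom) (h₂₁ := f'.hom) (h₂₂ := g'.hom)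
      hcX.flip (congrArg (fun m => m.hom) w).symm hcY.flip).flip
  constructor
  · -- finiteness of `f` implies finiteness of `f'`
    intro hf Z' hZ'a gZ'
    obtain ⟨n, hn⟩ := hB
    have hY : IsNThickMor n iY.hom :=
      Groth.Agent.Lib.helper5.ThkAff.isNThickMor_of_isPullback_any hn B'.property hcY.flip
    obtain ⟨Z, jZ, gZ, sqZ⟩ := hY.1.rep gZ'
    have hjZt : thick jZ.left := hY.1.2 gZ' _ jZ sqZ
    haveI := hZ'a
    haveI hjZci : IsClosedImmersion jZ.left := hjZt.1
    haveI hjZs : Surjective jZ.left := hjZt.2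
    haveI hZa : IsAffine Z.left := isAffine_of_isAffineHom jZ.left
    have hjZp : powZero n jZ.left :=
      Groth.Agent.Lib.helper5.ThkAff.powZero_of_isPullback_of_isNThickMor hY Y'.property gZ' gZ jZ
        hZ'a sqZ
    have hjZn : IsNThickMor n ((yon S).map jZ) :=
      Groth.Agent.Lib.helper5.ThkAff.isNThickMor_of_isPullback_any hY Y'.property sqZ
    obtain ⟨W, i, fst, sqW, hWa, hifin⟩ := hf hZa gZ
    -- the fibre product upstairs
    have sqP : IsPullback (pullback.fst f'.hom gZ') (pullback.snd f'.hom gZ') f'.hom gZ' :=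
      IsPullback.of_hasPullback _ _
    have hP : IsAlgSpace (pullback f'.hom gZ') :=
      Groth.Agent.Lib.helper5.isAlgSpace_of_isPullback Y'.property.diag X'.property
        (IsAlgSpace.yon_obj Z') sqP
    have hbig : IsPullback (fst ≫ iX.hom) ((yon S).map i) f'.hom ((yon S).map jZ ≫ gZ') := by
      have := sqW.paste_horiz sqXY
      rw [sqZ.w] at this
      exact this
    have hcomm : (fst ≫ iX.hom) ≫ f'.hom = ((yon S).map i ≫ (yon S).map jZ) ≫ gZ' := by
      rw [hbig.w, Category.assoc]
    have sqT : IsPullback (sqP.lift _ _ hcomm) ((yon S).map i) (pullback.snd f'.hom gZ')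
        ((yon S).map jZ) := by
      refine IsPullback.of_right ?_ (sqP.lift_snd _ _ hcomm) sqP
      rw [sqP.lift_fst]
      exact hbig
    have ht : IsNThickMor n (sqP.lift _ _ hcomm) :=
      Groth.Agent.Lib.helper5.ThkAff.isNThickMor_of_isPullback_any hjZn (IsAlgSpace.yon_obj Z')
        sqT.flip
    haveI := hWa
    obtain ⟨W', e, hW'a⟩ :=
      Groth.Agent.Lib.helper5.ThkAff.exists_affine_iso_of_isNThickMor hP (sqP.lift _ _ hcomm) n ht
    obtain ⟨i', hi'⟩ := (yon S).map_surjective (e.hom ≫ pullback.snd f'.hom gZ')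
    obtain ⟨tW, htW⟩ := (yon S).map_surjective (sqP.lift _ _ hcomm ≫ e.inv)
    have sqF : IsPullback (e.hom ≫ pullback.fst f'.hom gZ') ((yon S).map i') f'.hom gZ' := by
      rw [hi']
      exact IsPullback.of_iso sqP e.symm (Iso.refl _) (Iso.refl _) (Iso.refl _)
        (by simp) (by simp) (by simp) (by simp)
    have sqS : IsPullback ((yon S).map tW) ((yon S).map i) ((yon S).map i') ((yon S).map jZ) := by
      rw [hi', htW]
      exact IsPullback.of_iso sqT (Iso.refl _) e.symm (Iso.refl _) (Iso.refl _)
        (by simp) (by simp) (by simp) (by simp)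
    have sqS' : IsPullback tW.left i.left i'.left jZ.left :=
      (Groth.Agent.Lib.helper5.AffDesc.isPullback_of_yon sqS).map (Over.forget S)
    haveI := hifin
    refine ⟨W', i', e.hom ≫ pullback.fst f'.hom gZ', sqF, hW'a, ?_⟩
    exact Groth.Agent.Lib.Helper18.NilBase.isFinite_of_thickening_base'
      (Groth.Agent.Lib.helper5.ThkAff.isNilpotent_ideal_of_powZero jZ.left n hjZp) sqS'
  · -- finiteness is stable under base change
    intro hf' Z hZa gZ
    obtain ⟨W, i, fst', sqW', hWa, hifin⟩ := hf' hZa (gZ ≫ iY.hom)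
    have hcomm : fst' ≫ f'.hom = ((yon S).map i ≫ gZ) ≫ iY.hom := by
      rw [sqW'.w, Category.assoc]
    refine ⟨W, i, sqXY.lift fst' ((yon S).map i ≫ gZ) hcomm, ?_, hWa, hifin⟩
    refine IsPullback.of_right ?_ (sqXY.lift_snd _ _ hcomm) sqXY
    rw [sqXY.lift_fst]
    exact sqW'

end Groth.Agent.S10610
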