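import Groth.Statements.S10597
import Groth.Agent.Lib.Helper5.ThkDeform
import Groth.Agent.S10596
import Groth.Agent.S10610
import Groth.Agent.S10294

set_option autoImplicit false
universe u
open CategoryTheory CategoryTheory.Limits AlgebraicGeometry
open AlgSp

namespace Groth.Agent.S10597

/-- The isomorphism part, for arbitrary data (used twice: for `f` and for its diagonal). -/
theorem iso_iff {S : Scheme.{u}} {X X' Y Y' B B' : AlgSp.Space S} (iX : X ⟶ X') (iY : Y ⟶ Y') (iB : B ⟶ B')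
    (f : X ⟶ Y) (f' : X' ⟶ Y') (g : Y ⟶ B) (g' : Y' ⟶ B')
    (hcX : IsPullback iX.hom (f ≫ g).hom (f' ≫ g').hom iB.hom) (hcY : IsPullback iY.hom g.hom g'.hom iB.hom)
    (w : iX ≫ f' = f ≫ iY)
    (hB : AlgSp.IsFinThickMor iB.hom) (hflat : AlgSp.LocP @Flat (f' ≫ g').hom) :
    IsIso f.hom ↔ IsIso f'.hom := by
  have hw : iX.hom ≫ f'.hom = f.hom ≫ iY.hom := congr($(w).hom)
  have hcXY : IsPullback iX.hom f.hom f'.hom iY.hom := IsPullback.of_bot hcX hw hcY
  obtain ⟨n, hn⟩ := hB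
  have hYthick : AlgSp.IsThickMor iY.hom :=
    (AlgSp.RepWith (S := S) AlgSp.thick).of_isPullback hcY.flip hn.1
  have hXthick : AlgSp.IsThickMor iX.hom :=
    (AlgSp.RepWith (S := S) AlgSp.thick).of_isPullback hcXY.flip hYthick
  have h96 := Groth.Agent.S10596.result iX iY iB f f' g g' hcX hcY w ⟨n, hn⟩ hflat 0
  constructor
  · exact Groth.Agent.Lib.helper5.ThkDeform.isIso_of_thick iX iY f f' hXthick hYthick w
      h96.2.2.2.2.2.2.2.1
  · intro h
    haveI := h
    exact IsPullback.isIso_fst_of_isIso hcXY.flip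

/-- Let iB : B ⟶ B' be a finite order thickening of algebraic spaces over S (a thickening such that for
one n the (n+1)-st power of the ideal vanishes on every affine etale scheme chart), f' : X' ⟶ Y' a
morphism of algebraic spaces over B' (via g' : Y' ⟶ B') with X' flat over B', and f : X ⟶ Y, g : Y ⟶
B its base change to B (both squares to iB cartesian, iX ≫ f' = f ≫ iY). Then f is an isomorphism,
resp. an open immersion, resp. a monomorphism, resp. finite locally free, resp. finite locally free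
of degree d, if and only if f' is. -/
theorem result {S : Scheme.{u}} {X X' Y Y' B B' : AlgSp.Space S} (iX : X ⟶ X') (iY : Y ⟶ Y') (iB : B ⟶ B')
    (f : X ⟶ Y) (f' : X' ⟶ Y') (g : Y ⟶ B) (g' : Y' ⟶ B')
    (hcX : IsPullback iX.hom (f ≫ g).hom (f' ≫ g').hom iB.hom) (hcY : IsPullback iY.hom g.hom g'.hom iB.hom)
    (w : iX ≫ f' = f ≫ iY)
    (hB : AlgSp.IsFinThickMor iB.hom) (hflat : AlgSp.LocP @Flat (f' ≫ g').hom) :
    (IsIso f.hom ↔ IsIso f'.hom) ∧
    (AlgSp.RepWith @IsOpenImmersion f.hom ↔ AlgSp.RepWith @IsOpenImmersion f'.hom) ∧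
    (Mono f.hom ↔ Mono f'.hom) ∧
    (AlgSp.IsFinLocFreeMor f.hom ↔ AlgSp.IsFinLocFreeMor f'.hom) ∧
    (∀ d : ℕ, AlgSp.IsFinLocFreeOfDegMor d f.hom ↔ AlgSp.IsFinLocFreeOfDegMor d f'.hom) := by
  have hw : iX.hom ≫ f'.hom = f.hom ≫ iY.hom := congr($(w).hom)
  have hcXY : IsPullback iX.hom f.hom f'.hom iY.hom := IsPullback.of_bot hcX hw hcY
  obtain ⟨n, hn⟩ := hB
  have hYthick : AlgSp.IsThickMor iY.hom :=
    (AlgSp.RepWith (S := S) AlgSp.thick).of_isPullback hcY.flip hn.1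
  have hXthick : AlgSp.IsThickMor iX.hom :=
    (AlgSp.RepWith (S := S) AlgSp.thick).of_isPullback hcXY.flip hYthick
  have h96 := Groth.Agent.S10596.result iX iY iB f f' g g' hcX hcY w ⟨n, hn⟩ hflat 0
  have het := h96.2.2.2.2.2.2.2
  have hfin := Groth.Agent.S10610.result iX iY iB f f' g g' hcX hcY w ⟨n, hn⟩ hflat
  have hflf : AlgSp.IsFinLocFreeMor f.hom ↔ AlgSp.IsFinLocFreeMor f'.hom :=
    ((Groth.Agent.S10294.result f).1).trans
      ((and_congr hfin (and_congr h96.2.1 h96.2.2.2.2.1)).trans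
        ((Groth.Agent.S10294.result f').1).symm)
  refine ⟨iso_iff iX iY iB f f' g g' hcX hcY w ⟨n, hn⟩ hflat,
    ⟨fun h => Groth.Agent.Lib.helper5.ThkDeform.repWith_oi_of_thick iX iY f f' hXthick hYthick w
      het.1 h, fun h => (AlgSp.RepWith (S := S) @IsOpenImmersion).of_isPullback hcXY h⟩, ?_, hflf,
    fun d => ⟨fun h => Groth.Agent.Lib.helper5.ThkDeform.finLocFreeOfDeg_of_thick iX iY f f' hYthick
      hcXY d h (hflf.1 (Groth.Agent.Lib.helper18.repWith_mono (fun _ _ _ hk => hk.1) h)),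
      fun h => (AlgSp.RepWith (S := S) (AlgSp.finLocFreeOfDeg d)).of_isPullback hcXY h⟩⟩
  obtain ⟨D, D', iD, Δ, Δ', gD, gD', h1, h2, h3, h4, hcD, wD, -⟩ :=
    Groth.Agent.Lib.helper5.ThkDeform.exists_diag_data iX iY iB f f' g g' hcX hcY w
  have hΔ := iso_iff iX iD iB Δ Δ' gD gD' (by rw [h3, h4]; exact hcX) hcD wD ⟨n, hn⟩
    (by rw [h4]; exact hflat)
  exact h1.symm.trans (hΔ.trans h2)

end Groth.Agent.S10597
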