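import Groth.Statements.S10599
import Groth.Agent.S10593
import Groth.Agent.S10598
import Groth.Agent.S10266
import Groth.Agent.Lib.Helper5.ThickFlatScheme2
import Groth.Agent.Lib.Helper5.AlgSpThickTower
import Groth.Agent.Lib.Helper5.AlgSpThickRelDim

set_option autoImplicit false
universe u
open CategoryTheory CategoryTheory.Limits AlgebraicGeometry
open AlgSp

namespace Groth.Agent.S10599

/-- Let iB : B ⟶ B' be a thickening of algebraic spaces over S (representable, every base change to a
scheme a surjective closed immersion), f' : X' ⟶ Y' a morphism of algebraic spaces over B' (via g' :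
Y' ⟶ B') with Y' locally of finite type over B' and X' flat and locally of finite presentation over
B', and f : X ⟶ Y, g : Y ⟶ B its base change to B (both squares to iB cartesian, iX ≫ f' = f ≫ iY).
Then f is locally of finite type of relative dimension d, resp. flat, resp. locally quasi-finite,
smooth, unramified, etale, if and only if f' is (etale-local sense; locally quasi-finite and
unramified include locally of finite type). -/
theorem result {S : Scheme.{u}} {X X' Y Y' B B' : AlgSp.Space S} (iX : X ⟶ X') (iY : Y ⟶ Y') (iB : B ⟶ B')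
    (f : X ⟶ Y) (f' : X' ⟶ Y') (g : Y ⟶ B) (g' : Y' ⟶ B')
    (hcX : IsPullback iX.hom (f ≫ g).hom (f' ≫ g').hom iB.hom) (hcY : IsPullback iY.hom g.hom g'.hom iB.hom)
    (w : iX ≫ f' = f ≫ iY)
    (hB : AlgSp.IsThickMor iB.hom)
    (hg' : AlgSp.LocP @LocallyOfFiniteType g'.hom)
    (hflat : AlgSp.LocP @Flat (f' ≫ g').hom) (hfp : AlgSp.LocP @LocallyOfFinitePresentation (f' ≫ g').hom) (d : ℕ) :
    ((AlgSp.LocP @LocallyOfFiniteType f.hom ∧
        ∀ x, AlgSp.HasAtMor (fun _ _ h u => FlatMor.fibreDimAt h u = (d : WithBot ℕ∞)) f.hom x) ↔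
      (AlgSp.LocP @LocallyOfFiniteType f'.hom ∧
        ∀ x', AlgSp.HasAtMor (fun _ _ h u => FlatMor.fibreDimAt h u = (d : WithBot ℕ∞)) f'.hom x')) ∧
    (AlgSp.LocP @Flat f.hom ↔ AlgSp.LocP @Flat f'.hom) ∧
    (AlgSp.LocP (@LocallyQuasiFinite ⊓ @LocallyOfFiniteType) f.hom ↔
      AlgSp.LocP (@LocallyQuasiFinite ⊓ @LocallyOfFiniteType) f'.hom) ∧
    (AlgSp.LocP @Smooth f.hom ↔ AlgSp.LocP @Smooth f'.hom) ∧
    (AlgSp.LocP (@LocallyOfFiniteType ⊓ @FormallyUnramified) f.hom ↔
      AlgSp.LocP (@LocallyOfFiniteType ⊓ @FormallyUnramified) f'.hom) ∧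
    (AlgSp.IsEtaleMor f.hom ↔ AlgSp.IsEtaleMor f'.hom) := by
  open Groth.Agent.Lib.helper5 in
  have hBthick := hB
  have hw : iX.hom ≫ f'.hom = f.hom ≫ iY.hom := congr($(w).hom)
  have hcXY : IsPullback iX.hom f.hom f'.hom iY.hom := IsPullback.of_bot hcX hw hcY
  have hYthick : AlgSp.IsThickMor iY.hom :=
    (AlgSp.RepWith (S := S) AlgSp.thick).of_isPullback hcY.flip hBthick
  have hXthick : AlgSp.IsThickMor iX.hom :=
    (AlgSp.RepWith (S := S) AlgSp.thick).of_isPullback hcXY.flip hYthick
  -- base change direction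
  have down : ∀ {P : MorphismProperty Scheme.{u}}, LocPBC.LocPData P → AlgSp.LocP P f'.hom →
      AlgSp.LocP P f.hom := fun hP h => LocPBC.locP_of_isPullback hP X'.2 Y'.2 Y.2 hcXY h
  -- lifting direction
  have up : ∀ {P : MorphismProperty Scheme.{u}}, LocPBC.LocPData P → IsZariskiLocalAtSource P →
      (∀ T : ThickTower.Tower iX.hom iY.hom iB.hom f.hom f'.hom g.hom g'.hom,
        P T.h₀.left → P T.h1.left) → AlgSp.LocP P f.hom → AlgSp.LocP P f'.hom :=
    fun hP _ hstep h => ThickTower.locP_of_thickTower hP X'.2 Y'.2 B'.2 hBthick hcXY hcY hstep h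
  have hflT : ∀ T : ThickTower.Tower iX.hom iY.hom iB.hom f.hom f'.hom g.hom g'.hom,
      Flat (T.h1.left ≫ T.h2.left) := fun T => hflat T.a T.c (T.h1 ≫ T.h2) T.hae T.hce T.hc12
  have hfpT : ∀ T : ThickTower.Tower iX.hom iY.hom iB.hom f.hom f'.hom g.hom g'.hom,
      LocallyOfFinitePresentation (T.h1.left ≫ T.h2.left) :=
    fun T => hfp T.a T.c (T.h1 ≫ T.h2) T.hae T.hce T.hc12
  have hftT : ∀ T : ThickTower.Tower iX.hom iY.hom iB.hom f.hom f'.hom g.hom g'.hom,
      LocallyOfFiniteType T.h2.left := fun T => hg' T.b T.c T.h2 T.hbe T.hce T.hc2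
  have hfp1T : ∀ T : ThickTower.Tower iX.hom iY.hom iB.hom f.hom f'.hom g.hom g'.hom,
      LocallyOfFinitePresentation T.h1.left := by
    intro T
    have := hfpT T
    have := hftT T
    exact ThickFlat.lfp_of_comp T.h1.left T.h2.left
  -- locally of finite type
  have hlft : AlgSp.LocP @LocallyOfFiniteType f.hom ↔ AlgSp.LocP @LocallyOfFiniteType f'.hom := by
    refine ⟨up LocPBC.locPData_lft inferInstance (fun T _ => ?_), down LocPBC.locPData_lft⟩
    have := hfp1T T
    infer_instance
  have h93 := fun hft hft' => Groth.Agent.S10593.result iX iY f f' hXthick hYthick w hcXY hft hft'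
  refine ⟨?_, ?_, ?_, ?_, ?_, ?_⟩
  · -- relative dimension
    have hdim := ThickRelDim.hasAtMor_fibreDim_iff_of_thick X'.2 Y'.2 hXthick hYthick hcXY
      (d : WithBot ℕ∞)
    exact ⟨fun h => ⟨hlft.1 h.1, hdim.1 h.2⟩, fun h => ⟨hlft.2 h.1, hdim.2 h.2⟩⟩
  · -- flat
    exact ⟨fun hf => (Groth.Agent.S10598.result iX iY iB f f' g g' hcX hcY w hB hg' hflat hfp hf).1,
      down LocPBC.locPData_flat⟩
  · -- locally quasi-finite
    refine ⟨fun h => ?_, down LocPBC.locPData_lqf⟩
    have hft : AlgSp.LocP @LocallyOfFiniteType f.hom := fun U V a b k ha hb hc => (h a b k ha hb hc).2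
    exact (h93 hft (hlft.1 hft)).1.1 h
  · -- smooth
    refine ⟨up LocPBC.locPData_smooth inferInstance (fun T h0 => ?_), down LocPBC.locPData_smooth⟩
    have := T.surjective_lam
    have := hfpT T
    have := hftT T
    exact ThickFlat.smooth_of_surjective_base T.h1.left T.h2.left T.lam.left T.κ.left T.ι.left
      T.h₀.left T.k₀.left T.pbV_left T.pbU_left (hflT T) h0
  · -- unramified
    refine ⟨fun h => ?_, down LocPBC.locPData_unramified⟩
    have hft : AlgSp.LocP @LocallyOfFiniteType f.hom := fun U V a b k ha hb hc => (h a b k ha hb hc).1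
    exact (h93 hft (hlft.1 hft)).2.1 h
  · -- etale
    have hup : AlgSp.LocP @Etale f.hom → AlgSp.LocP @Etale f'.hom := by
      refine up LocPBC.locPData_etale inferInstance (fun T h0 => ?_)
      have := T.surjective_lam
      have := hfpT T
      have := hftT T
      exact ThickFlat.etale_of_surjective_base T.h1.left T.h2.left T.lam.left T.κ.left T.ι.left
        T.h₀.left T.k₀.left T.pbV_left T.pbU_left (hflT T) h0
    exact ⟨fun h => Groth.Agent.S10266.isEtaleMor_of_locP_etale Y'.2 f'.hom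
        (hup (Groth.Agent.S10265.locP_etale_of_isEtaleMor f.hom h)),
      fun h => Groth.Agent.S10266.isEtaleMor_of_locP_etale Y.2 f.hom
        (down LocPBC.locPData_etale (Groth.Agent.S10265.locP_etale_of_isEtaleMor f'.hom h))⟩

end Groth.Agent.S10599
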