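import Groth.Statements.S10600
import Groth.Agent.Lib.Helper5.ThkDeform
import Groth.Agent.Lib.Helper5.ThickFlatScheme2
import Groth.Agent.Lib.Helper5.AlgSpLocPInst
import Groth.Agent.Lib.Helper1.LocPStable
import Groth.Agent.Lib.Helper2.AlgSpCancel
import Groth.Agent.S10599
import Groth.Agent.S10611
import Groth.Agent.S10294
import Groth.Agent.S9952

set_option autoImplicit false
universe u
open CategoryTheory CategoryTheory.Limits AlgebraicGeometry
open AlgSp

namespace Groth.Agent.S10600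

/-- The isomorphism part, for arbitrary data (used twice: for `f` and for its diagonal). -/
theorem iso_iff {S : Scheme.{u}} {X X' Y Y' B B' : AlgSp.Space S} (iX : X ⟶ X') (iY : Y ⟶ Y') (iB : B ⟶ B')
    (f : X ⟶ Y) (f' : X' ⟶ Y') (g : Y ⟶ B) (g' : Y' ⟶ B')
    (hcX : IsPullback iX.hom (f ≫ g).hom (f' ≫ g').hom iB.hom) (hcY : IsPullback iY.hom g.hom g'.hom iB.hom)
    (w : iX ≫ f' = f ≫ iY)
    (hB : AlgSp.IsThickMor iB.hom)
    (hg' : AlgSp.LocP @LocallyOfFiniteType g'.hom)
    (hflat : AlgSp.LocP @Flat (f' ≫ g').hom) (hfp : AlgSp.LocP @LocallyOfFinitePresentation (f' ≫ g').hom) :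
    IsIso f.hom ↔ IsIso f'.hom := by
  have hw : iX.hom ≫ f'.hom = f.hom ≫ iY.hom := congr($(w).hom)
  have hcXY : IsPullback iX.hom f.hom f'.hom iY.hom := IsPullback.of_bot hcX hw hcY
  have hYthick : AlgSp.IsThickMor iY.hom :=
    (AlgSp.RepWith (S := S) AlgSp.thick).of_isPullback hcY.flip hB
  have hXthick : AlgSp.IsThickMor iX.hom :=
    (AlgSp.RepWith (S := S) AlgSp.thick).of_isPullback hcXY.flip hYthick
  have h99 := Groth.Agent.S10599.result iX iY iB f f' g g' hcX hcY w hB hg' hflat hfp 0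
  constructor
  · exact Groth.Agent.Lib.helper5.ThkDeform.isIso_of_thick iX iY f f' hXthick hYthick w
      h99.2.2.2.2.2.1
  · intro h
    haveI := h
    exact IsPullback.isIso_fst_of_isIso hcXY.flip

/-- Let iB : B ⟶ B' be a thickening of algebraic spaces over S (representable, every base change to a
scheme a surjective closed immersion), f' : X' ⟶ Y' a morphism of algebraic spaces over B' (via g' :
Y' ⟶ B') with Y' locally of finite type over B' and X' flat and locally of finite presentation over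
B', and f : X ⟶ Y, g : Y ⟶ B its base change to B (both squares to iB cartesian, iX ≫ f' = f ≫ iY).
Then f is an isomorphism, resp. an open immersion, resp. a monomorphism, resp. finite locally free,
resp. finite locally free of degree d, if and only if f' is. -/
theorem result {S : Scheme.{u}} {X X' Y Y' B B' : AlgSp.Space S} (iX : X ⟶ X') (iY : Y ⟶ Y') (iB : B ⟶ B')
    (f : X ⟶ Y) (f' : X' ⟶ Y') (g : Y ⟶ B) (g' : Y' ⟶ B')
    (hcX : IsPullback iX.hom (f ≫ g).hom (f' ≫ g').hom iB.hom) (hcY : IsPullback iY.hom g.hom g'.hom iB.hom)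
    (w : iX ≫ f' = f ≫ iY)
    (hB : AlgSp.IsThickMor iB.hom)
    (hg' : AlgSp.LocP @LocallyOfFiniteType g'.hom)
    (hflat : AlgSp.LocP @Flat (f' ≫ g').hom) (hfp : AlgSp.LocP @LocallyOfFinitePresentation (f' ≫ g').hom) :
    (IsIso f.hom ↔ IsIso f'.hom) ∧
    (AlgSp.RepWith @IsOpenImmersion f.hom ↔ AlgSp.RepWith @IsOpenImmersion f'.hom) ∧
    (Mono f.hom ↔ Mono f'.hom) ∧
    (AlgSp.IsFinLocFreeMor f.hom ↔ AlgSp.IsFinLocFreeMor f'.hom) ∧
    (∀ d : ℕ, AlgSp.IsFinLocFreeOfDegMor d f.hom ↔ AlgSp.IsFinLocFreeOfDegMor d f'.hom) := by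
  have hw : iX.hom ≫ f'.hom = f.hom ≫ iY.hom := congr($(w).hom)
  have hcXY : IsPullback iX.hom f.hom f'.hom iY.hom := IsPullback.of_bot hcX hw hcY
  have hYthick : AlgSp.IsThickMor iY.hom :=
    (AlgSp.RepWith (S := S) AlgSp.thick).of_isPullback hcY.flip hB
  have hXthick : AlgSp.IsThickMor iX.hom :=
    (AlgSp.RepWith (S := S) AlgSp.thick).of_isPullback hcXY.flip hYthick
  have h99 := Groth.Agent.S10599.result iX iY iB f f' g g' hcX hcY w hB hg' hflat hfp 0
  have het := h99.2.2.2.2.2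
  have hlft_comp : AlgSp.LocP @LocallyOfFiniteType (f' ≫ g').hom := fun U V a b k ha hb hc => by
    have : LocallyOfFinitePresentation k.left := hfp a b k ha hb hc
    infer_instance
  have hft' : AlgSp.LocP @LocallyOfFiniteType f'.hom := Groth.Agent.S9952.result f' g' hlft_comp
  have hlfp' : AlgSp.LocP @LocallyOfFinitePresentation f'.hom :=
    Groth.Agent.Lib.helper2.AlgSpCancel.locP_of_comp @LocallyOfFinitePresentation
      @LocallyOfFiniteType (fun A B C u v hv huv => by
        haveI : LocallyOfFiniteType v := hv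
        haveI : LocallyOfFinitePresentation (u ≫ v) := huv
        exact Groth.Agent.Lib.helper5.ThickFlat.lfp_of_comp u v) f' g' hg' hfp
  have hlfp : AlgSp.LocP @LocallyOfFinitePresentation f.hom :=
    Groth.Agent.Lib.helper5.LocPBC.locP_of_isPullback Groth.Agent.Lib.helper5.LocPBC.locPData_lfp
      X'.2 Y'.2 Y.2 hcXY hlfp'
  have h611 := Groth.Agent.S10611.result iX iY iB f f' g g' hcX hcY w hB hg' hflat hfp
  have hflf : AlgSp.IsFinLocFreeMor f.hom ↔ AlgSp.IsFinLocFreeMor f'.hom :=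
    ((Groth.Agent.S10294.result f).1).trans
      ((and_congr h611.2 (and_congr h99.2.1 (iff_of_true hlfp hlfp'))).trans
        ((Groth.Agent.S10294.result f').1).symm)
  refine ⟨iso_iff iX iY iB f f' g g' hcX hcY w hB hg' hflat hfp,
    ⟨fun h => Groth.Agent.Lib.helper5.ThkDeform.repWith_oi_of_thick iX iY f f' hXthick hYthick w
      het.1 h, fun h => (AlgSp.RepWith (S := S) @IsOpenImmersion).of_isPullback hcXY h⟩, ?_, hflf,
    fun d => ⟨fun h => Groth.Agent.Lib.helper5.ThkDeform.finLocFreeOfDeg_of_thick iX iY f f' hYthick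
      hcXY d h (hflf.1 (Groth.Agent.Lib.helper18.repWith_mono (fun _ _ _ hk => hk.1) h)),
      fun h => (AlgSp.RepWith (S := S) (AlgSp.finLocFreeOfDeg d)).of_isPullback hcXY h⟩⟩
  obtain ⟨D, D', iD, Δ, Δ', gD, gD', h1, h2, h3, h4, hcD, wD, pr, pr2, hpr, sqpr⟩ :=
    Groth.Agent.Lib.helper5.ThkDeform.exists_diag_data iX iY iB f f' g g' hcX hcY w
  have hprlft : AlgSp.LocP @LocallyOfFiniteType pr.hom :=
    Groth.Agent.Lib.helper5.LocPBC.locP_of_isPullback Groth.Agent.Lib.helper5.LocPBC.locPData_lft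
      X'.2 Y'.2 X'.2 sqpr hft'
  have hgD' : AlgSp.LocP @LocallyOfFiniteType gD'.hom := by
    rw [hpr]
    exact Groth.Agent.H1.LocPStable.locP_comp
      (fun f g => Groth.Agent.Lib.helper5.LocPBC.locPData_lft.descend f g) X'.2 pr.hom
      (f' ≫ g').hom hprlft hlft_comp
  have hΔ := iso_iff iX iD iB Δ Δ' gD gD' (by rw [h3, h4]; exact hcX) hcD wD hB hgD'
    (by rw [h4]; exact hflat) (by rw [h4]; exact hfp)
  exact h1.symm.trans (hΔ.trans h2)

end Groth.Agent.S10600
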