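import Groth.Statements.S10604
import Groth.Agent.Lib.Helper5.FibFlatScheme
import Groth.Agent.Lib.Helper5.AlgSpLocPBC
import Groth.Agent.Lib.Helper5.AlgSpLocPInst2
import Groth.Agent.Lib.Helper17.ChartTower
import Groth.Agent.Lib.Helper17.LocPAtChart
import Groth.Agent.Lib.Helper17.GorAtEtale
import Groth.Agent.Lib.Helper1.LocNoeth

set_option autoImplicit false
universe u
open CategoryTheory CategoryTheory.Limits AlgebraicGeometry
open AlgSp

namespace Groth.Agent.S10604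

/-- Points of an abstract pullback square of schemes. -/
theorem exists_point_of_isPullback {P X Y Z : Scheme.{u}} {fst : P ⟶ X} {snd : P ⟶ Y} {f : X ⟶ Z}
    {g : Y ⟶ Z} (sq : IsPullback fst snd f g) (x : X) (y : Y) (hxy : f x = g y) :
    ∃ p : P, fst p = x ∧ snd p = y := by
  obtain ⟨q, hq1, hq2⟩ := Scheme.Pullback.exists_preimage_pullback x y hxy
  refine ⟨sq.isoPullback.inv q, ?_, ?_⟩
  · rw [← Scheme.Hom.comp_apply, sq.isoPullback_inv_fst, hq1]
  · rw [← Scheme.Hom.comp_apply, sq.isoPullback_inv_snd, hq2]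

open Groth.Agent.Lib.helper5 in
/-- Through every point of `X` there is a tower of étale charts on which `f` is flat at the point and `h` is flat at
its image. -/
theorem exists_flat_tower {S : Scheme.{u}} {X Y Z : AlgSp.Space S} (f : X ⟶ Y) (h : Y ⟶ Z)
    (hX : AlgSp.IsLocNoethSp X.obj) (hYn : AlgSp.IsLocNoethSp Y.obj) (hZ : AlgSp.IsLocNoethSp Z.obj)
    (hfl : AlgSp.LocP @Flat (f ≫ h).hom)
    (hfib : ∀ (K : Type u) [Field K] (sK : Spec (CommRingCat.of K) ⟶ S)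
      (z : (AlgSp.yon S).obj (Over.mk sK) ⟶ Z.obj) (Xz Yz : AlgSp.Sp S)
      (pX : Xz ⟶ X.obj) (qX : Xz ⟶ (AlgSp.yon S).obj (Over.mk sK))
      (pY : Yz ⟶ Y.obj) (qY : Yz ⟶ (AlgSp.yon S).obj (Over.mk sK)) (fz : Xz ⟶ Yz),
      IsPullback pX qX (f ≫ h).hom z → IsPullback pY qY h.hom z → fz ≫ pY = pX ≫ f.hom → fz ≫ qY = qX →
      AlgSp.LocP @Flat fz) (x : AlgSp.Points X.obj) :
    ∃ (U V W : Over S) (a : (AlgSp.yon S).obj U ⟶ X.obj) (b : (AlgSp.yon S).obj V ⟶ Y.obj)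
      (c : (AlgSp.yon S).obj W ⟶ Z.obj) (h1 : U ⟶ V) (h2 : V ⟶ W) (u : ↥U.left),
      AlgSp.RepWith @Etale a ∧ AlgSp.RepWith @Etale b ∧ AlgSp.RepWith @Etale c ∧
      a ≫ f.hom = (AlgSp.yon S).map h1 ≫ b ∧ b ≫ h.hom = (AlgSp.yon S).map h2 ≫ c ∧
      AlgSp.Points.ofPt a u = x ∧ (h1.left.stalkMap u).hom.Flat ∧
      (h2.left.stalkMap (h1.left u)).hom.Flat := by
  obtain ⟨U, V, W, a, b, c, h1, h2, u, hae, hbe, hce, hc1, hc2, hu, -⟩ :=
    Groth.Agent.Lib.helper17.ChartTower.exists_tower X.2 Y.2 Z.2 f.hom h.hom x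
  have hUN : IsLocallyNoetherian U.left := Groth.Agent.H1.LocNoeth.isLocallyNoetherian_of_chart hX a hae
  have hVN : IsLocallyNoetherian V.left := Groth.Agent.H1.LocNoeth.isLocallyNoetherian_of_chart hYn b hbe
  have hWN : IsLocallyNoetherian W.left := Groth.Agent.H1.LocNoeth.isLocallyNoetherian_of_chart hZ c hce
  -- the residue field point
  set w : ↥W.left := h2.left (h1.left u) with hw
  let Kw : Over S := Over.mk (W.left.fromSpecResidueField w ≫ W.hom)
  let ρ : Kw ⟶ W := Over.homMk (W.left.fromSpecResidueField w) rfl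
  let z : (AlgSp.yon S).obj Kw ⟶ Z.obj := (AlgSp.yon S).map ρ ≫ c
  -- the fibres
  have sqX : IsPullback (pullback.fst (f ≫ h).hom z) (pullback.snd (f ≫ h).hom z) (f ≫ h).hom z :=
    IsPullback.of_hasPullback _ _
  have sqY : IsPullback (pullback.fst h.hom z) (pullback.snd h.hom z) h.hom z :=
    IsPullback.of_hasPullback _ _
  have hcond : (pullback.fst (f ≫ h).hom z ≫ f.hom) ≫ h.hom = pullback.snd (f ≫ h).hom z ≫ z := by
    rw [Category.assoc]
    exact sqX.w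
  let fz : pullback (f ≫ h).hom z ⟶ pullback h.hom z := pullback.lift _ _ hcond
  have hfz1 : fz ≫ pullback.fst h.hom z = pullback.fst (f ≫ h).hom z ≫ f.hom := pullback.lift_fst _ _ _
  have hfz2 : fz ≫ pullback.snd h.hom z = pullback.snd (f ≫ h).hom z := pullback.lift_snd _ _ _
  have hflz : AlgSp.LocP @Flat fz :=
    hfib (W.left.residueField w) (W.left.fromSpecResidueField w ≫ W.hom) z _ _ _ _ _ _ fz sqX sqY
      hfz1 hfz2
  have sqXY : IsPullback (pullback.fst (f ≫ h).hom z) fz f.hom (pullback.fst h.hom z) := by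
    refine IsPullback.of_bot ?_ hfz1.symm sqY
    rw [hfz2]
    exact sqX
  have hXz : AlgSp.IsAlgSpace (pullback (f ≫ h).hom z) :=
    isAlgSpace_of_isPullback Z.2.diag X.2 (AlgSp.IsAlgSpace.yon_obj Kw) sqX
  have hYz : AlgSp.IsAlgSpace (pullback h.hom z) :=
    isAlgSpace_of_isPullback Z.2.diag Y.2 (AlgSp.IsAlgSpace.yon_obj Kw) sqY
  -- the scheme fibres
  let ιV : pullback h2 ρ ⟶ V := pullback.fst h2 ρ
  let pV : pullback h2 ρ ⟶ Kw := pullback.snd h2 ρ
  let ιU : pullback h1 ιV ⟶ U := pullback.fst h1 ιV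
  let hw' : pullback h1 ιV ⟶ pullback h2 ρ := pullback.snd h1 ιV
  have hτ : ((AlgSp.yon S).map ιV ≫ b) ≫ h.hom = (AlgSp.yon S).map pV ≫ z := by
    rw [Category.assoc, hc2, ← Category.assoc, ← Functor.map_comp]
    have : ιV ≫ h2 = pV ≫ ρ := pullback.condition
    rw [this, Functor.map_comp, Category.assoc]
  let τ : (AlgSp.yon S).obj (pullback h2 ρ) ⟶ pullback h.hom z := pullback.lift _ _ hτ
  have hτ1 : τ ≫ pullback.fst h.hom z = (AlgSp.yon S).map ιV ≫ b := pullback.lift_fst _ _ _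
  obtain ⟨aE, wE, hm⟩ := LocPBC.exists_chart_baseChange sqXY a b h1 hc1
    (LocPBC.repWith_etale_lift a b h1 hae hbe hc1) hw' ((AlgSp.yon S).map ιU) ((AlgSp.yon S).map ιV)
    ((IsPullback.of_hasPullback h1 ιV).map (AlgSp.yon S)) τ hτ1
  have hflw : Flat hw'.left :=
    LocPBC.locP_of_chart LocPBC.locPData_flat hXz hYz hflz aE τ hw' wE hm
  -- scheme level squares
  have sqV' : IsPullback ιV.left pV.left h2.left (W.left.fromSpecResidueField w) :=
    (IsPullback.of_hasPullback h2 ρ).map (Over.forget S)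
  have sqU' : IsPullback ιU.left hw'.left h1.left ιV.left :=
    (IsPullback.of_hasPullback h1 ιV).map (Over.forget S)
  have hc12 : a ≫ (f ≫ h).hom = (AlgSp.yon S).map (h1 ≫ h2) ≫ c := by
    change a ≫ f.hom ≫ h.hom = _
    rw [← Category.assoc, hc1, Category.assoc, hc2, Functor.map_comp, Category.assoc]
  have hfl12 : Flat (h1.left ≫ h2.left) := hfl a c (h1 ≫ h2) hae hce hc12
  -- points
  obtain ⟨t⟩ : Nonempty ↥(Spec (W.left.residueField w)) := inferInstance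
  obtain ⟨y₀, hy1, -⟩ := exists_point_of_isPullback sqV' (h1.left u) t (by
    rw [Scheme.fromSpecResidueField_apply])
  obtain ⟨z₀, hz1, -⟩ := exists_point_of_isPullback sqU' u y₀ hy1.symm
  have key := FibFlatScheme.flat_stalkMap_of_flat_fibre h1.left h2.left w ιV.left pV.left sqV'
    ιU.left hw'.left sqU' hfl12 hflw z₀
  rw [hz1] at key
  exact ⟨U, V, W, a, b, c, h1, h2, u, hae, hbe, hce, hc1, hc2, hu, key.1, key.2⟩

/-- Let f : X ⟶ Y and h : Y ⟶ Z be morphisms of algebraic spaces over S with X, Y and Z locally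
Noetherian. Assume X is flat over Z and for every field K and every z : Spec K ⟶ Z the base change
X_z ⟶ Y_z of f is flat (fibres taken as pullback squares of fppf sheaves). Then f is flat; if
moreover f is surjective, then h is flat. -/
theorem result {S : Scheme.{u}} {X Y Z : AlgSp.Space S} (f : X ⟶ Y) (h : Y ⟶ Z)
    (hX : AlgSp.IsLocNoethSp X.obj) (hYn : AlgSp.IsLocNoethSp Y.obj) (hZ : AlgSp.IsLocNoethSp Z.obj)
    (hfl : AlgSp.LocP @Flat (f ≫ h).hom)
    (hfib : ∀ (K : Type u) [Field K] (sK : Spec (CommRingCat.of K) ⟶ S)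
      (z : (AlgSp.yon S).obj (Over.mk sK) ⟶ Z.obj) (Xz Yz : AlgSp.Sp S)
      (pX : Xz ⟶ X.obj) (qX : Xz ⟶ (AlgSp.yon S).obj (Over.mk sK))
      (pY : Yz ⟶ Y.obj) (qY : Yz ⟶ (AlgSp.yon S).obj (Over.mk sK)) (fz : Xz ⟶ Yz),
      IsPullback pX qX (f ≫ h).hom z → IsPullback pY qY h.hom z → fz ≫ pY = pX ≫ f.hom → fz ≫ qY = qX →
      AlgSp.LocP @Flat fz) :
    AlgSp.LocP @Flat f.hom ∧ (AlgSp.IsSurjectiveMor f.hom → AlgSp.LocP @Flat h.hom) := by
  have hS : ∀ {W U V : Scheme.{u}} (g : W ⟶ U) [Etale g] (h : U ⟶ V) (w : ↥W),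
      ((g ≫ h).stalkMap w).hom.Flat ↔ (h.stalkMap (g w)).hom.Flat := fun g _ h w =>
    Groth.Agent.Lib.helper17.GorAtEtale.flat_stalkMap_comp_etale_left g h w
  have hT : ∀ {W T V : Scheme.{u}} (m : W ⟶ T) (k : T ⟶ V) [Etale k] (w : ↥W),
      ((m ≫ k).stalkMap w).hom.Flat ↔ (m.stalkMap w).hom.Flat := fun m k _ w =>
    Groth.Agent.Lib.helper17.GorAtEtale.flat_stalkMap_comp_etale_right m k w
  refine ⟨?_, fun hsurj => ?_⟩
  · intro U' V' a' b' h' ha' hb' hsq
    rw [Flat.iff_flat_stalkMap]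
    intro u'
    obtain ⟨U, V, W, a, b, c, h1, h2, u, hae, hbe, hce, hc1, hc2, hu, r1, r2⟩ :=
      exists_flat_tower f h hX hYn hZ hfl hfib (AlgSp.Points.ofPt a' u')
    exact Groth.Agent.Lib.helper17.LocPAtChart.locPAt_of_chart
      (Q := fun h u => (Scheme.Hom.stalkMap h u).hom.Flat) hS hT f.hom _ a b h1 u hae hbe hc1 hu r1
      a' b' h' u' ha' hb' hsq rfl
  · intro V' W' b' c' k' hb' hc' hsq
    rw [Flat.iff_flat_stalkMap]
    intro v'
    obtain ⟨x, hx⟩ := hsurj (AlgSp.Points.ofPt b' v')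
    obtain ⟨U, V, W, a, b, c, h1, h2, u, hae, hbe, hce, hc1, hc2, hu, r1, r2⟩ :=
      exists_flat_tower f h hX hYn hZ hfl hfib x
    have hpt : AlgSp.Points.ofPt b (h1.left u) = AlgSp.Points.ofPt b' v' := by
      rw [← hx, ← hu, AlgSp.Points.map_ofPt, hc1, Groth.Agent.Lib.helper11.ofPt_yon_map_comp]
    exact Groth.Agent.Lib.helper17.LocPAtChart.locPAt_of_chart
      (Q := fun h u => (Scheme.Hom.stalkMap h u).hom.Flat) hS hT h.hom _ b c h2 (h1.left u) hbe hce hc2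
      hpt r2 b' c' k' v' hb' hc' hsq rfl

end Groth.Agent.S10604
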