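import Groth.Statements.S10606
import Groth.Agent.Lib.Helper5.MonoIsoC
import Groth.Agent.Lib.Helper5.AlgSpInf3

set_option autoImplicit false
universe u
open CategoryTheory CategoryTheory.Limits AlgebraicGeometry
open AlgSp

namespace Groth.Agent.S10606

/-- Let f : X ⟶ Y be a monomorphism of algebraic spaces over S that is quasi-compact, and suppose that
for every T ⟶ Y the map from the structure sheaf of T to the direct image of the structure sheaf of
X ×_Y T is injective. Then f must be an isomorphism. The injectivity is spelled out on sections: for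
every scheme T over S, every T ⟶ Y, every pullback square with corner P = X ×_Y T and every global
function s on T, if the pullback of s along every morphism from a scheme to P vanishes, then s = 0
(this is injectivity on global sections over every scheme etale over every base, which is the
sheaf-level injectivity). -/
theorem result {S : Scheme.{u}} {X Y : AlgSp.Space S} (f : X ⟶ Y)
    (hqc : AlgSp.IsQuasiCompactMor f.hom) [Mono f.hom]
    (hinj : ∀ (T : Over S) (g : (AlgSp.yon S).obj T ⟶ Y.obj) (P : AlgSp.Sp S) (fst : P ⟶ X.obj)
      (snd : P ⟶ (AlgSp.yon S).obj T), IsPullback fst snd f.hom g →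
      ∀ s : Γ(T.left, ⊤),
        (∀ (W : Over S) (a : (AlgSp.yon S).obj W ⟶ P) (c : W ⟶ T),
          a ≫ snd = (AlgSp.yon S).map c → c.left.appTop s = 0) → s = 0) :
    IsIso f.hom := by
  have hX := X.property
  have hY := Y.property
  obtain ⟨UY, pY, hpe, hps⟩ := hY.atlas
  have hepi : Epi pY := Groth.Agent.Lib.helper5.epi_of_etale_surjective pY hpe hps
  have hEpi : Epi f.hom := by
    refine ⟨fun {Z} a b hab => ?_⟩
    rw [← cancel_epi pY]
    let Vk : UY.left.affineOpens → Over S := fun k => Over.mk ((k : UY.left.Opens).ι ≫ UY.hom)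
    let c : ∀ k, Vk k ⟶ UY := fun k => Over.homMk (k : UY.left.Opens).ι rfl
    refine Groth.Agent.Lib.helper5.FpqcSp.eq_of_cover Vk c (fun k => ?_) (fun k => ?_) (fun x => ?_)
      _ _ (fun k => ?_)
    · change Flat (k : UY.left.Opens).ι
      infer_instance
    · change LocallyOfFinitePresentation (k : UY.left.Opens).ι
      infer_instance
    · obtain ⟨_, ⟨U₀, hU₀, rfl⟩, hx, -⟩ :=
        (UY.left.isBasis_affineOpens).exists_subset_of_mem_open (Set.mem_univ x) isOpen_univ
      refine ⟨⟨U₀, hU₀⟩, ?_⟩
      change x ∈ Set.range (Scheme.Opens.ι (X := UY.left) U₀)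
      rw [Scheme.Opens.range_ι]
      exact hx
    · haveI : IsAffine (Vk k).left := k.2
      obtain ⟨ξ, hξ⟩ := Groth.Agent.Lib.helper5.MonoIso.exists_section_of_affine hX hY f.hom hqc hinj
        (Vk k) ((yon S).map (c k) ≫ pY)
      rw [← Category.assoc, ← hξ, Category.assoc, hab, ← Category.assoc, hξ, Category.assoc]
  exact isIso_of_mono_of_epi f.hom

end Groth.Agent.S10606
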