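import Groth.Statements.S10618
import Groth.Agent.Lib.Helper5.AlgSpInf

set_option autoImplicit false
universe u
open CategoryTheory CategoryTheory.Limits AlgebraicGeometry
open AlgSp Groth.Agent.Lib.helper5

namespace Groth.Agent.S10618

/-- Let a : F ⟶ G and b : G ⟶ H be morphisms of fppf sheaves on (Sch/S) with b formally unramified. If a
≫ b is formally unramified, resp. formally etale, resp. formally smooth, then so is a. (The
published statement is for transformations of arbitrary presheaves of sets on (Sch/S)_fppf; this row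
takes fppf sheaves, the case of algebraic spaces.) -/
theorem result {S : Scheme.{u}} {F G H : AlgSp.Sp S} (a : F ⟶ G) (b : G ⟶ H)
    (hb : AlgSp.IsFormallyUnramifiedMor b) :
    (AlgSp.IsFormallyUnramifiedMor (a ≫ b) → AlgSp.IsFormallyUnramifiedMor a) ∧
    (AlgSp.IsFormallyEtaleMor (a ≫ b) → AlgSp.IsFormallyEtaleMor a) ∧
    (AlgSp.IsFormallySmoothMor (a ≫ b) → AlgSp.IsFormallySmoothMor a) := by
  refine ⟨fun h => ?_, fun h => ?_, fun h => ?_⟩
  · rw [isFormallyUnramifiedMor_iff] at h ⊢
    exact fun D => (h D).of_comp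
  · rw [isFormallyEtaleMor_iff, isFormallySmoothMor_iff, isFormallyUnramifiedMor_iff] at h ⊢
    rw [isFormallyUnramifiedMor_iff] at hb
    exact ⟨fun D => (h.1 D).of_comp (hb D), fun D => (h.2 D).of_comp⟩
  · rw [isFormallySmoothMor_iff] at h ⊢
    rw [isFormallyUnramifiedMor_iff] at hb
    exact fun D => (h D).of_comp (hb D)

end Groth.Agent.S10618
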