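import Groth.Statements.S10619
import Groth.Agent.Lib.Helper5.AlgSpInf

set_option autoImplicit false
universe u
open CategoryTheory CategoryTheory.Limits AlgebraicGeometry
open AlgSp Groth.Agent.Lib.helper5

namespace Groth.Agent.S10619

/-- A composition of formally smooth, resp. formally etale, resp. formally unramified morphisms of fppf
sheaves on (Sch/S) is again formally smooth, resp. formally etale, resp. formally unramified. (The
published statement is for transformations of arbitrary presheaves of sets on (Sch/S)_fppf; this row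
takes fppf sheaves, the case of algebraic spaces.) -/
theorem result {S : Scheme.{u}} {F G H : AlgSp.Sp S} (a : F ⟶ G) (b : G ⟶ H) :
    (AlgSp.IsFormallySmoothMor a → AlgSp.IsFormallySmoothMor b → AlgSp.IsFormallySmoothMor (a ≫ b)) ∧
    (AlgSp.IsFormallyEtaleMor a → AlgSp.IsFormallyEtaleMor b → AlgSp.IsFormallyEtaleMor (a ≫ b)) ∧
    (AlgSp.IsFormallyUnramifiedMor a → AlgSp.IsFormallyUnramifiedMor b → AlgSp.IsFormallyUnramifiedMor (a ≫ b)) := by
  refine ⟨fun ha hb => ?_, fun ha hb => ?_, fun ha hb => ?_⟩
  · rw [isFormallySmoothMor_iff] at ha hb ⊢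
    exact fun D => (ha D).comp (hb D)
  · rw [isFormallyEtaleMor_iff, isFormallySmoothMor_iff, isFormallyUnramifiedMor_iff] at ha hb ⊢
    exact ⟨fun D => (ha.1 D).comp (hb.1 D), fun D => (ha.2 D).comp (hb.2 D)⟩
  · rw [isFormallyUnramifiedMor_iff] at ha hb ⊢
    exact fun D => (ha D).comp (hb D)

end Groth.Agent.S10619
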