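import Groth.Statements.S10622
import Groth.Agent.Lib.Helper5.AlgSpInf5

set_option autoImplicit false
universe u
open CategoryTheory CategoryTheory.Limits AlgebraicGeometry
open AlgSp

namespace Groth.Agent.S10622

open Groth.Agent.Lib.helper5

/-- For a morphism f : X ⟶ Y of algebraic spaces over S, these conditions are equivalent: f is formally
etale (lifting along square-zero thickenings of affine schemes); for every scheme U with a
representable etale U ⟶ X, every scheme V with a representable etale V ⟶ Y and every compatible U ⟶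
V, the morphism of schemes U ⟶ V is formally etale; and this holds as soon as it holds for one such
diagram in which both charts are moreover surjective. -/
theorem result {S : Scheme.{u}} {X Y : AlgSp.Space S} (f : X ⟶ Y) :
    (AlgSp.IsFormallyEtaleMor f.hom ↔ AlgSp.LocP @MoreMor.IsFormallyEtaleHom f.hom) ∧
    (∀ (U V : Over S) (a : (AlgSp.yon S).obj U ⟶ X.obj) (b : (AlgSp.yon S).obj V ⟶ Y.obj) (h : U ⟶ V),
      AlgSp.RepWith @Etale a → AlgSp.RepWith @Surjective a → AlgSp.RepWith @Etale b → AlgSp.RepWith @Surjective b →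
      a ≫ f.hom = (AlgSp.yon S).map h ≫ b → MoreMor.IsFormallyEtaleHom h.left → AlgSp.IsFormallyEtaleMor f.hom) := by
  have part2 : ∀ (U V : Over S) (a : (AlgSp.yon S).obj U ⟶ X.obj) (b : (AlgSp.yon S).obj V ⟶ Y.obj)
      (h : U ⟶ V), AlgSp.RepWith @Etale a → AlgSp.RepWith @Surjective a → AlgSp.RepWith @Etale b →
      AlgSp.RepWith @Surjective b → a ≫ f.hom = (AlgSp.yon S).map h ≫ b →
      MoreMor.IsFormallyEtaleHom h.left → AlgSp.IsFormallyEtaleMor f.hom := by
    intro U V a b h hae has hbe hbs comm hh
    refine isFormallyEtaleMor_of_comp_etale_surjective a f.hom hae has ?_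
    rw [comm]
    have h1 := (isFormallyEtaleMor_iff _).1 ((isFormallyEtaleMor_yon_map_iff h).2 hh)
    have h2 := (isFormallyEtaleMor_iff _).1 (isFormallyEtaleMor_of_repWith_etale hbe)
    rw [isFormallyEtaleMor_iff, isFormallySmoothMor_iff, isFormallyUnramifiedMor_iff]
    exact ⟨fun D => ((isFormallySmoothMor_iff _).1 h1.1 D).comp
        ((isFormallySmoothMor_iff _).1 h2.1 D),
      fun D => ((isFormallyUnramifiedMor_iff _).1 h1.2 D).comp
        ((isFormallyUnramifiedMor_iff _).1 h2.2 D)⟩
  refine ⟨⟨fun hf U V a b h hae hbe comm => ?_, fun hloc => ?_⟩, part2⟩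
  · rw [← isFormallyEtaleMor_yon_map_iff, isFormallyEtaleMor_iff, isFormallySmoothMor_iff,
      isFormallyUnramifiedMor_iff]
    have ha := (isFormallyEtaleMor_iff _).1 (isFormallyEtaleMor_of_repWith_etale hae)
    have hb := (isFormallyEtaleMor_iff _).1 (isFormallyEtaleMor_of_repWith_etale hbe)
    have hf' := (isFormallyEtaleMor_iff _).1 hf
    have hs : ∀ D : Thk S, LiftExists ((AlgSp.yon S).map D.j) ((AlgSp.yon S).map h ≫ b) := by
      intro D
      rw [← comm]
      exact ((isFormallySmoothMor_iff _).1 ha.1 D).comp ((isFormallySmoothMor_iff _).1 hf'.1 D)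
    have hu : ∀ D : Thk S, LiftUniq ((AlgSp.yon S).map D.j) ((AlgSp.yon S).map h ≫ b) := by
      intro D
      rw [← comm]
      exact ((isFormallyUnramifiedMor_iff _).1 ha.2 D).comp
        ((isFormallyUnramifiedMor_iff _).1 hf'.2 D)
    exact ⟨fun D => (hs D).of_comp ((isFormallyUnramifiedMor_iff _).1 hb.2 D),
      fun D => (hu D).of_comp⟩
  · obtain ⟨U, V, a, b, h, hae, has, hbe, hbs, comm⟩ :=
      exists_chart_diagram X.property Y.property f.hom
    exact part2 U V a b h hae has hbe hbs comm (hloc a b h hae hbe comm)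

end Groth.Agent.S10622
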