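import Groth.Statements.S10626
import Groth.Agent.Lib.Helper5.FlatUnramified
import Groth.Agent.S10622
import Groth.Agent.S1487

set_option autoImplicit false
universe u
open CategoryTheory CategoryTheory.Limits AlgebraicGeometry
open AlgSp

namespace Groth.Agent.S10626

/-- A flat, locally of finite type, formally unramified morphism of schemes is formally étale. -/
theorem isFormallyEtaleHom_of_flat_unramified {X Y : Scheme.{u}} (g : X ⟶ Y) [Flat g]
    [LocallyOfFiniteType g] [FormallyUnramified g] : MoreMor.IsFormallyEtaleHom g := by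
  rw [Groth.Agent.S1487.result g]
  intro U V hU hV hUV
  let _ := (g.appLE V U hUV).hom.toAlgebra
  have h1 : (g.appLE V U hUV).hom.Flat :=
    HasRingHomProperty.appLE (P := @Flat) g inferInstance ⟨V, hV⟩ ⟨U, hU⟩ hUV
  have h2 : (g.appLE V U hUV).hom.FiniteType :=
    HasRingHomProperty.appLE (P := @LocallyOfFiniteType) g inferInstance ⟨V, hV⟩ ⟨U, hU⟩ hUV
  have h3 : (g.appLE V U hUV).hom.FormallyUnramified :=
    HasRingHomProperty.appLE (P := @FormallyUnramified) g inferInstance ⟨V, hV⟩ ⟨U, hU⟩ hUV
  have : Module.Flat Γ(Y, V) Γ(X, U) := h1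
  have : Algebra.FiniteType Γ(Y, V) Γ(X, U) := h2
  have : Algebra.FormallyUnramified Γ(Y, V) Γ(X, U) := h3
  exact Groth.Agent.Lib.helper5.FlatUnram.formallyEtale_of_flat_of_formallyUnramified _ _

/-- An unramified and flat morphism of algebraic spaces over S is formally etale (lifting sense). -/
theorem result {S : Scheme.{u}} {X Y : AlgSp.Space S} (f : X ⟶ Y)
    (h1 : AlgSp.LocP (@LocallyOfFiniteType ⊓ @FormallyUnramified) f.hom) (h2 : AlgSp.LocP @Flat f.hom) :
    AlgSp.IsFormallyEtaleMor f.hom := by
  rw [(Groth.Agent.S10622.result f).1]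
  intro U V a b h ha hb w
  have h1' := h1 a b h ha hb w
  have h2' : Flat h.left := h2 a b h ha hb w
  have : LocallyOfFiniteType h.left := h1'.1
  have : FormallyUnramified h.left := h1'.2
  exact isFormallyEtaleHom_of_flat_unramified h.left

end Groth.Agent.S10626
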