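import Groth.Statements.S1063
import Groth.Agent.Lib.Helper16.ProjFormulaAff
import Groth.Agent.Lib.Helper16.PushFLF
import Groth.Agent.Lib.Helper16.EvEpi
import Groth.Agent.Lib.Helper8.DevGen
import Groth.Agent.Lib.Helper11.Bidual1
import Groth.Agent.Lib.Helper12.TensorCocont
import Groth.Agent.Lib.Helper16.FLFTensor

set_option linter.style.haveILetI false

set_option autoImplicit false
universe u
open CategoryTheory AlgebraicGeometry
open Perf

namespace Groth.Agent.S1063

open Scheme.Modules Opposite TopologicalSpace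
open Groth.Agent.Lib.helper16.FLF Groth.Agent.Lib.helper16.PushFLF
  Groth.Agent.Lib.helper16.ProjFormulaAff Groth.Agent.Lib.helper16.EvEpi
  Groth.Agent.Lib.helper16.FLFTensor Groth.Agent.Lib.helper12.InvDual
  Groth.Agent.Lib.Helper18.ProjFormulaLF

/-- `f_* O_X` is locally free of positive rank for `f` finite locally free and surjective -/
theorem pos_rank {X Y : Scheme.{u}} (f : X ⟶ Y) (hf : Mor2.IsFinLocFree f) [Surjective f] (y : Y) :
    ∃ (U : Y.Opens) (n : ℕ), y ∈ U ∧ 0 < n ∧
      Nonempty (((pushforward f).obj (Coh.structureModule X)).restrict U.ι ≅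
        FlatMod.freeMod (↑U) n) := by
  have hA : FlatMod.IsFinLocFree ((pushforward f).obj (Coh.structureModule X)) :=
    isFinLocFree_pushforward f hf _ (isFinLocFree_structureModule X)
  obtain ⟨U, n, hU, hyU, hiso, ⟨e⟩⟩ := exists_affine_free_sections_of_isFinLocFree _ hA y
  refine ⟨U, n, hyU, ?_, hiso⟩
  by_contra hn
  have hn0 : n = 0 := by omega
  subst hn0
  have hsub : Subsingleton Γ((pushforward f).obj (Coh.structureModule X), U) :=
    e.toEquiv.subsingleton
  have h10 : (1 : Γ(X, f ⁻¹ᵁ U)) = 0 := by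
    have := hsub.elim (show Γ((pushforward f).obj (Coh.structureModule X), U) from
      (1 : Γ(X, f ⁻¹ᵁ U))) (show Γ((pushforward f).obj (Coh.structureModule X), U) from
      (0 : Γ(X, f ⁻¹ᵁ U)))
    exact this
  obtain ⟨x, rfl⟩ := f.surjective y
  have hx : x ∈ f ⁻¹ᵁ U := hyU
  have h1 : X.basicOpen (1 : Γ(X, f ⁻¹ᵁ U)) = f ⁻¹ᵁ U := Scheme.basicOpen_of_isUnit _ isUnit_one
  rw [h10, Scheme.basicOpen_zero] at h1
  rw [← h1] at hx
  exact hx

open Groth.Agent.Lib.Helper21.TensorMon in
theorem exists_epi_tensor_left {Y : Scheme.{u}} (D : Y.Modules) {G N : Y.Modules} (q : G ⟶ N)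
    [Epi q] : ∃ q3 : CohB1.tensorMod D G ⟶ CohB1.tensorMod D N, Epi q3 := by
  haveI := T_pres D
  exact ⟨(T D).map q, (T D).map_epi q⟩

open Groth.Agent.Lib.Helper21.TensorMon in
theorem nonempty_assoc {Y : Scheme.{u}} (D A M : Y.Modules) :
    Nonempty (CohB1.tensorMod D (CohB1.tensorMod A M) ≅
      CohB1.tensorMod (CohB1.tensorMod D A) M) :=
  ⟨((assocIso Y.sheaf D A).app M).symm⟩

open Groth.Agent.Lib.Helper21.TensorMon in
theorem nonempty_unitor {Y : Scheme.{u}} (M : Y.Modules) :
    Nonempty (CohB1.tensorMod (Coh.structureModule Y) M ≅ M) :=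
  ⟨(unitIso Y.sheaf).app M⟩

theorem result' {X Y : Scheme.{u}} (f : X ⟶ Y) (hf : Mor2.IsFinLocFree f) [Surjective f]
    (hX : PerfAux.HasResolutionProperty X) : PerfAux.HasResolutionProperty Y := by
  intro M hMq hMft
  haveI : M.IsQuasicoherent := hMq
  haveI : IsFinite f := hf.1
  haveI hM'q : ((Scheme.Modules.pullback f).obj M).IsQuasicoherent :=
    Groth.Agent.Lib.helper16.QCohPullback.isQuasicoherent_pullback f M
  have hft' : CohB1.IsFT ((Scheme.Modules.pullback f).obj M) :=
    Groth.Agent.Lib.helper16.QCohPullback2.isFiniteType_pullback f M hMft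
  obtain ⟨E, π, hE, hπ⟩ := hX _ hM'q hft'
  haveI := isQuasicoherent_of_isFinLocFree E hE
  have hA : FlatMod.IsFinLocFree ((pushforward f).obj (Coh.structureModule X)) :=
    isFinLocFree_pushforward f hf _ (isFinLocFree_structureModule X)
  have hD : FlatMod.IsFinLocFree (dualMod ((pushforward f).obj (Coh.structureModule X))) :=
    Groth.Agent.Lib.helper11.Bidual.isFinLocFree_dualMod hA
  have hG : FlatMod.IsFinLocFree ((pushforward f).obj E) := isFinLocFree_pushforward f hf E hE
  haveI : (Coh.structureModule X).IsQuasicoherent :=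
    isQuasicoherent_of_isFinLocFree _ (isFinLocFree_structureModule X)
  -- `O_X ⊗ f^*M ≅ f^*M`
  obtain ⟨u'⟩ := nonempty_unitor ((Scheme.Modules.pullback f).obj M)
  haveI : (CohB1.tensorMod (Coh.structureModule X)
      ((Scheme.Modules.pullback f).obj M)).IsQuasicoherent :=
    Groth.Agent.Lib.helper2.TensorQCoh.isQuasicoherent_tensorMod _ _
  haveI : Epi (π ≫ u'.inv) := epi_comp _ _
  haveI hq1 : Epi ((pushforward f).map (π ≫ u'.inv)) :=
    Groth.Agent.Lib.helper8.Dev.epi_pushforward_map f (π ≫ u'.inv)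
  haveI := Groth.Agent.Lib.helper16.ProjFormulaAff.isIso_projHom f (Coh.structureModule X) M
  haveI : Epi ((pushforward f).map (π ≫ u'.inv) ≫ inv (projHom f (Coh.structureModule X) M)) :=
    epi_comp _ _
  -- tensor with the dual `D` of `A = f_* O_X`
  obtain ⟨q3, hq3⟩ := exists_epi_tensor_left
    (dualMod ((pushforward f).obj (Coh.structureModule X)))
    ((pushforward f).map (π ≫ u'.inv) ≫ inv (projHom f (Coh.structureModule X) M))
  obtain ⟨a⟩ := nonempty_assoc (dualMod ((pushforward f).obj (Coh.structureModule X)))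
    ((pushforward f).obj (Coh.structureModule X)) M
  haveI : Epi (evMod ((pushforward f).obj (Coh.structureModule X))) :=
    epi_evMod_of_pos (pos_rank f hf)
  haveI hq4 : Epi (Groth.Agent.Lib.Lead.ModTensor.tensorMap
      (evMod ((pushforward f).obj (Coh.structureModule X))) (𝟙 M)) :=
    Groth.Agent.Lib.helper12.TensorCocont.epi_tensorMap_right M _
  obtain ⟨u⟩ := nonempty_unitor M
  refine ⟨_, q3 ≫ a.hom ≫ Groth.Agent.Lib.Lead.ModTensor.tensorMap
      (evMod ((pushforward f).obj (Coh.structureModule X))) (𝟙 M) ≫ u.hom,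
    isFinLocFree_tensor hD hG, ?_⟩
  haveI : Epi (Groth.Agent.Lib.Lead.ModTensor.tensorMap
      (evMod ((pushforward f).obj (Coh.structureModule X))) (𝟙 M) ≫ u.hom) := epi_comp _ _
  haveI : Epi (a.hom ≫ Groth.Agent.Lib.Lead.ModTensor.tensorMap
      (evMod ((pushforward f).obj (Coh.structureModule X))) (𝟙 M) ≫ u.hom) := epi_comp _ _
  exact epi_comp _ _

/-- The resolution property descends along a surjective, finite locally free morphism f : X ⟶ Y; if
every finite-type quasi-coherent module on X is a quotient of a vector bundle, the same is true on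
Y. -/
theorem result {X Y : Scheme.{u}} (f : X ⟶ Y) (hf : Mor2.IsFinLocFree f) [Surjective f]
    (hX : PerfAux.HasResolutionProperty X) : PerfAux.HasResolutionProperty Y := by
  exact result' f hf hX

end Groth.Agent.S1063
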