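import Groth.Statements.S10634
import Groth.Agent.Lib.Helper5.UnivThkEx5

set_option autoImplicit false
universe u
open CategoryTheory CategoryTheory.Limits AlgebraicGeometry
open AlgSp

namespace Groth.Agent.S10634

/-- For a formally unramified morphism h : Z ⟶ X of algebraic spaces over S, some universal first order
thickening of Z over X exists: an algebraic space Z' with i : Z ⟶ Z' and h' : Z' ⟶ X, i a first
order thickening, i ≫ h' = h, universal among first order thickenings of algebraic spaces over X. -/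
theorem result {S : Scheme.{u}} {Z X : AlgSp.Space S} (h : Z ⟶ X)
    (hh : AlgSp.IsFormallyUnramifiedMor h.hom) :
    ∃ (Z' : AlgSp.Space S) (i : Z ⟶ Z') (h' : Z' ⟶ X), AlgSp.IsUnivFOThick h.hom i.hom h'.hom := by
  classical
  obtain ⟨V₀, U₀, v, w, ψ, hve, hvs, hwe, hws, hc⟩ :=
    Groth.Agent.Lib.helper5.exists_chart_diagram Z.2 X.2 h.hom
  have hvE : AlgSp.IsEtaleMor v := Groth.Agent.S10638.isEtaleMor_of_repWith hve
  have hvh : AlgSp.IsFormallyUnramifiedMor (v ≫ h.hom) :=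
    Groth.Agent.Lib.helper5.UnivThkEx.isFormallyUnramifiedMor_comp_of_isEtaleMor
      (AlgSp.IsAlgSpace.yon_obj V₀) hvE hh
  have hψu : AlgSp.IsFormallyUnramifiedMor ((AlgSp.yon S).map ψ) := by
    rw [hc] at hvh
    rw [Groth.Agent.Lib.helper5.isFormallyUnramifiedMor_iff] at hvh ⊢
    exact fun D => (hvh D).of_comp
  have hψ : FormallyUnramified ψ.left :=
    (Groth.Agent.Lib.helper5.isFormallyUnramifiedMor_yon_map_iff ψ).1 hψu
  obtain ⟨V₀', iV, hV', HV⟩ :=
    Groth.Agent.Lib.helper5.UnivThkEx.exists_univ_of_chart X.2 ψ hψ w hwe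
  rw [← hc] at HV
  obtain ⟨R₀, t₀, s₀', sqR⟩ := hve.rep v
  obtain ⟨s₀, rfl⟩ := (AlgSp.yon S).map_surjective s₀'
  have hs₀ : Etale s₀.left := hve.2 v ((AlgSp.yon S).map t₀) s₀ sqR.flip
  have hsψ : FormallyUnramified (s₀ ≫ ψ).left := by
    rw [Over.comp_left]
    haveI : FormallyUnramified s₀.left := inferInstance
    exact MorphismProperty.comp_mem _ _ _ ‹_› hψ
  obtain ⟨R₀', iR, hR', HR⟩ :=
    Groth.Agent.Lib.helper5.UnivThkEx.exists_univ_of_chart X.2 (s₀ ≫ ψ) hsψ w hwe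
  have e1 : (AlgSp.yon S).map (s₀ ≫ ψ) ≫ w = (AlgSp.yon S).map s₀ ≫ v ≫ h.hom := by
    rw [Functor.map_comp, Category.assoc, hc]
  rw [e1] at HR
  obtain ⟨Z', hZ', i, h', H⟩ :=
    Groth.Agent.Lib.helper5.UnivThkEx.exists_univ_of_presentation Z.2 X.2
      (AlgSp.IsAlgSpace.yon_obj V₀) (AlgSp.IsAlgSpace.yon_obj R₀) (AlgSp.IsAlgSpace.yon_obj V₀')
      (AlgSp.IsAlgSpace.yon_obj R₀') hh hvE
      (Groth.Agent.Lib.helper5.surjective_map_of_repWith_surjective v hvs) sqR HV HR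
  exact ⟨⟨Z', hZ'⟩, ObjectProperty.homMk i, ObjectProperty.homMk h', H⟩

end Groth.Agent.S10634
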