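import Groth.Statements.S10635
import Groth.Agent.Lib.Helper5.AlgSpInfNbhd
import Groth.Agent.Lib.Helper7.AlgSpMono
import Groth.Agent.S10194

set_option autoImplicit false
universe u
open CategoryTheory CategoryTheory.Limits AlgebraicGeometry
open AlgSp

namespace Groth.Agent.S10635

open Groth.Agent.Lib.helper5

section

variable {S : Scheme.{u}} {Z U Z₁ : Sp S} {c : Z ⟶ U} {j : Z ⟶ Z₁} {k : Z₁ ⟶ U}

theorem mono_of_closedImmersion {F G : Sp S} {f : F ⟶ G} (hf : RepWith @IsClosedImmersion f) :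
    Mono f :=
  Groth.Agent.Lib.helper7.mono_of_repWith (P := @IsClosedImmersion)
    (fun X Y g hg => by
      have : IsClosedImmersion g := hg
      show Mono g
      infer_instance) hf

theorem mono_of_openImmersion {F G : Sp S} {f : F ⟶ G} (hf : RepWith @IsOpenImmersion f) :
    Mono f :=
  Groth.Agent.Lib.helper7.mono_of_repWith (P := @IsOpenImmersion)
    (fun X Y g hg => by
      have : IsOpenImmersion g := hg
      show Mono g
      infer_instance) hf

/-- local structure: on an affine étale chart of `U`, `Z ⟶ Z₁` pulls back to an affine first order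
thickening `t : W ⟶ Wn`. -/
theorem exists_chart_thickening (hN : IsInfNbhd 1 c j k) {V : Over S} (hV : IsAffine V.left)
    (β : (yon S).obj V ⟶ U) (hβ : RepWith @Etale β) :
    ∃ (W Wn : Over S) (t : W ⟶ Wn) (sndn : Wn ⟶ V) (fst : (yon S).obj W ⟶ Z)
      (fstn : (yon S).obj Wn ⟶ Z₁),
      IsPullback fstn ((yon S).map sndn) k β ∧ IsPullback fst ((yon S).map t) j fstn ∧
      MoreMor.IsFirstOrderThickening t.left ∧
      sndn.left.ker = (t.left ≫ sndn.left).ker * (t.left ≫ sndn.left).ker := by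
  obtain ⟨hjk, hc, hk, hker⟩ := hN
  have : Mono k := mono_of_closedImmersion hk
  obtain ⟨W, snd, fst, sqW⟩ := hc.rep β
  obtain ⟨Wn, sndn, fstn, sqWn⟩ := hk.rep β
  have hker' := hker β fst snd fstn sndn hV hβ sqW sqWn
  have hcl : IsClosedImmersion snd.left := hc.2 β fst snd sqW
  have hcln : IsClosedImmersion sndn.left := hk.2 β fstn sndn sqWn
  -- the map `W ⟶ Wn`
  obtain ⟨t', ht1, ht2⟩ := sqWn.exists_lift (fst ≫ j) ((yon S).map snd) (by
    rw [Category.assoc, hjk, sqW.w])
  obtain ⟨t, rfl⟩ := (yon S).map_surjective t'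
  have hts : t ≫ sndn = snd := (yon S).map_injective (by rw [Functor.map_comp, ht2])
  have sqj : IsPullback fst ((yon S).map t) j fstn := by
    have big : IsPullback fst ((yon S).map t ≫ (yon S).map sndn) (j ≫ k) β := by
      rw [ht2, hjk]; exact sqW
    exact IsPullback.of_bot big ht1.symm sqWn
  have : IsAffine V.left := hV
  have hts' : t.left ≫ sndn.left = snd.left := by
    rw [← Over.comp_left, hts]
  refine ⟨W, Wn, t, sndn, fst, fstn, sqWn, sqj, ?_, ?_⟩
  · refine isFirstOrderThickening_of_ker_eq_sq snd.left sndn.left t.left hts' ?_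
    rw [hker']
  · rw [hts', hker', pow_two]

/-- Every pullback of `Z ⟶ Z₁` to a scheme is surjective, with square-zero kernel when the scheme is
affine. -/
theorem thick_aux (hU : IsAlgSpace U) (hN : IsInfNbhd 1 c j k) {T W : Over S}
    (g : (yon S).obj T ⟶ Z₁) (fst : (yon S).obj W ⟶ Z) (snd : W ⟶ T)
    (sq : IsPullback fst ((yon S).map snd) j g) :
    Surjective snd.left ∧ (IsAffine T.left → sqZero snd.left) := by
  have hk := hN.2.2.1
  have : Mono k := mono_of_closedImmersion hk
  obtain ⟨κ, Tk, ck, Uk, βk, wk, hTk, hUk, hβk, hcf, hcp, hcs, hcw⟩ :=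
    exists_affine_refinement hU (g ≫ k)
  choose Wk Wnk tk sndnk fstk fstnk sqWn sqj hFO hkk using
    fun i => exists_chart_thickening hN (hUk i) (βk i) (hβk i)
  have hℓ : ∀ i, ∃ ℓ : Tk i ⟶ Wnk i, (yon S).map ℓ ≫ fstnk i = (yon S).map (ck i) ≫ g := by
    intro i
    obtain ⟨ℓ', h1, h2⟩ := (sqWn i).exists_lift ((yon S).map (ck i) ≫ g) ((yon S).map (wk i))
      (by rw [Category.assoc, hcw i])
    obtain ⟨ℓ, rfl⟩ := (yon S).map_surjective ℓ'
    exact ⟨ℓ, h1⟩
  choose ℓ hℓ using hℓ
  have s0 : ∀ i, IsPullback (pullback.fst snd (ck i)) (pullback.snd snd (ck i)) snd (ck i) :=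
    fun i => IsPullback.of_hasPullback _ _
  have key : ∀ i, Surjective (pullback.snd snd (ck i)).left ∧
      (pullback.snd snd (ck i)).left.ker * (pullback.snd snd (ck i)).left.ker = ⊥ := by
    intro i
    have s1 := ((s0 i).map (yon S)).paste_horiz sq
    rw [← hℓ i] at s1
    obtain ⟨r', -, sqr⟩ := isPullback_of_lift (sqj i) s1
    obtain ⟨r, rfl⟩ := (yon S).map_surjective r'
    have sqr' : IsPullback r.left (pullback.snd snd (ck i)).left (tk i).left (ℓ i).left :=
      Groth.Agent.Lib.helper7.AlgSpChartSq.isPullback_left_of_yon sqr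
    have hcln : IsClosedImmersion (sndnk i).left := hk.2 (βk i) (fstnk i) (sndnk i) (sqWn i)
    have : IsAffine (Uk i).left := hUk i
    have hWnaff : IsAffine (Wnk i).left := isAffine_of_isAffineHom (sndnk i).left
    obtain ⟨D, e1, e2, he⟩ := exists_thk_of_affine (tk i) hWnaff (hFO i)
    have he' : e1.hom.left ≫ D.j.left = (tk i).left ≫ e2.hom.left := by
      have := congrArg (fun m => m.left) he
      simpa using this
    have hiso1 : IsIso e1.hom.left := inferInstanceAs (IsIso ((Over.forget S).map e1.hom))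
    have hiso2 : IsIso e2.hom.left := inferInstanceAs (IsIso ((Over.forget S).map e2.hom))
    have sqiso : IsPullback e1.hom.left (tk i).left D.j.left e2.hom.left :=
      IsPullback.of_horiz_isIso ⟨he'⟩
    have sq2 := sqr'.paste_horiz sqiso
    have : IsAffine (Tk i).left := hTk i
    refine ⟨MorphismProperty.of_isPullback (P := @Surjective) sq2 D.isFirstOrderThickening.1.2,
      sqZero_of_isPullback_thk D.I D.sq_zero _ _ _ sq2⟩
  have hw : ∀ i, (pullback.fst snd (ck i)).left ≫ snd.left =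
      (pullback.snd snd (ck i)).left ≫ (ck i).left := by
    intro i
    have := congrArg (fun m => m.left) (s0 i).w
    simpa using this
  refine ⟨⟨fun x => ?_⟩, fun hT => ?_⟩
  · obtain ⟨i, y, rfl⟩ := hcs x
    obtain ⟨z, rfl⟩ := (key i).1.surj y
    refine ⟨(pullback.fst snd (ck i)).left z, ?_⟩
    have := congrArg (fun m => m z) (hw i)
    simpa only [Scheme.Hom.comp_apply] using this
  · have : IsAffine T.left := hT
    exact sqZero_of_flat_cover snd.left (fun i => (Tk i).left)
      (fun i => (pullback snd (ck i)).left) hTk (fun i => (ck i).left) hcf hcs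
      (fun i => (pullback.fst snd (ck i)).left) (fun i => (pullback.snd snd (ck i)).left) hw
      (fun i => (key i).2)

/-- `Z ⟶ Z₁` is a first order thickening. -/
theorem isFOThickMor_j (hU : IsAlgSpace U) (hN : IsInfNbhd 1 c j k) : IsFOThickMor j := by
  have hjk := hN.1
  have hc := hN.2.1
  have hk := hN.2.2.1
  have : Mono k := mono_of_closedImmersion hk
  have hsq : ∀ {T W : Over S} (g : (yon S).obj T ⟶ Z₁) (fst : (yon S).obj W ⟶ Z) (snd : W ⟶ T),
      IsPullback fst ((yon S).map snd) j g → IsPullback fst ((yon S).map snd) c (g ≫ k) := by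
    intro T W g fst snd sq
    rw [← hjk]
    exact isPullback_comp_mono k sq
  refine ⟨⟨?_, ?_⟩, ?_⟩
  · intro T g
    obtain ⟨W, snd, fst, sq⟩ := hc.rep (g ≫ k)
    refine ⟨W, snd, fst, ?_⟩
    rw [← hjk] at sq
    exact isPullback_of_comp_mono k sq
  · intro T W g fst snd sq
    exact ⟨hc.2 (g ≫ k) fst snd (hsq g fst snd sq), (thick_aux hU hN g fst snd sq).1⟩
  · intro V W b fst snd hV _ sq
    exact (thick_aux hU hN b fst snd sq).2 hV

open Groth.Agent.Lib.helper5.Epi in
/-- Maps from a first order thickening `T ⊂ T'` to `U` sending `T` into `Z` factor, locally, through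
`Z₁`. -/
theorem liftSieve_mem (hU : IsAlgSpace U) (hN : IsInfNbhd 1 c j k) {T T' : Sp S}
    (hT' : IsAlgSpace T') {j' : T ⟶ T'} (hj' : IsFOThickMor j') (a : T ⟶ Z) (b₁ : T' ⟶ U)
    (hab : j' ≫ b₁ = a ≫ c) {Q : Sp S} {q : Q ⟶ T'} {q₂ : Q ⟶ Z₁} (sqQ : IsPullback q q₂ b₁ k)
    (V : Over S) (η : (yon S).obj V ⟶ T') : liftSieve q η ∈ (AlgSp.J S) V := by
  have hjk := hN.1
  have hk := hN.2.2.1
  obtain ⟨κ, Vk, ck, Uk, βk, wk, hVk, hUk, hβk, hcf, hcp, hcs, hcw⟩ :=
    exists_affine_refinement hU (η ≫ b₁)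
  refine (AlgSp.J S).superset_covering ?_ (Groth.Agent.S10510.cover_mem_family Vk ck hcf hcp hcs)
  rintro V' g ⟨_, g', _, ⟨i⟩, rfl⟩
  refine (liftSieve q η).downward_closed ?_ g'
  -- the chart thickening
  obtain ⟨W, Wn, t, sndn, fst, fstn, sqWn, sqj, -, hker⟩ :=
    exists_chart_thickening hN (hUk i) (βk i) (hβk i)
  have hcln : IsClosedImmersion sndn.left := hk.2 (βk i) fstn sndn sqWn
  -- the thickening `E ⊂ Vk i`
  obtain ⟨E, r, e, sqE⟩ := hj'.1.rep ((yon S).map (ck i) ≫ η)
  have hr : r.left.ker * r.left.ker = ⊥ :=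
    sqZero_of_isPullback_of_isFOThickMor hj' hT' _ e r (hVk i) sqE
  -- the map `E ⟶ W`
  have sqW : IsPullback fst ((yon S).map t ≫ (yon S).map sndn) (j ≫ k) (βk i) :=
    sqj.paste_vert sqWn
  obtain ⟨m', -, hm2⟩ := sqW.exists_lift (e ≫ a) ((yon S).map r ≫ (yon S).map (wk i)) (by
    rw [Category.assoc, hjk, ← hab, ← Category.assoc, sqE.w, Category.assoc, Category.assoc,
      Category.assoc, ← hcw i])
  obtain ⟨m, rfl⟩ := (yon S).map_surjective m'
  have hm : m ≫ t ≫ sndn = r ≫ wk i := (yon S).map_injective (by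
    rw [Functor.map_comp, Functor.map_comp, Functor.map_comp, hm2])
  have hm' : m.left ≫ t.left ≫ sndn.left = r.left ≫ (wk i).left := by
    have := congrArg (fun x => x.left) hm
    simpa using this
  have : IsAffine (Vk i).left := hVk i
  have : IsAffine (Uk i).left := hUk i
  have hle : sndn.left.ker ≤ (wk i).left.ker := by
    rw [hker]
    refine le_trans ?_ (ker_mul_le_of_comp r.left (wk i).left hr)
    rw [← hm']
    have h1 := Scheme.Hom.le_ker_comp m.left (t.left ≫ sndn.left)
    exact mul_le_mul' h1 h1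
  let lam₀ : (Vk i).left ⟶ Wn.left := IsClosedImmersion.lift sndn.left (wk i).left hle
  have hlam₀ : lam₀ ≫ sndn.left = (wk i).left := IsClosedImmersion.lift_fac _ _ _
  let lam : Vk i ⟶ Wn := Over.homMk lam₀ (by
    rw [← Over.w sndn, ← Category.assoc, hlam₀, Over.w])
  have hlam : lam ≫ sndn = wk i := by
    ext
    exact hlam₀
  refine ⟨sqQ.lift ((yon S).map (ck i) ≫ η) ((yon S).map lam ≫ fstn) ?_, sqQ.lift_fst _ _ _⟩
  rw [Category.assoc, hcw i, Category.assoc, sqWn.w, ← Category.assoc, ← Functor.map_comp, hlam]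

end

/-- Take an immersion i : Z ⟶ X of algebraic spaces over S, written as a closed immersion c : Z ⟶ U
followed by an open immersion u : U ⟶ X, and let (j : Z ⟶ Z₁, k : Z₁ ⟶ U) be the first order
infinitesimal neighbourhood of Z in U. Then (j, k ≫ u) is a universal first order thickening of Z
over X. -/
theorem result {S : Scheme.{u}} {Z U X Z₁ : AlgSp.Space S} (c : Z ⟶ U)
    (hc : AlgSp.RepWith @IsClosedImmersion c.hom) (u : U ⟶ X) (hu : AlgSp.RepWith @IsOpenImmersion u.hom)
    (j : Z ⟶ Z₁) (k : Z₁ ⟶ U) (hN : AlgSp.IsInfNbhd 1 c.hom j.hom k.hom) :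
    AlgSp.IsUnivFOThick (c ≫ u).hom j.hom (k ≫ u).hom := by
  have hU := U.property
  have hjFO : IsFOThickMor j.hom := isFOThickMor_j hU hN
  have hjk : j.hom ≫ k.hom = c.hom := hN.1
  have hk := hN.2.2.1
  have hmk : Mono k.hom := mono_of_closedImmersion hk
  have hmu : Mono u.hom := mono_of_openImmersion hu
  refine ⟨hjFO, ?_, ?_⟩
  · show j.hom ≫ k.hom ≫ u.hom = c.hom ≫ u.hom
    rw [← Category.assoc, hjk]
  · intro T T' hT hT' j' a b hj' hjb
    have hjb' : j' ≫ b = (a ≫ c.hom) ≫ u.hom := by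
      rw [hjb, Category.assoc]; rfl
    -- Step A: `b` factors through `u`
    have sqP := IsPullback.of_hasPullback b u.hom
    have hp : RepWith @IsOpenImmersion (pullback.fst b u.hom) :=
      (repWith_isStableUnderBaseChange (S := S) @IsOpenImmersion).of_isPullback sqP.flip hu
    have hps : IsSurjectiveMor (pullback.fst b u.hom) := by
      intro x
      have hsj : RepWith @Surjective j' :=
        Groth.Agent.S10194.repWith_mono (fun _ _ g hg => hg.2) hj'.1
      obtain ⟨y, hy⟩ := surjective_map_of_repWith_surjective j' hsj x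
      refine ⟨Points.map (sqP.lift j' (a ≫ c.hom) hjb') y, ?_⟩
      rw [← Points.map_comp, sqP.lift_fst, hy]
    have hpiso : IsIso (pullback.fst b u.hom) :=
      Groth.Agent.S10194.isIso_of_openImmersion_of_surjective _ hp hps
    obtain ⟨b₁, hb₁⟩ : ∃ b₁ : T' ⟶ U.obj, b₁ ≫ u.hom = b :=
      ⟨inv (pullback.fst b u.hom) ≫ pullback.snd b u.hom, by
        rw [Category.assoc, ← sqP.w, IsIso.inv_hom_id_assoc]⟩
    have hab : j' ≫ b₁ = a ≫ c.hom := by
      rw [← cancel_mono u.hom, Category.assoc, hb₁, hjb']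
    -- Step B: `b₁` factors through `k`
    have sqQ := IsPullback.of_hasPullback b₁ k.hom
    have hqm : Mono (pullback.fst b₁ k.hom) := inferInstance
    have hqiso : IsIso (pullback.fst b₁ k.hom) :=
      Groth.Agent.Lib.helper5.Epi.isIso_of_mono_of_liftSieve _
        (fun V η => liftSieve_mem hU hN hT' hj' a b₁ hab sqQ V η)
    obtain ⟨a', ha'⟩ : ∃ a' : T' ⟶ Z₁.obj, a' ≫ k.hom = b₁ :=
      ⟨inv (pullback.fst b₁ k.hom) ≫ pullback.snd b₁ k.hom, by
        rw [Category.assoc, ← sqQ.w, IsIso.inv_hom_id_assoc]⟩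
    refine ⟨a', ⟨?_, ?_⟩, ?_⟩
    · rw [← cancel_mono k.hom, Category.assoc, ha', hab, Category.assoc, hjk]
    · show a' ≫ k.hom ≫ u.hom = b
      rw [← Category.assoc, ha', hb₁]
    · rintro a'' ⟨-, h2⟩
      have h2' : a'' ≫ k.hom ≫ u.hom = b := h2
      rw [← cancel_mono k.hom, ← cancel_mono u.hom, Category.assoc, Category.assoc, h2',
        ← Category.assoc, ha', hb₁]

end Groth.Agent.S10635
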