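import Groth.Statements.S10637
import Groth.Agent.Lib.Helper5.AlgSpThk2

set_option autoImplicit false
universe u
open CategoryTheory CategoryTheory.Limits AlgebraicGeometry
open AlgSp

namespace Groth.Agent.S10637

open Groth.Agent.Lib.helper5

/-- Let h : Z ⟶ X, f : Z ⟶ W, g : X ⟶ Y, h' : W ⟶ Y form a pullback square of algebraic spaces over S (Z
= X ×_Y W) with h' formally unramified, and let (iW : W ⟶ W', hW' : W' ⟶ Y) be a universal first
order thickening of W over Y. If P = X ×_Y W' (a pullback square pX : P ⟶ X, pW : P ⟶ W') and iZ : Z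
⟶ P is the morphism with iZ ≫ pX = h and iZ ≫ pW = f ≫ iW, then (iZ, pX) is a universal first order
thickening of Z over X. (The published statement also asserts that h is formally unramified, which
is the base change property of formal unramifiedness, and that the induced map of conormal sheaves
is surjective; this row omits both clauses.) -/
theorem result {S : Scheme.{u}} {Z X W Y W' P : AlgSp.Space S} (h : Z ⟶ X) (f : Z ⟶ W)
    (g : X ⟶ Y) (h' : W ⟶ Y) (sq : IsPullback h.hom f.hom g.hom h'.hom) (hh' : AlgSp.IsFormallyUnramifiedMor h'.hom)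
    (iW : W ⟶ W') (hW' : W' ⟶ Y) (HU : AlgSp.IsUnivFOThick h'.hom iW.hom hW'.hom)
    (pX : P ⟶ X) (pW : P ⟶ W') (sq' : IsPullback pX.hom pW.hom g.hom hW'.hom)
    (iZ : Z ⟶ P) (w1 : iZ ≫ pX = h) (w2 : iZ ≫ pW = f ≫ iW) :
    AlgSp.IsUnivFOThick h.hom iZ.hom pX.hom := by
  have w1' : iZ.hom ≫ pX.hom = h.hom := congrArg (fun k => k.hom) w1
  have w2' : iZ.hom ≫ pW.hom = f.hom ≫ iW.hom := congrArg (fun k => k.hom) w2
  -- `Z ⟶ P` is the base change of `W ⟶ W'` along `pW`
  have big : IsPullback (iZ.hom ≫ pX.hom) f.hom g.hom (iW.hom ≫ hW'.hom) := by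
    rw [w1', HU.2.1]; exact sq
  have left : IsPullback iZ.hom f.hom pW.hom iW.hom := IsPullback.of_right big w2' sq'
  have hiZ : IsFOThickMor iZ.hom := isFOThickMor_of_isPullback_any HU.1 W'.property left.flip
  refine ⟨hiZ, w1', ?_⟩
  intro T T' hT hT' j a b hj hjb
  have hjb' : j ≫ (b ≫ g.hom) = (a ≫ f.hom) ≫ h'.hom := by
    rw [← Category.assoc, hjb, Category.assoc, Category.assoc, sq.w]
  obtain ⟨w', ⟨hw1, hw2⟩, hwu⟩ := HU.2.2 hT hT' j (a ≫ f.hom) (b ≫ g.hom) hj hjb'
  obtain ⟨a', ha1, ha2⟩ := sq'.exists_lift b w' hw2.symm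
  refine ⟨a', ⟨?_, ha1⟩, ?_⟩
  · apply sq'.hom_ext
    · rw [Category.assoc, ha1, Category.assoc, w1', hjb]
    · rw [Category.assoc, ha2, Category.assoc, w2', hw1, Category.assoc]
  · rintro a'' ⟨h1, h2⟩
    have h3 : a'' ≫ pW.hom = w' := by
      apply hwu
      refine ⟨?_, ?_⟩
      · rw [← Category.assoc, h1, Category.assoc, w2', Category.assoc]
      · rw [Category.assoc, ← sq'.w, ← Category.assoc, h2]
    apply sq'.hom_ext
    · rw [h2, ha1]
    · rw [h3, ha2]

end Groth.Agent.S10637
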