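import Groth.Statements.S1064
import Mathlib
import Groth.Agent.Lib.Helper13.LST5
-- import your own Groth.Agent.* helpers here

set_option autoImplicit false
universe u
open CategoryTheory CategoryTheory.Limits AlgebraicGeometry Opposite
attribute [local instance] HasDerivedCategory.standard
open Perf

namespace Groth.Agent.S1064

/-- Let E be a perfect object of D(O_X), i ∈ ℤ and r ∈ ℕ. There is an open subset U ⊆ X such that for
every morphism f : Y ⟶ X whose derived pullback Lf^* exists, f has its image inside U exactly when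
Lf^*E is isomorphic in D(O_Y) to a finite locally free O_Y-module of rank r placed in degree i. -/
theorem result (X : Scheme.{u}) (E : DCoh.D X) (hE : DCoh.IsPerfect E) (i : ℤ) (r : ℕ) :
    ∃ U : X.Opens, ∀ (Y : Scheme.{u}) (f : Y ⟶ X) [DCoh.HasLpull f],
      Set.range f.base ⊆ (U : Set X) ↔
        ∃ V : Y.Modules, FlatMod.IsFinLocFreeOfRank r V ∧ Nonempty ((DCoh.Lpull f).obj E ≅ (DCoh.inD Y V)⟦-i⟧) := by
  obtain ⟨P, hP, ⟨eP⟩⟩ := Groth.Agent.Lib.Helper25.LpullPerfect.exists_P₀_rep E
  have hopen : IsOpen {x : X | Groth.Agent.Lib.helper13.LST.GoodAt P i r x} := by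
    rw [isOpen_iff_forall_mem_open]
    intro x hx
    obtain ⟨V, hxV, hV⟩ := Groth.Agent.Lib.helper13.LST.GoodAt.of_mem hx
    exact ⟨V, hV, V.2, hxV⟩
  refine ⟨⟨_, hopen⟩, fun Y f _ => ⟨fun hsub => ?_, ?_⟩⟩
  · -- image inside `U`: `Lf^* E` is locally, hence globally, a finite locally free module of rank `r` in degree `i`
    apply Groth.Agent.Lib.helper13.LST.exists_iso_inD_shift_of_local
    intro y
    obtain ⟨V, hyV, S, hSv, hSf, ⟨eS⟩⟩ := hsub ⟨y, rfl⟩
    have hS : DCoh.IsStrictlyPerfect S :=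
      Groth.Agent.Lib.helper13.LST.isStrictlyPerfect_of_vanishesOutside_single hSv
        (Groth.Agent.Lib.helper16.FLF.isFinLocFree_of_isFinLocFreeOfRank hSf)
    refine ⟨f ⁻¹ᵁ V, hyV, (Groth.Agent.Lib.helper13.EulerLocConst.pullCx (f ∣_ V)).obj S, ?_, ?_,
      Groth.Agent.Lib.helper13.LST.nonempty_restrictD_Lpull_iso f E P hP eP V S hS eS⟩
    · exact fun j hj => (Scheme.Modules.pullback (f ∣_ V)).map_isZero (hSv j hj)
    · exact Groth.Agent.Lib.helper16.FLF.isFinLocFreeOfRank_pullback (f ∣_ V) hSf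
  · -- conversely, the derived fibres of `E` at the points of the image have the expected dimensions
    rintro ⟨V, hV, ⟨e⟩⟩ _ ⟨y, rfl⟩
    haveI : DCoh.HasLpull (Y.fromSpecResidueField y ≫ f) := Groth.Agent.Lib.Helper25.LpullAdapted.hasLpull _
    obtain ⟨h0, hr⟩ := Groth.Agent.Lib.helper13.LST.bk_of_iso_inD_shift f E V i r hV e y
    obtain ⟨z₀⟩ := (inferInstance : Nonempty (Groth.Agent.Lib.helper13.EulerLocConst.Zy y))
    have hg := Groth.Agent.Lib.helper13.LST.goodAt_of_bk
      (Groth.Agent.Lib.helper13.EulerLocConst.isField_Γtop y) (Y.fromSpecResidueField y ≫ f) z₀ E hE P hP eP i r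
      h0 hr
    have hz : (Y.fromSpecResidueField y ≫ f) z₀ = f y := by
      have h1 : (Y.fromSpecResidueField y ≫ f) z₀ = f (Y.fromSpecResidueField y z₀) := rfl
      rw [h1, Scheme.fromSpecResidueField_apply]
    rw [hz] at hg
    exact hg

end Groth.Agent.S1064
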