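import Groth.Statements.S10640
import Groth.Agent.Lib.Helper5.AlgSpWhereUnivInj

set_option autoImplicit false
universe u
open CategoryTheory CategoryTheory.Limits AlgebraicGeometry
open AlgSp

namespace Groth.Agent.S10640

/-- For morphisms f : X ⟶ Y, p : X ⟶ Z and q : Y ⟶ Z of algebraic spaces over S with f ≫ q = p, write XX
= X ×_Y X with projections pr0, pr1, and assume that p is closed and locally of finite type and that
the composite XX ⟶ X ⟶ Z (through pr1 and p) is closed as well. Then there is an open subspace W of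
Z with the following property: a morphism of algebraic spaces g : Z' ⟶ Z factors through W exactly
when the base change X' ⟶ Y' of f along g is unramified and universally injective. Here the base
change of f along g is any f' : X' ⟶ Y' obtained from pullback squares Y' = Y ×_Z Z' and X' = X ×_Y
Y' of algebraic spaces over S, and W ⊂ Z is given as a representable open immersion w : W ⟶ Z. -/
theorem result {S : Scheme.{u}} {X Y Z : AlgSp.Space S}
    (f : X ⟶ Y) (p : X ⟶ Z) (q : Y ⟶ Z) (hc : f ≫ q = p)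
    (XX : AlgSp.Space S) (pr0 pr1 : XX ⟶ X) (hXX : IsPullback pr0.hom pr1.hom f.hom f.hom)
    (hp1 : AlgSp.LocP @LocallyOfFiniteType p.hom) (hp2 : AlgSp.IsClosedMor p.hom)
    (hp3 : AlgSp.IsClosedMor (pr1 ≫ p).hom) :
    ∃ (W : AlgSp.Space S) (w : W ⟶ Z), AlgSp.RepWith @IsOpenImmersion w.hom ∧
      ∀ (Z' : AlgSp.Space S) (g : Z' ⟶ Z),
        (∃ k : Z' ⟶ W, k ≫ w = g) ↔
          ∀ (Y' : AlgSp.Space S) (gY : Y' ⟶ Y) (q' : Y' ⟶ Z'),
            IsPullback gY.hom q'.hom q.hom g.hom →
            ∀ (X' : AlgSp.Space S) (gX : X' ⟶ X) (f' : X' ⟶ Y'),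
              IsPullback gX.hom f'.hom f.hom gY.hom →
                (AlgSp.LocP (@LocallyOfFiniteType ⊓ @FormallyUnramified) f'.hom ∧ AlgSp.IsUnivInjectiveMor f'.hom) := by
  have hf : AlgSp.LocP @LocallyOfFiniteType f.hom :=
    Groth.Agent.S9952.result f q (by rw [hc]; exact hp1)
  have hpq : p.hom = f.hom ≫ q.hom := congr($(hc.symm).hom)
  have hT : IsClosed {x : AlgSp.Points X.obj |
      ¬ AlgSp.HasAtMor Groth.Agent.Lib.helper5.UnramLocus.UnrAt f.hom x} :=
    (Groth.Agent.Lib.helper5.UnramLocus.isOpen_unrLocus f.hom).isClosed_compl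
  have hpT := hp2 _ hT
  have hD := Groth.Agent.Lib.helper5.UnramLocus.isOpen_image_diagonal_unrLocus X.2 Y.2 f.hom
  have hcl : IsClosedMap (AlgSp.Points.map (pullback.snd f.hom f.hom ≫ f.hom ≫ q.hom)) := by
    have h1 : pullback.snd f.hom f.hom ≫ f.hom ≫ q.hom = hXX.isoPullback.inv ≫ (pr1 ≫ p).hom := by
      have : (pr1 ≫ p).hom = pr1.hom ≫ p.hom := rfl
      rw [this, ← Category.assoc hXX.isoPullback.inv, hXX.isoPullback_inv_snd, hpq]
    rw [h1]
    intro C hC
    have h2 : AlgSp.Points.map (hXX.isoPullback.inv ≫ (pr1 ≫ p).hom) '' C =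
        AlgSp.Points.map (pr1 ≫ p).hom '' (AlgSp.Points.map hXX.isoPullback.hom ⁻¹' C) := by
      ext z
      constructor
      · rintro ⟨c, hc, rfl⟩
        refine ⟨AlgSp.Points.map hXX.isoPullback.inv c, ?_, ?_⟩
        · show AlgSp.Points.map hXX.isoPullback.hom (AlgSp.Points.map hXX.isoPullback.inv c) ∈ C
          rw [← AlgSp.Points.map_comp, Iso.inv_hom_id, AlgSp.Points.map_id]
          exact hc
        · rw [AlgSp.Points.map_comp]
      · rintro ⟨d, hd, rfl⟩
        refine ⟨AlgSp.Points.map hXX.isoPullback.hom d, hd, ?_⟩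
        rw [← AlgSp.Points.map_comp, Iso.hom_inv_id_assoc]
    rw [h2]
    exact hp3 _ (hC.preimage (AlgSp.Points.continuous_map _))
  have hD2 := hcl _ hD.isClosed_compl
  obtain ⟨W, w, hw, hrange, -⟩ := Groth.Agent.Lib.helper5.OpenSub.exists_openSub Z _
    (hpT.union hD2).isOpen_compl
  refine ⟨W, w, hw, fun Z' g => ?_⟩
  have hfac : (∃ k : Z' ⟶ W, k ≫ w = g) ↔
      Set.range (AlgSp.Points.map g.hom) ⊆ Set.range (AlgSp.Points.map w.hom) := by
    rw [← Groth.Agent.Lib.helper5.OpenSub.factors_iff w.hom hw g.hom]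
    constructor
    · rintro ⟨k, rfl⟩
      exact ⟨k.hom, rfl⟩
    · rintro ⟨k, hk⟩
      exact ⟨ObjectProperty.homMk k, ObjectProperty.hom_ext _ hk⟩
  rw [hfac, hrange]
  constructor
  · intro hsub Y' gY q' sq1 X' gX f' sq2
    rw [Groth.Agent.Lib.helper5.UnramLocus.unram_univInj_baseChange_iff X.2 Y.2 Y'.2 X'.2 hf sq1 sq2]
    intro z'
    have hz' := hsub ⟨z', rfl⟩
    rw [Set.mem_compl_iff, Set.mem_union, not_or, hpq] at hz'
    exact hz'
  · intro h
    rintro _ ⟨z', rfl⟩
    have sq1 : IsPullback (pullback.fst q.hom g.hom) (pullback.snd q.hom g.hom) q.hom g.hom :=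
      IsPullback.of_hasPullback _ _
    have hY' : AlgSp.IsAlgSpace (pullback q.hom g.hom) :=
      Groth.Agent.Lib.helper5.isAlgSpace_of_isPullback Z.2.diag Y.2 Z'.2 sq1
    have sq2 : IsPullback (pullback.fst f.hom (pullback.fst q.hom g.hom))
        (pullback.snd f.hom (pullback.fst q.hom g.hom)) f.hom (pullback.fst q.hom g.hom) :=
      IsPullback.of_hasPullback _ _
    have hX' : AlgSp.IsAlgSpace (pullback f.hom (pullback.fst q.hom g.hom)) :=
      Groth.Agent.Lib.helper5.isAlgSpace_of_isPullback Y.2.diag X.2 hY' sq2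
    have key := h ⟨_, hY'⟩ (ObjectProperty.homMk (pullback.fst q.hom g.hom))
      (ObjectProperty.homMk (pullback.snd q.hom g.hom)) sq1 ⟨_, hX'⟩
      (ObjectProperty.homMk (pullback.fst f.hom (pullback.fst q.hom g.hom)))
      (ObjectProperty.homMk (pullback.snd f.hom (pullback.fst q.hom g.hom))) sq2
    have key' := (Groth.Agent.Lib.helper5.UnramLocus.unram_univInj_baseChange_iff X.2 Y.2 hY' hX' hf sq1
      sq2).1 key z'
    rw [Set.mem_compl_iff, Set.mem_union, not_or, hpq]
    exact key'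


end Groth.Agent.S10640
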