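import Groth.Statements.S10642
import Groth.Agent.Lib.Helper5.AlgSpWhereFlat
import Groth.Agent.S9959

set_option autoImplicit false
universe u
open CategoryTheory CategoryTheory.Limits AlgebraicGeometry
open AlgSp

namespace Groth.Agent.S10642

/-- For morphisms f : X ⟶ Y, p : X ⟶ Z and q : Y ⟶ Z of algebraic spaces over S with f ≫ q = p, where p
is flat, closed and locally of finite presentation and q is locally of finite type, there is an open
subspace W of Z with the following property: a morphism of algebraic spaces g : Z' ⟶ Z factors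
through W exactly when the base change X' ⟶ Y' of f along g is flat. Here the base change of f along
g is any f' : X' ⟶ Y' obtained from pullback squares Y' = Y ×_Z Z' and X' = X ×_Y Y' of algebraic
spaces over S, and W ⊂ Z is given as a representable open immersion w : W ⟶ Z. -/
theorem result {S : Scheme.{u}} {X Y Z : AlgSp.Space S}
    (f : X ⟶ Y) (p : X ⟶ Z) (q : Y ⟶ Z) (hc : f ≫ q = p)
    (hp1 : AlgSp.LocP @LocallyOfFinitePresentation p.hom) (hp2 : AlgSp.LocP @Flat p.hom)
    (hp3 : AlgSp.IsClosedMor p.hom) (hq : AlgSp.LocP @LocallyOfFiniteType q.hom) :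
    ∃ (W : AlgSp.Space S) (w : W ⟶ Z), AlgSp.RepWith @IsOpenImmersion w.hom ∧
      ∀ (Z' : AlgSp.Space S) (g : Z' ⟶ Z),
        (∃ k : Z' ⟶ W, k ≫ w = g) ↔
          ∀ (Y' : AlgSp.Space S) (gY : Y' ⟶ Y) (q' : Y' ⟶ Z'),
            IsPullback gY.hom q'.hom q.hom g.hom →
            ∀ (X' : AlgSp.Space S) (gX : X' ⟶ X) (f' : X' ⟶ Y'),
              IsPullback gX.hom f'.hom f.hom gY.hom →
                AlgSp.LocP @Flat f'.hom := by
  have hfp : AlgSp.LocP @LocallyOfFinitePresentation (f ≫ q).hom := by rw [hc]; exact hp1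
  have hfl : AlgSp.LocP @Flat (f ≫ q).hom := by rw [hc]; exact hp2
  have hf : AlgSp.LocP @LocallyOfFinitePresentation f.hom := Groth.Agent.S9959.result f q hfp hq
  have hpq : p.hom = f.hom ≫ q.hom := congr($(hc.symm).hom)
  have hT : IsClosed {x : AlgSp.Points X.obj | ¬ AlgSp.IsFlatAtMor f.hom x} :=
    (Groth.Agent.Lib.helper5.AlgSpFlatLocus.isOpen_flatLocus X.2 Y.2 f.hom hf).isClosed_compl
  have hpT := hp3 _ hT
  obtain ⟨W, w, hw, hrange, -⟩ := Groth.Agent.Lib.helper5.OpenSub.exists_openSub Z _ hpT.isOpen_compl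
  refine ⟨W, w, hw, fun Z' g => ?_⟩
  have hfac : (∃ k : Z' ⟶ W, k ≫ w = g) ↔
      Set.range (AlgSp.Points.map g.hom) ⊆ Set.range (AlgSp.Points.map w.hom) := by
    rw [← Groth.Agent.Lib.helper5.OpenSub.factors_iff w.hom hw g.hom]
    constructor
    · rintro ⟨k, rfl⟩
      exact ⟨k.hom, rfl⟩
    · rintro ⟨k, hk⟩
      exact ⟨ObjectProperty.homMk k, ObjectProperty.hom_ext _ hk⟩
  rw [hfac, hrange]
  constructor
  · intro hsub Y' gY q' sq1 X' gX f' sq2
    rw [Groth.Agent.Lib.helper5.AlgSpFlatLocus.locP_flat_baseChange_iff X.2 Y.2 Z.2 Z'.2 hfp hfl hq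
      sq1 sq2]
    intro z' hz'
    rw [← hpq] at hz'
    exact hsub ⟨z', rfl⟩ hz'
  · intro h
    rintro _ ⟨z', rfl⟩ hz'
    have sq1 : IsPullback (pullback.fst q.hom g.hom) (pullback.snd q.hom g.hom) q.hom g.hom :=
      IsPullback.of_hasPullback _ _
    have hY' : AlgSp.IsAlgSpace (pullback q.hom g.hom) :=
      Groth.Agent.Lib.helper5.isAlgSpace_of_isPullback Z.2.diag Y.2 Z'.2 sq1
    have sq2 : IsPullback (pullback.fst f.hom (pullback.fst q.hom g.hom))
        (pullback.snd f.hom (pullback.fst q.hom g.hom)) f.hom (pullback.fst q.hom g.hom) :=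
      IsPullback.of_hasPullback _ _
    have hX' : AlgSp.IsAlgSpace (pullback f.hom (pullback.fst q.hom g.hom)) :=
      Groth.Agent.Lib.helper5.isAlgSpace_of_isPullback Y.2.diag X.2 hY' sq2
    have key := h ⟨_, hY'⟩ (ObjectProperty.homMk (pullback.fst q.hom g.hom))
      (ObjectProperty.homMk (pullback.snd q.hom g.hom)) sq1 ⟨_, hX'⟩
      (ObjectProperty.homMk (pullback.fst f.hom (pullback.fst q.hom g.hom)))
      (ObjectProperty.homMk (pullback.snd f.hom (pullback.fst q.hom g.hom))) sq2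
    have key' := (Groth.Agent.Lib.helper5.AlgSpFlatLocus.locP_flat_baseChange_iff X.2 Y.2 Z.2 Z'.2
      hfp hfl hq sq1 sq2).1 key
    apply key' z'
    rw [← hpq]
    exact hz'

end Groth.Agent.S10642
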