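import Groth.Statements.S10643
import Groth.Agent.Lib.Helper5.AlgSpWhereSurjFlat
import Groth.Agent.S9959

set_option autoImplicit false
universe u
open CategoryTheory CategoryTheory.Limits AlgebraicGeometry
open AlgSp

namespace Groth.Agent.S10643

/-- For morphisms f : X ⟶ Y, p : X ⟶ Z and q : Y ⟶ Z of algebraic spaces over S with f ≫ q = p, where p
is flat, closed and locally of finite presentation and q is closed and locally of finite type, there
is an open subspace W of Z with the following property: a morphism of algebraic spaces g : Z' ⟶ Z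
factors through W exactly when the base change X' ⟶ Y' of f along g is flat and surjective (on
points). Here the base change of f along g is any f' : X' ⟶ Y' obtained from pullback squares Y' = Y
×_Z Z' and X' = X ×_Y Y' of algebraic spaces over S, and W ⊂ Z is given as a representable open
immersion w : W ⟶ Z. -/
theorem result {S : Scheme.{u}} {X Y Z : AlgSp.Space S}
    (f : X ⟶ Y) (p : X ⟶ Z) (q : Y ⟶ Z) (hc : f ≫ q = p)
    (hp1 : AlgSp.LocP @LocallyOfFinitePresentation p.hom) (hp2 : AlgSp.LocP @Flat p.hom)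
    (hp3 : AlgSp.IsClosedMor p.hom) (hq1 : AlgSp.LocP @LocallyOfFiniteType q.hom)
    (hq2 : AlgSp.IsClosedMor q.hom) :
    ∃ (W : AlgSp.Space S) (w : W ⟶ Z), AlgSp.RepWith @IsOpenImmersion w.hom ∧
      ∀ (Z' : AlgSp.Space S) (g : Z' ⟶ Z),
        (∃ k : Z' ⟶ W, k ≫ w = g) ↔
          ∀ (Y' : AlgSp.Space S) (gY : Y' ⟶ Y) (q' : Y' ⟶ Z'),
            IsPullback gY.hom q'.hom q.hom g.hom →
            ∀ (X' : AlgSp.Space S) (gX : X' ⟶ X) (f' : X' ⟶ Y'),
              IsPullback gX.hom f'.hom f.hom gY.hom →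
                (AlgSp.IsSurjectiveMor f'.hom ∧ AlgSp.LocP @Flat f'.hom) := by
  open Groth.Agent.Lib.helper5 in
  have hfp : AlgSp.LocP @LocallyOfFinitePresentation (f ≫ q).hom := by rw [hc]; exact hp1
  have hfl : AlgSp.LocP @Flat (f ≫ q).hom := by rw [hc]; exact hp2
  have hf : AlgSp.LocP @LocallyOfFinitePresentation f.hom := Groth.Agent.S9959.result f q hfp hq1
  have hpq : p.hom = f.hom ≫ q.hom := congr($(hc.symm).hom)
  have hpq' : ∀ x, AlgSp.Points.map p.hom x = AlgSp.Points.map q.hom (AlgSp.Points.map f.hom x) := by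
    intro x; rw [hpq, AlgSp.Points.map_comp]
  have hT : IsClosed {x : AlgSp.Points X.obj | ¬ AlgSp.IsFlatAtMor f.hom x} :=
    (AlgSpFlatLocus.isOpen_flatLocus X.2 Y.2 f.hom hf).isClosed_compl
  have hpT := hp3 _ hT
  -- the open set over which `f` is flat
  set W₁ : Set (AlgSp.Points Z.obj) :=
    (AlgSp.Points.map p.hom '' {x : AlgSp.Points X.obj | ¬ AlgSp.IsFlatAtMor f.hom x})ᶜ with hW₁
  have hW₁o : IsOpen W₁ := hpT.isOpen_compl
  set A : Set (AlgSp.Points X.obj) := AlgSp.Points.map p.hom ⁻¹' W₁ with hA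
  have hAo : IsOpen A := hW₁o.preimage (AlgSp.Points.continuous_map p.hom)
  have hAfl : ∀ x ∈ A, AlgSp.IsFlatAtMor f.hom x := by
    intro x hx
    by_contra hcon
    exact hx ⟨x, hcon, rfl⟩
  have hBo : IsOpen (AlgSp.Points.map f.hom '' A) :=
    AlgSpFlatLocus.isOpen_image_of_flat f hf A hAo hAfl
  have hC := hq2 _ hBo.isClosed_compl
  have hWo : IsOpen (W₁ ∩ (AlgSp.Points.map q.hom '' (AlgSp.Points.map f.hom '' A)ᶜ)ᶜ) :=
    hW₁o.inter hC.isOpen_compl
  obtain ⟨W, w, hw, hrange, -⟩ := OpenSub.exists_openSub Z _ hWo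
  refine ⟨W, w, hw, fun Z' g => ?_⟩
  have hfac : (∃ k : Z' ⟶ W, k ≫ w = g) ↔
      Set.range (AlgSp.Points.map g.hom) ⊆ Set.range (AlgSp.Points.map w.hom) := by
    rw [← OpenSub.factors_iff w.hom hw g.hom]
    constructor
    · rintro ⟨k, rfl⟩
      exact ⟨k.hom, rfl⟩
    · rintro ⟨k, hk⟩
      exact ⟨ObjectProperty.homMk k, ObjectProperty.hom_ext _ hk⟩
  rw [hfac, hrange]
  constructor
  · intro hsub Y' gY q' sq1 X' gX f' sq2
    refine ⟨?_, ?_⟩
    · -- surjective
      intro y'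
      have hz : AlgSp.Points.map q.hom (AlgSp.Points.map gY.hom y') =
          AlgSp.Points.map g.hom (AlgSp.Points.map q'.hom y') := by
        rw [← AlgSp.Points.map_comp, ← AlgSp.Points.map_comp, sq1.w]
      have hmem := (hsub ⟨AlgSp.Points.map q'.hom y', rfl⟩).2
      have hyB : AlgSp.Points.map gY.hom y' ∈ AlgSp.Points.map f.hom '' A := by
        by_contra hcon
        exact hmem ⟨_, hcon, hz⟩
      obtain ⟨x, -, hx⟩ := hyB
      obtain ⟨x', -, hx'2⟩ := Groth.Agent.Lib.helper10.exists_point_of_isPullback sq2 x y' hx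
      exact ⟨x', hx'2⟩
    · rw [AlgSpFlatLocus.locP_flat_baseChange_iff X.2 Y.2 Z.2 Z'.2 hfp hfl hq1 sq1 sq2]
      intro z' hz'
      rw [← hpq] at hz'
      exact (hsub ⟨z', rfl⟩).1 hz'
  · intro h
    rintro _ ⟨z', rfl⟩
    have sq1 : IsPullback (pullback.fst q.hom g.hom) (pullback.snd q.hom g.hom) q.hom g.hom :=
      IsPullback.of_hasPullback _ _
    have hY' : AlgSp.IsAlgSpace (pullback q.hom g.hom) :=
      Groth.Agent.Lib.helper5.isAlgSpace_of_isPullback Z.2.diag Y.2 Z'.2 sq1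
    have sq2 : IsPullback (pullback.fst f.hom (pullback.fst q.hom g.hom))
        (pullback.snd f.hom (pullback.fst q.hom g.hom)) f.hom (pullback.fst q.hom g.hom) :=
      IsPullback.of_hasPullback _ _
    have hX' : AlgSp.IsAlgSpace (pullback f.hom (pullback.fst q.hom g.hom)) :=
      Groth.Agent.Lib.helper5.isAlgSpace_of_isPullback Y.2.diag X.2 hY' sq2
    obtain ⟨ksurj, kflat⟩ := h ⟨_, hY'⟩ (ObjectProperty.homMk (pullback.fst q.hom g.hom))
      (ObjectProperty.homMk (pullback.snd q.hom g.hom)) sq1 ⟨_, hX'⟩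
      (ObjectProperty.homMk (pullback.fst f.hom (pullback.fst q.hom g.hom)))
      (ObjectProperty.homMk (pullback.snd f.hom (pullback.fst q.hom g.hom))) sq2
    have key' := (AlgSpFlatLocus.locP_flat_baseChange_iff X.2 Y.2 Z.2 Z'.2
      hfp hfl hq1 sq1 sq2).1 kflat
    have h1 : AlgSp.Points.map g.hom z' ∈ W₁ := by
      intro hz'
      apply key' z'
      rw [← hpq]
      exact hz'
    refine ⟨h1, ?_⟩
    rintro ⟨y, hyB, hyz⟩
    obtain ⟨y', hy'1, hy'2⟩ := Groth.Agent.Lib.helper10.exists_point_of_isPullback sq1 y z' hyz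
    obtain ⟨x', hx'⟩ := ksurj y'
    apply hyB
    refine ⟨AlgSp.Points.map (pullback.fst f.hom (pullback.fst q.hom g.hom)) x', ?_, ?_⟩
    · show AlgSp.Points.map p.hom _ ∈ W₁
      rw [hpq', ← AlgSp.Points.map_comp _ f.hom, sq2.w, AlgSp.Points.map_comp]
      have hx'' : AlgSp.Points.map (pullback.snd f.hom (pullback.fst q.hom g.hom)) x' = y' := hx'
      rw [hx'', hy'1, hyz]
      exact h1
    · rw [← AlgSp.Points.map_comp _ f.hom, sq2.w, AlgSp.Points.map_comp]
      have hx'' : AlgSp.Points.map (pullback.snd f.hom (pullback.fst q.hom g.hom)) x' = y' := hx'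
      rw [hx'', hy'1]

end Groth.Agent.S10643
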