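import Groth.Statements.S10644
import Groth.Agent.Lib.Helper5.AlgSpWhereIso
import Groth.Agent.S9959
import Groth.Agent.S10278
import Groth.Agent.S10640
import Groth.Agent.S10643

set_option autoImplicit false
universe u
open CategoryTheory CategoryTheory.Limits AlgebraicGeometry
open AlgSp

namespace Groth.Agent.S10644

/-- For morphisms f : X ⟶ Y, p : X ⟶ Z and q : Y ⟶ Z of algebraic spaces over S with f ≫ q = p, where p
is flat, universally closed and locally of finite presentation and q is closed, separated and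
locally of finite type, there is an open subspace W of Z with the following property: a morphism of
algebraic spaces g : Z' ⟶ Z factors through W exactly when the base change X' ⟶ Y' of f along g is
an isomorphism. Here the base change of f along g is any f' : X' ⟶ Y' obtained from pullback squares
Y' = Y ×_Z Z' and X' = X ×_Y Y' of algebraic spaces over S, and W ⊂ Z is given as a representable
open immersion w : W ⟶ Z. -/
theorem result {S : Scheme.{u}} {X Y Z : AlgSp.Space S}
    (f : X ⟶ Y) (p : X ⟶ Z) (q : Y ⟶ Z) (hc : f ≫ q = p)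
    (hp1 : AlgSp.LocP @LocallyOfFinitePresentation p.hom) (hp2 : AlgSp.LocP @Flat p.hom)
    (hp3 : AlgSp.IsUnivClosedMor p.hom) (hq1 : AlgSp.LocP @LocallyOfFiniteType q.hom)
    (hq2 : AlgSp.IsClosedMor q.hom) (hq3 : AlgSp.IsSeparatedMor q.hom) :
    ∃ (W : AlgSp.Space S) (w : W ⟶ Z), AlgSp.RepWith @IsOpenImmersion w.hom ∧
      ∀ (Z' : AlgSp.Space S) (g : Z' ⟶ Z),
        (∃ k : Z' ⟶ W, k ≫ w = g) ↔
          ∀ (Y' : AlgSp.Space S) (gY : Y' ⟶ Y) (q' : Y' ⟶ Z'),
            IsPullback gY.hom q'.hom q.hom g.hom →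
            ∀ (X' : AlgSp.Space S) (gX : X' ⟶ X) (f' : X' ⟶ Y'),
              IsPullback gX.hom f'.hom f.hom gY.hom →
                IsIso f'.hom := by
  open Groth.Agent.Lib.helper5 in
  have hfp : AlgSp.LocP @LocallyOfFinitePresentation (f ≫ q).hom := by rw [hc]; exact hp1
  have hf : AlgSp.LocP @LocallyOfFinitePresentation f.hom := Groth.Agent.S9959.result f q hfp hq1
  have hplft : AlgSp.LocP @LocallyOfFiniteType p.hom := by
    intro U V a b h ha hb hcc
    have : LocallyOfFinitePresentation h.left := hp1 a b h ha hb hcc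
    exact (inferInstance : LocallyOfFiniteType h.left)
  have hpcl : AlgSp.IsClosedMor p.hom := AlgSpFlatLocus.isClosedMor_of_isUnivClosedMor Z.2 p.hom hp3
  have hfuc : AlgSp.IsUnivClosedMor f.hom := ((Groth.Agent.S10278.result f p q hc hq3).1 hp3).1
  -- the self fibre product
  have sqXX : IsPullback (pullback.fst f.hom f.hom) (pullback.snd f.hom f.hom) f.hom f.hom :=
    IsPullback.of_hasPullback _ _
  have hXX : AlgSp.IsAlgSpace (pullback f.hom f.hom) :=
    Groth.Agent.Lib.helper5.isAlgSpace_of_isPullback Y.2.diag X.2 X.2 sqXX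
  have hpr1 : AlgSp.IsClosedMor (pullback.snd f.hom f.hom) := hfuc X.2 f.hom _ _ sqXX
  have hpr1p : AlgSp.IsClosedMor ((ObjectProperty.homMk (pullback.snd f.hom f.hom) :
      (⟨_, hXX⟩ : AlgSp.Space S) ⟶ X) ≫ p).hom := by
    change IsClosedMap (AlgSp.Points.map (pullback.snd f.hom f.hom ≫ p.hom))
    have : AlgSp.Points.map (pullback.snd f.hom f.hom ≫ p.hom) =
        AlgSp.Points.map p.hom ∘ AlgSp.Points.map (pullback.snd f.hom f.hom) := by
      funext x; exact AlgSp.Points.map_comp _ _ x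
    rw [this]
    exact hpcl.comp hpr1
  obtain ⟨Wa, wa, hwa, hWa⟩ := Groth.Agent.S10640.result f p q hc ⟨_, hXX⟩
    (ObjectProperty.homMk (pullback.fst f.hom f.hom))
    (ObjectProperty.homMk (pullback.snd f.hom f.hom)) sqXX hplft hpcl hpr1p
  obtain ⟨Wb, wb, hwb, hWb⟩ := Groth.Agent.S10643.result f p q hc hp1 hp2 hpcl hq1 hq2
  have hWo : IsOpen (Set.range (AlgSp.Points.map wa.hom) ∩ Set.range (AlgSp.Points.map wb.hom)) :=
    (AlgSpWhereIso.isOpen_range_of_oi wa hwa).inter (AlgSpWhereIso.isOpen_range_of_oi wb hwb)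
  obtain ⟨W, w, hw, hrange, -⟩ := OpenSub.exists_openSub Z _ hWo
  refine ⟨W, w, hw, fun Z' g => ?_⟩
  have hfac : ∀ {W' : AlgSp.Space S} (w' : W' ⟶ Z), AlgSp.RepWith @IsOpenImmersion w'.hom →
      ((∃ k : Z' ⟶ W', k ≫ w' = g) ↔
        Set.range (AlgSp.Points.map g.hom) ⊆ Set.range (AlgSp.Points.map w'.hom)) := by
    intro W' w' hw'
    rw [← OpenSub.factors_iff w'.hom hw' g.hom]
    constructor
    · rintro ⟨k, rfl⟩
      exact ⟨k.hom, rfl⟩
    · rintro ⟨k, hk⟩
      exact ⟨ObjectProperty.homMk k, ObjectProperty.hom_ext _ hk⟩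
  rw [hfac w hw, hrange, Set.subset_inter_iff, ← hfac wa hwa, ← hfac wb hwb, hWa Z' g, hWb Z' g]
  constructor
  · rintro ⟨h1, h2⟩ Y' gY q' sq1 X' gX f' sq2
    obtain ⟨hun, hinj⟩ := h1 Y' gY q' sq1 X' gX f' sq2
    obtain ⟨hsurj, hfl⟩ := h2 Y' gY q' sq1 X' gX f' sq2
    have hfp' : AlgSp.LocP @LocallyOfFinitePresentation f'.hom :=
      LocPBC.locP_of_isPullback LocPBC.locPData_lfp X.2 Y.2 Y'.2 sq2 hf
    exact AlgSpWhereIso.isIso_of_flat_unram_univInj_surj f' hfp' hfl hun hinj hsurj
  · intro h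
    refine ⟨fun Y' gY q' sq1 X' gX f' sq2 => ?_, fun Y' gY q' sq1 X' gX f' sq2 => ?_⟩
    · haveI := h Y' gY q' sq1 X' gX f' sq2
      have het := AlgSpWhereIso.locP_etale_of_isIso f'.hom
      refine ⟨?_, AlgSpWhereIso.isUnivInjectiveMor_of_isIso f'.hom⟩
      intro U V a b k ha hb hcc
      have : Etale k.left := het a b k ha hb hcc
      exact ⟨(inferInstance : LocallyOfFiniteType k.left),
        (inferInstance : FormallyUnramified k.left)⟩
    · haveI := h Y' gY q' sq1 X' gX f' sq2
      have het := AlgSpWhereIso.locP_etale_of_isIso f'.hom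
      refine ⟨AlgSpWhereIso.isSurjectiveMor_of_isIso f'.hom, ?_⟩
      intro U V a b k ha hb hcc
      have : Etale k.left := het a b k ha hb hcc
      exact (inferInstance : Flat k.left)

end Groth.Agent.S10644
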