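import Groth.Statements.S10645
import Groth.Agent.LibAlgSpLciLocus29
-- import your own Groth.Agent.* helpers here

set_option autoImplicit false
universe u
open CategoryTheory CategoryTheory.Limits AlgebraicGeometry
open AlgSp

namespace Groth.Agent.S10645

/-- For morphisms f : X ⟶ Y, p : X ⟶ Z and q : Y ⟶ Z of algebraic spaces over S with f ≫ q = p, where p
is flat, closed and locally of finite presentation and q is flat and also locally of finite
presentation, there is an open subspace W of Z with the following property: a morphism of algebraic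
spaces g : Z' ⟶ Z factors through W exactly when the base change X' ⟶ Y' of f along g is a local
complete intersection (Koszul) morphism, i.e. Koszul at every point etale locally on source and
target. Here the base change of f along g is any f' : X' ⟶ Y' obtained from pullback squares Y' = Y
×_Z Z' and X' = X ×_Y Y' of algebraic spaces over S, and W ⊂ Z is given as a representable open
immersion w : W ⟶ Z. -/
theorem result {S : Scheme.{u}} {X Y Z : AlgSp.Space S}
    (f : X ⟶ Y) (p : X ⟶ Z) (q : Y ⟶ Z) (hc : f ≫ q = p)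
    (hp1 : AlgSp.LocP @Flat p.hom) (hp2 : AlgSp.LocP @LocallyOfFinitePresentation p.hom)
    (hp3 : AlgSp.IsClosedMor p.hom) (hq1 : AlgSp.LocP @Flat q.hom)
    (hq2 : AlgSp.LocP @LocallyOfFinitePresentation q.hom) :
    ∃ (W : AlgSp.Space S) (w : W ⟶ Z), AlgSp.RepWith @IsOpenImmersion w.hom ∧
      ∀ (Z' : AlgSp.Space S) (g : Z' ⟶ Z),
        (∃ k : Z' ⟶ W, k ≫ w = g) ↔
          ∀ (Y' : AlgSp.Space S) (gY : Y' ⟶ Y) (q' : Y' ⟶ Z'),
            IsPullback gY.hom q'.hom q.hom g.hom →
            ∀ (X' : AlgSp.Space S) (gX : X' ⟶ X) (f' : X' ⟶ Y'),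
              IsPullback gX.hom f'.hom f.hom gY.hom →
                AlgSp.IsLCIMor f'.hom := by
  have hpq : p.hom = f.hom ≫ q.hom := congr($(hc.symm).hom)
  have hP := Groth.Agent.LibAlgSpLciLocus29.etLocal_lci.{u}
  have hT : IsClosed {x : AlgSp.Points X.obj |
      ¬ AlgSp.HasAtMor (Groth.Agent.Lib.helper5.NearLocus.NearAt AlgSp.lci) f.hom x} :=
    (Groth.Agent.Lib.helper5.NearLocus.isOpen_nearLocus AlgSp.lci f.hom).isClosed_compl
  have hpT := hp3 _ hT
  obtain ⟨W, w, hw, hrange, -⟩ := Groth.Agent.Lib.helper5.OpenSub.exists_openSub Z _ hpT.isOpen_compl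
  refine ⟨W, w, hw, fun Z' g => ?_⟩
  have hfac : (∃ k : Z' ⟶ W, k ≫ w = g) ↔
      Set.range (AlgSp.Points.map g.hom) ⊆ Set.range (AlgSp.Points.map w.hom) := by
    rw [← Groth.Agent.Lib.helper5.OpenSub.factors_iff w.hom hw g.hom]
    constructor
    · rintro ⟨k, rfl⟩
      exact ⟨k.hom, rfl⟩
    · rintro ⟨k, hk⟩
      exact ⟨ObjectProperty.homMk k, ObjectProperty.hom_ext _ hk⟩
  rw [hfac, hrange]
  -- the base change criterion
  have crit : ∀ (Y' : AlgSp.Space S) (gY : Y' ⟶ Y) (q' : Y' ⟶ Z')
      (sq1 : IsPullback gY.hom q'.hom q.hom g.hom) (X' : AlgSp.Space S) (gX : X' ⟶ X)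
      (f' : X' ⟶ Y') (sq2 : IsPullback gX.hom f'.hom f.hom gY.hom),
      AlgSp.IsLCIMor f'.hom ↔ ∀ z' : AlgSp.Points Z'.obj, AlgSp.Points.map g.hom z' ∉
        AlgSp.Points.map p.hom '' {x : AlgSp.Points X.obj |
          ¬ AlgSp.HasAtMor (Groth.Agent.Lib.helper5.NearLocus.NearAt AlgSp.lci) f.hom x} := by
    intro Y' gY q' sq1 X' gX f' sq2
    have hbc := fun x' => Groth.Agent.LibAlgSpLciLocus29.hasAtMor_lci_baseChange_iff f p q hc hp1 hp2
      hq1 hq2 g gY q' sq1 gX f' sq2 x'
    constructor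
    · intro h z' hz'
      obtain ⟨x, hxT, hxz⟩ := hz'
      have hxz' : AlgSp.Points.map q.hom (AlgSp.Points.map f.hom x) = AlgSp.Points.map g.hom z' := by
        rw [← AlgSp.Points.map_comp, ← hpq]; exact hxz
      obtain ⟨y', hy'1, hy'2⟩ := Groth.Agent.Lib.helper10.exists_point_of_isPullback sq1.flip z'
        (AlgSp.Points.map f.hom x) hxz'.symm
      obtain ⟨x', hx'1, hx'2⟩ := Groth.Agent.Lib.helper10.exists_point_of_isPullback sq2 x y'
        hy'2.symm
      have h1 := Groth.Agent.Lib.helper5.NearLocus.hasAtMor_of_locP hP X'.property Y'.property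
        f'.hom h x'
      rw [hbc x', hx'1] at h1
      exact hxT h1
    · intro h
      refine Groth.Agent.Lib.helper5.NearLocus.locP_of_forall_hasAtMor hP f'.hom (fun x' => ?_)
      rw [hbc x']
      by_contra hcon
      refine h (AlgSp.Points.map q'.hom (AlgSp.Points.map f'.hom x'))
        ⟨AlgSp.Points.map gX.hom x', hcon, ?_⟩
      rw [hpq, ← AlgSp.Points.map_comp, ← AlgSp.Points.map_comp, ← AlgSp.Points.map_comp]
      congr 1
      rw [← Category.assoc, sq2.w, Category.assoc, sq1.w]
  constructor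
  · intro hsub Y' gY q' sq1 X' gX f' sq2
    rw [crit Y' gY q' sq1 X' gX f' sq2]
    intro z' hz'
    exact hsub ⟨z', rfl⟩ hz'
  · intro h
    rintro _ ⟨z', rfl⟩ hz'
    have sq1 : IsPullback (pullback.fst q.hom g.hom) (pullback.snd q.hom g.hom) q.hom g.hom :=
      IsPullback.of_hasPullback _ _
    have hY' : AlgSp.IsAlgSpace (pullback q.hom g.hom) :=
      Groth.Agent.Lib.helper5.isAlgSpace_of_isPullback Z.2.diag Y.2 Z'.2 sq1
    have sq2 : IsPullback (pullback.fst f.hom (pullback.fst q.hom g.hom))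
        (pullback.snd f.hom (pullback.fst q.hom g.hom)) f.hom (pullback.fst q.hom g.hom) :=
      IsPullback.of_hasPullback _ _
    have hX' : AlgSp.IsAlgSpace (pullback f.hom (pullback.fst q.hom g.hom)) :=
      Groth.Agent.Lib.helper5.isAlgSpace_of_isPullback Y.2.diag X.2 hY' sq2
    have key := h ⟨_, hY'⟩ (ObjectProperty.homMk (pullback.fst q.hom g.hom))
      (ObjectProperty.homMk (pullback.snd q.hom g.hom)) sq1 ⟨_, hX'⟩
      (ObjectProperty.homMk (pullback.fst f.hom (pullback.fst q.hom g.hom)))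
      (ObjectProperty.homMk (pullback.snd f.hom (pullback.fst q.hom g.hom))) sq2
    have key' := (crit ⟨_, hY'⟩ (ObjectProperty.homMk (pullback.fst q.hom g.hom))
      (ObjectProperty.homMk (pullback.snd q.hom g.hom)) sq1 ⟨_, hX'⟩
      (ObjectProperty.homMk (pullback.fst f.hom (pullback.fst q.hom g.hom)))
      (ObjectProperty.homMk (pullback.snd f.hom (pullback.fst q.hom g.hom))) sq2).1 key
    exact key' z' hz'

end Groth.Agent.S10645
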