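import Groth.Statements.S10650
import Groth.Agent.Lib.Helper1.QFin
import Groth.Agent.Lib.Helper5.AlgSpLqfLocus
import Groth.Agent.S10275

set_option autoImplicit false
universe u
open CategoryTheory CategoryTheory.Limits AlgebraicGeometry
open AlgSp

namespace Groth.Agent.S10650

open Groth.Agent.Lib.helper5 Groth.Agent.Lib.helper5.NearLocus Groth.Agent.Lib.helper5.LqfLocus

theorem main {S : Scheme.{u}} {X Y : AlgSp.Space S} (f : X ⟶ Y) (y : AlgSp.Points Y.obj)
    (hf : AlgSp.IsProperMor f.hom)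
    (hq : ∀ x : AlgSp.Points X.obj, AlgSp.Points.map f.hom x = y →
      AlgSp.HasAtMor (fun U _ h u => ∃ W : U.Opens, u ∈ W ∧ LocallyQuasiFinite (W.ι ≫ h) ∧ LocallyOfFiniteType (W.ι ≫ h)) f.hom x) :
    ∃ (V : AlgSp.Space S) (j : V ⟶ Y), AlgSp.RepWith @IsOpenImmersion j.hom ∧
      y ∈ Set.range (AlgSp.Points.map j.hom) ∧
        ∀ (P : AlgSp.Space S) (fst : P ⟶ X) (snd : P ⟶ V), IsPullback fst.hom snd.hom f.hom j.hom →
          AlgSp.IsFiniteMor snd.hom := by
  obtain ⟨hsep, ⟨hlft, hqc⟩, hcl⟩ := hf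
  let Ω : Set (Points X.obj) := {x | HasAtMor (NearAt Plqf) f.hom x}
  have hΩ : IsOpen Ω := isOpen_nearLocus Plqf f.hom
  have hclosed : IsClosedMap (Points.map f.hom) :=
    hcl Y.property (𝟙 _) (𝟙 _) f.hom (IsPullback.of_horiz_isIso ⟨by simp⟩)
  let C : Set (Points Y.obj) := Points.map f.hom '' Ωᶜ
  have hC : IsClosed C := hclosed _ hΩ.isClosed_compl
  have hy : y ∉ C := by
    rintro ⟨x, hx, hxy⟩
    exact hx (hq x hxy)
  obtain ⟨V, j, hj, hrange, -⟩ := OpenSub.exists_openSub Y Cᶜ hC.isOpen_compl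
  refine ⟨V, j, hj, by rw [hrange]; exact hy, ?_⟩
  intro P fst snd sq
  have hprop : IsProperMor snd.hom :=
    Groth.Agent.S10275.result f j fst snd sq ⟨hsep, ⟨hlft, hqc⟩, hcl⟩
  obtain ⟨hsep', -, hcl'⟩ := hprop
  have hlqf : LocP (@LocallyQuasiFinite ⊓ @LocallyOfFiniteType) snd.hom := by
    apply locP_of_forall_hasAtMor etLocal_lqf
    intro p
    rw [lqfLocus_baseChange X.property Y.property V.property sq hlft p]
    by_contra hp
    have h1 : Points.map f.hom (Points.map fst.hom p) ∈ C := ⟨_, hp, rfl⟩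
    have h2 : Points.map f.hom (Points.map fst.hom p) ∈ Cᶜ := by
      rw [← hrange, ← Points.map_comp, sq.w, Points.map_comp]
      exact ⟨_, rfl⟩
    exact h2 h1
  exact Groth.Agent.H1.QFin.isFiniteMor_of_sep_lqf_univClosed P.property V.property snd.hom hsep' hlqf hcl'

/-- For a proper morphism f : X ⟶ Y of algebraic spaces over S and a point y of |Y| such that f is
quasi-finite at every point of |X| lying over y (for each such point some etale chart diagram
through it has top arrow locally quasi-finite and locally of finite type on an open neighbourhood),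
there is an open subspace V of Y containing y such that the base change X ×_Y V ⟶ V is finite. -/
theorem result {S : Scheme.{u}} {X Y : AlgSp.Space S} (f : X ⟶ Y) (y : AlgSp.Points Y.obj)
    (hf : AlgSp.IsProperMor f.hom)
    (hq : ∀ x : AlgSp.Points X.obj, AlgSp.Points.map f.hom x = y →
      AlgSp.HasAtMor (fun U _ h u => ∃ W : U.Opens, u ∈ W ∧ LocallyQuasiFinite (W.ι ≫ h) ∧ LocallyOfFiniteType (W.ι ≫ h)) f.hom x) :
    ∃ (V : AlgSp.Space S) (j : V ⟶ Y), AlgSp.RepWith @IsOpenImmersion j.hom ∧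
      y ∈ Set.range (AlgSp.Points.map j.hom) ∧
        ∀ (P : AlgSp.Space S) (fst : P ⟶ X) (snd : P ⟶ V), IsPullback fst.hom snd.hom f.hom j.hom →
          AlgSp.IsFiniteMor snd.hom := by
  exact main f y hf hq

end Groth.Agent.S10650
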