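import Groth.Statements.S10653
import Groth.Agent.Lib.Helper11.AlgSpBasic
import Groth.Agent.Lib.Helper3.FlatFibreDimLSC2
import Groth.Agent.Lib.Helper5.AlgSpThickRelDim
import Groth.Agent.Lib.Helper5.AlgSpUniv2
import Groth.Agent.Lib.Helper7.AlgSpQC
import Groth.Agent.Lib.Helper10.AlgSpPoints

set_option autoImplicit false
universe u
open CategoryTheory CategoryTheory.Limits AlgebraicGeometry
open AlgSp

namespace Groth.Agent.S10653

/-- For a flat morphism f : X ⟶ Y of algebraic spaces over S which is locally of finite type, and an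
open subspace j : V ⟶ Y with |V| dense in |Y| such that the base change X ×_Y V ⟶ V has relative
dimension at most d (at every point some etale chart diagram has top arrow with local fibre
dimension at most d): if either j is quasi-compact or f is locally of finite presentation, then f
has relative dimension at most d at every point of |X|. -/
theorem result {S : Scheme.{u}} {X Y V : AlgSp.Space S} (f : X ⟶ Y) (j : V ⟶ Y) (d : ℕ)
    (hf1 : AlgSp.LocP @Flat f.hom) (hf2 : AlgSp.LocP @LocallyOfFiniteType f.hom)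
    (hj1 : AlgSp.RepWith @IsOpenImmersion j.hom) (hj2 : Dense (Set.range (AlgSp.Points.map j.hom)))
    (P : AlgSp.Space S) (fst : P ⟶ X) (snd : P ⟶ V) (hP : IsPullback fst.hom snd.hom f.hom j.hom)
    (hV : ∀ x, AlgSp.HasAtMor (fun _ _ h u => FlatMor.fibreDimAt h u ≤ (d : WithBot ℕ∞)) snd.hom x)
    (h : AlgSp.LocP @LocallyOfFinitePresentation f.hom ∨ AlgSp.IsQuasiCompactMor j.hom) :
    ∀ x, AlgSp.HasAtMor (fun _ _ h u => FlatMor.fibreDimAt h u ≤ (d : WithBot ℕ∞)) f.hom x := by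
  classical
  intro x
  -- `j` and `fst` are representable etale
  have hje : AlgSp.RepWith @Etale j.hom :=
    ⟨hj1.1, fun U V g fst snd sq => by
      haveI : IsOpenImmersion snd.left := hj1.2 g fst snd sq
      exact (inferInstance : Etale snd.left)⟩
  have hfste : AlgSp.RepWith @Etale fst.hom :=
    (AlgSp.RepWith (S := S) @Etale).of_isPullback hP.flip hje
  have hjopen : IsOpen (Set.range (AlgSp.Points.map j.hom)) :=
    (Groth.Agent.Lib.helper5.isOpenMap_map_of_repWith_etale j.hom hje).isOpen_range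
  obtain ⟨U, V₀, a, b, h₀, u, hae, hbe, hc, hu⟩ :=
    Groth.Agent.Lib.helper5.LocPFam.exists_chart_at_point X.property Y.property f.hom x
  haveI : Flat h₀.left := hf1 a b h₀ hae hbe hc
  haveI : LocallyOfFiniteType h₀.left := hf2 a b h₀ hae hbe hc
  have hcont : Continuous (AlgSp.Points.ofPt b) := AlgSp.Points.continuous_ofPt b
  set U₀ : V₀.left.Opens :=
    ⟨AlgSp.Points.ofPt b ⁻¹' Set.range (AlgSp.Points.map j.hom), hjopen.preimage hcont⟩ with hU₀
  have hdense : Dense (U₀ : Set ↥V₀.left) :=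
    hj2.preimage (Groth.Agent.Lib.helper11.isOpenMap_ofPt b hbe)
  -- the bound over `U₀`
  have hle : ∀ u' : ↥U.left, h₀.left.base u' ∈ U₀ →
      FlatMor.fibreDimAt h₀.left u' ≤ (d : WithBot ℕ∞) := by
    intro u' hu'
    obtain ⟨v, hv⟩ := hu'
    have hfx : AlgSp.Points.map f.hom (AlgSp.Points.ofPt a u') = AlgSp.Points.map j.hom v := by
      rw [AlgSp.Points.map_ofPt, hc, Groth.Agent.Lib.helper11.ofPt_yon_map_comp]
      exact hv.symm
    obtain ⟨p, hp1, -⟩ := Groth.Agent.Lib.helper10.exists_point_of_isPullback hP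
      (AlgSp.Points.ofPt a u') v hfx
    obtain ⟨U₁, V₁, a₁, b₁, h₁, u₁, ha₁e, hb₁e, hc₁, hu₁, hQ₁⟩ := hV p
    have hd : AlgSp.HasAtMor (fun _ _ h u => FlatMor.fibreDimAt h u ≤ (d : WithBot ℕ∞)) f.hom
        (AlgSp.Points.ofPt a u') := by
      refine ⟨U₁, V₁, a₁ ≫ fst.hom, b₁ ≫ j.hom, h₁, u₁,
        (AlgSp.RepWith (S := S) @Etale).comp_mem _ _ ha₁e hfste,
        (AlgSp.RepWith (S := S) @Etale).comp_mem _ _ hb₁e hje, ?_, ?_, hQ₁⟩
      · rw [Category.assoc, hP.w, ← Category.assoc, hc₁, Category.assoc]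
      · rw [← AlgSp.Points.map_ofPt, hu₁, hp1]
    exact Groth.Agent.Lib.helper5.ThickRelDim.locPAt_fibreDim_of_hasAtMor f.hom
      (AlgSp.Points.ofPt a u') (fun e => e ≤ (d : WithBot ℕ∞)) hd a b h₀ u' hae hbe hc rfl
  -- finite presentation or retrocompactness
  have hor : LocallyOfFinitePresentation h₀.left ∨ IsRetrocompact (U₀ : Set ↥V₀.left) := by
    rcases h with hlfp | hqc
    · exact Or.inl (hlfp a b h₀ hae hbe hc)
    · refine Or.inr ?_
      intro K hKc hKo
      set Ko : V₀.left.Opens := ⟨K, hKo⟩ with hKo'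
      obtain ⟨hbKe, hbKpt⟩ := Groth.Agent.Lib.helper11.chart_comp b hbe Ko.ι
      set T : Over S := Over.mk (Ko.ι ≫ V₀.hom) with hT
      set bK : (AlgSp.yon S).obj T ⟶ Y.obj :=
        (AlgSp.yon S).map (Over.homMk (U := Over.mk (Ko.ι ≫ V₀.hom)) Ko.ι rfl) ≫ b with hbK
      haveI hTc : CompactSpace ↥T.left := isCompact_iff_compactSpace.mp hKc
      have hqcT : AlgSp.IsQuasiCompactSp ((AlgSp.yon S).obj T) :=
        ⟨T, 𝟙 _, AlgSp.repWith_id @Etale T, AlgSp.repWith_id @Surjective T, hTc⟩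
      obtain ⟨W, sndW, fstW, hpb⟩ := hj1.rep bK
      have hqcW : AlgSp.IsQuasiCompactSp ((AlgSp.yon S).obj W) :=
        hqc (IsAlgSpace.yon_obj T) hqcT bK fstW ((AlgSp.yon S).map sndW) hpb
      haveI := Groth.Agent.Lib.helper7.AlgSpQC.compactSpace_of_isQuasiCompactSp_yon W hqcW
      have hset : (U₀ : Set ↥V₀.left) ∩ K = Ko.ι '' (Set.range sndW.left) := by
        ext k
        constructor
        · rintro ⟨⟨v, hv⟩, hkK⟩
          have hk' : AlgSp.Points.map j.hom v = AlgSp.Points.ofPt bK (⟨k, hkK⟩ : ↥Ko) := by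
            rw [hbKpt]; exact hv
          obtain ⟨w, -, hw⟩ := Groth.Agent.Lib.helper11.exists_of_isPullback_scheme hpb v
            (⟨k, hkK⟩ : ↥Ko) hk'
          exact ⟨_, ⟨w, hw⟩, rfl⟩
        · rintro ⟨_, ⟨w, rfl⟩, rfl⟩
          refine ⟨⟨AlgSp.Points.ofPt fstW w, ?_⟩, (sndW.left w).2⟩
          rw [AlgSp.Points.map_ofPt, hpb.w, Groth.Agent.Lib.helper11.ofPt_yon_map_comp, hbKpt]
      rw [hset]
      exact (isCompact_range sndW.left.continuous).image Ko.ι.continuous
  have hfin := Groth.Agent.Lib.helper3.FlatFibreDimLSC.fibreDimAt_le_of_le_over_dense_open h₀.left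
    U₀ hdense d hle hor u
  exact ⟨U, V₀, a, b, h₀, u, hae, hbe, hc, hu, hfin⟩

end Groth.Agent.S10653
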