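import Groth.Statements.S10654
import Groth.Agent.S10653
import Groth.Agent.S10649
import Groth.Agent.Lib.Helper3.FlatFiniteDense
import Groth.Agent.Lib.Helper5.GrpHomLocus2

set_option autoImplicit false
universe u
open CategoryTheory CategoryTheory.Limits AlgebraicGeometry
open AlgSp

namespace Groth.Agent.S10654

/-- For a flat proper morphism f : X ⟶ Y of algebraic spaces over S and an open subspace j : V ⟶ Y with
|V| dense in |Y| such that the base change X ×_Y V ⟶ V is finite: f is finite over all of Y,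
provided either j is quasi-compact or f is locally of finite presentation. -/
theorem result {S : Scheme.{u}} {X Y V : AlgSp.Space S} (f : X ⟶ Y) (j : V ⟶ Y)
    (hf1 : AlgSp.LocP @Flat f.hom) (hf2 : AlgSp.IsProperMor f.hom)
    (hj1 : AlgSp.RepWith @IsOpenImmersion j.hom) (hj2 : Dense (Set.range (AlgSp.Points.map j.hom)))
    (P : AlgSp.Space S) (fst : P ⟶ X) (snd : P ⟶ V) (hP : IsPullback fst.hom snd.hom f.hom j.hom)
    (hV : AlgSp.IsFiniteMor snd.hom)
    (h : AlgSp.LocP @LocallyOfFinitePresentation f.hom ∨ AlgSp.IsQuasiCompactMor j.hom) :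
    AlgSp.IsFiniteMor f.hom := by
  have hlft : AlgSp.LocP @LocallyOfFiniteType f.hom := hf2.2.1.1
  have hsnd : AlgSp.IsProperMor snd.hom ∧
      AlgSp.LocP (@LocallyQuasiFinite ⊓ @LocallyOfFiniteType) snd.hom :=
    ((Groth.Agent.S10649.result snd).out 0 1).1 hV
  have hV' : ∀ x, AlgSp.HasAtMor
      (fun _ _ h u => FlatMor.fibreDimAt h u ≤ ((0 : ℕ) : WithBot ℕ∞)) snd.hom x := by
    intro x
    obtain ⟨U, V₀, a, b, h₀, u, hae, hbe, hc, hu⟩ :=
      Groth.Agent.Lib.helper5.LocPFam.exists_chart_at_point P.property V.property snd.hom x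
    have h1 := hsnd.2 a b h₀ hae hbe hc
    haveI : LocallyQuasiFinite h₀.left := h1.1
    haveI : LocallyOfFiniteType h₀.left := h1.2
    refine ⟨U, V₀, a, b, h₀, u, hae, hbe, hc, hu, ?_⟩
    show FlatMor.fibreDimAt h₀.left u ≤ ((0 : ℕ) : WithBot ℕ∞)
    rw [(Groth.Agent.Lib.helper5.GrpHomLocus.quasiFiniteAt_iff_fibreDimAt h₀.left u).1
      (h₀.left.quasiFiniteAt u)]
    exact le_of_eq (by simp)
  have hall := Groth.Agent.S10653.result f j 0 hf1 hlft hj1 hj2 P fst snd hP hV' h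
  have hlqf : AlgSp.LocP (@LocallyQuasiFinite ⊓ @LocallyOfFiniteType) f.hom := by
    intro U W a b h₀ hae hbe hc
    haveI : LocallyOfFiniteType h₀.left := hlft a b h₀ hae hbe hc
    refine ⟨?_, inferInstance⟩
    apply Groth.Agent.Lib.helper3.FlatFibreDimLSC.locallyQuasiFinite_of_fibreDimAt_le_zero
    intro u
    exact Groth.Agent.Lib.helper5.ThickRelDim.locPAt_fibreDim_of_hasAtMor f.hom
      (AlgSp.Points.ofPt a u) (fun e => e ≤ ((0 : ℕ) : WithBot ℕ∞)) (hall _) a b h₀ u hae hbe hc rfl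
  have hiff : AlgSp.IsFiniteMor f.hom ↔ (AlgSp.IsProperMor f.hom ∧
      AlgSp.LocP (@LocallyQuasiFinite ⊓ @LocallyOfFiniteType) f.hom) :=
    (Groth.Agent.S10649.result f).out 0 1
  exact hiff.2 ⟨hf2, hlqf⟩

end Groth.Agent.S10654
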