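import Groth.Statements.S10659
-- import your own Groth.Agent.* helpers here

set_option autoImplicit false
universe u
open CategoryTheory CategoryTheory.Limits AlgebraicGeometry
open AlgSp

namespace Groth.Agent.S10659

/-- A property that is étale-local on the target is stable under étale base change. -/
theorem etale_bc {P : MorphismProperty Scheme.{u}} [P.IsLocalAtTarget Scheme.etalePrecoverage]
    {X Y Y' X' : Scheme.{u}} {f : X ⟶ Y} {t : Y' ⟶ Y} [Etale t]
    {a : X' ⟶ X} {b : X' ⟶ Y'} (sq : IsPullback a b f t) (hf : P f) : P b := by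
  have hR : Presieve.ofArrows (fun i : Bool => if i then Y' else Y)
      (fun i : Bool => show (if i then Y' else Y) ⟶ Y from
        match i with
        | true => t
        | false => 𝟙 Y) ∈ Scheme.etalePrecoverage Y := by
    rw [Scheme.etalePrecoverage, Scheme.ofArrows_mem_precoverage_iff]
    refine ⟨fun x => ⟨false, x, rfl⟩, ?_⟩
    rintro (_ | _)
    · exact (inferInstance : Etale (𝟙 Y))
    · exact (inferInstance : Etale t)
  have h := MorphismProperty.IsLocalAtTarget.pullbackSnd (P := P) (K := Scheme.etalePrecoverage)
    (f := f) hR (Presieve.ofArrows.mk true) hf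
  have h' : P (pullback.snd f t) := h
  rw [← sq.isoPullback_inv_snd] at h'
  exact (P.cancel_left_of_respectsIso _ _).1 h'

/-- étale descent along a single étale surjective morphism. -/
theorem descend {P : MorphismProperty Scheme.{u}} [P.IsLocalAtTarget Scheme.etalePrecoverage]
    {X Y Y' X' : Scheme.{u}} {f : X ⟶ Y} {t : Y' ⟶ Y} [Etale t]
    [Surjective t] {a : X' ⟶ X} {b : X' ⟶ Y'} (sq : IsPullback a b f t) (hb : P b) : P f := by
  refine MorphismProperty.IsLocalAtTarget.of_forall_pullbackSnd (K := Scheme.etalePrecoverage)
    (R := Presieve.singleton t) ?_ ?_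
  · rw [Scheme.etalePrecoverage, Scheme.singleton_mem_precoverage_iff]
    exact ⟨t.surjective, inferInstance⟩
  · rintro U g' _ ⟨⟩
    rw [← sq.isoPullback_inv_snd]
    exact (P.cancel_left_of_respectsIso _ _).2 hb

/-- For a property P of morphisms of schemes that is etale local on the target (local for the etale
precoverage) and a representable morphism f : X ⟶ Y of algebraic spaces over S: if for one scheme V
with a representable etale surjective b : h_V ⟶ Y and one pullback square of f along b with corner
h_W the projection W ⟶ V has P, then f has P etale locally on the target in the representable sense,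
i.e. every such projection along every etale h_V ⟶ Y has P. (The published statement also asserts
the converse direction and that, for X and Y representable, the condition is equivalent to f having
P; this row states only that one surjective etale chart suffices.) -/
theorem result {S : Scheme.{u}} (P : MorphismProperty Scheme.{u}) [P.IsLocalAtTarget Scheme.etalePrecoverage]
    {X Y : AlgSp.Space S} (f : X ⟶ Y) (hf : AlgSp.Representable f.hom)
    {V W : Over S} (b : (AlgSp.yon S).obj V ⟶ Y.obj) (hb1 : AlgSp.RepWith @Etale b) (hb2 : AlgSp.RepWith @Surjective b)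
    (fst : (AlgSp.yon S).obj W ⟶ X.obj) (snd : W ⟶ V)
    (sq : IsPullback fst ((AlgSp.yon S).map snd) f.hom b) (hP : P snd.left) :
    AlgSp.RepLocT P f.hom := by
  refine ⟨hf, ?_⟩
  intro T W' h fst_h s hhe sqh
  -- pull back the chart `b` along `h`
  obtain ⟨T', t, fst_q, sqq⟩ := hb1.rep h
  obtain ⟨β, rfl⟩ := (AlgSp.yon S).map_surjective fst_q
  have hte : Etale t.left := hb1.2 _ _ t sqq
  have hts : Surjective t.left := hb2.2 _ _ t sqq
  have hβe : Etale β.left := hhe.2 b _ β sqq.flip
  -- the fibre product of `s` and `t` in `Over S`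
  have sq1 : IsPullback (pullback.fst s t) (pullback.snd s t) s t := IsPullback.of_hasPullback s t
  have sq2 := (sq1.map (AlgSp.yon S)).paste_horiz sqh
  have e : (AlgSp.yon S).map t ≫ h = (AlgSp.yon S).map β ≫ b := sqq.w.symm
  rw [e] at sq2
  obtain ⟨c, hc⟩ := (AlgSp.yon S).map_surjective
    (sq.lift ((AlgSp.yon S).map (pullback.fst s t) ≫ fst_h)
      ((AlgSp.yon S).map (pullback.snd s t) ≫ (AlgSp.yon S).map β) (by rw [sq2.w, Category.assoc]))
  have hc1 : (AlgSp.yon S).map c ≫ fst = (AlgSp.yon S).map (pullback.fst s t) ≫ fst_h := by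
    rw [hc, sq.lift_fst]
  have hc2 : (AlgSp.yon S).map c ≫ (AlgSp.yon S).map snd =
      (AlgSp.yon S).map (pullback.snd s t) ≫ (AlgSp.yon S).map β := by
    rw [hc, sq.lift_snd]
  rw [← hc1] at sq2
  have sq3 : IsPullback ((AlgSp.yon S).map c) ((AlgSp.yon S).map (pullback.snd s t))
      ((AlgSp.yon S).map snd) ((AlgSp.yon S).map β) := IsPullback.of_right sq2 hc2 sq
  have sq4 : IsPullback c (pullback.snd s t) snd β :=
    IsPullback.of_map (AlgSp.yon S) ((AlgSp.yon S).map_injective (by simpa using hc2)) sq3
  have sq5 := sq4.map (Over.forget S)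
  have hβe' : Etale ((Over.forget S).map β) := hβe
  have hb : P (pullback.snd s t).left := @etale_bc P _ _ _ _ _ _ _ hβe' _ _ sq5 hP
  have sq6 : IsPullback (pullback.fst s t).left (pullback.snd s t).left s.left t.left :=
    sq1.map (Over.forget S)
  exact @descend P _ _ _ _ _ _ _ hte hts _ _ sq6 hb

end Groth.Agent.S10659
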