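import Groth.Statements.S8905
import Groth.Agent.LibRegImmBasic29
import Groth.Agent.Lib.Helper7.KoszulLow
import Groth.Agent.S2103
-- import your own Groth.Agent.* helpers here

set_option autoImplicit false
universe u
open CategoryTheory CategoryTheory.Limits AlgebraicGeometry TopologicalSpace
open SDiv

namespace Groth.Agent.S8905

theorem of_seq_imp {Z X : Scheme.{u}} (i : Z ⟶ X) (k k' : RegImm.Kind)
    (himp : ∀ (R : Type u) [CommRing R] (rs : List R), k.Seq R rs → k'.Seq R rs)
    (h : RegImm.IsRegularImmersion k i) : RegImm.IsRegularImmersion k' i := by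
  refine ⟨h.1, fun z => ?_⟩
  obtain ⟨W, hzW, hcl, rs, hrs, hker⟩ := h.2 z
  exact ⟨W, hzW, hcl, rs, himp _ rs hrs, hker⟩


/-- Let i : Z ⟶ X be an immersion of schemes. If i is a regular immersion then it is Koszul-regular; if
Koszul-regular then H_1-regular; if H_1-regular then quasi-regular. -/
theorem result {Z X : Scheme.{u}} (i : Z ⟶ X) :
    (RegImm.IsRegularImmersion RegImm.Kind.regular i → RegImm.IsRegularImmersion RegImm.Kind.koszul i) ∧
      (RegImm.IsRegularImmersion RegImm.Kind.koszul i → RegImm.IsRegularImmersion RegImm.Kind.h1 i) ∧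
      (RegImm.IsRegularImmersion RegImm.Kind.h1 i → RegImm.IsRegularImmersion RegImm.Kind.quasi i) := by
  refine ⟨of_seq_imp i _ _ fun R _ rs h => Groth.Agent.LibRegImmBasic29.seq_koszul_of_regular rs h,
    of_seq_imp i _ _ fun R _ rs h => ?_, of_seq_imp i _ _ fun R _ rs h => ?_⟩
  · exact Groth.Agent.Lib.helper7.KoszulLow.isH1Regular_of_isKoszulRegularSeq R rs h
  · exact Groth.Agent.S2103.result rs.get h

end Groth.Agent.S8905
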