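import Groth.Statements.S5003
import Groth.Agent.S8905
import Groth.Agent.LibQuasiRegNoeth29
import Groth.Agent.LibSeqFlat29
import Groth.Agent.LibRegImmComp29
import Groth.Agent.Lib.Helper17.RegNear
universe u
open CategoryTheory CategoryTheory.Limits AlgebraicGeometry TopologicalSpace
open Nrm16
namespace Groth.Agent.S5003

theorem ofFn_comp_get {A B : Type*} (φ : A → B) (rs : List A) :
    List.ofFn (φ ∘ rs.get) = rs.map φ := by
  apply List.ext_getElem
  · simp
  · intro n h1 h2
    simp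

/-- quasi-regular at a point ⟹ regular at that point, over a locally Noetherian scheme. -/
theorem regular_at_of_quasi_at {X Y : Scheme.{u}} [IsLocallyNoetherian X] (j : Y ⟶ X) (z : Y)
    (h : RegImm.IsRegularImmersionAt RegImm.Kind.quasi j z) :
    RegImm.IsRegularImmersionAt RegImm.Kind.regular j z := by
  obtain ⟨U, hzU, hcl, rs, hrs, hker⟩ := h
  haveI := hcl
  haveI : IsNoetherianRing Γ(X, U.1) := IsLocallyNoetherian.component_noetherian U
  obtain ⟨hV, hs⟩ := Groth.Agent.LibRegImmStalk29.affine_and_app_surjective_of_restrict j U.1 U.2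
  have hcomap : (hV.primeIdealOf ⟨z, hzU⟩).asIdeal.comap (j.app U.1).hom =
      (U.2.primeIdealOf ⟨j z, hzU⟩).asIdeal := by
    have := IsAffineOpen.comap_primeIdealOf_appLE (f := j) (x := z) U.1 U.2 (j ⁻¹ᵁ U.1) hV
      le_rfl hzU
    rw [Scheme.Hom.appLE_eq_app] at this
    exact congrArg PrimeSpectrum.asIdeal this
  have hle : RingHom.ker (j.app U.1).hom ≤ (U.2.primeIdealOf ⟨j z, hzU⟩).asIdeal := by
    intro a ha
    rw [← hcomap, Ideal.mem_comap, RingHom.mem_ker.mp ha]
    exact Ideal.zero_mem _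
  letI := X.presheaf.algebra_section_stalk (⟨j z, hzU⟩ : U.1)
  haveI ip : IsLocalization.AtPrime (X.presheaf.stalk (j z))
      (U.2.primeIdealOf ⟨j z, hzU⟩).asIdeal := U.2.isLocalization_stalk ⟨j z, hzU⟩
  haveI : IsNoetherianRing (X.presheaf.stalk (j z)) :=
    IsLocalization.isNoetherianRing (U.2.primeIdealOf ⟨j z, hzU⟩).asIdeal.primeCompl _ inferInstance
  have hflat : (algebraMap Γ(X, U.1) (X.presheaf.stalk (j z))).Flat := by
    rw [RingHom.flat_algebraMap_iff]
    exact IsLocalization.flat _ (U.2.primeIdealOf ⟨j z, hzU⟩).asIdeal.primeCompl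
  have hq := Groth.Agent.LibSeqFlat29.isQuasiRegular_map_of_flat
    (algebraMap Γ(X, U.1) (X.presheaf.stalk (j z))) hflat rs.get hrs
  have hm : ∀ i, (algebraMap Γ(X, U.1) (X.presheaf.stalk (j z)) ∘ rs.get) i ∈
      IsLocalRing.maximalIdeal (X.presheaf.stalk (j z)) := by
    intro i
    rw [Function.comp_apply, IsLocalization.AtPrime.to_map_mem_maximal_iff _
      (U.2.primeIdealOf ⟨j z, hzU⟩).asIdeal]
    apply hle
    rw [hker]
    exact Ideal.subset_span (List.get_mem _ _)
  have hw := Groth.Agent.LibQuasiRegNoeth29.isWeaklyRegular_of_isQuasiRegular rs.length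
    (X.presheaf.stalk (j z)) _ hq hm
  rw [ofFn_comp_get] at hw
  have hK : (RingHom.ker (j.app U.1).hom).map (algebraMap Γ(X, U.1) (X.presheaf.stalk (j z))) =
      Ideal.ofList (rs.map (algebraMap Γ(X, U.1) (X.presheaf.stalk (j z)))) := by
    rw [hker, Ideal.map_ofList]
  obtain ⟨g, hg, ks, -, -, hB⟩ := Groth.Agent.Lib.helper17.RegNear.spread_regular'
    (U.2.primeIdealOf ⟨j z, hzU⟩).asIdeal
    (RingHom.ker (j.app U.1).hom) hle (X.presheaf.stalk (j z)) _ hw hK
  haveI := U.2.isLocalization_basicOpen g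
  obtain ⟨hreg, hideal⟩ := hB Γ(X, X.basicOpen g)
  obtain ⟨hcl', hker'⟩ := Groth.Agent.LibRegImmComp29.restrict_of_le j U.1 U.2 (X.basicOpen g)
    (U.2.basicOpen g) (X.basicOpen_le g)
  refine ⟨⟨X.basicOpen g, U.2.basicOpen g⟩, ?_, hcl',
    ks.map (algebraMap Γ(X, U.1) Γ(X, X.basicOpen g)), hreg, ?_⟩
  · change j z ∈ X.basicOpen g
    rw [Scheme.mem_basicOpen _ _ _ hzU]
    exact (IsLocalization.AtPrime.isUnit_to_map_iff (X.presheaf.stalk (j z))
      (U.2.primeIdealOf ⟨j z, hzU⟩).asIdeal g).mpr hg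
  · rw [← hideal]
    exact hker'

/-- Let X be a locally Noetherian scheme and j : Y ⟶ X a morphism. Then j is a regular immersion if and
only if j is a quasi-regular immersion. -/
theorem result {X Y : Scheme.{u}} [IsLocallyNoetherian X] (j : Y ⟶ X) :
    RegImm.IsRegularImmersion RegImm.Kind.regular j ↔ RegImm.IsRegularImmersion RegImm.Kind.quasi j := by
  constructor
  · intro h
    obtain ⟨h1, h2, h3⟩ := Groth.Agent.S8905.result j
    exact h3 (h2 (h1 h))
  · rintro ⟨himm, h⟩
    exact ⟨himm, fun z => regular_at_of_quasi_at j z (h z)⟩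
end Groth.Agent.S5003
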