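import Groth.Statements.S10661
import Groth.Agent.S5003
import Groth.Agent.S8906
import Groth.Agent.LibRegImmKindFppf29
universe u
open CategoryTheory CategoryTheory.Limits AlgebraicGeometry
open AlgSp
namespace Groth.Agent.S10661

/-- on a locally Noetherian scheme all four kinds of regular immersions agree. -/
theorem kinds_agree {X Y : Scheme.{u}} [IsLocallyNoetherian X] (j : Y ⟶ X) (k k' : RegImm.Kind)
    (h : RegImm.IsRegularImmersion k j) : RegImm.IsRegularImmersion k' j := by
  obtain ⟨h1, h2, h3⟩ := Groth.Agent.S8905.result j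
  have hq : RegImm.IsRegularImmersion .quasi j := by
    cases k
    · exact h3 (h2 (h1 h))
    · exact h3 (h2 h)
    · exact h3 h
    · exact h
  have hr := (Groth.Agent.S5003.result j).2 hq
  cases k'
  · exact hr
  · exact h1 hr
  · exact h2 (h1 hr)
  · exact hq

theorem change_kind {S : Scheme.{u}} {Z X : AlgSp.Space S} (i : Z ⟶ X)
    (hi : AlgSp.RepWith @IsImmersion i.hom) (hX : AlgSp.IsLocNoethSp X.obj)
    (k k' : RegImm.Kind) (hk' : k' ≠ RegImm.Kind.regular)
    (h : AlgSp.IsRegImmMor k i.hom) : AlgSp.IsRegImmMor k' i.hom := by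
  refine ⟨h.1, ?_⟩
  intro V W b fst snd hb sq
  have himm : IsImmersion snd.left := hi.2 b fst snd sq
  have hk : RegImm.IsRegularImmersion k snd.left := h.2 b fst snd hb sq
  obtain ⟨U₀, p, hpet, hpsurj, hU₀⟩ := hX
  have hprep := hpet.rep
  have sqV := hprep.isPullback b
  set p' : hprep.pullback b ⟶ V := hprep.snd b with hp'
  have hp'et : Etale p'.left := hpet.property_snd b
  have hp'surj : Surjective p'.left := hpsurj.property_snd b
  obtain ⟨q, hq⟩ := (yon S).map_surjective (hprep.fst b)
  have hqet' : RepWith @Etale ((yon S).map q) := by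
    rw [hq]
    exact (RepWith (S := S) @Etale).of_isPullback sqV.flip hb
  have hqet : Etale q.left := (repWith_yon_map_iff @Etale q).1 hqet'
  haveI := hU₀
  haveI : IsLocallyNoetherian (hprep.pullback b).left :=
    LocallyOfFiniteType.isLocallyNoetherian q.left
  haveI := hp'et
  haveI := hp'surj
  haveI := himm
  have h1 : RegImm.IsRegularImmersion k (pullback.snd snd.left p'.left) :=
    Groth.Agent.S8906.result snd.left k hk p'.left
  have h2 : RegImm.IsRegularImmersion k' (pullback.snd snd.left p'.left) :=
    kinds_agree _ k k' h1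
  exact Groth.Agent.LibRegImmKindFppf29.isRegularImmersion_of_fppf k' hk'
    snd.left p'.left (pullback.snd snd.left p'.left) (pullback.fst snd.left p'.left)
    (IsPullback.of_hasPullback _ _) h2

/-- For an immersion i : Z ⟶ X of algebraic spaces over S with X locally Noetherian (some etale
surjective chart is a locally Noetherian scheme), the three conditions Koszul-regular immersion,
H_1-regular immersion and quasi-regular immersion on i are equivalent. -/
theorem result {S : Scheme.{u}} {Z X : AlgSp.Space S} (i : Z ⟶ X) (hi : AlgSp.RepWith @IsImmersion i.hom)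
    (hX : AlgSp.IsLocNoethSp X.obj) :
    (AlgSp.IsRegImmMor RegImm.Kind.koszul i.hom ↔ AlgSp.IsRegImmMor RegImm.Kind.h1 i.hom) ∧
      (AlgSp.IsRegImmMor RegImm.Kind.h1 i.hom ↔ AlgSp.IsRegImmMor RegImm.Kind.quasi i.hom) := by
  exact ⟨⟨change_kind i hi hX _ _ (by decide), change_kind i hi hX _ _ (by decide)⟩,
    ⟨change_kind i hi hX _ _ (by decide), change_kind i hi hX _ _ (by decide)⟩⟩
end Groth.Agent.S10661
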