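import Groth.Statements.S10664
import Groth.Agent.LibAlgSpLci29
import Groth.Agent.S8656
import Groth.Agent.LibRegImmKindFppf29
-- import your own Groth.Agent.* helpers here

set_option autoImplicit false
universe u
open CategoryTheory CategoryTheory.Limits AlgebraicGeometry
open AlgSp

namespace Groth.Agent.S10664

/-- For a local complete intersection (Koszul) morphism f : X ⟶ Y of algebraic spaces over S, a smooth g
: P ⟶ Y, an etale e : U ⟶ X and a representable immersion i : U ⟶ P with i ≫ g = e ≫ f, the
immersion i is Koszul-regular as an immersion of algebraic spaces. -/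
theorem result {S : Scheme.{u}} {X Y P U : AlgSp.Space S} (f : X ⟶ Y) (g : P ⟶ Y) (e : U ⟶ X) (i : U ⟶ P)
    (hc : i ≫ g = e ≫ f) (hf : AlgSp.IsLCIMor f.hom) (hg : AlgSp.LocP @Smooth g.hom)
    (he : AlgSp.IsEtaleMor e.hom) (hi : AlgSp.RepWith @IsImmersion i.hom) :
    AlgSp.IsRegImmMor RegImm.Kind.koszul i.hom := by
  refine ⟨hi.1, ?_⟩
  intro V W b fst snd hb sq
  have himm : IsImmersion snd.left := hi.2 b fst snd sq
  have hfst : RepWith @Etale fst := (RepWith (S := S) @Etale).of_isPullback sq.flip hb
  obtain ⟨Y₀, c, hcet, hcsurj⟩ := Y.property.atlas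
  have hcrep := hcet.rep
  have sqV := hcrep.isPullback (b ≫ g.hom)
  set p : hcrep.pullback (b ≫ g.hom) ⟶ V := hcrep.snd (b ≫ g.hom) with hp
  have hpet : Etale p.left := hcet.property_snd (b ≫ g.hom)
  have hpsurj : Surjective p.left := hcsurj.property_snd (b ≫ g.hom)
  obtain ⟨q, hq⟩ := (yon S).map_surjective (hcrep.fst (b ≫ g.hom))
  have hb' : RepWith @Etale ((yon S).map p ≫ b) :=
    (repWith_isMultiplicative (S := S) @Etale).comp_mem _ _
      ((repWith_yon_map_iff @Etale p).2 hpet) hb
  have comm'' : ((yon S).map p ≫ b) ≫ g.hom = (yon S).map q ≫ c := by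
    rw [Category.assoc, hq, sqV.w]
  have hqs : Smooth q.left := hg _ c q hb' hcet comm''
  have sqW : IsPullback (pullback.fst snd p) (pullback.snd snd p) snd p :=
    IsPullback.of_hasPullback snd p
  have sqW' := sqW.map (Over.forget S)
  set e' := pullback.fst snd p with he'
  set snd' := pullback.snd snd p with hsnd'
  have he'et : Etale e'.left := MorphismProperty.of_isPullback (P := @Etale) sqW'.flip hpet
  have himm' : IsImmersion snd'.left :=
    MorphismProperty.of_isPullback (P := @IsImmersion) sqW' himm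
  have ha1 : RepWith @Etale ((yon S).map e' ≫ fst) :=
    (repWith_isMultiplicative (S := S) @Etale).comp_mem _ _
      ((repWith_yon_map_iff @Etale e').2 he'et) hfst
  have ha2 : RepWith @Etale (((yon S).map e' ≫ fst) ≫ e.hom) := he _ ha1
  have h1 : e.hom ≫ f.hom = i.hom ≫ g.hom := (congrArg (fun t => t.hom) hc).symm
  have commf : (((yon S).map e' ≫ fst) ≫ e.hom) ≫ f.hom = (yon S).map (snd' ≫ q) ≫ c := by
    rw [Category.assoc, Category.assoc, h1, ← Category.assoc fst, sq.w, Category.assoc,
      ← Functor.map_comp_assoc, sqW.w, Functor.map_comp, Functor.map_comp, Category.assoc,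
      Category.assoc, hq, sqV.w]
  have hlci : AlgSp.lci (snd' ≫ q).left := hf _ c (snd' ≫ q) ha2 hcet commf
  haveI := hqs
  haveI := himm'
  have hreg' : RegImm.IsRegularImmersion .koszul snd'.left :=
    Groth.Agent.S8656.result (snd' ≫ q).left hlci q.left snd'.left rfl
  haveI := hpsurj
  haveI := himm
  exact Groth.Agent.LibRegImmKindFppf29.isRegularImmersion_of_fppf .koszul (by decide)
    snd.left p.left snd'.left e'.left sqW' hreg'

end Groth.Agent.S10664
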