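import Groth.Statements.S10665
import Groth.Agent.LibAlgSpLci29
import Groth.Agent.S9773
import Groth.Agent.Lib.Helper5.AlgSpLocPBC
-- import your own Groth.Agent.* helpers here

set_option autoImplicit false
universe u
open CategoryTheory CategoryTheory.Limits AlgebraicGeometry
open AlgSp

namespace Groth.Agent.S10665

/-- A Koszul-regular immersion between algebraic spaces over S (representable, Koszul-regular immersion
on every etale scheme chart of the target) is a local complete intersection morphism (Koszul at
every point, etale locally on source and target). -/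
theorem result {S : Scheme.{u}} {X Y : AlgSp.Space S} (i : X ⟶ Y) (hi : AlgSp.IsRegImmMor RegImm.Kind.koszul i.hom) :
    AlgSp.IsLCIMor i.hom := by
  intro U V a b h ha hb comm
  obtain ⟨hrep, hprop⟩ := hi
  have sqW := hrep.isPullback b
  have hW : RegImm.IsRegularImmersion .koszul (hrep.snd b).left :=
    hprop b (hrep.fst b) (hrep.snd b) hb sqW
  obtain ⟨m', hm1, hm2⟩ := sqW.exists_lift a ((yon S).map h) comm
  obtain ⟨m, rfl⟩ := (yon S).map_surjective m'
  have hfst : RepWith @Etale (hrep.fst b) := (RepWith (S := S) @Etale).of_isPullback sqW.flip hb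
  have hm : RepWith @Etale ((yon S).map m) :=
    Groth.Agent.Lib.helper5.LocPBC.repWith_etale_of_comp _ (hrep.fst b) hfst (by rw [hm1]; exact ha)
  have hm' : Etale m.left := (repWith_yon_map_iff _ _).1 hm
  have hh : h = m ≫ hrep.snd b := (yon S).map_injective (by rw [Functor.map_comp, hm2])
  rw [hh, Over.comp_left]
  exact Groth.Agent.LibAlgSpLci29.lci_comp _ _ (Groth.Agent.LibAlgSpLci29.lci_of_smooth _)
    (fun z => Groth.Agent.S9773.result _ .koszul (Or.inr rfl) hW z)

end Groth.Agent.S10665
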