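import Groth.Statements.S10669
import Groth.Agent.Lib.Helper5.DvrReduced1
import Groth.Agent.Lib.Helper5.AlgSpGR3
import Groth.Agent.Lib.Helper5.AlgSpProperImage
import Groth.Agent.Lib.Helper9.ReducedLocus

set_option autoImplicit false
universe u
open CategoryTheory CategoryTheory.Limits AlgebraicGeometry
open AlgSp

namespace Groth.Agent.S10669

/-- Chart-level core: stalks of an étale chart at points over the closed point are reduced. -/
theorem stalk_reduced_of_chart (R : Type u) [CommRing R] [IsDomain R] [IsDiscreteValuationRing R]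
    {X : AlgSp.Space (Spec (CommRingCat.of R))}
    (s : X.obj ⟶ (AlgSp.yon (Spec (CommRingCat.of R))).obj (Over.mk (𝟙 _)))
    (hs2 : AlgSp.LocP @Flat s) (hs3 : AlgSp.LocP @LocallyOfFiniteType s)
    (h0 : ∀ (X0 : AlgSp.Sp (Spec (CommRingCat.of R))) (fst : X0 ⟶ X.obj)
      (snd : X0 ⟶ (AlgSp.yon (Spec (CommRingCat.of R))).obj
        (Over.mk (Spec.map (CommRingCat.ofHom (IsLocalRing.residue R))))),
      IsPullback fst snd s ((AlgSp.yon (Spec (CommRingCat.of R))).map
        (Over.homMk (Spec.map (CommRingCat.ofHom (IsLocalRing.residue R))) (Category.comp_id _) :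
          Over.mk (Spec.map (CommRingCat.ofHom (IsLocalRing.residue R))) ⟶ Over.mk (𝟙 _))) →
      AlgSp.EtaleLocally (fun U => IsReduced U) X0)
    {U : Over (Spec (CommRingCat.of R))}
    (a : (AlgSp.yon (Spec (CommRingCat.of R))).obj U ⟶ X.obj) (hae : AlgSp.RepWith @Etale a)
    (t : U ⟶ Over.mk (𝟙 (Spec (CommRingCat.of R))))
    (ht : (AlgSp.yon (Spec (CommRingCat.of R))).map t = a ≫ s)
    (u : ↥U.left) (hu : t.left u = IsLocalRing.closedPoint R) :
    _root_.IsReduced (U.left.presheaf.stalk u) := by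
  have hc : a ≫ s = (AlgSp.yon (Spec (CommRingCat.of R))).map t ≫ 𝟙 _ := by
    rw [Category.comp_id, ht]
  have hide : AlgSp.RepWith @Etale (𝟙 ((AlgSp.yon (Spec (CommRingCat.of R))).obj
      (Over.mk (𝟙 (Spec (CommRingCat.of R)))))) := AlgSp.repWith_id @Etale _
  haveI hfl : Flat t.left := hs2 a (𝟙 _) t hae hide hc
  haveI hft : LocallyOfFiniteType t.left := hs3 a (𝟙 _) t hae hide hc
  haveI : IsLocallyNoetherian (Over.mk (𝟙 (Spec (CommRingCat.of R)))).left :=
    (inferInstance : IsLocallyNoetherian (Spec (CommRingCat.of R)))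
  haveI : IsLocallyNoetherian U.left := LocallyOfFiniteType.isLocallyNoetherian t.left
  let w : Over.mk (Spec.map (CommRingCat.ofHom (IsLocalRing.residue R))) ⟶
      Over.mk (𝟙 (Spec (CommRingCat.of R))) :=
    Over.homMk (Spec.map (CommRingCat.ofHom (IsLocalRing.residue R))) (Category.comp_id _)
  have sqQ : IsPullback (pullback.fst s ((AlgSp.yon (Spec (CommRingCat.of R))).map w))
      (pullback.snd s ((AlgSp.yon (Spec (CommRingCat.of R))).map w)) s
      ((AlgSp.yon (Spec (CommRingCat.of R))).map w) := IsPullback.of_hasPullback _ _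
  have hQred := h0 _ _ _ sqQ
  have sqQ' : IsPullback (pullback.fst s ((AlgSp.yon (Spec (CommRingCat.of R))).map w))
      (pullback.snd s ((AlgSp.yon (Spec (CommRingCat.of R))).map w)) s
      ((AlgSp.yon (Spec (CommRingCat.of R))).map w ≫ 𝟙 _) := by
    rw [Category.comp_id]; exact sqQ
  obtain ⟨j, hje, -, -⟩ := Groth.Agent.Lib.helper5.AlgSpGR.exists_etale_chart_bc s a (𝟙 _) t hc
    (Groth.Agent.Lib.helper5.AlgSpGR.repWith_etale_lift s a (𝟙 _) t hae hide hc) w _ _ sqQ'
  haveI hred : IsReduced (pullback t w).left :=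
    Groth.Agent.H1.EtaleReduced.isReduced_of_chart hQred j hje
  have sqP : IsPullback (pullback.fst t w).left (pullback.snd t w).left t.left w.left :=
    (IsPullback.of_hasPullback t w).map (Over.forget _)
  have hred' : IsReduced (pullback t.left w.left) := isReduced_of_isOpenImmersion sqP.isoPullback.inv
  exact Groth.Agent.Lib.helper5.DvrReduced.isReduced_stalk_of_special_fibre R t.left hred' u hu

/-- The total space is reduced. -/
theorem reduced_total (R : Type u) [CommRing R] [IsDomain R] [IsDiscreteValuationRing R]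
    {X : AlgSp.Space (Spec (CommRingCat.of R))}
    (s : X.obj ⟶ (AlgSp.yon (Spec (CommRingCat.of R))).obj (Over.mk (𝟙 _)))
    (hs1 : AlgSp.IsProperMor s) (hs2 : AlgSp.LocP @Flat s)
    (h0 : ∀ (X0 : AlgSp.Sp (Spec (CommRingCat.of R))) (fst : X0 ⟶ X.obj)
      (snd : X0 ⟶ (AlgSp.yon (Spec (CommRingCat.of R))).obj
        (Over.mk (Spec.map (CommRingCat.ofHom (IsLocalRing.residue R))))),
      IsPullback fst snd s ((AlgSp.yon (Spec (CommRingCat.of R))).map
        (Over.homMk (Spec.map (CommRingCat.ofHom (IsLocalRing.residue R))) (Category.comp_id _) :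
          Over.mk (Spec.map (CommRingCat.ofHom (IsLocalRing.residue R))) ⟶ Over.mk (𝟙 _))) →
      AlgSp.EtaleLocally (fun U => IsReduced U) X0) :
    AlgSp.EtaleLocally (fun U => IsReduced U) X.obj := by
  classical
  obtain ⟨U, p, hpe, hps⟩ := X.property.atlas
  refine ⟨U, p, hpe, hps, ?_⟩
  show IsReduced U.left
  obtain ⟨t, ht⟩ := (AlgSp.yon (Spec (CommRingCat.of R))).map_surjective (p ≫ s)
  have hc : p ≫ s = (AlgSp.yon (Spec (CommRingCat.of R))).map t ≫ 𝟙 _ := by
    rw [Category.comp_id, ht]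
  have hide : AlgSp.RepWith @Etale (𝟙 ((AlgSp.yon (Spec (CommRingCat.of R))).obj
      (Over.mk (𝟙 (Spec (CommRingCat.of R)))))) := AlgSp.repWith_id @Etale _
  haveI hft : LocallyOfFiniteType t.left := hs1.2.1.1 p (𝟙 _) t hpe hide hc
  haveI : IsLocallyNoetherian (Over.mk (𝟙 (Spec (CommRingCat.of R)))).left :=
    (inferInstance : IsLocallyNoetherian (Spec (CommRingCat.of R)))
  haveI : IsLocallyNoetherian U.left := LocallyOfFiniteType.isLocallyNoetherian t.left
  have hN : ∀ W : U.left.affineOpens, (nilradical Γ(U.left, W)).FG := by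
    intro W
    haveI : IsNoetherianRing Γ(U.left, W) := IsLocallyNoetherian.component_noetherian W
    exact IsNoetherian.noetherian _
  have hRd := Groth.Agent.Lib.helper9.isOpen_setOf_isReduced_stalk U.left hN
  have hsat : ∀ u u' : ↥U.left, AlgSp.Points.ofPt p u = AlgSp.Points.ofPt p u' →
      _root_.IsReduced (U.left.presheaf.stalk u) → _root_.IsReduced (U.left.presheaf.stalk u') := by
    intro u u' huu hu
    have hat : AlgSp.HasAt (fun U u => _root_.IsReduced (U.presheaf.stalk u)) X.obj
        (AlgSp.Points.ofPt p u) := ⟨U, p, u, hpe, rfl, hu⟩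
    exact (Groth.Agent.Lib.helper5.ChartInd.hasAt_iff_forall
      (Q := fun U u => _root_.IsReduced (U.presheaf.stalk u))
      (fun {V U} g _ v => Groth.Agent.Lib.helper5.ChartInd.isReduced_stalk_iff_of_etale g v)
      X (AlgSp.Points.ofPt p u)).1 hat U p u' hpe huu.symm
  have hO : IsOpen (AlgSp.Points.ofPt p '' {u : ↥U.left | _root_.IsReduced (U.left.presheaf.stalk u)}) :=
    Groth.Agent.Lib.helper11.isOpenMap_ofPt p hpe _ hRd
  have hcl : IsClosedMap (AlgSp.Points.map s) :=
    Groth.Agent.Lib.helper5.ProperSurj.isClosedMor_of_isUnivClosedMor (AlgSp.IsAlgSpace.yon_obj _) hs1.2.2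
  have hall : ∀ u : ↥U.left, _root_.IsReduced (U.left.presheaf.stalk u) := by
    by_contra hne
    push Not at hne
    obtain ⟨u1, hu1⟩ := hne
    have hx1 : AlgSp.Points.ofPt p u1 ∈
        (AlgSp.Points.ofPt p '' {u : ↥U.left | _root_.IsReduced (U.left.presheaf.stalk u)})ᶜ := by
      rintro ⟨u', hu', huu⟩
      exact hu1 (hsat u' u1 huu hu')
    have hCim := hcl _ hO.isClosed_compl
    have hspec : (AlgSp.Points.toScheme _ (AlgSp.Points.map s (AlgSp.Points.ofPt p u1))) ⤳
        IsLocalRing.closedPoint R := IsLocalRing.specializes_closedPoint _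
    have hspec' := hspec.map (AlgSp.Points.schemeHomeo (Over.mk (𝟙 (Spec (CommRingCat.of R))))).continuous
    have h1 : (AlgSp.Points.schemeHomeo (Over.mk (𝟙 (Spec (CommRingCat.of R)))))
        (AlgSp.Points.toScheme _ (AlgSp.Points.map s (AlgSp.Points.ofPt p u1))) =
        AlgSp.Points.map s (AlgSp.Points.ofPt p u1) := AlgSp.Points.ofScheme_toScheme _ _
    rw [h1] at hspec'
    have hmem : (AlgSp.Points.schemeHomeo (Over.mk (𝟙 (Spec (CommRingCat.of R)))))
        (IsLocalRing.closedPoint R) ∈ AlgSp.Points.map s ''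
          (AlgSp.Points.ofPt p '' {u : ↥U.left | _root_.IsReduced (U.left.presheaf.stalk u)})ᶜ := by
      have h2 := specializes_iff_mem_closure.mp hspec'
      have hsub : ({AlgSp.Points.map s (AlgSp.Points.ofPt p u1)} : Set _) ⊆ AlgSp.Points.map s ''
          (AlgSp.Points.ofPt p '' {u : ↥U.left | _root_.IsReduced (U.left.presheaf.stalk u)})ᶜ :=
        Set.singleton_subset_iff.2 ⟨_, hx1, rfl⟩
      exact closure_minimal hsub hCim h2
    obtain ⟨x0, hx0C, hx0⟩ := hmem
    obtain ⟨u0, rfl⟩ := Groth.Agent.Lib.helper11.surjective_ofPt p hps x0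
    have hu0 : t.left u0 = IsLocalRing.closedPoint R := by
      rw [AlgSp.Points.map_ofPt, ← ht, Groth.Agent.Lib.helper11.ofPt_yon_map] at hx0
      exact (AlgSp.Points.schemeEquiv _).injective hx0
    exact hx0C ⟨u0, stalk_reduced_of_chart R s hs2 hs1.2.1.1 h0 p hpe t ht u0 hu0, rfl⟩
  haveI := hall
  exact isReduced_of_isReduced_stalk _

end Groth.Agent.S10669

namespace Groth.Agent.S10669

/-- For a discrete valuation ring R with residue field κ and fraction field K and an algebraic space X
over Spec R whose structure morphism s (to the terminal sheaf h_{Spec R}) is flat and proper: if the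
special fibre X ×_{Spec R} Spec κ is reduced (some etale surjective scheme chart is reduced), then X
is reduced and so is the generic fibre X ×_{Spec R} Spec K. -/
theorem result (R : Type u) [CommRing R] [IsDomain R] [IsDiscreteValuationRing R]
    {X : AlgSp.Space (Spec (CommRingCat.of R))}
    (s : X.obj ⟶ (AlgSp.yon (Spec (CommRingCat.of R))).obj (Over.mk (𝟙 _)))
    (hs1 : AlgSp.IsProperMor s) (hs2 : AlgSp.LocP @Flat s)
    (h0 : ∀ (X0 : AlgSp.Sp (Spec (CommRingCat.of R))) (fst : X0 ⟶ X.obj)
      (snd : X0 ⟶ (AlgSp.yon (Spec (CommRingCat.of R))).obj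
        (Over.mk (Spec.map (CommRingCat.ofHom (IsLocalRing.residue R))))),
      IsPullback fst snd s ((AlgSp.yon (Spec (CommRingCat.of R))).map
        (Over.homMk (Spec.map (CommRingCat.ofHom (IsLocalRing.residue R))) (Category.comp_id _) :
          Over.mk (Spec.map (CommRingCat.ofHom (IsLocalRing.residue R))) ⟶ Over.mk (𝟙 _))) →
      AlgSp.EtaleLocally (fun U => IsReduced U) X0) :
    AlgSp.EtaleLocally (fun U => IsReduced U) X.obj ∧
      ∀ (Xη : AlgSp.Sp (Spec (CommRingCat.of R))) (fst : Xη ⟶ X.obj)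
        (snd : Xη ⟶ (AlgSp.yon (Spec (CommRingCat.of R))).obj
          (Over.mk (Spec.map (CommRingCat.ofHom (algebraMap R (FractionRing R)))))),
        IsPullback fst snd s ((AlgSp.yon (Spec (CommRingCat.of R))).map
          (Over.homMk (Spec.map (CommRingCat.ofHom (algebraMap R (FractionRing R)))) (Category.comp_id _) :
            Over.mk (Spec.map (CommRingCat.ofHom (algebraMap R (FractionRing R)))) ⟶ Over.mk (𝟙 _))) →
        AlgSp.EtaleLocally (fun U => IsReduced U) Xη := by
  have hX := reduced_total R s hs1 hs2 h0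
  refine ⟨hX, ?_⟩
  intro Xη fst snd sq
  haveI hoi : IsOpenImmersion (Spec.map (CommRingCat.ofHom (algebraMap R (FractionRing R)))) :=
    Groth.Agent.Lib.helper5.DvrReduced.isOpenImmersion_spec_fractionRing R
  have hη : AlgSp.RepWith @Etale ((AlgSp.yon (Spec (CommRingCat.of R))).map
      (Over.homMk (Spec.map (CommRingCat.ofHom (algebraMap R (FractionRing R)))) (Category.comp_id _) :
        Over.mk (Spec.map (CommRingCat.ofHom (algebraMap R (FractionRing R)))) ⟶ Over.mk (𝟙 _))) := by
    rw [AlgSp.repWith_yon_map_iff]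
    show Etale (Spec.map (CommRingCat.ofHom (algebraMap R (FractionRing R))))
    infer_instance
  have hfst : AlgSp.RepWith @Etale fst :=
    (AlgSp.RepWith (S := Spec (CommRingCat.of R)) @Etale).of_isPullback sq.flip hη
  have hXη : AlgSp.IsAlgSpace Xη :=
    Groth.Agent.Lib.helper5.isAlgSpace_of_isPullback (AlgSp.IsAlgSpace.yon_obj _).diag X.property
      (AlgSp.IsAlgSpace.yon_obj _) sq
  obtain ⟨U', a', ha'e, ha's⟩ := hXη.atlas
  refine ⟨U', a', ha'e, ha's, ?_⟩
  exact Groth.Agent.H1.EtaleReduced.isReduced_of_chart hX (a' ≫ fst)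
    ((AlgSp.repWith_isMultiplicative (S := Spec (CommRingCat.of R)) @Etale).comp_mem _ _ ha'e hfst)

end Groth.Agent.S10669
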