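import Groth.Statements.S10677
import Groth.Agent.Lib.Helper1.ZSplitB
import Groth.Agent.Lib.Helper1.QFib

set_option autoImplicit false
universe u
open CategoryTheory CategoryTheory.Limits AlgebraicGeometry
open AlgSp

namespace Groth.Agent.S10677

open Groth.Agent.Lib.helper5 Groth.Agent.Lib.helper5.NearLocus Groth.Agent.Lib.helper5.LqfLocus
  Groth.Agent.Lib.helper11 Groth.Agent.H1

theorem main {S : Scheme.{u}} {X Y : AlgSp.Space S} (f : X ⟶ Y) (x : AlgSp.Points X.obj)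
    (hf1 : AlgSp.LocP @LocallyOfFiniteType f.hom) (hf2 : AlgSp.IsSeparatedMor f.hom)
    (hf3 : AlgSp.HasAtMor (fun U _ h u => ∃ W : U.Opens, u ∈ W ∧ LocallyQuasiFinite (W.ι ≫ h) ∧ LocallyOfFiniteType (W.ι ≫ h)) f.hom x) :
    ∃ (U : AlgSp.Space S) (a : U ⟶ Y) (u : AlgSp.Points U.obj), AlgSp.IsEtaleMor a.hom ∧
      AlgSp.Points.map a.hom u = AlgSp.Points.map f.hom x ∧
      ∀ (P : AlgSp.Space S) (prX : P ⟶ X) (prU : P ⟶ U), IsPullback prX.hom prU.hom f.hom a.hom →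
        ∃ (V : AlgSp.Space S) (jV : V ⟶ P), AlgSp.RepWith @IsOpenImmersion jV.hom ∧ AlgSp.RepWith @IsClosedImmersion jV.hom ∧
          AlgSp.IsFiniteMor (jV ≫ prU).hom ∧
          ∃ v : AlgSp.Points V.obj, AlgSp.Points.map (jV ≫ prX).hom v = x ∧ AlgSp.Points.map (jV ≫ prU).hom v = u := by
  have hx : x ∈ {x | HasAtMor (NearAt Plqf) f.hom x} := hf3
  obtain ⟨U₀, T, a₀, b₀, h₀, u₀, ha₀, hb₀, hc, hu₀, hQ⟩ := hf3
  obtain ⟨X', j, W', w', c', hj, hr, hsep, hlqf, hlft, sq⟩ := ZSplit.exists_lqf_scheme f hf2 b₀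
  rw [← hr] at hx
  obtain ⟨x', hx'⟩ := hx
  have hy : Points.map f.hom x = Points.ofPt b₀ (h₀.left u₀) := by
    rw [← hu₀, Points.map_ofPt, hc, ofPt_yon_map_comp]
  obtain ⟨w₀, hw₀1, hw₀2⟩ := exists_of_isPullback_scheme sq x' (h₀.left u₀)
    (by rw [Points.map_comp, hx', hy])
  haveI := hsep
  haveI := hlqf
  haveI := hlft
  obtain ⟨U₁, g, hg, -, V, W, v, hVW, hfin, hv⟩ :=
    exists_etale_isCompl_of_quasiFiniteAt w'.left (x := w₀) rfl (w'.left.quasiFiniteAt w₀)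
  let U : Over S := Over.mk (g ≫ T.hom)
  let gO : U ⟶ T := Over.homMk g rfl
  have hgO : RepWith @Etale ((yon S).map gO) := (repWith_yon_map_iff _ gO).2 hg
  have ha : RepWith @Etale ((yon S).map gO ≫ b₀) :=
    (RepWith (S := S) @Etale).comp_mem _ _ hgO hb₀
  refine ⟨⟨(yon S).obj U, IsAlgSpace.yon_obj U⟩, ObjectProperty.homMk ((yon S).map gO ≫ b₀),
    Points.ofScheme U (pullback.snd w'.left g v.1), QFib.isEtaleMor_of_repWith _ ha, ?_, ?_⟩
  · show Points.map ((yon S).map gO ≫ b₀) _ = _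
    rw [← Points.ofPt_eq_map_ofScheme, ofPt_yon_map_comp, hy, ← hw₀2, ← hv]
    show Points.ofPt b₀ ((pullback.snd w'.left g ≫ g) v.1) = Points.ofPt b₀ ((pullback.fst w'.left g ≫ w'.left) v.1)
    rw [pullback.condition]
  · intro P prX prU hP
    obtain ⟨Vsp, jV, hOI, hCI, hF, -, hB, -⟩ :=
      ZSplit.assemble f hf2 j hj b₀ w' c' sq g V hfin P prX prU.hom hP
    refine ⟨Vsp, jV, hOI, hCI, hF, ?_⟩
    obtain ⟨vv, h1, h2⟩ := hB v.1 v.2
    refine ⟨vv, ?_, h2⟩
    show Points.map (jV.hom ≫ prX.hom) vv = x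
    rw [h1, hv, ← Points.map_ofPt, hw₀1, hx']

/-- For a separated morphism f : X ⟶ Y of algebraic spaces over S which is locally of finite type and a
point x of |X| with image y at which f is quasi-finite (some etale chart diagram through x has top
arrow locally quasi-finite and locally of finite type on an open neighbourhood), there are an etale
morphism a : U ⟶ Y and a point u of |U| over y such that for the base change P = U ×_Y X there is an
open and closed subspace V ⊂ P, finite over U, containing a point mapping to x in |X| and to u in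
|U|. -/
theorem result {S : Scheme.{u}} {X Y : AlgSp.Space S} (f : X ⟶ Y) (x : AlgSp.Points X.obj)
    (hf1 : AlgSp.LocP @LocallyOfFiniteType f.hom) (hf2 : AlgSp.IsSeparatedMor f.hom)
    (hf3 : AlgSp.HasAtMor (fun U _ h u => ∃ W : U.Opens, u ∈ W ∧ LocallyQuasiFinite (W.ι ≫ h) ∧ LocallyOfFiniteType (W.ι ≫ h)) f.hom x) :
    ∃ (U : AlgSp.Space S) (a : U ⟶ Y) (u : AlgSp.Points U.obj), AlgSp.IsEtaleMor a.hom ∧
      AlgSp.Points.map a.hom u = AlgSp.Points.map f.hom x ∧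
      ∀ (P : AlgSp.Space S) (prX : P ⟶ X) (prU : P ⟶ U), IsPullback prX.hom prU.hom f.hom a.hom →
        ∃ (V : AlgSp.Space S) (jV : V ⟶ P), AlgSp.RepWith @IsOpenImmersion jV.hom ∧ AlgSp.RepWith @IsClosedImmersion jV.hom ∧
          AlgSp.IsFiniteMor (jV ≫ prU).hom ∧
          ∃ v : AlgSp.Points V.obj, AlgSp.Points.map (jV ≫ prX).hom v = x ∧ AlgSp.Points.map (jV ≫ prU).hom v = u := by
  exact main f x hf1 hf2 hf3

end Groth.Agent.S10677
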