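import Groth.Statements.S10678
import Groth.Agent.Lib.Helper5.FieldBCLocalDim
import Groth.Agent.Lib.Helper5.FlatLocalDimAdd
import Groth.Agent.Lib.Helper5.DimSupLocalDim
import Groth.Agent.Lib.Helper5.AlgSpChartInd
import Groth.Agent.Lib.Helper5.AlgSpFibreProduct
import Groth.Agent.Lib.Helper5.EtLocalDim
import Groth.Agent.Lib.Helper5.FibreDimLocal
import Groth.Agent.Lib.Helper11.HasAtMorInd
import Groth.Agent.Lib.Helper17.ChartBC
import Groth.Agent.Lib.Helper10.AlgSpPoints
import Groth.Agent.Lib.Helper3.TopDim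

set_option autoImplicit false
universe u
open CategoryTheory CategoryTheory.Limits AlgebraicGeometry
open AlgSp

namespace Groth.Agent.S10678

/-- For a morphism f : X ⟶ Y of finite type between algebraic spaces over S, a point y of |Y| and any
field point k of Y in the class of y, with fibre X_k (pullback in fppf sheaves): the dimension of
X_k (supremum of the dimensions of its etale scheme charts) is -∞ exactly when y lies outside the
image of |X|, and for every natural number d it is at most d exactly when f has relative dimension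
at most d at every point of |X| over y (some etale chart diagram through the point whose top arrow
has local fibre dimension at most d there). -/
theorem result {S : Scheme.{u}} {X Y : AlgSp.Space S} (f : X ⟶ Y) (hf : AlgSp.IsFiniteTypeMor f.hom)
    (y : AlgSp.Points Y.obj) (k : AlgSp.FieldPt Y.obj) (hk : AlgSp.Points.mk k = y)
    (Xk : AlgSp.Sp S) (fst : Xk ⟶ X.obj) (snd : Xk ⟶ (AlgSp.yon S).obj k.pt) (h : IsPullback fst snd f.hom k.toHom) :
    (AlgSp.dim Xk = ⊥ ↔ y ∉ Set.range (AlgSp.Points.map f.hom)) ∧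
      ∀ d : ℕ, (AlgSp.dim Xk ≤ d ↔
        ∀ x : AlgSp.Points X.obj, AlgSp.Points.map f.hom x = y →
          AlgSp.HasAtMor (fun _ _ h u => FlatMor.fibreDimAt h u ≤ (d : WithBot ℕ∞)) f.hom x) := by
  classical
  have hXk : IsAlgSpace Xk :=
    Groth.Agent.Lib.helper5.isAlgSpace_of_isPullback Y.property.diag X.property
      (IsAlgSpace.yon_obj k.pt) h
  -- étale invariance of the fibre dimension condition
  have hQ : ∀ d : ℕ, Groth.Agent.Lib.helper11.EtInv
      (fun _ _ h u => FlatMor.fibreDimAt h u ≤ (d : WithBot ℕ∞)) := by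
    intro d U V U' V' h h' p q hp hq comm u'
    haveI := hp
    haveI := hq
    have e : FlatMor.fibreDimAt h (p u') = FlatMor.fibreDimAt h' u' := by
      rw [← Groth.Agent.Lib.helper5.FibreDimLocal.fibreDimAt_comp_etale_left p h u', comm,
        Groth.Agent.Lib.helper5.FibreDimLocal.fibreDimAt_comp_etale_right h' q u']
    change FlatMor.fibreDimAt h (p u') ≤ _ ↔ FlatMor.fibreDimAt h' u' ≤ _
    rw [e]
  -- the key chart comparison
  have key : ∀ z : AlgSp.Points Xk, ∃ (U V U' : Over S) (a : (AlgSp.yon S).obj U ⟶ X.obj)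
      (b : (AlgSp.yon S).obj V ⟶ Y.obj) (a' : (AlgSp.yon S).obj U' ⟶ Xk) (h₁ : U ⟶ V)
      (u : ↥U.left) (u' : ↥U'.left), AlgSp.RepWith @Etale a ∧ AlgSp.RepWith @Etale b ∧
      AlgSp.RepWith @Etale a' ∧ a ≫ f.hom = (AlgSp.yon S).map h₁ ≫ b ∧
      AlgSp.Points.ofPt a u = AlgSp.Points.map fst z ∧ AlgSp.Points.ofPt a' u' = z ∧
      FlatMor.fibreDimAt h₁.left u = FlatMor.localDim ↥U'.left u' := by
    intro z
    obtain ⟨U, V, U', V', a, b, a', b', h₁, h', p, kk, u', hae, hbe, hae', hbe', hc, hc', hcg',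
        hcg, sqS, hu', -⟩ :=
      Groth.Agent.Lib.helper17.ChartBC.exists_bc_charts X.property Y.property
        (IsAlgSpace.yon_obj k.pt) h z
    haveI : LocallyOfFiniteType h₁.left := hf.1 a b h₁ hae hbe hc
    have sqL : IsPullback p.left h'.left h₁.left kk.left := sqS.map (Over.forget S)
    obtain ⟨β, hβ⟩ := (AlgSp.yon S).map_surjective b'
    have hβe : Etale β.left := by
      rw [← hβ] at hbe'
      exact (AlgSp.repWith_yon_map_iff @Etale β).1 hbe'
    refine ⟨U, V, U', a, b, a', h₁, p.left u', u', hae, hbe, hae', hc, ?_, hu', ?_⟩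
    · rw [← hu', AlgSp.Points.map_ofPt, hcg', Groth.Agent.Lib.helper11.ofPt_yon_map_comp]
    · rw [← Groth.Agent.Lib.helper5.FieldBC.fibreDimAt_eq_of_isPullback sqL u',
        ← Groth.Agent.Lib.helper5.FibreDimLocal.fibreDimAt_comp_etale_right h'.left β.left u']
      exact Groth.Agent.Lib.helper5.FieldBC.fibreDimAt_toSpec_field k.K (h'.left ≫ β.left) u'
  -- points of the fibre lie over `y`
  have hy : ∀ z : AlgSp.Points Xk, AlgSp.Points.map f.hom (AlgSp.Points.map fst z) = y := by
    intro z
    rw [← AlgSp.Points.map_comp, h.w, AlgSp.Points.map_comp,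
      ← AlgSp.Points.ofScheme_toScheme k.pt (AlgSp.Points.map snd z),
      Groth.Agent.Lib.helper10.map_toHom_ofScheme, hk]
  have hex : ∀ x : AlgSp.Points X.obj, AlgSp.Points.map f.hom x = y →
      ∃ z : AlgSp.Points Xk, AlgSp.Points.map fst z = x := by
    intro x hx
    obtain ⟨z, hz, -⟩ := Groth.Agent.Lib.helper10.exists_point_of_isPullback h x
      (AlgSp.Points.ofScheme k.pt (IsLocalRing.closedPoint k.K)) (by
        rw [hx, Groth.Agent.Lib.helper10.map_toHom_ofScheme, hk])
    exact ⟨z, hz⟩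
  have hdimle : ∀ (U' : Over S) (a' : (AlgSp.yon S).obj U' ⟶ Xk), AlgSp.RepWith @Etale a' →
      topologicalKrullDim ↥U'.left ≤ AlgSp.dim Xk := by
    intro U' a' ha'
    unfold AlgSp.dim
    exact le_iSup_of_le U' (le_iSup_of_le a' (le_iSup_of_le ha' le_rfl))
  refine ⟨?_, ?_⟩
  · constructor
    · rintro hbot ⟨x, hx⟩
      obtain ⟨z, -⟩ := hex x hx
      obtain ⟨U, V, U', a, b, a', h₁, u, u', hae, hbe, hae', hc, hu, hu', -⟩ := key z
      have h1 := hdimle U' a' hae'
      haveI : Nonempty ↥U'.left := ⟨u'⟩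
      have h2 := Groth.Agent.Lib.helper3.TopDim.dim_nonneg (X := ↥U'.left)
      rw [hbot] at h1
      have h3 := le_trans h2 h1
      simp at h3
    · intro hy'
      unfold AlgSp.dim
      apply le_antisymm _ bot_le
      refine iSup_le fun U' => iSup_le fun a' => iSup_le fun ha' => ?_
      have hE : IsEmpty ↥U'.left := by
        refine ⟨fun u' => hy' ⟨AlgSp.Points.map fst (AlgSp.Points.ofPt a' u'), hy _⟩⟩
      have : topologicalKrullDim ↥U'.left = ⊥ := by
        unfold topologicalKrullDim
        haveI : IsEmpty (TopologicalSpace.IrreducibleCloseds ↥U'.left) :=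
          ⟨fun Z => hE.elim Z.isIrreducible.nonempty.some⟩
        exact Order.krullDim_eq_bot
      rw [this]
  · intro d
    constructor
    · intro hd x hx
      obtain ⟨z, rfl⟩ := hex x hx
      obtain ⟨U, V, U', a, b, a', h₁, u, u', hae, hbe, hae', hc, hu, hu', hdim⟩ := key z
      refine ⟨U, V, a, b, h₁, u, hae, hbe, hc, hu, ?_⟩
      change FlatMor.fibreDimAt h₁.left u ≤ _
      rw [hdim]
      exact le_trans (Groth.Agent.Lib.helper3.TopDim.localDim_le_dim _)
        (le_trans (hdimle U' a' hae') hd)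
    · intro hall
      unfold AlgSp.dim
      refine iSup_le fun W => iSup_le fun c => iSup_le fun hc => ?_
      rw [Groth.Agent.Lib.helper5.FieldBC.dim_eq_iSup_localDim]
      refine iSup_le fun w => ?_
      obtain ⟨U, V, U', a, b, a', h₁, u, u', hae, hbe, hae', hcm, hu, hu', hdim⟩ :=
        key (AlgSp.Points.ofPt c w)
      have h1 := (Groth.Agent.Lib.helper11.hasAtMor_iff (hQ d) f.hom _ a b h₁ u hae hbe hcm
        hu).mp (hall _ (hy _))
      change FlatMor.fibreDimAt h₁.left u ≤ _ at h1
      rw [hdim] at h1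
      have hat : AlgSp.HasAt (fun U u => FlatMor.localDim ↥U u ≤ (d : WithBot ℕ∞)) Xk
          (AlgSp.Points.ofPt c w) := ⟨U', a', u', hae', hu', h1⟩
      exact (Groth.Agent.Lib.helper5.ChartInd.hasAt_iff_forall
        (Q := fun U u => FlatMor.localDim ↥U u ≤ (d : WithBot ℕ∞))
        (fun {V U} g _ v => by
          rw [Groth.Agent.Lib.helper5.EtLocalDim.localDim_eq_of_etale g v])
        (⟨Xk, hXk⟩ : AlgSp.Space S) (AlgSp.Points.ofPt c w)).1 hat W c w hc rfl

end Groth.Agent.S10678
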