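import Groth.Statements.S10679
import Groth.Agent.S10678
import Groth.Agent.S9962
import Groth.Agent.Lib.Helper11.AlgSpBasic
import Groth.Agent.Lib.Helper3.FlatFibreDimLSC
import Groth.Agent.Lib.Helper5.AlgSpThickRelDim
import Groth.Agent.Lib.Helper5.AlgSpFibreProduct
import Groth.Agent.Lib.Helper5.AlgSpWhereSurjFlat
import Groth.Agent.Lib.Helper7.AlgSpFibre
import Groth.Agent.Lib.Helper10.AlgSpPoints

set_option autoImplicit false
universe u
open CategoryTheory CategoryTheory.Limits AlgebraicGeometry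
open AlgSp

namespace Groth.Agent.S10679

/-- For a flat morphism f : X ⟶ Y of algebraic spaces over S which is of finite presentation, the fibre
dimension function on |Y|, y ↦ dimension of X_k for a field point k in the class of y, is lower
semi-continuous: for every d the set of y such that every fibre X_k over y (k a field point in the
class of y, X_k any pullback in fppf sheaves) has dimension greater than d is open. -/
theorem result {S : Scheme.{u}} {X Y : AlgSp.Space S} (f : X ⟶ Y)
    (hf1 : AlgSp.LocP @Flat f.hom) (hf2 : AlgSp.IsFinitePresentationMor f.hom) (d : WithBot ℕ∞) :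
    IsOpen {y : AlgSp.Points Y.obj | ∀ (k : AlgSp.FieldPt Y.obj), AlgSp.Points.mk k = y →
      ∀ (Xk : AlgSp.Sp S) (fst : Xk ⟶ X.obj) (snd : Xk ⟶ (AlgSp.yon S).obj k.pt),
        IsPullback fst snd f.hom k.toHom → d < AlgSp.dim Xk} := by
  classical
  have hlft : AlgSp.LocP @LocallyOfFiniteType f.hom := by
    intro U V a b h ha hb hc
    haveI : LocallyOfFinitePresentation h.left := hf2.1 a b h ha hb hc
    infer_instance
  have hft : AlgSp.IsFiniteTypeMor f.hom := ⟨hlft, hf2.2.1⟩
  have hopen : IsOpenMap (AlgSp.Points.map f.hom) :=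
    Groth.Agent.Lib.helper5.AlgSpFlatLocus.isOpenMor_of_isUnivOpenMor Y.2 _
      (Groth.Agent.S9962.result f hf1 hf2.1)
  -- the loci `B n`
  have hB : ∀ n : ℕ, IsOpen {y : AlgSp.Points Y.obj | ∃ x : AlgSp.Points X.obj,
      AlgSp.Points.map f.hom x = y ∧
        ¬ AlgSp.HasAtMor (fun _ _ h u => FlatMor.fibreDimAt h u ≤ (n : WithBot ℕ∞)) f.hom x} := by
    intro n
    rw [isOpen_iff_forall_mem_open]
    rintro y ⟨x, hxy, hx⟩
    obtain ⟨V, b, v, hbe, -, hv⟩ := Groth.Agent.Lib.helper11.exists_chart_ofPt Y y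
    obtain ⟨W, hW, hvW, -⟩ := exists_isAffineOpen_mem_and_subset (x := v) (U := ⊤) trivial
    obtain ⟨hb'e, hb'pt⟩ := Groth.Agent.Lib.helper11.chart_comp b hbe W.ι
    set V' : Over S := Over.mk (W.ι ≫ V.hom) with hV'
    set b' : (AlgSp.yon S).obj V' ⟶ Y.obj :=
      (AlgSp.yon S).map (Over.homMk (U := Over.mk (W.ι ≫ V.hom)) W.ι rfl) ≫ b with hb'
    have sq : IsPullback (pullback.fst f.hom b') (pullback.snd f.hom b') f.hom b' :=
      IsPullback.of_hasPullback _ _
    have hX' : IsAlgSpace (pullback f.hom b') :=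
      Groth.Agent.Lib.helper5.isAlgSpace_of_isPullback Y.property.diag X.property
        (IsAlgSpace.yon_obj V') sq
    haveI hVaff : IsAffine V'.left := hW
    haveI hWc : CompactSpace ↥V'.left := inferInstance
    have hqcV : AlgSp.IsQuasiCompactSp ((AlgSp.yon S).obj V') :=
      ⟨V', 𝟙 _, AlgSp.repWith_id @Etale V', AlgSp.repWith_id @Surjective V', hWc⟩
    have hqc : AlgSp.IsQuasiCompactSp (pullback f.hom b') :=
      hf2.2.1 (IsAlgSpace.yon_obj V') hqcV b' _ _ sq
    haveI := Groth.Agent.Lib.helper7.AlgSpFibre.compactSpace_of_isQuasiCompactSp hqc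
    obtain ⟨U₀, p, hpe, hps⟩ := hX'.atlas
    obtain ⟨U', a', hU'aff, ha'e, ha's⟩ :=
      Groth.Agent.Lib.helper11.exists_affine_chart_of_compactSpace p hpe hps
    have hfste : AlgSp.RepWith @Etale (pullback.fst f.hom b') :=
      (AlgSp.RepWith (S := S) @Etale).of_isPullback sq.flip hb'e
    set a : (AlgSp.yon S).obj U' ⟶ X.obj := a' ≫ pullback.fst f.hom b' with ha
    have hae : AlgSp.RepWith @Etale a :=
      (AlgSp.RepWith (S := S) @Etale).comp_mem _ _ ha'e hfste
    obtain ⟨h, hh⟩ := (AlgSp.yon S).map_surjective (a' ≫ pullback.snd f.hom b')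
    have hc : a ≫ f.hom = (AlgSp.yon S).map h ≫ b' := by
      rw [ha, hh, Category.assoc, Category.assoc, pullback.condition]
    haveI : Flat h.left := hf1 a b' h hae hb'e hc
    haveI : LocallyOfFinitePresentation h.left := hf2.1 a b' h hae hb'e hc
    haveI : IsAffine U'.left := hU'aff
    -- the open locus downstairs
    have hopenV : IsOpen (h.left '' {u : ↥U'.left | FlatMor.fibreDimAt h.left u ≤ (n : WithBot ℕ∞)}ᶜ) := by
      have h1 := Groth.Agent.Lib.helper3.FibreDimCons.setOf_dim_le_eq h.left (n : WithBot ℕ∞)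
      have h2 := Groth.Agent.Lib.helper3.FlatFibreDimLSC.isOpen_lt_fibre_dim_of_flat h.left
        (n : WithBot ℕ∞)
      have h3 : {s : ↥V'.left | (n : WithBot ℕ∞) < topologicalKrullDim (h.left.fiber s)} =
          {s : ↥V'.left | topologicalKrullDim (h.left.fiber s) ≤ (n : WithBot ℕ∞)}ᶜ := by
        ext s
        simp only [Set.mem_ofPred_eq, Set.mem_compl_iff, not_le]
      rw [h3, h1, compl_compl] at h2
      exact h2
    refine ⟨AlgSp.Points.ofPt b' '' (h.left ''
      {u : ↥U'.left | FlatMor.fibreDimAt h.left u ≤ (n : WithBot ℕ∞)}ᶜ), ?_,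
      Groth.Agent.Lib.helper11.isOpenMap_ofPt b' hb'e _ hopenV, ?_⟩
    · rintro _ ⟨_, ⟨u, hu, rfl⟩, rfl⟩
      refine ⟨AlgSp.Points.ofPt a u, ?_, ?_⟩
      · rw [AlgSp.Points.map_ofPt, hc, Groth.Agent.Lib.helper11.ofPt_yon_map_comp]
      · intro hd
        exact hu (Groth.Agent.Lib.helper5.ThickRelDim.locPAt_fibreDim_of_hasAtMor f.hom
          (AlgSp.Points.ofPt a u) (fun e => e ≤ (n : WithBot ℕ∞)) hd a b' h u hae hb'e hc rfl)
    · -- the point `y`
      have hyv : AlgSp.Points.ofPt b' (⟨v, hvW⟩ : ↥W) = y := by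
        rw [hb'pt]; exact hv
      obtain ⟨w, hw1, -⟩ := Groth.Agent.Lib.helper10.exists_point_of_isPullback sq x
        (AlgSp.Points.ofScheme V' (⟨v, hvW⟩ : ↥W)) (by
          rw [hxy, ← AlgSp.Points.ofPt_eq_map_ofScheme, hyv])
      obtain ⟨u, hu⟩ := Groth.Agent.Lib.helper11.surjective_ofPt a' ha's w
      have hxu : AlgSp.Points.ofPt a u = x := by
        rw [ha, ← AlgSp.Points.map_ofPt, hu, hw1]
      refine ⟨h.left u, ⟨u, ?_, rfl⟩, ?_⟩
      · intro hle
        exact hx ⟨U', V', a, b', h, u, hae, hb'e, hc, hxu, hle⟩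
      · rw [← Groth.Agent.Lib.helper11.ofPt_yon_map_comp, ← hc, ← AlgSp.Points.map_ofPt, hxu, hxy]
  -- every point has a fibre
  have hexk : ∀ y : AlgSp.Points Y.obj, ∃ (k : AlgSp.FieldPt Y.obj) (Xk : AlgSp.Sp S)
      (fst : Xk ⟶ X.obj) (snd : Xk ⟶ (AlgSp.yon S).obj k.pt), AlgSp.Points.mk k = y ∧
      IsPullback fst snd f.hom k.toHom := by
    intro y
    obtain ⟨k, hk⟩ := AlgSp.Points.mk_surjective y
    exact ⟨k, pullback f.hom k.toHom, pullback.fst _ _, pullback.snd _ _, hk,
      IsPullback.of_hasPullback _ _⟩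
  have hS := fun (y : AlgSp.Points Y.obj) (k : AlgSp.FieldPt Y.obj) (hk : AlgSp.Points.mk k = y)
    (Xk : AlgSp.Sp S) (fst : Xk ⟶ X.obj) (snd : Xk ⟶ (AlgSp.yon S).obj k.pt)
    (h : IsPullback fst snd f.hom k.toHom) => Groth.Agent.S10678.result f hft y k hk Xk fst snd h
  induction d using WithBot.recBotCoe with
  | bot =>
    convert hopen.isOpen_range using 1
    ext y
    simp only [Set.mem_ofPred_eq]
    constructor
    · intro hy
      obtain ⟨k, Xk, fst, snd, hk, h⟩ := hexk y
      by_contra hcon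
      have := (hS y k hk Xk fst snd h).1.2 hcon
      exact (ne_of_gt (hy k hk Xk fst snd h)) this
    · intro hy k hk Xk fst snd h
      rw [bot_lt_iff_ne_bot]
      intro hbot
      exact (hS y k hk Xk fst snd h).1.1 hbot hy
  | coe e =>
    induction e using ENat.recTopCoe with
    | top =>
      convert isOpen_empty
      ext y
      simp only [Set.mem_ofPred_eq, Set.mem_empty_iff_false, iff_false]
      intro hy
      obtain ⟨k, Xk, fst, snd, hk, h⟩ := hexk y
      have h1 := hy k hk Xk fst snd h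
      have h2 : AlgSp.dim Xk ≤ ((⊤ : ℕ∞) : WithBot ℕ∞) := by
        induction (AlgSp.dim Xk) using WithBot.recBotCoe with
        | bot => exact bot_le
        | coe b => exact WithBot.coe_le_coe.mpr le_top
      exact absurd h1 (not_lt.mpr h2)
    | coe n =>
      convert hB n using 1
      ext y
      simp only [Set.mem_ofPred_eq]
      constructor
      · intro hy
        obtain ⟨k, Xk, fst, snd, hk, h⟩ := hexk y
        have h1 := hy k hk Xk fst snd h
        by_contra hcon
        have h2 : AlgSp.dim Xk ≤ (n : WithBot ℕ∞) := by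
          refine ((hS y k hk Xk fst snd h).2 n).2 ?_
          intro x hx
          by_contra hx'
          exact hcon ⟨x, hx, hx'⟩
        exact absurd h1 (not_lt.mpr h2)
      · rintro ⟨x, hx, hx'⟩ k hk Xk fst snd h
        by_contra hcon
        rw [not_lt] at hcon
        exact hx' (((hS y k hk Xk fst snd h).2 n).1 hcon x hx)

end Groth.Agent.S10679
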