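import Groth.Statements.S10680
import Groth.Agent.S10678
import Groth.Agent.S10308
import Groth.Agent.Lib.Helper5.AlgSpProperImage

set_option autoImplicit false
universe u
open CategoryTheory CategoryTheory.Limits AlgebraicGeometry
open AlgSp

namespace Groth.Agent.S10680

/-- For a proper morphism f : X ⟶ Y between algebraic spaces over S the fibre dimension function on |Y|
is upper semi-continuous: for every d the set of y such that every fibre X_k over y (k a field point
in the class of y, X_k any pullback in fppf sheaves) has dimension less than d is open. -/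
theorem result {S : Scheme.{u}} {X Y : AlgSp.Space S} (f : X ⟶ Y) (hf : AlgSp.IsProperMor f.hom) (d : WithBot ℕ∞) :
    IsOpen {y : AlgSp.Points Y.obj | ∀ (k : AlgSp.FieldPt Y.obj), AlgSp.Points.mk k = y →
      ∀ (Xk : AlgSp.Sp S) (fst : Xk ⟶ X.obj) (snd : Xk ⟶ (AlgSp.yon S).obj k.pt),
        IsPullback fst snd f.hom k.toHom → AlgSp.dim Xk < d} := by
  classical
  have hft : AlgSp.IsFiniteTypeMor f.hom := hf.2.1
  have hcl : IsClosedMap (AlgSp.Points.map f.hom) :=
    Groth.Agent.Lib.helper5.ProperSurj.isClosedMor_of_isUnivClosedMor Y.property hf.2.2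
  -- the open loci `A n`
  have hA : ∀ n : ℕ, IsOpen {y : AlgSp.Points Y.obj | ∀ x : AlgSp.Points X.obj,
      AlgSp.Points.map f.hom x = y →
        AlgSp.HasAtMor (fun _ _ h u => FlatMor.fibreDimAt h u ≤ (n : WithBot ℕ∞)) f.hom x} := by
    intro n
    have hopen := Groth.Agent.S10308.result f hft.1 n
    have h1 := hcl _ hopen.isClosed_compl
    rw [← isClosed_compl_iff]
    convert h1 using 1
    ext y
    simp only [Set.mem_compl_iff, Set.mem_ofPred_eq, Set.mem_image]
    constructor
    · intro hy
      by_contra hcon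
      apply hy
      intro x hx
      by_contra hx'
      exact hcon ⟨x, hx', hx⟩
    · rintro ⟨x, hx', hx⟩ hy
      exact hx' (hy x hx)
  have hR : IsOpen (Set.range (AlgSp.Points.map f.hom))ᶜ := by
    rw [isOpen_compl_iff, ← Set.image_univ]
    exact hcl _ isClosed_univ
  -- every point has a fibre
  have hexk : ∀ y : AlgSp.Points Y.obj, ∃ (k : AlgSp.FieldPt Y.obj) (Xk : AlgSp.Sp S)
      (fst : Xk ⟶ X.obj) (snd : Xk ⟶ (AlgSp.yon S).obj k.pt), AlgSp.Points.mk k = y ∧
      IsPullback fst snd f.hom k.toHom := by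
    intro y
    obtain ⟨k, hk⟩ := AlgSp.Points.mk_surjective y
    exact ⟨k, pullback f.hom k.toHom, pullback.fst _ _, pullback.snd _ _, hk,
      IsPullback.of_hasPullback _ _⟩
  have hS := fun (y : AlgSp.Points Y.obj) (k : AlgSp.FieldPt Y.obj) (hk : AlgSp.Points.mk k = y)
    (Xk : AlgSp.Sp S) (fst : Xk ⟶ X.obj) (snd : Xk ⟶ (AlgSp.yon S).obj k.pt)
    (h : IsPullback fst snd f.hom k.toHom) => Groth.Agent.S10678.result f hft y k hk Xk fst snd h
  induction d using WithBot.recBotCoe with
  | bot =>
    convert isOpen_empty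
    ext y
    simp only [Set.mem_ofPred_eq, Set.mem_empty_iff_false, iff_false]
    intro hy
    obtain ⟨k, Xk, fst, snd, hk, h⟩ := hexk y
    exact not_lt_bot (hy k hk Xk fst snd h)
  | coe e =>
    induction e using ENat.recTopCoe with
    | top =>
      have hlt : ∀ a : WithBot ℕ∞, a < ((⊤ : ℕ∞) : WithBot ℕ∞) ↔ ∃ n : ℕ, a ≤ (n : WithBot ℕ∞) := by
        intro a
        induction a using WithBot.recBotCoe with
        | bot => exact ⟨fun _ => ⟨0, bot_le⟩, fun _ => WithBot.bot_lt_coe _⟩
        | coe b =>
          rw [WithBot.coe_lt_coe]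
          constructor
          · intro hb
            obtain ⟨m, rfl⟩ := ENat.ne_top_iff_exists.mp hb.ne
            exact ⟨m, le_rfl⟩
          · rintro ⟨n, hn⟩
            have : b ≤ (n : ℕ∞) := by exact_mod_cast hn
            exact lt_of_le_of_lt this (ENat.natCast_lt_top n)
      convert isOpen_iUnion hA using 1
      ext y
      simp only [Set.mem_ofPred_eq, Set.mem_iUnion]
      constructor
      · intro hy
        obtain ⟨k, Xk, fst, snd, hk, h⟩ := hexk y
        obtain ⟨n, hn⟩ := (hlt _).1 (hy k hk Xk fst snd h)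
        exact ⟨n, ((hS y k hk Xk fst snd h).2 n).1 hn⟩
      · rintro ⟨n, hn⟩ k hk Xk fst snd h
        exact (hlt _).2 ⟨n, ((hS y k hk Xk fst snd h).2 n).2 hn⟩
    | coe m =>
      rcases Nat.eq_zero_or_pos m with rfl | hm
      · have hlt : ∀ a : WithBot ℕ∞, a < (((0 : ℕ) : ℕ∞) : WithBot ℕ∞) ↔ a = ⊥ := by
          intro a
          induction a using WithBot.recBotCoe with
          | bot => exact ⟨fun _ => rfl, fun _ => WithBot.bot_lt_coe _⟩
          | coe b =>
            rw [WithBot.coe_lt_coe]
            simp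
        convert hR using 1
        ext y
        simp only [Set.mem_ofPred_eq, Set.mem_compl_iff]
        constructor
        · intro hy
          obtain ⟨k, Xk, fst, snd, hk, h⟩ := hexk y
          exact (hS y k hk Xk fst snd h).1.1 ((hlt _).1 (hy k hk Xk fst snd h))
        · intro hy k hk Xk fst snd h
          exact (hlt _).2 ((hS y k hk Xk fst snd h).1.2 hy)
      · obtain ⟨n, rfl⟩ : ∃ n, m = n + 1 := ⟨m - 1, by omega⟩
        have hlt : ∀ a : WithBot ℕ∞, a < (((n + 1 : ℕ) : ℕ∞) : WithBot ℕ∞) ↔
            a ≤ ((n : ℕ) : WithBot ℕ∞) := by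
          intro a
          induction a using WithBot.recBotCoe with
          | bot => exact ⟨fun _ => bot_le, fun _ => WithBot.bot_lt_coe _⟩
          | coe b =>
            rw [WithBot.coe_lt_coe]
            rw [show ((n : ℕ) : WithBot ℕ∞) = (((n : ℕ) : ℕ∞) : WithBot ℕ∞) from rfl,
              WithBot.coe_le_coe]
            push_cast
            exact ENat.lt_add_one_iff (ENat.natCast_ne_top n)
        convert hA n using 1
        ext y
        simp only [Set.mem_ofPred_eq]
        constructor
        · intro hy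
          obtain ⟨k, Xk, fst, snd, hk, h⟩ := hexk y
          exact ((hS y k hk Xk fst snd h).2 n).1 ((hlt _).1 (hy k hk Xk fst snd h))
        · intro hy k hk Xk fst snd h
          exact (hlt _).2 (((hS y k hk Xk fst snd h).2 n).2 hy)

end Groth.Agent.S10680
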