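import Groth.Statements.S10683
import Groth.Agent.S1301
import Groth.Agent.Lib.Helper5.AlgSpGR4

set_option autoImplicit false
universe u
open CategoryTheory CategoryTheory.Limits AlgebraicGeometry
open AlgSp

namespace Groth.Agent.S10683

open Groth.Agent.Lib.helper9.GRPt in
/-- the fibre over `v` is geometrically reduced iff all points over `v` are `GR` points -/
theorem geomRed_fibre_iff {W V : Scheme.{u}} (g : W ⟶ V) (v : V) :
    GeometricallyReduced (g.fiberToSpecResidueField v) ↔ ∀ w : W, g w = v → GR g w := by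
  constructor
  · intro hG w hw
    have h1 : w ∈ Set.range (g.fiberι v) := by
      rw [Scheme.Hom.range_fiberι]; exact hw
    obtain ⟨p, rfl⟩ := h1
    refine GR_of_isGeomReducedAt_fiber g v p ?_
    intro K _ _ x' _
    haveI : AlgebraicGeometry.IsReduced (FBase.bc (g.fiberToSpecResidueField v) K) :=
      pullback_of_geometrically (GeometricallyReduced.geometrically_isReduced
        (f := g.fiberToSpecResidueField v)) K _
    infer_instance
  · intro H
    refine geometricallyReduced_of_forall_isGeomReducedAt _ fun p => ?_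
    refine isGeomReducedAt_fiber_of_GR g v p (H _ ?_)
    have h1 : g.fiberι v p ∈ Set.range (g.fiberι v) := Set.mem_range_self p
    rw [Scheme.Hom.range_fiberι] at h1
    exact h1

end Groth.Agent.S10683

namespace Groth.Agent.S10683

/-- For a quasi-compact morphism f : X ⟶ Y between algebraic spaces over S which is locally of finite
presentation, the set E of points of |Y| at which the fibre of f is geometrically reduced is etale
locally constructible: for every affine scheme V with a representable etale a : h_V ⟶ Y, the inverse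
image of E in V is a constructible subset. Here the fibre of f at y being geometrically reduced
means: for every field point k of Y in the class of y and every field homomorphism k ⟶ k', the base
change X_{k'} (pullback in fppf sheaves) is reduced (some etale surjective scheme chart is reduced). -/
theorem result {S : Scheme.{u}} {X Y : AlgSp.Space S} (f : X ⟶ Y)
    (hf1 : AlgSp.IsQuasiCompactMor f.hom) (hf2 : AlgSp.LocP @LocallyOfFinitePresentation f.hom)
    (V : Over S) (hV : IsAffine V.left) (a : (AlgSp.yon S).obj V ⟶ Y.obj) (ha : AlgSp.RepWith @Etale a) :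
    Topology.IsConstructible ((AlgSp.Points.ofPt a) ⁻¹' {y : AlgSp.Points Y.obj | ∀ (k : AlgSp.FieldPt Y.obj), AlgSp.Points.mk k = y →
        ∀ (k' : Type u) [Field k'] (φ : k.K →+* k') (Xk' : AlgSp.Sp S) (a : Xk' ⟶ X.obj)
          (b : Xk' ⟶ (AlgSp.yon S).obj (Over.mk (Spec.map (CommRingCat.ofHom φ) ≫ k.str))),
          IsPullback a b f.hom ((AlgSp.yon S).map (Over.homMk (Spec.map (CommRingCat.ofHom φ)) rfl :
            Over.mk (Spec.map (CommRingCat.ofHom φ) ≫ k.str) ⟶ k.pt) ≫ k.toHom) →
          AlgSp.EtaleLocally (fun U => IsReduced U) Xk'}) := by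
  classical
  have sqV : IsPullback (pullback.fst f.hom a) (pullback.snd f.hom a) f.hom a :=
    IsPullback.of_hasPullback _ _
  haveI : CompactSpace ↥V.left := inferInstance
  have hqcV : AlgSp.IsQuasiCompactSp ((AlgSp.yon S).obj V) :=
    ⟨V, 𝟙 _, AlgSp.repWith_id @Etale V, AlgSp.repWith_id @Surjective V, inferInstance⟩
  obtain ⟨W, c, hce, hcs, hWc⟩ := hf1 (AlgSp.IsAlgSpace.yon_obj V) hqcV a
    (pullback.fst f.hom a) (pullback.snd f.hom a) sqV
  haveI : CompactSpace ↥W.left := hWc
  obtain ⟨g, hg⟩ := (AlgSp.yon S).map_surjective (c ≫ pullback.snd f.hom a)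
  have hfste : AlgSp.RepWith @Etale (pullback.fst f.hom a) :=
    (AlgSp.RepWith (S := S) @Etale).of_isPullback sqV.flip ha
  have hce' : AlgSp.RepWith @Etale (c ≫ pullback.fst f.hom a) :=
    (AlgSp.repWith_isMultiplicative (S := S) @Etale).comp_mem _ _ hce hfste
  have hc : (c ≫ pullback.fst f.hom a) ≫ f.hom = (AlgSp.yon S).map g ≫ a := by
    rw [Category.assoc, sqV.w, ← Category.assoc, hg]
  haveI : LocallyOfFinitePresentation g.left := hf2 _ a g hce' ha hc
  haveI : QuasiCompact g.left := inferInstance
  have hcons := (Groth.Agent.S1301.result g.left).isConstructible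
  have hset : (AlgSp.Points.ofPt a) ⁻¹' {y : AlgSp.Points Y.obj | ∀ (k : AlgSp.FieldPt Y.obj), AlgSp.Points.mk k = y →
        ∀ (k' : Type u) [Field k'] (φ : k.K →+* k') (Xk' : AlgSp.Sp S) (a : Xk' ⟶ X.obj)
          (b : Xk' ⟶ (AlgSp.yon S).obj (Over.mk (Spec.map (CommRingCat.ofHom φ) ≫ k.str))),
          IsPullback a b f.hom ((AlgSp.yon S).map (Over.homMk (Spec.map (CommRingCat.ofHom φ)) rfl :
            Over.mk (Spec.map (CommRingCat.ofHom φ) ≫ k.str) ⟶ k.pt) ≫ k.toHom) →
          AlgSp.EtaleLocally (fun U => IsReduced U) Xk'} =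
      {v : ↥V.left | GeometricallyReduced (g.left.fiberToSpecResidueField v)} := by
    ext v
    rw [Set.mem_preimage, Set.mem_setOf_eq, Set.mem_setOf_eq, geomRed_fibre_iff]
    constructor
    · intro hE w hw
      have hfx : AlgSp.Points.map f.hom (AlgSp.Points.ofPt (c ≫ pullback.fst f.hom a) w) =
          AlgSp.Points.ofPt a v := by
        rw [AlgSp.Points.map_ofPt, hc, Groth.Agent.Lib.helper11.ofPt_yon_map_comp, hw]
      have hat := Groth.Agent.Lib.helper5.AlgSpGR.hasAtMor_GR_of_fibres_reduced f
        (AlgSp.Points.ofPt (c ≫ pullback.fst f.hom a) w) (fun k hk => hE k (hk.trans hfx))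
      exact Groth.Agent.Lib.helper5.AlgSpGR.locPAt_GR_of_hasAtMor f.hom _ hat
        (c ≫ pullback.fst f.hom a) a g w hce' ha hc rfl
    · intro hG k hk k' _ φ Xk' a₁ b₁ sq
      refine Groth.Agent.Lib.helper5.AlgSpGR.etaleLocally_reduced_of_forall_GR' f hf2
        (AlgSp.Points.ofPt a v) ?_ k hk k' φ Xk' a₁ b₁ sq
      intro x hx
      obtain ⟨z, hz1, hz2⟩ := Groth.Agent.Lib.helper10.exists_point_of_isPullback sqV x
        (AlgSp.Points.ofScheme V v) (by rw [hx, AlgSp.Points.ofPt_eq_map_ofScheme])
      obtain ⟨w, rfl⟩ := Groth.Agent.Lib.helper11.surjective_ofPt c hcs z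
      have hw : g.left w = v := by
        rw [AlgSp.Points.map_ofPt, ← hg, Groth.Agent.Lib.helper11.ofPt_yon_map] at hz2
        exact (AlgSp.Points.schemeEquiv V).injective hz2
      refine ⟨W, V, c ≫ pullback.fst f.hom a, a, g, w, hce', ha, hc, ?_, hG w hw⟩
      rw [← hz1, AlgSp.Points.map_ofPt]
  rw [hset]
  exact hcons

end Groth.Agent.S10683
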