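import Groth.Statements.S10686
import Groth.Agent.Lib.Helper5.AlgSpGR5

set_option autoImplicit false
universe u
open CategoryTheory CategoryTheory.Limits AlgebraicGeometry
open AlgSp

namespace Groth.Agent.S10686

/-- For a morphism f : X ⟶ Y between algebraic spaces over S and a point y of |Y|, write X_k for the
fibre (pullback in fppf sheaves) over a field point k of Y and call X_k geometrically reduced when
for every field homomorphism k ⟶ k' the base change X_{k'} is reduced (some etale surjective scheme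
chart reduced). The following are equivalent: (1) X_k is geometrically reduced for some k in the
class of y; (2) X_k is geometrically reduced for every k in the class of y; (3) X_k is reduced for
every k in the class of y. -/
theorem result {S : Scheme.{u}} {X Y : AlgSp.Space S} (f : X ⟶ Y) (y : AlgSp.Points Y.obj) :
    [∃ (k : AlgSp.FieldPt Y.obj), AlgSp.Points.mk k = y ∧
        ∀ (k' : Type u) [Field k'] (φ : k.K →+* k') (Xk' : AlgSp.Sp S) (a : Xk' ⟶ X.obj)
          (b : Xk' ⟶ (AlgSp.yon S).obj (Over.mk (Spec.map (CommRingCat.ofHom φ) ≫ k.str))),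
          IsPullback a b f.hom ((AlgSp.yon S).map (Over.homMk (Spec.map (CommRingCat.ofHom φ)) rfl :
            Over.mk (Spec.map (CommRingCat.ofHom φ) ≫ k.str) ⟶ k.pt) ≫ k.toHom) →
          AlgSp.EtaleLocally (fun U => IsReduced U) Xk',
      ∀ (k : AlgSp.FieldPt Y.obj), AlgSp.Points.mk k = y →
        ∀ (k' : Type u) [Field k'] (φ : k.K →+* k') (Xk' : AlgSp.Sp S) (a : Xk' ⟶ X.obj)
          (b : Xk' ⟶ (AlgSp.yon S).obj (Over.mk (Spec.map (CommRingCat.ofHom φ) ≫ k.str))),
          IsPullback a b f.hom ((AlgSp.yon S).map (Over.homMk (Spec.map (CommRingCat.ofHom φ)) rfl :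
            Over.mk (Spec.map (CommRingCat.ofHom φ) ≫ k.str) ⟶ k.pt) ≫ k.toHom) →
          AlgSp.EtaleLocally (fun U => IsReduced U) Xk',
      ∀ (k : AlgSp.FieldPt Y.obj), AlgSp.Points.mk k = y →
        ∀ (Xk : AlgSp.Sp S) (a : Xk ⟶ X.obj) (b : Xk ⟶ (AlgSp.yon S).obj k.pt), IsPullback a b f.hom k.toHom →
          AlgSp.EtaleLocally (fun U => IsReduced U) Xk].TFAE := by
  tfae_have 2 → 1 := by
    intro h2
    obtain ⟨k, hk⟩ := AlgSp.Points.mk_surjective y
    exact ⟨k, hk, h2 k hk⟩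
  tfae_have 1 → 2 := by
    rintro ⟨k₀, hk₀, H⟩ k₁ hk₁ k' _ φ₁ Xk' a b sq
    exact Groth.Agent.Lib.helper5.AlgSpGR.red_of_mk_eq f k₀ k₁ (hk₀.trans hk₁.symm)
      (fun k' _ φ Q a b sq => H k' φ Q a b sq) k' φ₁ Xk' a b sq
  tfae_have 2 → 3 := by
    intro h2 k hk Xk a b sq
    haveI : Flat (Over.homMk (Spec.map (CommRingCat.ofHom (RingHom.id k.K))) rfl :
        Over.mk (Spec.map (CommRingCat.ofHom (RingHom.id k.K)) ≫ k.str) ⟶ k.pt).left :=
      Groth.Agent.Lib.helper5.AlgSpGR.flat_of_fields (Spec.map (CommRingCat.ofHom (RingHom.id k.K)))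
    haveI : Surjective (Over.homMk (Spec.map (CommRingCat.ofHom (RingHom.id k.K))) rfl :
        Over.mk (Spec.map (CommRingCat.ofHom (RingHom.id k.K)) ≫ k.str) ⟶ k.pt).left :=
      Groth.Agent.Lib.helper5.AlgSpGR.surjective_of_fields
        (Spec.map (CommRingCat.ofHom (RingHom.id k.K)))
    exact Groth.Agent.Lib.helper5.AlgSpGR.red_of_flat_surjective f k.toHom
      (Over.homMk (Spec.map (CommRingCat.ofHom (RingHom.id k.K))) rfl :
        Over.mk (Spec.map (CommRingCat.ofHom (RingHom.id k.K)) ≫ k.str) ⟶ k.pt)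
      (fun Q a b sq => h2 k hk k.K (RingHom.id k.K) Q a b sq) Xk a b sq
  tfae_have 3 → 2 := by
    intro h3 k hk k' _ φ Xk' a b sq
    have hk'' : AlgSp.Points.mk (Groth.Agent.Lib.helper10.fieldPtOfHom
        (Spec.map (CommRingCat.ofHom φ) ≫ k.str)
        ((AlgSp.yon S).map (Over.homMk (Spec.map (CommRingCat.ofHom φ)) rfl :
            Over.mk (Spec.map (CommRingCat.ofHom φ) ≫ k.str) ⟶ k.pt) ≫ k.toHom)) = y :=
      (Groth.Agent.Lib.helper10.mk_fieldPtOfHom_comp k _ _).trans hk
    exact h3 _ hk'' Xk' a b (by rw [Groth.Agent.Lib.helper10.fieldPtOfHom_toHom]; exact sq)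
  tfae_finish

end Groth.Agent.S10686
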