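import Groth.Statements.S10687
import Groth.Agent.Lib.Helper17.ChartTower
import Groth.Agent.Lib.Helper17.FibreNoethChart
import Groth.Agent.Lib.Helper17.GorAtComp

set_option autoImplicit false
set_option linter.style.haveILetI false
universe u
open CategoryTheory CategoryTheory.Limits AlgebraicGeometry
open AlgSp

namespace Groth.Agent.S10687

/-- For morphisms f : X ⟶ Y and g : Y ⟶ Z between algebraic spaces over S whose fibres, and those of f ≫
g, are locally Noetherian, and a point x of |X|: (1) if g is Gorenstein at the image of x and f is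
Gorenstein at x itself, then so is f ≫ g at x; (2) if f ≫ g is Gorenstein at x and f is flat there,
then f is Gorenstein at x and g at the image of x. Here f is Gorenstein at x when in every etale
chart diagram through x the top arrow is Gorenstein at the point over x (flat there, with Gorenstein
local ring of its fibre), and the fibres of a morphism are locally Noetherian when every fibre over
a field point (pullback in fppf sheaves) is a locally Noetherian algebraic space. -/
theorem result {S : Scheme.{u}} {X Y Z : AlgSp.Space S} (f : X ⟶ Y) (g : Y ⟶ Z)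
    (hf : ∀ (k : AlgSp.FieldPt Y.obj) (Xk : AlgSp.Sp S) (a : Xk ⟶ X.obj) (b : Xk ⟶ (AlgSp.yon S).obj k.pt),
        IsPullback a b f.hom k.toHom → AlgSp.IsLocNoethSp Xk)
    (hg : ∀ (k : AlgSp.FieldPt Z.obj) (Xk : AlgSp.Sp S) (a : Xk ⟶ Y.obj) (b : Xk ⟶ (AlgSp.yon S).obj k.pt),
        IsPullback a b g.hom k.toHom → AlgSp.IsLocNoethSp Xk)
    (hfg : ∀ (k : AlgSp.FieldPt Z.obj) (Xk : AlgSp.Sp S) (a : Xk ⟶ X.obj) (b : Xk ⟶ (AlgSp.yon S).obj k.pt),
        IsPullback a b (f ≫ g).hom k.toHom → AlgSp.IsLocNoethSp Xk)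
    (x : AlgSp.Points X.obj) :
    (AlgSp.LocPAt (fun h u => Dual3.IsGorensteinAt h u) f.hom x → AlgSp.LocPAt (fun h u => Dual3.IsGorensteinAt h u) g.hom (AlgSp.Points.map f.hom x) →
        AlgSp.LocPAt (fun h u => Dual3.IsGorensteinAt h u) (f ≫ g).hom x) ∧
      (AlgSp.LocPAt (fun h u => Dual3.IsGorensteinAt h u) (f ≫ g).hom x → AlgSp.IsFlatAtMor f.hom x →
        AlgSp.LocPAt (fun h u => Dual3.IsGorensteinAt h u) f.hom x ∧ AlgSp.LocPAt (fun h u => Dual3.IsGorensteinAt h u) g.hom (AlgSp.Points.map f.hom x)) := by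
  obtain ⟨U, V, W, a, b, c, h1, h2, u, hae, hbe, hce, hc1, hc2, hu, hE⟩ :=
    Groth.Agent.Lib.helper17.ChartTower.exists_tower X.property Y.property Z.property f.hom g.hom x
  have hc : a ≫ (f.hom ≫ g.hom) = (yon S).map (h1 ≫ h2) ≫ c := by
    rw [← Category.assoc, hc1, Category.assoc, hc2, Functor.map_comp, Category.assoc]
  have hpt : Points.ofPt b (h1.left u) = Points.map f.hom x := by
    rw [← hu, Points.map_ofPt, hc1, Groth.Agent.Lib.helper11.ofPt_yon_map_comp]
  have hleft : (h1 ≫ h2).left = h1.left ≫ h2.left := Over.comp_left _ _ _ _ _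
  have hS : ∀ {W U V : Scheme.{u}} (g : W ⟶ U) [Etale g] (h : U ⟶ V) (w : ↥W),
      Dual3.IsGorensteinAt (g ≫ h) w ↔ Dual3.IsGorensteinAt h (g w) := fun g _ h w =>
    Groth.Agent.Lib.helper17.GorAtEtale.isGorensteinAt_comp_etale_left g h w
  have hT : ∀ {W T V : Scheme.{u}} (m : W ⟶ T) (k : T ⟶ V) [Etale k] (w : ↥W),
      Dual3.IsGorensteinAt (m ≫ k) w ↔ Dual3.IsGorensteinAt m w := fun m k _ w =>
    Groth.Agent.Lib.helper17.GorAtEtale.isGorensteinAt_comp_etale_right m k w
  refine ⟨fun hf' hg' => ?_, fun hfg' hfl => ?_⟩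
  · have h1G : Dual3.IsGorensteinAt h1.left u := hf' a b h1 u hae hbe hc1 hu
    have h2G : Dual3.IsGorensteinAt h2.left (h1.left u) := hg' b c h2 (h1.left u) hbe hce hc2 hpt
    have hN : IsNoetherianRing (Groth.Agent.Lib.helper17.FibreStalk.FibRing (h1 ≫ h2).left u) :=
      Groth.Agent.Lib.helper17.FibreNoethChart.noeth_fibRing_of_chart (f.hom ≫ g.hom) a c
        (h1 ≫ h2) hc (hE hc) u
        (hfg (FieldPt.ofPt c ((h1 ≫ h2).left u)) _ _ _ (IsPullback.of_hasPullback _ _))
    rw [hleft] at hN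
    have hcomp := Groth.Agent.Lib.helper17.GorAtComp.isGorensteinAt_comp_of_noeth h1.left h2.left u
      hN h1G h2G
    refine Groth.Agent.Lib.helper17.LocPAtChart.locPAt_of_chart
      (Q := fun h u => Dual3.IsGorensteinAt h u) hS hT (f ≫ g).hom x a c (h1 ≫ h2) u hae hce hc hu ?_
    change Dual3.IsGorensteinAt (h1 ≫ h2).left u
    rw [hleft]
    exact hcomp
  · have h12 : Dual3.IsGorensteinAt (h1 ≫ h2).left u := hfg' a c (h1 ≫ h2) u hae hce hc hu
    have hfl1 : (h1.left.stalkMap u).hom.Flat := hfl a b h1 u hae hbe hc1 hu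
    rw [hleft] at h12
    obtain ⟨hG1, hG2⟩ :=
      Groth.Agent.Lib.helper17.GorAtComp.isGorensteinAt_of_comp h1.left h2.left u h12 hfl1
    exact ⟨Groth.Agent.Lib.helper17.LocPAtChart.locPAt_of_chart
        (Q := fun h u => Dual3.IsGorensteinAt h u) hS hT f.hom x a b h1 u hae hbe hc1 hu hG1,
      Groth.Agent.Lib.helper17.LocPAtChart.locPAt_of_chart
        (Q := fun h u => Dual3.IsGorensteinAt h u) hS hT g.hom _ b c h2 (h1.left u) hbe hce hc2
        hpt hG2⟩

end Groth.Agent.S10687
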