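import Groth.Statements.S10688
import Groth.Agent.Lib.Helper17.ChartBC
import Groth.Agent.Lib.Helper17.FibreNoethChart
import Groth.Agent.Lib.Helper17.GorBCPoint
import Groth.Agent.Lib.Helper17.LocPAtChart

set_option autoImplicit false
set_option linter.style.haveILetI false
universe u
open CategoryTheory CategoryTheory.Limits AlgebraicGeometry
open AlgSp

namespace Groth.Agent.S10688

/-- For a morphism f : X ⟶ Y between algebraic spaces over S with locally Noetherian fibres, g : Y' ⟶ Y
locally of finite type, f' : X' ⟶ Y' the base change (a pullback square of algebraic spaces) with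
projection g' : X' ⟶ X, and x' a point of |X'| with image x: (1) if f is Gorenstein at x then so is
f' at x'; (2) when f is flat at x, Gorensteinness of f' at x' implies that of f at x; (3) the same
conclusion holds if instead g is flat at the image of x' and f' is Gorenstein at x'. Here f is
Gorenstein at x when in every etale chart diagram through x the top arrow is Gorenstein at the point
over x (flat there, with Gorenstein local ring of its fibre), and the fibres of a morphism are
locally Noetherian when every fibre over a field point (pullback in fppf sheaves) is a locally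
Noetherian algebraic space. -/
theorem result {S : Scheme.{u}} {X Y X' Y' : AlgSp.Space S} (f : X ⟶ Y) (g : Y' ⟶ Y) (g' : X' ⟶ X) (f' : X' ⟶ Y')
    (hsq : IsPullback g'.hom f'.hom f.hom g.hom)
    (hf : ∀ (k : AlgSp.FieldPt Y.obj) (Xk : AlgSp.Sp S) (a : Xk ⟶ X.obj) (b : Xk ⟶ (AlgSp.yon S).obj k.pt),
        IsPullback a b f.hom k.toHom → AlgSp.IsLocNoethSp Xk)
    (hg : AlgSp.LocP @LocallyOfFiniteType g.hom) (x' : AlgSp.Points X'.obj) :
    (AlgSp.LocPAt (fun h u => Dual3.IsGorensteinAt h u) f.hom (AlgSp.Points.map g'.hom x') → AlgSp.LocPAt (fun h u => Dual3.IsGorensteinAt h u) f'.hom x') ∧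
      (AlgSp.IsFlatAtMor f.hom (AlgSp.Points.map g'.hom x') → AlgSp.LocPAt (fun h u => Dual3.IsGorensteinAt h u) f'.hom x' →
        AlgSp.LocPAt (fun h u => Dual3.IsGorensteinAt h u) f.hom (AlgSp.Points.map g'.hom x')) ∧
      (AlgSp.IsFlatAtMor g.hom (AlgSp.Points.map f'.hom x') → AlgSp.LocPAt (fun h u => Dual3.IsGorensteinAt h u) f'.hom x' →
        AlgSp.LocPAt (fun h u => Dual3.IsGorensteinAt h u) f.hom (AlgSp.Points.map g'.hom x')) := by
  obtain ⟨U, V, U', V', a, b, a', b', h, h', p, k, u', hae, hbe, ha'e, hb'e, hc, hc', hcp, hck, sqU,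
      hu', hE⟩ :=
    Groth.Agent.Lib.helper17.ChartBC.exists_bc_charts X.property Y.property Y'.property hsq x'
  haveI hklft : LocallyOfFiniteType k.left := hg b' b k hb'e hbe hck
  have sqUs : IsPullback p.left h'.left h.left k.left := sqU.map (Over.forget S)
  have hpu : Points.ofPt a (p.left u') = Points.map g'.hom x' := by
    rw [← hu', Points.map_ofPt, hcp, Groth.Agent.Lib.helper11.ofPt_yon_map_comp]
  have hpv : Points.ofPt b' (h'.left u') = Points.map f'.hom x' := by
    rw [← hu', Points.map_ofPt, hc', Groth.Agent.Lib.helper11.ofPt_yon_map_comp]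
  have hN : IsNoetherianRing (Groth.Agent.Lib.helper17.FibreStalk.FibRing h.left (p.left u')) :=
    Groth.Agent.Lib.helper17.FibreNoethChart.noeth_fibRing_of_chart f.hom a b h hc (hE hc)
      (p.left u') (hf (FieldPt.ofPt b (h.left (p.left u'))) _ _ _ (IsPullback.of_hasPullback _ _))
  obtain ⟨B1, B2, B3⟩ := Groth.Agent.Lib.helper17.GorBCPoint.isGorensteinAt_bc sqUs u' hN
  have hS : ∀ {W U V : Scheme.{u}} (g : W ⟶ U) [Etale g] (h : U ⟶ V) (w : ↥W),
      Dual3.IsGorensteinAt (g ≫ h) w ↔ Dual3.IsGorensteinAt h (g w) := fun g _ h w =>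
    Groth.Agent.Lib.helper17.GorAtEtale.isGorensteinAt_comp_etale_left g h w
  have hT : ∀ {W T V : Scheme.{u}} (m : W ⟶ T) (k : T ⟶ V) [Etale k] (w : ↥W),
      Dual3.IsGorensteinAt (m ≫ k) w ↔ Dual3.IsGorensteinAt m w := fun m k _ w =>
    Groth.Agent.Lib.helper17.GorAtEtale.isGorensteinAt_comp_etale_right m k w
  refine ⟨fun H => ?_, fun Hfl H => ?_, fun Hfl H => ?_⟩
  · exact Groth.Agent.Lib.helper17.LocPAtChart.locPAt_of_chart
      (Q := fun h u => Dual3.IsGorensteinAt h u) hS hT f'.hom x' a' b' h' u' ha'e hb'e hc' hu'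
      (B1 (H a b h (p.left u') hae hbe hc hpu))
  · exact Groth.Agent.Lib.helper17.LocPAtChart.locPAt_of_chart
      (Q := fun h u => Dual3.IsGorensteinAt h u) hS hT f.hom _ a b h (p.left u') hae hbe hc hpu
      (B2 (Hfl a b h (p.left u') hae hbe hc hpu) (H a' b' h' u' ha'e hb'e hc' hu'))
  · exact Groth.Agent.Lib.helper17.LocPAtChart.locPAt_of_chart
      (Q := fun h u => Dual3.IsGorensteinAt h u) hS hT f.hom _ a b h (p.left u') hae hbe hc hpu
      (B3 (Hfl b' b k (h'.left u') hb'e hbe hck hpv) (H a' b' h' u' ha'e hb'e hc' hu'))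

end Groth.Agent.S10688
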