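import Groth.Statements.S10690
import Groth.Agent.Lib.Helper17.FibreChart
import Groth.Agent.Lib.Helper17.LocPAtChart

set_option autoImplicit false
set_option linter.style.haveILetI false
universe u
open CategoryTheory CategoryTheory.Limits AlgebraicGeometry
open AlgSp

namespace Groth.Agent.S10690

/-- For a morphism f : X ⟶ Y between algebraic spaces over S whose fibres are locally Noetherian, the
following are equivalent: (1) f is Gorenstein at every point of |X|; (2) f is flat and for some
scheme V with a representable etale surjective b : h_V ⟶ Y every fibre of X ×_Y V ⟶ V over a point v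
of V (pullback along the residue field point of v) is a Gorenstein algebraic space (some etale
surjective scheme chart is a Gorenstein scheme); (3) f is flat and the same holds for every scheme V
with a representable etale b : h_V ⟶ Y. Here f is Gorenstein at x when in every etale chart diagram
through x the top arrow is Gorenstein at the point over x (flat there, with Gorenstein local ring of
its fibre), and the fibres of a morphism are locally Noetherian when every fibre over a field point
(pullback in fppf sheaves) is a locally Noetherian algebraic space. (The published statement also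
characterises being Gorenstein at a single point through strict henselizations; that part is stated
separately and not included here.) -/
theorem result {S : Scheme.{u}} {X Y : AlgSp.Space S} (f : X ⟶ Y)
    (hf : ∀ (k : AlgSp.FieldPt Y.obj) (Xk : AlgSp.Sp S) (a : Xk ⟶ X.obj) (b : Xk ⟶ (AlgSp.yon S).obj k.pt),
        IsPullback a b f.hom k.toHom → AlgSp.IsLocNoethSp Xk) :
    [∀ x : AlgSp.Points X.obj, AlgSp.LocPAt (fun h u => Dual3.IsGorensteinAt h u) f.hom x,
      AlgSp.LocP @Flat f.hom ∧ ∃ (V : Over S) (b : (AlgSp.yon S).obj V ⟶ Y.obj),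
        AlgSp.RepWith @Etale b ∧ AlgSp.RepWith @Surjective b ∧
          ∀ (v : ↥V.left) (Xv : AlgSp.Sp S) (a : Xv ⟶ X.obj)
            (c : Xv ⟶ (AlgSp.yon S).obj (Over.mk (V.left.fromSpecResidueField v ≫ V.hom))),
            IsPullback a c f.hom ((AlgSp.yon S).map (Over.homMk (V.left.fromSpecResidueField v) rfl :
              Over.mk (V.left.fromSpecResidueField v ≫ V.hom) ⟶ V) ≫ b) →
            AlgSp.EtaleLocally Dual3.IsGorenstein Xv,
      AlgSp.LocP @Flat f.hom ∧ ∀ (V : Over S) (b : (AlgSp.yon S).obj V ⟶ Y.obj), AlgSp.RepWith @Etale b →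
          ∀ (v : ↥V.left) (Xv : AlgSp.Sp S) (a : Xv ⟶ X.obj)
            (c : Xv ⟶ (AlgSp.yon S).obj (Over.mk (V.left.fromSpecResidueField v ≫ V.hom))),
            IsPullback a c f.hom ((AlgSp.yon S).map (Over.homMk (V.left.fromSpecResidueField v) rfl :
              Over.mk (V.left.fromSpecResidueField v ≫ V.hom) ⟶ V) ≫ b) →
            AlgSp.EtaleLocally Dual3.IsGorenstein Xv].TFAE := by
  have hS : ∀ {W U V : Scheme.{u}} (g : W ⟶ U) [Etale g] (h : U ⟶ V) (w : ↥W),
      Dual3.IsGorensteinAt (g ≫ h) w ↔ Dual3.IsGorensteinAt h (g w) := fun g _ h w =>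
    Groth.Agent.Lib.helper17.GorAtEtale.isGorensteinAt_comp_etale_left g h w
  have hT : ∀ {W T V : Scheme.{u}} (m : W ⟶ T) (k : T ⟶ V) [Etale k] (w : ↥W),
      Dual3.IsGorensteinAt (m ≫ k) w ↔ Dual3.IsGorensteinAt m w := fun m k _ w =>
    Groth.Agent.Lib.helper17.GorAtEtale.isGorensteinAt_comp_etale_right m k w
  tfae_have 1 → 3 := by
    intro H
    refine ⟨?_, ?_⟩
    · intro U V a b h ha hb hc
      rw [Flat.iff_flat_stalkMap]
      intro u
      exact (H (Points.ofPt a u) a b h u ha hb hc rfl).1
    · intro V b hb v Xv a0 c0 sqXv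
      obtain ⟨U, a, h, hc, hae, -, hEe, hEs⟩ :=
        Groth.Agent.Lib.helper17.FibreChart.exists_chart_over X.property Y.property f.hom b hb
      obtain ⟨j, -, -, hj⟩ :=
        Groth.Agent.Lib.helper17.FibreChart.fibre_chart f.hom a b h hc v a0 c0 sqXv
      have hje := hj @Etale hEe
      have hjs := hj @Surjective hEs
      have hEL : EtaleLocally (fun W => ∀ w : ↥W, LocCoh.IsGorensteinLocalRing (W.presheaf.stalk w))
          Xv := by
        refine ⟨_, j, hje, hjs, fun z => ?_⟩
        have hG := (Groth.Agent.Lib.helper17.GorAtEtale.isGorensteinAt_iff _ _).1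
          (H (Points.ofPt a _) a b h
            ((pullback.fst h (Groth.Agent.Lib.helper17.FibreChart.resPt V v)).left z) hae hb hc rfl)
        exact Groth.Agent.Lib.helper17.GorIso.isGorensteinLocalRing_of_ringEquiv
          (Groth.Agent.Lib.helper17.FibreChart.stalkEquiv h v z).symm hG.2
      have hNoeth : IsLocNoethSp Xv := by
        refine hf (FieldPt.ofPt b v) Xv a0 c0 ?_
        rw [FieldPt.toHom_ofPt]
        exact sqXv
      obtain ⟨T, t, hte, hts, hTN⟩ := hNoeth
      refine ⟨T, t, hte, hts, hTN, fun τ => ?_⟩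
      exact Groth.Agent.Lib.helper17.GorSpaceChart.forall_chart_of_etaleLocally
        (Q := fun U u => LocCoh.IsGorensteinLocalRing (U.presheaf.stalk u))
        (fun g _ v => Groth.Agent.Lib.helper17.GorSpaceChart.gor_stalk_iff_of_etale' g v)
        (fun _ h u => h u) hEL t hte τ
  tfae_have 3 → 2 := by
    rintro ⟨hfl, H⟩
    obtain ⟨V, b, hbe, hbs⟩ := Y.property.atlas
    exact ⟨hfl, V, b, hbe, hbs, H V b hbe⟩
  tfae_have 2 → 1 := by
    rintro ⟨hfl, V, b, hbe, hbs, H⟩ x
    obtain ⟨U, a, h, hc, hae, has, hEe, -⟩ :=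
      Groth.Agent.Lib.helper17.FibreChart.exists_chart_over X.property Y.property f.hom b hbe
    obtain ⟨u, hu⟩ := Groth.Agent.Lib.helper11.surjective_ofPt a (has hbs) x
    haveI : Flat h.left := hfl a b h hae hbe hc
    have hEL := H (h.left u) _ _ _ (IsPullback.of_hasPullback f.hom
      ((yon S).map (Groth.Agent.Lib.helper17.FibreChart.resPt V (h.left u)) ≫ b))
    obtain ⟨j, -, -, hj⟩ :=
      Groth.Agent.Lib.helper17.FibreChart.fibre_chart f.hom a b h hc (h.left u) _ _
        (IsPullback.of_hasPullback f.hom
          ((yon S).map (Groth.Agent.Lib.helper17.FibreChart.resPt V (h.left u)) ≫ b))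
    have hje := hj @Etale hEe
    obtain ⟨z, hz⟩ := Groth.Agent.Lib.helper17.FibreChart.exists_point h u
    have hGz := Groth.Agent.Lib.helper17.GorSpaceChart.gor_stalk_of_etaleLocally hEL j hje z
    have hG := Groth.Agent.Lib.helper17.GorIso.isGorensteinLocalRing_of_ringEquiv
      (Groth.Agent.Lib.helper17.FibreChart.stalkEquiv h (h.left u) z) hGz
    rw [hz] at hG
    refine Groth.Agent.Lib.helper17.LocPAtChart.locPAt_of_chart
      (Q := fun h u => Dual3.IsGorensteinAt h u) hS hT f.hom x a b h u hae hbe hc hu ?_
    exact (Groth.Agent.Lib.helper17.GorAtEtale.isGorensteinAt_iff _ _).2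
      ⟨Flat.stalkMap h.left u, hG⟩
  tfae_finish

end Groth.Agent.S10690
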