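import Groth.Statements.S10691
import Groth.Agent.Lib.Helper17.GorSpaceChart

set_option autoImplicit false
set_option linter.style.haveILetI false
universe u
open CategoryTheory CategoryTheory.Limits AlgebraicGeometry
open AlgSp

namespace Groth.Agent.S10691

/-- For locally Noetherian algebraic spaces X, Y over S and a flat morphism f : X ⟶ Y, with X Gorenstein
(some etale surjective scheme chart is a Gorenstein scheme): f is Gorenstein at every point of |X|,
and for every point x of |X| the etale local ring of Y at a geometric point over f(x), presented as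
a strict henselization R of the local ring of an etale scheme chart V of Y at a point v over f(x),
is a Gorenstein local ring. Here f is Gorenstein at x when in every etale chart diagram through x
the top arrow is Gorenstein at the point over x (flat there, with Gorenstein local ring of its
fibre), and the fibres of a morphism are locally Noetherian when every fibre over a field point
(pullback in fppf sheaves) is a locally Noetherian algebraic space. -/
theorem result {S : Scheme.{u}} {X Y : AlgSp.Space S} (f : X ⟶ Y) (hf : AlgSp.LocP @Flat f.hom)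
    (hX1 : AlgSp.IsLocNoethSp X.obj) (hY1 : AlgSp.IsLocNoethSp Y.obj)
    (hX2 : AlgSp.EtaleLocally Dual3.IsGorenstein X.obj) :
    (∀ x : AlgSp.Points X.obj, AlgSp.LocPAt (fun h u => Dual3.IsGorensteinAt h u) f.hom x) ∧
      ∀ (x : AlgSp.Points X.obj) (V : Over S) (b : (AlgSp.yon S).obj V ⟶ Y.obj), AlgSp.RepWith @Etale b →
        ∀ (v : ↥V.left), AlgSp.Points.ofPt b v = AlgSp.Points.map f.hom x →
          ∀ (R : Type u) [CommRing R] [IsLocalRing R] [Algebra ↥(V.left.presheaf.stalk v) R]
            [IsLocalHom (algebraMap ↥(V.left.presheaf.stalk v) R)]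
            [Hensel.IsStrictHenselization ↥(V.left.presheaf.stalk v) R],
            LocCoh.IsGorensteinLocalRing R := by
  have hFlat : ∀ {U V : Over S} (a : (yon S).obj U ⟶ X.obj) (b : (yon S).obj V ⟶ Y.obj) (h : U ⟶ V),
      RepWith @Etale a → RepWith @Etale b → a ≫ f.hom = (yon S).map h ≫ b → ∀ u : ↥U.left,
      Dual3.IsGorensteinAt h.left u ∧
        LocCoh.IsGorensteinLocalRing (V.left.presheaf.stalk (h.left u)) := by
    intro U V a b h ha hb hc u
    haveI : Flat h.left := hf a b h ha hb hc
    exact Groth.Agent.Lib.helper17.GorSpaceChart.isGorensteinAt_of_flat_of_gor h.left u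
      (Groth.Agent.Lib.helper17.GorSpaceChart.gor_stalk_of_etaleLocally hX2 a ha u)
      (Groth.Agent.Lib.helper17.GorSpaceChart.noeth_stalk_of_etaleLocally hY1 b hb (h.left u))
  refine ⟨?_, ?_⟩
  · intro x U V a b h u ha hb hc _
    exact (hFlat a b h ha hb hc u).1
  · intro x V b hb v hv R _ _ _ _ _
    obtain ⟨U0, a0, u0, ha0e, -, hu0⟩ := Groth.Agent.Lib.helper11.exists_chart_ofPt X x
    obtain ⟨U, snd, fst, sq⟩ := hb.1 (a0 ≫ f.hom)
    have hsnd : Etale snd.left := hb.2 (a0 ≫ f.hom) fst snd sq
    obtain ⟨h, rfl⟩ := (yon S).map_surjective fst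
    have hpt : Points.ofPt b v = Points.ofPt (a0 ≫ f.hom) u0 := by
      rw [hv, ← hu0, Points.map_ofPt]
    obtain ⟨u, hu1, hu2⟩ := Groth.Agent.Lib.helper11.exists_of_isPullback_schemes sq v u0 hpt
    have ha : RepWith @Etale ((yon S).map snd ≫ a0) :=
      (repWith_isMultiplicative (S := S) @Etale).comp_mem _ _
        ((repWith_yon_map_iff @Etale snd).2 hsnd) ha0e
    have hc : ((yon S).map snd ≫ a0) ≫ f.hom = (yon S).map h ≫ b := by
      rw [Category.assoc, sq.w]
    have hG := (hFlat ((yon S).map snd ≫ a0) b h ha hb hc u).2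
    rw [hu1] at hG
    exact Groth.Agent.Lib.helper17.GorSpaceChart.gor_strictHenselization
      (V.left.presheaf.stalk v) R hG

end Groth.Agent.S10691
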