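import Groth.Statements.S10692
import Groth.Agent.S10678
import Groth.Agent.S10679
import Groth.Agent.S10680
import Groth.Agent.S10308
import Groth.Agent.Lib.Helper3.SecCompDim
import Groth.Agent.Lib.Helper5.AlgSpLocPFam
import Groth.Agent.Lib.Helper7.AlgSpFibre
import Groth.Agent.Lib.Helper10.AlgSpPoints

set_option autoImplicit false
universe u
open CategoryTheory CategoryTheory.Limits AlgebraicGeometry
open AlgSp

namespace Groth.Agent.S10692

/-- For a proper flat morphism f : X ⟶ Y between algebraic spaces over S which is of finite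
presentation, the fibre dimension function on |Y| is locally constant: for every d the set of y such
that every fibre X_k over y (k a field point in the class of y, X_k any pullback in fppf sheaves)
has dimension exactly d is open. -/
theorem result {S : Scheme.{u}} {X Y : AlgSp.Space S} (f : X ⟶ Y) (hf1 : AlgSp.IsProperMor f.hom)
    (hf2 : AlgSp.LocP @Flat f.hom) (hf3 : AlgSp.IsFinitePresentationMor f.hom) (d : WithBot ℕ∞) :
    IsOpen {y : AlgSp.Points Y.obj | ∀ (k : AlgSp.FieldPt Y.obj), AlgSp.Points.mk k = y →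
      ∀ (Xk : AlgSp.Sp S) (fst : Xk ⟶ X.obj) (snd : Xk ⟶ (AlgSp.yon S).obj k.pt),
        IsPullback fst snd f.hom k.toHom → AlgSp.dim Xk = d} := by
  classical
  have hft : AlgSp.IsFiniteTypeMor f.hom := hf1.2.1
  have hexk : ∀ y : AlgSp.Points Y.obj, ∃ (k : AlgSp.FieldPt Y.obj) (Xk : AlgSp.Sp S)
      (fst : Xk ⟶ X.obj) (snd : Xk ⟶ (AlgSp.yon S).obj k.pt), AlgSp.Points.mk k = y ∧
      IsPullback fst snd f.hom k.toHom := by
    intro y
    obtain ⟨k, hk⟩ := AlgSp.Points.mk_surjective y
    exact ⟨k, pullback f.hom k.toHom, pullback.fst _ _, pullback.snd _ _, hk,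
      IsPullback.of_hasPullback _ _⟩
  have hS := fun (y : AlgSp.Points Y.obj) (k : AlgSp.FieldPt Y.obj) (hk : AlgSp.Points.mk k = y)
    (Xk : AlgSp.Sp S) (fst : Xk ⟶ X.obj) (snd : Xk ⟶ (AlgSp.yon S).obj k.pt)
    (h : IsPullback fst snd f.hom k.toHom) => Groth.Agent.S10678.result f hft y k hk Xk fst snd h
  have hlttop : ∀ a : WithBot ℕ∞, a < ⊤ → ∃ n : ℕ, a ≤ (n : WithBot ℕ∞) := by
    intro a ha
    induction a using WithBot.recBotCoe with
    | bot => exact ⟨0, bot_le⟩
    | coe b =>
      have hb : b < ⊤ := by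
        have : ((b : ℕ∞) : WithBot ℕ∞) < ((⊤ : ℕ∞) : WithBot ℕ∞) := ha
        exact WithBot.coe_lt_coe.mp this
      obtain ⟨m, rfl⟩ := ENat.ne_top_iff_exists.mp hb.ne
      exact ⟨m, le_rfl⟩
  -- fibres are finite dimensional
  have hfin : ∀ (y : AlgSp.Points Y.obj) (k : AlgSp.FieldPt Y.obj) (hk : AlgSp.Points.mk k = y)
      (Xk : AlgSp.Sp S) (fst : Xk ⟶ X.obj) (snd : Xk ⟶ (AlgSp.yon S).obj k.pt)
      (h : IsPullback fst snd f.hom k.toHom), ∃ N : ℕ, AlgSp.dim Xk ≤ (N : WithBot ℕ∞) := by
    intro y k hk Xk fst snd h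
    have hqcK : AlgSp.IsQuasiCompactSp ((AlgSp.yon S).obj k.pt) :=
      ⟨k.pt, 𝟙 _, AlgSp.repWith_id @Etale k.pt, AlgSp.repWith_id @Surjective k.pt,
        (inferInstance : CompactSpace ↥(Spec (CommRingCat.of k.K)))⟩
    have hqcX : AlgSp.IsQuasiCompactSp Xk := hft.2 (IsAlgSpace.yon_obj k.pt) hqcK k.toHom fst snd h
    haveI := Groth.Agent.Lib.helper7.AlgSpFibre.compactSpace_of_isQuasiCompactSp hqcX
    have hopen : ∀ n : ℕ, IsOpen (AlgSp.Points.map fst ⁻¹' {x : AlgSp.Points X.obj |
        AlgSp.HasAtMor (fun _ _ h u => FlatMor.fibreDimAt h u ≤ (n : WithBot ℕ∞)) f.hom x}) :=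
      fun n => (Groth.Agent.S10308.result f hft.1 n).preimage (AlgSp.Points.continuous_map fst)
    have hcover : (Set.univ : Set (AlgSp.Points Xk)) ⊆ ⋃ n : ℕ,
        AlgSp.Points.map fst ⁻¹' {x : AlgSp.Points X.obj |
          AlgSp.HasAtMor (fun _ _ h u => FlatMor.fibreDimAt h u ≤ (n : WithBot ℕ∞)) f.hom x} := by
      intro z _
      obtain ⟨U, V, a, b, h₀, u, hae, hbe, hc, hu⟩ :=
        Groth.Agent.Lib.helper5.LocPFam.exists_chart_at_point X.property Y.property f.hom
          (AlgSp.Points.map fst z)
      haveI : LocallyOfFiniteType h₀.left := hft.1 a b h₀ hae hbe hc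
      obtain ⟨n, hn⟩ := hlttop _ (Groth.Agent.Lib.helper3.SecCompDim.fibreDimAt_lt_top h₀.left u)
      exact Set.mem_iUnion.mpr ⟨n, U, V, a, b, h₀, u, hae, hbe, hc, hu, hn⟩
    obtain ⟨t, ht⟩ := isCompact_univ.elim_finite_subcover _ hopen hcover
    refine ⟨t.sup id, ((hS y k hk Xk fst snd h).2 (t.sup id)).2 ?_⟩
    intro x hx
    obtain ⟨z, hz, -⟩ := Groth.Agent.Lib.helper10.exists_point_of_isPullback h x
      (AlgSp.Points.ofScheme k.pt (IsLocalRing.closedPoint k.K)) (by
        rw [hx, Groth.Agent.Lib.helper10.map_toHom_ofScheme, hk])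
    obtain ⟨n, hn⟩ := Set.mem_iUnion.mp (ht (Set.mem_univ z))
    obtain ⟨hnt, hn⟩ := Set.mem_iUnion.mp hn
    have h1 : n ≤ t.sup id := Finset.le_sup (f := id) hnt
    obtain ⟨U, V, a, b, h₀, u, hae, hbe, hc, hu, hQ⟩ := hn
    refine ⟨U, V, a, b, h₀, u, hae, hbe, hc, hu.trans hz, le_trans hQ ?_⟩
    exact_mod_cast h1
  have hup := fun d' => Groth.Agent.S10680.result f hf1 d'
  have hlow := fun d' => Groth.Agent.S10679.result f hf2 hf3 d'
  induction d using WithBot.recBotCoe with
  | bot =>
    convert hup (((0 : ℕ) : ℕ∞) : WithBot ℕ∞) using 1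
    ext y
    simp only [Set.mem_ofPred_eq]
    have hlt : ∀ a : WithBot ℕ∞, a < (((0 : ℕ) : ℕ∞) : WithBot ℕ∞) ↔ a = ⊥ := by
      intro a
      induction a using WithBot.recBotCoe with
      | bot => exact ⟨fun _ => rfl, fun _ => WithBot.bot_lt_coe _⟩
      | coe b =>
        rw [WithBot.coe_lt_coe]
        simp
    constructor
    · intro hy k hk Xk fst snd h
      exact (hlt _).2 (hy k hk Xk fst snd h)
    · intro hy k hk Xk fst snd h
      exact (hlt _).1 (hy k hk Xk fst snd h)
  | coe e =>
    induction e using ENat.recTopCoe with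
    | top =>
      convert isOpen_empty
      ext y
      simp only [Set.mem_ofPred_eq, Set.mem_empty_iff_false, iff_false]
      intro hy
      obtain ⟨k, Xk, fst, snd, hk, h⟩ := hexk y
      obtain ⟨N, hN⟩ := hfin y k hk Xk fst snd h
      rw [hy k hk Xk fst snd h] at hN
      have : ((⊤ : ℕ∞) : WithBot ℕ∞) ≤ ((N : ℕ∞) : WithBot ℕ∞) := hN
      rw [WithBot.coe_le_coe] at this
      exact absurd this (not_le.mpr (ENat.natCast_lt_top N))
    | coe n =>
      have hchar : ∀ a : WithBot ℕ∞, a = ((n : ℕ∞) : WithBot ℕ∞) ↔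
          a < (((n + 1 : ℕ) : ℕ∞) : WithBot ℕ∞) ∧
            (if n = 0 then (⊥ : WithBot ℕ∞) else (((n - 1 : ℕ) : ℕ∞) : WithBot ℕ∞)) < a := by
        intro a
        induction a using WithBot.recBotCoe with
        | bot =>
          constructor
          · intro h; exact absurd h (WithBot.bot_ne_coe)
          · rintro ⟨-, h⟩
            exact absurd h (not_lt_bot)
        | coe b =>
          induction b using ENat.recTopCoe with
          | top =>
            constructor
            · intro h
              have h' : (⊤ : ℕ∞) = (n : ℕ∞) := WithBot.coe_injective h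
              exact absurd h' (ENat.top_ne_coe n)
            · rintro ⟨h, -⟩
              rw [WithBot.coe_lt_coe] at h
              exact absurd h (not_lt.mpr le_top)
          | coe m =>
            rw [WithBot.coe_inj, WithBot.coe_lt_coe]
            by_cases hn0 : n = 0
            · subst hn0
              simp only [if_true]
              constructor
              · intro h
                have hm : m = 0 := by exact_mod_cast h
                subst hm
                exact ⟨by exact_mod_cast Nat.zero_lt_one, WithBot.bot_lt_coe _⟩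
              · rintro ⟨h, -⟩
                have hm : m < 0 + 1 := by exact_mod_cast h
                have : m = 0 := by omega
                subst this
                rfl
            · simp only [if_neg hn0]
              rw [WithBot.coe_lt_coe]
              constructor
              · intro h
                have hm : m = n := by exact_mod_cast h
                subst hm
                refine ⟨by exact_mod_cast Nat.lt_succ_self m, ?_⟩
                have : m - 1 < m := by omega
                exact_mod_cast this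
              · rintro ⟨h1, h2⟩
                have h1' : m < n + 1 := by exact_mod_cast h1
                have h2' : n - 1 < m := by exact_mod_cast h2
                have : m = n := by omega
                subst this
                rfl
      have hopen := (hup (((n + 1 : ℕ) : ℕ∞) : WithBot ℕ∞)).inter
        (hlow (if n = 0 then (⊥ : WithBot ℕ∞) else (((n - 1 : ℕ) : ℕ∞) : WithBot ℕ∞)))
      convert hopen using 1
      ext y
      simp only [Set.mem_ofPred_eq, Set.mem_inter_iff]
      constructor
      · intro hy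
        exact ⟨fun k hk Xk fst snd h => ((hchar _).1 (hy k hk Xk fst snd h)).1,
          fun k hk Xk fst snd h => ((hchar _).1 (hy k hk Xk fst snd h)).2⟩
      · rintro ⟨hy1, hy2⟩ k hk Xk fst snd h
        exact (hchar _).2 ⟨hy1 k hk Xk fst snd h, hy2 k hk Xk fst snd h⟩

end Groth.Agent.S10692
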