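import Groth.Statements.S10695
import Groth.Agent.Lib.Helper5.ElemDistA

set_option autoImplicit false
universe u
open CategoryTheory CategoryTheory.Limits AlgebraicGeometry
open AlgSp

namespace Groth.Agent.S10695

/-- Suppose `(U ⊂ W, f : V → W)`, a square of algebraic spaces over `S`, is elementary distinguished
(`j` an open immersion, `f` etale and an isomorphism over the reduced closed complement of `U`) and
let `P` with its two projections be a fibre product `U ×_W V`. Then `W` is the pushout of `U` and
`V` along `P` among algebraic spaces over `S`. -/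
theorem result {S : Scheme.{u}} {U V W P : AlgSp.Space S} (j : U ⟶ W) (f : V ⟶ W)
    (hsq : AlgSp.IsElemDistSq j.hom f.hom) (p : P ⟶ U) (q : P ⟶ V)
    (hP : IsPullback p.hom q.hom j.hom f.hom) : IsPushout p q j f := by
  have hsq' := hsq
  obtain ⟨hj, het, -⟩ := hsq
  haveI hjm : Mono j.hom := Groth.Agent.Lib.helper5.LargestOpen.mono_of_oi hj
  let Ti : ULift.{u} Bool → AlgSp.Space S := fun k => cond k.down V U
  let g : ∀ k, Ti k ⟶ W := fun k => match k with
    | ⟨true⟩ => f
    | ⟨false⟩ => j
  have hflat : (@Etale : MorphismProperty Scheme.{u}) ≤ @Flat := fun _ _ m hm => by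
    have : Etale m := hm
    exact (inferInstance : Flat m)
  have hlfp : (@Etale : MorphismProperty Scheme.{u}) ≤ @LocallyOfFinitePresentation := fun _ _ m hm => by
    have : Etale m := hm
    exact (inferInstance : LocallyOfFinitePresentation m)
  have hcover : AlgSp.IsFppfCover (fun k => (Ti k).obj) (fun k => (g k).hom) := by
    refine ⟨?_, fun w => ?_⟩
    · rintro ⟨_ | _⟩
      · have := Groth.Agent.S10265.locP_etale_of_isEtaleMor j.hom
          (Groth.Agent.Lib.helper5.LargestOpen.isEtaleMor_of_oi j.hom hj)
        exact ⟨Groth.Agent.S10265.locP_mono hflat this, Groth.Agent.S10265.locP_mono hlfp this⟩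
      · have := Groth.Agent.S10265.locP_etale_of_isEtaleMor f.hom het
        exact ⟨Groth.Agent.S10265.locP_mono hflat this, Groth.Agent.S10265.locP_mono hlfp this⟩
    · rcases Groth.Agent.Lib.helper5.ElemDist.jointly_surj j.hom f.hom hsq' w with h | h
      · exact ⟨⟨false⟩, h⟩
      · exact ⟨⟨true⟩, h⟩
  have hstd : Groth.Agent.Lib.helper5.FpqcHom.StdCovers (fun k => (g k).hom) :=
    (Groth.Agent.S10505.result W Ti g hcover).2
  refine Groth.Agent.Lib.helper5.ElemDist.isPushout_of_existsUnique
    (ObjectProperty.hom_ext _ hP.w) ?_ ?_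
  · intro Z a b hab
    have hab' : p.hom ≫ a.hom = q.hom ≫ b.hom := congrArg (fun m => m.hom) hab
    let bi : ∀ k, (Ti k).obj ⟶ Z.obj := fun k => match k with
      | ⟨true⟩ => b.hom
      | ⟨false⟩ => a.hom
    have hcoh : Groth.Agent.Lib.helper5.FpqcHom.Coh (fun k => (g k).hom) bi := by
      intro Q k k' l l' hll
      rcases k with ⟨_ | _⟩ <;> rcases k' with ⟨_ | _⟩
      · change l ≫ j.hom = l' ≫ j.hom at hll
        change l ≫ a.hom = l' ≫ a.hom
        rw [(cancel_mono j.hom).1 hll]
      · change l ≫ j.hom = l' ≫ f.hom at hll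
        change l ≫ a.hom = l' ≫ b.hom
        rw [← hP.lift_fst l l' hll, Category.assoc, hab', ← Category.assoc, hP.lift_snd]
      · change l ≫ f.hom = l' ≫ j.hom at hll
        change l ≫ b.hom = l' ≫ a.hom
        rw [← hP.lift_fst l' l hll.symm, Category.assoc, hab', ← Category.assoc, hP.lift_snd]
      · change l ≫ f.hom = l' ≫ f.hom at hll
        change l ≫ b.hom = l' ≫ b.hom
        apply Groth.Agent.Lib.helper5.hom_ext_yon
        intro T s
        rw [← Category.assoc, ← Category.assoc]
        exact Groth.Agent.Lib.helper5.ElemDist.coh_VV V.property W.property j.hom f.hom hsq' hP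
          a.hom b.hom hab' (s ≫ l) (s ≫ l') (by rw [Category.assoc, Category.assoc, hll])
    obtain ⟨m, hm⟩ := Groth.Agent.Lib.helper5.FpqcHom.exists_hom_of_stdCovers W.property
      (fun k => (Ti k).property) Z.property hstd hcoh
    exact ⟨ObjectProperty.homMk m, ObjectProperty.hom_ext _ (hm ⟨false⟩),
      ObjectProperty.hom_ext _ (hm ⟨true⟩)⟩
  · intro Z m m' h1 h2
    apply ObjectProperty.hom_ext
    refine Groth.Agent.Lib.helper5.FpqcHom.hom_ext_of_stdCovers W.property Z.property hstd _ _ ?_
    rintro ⟨_ | _⟩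
    · exact congrArg (fun m => m.hom) h1
    · exact congrArg (fun m => m.hom) h2

end Groth.Agent.S10695
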