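import Groth.Statements.S1071
import Groth.Agent.Lib.Helper20.KosPn
import Groth.Agent.Lib.Helper20.KosCount

set_option autoImplicit false
universe u
open CategoryTheory CategoryTheory.Limits AlgebraicGeometry
open Perf

namespace Groth.Agent.S1071

open Groth.Agent.Lib.helper20.KosCone Groth.Agent.Lib.helper20.KosPn

/-- Let A be a ring, X = P^n_A and a ∈ ℤ. There is a cochain complex of O_X-modules, exact in every
degree, whose term in degree i is isomorphic to the direct sum of (n+1 choose i) copies of O_X(a +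
i) for 0 ≤ i ≤ n + 1 and is zero in all other degrees. -/
theorem result (n : ℕ) (A : Type u) [CommRing A] (a : ℤ) :
    ∃ C : CochainComplex (CohB1.ProjSpace n A).Modules ℤ, (∀ i : ℤ, C.ExactAt i) ∧
      (∀ i : ℕ, i ≤ n + 1 → Nonempty (C.X (i : ℤ) ≅ ∐ fun _ : Fin (Nat.choose (n + 1) i) => Twist.twistProjSpace n A (a + i))) ∧
      (∀ i : ℤ, i < 0 ∨ (n : ℤ) + 1 < i → IsZero (C.X i)) := by
  refine ⟨reindex ((kos (grOpO n A) (n + 1)).M a) (-((n + 1 : ℕ) : ℤ)), ?_, ?_, ?_⟩
  · intro i
    exact reindex_exactAt _ _ i (kosO_exactAt n A a _)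
  · intro i _
    exact kos_X_iso_coprod (grOpO n A) (n + 1) a ((i : ℤ) + -((n + 1 : ℕ) : ℤ)) i (by ring)
      (a + i) rfl
  · intro i hi
    refine kos_isZero (grOpO n A) (n + 1) a (i + -((n + 1 : ℕ) : ℤ)) ?_
    rcases hi with hi | hi
    · exact Or.inr (by push_cast; omega)
    · exact Or.inl (by push_cast; omega)

end Groth.Agent.S1071
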