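import Groth.Statements.S10719
import Groth.Agent.Lib.Helper5.FpqcColimB
import Groth.Agent.S9875

set_option autoImplicit false
universe w v u
open CategoryTheory CategoryTheory.Limits AlgebraicGeometry
open AlgSp
open Groth.Agent.Lib.helper5.FpqcColim Groth.Agent.Lib.helper5.FpqcHom

namespace Groth.Agent.S10719

/-- Let `B` be an algebraic space over `S`, `D : I ⥤ Over B` a diagram of algebraic spaces over `B` with
a cocone `c`, and `{U_a → c.pt}` an fpqc covering (by algebraic spaces over `B`). If (1) for every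
`a`, every cocone of cartesian squares `D_i ×_{c.pt} U_a → U_a` is a colimit in algebraic spaces
over `B`, and (2) the same holds for every fibre product `U_a ×_{c.pt} U_b`, then `c` is a colimit
in algebraic spaces over `B`. -/
theorem result {S : Scheme.{u}} {B : AlgSp.Space S} {I : Type v} [Category.{w} I] (D : I ⥤ Over B)
    (c : Cocone D) {κ : Type u} (Ua : κ → Over B) (ua : ∀ a, Ua a ⟶ c.pt)
    (hcov : AlgSp.IsFpqcCover (fun a => (Ua a).left.obj) (fun a => (ua a).left.hom))
    (h₁ : ∀ (a : κ) (Da : I ⥤ Over B) (α : Da ⟶ D) (ι : Da ⟶ (Functor.const I).obj (Ua a)),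
      (∀ i, IsPullback (ι.app i).left.hom (α.app i).left.hom (ua a).left.hom (c.ι.app i).left.hom) →
        Nonempty (IsColimit (Cocone.mk (Ua a) ι)))
    (h₂ : ∀ (a b : κ) (Uab : Over B) (pa : Uab ⟶ Ua a) (pb : Uab ⟶ Ua b),
      IsPullback pa.left.hom pb.left.hom (ua a).left.hom (ua b).left.hom →
      ∀ (Dab : I ⥤ Over B) (α : Dab ⟶ D) (ι : Dab ⟶ (Functor.const I).obj Uab),
        (∀ i, IsPullback (ι.app i).left.hom (α.app i).left.hom (pa ≫ ua a).left.hom (c.ι.app i).left.hom) →
          Nonempty (IsColimit (Cocone.mk Uab ι))) :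
    Nonempty (IsColimit c) := by
  obtain ⟨hpb, hpres⟩ := Groth.Agent.S9875.result S
  haveI := hpb
  haveI := hpres
  have hstd : StdCovers (fun a => (ua a).left.hom) := hcov.2
  have hca : ∀ a, Nonempty (IsColimit (Cocone.mk (Ua a) (bcι D c (Ua a) (ua a)))) := fun a =>
    h₁ a _ (bcα D c (Ua a) (ua a)) (bcι D c (Ua a) (ua a))
      (fun i => (bc_isPullback D c (Ua a) (ua a) i).map (ObjectProperty.ι _))
  refine ⟨IsColimit.ofExistsUnique fun s => ?_⟩
  let fa : ∀ a, Ua a ⟶ s.pt := fun a =>
    (hca a).some.desc ⟨s.pt, bcα D c (Ua a) (ua a) ≫ s.ι⟩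
  have hfa : ∀ a i, (bcι D c (Ua a) (ua a)).app i ≫ fa a =
      (bcα D c (Ua a) (ua a)).app i ≫ s.ι.app i := fun a i =>
    (hca a).some.fac ⟨s.pt, bcα D c (Ua a) (ua a) ≫ s.ι⟩ i
  have hcomp : ∀ (a b : κ) (V' : Over B) (e₁ : V' ⟶ Ua a) (e₂ : V' ⟶ Ua b) (w : V' ⟶ c.pt)
      (h1 : e₁ ≫ ua a = w) (h2 : e₂ ≫ ua b = w),
      Nonempty (IsColimit (Cocone.mk V' (bcι D c V' w))) → e₁ ≫ fa a = e₂ ≫ fa b := by
    intro a b V' e₁ e₂ w h1 h2 ⟨hc⟩
    apply hc.hom_ext
    intro i
    change (bcι D c V' w).app i ≫ e₁ ≫ fa a = (bcι D c V' w).app i ≫ e₂ ≫ fa b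
    rw [← Category.assoc, ← bcComp_ι D c (Ua a) (ua a) e₁ w h1 i, Category.assoc, hfa,
      ← Category.assoc, bcComp_α,
      ← Category.assoc, ← bcComp_ι D c (Ua b) (ua b) e₂ w h2 i, Category.assoc, hfa,
      ← Category.assoc, bcComp_α]
  have hcoh : Coh (fun a => (ua a).left.hom) (fun a => (fa a).left.hom) := by
    intro Q a b l l' hll
    let Uab : Over B := Over.mk (pullback.fst (ua a).left (ua b).left ≫ (Ua a).hom)
    let pa : Uab ⟶ Ua a := Over.homMk (pullback.fst (ua a).left (ua b).left) rfl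
    let pb : Uab ⟶ Ua b := Over.homMk (pullback.snd (ua a).left (ua b).left) (by
      change pullback.snd (ua a).left (ua b).left ≫ (Ua b).hom =
        pullback.fst (ua a).left (ua b).left ≫ (Ua a).hom
      rw [← Over.w (ua b), ← Over.w (ua a), ← Category.assoc, ← Category.assoc, pullback.condition])
    have sqab : IsPullback pa.left pb.left (ua a).left (ua b).left :=
      IsPullback.of_hasPullback (ua a).left (ua b).left
    have sqab' : IsPullback pa.left.hom pb.left.hom (ua a).left.hom (ua b).left.hom :=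
      sqab.map (ObjectProperty.ι _)
    have hcolim := h₂ a b Uab pa pb sqab' (bc D c Uab (pa ≫ ua a)) (bcα D c Uab (pa ≫ ua a))
      (bcι D c Uab (pa ≫ ua a))
      (fun i => (bc_isPullback D c Uab (pa ≫ ua a) i).map (ObjectProperty.ι _))
    have hpair : pa ≫ fa a = pb ≫ fa b :=
      hcomp a b Uab pa pb (pa ≫ ua a) rfl (by
        apply Over.OverMorphism.ext
        exact sqab.w.symm) hcolim
    have hpair' : pa.left.hom ≫ (fa a).left.hom = pb.left.hom ≫ (fa b).left.hom :=
      congrArg (fun m => m.left.hom) hpair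
    change l ≫ (fa a).left.hom = l' ≫ (fa b).left.hom
    rw [← sqab'.lift_fst l l' hll, Category.assoc, hpair', ← Category.assoc, sqab'.lift_snd]
  obtain ⟨f, hf⟩ := exists_hom_of_stdCovers c.pt.left.property (fun a => (Ua a).left.property)
    s.pt.left.property hstd hcoh
  have hfB : f ≫ s.pt.hom.hom = c.pt.hom.hom := by
    refine hom_ext_of_stdCovers c.pt.left.property B.property hstd _ _ (fun a => ?_)
    have h1 : (fa a).left.hom ≫ s.pt.hom.hom = (Ua a).hom.hom :=
      congrArg (fun m => m.hom) (Over.w (fa a))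
    have h2 : (ua a).left.hom ≫ c.pt.hom.hom = (Ua a).hom.hom :=
      congrArg (fun m => m.hom) (Over.w (ua a))
    change (ua a).left.hom ≫ f ≫ s.pt.hom.hom = (ua a).left.hom ≫ c.pt.hom.hom
    rw [← Category.assoc, hf a, h1, h2]
  let F : c.pt ⟶ s.pt := Over.homMk (ObjectProperty.homMk f) (ObjectProperty.hom_ext _ hfB)
  refine ⟨F, fun i => ?_, fun F' hF' => ?_⟩
  · apply Over.OverMorphism.ext
    apply ObjectProperty.hom_ext
    change (c.ι.app i).left.hom ≫ f = (s.ι.app i).left.hom
    have hstd' : StdCovers (fun a => ((bcα D c (Ua a) (ua a)).app i).left.hom) :=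
      hstd.baseChange (c.ι.app i).left.hom _ (fun a => ((bcι D c (Ua a) (ua a)).app i).left.hom)
        (fun a => ((bc_isPullback D c (Ua a) (ua a) i).map (ObjectProperty.ι _)).flip)
    refine hom_ext_of_stdCovers (D.obj i).left.property s.pt.left.property hstd' _ _ (fun a => ?_)
    have hw : ((bcα D c (Ua a) (ua a)).app i).left.hom ≫ (c.ι.app i).left.hom =
        ((bcι D c (Ua a) (ua a)).app i).left.hom ≫ (ua a).left.hom :=
      ((bc_isPullback D c (Ua a) (ua a) i).map (ObjectProperty.ι _)).w.symm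
    have h3 : ((bcι D c (Ua a) (ua a)).app i).left.hom ≫ (fa a).left.hom =
        ((bcα D c (Ua a) (ua a)).app i).left.hom ≫ (s.ι.app i).left.hom :=
      congrArg (fun m => m.left.hom) (hfa a i)
    change ((bcα D c (Ua a) (ua a)).app i).left.hom ≫ (c.ι.app i).left.hom ≫ f =
      ((bcα D c (Ua a) (ua a)).app i).left.hom ≫ (s.ι.app i).left.hom
    rw [← Category.assoc, hw, Category.assoc, hf a, h3]
  · apply Over.OverMorphism.ext
    apply ObjectProperty.hom_ext
    change F'.left.hom = f
    refine hom_ext_of_stdCovers c.pt.left.property s.pt.left.property hstd _ _ (fun a => ?_)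
    have h4 : ua a ≫ F' = fa a := by
      apply (hca a).some.hom_ext
      intro i
      change (bcι D c (Ua a) (ua a)).app i ≫ ua a ≫ F' = (bcι D c (Ua a) (ua a)).app i ≫ fa a
      rw [← Category.assoc, bc_w, Category.assoc, hF' i, hfa]
    have h5 : (ua a).left.hom ≫ F'.left.hom = (fa a).left.hom := congrArg (fun m => m.left.hom) h4
    change (ua a).left.hom ≫ F'.left.hom = (ua a).left.hom ≫ f
    rw [h5, hf a]

end Groth.Agent.S10719
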