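import Groth.Statements.S10750
import Groth.Agent.Lib.Helper1.FieldDimG
import Groth.Agent.Lib.Helper1.GenFinP
import Groth.Agent.Lib.Helper10.AlgSpPoints
import Groth.Agent.Lib.Helper5.AlgSpLocPBC
import Groth.Agent.S10423

set_option autoImplicit false
universe u
open CategoryTheory CategoryTheory.Limits AlgebraicGeometry Opposite
open AlgSp

namespace Groth.Agent.S10750

open Groth.Agent.Lib.helper5 Groth.Agent.Lib.helper5.NearLocus Groth.Agent.Lib.helper5.LqfLocus
open Groth.Agent.Lib.helper11 Groth.Agent.H1.GenFin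

theorem main {S : Scheme.{u}} {X Y : AlgSp.Space S}
    (f : X ⟶ Y) (hf : AlgSp.IsProperMor f.hom) (y : AlgSp.FieldPt Y.obj)
    (Xy : AlgSp.Sp S) (fst : Xy ⟶ X.obj) (snd : Xy ⟶ (AlgSp.yon S).obj y.pt)
    (hsq : IsPullback fst snd f.hom y.toHom) (hfin : Finite (AlgSp.Points Xy)) :
    ∃ (V : AlgSp.Space S) (j : V ⟶ Y), AlgSp.RepWith @IsOpenImmersion j.hom ∧
      AlgSp.Points.mk y ∈ Set.range (AlgSp.Points.map j.hom) ∧
        ∀ (P : AlgSp.Space S) (fst' : P ⟶ X) (snd' : P ⟶ V), IsPullback fst'.hom snd'.hom f.hom j.hom →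
          AlgSp.IsFiniteMor snd'.hom := by
  have hsep : IsSeparatedMor f.hom := hf.1
  have hlft : LocP @LocallyOfFiniteType f.hom := hf.2.1.1
  have hXy : IsAlgSpace Xy :=
    Groth.Agent.Lib.helper5.isAlgSpace_of_isPullback Y.property.diag X.property (IsAlgSpace.yon_obj _) hsq
  have hqs : IsQuasiSeparatedMor f.hom :=
    Groth.Agent.Lib.helper18.repWith_mono (fun _ _ g hg => by
      haveI : IsClosedImmersion g := hg
      infer_instance) hsep
  have hdec : IsDecent Xy := (Groth.Agent.S10423.result f).2 hqs y.toHom fst snd hsq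
  have hlft' : LocP @LocallyOfFiniteType snd :=
    Groth.Agent.Lib.helper5.LocPBC.locP_of_isPullback Groth.Agent.Lib.helper5.LocPBC.locPData_lft
      X.property Y.property (IsAlgSpace.yon_obj _) hsq hlft
  have hq : ∀ x : Points X.obj, Points.map f.hom x = Points.mk y → HasAtMor (NearAt Plqf) f.hom x := by
    intro x hx
    let z : Points ((yon S).obj y.pt) := Points.ofScheme y.pt (IsLocalRing.closedPoint y.K)
    have hz : Points.map y.toHom z = Points.mk y := by
      rw [← Points.ofPt_eq_map_ofScheme, Points.ofPt_toHom]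
    obtain ⟨w, hw1, -⟩ := Groth.Agent.Lib.helper10.exists_point_of_isPullback hsq x z (hx.trans hz.symm)
    rw [← hw1, ← lqfLocus_baseChange X.property Y.property (IsAlgSpace.yon_obj _) hsq hlft w]
    haveI : Finite (Points (⟨Xy, hXy⟩ : Space S).obj) := hfin
    exact Groth.Agent.H1.FieldDimG.hasAtMor_lqf_of_finite y.str ⟨Xy, hXy⟩ snd hlft' hdec w
  obtain ⟨Y', j, hj, hr, hfin'⟩ := exists_open_finite_of_proper_of_fibre_lqf f hf (Points.mk y) hq
  exact ⟨Y', j, hj, hr, fun P fst' snd' sq => hfin' P snd' fst' sq.flip⟩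

/-- Take a proper morphism f : X ⟶ Y of algebraic spaces over S whose target Y is locally Noetherian,
and let y be a geometric point of Y such that the fibre X_y (a pullback of f along the corresponding
morphism from the spectrum of the algebraically closed field) has finitely many points. Then there
is an open subspace V of Y containing the image of y such that the base change X ×_Y V ⟶ V is
finite. -/
theorem result {S : Scheme.{u}} {X Y : AlgSp.Space S}
    (f : X ⟶ Y) (hY : AlgSp.IsLocNoethSp Y.obj) (hf : AlgSp.IsProperMor f.hom) (y : AlgSp.FieldPt Y.obj)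
    (hy : y.IsGeometric) (Xy : AlgSp.Sp S) (fst : Xy ⟶ X.obj) (snd : Xy ⟶ (AlgSp.yon S).obj y.pt)
    (hsq : IsPullback fst snd f.hom y.toHom) (hfin : Finite (AlgSp.Points Xy)) :
    ∃ (V : AlgSp.Space S) (j : V ⟶ Y), AlgSp.RepWith @IsOpenImmersion j.hom ∧
      AlgSp.Points.mk y ∈ Set.range (AlgSp.Points.map j.hom) ∧
        ∀ (P : AlgSp.Space S) (fst' : P ⟶ X) (snd' : P ⟶ V), IsPullback fst'.hom snd'.hom f.hom j.hom →
          AlgSp.IsFiniteMor snd'.hom := by
  exact main f hf y Xy fst snd hsq hfin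

end Groth.Agent.S10750
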