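import Groth.Statements.S10760
import Groth.Agent.Lib.Helper5.AlgSpProperSurj
import Groth.Agent.S10192
import Groth.Agent.S10193

set_option autoImplicit false
universe u
open CategoryTheory CategoryTheory.Limits AlgebraicGeometry
open AlgSp

namespace Groth.Agent.S10760

/-- Let f : X ⟶ Y be a morphism of algebraic spaces over S that is locally of finite type, and let i : Z
⟶ X, i' : Z' ⟶ X be closed subspaces (representable closed immersions) with the same image in |X|.
If the composite Z ⟶ Y is proper, then so is Z' ⟶ Y. (That properness of every closed subspace with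
support T implies properness of the reduced one, and that this implies properness of some closed
subspace with support T, is immediate.) -/
theorem result {S : Scheme.{u}} {X Y Z Z' : AlgSp.Space S}
    (f : X ⟶ Y) (hf : AlgSp.LocP @LocallyOfFiniteType f.hom)
    (i : Z ⟶ X) (i' : Z' ⟶ X)
    (hi : AlgSp.RepWith @IsClosedImmersion i.hom) (hi' : AlgSp.RepWith @IsClosedImmersion i'.hom)
    (heq : Set.range (AlgSp.Points.map i.hom) = Set.range (AlgSp.Points.map i'.hom))
    (hZ : AlgSp.IsProperMor (i ≫ f).hom) :
    AlgSp.IsProperMor (i' ≫ f).hom := by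
  open Groth.Agent.Lib.helper5.ProperSurj in
  have hT : IsClosed (Set.range (AlgSp.Points.map i.hom)) := isClosed_range_of_closedImmersion hi
  obtain ⟨W, w, hw1, hw2, hw3⟩ := Groth.Agent.S10192.result X _ hT
  obtain ⟨g, hg⟩ := (Groth.Agent.S10193.result i hi hw3 w).2 (by rw [hw2])
  obtain ⟨g', hg'⟩ := (Groth.Agent.S10193.result i' hi' hw3 w).2 (by rw [hw2, heq])
  have hgc : RepWith @IsClosedImmersion g.hom :=
    closedImmersion_cancel X.property hw1 hi g.hom (by rw [← hg]; rfl)
  have hg'c : RepWith @IsClosedImmersion g'.hom :=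
    closedImmersion_cancel X.property hw1 hi' g'.hom (by rw [← hg']; rfl)
  have hWY : IsProperMor (g ≫ i ≫ f).hom :=
    Groth.Agent.S10276.main g (i ≫ f) (Groth.Agent.S10277.result g hgc) hZ
  have hcomm : g' ≫ (i' ≫ f) = g ≫ i ≫ f := by
    rw [← Category.assoc, hg', ← Category.assoc, hg]
  have hsurj : IsSurjectiveMor g'.hom := by
    intro z'
    have hmem : Points.map i'.hom z' ∈ Set.range (Points.map w.hom) := by
      rw [hw2, heq]
      exact ⟨z', rfl⟩
    obtain ⟨y, hy⟩ := hmem
    refine ⟨y, injective_map_of_closedImmersion hi' ?_⟩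
    rw [← Points.map_comp, ← hy, ← hg']
    rfl
  refine isProperMor_of_surjective_univClosed g' (g ≫ i ≫ f) (i' ≫ f) hcomm hsurj
    (Groth.Agent.Lib.helper18.isUnivClosedMor_of_repWith_isClosedImmersion _ hg'c) hWY ?_
  exact Groth.Agent.S10276.locP_lft_comp X.property i'.hom f.hom
    (locP_lft_of_closedImmersion Z'.property X.property hi') hf

end Groth.Agent.S10760
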