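import Groth.Statements.S10762
import Groth.Agent.Lib.Helper5.AlgSpProperImage

set_option autoImplicit false
universe u
open CategoryTheory CategoryTheory.Limits AlgebraicGeometry
open AlgSp

namespace Groth.Agent.S10762

/-- Let B be an algebraic space over S, let a : X ⟶ B and b : Y ⟶ B be locally of finite type with b
separated, and let f : X ⟶ Y be a morphism over B. If i : Z ⟶ X is a closed subspace with Z ⟶ B
proper, then the image of |Z| under |f| is a closed subset of |Y| which underlies a closed subspace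
Z' ⟶ Y with Z' ⟶ B proper. -/
theorem result {S : Scheme.{u}} {X Y B Z : AlgSp.Space S}
    (a : X ⟶ B) (b : Y ⟶ B) (f : X ⟶ Y) (hcomm : f ≫ b = a)
    (ha : AlgSp.LocP @LocallyOfFiniteType a.hom) (hb : AlgSp.LocP @LocallyOfFiniteType b.hom)
    (hbs : AlgSp.IsSeparatedMor b.hom)
    (i : Z ⟶ X) (hi : AlgSp.RepWith @IsClosedImmersion i.hom) (hZ : AlgSp.IsProperMor (i ≫ a).hom) :
    IsClosed (AlgSp.Points.map f.hom '' Set.range (AlgSp.Points.map i.hom)) ∧
      ∃ (Z' : AlgSp.Space S) (i' : Z' ⟶ Y), AlgSp.RepWith @IsClosedImmersion i'.hom ∧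
        Set.range (AlgSp.Points.map i'.hom) = AlgSp.Points.map f.hom '' Set.range (AlgSp.Points.map i.hom) ∧
        AlgSp.IsProperMor (i' ≫ b).hom := by
  have hcomm : (i ≫ f) ≫ b = i ≫ a := by rw [Category.assoc, hcomm]
  obtain ⟨hφ, hcl⟩ := (Groth.Agent.S10278.result (i ≫ f) (i ≫ a) b hcomm hbs).1 hZ.2.2
  have hrange : AlgSp.Points.map f.hom '' Set.range (AlgSp.Points.map i.hom) =
      Set.range (AlgSp.Points.map (i ≫ f).hom) := by
    ext y
    constructor
    · rintro ⟨_, ⟨z, rfl⟩, rfl⟩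
      exact ⟨z, Points.map_comp _ _ _⟩
    · rintro ⟨z, rfl⟩
      exact ⟨_, ⟨z, rfl⟩, (Points.map_comp _ _ _).symm⟩
  rw [hrange]
  exact ⟨hcl, Groth.Agent.Lib.helper5.ProperSurj.exists_proper_image (i ≫ a) (i ≫ f) b hcomm hZ hb hφ hcl⟩

end Groth.Agent.S10762
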