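import Groth.Statements.S10764
import Groth.Agent.S10275
import Groth.Agent.S10276
import Groth.Agent.Lib.Helper10.AlgSpPoints

set_option autoImplicit false
universe u
open CategoryTheory CategoryTheory.Limits AlgebraicGeometry
open AlgSp

namespace Groth.Agent.S10764

/-- Let B be an algebraic space over S, let a : X ⟶ B and b : Y ⟶ B be locally of finite type, let f : X
⟶ Y be a proper morphism over B, let i : Z ⟶ Y be a closed subspace with Z ⟶ B proper, and let i' :
Z' ⟶ X be its inverse image under f (a cartesian square Z' = Z ×_Y X). Then Z' ⟶ B is proper and the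
image of |Z'| in |X| is the inverse image of the image of |Z| under |f|; that is, the inverse image
of a closed subset proper over B is proper over B. -/
theorem result {S : Scheme.{u}} {X Y B Z Z' : AlgSp.Space S}
    (a : X ⟶ B) (b : Y ⟶ B) (f : X ⟶ Y) (hcomm : f ≫ b = a)
    (ha : AlgSp.LocP @LocallyOfFiniteType a.hom) (hb : AlgSp.LocP @LocallyOfFiniteType b.hom)
    (hfp : AlgSp.IsProperMor f.hom)
    (i : Z ⟶ Y) (hi : AlgSp.RepWith @IsClosedImmersion i.hom) (hZ : AlgSp.IsProperMor (i ≫ b).hom)
    (i' : Z' ⟶ X) (q : Z' ⟶ Z) (hsq : IsPullback q.hom i'.hom i.hom f.hom) :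
    AlgSp.IsProperMor (i' ≫ a).hom ∧
      Set.range (AlgSp.Points.map i'.hom) = AlgSp.Points.map f.hom ⁻¹' Set.range (AlgSp.Points.map i.hom) := by
  constructor
  · have hq : IsProperMor q.hom := Groth.Agent.S10275.result f i i' q hsq.flip hfp
    have e : i' ≫ a = q ≫ i ≫ b := by
      rw [← hcomm, ← Category.assoc, ← Category.assoc]
      congr 1
      apply ObjectProperty.hom_ext
      exact hsq.w.symm
    rw [e]
    exact Groth.Agent.S10276.main q (i ≫ b) hq hZ
  · ext z'
    constructor
    · rintro ⟨w, rfl⟩
      refine ⟨Points.map q.hom w, ?_⟩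
      show Points.map i.hom (Points.map q.hom w) = Points.map f.hom (Points.map i'.hom w)
      rw [← Points.map_comp, ← Points.map_comp, hsq.w]
    · rintro ⟨x, hx⟩
      obtain ⟨w, -, hw⟩ := Groth.Agent.Lib.helper10.exists_point_of_isPullback hsq x z' hx
      exact ⟨w, hw⟩

end Groth.Agent.S10764
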