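import Groth.Statements.S10765
import Groth.Agent.Lib.Helper5.AlgSpProperFam

set_option autoImplicit false
universe u
open CategoryTheory CategoryTheory.Limits AlgebraicGeometry
open AlgSp

namespace Groth.Agent.S10765

/-- Let f : X ⟶ Y be a morphism of algebraic spaces over S that is locally of finite type and let i_k :
Z_k ⟶ X, for k ranging over a finite index set, be closed subspaces with each Z_k ⟶ Y proper. Then
there is a closed subspace W ⟶ X whose image in |X| is the union of the images of the |Z_k| and with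
W ⟶ Y proper; that is, a finite union of closed subsets proper over Y is proper over Y. -/
theorem result {S : Scheme.{u}} {X Y : AlgSp.Space S}
    (f : X ⟶ Y) (hf : AlgSp.LocP @LocallyOfFiniteType f.hom)
    {n : ℕ} (Z : Fin n → AlgSp.Space S) (i : ∀ k, Z k ⟶ X)
    (hi : ∀ k, AlgSp.RepWith @IsClosedImmersion (i k).hom) (hZ : ∀ k, AlgSp.IsProperMor (i k ≫ f).hom) :
    ∃ (W : AlgSp.Space S) (j : W ⟶ X), AlgSp.RepWith @IsClosedImmersion j.hom ∧
      Set.range (AlgSp.Points.map j.hom) = ⋃ k, Set.range (AlgSp.Points.map (i k).hom) ∧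
      AlgSp.IsProperMor (j ≫ f).hom := by
  open Groth.Agent.Lib.helper5.ProperSurj in
  have hTk : ∀ k, IsClosed (Set.range (AlgSp.Points.map (i k).hom)) := fun k =>
    isClosed_range_of_closedImmersion (hi k)
  have hT : IsClosed (⋃ k, Set.range (AlgSp.Points.map (i k).hom)) := isClosed_iUnion_of_finite hTk
  obtain ⟨W, j, hj1, hj2, hj3⟩ := Groth.Agent.S10192.result X _ hT
  choose Wk w hw1 hw2 hw3 using fun k => Groth.Agent.S10192.result X _ (hTk k)
  choose u hu using fun k => (Groth.Agent.S10193.result (i k) (hi k) (hw3 k) (w k)).2 (by rw [hw2 k])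
  choose h hh using fun k => (Groth.Agent.S10193.result j hj1 (hw3 k) (w k)).2 (by
    rw [hw2 k, hj2]
    exact Set.subset_iUnion (fun k => Set.range (AlgSp.Points.map (i k).hom)) k)
  have huc : ∀ k, RepWith @IsClosedImmersion (u k).hom := fun k =>
    closedImmersion_cancel X.property (hw1 k) (hi k) (u k).hom (by rw [← hu k]; rfl)
  have hhc : ∀ k, RepWith @IsClosedImmersion (h k).hom := fun k =>
    closedImmersion_cancel X.property (hw1 k) hj1 (h k).hom (by rw [← hh k]; rfl)
  refine ⟨W, j, hj1, hj2, ?_⟩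
  refine isProperMor_of_closed_family h (j ≫ f) (fun z => ?_) hhc (fun k => ?_) ?_
  · have hz : Points.map j.hom z ∈ ⋃ k, Set.range (AlgSp.Points.map (i k).hom) := by
      rw [← hj2]; exact ⟨z, rfl⟩
    obtain ⟨k, hk⟩ := Set.mem_iUnion.1 hz
    rw [← hw2 k] at hk
    obtain ⟨y, hy⟩ := hk
    refine ⟨k, y, injective_map_of_closedImmersion hj1 ?_⟩
    rw [← Points.map_comp, ← hy, ← hh k]
    rfl
  · have e : h k ≫ j ≫ f = u k ≫ i k ≫ f := by
      rw [← Category.assoc, hh k, ← Category.assoc, hu k]
    rw [e]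
    exact Groth.Agent.S10276.main (u k) (i k ≫ f) (Groth.Agent.S10277.result (u k) (huc k)) (hZ k)
  · exact Groth.Agent.S10276.locP_lft_comp X.property j.hom f.hom
      (locP_lft_of_closedImmersion W.property X.property hj1) hf

end Groth.Agent.S10765
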