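import Groth.Statements.S1079
import Groth.Agent.Lib.Helper27.Karoubi
-- import your own Groth.Agent.* helpers here

set_option autoImplicit false
universe v u
open CategoryTheory CategoryTheory.Limits
open CohDer

namespace Groth.Agent.S1079

/-- A pretriangulated category which has countable coproducts, or countable products, is Karoubian
(idempotent complete). -/
theorem result {D : Type u} [Category.{v} D] [Preadditive D] [Limits.HasZeroObject D] [HasShift D ℤ]
    [∀ n : ℤ, (shiftFunctor D n).Additive] [Pretriangulated D]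
    (h : HasColimitsOfShape (Discrete ℕ) D ∨ HasLimitsOfShape (Discrete ℕ) D) : IsIdempotentComplete D := by
  rcases h with h | h
  · apply Groth.Agent.Lib.helper27.isIdempotentComplete_of_coproducts
    intro P f hf
    obtain ⟨Z, g, δ, hT⟩ := Pretriangulated.distinguished_cocone_triangle f
    have hδ : δ = 0 := by
      have h1 : δ ≫ (shiftFunctor D (1 : ℤ)).map f = 0 := Pretriangulated.comp_distTriang_mor_zero₃₁ _ hT
      have : Mono ((shiftFunctor D (1 : ℤ)).map f) := inferInstance
      rw [← cancel_mono ((shiftFunctor D (1 : ℤ)).map f), h1, Limits.zero_comp]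
    have hg : Epi g := Pretriangulated.Triangle.epi₂ _ hT hδ
    refine ⟨Z, g, hg, Pretriangulated.comp_distTriang_mor_zero₁₂ _ hT, ?_⟩
    intro V j hj
    obtain ⟨l, hl⟩ := Pretriangulated.Triangle.yoneda_exact₂ _ hT j hj
    exact ⟨l, hl.symm⟩
  · apply Groth.Agent.Lib.helper27.isIdempotentComplete_of_products
    intro P f hf
    obtain ⟨Z, k, δ, hT⟩ := Pretriangulated.distinguished_cocone_triangle₁ f
    have hδ : δ = 0 := by
      have h1 : f ≫ δ = 0 := Pretriangulated.comp_distTriang_mor_zero₂₃ _ hT
      rw [← cancel_epi f, h1, Limits.comp_zero]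
    have hk : Mono k := Pretriangulated.Triangle.mono₁ _ hT hδ
    refine ⟨Z, k, hk, Pretriangulated.comp_distTriang_mor_zero₁₂ _ hT, ?_⟩
    intro V j hj
    obtain ⟨l, hl⟩ := Pretriangulated.Triangle.coyoneda_exact₂ _ hT j hj
    exact ⟨l, hl.symm⟩

end Groth.Agent.S1079
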