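import Groth.Statements.S9943
import Groth.Agent.Lib.Helper5.AlgSpEtFpqc
import Groth.Agent.S10533

set_option autoImplicit false
universe u
open CategoryTheory CategoryTheory.Limits AlgebraicGeometry
open AlgSp

namespace Groth.Agent.S9943

/-- (4) ⇒ (2): being affine descends along a surjective etale base change from a scheme. -/
theorem result {S : Scheme.{u}} {X Y : AlgSp.Space S} (f : X ⟶ Y) (V : Over S)
    (p : (AlgSp.yon S).obj V ⟶ Y.obj) (hp : AlgSp.RepWith @Etale p) (hps : AlgSp.RepWith @Surjective p)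
    {P : AlgSp.Sp S} (fst : P ⟶ X.obj) (snd : P ⟶ (AlgSp.yon S).obj V) (sq : IsPullback fst snd f.hom p)
    (h : AlgSp.IsAffineMor snd) : AlgSp.IsAffineMor f.hom := by
  have hcov := Groth.Agent.Lib.helper5.EtFpqc.isFpqcCover_of_chart Y.property V p hp hps
  have hP : IsAlgSpace P := Groth.Agent.Lib.helper5.isAlgSpace_of_isPullback Y.property.diag X.property
    (IsAlgSpace.yon_obj V) sq
  exact (Groth.Agent.S10533.result S (ι := PUnit.{u + 1}) (fun _ => (AlgSp.yon S).obj V) (fun _ => p)
    Y.property (fun _ => IsAlgSpace.yon_obj V) hcov f.hom X.property (fun _ => P) (fun _ => snd)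
    (fun _ => fst) (fun _ => hP) (fun _ => sq)).2 (fun _ => h)

end Groth.Agent.S9943
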