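import Groth.Statements.S10806
import Groth.Agent.Lib.Helper5.LocPrincipalAffine
import Groth.Agent.Lib.Helper5.AlgSpImmDesc
import Groth.Agent.S9943

set_option autoImplicit false
universe u
open CategoryTheory CategoryTheory.Limits AlgebraicGeometry Topology TopologicalSpace
open AlgSp

namespace Groth.Agent.S10806

/-- `h_w` is an affine morphism of sheaves if `w` is an affine morphism of schemes. -/
theorem isAffineMor_yon_map_of_isAffineHom {S : Scheme.{u}} {W V : Over S} (w : W ⟶ V)
    (hw : IsAffineHom w.left) : IsAffineMor ((AlgSp.yon S).map w) := by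
  intro Z hZ g
  obtain ⟨g', rfl⟩ := (AlgSp.yon S).map_surjective g
  have sq0 : IsPullback (pullback.fst w g') (pullback.snd w g') w g' := IsPullback.of_hasPullback _ _
  have sq0l : IsPullback (pullback.fst w g').left (pullback.snd w g').left w.left g'.left :=
    sq0.map (Over.forget S)
  have h1 : IsAffineHom (pullback.snd w g').left :=
    MorphismProperty.of_isPullback (P := @IsAffineHom) sq0l hw
  have : IsAffine Z.left := hZ
  exact ⟨pullback w g', pullback.snd w g', _, sq0.map (AlgSp.yon S),
    isAffine_of_isAffineHom (pullback.snd w g').left⟩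

/-- Let X be an algebraic space over a scheme S, Z ⟶ X a locally principal closed subspace (one-chart
sense: representable by closed immersions, and on some etale surjective scheme chart the inverse
image of Z is cut out by a quasi-coherent ideal sheaf that is Zariski-locally generated by one
section) and U ⟶ X the complementary open subspace, that is, a morphism representable by open
immersions whose image in |X| is the complement of the image of |Z|. Then U ⟶ X is an affine
morphism. -/
theorem result {S : Scheme.{u}} (X Z U : AlgSp.Space S)
    (i : Z ⟶ X) (hZ : AlgSp.IsLocPrincipalSub i.hom) (j : U ⟶ X) (hj : AlgSp.RepWith @IsOpenImmersion j.hom)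
    (hU : Set.range (AlgSp.Points.map j.hom) = (Set.range (AlgSp.Points.map i.hom))ᶜ) :
    AlgSp.IsAffineMor j.hom := by
  obtain ⟨hcl, V, φ, I, fstZ, hφe, hφs, sqZ, hI⟩ := hZ
  obtain ⟨W', w, fstU, sqU⟩ := hj.1 φ
  have hw : IsOpenImmersion w.left := hj.2 _ _ _ sqU
  have hr : Set.range w.left = ((I.support : Set V.left))ᶜ := by
    rw [Groth.Agent.Lib.helper5.ImmDesc.range_left_eq_preimage sqU, hU, Set.preimage_compl,
      ← Groth.Agent.Lib.helper5.ImmDesc.range_left_eq_preimage sqZ]
    congr 1
    exact I.range_subschemeι
  have haff : IsAffineHom w.left :=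
    Groth.Agent.Lib.helper5.LocPrincipal.isAffineHom_of_range_eq_compl_support w.left I hI hr
  exact Groth.Agent.S9943.result j V φ hφe hφs fstU ((AlgSp.yon S).map w) sqU
    (isAffineMor_yon_map_of_isAffineHom w haff)

end Groth.Agent.S10806
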