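import Groth.Statements.S10793
import Groth.Agent.Lib.Helper5.EffCartierDense
import Groth.Agent.S10806

set_option autoImplicit false
universe u
open CategoryTheory CategoryTheory.Limits AlgebraicGeometry Topology TopologicalSpace
open AlgSp

namespace Groth.Agent.S10793

/-- For an algebraic space X over a scheme S, an effective Cartier divisor D ⟶ X (in the one-chart
sense) and the open subspace U ⟶ X complementary to D, that is, a morphism representable by open
immersions whose image in |X| is the complement of the image of |D|: the inclusion of U in X is an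
affine morphism, and in the scheme-theoretic sense (one-chart form) U is dense in X. -/
theorem result {S : Scheme.{u}} (X D U : AlgSp.Space S)
    (i : D ⟶ X) (hD : AlgSp.IsEffCartierSub i.hom) (j : U ⟶ X) (hj : AlgSp.RepWith @IsOpenImmersion j.hom)
    (hU : Set.range (AlgSp.Points.map j.hom) = (Set.range (AlgSp.Points.map i.hom))ᶜ) :
    AlgSp.IsAffineMor j.hom ∧ AlgSp.IsSchDense j.hom := by
  obtain ⟨hcl, V, φ, I, fstD, hφe, hφs, sqD, hI⟩ := hD
  have hIlp : Curv2.IsLocPrincipal I := by
    intro x _
    obtain ⟨U', hx, f, -, hf⟩ := hI x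
    exact ⟨U', hx, f, hf⟩
  refine ⟨Groth.Agent.S10806.result X D U i ⟨hcl, V, φ, I, fstD, hφe, hφs, sqD, hIlp⟩ j hj hU, hj, ?_⟩
  obtain ⟨W', w, fstU, sqU⟩ := hj.1 φ
  have hw : IsOpenImmersion w.left := hj.2 _ _ _ sqU
  have hr : Set.range w.left = ((I.support : Set V.left))ᶜ := by
    rw [Groth.Agent.Lib.helper5.ImmDesc.range_left_eq_preimage sqU, hU, Set.preimage_compl,
      ← Groth.Agent.Lib.helper5.ImmDesc.range_left_eq_preimage sqD]
    congr 1
    exact I.range_subschemeι
  have hrW : Set.range w.left.opensRange.ι = Set.range w.left := by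
    rw [Scheme.Opens.range_ι]
    rfl
  -- the isomorphism between the pullback and the open subscheme
  let e : (w.left.opensRange : Scheme.{u}) ≅ W'.left :=
    IsOpenImmersion.isoOfRangeEq w.left.opensRange.ι w.left hrW
  have he : e.hom ≫ w.left = w.left.opensRange.ι := IsOpenImmersion.isoOfRangeEq_hom_fac _ _ _
  let eo : Over.mk (w.left.opensRange.ι ≫ V.hom) ⟶ W' := Over.homMk e.hom (by
    show e.hom ≫ W'.hom = w.left.opensRange.ι ≫ V.hom
    rw [← Over.w w, ← Category.assoc, he])
  have heo : eo ≫ w = (Over.homMk w.left.opensRange.ι rfl :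
      Over.mk (w.left.opensRange.ι ≫ V.hom) ⟶ V) := by
    ext1
    exact he
  have hiso : IsIso eo := by
    have : IsIso ((Over.forget S).map eo) := inferInstanceAs (IsIso e.hom)
    exact isIso_of_reflects_iso eo (Over.forget S)
  refine ⟨V, φ, w.left.opensRange, (AlgSp.yon S).map eo ≫ fstU, hφe, hφs, ?_, ?_⟩
  · have h1 : IsPullback ((AlgSp.yon S).map eo)
        ((AlgSp.yon S).map (Over.homMk w.left.opensRange.ι rfl :
          Over.mk (w.left.opensRange.ι ≫ V.hom) ⟶ V)) ((AlgSp.yon S).map w) (𝟙 _) :=
      IsPullback.of_horiz_isIso ⟨by rw [Category.comp_id, ← Functor.map_comp, heo]⟩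
    have h2 := h1.paste_horiz sqU
    rw [Category.id_comp] at h2
    exact h2
  · exact Groth.Agent.Lib.helper5.EffCartier.isSchematicallyDense_of_isEffCartierIdeal I hI _ hr

end Groth.Agent.S10793
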