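import Groth.Statements.S10799
import Groth.Agent.LibAlgSpCartier29g
import Groth.Agent.Lib.Helper24.SerreNormal4
-- import your own Groth.Agent.* helpers here

set_option autoImplicit false
universe u
open CategoryTheory CategoryTheory.Limits AlgebraicGeometry Topology TopologicalSpace
open AlgSp

namespace Groth.Agent.S10799

/-- Let X be an algebraic space over a scheme S which is locally Noetherian and normal in the
etale-local sense: some etale surjective chart of X from a locally Noetherian scheme all of whose
local rings are integrally closed domains. Let D ⟶ X be an effective Cartier divisor (one-chart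
sense). Then D is (S_1): some etale surjective chart of D from a locally Noetherian scheme all of
whose local rings O satisfy min(1, dim O) ≤ depth O. -/
theorem result {S : Scheme.{u}} (X D : AlgSp.Space S)
    (hX : AlgSp.EtaleLocally (fun U => IsLocallyNoetherian U ∧ Pi1.IsNormalScheme U) X.obj)
    (i : D ⟶ X) (hD : AlgSp.IsEffCartierSub i.hom) :
    AlgSp.EtaleLocally (fun V => IsLocallyNoetherian V ∧ ∀ v : ↥V,
        min ((1 : ℕ) : WithBot ℕ∞) (ringKrullDim ↥(V.presheaf.stalk v)) ≤
          ((LocCoh.depth ↥(V.presheaf.stalk v) ↥(V.presheaf.stalk v) : ℕ∞) : WithBot ℕ∞)) D.obj := by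
  refine Groth.Agent.LibAlgSpCartier29.etaleLocally_of_isEffCartierSub hD _ _ ?_ hX
  rintro U I hI ⟨hN, hnorm⟩
  haveI := hN
  have h2 : ∀ x : ↥U, min ((2 : ℕ) : WithBot ℕ∞) (ringKrullDim ↥(U.presheaf.stalk x)) ≤
      ((LocCoh.depth ↥(U.presheaf.stalk x) ↥(U.presheaf.stalk x) : ℕ∞) : WithBot ℕ∞) := by
    intro x
    obtain ⟨hd, hic⟩ := hnorm x
    haveI := hd
    haveI := hic
    have := Groth.Agent.Lib.Helper24.SerreNormal.sk_two_of_normal ↥(U.presheaf.stalk x)
    exact_mod_cast this
  exact Groth.Agent.LibCartierSkSch29.sk_subscheme I hI 2 h2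

end Groth.Agent.S10799
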