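import Groth.Statements.S10802
-- import your own Groth.Agent.* helpers here

set_option autoImplicit false
universe u
open CategoryTheory CategoryTheory.Limits AlgebraicGeometry Topology TopologicalSpace
open AlgSp

namespace Groth.Agent.S10802

/-- For algebraic spaces X and Y over a scheme S and a morphism f : X ⟶ Y which is locally of finite
type, every fibre of f over a field-valued point of Y is a locally Noetherian algebraic space: for
every field k and every point p : Spec k ⟶ Y, the fibre X_p = Spec k ×_Y X (any pullback of f along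
the morphism of p) admits a representable etale surjective chart from a locally Noetherian scheme. -/
theorem result {S : Scheme.{u}} (X Y : AlgSp.Space S) (f : X ⟶ Y)
    (hf : AlgSp.LocP @LocallyOfFiniteType f.hom) (p : AlgSp.FieldPt Y.obj)
    {P : AlgSp.Sp S} (fst : P ⟶ X.obj) (snd : P ⟶ (AlgSp.yon S).obj p.pt) (hP : IsPullback fst snd f.hom p.toHom) :
    AlgSp.IsLocNoethSp P := by
  -- atlases
  obtain ⟨V, b, hbe, hbs⟩ := Y.property.atlas
  obtain ⟨U, a, hae, has⟩ := X.property.atlas
  -- `Z = Spec K ×_Y V`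
  obtain ⟨Z, ζ, γ₀, sqZ⟩ := hbe.rep p.toHom
  obtain ⟨γ, rfl⟩ := (AlgSp.yon S).map_surjective γ₀
  have hζe : Etale ζ.left := hbe.2 _ _ ζ sqZ
  -- `U' = U ×_Y V`
  obtain ⟨U', π, h₀, sqU⟩ := hbe.rep (a ≫ f.hom)
  obtain ⟨h, rfl⟩ := (AlgSp.yon S).map_surjective h₀
  have hπe : Etale π.left := hbe.2 _ _ π sqU
  have hπs : Surjective π.left := hbs.2 _ _ π sqU
  have hce : AlgSp.RepWith @Etale ((AlgSp.yon S).map π ≫ a) :=
    (AlgSp.repWith_isMultiplicative (S := S) @Etale).comp_mem _ _
      ((AlgSp.repWith_yon_map_iff _ π).2 hπe) hae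
  have hcs : AlgSp.RepWith @Surjective ((AlgSp.yon S).map π ≫ a) :=
    (AlgSp.repWith_isMultiplicative (S := S) @Surjective).comp_mem _ _
      ((AlgSp.repWith_yon_map_iff _ π).2 hπs) has
  have hlft : LocallyOfFiniteType h.left := by
    refine hf ((AlgSp.yon S).map π ≫ a) b h hce hbe ?_
    rw [Category.assoc]; exact sqU.w.symm
  -- `W' = U' ×_V Z`
  have sq1 : IsPullback (pullback.fst h γ) (pullback.snd h γ) h γ := IsPullback.of_hasPullback _ _
  have sq1' : IsPullback (pullback.fst h γ).left (pullback.snd h γ).left h.left γ.left :=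
    sq1.map (Over.forget S)
  have hsnd : LocallyOfFiniteType (pullback.snd h γ).left :=
    MorphismProperty.of_isPullback (P := @LocallyOfFiniteType) sq1' hlft
  -- the outer rectangle
  have outer : IsPullback ((AlgSp.yon S).map (pullback.snd h γ) ≫ (AlgSp.yon S).map ζ)
      ((AlgSp.yon S).map (pullback.fst h γ)) p.toHom ((AlgSp.yon S).map h ≫ b) :=
    (sq1.map (AlgSp.yon S)).flip.paste_horiz sqZ.flip
  have e : (AlgSp.yon S).map h ≫ b = ((AlgSp.yon S).map π ≫ a) ≫ f.hom := by
    rw [Category.assoc]; exact sqU.w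
  rw [e] at outer
  -- the chart
  let q : (AlgSp.yon S).obj (pullback h γ) ⟶ P :=
    hP.lift ((AlgSp.yon S).map (pullback.fst h γ) ≫ ((AlgSp.yon S).map π ≫ a))
      ((AlgSp.yon S).map (pullback.snd h γ) ≫ (AlgSp.yon S).map ζ)
      (by rw [Category.assoc, outer.w])
  have hq1 : q ≫ fst = (AlgSp.yon S).map (pullback.fst h γ) ≫ ((AlgSp.yon S).map π ≫ a) :=
    hP.lift_fst _ _ _
  have hq2 : q ≫ snd = (AlgSp.yon S).map (pullback.snd h γ) ≫ (AlgSp.yon S).map ζ :=
    hP.lift_snd _ _ _
  rw [← hq2] at outer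
  have left : IsPullback q ((AlgSp.yon S).map (pullback.fst h γ)) fst ((AlgSp.yon S).map π ≫ a) :=
    IsPullback.of_right outer hq1 hP.flip
  refine ⟨pullback h γ, q, ?_, ?_, ?_⟩
  · exact (AlgSp.repWith_isStableUnderBaseChange (S := S) @Etale).of_isPullback left.flip hce
  · exact (AlgSp.repWith_isStableUnderBaseChange (S := S) @Surjective).of_isPullback left.flip hcs
  · have : LocallyOfFiniteType ζ.left := inferInstance
    have hcomp : LocallyOfFiniteType ((pullback.snd h γ).left ≫ ζ.left) := inferInstance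
    have hN : IsLocallyNoetherian (Spec (CommRingCat.of p.K)) := inferInstance
    exact @LocallyOfFiniteType.isLocallyNoetherian _ _ ((pullback.snd h γ).left ≫ ζ.left) hcomp hN

end Groth.Agent.S10802
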