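import Groth.Statements.S10803
import Groth.Agent.Lib.Helper5.AlgSpFibreNoeth
import Groth.Agent.Lib.Helper5.FieldQuotChart

set_option autoImplicit false
universe u
open CategoryTheory CategoryTheory.Limits AlgebraicGeometry Topology TopologicalSpace
open AlgSp

namespace Groth.Agent.S10803

open Groth.Agent.Lib.helper5.FibreNoeth Groth.Agent.Lib.helper5.FieldQuot

/-- (3) ⇒ (2) (with (2) ⇒ (1) ⇒ (3) immediate, this gives the equivalence of the three conditions
defining a locally Noetherian fibre over y): take a morphism f : X ⟶ Y of algebraic spaces over a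
scheme S and a point y of |Y|. Suppose that for some field k and some point p : Spec k ⟶ Y
representing y the fibre X_p (any pullback of f along the morphism of p) is locally Noetherian. Then
for every scheme V, every representable etale h_V ⟶ Y and every point v of V mapping to y, the fibre
X_v = Spec κ(v) ×_Y X is locally Noetherian. -/
theorem result {S : Scheme.{u}} (X Y : AlgSp.Space S) (f : X ⟶ Y)
    (y : AlgSp.Points Y.obj) (p : AlgSp.FieldPt Y.obj) (hp : AlgSp.Points.mk p = y)
    (hNoeth : ∀ ⦃P : AlgSp.Sp S⦄ (fst : P ⟶ X.obj) (snd : P ⟶ (AlgSp.yon S).obj p.pt),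
      IsPullback fst snd f.hom p.toHom → AlgSp.IsLocNoethSp P)
    (V : Over S) (b : (AlgSp.yon S).obj V ⟶ Y.obj) (hb : AlgSp.RepWith @Etale b) (v : ↥V.left)
    (hv : AlgSp.Points.ofPt b v = y)
    {Q : AlgSp.Sp S} (qfst : Q ⟶ X.obj) (qsnd : Q ⟶ (AlgSp.yon S).obj (AlgSp.FieldPt.ofPt b v).pt)
    (hQ : IsPullback qfst qsnd f.hom (AlgSp.FieldPt.ofPt b v).toHom) :
    AlgSp.IsLocNoethSp Q := by
  -- `T = Spec k ×_Y V`
  obtain ⟨T, c₀, d', sqT⟩ := hb.1 p.toHom
  obtain ⟨d, rfl⟩ := (yon S).map_surjective d'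
  have hc₀ : Etale c₀.left := hb.2 _ _ _ sqT
  let s0 : ↥p.pt.left := (IsLocalRing.closedPoint p.K : ↥(Spec (CommRingCat.of p.K)))
  obtain ⟨τ, hτv, -⟩ := Groth.Agent.Lib.helper11.exists_of_isPullback_schemes sqT v s0
    (hv.trans (hp.symm.trans (Points.ofPt_toHom p s0).symm))
  subst hτv
  -- the point `τ` as a field point of `Y`
  let q' : FieldPt Y.obj := FieldPt.ofPt ((yon S).map d ≫ b) τ
  have hq' : q'.toHom = (yon S).map (ptι ((yon S).map d ≫ b) τ) ≫ (yon S).map d ≫ b := FieldPt.toHom_ofPt _ τ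
  have hqv : (FieldPt.ofPt b (d.left τ)).toHom = (yon S).map (ptι b (d.left τ)) ≫ b := FieldPt.toHom_ofPt _ _
  -- `q'` factors through `p`
  let c₁ : q'.pt ⟶ p.pt := ptι ((yon S).map d ≫ b) τ ≫ c₀
  have hc₁ : (yon S).map c₁ ≫ p.toHom = q'.toHom := by
    rw [hq', Functor.map_comp, Category.assoc]
    exact congrArg (fun z => (yon S).map (ptι ((yon S).map d ≫ b) τ) ≫ z) sqT.w.symm
  have hlft₁ : LocallyOfFiniteType c₁.left := by
    have hlqf : LocallyQuasiFinite c₀.left := lqf_of_etale c₀.left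
    have hart : IsLocallyArtinian p.pt.left := inferInstanceAs (IsLocallyArtinian (Spec (CommRingCat.of p.K)))
    have hart' : IsLocallyArtinian T.left := IsLocallyArtinian.of_locallyQuasiFinite c₀.left
    have hred : IsReduced p.pt.left := inferInstanceAs (IsReduced (Spec (CommRingCat.of p.K)))
    have hred' : IsReduced T.left := Groth.Agent.H1.EtaleReduced.isReduced_of_etale c₀.left
    have sqI : IsPullback (T.left.fromSpecResidueField τ) (𝟙 _) (𝟙 T.left) (T.left.fromSpecResidueField τ) :=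
      IsPullback.of_vert_isIso ⟨by simp⟩
    have hoi : IsOpenImmersion (T.left.fromSpecResidueField τ) :=
      isOpenImmersion_fst_of_discrete (𝟙 T.left) τ _ _ sqI
    change LocallyOfFiniteType (T.left.fromSpecResidueField τ ≫ c₀.left)
    infer_instance
  -- `q'` factors through the residue field point of `v`
  let c₂ : q'.pt ⟶ (FieldPt.ofPt b (d.left τ)).pt :=
    Over.homMk (Spec.map (d.left.residueFieldMap τ)) (by
      change Spec.map (d.left.residueFieldMap τ) ≫ V.left.fromSpecResidueField (d.left τ) ≫ V.hom =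
        T.left.fromSpecResidueField τ ≫ T.hom
      rw [← Category.assoc, Scheme.Hom.SpecMap_residueFieldMap_fromSpecResidueField, Category.assoc, Over.w d])
  have hc₂ι : c₂ ≫ ptι b (d.left τ) = ptι ((yon S).map d ≫ b) τ ≫ d := by
    ext1
    exact Scheme.Hom.SpecMap_residueFieldMap_fromSpecResidueField d.left τ
  have hc₂ : (yon S).map c₂ ≫ (FieldPt.ofPt b (d.left τ)).toHom = q'.toHom := by
    rw [hqv, hq', ← Category.assoc, ← Functor.map_comp, hc₂ι, Functor.map_comp, Category.assoc]
  have hN' : ∀ ⦃P' : Sp S⦄ (fst' : P' ⟶ X.obj) (snd' : P' ⟶ (yon S).obj q'.pt),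
      IsPullback fst' snd' f.hom q'.toHom → IsLocNoethSp P' := fun P' fst' snd' sq' =>
    isLocNoethSp_fibre_ascent f.hom p q' c₁ hc₁ hlft₁ hNoeth fst' snd' sq'
  exact isLocNoethSp_fibre_descent X.property Y.property f.hom (FieldPt.ofPt b (d.left τ)) q' c₂ hc₂ hN'
    qfst qsnd hQ

end Groth.Agent.S10803
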