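import Groth.Statements.S1081
import Mathlib
import Groth.Agent.Lib.Helper25.FilDEmb
import Groth.Agent.S1085

set_option autoImplicit false
universe v u
open CategoryTheory CategoryTheory.Limits Opposite
open FilD

namespace Groth.Agent.S1081

/-- Let A be an abelian category with enough injectives. Every finite filtered object X admits a strict
monomorphism X ⟶ I into a filtered injective object I. -/
theorem result {A : Type u} [Category.{v} A] [Abelian A] [EnoughInjectives A] (X : FilD.FilF A) :
    ∃ (I : FilD.FilF A) (u : X ⟶ I), FilD.IsFilteredInjective I ∧ Mono u ∧ FilD.IsStrict u := by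
  open Groth.Agent.Lib.helper25 ZeroObject in
  obtain ⟨hX1, ⟨b, hb⟩, ⟨a, ha⟩⟩ := X.property
  let Iobj : FilD.FilF A := ⟨FilDEmb.I X.obj a b ha, FilDEmb.isFinFil_I X.obj a b ha⟩
  let u : X ⟶ Iobj := ObjectProperty.homMk (FilDEmb.u X.obj a b ha)
  have hgr : ∀ p, Mono ((FilD.gr A p).map u.hom) := FilDEmb.gr_u_mono X.obj a b ha hX1 hb
  have hinj : FilD.IsFilteredInjective Iobj := fun p => FilDEmb.I_gr_injective X.obj a b ha p
  let S : ShortComplex (FilD.FilF A) := ShortComplex.mk (0 : 0 ⟶ X) u zero_comp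
  have hS : ∀ p, (S.map (FilD.grF A p)).Exact := fun p => by
    rw [ShortComplex.exact_iff_mono _ (by
      show (FilD.grF A p).map (0 : 0 ⟶ X) = 0
      exact Functor.map_zero _ _ _)]
    exact hgr p
  obtain ⟨hex, -, hstr⟩ := Groth.Agent.S1085.result S hS
  refine ⟨Iobj, u, hinj, ?_, hstr⟩
  have h1 : ∀ c, Mono (u.hom.app c) := fun c => by
    have := hex c.unop
    rw [ShortComplex.exact_iff_mono _ (by
      show ((FilD.IsFinFil A).ι ⋙ (evaluation ℤᵒᵖ A).obj (op c.unop)).map (0 : 0 ⟶ X) = 0
      exact Functor.map_zero _ _ _)] at this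
    exact this
  have h2 : Mono ((FilD.IsFinFil A).ι.map u) := (NatTrans.mono_iff_mono_app _).2 h1
  exact Functor.mono_of_mono_map (FilD.IsFinFil A).ι h2

end Groth.Agent.S1081
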