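import Groth.Statements.S10821
import Groth.Agent.Lib.Helper26.ProjDim7

set_option autoImplicit false
universe u
open AlgebraicGeometry Topology TopologicalSpace
open Variety
open Groth.Agent.Lib.helper26.ProjDim

namespace Groth.Agent.S10821

/-- For a field k and an irreducible closed subset Z of projective n-space over k, Z has codimension 1
(the longest chain of irreducible closed subsets strictly above Z has length 1) if and only if Z is
the zero set V_+(f) of an irreducible homogeneous polynomial f in n + 1 variables. -/
theorem result (k : Type u) [Field k] (n : ℕ)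
    (Z : TopologicalSpace.IrreducibleCloseds (ProjectiveSpectrum (CohB1.polyGrading n k))) :
    Order.coheight Z = 1 ↔
      ∃ (d : ℕ) (f : MvPolynomial (Fin (n + 1)) k), f.IsHomogeneous d ∧ Irreducible f ∧
        (Z : Set (ProjectiveSpectrum (CohB1.polyGrading n k))) =
          ProjectiveSpectrum.zeroLocus (CohB1.polyGrading n k) ({f} : Set (MvPolynomial (Fin (n + 1)) k)) := by
  classical
  obtain ⟨p, hp⟩ := exists_eq_Ici le_iff_specializes'
    (Z : Set (ProjectiveSpectrum (CohB1.polyGrading n k))) Z.2 Z.3
  rw [coheight_irreducibleCloseds le_iff_specializes' Z p hp, height_eq]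
  constructor
  · intro h1
    have h1' : htN p = 1 := by exact_mod_cast h1
    have hne : idl p ≠ ⊥ := by
      intro h0
      have := htN_cast p
      rw [h0, Ideal.height_bot, h1'] at this
      exact absurd this (by simp)
    obtain ⟨π, hπ, hPπ⟩ := exists_prime_span_eq (idl p) hne (by
      rw [← htN_cast, h1']
      simp)
    have hhom := isHomogeneous_of_span_singleton π (hPπ ▸ idl_isHomogeneous p)
    refine ⟨π.totalDegree, π, hhom, hπ.irreducible, ?_⟩
    rw [hp]
    ext y
    rw [Set.mem_Ici, mem_zeroLocus_singleton, ← idl_le_idl, hPπ, Ideal.span_singleton_le_iff_mem]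
  · rintro ⟨d, f, hf, hirr, hZ⟩
    have hπ : Prime f := UniqueFactorizationMonoid.irreducible_iff_prime.1 hirr
    set P : Ideal (MvPolynomial (Fin (n + 1)) k) := Ideal.span {f} with hP
    have hPp : P.IsPrime := (Ideal.span_singleton_prime hπ.ne_zero).2 hπ
    have hPh : P.IsHomogeneous (CohB1.polyGrading n k) := Ideal.homogeneous_span _ _ (by
      intro x hx
      rw [Set.mem_singleton_iff] at hx
      rw [hx]
      exact ⟨d, (MvPolynomial.mem_homogeneousSubmodule _ _).2 hf⟩)
    obtain ⟨y, hy⟩ := Z.2.nonempty
    have hy' : f ∈ idl y := by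
      have hy2 : y ∈ (Z : Set (ProjectiveSpectrum (CohB1.polyGrading n k))) := hy
      rw [hZ, mem_zeroLocus_singleton] at hy2
      exact hy2
    have hPne : P ≠ mm k n := fun h =>
      absurd (h ▸ (Ideal.span_singleton_le_iff_mem _).2 hy') (not_le_of_gt (idl_lt_mm y))
    have hpeq : p = mkPt P hPh hPp hPne := by
      have h1 : Set.Ici p = Set.Ici (mkPt P hPh hPp hPne) := by
        rw [← hp, hZ]
        ext z
        rw [mem_zeroLocus_singleton, Set.mem_Ici, ← idl_le_idl, idl_mkPt,
          Ideal.span_singleton_le_iff_mem]
      exact Set.Ici_injective h1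
    have hht : P.height = 1 := Ideal.height_span_singleton_eq_one_of_mem_nonZeroDivisors
      (mem_nonZeroDivisors_of_ne_zero hπ.ne_zero) hπ.not_isUnit
    rw [hpeq]
    have h2 := htN_mkPt P hPh hPp hPne
    rw [hht] at h2
    exact_mod_cast h2

end Groth.Agent.S10821
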