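import Groth.Statements.S10822
import Groth.Agent.Lib.Helper26.ProjDim5

set_option autoImplicit false
universe u
open AlgebraicGeometry Topology TopologicalSpace
open Variety
open Groth.Agent.Lib.helper26.ProjDim

namespace Groth.Agent.S10822

/-- Let k be a field, X an irreducible closed subset of projective n-space over k of positive dimension,
and f a homogeneous polynomial in n + 1 variables whose zero set V_+(f) is nonempty and does not
contain X. Then X meets V_+(f), and every irreducible component C of X ∩ V_+(f) has dim C + 1 = dim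
X, i.e. codimension 1 in X (all maximal chains of irreducible closed subsets of X have length dim
X). -/
theorem result (k : Type u) [Field k] (n d : ℕ)
    (X : Set (ProjectiveSpectrum (CohB1.polyGrading n k))) (hXc : IsClosed X) (hXi : IsIrreducible X)
    (hXd : 0 < topologicalKrullDim ↥X)
    (f : MvPolynomial (Fin (n + 1)) k) (hf : f.IsHomogeneous d)
    (hV : (ProjectiveSpectrum.zeroLocus (CohB1.polyGrading n k)
      ({f} : Set (MvPolynomial (Fin (n + 1)) k))).Nonempty)
    (hX : ¬ X ⊆ ProjectiveSpectrum.zeroLocus (CohB1.polyGrading n k)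
      ({f} : Set (MvPolynomial (Fin (n + 1)) k))) :
    (X ∩ ProjectiveSpectrum.zeroLocus (CohB1.polyGrading n k)
        ({f} : Set (MvPolynomial (Fin (n + 1)) k))).Nonempty ∧
      ∀ C ∈ irreducibleComponents ↥(X ∩ ProjectiveSpectrum.zeroLocus (CohB1.polyGrading n k)
          ({f} : Set (MvPolynomial (Fin (n + 1)) k))),
        topologicalKrullDim ↥C + 1 = topologicalKrullDim ↥X := by
  classical
  obtain ⟨p, rfl⟩ := exists_eq_Ici le_iff_specializes' X hXi hXc
  have hfh : ∀ i : Fin 1, SetLike.IsHomogeneousElem (CohB1.polyGrading n k) ((fun _ => f) i) :=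
    fun i => ⟨d, (MvPolynomial.mem_homogeneousSubmodule _ _).2 hf⟩
  have hfp : f ∉ idl p := by
    intro h
    apply hX
    intro y hy
    rw [mem_zeroLocus_singleton]
    exact (idl_le_idl.2 hy) h
  have hfm : f ∈ mm k n := by
    obtain ⟨y0, hy0⟩ := hV
    rw [mem_zeroLocus_singleton] at hy0
    exact idl_le_mm y0 hy0
  rw [topologicalKrullDim_Ici'] at hXd ⊢
  have hpos : 0 < n - htN p := by exact_mod_cast hXd
  constructor
  · obtain ⟨y, hxy, hy⟩ := exists_point_ge p 1 (fun _ => f) hfh (fun _ => hfm) (by omega)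
    exact ⟨y, hxy, (mem_zeroLocus_singleton y f).2 (hy 0)⟩
  · intro C hC
    obtain ⟨g, hgW, hgmin, himg, hdim⟩ := exists_of_mem_irreducibleComponents le_iff_specializes' _
      (hXc.inter (ProjectiveSpectrum.isClosed_zeroLocus _ _)) C hC
    rw [hdim, coheight_eq]
    have hfg : f ∈ idl g := (mem_zeroLocus_singleton g f).1 hgW.2
    have h1 : htN g ≤ htN p + 1 := htN_le_of_minimal p g 1 (fun _ => f) hfh hgW.1
      (fun _ => hfg)
      (fun y hpy hfy hyg => hgmin y ⟨hpy, (mem_zeroLocus_singleton y f).2 (hfy 0)⟩ hyg)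
    have hpg : p < g := by
      refine lt_of_le_of_ne hgW.1 ?_
      intro h
      rw [h] at hfp
      exact hfp hfg
    have h2 := htN_strictMono hpg
    have h3 := htN_le g
    have h4 : (n - htN g) + 1 = n - htN p := by omega
    have h5 : (((n - htN g : ℕ) : ℕ∞) : WithBot ℕ∞) = ((n - htN g : ℕ) : WithBot ℕ∞) := rfl
    rw [h5]
    exact_mod_cast h4

end Groth.Agent.S10822
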