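import Groth.Statements.S10823
import Groth.Agent.Lib.Helper26.ProjDim5

set_option autoImplicit false
universe u
open AlgebraicGeometry Topology TopologicalSpace
open Variety
open Groth.Agent.Lib.helper26.ProjDim

namespace Groth.Agent.S10823

/-- Let k be a field, X an irreducible closed subset of projective n-space over k, and f_1, …, f_r
nonzero homogeneous polynomials of positive degrees in n + 1 variables. Then every irreducible
component C of X ∩ V_+(f_1, …, f_r) has codimension at most r in X, i.e. dim X ≤ dim C + r, and if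
dim X ≥ r the intersection is nonempty. -/
theorem result (k : Type u) [Field k] (n r : ℕ)
    (X : Set (ProjectiveSpectrum (CohB1.polyGrading n k))) (hXc : IsClosed X) (hXi : IsIrreducible X)
    (f : Fin r → MvPolynomial (Fin (n + 1)) k) (d : Fin r → ℕ)
    (hf : ∀ i, (f i).IsHomogeneous (d i)) (hd : ∀ i, 0 < d i) (hf0 : ∀ i, f i ≠ 0) :
    (∀ C ∈ irreducibleComponents ↥(X ∩ ProjectiveSpectrum.zeroLocus (CohB1.polyGrading n k) (Set.range f)),
        topologicalKrullDim ↥X ≤ topologicalKrullDim ↥C + (r : WithBot ℕ∞)) ∧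
      ((r : WithBot ℕ∞) ≤ topologicalKrullDim ↥X →
        (X ∩ ProjectiveSpectrum.zeroLocus (CohB1.polyGrading n k) (Set.range f)).Nonempty) := by
  classical
  obtain ⟨p, rfl⟩ := exists_eq_Ici le_iff_specializes' X hXi hXc
  have hfh : ∀ i, SetLike.IsHomogeneousElem (CohB1.polyGrading n k) (f i) :=
    fun i => ⟨d i, (MvPolynomial.mem_homogeneousSubmodule _ _).2 (hf i)⟩
  constructor
  · intro C hC
    obtain ⟨g, hgW, hgmin, himg, hdim⟩ := exists_of_mem_irreducibleComponents le_iff_specializes' _
      (hXc.inter (ProjectiveSpectrum.isClosed_zeroLocus _ _)) C hC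
    rw [hdim, topologicalKrullDim_Ici', coheight_eq]
    have h1 : htN g ≤ htN p + r := htN_le_of_minimal p g r f hfh hgW.1
      ((mem_zeroLocus_range g f).1 hgW.2)
      (fun y hpy hfy hyg => hgmin y ⟨hpy, (mem_zeroLocus_range y f).2 hfy⟩ hyg)
    have h2 := htN_le g
    have h3 : n - htN p ≤ (n - htN g) + r := by omega
    have h5 : (((n - htN g : ℕ) : ℕ∞) : WithBot ℕ∞) = ((n - htN g : ℕ) : WithBot ℕ∞) := rfl
    rw [h5]
    exact_mod_cast h3
  · intro hr
    rw [topologicalKrullDim_Ici'] at hr
    have hr' : r ≤ n - htN p := by exact_mod_cast hr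
    have h4 := htN_le p
    obtain ⟨y, hxy, hy⟩ := exists_point_ge p r f hfh
      (fun i => mem_mm_of_isHomogeneous (hf i) (hd i)) (by omega)
    exact ⟨y, hxy, (mem_zeroLocus_range y f).2 hy⟩

end Groth.Agent.S10823
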