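import Groth.Statements.S10824
import Mathlib

set_option autoImplicit false
universe u
open Variety

namespace Groth.Agent.S10824

section aux
open MvPolynomial


theorem finrank_homog (k : Type*) [Field k] (e : ℕ) :
    Module.finrank k (homogeneousSubmodule (Fin 3) k e) = (e + 2).choose 2 := by
  classical
  rw [homogeneousSubmodule_eq_finsupp_supported]
  rw [(AddMonoidAlgebra.supportedEquivFinsupp (R := k) (S := k) {d : Fin 3 →₀ ℕ | d.degree = e}).finrank_eq]
  have hmem : ∀ d : Fin 3 →₀ ℕ, d ∈ Finset.univ.finsuppAntidiag e ↔ d ∈ {d : Fin 3 →₀ ℕ | d.degree = e} := by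
    intro d
    rw [Finset.mem_finsuppAntidiag, Set.mem_ofPred_eq, Finsupp.degree_eq_sum]
    simp
  have hfin : Fintype {d : Fin 3 →₀ ℕ | d.degree = e} := Fintype.ofFinset _ hmem
  rw [Module.finrank_finsupp_self, Fintype.card_of_subtype _ hmem,
    Finset.card_finsuppAntidiag_nat_eq_choose]
  simp only [Finset.card_univ, Fintype.card_fin]
  have : 3 + e - 1 = e + 2 := by omega
  rw [this, Nat.choose_symm_of_eq_add (by omega : e + 2 = e + 2)]


theorem hc_mul {σ k : Type*} [CommRing k] (c f : MvPolynomial σ k) (n i : ℕ)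
    (hf : f.IsHomogeneous n) :
    homogeneousComponent (i + n) (c * f) = homogeneousComponent i c * f := by
  classical
  let _ := MvPolynomial.gradedAlgebra (σ := σ) (R := k)
  have h := DirectSum.coe_decompose_mul_add_of_right_mem (homogeneousSubmodule σ k)
    (a := c) (b := f) (i := i) (j := n) hf
  have e1 : ∀ (x : MvPolynomial σ k) (j : ℕ),
      ((DirectSum.decompose (homogeneousSubmodule σ k) x j : homogeneousSubmodule σ k j) :
        MvPolynomial σ k) = homogeneousComponent j x := fun x j =>
    decomposition.decompose'_apply x j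
  rw [e1, e1] at h
  exact h

theorem arith (n m d : ℕ) (hd : n + m ≤ d) :
    ((d + 2).choose 2 : ℤ) - (((d - n + 2).choose 2 : ℤ) + ((d - m + 2).choose 2 : ℤ)
      - ((d - n - m + 2).choose 2 : ℤ)) = n * m := by
  obtain ⟨e, rfl⟩ := Nat.exists_eq_add_of_le hd
  have h1 : n + m + e - n = m + e := by omega
  have h2 : n + m + e - m = n + e := by omega
  have h3 : m + e - m = e := by omega
  rw [h1, h2, h3]
  have key : ∀ x : ℕ, (((x + 2).choose 2 : ℕ) : ℤ) * 2 = ((x : ℤ) + 2) * ((x : ℤ) + 1) := by
    intro x
    have := Nat.choose_two_right (x + 2)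
    have h4 : (x + 2) * (x + 2 - 1) = (x + 2).choose 2 * 2 := by
      rw [this]
      have : 2 ∣ (x + 2) * (x + 2 - 1) := by
        have h6 : x + 2 - 1 = x + 1 := by omega
        rw [h6, mul_comm]
        exact (Nat.even_mul_succ_self (x + 1)).two_dvd
      exact (Nat.div_mul_cancel this).symm
    have h5 : x + 2 - 1 = x + 1 := by omega
    rw [h5] at h4
    exact_mod_cast h4.symm
  have := key (n + m + e); have := key (m + e); have := key (n + e); have := key e
  push_cast at *
  nlinarith

theorem main (k : Type*) [Field k] (n m d : ℕ)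
    (f g : MvPolynomial (Fin 3) k) (hf : f.IsHomogeneous n) (hg : g.IsHomogeneous m)
    (hf0 : f ≠ 0) (hg0 : g ≠ 0) (hfg : IsRelPrime f g) (hd : n + m ≤ d) :
    Module.finrank k
        (↥(MvPolynomial.homogeneousSubmodule (Fin 3) k d) ⧸
          Submodule.comap (MvPolynomial.homogeneousSubmodule (Fin 3) k d).subtype
            ((Ideal.span ({f, g} : Set (MvPolynomial (Fin 3) k))).restrictScalars k)) = n * m := by
  classical
  set Hd := homogeneousSubmodule (Fin 3) k d with hHd
  set P₁ : Submodule k (MvPolynomial (Fin 3) k) :=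
    (homogeneousSubmodule (Fin 3) k (d - n)).map (LinearMap.mulRight k f) with hP₁
  set P₂ : Submodule k (MvPolynomial (Fin 3) k) :=
    (homogeneousSubmodule (Fin 3) k (d - m)).map (LinearMap.mulRight k g) with hP₂
  set P₃ : Submodule k (MvPolynomial (Fin 3) k) :=
    (homogeneousSubmodule (Fin 3) k (d - n - m)).map (LinearMap.mulRight k (f * g)) with hP₃
  have hinj : ∀ h : MvPolynomial (Fin 3) k, h ≠ 0 → Function.Injective (LinearMap.mulRight k h) :=
    fun h hh a b hab => mul_right_cancel₀ hh hab
  have hfg0 : f * g ≠ 0 := mul_ne_zero hf0 hg0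
  have r1 : Module.finrank k P₁ = (d - n + 2).choose 2 := by
    rw [hP₁, ← (Submodule.equivMapOfInjective _ (hinj f hf0) _).finrank_eq, finrank_homog]
  have r2 : Module.finrank k P₂ = (d - m + 2).choose 2 := by
    rw [hP₂, ← (Submodule.equivMapOfInjective _ (hinj g hg0) _).finrank_eq, finrank_homog]
  have r3 : Module.finrank k P₃ = (d - n - m + 2).choose 2 := by
    rw [hP₃, ← (Submodule.equivMapOfInjective _ (hinj _ hfg0) _).finrank_eq, finrank_homog]
  -- membership descriptions
  have mem1 : ∀ x, x ∈ P₁ ↔ ∃ a, a.IsHomogeneous (d - n) ∧ a * f = x := by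
    intro x; rw [hP₁, Submodule.mem_map]; rfl
  have mem2 : ∀ x, x ∈ P₂ ↔ ∃ a, a.IsHomogeneous (d - m) ∧ a * g = x := by
    intro x; rw [hP₂, Submodule.mem_map]; rfl
  have mem3 : ∀ x, x ∈ P₃ ↔ ∃ a, a.IsHomogeneous (d - n - m) ∧ a * (f * g) = x := by
    intro x; rw [hP₃, Submodule.mem_map]; rfl
  have e1 : d - n + n = d := by omega
  have e2 : d - m + m = d := by omega
  have e3 : d - n - m + m = d - n := by omega
  have hP₁d : P₁ ≤ Hd := by
    intro x hx
    obtain ⟨a, ha, rfl⟩ := (mem1 x).1 hx
    have := ha.mul hf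
    rwa [e1] at this
  have hP₂d : P₂ ≤ Hd := by
    intro x hx
    obtain ⟨a, ha, rfl⟩ := (mem2 x).1 hx
    have := ha.mul hg
    rwa [e2] at this
  -- inf
  have hinf : P₁ ⊓ P₂ = P₃ := by
    apply le_antisymm
    · rintro x ⟨hx1, hx2⟩
      obtain ⟨a, ha, rfl⟩ := (mem1 x).1 hx1
      obtain ⟨b, hb, hab⟩ := (mem2 _).1 hx2
      -- g ∣ a * f → g ∣ a
      have hdvd : g ∣ a := by
        have : g ∣ f * a := ⟨b, by rw [mul_comm f a, ← hab, mul_comm]⟩
        exact hfg.symm.dvd_of_dvd_mul_left this
      obtain ⟨c', rfl⟩ := hdvd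
      set c := homogeneousComponent (d - n - m) c' with hc
      have hac : g * c' = c * g := by
        have h1 : homogeneousComponent (d - n) (c' * g) = c * g := by
          have := hc_mul c' g m (d - n - m) hg
          rwa [e3] at this
        have h2 : homogeneousComponent (d - n) (g * c') = g * c' := by
          rw [homogeneousComponent_of_mem ha, if_pos rfl]
        rw [← h1, mul_comm c' g, h2]
      rw [mem3]
      refine ⟨c, homogeneousComponent_isHomogeneous _ _, ?_⟩
      rw [hac]; ring
    · intro x hx
      obtain ⟨c, hc, rfl⟩ := (mem3 x).1 hx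
      constructor
      · refine (mem1 _).2 ⟨c * g, ?_, by ring⟩
        have := hc.mul hg
        rwa [e3] at this
      · refine (mem2 _).2 ⟨c * f, ?_, by ring⟩
        have := hc.mul hf
        have e4 : d - n - m + n = d - m := by omega
        rwa [e4] at this
  -- finite-dimensionality
  have fgH : ∀ e, (homogeneousSubmodule (Fin 3) k e).FG := fun e => homogeneousSubmodule_fg (σ := Fin 3) (R := k) e
  have : Module.Finite k Hd := Module.Finite.iff_fg.mpr (fgH d)
  have fin1 : Module.Finite k P₁ := Module.Finite.iff_fg.mpr ((fgH _).map _)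
  have fin2 : Module.Finite k P₂ := Module.Finite.iff_fg.mpr ((fgH _).map _)
  -- comap
  have hcomap : Submodule.comap Hd.subtype
      ((Ideal.span ({f, g} : Set (MvPolynomial (Fin 3) k))).restrictScalars k) =
      Submodule.comap Hd.subtype (P₁ ⊔ P₂) := by
    ext ⟨x, hx⟩
    simp only [Submodule.mem_comap, Submodule.subtype_apply, Submodule.restrictScalars_mem]
    constructor
    · intro hxI
      obtain ⟨a, b, hab⟩ := Ideal.mem_span_pair.1 hxI
      have hxd : homogeneousComponent d x = x := by
        rw [homogeneousComponent_of_mem hx, if_pos rfl]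
      have h1 : homogeneousComponent d (a * f) = homogeneousComponent (d - n) a * f := by
        have := hc_mul a f n (d - n) hf
        rwa [e1] at this
      have h2 : homogeneousComponent d (b * g) = homogeneousComponent (d - m) b * g := by
        have := hc_mul b g m (d - m) hg
        rwa [e2] at this
      rw [← hxd, ← hab, map_add, h1, h2]
      exact Submodule.add_mem_sup
        ((mem1 _).2 ⟨_, homogeneousComponent_isHomogeneous _ _, rfl⟩)
        ((mem2 _).2 ⟨_, homogeneousComponent_isHomogeneous _ _, rfl⟩)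
    · intro hxP
      have hle : P₁ ⊔ P₂ ≤ (Ideal.span ({f, g} : Set (MvPolynomial (Fin 3) k))).restrictScalars k := by
        apply sup_le
        · intro y hy
          obtain ⟨a, -, rfl⟩ := (mem1 y).1 hy
          exact Ideal.mul_mem_left _ _ (Ideal.subset_span (by simp))
        · intro y hy
          obtain ⟨a, -, rfl⟩ := (mem2 y).1 hy
          exact Ideal.mul_mem_left _ _ (Ideal.subset_span (by simp))
      exact hle hxP
  rw [hcomap]
  have hsupd : P₁ ⊔ P₂ ≤ Hd := sup_le hP₁d hP₂d
  have q1 := Submodule.finrank_quotient_add_finrank (Submodule.comap Hd.subtype (P₁ ⊔ P₂))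
  have q2 := (Submodule.comapSubtypeEquivOfLe hsupd).finrank_eq
  have q3 := Submodule.finrank_sup_add_finrank_inf_eq P₁ P₂
  rw [hinf, r1, r2, r3] at q3
  rw [q2] at q1
  have q4 : Module.finrank k Hd = (d + 2).choose 2 := finrank_homog k d
  rw [q4] at q1
  have := arith n m d hd
  zify at q1 q3 ⊢
  linarith

end aux


/-- Let k be a field, S the polynomial ring in three variables over k with degree-d part S_d, and f, g
nonzero homogeneous polynomials of positive degrees n and m with no common non-unit factor. Then for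
every d ≥ n + m the degree-d part of S/(f, g), namely S_d modulo its intersection with the ideal (f,
g), has dimension n·m over k. -/
theorem result (k : Type u) [Field k] (n m d : ℕ)
    (f g : MvPolynomial (Fin 3) k) (hf : f.IsHomogeneous n) (hg : g.IsHomogeneous m)
    (hn : 0 < n) (hm : 0 < m) (hf0 : f ≠ 0) (hg0 : g ≠ 0) (hfg : IsRelPrime f g) (hd : n + m ≤ d) :
    Module.finrank k
        (↥(MvPolynomial.homogeneousSubmodule (Fin 3) k d) ⧸
          Submodule.comap (MvPolynomial.homogeneousSubmodule (Fin 3) k d).subtype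
            ((Ideal.span ({f, g} : Set (MvPolynomial (Fin 3) k))).restrictScalars k)) = n * m := by
  exact main k n m d f g hf hg hf0 hg0 hfg hd

end Groth.Agent.S10824
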