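import Groth.Statements.S10825
import Mathlib
import Groth.Agent.S5763

set_option autoImplicit false
universe u
open Topology
open CAlg

namespace Groth.Agent.S10825

set_option linter.style.haveILetI false
set_option linter.unusedSectionVars false
set_option linter.unusedVariables false

open Polynomial IntermediateField

/-- dimension of a zero locus as subspace = dimension of the quotient ring -/
theorem dim_zeroLocus {R : Type u} [CommRing R] (I : Ideal R) :
    topologicalKrullDim ↥(PrimeSpectrum.zeroLocus (I : Set R)) = ringKrullDim (R ⧸ I) := by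
  have hsurj : Function.Surjective (Ideal.Quotient.mk I) := Ideal.Quotient.mk_surjective
  have hemb := PrimeSpectrum.isClosedEmbedding_comap_of_surjective (R ⧸ I) (Ideal.Quotient.mk I) hsurj
  have hrange : Set.range (PrimeSpectrum.comap (Ideal.Quotient.mk I)) =
      PrimeSpectrum.zeroLocus (I : Set R) := by
    rw [range_comap_of_surjective _ _ hsurj, Ideal.mk_ker]
  rw [← PrimeSpectrum.topologicalKrullDim_eq_ringKrullDim, ← hrange]
  exact ((hemb.isEmbedding.toHomeomorph).isHomeomorph.topologicalKrullDim_eq _).symm

section
variable (A B K L : Type u) [CommRing A] [IsDomain A] [CommRing B] [IsDomain B] [Algebra A B]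
    [Field K] [Field L] [Algebra A K] [IsFractionRing A K] [Algebra B L] [IsFractionRing B L]
    [Algebra A L] [Algebra K L] [IsScalarTower A B L] [IsScalarTower A K L]
    [FiniteDimensional K L] [Algebra.IsIntegral A B] [IsIntegrallyClosed A]

/-- the norm of `b` is, up to sign, a power (with positive exponent) of the constant coefficient
of the minimal polynomial of `b` over `A`. -/
theorem norm_eq_pow (hinj : Function.Injective (algebraMap A B))
    (b : B) (a : A) (ha : algebraMap A K a = Algebra.norm K (algebraMap B L b)) :
    ∃ (m : ℕ) (ε : A), 0 < m ∧ a = (ε * (minpoly A b).coeff 0) ^ m := by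
  have hbint : IsIntegral A b := Algebra.IsIntegral.isIntegral b
  set x : L := algebraMap B L b with hx
  have hxint : IsIntegral K x := (hbint.map (IsScalarTower.toAlgHom A B L)).tower_top
  have hBL : Function.Injective (algebraMap B L) := IsFractionRing.injective B L
  have hmin : minpoly K x = (minpoly A b).map (algebraMap A K) := by
    have h1 : minpoly A x = minpoly A b :=
      minpoly.algebraMap_eq hBL b
    rw [← h1]
    exact minpoly.isIntegrallyClosed_eq_field_fractions' K (hbint.map (IsScalarTower.toAlgHom A B L))
  have hn1 := Algebra.norm_eq_norm_adjoin K x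
  have hn2 : Algebra.norm K (AdjoinSimple.gen K x) =
      (-1) ^ (adjoin.powerBasis hxint).dim * (minpoly K x).coeff 0 := by
    have := Algebra.PowerBasis.norm_gen_eq_coeff_zero_minpoly (adjoin.powerBasis hxint)
    rw [adjoin.powerBasis_gen hxint, IntermediateField.minpoly_gen] at this
    exact this
  refine ⟨Module.finrank K⟮x⟯ L, (-1) ^ (adjoin.powerBasis hxint).dim, Module.finrank_pos, ?_⟩
  apply IsFractionRing.injective A K
  rw [ha, hn1, hn2, hmin, coeff_map]
  simp

theorem main (hinj : Function.Injective (algebraMap A B))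
    (b : B) (a : A) (ha : algebraMap A K a = Algebra.norm K (algebraMap B L b)) :
    PrimeSpectrum.comap (algebraMap A B) '' PrimeSpectrum.zeroLocus ({b} : Set B) =
        PrimeSpectrum.zeroLocus ({a} : Set A) ∧
      topologicalKrullDim ↥(PrimeSpectrum.zeroLocus ({b} : Set B)) =
        topologicalKrullDim ↥(PrimeSpectrum.zeroLocus ({a} : Set A)) := by
  classical
  set I : Ideal B := Ideal.span {b} with hI
  set J : Ideal A := I.comap (algebraMap A B) with hJ
  obtain ⟨m, ε, hm, ham⟩ := norm_eq_pow A B K L hinj b a ha
  have hbint : IsIntegral A b := Algebra.IsIntegral.isIntegral b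
  -- c₀ ∈ J
  have hc0 : (minpoly A b).coeff 0 ∈ J := by
    rw [hJ, Ideal.mem_comap, hI, Ideal.mem_span_singleton]
    have h0 : aeval b (minpoly A b) = 0 := minpoly.aeval A b
    obtain ⟨q, hq⟩ := Polynomial.X_dvd_sub_C (p := minpoly A b)
    have h1 : aeval b (minpoly A b - C ((minpoly A b).coeff 0)) = b * aeval b q := by
      rw [hq]; simp
    rw [map_sub, h0, aeval_C, zero_sub] at h1
    refine ⟨-(aeval b q), ?_⟩
    rw [mul_neg, ← h1, neg_neg]
  have haJ : a ∈ J := by
    rw [ham]
    exact Ideal.pow_mem_of_mem _ (Ideal.mul_mem_left _ _ hc0) m hm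
  -- x ∈ J → x ^ d ∈ span {a}
  have hJa : ∀ x ∈ J, x ^ Module.finrank K L ∈ Ideal.span ({a} : Set A) := by
    intro x hx
    rw [hJ, Ideal.mem_comap, hI, Ideal.mem_span_singleton] at hx
    obtain ⟨y, hy⟩ := hx
    have hyint : IsIntegral A (algebraMap B L y) :=
      (Algebra.IsIntegral.isIntegral (R := A) y).map (IsScalarTower.toAlgHom A B L)
    obtain ⟨t, ht⟩ := IsIntegrallyClosed.isIntegral_iff.mp (Algebra.isIntegral_norm K hyint)
    rw [Ideal.mem_span_singleton]
    refine ⟨t, ?_⟩
    apply IsFractionRing.injective A K
    rw [map_pow, map_mul, ha, ht, ← map_mul, ← map_mul, ← hy, ← IsScalarTower.algebraMap_apply,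
      IsScalarTower.algebraMap_apply A K L, Algebra.norm_algebraMap]
  have hz : PrimeSpectrum.zeroLocus ({a} : Set A) = PrimeSpectrum.zeroLocus (J : Set A) := by
    ext p
    simp only [PrimeSpectrum.mem_zeroLocus, Set.singleton_subset_iff, SetLike.mem_coe]
    constructor
    · intro hap x hx
      have : x ^ Module.finrank K L ∈ p.asIdeal :=
        (Ideal.span_singleton_le_iff_mem _ |>.mpr hap) (hJa x hx)
      exact p.2.mem_of_pow_mem _ this
    · intro h; exact h haJ
  have hzb : PrimeSpectrum.zeroLocus ({b} : Set B) = PrimeSpectrum.zeroLocus (I : Set B) := by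
    rw [hI, PrimeSpectrum.zeroLocus_span]
  constructor
  · rw [hz, hzb]
    ext p
    simp only [Set.mem_image, PrimeSpectrum.mem_zeroLocus, SetLike.coe_subset_coe]
    constructor
    · rintro ⟨q, hq, rfl⟩
      exact Ideal.comap_mono hq
    · intro hp
      obtain ⟨Q, hQI, hQ, hQp⟩ := Ideal.exists_ideal_over_prime_of_isIntegral p.asIdeal I hp
      exact ⟨⟨Q, hQ⟩, hQI, PrimeSpectrum.ext hQp⟩
  · rw [hz, hzb, dim_zeroLocus, dim_zeroLocus]
    exact (Groth.Agent.S5763.result (A ⧸ J) (B ⧸ I)).2 Ideal.algebraMap_quotient_injective
end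


/-- Let A → B be an injective integral homomorphism of integral domains with fraction fields K and L, L
a finite extension of K, and A integrally closed. For b in B the norm N_{L/K}(b) lies in A; if a
denotes this element of A, then the image of the closed set V(b) of Spec B under Spec B → Spec A is
exactly V(a), and V(b) and V(a) have the same dimension. -/
theorem result
    (A B K L : Type u) [CommRing A] [IsDomain A] [CommRing B] [IsDomain B] [Algebra A B]
    [Field K] [Field L] [Algebra A K] [IsFractionRing A K] [Algebra B L] [IsFractionRing B L]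
    [Algebra A L] [Algebra K L] [IsScalarTower A B L] [IsScalarTower A K L]
    [FiniteDimensional K L] [Algebra.IsIntegral A B] [IsIntegrallyClosed A]
    (hinj : Function.Injective (algebraMap A B))
    (b : B) (a : A) (ha : algebraMap A K a = Algebra.norm K (algebraMap B L b)) :
    PrimeSpectrum.comap (algebraMap A B) '' PrimeSpectrum.zeroLocus ({b} : Set B) =
        PrimeSpectrum.zeroLocus ({a} : Set A) ∧
      topologicalKrullDim ↥(PrimeSpectrum.zeroLocus ({b} : Set B)) =
        topologicalKrullDim ↥(PrimeSpectrum.zeroLocus ({a} : Set A)) := by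
  exact main A B K L hinj b a ha

end Groth.Agent.S10825
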