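import Groth.Statements.S10826
import Mathlib

set_option autoImplicit false
open CAlg

namespace Groth.Agent.S10826

section Aux

open MvPowerSeries

variable {R : Type*} [CommRing R] {n : ℕ}

noncomputable def gpart (f : MvPowerSeries (Fin n) R) (i : Fin n) : MvPowerSeries (Fin n) R :=
  fun e => if (∀ j, j < i → e j = 0) then coeff (e + Finsupp.single i 1) f else 0

theorem coeff_gpart (f : MvPowerSeries (Fin n) R) (i : Fin n) (e : Fin n →₀ ℕ) :
    coeff e (gpart f i) =
      if (∀ j, j < i → e j = 0) then coeff (e + Finsupp.single i 1) f else 0 := rfl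

theorem decomp_eq (f : MvPowerSeries (Fin n) R) (hf : constantCoeff f = 0) :
    f = ∑ i, X i * gpart f i := by
  classical
  ext e'
  rw [map_sum]
  by_cases he : e' = 0
  · subst he
    rw [coeff_zero_eq_constantCoeff_apply, hf]
    symm
    apply Finset.sum_eq_zero
    intro i _
    exact coeff_zero_X_mul _ i
  · have hne : e'.support.Nonempty := Finsupp.support_nonempty_iff.mpr he
    obtain ⟨i₀, hi₀⟩ : ∃ i₀, i₀ = e'.support.min' hne := ⟨_, rfl⟩
    have hi₀mem : i₀ ∈ e'.support := by rw [hi₀]; exact Finset.min'_mem _ hne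
    have hi₀ne : e' i₀ ≠ 0 := Finsupp.mem_support_iff.mp hi₀mem
    have hi₀min : ∀ j, j < i₀ → e' j = 0 := by
      intro j hj
      by_contra hcon
      have h1 : j ∈ e'.support := Finsupp.mem_support_iff.mpr hcon
      have h2 : i₀ ≤ j := by rw [hi₀]; exact Finset.min'_le _ j h1
      exact absurd hj (not_lt.mpr h2)
    have hle₀ : Finsupp.single i₀ 1 ≤ e' :=
      Finsupp.single_le_iff.mpr (Nat.one_le_iff_ne_zero.mpr hi₀ne)
    symm
    rw [Finset.sum_eq_single i₀]
    · rw [X_def, coeff_monomial_mul, if_pos hle₀, one_mul, coeff_gpart, if_pos,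
        tsub_add_cancel_of_le hle₀]
      intro j hj
      rw [Finsupp.tsub_apply, Finsupp.single_apply, if_neg (ne_of_gt hj), tsub_zero]
      exact hi₀min j hj
    · intro i _ hi
      rw [X_def, coeff_monomial_mul]
      by_cases hle : Finsupp.single i 1 ≤ e'
      · rw [if_pos hle, one_mul, coeff_gpart, if_neg]
        intro hall
        have hi' : e' i ≠ 0 := Nat.one_le_iff_ne_zero.mp (Finsupp.single_le_iff.mp hle)
        have h1 : i ∈ e'.support := Finsupp.mem_support_iff.mpr hi'
        have h2 : i₀ ≤ i := by rw [hi₀]; exact Finset.min'_le _ i h1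
        have h3 : i₀ < i := lt_of_le_of_ne h2 (Ne.symm hi)
        have h4 := hall i₀ h3
        rw [Finsupp.tsub_apply, Finsupp.single_apply, if_neg (ne_of_gt h3), tsub_zero] at h4
        exact hi₀ne h4
      · rw [if_neg hle]
    · intro h
      exact absurd (Finset.mem_univ _) h

theorem decomp_order (f : MvPowerSeries (Fin n) R) (k : ℕ)
    (hk : ((k + 1 : ℕ) : ℕ∞) ≤ f.order) (i : Fin n) : (k : ℕ∞) ≤ (gpart f i).order := by
  apply nat_le_order
  intro e he
  rw [coeff_gpart]
  split_ifs
  · apply coeff_of_lt_order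
    rw [map_add, Finsupp.degree_single]
    refine lt_of_lt_of_le ?_ hk
    exact_mod_cast Nat.succ_lt_succ he
  · rfl

theorem order_le_map (θ : MvPowerSeries (Fin n) R →ₐ[R] MvPowerSeries (Fin n) R)
    (h0 : ∀ i, constantCoeff (θ (X i)) = 0) :
    ∀ (k : ℕ) (f : MvPowerSeries (Fin n) R), (k : ℕ∞) ≤ f.order → (k : ℕ∞) ≤ (θ f).order := by
  intro k
  induction k with
  | zero => intro f _; simp
  | succ k ih =>
    intro f hf
    have hc : constantCoeff f = 0 := by
      apply one_le_order_iff_constCoeff_eq_zero.mp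
      refine le_trans ?_ hf
      exact_mod_cast Nat.succ_le_succ (Nat.zero_le k)
    have hfg := decomp_eq f hc
    have hg := decomp_order f k hf
    rw [hfg, map_sum]
    apply nat_le_order
    intro d hd
    rw [map_sum]
    apply Finset.sum_eq_zero
    intro i _
    apply coeff_of_lt_order
    have h1 : (1 : ℕ∞) ≤ (θ (X i)).order := one_le_order_iff_constCoeff_eq_zero.mpr (h0 i)
    have h2 : (k : ℕ∞) ≤ (θ (gpart f i)).order := ih (gpart f i) (hg i)
    calc ((Finsupp.degree d : ℕ) : ℕ∞) < ((k + 1 : ℕ) : ℕ∞) := by exact_mod_cast hd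
      _ = 1 + (k : ℕ∞) := by rw [Nat.cast_add, Nat.cast_one, add_comm]
      _ ≤ (θ (X i)).order + (θ (gpart f i)).order := add_le_add h1 h2
      _ ≤ (θ (X i) * θ (gpart f i)).order := le_order_mul
      _ = (θ (X i * gpart f i)).order := by rw [map_mul]

theorem hc_zero_one :
    homogeneousComponent 0 (1 : MvPowerSeries (Fin n) R) = 1 := by
  classical
  ext d
  rw [coeff_homogeneousComponent]
  by_cases hd : Finsupp.degree d = 0
  · rw [if_pos hd]
  · rw [if_neg hd, coeff_one, if_neg]
    intro h0
    apply hd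
    rw [h0, map_zero]

theorem hc_pow (f : MvPowerSeries (Fin n) R) (hf : ((1 : ℕ) : ℕ∞) ≤ f.order) (e : ℕ) :
    (e : ℕ∞) ≤ (f ^ e).order ∧
      homogeneousComponent e (f ^ e) = (homogeneousComponent 1 f) ^ e := by
  induction e with
  | zero => exact ⟨by simp, by rw [pow_zero, pow_zero, hc_zero_one]⟩
  | succ e ih =>
    have h1 : ((e + 1 : ℕ) : ℕ∞) ≤ (f ^ e * f).order := by
      rw [Nat.cast_add]
      exact (add_le_add ih.1 hf).trans le_order_mul
    refine ⟨by rw [pow_succ]; exact h1, ?_⟩
    rw [pow_succ f e, homogeneousComponent_mul_of_le_order ih.1 hf, ih.2, pow_succ]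

theorem hc_prod {ι : Type*} (s : Finset ι) (f : ι → MvPowerSeries (Fin n) R) (e : ι → ℕ)
    (hf : ∀ i, ((1 : ℕ) : ℕ∞) ≤ (f i).order) :
    ((∑ i ∈ s, e i : ℕ) : ℕ∞) ≤ (∏ i ∈ s, f i ^ e i).order ∧
      homogeneousComponent (∑ i ∈ s, e i) (∏ i ∈ s, f i ^ e i)
        = ∏ i ∈ s, (homogeneousComponent 1 (f i)) ^ e i := by
  classical
  induction s using Finset.induction_on with
  | empty =>
    exact ⟨by simp, by rw [Finset.sum_empty, Finset.prod_empty, Finset.prod_empty, hc_zero_one]⟩
  | @insert a s ha ih =>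
    have hp := hc_pow (f a) (hf a) (e a)
    have h1 : ((e a + ∑ i ∈ s, e i : ℕ) : ℕ∞) ≤ (f a ^ e a * ∏ i ∈ s, f i ^ e i).order := by
      rw [Nat.cast_add]
      exact (add_le_add hp.1 ih.1).trans le_order_mul
    rw [Finset.sum_insert ha, Finset.prod_insert ha, Finset.prod_insert ha]
    refine ⟨h1, ?_⟩
    rw [homogeneousComponent_mul_of_le_order hp.1 ih.1, hp.2, ih.2]

theorem hc_theta_monomial (θ : MvPowerSeries (Fin n) R →ₐ[R] MvPowerSeries (Fin n) R)
    (h1 : ∀ i, ((1 : ℕ) : ℕ∞) ≤ (θ (X i)).order)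
    (h2 : ∀ i, homogeneousComponent 1 (θ (X i)) = X i) (d : Fin n →₀ ℕ) (c : R) :
    homogeneousComponent (Finsupp.degree d) (θ (monomial d c)) = monomial d c := by
  have hm : (monomial d c : MvPowerSeries (Fin n) R)
      = c • d.prod (fun s e => (X s : MvPowerSeries (Fin n) R) ^ e) := by
    rw [← monomial_one_eq, ← map_smul, smul_eq_mul, mul_one]
  rw [hm, map_smul, map_smul, map_finsuppProd]
  congr 1
  have key := (hc_prod d.support (fun i => θ (X i)) (fun i => d i) h1).2
  have e1 : (d.prod fun a b => θ ((X a : MvPowerSeries (Fin n) R) ^ b))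
      = ∏ i ∈ d.support, θ (X i) ^ d i := by
    rw [Finsupp.prod]
    apply Finset.prod_congr rfl
    intro i _
    rw [map_pow]
  rw [e1]
  show homogeneousComponent (∑ i ∈ d.support, d i) (∏ i ∈ d.support, θ (X i) ^ d i)
    = ∏ i ∈ d.support, (X i : MvPowerSeries (Fin n) R) ^ d i
  exact key.trans (Finset.prod_congr rfl (fun i _ => by rw [h2]))

theorem hc_theta_hc (θ : MvPowerSeries (Fin n) R →ₐ[R] MvPowerSeries (Fin n) R)
    (h1 : ∀ i, ((1 : ℕ) : ℕ∞) ≤ (θ (X i)).order)
    (h2 : ∀ i, homogeneousComponent 1 (θ (X i)) = X i) (k : ℕ) (f : MvPowerSeries (Fin n) R) :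
    homogeneousComponent k (θ (homogeneousComponent k f)) = homogeneousComponent k f := by
  classical
  have hS := Finsupp.finite_of_degree_eq (σ := Fin n) k
  have hrep : homogeneousComponent k f = ∑ d ∈ hS.toFinset, monomial d (coeff d f) := by
    ext e
    rw [coeff_homogeneousComponent, map_sum]
    simp only [coeff_monomial]
    rw [Finset.sum_ite_eq]
    by_cases hek : Finsupp.degree e = k
    · rw [if_pos hek, if_pos ((Set.Finite.mem_toFinset hS).mpr hek)]
    · rw [if_neg hek, if_neg (fun h => hek ((Set.Finite.mem_toFinset hS).mp h))]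
  rw [hrep, map_sum, map_sum]
  apply Finset.sum_congr rfl
  intro d hd
  have hdk : Finsupp.degree d = k := (Set.Finite.mem_toFinset hS).mp hd
  rw [← hdk]
  exact hc_theta_monomial θ h1 h2 d (coeff d f)

theorem hc_theta (θ : MvPowerSeries (Fin n) R →ₐ[R] MvPowerSeries (Fin n) R)
    (h0 : ∀ i, constantCoeff (θ (X i)) = 0)
    (h2 : ∀ i, homogeneousComponent 1 (θ (X i)) = X i) (k : ℕ) (f : MvPowerSeries (Fin n) R)
    (hf : (k : ℕ∞) ≤ f.order) :
    homogeneousComponent k (θ f) = homogeneousComponent k f := by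
  have h1 : ∀ i, ((1 : ℕ) : ℕ∞) ≤ (θ (X i)).order := fun i => by
    rw [Nat.cast_one]; exact one_le_order_iff_constCoeff_eq_zero.mpr (h0 i)
  have hdiff : ((k + 1 : ℕ) : ℕ∞) ≤ (f - homogeneousComponent k f).order := by
    apply nat_le_order
    intro d hd
    rw [map_sub, coeff_homogeneousComponent]
    by_cases hdk : Finsupp.degree d = k
    · rw [if_pos hdk, sub_self]
    · rw [if_neg hdk, sub_zero]
      apply coeff_of_lt_order
      have hlt : Finsupp.degree d < k := lt_of_le_of_ne (Nat.lt_succ_iff.mp hd) hdk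
      exact lt_of_lt_of_le (by exact_mod_cast hlt) hf
  have h3 := order_le_map θ h0 (k + 1) _ hdiff
  have h4 : homogeneousComponent k (θ (f - homogeneousComponent k f)) = 0 := by
    apply homogeneousComponent_of_lt_order_eq_zero
    refine lt_of_lt_of_le ?_ h3
    exact_mod_cast Nat.lt_succ_self k
  have h5 : θ f = θ (homogeneousComponent k f) + θ (f - homogeneousComponent k f) := by
    rw [← map_add]; congr 1; ring
  rw [h5, map_add, h4, add_zero, hc_theta_hc θ h1 h2]

theorem degree_one_eq {d : Fin n →₀ ℕ} (hd : Finsupp.degree d = 1) :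
    ∃ j, d = Finsupp.single j 1 := by
  have hne : d ≠ 0 := by
    rintro rfl
    rw [map_zero] at hd
    exact absurd hd (by decide)
  obtain ⟨j, hj⟩ := Finsupp.support_nonempty_iff.mpr hne
  have hj' : d j ≠ 0 := Finsupp.mem_support_iff.mp hj
  have hle : Finsupp.single j 1 ≤ d :=
    Finsupp.single_le_iff.mpr (Nat.one_le_iff_ne_zero.mpr hj')
  have h1 : d - Finsupp.single j 1 + Finsupp.single j 1 = d := tsub_add_cancel_of_le hle
  have h2 : Finsupp.degree (d - Finsupp.single j 1) + 1 = 1 := by
    have h0 := congrArg Finsupp.degree h1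
    rw [map_add, Finsupp.degree_single, hd] at h0
    exact h0
  have h3 : Finsupp.degree (d - Finsupp.single j 1) = 0 := by omega
  have h4 : d - Finsupp.single j 1 = 0 := (Finsupp.degree_eq_zero_iff _).mp h3
  refine ⟨j, ?_⟩
  rw [← h1, h4, zero_add]

theorem hc_one_theta_X (θ : MvPowerSeries (Fin n) R →ₐ[R] MvPowerSeries (Fin n) R)
    (hU2 : ∀ i k, coeff (Finsupp.single k 1) (θ (X i)) = if k = i then 1 else 0) (i : Fin n) :
    homogeneousComponent 1 (θ (X i)) = X i := by
  classical
  ext d
  rw [coeff_homogeneousComponent]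
  by_cases hd : Finsupp.degree d = 1
  · rw [if_pos hd]
    obtain ⟨j, rfl⟩ := degree_one_eq hd
    rw [hU2, coeff_index_single_X]
  · rw [if_neg hd, coeff_X, if_neg]
    intro h
    apply hd
    rw [h, Finsupp.degree_single]

noncomputable def approx (θ : MvPowerSeries (Fin n) R →ₐ[R] MvPowerSeries (Fin n) R)
    (g : MvPowerSeries (Fin n) R) : ℕ → MvPowerSeries (Fin n) R
  | 0 => 0
  | m + 1 => approx θ g m + (g - θ (approx θ g m))

theorem approx_succ (θ : MvPowerSeries (Fin n) R →ₐ[R] MvPowerSeries (Fin n) R)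
    (g : MvPowerSeries (Fin n) R) (m : ℕ) :
    approx θ g (m + 1) = approx θ g m + (g - θ (approx θ g m)) := rfl

theorem bijective_of_unipotent (θ : MvPowerSeries (Fin n) R →ₐ[R] MvPowerSeries (Fin n) R)
    (h0 : ∀ i, constantCoeff (θ (X i)) = 0)
    (hU2 : ∀ i k, coeff (Finsupp.single k 1) (θ (X i)) = if k = i then 1 else 0) :
    Function.Bijective θ := by
  have h2 : ∀ i, homogeneousComponent 1 (θ (X i)) = X i := hc_one_theta_X θ hU2
  have hG : ∀ (k : ℕ) (f : MvPowerSeries (Fin n) R), (k : ℕ∞) ≤ f.order →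
      homogeneousComponent k (θ f) = homogeneousComponent k f := hc_theta θ h0 h2
  have hO : ∀ (k : ℕ) (f : MvPowerSeries (Fin n) R), (k : ℕ∞) ≤ f.order →
      (k : ℕ∞) ≤ (θ f).order := order_le_map θ h0
  constructor
  · rw [injective_iff_map_eq_zero]
    intro f hf
    by_contra hne
    have hfin := ne_zero_iff_order_finite.mp hne
    have h3 := homogeneousComponent_of_order hfin
    apply h3
    rw [← hG _ f (le_of_eq hfin), hf, map_zero]
  · intro g
    have key_R : ∀ (m : ℕ) (r : MvPowerSeries (Fin n) R), (m : ℕ∞) ≤ r.order →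
        ((m + 1 : ℕ) : ℕ∞) ≤ (r - θ r).order := by
      intro m r hr
      apply nat_le_order
      intro d hd
      rw [map_sub]
      by_cases hdm : Finsupp.degree d = m
      · have e1 : coeff d r = coeff d (homogeneousComponent m r) := by
          rw [coeff_homogeneousComponent, if_pos hdm]
        have e2 : coeff d (θ r) = coeff d (homogeneousComponent m (θ r)) := by
          rw [coeff_homogeneousComponent, if_pos hdm]
        rw [e1, e2, hG m r hr, sub_self]
      · have hlt : Finsupp.degree d < m := lt_of_le_of_ne (Nat.lt_succ_iff.mp hd) hdm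
        rw [coeff_of_lt_order (lt_of_lt_of_le (by exact_mod_cast hlt) hr),
          coeff_of_lt_order (lt_of_lt_of_le (by exact_mod_cast hlt) (hO m r hr)), sub_zero]
    have hr : ∀ m : ℕ, (m : ℕ∞) ≤ (g - θ (approx θ g m)).order := by
      intro m
      induction m with
      | zero => simp
      | succ m ih =>
        have e1 : g - θ (approx θ g (m + 1))
            = (g - θ (approx θ g m)) - θ (g - θ (approx θ g m)) := by
          rw [approx_succ, map_add]; ring
        rw [e1]
        exact key_R _ _ ih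
    have hstab : ∀ (d : Fin n →₀ ℕ) (m : ℕ), Finsupp.degree d + 1 ≤ m →
        coeff d (approx θ g m) = coeff d (approx θ g (Finsupp.degree d + 1)) := by
      intro d m hm
      induction m, hm using Nat.le_induction with
      | base => rfl
      | succ m hm ih =>
        rw [approx_succ, map_add, ih,
          coeff_of_lt_order (lt_of_lt_of_le (by exact_mod_cast Nat.lt_of_succ_le hm) (hr m)),
          add_zero]
    obtain ⟨f, hf⟩ : ∃ f : MvPowerSeries (Fin n) R,
        ∀ d, coeff d f = coeff d (approx θ g (Finsupp.degree d + 1)) :=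
      ⟨fun d => coeff d (approx θ g (Finsupp.degree d + 1)), fun d => rfl⟩
    have hfm : ∀ m : ℕ, (m : ℕ∞) ≤ (f - approx θ g m).order := by
      intro m
      apply nat_le_order
      intro d hd
      rw [map_sub, sub_eq_zero, hf d]
      exact (hstab d m (Nat.succ_le_of_lt hd)).symm
    refine ⟨f, ?_⟩
    have hzero : g - θ f = 0 := by
      rw [← order_eq_top_iff, ENat.eq_top_iff_forall_ge]
      intro m
      have e1 : g - θ f = (g - θ (approx θ g m)) + (-(θ (f - approx θ g m))) := by
        rw [map_sub]; ring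
      rw [e1]
      refine le_trans (le_min (hr m) ?_) min_order_le_add
      rw [order_neg]
      exact hO m _ (hfm m)
    exact (sub_eq_zero.mp hzero).symm

noncomputable def lin (M : Matrix (Fin n) (Fin n) R) (i : Fin n) : MvPowerSeries (Fin n) R :=
  ∑ j, M i j • (X j : MvPowerSeries (Fin n) R)

theorem lin_const (M : Matrix (Fin n) (Fin n) R) (i : Fin n) :
    constantCoeff (lin M i) = 0 := by
  rw [← coeff_zero_eq_constantCoeff_apply, lin, map_sum]
  apply Finset.sum_eq_zero
  intro j _
  rw [map_smul, coeff_zero_X, smul_zero]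

theorem lin_coeff (M : Matrix (Fin n) (Fin n) R) (i k : Fin n) :
    coeff (Finsupp.single k 1) (lin M i) = M i k := by
  classical
  rw [lin, map_sum]
  simp only [map_smul, coeff_index_single_X, smul_eq_mul, mul_ite, mul_one, mul_zero]
  rw [Finset.sum_ite_eq, if_pos (Finset.mem_univ _)]

noncomputable def psi (M : Matrix (Fin n) (Fin n) R) :
    MvPowerSeries (Fin n) R →ₐ[R] MvPowerSeries (Fin n) R :=
  MvPowerSeries.substAlgHom (R := R) (S := R) (σ := Fin n) (τ := Fin n) (a := lin M)
    (hasSubst_of_constantCoeff_zero (lin_const M))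

theorem psi_X (M : Matrix (Fin n) (Fin n) R) (i : Fin n) : psi M (X i) = lin M i :=
  MvPowerSeries.substAlgHom_X _ i

theorem comp_lin (φ : MvPowerSeries (Fin n) R →ₐ[R] MvPowerSeries (Fin n) R)
    (h0 : ∀ j, constantCoeff (φ (X j)) = 0) (M : Matrix (Fin n) (Fin n) R)
    (hM : ∀ i k, ∑ j, M i j * coeff (Finsupp.single k 1) (φ (X j)) = if k = i then 1 else 0) :
    Function.Bijective (φ.comp (psi M)) := by
  have hX : ∀ i, (φ.comp (psi M)) (X i) = ∑ j, M i j • φ (X j) := by
    intro i
    rw [AlgHom.comp_apply, psi_X, lin, map_sum]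
    apply Finset.sum_congr rfl
    intro j _
    rw [map_smul]
  apply bijective_of_unipotent
  · intro i
    rw [hX, ← coeff_zero_eq_constantCoeff_apply, map_sum]
    apply Finset.sum_eq_zero
    intro j _
    rw [map_smul, coeff_zero_eq_constantCoeff_apply, h0, smul_zero]
  · intro i k
    rw [hX, map_sum, ← hM i k]
    apply Finset.sum_congr rfl
    intro j _
    rw [map_smul, smul_eq_mul]

end Aux



/-- Let R be a commutative ring, n ≥ 1, and φ an R-algebra homomorphism from the power series ring in n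
variables over R to itself that sends each variable to a power series without constant term. If the
Jacobian matrix at the origin, whose (i, j) entry is the coefficient of X_j in φ(X_i), has
invertible determinant in R, then φ is an isomorphism (bijective). -/
theorem result
    (R : Type*) [CommRing R] (n : ℕ) (hn : 1 ≤ n)
    (φ : MvPowerSeries (Fin n) R →ₐ[R] MvPowerSeries (Fin n) R)
    (h0 : ∀ i, MvPowerSeries.constantCoeff (φ (MvPowerSeries.X i)) = 0)
    (hJ : IsUnit (Matrix.det (Matrix.of fun i j : Fin n =>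
      MvPowerSeries.coeff (Finsupp.single j 1) (φ (MvPowerSeries.X i))))) :
    Function.Bijective φ := by
  classical
  obtain ⟨J, hJdef⟩ : ∃ J : Matrix (Fin n) (Fin n) R, J = Matrix.of fun i j : Fin n =>
      MvPowerSeries.coeff (Finsupp.single j 1) (φ (MvPowerSeries.X i)) := ⟨_, rfl⟩
  rw [← hJdef] at hJ
  have hJ1 : J⁻¹ * J = 1 := Matrix.nonsing_inv_mul J hJ
  have hJ2 : J * J⁻¹ = 1 := Matrix.mul_nonsing_inv J hJ
  have hJapp : ∀ i j, J i j = MvPowerSeries.coeff (Finsupp.single j 1) (φ (MvPowerSeries.X i)) := by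
    intro i j; rw [hJdef]; rfl
  have hone : ∀ i k : Fin n, (1 : Matrix (Fin n) (Fin n) R) i k = if k = i then 1 else 0 := by
    intro i k
    rw [Matrix.one_apply]
    by_cases h : i = k
    · rw [if_pos h, if_pos h.symm]
    · rw [if_neg h, if_neg (fun h' => h h'.symm)]
  have hθ₁ : Function.Bijective (φ.comp (psi J⁻¹)) := by
    apply comp_lin φ h0
    intro i k
    rw [← hone, ← hJ1, Matrix.mul_apply]
    apply Finset.sum_congr rfl
    intro j _
    rw [hJapp]
  have hθ₂ : Function.Bijective ((psi J⁻¹).comp (psi J)) := by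
    apply comp_lin (psi J⁻¹)
    · intro j
      rw [psi_X]; exact lin_const _ j
    · intro i k
      rw [← hone, ← hJ2, Matrix.mul_apply]
      apply Finset.sum_congr rfl
      intro j _
      rw [psi_X, lin_coeff]
  rw [AlgHom.coe_comp] at hθ₁ hθ₂
  have hψsurj : Function.Surjective (psi (J⁻¹ : Matrix (Fin n) (Fin n) R)) := hθ₂.2.of_comp
  refine ⟨?_, hθ₁.2.of_comp⟩
  intro x y hxy
  obtain ⟨x', rfl⟩ := hψsurj x
  obtain ⟨y', rfl⟩ := hψsurj y
  have h3 : x' = y' := hθ₁.1 hxy
  rw [h3]


end Groth.Agent.S10826
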