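import Groth.Statements.S10827
import Groth.Agent.S10824

set_option autoImplicit false
universe u
open Variety

namespace Groth.Agent.S10827

section aux
open MvPolynomial
variable {k : Type*} [Field k]

/-- substitution T ↦ w -/
noncomputable def th (w : MvPolynomial (Fin 2) k) : MvPolynomial (Fin 3) k →ₐ[k] MvPolynomial (Fin 2) k :=
  aeval (Fin.cons (X 0) (Fin.cons (X 1) (Fin.cons w Fin.elim0)) : Fin 3 → MvPolynomial (Fin 2) k)

noncomputable def io : MvPolynomial (Fin 2) k →ₐ[k] MvPolynomial (Fin 3) k :=
  aeval (fun i : Fin 2 => (X (Fin.castSucc i) : MvPolynomial (Fin 3) k))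

theorem th_io (w : MvPolynomial (Fin 2) k) (p : MvPolynomial (Fin 2) k) : th w (io p) = p := by
  have : ((th w).comp io : MvPolynomial (Fin 2) k →ₐ[k] _) = AlgHom.id k _ := by
    apply MvPolynomial.algHom_ext
    intro i
    fin_cases i <;> simp [th, io]
  exact DFunLike.congr_fun this p

theorem th_X2 (w : MvPolynomial (Fin 2) k) : th w (X 2) = w := by
  simp [th]
  rfl

theorem sub_io_th_mem (w : MvPolynomial (Fin 2) k) (P : MvPolynomial (Fin 3) k) :
    P - io (th w P) ∈ Ideal.span {(X 2 : MvPolynomial (Fin 3) k) - io w} := by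
  set J := Ideal.span {(X 2 : MvPolynomial (Fin 3) k) - io w}
  have h : (Ideal.Quotient.mkₐ k J) = ((Ideal.Quotient.mkₐ k J).comp io).comp (th w) := by
    apply MvPolynomial.algHom_ext
    intro i
    fin_cases i
    · simp [th, io]
    · simp [th, io]
    · simp only [th, AlgHom.coe_comp, Function.comp_apply, aeval_X, Ideal.Quotient.mkₐ_eq_mk]
      rw [Ideal.Quotient.eq]
      exact Ideal.subset_span rfl
  have := DFunLike.congr_fun h P
  simp only [AlgHom.coe_comp, Function.comp_apply, Ideal.Quotient.mkₐ_eq_mk] at this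
  exact Ideal.Quotient.eq.1 this

theorem relprime_syzygy {R : Type*} [CommRing R] [IsDomain R] [DecompositionMonoid R]
    {x y a b : R} (h : IsRelPrime x y)
    (hab : a * x + b * y = 0) : ∃ c, a = c * y ∧ b = -(c * x) := by
  by_cases hy : y = 0
  · subst hy
    have hx : IsUnit x := isRelPrime_zero_right.1 h
    obtain ⟨u, rfl⟩ := hx
    have ha : a = 0 := by
      have : a * (u : R) = 0 := by simpa using hab
      exact (mul_eq_zero.1 this).resolve_right u.ne_zero
    refine ⟨-(b * (u⁻¹ : Rˣ)), by simp [ha], ?_⟩
    rw [neg_mul, neg_neg, mul_assoc, Units.inv_mul, mul_one]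
  · have hdvd : y ∣ a := by
      have : y ∣ x * a := ⟨-b, by linear_combination hab⟩
      exact h.symm.dvd_of_dvd_mul_left this
    obtain ⟨c, rfl⟩ := hdvd
    refine ⟨c, mul_comm _ _, ?_⟩
    have : y * (b + c * x) = 0 := by linear_combination hab
    have := (mul_eq_zero.1 this).resolve_left hy
    linear_combination this

theorem lemmaA (f g : MvPolynomial (Fin 3) k)
    (hT : IsRelPrime (th 0 f) (th 0 g)) (H : MvPolynomial (Fin 3) k)
    (hH : X 2 * H ∈ Ideal.span ({f, g} : Set (MvPolynomial (Fin 3) k))) :
    H ∈ Ideal.span ({f, g} : Set (MvPolynomial (Fin 3) k)) := by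
  obtain ⟨a, b, hab⟩ := Ideal.mem_span_pair.1 hH
  have h0 : th 0 a * th 0 f + th 0 b * th 0 g = 0 := by
    have := congrArg (th (0 : MvPolynomial (Fin 2) k)) hab
    simpa [th_X2] using this
  obtain ⟨c, hc1, hc2⟩ := relprime_syzygy hT h0
  have dec : ∀ P : MvPolynomial (Fin 3) k, ∃ P', P = io (th 0 P) + X 2 * P' := by
    intro P
    have := sub_io_th_mem (0 : MvPolynomial (Fin 2) k) P
    rw [map_zero, sub_zero, Ideal.mem_span_singleton'] at this
    obtain ⟨P', hP'⟩ := this
    exact ⟨P', by linear_combination -hP'⟩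
  obtain ⟨a', ha'⟩ := dec a
  obtain ⟨b', hb'⟩ := dec b
  obtain ⟨f', hf'⟩ := dec f
  obtain ⟨g', hg'⟩ := dec g
  rw [hc1, map_mul] at ha'
  rw [hc2, map_neg, map_mul] at hb'
  have key : X 2 * H = X 2 * ((a' - io c * g') * f + (b' + io c * f') * g) := by
    rw [← hab]
    linear_combination f * ha' + g * hb' - io c * f * hg' + io c * g * hf'
  have := mul_left_cancel₀ (X_ne_zero 2) key
  rw [this]; exact Ideal.mem_span_pair.2 ⟨_, _, rfl⟩

theorem lemmaA_pow (f g : MvPolynomial (Fin 3) k)
    (hT : IsRelPrime (th 0 f) (th 0 g)) (j : ℕ) (H : MvPolynomial (Fin 3) k)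
    (hH : X 2 ^ j * H ∈ Ideal.span ({f, g} : Set (MvPolynomial (Fin 3) k))) :
    H ∈ Ideal.span ({f, g} : Set (MvPolynomial (Fin 3) k)) := by
  induction j with
  | zero => simpa using hH
  | succ j ih =>
    apply ih
    apply lemmaA f g hT
    rw [← mul_assoc, ← pow_succ']
    exact hH


theorem span_homog (n m : ℕ) (f g : MvPolynomial (Fin 3) k) (hf : f.IsHomogeneous n)
    (hg : g.IsHomogeneous m) {p : MvPolynomial (Fin 3) k}
    (hp : p ∈ Ideal.span ({f, g} : Set (MvPolynomial (Fin 3) k))) (i : ℕ) :
    homogeneousComponent i p ∈ Ideal.span ({f, g} : Set (MvPolynomial (Fin 3) k)) := by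
  classical
  let _ := MvPolynomial.gradedAlgebra (σ := Fin 3) (R := k)
  have h : (Ideal.span ({f, g} : Set (MvPolynomial (Fin 3) k))).IsHomogeneous
      (homogeneousSubmodule (Fin 3) k) := by
    apply Ideal.homogeneous_span
    intro x hx
    rcases hx with rfl | rfl
    · exact ⟨n, hf⟩
    · exact ⟨m, hg⟩
  exact homogeneousComponent_mem_of_mem h hp i

theorem hc_mul_X2 (H : MvPolynomial (Fin 3) k) (i : ℕ) :
    homogeneousComponent (i + 1) (H * X 2) = homogeneousComponent i H * X 2 :=
  Groth.Agent.S10824.hc_mul H (X 2) 1 i (isHomogeneous_X _ _)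

theorem hc_zero_mul_X2 (H : MvPolynomial (Fin 3) k) :
    homogeneousComponent 0 (H * X 2) = 0 := by
  rw [homogeneousComponent_zero]
  simp [coeff_mul_X']

theorem lemmaB (n m : ℕ) (f g : MvPolynomial (Fin 3) k) (hf : f.IsHomogeneous n)
    (hg : g.IsHomogeneous m)
    (hT : IsRelPrime (th 0 f) (th 0 g)) (d : ℕ) (F : MvPolynomial (Fin 3) k)
    (hF : F.IsHomogeneous d)
    (hmem : th 1 F ∈ Ideal.span ({th 1 f, th 1 g} : Set (MvPolynomial (Fin 2) k))) :
    F ∈ Ideal.span ({f, g} : Set (MvPolynomial (Fin 3) k)) := by
  classical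
  set J := Ideal.span ({f, g} : Set (MvPolynomial (Fin 3) k)) with hJ
  obtain ⟨a, b, hab⟩ := Ideal.mem_span_pair.1 hmem
  set G := io a * f + io b * g with hG
  have hGJ : G ∈ J := Ideal.mem_span_pair.2 ⟨_, _, rfl⟩
  have hthG : th 1 (F - G) = 0 := by
    rw [map_sub, hG, map_add, map_mul, map_mul, th_io, th_io, hab, sub_self]
  have hmem2 := sub_io_th_mem (1 : MvPolynomial (Fin 2) k) (F - G)
  rw [hthG, map_zero, sub_zero, map_one, Ideal.mem_span_singleton'] at hmem2
  obtain ⟨H, hH⟩ := hmem2
  -- hH : H * (X 2 - 1) = F - G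
  have hFeq : F = G + H * X 2 - H := by linear_combination -hH
  have hcomp0 : homogeneousComponent 0 F = homogeneousComponent 0 G - homogeneousComponent 0 H := by
    conv_lhs => rw [hFeq]
    rw [map_sub, map_add, hc_zero_mul_X2, add_zero]
  have hcompS : ∀ i, homogeneousComponent (i + 1) F = homogeneousComponent (i + 1) G +
      homogeneousComponent i H * X 2 - homogeneousComponent (i + 1) H := by
    intro i
    conv_lhs => rw [hFeq]
    rw [map_sub, map_add, hc_mul_X2]
  have hFi : ∀ i, homogeneousComponent i F = if i = d then F else 0 :=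
    fun i => homogeneousComponent_of_mem hF
  have hGi : ∀ i, homogeneousComponent i G ∈ J := fun i => span_homog n m f g hf hg hGJ i
  have main : ∀ i, homogeneousComponent i H + (if d ≤ i then X 2 ^ (i - d) * F else 0) ∈ J := by
    intro i
    induction i with
    | zero =>
      have h1 := hcomp0
      rw [hFi 0] at h1
      have h2 : homogeneousComponent 0 H + (if d ≤ 0 then X 2 ^ (0 - d) * F else 0) =
          homogeneousComponent 0 G := by
        by_cases hd : d = 0
        · subst hd
          simp only [le_refl, if_true, Nat.sub_self, pow_zero, one_mul] at h1 ⊢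
          linear_combination h1
        · have hd' : ¬ d ≤ 0 := by omega
          have hd'' : ¬ 0 = d := fun h => hd h.symm
          rw [if_neg hd'] ; rw [if_neg hd''] at h1
          linear_combination h1
      rw [h2]; exact hGi 0
    | succ i ih =>
      have h1 := hcompS i
      rw [hFi (i + 1)] at h1
      rcases lt_trichotomy d (i + 1) with hlt | heq | hgt
      · have hdi : d ≤ i := by omega
        have hne : ¬ i + 1 = d := by omega
        rw [if_pos hdi] at ih
        rw [if_neg hne] at h1
        rw [if_pos (by omega : d ≤ i + 1)]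
        have e : i + 1 - d = (i - d) + 1 := by omega
        have h2 : homogeneousComponent (i + 1) H + X 2 ^ (i + 1 - d) * F =
            homogeneousComponent (i + 1) G +
              (homogeneousComponent i H + X 2 ^ (i - d) * F) * X 2 := by
          rw [e, pow_succ]
          linear_combination h1
        rw [h2]
        exact J.add_mem (hGi _) (J.mul_mem_right _ ih)
      · subst heq
        have hdi : ¬ (i + 1 ≤ i) := by omega
        rw [if_neg hdi, add_zero] at ih
        rw [if_pos rfl] at h1
        rw [if_pos le_rfl, Nat.sub_self, pow_zero, one_mul]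
        have h2 : homogeneousComponent (i + 1) H + F = homogeneousComponent (i + 1) G +
            homogeneousComponent i H * X 2 := by linear_combination h1
        rw [h2]
        exact J.add_mem (hGi _) (J.mul_mem_right _ ih)
      · have hdi : ¬ d ≤ i := by omega
        have hne : ¬ i + 1 = d := by omega
        rw [if_neg hdi, add_zero] at ih
        rw [if_neg hne] at h1
        rw [if_neg (by omega : ¬ d ≤ i + 1), add_zero]
        have h2 : homogeneousComponent (i + 1) H = homogeneousComponent (i + 1) G +
            homogeneousComponent i H * X 2 := by linear_combination h1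
        rw [h2]
        exact J.add_mem (hGi _) (J.mul_mem_right _ ih)
  -- take i large
  have hbig := main (d + (H.totalDegree + 1))
  rw [homogeneousComponent_eq_zero _ _ (by omega), zero_add, if_pos (by omega)] at hbig
  exact lemmaA_pow f g hT _ F hbig


theorem final (n m : ℕ) (f g : MvPolynomial (Fin 3) k) (hf : f.IsHomogeneous n)
    (hg : g.IsHomogeneous m) (hf0 : f ≠ 0) (hg0 : g ≠ 0) (hfg : IsRelPrime f g)
    (hT : IsRelPrime (th 0 f) (th 0 g)) :
    Module.finrank k (MvPolynomial (Fin 2) k ⧸
      Ideal.span ({th 1 f, th 1 g} : Set (MvPolynomial (Fin 2) k))) = n * m := by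
  classical
  set Jst := Ideal.span ({th 1 f, th 1 g} : Set (MvPolynomial (Fin 2) k)) with hJst
  set J := Ideal.span ({f, g} : Set (MvPolynomial (Fin 3) k)) with hJ
  let π : MvPolynomial (Fin 2) k →ₗ[k] (MvPolynomial (Fin 2) k ⧸ Jst) :=
    (Ideal.Quotient.mkₐ k Jst).toLinearMap
  let φ : ∀ d : ℕ, homogeneousSubmodule (Fin 3) k d →ₗ[k] (MvPolynomial (Fin 2) k ⧸ Jst) :=
    fun d => π ∘ₗ (th (1 : MvPolynomial (Fin 2) k)).toLinearMap ∘ₗ
      (homogeneousSubmodule (Fin 3) k d).subtype
  have hφ : ∀ d (x : homogeneousSubmodule (Fin 3) k d),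
      φ d x = Ideal.Quotient.mk Jst (th 1 (x : MvPolynomial (Fin 3) k)) := fun d x => rfl
  have hker : ∀ d, LinearMap.ker (φ d) =
      Submodule.comap (homogeneousSubmodule (Fin 3) k d).subtype (J.restrictScalars k) := by
    intro d
    ext ⟨x, hx⟩
    rw [LinearMap.mem_ker, hφ, Ideal.Quotient.eq_zero_iff_mem]
    simp only [Submodule.mem_comap, Submodule.subtype_apply, Submodule.restrictScalars_mem]
    constructor
    · intro h
      exact lemmaB n m f g hf hg hT d x hx h
    · intro h
      have : th 1 x ∈ Ideal.map (th (1 : MvPolynomial (Fin 2) k)) J := Ideal.mem_map_of_mem _ h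
      rw [hJ, Ideal.map_span, Set.image_pair] at this
      exact this
  have fgH : ∀ e, (homogeneousSubmodule (Fin 3) k e).FG :=
    fun e => homogeneousSubmodule_fg (σ := Fin 3) (R := k) e
  have finH : ∀ e, Module.Finite k (homogeneousSubmodule (Fin 3) k e) :=
    fun e => Module.Finite.iff_fg.mpr (fgH e)
  have finV : ∀ d, Module.Finite k (LinearMap.range (φ d)) := fun d => by
    have := finH d
    infer_instance
  have hrank : ∀ d, n + m ≤ d → Module.finrank k (LinearMap.range (φ d)) = n * m := by
    intro d hd
    rw [← (LinearMap.quotKerEquivRange (φ d)).finrank_eq, hker d]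
    exact Groth.Agent.S10824.main k n m d f g hf hg hf0 hg0 hfg hd
  have hstep : ∀ d, LinearMap.range (φ d) ≤ LinearMap.range (φ (d + 1)) := by
    intro d q hq
    obtain ⟨⟨x, hx⟩, rfl⟩ := hq
    refine ⟨⟨x * X 2, ?_⟩, ?_⟩
    · exact IsHomogeneous.mul hx (isHomogeneous_X _ _)
    · rw [hφ, hφ]
      simp only [map_mul, th_X2, mul_one]
  have hmono : Monotone (fun d => LinearMap.range (φ d)) := monotone_nat_of_le_succ hstep
  have hconst : ∀ d, n + m ≤ d → LinearMap.range (φ d) = LinearMap.range (φ (n + m)) := by
    intro d hd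
    have := finV d
    exact (Submodule.eq_of_le_of_finrank_eq (hmono hd)
      ((hrank _ le_rfl).trans (hrank d hd).symm)).symm
  have htop : (⊤ : Submodule k (MvPolynomial (Fin 2) k ⧸ Jst)) = LinearMap.range (φ (n + m)) := by
    apply le_antisymm _ le_top
    intro q _
    obtain ⟨p, rfl⟩ := Ideal.Quotient.mk_surjective q
    set P := io p with hP
    have hp : p = th 1 P := (th_io 1 p).symm
    have hsum := sum_homogeneousComponent P
    set N := max P.totalDegree (n + m) with hN
    rw [← hconst N (le_max_right _ _)]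
    have : Ideal.Quotient.mk Jst p = ∑ i ∈ Finset.range (P.totalDegree + 1),
        φ i ⟨homogeneousComponent i P, homogeneousComponent_isHomogeneous i P⟩ := by
      simp only [hφ]
      rw [← map_sum, ← map_sum, hsum, ← hp]
    rw [this]
    apply Submodule.sum_mem
    intro i hi
    have hi' : i ≤ N := by
      have := Finset.mem_range.1 hi
      have : P.totalDegree ≤ N := le_max_left _ _
      omega
    exact hmono hi' ⟨_, rfl⟩
  rw [← finrank_top k, htop]
  exact hrank _ le_rfl


end aux


/-- Let k be a field and f, g nonzero homogeneous polynomials of positive degrees n and m in three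
variables X, Y, T without common non-unit factor, and assume that f(X, Y, 0) and g(X, Y, 0) are also
without common non-unit factor in k[X, Y] (no common point of the two curves lies on the line T =
0). Then the quotient of k[X, Y] by the ideal generated by f(X, Y, 1) and g(X, Y, 1) has dimension
n·m over k. (The published statement is that two plane curves without common component have total
intersection number equal to the product of their degrees; its argument moves a line off the
finitely many common points and then proves exactly this affine count, which is what this row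
states, over an arbitrary field.) -/
theorem result (k : Type u) [Field k] (n m : ℕ)
    (f g : MvPolynomial (Fin 3) k) (hf : f.IsHomogeneous n) (hg : g.IsHomogeneous m)
    (hn : 0 < n) (hm : 0 < m) (hf0 : f ≠ 0) (hg0 : g ≠ 0) (hfg : IsRelPrime f g)
    (hT : IsRelPrime
      (MvPolynomial.aeval (Fin.cons (MvPolynomial.X 0) (Fin.cons (MvPolynomial.X 1)
        (Fin.cons 0 Fin.elim0)) : Fin 3 → MvPolynomial (Fin 2) k) f)
      (MvPolynomial.aeval (Fin.cons (MvPolynomial.X 0) (Fin.cons (MvPolynomial.X 1)
        (Fin.cons 0 Fin.elim0)) : Fin 3 → MvPolynomial (Fin 2) k) g)) :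
    Module.finrank k (MvPolynomial (Fin 2) k ⧸ Ideal.span
      ({MvPolynomial.aeval (Fin.cons (MvPolynomial.X 0) (Fin.cons (MvPolynomial.X 1)
          (Fin.cons 1 Fin.elim0)) : Fin 3 → MvPolynomial (Fin 2) k) f,
        MvPolynomial.aeval (Fin.cons (MvPolynomial.X 0) (Fin.cons (MvPolynomial.X 1)
          (Fin.cons 1 Fin.elim0)) : Fin 3 → MvPolynomial (Fin 2) k) g} :
        Set (MvPolynomial (Fin 2) k))) = n * m := by
  exact final n m f g hf hg hf0 hg0 hfg hT

end Groth.Agent.S10827
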