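import Groth.Statements.S1083
import Mathlib
import Groth.Agent.Lib.Helper25.FilDInj
import Groth.Agent.S1085

set_option autoImplicit false
universe v u
open CategoryTheory CategoryTheory.Limits Opposite
open FilD

namespace Groth.Agent.S1083

open CochainComplex HomComplex Preadditive

/-- Extension along a differential of a filtered acyclic complex. -/
lemma exists_desc_d {A : Type u} [Category.{v} A] [Abelian A]
    (K : CochainComplex (FilD.FilF A) ℤ) (hK : FilD.IsFilteredAcyclic K) (n : ℤ)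
    {J : FilD.FilF A} (hJ : FilD.IsFilteredInjective J) (w : K.X (n + 1) ⟶ J)
    (hw : K.d n (n + 1) ≫ w = 0) :
    ∃ β : K.X (n + 2) ⟶ J, K.d (n + 1) (n + 2) ≫ β = w := by
  let S : ShortComplex (FilD.FilF A) :=
    ShortComplex.mk (K.d n (n + 1)) (K.d (n + 1) (n + 2)) (K.d_comp_d _ _ _)
  have hS : ∀ p : ℤ, (S.map (FilD.grF A p)).Exact := by
    intro p
    have h := hK p (n + 1)
    rw [((FilD.grCx p).obj K).exactAt_iff' n (n + 1) (n + 2) (by simp) (by simp; lia)] at h
    exact h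
  obtain ⟨hex, -, hstr⟩ := Groth.Agent.S1085.result S hS
  refine Groth.Agent.Lib.helper25.FilDInj.exists_desc_of_isStrict (K.d (n + 1) (n + 2)) hstr hJ w ?_
  intro p T t ht
  obtain ⟨T', π, _, s, hs⟩ : ∃ (T' : A) (π : T' ⟶ T) (_ : Epi π)
      (s : T' ⟶ (K.X n).obj.obj (op p)), π ≫ t = s ≫ (K.d n (n + 1)).hom.app (op p) :=
    (hex p).exact_up_to_refinements t ht
  rw [← cancel_epi π, comp_zero, reassoc_of% hs]
  have : (K.d n (n + 1)).hom.app (op p) ≫ w.hom.app (op p) = 0 := by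
    have := congrArg (fun φ => φ.hom.app (op p)) hw
    exact this
  rw [this, comp_zero]

lemma aux {A : Type u} [Category.{v} A] [Abelian A] {K L : CochainComplex (FilD.FilF A) ℤ}
    (f : K ⟶ L) (α : Cochain K L (-1)) (n m : ℤ) (hnm : n + 1 = m)
    (hK : FilD.IsFilteredAcyclic K) (hL : FilD.IsFilteredInjective (L.X m))
    (hα : (δ (-1) 0 α).EqUpTo (Cochain.ofHom f) n) :
    ∃ (h : K.X (n + 2) ⟶ L.X (n + 1)),
      (δ (-1) 0 (α + Cochain.single h (-1))).EqUpTo (Cochain.ofHom f) m := by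
  subst hnm
  let u := f.f (n + 1) - α.v (n + 1) n (by lia) ≫ L.d n (n + 1) -
    K.d (n + 1) (n + 2) ≫ α.v (n + 2) (n + 1) (by lia)
  have hu : K.d n (n + 1) ≫ u = 0 := by
    have eq := hα n n (add_zero n) (by rfl)
    simp only [δ_v (-1) 0 (neg_add_cancel 1) α n n (add_zero _) (n - 1) (n + 1)
      (by lia) (by lia), Int.negOnePow_zero, one_smul, Cochain.ofHom_v] at eq
    simp only [u, comp_sub, HomologicalComplex.d_comp_d_assoc, zero_comp,
      ← f.comm, ← eq, add_comp, Category.assoc, L.d_comp_d, comp_zero, zero_add, sub_self]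
  obtain ⟨β, hβ⟩ : ∃ (β : K.X (n + 2) ⟶ L.X (n + 1)), K.d (n + 1) (n + 2) ≫ β = u :=
    exists_desc_d K hK n hL u hu
  refine ⟨β, ?_⟩
  intro p q hpq hp
  obtain rfl : p = q := by lia
  obtain hp | rfl := hp.lt_or_eq
  · rw [δ_add, Cochain.add_v, hα p p (by lia) (by lia), add_eq_left,
      δ_v (-1) 0 (neg_add_cancel 1) _ p p hpq (p - 1) (p + 1) rfl rfl,
      Cochain.single_v_eq_zero _ _ _ _ _ (by lia),
      Cochain.single_v_eq_zero _ _ _ _ _ (by lia)]
    simp
  · rw [δ_v (-1) 0 (neg_add_cancel 1) _ (n + 1) (n + 1) (by lia) n (n + 2)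
      (by lia) (by lia), Cochain.add_v,
      Cochain.single_v_eq_zero _ _ _ _ _ (by lia)]
    simp [hβ, u]

/-- Let A be an abelian category, K a filtered acyclic complex of finite filtered objects and I a
bounded below complex of filtered injective objects. Every morphism of complexes K ⟶ I is homotopic
to zero. -/
theorem result {A : Type u} [Category.{v} A] [Abelian A] (K I : CochainComplex (FilD.FilF A) ℤ)
    (hK : FilD.IsFilteredAcyclic K) (a : ℤ) [I.IsStrictlyGE a] (hI : ∀ n, FilD.IsFilteredInjective (I.X n)) (φ : K ⟶ I) :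
    Nonempty (Homotopy φ 0) := by
  open Cochain.InductionUp in
  let X (n : ℕ) : Set (Cochain K I (-1)) :=
    Set.ofPred (fun α => (δ (-1) 0 α).EqUpTo (Cochain.ofHom φ) (n + a - 1))
  let x₀ : X 0 := ⟨0, fun p q hpq hp ↦
    IsZero.eq_of_tgt (I.isZero_of_isStrictlyGE a _ (by lia)) _ _⟩
  let ψ (n : ℕ) (α : X n) : X (n + 1) :=
    ⟨_, (aux φ α.1 (n + a - 1) ((n + 1 : ℕ) + a - 1)
      (by lia) hK (hI _) α.2).choose_spec⟩
  have hψ (k : ℕ) (x : X k) : (ψ k x).1.EqUpTo x.1 (a + k) := fun p q hpq hp => by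
    dsimp [ψ]
    rw [add_eq_left, Cochain.single_v_eq_zero _ _ _ _ _ (by lia)]
  refine ⟨(Cochain.equivHomotopy φ 0).symm
    ⟨Cochain.InductionUp.limitSequence ψ hψ x₀, ?_⟩⟩
  rw [Cochain.ofHom_zero, add_zero]
  ext n
  let k₀ := (n - a + 1).toNat
  rw [← (Cochain.InductionUp.sequence ψ x₀ k₀).2 n n (add_zero n) (by lia),
    δ_v (-1) 0 (neg_add_cancel 1) _ n n (by lia) (n - 1) (n + 1) rfl (by lia),
    δ_v (-1) 0 (neg_add_cancel 1) _ n n (by lia) (n - 1) (n + 1) rfl (by lia),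
    Cochain.InductionUp.limitSequence_eqUpTo ψ hψ x₀ k₀ n (n - 1) (by lia) (by lia),
    Cochain.InductionUp.limitSequence_eqUpTo ψ hψ x₀ k₀ (n + 1) n (by lia) (by lia)]

end Groth.Agent.S1083
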