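import Groth.Statements.S10830
import Mathlib.Topology.KrullDimension

set_option autoImplicit false
universe u
open Topology TopologicalSpace
open TopDim

namespace Groth.Agent.S10830

/-- In an irreducible topological space X of finite Krull dimension, every proper closed subset Y has
strictly smaller Krull dimension than X. -/
theorem result (X : Type u) [TopologicalSpace X]
    [IrreducibleSpace X] (hfin : topologicalKrullDim X ≠ ⊤) (Y : Set X) (hY : IsClosed Y) (hYX : Y ≠ Set.univ) :
    topologicalKrullDim ↥Y < topologicalKrullDim X := by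
  have hne : Nonempty (IrreducibleCloseds X) :=
    ⟨⟨Set.univ, IrreducibleSpace.isIrreducible_univ X, isClosed_univ⟩⟩
  obtain ⟨d, hd⟩ : ∃ d : ℕ, topologicalKrullDim X = (d : WithBot ℕ∞) := by
    have h0 : (0 : WithBot ℕ∞) ≤ topologicalKrullDim X := Order.krullDim_nonneg
    have hbot : topologicalKrullDim X ≠ ⊥ := by
      intro h
      rw [h] at h0
      simp at h0
    obtain ⟨y, hy⟩ := WithBot.ne_bot_iff_exists.1 hbot
    have hytop : y ≠ ⊤ := by
      rintro rfl
      exact hfin hy.symm
    obtain ⟨d, rfl⟩ := ENat.ne_top_iff_exists.1 hytop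
    exact ⟨d, hy.symm⟩
  rw [hd]
  unfold topologicalKrullDim
  rw [Order.krullDim_lt_coe_iff]
  intro l
  let T : IrreducibleCloseds X := ⟨Set.univ, IrreducibleSpace.isIrreducible_univ X, isClosed_univ⟩
  let g : IrreducibleCloseds Y → IrreducibleCloseds X :=
    IrreducibleCloseds.map Subtype.val continuous_subtype_val
  have hg : StrictMono g := IrreducibleCloseds.map_strictMono_of_isInducing IsInducing.subtypeVal
  have hlt : ∀ c : IrreducibleCloseds Y, g c < T := by
    intro c
    have hsub : (g c : Set X) ⊆ Y := by
      change closure (Subtype.val '' (c : Set Y)) ⊆ Y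
      refine closure_minimal ?_ hY
      rintro _ ⟨y, -, rfl⟩
      exact y.2
    refine lt_of_le_of_ne (fun x _ => Set.mem_univ x) ?_
    intro h
    apply hYX
    rw [Set.eq_univ_iff_forall]
    intro x
    apply hsub
    rw [h]
    exact Set.mem_univ x
  let L : LTSeries (IrreducibleCloseds X) := (l.map g hg).snoc T (hlt _)
  have hL : L.length = l.length + 1 := by simp [L]
  have := Order.LTSeries.length_le_krullDim L
  rw [hL] at this
  change _ ≤ topologicalKrullDim X at this
  rw [hd] at this
  have h2 : l.length + 1 ≤ d := by exact_mod_cast this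
  omega

end Groth.Agent.S10830
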