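import Groth.Statements.S10831
-- import your own Groth.Agent.* helpers here

set_option autoImplicit false
universe u
open Topology TopologicalSpace
open TopDim

namespace Groth.Agent.S10831

/-- The preimage in a subspace `Y` of a preirreducible subset `Z ⊆ Y` is preirreducible. -/
theorem isPreirreducible_preimage_val {X : Type u} [TopologicalSpace X] (Y Z : Set X)
    (hZY : Z ⊆ Y) (hZ : IsPreirreducible Z) :
    IsPreirreducible ((Subtype.val : Y → X) ⁻¹' Z) := by
  intro u v hu hv hu' hv'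
  obtain ⟨u', hu'o, rfl⟩ := isOpen_induced_iff.mp hu
  obtain ⟨v', hv'o, rfl⟩ := isOpen_induced_iff.mp hv
  obtain ⟨a, haZ, hau⟩ := hu'
  obtain ⟨b, hbZ, hbv⟩ := hv'
  obtain ⟨c, hcZ, hcu, hcv⟩ := hZ u' v' hu'o hv'o ⟨a.1, haZ, hau⟩ ⟨b.1, hbZ, hbv⟩
  exact ⟨⟨c, hZY hcZ⟩, hcZ, hcu, hcv⟩

/-- Restriction of irreducible closed subsets lying in `Y` to the subspace `Y`. -/
def restrictTo {X : Type u} [TopologicalSpace X] (Y : IrreducibleCloseds X)
    (Z : Set.Iic Y) : IrreducibleCloseds ↥(Y : Set X) where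
  carrier := (Subtype.val : ↥(Y : Set X) → X) ⁻¹' (Z.1 : Set X)
  isIrreducible' := by
    refine ⟨?_, isPreirreducible_preimage_val _ _ Z.2 Z.1.isIrreducible.isPreirreducible⟩
    obtain ⟨z, hz⟩ := Z.1.isIrreducible.nonempty
    exact ⟨⟨z, Z.2 hz⟩, hz⟩
  isClosed' := Z.1.isClosed.preimage continuous_subtype_val

theorem restrictTo_strictMono {X : Type u} [TopologicalSpace X] (Y : IrreducibleCloseds X) :
    StrictMono (restrictTo Y) := by
  intro Z₁ Z₂ h
  have hle : Z₁.1 ≤ Z₂.1 := h.le
  refine lt_of_le_of_ne (fun y (hy : y.1 ∈ (Z₁.1 : Set X)) => (hle hy : y.1 ∈ (Z₂.1 : Set X))) ?_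
  intro heq
  apply h.ne
  apply Subtype.ext
  apply IrreducibleCloseds.ext
  refine Set.Subset.antisymm (fun z hz => hle hz) ?_
  intro z hz
  have hzY : z ∈ (Y : Set X) := Z₂.2 hz
  have : (⟨z, hzY⟩ : ↥(Y : Set X)) ∈ (restrictTo Y Z₂ : Set ↥(Y : Set X)) := hz
  rw [← heq] at this
  exact this

/-- The Krull dimension of a topological space is the supremum of the Krull dimensions of its
irreducible components. -/
theorem result (X : Type u) [TopologicalSpace X] :
    topologicalKrullDim X = ⨆ Y ∈ irreducibleComponents X, topologicalKrullDim ↥Y := by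
  apply le_antisymm
  · rw [topologicalKrullDim, Order.krullDim_eq_iSup_height]
    refine iSup_le fun a => ?_
    obtain ⟨Y, hY, haY⟩ := exists_mem_irreducibleComponents_subset_of_isIrreducible
      (a : Set X) a.isIrreducible
    let Y' : IrreducibleCloseds X := ⟨Y, hY.1, isClosed_of_mem_irreducibleComponents Y hY⟩
    have h1 : Order.height a ≤ Order.height Y' := Order.height_mono (show a ≤ Y' from haY)
    have h2 : ((Order.height Y' : ℕ∞) : WithBot ℕ∞) = Order.krullDim (Set.Iic Y') :=
      Order.height_eq_krullDim_Iic Y'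
    have h3 : Order.krullDim (Set.Iic Y') ≤ topologicalKrullDim ↥Y :=
      Order.krullDim_le_of_strictMono _ (restrictTo_strictMono Y')
    calc ((Order.height a : ℕ∞) : WithBot ℕ∞) ≤ ((Order.height Y' : ℕ∞) : WithBot ℕ∞) :=
          WithBot.coe_le_coe.mpr h1
      _ = Order.krullDim (Set.Iic Y') := h2
      _ ≤ topologicalKrullDim ↥Y := h3
      _ ≤ ⨆ Y ∈ irreducibleComponents X, topologicalKrullDim ↥Y :=
          le_iSup₂ (f := fun (Y : Set X) (_ : Y ∈ irreducibleComponents X) =>
            topologicalKrullDim ↥Y) Y hY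
  · exact iSup₂_le fun Y _ => topologicalKrullDim_subspace_le X Y

end Groth.Agent.S10831
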