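import Groth.Statements.S10832
import Mathlib

set_option autoImplicit false
universe u
open CategoryTheory AlgebraicGeometry Topology
open Variety

namespace Groth.Agent.S10832

open TopologicalSpace Opposite in
theorem germ_bijective_of_discrete (X : Scheme.{u}) [DiscreteTopology X] :
    Function.Bijective (fun s : Γ(X, ⊤) => fun x : X => X.presheaf.germ ⊤ x trivial s) := by
  constructor
  · intro s t h
    refine TopCat.Presheaf.section_ext X.sheaf ⊤ s t (fun x hx => ?_)
    exact congrFun h x
  · intro g
    let U : X → X.Opens := fun x => ⟨{x}, isOpen_discrete _⟩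
    have hxU : ∀ x, x ∈ U x := fun x => rfl
    have hrep : ∀ x, ∃ s : Γ(X, U x), X.presheaf.germ (U x) x (hxU x) s = g x := by
      intro x
      obtain ⟨V, hxV, s, hs⟩ := TopCat.Presheaf.exists_germ_eq X.presheaf (g x)
      have hUV : U x ≤ V := by
        intro y hy
        have : y = x := hy
        rw [this]; exact hxV
      refine ⟨X.presheaf.map (homOfLE hUV).op s, ?_⟩
      rw [TopCat.Presheaf.germ_res_apply]
      exact hs
    choose sf hsf using hrep
    have hcompat : TopCat.Presheaf.IsCompatible X.presheaf U sf := by
      intro x y
      by_cases hxy : x = y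
      · subst hxy; rfl
      · apply TopCat.Presheaf.section_ext X.sheaf
        intro z hz
        exfalso
        have h1 : z = x := hz.1
        have h2 : z = y := hz.2
        exact hxy (h1.symm.trans h2)
    obtain ⟨s, hs, -⟩ := X.sheaf.existsUnique_gluing' U ⊤ (fun x => homOfLE le_top) (by
      intro x _; exact Opens.mem_iSup.mpr ⟨x, hxU x⟩) sf hcompat
    refine ⟨s, funext fun x => ?_⟩
    show X.presheaf.germ ⊤ x trivial s = g x
    rw [← hsf x, ← hs x]
    exact (TopCat.Presheaf.germ_res_apply X.presheaf (homOfLE le_top) x (hxU x) s).symm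

/-- For a nonempty scheme X of finite type over a field k the following are equivalent: X has Krull
dimension 0; X is affine with ring of global sections finite over k and equal to the product of all
its local rings via the germ maps; the underlying space of X is discrete; the underlying space of X
is finite. -/
theorem result (k : Type u) [Field k] {X : Scheme.{u}} [Nonempty X]
    (f : X ⟶ Spec (CommRingCat.of k)) [LocallyOfFiniteType f] [QuasiCompact f] :
    [topologicalKrullDim ↥X = 0,
      IsAffine X ∧ f.appTop.hom.Finite ∧
        Function.Bijective (fun s : Γ(X, ⊤) => fun x : X => X.presheaf.germ ⊤ x trivial s),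
      DiscreteTopology ↥X,
      Finite ↥X].TFAE := by
  have hJ : JacobsonSpace X := LocallyOfFiniteType.jacobsonSpace f
  have hN : IsLocallyNoetherian X := LocallyOfFiniteType.isLocallyNoetherian f
  have hC : CompactSpace X := QuasiCompact.compactSpace_of_compactSpace f
  have h34 : DiscreteTopology X → Finite X := fun _ => finite_of_compact_of_discrete
  have h43 : Finite X → DiscreteTopology X := by
    intro _
    have hT1 : T1Space X := by
      refine ⟨fun x => ?_⟩
      have hZ : IsClosed (closure ({x} : Set X)) := isClosed_closure
      have h1 := JacobsonSpace.closure_inter_closedPoints hZ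
      have hfin : (closure ({x} : Set X) ∩ closedPoints X).Finite := Set.toFinite _
      have hcl : IsClosed (closure ({x} : Set X) ∩ closedPoints X) := by
        rw [← Set.biUnion_of_singleton (closure ({x} : Set X) ∩ closedPoints X)]
        exact hfin.isClosed_biUnion (fun y hy => (mem_closedPoints_iff.mp hy.2))
      rw [hcl.closure_eq] at h1
      have hx : x ∈ closure ({x} : Set X) ∩ closedPoints X := by
        rw [h1]; exact subset_closure rfl
      exact mem_closedPoints_iff.mp hx.2
    infer_instance
  have eΓ : Γ(Spec (CommRingCat.of k), ⊤) ≃+* k :=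
    (Scheme.ΓSpecIso (CommRingCat.of k)).commRingCatIsoToRingEquiv
  tfae_have 1 → 3 := by
    intro h
    have : IsLocallyArtinian X := IsLocallyArtinian.of_topologicalKrullDim_le_zero h.le
    exact IsLocallyArtinian.discreteTopology
  tfae_have 3 → 4 := h34
  tfae_have 4 → 1 := by
    intro h
    have := h43 h
    have hne : Nonempty (TopologicalSpace.IrreducibleCloseds X) := by
      obtain ⟨x⟩ := ‹Nonempty X›
      exact ⟨⟨closure {x}, isIrreducible_singleton.closure, isClosed_closure⟩⟩
    exact le_antisymm (topologicalKrullDim_zero_of_discreteTopology X) Order.krullDim_nonneg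
  tfae_have 3 → 2 := by
    intro hD
    have hF : Finite X := h34 hD
    have hA : IsAffine X := inferInstance
    have hArt : IsLocallyArtinian X :=
      IsLocallyArtinian.of_isLocallyNoetherian_of_discreteTopology
    refine ⟨hA, ?_, germ_bijective_of_discrete X⟩
    have hft : RingHom.FiniteType f.appTop.hom :=
      (HasRingHomProperty.iff_of_isAffine (P := @LocallyOfFiniteType)).mp inferInstance
    algebraize [f.appTop.hom]
    have : IsJacobsonRing Γ(Spec (CommRingCat.of k), ⊤) :=
      (isJacobsonRing_iso eΓ).mpr inferInstance
    have : IsArtinianRing Γ(X, ⊤) := inferInstance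
    exact Module.finite_of_isArtinianRing Γ(Spec (CommRingCat.of k), ⊤) Γ(X, ⊤)
  tfae_have 2 → 4 := by
    rintro ⟨hA, hfin, -⟩
    algebraize [f.appTop.hom]
    have : IsArtinianRing Γ(Spec (CommRingCat.of k), ⊤) := eΓ.symm.isArtinianRing
    have : IsArtinianRing Γ(X, ⊤) := IsArtinianRing.of_finite Γ(Spec (CommRingCat.of k), ⊤) Γ(X, ⊤)
    have h1 : Finite (PrimeSpectrum Γ(X, ⊤)) := inferInstance
    have h2 : Finite (Spec Γ(X, ⊤)) := h1
    exact Finite.of_equiv _ X.isoSpec.hom.homeomorph.symm.toEquiv
  tfae_finish

end Groth.Agent.S10832
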