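import Groth.Statements.S10834
import Groth.Agent.S0601
import Groth.Agent.Lib.Helper24.HypersurfaceCM
import Groth.Agent.Lib.Helper24.NormalAscent
-- import your own Groth.Agent.* helpers here

set_option autoImplicit false
universe u
open CAlg

namespace Groth.Agent.S10834

open Groth.Agent.Lib.Helper24.HypersurfaceCM in
/-- The local rings of a hypersurface in a regular ring are Cohen–Macaulay. -/
theorem cm_localization_quot (A : Type u) [CommRing A] [IsNoetherianRing A]
    (hreg : ∀ (p : Ideal A) (_ : p.IsPrime), IsRegularLocalRing (Localization.AtPrime p))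
    (f : A) (I : Ideal A) (hIdef : I = Ideal.span ({f} : Set A)) (q : Ideal (A ⧸ I)) [q.IsPrime] :
    LocCoh.IsCohenMacaulayLocalRing (Localization.AtPrime q) := by
  let Q : Ideal A := q.comap (algebraMap A (A ⧸ I))
  haveI hQ : Q.IsPrime := Ideal.comap_isPrime _ _
  haveI : q.LiesOver Q := ⟨rfl⟩
  haveI := hreg Q hQ
  have hsub : Algebra.algebraMapSubmonoid (A ⧸ I) Q.primeCompl = q.primeCompl :=
    Ideal.algebraMapSubmonoid_primeCompl_of_liesOver_surjective q Q Ideal.Quotient.mk_surjective
  haveI hloc : IsLocalization (Algebra.algebraMapSubmonoid (A ⧸ I) Q.primeCompl)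
      (Localization.AtPrime Q ⧸ I.map (algebraMap A (Localization.AtPrime Q))) := inferInstance
  haveI hloc' : IsLocalization.AtPrime
      (Localization.AtPrime Q ⧸ I.map (algebraMap A (Localization.AtPrime Q))) q := by
    unfold IsLocalization.AtPrime
    rw [← hsub]
    exact hloc
  let e : Localization.AtPrime q ≃ₐ[A ⧸ I]
      (Localization.AtPrime Q ⧸ I.map (algebraMap A (Localization.AtPrime Q))) :=
    IsLocalization.algEquiv q.primeCompl _ _
  have hI : I.map (algebraMap A (Localization.AtPrime Q)) =
      Ideal.span {algebraMap A (Localization.AtPrime Q) f} := by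
    rw [hIdef, Ideal.map_span, Set.image_singleton]
  have hfQ : f ∈ Q := by
    change algebraMap A (A ⧸ I) f ∈ q
    have : algebraMap A (A ⧸ I) f = 0 := by
      change Ideal.Quotient.mk I f = 0
      rw [Ideal.Quotient.eq_zero_iff_mem]
      rw [hIdef]
      exact Ideal.subset_span rfl
    rw [this]
    exact q.zero_mem
  have hg : algebraMap A (Localization.AtPrime Q) f ∈
      IsLocalRing.maximalIdeal (Localization.AtPrime Q) :=
    (IsLocalization.AtPrime.to_map_mem_maximal_iff _ Q f).mpr hfQ
  haveI := cm_quotient_of_regular (Localization.AtPrime Q) _ hg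
  exact Groth.Agent.S9808.cm_of_ringEquiv (e.toRingEquiv.trans (Ideal.quotEquivOfEq hI)).symm

/-- Cohen–Macaulay rings satisfy all `(S_k)`. -/
theorem hasSk_of_cm (k : ℕ) (R : Type u) [CommRing R]
    (h : ∀ (q : Ideal R) [q.IsPrime], LocCoh.IsCohenMacaulayLocalRing (Localization.AtPrime q)) :
    LocCoh.HasSk k R R := by
  rw [Groth.Agent.Lib.Helper24.HensDepth.hasSk_iff_skAt]
  intro q _
  unfold Groth.Agent.Lib.Helper24.HensDepth.SkAt
  rw [(h q).supportDim_eq_depth]
  exact min_le_right _ _

/-- Let A be a Noetherian ring whose localizations at all prime ideals are regular local rings, and f an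
element of A generating a prime ideal, so that A/(f) is an integral domain (an integral hypersurface
in the regular affine scheme Spec A). Then A/(f) is normal (integrally closed in its fraction field)
if and only if it is regular in codimension 1, i.e. its localization at every prime at which the
local ring has dimension 1 is a regular local ring. -/
theorem result (A : Type u) [CommRing A]
    [IsNoetherianRing A] (hreg : ∀ (p : Ideal A) (_ : p.IsPrime), IsRegularLocalRing (Localization.AtPrime p))
    (f : A) (hf : (Ideal.span ({f} : Set A)).IsPrime) :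
    IsIntegrallyClosed (A ⧸ Ideal.span ({f} : Set A)) ↔
      ∀ q : PrimeSpectrum (A ⧸ Ideal.span ({f} : Set A)),
        ringKrullDim (Localization.AtPrime q.asIdeal) = 1 →
          IsRegularLocalRing (Localization.AtPrime q.asIdeal) := by
  haveI := hf
  set R := A ⧸ Ideal.span ({f} : Set A) with hRdef
  haveI : IsDomain R := Ideal.Quotient.isDomain _
  constructor
  · intro hic q hq
    haveI := hic
    have hN : EGA4.IsNormalRing R :=
      Groth.Agent.Lib.Helper24.NormalAscent.isNormalRing_of_isIntegrallyClosed R
    have hRk := ((Groth.Agent.S0601.result R).mp hN).1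
    apply hRk q.asIdeal
    have h1 := IsLocalization.AtPrime.ringKrullDim_eq_height q.asIdeal
      (Localization.AtPrime q.asIdeal)
    rw [hq] at h1
    have h2 : q.asIdeal.height = 1 := by exact_mod_cast h1.symm
    rw [h2]
    rfl
  · intro H
    have hSk : LocCoh.HasSk 2 R R :=
      hasSk_of_cm 2 R (fun q _ => cm_localization_quot A hreg f _ rfl q)
    have hRk : LocCoh.HasRk 1 R := by
      intro q hq hht
      by_cases h0 : q.height = 0
      · have hq0 : q = ⊥ := Ideal.height_eq_zero_iff_eq_bot.mp h0
        apply Groth.Agent.S0602.regular_of_maxIdeal_eq_bot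
        rw [← Localization.AtPrime.map_eq_maximalIdeal]
        have : q.map (algebraMap R (Localization.AtPrime q)) ≤ ⊥ := by
          rw [Ideal.map_le_iff_le_comap]
          exact le_trans (le_of_eq hq0) bot_le
        exact le_bot_iff.mp this
      · have h1 : q.height = 1 := by
          apply le_antisymm (by exact_mod_cast hht)
          exact Order.one_le_iff_pos.mpr (pos_iff_ne_zero.mpr h0)
        apply H ⟨q, hq⟩
        rw [IsLocalization.AtPrime.ringKrullDim_eq_height q, h1]
        rfl
    have hN := (Groth.Agent.S0601.result R).mpr ⟨hRk, hSk⟩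
    exact IsIntegrallyClosed.of_localization_maximal (fun p _ _ => (hN p).2)

end Groth.Agent.S10834
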