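import Groth.Statements.S10836
import Mathlib
-- import your own Groth.Agent.* helpers here

set_option autoImplicit false
universe u
open Coh

namespace Groth.Agent.S10836

open TensorProduct

/-- The multiplicative set of elements outside every prime of `Z`. -/
def avoid {A : Type u} [CommRing A] (Z : Set (PrimeSpectrum A)) : Submonoid A where
  carrier := {a | ∀ p ∈ Z, a ∉ p.asIdeal}
  one_mem' := fun p _ => (Ideal.ne_top_iff_one _).mp p.2.ne_top
  mul_mem' := fun {_ _} ha hb p hp hab => (p.2.mem_or_mem hab).elim (ha p hp) (hb p hp)

theorem mem_avoid {A : Type u} [CommRing A] (Z : Set (PrimeSpectrum A)) (a : A) :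
    a ∈ avoid Z ↔ ∀ p ∈ Z, a ∉ p.asIdeal := Iff.rfl

/-- The localisation at `avoid Z` is semilocal when `Z` is finite: every maximal ideal
contracts to a member of `Z`. -/
theorem comap_mem_of_isMaximal {A : Type u} [CommRing A] (Z : Set (PrimeSpectrum A))
    (hZ : Z.Finite) (P : Ideal (Localization (avoid Z))) (hP : P.IsMaximal) :
    (⟨P, hP.isPrime⟩ : PrimeSpectrum (Localization (avoid Z))).comap
      (algebraMap A (Localization (avoid Z))) ∈ Z := by
  classical
  set A' := Localization (avoid Z)
  set P' : PrimeSpectrum A' := ⟨P, hP.isPrime⟩ with hP'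
  set q : PrimeSpectrum A := P'.comap (algebraMap A A') with hq
  have hrange := PrimeSpectrum.localization_comap_range A' (avoid Z)
  have hqrange : q ∈ Set.range (PrimeSpectrum.comap (algebraMap A A')) := ⟨P', rfl⟩
  rw [hrange] at hqrange
  have hdisj : Disjoint (avoid Z : Set A) q.asIdeal := hqrange
  -- prime avoidance
  have hsub : (q.asIdeal : Set A) ⊆ ⋃ p ∈ (hZ.toFinset : Set (PrimeSpectrum A)), p.asIdeal := by
    intro a ha
    by_contra hnot
    have : a ∈ avoid Z := by
      intro p hp hap
      apply hnot
      simp only [Set.mem_iUnion]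
      exact ⟨p, by simpa using hp, hap⟩
    exact Set.disjoint_left.mp hdisj this ha
  obtain ⟨p, hpZ, hqp⟩ := (Ideal.subset_union_prime (s := hZ.toFinset)
    (f := fun p : PrimeSpectrum A => p.asIdeal) q q (fun i _ _ _ => i.2)).mp hsub
  have hpZ' : p ∈ Z := by simpa using hpZ
  -- p is in the range of comap
  have hprange : p ∈ Set.range (PrimeSpectrum.comap (algebraMap A A')) := by
    rw [hrange]
    show Disjoint (avoid Z : Set A) p.asIdeal
    rw [Set.disjoint_left]
    intro a ha hap
    exact ha p hpZ' hap
  obtain ⟨p', hp'⟩ := hprange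
  -- P ≤ p'.asIdeal
  have hle : P ≤ p'.asIdeal := by
    have h1 : q ≤ p := hqp
    rw [← hp'] at h1
    intro x hx
    obtain ⟨⟨a, s⟩, hax⟩ := IsLocalization.surj (avoid Z) x
    have hxa : algebraMap A A' a ∈ P := by
      rw [← hax]; exact P.mul_mem_right _ hx
    have haq : a ∈ q.asIdeal := hxa
    have hap' : algebraMap A A' a ∈ p'.asIdeal := h1 haq
    rw [← hax] at hap'
    rcases p'.2.mem_or_mem hap' with h | h
    · exact h
    · exfalso
      exact p'.2.ne_top (Ideal.eq_top_of_isUnit_mem _ h (IsLocalization.map_units A' s))
  have heq : P = p'.asIdeal := hP.eq_of_le p'.2.ne_top hle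
  have : q = p := by
    rw [← hp', hq]
    congr 1
    exact PrimeSpectrum.ext heq
  rw [this]; exact hpZ'

/-- Let A be a commutative ring, M a finitely generated projective A-module whose rank at every prime is
r, and Z a finite set of prime ideals of A. Then there is an element s of A outside every prime of Z
such that the localized module M_s has a basis of r elements over A_s. (The published statement is
for a finite locally free module of constant rank r on a scheme and a finite set of points inside an
affine open Spec A, and produces a basic open D(s) containing the points on which the module is free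
of rank r; its argument begins by replacing the scheme with Spec A, and this row states that case.) -/
theorem result (A : Type u) [CommRing A]
    (M : Type u) [AddCommGroup M] [Module A M] [Module.Finite A M] [Module.Projective A M] (r : ℕ)
    (hr : ∀ p : PrimeSpectrum A, Module.rankAtStalk M p = r)
    (Z : Set (PrimeSpectrum A)) (hZ : Z.Finite) :
    ∃ s : A, (∀ p ∈ Z, s ∉ p.asIdeal) ∧
      Nonempty (Module.Basis (Fin r) (Localization.Away s) (LocalizedModule (Submonoid.powers s) M)) := by
  classical
  set S := avoid Z with hS
  set A' := Localization S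
  set M' := LocalizedModule S M
  have hfp : Module.FinitePresentation A M := Module.finitePresentation_of_projective A M
  -- semilocal
  have hsemi : Finite (MaximalSpectrum A') := by
    have hZfin : Finite Z := hZ
    let φ : MaximalSpectrum A' → Z := fun P =>
      ⟨_, comap_mem_of_isMaximal Z hZ P.asIdeal P.isMaximal⟩
    refine Finite.of_injective φ ?_
    intro P Q hPQ
    have h1 := congrArg Subtype.val hPQ
    have h2 := PrimeSpectrum.localization_comap_injective A' S h1
    exact MaximalSpectrum.ext (congrArg PrimeSpectrum.asIdeal h2)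
  have hfin' : Module.Finite A' M' :=
    Module.Finite.of_isLocalizedModule S (Rₚ := A') (LocalizedModule.mkLinearMap S M)
  have hflat' : Module.Flat A' M' := inferInstance
  -- ranks
  have hrk : ∀ P : MaximalSpectrum A',
      Module.finrank (A' ⧸ P.1) ((A' ⧸ P.1) ⊗[A'] M') = r := by
    intro P
    let _ := Ideal.Quotient.field P.1
    have hPprime : P.1.IsPrime := P.isMaximal.isPrime
    have h1 : Module.rankAtStalk M' ⟨P.1, hPprime⟩ = r := by
      rw [Module.rankAtStalk_isBaseChange (IsLocalizedModule.isBaseChange S A'
        (LocalizedModule.mkLinearMap S M))]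
      exact hr _
    rw [Module.rankAtStalk_eq] at h1
    rw [← h1]
    let e : P.1.ResidueField ⊗[A' ⧸ P.1] ((A' ⧸ P.1) ⊗[A'] M') ≃ₗ[P.1.ResidueField]
        P.1.ResidueField ⊗[A'] M' :=
      AlgebraTensorModule.cancelBaseChange _ _ _ _ _
    show _ = Module.finrank P.1.ResidueField (P.1.ResidueField ⊗[A'] M')
    rw [← e.finrank_eq]
    exact (Module.finrank_baseChange (R := P.1.ResidueField) (S := A' ⧸ P.1)
      (M' := (A' ⧸ P.1) ⊗[A'] M')).symm
  obtain ⟨b⟩ := Module.nonempty_basis_of_flat_of_finrank_eq A' M' r hrk
  obtain ⟨s, hs, b', -⟩ := Module.FinitePresentation.exists_basis_localizedModule_powers S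
    (LocalizedModule.mkLinearMap S M) A' b
  exact ⟨s, hs, ⟨b'⟩⟩

end Groth.Agent.S10836
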