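import Groth.Statements.S10837
import Mathlib.AlgebraicGeometry.Morphisms.UniversallyOpen

set_option autoImplicit false
universe u
open CategoryTheory AlgebraicGeometry Topology
open Mor

namespace Groth.Agent.S10837

theorem generalizingMap_comap_of_isOpenMap {R S : Type*} [CommRing R] [CommRing S] (φ : R →+* S)
    (h : IsOpenMap (PrimeSpectrum.comap φ)) : GeneralizingMap (PrimeSpectrum.comap φ) := by
  intro Q p hp
  let M : Submonoid S := Q.asIdeal.primeCompl ⊔ (p.asIdeal.primeCompl.map φ)
  let I : Ideal S := p.asIdeal.map φ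
  have hdisj : Disjoint (I : Set S) M := by
    rw [Set.disjoint_left]
    intro x hxI hxM
    obtain ⟨g, hg, y, hy, rfl⟩ := Submonoid.mem_sup.mp hxM
    obtain ⟨r, hr, rfl⟩ := hy
    have hopen : IsOpen (PrimeSpectrum.comap φ '' (PrimeSpectrum.basicOpen g : Set (PrimeSpectrum S))) :=
      h _ (PrimeSpectrum.basicOpen g).isOpen
    have hmem : PrimeSpectrum.comap φ Q ∈
        PrimeSpectrum.comap φ '' (PrimeSpectrum.basicOpen g : Set (PrimeSpectrum S)) :=
      ⟨Q, hg, rfl⟩
    obtain ⟨P', hP'g, hP'⟩ := hp.mem_open hopen hmem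
    have hIP' : I ≤ P'.asIdeal := by
      have : p.asIdeal = P'.asIdeal.comap φ := by rw [← hP']; rfl
      simp only [I, this]
      exact Ideal.map_comap_le
    have hmul : g * φ r ∈ P'.asIdeal := hIP' hxI
    rcases P'.isPrime.mem_or_mem hmul with h1 | h1
    · exact hP'g h1
    · have : r ∈ (PrimeSpectrum.comap φ P').asIdeal := h1
      rw [hP'] at this
      exact hr this
  obtain ⟨P, hPprime, hIP, hPM⟩ := Ideal.exists_le_prime_disjoint I M hdisj
  refine ⟨⟨P, hPprime⟩, ?_, ?_⟩
  · show (⟨P, hPprime⟩ : PrimeSpectrum S) ⤳ Q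
    rw [← PrimeSpectrum.le_iff_specializes]
    intro x hx
    by_contra hxQ
    exact Set.disjoint_left.mp hPM hx (Submonoid.mem_sup_left hxQ)
  · ext r
    constructor
    · intro hr
      by_contra hrp
      exact Set.disjoint_left.mp hPM hr (Submonoid.mem_sup_right ⟨r, hrp, rfl⟩)
    · intro hr
      exact hIP (Ideal.mem_map_of_mem φ hr)

/-- For a morphism of schemes f : X → Y which is open as a map of topological spaces, generalizations
lift along f: every generalization of f(x) is the image of a generalization of x. -/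
theorem result {X Y : Scheme.{u}} (f : X ⟶ Y) (hf : IsOpenMap f.base) :
    GeneralizingMap f.base := by
  change topologically GeneralizingMap f
  replace hf : topologically IsOpenMap f := hf
  wlog hY : ∃ R, Y = Spec R
  · rw [IsZariskiLocalAtTarget.iff_of_openCover (P := topologically GeneralizingMap) Y.affineCover]
    intro i
    dsimp only [Scheme.Cover.pullbackHom]
    refine this _ ?_ ⟨_, rfl⟩
    exact IsZariskiLocalAtTarget.of_isPullback (P := topologically IsOpenMap)
      (iY := Y.affineCover.f i) (IsPullback.of_hasPullback ..) hf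
  obtain ⟨R, rfl⟩ := hY
  wlog hX : ∃ S, X = Spec S
  · rw [IsZariskiLocalAtSource.iff_of_openCover (P := topologically GeneralizingMap) X.affineCover]
    intro i
    refine this _ _ ?_ ⟨_, rfl⟩
    exact IsZariskiLocalAtSource.comp (P := topologically IsOpenMap) hf _
  obtain ⟨S, rfl⟩ := hX
  obtain ⟨φ, rfl⟩ := Spec.map_surjective f
  exact generalizingMap_comap_of_isOpenMap φ.hom hf

end Groth.Agent.S10837
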