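import Groth.Statements.S10838
import Mathlib.AlgebraicGeometry.AffineScheme
import Mathlib.AlgebraicGeometry.Properties
import Mathlib.Topology.Sober
import Mathlib.RingTheory.Spectrum.Prime.Topology
-- import your own Groth.Agent.* helpers here

set_option autoImplicit false
universe u
open CategoryTheory AlgebraicGeometry Topology
open Mor

namespace Groth.Agent.S10838

theorem generalizingMap_comap_of_isOpenMap {A B : Type u} [CommRing A] [CommRing B] (ψ : B →+* A)
    (h : IsOpenMap (PrimeSpectrum.comap ψ)) : GeneralizingMap (PrimeSpectrum.comap ψ) := by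
  intro p q' hq'
  -- for every `a ∉ p` there is a prime `P` not containing `a` lying over `q'`
  have key : ∀ a : A, a ∉ p.asIdeal → ∃ P : PrimeSpectrum A, a ∉ P.asIdeal ∧
      PrimeSpectrum.comap ψ P = q' := by
    intro a ha
    have hopen := h _ (PrimeSpectrum.basicOpen a).2
    have hmem : PrimeSpectrum.comap ψ p ∈ PrimeSpectrum.comap ψ '' (PrimeSpectrum.basicOpen a : Set _) :=
      ⟨p, ha, rfl⟩
    obtain ⟨P, hP, hPq⟩ := hq'.mem_open hopen hmem
    exact ⟨P, hP, hPq⟩
  let S : Submonoid A := p.asIdeal.primeCompl ⊔ (q'.asIdeal.primeCompl.map ψ)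
  let I : Ideal A := q'.asIdeal.map ψ
  have hdisj : Disjoint (I : Set A) S := by
    rw [Set.disjoint_left]
    intro x hxI hxS
    obtain ⟨s, hs, t', ht', rfl⟩ := Submonoid.mem_sup.mp hxS
    obtain ⟨t, ht, rfl⟩ := Submonoid.mem_map.mp ht'
    obtain ⟨P, hsP, hPq⟩ := key s hs
    have hIP : I ≤ P.asIdeal := by
      rw [Ideal.map_le_iff_le_comap]
      rw [← hPq]
      exact le_rfl
    have hmem : s * ψ t ∈ P.asIdeal := hIP hxI
    rcases P.2.mem_or_mem hmem with h1 | h1
    · exact hsP h1
    · apply ht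
      rw [← hPq]
      exact h1
  obtain ⟨p', hp'prime, hIp', hp'S⟩ := Ideal.exists_le_prime_disjoint I S hdisj
  refine ⟨⟨p', hp'prime⟩, ?_, ?_⟩
  · change (⟨p', hp'prime⟩ : PrimeSpectrum A) ⤳ p
    rw [← PrimeSpectrum.le_iff_specializes]
    intro x hx
    by_contra hxp
    exact Set.disjoint_left.mp hp'S hx (Submonoid.mem_sup_left (show x ∈ p.asIdeal.primeCompl from hxp))
  · apply PrimeSpectrum.ext
    apply le_antisymm
    · intro t ht
      by_contra htq
      exact Set.disjoint_left.mp hp'S ht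
        (Submonoid.mem_sup_right (Submonoid.mem_map.mpr ⟨t, htq, rfl⟩))
    · exact Ideal.le_comap_of_map_le hIp'

theorem generalizingMap_of_isOpenMap {X Y : Scheme.{u}} (f : X ⟶ Y) (hf : IsOpenMap f.base) :
    GeneralizingMap f.base := by
  intro x y' hy'
  obtain ⟨_, ⟨V, hV : IsAffineOpen V, rfl⟩, hfxV, -⟩ :=
    Y.isBasis_affineOpens.exists_subset_of_mem_open (Set.mem_univ (f.base x)) isOpen_univ
  have hy'V : y' ∈ V := hy'.mem_open V.2 hfxV
  obtain ⟨_, ⟨U, hU : IsAffineOpen U, rfl⟩, hxU, hUV⟩ :=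
    X.isBasis_affineOpens.exists_subset_of_mem_open (show x ∈ (f ⁻¹ᵁ V : Set X) from hfxV)
      (f ⁻¹ᵁ V).2
  have hfac : Spec.map (f.appLE V U hUV) ≫ hV.fromSpec = hU.fromSpec ≫ f :=
    IsAffineOpen.SpecMap_appLE_fromSpec f hV hU hUV
  have hfac' : ∀ w, hV.fromSpec.base (PrimeSpectrum.comap (f.appLE V U hUV).hom w) =
      f.base (hU.fromSpec.base w) := by
    intro w
    exact congrArg (fun g => g.base w) hfac
  -- `comap ψ` is an open map
  have hopen : IsOpenMap (PrimeSpectrum.comap (f.appLE V U hUV).hom) := by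
    intro W hW
    have : PrimeSpectrum.comap (f.appLE V U hUV).hom '' W =
        hV.fromSpec.base ⁻¹' (f.base '' (hU.fromSpec.base '' W)) := by
      ext z
      constructor
      · rintro ⟨w, hw, rfl⟩
        exact ⟨hU.fromSpec.base w, ⟨w, hw, rfl⟩, (hfac' w).symm⟩
      · rintro ⟨_, ⟨w, hw, rfl⟩, h⟩
        refine ⟨w, hw, ?_⟩
        apply hV.fromSpec.isOpenEmbedding.injective
        rw [hfac' w, h]
    rw [this]
    exact (hf _ (hU.fromSpec.isOpenEmbedding.isOpenMap _ hW)).preimage hV.fromSpec.continuous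
  have hgen := generalizingMap_comap_of_isOpenMap _ hopen
  obtain ⟨p, rfl⟩ : ∃ p, hU.fromSpec.base p = x := by
    have : x ∈ Set.range hU.fromSpec := by rw [hU.range_fromSpec]; exact hxU
    exact this
  obtain ⟨q', rfl⟩ : ∃ q', hV.fromSpec.base q' = y' := by
    have : y' ∈ Set.range hV.fromSpec := by rw [hV.range_fromSpec]; exact hy'V
    exact this
  rw [← hfac' p, hV.fromSpec.isOpenEmbedding.isInducing.specializes_iff] at hy'
  obtain ⟨p', hp'p, hp'q'⟩ := hgen hy'
  exact ⟨hU.fromSpec.base p', hp'p.map hU.fromSpec.continuous, by rw [← hfac' p', hp'q']⟩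

section
open TopologicalSpace

/-- The irreducible closed subset `closure {x}`. -/
def clPt {X : Type u} [TopologicalSpace X] (x : X) : IrreducibleCloseds X :=
  ⟨closure {x}, isIrreducible_singleton.closure, isClosed_closure⟩

theorem clPt_le_iff {X : Type u} [TopologicalSpace X] (x y : X) : clPt x ≤ clPt y ↔ y ⤳ x := by
  rw [specializes_iff_closure_subset]
  rfl

theorem coheight_le_of_generalizing {X W : Type u} [TopologicalSpace X] [TopologicalSpace W]
    (g : X → W) (hg : Continuous g) (hgen : GeneralizingMap g) [QuasiSober W] :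
    ∀ (n : ℕ) (x : X), Order.coheight (clPt x) ≤ n → Order.coheight (clPt (g x)) ≤ n := by
  intro n
  induction n with
  | zero =>
    intro x hx
    rw [Order.coheight_le_coe_iff] at hx ⊢
    intro b hb
    exfalso
    obtain ⟨ξ, hξ⟩ := QuasiSober.sober b.isIrreducible b.isClosed
    have hb' : clPt ξ = b := IrreducibleCloseds.ext hξ.def
    rw [← hb'] at hb
    obtain ⟨x₁, hx₁, rfl⟩ := hgen ((clPt_le_iff _ _).mp hb.le)
    have hlt : clPt x < clPt x₁ := by
      refine lt_of_le_not_ge ((clPt_le_iff _ _).mpr hx₁) fun hle => ?_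
      exact hb.not_ge ((clPt_le_iff _ _).mpr (((clPt_le_iff _ _).mp hle).map hg))
    exact not_lt_zero (hx _ hlt)
  | succ m ih =>
    intro x hx
    rw [Order.coheight_le_coe_iff] at hx ⊢
    intro b hb
    obtain ⟨ξ, hξ⟩ := QuasiSober.sober b.isIrreducible b.isClosed
    have hb' : clPt ξ = b := IrreducibleCloseds.ext hξ.def
    rw [← hb'] at hb ⊢
    obtain ⟨x₁, hx₁, rfl⟩ := hgen ((clPt_le_iff _ _).mp hb.le)
    have hlt : clPt x < clPt x₁ := by
      refine lt_of_le_not_ge ((clPt_le_iff _ _).mpr hx₁) fun hle => ?_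
      exact hb.not_ge ((clPt_le_iff _ _).mpr (((clPt_le_iff _ _).mp hle).map hg))
    have h1 : Order.coheight (clPt x₁) < ((m + 1 : ℕ) : ℕ∞) := hx _ hlt
    have h2 : Order.coheight (clPt x₁) ≤ (m : ℕ∞) := by
      rw [Nat.cast_add, Nat.cast_one] at h1
      exact Order.le_of_lt_add_one h1
    calc Order.coheight (clPt (g x₁)) ≤ (m : ℕ∞) := ih x₁ h2
      _ < ((m + 1 : ℕ) : ℕ∞) := by exact_mod_cast Nat.lt_succ_self m

theorem topologicalKrullDim_le_of_generalizing {X W : Type u} [TopologicalSpace X]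
    [TopologicalSpace W] (g : X → W) (hg : Continuous g) (hgen : GeneralizingMap g)
    (hsurj : Function.Surjective g) [QuasiSober W] :
    topologicalKrullDim W ≤ topologicalKrullDim X := by
  rw [topologicalKrullDim, Order.krullDim_eq_iSup_coheight]
  refine iSup_le fun b => ?_
  obtain ⟨ξ, hξ⟩ := QuasiSober.sober b.isIrreducible b.isClosed
  have hb' : clPt ξ = b := IrreducibleCloseds.ext hξ.def
  obtain ⟨x, rfl⟩ := hsurj ξ
  rw [← hb']
  have hX : ((Order.coheight (clPt x) : ℕ∞) : WithBot ℕ∞) ≤ topologicalKrullDim X := by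
    rw [topologicalKrullDim, Order.krullDim_eq_iSup_coheight]
    exact le_iSup (fun a : IrreducibleCloseds X => ((Order.coheight a : ℕ∞) : WithBot ℕ∞)) (clPt x)
  refine le_trans (WithBot.coe_le_coe.mpr ?_) hX
  rcases eq_or_ne (Order.coheight (clPt x)) ⊤ with htop | hne
  · rw [htop]; exact le_top
  · obtain ⟨n, hn⟩ := ENat.ne_top_iff_exists.mp hne
    rw [← hn]
    exact coheight_le_of_generalizing g hg hgen n x hn.symm.le

end

/-- For a morphism of schemes f : X → Y which is open as a map of topological spaces, the Krull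
dimension of the image f(X) (with the subspace topology from Y) is at most the Krull dimension of X. -/
theorem result {X Y : Scheme.{u}} (f : X ⟶ Y) (hf : IsOpenMap f.base) :
    topologicalKrullDim ↥(Set.range f.base) ≤ topologicalKrullDim ↥X := by
  have hopen : IsOpen (Set.range f.base) := hf.isOpen_range
  haveI : QuasiSober ↥(Set.range f.base) := hopen.isOpenEmbedding_subtypeVal.quasiSober
  have hgen := generalizingMap_of_isOpenMap f hf
  refine topologicalKrullDim_le_of_generalizing (Set.rangeFactorization f.base)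
    (f.continuous.subtype_mk _) ?_ Set.rangeFactorization_surjective
  intro x y' hy'
  rw [subtype_specializes_iff] at hy'
  obtain ⟨x', hx', hfx'⟩ := hgen hy'
  exact ⟨x', hx', Subtype.ext hfx'⟩

end Groth.Agent.S10838
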