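import Groth.Statements.S10839
import Mathlib

set_option autoImplicit false
universe u
open CategoryTheory AlgebraicGeometry Topology
open Variety

namespace Groth.Agent.S10839

/-- A closed immersion i : Y → X into an integral scheme X with dim X = dim Y < ∞ is an isomorphism. -/
theorem result {X Y : Scheme.{u}} (i : Y ⟶ X)
    [IsClosedImmersion i] [IsIntegral X] (hfin : topologicalKrullDim ↥X ≠ ⊤)
    (hdim : topologicalKrullDim ↥X = topologicalKrullDim ↥Y) : IsIso i := by
  have hsurj : Function.Surjective i.base := by
    by_contra hns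
    have hrange : Set.range i.base ≠ Set.univ := fun h => hns (Set.range_eq_univ.mp h)
    have hcl : IsClosed (Set.range i.base) := i.isClosedEmbedding.isClosed_range
    let T : TopologicalSpace.IrreducibleCloseds X :=
      ⟨Set.univ, IrreducibleSpace.isIrreducible_univ X, isClosed_univ⟩
    have step : ∀ n : ℕ, (n : WithBot ℕ∞) ≤ topologicalKrullDim Y →
        ((n + 1 : ℕ) : WithBot ℕ∞) ≤ topologicalKrullDim X := by
      intro n hn
      obtain ⟨l, hl⟩ := Order.le_krullDim_iff.mp hn
      have hmono := TopologicalSpace.IrreducibleCloseds.map_strictMono_of_isInducing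
        i.isClosedEmbedding.isInducing
      let l' := l.map _ hmono
      have hlast : l'.last < T := by
        rw [lt_iff_le_and_ne]
        refine ⟨fun x _ => Set.mem_univ x, fun h => hrange ?_⟩
        have h1 : (l'.last : Set X) = Set.univ :=
          congrArg (fun t : TopologicalSpace.IrreducibleCloseds X => (t : Set X)) h
        have h2 : (l'.last : Set X) ⊆ Set.range i.base := by
          rw [LTSeries.last_map]
          exact closure_minimal (Set.image_subset_range _ _) hcl
        exact Set.eq_univ_of_univ_subset (h1 ▸ h2)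
      refine Order.le_krullDim_iff.mpr ⟨l'.snoc T hlast, by simp [l', hl]⟩
    have hXne : topologicalKrullDim X ≠ ⊥ := by
      rw [topologicalKrullDim, Ne, Order.krullDim_eq_bot_iff, not_isEmpty_iff]; exact ⟨T⟩
    obtain ⟨a, ha⟩ := WithBot.ne_bot_iff_exists.mp hXne
    have ha' : a ≠ ⊤ := by
      rintro rfl
      exact hfin ha.symm
    obtain ⟨d, rfl⟩ := ENat.ne_top_iff_exists.mp ha'
    have := step d (by rw [← hdim, ← ha]; rfl)
    rw [← ha] at this
    have h3 : ((d + 1 : ℕ) : ℕ∞) ≤ (d : ℕ∞) := by exact_mod_cast this
    have h4 : d + 1 ≤ d := by exact_mod_cast h3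
    omega
  have : Surjective i := ⟨hsurj⟩
  exact isIso_of_isClosedImmersion_of_surjective i

end Groth.Agent.S10839
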