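import Groth.Statements.S1084
import Mathlib
import Groth.Agent.Lib.Helper25.FilDBiprod
import Groth.Agent.S1083

set_option autoImplicit false
universe v u
open CategoryTheory CategoryTheory.Limits Opposite
open FilD

namespace Groth.Agent.S1084

open Groth.Agent.Lib.helper25.FilDBiprod Pretriangulated

/-- Morphisms in the homotopy category from a filtered acyclic complex to a bounded below complex
of filtered injectives vanish. -/
lemma hom_eq_zero {A : Type u} [Category.{v} A] [Abelian A]
    (M J : CochainComplex (FilD.FilF A) ℤ) (hM : FilD.IsFilteredAcyclic M) (a : ℤ)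
    [J.IsStrictlyGE a] (hJ : ∀ n, FilD.IsFilteredInjective (J.X n))
    (f : (HomotopyCategory.quotient (FilD.FilF A) (ComplexShape.up ℤ)).obj M ⟶
      (HomotopyCategory.quotient (FilD.FilF A) (ComplexShape.up ℤ)).obj J) : f = 0 := by
  obtain ⟨f, rfl⟩ := (HomotopyCategory.quotient (FilD.FilF A) (ComplexShape.up ℤ)).map_surjective f
  obtain ⟨h⟩ := Groth.Agent.S1083.result M J hM a hJ f
  rw [HomotopyCategory.eq_of_homotopy f 0 h, Functor.map_zero]

lemma hom_shift_eq_zero {A : Type u} [Category.{v} A] [Abelian A]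
    (M J : CochainComplex (FilD.FilF A) ℤ) (hM : FilD.IsFilteredAcyclic M) (a : ℤ)
    [J.IsStrictlyGE a] (hJ : ∀ n, FilD.IsFilteredInjective (J.X n))
    (f : ((HomotopyCategory.quotient (FilD.FilF A) (ComplexShape.up ℤ)).obj M)⟦(-1 : ℤ)⟧ ⟶
      (HomotopyCategory.quotient (FilD.FilF A) (ComplexShape.up ℤ)).obj J) : f = 0 := by
  apply (shiftFunctor (HomotopyCategory (FilD.FilF A) (ComplexShape.up ℤ)) (1 : ℤ)).map_injective
  rw [Functor.map_zero]
  let e₁ := ((shiftFunctorCompIsoId (HomotopyCategory (FilD.FilF A) (ComplexShape.up ℤ))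
    (-1 : ℤ) 1 (by simp)).app
      ((HomotopyCategory.quotient (FilD.FilF A) (ComplexShape.up ℤ)).obj M)).symm
  let e₂ := (((HomotopyCategory.quotient (FilD.FilF A) (ComplexShape.up ℤ)).commShiftIso
    (1 : ℤ)).app J).symm
  have : (J⟦(1 : ℤ)⟧).IsStrictlyGE (a - 1) := J.isStrictlyGE_shift a 1 (a - 1) (by lia)
  have h := hom_eq_zero M (J⟦(1 : ℤ)⟧) hM (a - 1) (fun n => hJ _)
    (e₁.hom ≫ f⟦(1 : ℤ)⟧' ≫ e₂.hom)
  rw [← cancel_epi e₁.hom, ← cancel_mono e₂.hom, Category.assoc, h, comp_zero, zero_comp]

/-- The cone of a filtered quasi-isomorphism is filtered acyclic. -/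
lemma cone_acyclic {A : Type u} [Category.{v} A] [Abelian A]
    {K L : CochainComplex (FilD.FilF A) ℤ} (α : K ⟶ L) (hα : FilD.IsFilteredQuasiIso α) :
    FilD.IsFilteredAcyclic (CochainComplex.mappingCone α) := by
  intro p
  have hT := HomotopyCategory.mappingCone_triangleh_distinguished α
  have hT' := ((FilD.grF A p).mapHomotopyCategory (ComplexShape.up ℤ)).map_distinguished _ hT
  have h1 : (HomotopyCategory.subcategoryAcyclic A).trW
      (((FilD.grF A p).mapHomotopyCategory (ComplexShape.up ℤ)).mapTriangle.obj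
        (CochainComplex.mappingCone.triangleh α)).mor₁ := by
    rw [← HomotopyCategory.quasiIso_eq_trW_subcategoryAcyclic]
    exact (HomotopyCategory.quotient_map_mem_quasiIso_iff _).2 (hα p)
  have h2 := ((HomotopyCategory.subcategoryAcyclic A).trW_iff_of_distinguished _ hT').1 h1
  exact (HomotopyCategory.quotient_obj_mem_subcategoryAcyclic_iff_exactAt _).1 h2

/-- Let A be an abelian category, I a bounded below complex of filtered injective objects, and α : K ⟶ L
a filtered quasi-isomorphism of complexes of finite filtered objects. Then precomposition with α is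
a bijection from homotopy classes of maps L ⟶ I to homotopy classes of maps K ⟶ I. -/
theorem result {A : Type u} [Category.{v} A] [Abelian A] (I : CochainComplex (FilD.FilF A) ℤ)
    (a : ℤ) [I.IsStrictlyGE a] (hI : ∀ n, FilD.IsFilteredInjective (I.X n))
    {K L : CochainComplex (FilD.FilF A) ℤ} (α : K ⟶ L) (hα : FilD.IsFilteredQuasiIso α) :
    Function.Bijective (fun β : (HomotopyCategory.quotient (FilD.FilF A) (ComplexShape.up ℤ)).obj L ⟶
        (HomotopyCategory.quotient (FilD.FilF A) (ComplexShape.up ℤ)).obj I =>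
      (HomotopyCategory.quotient (FilD.FilF A) (ComplexShape.up ℤ)).map α ≫ β) := by
  have hT := HomotopyCategory.mappingCone_triangleh_distinguished α
  have hC := cone_acyclic α hα
  constructor
  · intro β₁ β₂ h
    have h0 : (HomotopyCategory.quotient (FilD.FilF A) (ComplexShape.up ℤ)).map α ≫
        (β₁ - β₂) = 0 := by
      rw [Preadditive.comp_sub, sub_eq_zero]
      exact h
    obtain ⟨g, hg⟩ := Pretriangulated.Triangle.yoneda_exact₂ _ hT (β₁ - β₂) h0
    have hg0 : g = 0 := hom_eq_zero _ I hC a hI g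
    rw [hg0, comp_zero] at hg
    exact sub_eq_zero.1 hg
  · intro β
    have hT' := inv_rot_of_distTriang _ hT
    have h0 : (CochainComplex.mappingCone.triangleh α).invRotate.mor₁ ≫ β = 0 :=
      hom_shift_eq_zero _ I hC a hI _
    obtain ⟨g, hg⟩ := Pretriangulated.Triangle.yoneda_exact₂ _ hT' β h0
    exact ⟨g, hg.symm⟩

end Groth.Agent.S1084
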