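import Groth.Statements.S10840
import Groth.Agent.Lib.Helper26.ProjDim6

set_option autoImplicit false
universe u
open AlgebraicGeometry Topology
open Variety
open Groth.Agent.Lib.helper26.ProjDim

namespace Groth.Agent.S10840

/-- For a field k and nonzero homogeneous polynomials f, g of positive degrees in three variables, the
common zero set V_+(f, g) in the projective plane over k is zero-dimensional as a topological
subspace exactly when f and g are coprime, i.e. their only common divisors are the non-zero
constants. -/
theorem result (k : Type u) [Field k] (n m : ℕ)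
    (f g : MvPolynomial (Fin 3) k) (hf : f.IsHomogeneous n) (hg : g.IsHomogeneous m)
    (hn : 0 < n) (hm : 0 < m) (hf0 : f ≠ 0) (hg0 : g ≠ 0) :
    topologicalKrullDim ↥(ProjectiveSpectrum.zeroLocus (CohB1.polyGrading 2 k)
        ({f, g} : Set (MvPolynomial (Fin 3) k))) = 0 ↔ IsRelPrime f g := by
  classical
  have hmemV : ∀ y : ProjectiveSpectrum (CohB1.polyGrading 2 k),
      y ∈ ProjectiveSpectrum.zeroLocus (CohB1.polyGrading 2 k)
        ({f, g} : Set (MvPolynomial (Fin 3) k)) ↔ f ∈ idl y ∧ g ∈ idl y := by
    intro y
    rw [ProjectiveSpectrum.mem_zeroLocus, Set.insert_subset_iff, Set.singleton_subset_iff]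
    rfl
  have hfh : SetLike.IsHomogeneousElem (CohB1.polyGrading 2 k) f :=
    ⟨n, (MvPolynomial.mem_homogeneousSubmodule _ _).2 hf⟩
  have hgh : SetLike.IsHomogeneousElem (CohB1.polyGrading 2 k) g :=
    ⟨m, (MvPolynomial.mem_homogeneousSubmodule _ _).2 hg⟩
  rw [topologicalKrullDim_subtype_eq_zero_iff le_iff_specializes' _
    (ProjectiveSpectrum.isClosed_zeroLocus _ _)]
  constructor
  · rintro ⟨hne, hmax⟩ h hhf hhg
    by_contra hunit
    have hh0 : h ≠ 0 := fun h0 => hf0 (by rw [h0] at hhf; exact zero_dvd_iff.1 hhf)
    obtain ⟨π, hπirr, hπh⟩ := WfDvdMonoid.exists_irreducible_factor hunit hh0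
    have hπ : Prime π := UniqueFactorizationMonoid.irreducible_iff_prime.1 hπirr
    set P : Ideal (MvPolynomial (Fin (2 + 1)) k) := Ideal.span {π} with hP
    haveI hPp : P.IsPrime := (Ideal.span_singleton_prime hπ.ne_zero).2 hπ
    have hfP : f ∈ P := Ideal.mem_span_singleton.2 (hπh.trans hhf)
    have hgP : g ∈ P := Ideal.mem_span_singleton.2 (hπh.trans hhg)
    have hPht : P.height ≤ 1 := Ideal.height_span_singleton_le_one hπ.not_isUnit
    have hI : (Ideal.span ({f, g} : Set (MvPolynomial (Fin (2 + 1)) k))).IsHomogeneous
        (CohB1.polyGrading 2 k) := Ideal.homogeneous_span _ _ (by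
      rintro x (rfl | hx)
      · exact hfh
      · rw [Set.mem_singleton_iff] at hx
        rw [hx]
        exact hgh)
    have hIP : Ideal.span ({f, g} : Set (MvPolynomial (Fin (2 + 1)) k)) ≤ P := Ideal.span_le.2 (by
      rintro x (rfl | hx)
      · exact hfP
      · rw [Set.mem_singleton_iff] at hx
        rw [hx]
        exact hgP)
    obtain ⟨q, hq, hqP⟩ := Ideal.exists_minimalPrimes_le hIP
    haveI := hq.1.1
    have hq0 : (⊥ : Ideal (MvPolynomial (Fin (2 + 1)) k)) < q := by
      rw [bot_lt_iff_ne_bot]
      intro h0
      have h1 : f ∈ q := hq.1.2 (Ideal.subset_span (Set.mem_insert f {g}))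
      rw [h0] at h1
      exact hf0 h1
    have hqP' : q = P := by
      by_contra hne'
      have hlt : q < P := lt_of_le_of_ne hqP hne'
      have h1 := Ideal.height_add_one_le_of_lt_of_isPrime hq0
      have h2 := Ideal.height_add_one_le_of_lt_of_isPrime hlt
      have h3 : (1 : ℕ∞) + 1 ≤ 1 := by
        calc (1 : ℕ∞) + 1 ≤ q.height + 1 := by
              gcongr
              exact le_trans (by simp) h1
          _ ≤ P.height := h2
          _ ≤ 1 := hPht
      exact absurd h3 (by decide)
    have hPh : P.IsHomogeneous (CohB1.polyGrading 2 k) :=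
      hqP' ▸ Groth.Agent.Lib.helper12.HypCover.isHomogeneous_of_mem_minimalPrimes _ hI hq
    have hPne : P ≠ mm k 2 := by
      intro h
      rw [h, height_mm] at hPht
      exact absurd hPht (by decide)
    have hyV := (hmemV (mkPt P hPh hPp hPne)).2 ⟨hfP, hgP⟩
    have hymax := hmax _ hyV
    have hco := Order.coheight_eq_zero.2 hymax
    rw [coheight_eq] at hco
    have hy1 : htN (mkPt P hPh hPp hPne) ≤ 1 := by
      have := htN_mkPt P hPh hPp hPne
      rw [← this] at hPht
      exact_mod_cast hPht
    have : 2 - htN (mkPt P hPh hPp hPne) = 0 := by exact_mod_cast hco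
    omega
  · intro hrel
    constructor
    · obtain ⟨y, _, hy⟩ := exists_point_ge (botPt : ProjectiveSpectrum (CohB1.polyGrading 2 k)) 2
        ![f, g] (by
          intro i
          fin_cases i
          · exact hfh
          · exact hgh) (by
          intro i
          fin_cases i
          · exact mem_mm_of_isHomogeneous hf hn
          · exact mem_mm_of_isHomogeneous hg hm) (by rw [htN_botPt])
      exact ⟨y, (hmemV y).2 ⟨hy 0, hy 1⟩⟩
    · intro y hy
      rw [hmemV] at hy
      rw [← Order.coheight_eq_zero, coheight_eq]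
      have h2 : 2 ≤ htN y := by
        by_contra hlt
        push Not at hlt
        have hne : idl y ≠ ⊥ := fun h0 => hf0 (by
          have := hy.1
          rw [h0] at this
          exact this)
        obtain ⟨π, hπ, hPπ⟩ := exists_prime_span_eq (idl y) hne (by
          rw [← htN_cast]
          exact_mod_cast (by omega : htN y ≤ 1))
        have hπf : π ∣ f := Ideal.mem_span_singleton.1 (hPπ ▸ hy.1)
        have hπg : π ∣ g := Ideal.mem_span_singleton.1 (hPπ ▸ hy.2)
        exact hπ.not_isUnit (hrel hπf hπg)
      have h3 := htN_le y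
      have h4 : 2 - htN y = 0 := by omega
      exact_mod_cast h4

end Groth.Agent.S10840
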