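import Groth.Statements.S10841
import Mathlib
import Groth.Agent.Lib.Helper3.FTFieldDim
import Groth.Agent.S1619

set_option autoImplicit false
universe u
open CategoryTheory AlgebraicGeometry Topology
open Variety

namespace Groth.Agent.S10841
open Groth.Agent.Lib.helper3.FTField Groth.Agent.Lib.helper3.DimIneq AlgebraicGeometry CategoryTheory

/-- Let k be a field, X an irreducible scheme of finite type over k, and f : Y → X a morphism over k
from a scheme Y of finite type over k whose image contains the generic point of X. Then dim Y ≥ dim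
X. -/
theorem result (k : Type u) [Field k] {X Y : Scheme.{u}}
    (p : X ⟶ Spec (CommRingCat.of k)) (q : Y ⟶ Spec (CommRingCat.of k))
    [LocallyOfFiniteType p] [QuasiCompact p] [LocallyOfFiniteType q] [QuasiCompact q]
    [IrreducibleSpace ↥X] (f : Y ⟶ X) (hf : f ≫ p = q)
    (hη : genericPoint ↥X ∈ Set.range f.base) :
    topologicalKrullDim ↥X ≤ topologicalKrullDim ↥Y := by
  letI iX : X.Over (Spec (CommRingCat.of k)) := ⟨p⟩
  letI iY : Y.Over (Spec (CommRingCat.of k)) := ⟨q⟩
  haveI : LocallyOfFiniteType (X ↘ Spec (CommRingCat.of k)) := ‹LocallyOfFiniteType p›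
  haveI : LocallyOfFiniteType (Y ↘ Spec (CommRingCat.of k)) := ‹LocallyOfFiniteType q›
  obtain ⟨y, hy⟩ := hη
  obtain ⟨n, hn⟩ := exists_nat_trdeg_residueField k X (genericPoint X)
  have hX : topologicalKrullDim X = n := Groth.Agent.S1619.result k X n hn
  obtain ⟨a, ha⟩ := exists_nat_trdeg_residueField k Y y
  have hle := trdeg_residueField_le_of_hom k p q f hf y
  rw [← hy] at hn
  rw [hn, ha] at hle
  have hna : n ≤ a := by exact_mod_cast hle
  rw [hX]
  refine le_trans ?_ (trdeg_residueField_le_dim k Y y a ha)
  exact_mod_cast hna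

end Groth.Agent.S10841
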