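import Groth.Statements.S10842
import Mathlib

set_option autoImplicit false
universe u
open CategoryTheory AlgebraicGeometry
open Variety

namespace Groth.Agent.S10842

/-- A quasi-compact scheme whose local rings at all closed points are integrally closed domains is
normal, i.e. all of its local rings are integrally closed domains. -/
theorem result (X : Scheme.{u}) [CompactSpace ↥X]
    (h : ∀ x : X, IsClosed ({x} : Set X) →
      IsDomain (X.presheaf.stalk x) ∧ IsIntegrallyClosed (X.presheaf.stalk x)) :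
    Pi1.IsNormalScheme X := by
  intro x
  obtain ⟨y, hy, hycl⟩ := (isClosed_closure (s := ({x} : Set X))).exists_closed_singleton
    ⟨x, subset_closure rfl⟩
  have hxy : x ⤳ y := specializes_iff_mem_closure.mpr hy
  obtain ⟨hdom, hic⟩ := h y hycl
  obtain ⟨U, hU, hyU⟩ : ∃ U : X.Opens, IsAffineOpen U ∧ y ∈ U := by
    obtain ⟨_, ⟨U, hU, rfl⟩, hyU, -⟩ :=
      X.isBasis_affineOpens.exists_subset_of_mem_open (Set.mem_univ y) isOpen_univ
    exact ⟨U, hU, hyU⟩
  have hxU : x ∈ U := hxy.mem_open U.isOpen hyU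
  let _ : Algebra Γ(X, U) (X.presheaf.stalk y) := X.presheaf.algebra_section_stalk ⟨y, hyU⟩
  let _ : Algebra Γ(X, U) (X.presheaf.stalk x) := X.presheaf.algebra_section_stalk ⟨x, hxU⟩
  have locy : IsLocalization.AtPrime (X.presheaf.stalk y) (hU.primeIdealOf ⟨y, hyU⟩).asIdeal :=
    hU.isLocalization_stalk ⟨y, hyU⟩
  have locx : IsLocalization.AtPrime (X.presheaf.stalk x) (hU.primeIdealOf ⟨x, hxU⟩).asIdeal :=
    hU.isLocalization_stalk ⟨x, hxU⟩
  let _ : Algebra (X.presheaf.stalk y) (X.presheaf.stalk x) :=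
    (X.presheaf.stalkSpecializes hxy).hom.toAlgebra
  have : IsScalarTower Γ(X, U) (X.presheaf.stalk y) (X.presheaf.stalk x) :=
    IsScalarTower.of_algebraMap_eq' (by
      have := TopCat.Presheaf.germ_stalkSpecializes X.presheaf hyU hxy
      exact congrArg CommRingCat.Hom.hom this.symm)
  have hle : (hU.primeIdealOf ⟨y, hyU⟩).asIdeal.primeCompl ≤
      (hU.primeIdealOf ⟨x, hxU⟩).asIdeal.primeCompl := by
    have hsp : (⟨x, hxU⟩ : U) ⤳ ⟨y, hyU⟩ := (subtype_specializes_iff _ _).mpr hxy
    have hsp' : hU.primeIdealOf ⟨x, hxU⟩ ⤳ hU.primeIdealOf ⟨y, hyU⟩ :=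
      hsp.map hU.isoSpec.hom.continuous
    have hle' := (PrimeSpectrum.le_iff_specializes _ _).mpr hsp'
    intro s hs hs'
    exact hs (hle' hs')
  have loc := IsLocalization.isLocalization_of_submonoid_le (X.presheaf.stalk y)
    (X.presheaf.stalk x) _ _ hle
  have hM : Submonoid.map (algebraMap Γ(X, U) (X.presheaf.stalk y))
      (hU.primeIdealOf ⟨x, hxU⟩).asIdeal.primeCompl ≤ nonZeroDivisors (X.presheaf.stalk y) := by
    rintro _ ⟨s, hs, rfl⟩
    apply mem_nonZeroDivisors_of_ne_zero
    intro h0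
    have h1 : algebraMap Γ(X, U) (X.presheaf.stalk x) s = 0 := by
      rw [IsScalarTower.algebraMap_apply Γ(X, U) (X.presheaf.stalk y) (X.presheaf.stalk x), h0,
        map_zero]
    have hu : IsUnit (algebraMap Γ(X, U) (X.presheaf.stalk x) s) :=
      IsLocalization.map_units (X.presheaf.stalk x)
        (⟨s, hs⟩ : (hU.primeIdealOf ⟨x, hxU⟩).asIdeal.primeCompl)
    rw [h1] at hu
    exact not_isUnit_zero hu
  exact ⟨IsLocalization.isDomain_of_le_nonZeroDivisors (X.presheaf.stalk x) hM,
    isIntegrallyClosed_of_isLocalization (X.presheaf.stalk x) _ hM⟩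

end Groth.Agent.S10842
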