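import Groth.Statements.S10844
import Mathlib
import Groth.Agent.Lib.Helper7.FittPullback
import Groth.Agent.Lib.Helper7.RestrictSupport
import Groth.Agent.Lib.Helper7.CohKer

set_option autoImplicit false
universe u
open RepF

namespace Groth.Agent.S10844

section helpers
open CategoryTheory CategoryTheory.Limits AlgebraicGeometry TopologicalSpace Opposite
open Groth.Agent.Lib.helper7.FittSheaf Groth.Agent.Lib.helper7.RestrictSupport
  Groth.Agent.Lib.helper7.CohKer

theorem isZero_iff_support {X : Scheme.{u}} (K : X.Modules) :
    IsZero K ↔ CohB1.support K = ∅ := by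
  rw [isZero_iff_subsingleton_sections]
  have := subsingleton_sections_iff_support K ⊤
  simp only [le_top, forall_true_left, Opens.coe_top, Set.compl_univ,
    Set.subset_empty_iff] at this
  exact this

theorem comap_eq_top_iff {X T : Scheme.{u}} (J : X.IdealSheafData) (f : T ⟶ X) :
    J.comap f = ⊤ ↔ Set.range f.base ⊆ (J.support : Set X)ᶜ := by
  rw [← Scheme.IdealSheafData.support_eq_bot_iff, Scheme.IdealSheafData.support_comap]
  constructor
  · intro h
    rintro _ ⟨x, rfl⟩ hx
    have : x ∈ ((J.support.preimage f.continuous : Closeds T) : Set T) := hx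
    rw [h] at this
    exact this
  · intro h
    ext x
    simp only [Closeds.coe_preimage, Set.mem_preimage, SetLike.mem_coe, Closeds.coe_bot,
      Set.mem_empty_iff_false, iff_false]
    intro hx
    exact h ⟨x, rfl⟩ hx

theorem result' {S : Scheme.{u}} {E F : S.Modules}
    [E.IsQuasicoherent] [F.IsQuasicoherent]
    (hF : SheafOfModules.IsFiniteType (R := S.ringCatSheaf) F) (v : E ⟶ F) :
    ∃ U : S.Opens, ∀ (T : Scheme.{u}) (f : T ⟶ S),
      Set.range f.base ⊆ (U : Set S) ↔ Epi ((Scheme.Modules.pullback f).map v) := by
  obtain ⟨C, hCdef⟩ : ∃ C : S.Modules, C = cokernel v := ⟨_, rfl⟩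
  haveI : C.IsQuasicoherent := hCdef ▸ isQuasicoherent_cokernel v
  have hC : CohB1.IsFT C := hCdef ▸ isFiniteType_of_epi (cokernel.π v) hF
  let J := Fitt.sheafIdeal C 0
  refine ⟨⟨(J.support : Set S)ᶜ, J.support.isClosed.isOpen_compl⟩, fun T f => ?_⟩
  haveI : ((Scheme.Modules.pullback f).obj C).IsQuasicoherent :=
    Groth.Agent.Lib.helper16.QCohPullback.isQuasicoherent_pullback f _
  have hft' := isFiniteType_pullback f C hC
  rw [Preadditive.epi_iff_isZero_cokernel,
    ← (PreservesCokernel.iso (Scheme.Modules.pullback f) v).isZero_iff, ← hCdef,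
    isZero_iff_support]
  change Set.range f.base ⊆ (J.support : Set S)ᶜ ↔ _
  rw [← comap_eq_top_iff, sheafIdeal_comap f _ hC, ← Scheme.IdealSheafData.support_eq_bot_iff]
  constructor
  · intro h
    ext x
    simp only [Set.mem_empty_iff_false, iff_false]
    intro hx
    have : x ∈ (Fitt.sheafIdeal ((Scheme.Modules.pullback f).obj C) 0).support :=
      (mem_support_zero_iff _ hft' x).2 hx
    rw [h] at this
    exact this
  · intro h
    ext x
    simp only [SetLike.mem_coe, Closeds.coe_bot, Set.mem_empty_iff_false, iff_false]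
    intro hx
    have h1 := (mem_support_zero_iff _ hft' x).1 hx
    have : x ∈ CohB1.support ((Scheme.Modules.pullback f).obj C) := h1
    rw [h] at this
    exact this


end helpers


open AlgebraicGeometry CategoryTheory in
/-- For a scheme S and a homomorphism v : E → F of quasi-coherent O_S-modules with F of finite type,
there is an open subscheme U of S such that a morphism of schemes f : T → S factors through U (its
image lies in U) if and only if the pulled-back homomorphism f^*v : f^*E → f^*F is an epimorphism. -/
theorem result {S : Scheme.{u}} {E F : S.Modules}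
    [Coh.IsQCoh E] [Coh.IsQCoh F] (hF : CohB1.IsFT F) (v : E ⟶ F) :
    ∃ U : S.Opens, ∀ (T : Scheme.{u}) (f : T ⟶ S),
      Set.range f.base ⊆ (U : Set S) ↔ Epi ((Scheme.Modules.pullback f).map v) := by
  exact Groth.Agent.S10844.result' hF v

end Groth.Agent.S10844
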