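import Groth.Statements.S10847
import Mathlib
import Groth.Agent.Lib.Helper7.FittPullback
import Groth.Agent.Lib.Helper7.FittSheaf2

set_option autoImplicit false
universe u
open FlatMod

namespace Groth.Agent.S10847

section helpers
open CategoryTheory CategoryTheory.Limits AlgebraicGeometry TopologicalSpace Opposite
open Groth.Agent.Lib.helper7.FittSheaf

theorem fitt_ideal_mono (R : Type u) [CommRing R] (M : Type u) [AddCommGroup M] [Module R M]
    {r s : ℕ} (h : r ≤ s) : Fitt.ideal R M r ≤ Fitt.ideal R M s := by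
  apply Ideal.span_mono
  rintro d ⟨n, x, a, hx, hrel, rfl⟩
  exact ⟨n, x, a, hx, fun i hi => hrel i (lt_of_lt_of_le hi (Nat.sub_le_sub_left h n)), rfl⟩

theorem sheafIdeal_mono {X : Scheme.{u}} (F : X.Modules) {r s : ℕ} (h : r ≤ s) :
    Fitt.sheafIdeal F r ≤ Fitt.sheafIdeal F s :=
  Scheme.IdealSheafData.ofIdeals_mono fun U => fitt_ideal_mono _ _ h

/-- factorization through a closed subscheme -/
theorem factors_closed {X T : Scheme.{u}} (J : X.IdealSheafData) (f : T ⟶ X) :
    (∃ g : T ⟶ J.subscheme, g ≫ J.subschemeι = f) ↔ J.comap f = ⊥ := by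
  have key : J.comap f = ⊥ ↔ J ≤ f.ker := by
    rw [← Scheme.IdealSheafData.map_bot, Scheme.IdealSheafData.le_map_iff_comap_le, le_bot_iff]
  rw [key]
  constructor
  · rintro ⟨g, rfl⟩
    have := g.le_ker_comp J.subschemeι
    rwa [Scheme.IdealSheafData.ker_subschemeι] at this
  · intro h
    refine ⟨IsClosedImmersion.lift J.subschemeι f ?_, IsClosedImmersion.lift_fac _ _ _⟩
    rwa [Scheme.IdealSheafData.ker_subschemeι]

/-- factorization through the open complement of the support -/
theorem factors_open {X T : Scheme.{u}} (J : X.IdealSheafData) (U : X.Opens)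
    (hU : (U : Set X) = (J.support : Set X)ᶜ) (f : T ⟶ X) :
    (∃ g : T ⟶ U, g ≫ U.ι = f) ↔ J.comap f = ⊤ := by
  rw [← Scheme.IdealSheafData.support_eq_bot_iff, Scheme.IdealSheafData.support_comap]
  constructor
  · rintro ⟨g, rfl⟩
    ext x
    simp only [Closeds.coe_preimage, Set.mem_preimage, SetLike.mem_coe, Closeds.coe_bot,
      Set.mem_empty_iff_false, iff_false]
    intro hx
    have h1 : (g ≫ U.ι) x ∈ (U : Set X) := by
      rw [Scheme.Hom.comp_apply]
      exact (g x).2
    rw [hU] at h1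
    exact h1 hx
  · intro h
    refine ⟨IsOpenImmersion.lift U.ι f ?_, IsOpenImmersion.lift_fac _ _ _⟩
    rintro _ ⟨x, rfl⟩
    rw [Scheme.Opens.range_ι, hU]
    intro hx
    have : x ∈ ((J.support.preimage f.continuous : Closeds T) : Set T) := hx
    rw [h] at this
    exact this

theorem comap_iSup_eq_bot_iff {X T : Scheme.{u}} {ι : Type*} (J : ι → X.IdealSheafData)
    (f : T ⟶ X) : (⨆ k, J k).comap f = ⊥ ↔ ∀ k, (J k).comap f = ⊥ := by
  rw [(Scheme.IdealSheafData.map_gc f).l_iSup, iSup_eq_bot]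

theorem result' {X : Scheme.{u}} (F : X.Modules) [F.IsQuasicoherent]
    (hF : SheafOfModules.IsFiniteType (R := X.ringCatSheaf) F) (r : ℕ) :
    ∃ (Z : Scheme.{u}) (i : Z ⟶ X), IsImmersion i ∧ ∀ (T : Scheme.{u}) (f : T ⟶ X),
      (∃ g : T ⟶ Z, g ≫ i = f) ↔
        FlatMod.IsFinLocFreeOfRank r ((Scheme.Modules.pullback f).obj F) := by
  let Jr := Fitt.sheafIdeal F r
  let U : X.Opens := ⟨(Jr.support : Set X)ᶜ, Jr.support.isClosed.isOpen_compl⟩
  let K : (U : Scheme.{u}).IdealSheafData := ⨆ k : Fin r, (Fitt.sheafIdeal F k).comap U.ι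
  refine ⟨K.subscheme, K.subschemeι ≫ U.ι, inferInstance, fun T f => ?_⟩
  haveI : ((Scheme.Modules.pullback f).obj F).IsQuasicoherent :=
    Groth.Agent.Lib.helper16.QCohPullback.isQuasicoherent_pullback f F
  have hft' := isFiniteType_pullback f F hF
  rw [isFinLocFreeOfRank_iff_fitt _ hft' r]
  simp only [← sheafIdeal_comap f F hF]
  constructor
  · rintro ⟨g, rfl⟩
    have h1 : Jr.comap ((g ≫ K.subschemeι) ≫ U.ι) = ⊤ :=
      (factors_open Jr U rfl _).1 ⟨g ≫ K.subschemeι, rfl⟩
    have h2 : K.comap (g ≫ K.subschemeι) = ⊥ := (factors_closed K _).1 ⟨g, rfl⟩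
    rw [comap_iSup_eq_bot_iff] at h2
    refine ⟨fun k hk => ?_, fun k hk => ?_⟩
    · have := h2 ⟨k, hk⟩
      rw [← Scheme.IdealSheafData.comap_comp] at this
      simpa using this
    · rw [eq_top_iff, ← Category.assoc, ← h1]
      exact Scheme.IdealSheafData.comap_mono _ (sheafIdeal_mono F hk)
  · rintro ⟨hlt, hge⟩
    obtain ⟨g', hg'⟩ := (factors_open Jr U rfl f).2 (hge r le_rfl)
    have h2 : K.comap g' = ⊥ := by
      rw [comap_iSup_eq_bot_iff]
      intro k
      rw [← Scheme.IdealSheafData.comap_comp, hg']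
      exact hlt k k.2
    obtain ⟨g, hg⟩ := (factors_closed K g').2 h2
    exact ⟨g, by rw [← Category.assoc, hg, hg']⟩


end helpers


open AlgebraicGeometry CategoryTheory in
/-- Let X be a scheme, F a finite-type quasi-coherent O_X-module and r a natural number. Then there is
an immersion i : Z → X (a subscheme of X) such that a morphism of schemes f : T → X factors through
i if and only if the pullback f^*F is finite locally free of rank r. -/
theorem result {X : Scheme.{u}} (F : X.Modules)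
    [Coh.IsQCoh F] (hF : CohB1.IsFT F) (r : ℕ) :
    ∃ (Z : Scheme.{u}) (i : Z ⟶ X), IsImmersion i ∧ ∀ (T : Scheme.{u}) (f : T ⟶ X),
      (∃ g : T ⟶ Z, g ≫ i = f) ↔ FlatMod.IsFinLocFreeOfRank r ((Scheme.Modules.pullback f).obj F) := by
  exact Groth.Agent.S10847.result' F hF r

end Groth.Agent.S10847
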