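import Groth.Statements.S10849
import Mathlib
-- import your own Groth.Agent.* helpers here

set_option autoImplicit false
universe u
open VbP1

namespace Groth.Agent.S10849

open Polynomial Matrix LaurentPolynomial in
/-- The reversed polynomial with respect to a degree bound. -/
noncomputable def rev {k : Type u} [Field k] (e : ℕ) (p : k[X]) : k[X] :=
  p.reverse * X ^ (e - p.natDegree)

open Polynomial Matrix LaurentPolynomial in
lemma toLaurent_rev {k : Type u} [Field k] (e : ℕ) (p : k[X]) (h : p.natDegree ≤ e) :
    toLaurent p = invert (toLaurent (rev e p)) * T (e : ℤ) := by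
  have h1 : invert (invert (toLaurent p)) = toLaurent p := involutive_invert _
  rw [rev, map_mul, toLaurent_reverse, toLaurent_X_pow, map_mul, map_mul, h1, invert_T, invert_T,
    mul_assoc, mul_assoc, ← T_add, ← T_add]
  have : (-(p.natDegree : ℤ) + (-((e - p.natDegree : ℕ) : ℤ) + (e : ℤ))) = 0 := by
    rw [Nat.cast_sub h]; ring
  rw [this, T_zero, mul_one]

open Polynomial Matrix LaurentPolynomial in
lemma coeff_zero_rev {k : Type u} [Field k] (e : ℕ) (p : k[X]) (h : p.natDegree ≤ e) :
    (rev e p).coeff 0 = p.coeff e := by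
  rw [rev, coeff_mul_X_pow']
  split_ifs with h0
  · have he : e = p.natDegree := by omega
    have h00 : 0 - (e - p.natDegree) = 0 := by omega
    rw [h00, coeff_zero_reverse, leadingCoeff, ← he]
  · rw [coeff_eq_zero_of_natDegree_lt]
    omega

open Polynomial Matrix in
/-- Column degree. -/
noncomputable def coldeg {k : Type u} [Field k] {n : ℕ} (B : Matrix (Fin n) (Fin n) k[X]) (j : Fin n) : ℕ :=
  Finset.univ.sup (fun i => (B i j).natDegree)

open Polynomial Matrix in
/-- Matrix of leading column coefficients. -/
noncomputable def lcMat {k : Type u} [Field k] {n : ℕ} (B : Matrix (Fin n) (Fin n) k[X]) :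
    Matrix (Fin n) (Fin n) k :=
  Matrix.of fun i j => (B i j).coeff (coldeg B j)

open Polynomial Matrix in
lemma natDegree_le_coldeg {k : Type u} [Field k] {n : ℕ} (B : Matrix (Fin n) (Fin n) k[X])
    (i j : Fin n) : (B i j).natDegree ≤ coldeg B j :=
  Finset.le_sup (f := fun i => (B i j).natDegree) (Finset.mem_univ i)

open Polynomial Matrix in
/-- Column reduction of polynomial matrices. -/
theorem column_reduce {k : Type u} [Field k] {n : ℕ} :
    ∀ (s : ℕ) (B : Matrix (Fin n) (Fin n) k[X]), B.det ≠ 0 → ∑ j, coldeg B j = s →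
      ∃ U : Matrix (Fin n) (Fin n) k[X], IsUnit U.det ∧ (lcMat (B * U)).det ≠ 0 := by
  classical
  intro s
  induction s using Nat.strong_induction_on with
  | _ s ih =>
  intro B hB hs
  by_cases hL : (lcMat B).det = 0
  swap
  · exact ⟨1, by simp, by simpa using hL⟩
  obtain ⟨c, hc0, hc⟩ := Matrix.exists_mulVec_eq_zero_iff.2 hL
  have hJ : (Finset.univ.filter (fun j => c j ≠ 0)).Nonempty := by
    by_contra h
    rw [Finset.not_nonempty_iff_eq_empty, Finset.filter_eq_empty_iff] at h
    apply hc0
    funext j
    simpa using h (Finset.mem_univ j)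
  obtain ⟨j₀, hj₀, hmax⟩ := Finset.exists_max_image _ (coldeg B) hJ
  have hcj₀ : c j₀ ≠ 0 := (Finset.mem_filter.1 hj₀).2
  have hmax' : ∀ j, c j ≠ 0 → coldeg B j ≤ coldeg B j₀ := fun j hj =>
    hmax j (Finset.mem_filter.2 ⟨Finset.mem_univ j, hj⟩)
  set e := coldeg B with he
  set v : Fin n → k[X] := fun j => C (c j) * X ^ (e j₀ - e j) with hv
  set U := (1 : Matrix (Fin n) (Fin n) k[X]).updateCol j₀ v with hU
  have hUdet : U.det = C (c j₀) := by
    rw [hU, ← Matrix.cramer_apply, Matrix.cramer_one]
    simp [hv]
  have hUunit : IsUnit U.det := by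
    rw [hUdet]; exact isUnit_C.2 (isUnit_iff_ne_zero.2 hcj₀)
  have hcol_ne : ∀ i l, l ≠ j₀ → (B * U) i l = B i l := by
    intro i l hl
    rw [hU, Matrix.mul_apply]
    simp [Matrix.updateCol_apply, hl, Matrix.one_apply]
  have hcol_j₀ : ∀ i, (B * U) i j₀ = ∑ j, B i j * v j := by
    intro i
    rw [hU, Matrix.mul_apply]
    simp [Matrix.updateCol_apply]
  have hdeg : ∀ i, ((B * U) i j₀).natDegree ≤ e j₀ := by
    intro i
    rw [hcol_j₀]
    apply natDegree_sum_le_of_forall_le
    intro j _
    by_cases hcj : c j = 0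
    · simp [hv, hcj]
    · have h1 := natDegree_le_coldeg B i j
      have h2 := hmax' j hcj
      calc (B i j * v j).natDegree ≤ (B i j).natDegree + (v j).natDegree := natDegree_mul_le
        _ ≤ e j + (e j₀ - e j) := add_le_add h1 (natDegree_C_mul_X_pow_le _ _)
        _ = e j₀ := by omega
  have hcoeff : ∀ i, ((B * U) i j₀).coeff (e j₀) = 0 := by
    intro i
    rw [hcol_j₀, finset_sum_coeff]
    have h1 : ∀ j, (B i j * v j).coeff (e j₀) = lcMat B i j * c j := by
      intro j
      by_cases hcj : c j = 0
      · simp [hv, hcj]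
      · have h2 := hmax' j hcj
        rw [hv]
        simp only
        rw [← mul_assoc, coeff_mul_X_pow', if_pos (Nat.sub_le _ _), coeff_mul_C]
        have : e j₀ - (e j₀ - e j) = e j := by omega
        rw [this]
        rfl
    rw [Finset.sum_congr rfl (fun j _ => h1 j)]
    have := congrFun hc i
    simpa [Matrix.mulVec, dotProduct] using this
  have hdetBU : (B * U).det ≠ 0 := by
    rw [Matrix.det_mul]
    exact mul_ne_zero hB hUunit.ne_zero
  -- the column degree at j₀ drops
  have hdrop : coldeg (B * U) j₀ < e j₀ := by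
    by_cases he0 : e j₀ = 0
    · exfalso
      apply hdetBU
      apply Matrix.det_eq_zero_of_column_eq_zero j₀
      intro i
      have h1 := hdeg i
      rw [he0] at h1
      rw [eq_C_of_natDegree_le_zero h1]
      have h2 := hcoeff i
      rw [he0] at h2
      rw [h2, C_0]
    · rw [coldeg, Finset.sup_lt_iff (by rw [bot_eq_zero]; omega)]
      intro i _
      by_contra hcon
      have h1 : ((B * U) i j₀).natDegree = e j₀ := le_antisymm (hdeg i) (not_lt.1 hcon)
      have h2 : ((B * U) i j₀).leadingCoeff = 0 := by
        rw [leadingCoeff, h1]; exact hcoeff i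
      rw [leadingCoeff_eq_zero] at h2
      rw [h2, natDegree_zero] at h1
      exact he0 h1.symm
  have hsame : ∀ l, l ≠ j₀ → coldeg (B * U) l = e l := by
    intro l hl
    rw [he, coldeg, coldeg]
    congr 1
    funext i
    rw [hcol_ne i l hl]
  have hlt : ∑ l, coldeg (B * U) l < s := by
    rw [← hs]
    apply Finset.sum_lt_sum
    · intro l _
      by_cases hl : l = j₀
      · rw [hl]; exact hdrop.le
      · rw [hsame l hl]
    · exact ⟨j₀, Finset.mem_univ _, hdrop⟩
  obtain ⟨U', hU', hLc'⟩ := ih _ hlt (B * U) hdetBU rfl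
  refine ⟨U * U', ?_, ?_⟩
  · rw [Matrix.det_mul]; exact hUunit.mul hU'
  · rw [← Matrix.mul_assoc]; exact hLc'

open Polynomial Matrix LaurentPolynomial in
/-- A polynomial with nonzero constant term which becomes a unit in the Laurent ring is a unit. -/
lemma isUnit_of_isUnit_toLaurent {k : Type u} [Field k] (p : k[X]) (hp : IsUnit (toLaurent p))
    (h0 : p.coeff 0 ≠ 0) : IsUnit p := by
  obtain ⟨w, hw⟩ := hp.exists_right_inv
  obtain ⟨a, w', hw'⟩ := exists_T_pow w
  have h1 : p * w' = X ^ a := by
    apply toLaurent_injective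
    rw [map_mul, hw', ← mul_assoc, hw, one_mul, toLaurent_X_pow]
  have hX : ¬ (X : k[X]) ∣ p := by
    rw [X_dvd_iff]; exact h0
  have h2 : (X : k[X]) ^ a ∣ w' := by
    apply prime_X.pow_dvd_of_dvd_mul_left a hX
    rw [h1]
  obtain ⟨w'', hw''⟩ := h2
  have h3 : X ^ a * (p * w'') = X ^ a * 1 := by
    calc X ^ a * (p * w'') = p * (X ^ a * w'') := by ring
      _ = p * w' := by rw [hw'']
      _ = X ^ a := h1
      _ = X ^ a * 1 := (mul_one _).symm
  have h4 := mul_left_cancel₀ (pow_ne_zero a X_ne_zero) h3
  exact IsUnit.of_mul_eq_one _ h4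


/-- Let k be a field and n a natural number. For every invertible n × n matrix A with entries in the
Laurent polynomial ring k[T, T⁻¹] there are matrices P and Q over k[T], invertible over k[T], and
integers d_1 ≥ d_2 ≥ … ≥ d_n (indexed by Fin n, antitone) such that A = P · diag(T^{d_i}) · Q⁻,
where Q⁻ is obtained from Q by the substitution T ↦ T⁻¹ (so Q⁻ is invertible over k[T⁻¹]). -/
theorem result (k : Type u) [Field k] (n : ℕ)
    (A : Matrix (Fin n) (Fin n) (LaurentPolynomial k)) (hA : IsUnit A) :
    ∃ (P Q : Matrix (Fin n) (Fin n) (Polynomial k)) (d : Fin n → ℤ),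
      IsUnit P ∧ IsUnit Q ∧ Antitone d ∧
        A = P.map Polynomial.toLaurent * Matrix.diagonal (fun i => LaurentPolynomial.T (d i)) *
          (Q.map Polynomial.toLaurent).map LaurentPolynomial.invert := by
  classical
  -- Step 1: clear denominators of A.transpose
  have hex : ∀ i j : Fin n, ∃ (m : ℕ) (f : Polynomial k),
      Polynomial.toLaurent f = A.transpose i j * LaurentPolynomial.T (m : ℤ) :=
    fun i j => LaurentPolynomial.exists_T_pow (A.transpose i j)
  choose mm ff hff using hex
  set m : ℕ := Finset.univ.sup (fun p : Fin n × Fin n => mm p.1 p.2) with hm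
  have hmle : ∀ i j, mm i j ≤ m := fun i j =>
    Finset.le_sup (f := fun p : Fin n × Fin n => mm p.1 p.2) (Finset.mem_univ (i, j))
  set B : Matrix (Fin n) (Fin n) (Polynomial k) :=
    Matrix.of fun i j => ff i j * Polynomial.X ^ (m - mm i j) with hB
  have hBA : ∀ i j, Polynomial.toLaurent (B i j) = A.transpose i j * LaurentPolynomial.T (m : ℤ) := by
    intro i j
    simp only [hB, Matrix.of_apply, map_mul, Polynomial.toLaurent_X_pow, hff]
    rw [mul_assoc, ← LaurentPolynomial.T_add]
    congr 2
    have := hmle i j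
    push_cast [Nat.cast_sub this]; ring
  -- Step 2: det B ≠ 0
  have hBmap : B.map Polynomial.toLaurent = (LaurentPolynomial.T (m : ℤ) : LaurentPolynomial k) • A.transpose := by
    ext i j
    simp only [Matrix.map_apply, Matrix.smul_apply, smul_eq_mul, hBA]
    ring
  have hAdet : IsUnit A.det := (Matrix.isUnit_iff_isUnit_det A).1 hA
  have hdetBL : IsUnit (Polynomial.toLaurent B.det) := by
    have h1 : Polynomial.toLaurent B.det = (B.map Polynomial.toLaurent).det := by
      rw [RingHom.map_det, RingHom.mapMatrix_apply]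
    rw [h1, hBmap, Matrix.det_smul, Matrix.det_transpose]
    exact ((LaurentPolynomial.isUnit_T _).pow _).mul hAdet
  have hdetB : B.det ≠ 0 := by
    intro h
    rw [h, map_zero] at hdetBL
    exact not_isUnit_zero hdetBL
  -- Step 3: column reduction
  obtain ⟨U, hU, hLc⟩ := column_reduce _ B hdetB rfl
  set C : Matrix (Fin n) (Fin n) (Polynomial k) := B * U with hC
  set e : Fin n → ℕ := coldeg C with he
  set Q₀ : Matrix (Fin n) (Fin n) (Polynomial k) := Matrix.of fun i j => rev (e j) (C i j) with hQ₀
  have hCQ : ∀ i j, Polynomial.toLaurent (C i j)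
      = LaurentPolynomial.invert (Polynomial.toLaurent (Q₀ i j)) * LaurentPolynomial.T (e j : ℤ) :=
    fun i j => toLaurent_rev (e j) (C i j) (natDegree_le_coldeg C i j)
  have hBCU : B = C * U⁻¹ := by
    rw [hC, Matrix.mul_nonsing_inv_cancel_right _ _ hU]
  -- Step 4: the factorization with unsorted exponents
  set P : Matrix (Fin n) (Fin n) (Polynomial k) := (U⁻¹).transpose with hP
  set Q : Matrix (Fin n) (Fin n) (Polynomial k) := Q₀.transpose with hQ
  set d : Fin n → ℤ := fun j => (e j : ℤ) - (m : ℤ) with hd
  have hfact : A = P.map Polynomial.toLaurent * Matrix.diagonal (fun i => LaurentPolynomial.T (d i)) *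
      (Q.map Polynomial.toLaurent).map LaurentPolynomial.invert := by
    apply Matrix.ext
    intro i l
    have h1 : A i l = LaurentPolynomial.T (-(m : ℤ)) * Polynomial.toLaurent (B l i) := by
      rw [hBA, Matrix.transpose_apply, mul_comm, mul_assoc, ← LaurentPolynomial.T_add]
      simp
    have h2 : B l i = ∑ j, C l j * U⁻¹ j i := by
      conv_lhs => rw [hBCU]
      exact Matrix.mul_apply
    have h3 : Polynomial.toLaurent (B l i)
        = ∑ j, Polynomial.toLaurent (C l j) * Polynomial.toLaurent (U⁻¹ j i) := by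
      rw [h2, map_sum]
      exact Finset.sum_congr rfl fun j _ => map_mul _ _ _
    rw [h1, h3, Finset.mul_sum, Matrix.mul_apply]
    refine Finset.sum_congr rfl fun j _ => ?_
    rw [Matrix.mul_diagonal, hCQ]
    simp only [hP, hQ, hd, Matrix.map_apply, Matrix.transpose_apply]
    rw [sub_eq_add_neg, LaurentPolynomial.T_add]
    ring
  -- Step 5: units
  have hPunit : IsUnit P := by
    rw [Matrix.isUnit_iff_isUnit_det, hP, Matrix.det_transpose]
    exact (Matrix.isUnit_nonsing_inv_det_iff.2 hU)
  have hQunit : IsUnit Q := by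
    rw [Matrix.isUnit_iff_isUnit_det]
    apply isUnit_of_isUnit_toLaurent
    · -- toLaurent (det Q) is a unit
      have h1 := congrArg Matrix.det hfact
      rw [Matrix.det_mul, Matrix.det_mul] at h1
      rw [h1] at hAdet
      have h2 := isUnit_of_mul_isUnit_right hAdet
      have h3 : ((Q.map Polynomial.toLaurent).map LaurentPolynomial.invert).det
          = LaurentPolynomial.invert (Polynomial.toLaurent Q.det) := by
        have e1 : Polynomial.toLaurent Q.det = (Q.map Polynomial.toLaurent).det := by
          rw [RingHom.map_det, RingHom.mapMatrix_apply]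
        have e2 : LaurentPolynomial.invert ((Q.map Polynomial.toLaurent).det)
            = ((Q.map Polynomial.toLaurent).map LaurentPolynomial.invert).det := by
          have := RingHom.map_det (LaurentPolynomial.invert (R := k)).toRingEquiv.toRingHom
            (Q.map Polynomial.toLaurent)
          simpa [RingHom.mapMatrix_apply] using this
        rw [e1, e2]
      rw [h3] at h2
      have h4 := h2.map (LaurentPolynomial.invert (R := k))
      rwa [LaurentPolynomial.involutive_invert] at h4
    · -- constant coefficient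
      have h1 : Q.det.coeff 0 = (lcMat C).det := by
        rw [Polynomial.coeff_zero_eq_eval_zero, ← Polynomial.coe_evalRingHom, RingHom.map_det,
          RingHom.mapMatrix_apply, ← Matrix.det_transpose]
        congr 1
        ext i j
        simp only [hQ, hQ₀, Matrix.transpose_apply, Matrix.map_apply, Matrix.of_apply,
          Polynomial.coe_evalRingHom, ← Polynomial.coeff_zero_eq_eval_zero, lcMat]
        exact coeff_zero_rev (e j) (C i j) (natDegree_le_coldeg C i j)
      rw [h1]
      exact hLc
  -- Step 6: sort the exponents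
  set σ : Equiv.Perm (Fin n) := Tuple.sort d * Fin.revPerm with hσ
  have hanti : Antitone (d ∘ σ) := by
    intro i j hij
    have h1 : Fin.rev j ≤ Fin.rev i := Fin.rev_le_rev.2 hij
    have := Tuple.monotone_sort d h1
    simpa [hσ] using this
  have hsign : ∀ τ : Equiv.Perm (Fin n),
      IsUnit (((Equiv.Perm.sign τ : ℤˣ) : ℤ) : Polynomial k) := by
    intro τ
    rcases Int.units_eq_one_or (Equiv.Perm.sign τ) with h | h <;> rw [h] <;> simp
  refine ⟨P.submatrix id σ, Q.submatrix σ id, d ∘ σ, ?_, ?_, hanti, ?_⟩
  · rw [Matrix.isUnit_iff_isUnit_det, Matrix.det_permute']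
    exact (hsign σ).mul ((Matrix.isUnit_iff_isUnit_det _).1 hPunit)
  · rw [Matrix.isUnit_iff_isUnit_det, Matrix.det_permute]
    exact (hsign σ).mul ((Matrix.isUnit_iff_isUnit_det _).1 hQunit)
  · have h1 : (P.submatrix id σ).map Polynomial.toLaurent = (P.map Polynomial.toLaurent).submatrix id σ := rfl
    have h2 : ((Q.submatrix σ id).map Polynomial.toLaurent).map LaurentPolynomial.invert
        = ((Q.map Polynomial.toLaurent).map LaurentPolynomial.invert).submatrix σ id := rfl
    have h3 : Matrix.diagonal (fun i => (LaurentPolynomial.T ((d ∘ σ) i) : LaurentPolynomial k))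
        = (Matrix.diagonal (fun i => (LaurentPolynomial.T (d i) : LaurentPolynomial k))).submatrix σ σ := by
      rw [Matrix.submatrix_diagonal_equiv]
      rfl
    rw [h1, h2, h3, Matrix.submatrix_mul_equiv, Matrix.submatrix_mul_equiv, ← hfact]
    rfl

end Groth.Agent.S10849
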