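import Groth.Statements.S10851
import Mathlib

set_option autoImplicit false
universe u
open Mero

namespace Groth.Agent.S10851



open AlgebraicGeometry in
/-- Let X be a locally Noetherian scheme and D a divisor on X (a global section of K_X^×/O_X^×). Then
the support of D has codimension at least 1 in X: for every point z at which the germ of D is
non-trivial, the local ring O_{X,z} has Krull dimension at least 1. -/
theorem result {X : Scheme.{u}} [IsLocallyNoetherian X]
    (D : Mero.Divisor X) (z : X) (hz : z ∈ Mero.supp D) :
    (1 : WithBot ℕ∞) ≤ ringKrullDim (X.presheaf.stalk z) := by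
  by_contra hcon
  apply hz
  -- the local ring has dimension ≤ 0
  have hdim : Ring.KrullDimLE 0 (X.presheaf.stalk z) := by
    rw [Ring.krullDimLE_iff]
    rw [not_le] at hcon
    generalize ringKrullDim (X.presheaf.stalk z) = d at hcon ⊢
    induction d using WithBot.recBotCoe with
    | bot => exact bot_le
    | coe d =>
      have h1 : d < 1 := by exact_mod_cast hcon
      have h2 : d = 0 := Order.lt_one_iff.mp h1
      rw [h2]; rfl
  have hart : IsArtinianRing (X.presheaf.stalk z) := isArtinianRing_iff_krullDimLE_zero.mpr hdim
  have hunits : Mero.regStalk X z ≤ IsUnit.submonoid (X.presheaf.stalk z) := by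
    intro s hs
    exact IsArtinianRing.isUnit_of_mem_nonZeroDivisors (Mero.regStalk_le_nonZeroDivisors z hs)
  let e : X.presheaf.stalk z ≃ₐ[X.presheaf.stalk z] Mero.KStalk X z :=
    IsLocalization.atUnits (X.presheaf.stalk z) (Mero.regStalk X z) hunits
  obtain ⟨q, hq⟩ := QuotientGroup.mk_surjective (D.1 z)
  rw [← hq, QuotientGroup.eq_one_iff]
  refine ⟨Units.map (e.symm : Mero.KStalk X z →* X.presheaf.stalk z) q, ?_⟩
  apply Units.ext
  change algebraMap (X.presheaf.stalk z) (Mero.KStalk X z) (e.symm q) = q
  rw [← AlgEquiv.commutes e, Algebra.algebraMap_self, RingHom.id_apply, AlgEquiv.apply_symm_apply]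

end Groth.Agent.S10851
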