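import Groth.Statements.S10863
import Mathlib

set_option autoImplicit false
universe u
open CAlg

namespace Groth.Agent.S10863

open TensorProduct

/-- For a surjective algebra hom `π : B →ₐ[K] L` onto a field, algebra homs from `L` to a field
`Ω` are the algebra homs from `B` with the same kernel as `π`. -/
theorem card_algHom_of_surjective {K B L Ω : Type*} [Field K] [CommRing B] [Field L] [Field Ω]
    [Algebra K B] [Algebra K L] [Algebra K Ω]
    (π : B →ₐ[K] L) (hπ : Function.Surjective π) :
    Nat.card (L →ₐ[K] Ω) =
      Nat.card {h : B →ₐ[K] Ω // RingHom.ker h.toRingHom = RingHom.ker π.toRingHom} := by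
  refine Nat.card_congr
    { toFun := fun g => ⟨g.comp π, ?_⟩
      invFun := fun h => AlgHom.liftOfSurjective π hπ h.1 h.2.ge
      left_inv := ?_
      right_inv := ?_ }
  · ext x
    simp only [RingHom.mem_ker]
    change g (π x) = 0 ↔ π x = 0
    exact map_eq_zero_iff g g.toRingHom.injective
  · intro g
    apply AlgHom.ext
    intro y
    obtain ⟨x, rfl⟩ := hπ y
    rw [AlgHom.liftOfSurjective_apply]
    rfl
  · intro h
    apply Subtype.ext
    exact AlgHom.liftOfSurjective_comp π hπ h.1 h.2.ge

/-- In an Artinian local `k`-algebra every algebra hom to a field has kernel the maximal ideal. -/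
theorem ker_eq_maximalIdeal {k A Ω : Type*} [Field k] [CommRing A] [Algebra k A]
    [IsArtinianRing A] [IsLocalRing A] [Field Ω] [Algebra k Ω] (h : A →ₐ[k] Ω) :
    RingHom.ker h.toRingHom = IsLocalRing.maximalIdeal A := by
  haveI : (RingHom.ker h.toRingHom).IsPrime := RingHom.ker_isPrime _
  haveI : (RingHom.ker h.toRingHom).IsMaximal := IsArtinianRing.isMaximal_of_isPrime _
  exact IsLocalRing.eq_maximalIdeal inferInstance

open TensorProduct in
/-- Let k be a field, A a finite-dimensional local k-algebra with residue field κ, and k' a field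
extension of k. Then the separable degree of κ over k equals the sum over the maximal ideals m' of
k' ⊗_k A (the points of the base-changed finite scheme lying over the given point) of the separable
degrees over k' of their residue fields. -/
theorem result (k A k' : Type u) [Field k] [CommRing A] [Algebra k A]
    [Module.Finite k A] [IsLocalRing A] [Field k'] [Algebra k k'] :
    Field.finSepDegree k (IsLocalRing.ResidueField A) =
      ∑ᶠ m : MaximalSpectrum (k' ⊗[k] A),
        Field.finSepDegree k' (IsLocalRing.ResidueField (Localization.AtPrime m.asIdeal)) := by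
  classical
  let Ω := AlgebraicClosure k'
  let κ := IsLocalRing.ResidueField A
  let B := k' ⊗[k] A
  haveI : IsArtinianRing A := IsArtinianRing.of_finite k A
  haveI : IsArtinianRing B := IsArtinianRing.of_finite k' B
  -- the residue map of `A` as an algebra hom
  let πA : A →ₐ[k] κ := IsScalarTower.toAlgHom k A κ
  have hπA : Function.Surjective πA := IsLocalRing.residue_surjective
  have hkerπA : RingHom.ker πA.toRingHom = IsLocalRing.maximalIdeal A :=
    IsLocalRing.ker_residue
  haveI : Module.Finite k κ := Module.Finite.of_surjective πA.toLinearMap hπA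
  -- step 1
  have h1 : Field.finSepDegree k κ = Nat.card (κ →ₐ[k] Ω) :=
    Field.finSepDegree_eq_of_isAlgClosed k κ Ω
  -- step 2
  have h2 : Nat.card (κ →ₐ[k] Ω) = Nat.card (A →ₐ[k] Ω) := by
    rw [card_algHom_of_surjective πA hπA]
    refine Nat.card_congr (Equiv.subtypeUnivEquiv fun h => ?_)
    rw [hkerπA]
    exact ker_eq_maximalIdeal h
  -- step 3
  have h3 : Nat.card (A →ₐ[k] Ω) = Nat.card (B →ₐ[k'] Ω) :=
    Nat.card_congr (Algebra.TensorProduct.liftEquivRight k k' A Ω)
  -- step 4
  let f : (B →ₐ[k'] Ω) → MaximalSpectrum B := fun h =>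
    ⟨RingHom.ker h.toRingHom,
      haveI : (RingHom.ker h.toRingHom).IsPrime := RingHom.ker_isPrime _
      IsArtinianRing.isMaximal_of_isPrime _⟩
  haveI : Fintype (MaximalSpectrum B) := Fintype.ofFinite _
  have h4 : Nat.card (B →ₐ[k'] Ω) = ∑ m : MaximalSpectrum B,
      Nat.card {h : B →ₐ[k'] Ω // f h = m} := by
    rw [← Nat.card_sigma]
    exact Nat.card_congr (Equiv.sigmaFiberEquiv f).symm
  have h5 : ∀ m : MaximalSpectrum B, Nat.card {h : B →ₐ[k'] Ω // f h = m} =
      Field.finSepDegree k' (IsLocalRing.ResidueField (Localization.AtPrime m.asIdeal)) := by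
    intro m
    haveI := m.isMaximal
    let L := m.asIdeal.ResidueField
    let πm : B →ₐ[k'] L := IsScalarTower.toAlgHom k' B L
    have hπm : Function.Surjective πm := m.asIdeal.algebraMap_residueField_surjective
    have hkerπm : RingHom.ker πm.toRingHom = m.asIdeal := m.asIdeal.ker_algebraMap_residueField
    haveI : Module.Finite k' L := Module.Finite.of_surjective πm.toLinearMap hπm
    have e1 : Field.finSepDegree k' L = Nat.card (L →ₐ[k'] Ω) :=
      Field.finSepDegree_eq_of_isAlgClosed k' L Ω
    change _ = Field.finSepDegree k' L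
    rw [e1, card_algHom_of_surjective πm hπm]
    refine Nat.card_congr (Equiv.subtypeEquivRight fun h => ?_)
    rw [hkerπm]
    constructor
    · intro hh
      exact congrArg MaximalSpectrum.asIdeal hh
    · intro hh
      exact MaximalSpectrum.ext hh
  rw [h1, h2, h3, h4, finsum_eq_sum_of_fintype]
  exact Finset.sum_congr rfl fun m _ => h5 m

end Groth.Agent.S10863
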