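import Groth.Statements.S10866
import Groth.Agent.S10865

set_option autoImplicit false
universe u
open Coherent

namespace Groth.Agent.S10866

open CategoryTheory AlgebraicGeometry in
/-- Let f : X → Y be a morphism of Noetherian schemes such that for every integral closed subscheme i :
Z → X there is a coherent O_Z-module with nonzero stalk at the generic point of Z whose direct image
under i followed by f is coherent on Y. Then the direct image f_*F of every coherent O_X-module F is
coherent. -/
theorem result {X Y : Scheme.{u}} [IsNoetherian X] [IsNoetherian Y]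
    (f : X ⟶ Y)
    (hgen : ∀ (Z : Scheme.{u}) (i : Z ⟶ X) [IsClosedImmersion i] [IsIntegral Z],
      ∃ H : Z.Modules, Coh.IsCoh H ∧ Nontrivial (H.presheaf.stalk (genericPoint Z)) ∧
        Coh.IsCoh ((Scheme.Modules.pushforward (i ≫ f)).obj H))
    (F : X.Modules) (hF : Coh.IsCoh F) : Coh.IsCoh ((Scheme.Modules.pushforward f).obj F) := by
  classical
  by_cases hX : Nonempty X
  swap
  · have hz : Limits.IsZero F := by
      refine Groth.Agent.Lib.helper8.PinchMod.isZero_of_subsingleton_sections (fun U _ => ?_)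
      refine ⟨fun a b => ?_⟩
      exact TopCat.Presheaf.IsSheaf.section_ext F.isSheaf (U := Opposite.op U)
        (fun x _ => (hX ⟨x⟩).elim)
    exact Groth.Agent.Lib.helper7.CohKer.isCoh_of_isZero
      ((Scheme.Modules.pushforward f).map_isZero hz)
  haveI := hX
  let K : ObjectProperty X.Modules := fun G => Coh.IsCoh ((Scheme.Modules.pushforward f).obj G)
  haveI : K.IsClosedUnderIsomorphisms :=
    ⟨fun e h => Groth.Agent.Lib.helper7.CohKer.isCoh_of_iso
      ((Scheme.Modules.pushforward f).mapIso e) h⟩
  haveI hmonoF : (Scheme.Modules.pushforward f).PreservesMonomorphisms :=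
    Functor.preservesMonomorphisms_of_adjunction (Scheme.Modules.pullbackPushforwardAdjunction f)
  have hsub : ∀ (A B : X.Modules) (j : A ⟶ B), Mono j → A.IsQuasicoherent →
      Coh.IsCoh ((Scheme.Modules.pushforward f).obj B) →
      Coh.IsCoh ((Scheme.Modules.pushforward f).obj A) := by
    intro A B j hj hA hB
    haveI := hj
    haveI := hA
    haveI : ((Scheme.Modules.pushforward f).obj A).IsQuasicoherent :=
      Groth.Agent.Lib.helper7.QCohPushQC.isQuasicoherent_pushforward f A
    exact Groth.Agent.S0046.result Y _ _ ((Scheme.Modules.pushforward f).map j) hB ‹_›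
  refine Groth.Agent.S10865.result X K ?_ ?_ ?_ F hF
  · intro S hS h1 h2 h3
    refine ⟨fun hK2 _ => hsub _ _ S.f hS.mono_f h1.1 hK2, fun hK1 hK3 => ?_⟩
    haveI : S.X₂.IsQuasicoherent := h2.1
    haveI : ((Scheme.Modules.pushforward f).obj S.X₂).IsQuasicoherent :=
      Groth.Agent.Lib.helper7.QCohPushQC.isQuasicoherent_pushforward f S.X₂
    refine Groth.Agent.Lib.helper16.CohFinite.isCoh_of_finite_sections _
      (fun V : Y.affineOpens => V.1) (fun V => V.2) (iSup_affineOpens_eq_top Y) (fun V => ?_)
    haveI : IsNoetherianRing Γ(Y, V.1) := IsLocallyNoetherian.component_noetherian V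
    haveI hfin1 : Module.Finite Γ(Y, V.1) Γ((Scheme.Modules.pushforward f).obj S.X₁, V.1) :=
      Groth.Agent.Lib.helper16.CohFinite.finite_sections_of_isCoh _ hK1 V.2
    haveI hfin3 : Module.Finite Γ(Y, V.1) Γ((Scheme.Modules.pushforward f).obj S.X₃, V.1) :=
      Groth.Agent.Lib.helper16.CohFinite.finite_sections_of_isCoh _ hK3 V.2
    let a : Γ((Scheme.Modules.pushforward f).obj S.X₁, V.1) →ₗ[Γ(Y, V.1)]
        Γ((Scheme.Modules.pushforward f).obj S.X₂, V.1) :=
      { toFun := (((Scheme.Modules.pushforward f).map S.f).app V.1).hom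
        map_add' := map_add _
        map_smul' := fun r m => Scheme.Modules.Hom.app_smul _ r m }
    let b : Γ((Scheme.Modules.pushforward f).obj S.X₂, V.1) →ₗ[Γ(Y, V.1)]
        Γ((Scheme.Modules.pushforward f).obj S.X₃, V.1) :=
      { toFun := (((Scheme.Modules.pushforward f).map S.g).app V.1).hom
        map_add' := map_add _
        map_smul' := fun r m => Scheme.Modules.Hom.app_smul _ r m }
    haveI := hS.mono_f
    have hker : LinearMap.ker b ≤ LinearMap.range a := by
      intro x hx
      obtain ⟨y, hy⟩ := Groth.Agent.Lib.helper8.Dev.exists_app_eq_of_exact S.f S.g S.zero hS.exact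
        (f ⁻¹ᵁ V.1) x hx
      exact ⟨y, hy⟩
    haveI : IsNoetherian Γ(Y, V.1) Γ((Scheme.Modules.pushforward f).obj S.X₃, V.1) :=
      isNoetherian_of_isNoetherianRing_of_finite _ _
    haveI : IsNoetherian Γ(Y, V.1) Γ((Scheme.Modules.pushforward f).obj S.X₁, V.1) :=
      isNoetherian_of_isNoetherianRing_of_finite _ _
    haveI : IsNoetherian Γ(Y, V.1) (LinearMap.range a) := isNoetherian_of_surjective
      (f := a.rangeRestrict) (LinearMap.range_rangeRestrict a)
    refine ⟨Submodule.fg_of_fg_map_of_fg_inf_ker b (IsNoetherian.noetherian _) ?_⟩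
    rw [top_inf_eq]
    have h5 : (Submodule.comap (LinearMap.range a).subtype (LinearMap.ker b)).FG :=
      IsNoetherian.noetherian _
    have h6 := h5.map (LinearMap.range a).subtype
    rw [Submodule.map_comap_subtype, inf_eq_right.mpr hker] at h6
    exact h6
  · intro G d hd hG hKd
    have hd0 : 0 < d := hd
    let ι : G ⟶ ∐ fun _ : Fin d => G := Limits.Sigma.ι (fun _ : Fin d => G) ⟨0, hd0⟩
    have hι : ι ≫ Limits.Sigma.desc (fun _ : Fin d => 𝟙 G) = 𝟙 G := Limits.Sigma.ι_desc _ _
    haveI : Mono ι := mono_of_mono_fac hι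
    exact hsub _ _ ι inferInstance hG.1 hKd
  · intro Z i _ _
    obtain ⟨H, hH, hst, hcoh⟩ := hgen Z i
    exact ⟨H, hH, hst, Groth.Agent.Lib.helper7.CohKer.isCoh_of_iso
      ((Scheme.Modules.pushforwardComp i f).app H).symm hcoh⟩

end Groth.Agent.S10866
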