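import Groth.Statements.S10869
import Groth.Agent.Lib.Helper11.CounitEpi

set_option autoImplicit false
universe u
open Coh

namespace Groth.Agent.S10869

open CategoryTheory AlgebraicGeometry in
/-- For f : X → S quasi-compact and quasi-separated and F a quasi-coherent O_X-module, the counit
f^*f_*F → F is an epimorphism iff F is a quotient of f^*G for some quasi-coherent O_S-module G, iff
the restriction of F to the inverse image of every affine open of S is globally generated. -/
theorem result {X S : Scheme.{u}} (f : X ⟶ S) [QuasiCompact f] [QuasiSeparated f]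
    (F : X.Modules) (hF : Coh.IsQCoh F) :
    (Epi ((Scheme.Modules.pullbackPushforwardAdjunction f).counit.app F) ↔
      ∃ G : S.Modules, Coh.IsQCoh G ∧ ∃ φ : (Scheme.Modules.pullback f).obj G ⟶ F, Epi φ) ∧
    (Epi ((Scheme.Modules.pullbackPushforwardAdjunction f).counit.app F) ↔
      ∀ U : S.Opens, IsAffineOpen U → Curv2.IsGloballyGenerated (F.restrict (f ⁻¹ᵁ U).ι)) := by
  have hF' : F.IsQuasicoherent := hF
  refine ⟨⟨fun h => ⟨(Scheme.Modules.pushforward f).obj F,
      Groth.Agent.Lib.helper7.QCohPushQC.isQuasicoherent_pushforward f F, _, h⟩,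
    fun ⟨G, _, φ, hφ⟩ => @Groth.Agent.Lib.helper11.CounitEpi.epi_counit_of_epi _ _ f G F φ hφ⟩,
    ⟨fun h U hU => ?_, fun h => ?_⟩⟩
  · have hUa : IsAffine (U : Scheme) := hU
    have h1 : Epi ((Scheme.Modules.restrictFunctor (f ⁻¹ᵁ U).ι).map
        ((Scheme.Modules.pullbackPushforwardAdjunction f).counit.app F)) :=
      Groth.Agent.Lib.helper11.CounitEpi.epi_restrict _ _
    have h2 := (Groth.Agent.Lib.helper11.CounitEpi.epi_restrict_counit_iff f U F).mp h1
    have hqc : QuasiCompact (f ∣_ U) := inferInstance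
    have hqs : QuasiSeparated (f ∣_ U) := inferInstance
    exact Groth.Agent.Lib.helper11.CounitEpi.isGloballyGenerated_of_epi_counit (f ∣_ U)
      (F.restrict (f ⁻¹ᵁ U).ι) h2
  · refine Groth.Agent.Lib.helper11.CounitEpi.epi_of_forall_restrict _ fun x => ?_
    obtain ⟨_, ⟨U, hU : IsAffineOpen U, rfl⟩, hx, -⟩ :=
      (AlgebraicGeometry.Scheme.isBasis_affineOpens S).exists_subset_of_mem_open
        (Set.mem_univ (f x)) isOpen_univ
    exact ⟨f ⁻¹ᵁ U, hx, (Groth.Agent.Lib.helper11.CounitEpi.epi_restrict_counit_iff f U F).mpr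
      (Groth.Agent.Lib.helper11.CounitEpi.epi_counit_of_isGloballyGenerated _ (h U hU))⟩

end Groth.Agent.S10869
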