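import Groth.Statements.S1087
import Mathlib
import Groth.Agent.Lib.Helper25.FilDTruncGE
import Groth.Agent.S1085

set_option autoImplicit false
universe v u
open CategoryTheory CategoryTheory.Limits Opposite
open FilD

namespace Groth.Agent.S1087

open Groth.Agent.Lib.helper25.FilDTrunc Groth.Agent.Lib.helper25.FilDTruncGE

section

variable {A : Type u} [Category.{v} A] [Abelian A] (K : CochainComplex (FilD.FilF A) ℤ) (a' : ℤ)

/-- The morphisms whose cokernels define the truncation: `𝟙` below `a' + 1`, the differential at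
`a' + 1`, zero above. -/
noncomputable def V (n : ℤ) : Σ W : FilD.FilF A, (W ⟶ K.X n) :=
  if n < a' + 1 then ⟨K.X n, 𝟙 _⟩ else if n = a' + 1 then ⟨K.X a', K.d a' n⟩ else ⟨K.X n, 0⟩

noncomputable def Wa (n : ℤ) : FilD.FilF A := (V K a' n).1

noncomputable def va (n : ℤ) : Wa K a' n ⟶ K.X n := (V K a' n).2

lemma va_rec_lt (n : ℤ) (h : n < a' + 1) (P : ∀ (W : FilD.FilF A), (W ⟶ K.X n) → Prop) :
    P (Wa K a' n) (va K a' n) ↔ P (K.X n) (𝟙 _) := by
  unfold va Wa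
  rw [show V K a' n = ⟨K.X n, 𝟙 _⟩ from if_pos h]

lemma va_rec_self (P : ∀ (W : FilD.FilF A), (W ⟶ K.X (a' + 1)) → Prop) :
    P (Wa K a' (a' + 1)) (va K a' (a' + 1)) ↔ P (K.X a') (K.d a' (a' + 1)) := by
  unfold va Wa
  rw [show V K a' (a' + 1) = ⟨K.X a', K.d a' (a' + 1)⟩ from
    (if_neg (lt_irrefl (a' + 1))).trans (if_pos rfl)]

lemma va_rec_gt (n : ℤ) (h : a' + 1 < n) (P : ∀ (W : FilD.FilF A), (W ⟶ K.X n) → Prop) :
    P (Wa K a' n) (va K a' n) ↔ P (K.X n) 0 := by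
  unfold va Wa
  rw [show V K a' n = ⟨K.X n, 0⟩ from
    (if_neg (not_lt.2 h.le)).trans (if_neg (ne_of_gt h))]

lemma va_of_gt (n : ℤ) (h : a' + 1 < n) : va K a' n = 0 :=
  (va_rec_gt K a' n h (fun W f => f = 0)).2 rfl

lemma va_comp_of_lt (n : ℤ) (h : n < a' + 1) {Z : FilD.FilF A} (f : K.X n ⟶ Z) :
    va K a' n ≫ f = 0 ↔ f = 0 :=
  (va_rec_lt K a' n h (fun W g => g ≫ f = 0 ↔ f = 0)).2 (by rw [Category.id_comp])

lemma va_comp_self {Z : FilD.FilF A} (f : K.X (a' + 1) ⟶ Z) :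
    va K a' (a' + 1) ≫ f = 0 ↔ K.d a' (a' + 1) ≫ f = 0 :=
  (va_rec_self K a' (fun W g => g ≫ f = 0 ↔ K.d a' (a' + 1) ≫ f = 0)).2 Iff.rfl

lemma isStrict_va (hstr : FilD.IsStrict (K.d a' (a' + 1))) (n : ℤ) :
    FilD.IsStrict (va K a' n) := by
  rcases lt_trichotomy n (a' + 1) with h | h | h
  · exact (va_rec_lt K a' n h (fun W g => FilD.IsStrict g)).2 (isStrict_id _)
  · subst h
    exact (va_rec_self K a' (fun W g => FilD.IsStrict g)).2 hstr
  · exact (va_rec_gt K a' n h (fun W g => FilD.IsStrict g)).2 (isStrict_zero _ _)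

lemma gr_va_self (p : ℤ) ⦃T : A⦄ (w : T ⟶ (FilD.gr A p).obj (Wa K a' (a' + 1)).obj) :
    ∃ (T' : A) (π : T' ⟶ T) (_ : Epi π) (w' : T' ⟶ (FilD.gr A p).obj (K.X a').obj),
      π ≫ w ≫ (FilD.gr A p).map (va K a' (a' + 1)).hom =
        w' ≫ (FilD.gr A p).map (K.d a' (a' + 1)).hom :=
  (va_rec_self K a' (fun W g => ∀ (w : T ⟶ (FilD.gr A p).obj W.obj),
    ∃ (T' : A) (π : T' ⟶ T) (_ : Epi π) (w' : T' ⟶ (FilD.gr A p).obj (K.X a').obj),
      π ≫ w ≫ (FilD.gr A p).map g.hom = w' ≫ (FilD.gr A p).map (K.d a' (a' + 1)).hom)).2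
    (fun w => ⟨T, 𝟙 T, inferInstance, w, Category.id_comp _⟩) w

variable (hstr : FilD.IsStrict (K.d a' (a' + 1)))

lemma cokπ_eq_zero (n : ℤ) (h : n < a' + 1) :
    cokπ K (Wa K a') (va K a') (isStrict_va K a' hstr) n = 0 :=
  (va_comp_of_lt K a' n h _).1 (v_cokπ K (Wa K a') (va K a') (isStrict_va K a' hstr) n)

lemma H (n m : ℤ) :
    va K a' n ≫ K.d n m ≫ cokπ K (Wa K a') (va K a') (isStrict_va K a' hstr) m = 0 := by
  by_cases hnm : n + 1 = m
  · subst hnm
    rcases lt_trichotomy n (a' + 1) with hn | hn | hn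
    · rw [va_comp_of_lt K a' n hn]
      by_cases hn' : n + 1 < a' + 1
      · rw [cokπ_eq_zero K a' hstr (n + 1) hn', comp_zero]
      · obtain rfl : n = a' := by omega
        exact (va_comp_self K n _).1 (v_cokπ K (Wa K n) (va K n) (isStrict_va K n hstr) (n + 1))
    · subst hn
      rw [va_comp_self, K.d_comp_d_assoc, zero_comp]
    · rw [va_of_gt K a' n hn, zero_comp]
  · rw [K.shape n m hnm, zero_comp, comp_zero]

end

/-- Let K be a cochain complex of finite filtered objects of an abelian category such that Hⁿ(grᵖ K) = 0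
for all p and all n < a. Then there is a filtered quasi-isomorphism K ⟶ L with Lⁿ = 0 for all n < a. -/
theorem result {A : Type u} [Category.{v} A] [Abelian A] (K : CochainComplex (FilD.FilF A) ℤ) (a : ℤ)
    (hK : ∀ (p n : ℤ), n < a → IsZero (((FilD.grCx p).obj K).homology n)) :
    ∃ (L : CochainComplex (FilD.FilF A) ℤ) (φ : K ⟶ L), L.IsStrictlyGE a ∧ FilD.IsFilteredQuasiIso φ := by
  obtain ⟨a', rfl⟩ : ∃ a' : ℤ, a = a' + 1 := ⟨a - 1, by omega⟩
  have hex : ∀ p : ℤ, ((ShortComplex.mk (K.d (a' - 1) a') (K.d a' (a' + 1))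
      (K.d_comp_d _ _ _)).map (FilD.grF A p)).Exact := by
    intro p
    have h1 : ((FilD.grCx p).obj K).ExactAt a' := by
      rw [HomologicalComplex.exactAt_iff_isZero_homology]
      exact hK p a' (by omega)
    rw [HomologicalComplex.exactAt_iff' _ (a' - 1) a' (a' + 1) (by simp) (by simp)] at h1
    exact h1
  have hstr : FilD.IsStrict (K.d a' (a' + 1)) :=
    (Groth.Agent.S1085.result (ShortComplex.mk (K.d (a' - 1) a') (K.d a' (a' + 1))
      (K.d_comp_d _ _ _)) hex).2.2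
  refine ⟨cokCx K (Wa K a') (va K a') (isStrict_va K a' hstr) (H K a' hstr),
    cokCxπ K (Wa K a') (va K a') (isStrict_va K a' hstr) (H K a' hstr),
    cokCx_isStrictlyGE K (Wa K a') (va K a') (isStrict_va K a' hstr) (H K a' hstr) (a' + 1)
      (cokπ_eq_zero K a' hstr), ?_⟩
  exact cokCxπ_filteredQuasiIso K (Wa K a') (va K a') (isStrict_va K a' hstr) (H K a' hstr)
    (a' + 1) a' rfl (va_of_gt K a') (cokπ_eq_zero K a' hstr) (gr_va_self K a') hK

end Groth.Agent.S1087
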