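import Groth.Statements.S11264
import Mathlib
import Groth.Agent.Lib.Helper10.DetV8

set_option autoImplicit false
universe u
open W4bk4grassmannian

namespace Groth.Agent.S11264

set_option linter.style.haveILetI false

open Groth.Agent.Lib.helper10.SMT Groth.Agent.Lib.helper10.DetV

theorem main (K : Type u) [Field K] [IsAlgClosed K] (m n t : ℕ)
    (hm : 0 < m) (hn : 0 < n) (ht : 1 ≤ t) (htm : t ≤ m) (htn : t ≤ n) :
    IsDomain (MvPolynomial (Fin m × Fin n) K ⧸ CAlgX.minorIdeal (genMatrix K m n) t) ∧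
      IsIntegrallyClosed (MvPolynomial (Fin m × Fin n) K ⧸ CAlgX.minorIdeal (genMatrix K m n) t) ∧
      LocCoh.IsCohenMacaulayRing (MvPolynomial (Fin m × Fin n) K ⧸ CAlgX.minorIdeal (genMatrix K m n) t) ∧
      ringKrullDim (MvPolynomial (Fin m × Fin n) K ⧸ CAlgX.minorIdeal (genMatrix K m n) t) =
        (((t - 1) * (m + n - t + 1) : ℕ) : WithBot ℕ∞) := by
  haveI : Infinite K := inferInstance
  have hdn : n < n + m := by omega
  obtain ⟨e⟩ := nonempty_ringEquiv K m n t ht htm htn hn
  haveI hprime := cellQ_isPrime K hn (tauDet m n t ht htm)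
  haveI hdom : IsDomain (PlRing K n (n + m) ⧸ cellQ K (tauDet m n t ht htm)) :=
    Ideal.Quotient.isDomain _
  obtain ⟨-, hnormal⟩ := schubert_normal K hn hdn (tauDet m n t ht htm)
  haveI := hnormal
  haveI hcm := isCohenMacaulayRing_schubert K hn hdn (tauDet m n t ht htm)
  haveI hic := cellQ_isIntegrallyClosed K hn (tauDet m n t ht htm)
  haveI hcm' := cellQ_isCohenMacaulayRing K hn (tauDet m n t ht htm)
  refine ⟨MulEquiv.isDomain _ e.symm.toMulEquiv, IsIntegrallyClosed.of_equiv e,
    Groth.Agent.Lib.helper26.CMPoly.isCohenMacaulayRing_of_ringEquiv e, ?_⟩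
  rw [← ringKrullDim_eq_of_ringEquiv e, cellQ_dim K hn, codeg_tauDet m n t ht htm htn]
  rfl



open W4bk4grassmannian in
/-- Determinantal varieties are normal Cohen–Macaulay and integral, with their dimension: let K be an
algebraically closed field, m, n ≥ 1, 1 ≤ t ≤ min(m, n), R = K[x_{ij}] the coordinate ring of m × n
matrices and I_t ⊆ R the ideal generated by the t × t minors of the generic matrix. Then R/I_t is an
integral domain, integrally closed, Cohen–Macaulay, and of Krull dimension (t - 1)(m + n - t + 1). -/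
theorem result (K : Type u) [Field K] [IsAlgClosed K] (m n t : ℕ)
    (hm : 0 < m) (hn : 0 < n) (ht : 1 ≤ t) (htm : t ≤ m) (htn : t ≤ n) :
    IsDomain (MvPolynomial (Fin m × Fin n) K ⧸ CAlgX.minorIdeal (genMatrix K m n) t) ∧
      IsIntegrallyClosed (MvPolynomial (Fin m × Fin n) K ⧸ CAlgX.minorIdeal (genMatrix K m n) t) ∧
      LocCoh.IsCohenMacaulayRing (MvPolynomial (Fin m × Fin n) K ⧸ CAlgX.minorIdeal (genMatrix K m n) t) ∧
      ringKrullDim (MvPolynomial (Fin m × Fin n) K ⧸ CAlgX.minorIdeal (genMatrix K m n) t) =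
        (((t - 1) * (m + n - t + 1) : ℕ) : WithBot ℕ∞) := by
  exact main K m n t hm hn ht htm htn

end Groth.Agent.S11264
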