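import Groth.Statements.S10870
import Mathlib
import Groth.Agent.S11264
import Groth.Agent.Lib.Helper26.Seg5

set_option autoImplicit false
universe u
open CAlgX

namespace Groth.Agent.S10870

set_option linter.style.haveILetI false
open MvPolynomial W4bk4grassmannian TensorProduct

attribute [local instance] MvPolynomial.algebraMvPolynomial

theorem faithfullyFlat_mvPolynomial (k L : Type u) [Field k] [Field L] [Algebra k L] (σ : Type) :
    Module.FaithfullyFlat (MvPolynomial σ k) (MvPolynomial σ L) := by
  haveI : Algebra.IsPushout k (MvPolynomial σ k) L (MvPolynomial σ L) := inferInstance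
  exact Module.FaithfullyFlat.of_linearEquiv (MvPolynomial σ k) (MvPolynomial σ k ⊗[k] L)
    (Algebra.IsPushout.equiv k (MvPolynomial σ k) L (MvPolynomial σ L)).symm.toLinearEquiv

theorem minorIdeal_eq_bot' (k : Type u) [CommRing k] (n m t : ℕ) (ht : min n m < t) :
    CAlgX.minorIdeal (genMatrix k n m) t = ⊥ := by
  unfold CAlgX.minorIdeal
  rw [Ideal.span_eq_bot]
  rintro _ ⟨fg, rfl⟩
  by_cases hm : n < t
  · have hninj : ¬ Function.Injective fg.1 := by
      intro hinj
      have := Fintype.card_le_of_injective _ hinj
      rw [Fintype.card_fin, Fintype.card_fin] at this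
      omega
    rw [Function.Injective] at hninj
    push Not at hninj
    obtain ⟨i, j, hij, hne⟩ := hninj
    apply Matrix.det_zero_of_row_eq hne
    funext c
    rw [Matrix.submatrix_apply, Matrix.submatrix_apply, hij]
  · have hn : m < t := by
      rcases min_lt_iff.1 ht with h | h
      · exact absurd h hm
      · exact h
    have hninj : ¬ Function.Injective fg.2 := by
      intro hinj
      have := Fintype.card_le_of_injective _ hinj
      rw [Fintype.card_fin, Fintype.card_fin] at this
      omega
    rw [Function.Injective] at hninj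
    push Not at hninj
    obtain ⟨i, j, hij, hne⟩ := hninj
    apply Matrix.det_zero_of_column_eq hne
    intro r
    rw [Matrix.submatrix_apply, Matrix.submatrix_apply, hij]

theorem map_minorIdeal (k L : Type u) [Field k] [Field L] [Algebra k L] (n m t : ℕ) :
    (CAlgX.minorIdeal (genMatrix k n m) t).map
      (algebraMap (MvPolynomial (Fin n × Fin m) k) (MvPolynomial (Fin n × Fin m) L)) =
      CAlgX.minorIdeal (genMatrix L n m) t := by
  unfold CAlgX.minorIdeal
  rw [Ideal.map_span]
  congr 1
  rw [← Set.range_comp]
  congr 1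
  funext fg
  rw [Function.comp_apply, MvPolynomial.algebraMap_def, RingHom.map_det]
  congr 1
  refine Matrix.ext fun i j => ?_
  rw [RingHom.mapMatrix_apply, Matrix.map_apply, Matrix.submatrix_apply, Matrix.submatrix_apply]
  unfold genMatrix
  rw [Matrix.of_apply, Matrix.of_apply, MvPolynomial.map_X]

theorem dim_eq_of_fieldExt (k L : Type u) [Field k] [Field L] [Algebra k L]
    [Algebra.IsIntegral k L] (n m t : ℕ) :
    ringKrullDim (MvPolynomial (Fin n × Fin m) k ⧸ CAlgX.minorIdeal (genMatrix k n m) t) =
      ringKrullDim (MvPolynomial (Fin n × Fin m) L ⧸ CAlgX.minorIdeal (genMatrix L n m) t) := by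
  haveI := faithfullyFlat_mvPolynomial k L (Fin n × Fin m)
  obtain ⟨f, hf⟩ : ∃ f : MvPolynomial (Fin n × Fin m) k →+* MvPolynomial (Fin n × Fin m) L,
      f = algebraMap _ _ := ⟨_, rfl⟩
  have hcomap : (CAlgX.minorIdeal (genMatrix L n m) t).comap f =
      CAlgX.minorIdeal (genMatrix k n m) t := by
    rw [hf, ← map_minorIdeal k L n m t]
    exact Ideal.comap_map_eq_self_of_faithfullyFlat _
  obtain ⟨φ, hφ⟩ : ∃ φ : (MvPolynomial (Fin n × Fin m) k ⧸ CAlgX.minorIdeal (genMatrix k n m) t) →+*
      (MvPolynomial (Fin n × Fin m) L ⧸ CAlgX.minorIdeal (genMatrix L n m) t),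
      φ = Ideal.quotientMap _ f (le_of_eq hcomap.symm) := ⟨_, rfl⟩
  have hinj : Function.Injective φ := by
    rw [hφ]
    exact Ideal.quotientMap_injective' (le_of_eq hcomap)
  have hint : φ.IsIntegral := by
    apply RingHom.IsIntegral.tower_top (Ideal.Quotient.mk (CAlgX.minorIdeal (genMatrix k n m) t)) φ
    have h1 : φ.comp (Ideal.Quotient.mk (CAlgX.minorIdeal (genMatrix k n m) t)) =
        (Ideal.Quotient.mk (CAlgX.minorIdeal (genMatrix L n m) t)).comp f := by
      rw [hφ]
      ext x <;> simp
    rw [h1]
    apply RingHom.IsIntegral.trans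
    · rw [hf]
      exact algebraMap_isIntegral_iff.2 inferInstance
    · exact RingHom.isIntegral_of_surjective _ Ideal.Quotient.mk_surjective
  exact le_antisymm
    (Groth.Agent.Lib.helper26.Seg.ringKrullDim_le_of_isIntegral_of_injective φ hint hinj)
    (Groth.Agent.Lib.helper26.Seg.ringKrullDim_le_of_isIntegral φ hint)

theorem main (k : Type u) [Field k] (n m r : ℕ) (hr : r ≤ min n m) :
    ringKrullDim (MvPolynomial (Fin n × Fin m) k ⧸ CAlgX.minorIdeal (Matrix.of fun (i : Fin n) (j : Fin m) => (MvPolynomial.X (i, j) : MvPolynomial (Fin n × Fin m) k)) (r + 1)) =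
      ((r * (m + n - r) : ℕ) : WithBot ℕ∞) := by
  show ringKrullDim (MvPolynomial (Fin n × Fin m) k ⧸ CAlgX.minorIdeal (genMatrix k n m) (r + 1)) = _
  by_cases h : r = min n m
  · rw [minorIdeal_eq_bot' k n m (r + 1) (by omega),
      ringKrullDim_eq_of_ringEquiv (RingEquiv.quotientBot _),
      MvPolynomial.ringKrullDim_of_isNoetherianRing, ringKrullDim_eq_zero_of_field, zero_add,
      Nat.card_eq_fintype_card, Fintype.card_prod, Fintype.card_fin, Fintype.card_fin]
    congr 1
    rcases le_total n m with hnm | hnm
    · rw [min_eq_left hnm] at h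
      rw [h]
      have : m + n - n = m := by omega
      rw [this]
    · rw [min_eq_right hnm] at h
      rw [h]
      have : m + n - m = n := by omega
      rw [this, mul_comm]
  · have hlt : r < min n m := lt_of_le_of_ne hr h
    have hn : r + 1 ≤ n := le_trans hlt (min_le_left _ _)
    have hm : r + 1 ≤ m := le_trans hlt (min_le_right _ _)
    rw [dim_eq_of_fieldExt k (AlgebraicClosure k) n m (r + 1)]
    have h1 := (Groth.Agent.S11264.result (AlgebraicClosure k) n m (r + 1) (by omega) (by omega)
      (by omega) hn hm).2.2.2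
    rw [h1]
    have h2 : r + 1 - 1 = r := by omega
    have h3 : n + m - (r + 1) + 1 = m + n - r := by omega
    rw [h2, h3]



/-- For a field k and 0 ≤ r ≤ min(n, m), the affine determinantal scheme of n × m matrices of rank at
most r over k — the spectrum of the polynomial ring on the entries of the generic n × m matrix
modulo the ideal of its (r+1) × (r+1) minors — has dimension r(m + n − r). -/
theorem result (k : Type u) [Field k] (n m r : ℕ) (hr : r ≤ min n m) :
    ringKrullDim (MvPolynomial (Fin n × Fin m) k ⧸ CAlgX.minorIdeal (Matrix.of fun (i : Fin n) (j : Fin m) => (MvPolynomial.X (i, j) : MvPolynomial (Fin n × Fin m) k)) (r + 1)) =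
      ((r * (m + n - r) : ℕ) : WithBot ℕ∞) := by
  exact main k n m r hr

end Groth.Agent.S10870
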