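import Groth.Statements.S10871
import Mathlib.AlgebraicGeometry.Morphisms.Affine
import Mathlib.RingTheory.DedekindDomain.Basic
import Mathlib.RingTheory.Ideal.MinimalPrime.Noetherian

set_option autoImplicit false
universe u
open AlgebraicGeometry
open Curves

namespace Groth.Agent.S10871


open PrimeSpectrum in
theorem finite_zeroLocus (A : Type u) [CommRing A] [IsDedekindDomain A] {f : A} (hf : f ≠ 0) :
    (zeroLocus ({f} : Set A) : Set (PrimeSpectrum A)).Finite := by
  have hfin := Ideal.finite_minimalPrimes_of_isNoetherianRing A (Ideal.span {f})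
  refine Set.Finite.of_finite_image (f := PrimeSpectrum.asIdeal) (hfin.subset ?_) ?_
  · rintro _ ⟨q, hq, rfl⟩
    have hfq : f ∈ q.asIdeal := by
      rw [mem_zeroLocus] at hq
      exact hq (Set.mem_singleton f)
    obtain ⟨p, hp, hpq⟩ := Ideal.exists_minimalPrimes_le (I := Ideal.span {f}) (J := q.asIdeal)
      (by rw [Ideal.span_le]; simpa using hfq)
    have hfp : f ∈ p := hp.1.2 (Ideal.subset_span (Set.mem_singleton f))
    have hpne : p ≠ ⊥ := by
      intro h
      rw [h] at hfp
      exact hf (by simpa using hfp)
    have hpmax : p.IsMaximal := hp.1.1.isMaximal hpne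
    have : p = q.asIdeal := hpmax.eq_of_le q.2.ne_top hpq
    rwa [← this]
  · intro a _ b _ hab
    exact PrimeSpectrum.ext hab

open PrimeSpectrum in
theorem key (A : Type u) [CommRing A] [IsDedekindDomain A]
    (U : TopologicalSpace.Opens (PrimeSpectrum A)) (x : PrimeSpectrum A) :
    ∃ g : A, x ∈ PrimeSpectrum.basicOpen g ∧
      ∃ h : A, U ⊓ PrimeSpectrum.basicOpen g = PrimeSpectrum.basicOpen h := by
  by_cases hxU : x ∈ U
  · obtain ⟨v, ⟨g, rfl⟩, hxg, hgU⟩ :=
      PrimeSpectrum.isTopologicalBasis_basic_opens.exists_subset_of_mem_open hxU U.2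
    refine ⟨g, hxg, g, ?_⟩
    exact inf_eq_right.2 hgU
  · by_cases hU : U = ⊥
    · refine ⟨1, by simp, 0, ?_⟩
      rw [hU]; simp
    · -- U nonempty: vanishing ideal of complement nonzero
      set I := vanishingIdeal ((U : Set (PrimeSpectrum A))ᶜ) with hI
      have hV : zeroLocus (I : Set A) = (U : Set (PrimeSpectrum A))ᶜ := by
        rw [hI, zeroLocus_vanishingIdeal_eq_closure, IsClosed.closure_eq]
        exact U.2.isClosed_compl
      have hIne : I ≠ ⊥ := by
        intro h
        apply hU
        rw [h] at hV
        have : (U : Set (PrimeSpectrum A))ᶜ = Set.univ := by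
          rw [← hV]; simp
        ext y
        simp only [TopologicalSpace.Opens.coe_bot, Set.mem_empty_iff_false, iff_false]
        intro hy
        have : y ∈ (U : Set (PrimeSpectrum A))ᶜ := by rw [this]; trivial
        exact this hy
      obtain ⟨f, hfI, hf0⟩ := Submodule.exists_mem_ne_zero_of_ne_bot hIne
      have hVf : (U : Set (PrimeSpectrum A))ᶜ ⊆ zeroLocus ({f} : Set A) := by
        rw [← hV]
        exact zeroLocus_anti_mono (by simpa using hfI)
      have hfin := finite_zeroLocus A hf0
      set T := zeroLocus ({f} : Set A) \ {x} with hT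
      have hTfin : T.Finite := hfin.subset Set.sdiff_subset
      have hTcl : IsClosed T := by
        have : T = ⋃ q ∈ T, ({q} : Set (PrimeSpectrum A)) := by simp
        rw [this]
        refine Set.Finite.isClosed_biUnion hTfin ?_
        intro q hq
        rw [PrimeSpectrum.isClosed_singleton_iff_isMaximal]
        have hfq : f ∈ q.asIdeal := by
          have := hq.1
          rw [mem_zeroLocus] at this
          exact this (Set.mem_singleton f)
        apply q.2.isMaximal
        intro h
        rw [h] at hfq
        exact hf0 (by simpa using hfq)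
      have hxT : x ∈ Tᶜ := fun h => h.2 rfl
      obtain ⟨v, ⟨g, rfl⟩, hxg, hgT⟩ :=
        PrimeSpectrum.isTopologicalBasis_basic_opens.exists_subset_of_mem_open hxT
          hTcl.isOpen_compl
      refine ⟨g, hxg, f * g, ?_⟩
      rw [PrimeSpectrum.basicOpen_mul]
      ext q
      simp only [TopologicalSpace.Opens.coe_inf, Set.mem_inter_iff, SetLike.mem_coe]
      constructor
      · rintro ⟨hqU, hqg⟩
        refine ⟨?_, hqg⟩
        have hqT : q ∉ T := hgT hqg
        rw [PrimeSpectrum.mem_basicOpen]
        intro hfq
        apply hqT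
        refine ⟨?_, ?_⟩
        · rw [mem_zeroLocus]; simpa using hfq
        · rintro rfl
          exact hxU hqU
      · rintro ⟨hqf, hqg⟩
        refine ⟨?_, hqg⟩
        by_contra hqU
        have : q ∈ zeroLocus ({f} : Set A) := hVf hqU
        rw [mem_zeroLocus] at this
        rw [PrimeSpectrum.mem_basicOpen] at hqf
        exact hqf (this (Set.mem_singleton f))


/-- Every open subscheme of the spectrum of a Dedekind domain is affine. -/
theorem result (A : Type u) [CommRing A] [IsDedekindDomain A]
    (U : (Spec (CommRingCat.of A)).Opens) : IsAffineOpen U := by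
  have : IsAffineHom U.ι := by
    apply isAffineHom_of_forall_exists_isAffineOpen
    intro x
    obtain ⟨g, hxg, h, hh⟩ := key A U x
    refine ⟨PrimeSpectrum.basicOpen g, hxg, IsAffineOpen.Spec_basicOpen (R := CommRingCat.of A) g, ?_⟩
    rw [← U.ι.isAffineOpen_iff_of_isOpenImmersion, Scheme.Hom.image_preimage_eq_opensRange_inf,
      Scheme.Opens.opensRange_ι]
    have : U ⊓ PrimeSpectrum.basicOpen g = PrimeSpectrum.basicOpen h := hh
    rw [this]
    exact IsAffineOpen.Spec_basicOpen (R := CommRingCat.of A) h
  exact isAffine_of_isAffineHom U.ι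

end Groth.Agent.S10871
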