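import Groth.Statements.S10877
import Mathlib

set_option autoImplicit false
universe u
open CategoryTheory AlgebraicGeometry
open FlatMor

namespace Groth.Agent.S10877

open AlgebraicGeometry CategoryTheory Limits in
/-- Two morphisms over a separated base which agree on a dominant source agree pointwise. -/
lemma pointwise_eq_of_dominant {W T X Y : Scheme.{u}} (a b : W ⟶ X) (f : X ⟶ Y) [IsSeparated f]
    (h : a ≫ f = b ≫ f) (ι : T ⟶ W) [IsDominant ι] (hι : ι ≫ a = ι ≫ b) (w : W) :
    a w = b w := by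
  let X' : Over Y := Over.mk (a ≫ f)
  let Y' : Over Y := Over.mk f
  let U' : Over Y := Over.mk (ι ≫ a ≫ f)
  let f' : X' ⟶ Y' := Over.homMk a
  let g' : X' ⟶ Y' := Over.homMk b (by simpa [X', Y'] using h.symm)
  let ι' : U' ⟶ X' := Over.homMk ι
  have : IsSeparated Y'.hom := ‹_›
  have : IsDominant (equalizer.ι f' g').left := by
    apply +allowSynthFailures IsDominant.of_comp (equalizer.lift ι' ?_).left
    · rwa [← Over.comp_left, equalizer.lift_ι]
    · ext1; exact hι
  have : Surjective (equalizer.ι f' g').left :=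
    surjective_of_isDominant_of_isClosed_range _ (Scheme.Hom.isClosedEmbedding _).isClosed_range
  obtain ⟨e, rfl⟩ := (equalizer.ι f' g').left.surjective w
  have := congr($(equalizer.condition f' g').left)
  simp only [Over.comp_left] at this
  change ((equalizer.ι f' g').left ≫ a) e = ((equalizer.ι f' g').left ≫ b) e
  exact congr($(this) e)


open AlgebraicGeometry CategoryTheory Limits in
/-- key containment: `U i ∩ f⁻¹ (f (U j)) ⊆ U j`. -/
lemma key {X Y : Scheme.{u}} (f : X ⟶ Y) [IsSeparated f] (Ui Uj : X.Opens)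
    (hdj : Dense (Uj : Set X)) (hj : IsOpenImmersion (Uj.ι ≫ f))
    (x : X) (hxi : x ∈ Ui) (hfx : f x ∈ Set.range (Uj.ι ≫ f)) : x ∈ Uj := by
  let gj := Uj.ι ≫ f
  let W : X.Opens := Ui ⊓ f ⁻¹ᵁ gj.opensRange
  have hxW : x ∈ W := ⟨hxi, hfx⟩
  let T : X.Opens := Ui ⊓ Uj
  have hTW : T ≤ W := by
    rintro w ⟨hwi, hwj⟩
    exact ⟨hwi, ⟨⟨w, hwj⟩, rfl⟩⟩
  have hTj : T ≤ Uj := inf_le_right
  have Hrange : Set.range (W.ι ≫ f) ⊆ Set.range gj := by
    rintro _ ⟨w, rfl⟩
    exact w.2.2
  let s : W.toScheme ⟶ Uj.toScheme := IsOpenImmersion.lift gj (W.ι ≫ f) Hrange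
  have hs : s ≫ gj = W.ι ≫ f := IsOpenImmersion.lift_fac _ _ _
  let a : W.toScheme ⟶ X := W.ι
  let b : W.toScheme ⟶ X := s ≫ Uj.ι
  have hab : a ≫ f = b ≫ f := by
    simp only [a, b, Category.assoc]
    exact hs.symm
  let ι : T.toScheme ⟶ W.toScheme := X.homOfLE hTW
  have hιs : ι ≫ s = X.homOfLE hTj := by
    rw [← cancel_mono gj, Category.assoc, hs]
    simp only [ι, gj, Scheme.homOfLE_ι_assoc]
  have hι : ι ≫ a = ι ≫ b := by
    simp only [a, b, ← Category.assoc, hιs]
    simp only [ι, Scheme.homOfLE_ι]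
  have hdom : IsDominant ι := by
    constructor
    rw [DenseRange, dense_iff_inter_open]
    intro O hO hOne
    obtain ⟨w, hw⟩ := hOne
    -- image of O in X is open
    have hO' : IsOpen (W.ι '' O) := W.ι.isOpenEmbedding.isOpenMap O hO
    obtain ⟨y, hy1, hy2⟩ := (hdj.inter_open_nonempty _ hO' ⟨W.ι w, w, hw, rfl⟩)
    obtain ⟨w', hw', rfl⟩ := hy1
    refine ⟨w', hw', ?_⟩
    have hw'T : W.ι w' ∈ T := ⟨w'.2.1, hy2⟩
    let t : T.toScheme := ⟨W.ι w', hw'T⟩
    refine ⟨t, ?_⟩
    apply W.ι.isOpenEmbedding.injective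
    have e1 : ι ≫ W.ι = T.ι := X.homOfLE_ι hTW
    have e2 : W.ι (ι t) = T.ι t := by
      rw [← e1, Scheme.Hom.comp_apply]
    exact e2
  have := pointwise_eq_of_dominant a b f hab ι hι ⟨x, hxW⟩
  have hax : a ⟨x, hxW⟩ = x := rfl
  rw [hax] at this
  rw [this]
  exact (s ⟨x, hxW⟩).2

/-- A separated morphism f : X → Y, with X having finitely many irreducible components, which restricts
to an open immersion on each member of a cover of X by dense open subsets, is an open immersion. -/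
theorem result {X Y : Scheme.{u}} (f : X ⟶ Y) [IsSeparated f]
    (hfin : (irreducibleComponents (X : Type u)).Finite) {ι : Type u} (U : ι → X.Opens)
    (hU : ⨆ i, U i = ⊤) (hd : ∀ i, Dense (U i : Set X)) (h : ∀ i, IsOpenImmersion ((U i).ι ≫ f)) :
    IsOpenImmersion f := by
  have hinj : Function.Injective f := by
    intro x x' hxx'
    have hx : x ∈ (⨆ i, U i) := by rw [hU]; trivial
    have hx' : x' ∈ (⨆ i, U i) := by rw [hU]; trivial
    obtain ⟨i, hxi⟩ := TopologicalSpace.Opens.mem_iSup.mp hx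
    obtain ⟨j, hxj'⟩ := TopologicalSpace.Opens.mem_iSup.mp hx'
    have hxj : x ∈ U j := by
      refine key f (U i) (U j) (hd j) (h j) x hxi ?_
      rw [hxx']
      exact ⟨⟨x', hxj'⟩, rfl⟩
    have hj := h j
    have : (⟨x, hxj⟩ : U j) = ⟨x', hxj'⟩ := by
      apply ((U j).ι ≫ f).isOpenEmbedding.injective
      exact hxx'
    exact congrArg Subtype.val this
  refine IsOpenImmersion.of_forall_source_exists f hinj ?_
  intro x
  have hx : x ∈ (⨆ i, U i) := by rw [hU]; trivial
  obtain ⟨i, hxi⟩ := TopologicalSpace.Opens.mem_iSup.mp hx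
  exact ⟨U i, (U i).ι, inferInstance, by simpa using hxi, h i⟩

end Groth.Agent.S10877
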