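import Groth.Statements.S10878
import Mathlib


set_option autoImplicit false
universe u
open CategoryTheory AlgebraicGeometry
open FlatMor

namespace Groth.Agent.S10878

set_option linter.style.haveILetI false

open AlgebraicGeometry CategoryTheory Limits in
/-- Two morphisms over a separated base which agree on a dominant source agree pointwise. -/
lemma pointwise_eq_of_dominant {W T X Y : Scheme.{u}} (a b : W ⟶ X) (f : X ⟶ Y) [IsSeparated f]
    (h : a ≫ f = b ≫ f) (ι : T ⟶ W) [IsDominant ι] (hι : ι ≫ a = ι ≫ b) (w : W) :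
    a w = b w := by
  let X' : Over Y := Over.mk (a ≫ f)
  let Y' : Over Y := Over.mk f
  let U' : Over Y := Over.mk (ι ≫ a ≫ f)
  let f' : X' ⟶ Y' := Over.homMk a
  let g' : X' ⟶ Y' := Over.homMk b (by simpa [X', Y'] using h.symm)
  let ι' : U' ⟶ X' := Over.homMk ι
  have : IsSeparated Y'.hom := ‹_›
  have : IsDominant (equalizer.ι f' g').left := by
    apply +allowSynthFailures IsDominant.of_comp (equalizer.lift ι' ?_).left
    · rwa [← Over.comp_left, equalizer.lift_ι]
    · ext1; exact hι
  have : Surjective (equalizer.ι f' g').left :=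
    surjective_of_isDominant_of_isClosed_range _ (Scheme.Hom.isClosedEmbedding _).isClosed_range
  obtain ⟨e, rfl⟩ := (equalizer.ι f' g').left.surjective w
  have := congr($(equalizer.condition f' g').left)
  simp only [Over.comp_left] at this
  change ((equalizer.ι f' g').left ≫ a) e = ((equalizer.ι f' g').left ≫ b) e
  exact congr($(this) e)

open Limits in
/-- key: points of `U i` and `U j` with the same image are equal. -/
lemma key {X Y : Scheme.{u}} (f : X ⟶ Y) [IsSeparated f] (Ui Uj : X.Opens)
    (hdj : Dense (Uj : Set X)) (hj : IsImmersion (Uj.ι ≫ f))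
    (x x' : X) (hxi : x ∈ Ui) (hxj : x' ∈ Uj) (hfx : f x = f x') : x = x' := by
  let gi := Ui.ι ≫ f
  let gj := Uj.ι ≫ f
  let P := pullback gi gj
  let a : P ⟶ X := pullback.fst gi gj ≫ Ui.ι
  let b : P ⟶ X := pullback.snd gi gj ≫ Uj.ι
  have hab : a ≫ f = b ≫ f := by
    simp only [a, b, Category.assoc]
    exact pullback.condition
  let T : X.Opens := Ui ⊓ Uj
  let ι : T.toScheme ⟶ P := pullback.lift (X.homOfLE inf_le_left) (X.homOfLE inf_le_right)
    (by simp [gi, gj])
  have hι1 : ι ≫ pullback.fst gi gj = X.homOfLE inf_le_left := pullback.lift_fst _ _ _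
  have hι2 : ι ≫ pullback.snd gi gj = X.homOfLE inf_le_right := pullback.lift_snd _ _ _
  have hι : ι ≫ a = ι ≫ b := by
    change ι ≫ pullback.fst gi gj ≫ Ui.ι = ι ≫ pullback.snd gi gj ≫ Uj.ι
    rw [← Category.assoc, ← Category.assoc, hι1, hι2, X.homOfLE_ι, X.homOfLE_ι]
  have hfst : IsImmersion (pullback.fst gi gj) := inferInstance
  have hdom : IsDominant ι := by
    constructor
    have hemb : Topology.IsEmbedding (pullback.fst gi gj) := (pullback.fst gi gj).isEmbedding
    have hcomp : ι ≫ pullback.fst gi gj = X.homOfLE inf_le_left := hι1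
    rw [DenseRange, dense_iff_closure_eq, hemb.isInducing.closure_eq_preimage_closure_image,
      ← Set.range_comp]
    have : Dense (Set.range ((pullback.fst gi gj) ∘ ι)) := by
      have h1 : Dense (Subtype.val ⁻¹' (Uj : Set X) : Set Ui) :=
        hdj.preimage Ui.2.isOpenMap_subtype_val
      refine h1.mono ?_
      rintro ⟨w, hwi⟩ hwj
      refine ⟨⟨w, ⟨hwi, hwj⟩⟩, ?_⟩
      change (ι ≫ pullback.fst gi gj) _ = _
      rw [hcomp]
      apply Ui.ι.isOpenEmbedding.injective
      change (X.homOfLE _ ≫ Ui.ι) _ = _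
      rw [X.homOfLE_ι]
      rfl
    rw [this.closure_eq, Set.preimage_univ]
  obtain ⟨z, hz1, hz2⟩ := Scheme.Pullback.exists_preimage_pullback (f := gi) (g := gj)
    ⟨x, hxi⟩ ⟨x', hxj⟩ hfx
  have := pointwise_eq_of_dominant a b f hab ι hι z
  have ha : a z = x := by
    change Ui.ι (pullback.fst gi gj z) = x
    rw [hz1]; rfl
  have hb : b z = x' := by
    change Uj.ι (pullback.snd gi gj z) = x'
    rw [hz2]; rfl
  rw [ha, hb] at this
  exact this

theorem main {X Y : Scheme.{u}} (f : X ⟶ Y) [IsSeparated f]
    {ι : Type u} (U : ι → X.Opens)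
    (hU : ⨆ i, U i = ⊤) (hd : ∀ i, Dense (U i : Set X)) (h : ∀ i, IsImmersion ((U i).ι ≫ f)) :
    IsImmersion f := by
  have hcov : ∀ x : X, ∃ i, x ∈ U i := fun x => by
    have hx : x ∈ (⨆ i, U i) := by rw [hU]; trivial
    exact TopologicalSpace.Opens.mem_iSup.mp hx
  -- injectivity
  have hinj : Function.Injective f := by
    intro x x' hxx'
    obtain ⟨i, hxi⟩ := hcov x
    obtain ⟨j, hxj⟩ := hcov x'
    exact key f (U i) (U j) (hd j) (h j) x x' hxi hxj hxx'
  -- range of g_i
  have hrange : ∀ i, Set.range ((U i).ι ≫ f) = f '' (U i : Set X) := by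
    intro i
    rw [Scheme.Hom.comp_base, TopCat.coe_comp, Set.range_comp, Scheme.Opens.range_ι]
  -- V_i
  let V : ι → Set Y := fun i => coborder (f '' (U i : Set X))
  have hVopen : ∀ i, IsOpen (V i) := fun i => by
    have := (h i).isLocallyClosed_range
    rw [hrange] at this
    exact this.isOpen_coborder
  -- saturation
  have hsat : ∀ i, f ⁻¹' (V i) = (U i : Set X) := by
    intro i
    apply Set.Subset.antisymm
    · intro x hx
      have hxcl : f x ∈ closure (f '' (U i : Set X)) := by
        have : x ∈ closure (U i : Set X) := by rw [(hd i).closure_eq]; trivial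
        exact image_closure_subset_closure_image f.continuous ⟨x, this, rfl⟩
      have : f x ∈ f '' (U i : Set X) := by
        rw [← coborder_inter_closure (s := f '' (U i : Set X))]
        exact ⟨hx, hxcl⟩
      obtain ⟨x', hx', hxx'⟩ := this
      rw [← hinj hxx']; exact hx'
    · intro x hx
      exact subset_coborder ⟨x, hx, rfl⟩
  -- SurjectiveOnStalks
  have hsurj : SurjectiveOnStalks f :=
    IsZariskiLocalAtSource.of_iSup_eq_top U hU (fun i => inferInstance)
  -- inducing
  have hind : Topology.IsInducing f := by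
    rw [Topology.isInducing_iff]
    apply TopologicalSpace.ext_iff.mpr
    intro s
    rw [isOpen_induced_iff]
    constructor
    · intro hs
      have : ∀ i, ∃ t : Set Y, IsOpen t ∧ ((U i).ι ≫ f) ⁻¹' t = (U i).ι ⁻¹' s := by
        intro i
        have hemb : Topology.IsEmbedding ((U i).ι ≫ f) := ((U i).ι ≫ f).isEmbedding
        exact (hemb.isInducing.isOpen_iff).mp (hs.preimage (U i).ι.continuous)
      choose t ht1 ht2 using this
      refine ⟨⋃ i, t i ∩ V i, isOpen_iUnion fun i => (ht1 i).inter (hVopen i), ?_⟩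
      ext x
      simp only [Set.preimage_iUnion, Set.mem_iUnion, Set.mem_preimage, Set.mem_inter_iff]
      constructor
      · rintro ⟨i, hxt, hxV⟩
        have hxU : x ∈ (U i : Set X) := by rw [← hsat i]; exact hxV
        have : (⟨x, hxU⟩ : U i) ∈ ((U i).ι ≫ f) ⁻¹' t i := hxt
        rw [ht2 i] at this
        exact this
      · intro hxs
        obtain ⟨i, hxi⟩ := hcov x
        refine ⟨i, ?_, ?_⟩
        · have : (⟨x, hxi⟩ : U i) ∈ ((U i).ι ≫ f) ⁻¹' t i := by
            rw [ht2 i]; exact hxs
          exact this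
        · have : x ∈ f ⁻¹' (V i) := by rw [hsat i]; exact hxi
          exact this
    · rintro ⟨t, ht, rfl⟩
      exact ht.preimage f.continuous
  -- locally closed range
  have hlc : IsLocallyClosed (Set.range f) := by
    refine ⟨⋃ i, V i, closure (Set.range f), isOpen_iUnion hVopen, isClosed_closure, ?_⟩
    apply Set.Subset.antisymm
    · rintro _ ⟨x, rfl⟩
      obtain ⟨i, hxi⟩ := hcov x
      exact ⟨Set.mem_iUnion.mpr ⟨i, subset_coborder ⟨x, hxi, rfl⟩⟩, subset_closure ⟨x, rfl⟩⟩
    · rintro y ⟨hyV, hycl⟩
      obtain ⟨i, hyi⟩ := Set.mem_iUnion.mp hyV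
      have h1 : y ∈ closure (V i ∩ Set.range f) := (hVopen i).inter_closure ⟨hyi, hycl⟩
      have h2 : V i ∩ Set.range f = f '' (U i : Set X) := by
        rw [← hsat i, Set.image_preimage_eq_inter_range]
      rw [h2] at h1
      have : y ∈ f '' (U i : Set X) := by
        rw [← coborder_inter_closure (s := f '' (U i : Set X))]
        exact ⟨hyi, h1⟩
      exact Set.image_subset_range _ _ this
  exact { toIsPreimmersion := { toSurjectiveOnStalks := hsurj, isEmbedding := ⟨hind, hinj⟩ }
          isLocallyClosed_range := hlc }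



/-- A separated morphism f : X → Y, with X having finitely many irreducible components, which restricts
to an immersion on each member of a cover of X by dense open subsets, is an immersion. -/
theorem result {X Y : Scheme.{u}} (f : X ⟶ Y) [IsSeparated f]
    (hfin : (irreducibleComponents (X : Type u)).Finite) {ι : Type u} (U : ι → X.Opens)
    (hU : ⨆ i, U i = ⊤) (hd : ∀ i, Dense (U i : Set X)) (h : ∀ i, IsImmersion ((U i).ι ≫ f)) :
    IsImmersion f := by
  exact main f U hU hd h

end Groth.Agent.S10878
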