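import Groth.Statements.S1088
import Mathlib
import Groth.Agent.Lib.Helper25.FilDTrunc
import Groth.Agent.S1085

set_option autoImplicit false
universe v u
open CategoryTheory CategoryTheory.Limits Opposite
open FilD

namespace Groth.Agent.S1088

open Groth.Agent.Lib.helper25.FilDTrunc

section

variable {A : Type u} [Category.{v} A] [Abelian A] (K : CochainComplex (FilD.FilF A) ℤ) (b : ℤ)

/-- The morphisms whose kernels define the truncation: `𝟙` above `b`, the differential at `b`,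
zero below `b`. -/
noncomputable def U (n : ℤ) : Σ W : FilD.FilF A, (K.X n ⟶ W) :=
  if b < n then ⟨K.X n, 𝟙 _⟩ else if n = b then ⟨K.X (n + 1), K.d n (n + 1)⟩ else ⟨K.X n, 0⟩

noncomputable def Wb (n : ℤ) : FilD.FilF A := (U K b n).1

noncomputable def ub (n : ℤ) : K.X n ⟶ Wb K b n := (U K b n).2

lemma ub_rec_lt (n : ℤ) (h : b < n) (P : ∀ (W : FilD.FilF A), (K.X n ⟶ W) → Prop) :
    P (Wb K b n) (ub K b n) ↔ P (K.X n) (𝟙 _) := by
  unfold ub Wb
  rw [show U K b n = ⟨K.X n, 𝟙 _⟩ from if_pos h]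

lemma ub_rec_self (P : ∀ (W : FilD.FilF A), (K.X b ⟶ W) → Prop) :
    P (Wb K b b) (ub K b b) ↔ P (K.X (b + 1)) (K.d b (b + 1)) := by
  unfold ub Wb
  rw [show U K b b = ⟨K.X (b + 1), K.d b (b + 1)⟩ from (if_neg (lt_irrefl b)).trans (if_pos rfl)]

lemma ub_rec_gt (n : ℤ) (h : n < b) (P : ∀ (W : FilD.FilF A), (K.X n ⟶ W) → Prop) :
    P (Wb K b n) (ub K b n) ↔ P (K.X n) 0 := by
  unfold ub Wb
  rw [show U K b n = ⟨K.X n, 0⟩ from
    (if_neg (not_lt.2 h.le)).trans (if_neg (ne_of_lt h))]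

lemma ub_of_gt (n : ℤ) (h : n < b) : ub K b n = 0 :=
  (ub_rec_gt K b n h (fun W f => f = 0)).2 rfl

lemma comp_ub_of_lt (n : ℤ) (h : b < n) {Z : FilD.FilF A} (f : Z ⟶ K.X n) :
    f ≫ ub K b n = 0 ↔ f = 0 :=
  (ub_rec_lt K b n h (fun W g => f ≫ g = 0 ↔ f = 0)).2 (by rw [Category.comp_id])

lemma comp_ub_self {Z : FilD.FilF A} (f : Z ⟶ K.X b) :
    f ≫ ub K b b = 0 ↔ f ≫ K.d b (b + 1) = 0 :=
  (ub_rec_self K b (fun W g => f ≫ g = 0 ↔ f ≫ K.d b (b + 1) = 0)).2 Iff.rfl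

lemma isStrict_ub_self (h : FilD.IsStrict (K.d b (b + 1))) : FilD.IsStrict (ub K b b) :=
  (ub_rec_self K b (fun W g => FilD.IsStrict g)).2 h

lemma comp_gr_ub_self (p : ℤ) ⦃T : A⦄ (y : T ⟶ (FilD.gr A p).obj (K.X b).obj)
    (hy : y ≫ (FilD.gr A p).map (K.d b (b + 1)).hom = 0) :
    y ≫ (FilD.gr A p).map (ub K b b).hom = 0 :=
  (ub_rec_self K b (fun W g => y ≫ (FilD.gr A p).map g.hom = 0)).2 hy

lemma kerι_eq_zero (n : ℤ) (h : b < n) : kerι K (Wb K b) (ub K b) n = 0 :=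
  (comp_ub_of_lt K b n h _).1 (kerι_u K (Wb K b) (ub K b) n)

lemma H (n m : ℤ) : kerι K (Wb K b) (ub K b) n ≫ K.d n m ≫ ub K b m = 0 := by
  by_cases hnm : n + 1 = m
  · subst hnm
    rcases lt_trichotomy (n + 1) b with hm | hm | hm
    · rw [ub_of_gt K b (n + 1) hm, comp_zero, comp_zero]
    · subst hm
      rw [← Category.assoc, comp_ub_self, Category.assoc, K.d_comp_d, comp_zero]
    · rw [← Category.assoc, comp_ub_of_lt K b (n + 1) hm]
      by_cases hn : b < n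
      · rw [kerι_eq_zero K b n hn, zero_comp]
      · obtain rfl : n = b := by omega
        exact (comp_ub_self K n _).1 (kerι_u K (Wb K n) (ub K n) n)
  · rw [K.shape n m hnm, zero_comp, comp_zero]

end

/-- Let K be a cochain complex of finite filtered objects of an abelian category such that Hⁿ(grᵖ K) = 0
for all p and all n > b. Then there is a filtered quasi-isomorphism M ⟶ K with Mⁿ = 0 for all n > b. -/
theorem result {A : Type u} [Category.{v} A] [Abelian A] (K : CochainComplex (FilD.FilF A) ℤ) (b : ℤ)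
    (hK : ∀ (p n : ℤ), b < n → IsZero (((FilD.grCx p).obj K).homology n)) :
    ∃ (M : CochainComplex (FilD.FilF A) ℤ) (φ : M ⟶ K), M.IsStrictlyLE b ∧ FilD.IsFilteredQuasiIso φ := by
  have hex : ∀ p : ℤ, ((ShortComplex.mk (K.d b (b + 1)) (K.d (b + 1) (b + 1 + 1))
      (K.d_comp_d _ _ _)).map (FilD.grF A p)).Exact := by
    intro p
    have h1 : ((FilD.grCx p).obj K).ExactAt (b + 1) := by
      rw [HomologicalComplex.exactAt_iff_isZero_homology]
      exact hK p (b + 1) (by omega)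
    rw [HomologicalComplex.exactAt_iff' _ b (b + 1) (b + 1 + 1) (by simp) (by simp)] at h1
    exact h1
  have hstr : FilD.IsStrict (K.d b (b + 1)) :=
    (Groth.Agent.S1085.result (ShortComplex.mk (K.d b (b + 1)) (K.d (b + 1) (b + 1 + 1))
      (K.d_comp_d _ _ _)) hex).2.1
  refine ⟨kerCx K (Wb K b) (ub K b) (H K b), kerCxι K (Wb K b) (ub K b) (H K b),
    kerCx_isStrictlyLE K (Wb K b) (ub K b) (H K b) b (kerι_eq_zero K b), ?_⟩
  exact kerCxι_filteredQuasiIso K (Wb K b) (ub K b) (H K b) b (ub_of_gt K b) (kerι_eq_zero K b)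
    (isStrict_ub_self K b hstr) (comp_gr_ub_self K b) hK

end Groth.Agent.S1088
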