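import Groth.Statements.S10880
import Mathlib
import Groth.Agent.Lib.Helper17.DvrFlat

set_option autoImplicit false
universe u
open CategoryTheory AlgebraicGeometry
open FlatMor

namespace Groth.Agent.S10880

/-- Let R be a discrete valuation ring and X a locally Noetherian scheme over Spec R whose
scheme-theoretic special fibre is reduced and such that every maximal point of the special fibre
lies in the closure of the generic fibre, i.e. the generic fibre is dense in X. Then X is flat over
R. -/
theorem result (R : Type u) [CommRing R] [IsDomain R]
    [IsDiscreteValuationRing R] {X : Scheme.{u}} (f : X ⟶ Spec (CommRingCat.of R)) [IsLocallyNoetherian X]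
    (hred : IsReduced (f.fiber (IsLocalRing.closedPoint R)))
    (hdense : Dense (f.base ⁻¹' {genericPoint (Spec (CommRingCat.of R))})) : Flat f := by
  haveI : IsDedekindDomain R := inferInstance
  refine Groth.Agent.Lib.helper17.DvrFlat.flat_of_reduced_fibres_of_dense f ?_ ?_
  · intro s hs
    have hs' : s = IsLocalRing.closedPoint R := by
      have hmax : s.asIdeal.IsMaximal := Ideal.IsPrime.isMaximal s.isPrime hs
      apply PrimeSpectrum.ext
      exact IsLocalRing.eq_maximalIdeal hmax
    rw [hs']
    exact hred
  · have hset : {y : X | (f.base y).asIdeal = ⊥} =
        f.base ⁻¹' {genericPoint (Spec (CommRingCat.of R))} := by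
      ext y
      rw [Set.mem_preimage, Set.mem_singleton_iff, genericPoint_eq_bot_of_affine (CommRingCat.of R)]
      constructor
      · intro h
        exact PrimeSpectrum.ext h
      · intro h
        exact congrArg PrimeSpectrum.asIdeal h
    rw [hset]
    exact hdense

end Groth.Agent.S10880
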