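import Groth.Statements.S10882
import Mathlib
import Groth.Agent.Lib.Helper3.FlatFibreDim
import Groth.Agent.Lib.Helper3.RelDim
import Groth.Agent.Lib.Helper17.FibreDim
import Groth.Agent.S2082

set_option autoImplicit false
universe u
open CategoryTheory AlgebraicGeometry
open FlatMor

namespace Groth.Agent.S10882


open Groth.Agent.Lib.helper3.DimIneq Groth.Agent.Lib.helper3.FTField
  Groth.Agent.Lib.helper3.FibreField Groth.Agent.Lib.helper3.IrredDim
  Groth.Agent.Lib.helper3.EquidimAt Groth.Agent.Lib.helper3.QFinTop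
  Groth.Agent.Lib.helper3.RelDim

/-- irreducible components and their dimensions are transported by homeomorphisms. -/
theorem image_mem_irreducibleComponents {A B : Type*} [TopologicalSpace A] [TopologicalSpace B]
    (h : A ≃ₜ B) (T : Set A) (hT : T ∈ irreducibleComponents A) :
    h '' T ∈ irreducibleComponents B := by
  refine ⟨hT.1.image h h.continuous.continuousOn, ?_⟩
  intro W hW hTW
  have h1 : T ⊆ h.symm '' W := by
    intro t ht
    exact ⟨h t, hTW ⟨t, ht, rfl⟩, by simp⟩
  have h2 := hT.2 (hW.image h.symm h.symm.continuous.continuousOn) h1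
  intro w hw
  exact ⟨h.symm w, h2 ⟨w, hw, rfl⟩, by simp⟩

theorem dim_image_eq {A B : Type*} [TopologicalSpace A] [TopologicalSpace B]
    (h : A ≃ₜ B) (T : Set A) :
    topologicalKrullDim ↥(h '' T) = topologicalKrullDim ↥T :=
  (IsHomeomorph.topologicalKrullDim_eq _ (h.image T).isHomeomorph).symm


/-- Let X and Y be schemes locally of finite type over a field k and f : X → Y a k-morphism, with Y
regular (all local rings regular), X Cohen–Macaulay (all local rings Cohen–Macaulay), X
equidimensional of dimension e, Y equidimensional of dimension d ≤ e, and all fibres of f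
equidimensional of dimension e − d (every irreducible component of every fibre has dimension e − d).
Then f is flat. -/
theorem result (k : Type u) [Field k] {X Y : Scheme.{u}}
    (q : Y ⟶ Spec (CommRingCat.of k)) [LocallyOfFiniteType q] (f : X ⟶ Y) [LocallyOfFiniteType (f ≫ q)]
    (hY : ∀ y : Y, IsRegularLocalRing (Y.presheaf.stalk y))
    (hX : ∀ x : X, LocCoh.IsCohenMacaulayLocalRing (X.presheaf.stalk x))
    (e d : ℕ) (hde : d ≤ e)
    (hXe : ∀ Z ∈ irreducibleComponents (X : Type u), topologicalKrullDim Z = e)
    (hYd : ∀ Z ∈ irreducibleComponents (Y : Type u), topologicalKrullDim Z = d)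
    (hfib : ∀ y : Y, ∀ Z ∈ irreducibleComponents (f.base ⁻¹' {y}), topologicalKrullDim Z = (e - d : ℕ)) :
    Flat f := by
  let _ : X.Over (Spec (CommRingCat.of k)) := ⟨f ≫ q⟩
  let _ : Y.Over (Spec (CommRingCat.of k)) := ⟨q⟩
  have : LocallyOfFiniteType (X ↘ Spec (CommRingCat.of k)) := ‹LocallyOfFiniteType (f ≫ q)›
  have : LocallyOfFiniteType (Y ↘ Spec (CommRingCat.of k)) := ‹LocallyOfFiniteType q›
  have : IsLocallyNoetherian X := isLocallyNoetherian_of_lft k X
  have : IsLocallyNoetherian Y := isLocallyNoetherian_of_lft k Y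
  have : LocallyOfFiniteType f := locallyOfFiniteType_of_comp f q
  rw [Flat.iff_flat_stalkMap]
  intro x
  set y := f.base x with hy
  let _ := fiberOver f y
  have : LocallyOfFiniteType ((f.fiber y) ↘ Spec (CommRingCat.of (Y.residueField y))) :=
    locallyOfFiniteType_fiber f y
  -- the fibre is equidimensional of dimension `e - d`
  have hF : ∀ T ∈ irreducibleComponents (f.fiber y : Type u),
      topologicalKrullDim ↥T = ((e - d : ℕ) : WithBot ℕ∞) := by
    intro T hT
    have h1 := image_mem_irreducibleComponents (f.fiberHomeo y) T hT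
    have h2 := hfib y _ h1
    rw [← h2]
    exact (dim_image_eq (f.fiberHomeo y) T).symm
  -- local dimensions
  have hlX := localDim_eq_of_forall_irreducibleComponents k X e hXe x
  have hlY := localDim_eq_of_forall_irreducibleComponents k Y d hYd y
  have hlF := localDim_eq_of_forall_irreducibleComponents (Y.residueField y) (f.fiber y) (e - d) hF
    (f.asFiber x)
  obtain ⟨a, b, ha, hb, hlX'⟩ := localDim_eq_trdeg_add_stalk k X x
  obtain ⟨a', b', ha', hb', hlY'⟩ := localDim_eq_trdeg_add_stalk k Y y
  obtain ⟨a'', b'', ha'', hb'', hlF'⟩ :=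
    localDim_eq_trdeg_add_stalk (Y.residueField y) (f.fiber y) (f.asFiber x)
  rw [hlX] at hlX'
  rw [hlY] at hlY'
  rw [hlF] at hlF'
  have e1 : e = a + b := by exact_mod_cast hlX'
  have e2 : d = a' + b' := by exact_mod_cast hlY'
  have e3 : e - d = a'' + b'' := by exact_mod_cast hlF'
  have htd : td (f.residueFieldMap x).hom = (a'' : Cardinal.{u}) := by
    have h5 : td (Curv2.resMap (Y.residueField y) (f.fiber y) (f.asFiber x)) = a'' := ha''
    rw [td_resMap_fiber f y (f.asFiber x),
      td_residueFieldMap_congr f (f.fiberι_asFiber x)] at h5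
    exact h5
  have hadd := trdeg_residueField_add k (f ≫ q) q f rfl x
  have haa : a = a' + a'' := by
    have h1 : td (@Curv2.resMap k _ X ⟨f ≫ q⟩ x) = a := ha
    have h2 : td (@Curv2.resMap k _ Y ⟨q⟩ (f.base x)) = a' := ha'
    rw [h1, h2, htd] at hadd
    exact_mod_cast hadd
  have hbb : b = b' + b'' := by omega
  -- apply miracle flatness
  have := hY y
  have := hX x
  algebraize [(f.stalkMap x).hom]
  have : IsLocalHom (algebraMap (Y.presheaf.stalk (f x)) (X.presheaf.stalk x)) :=
    inferInstanceAs (IsLocalHom (f.stalkMap x).hom)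
  have hfib' := Groth.Agent.Lib.helper17.FibreDim.dim_fibRing f x
  refine Groth.Agent.S2082.result (R := Y.presheaf.stalk (f x)) (S := X.presheaf.stalk x) ?_
  change _ = _ + ringKrullDim (Groth.Agent.Lib.helper17.FibreStalk.FibRing f x)
  rw [hfib', hb, hb', hb'', hbb]
  push_cast
  rfl


end Groth.Agent.S10882
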