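import Groth.Statements.S10886
import Mathlib.AlgebraicGeometry.Noetherian
import Mathlib.Topology.KrullDimension
import Mathlib.Topology.NoetherianSpace
import Mathlib.Topology.Sober
import Mathlib.Topology.Constructible

set_option autoImplicit false
universe u
open CategoryTheory AlgebraicGeometry
open Curves

namespace Groth.Agent.S10886

/-- In an irreducible quasi-sober T₀ space of dimension one, a proper irreducible closed subset is
a closed point. -/
theorem eq_singleton_of_isIrreducible_isClosed {X : Type u} [TopologicalSpace X]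
    [IrreducibleSpace X] [QuasiSober X] [T0Space X] (hX : topologicalKrullDim X = 1)
    {T : Set X} (hTirr : IsIrreducible T) (hTcl : IsClosed T) (hne : T ≠ Set.univ) :
    ∃ t : X, T = {t} ∧ IsClosed ({t} : Set X) := by
  obtain ⟨t, ht⟩ := QuasiSober.sober hTirr hTcl
  have hle : Order.krullDim (TopologicalSpace.IrreducibleCloseds X) ≤ 1 := by
    have : topologicalKrullDim X ≤ 1 := hX.le
    exact this
  rw [Order.krullDim_le_one_iff] at hle
  let T' : TopologicalSpace.IrreducibleCloseds X := ⟨T, hTirr, hTcl⟩
  let top' : TopologicalSpace.IrreducibleCloseds X :=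
    ⟨Set.univ, IrreducibleSpace.isIrreducible_univ X, isClosed_univ⟩
  have hnotmax : ¬ IsMax T' := by
    intro hmax
    have h1 : T' ≤ top' := fun x _ => Set.mem_univ x
    have h2 : top' ≤ T' := hmax h1
    exact hne (Set.eq_univ_of_univ_subset h2)
  have hmin : IsMin T' := (hle T').resolve_right hnotmax
  have hsingle : T = {t} := by
    apply subset_antisymm
    · intro w hw
      let W' : TopologicalSpace.IrreducibleCloseds X :=
        ⟨closure {w}, isIrreducible_singleton.closure, isClosed_closure⟩
      have h1 : W' ≤ T' := closure_minimal (Set.singleton_subset_iff.mpr hw) hTcl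
      have h2 : T' ≤ W' := hmin h1
      have htw : w ⤳ t := specializes_iff_mem_closure.mpr (h2 ht.mem)
      have hwt : t ⤳ w := ht.specializes hw
      exact (htw.antisymm hwt).eq
    · exact Set.singleton_subset_iff.mpr ht.mem
  exact ⟨t, hsingle, hsingle ▸ hTcl⟩

/-- In a Noetherian irreducible quasi-sober T₀ space of dimension one, a proper closed subset is a
finite set of closed points. -/
theorem finite_of_isClosed_ne_univ {X : Type u} [TopologicalSpace X]
    [IrreducibleSpace X] [QuasiSober X] [T0Space X] [TopologicalSpace.NoetherianSpace X]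
    (hX : topologicalKrullDim X = 1) {Z : Set X} (hZ : IsClosed Z) (hne : Z ≠ Set.univ) :
    Z.Finite ∧ ∀ x ∈ Z, IsClosed ({x} : Set X) := by
  obtain ⟨S, hSfin, hScl, hSirr, rfl⟩ :=
    TopologicalSpace.NoetherianSpace.exists_finite_set_isClosed_irreducible hZ
  have hpiece : ∀ T ∈ S, ∃ t : X, T = {t} ∧ IsClosed ({t} : Set X) := by
    intro T hT
    refine eq_singleton_of_isIrreducible_isClosed hX (hSirr T hT) (hScl T hT) ?_
    intro hTu
    apply hne
    apply Set.eq_univ_of_univ_subset
    rw [← hTu]
    exact Set.subset_sUnion_of_mem hT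
  constructor
  · refine Set.Finite.sUnion hSfin fun T hT => ?_
    obtain ⟨t, rfl, -⟩ := hpiece T hT
    exact Set.finite_singleton t
  · rintro x ⟨T, hT, hxT⟩
    obtain ⟨t, rfl, htcl⟩ := hpiece T hT
    rw [Set.mem_singleton_iff] at hxT
    rw [hxT]
    exact htcl

/-- In an irreducible Noetherian scheme of dimension one every constructible subset is either a finite
set of closed points or the complement of such a set; in particular it is open or closed. -/
theorem result {X : Scheme.{u}} [IsNoetherian X]
    [IrreducibleSpace X] (hX : topologicalKrullDim X = 1) (s : Set X) (hs : Topology.IsConstructible s) :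
    (s.Finite ∧ (∀ x ∈ s, IsClosed ({x} : Set X))) ∨ (sᶜ.Finite ∧ ∀ x ∈ sᶜ, IsClosed ({x} : Set X)) := by
  induction hs using Topology.IsConstructible.empty_union_induction with
  | open_retrocompact U hUo hUr =>
    by_cases hU : U = ∅
    · left
      subst hU
      exact ⟨Set.finite_empty, fun x hx => absurd hx (Set.notMem_empty x)⟩
    · right
      refine finite_of_isClosed_ne_univ hX hUo.isClosed_compl ?_
      intro h
      apply hU
      rw [← compl_compl U, h, Set.compl_univ]
  | union s hs t ht hs' ht' =>
    rcases hs' with ⟨hsf, hsc⟩ | ⟨hsf, hsc⟩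
    · rcases ht' with ⟨htf, htc⟩ | ⟨htf, htc⟩
      · left
        refine ⟨hsf.union htf, ?_⟩
        rintro x (hx | hx)
        · exact hsc x hx
        · exact htc x hx
      · right
        have hsub : (s ∪ t)ᶜ ⊆ tᶜ := Set.compl_subset_compl.mpr Set.subset_union_right
        exact ⟨htf.subset hsub, fun x hx => htc x (hsub hx)⟩
    · right
      have hsub : (s ∪ t)ᶜ ⊆ sᶜ := Set.compl_subset_compl.mpr Set.subset_union_left
      exact ⟨hsf.subset hsub, fun x hx => hsc x (hsub hx)⟩
  | compl s hs hs' =>
    rcases hs' with ⟨hsf, hsc⟩ | ⟨hsf, hsc⟩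
    · right
      rw [compl_compl]
      exact ⟨hsf, hsc⟩
    · left
      exact ⟨hsf, hsc⟩

end Groth.Agent.S10886
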