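import Groth.Statements.S10887
import Mathlib
import Groth.Agent.Lib.Helper17.DedekindFlat

set_option autoImplicit false
universe u
open CategoryTheory AlgebraicGeometry
open FlatMor

namespace Groth.Agent.S10887

/-- (i) ⇔ (iii): let Y be a Dedekind scheme — an integral Noetherian scheme of dimension at most one all
of whose local rings are regular — and f : X → Y a morphism of schemes with X reduced. Then f is
flat if and only if every irreducible component of X dominates Y. (Without reducedness only the
forward implication holds.) -/
theorem result {X Y : Scheme.{u}} [IsIntegral Y]
    [IsNoetherian Y] (hreg : ∀ y : Y, IsRegularLocalRing (Y.presheaf.stalk y)) (hdim : topologicalKrullDim Y ≤ 1)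
    (f : X ⟶ Y) [IsReduced X] :
    Flat f ↔ ∀ Z ∈ irreducibleComponents (X : Type u), Dense (f.base '' Z) := by
  constructor
  · intro hflat Z hZ
    haveI := hflat
    exact Groth.Agent.Lib.helper17.DedekindFlat.dense_image_of_flat f Z hZ
  · intro h
    exact Groth.Agent.Lib.helper17.DedekindFlat.flat_of_dense_image hreg hdim f h

end Groth.Agent.S10887
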