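import Groth.Statements.S10888
import Mathlib
import Groth.Agent.Lib.Helper18.IsoNear
import Groth.Agent.S16765

set_option autoImplicit false
universe u
open CategoryTheory AlgebraicGeometry
open FlatMor

namespace Groth.Agent.S10888

open Groth.Agent.Lib.Helper18.ClosedImmNear Groth.Agent.Lib.Helper18.IsoNear
open CategoryTheory.Limits

/-- If `f` is an isomorphism over an open `V` containing the fibre `Y_s`, the fibre map is an
isomorphism. -/
theorem isIso_fiberMapOver_of_isIso_restrict {X Y S : Scheme.{u}} (g : X ⟶ S) (h : Y ⟶ S)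
    (f : X ⟶ Y) (w : f ≫ h = g) (s : S) (V : Y.Opens) (hV : h ⁻¹' {s} ⊆ (V : Set Y))
    [IsIso (f ∣_ V)] : IsIso (CohIII.fiberMapOver f g h w s) := by
  have H := Groth.Agent.S16765.isPullback_fiberMapOver h g f w s
  have hj : Set.range (h.fiberι s) ⊆ (V.ι.opensRange : Set Y) := by
    rw [Scheme.Hom.range_fiberι, Scheme.Opens.opensRange_ι]; exact hV
  have hi : Set.range (g.fiberι s) ⊆ ((f ⁻¹ᵁ V).ι.opensRange : Set X) := by
    rw [Scheme.Opens.opensRange_ι]
    rintro _ ⟨p, rfl⟩
    show f (g.fiberι s p) ∈ V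
    rw [← Scheme.Hom.comp_apply, H.w, Scheme.Hom.comp_apply]
    have : h.fiberι s (CohIII.fiberMapOver f g h w s p) ∈ Set.range (h.fiberι s) := ⟨_, rfl⟩
    rw [Scheme.Hom.range_fiberι] at this
    exact hV this
  let j' : h.fiber s ⟶ V := IsOpenImmersion.lift V.ι (h.fiberι s) hj
  let i' : g.fiber s ⟶ (f ⁻¹ᵁ V) := IsOpenImmersion.lift (f ⁻¹ᵁ V).ι (g.fiberι s) hi
  have hj' : j' ≫ V.ι = h.fiberι s := IsOpenImmersion.lift_fac _ _ _
  have hi' : i' ≫ (f ⁻¹ᵁ V).ι = g.fiberι s := IsOpenImmersion.lift_fac _ _ _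
  have H' : IsPullback i' (CohIII.fiberMapOver f g h w s) (f ∣_ V) j' := by
    refine IsPullback.of_right ?_ ?_ (isPullback_morphismRestrict f V).flip
    · rw [hi', hj']; exact H
    · rw [← cancel_mono V.ι, Category.assoc, Category.assoc, morphismRestrict_ι,
        reassoc_of% hi', hj', H.w]
  exact H'.isIso_snd_of_isIso

/-- Let g : X → S and h : Y → S be proper and of finite presentation with g flat, and f : X → Y a
morphism over S. Then the locus U of points of S over which the fibre morphism X_s → Y_s is an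
isomorphism is an open subset of S, and f restricts to an isomorphism over U. -/
theorem result {X Y S : Scheme.{u}} (g : X ⟶ S) (h : Y ⟶ S)
    [IsProper g] [LocallyOfFinitePresentation g] [Flat g] [IsProper h] [LocallyOfFinitePresentation h]
    (f : X ⟶ Y) (w : f ≫ h = g) :
    ∃ U : S.Opens, (∀ s : S, s ∈ U ↔ ∃ e : g.fiber s ≅ h.fiber s, e.hom ≫ h.fiberι s = g.fiberι s ≫ f) ∧
      IsIso (f ∣_ (h ⁻¹ᵁ U)) := by
  have hfp : IsProper f := by
    have : IsProper (f ≫ h) := by rw [w]; infer_instance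
    exact IsProper.of_comp f h
  have hflat : Flat (f ≫ h) := by rw [w]; infer_instance
  have hlfp : LocallyOfFinitePresentation (f ≫ h) := by rw [w]; infer_instance
  -- characterisation of the fibre condition
  have hA : ∀ s : S, (∃ e : g.fiber s ≅ h.fiber s, e.hom ≫ h.fiberι s = g.fiberι s ≫ f) ↔
      IsIso (CohIII.fiberMapOver f g h w s) := by
    intro s
    have H := Groth.Agent.S16765.isPullback_fiberMapOver h g f w s
    constructor
    · rintro ⟨e, he⟩
      have : e.hom = CohIII.fiberMapOver f g h w s := by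
        rw [← cancel_mono (h.fiberι s), he, H.w]
      rw [← this]; infer_instance
    · intro hiso
      exact ⟨asIso (CohIII.fiberMapOver f g h w s), H.w.symm⟩
  -- main claim
  have hB : ∀ s : S, IsIso (CohIII.fiberMapOver f g h w s) →
      ∃ U : S.Opens, s ∈ U ∧ IsIso (f ∣_ (h ⁻¹ᵁ U)) := by
    intro s hiso
    have H := Groth.Agent.S16765.isPullback_fiberMapOver h g f w s
    have H2 : IsPullback (h.fiberι s) (h.fiberToSpecResidueField s) h (S.fromSpecResidueField s) :=
      IsPullback.of_hasPullback _ _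
    apply exists_preimage_nhd (Q := MorphismProperty.isomorphisms Scheme.{u}) f h h.isClosedMap s
    intro y hy
    have : y ∈ Set.range (h.fiberι s) := by rw [Scheme.Hom.range_fiberι]; exact hy
    obtain ⟨y', rfl⟩ := this
    obtain ⟨V, hV, hci⟩ := exists_isClosedImmersion_of_universallyClosed H y'
    exact exists_isIso_of_isClosedImmersion_nhd H H2 y' V hV
  refine ⟨sSup {U' | IsIso (f ∣_ (h ⁻¹ᵁ U'))}, fun s => ?_, ?_⟩
  · rw [hA]
    constructor
    · intro hs
      obtain ⟨U', hU', hsU'⟩ := TopologicalSpace.Opens.mem_sSup.mp hs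
      have : IsIso (f ∣_ (h ⁻¹ᵁ U')) := hU'
      refine isIso_fiberMapOver_of_isIso_restrict g h f w s (h ⁻¹ᵁ U') ?_
      intro y hy
      show h y ∈ U'
      rw [hy]; exact hsU'
    · intro hiso
      obtain ⟨U', hsU', hU'⟩ := hB s hiso
      exact TopologicalSpace.Opens.mem_sSup.mpr ⟨U', hU', hsU'⟩
  · apply IsZariskiLocalAtTarget.of_forall_exists_morphismRestrict
      (P := MorphismProperty.isomorphisms Scheme.{u})
    intro y
    obtain ⟨U', hU', hyU'⟩ := TopologicalSpace.Opens.mem_sSup.mp y.2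
    exact ⟨(Scheme.Opens.ι _) ⁻¹ᵁ (h ⁻¹ᵁ U'), hyU', restrict_inf f _ (h ⁻¹ᵁ U') hU'⟩

end Groth.Agent.S10888
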