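import Groth.Statements.S10891
import Mathlib

set_option autoImplicit false
universe u
open CAlg

namespace Groth.Agent.S10891

open MvPolynomial

section
variable {k : Type u} [Field k]

/-- the generating set -/
def Sgen (k : Type u) [Field k] (r a : ℕ) : Set (MvPolynomial (Fin 2) k) :=
  {q | ∃ i j : ℕ, i ≤ r ∧ j ≤ r ∧ ¬ (i = r ∧ j = r) ∧ r ∣ i + a * j ∧
    q = MvPolynomial.X 0 ^ i * MvPolynomial.X 1 ^ j}

theorem mono_mem (r a : ℕ) (hr : 0 < r) : ∀ N i j : ℕ, i + j = N → r ∣ i + a * j →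
    (X 0 ^ i * X 1 ^ j : MvPolynomial (Fin 2) k) ∈ Algebra.adjoin k (Sgen k r a) := by
  intro N
  induction N using Nat.strong_induction_on with
  | _ N ih =>
    intro i j hN hdvd
    by_cases hi : r ≤ i
    · obtain ⟨i', rfl⟩ := Nat.exists_eq_add_of_le hi
      have : (X 0 ^ (r + i') * X 1 ^ j : MvPolynomial (Fin 2) k) =
          (X 0 ^ r * X 1 ^ 0) * (X 0 ^ i' * X 1 ^ j) := by ring
      rw [this]
      apply Subalgebra.mul_mem
      · apply Algebra.subset_adjoin
        exact ⟨r, 0, le_refl r, Nat.zero_le r, fun h => by omega, by simp, rfl⟩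
      · apply ih (i' + j) (by omega) i' j rfl
        have h2 : r + i' + a * j = r + (i' + a * j) := by ring
        rw [h2] at hdvd
        exact (Nat.dvd_add_right (dvd_refl r)).mp hdvd
    · by_cases hj : r ≤ j
      · obtain ⟨j', rfl⟩ := Nat.exists_eq_add_of_le hj
        have : (X 0 ^ i * X 1 ^ (r + j') : MvPolynomial (Fin 2) k) =
            (X 0 ^ 0 * X 1 ^ r) * (X 0 ^ i * X 1 ^ j') := by ring
        rw [this]
        apply Subalgebra.mul_mem
        · apply Algebra.subset_adjoin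
          exact ⟨0, r, Nat.zero_le r, le_refl r, fun h => by omega, by simp, rfl⟩
        · apply ih (i + j') (by omega) i j' rfl
          have h2 : i + a * (r + j') = a * r + (i + a * j') := by ring
          rw [h2] at hdvd
          exact (Nat.dvd_add_right (Dvd.intro_left a rfl)).mp hdvd
      · apply Algebra.subset_adjoin
        exact ⟨i, j, by omega, by omega, fun h => by omega, hdvd, rfl⟩

theorem phi_mono (ζ : k) (a i j : ℕ) :
    MvPolynomial.aeval (fun i : Fin 2 => if i = 0 then MvPolynomial.C ζ⁻¹ * MvPolynomial.X 0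
        else MvPolynomial.C (ζ⁻¹ ^ a) * (MvPolynomial.X 1 : MvPolynomial (Fin 2) k))
      (X 0 ^ i * X 1 ^ j : MvPolynomial (Fin 2) k) =
      C (ζ⁻¹ ^ (i + a * j)) * (X 0 ^ i * X 1 ^ j) := by
  obtain ⟨f, hf⟩ : ∃ f : Fin 2 → MvPolynomial (Fin 2) k, f = (fun i : Fin 2 =>
      if i = 0 then MvPolynomial.C ζ⁻¹ * MvPolynomial.X 0
        else MvPolynomial.C (ζ⁻¹ ^ a) * (MvPolynomial.X 1 : MvPolynomial (Fin 2) k)) := ⟨_, rfl⟩
  rw [← hf]
  have h0 : aeval f (X 0 : MvPolynomial (Fin 2) k) = C ζ⁻¹ * X 0 := by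
    rw [aeval_X, hf]
    exact if_pos rfl
  have h1 : aeval f (X 1 : MvPolynomial (Fin 2) k) = C (ζ⁻¹ ^ a) * X 1 := by
    rw [aeval_X, hf]
    exact if_neg (by decide)
  rw [map_mul, map_pow (aeval f) (X 0), map_pow (aeval f) (X 1), h0, h1, mul_pow, mul_pow,
    ← C_pow, ← C_pow, ← pow_mul, pow_add, C_mul]
  ring

theorem monomial_two (m : Fin 2 →₀ ℕ) (c : k) :
    (monomial m c : MvPolynomial (Fin 2) k) = C c * (X 0 ^ (m 0) * X 1 ^ (m 1)) := by
  rw [monomial_eq, Finsupp.prod_fintype _ _ (fun i => pow_zero _), Fin.prod_univ_two]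

theorem phi_coeff (ζ : k) (a : ℕ) (p : MvPolynomial (Fin 2) k) : ∀ m : Fin 2 →₀ ℕ,
    coeff m (MvPolynomial.aeval (fun i : Fin 2 => if i = 0 then MvPolynomial.C ζ⁻¹ * MvPolynomial.X 0
        else MvPolynomial.C (ζ⁻¹ ^ a) * (MvPolynomial.X 1 : MvPolynomial (Fin 2) k)) p) =
      coeff m p * ζ⁻¹ ^ (m 0 + a * m 1) := by
  classical
  induction p using MvPolynomial.induction_on' with
  | monomial u c =>
    intro m
    have h1 : MvPolynomial.aeval (fun i : Fin 2 => if i = 0 then MvPolynomial.C ζ⁻¹ * MvPolynomial.X 0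
        else MvPolynomial.C (ζ⁻¹ ^ a) * (MvPolynomial.X 1 : MvPolynomial (Fin 2) k)) (monomial u c) =
        monomial u (c * ζ⁻¹ ^ (u 0 + a * u 1)) := by
      rw [monomial_two u c, map_mul, phi_mono, monomial_two, aeval_C, C_mul]
      rw [MvPolynomial.algebraMap_eq]
      ring
    rw [h1, coeff_monomial, coeff_monomial]
    by_cases hum : u = m
    · rw [if_pos hum, if_pos hum, hum]
    · rw [if_neg hum, if_neg hum, zero_mul]
  | add p q hp hq =>
    intro m
    rw [map_add, coeff_add, coeff_add, hp, hq, add_mul]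

end



/-- Let k be a field containing a primitive r-th root of unity ζ and 0 < a < r. The cyclic group of r-th
roots of unity acts on k[X, Y] through the generator X ↦ ζ⁻¹ X, Y ↦ ζ^(−a) Y, and the ring of
invariants of this action is generated as a k-algebra by the monomials X^i Y^j with 0 ≤ i, j ≤ r,
(i, j) ≠ (r, r) and i + a·j ≡ 0 (mod r). (The printed statement writes n for the order of the group,
which the surrounding section calls r.) -/
theorem result (k : Type u) [Field k] (r a : ℕ) (ha : 0 < a) (har : a < r)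
    (ζ : k) (hζ : IsPrimitiveRoot ζ r) (p : MvPolynomial (Fin 2) k) :
    MvPolynomial.aeval (fun i : Fin 2 => if i = 0 then MvPolynomial.C ζ⁻¹ * MvPolynomial.X 0
        else MvPolynomial.C (ζ⁻¹ ^ a) * (MvPolynomial.X 1 : MvPolynomial (Fin 2) k)) p = p ↔
      p ∈ Algebra.adjoin k {q : MvPolynomial (Fin 2) k | ∃ i j : ℕ, i ≤ r ∧ j ≤ r ∧ ¬ (i = r ∧ j = r) ∧
        r ∣ i + a * j ∧ q = MvPolynomial.X 0 ^ i * MvPolynomial.X 1 ^ j} := by
  classical
  have hr : 0 < r := by omega
  have hζinv : IsPrimitiveRoot ζ⁻¹ r := hζ.inv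
  show _ ↔ p ∈ Algebra.adjoin k (Sgen k r a)
  constructor
  · intro hp
    have hsupp : ∀ m ∈ p.support, r ∣ m 0 + a * m 1 := by
      intro m hm
      have h1 := phi_coeff ζ a p m
      rw [hp] at h1
      have hc : coeff m p ≠ 0 := MvPolynomial.mem_support_iff.mp hm
      have h2 : ζ⁻¹ ^ (m 0 + a * m 1) = 1 := by
        have h3 : coeff m p * (ζ⁻¹ ^ (m 0 + a * m 1) - 1) = 0 := by
          rw [mul_sub, mul_one, ← h1, sub_self]
        rcases mul_eq_zero.mp h3 with h4 | h4
        · exact absurd h4 hc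
        · exact sub_eq_zero.mp h4
      exact (hζinv.pow_eq_one_iff_dvd _).mp h2
    rw [← MvPolynomial.support_sum_monomial_coeff p]
    apply Subalgebra.sum_mem
    intro m hm
    rw [monomial_two]
    apply Subalgebra.mul_mem
    · rw [← MvPolynomial.algebraMap_eq]
      exact Subalgebra.algebraMap_mem _ _
    · exact mono_mem r a hr _ _ _ rfl (hsupp m hm)
  · intro hp
    have hle : Algebra.adjoin k (Sgen k r a) ≤
        AlgHom.equalizer (MvPolynomial.aeval (fun i : Fin 2 => if i = 0 then MvPolynomial.C ζ⁻¹ * MvPolynomial.X 0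
          else MvPolynomial.C (ζ⁻¹ ^ a) * (MvPolynomial.X 1 : MvPolynomial (Fin 2) k)))
          (AlgHom.id k (MvPolynomial (Fin 2) k)) := by
      apply Algebra.adjoin_le
      rintro q ⟨i, j, _, _, _, hdvd, rfl⟩
      show MvPolynomial.aeval _ _ = AlgHom.id k _ _
      rw [phi_mono, AlgHom.id_apply, (hζinv.pow_eq_one_iff_dvd _).mpr hdvd, MvPolynomial.C_1, one_mul]
    exact hle hp


end Groth.Agent.S10891
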