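import Groth.Statements.S10894
import Mathlib
import Groth.Agent.Lib.Helper18.AbsCurveDiv

set_option autoImplicit false
universe u
open CategoryTheory AlgebraicGeometry
open Curves

namespace Groth.Agent.S10894

open Mero Groth.Agent.Lib.helper26 Groth.Agent.Lib.helper2.MeroLib Groth.Agent.Lib.Helper18.AbsCurveDiv

variable {X : Scheme.{u}}

/-- a unit of `K_{X,x}` is a fraction of two regular germs (locally Noetherian case) -/
theorem exists_regStalk_rep [IsLocallyNoetherian X] (x : X) (q : (KStalk X x)ˣ) :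
    ∃ a s : regStalk X x, (q : KStalk X x) = LocalizedModule.mk a.1 s := by
  obtain ⟨ax, sx, hq⟩ : ∃ (ax : X.presheaf.stalk x) (sx : regStalk X x),
      (q : KStalk X x) = LocalizedModule.mk ax sx := by
    induction (q : KStalk X x) using LocalizedModule.induction_on with
    | h m s => exact ⟨m, s, rfl⟩
  obtain ⟨cx, tx, hq'⟩ : ∃ (cx : X.presheaf.stalk x) (tx : regStalk X x),
      ((q⁻¹ : (KStalk X x)ˣ) : KStalk X x) = LocalizedModule.mk cx tx := by
    induction ((q⁻¹ : (KStalk X x)ˣ) : KStalk X x) using LocalizedModule.induction_on with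
    | h m s => exact ⟨m, s, rfl⟩
  have hax : ax ∈ regStalk X x := by
    rw [Groth.Agent.S8863.main X x]
    have h1 : (q : KStalk X x) * ((q⁻¹ : (KStalk X x)ˣ) : KStalk X x) = 1 := q.mul_inv
    rw [hq, hq', kstalk_mk_mul_mk, kstalk_one, kstalk_mk_eq_mk_iff] at h1
    simp only [Submonoid.coe_mul, Submonoid.coe_one, one_mul, mul_one] at h1
    have h2 : ax * cx ∈ nonZeroDivisors (X.presheaf.stalk x) := by
      rw [h1]
      exact Submonoid.mul_mem _ (regStalk_le_nonZeroDivisors x sx.2) (regStalk_le_nonZeroDivisors x tx.2)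
    exact (mul_mem_nonZeroDivisors.mp h2).1
  exact ⟨⟨ax, hax⟩, sx, hq⟩

/-- the class of a regular germ -/
noncomputable def cls (x : X) (a : regStalk X x) : Mero.Germ X x :=
  QuotientGroup.mk (IsLocalization.map_units (KStalk X x) a).unit

theorem cls_one (x : X) : cls x (1 : regStalk X x) = 1 := by
  rw [cls, QuotientGroup.eq_one_iff]
  refine ⟨1, ?_⟩
  apply Units.ext
  rw [IsUnit.unit_spec]
  simp

theorem mk_eq_cls_div (x : X) (q : (KStalk X x)ˣ) (a s : regStalk X x)
    (h : (q : KStalk X x) = LocalizedModule.mk a.1 s) :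
    (QuotientGroup.mk q : Mero.Germ X x) = cls x a * (cls x s)⁻¹ := by
  rw [cls, cls, ← QuotientGroup.mk_inv, ← QuotientGroup.mk_mul]
  congr 1
  rw [eq_mul_inv_iff_mul_eq]
  apply Units.ext
  rw [Units.val_mul, unit_val, unit_val, h]
  refine LocalizedModule.mk_mul_mk.trans ?_
  rw [kstalk_mk_eq_mk_iff]
  simp only [Submonoid.coe_mul, Submonoid.coe_one, one_mul, mul_one]
  exact mul_comm _ _

/-- On an absolute curve C (Noetherian, local rings at closed points one-dimensional) every divisor D is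
a difference of two effective divisors each supported inside the support of D (divisors are written
multiplicatively, so the difference is D₁ · D₂⁻¹). -/
theorem result {C : Scheme.{u}} [IsNoetherian C]
    (hC : ∀ x : C, IsClosed ({x} : Set C) → ringKrullDim (C.presheaf.stalk x) = 1) (D : Mero.Divisor C) :
    ∃ D₁ D₂ : Mero.Divisor C, Mero.IsEffective D₁ ∧ Mero.IsEffective D₂ ∧ D = D₁ * D₂⁻¹ ∧
      Mero.supp D₁ ⊆ Mero.supp D ∧ Mero.supp D₂ ⊆ Mero.supp D := by
  classical
  have hD := (mem_divisorGroup_iff hC D.1).mp D.2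
  have hrep : ∀ x : C, ∃ a s : regStalk C x, D.1 x = cls x a * (cls x s)⁻¹ := by
    intro x
    obtain ⟨q, hq⟩ := QuotientGroup.mk_surjective (D.1 x)
    obtain ⟨a, s, h⟩ := exists_regStalk_rep x q
    exact ⟨a, s, hq ▸ mk_eq_cls_div x q a s h⟩
  choose a s has using hrep
  let g₁ : ∀ x : C, Mero.Germ C x := fun x => if D.1 x ≠ 1 then cls x (a x) else 1
  let g₂ : ∀ x : C, Mero.Germ C x := fun x => if D.1 x ≠ 1 then cls x (s x) else 1
  have hsub₁ : ∀ x : C, g₁ x ≠ 1 → D.1 x ≠ 1 := by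
    intro x hx h
    apply hx
    show (if D.1 x ≠ 1 then cls x (a x) else 1) = 1
    rw [if_neg (not_not.mpr h)]
  have hsub₂ : ∀ x : C, g₂ x ≠ 1 → D.1 x ≠ 1 := by
    intro x hx h
    apply hx
    show (if D.1 x ≠ 1 then cls x (s x) else 1) = 1
    rw [if_neg (not_not.mpr h)]
  have hg₁ : g₁ ∈ Mero.divisorGroup C := by
    rw [mem_divisorGroup_iff hC]
    refine ⟨hD.1.subset hsub₁, fun x hx => ?_⟩
    by_contra h
    exact hsub₁ x h (hD.2 x hx)
  have hg₂ : g₂ ∈ Mero.divisorGroup C := by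
    rw [mem_divisorGroup_iff hC]
    refine ⟨hD.1.subset hsub₂, fun x hx => ?_⟩
    by_contra h
    exact hsub₂ x h (hD.2 x hx)
  refine ⟨⟨g₁, hg₁⟩, ⟨g₂, hg₂⟩, ?_, ?_, ?_, fun x hx => hsub₁ x hx, fun x hx => hsub₂ x hx⟩
  · intro x
    by_cases h : D.1 x ≠ 1
    · exact ⟨a x, if_pos h⟩
    · exact ⟨1, (if_neg h).trans (cls_one x).symm⟩
  · intro x
    by_cases h : D.1 x ≠ 1
    · exact ⟨s x, if_pos h⟩
    · exact ⟨1, (if_neg h).trans (cls_one x).symm⟩
  · apply Subtype.ext
    funext x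
    show D.1 x = g₁ x * (g₂ x)⁻¹
    by_cases h : D.1 x ≠ 1
    · show D.1 x = (if D.1 x ≠ 1 then cls x (a x) else 1) * (if D.1 x ≠ 1 then cls x (s x) else 1)⁻¹
      rw [if_pos h, if_pos h]
      exact has x
    · show D.1 x = (if D.1 x ≠ 1 then cls x (a x) else 1) * (if D.1 x ≠ 1 then cls x (s x) else 1)⁻¹
      rw [if_neg h, if_neg h, not_not.mp h]
      exact (mul_inv_cancel (1 : Mero.Germ C x)).symm

end Groth.Agent.S10894
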