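import Groth.Statements.S10893
import Mathlib
import Groth.Agent.Lib.Helper18.AbsCurveDiv
import Groth.Agent.Lib.Helper18.MeroExt
import Groth.Agent.S10894

set_option autoImplicit false
universe u
open CategoryTheory AlgebraicGeometry
open Curves

namespace Groth.Agent.S10893

open Mero Groth.Agent.Lib.helper26 Groth.Agent.Lib.helper2.MeroLib Groth.Agent.Lib.Helper18.AbsCurveDiv
  Groth.Agent.S10894 TopologicalSpace

variable {X : Scheme.{u}}

/-- a regular germ with trivial class is a unit -/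
theorem isUnit_of_cls_eq_one (x : X) (a : regStalk X x) (h : cls x a = 1) : IsUnit a.1 := by
  rw [cls, QuotientGroup.eq_one_iff] at h
  obtain ⟨u, hu⟩ := h
  have h1 := congrArg Units.val hu
  rw [IsUnit.unit_spec] at h1
  have h2 : algebraMap (X.presheaf.stalk x) (KStalk X x) (u : X.presheaf.stalk x) =
      algebraMap (X.presheaf.stalk x) (KStalk X x) a.1 := h1
  rw [← algebraMap_KStalk_injective x h2]
  exact u.isUnit

/-- in an affine open of an absolute curve without open points, contained in one irreducible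
component, there is a closed point and a regular function vanishing there -/
theorem exists_closed_point_regular [IsNoetherian X]
    (hC : ∀ x : X, IsClosed ({x} : Set X) → ringKrullDim (X.presheaf.stalk x) = 1)
    (hpt : ∀ x : X, ¬ IsOpen ({x} : Set X)) {W : X.Opens} (hW : IsAffineOpen W)
    (η : X) (hηW : η ∈ W) (hη : ∀ y ∈ W, η ⤳ y) :
    ∃ (x : X) (hxW : x ∈ W) (t : Γ(X, W)), IsClosed ({x} : Set X) ∧ t ∈ nonZeroDivisors Γ(X, W) ∧
      t ∈ (hW.primeIdealOf ⟨x, hxW⟩).asIdeal := by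
  classical
  haveI : IsNoetherianRing Γ(X, W) := IsLocallyNoetherian.component_noetherian ⟨W, hW⟩
  by_contra hcon
  have hcon' : ∀ (x : X) (hxW : x ∈ W), IsClosed ({x} : Set X) →
      ((hW.primeIdealOf ⟨x, hxW⟩).asIdeal : Set Γ(X, W)) ⊆ (nonZeroDivisors Γ(X, W) : Set Γ(X, W))ᶜ := by
    intro x hxW hcl t ht hnzd
    exact hcon ⟨x, hxW, t, hcl, hnzd, ht⟩
  have hAss : (associatedPrimes Γ(X, W) Γ(X, W)).Finite := associatedPrimes.finite _ _
  -- closed points of `W` correspond to associated primes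
  have hmem : ∀ (x : X) (hxW : x ∈ W), IsClosed ({x} : Set X) →
      (hW.primeIdealOf ⟨x, hxW⟩).asIdeal ∈ associatedPrimes Γ(X, W) Γ(X, W) := by
    intro x hxW hcl
    have h1 := hcon' x hxW hcl
    rw [← biUnion_associatedPrimes_eq_compl_nonZeroDivisors] at h1
    have h2 : ((hW.primeIdealOf ⟨x, hxW⟩).asIdeal : Set Γ(X, W)) ⊆
        ⋃ P ∈ ((hAss.toFinset : Finset (Ideal Γ(X, W))) : Set (Ideal Γ(X, W))), (P : Set Γ(X, W)) := by
      simpa using h1
    have h3 := (Ideal.subset_union_prime (R := Γ(X, W)) (s := hAss.toFinset) (f := fun P => P)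
      ⊥ ⊥ (fun P hP _ _ => (hAss.mem_toFinset.mp hP).isPrime)).mp h2
    obtain ⟨P, hP, hle⟩ := h3
    have hPass := hAss.mem_toFinset.mp hP
    haveI hPp : P.IsPrime := hPass.isPrime
    have hspec : hW.primeIdealOf ⟨x, hxW⟩ ⤳ (⟨P, hPp⟩ : PrimeSpectrum Γ(X, W)) :=
      (PrimeSpectrum.le_iff_specializes _ _).mp hle
    have hspec' := hspec.map hW.fromSpec.continuous
    rw [hW.fromSpec_primeIdealOf ⟨x, hxW⟩] at hspec'
    have h4 : hW.fromSpec ⟨P, hPp⟩ = x := by
      have := hspec'.mem_closed hcl rfl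
      exact this
    have h5 : hW.primeIdealOf ⟨x, hxW⟩ = ⟨P, hPp⟩ := by
      apply hW.fromSpec.isOpenEmbedding.injective
      rw [hW.fromSpec_primeIdealOf, h4]
    rw [h5]
    exact hPass
  set F : Set X := {x | x ∈ W ∧ IsClosed ({x} : Set X)} with hF
  have hFfin : F.Finite := by
    have hinj : Set.InjOn (fun x : X => if h : x ∈ W then (hW.primeIdealOf ⟨x, h⟩).asIdeal else ⊥) F := by
      intro x hx y hy hxy
      simp only [dif_pos hx.1, dif_pos hy.1] at hxy
      have h1 : hW.primeIdealOf ⟨x, hx.1⟩ = hW.primeIdealOf ⟨y, hy.1⟩ := PrimeSpectrum.ext hxy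
      have h2 := congrArg hW.fromSpec h1
      rw [hW.fromSpec_primeIdealOf, hW.fromSpec_primeIdealOf] at h2
      exact h2
    refine Set.Finite.of_finite_image (hAss.subset ?_) hinj
    rintro _ ⟨x, hx, rfl⟩
    simp only [dif_pos hx.1]
    exact hmem x hx.1 hx.2
  have hEcl : IsClosed (F \ {η}) :=
    isClosed_of_finite_of_forall_isClosed_singleton _ (hFfin.subset Set.sdiff_subset)
      (fun z hz => hz.1.2)
  apply hpt η
  have heq : ({η} : Set X) = (W : Set X) ∩ (F \ {η})ᶜ := by
    ext y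
    constructor
    · rintro rfl
      exact ⟨hηW, fun h => h.2 rfl⟩
    · rintro ⟨hyW, hyF⟩
      by_contra hne
      have hycl : ¬ IsClosed ({y} : Set X) := fun hcl => hyF ⟨⟨hyW, hcl⟩, hne⟩
      have hdim := krullDimLE_zero_of_not_isClosed hC y hycl
      rw [Ring.krullDimLE_iff, ringKrullDim_stalk_eq_height hW y hyW] at hdim
      have h0 : (hW.primeIdealOf ⟨y, hyW⟩).asIdeal.height = 0 := by
        have : ((hW.primeIdealOf ⟨y, hyW⟩).asIdeal.height : WithBot ℕ∞) ≤ ((0 : ℕ∞) : WithBot ℕ∞) := hdim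
        exact le_antisymm (by exact_mod_cast this) bot_le
      have hsp : hW.primeIdealOf ⟨η, hηW⟩ ⤳ hW.primeIdealOf ⟨y, hyW⟩ := by
        have h0 : hW.fromSpec (hW.primeIdealOf ⟨η, hηW⟩) ⤳ hW.fromSpec (hW.primeIdealOf ⟨y, hyW⟩) := by
          rw [hW.fromSpec_primeIdealOf, hW.fromSpec_primeIdealOf]
          exact hη y hyW
        exact hW.fromSpec.isOpenEmbedding.isInducing.specializes_iff.mp h0
      have hle : hW.primeIdealOf ⟨η, hηW⟩ ≤ hW.primeIdealOf ⟨y, hyW⟩ :=
        (PrimeSpectrum.le_iff_specializes _ _).mpr hsp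
      rcases lt_or_eq_of_le hle with hlt | heq
      · have hlt' : (hW.primeIdealOf ⟨η, hηW⟩).asIdeal < (hW.primeIdealOf ⟨y, hyW⟩).asIdeal := hlt
        have := Ideal.height_strict_mono_of_isPrime hlt'
        rw [h0] at this
        exact not_lt_bot this
      · apply hne
        have h2 := congrArg hW.fromSpec heq
        rw [hW.fromSpec_primeIdealOf, hW.fromSpec_primeIdealOf] at h2
        exact h2.symm
  rw [heq]
  exact W.2.inter hEcl.isOpen_compl

/-- on an absolute curve without open points, every irreducible component meets a given dense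
open in a closed point carrying a regular non-unit germ -/
theorem exists_point_of_component [IsNoetherian X]
    (hC : ∀ x : X, IsClosed ({x} : Set X) → ringKrullDim (X.presheaf.stalk x) = 1)
    (hpt : ∀ x : X, ¬ IsOpen ({x} : Set X)) (U : X.Opens) (hU : Dense (U : Set X))
    (Z : Set X) (hZ : Z ∈ irreducibleComponents (X : Type u)) :
    ∃ (x : X) (a : regStalk X x), x ∈ U ∧ x ∈ Z ∧ IsClosed ({x} : Set X) ∧ ¬ IsUnit a.1 := by
  have hZcl : IsClosed Z := isClosed_of_mem_irreducibleComponents Z hZ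
  have hZirr : IsIrreducible Z := hZ.1
  obtain ⟨η, hη⟩ := QuasiSober.sober hZirr hZcl
  have hSfin : (irreducibleComponents (X : Type u)).Finite :=
    NoetherianSpace.finite_irreducibleComponents
  set Z' : Set X := ⋃₀ (irreducibleComponents (X : Type u) \ {Z}) with hZ'
  have hZ'cl : IsClosed Z' := by
    rw [hZ', Set.sUnion_eq_biUnion]
    exact (hSfin.subset Set.sdiff_subset).isClosed_biUnion
      (fun T hT => isClosed_of_mem_irreducibleComponents T hT.1)
  have hηZ' : η ∉ Z' := by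
    rintro ⟨T, ⟨hT, hTZ⟩, hηT⟩
    apply hTZ
    have hTcl : IsClosed T := isClosed_of_mem_irreducibleComponents T hT
    have h1 : Z ⊆ T := by
      rw [← hη.def]
      exact hTcl.closure_subset_iff.mpr (Set.singleton_subset_iff.mpr hηT)
    exact Set.Subset.antisymm (hZ.2 hT.1 h1) h1
  have hcov : ∀ y : X, y ∉ Z' → y ∈ Z := by
    intro y hy
    have h1 : y ∈ ⋃₀ irreducibleComponents (X : Type u) := by
      rw [sUnion_irreducibleComponents]
      trivial
    obtain ⟨T, hT, hyT⟩ := h1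
    by_cases hTZ : T = Z
    · rw [← hTZ]
      exact hyT
    · exact absurd ⟨T, ⟨hT, hTZ⟩, hyT⟩ hy
  have hηU : η ∈ U := by
    obtain ⟨y, hy1, hy2⟩ := hU.inter_open_nonempty _ hZ'cl.isOpen_compl ⟨η, hηZ'⟩
    exact (hη.specializes (hcov y hy1)).mem_open U.2 hy2
  obtain ⟨_, ⟨W, hW, rfl⟩, hηW, hWsub⟩ :=
    X.isBasis_affineOpens.exists_subset_of_mem_open
      (show η ∈ (U : Set X) ∩ Z'ᶜ from ⟨hηU, hηZ'⟩) (U.2.inter hZ'cl.isOpen_compl)
  have hWZ : ∀ y ∈ W, y ∈ Z := fun y hy => hcov y (hWsub hy).2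
  obtain ⟨x, hxW, t, hxcl, htnzd, htp⟩ := exists_closed_point_regular hC hpt hW η hηW
    (fun y hy => hη.specializes (hWZ y hy))
  have htreg : t ∈ regSub X W :=
    Groth.Agent.Lib.Helper18.MeroExt.mem_regSub_of_mem_nonZeroDivisors hW t htnzd
  refine ⟨x, regGerm ⟨x, hxW⟩ ⟨t, htreg⟩, (hWsub hxW).1, hWZ x hxW, hxcl, ?_⟩
  show ¬ IsUnit (X.presheaf.germ W x hxW t)
  rw [← X.mem_basicOpen t x hxW, mem_basicOpen_iff_notMem_primeIdealOf hW x hxW t]
  exact fun h => h htp

/-- Let C be an absolute curve (Noetherian, local rings at closed points one-dimensional) none of whose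
points is open, and U ⊆ C an open dense subset. Then there is an effective divisor D on C with
support contained in U and meeting every irreducible component of C. -/
theorem result {C : Scheme.{u}} [IsNoetherian C]
    (hC : ∀ x : C, IsClosed ({x} : Set C) → ringKrullDim (C.presheaf.stalk x) = 1)
    (hpt : ∀ x : C, ¬ IsOpen ({x} : Set C)) (U : C.Opens) (hU : Dense (U : Set C)) :
    ∃ D : Mero.Divisor C, Mero.IsEffective D ∧ Mero.supp D ⊆ (U : Set C) ∧
      ∀ Z ∈ irreducibleComponents (C : Type u), (Mero.supp D ∩ Z).Nonempty := by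
  classical
  have hSfin : (irreducibleComponents (C : Type u)).Finite :=
    NoetherianSpace.finite_irreducibleComponents
  haveI : Finite ↥(irreducibleComponents (C : Type u)) := hSfin.to_subtype
  have hex : ∀ Z : irreducibleComponents (C : Type u), ∃ (x : C) (a : regStalk C x),
      x ∈ U ∧ x ∈ Z.1 ∧ IsClosed ({x} : Set C) ∧ ¬ IsUnit a.1 :=
    fun Z => exists_point_of_component hC hpt U hU Z.1 Z.2
  choose x a hxU hxZ hxcl ha using hex
  set P : Set C := Set.range x with hP
  have hPfin : P.Finite := Set.finite_range x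
  let r : ∀ y : C, regStalk C y := fun y =>
    if h : ∃ b : regStalk C y, ¬ IsUnit b.1 then Classical.choose h else 1
  have hr : ∀ y ∈ P, ¬ IsUnit (r y).1 := by
    rintro _ ⟨Z, rfl⟩
    have h : ∃ b : regStalk C (x Z), ¬ IsUnit b.1 := ⟨a Z, ha Z⟩
    show ¬ IsUnit (if h : ∃ b : regStalk C (x Z), ¬ IsUnit b.1 then Classical.choose h else 1).1
    rw [dif_pos h]
    exact Classical.choose_spec h
  let g : ∀ y : C, Mero.Germ C y := fun y => if y ∈ P then cls y (r y) else 1
  have hgP : ∀ y : C, g y ≠ 1 → y ∈ P := by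
    intro y hy
    by_contra h
    apply hy
    show (if y ∈ P then cls y (r y) else 1) = 1
    rw [if_neg h]
  have hPcl : ∀ y ∈ P, IsClosed ({y} : Set C) := by
    rintro _ ⟨Z, rfl⟩
    exact hxcl Z
  have hg : g ∈ Mero.divisorGroup C := by
    rw [mem_divisorGroup_iff hC]
    refine ⟨hPfin.subset hgP, fun y hy => ?_⟩
    by_contra h
    exact hy (hPcl y (hgP y h))
  have hgne : ∀ y ∈ P, g y ≠ 1 := by
    intro y hy h
    have h1 : (if y ∈ P then cls y (r y) else 1) = 1 := h
    rw [if_pos hy] at h1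
    exact hr y hy (isUnit_of_cls_eq_one y (r y) h1)
  refine ⟨⟨g, hg⟩, ?_, ?_, ?_⟩
  · intro y
    by_cases h : y ∈ P
    · exact ⟨r y, if_pos h⟩
    · exact ⟨1, (if_neg h).trans (cls_one y).symm⟩
  · intro y hy
    obtain ⟨Z, rfl⟩ := hgP y hy
    exact hxU Z
  · intro Z hZ
    exact ⟨x ⟨Z, hZ⟩, hgne _ ⟨⟨Z, hZ⟩, rfl⟩, hxZ ⟨Z, hZ⟩⟩

end Groth.Agent.S10893
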