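import Groth.Statements.S10895
import Mathlib

set_option autoImplicit false
universe u
open CategoryTheory AlgebraicGeometry
open FlatMor

namespace Groth.Agent.S10895

/-- A surjective flat local... : a surjective flat ring map out of a local ring with proper kernel
is injective. -/
theorem injective_of_surjective_of_flat_of_isLocalRing {R S : Type*} [CommRing R] [CommRing S]
    [IsLocalRing R] [Nontrivial S] (φ : R →+* S) (hsurj : Function.Surjective φ) (hflat : φ.Flat) :
    Function.Injective φ := by
  algebraize [φ]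
  rw [injective_iff_map_eq_zero]
  intro a ha
  set K := RingHom.ker φ with hK
  have hpure : K.Pure := by
    have e : (R ⧸ K) ≃ₐ[R] S := Ideal.quotientKerAlgEquivOfSurjective (f := Algebra.ofId R S) hsurj
    exact Module.Flat.of_linearEquiv e.toLinearEquiv
  have haK : a ∈ K := ha
  obtain ⟨y, hy, hay⟩ := Ideal.exists_eq_mul_of_pure haK
  have hKne : K ≠ ⊤ := RingHom.ker_ne_top φ
  have hym : y ∈ IsLocalRing.maximalIdeal R := IsLocalRing.le_maximalIdeal hKne hy
  have hunit : IsUnit (1 - y) := by
    have := IsLocalRing.isUnit_one_sub_self_of_mem_nonunits y hym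
    exact this
  have h0 : a * (1 - y) = 0 := by rw [mul_sub, mul_one, ← hay, sub_self]
  exact (hunit.mul_left_eq_zero).mp h0

/-- A closed immersion of finite presentation which is flat at a point x is an isomorphism over some
open neighbourhood of the image of x. -/
theorem result {X Y : Scheme.{u}} (f : X ⟶ Y) [IsClosedImmersion f]
    [LocallyOfFinitePresentation f] (x : X) (hflat : (f.stalkMap x).hom.Flat) :
    ∃ V : Y.Opens, f.base x ∈ V ∧ IsIso (f ∣_ V) := by
  classical
  set y := f.base x with hy
  -- the stalk map at x is injective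
  have hinj : Function.Injective (f.stalkMap x).hom :=
    injective_of_surjective_of_flat_of_isLocalRing _ (f.stalkMap_surjective x) hflat
  -- an affine open neighbourhood of y
  obtain ⟨_, ⟨V, hV, rfl⟩, hyV, -⟩ :=
    Y.isBasis_affineOpens.exists_subset_of_mem_open (Set.mem_univ y) isOpen_univ
  have hU : IsAffineOpen (f ⁻¹ᵁ V) := hV.preimage f
  -- the kernel ideal on V is finitely generated
  set I := f.ker.ideal ⟨V, hV⟩ with hI
  have hIker : I = RingHom.ker (f.app V).hom := f.ker_apply ⟨V, hV⟩
  have hfp : (f.app V).hom.FinitePresentation := by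
    have := HasRingHomProperty.appLE (P := @LocallyOfFinitePresentation) f inferInstance
      ⟨V, hV⟩ ⟨f ⁻¹ᵁ V, hU⟩ le_rfl
    rwa [Scheme.Hom.appLE_eq_app] at this
  have hsurj : Function.Surjective (f.app V).hom := f.app_surjective V hV
  have hIfg : I.FG := by
    rw [hIker]
    algebraize [(f.app V).hom]
    have := Algebra.FinitePresentation.ker_fG_of_surjective (R := Γ(Y, V))
      (Algebra.ofId Γ(Y, V) Γ(X, f ⁻¹ᵁ V)) hsurj
    exact this
  obtain ⟨T, hT⟩ := hIfg
  -- every generator vanishes near y
  have hgerm : ∀ a ∈ T, Y.presheaf.germ V y hyV a = 0 := by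
    intro a ha
    apply hinj
    have haI : a ∈ I := hT ▸ Ideal.subset_span ha
    rw [hIker] at haI
    rw [map_zero]
    have := Scheme.Hom.germ_stalkMap_apply f V x hyV a
    rw [this, show (f.app V) a = 0 from haI, map_zero]
  have hW : ∃ W : Y.Opens, y ∈ W ∧ ∃ hWV : W ≤ V,
      ∀ a ∈ T, Y.presheaf.map (homOfLE hWV).op a = 0 := by
    clear hT
    induction T using Finset.induction_on with
    | empty => exact ⟨V, hyV, le_rfl, by simp⟩
    | insert a T' _ ih =>
      obtain ⟨W', hyW', hW'V, hres'⟩ := ih (fun b hb => hgerm b (Finset.mem_insert_of_mem hb))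
      obtain ⟨Wa, hyWa, i1, i2, hresa⟩ := Y.presheaf.germ_eq y hyV hyV a 0
        (by rw [hgerm a (Finset.mem_insert_self _ _), map_zero])
      rw [map_zero] at hresa
      refine ⟨W' ⊓ Wa, ⟨hyW', hyWa⟩, inf_le_left.trans hW'V, ?_⟩
      intro b hb
      rcases Finset.mem_insert.mp hb with rfl | hb
      · have : Y.presheaf.map (homOfLE (inf_le_left.trans hW'V : W' ⊓ Wa ≤ V)).op b =
            Y.presheaf.map (homOfLE (inf_le_right : W' ⊓ Wa ≤ Wa)).op (Y.presheaf.map i1.op b) := by
          rw [← ConcreteCategory.comp_apply, ← Functor.map_comp]; rfl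
        rw [this, hresa, map_zero]
      · have : Y.presheaf.map (homOfLE (inf_le_left.trans hW'V : W' ⊓ Wa ≤ V)).op b =
            Y.presheaf.map (homOfLE (inf_le_left : W' ⊓ Wa ≤ W')).op
              (Y.presheaf.map (homOfLE hW'V).op b) := by
          rw [← ConcreteCategory.comp_apply, ← Functor.map_comp]; rfl
        rw [this, hres' b hb, map_zero]
  obtain ⟨W, hyW, hWV, hresW⟩ := hW
  -- shrink to a basic open
  obtain ⟨s, hsW, hys⟩ := hV.exists_basicOpen_le ⟨y, hyW⟩ hyV
  refine ⟨Y.basicOpen s, hys, ?_⟩
  have hV' : IsAffineOpen (Y.basicOpen s) := hV.basicOpen s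
  -- the kernel ideal on the basic open vanishes
  have hker' : f.ker.ideal ⟨Y.basicOpen s, hV'⟩ = ⊥ := by
    have := f.ker.map_ideal_basicOpen ⟨V, hV⟩ s
    change _ = f.ker.ideal ⟨Y.basicOpen s, hV'⟩ at this
    rw [← this, ← hI, ← hT, Ideal.map_span, Ideal.span_eq_bot]
    rintro _ ⟨a, ha, rfl⟩
    have hle : Y.basicOpen s ≤ W := hsW
    have : (Y.presheaf.map (homOfLE (Y.basicOpen_le s)).op) a =
        Y.presheaf.map (homOfLE hle).op (Y.presheaf.map (homOfLE hWV).op a) := by
      rw [← ConcreteCategory.comp_apply, ← Functor.map_comp]; rfl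
    change (Y.presheaf.map (homOfLE (Y.basicOpen_le s)).op) a = 0
    rw [this, hresW a ha, map_zero]
  have : IsAffine (Y.basicOpen s : Scheme.{u}) := hV'
  apply IsClosedImmersion.isIso_of_injective_of_isAffine
  rw [morphismRestrict_appTop]
  have hinjapp : Function.Injective (f.app (Y.basicOpen s)) := by
    have h1 : RingHom.ker (f.app (Y.basicOpen s)).hom = ⊥ := by
      rw [← f.ker_apply ⟨Y.basicOpen s, hV'⟩, hker']
    exact (RingHom.injective_iff_ker_eq_bot _).mpr h1
  have himg : (Y.basicOpen s).ι ''ᵁ ⊤ = Y.basicOpen s := Scheme.Opens.ι_image_top _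
  have hinjapp' : Function.Injective (f.app ((Y.basicOpen s).ι ''ᵁ ⊤)) := by
    rw [himg]; exact hinjapp
  intro a b hab
  apply hinjapp'
  have hiso : Function.Injective (X.presheaf.map
      (eqToHom (image_morphismRestrict_preimage f (Y.basicOpen s) ⊤)).op) :=
    ((ConcreteCategory.bijective_of_isIso _).1)
  exact hiso hab

end Groth.Agent.S10895
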