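import Groth.Statements.S10896
import Mathlib
import Groth.Agent.Lib.Helper6.CubicSurf3

set_option autoImplicit false
universe u
open Cubic

namespace Groth.Agent.S10896

open Groth.Agent.Lib.Helper6.CubicSurf in
theorem exists_adapted_basis {k : Type u} [Field k] (U : Submodule k (Fin 4 → k))
    (hU : Module.finrank k U = 2) :
    ∃ b : Module.Basis (Fin 4) k (Fin 4 → k), b 0 ∈ U ∧ b 1 ∈ U := by
  obtain ⟨W, hW⟩ := Submodule.exists_isCompl U
  have hWr : Module.finrank k W = 2 := by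
    have := Submodule.finrank_add_eq_of_isCompl hW
    rw [hU, Module.finrank_fin_fun] at this
    omega
  let bU := Module.finBasisOfFinrankEq k U hU
  let bW := Module.finBasisOfFinrankEq k W hWr
  let b : Module.Basis (Fin 4) k (Fin 4 → k) :=
    ((bU.prod bW).map (Submodule.prodEquivOfIsCompl U W hW)).reindex finSumFinEquiv
  have h0 : finSumFinEquiv.symm (0 : Fin (2 + 2)) = (Sum.inl 0 : Fin 2 ⊕ Fin 2) := rfl
  have h1 : finSumFinEquiv.symm (1 : Fin (2 + 2)) = (Sum.inl 1 : Fin 2 ⊕ Fin 2) := rfl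
  refine ⟨b, ?_, ?_⟩
  · show ((bU.prod bW).map (Submodule.prodEquivOfIsCompl U W hW)).reindex finSumFinEquiv
      (0 : Fin (2 + 2)) ∈ U
    rw [Module.Basis.reindex_apply, h0, Module.Basis.map_apply, Module.Basis.prod_apply]
    simp
  · show ((bU.prod bW).map (Submodule.prodEquivOfIsCompl U W hW)).reindex finSumFinEquiv
      (1 : Fin (2 + 2)) ∈ U
    rw [Module.Basis.reindex_apply, h1, Module.Basis.map_apply, Module.Basis.prod_apply]
    simp



/-- Over an algebraically closed field of characteristic zero, a smooth cubic surface S = V_+(f) ⊂ P^3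
which contains a line contains two disjoint lines (2-dimensional subspaces of k^4 on which f
vanishes and which intersect trivially). -/
theorem result (k : Type u) [Field k] [IsAlgClosed k] [CharZero k]
    (f : MvPolynomial (Fin 4) k) (hf : f.IsHomogeneous 3) (hf0 : f ≠ 0)
    (hsm : ∀ v : Fin 4 → k, v ≠ 0 → MvPolynomial.eval v f = 0 →
      ∃ i : Fin 4, MvPolynomial.eval v (MvPolynomial.pderiv i f) ≠ 0)
    (hL : ∃ U : Submodule k (Fin 4 → k), (Module.finrank k ↥U = 2 ∧ ∀ u ∈ U, MvPolynomial.eval u f = 0)) :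
    ∃ U₁ U₂ : Submodule k (Fin 4 → k), (Module.finrank k ↥U₁ = 2 ∧ ∀ u ∈ U₁, MvPolynomial.eval u f = 0) ∧ (Module.finrank k ↥U₂ = 2 ∧ ∀ u ∈ U₂, MvPolynomial.eval u f = 0) ∧ U₁ ⊓ U₂ = ⊥ := by
  classical
  obtain ⟨U, hU, hUf⟩ := hL
  obtain ⟨b, hb0, hb1⟩ := exists_adapted_basis U hU
  let e : Fin 4 → Fin 4 → k := fun j => b j
  let T : (Fin 4 → k) ≃ₗ[k] (Fin 4 → k) := b.equivFun.symm
  have hT : ∀ x, T x = Groth.Agent.Lib.Helper6.CubicSurf.Tmap e x := by
    intro x
    funext i
    simp [T, e, Module.Basis.equivFun_symm_apply, Groth.Agent.Lib.Helper6.CubicSurf.Tmap,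
      Finset.sum_apply]
  let g := Groth.Agent.Lib.Helper6.CubicSurf.subst e f
  have hg : g.IsHomogeneous 3 := Groth.Agent.Lib.Helper6.CubicSurf.subst_homog e f hf
  have hev : ∀ x, MvPolynomial.eval x g = MvPolynomial.eval (T x) f := by
    intro x
    rw [hT]
    exact Groth.Agent.Lib.Helper6.CubicSurf.eval_subst e f x
  have hdv : ∀ (j : Fin 4) x, MvPolynomial.eval x (MvPolynomial.pderiv j g) =
      ∑ i, e j i * MvPolynomial.eval (T x) (MvPolynomial.pderiv i f) := by
    intro j x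
    rw [hT]
    exact Groth.Agent.Lib.Helper6.CubicSurf.eval_pderiv_subst e f j x
  have hvan : ∀ a c : k, MvPolynomial.eval ![a, c, 0, 0] g = 0 := by
    intro a c
    rw [hev]
    apply hUf
    have : T ![a, c, 0, 0] = a • b 0 + c • b 1 := by
      simp [T, Module.Basis.equivFun_symm_apply, Fin.sum_univ_four]
    rw [this]
    exact U.add_mem (U.smul_mem _ hb0) (U.smul_mem _ hb1)
  obtain ⟨c, hc⟩ := Groth.Agent.Lib.Helper6.CubicSurf.bridge g hg hvan
  have hsmc : c.Smooth := by
    intro x0 x1 x2 x3 hx g' g0 g1 g2 g3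
    have hxne : (![x0, x1, x2, x3] : Fin 4 → k) ≠ 0 := by
      intro h
      have e0 := congrFun h 0
      have e1 := congrFun h 1
      have e2 := congrFun h 2
      have e3 := congrFun h 3
      simp at e0 e1 e2 e3
      rcases hx with h | h | h | h
      · exact h e0
      · exact h e1
      · exact h e2
      · exact h e3
    have hTne : T ![x0, x1, x2, x3] ≠ 0 := by
      intro h
      exact hxne (T.injective (h.trans (map_zero T).symm))
    obtain ⟨hG, hG0, hG1, hG2, hG3⟩ := hc ![x0, x1, x2, x3]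
    have hfz : MvPolynomial.eval (T ![x0, x1, x2, x3]) f = 0 := by
      rw [← hev, hG]
      exact g'
    obtain ⟨i, hi⟩ := hsm _ hTne hfz
    apply hi
    -- the linear functional `y ↦ ∑ i, y i * ∂ᵢf(Tx)` vanishes on the basis
    let w : Fin 4 → k := fun i => MvPolynomial.eval (T ![x0, x1, x2, x3]) (MvPolynomial.pderiv i f)
    let φ : (Fin 4 → k) →ₗ[k] k := ∑ i, w i • LinearMap.proj i
    have hφ : ∀ y, φ y = ∑ i, y i * w i := by
      intro y
      simp [φ, LinearMap.sum_apply, mul_comm]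
    have hφ0 : φ = 0 := by
      apply b.ext
      intro j
      rw [hφ, LinearMap.zero_apply]
      have hj := hdv j ![x0, x1, x2, x3]
      have hz : MvPolynomial.eval ![x0, x1, x2, x3] (MvPolynomial.pderiv j g) = 0 := by
        fin_cases j
        · exact hG0.trans g0
        · exact hG1.trans g1
        · exact hG2.trans g2
        · exact hG3.trans g3
      rw [hz] at hj
      exact hj.symm
    have := hφ (Pi.single i 1)
    rw [hφ0, LinearMap.zero_apply] at this
    simp [Pi.single_apply] at this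
    exact this.symm ▸ rfl
  obtain ⟨N₁, N₂, ⟨hN₁, hN₁'⟩, ⟨hN₂, hN₂'⟩, hN⟩ := c.core hsmc
  have hvanN : ∀ (N : Submodule k (Fin 4 → k)), (∀ x ∈ N, c.Gv x = 0) →
      ∀ u ∈ N.map (T : (Fin 4 → k) →ₗ[k] (Fin 4 → k)), MvPolynomial.eval u f = 0 := by
    intro N hN' u hu
    obtain ⟨x, hx, rfl⟩ := Submodule.mem_map.mp hu
    show MvPolynomial.eval (T x) f = 0
    rw [← hev, (hc x).1]
    exact hN' x hx
  refine ⟨N₁.map (T : (Fin 4 → k) →ₗ[k] (Fin 4 → k)), N₂.map (T : (Fin 4 → k) →ₗ[k] (Fin 4 → k)),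
    ⟨?_, hvanN N₁ hN₁'⟩, ⟨?_, hvanN N₂ hN₂'⟩, ?_⟩
  · rw [LinearEquiv.finrank_map_eq]
    exact hN₁
  · rw [LinearEquiv.finrank_map_eq]
    exact hN₂
  · rw [← Submodule.map_inf _ T.injective, hN, Submodule.map_bot]


end Groth.Agent.S10896
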