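import Groth.Statements.S10898
import Mathlib
-- import your own Groth.Agent.* helpers here

set_option autoImplicit false
universe u
open Polynomial
open WDiv

namespace Groth.Agent.S10898

/-- Let A be a Noetherian integral domain and P a prime ideal of height 1 of the polynomial ring A[X].
Then either P meets A in 0 only, or its contraction p = P ∩ A is a prime of height 1 of A and P is
the extension p·A[X]. (The published lemma also assumes A regular in codimension 1; that hypothesis
is not used for this assertion.) -/
theorem result (A : Type u) [CommRing A] [IsDomain A]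
    [IsNoetherianRing A] (P : Ideal A[X]) [P.IsPrime] (hP : P.height = 1) :
    P.comap (C : A →+* A[X]) = ⊥ ∨
      ((P.comap (C : A →+* A[X])).height = 1 ∧ P = (P.comap (C : A →+* A[X])).map C) := by
  set p := P.comap (C : A →+* A[X]) with hp
  by_cases hp0 : p = ⊥
  · exact Or.inl hp0
  right
  have hpprime : p.IsPrime := Ideal.comap_isPrime _ _
  have hp1 : 1 ≤ p.height := by
    rw [Order.one_le_iff_pos, pos_iff_ne_zero, Ne, Ideal.height_eq_zero_iff_eq_bot]
    exact hp0
  have hlies : P.LiesOver p := ⟨rfl⟩
  have hfin : P.FiniteHeight := ⟨Or.inr (by rw [hP]; exact ENat.one_ne_top)⟩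
  constructor
  · have h := Ideal.height_eq_height_add_of_liesOver_of_hasGoingDown p P
    rw [hP] at h
    apply le_antisymm _ hp1
    calc p.height ≤ p.height + _ := le_self_add
      _ = 1 := h.symm
  · -- `p.map C` is a nonzero prime below `P`
    have hle : p.map C ≤ P := Ideal.map_comap_le
    have hprime : (p.map (C : A →+* A[X])).IsPrime := Ideal.isPrime_map_C_of_isPrime
    by_contra hne
    have hlt : p.map C < P := lt_of_le_of_ne hle (Ne.symm hne)
    have h1 := Ideal.height_strict_mono_of_isPrime hlt
    rw [hP] at h1
    have h0 : (p.map (C : A →+* A[X])).height = 0 := by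
      rwa [Order.lt_one_iff] at h1
    rw [Ideal.height_eq_zero_iff_eq_bot] at h0
    apply hp0
    rw [eq_bot_iff]
    intro a ha
    have : C a ∈ p.map (C : A →+* A[X]) := Ideal.mem_map_of_mem _ ha
    rw [h0, Ideal.mem_bot, C_eq_zero] at this
    simpa using this

end Groth.Agent.S10898
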