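import Groth.Statements.S10899
import Groth.Agent.S10898
import Mathlib
-- import your own Groth.Agent.* helpers here

set_option autoImplicit false
universe u
open Polynomial
open WDiv

namespace Groth.Agent.S10899

open IsLocalRing in
/-- A Noetherian integrally closed domain localized at a height one prime is a DVR. -/
theorem isDVR_localization_of_height_one (B : Type u) [CommRing B] [IsDomain B] [IsNoetherianRing B]
    [IsIntegrallyClosed B] (Q : Ideal B) [Q.IsPrime] (hQ : Q.height = 1) :
    IsDiscreteValuationRing (Localization.AtPrime Q) := by
  set L := Localization.AtPrime Q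
  have hQ0 : Q ≠ ⊥ := by
    intro h
    rw [h, Ideal.height_bot] at hQ
    exact zero_ne_one hQ
  have hIC : IsIntegrallyClosed L :=
    isIntegrallyClosed_of_isLocalization L Q.primeCompl Q.primeCompl_le_nonZeroDivisors
  have hdim : ringKrullDim L = 1 := by
    rw [IsLocalization.AtPrime.ringKrullDim_eq_height Q L, hQ]; rfl
  have hK1 : Ring.KrullDimLE 1 L := by
    rw [Ring.krullDimLE_iff, hdim]; rfl
  have hnf : ¬ IsField L := by
    intro hf
    have : ringKrullDim L = 0 := by
      let _ := hf.toField
      exact ringKrullDim_eq_zero_of_field L
    rw [hdim] at this
    exact one_ne_zero this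
  have hmax : maximalIdeal L ≠ ⊥ := isField_iff_maximalIdeal_eq.not.mp hnf
  have h4 : IsIntegrallyClosed L ∧ ∃! P : Ideal L, P ≠ ⊥ ∧ P.IsPrime := by
    refine ⟨hIC, maximalIdeal L, ⟨hmax, inferInstance⟩, ?_⟩
    rintro P ⟨hP0, hPp⟩
    exact IsLocalRing.eq_maximalIdeal (hPp.isMaximal_of_ne_bot hP0)
  exact ((IsDiscreteValuationRing.TFAE L hnf).out 3 0).mp h4


/-- Let A be a Noetherian integral domain which is regular in codimension 1, i.e. whose localization at
every prime ideal of height 1 is a discrete valuation ring. Then the polynomial ring A[X] is regular
in codimension 1 as well: its localization at every prime ideal of height 1 is a discrete valuation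
ring. -/
theorem result (A : Type u) [CommRing A]
    [IsDomain A] [IsNoetherianRing A]
    (hR1 : ∀ (p : Ideal A) [p.IsPrime], p.height = 1 → IsDiscreteValuationRing (Localization.AtPrime p))
    (P : Ideal A[X]) [P.IsPrime] (hP : P.height = 1) :
    IsDiscreteValuationRing (Localization.AtPrime P) := by
  classical
  set q := P.comap (C : A →+* A[X]) with hq
  have hqprime : q.IsPrime := Ideal.comap_isPrime _ _
  -- `A_q` is a PID
  have hPID : IsPrincipalIdealRing (Localization.AtPrime q) := by
    rcases Groth.Agent.S10898.result A P hP with h0 | ⟨h1, -⟩
    · -- `q = ⊥`, the localization is a field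
      have hfield : IsField (Localization.AtPrime q) := by
        have : IsFractionRing A (Localization.AtPrime q) := by
          have hcompl : q.primeCompl = nonZeroDivisors A := by
            ext a
            simp only [Ideal.mem_primeCompl_iff, mem_nonZeroDivisors_iff_ne_zero]
            rw [show q = ⊥ from h0, Ideal.mem_bot]
          show IsLocalization (nonZeroDivisors A) (Localization.AtPrime q)
          rw [← hcompl]
          infer_instance
        exact (IsFractionRing.toField A (K := Localization.AtPrime q)).toIsField
      let _ := hfield.toField
      infer_instance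
    · have := hR1 q h1
      infer_instance
  let S := (Localization.AtPrime q)[X]
  let pc := Submonoid.map Polynomial.C.toMonoidHom q.primeCompl
  let _ : Algebra A[X] S := Polynomial.algebra A (Localization.AtPrime q)
  have : IsLocalization pc S := Polynomial.isLocalization _ _
  let pS := P.map (algebraMap A[X] S)
  have disj : Disjoint (pc : Set A[X]) (P : Set A[X]) := by
    simpa [pc, q] using! Set.disjoint_image_left.mpr
      (Set.disjoint_compl_left_iff_subset.mpr (fun _ a ↦ a))
  have hpSprime : pS.IsPrime := IsLocalization.isPrime_of_isPrime_disjoint pc _ _ ‹_› disj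
  have hloc : IsLocalization.AtPrime (Localization.AtPrime pS) P := by
    convert IsLocalization.isLocalization_isLocalization_atPrime_isLocalization pc
      (Localization.AtPrime pS) pS
    exact (IsLocalization.under_map_of_isPrime_disjoint pc _ ‹_› disj).symm
  have hht : pS.height = 1 := by
    rw [IsLocalization.height_map_of_disjoint pc P disj, hP]
  have hDVR : IsDiscreteValuationRing (Localization.AtPrime pS) :=
    isDVR_localization_of_height_one S pS hht
  exact IsDiscreteValuationRing.RingEquivClass.isDiscreteValuationRing (IsLocalization.algEquiv P.primeCompl
    (Localization.AtPrime pS) (Localization.AtPrime P)).toRingEquiv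

end Groth.Agent.S10899
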