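import Groth.Statements.S1090
import Mathlib
import Groth.Agent.S1084

set_option autoImplicit false
universe v u
open CategoryTheory CategoryTheory.Limits Opposite
open FilD

namespace Groth.Agent.S1090

/-- Homotopic morphisms from a single complex in degree `0` to a complex concentrated in
nonnegative degrees are equal. -/
lemma eq_of_homotopy_single {C : Type u} [Category.{v} C] [Preadditive C] [HasZeroObject C]
    (X : C) (J : CochainComplex C ℤ) [J.IsStrictlyGE 0]
    (f g : (CochainComplex.singleFunctor C 0).obj X ⟶ J) (h : Homotopy f g) : f = g := by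
  apply HomologicalComplex.hom_ext
  intro n
  by_cases hn : n = 0
  · subst hn
    have h1 : dNext 0 h.hom = 0 := by
      rw [dNext_eq h.hom (show (ComplexShape.up ℤ).Rel 0 1 by simp)]
      have : h.hom 1 0 = 0 :=
        (HomologicalComplex.isZero_single_obj_X (ComplexShape.up ℤ) 0 X 1 (by lia)).eq_of_src _ _
      rw [this, comp_zero]
    have h2 : prevD 0 h.hom = 0 := by
      rw [prevD_eq h.hom (show (ComplexShape.up ℤ).Rel (-1) 0 by simp)]
      have : h.hom 0 (-1) = 0 := (J.isZero_of_isStrictlyGE 0 (-1) (by lia)).eq_of_tgt _ _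
      rw [this, zero_comp]
    rw [h.comm 0, h1, h2, zero_add, zero_add]
  · exact (HomologicalComplex.isZero_single_obj_X (ComplexShape.up ℤ) 0 X n hn).eq_of_src _ _

/-- Let A be an abelian category with enough injectives, f : X ⟶ Y a morphism of finite filtered
objects, and X[0] ⟶ I, Y[0] ⟶ J filtered quasi-isomorphisms into complexes of filtered injective
objects vanishing in negative degrees. Then there is a morphism of complexes I ⟶ J making the
evident square with f[0] commute. -/
theorem result {A : Type u} [Category.{v} A] [Abelian A] [EnoughInjectives A] {X Y : FilD.FilF A} (f : X ⟶ Y)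
    (I : CochainComplex (FilD.FilF A) ℤ) [I.IsStrictlyGE 0] (hI : ∀ n, FilD.IsFilteredInjective (I.X n))
    (a : (CochainComplex.singleFunctor (FilD.FilF A) 0).obj X ⟶ I) (ha : FilD.IsFilteredQuasiIso a)
    (J : CochainComplex (FilD.FilF A) ℤ) [J.IsStrictlyGE 0] (hJ : ∀ n, FilD.IsFilteredInjective (J.X n))
    (b : (CochainComplex.singleFunctor (FilD.FilF A) 0).obj Y ⟶ J) (hb : FilD.IsFilteredQuasiIso b) :
    ∃ φ : I ⟶ J, a ≫ φ = (CochainComplex.singleFunctor (FilD.FilF A) 0).map f ≫ b := by
  obtain ⟨φ', hφ'⟩ := (Groth.Agent.S1084.result J 0 hJ a ha).2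
    ((HomotopyCategory.quotient (FilD.FilF A) (ComplexShape.up ℤ)).map
      ((CochainComplex.singleFunctor (FilD.FilF A) 0).map f ≫ b))
  obtain ⟨φ, rfl⟩ := (HomotopyCategory.quotient (FilD.FilF A) (ComplexShape.up ℤ)).map_surjective φ'
  refine ⟨φ, ?_⟩
  dsimp only at hφ'
  rw [← Functor.map_comp] at hφ'
  exact eq_of_homotopy_single _ J _ _ (HomotopyCategory.homotopyOfEq _ _ hφ')

end Groth.Agent.S1090
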