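import Groth.Statements.S9448
import Mathlib
import Groth.Agent.Lib.Helper24.SmoothRegular
import Groth.Agent.Lib.Helper15.Regular
import Groth.Agent.Lib.Helper26.PolyMax

set_option autoImplicit false
universe u
open Unram

namespace Groth.Agent.S9448


section aux
open MvPolynomial

theorem jac_aux {R A : Type u} [CommRing R] [IsJacobsonRing R] [CommRing A] [Algebra R A]
    [Algebra.FiniteType R A] (m : Ideal A) [hm : m.IsMaximal] : (m.under R).IsMaximal := by
  letI : Field (A ⧸ m) := Ideal.Quotient.field m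
  haveI : Algebra.FiniteType R (A ⧸ m) :=
    Algebra.FiniteType.of_surjective (Ideal.Quotient.mkₐ R m) (Ideal.Quotient.mkₐ_surjective R m)
  haveI : Module.Finite R (A ⧸ m) := finite_of_finite_type_of_isJacobsonRing R (A ⧸ m)
  haveI : Algebra.IsIntegral R (A ⧸ m) := inferInstance
  have h1 : ((⊥ : Ideal (A ⧸ m)).comap (algebraMap R (A ⧸ m))).IsMaximal :=
    Ideal.isMaximal_comap_of_isIntegral_of_isMaximal ⊥
  convert h1 using 1
  ext x
  simp only [Ideal.under, Ideal.mem_comap]
  rw [Ideal.mem_bot, IsScalarTower.algebraMap_apply R A (A ⧸ m), Ideal.Quotient.algebraMap_eq,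
    Ideal.Quotient.eq_zero_iff_mem]

variable (k : Type u) [Field k] (n : ℕ)

/-- height of primes of an étale algebra over `k[x_1..x_n]` lying over a maximal ideal. -/
theorem height_aux {B : Type u} [CommRing B] [Algebra (MvPolynomial (Fin n) k) B]
    [Algebra.Etale (MvPolynomial (Fin n) k) B] (𝔫 : Ideal B) [𝔫.IsPrime]
    (h : (𝔫.under (MvPolynomial (Fin n) k)).IsMaximal) : 𝔫.height = n := by
  set 𝔭 := 𝔫.under (MvPolynomial (Fin n) k) with h𝔭
  haveI : 𝔭.IsMaximal := h
  haveI : 𝔫.LiesOver 𝔭 := ⟨rfl⟩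
  haveI : IsNoetherianRing B := Algebra.FiniteType.isNoetherianRing (MvPolynomial (Fin n) k) B
  have hform := Ideal.height_eq_height_add_of_liesOver_of_hasGoingDown 𝔭 𝔫
  have hp : 𝔭.height = n :=
    Groth.Agent.Lib.helper26.PolyMax.height_eq_of_isMaximal k n 𝔭 inferInstance
  have hzero : (𝔫.map (Ideal.Quotient.mk (𝔭.map (algebraMap (MvPolynomial (Fin n) k) B)))).height
      = 0 := by
    set I := 𝔭.map (algebraMap (MvPolynomial (Fin n) k) B) with hI
    have hIle : I ≤ 𝔫 := Ideal.map_le_iff_le_comap.mpr le_rfl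
    have hsurj : Function.Surjective (Ideal.Quotient.mk I) := Ideal.Quotient.mk_surjective
    haveI hprime : (𝔫.map (Ideal.Quotient.mk I)).IsPrime :=
      Ideal.map_isPrime_of_surjective hsurj (by rw [Ideal.mk_ker]; exact hIle)
    rw [Ideal.height_eq_zero_iff]
    refine ⟨⟨hprime, bot_le⟩, ?_⟩
    rintro 𝔮' ⟨h𝔮', -⟩ hle
    haveI := h𝔮'
    set 𝔮 := 𝔮'.comap (Ideal.Quotient.mk I) with h𝔮
    haveI : 𝔮.IsPrime := Ideal.comap_isPrime _ _
    have h1 : 𝔮 ≤ 𝔫 := by
      have h0 := Ideal.comap_mono (f := Ideal.Quotient.mk I) hle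
      rwa [Ideal.comap_map_of_surjective _ hsurj, ← RingHom.ker_eq_comap_bot, Ideal.mk_ker,
        sup_eq_left.mpr hIle] at h0
    have h2 : 𝔮.under (MvPolynomial (Fin n) k) = 𝔫.under (MvPolynomial (Fin n) k) := by
      have hle2 : 𝔭 ≤ 𝔮.under (MvPolynomial (Fin n) k) := by
        intro x hx
        show Ideal.Quotient.mk I (algebraMap (MvPolynomial (Fin n) k) B x) ∈ 𝔮'
        have h0 : Ideal.Quotient.mk I (algebraMap (MvPolynomial (Fin n) k) B x) = 0 :=
          Ideal.Quotient.eq_zero_iff_mem.mpr (Ideal.mem_map_of_mem _ hx)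
        rw [h0]; exact zero_mem _
      have hne : 𝔮.under (MvPolynomial (Fin n) k) ≠ ⊤ :=
        Ideal.IsPrime.ne_top (Ideal.comap_isPrime _ _)
      exact (Ideal.IsMaximal.eq_of_le ‹𝔭.IsMaximal› hne hle2).symm
    have h3 := Algebra.QuasiFinite.eq_of_le_of_under_eq (R := MvPolynomial (Fin n) k) 𝔮 𝔫 h1 h2
    rw [← h3]
    exact Ideal.map_comap_le
  rw [hform, hp, hzero, add_zero]

theorem local_aux {B T : Type u} [CommRing B] [CommRing T]
    [Algebra (MvPolynomial (Fin n) k) B] [Algebra (MvPolynomial (Fin n) k) T]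
    [Algebra.Etale (MvPolynomial (Fin n) k) B] (φ : B →ₐ[MvPolynomial (Fin n) k] T)
    (hφ : Function.Surjective φ)
    (𝔪 : Ideal T) [𝔪.IsPrime] (hmax : (𝔪.under (MvPolynomial (Fin n) k)).IsMaximal)
    (hdim : ringKrullDim (Localization.AtPrime 𝔪) = n) :
    Algebra.FormallyEtale (MvPolynomial (Fin n) k) (Localization.AtPrime 𝔪) := by
  set 𝔫 := 𝔪.comap φ.toRingHom with h𝔫
  haveI : 𝔫.IsPrime := Ideal.comap_isPrime _ _
  have hunder : 𝔫.under (MvPolynomial (Fin n) k) = 𝔪.under (MvPolynomial (Fin n) k) := by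
    ext x
    simp only [Ideal.under, Ideal.mem_comap, h𝔫]
    show φ (algebraMap _ B x) ∈ 𝔪 ↔ _
    rw [φ.commutes]
  have hht : 𝔫.height = n := height_aux k n 𝔫 (hunder ▸ hmax)
  haveI : Algebra.FinitePresentation (MvPolynomial (Fin n) k) B := inferInstance
  haveI : Algebra.IsSmoothAt (MvPolynomial (Fin n) k) 𝔫 :=
    (inferInstance : Algebra.FormallySmooth (MvPolynomial (Fin n) k) (Localization.AtPrime 𝔫))
  haveI hreg : IsRegularLocalRing (Localization.AtPrime 𝔫) :=
    Groth.Agent.Lib.Helper24.SmoothRegular.isRegularLocalRing_atPrime_of_smoothAt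
      (MvPolynomial (Fin n) k) B 𝔫
  haveI hdom : IsDomain (Localization.AtPrime 𝔫) :=
    Groth.Agent.Lib.helper15.isDomain_of_isRegularLocalRing _
  have hdimB : ringKrullDim (Localization.AtPrime 𝔫) = n := by
    rw [IsLocalization.AtPrime.ringKrullDim_eq_height 𝔫 (Localization.AtPrime 𝔫), hht]
    rfl
  set ψ := Localization.localRingHom 𝔫 𝔪 φ.toRingHom rfl with hψ
  have hψsurj : Function.Surjective ψ := by
    intro y
    obtain ⟨t, ⟨s, hs⟩, rfl⟩ := IsLocalization.exists_mk'_eq 𝔪.primeCompl y
    obtain ⟨b, rfl⟩ := hφ t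
    obtain ⟨b', rfl⟩ := hφ s
    refine ⟨IsLocalization.mk' _ b (⟨b', hs⟩ : 𝔫.primeCompl), ?_⟩
    rw [hψ, Localization.localRingHom_mk']
    rfl
  have hψinj : Function.Injective ψ := by
    rw [injective_iff_map_eq_zero]
    intro x hx
    by_contra hx0
    have hxnzd : x ∈ nonZeroDivisors (Localization.AtPrime 𝔫) :=
      mem_nonZeroDivisors_of_ne_zero hx0
    have h1 := ringKrullDim_quotient_succ_le_of_nonZeroDivisor hxnzd
    let ψ' : Localization.AtPrime 𝔫 ⧸ Ideal.span {x} →+* Localization.AtPrime 𝔪 :=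
      Ideal.Quotient.lift _ ψ (by
        intro a ha
        obtain ⟨c, rfl⟩ := Ideal.mem_span_singleton'.mp ha
        rw [map_mul, hx, mul_zero])
    have hψ'surj : Function.Surjective ψ' :=
      Ideal.Quotient.lift_surjective_of_surjective _ _ hψsurj
    have h2 := ringKrullDim_le_of_surjective ψ' hψ'surj
    rw [hdim] at h2
    rw [hdimB] at h1
    have h3 : (n : WithBot ℕ∞) + 1 ≤ n := le_trans (add_le_add_left h2 1) h1
    have h4 : ((n + 1 : ℕ) : WithBot ℕ∞) ≤ (n : ℕ) := by push_cast; exact h3
    have h5 : n + 1 ≤ n := by exact_mod_cast h4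
    omega
  let e : Localization.AtPrime 𝔫 ≃+* Localization.AtPrime 𝔪 :=
    RingEquiv.ofBijective ψ ⟨hψinj, hψsurj⟩
  let eA : Localization.AtPrime 𝔫 ≃ₐ[MvPolynomial (Fin n) k] Localization.AtPrime 𝔪 :=
    AlgEquiv.ofRingEquiv (f := e) (by
      intro x
      show ψ (algebraMap _ (Localization.AtPrime 𝔫) x) = _
      rw [IsScalarTower.algebraMap_apply (MvPolynomial (Fin n) k) B (Localization.AtPrime 𝔫), hψ,
        Localization.localRingHom_to_map,
        IsScalarTower.algebraMap_apply (MvPolynomial (Fin n) k) T (Localization.AtPrime 𝔪)]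
      congr 1
      exact φ.commutes x)
  exact Algebra.FormallyEtale.of_equiv eA

variable (A : Type u) [CommRing A] [Algebra k A] [Algebra (MvPolynomial (Fin n) k) A]
    [IsScalarTower k (MvPolynomial (Fin n) k) A]

theorem span_aux [Subsingleton Ω[A⁄MvPolynomial (Fin n) k]] :
    Submodule.span A (Set.range fun i : Fin n =>
      KaehlerDifferential.D k A (algebraMap (MvPolynomial (Fin n) k) A (MvPolynomial.X i))) = ⊤ := by
  set N := Submodule.span A (Set.range fun i : Fin n =>
      KaehlerDifferential.D k A (algebraMap (MvPolynomial (Fin n) k) A (MvPolynomial.X i))) with hN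
  have h1 : ∀ η : Ω[MvPolynomial (Fin n) k⁄k],
      KaehlerDifferential.map k k (MvPolynomial (Fin n) k) A η ∈ N := by
    intro η
    have hη : η ∈ Submodule.span (MvPolynomial (Fin n) k)
        (Set.range (KaehlerDifferential.mvPolynomialBasis k (Fin n))) := by
      rw [Module.Basis.span_eq]; trivial
    induction hη using Submodule.span_induction with
    | mem x hx =>
      obtain ⟨i, rfl⟩ := hx
      rw [KaehlerDifferential.mvPolynomialBasis_apply, KaehlerDifferential.map_D]
      exact Submodule.subset_span ⟨i, rfl⟩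
    | zero => rw [map_zero]; exact zero_mem _
    | add x y _ _ hx hy => rw [map_add]; exact add_mem hx hy
    | smul p x _ hx =>
      rw [map_smul, algebra_compatible_smul A p]
      exact Submodule.smul_mem _ _ hx
  rw [eq_top_iff]
  intro ω hωtop
  clear hωtop
  have hex := KaehlerDifferential.exact_mapBaseChange_map k (MvPolynomial (Fin n) k) A
  have hω : KaehlerDifferential.map k (MvPolynomial (Fin n) k) A A ω = 0 := Subsingleton.elim _ _
  obtain ⟨z, rfl⟩ := (hex ω).mp hω
  clear hω
  induction z using TensorProduct.induction_on with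
  | zero => rw [map_zero]; exact zero_mem _
  | tmul a η =>
    rw [KaehlerDifferential.mapBaseChange_tmul]
    exact Submodule.smul_mem _ _ (h1 η)
  | add x y hx hy => rw [map_add]; exact add_mem hx hy

theorem unram_of_span
    (hspan : Submodule.span A (Set.range fun i : Fin n =>
      KaehlerDifferential.D k A (algebraMap (MvPolynomial (Fin n) k) A (MvPolynomial.X i))) = ⊤) :
    Algebra.FormallyUnramified (MvPolynomial (Fin n) k) A := by
  have hzero : KaehlerDifferential.map k (MvPolynomial (Fin n) k) A A = 0 := by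
    apply LinearMap.ext_on hspan
    rintro _ ⟨i, rfl⟩
    rw [KaehlerDifferential.map_D, LinearMap.zero_apply]
    exact (KaehlerDifferential.D (MvPolynomial (Fin n) k) A).map_algebraMap _
  constructor
  constructor
  intro a b
  obtain ⟨a', rfl⟩ := KaehlerDifferential.map_surjective k (MvPolynomial (Fin n) k) A a
  obtain ⟨b', rfl⟩ := KaehlerDifferential.map_surjective k (MvPolynomial (Fin n) k) A b
  rw [hzero]; rfl

theorem etaleAt_max [Algebra.FiniteType (MvPolynomial (Fin n) k) A]
    [Algebra.FormallyUnramified (MvPolynomial (Fin n) k) A]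
    (m : Ideal A) [hm : m.IsMaximal]
    (hdim : ringKrullDim (Localization.AtPrime m) = n) :
    Algebra.IsEtaleAt (MvPolynomial (Fin n) k) m := by
  haveI : Algebra.IsUnramifiedAt (MvPolynomial (Fin n) k) m :=
    (inferInstance : Algebra.FormallyUnramified (MvPolynomial (Fin n) k) (Localization.AtPrime m))
  obtain ⟨f, hf, Q, φ, hφ⟩ :=
    Algebra.IsUnramifiedAt.exists_hasStandardEtaleSurjectionOn (R := MvPolynomial (Fin n) k) m
  have hmprime : m.IsPrime := hm.isPrime
  have hdisj : Disjoint (Submonoid.powers f : Set A) (m : Set A) := by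
    rw [Set.disjoint_left]
    rintro x ⟨j, rfl⟩ hx
    exact hf (hmprime.mem_of_pow_mem j hx)
  set T := Localization.Away f with hT
  set 𝔪 := m.map (algebraMap A T) with h𝔪
  haveI h𝔪prime : 𝔪.IsPrime :=
    IsLocalization.isPrime_of_isPrime_disjoint (Submonoid.powers f) T m hmprime hdisj
  have hcomap : 𝔪.comap (algebraMap A T) = m :=
    IsLocalization.under_map_of_isPrime_disjoint (Submonoid.powers f) T hmprime hdisj
  have hunder : 𝔪.under (MvPolynomial (Fin n) k) = m.under (MvPolynomial (Fin n) k) := by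
    ext x
    simp only [Ideal.under, Ideal.mem_comap]
    rw [IsScalarTower.algebraMap_apply (MvPolynomial (Fin n) k) A T, ← Ideal.mem_comap, hcomap]
  have hmax : (𝔪.under (MvPolynomial (Fin n) k)).IsMaximal := by
    rw [hunder]; exact jac_aux m
  have hdimT : ringKrullDim (Localization.AtPrime 𝔪) = n := by
    have h1 : ringKrullDim (Localization.AtPrime 𝔪) =
        ((𝔪.comap (algebraMap A T)).height : WithBot ℕ∞) :=
      IsLocalization.AtPrime.ringKrullDim_eq_height _ _
    have h2 : ringKrullDim (Localization.AtPrime m) = (m.height : WithBot ℕ∞) :=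
      IsLocalization.AtPrime.ringKrullDim_eq_height _ _
    rw [h1, hcomap, ← h2]
    exact hdim
  have hfe : Algebra.FormallyEtale (MvPolynomial (Fin n) k) (Localization.AtPrime 𝔪) :=
    local_aux k n φ hφ 𝔪 hmax hdimT
  let e' := IsLocalization.localizationLocalizationAtPrimeIsoLocalization
    (M := Submonoid.powers f) 𝔪
  have hfe' : Algebra.FormallyEtale (MvPolynomial (Fin n) k)
      (Localization.AtPrime (𝔪.comap (algebraMap A T))) :=
    Algebra.FormallyEtale.of_equiv (e'.symm.restrictScalars (MvPolynomial (Fin n) k))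
  have key : ∀ (I : Ideal A) (hI : I.IsPrime), I = m →
      @Algebra.IsEtaleAt (MvPolynomial (Fin n) k) A _ _ _ I hI →
      Algebra.IsEtaleAt (MvPolynomial (Fin n) k) m := by
    rintro I hI rfl h
    exact h
  exact key _ _ hcomap hfe'

end aux


/-- For a field k and a finite type algebra A over the polynomial ring k[x_1, …, x_n] (the variables
mapping to a_1, …, a_n), the structure map is étale if and only if (a) the local rings of A at all
maximal ideals have dimension n and (b) da_1, …, da_n generate the module of differentials of A over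
k. -/
theorem result (k : Type u) [Field k] (n : ℕ)
    (A : Type u) [CommRing A] [Algebra k A] [Algebra (MvPolynomial (Fin n) k) A]
    [IsScalarTower k (MvPolynomial (Fin n) k) A] [Algebra.FiniteType (MvPolynomial (Fin n) k) A] :
    Algebra.Etale (MvPolynomial (Fin n) k) A ↔
      (∀ (m : Ideal A) [m.IsMaximal], ringKrullDim (Localization.AtPrime m) = n) ∧
        Submodule.span A (Set.range fun i : Fin n =>
          KaehlerDifferential.D k A (algebraMap (MvPolynomial (Fin n) k) A (MvPolynomial.X i))) = ⊤ := by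
  constructor
  · intro hE
    refine ⟨?_, ?_⟩
    · intro m hm
      rw [IsLocalization.AtPrime.ringKrullDim_eq_height m (Localization.AtPrime m),
        height_aux k n m (jac_aux m)]
      rfl
    · exact span_aux k n A
  · rintro ⟨hdim, hspan⟩
    haveI hunr : Algebra.FormallyUnramified (MvPolynomial (Fin n) k) A := unram_of_span k n A hspan
    haveI : Algebra.FinitePresentation (MvPolynomial (Fin n) k) A :=
      Algebra.FinitePresentation.of_finiteType.mp inferInstance
    rw [← Algebra.etaleLocus_eq_univ_iff_etale, Set.eq_univ_iff_forall]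
    intro p
    obtain ⟨m, hm, hpm⟩ := Ideal.exists_le_maximal p.asIdeal p.2.ne_top
    haveI := hm
    have hmem : (⟨m, hm.isPrime⟩ : PrimeSpectrum A) ∈
        Algebra.etaleLocus (MvPolynomial (Fin n) k) A := etaleAt_max k n A m (hdim m)
    by_contra hp
    rw [Algebra.etaleLocus_eq_compl_support] at hp hmem
    simp only [Set.mem_inter_iff, Set.mem_compl_iff, not_and_or, not_not] at hp
    have hpm' : p ≤ (⟨m, hm.isPrime⟩ : PrimeSpectrum A) := hpm
    rcases hp with h | h
    · exact hmem.1 (Module.mem_support_mono hpm' h)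
    · exact hmem.2 (Module.mem_support_mono hpm' h)


end Groth.Agent.S9448
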