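import Groth.Statements.S10902
import Mathlib
import Groth.Agent.S2790
import Groth.Agent.Lib.Helper26.AffEquidim

set_option autoImplicit false
universe u
open TensorProduct
open SmVar

namespace Groth.Agent.S10902

section aux
open MvPolynomial Groth.Agent.Lib.helper26.DimFormula

theorem dim_quot_le_of_span (k : Type u) [Field k] (r : ℕ) (A : Type u) [CommRing A] [Algebra k A]
    [Algebra (MvPolynomial (Fin r) k) A] [IsScalarTower k (MvPolynomial (Fin r) k) A]
    [Algebra.FiniteType k A]
    (P : Ideal A) [P.IsPrime] (q : Ideal A) [q.IsPrime] (hqP : q ≤ P)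
    (hspan : Submodule.span P.ResidueField (Set.range fun i : Fin r =>
      (1 : P.ResidueField) ⊗ₜ[A] KaehlerDifferential.D k A
        (algebraMap (MvPolynomial (Fin r) k) A (X i))) = ⊤) :
    ringKrullDim (A ⧸ q) ≤ (r : WithBot ℕ∞) := by
  haveI : Algebra.FiniteType (MvPolynomial (Fin r) k) A :=
    Algebra.FiniteType.of_restrictScalars_finiteType k (MvPolynomial (Fin r) k) A
  -- the fibre of Ω_{A/R} at P vanishes
  let g : P.ResidueField ⊗[A] Ω[A⁄k] →ₗ[P.ResidueField]
      P.ResidueField ⊗[A] Ω[A⁄MvPolynomial (Fin r) k] :=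
    (KaehlerDifferential.map k (MvPolynomial (Fin r) k) A A).baseChange P.ResidueField
  have hgsurj : Function.Surjective g := by
    show Function.Surjective
      ((KaehlerDifferential.map k (MvPolynomial (Fin r) k) A A).baseChange P.ResidueField)
    rw [LinearMap.baseChange_eq_ltensor]
    exact LinearMap.lTensor_surjective _
      (KaehlerDifferential.map_surjective k (MvPolynomial (Fin r) k) A)
  have hgzero : g = 0 := by
    apply LinearMap.ext_on hspan
    rintro _ ⟨i, rfl⟩
    show (KaehlerDifferential.map k (MvPolynomial (Fin r) k) A A).baseChange P.ResidueField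
      ((1 : P.ResidueField) ⊗ₜ[A] KaehlerDifferential.D k A
        (algebraMap (MvPolynomial (Fin r) k) A (X i))) = 0
    have h0 : KaehlerDifferential.D (MvPolynomial (Fin r) k) A
        (algebraMap A A (algebraMap (MvPolynomial (Fin r) k) A (X i))) = 0 :=
      (KaehlerDifferential.D (MvPolynomial (Fin r) k) A).map_algebraMap _
    rw [LinearMap.baseChange_tmul, KaehlerDifferential.map_D, h0, TensorProduct.tmul_zero]
  have hsub : Subsingleton (P.ResidueField ⊗[A] Ω[A⁄MvPolynomial (Fin r) k]) := by
    refine ⟨fun x y => ?_⟩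
    obtain ⟨x', rfl⟩ := hgsurj x
    obtain ⟨y', rfl⟩ := hgsurj y
    rw [hgzero]; rfl
  have hP : (⟨P, inferInstance⟩ : PrimeSpectrum A) ∈
      Algebra.unramifiedLocus (MvPolynomial (Fin r) k) A := by
    rw [Algebra.unramifiedLocus_eq_compl_support, Set.mem_compl_iff,
      Module.mem_support_iff_nontrivial_residueField_tensorProduct]
    exact not_nontrivial_iff_subsingleton.mpr hsub
  have hq' : (⟨q, inferInstance⟩ : PrimeSpectrum A) ∈
      Algebra.unramifiedLocus (MvPolynomial (Fin r) k) A := by
    rw [Algebra.unramifiedLocus_eq_compl_support, Set.mem_compl_iff] at hP ⊢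
    have hle : (⟨q, inferInstance⟩ : PrimeSpectrum A) ≤ ⟨P, inferInstance⟩ := hqP
    exact fun h => hP (Module.mem_support_mono hle h)
  haveI : Algebra.IsUnramifiedAt (MvPolynomial (Fin r) k) q := hq'
  -- residue fields
  set q₀ : Ideal (MvPolynomial (Fin r) k) := q.under (MvPolynomial (Fin r) k) with hq₀
  haveI : q₀.IsPrime := Ideal.comap_isPrime _ _
  haveI : q.LiesOver q₀ := ⟨rfl⟩
  letI := Localization.AtPrime.algebraOfLiesOver q₀ q
  haveI : Module.Finite q₀.ResidueField q.ResidueField := inferInstance
  haveI : Algebra.IsAlgebraic q₀.ResidueField q.ResidueField := inferInstance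
  haveI : Algebra.IsAlgebraic (A ⧸ q) q.ResidueField := inferInstance
  haveI : Algebra.IsAlgebraic (MvPolynomial (Fin r) k ⧸ q₀) q₀.ResidueField := inferInstance
  have t1 : Algebra.trdeg k q.ResidueField = Algebra.trdeg k q₀.ResidueField := by
    have T := trdeg_add_eq k q₀.ResidueField (A := q.ResidueField)
    rw [trdeg_eq_zero (R := q₀.ResidueField) (A := q.ResidueField), add_zero] at T
    exact T.symm
  have t2 : Algebra.trdeg k q.ResidueField = Algebra.trdeg k (A ⧸ q) := by
    have T := trdeg_add_eq k (A ⧸ q) (A := q.ResidueField)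
    rw [trdeg_eq_zero (R := A ⧸ q) (A := q.ResidueField), add_zero] at T
    exact T.symm
  have t3 : Algebra.trdeg k q₀.ResidueField = Algebra.trdeg k (MvPolynomial (Fin r) k ⧸ q₀) := by
    have T := trdeg_add_eq k (MvPolynomial (Fin r) k ⧸ q₀) (A := q₀.ResidueField)
    rw [trdeg_eq_zero (R := MvPolynomial (Fin r) k ⧸ q₀) (A := q₀.ResidueField), add_zero] at T
    exact T.symm
  haveI : Algebra.FiniteType k (A ⧸ q) :=
    Algebra.FiniteType.of_surjective (Ideal.Quotient.mkₐ k q) (Ideal.Quotient.mkₐ_surjective k q)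
  haveI : Algebra.FiniteType k (MvPolynomial (Fin r) k ⧸ q₀) :=
    Algebra.FiniteType.of_surjective (Ideal.Quotient.mkₐ k q₀)
      (Ideal.Quotient.mkₐ_surjective k q₀)
  obtain ⟨n₁, hn₁, hd₁⟩ := exists_nat_trdeg_eq_ringKrullDim k (A ⧸ q)
  obtain ⟨n₂, hn₂, hd₂⟩ := exists_nat_trdeg_eq_ringKrullDim k (MvPolynomial (Fin r) k ⧸ q₀)
  have hnn : n₁ = n₂ := by
    have h0 : (n₁ : Cardinal.{u}) = n₂ := by rw [← hn₁, ← hn₂, ← t2, ← t3, t1]
    exact_mod_cast h0
  rw [hd₁, hnn, ← hd₂]
  exact le_trans (ringKrullDim_le_of_surjective (Ideal.Quotient.mk q₀) Ideal.Quotient.mk_surjective)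
    (Groth.Agent.S2790.dim_le_aux k r)

end aux



/-- Let k be a field and A a k-algebra of finite type (X = Spec A a k-scheme of finite type), P a prime
ideal of A, and suppose P contains a prime q with dim A/q ≥ n, i.e. the point P lies on an
irreducible component of X of dimension at least n. Then the fibre at P of the sheaf of
differentials of X over k has dimension at least n over the residue field: dim_{κ(P)} (κ(P) ⊗_A
Ω_{A/k}) ≥ n. (The published statement asks every irreducible component of X to have dimension ≥ n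
and concludes this at every point.) -/
theorem result (k : Type u) [Field k]
    (A : Type u) [CommRing A] [Algebra k A] [Algebra.FiniteType k A] (n : ℕ)
    (P : Ideal A) [P.IsPrime] (q : Ideal A) [q.IsPrime] (hqP : q ≤ P)
    (hq : (n : WithBot ℕ∞) ≤ ringKrullDim (A ⧸ q)) :
    n ≤ Module.finrank P.ResidueField (P.ResidueField ⊗[A] (Ω[A⁄k])) := by
  classical
  let v : A → P.ResidueField ⊗[A] Ω[A⁄k] :=
    fun a => (1 : P.ResidueField) ⊗ₜ[A] KaehlerDifferential.D k A a
  have hkey : ∀ ω : Ω[A⁄k], ∀ c : P.ResidueField,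
      c ⊗ₜ[A] ω ∈ Submodule.span P.ResidueField (Set.range v) := by
    intro ω
    have hω : ω ∈ Submodule.span A (Set.range (KaehlerDifferential.D k A)) := by
      rw [KaehlerDifferential.span_range_derivation]; trivial
    induction hω using Submodule.span_induction with
    | mem x hx =>
      obtain ⟨a, rfl⟩ := hx
      intro c
      have h0 : c ⊗ₜ[A] KaehlerDifferential.D k A a = c • v a := by
        show _ = c • ((1 : P.ResidueField) ⊗ₜ[A] KaehlerDifferential.D k A a)
        rw [TensorProduct.smul_tmul', smul_eq_mul, mul_one]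
      rw [h0]
      exact Submodule.smul_mem _ _ (Submodule.subset_span ⟨a, rfl⟩)
    | zero => intro c; rw [TensorProduct.tmul_zero]; exact zero_mem _
    | add x y _ _ hx hy => intro c; rw [TensorProduct.tmul_add]; exact add_mem (hx c) (hy c)
    | smul s x _ hx =>
      intro c
      rw [← TensorProduct.smul_tmul]
      exact hx (s • c)
  have hv : Submodule.span P.ResidueField (Set.range v) = ⊤ := by
    rw [eq_top_iff]
    rintro x -
    induction x using TensorProduct.induction_on with
    | zero => exact zero_mem _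
    | add x y hx hy => exact add_mem hx hy
    | tmul c ω => exact hkey ω c
  obtain ⟨κ, a, -, hsp, hli⟩ := exists_linearIndependent' P.ResidueField v
  rw [hv] at hsp
  haveI : Finite κ := hli.finite_of_isNoetherian
  haveI := Fintype.ofFinite κ
  let b : Module.Basis κ P.ResidueField (P.ResidueField ⊗[A] Ω[A⁄k]) :=
    Module.Basis.mk hli (by rw [hsp])
  have hr : Module.finrank P.ResidueField (P.ResidueField ⊗[A] Ω[A⁄k]) = Fintype.card κ :=
    Module.finrank_eq_card_basis b
  set r := Module.finrank P.ResidueField (P.ResidueField ⊗[A] Ω[A⁄k]) with hr_def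
  let e : κ ≃ Fin r := Fintype.equivFinOfCardEq hr.symm
  let a' : Fin r → A := fun i => a (e.symm i)
  let φ : MvPolynomial (Fin r) k →ₐ[k] A := MvPolynomial.aeval a'
  letI : Algebra (MvPolynomial (Fin r) k) A := φ.toRingHom.toAlgebra
  haveI : IsScalarTower k (MvPolynomial (Fin r) k) A :=
    IsScalarTower.of_algebraMap_eq' φ.comp_algebraMap.symm
  have hspan : Submodule.span P.ResidueField (Set.range fun i : Fin r =>
      (1 : P.ResidueField) ⊗ₜ[A] KaehlerDifferential.D k A
        (algebraMap (MvPolynomial (Fin r) k) A (MvPolynomial.X i))) = ⊤ := by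
    have h0 : (fun i : Fin r => (1 : P.ResidueField) ⊗ₜ[A] KaehlerDifferential.D k A
        (algebraMap (MvPolynomial (Fin r) k) A (MvPolynomial.X i))) = (v ∘ a) ∘ e.symm := by
      funext i
      show (1 : P.ResidueField) ⊗ₜ[A] KaehlerDifferential.D k A (φ (MvPolynomial.X i)) =
        v (a (e.symm i))
      rw [MvPolynomial.aeval_X]
    rw [h0, e.symm.surjective.range_comp, hsp]
  have hdim := dim_quot_le_of_span k r A P q hqP hspan
  have h1 : (n : WithBot ℕ∞) ≤ (r : WithBot ℕ∞) := hq.trans hdim
  exact_mod_cast h1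


end Groth.Agent.S10902
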