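import Groth.Statements.S10903
import Mathlib
import Groth.Agent.Lib.Helper26.Unmixed
import Groth.Agent.Lib.Helper26.CMCat3
import Groth.Agent.Lib.Helper26.PolyMax


set_option autoImplicit false
universe u
open CInt

namespace Groth.Agent.S10903


open Groth.Agent.Lib.helper26 in
theorem aux (k : Type u) [Field k] (n r : ℕ)
    (hr : r ≤ n) (f : Fin r → MvPolynomial (Fin (n + 1)) k)
    (hJ : (Ideal.span (Set.range f)).height = r) (g : MvPolynomial (Fin (n + 1)) k)
    (hg : ∀ i : Fin (n + 1), ∃ m : ℕ, MvPolynomial.X i ^ m * g ∈ Ideal.span (Set.range f)) :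
    g ∈ Ideal.span (Set.range f) := by
  classical
  have hk := CMCat.isCohenMacaulayRing_field k
  have hS : LocCoh.IsCohenMacaulayRing (MvPolynomial (Fin (n + 1)) k) :=
    CMPoly.isCohenMacaulayRing_mvPolynomial k (n + 1)
  have hlist : Ideal.ofList (List.ofFn f) = Ideal.span (Set.range f) := by
    unfold Ideal.ofList
    congr 1
    ext x
    simp [List.mem_ofFn]
  rw [← hlist] at hJ hg ⊢
  by_contra hgJ
  have hb : (Ideal.Quotient.mk (Ideal.ofList (List.ofFn f)) g) ≠ 0 := by
    intro h
    exact hgJ (Ideal.Quotient.eq_zero_iff_mem.mp h)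
  obtain ⟨P, hP, hle⟩ := exists_le_isAssociatedPrime_of_isNoetherianRing
    (MvPolynomial (Fin (n + 1)) k) (Ideal.Quotient.mk (Ideal.ofList (List.ofFn f)) g) hb
  have hprime : P.IsPrime := hP.isPrime
  have hXP : ∀ i : Fin (n + 1), (MvPolynomial.X i : MvPolynomial (Fin (n + 1)) k) ∈ P := by
    intro i
    obtain ⟨m, hm⟩ := hg i
    have hmem : (MvPolynomial.X i : MvPolynomial (Fin (n + 1)) k) ^ m ∈ P := by
      apply hle
      rw [Submodule.mem_colon_singleton, Submodule.mem_bot]
      change (MvPolynomial.X i ^ m : MvPolynomial (Fin (n + 1)) k) •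
        (Ideal.Quotient.mk (Ideal.ofList (List.ofFn f)) g) = 0
      rw [← Ideal.Quotient.mk_eq_mk, ← Submodule.Quotient.mk_smul, Ideal.Quotient.mk_eq_mk,
        smul_eq_mul]
      exact Ideal.Quotient.eq_zero_iff_mem.mpr hm
    exact hprime.mem_of_pow_mem m hmem
  -- `P` is maximal
  have hPmax : P.IsMaximal := by
    have hext : Ideal.Quotient.mkₐ k P =
        (Algebra.ofId k (MvPolynomial (Fin (n + 1)) k ⧸ P)).comp
          (MvPolynomial.aeval (fun _ : Fin (n + 1) => (0 : k))) := by
      apply MvPolynomial.algHom_ext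
      intro i
      simp only [Ideal.Quotient.mkₐ_eq_mk, AlgHom.comp_apply, MvPolynomial.aeval_X, map_zero]
      exact Ideal.Quotient.eq_zero_iff_mem.mpr (hXP i)
    apply Ideal.Quotient.maximal_of_isField
    refine ⟨⟨0, 1, zero_ne_one⟩, mul_comm, ?_⟩
    intro y hy
    obtain ⟨p, rfl⟩ := Ideal.Quotient.mk_surjective y
    have hp : Ideal.Quotient.mk P p = algebraMap k _ (MvPolynomial.aeval (fun _ : Fin (n + 1) => (0 : k)) p) := by
      have := congrArg (fun φ : MvPolynomial (Fin (n + 1)) k →ₐ[k] _ => φ p) hext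
      simpa using this
    set c := MvPolynomial.aeval (fun _ : Fin (n + 1) => (0 : k)) p with hc
    have hc0 : c ≠ 0 := by
      intro h0
      apply hy
      rw [hp, h0, map_zero]
    refine ⟨algebraMap k _ c⁻¹, ?_⟩
    rw [hp, ← map_mul, mul_inv_cancel₀ hc0, map_one]
  have hht := PolyMax.height_eq_of_isMaximal k (n + 1) P hPmax
  have hunm := Unmixed.height_eq_of_mem_associatedPrimes (MvPolynomial (Fin (n + 1)) k)
    (List.ofFn f) (by rw [hJ, List.length_ofFn]) P hP
  rw [hht, List.length_ofFn] at hunm
  have : n + 1 = r := by exact_mod_cast hunm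
  omega


/-- Let k be a field, S = k[x_0, …, x_n], and f_1, …, f_r with r ≤ n homogeneous polynomials of positive
degrees whose ideal J = (f_1, …, f_r) has height r — the subscheme of P^n_k cut out by the
hypersurfaces f_i = 0 has codimension r, an ideal-theoretic complete intersection. Then J is
saturated with respect to the irrelevant ideal (x_0, …, x_n): an element g of S such that, for each
i, x_i^m g ∈ J for some m, already lies in J. Hence J is the full homogeneous ideal of that
subscheme (a global complete intersection). -/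
theorem result (k : Type u) [Field k] (n r : ℕ)
    (hr : r ≤ n) (f : Fin r → MvPolynomial (Fin (n + 1)) k) (d : Fin r → ℕ)
    (hf : ∀ i, (f i).IsHomogeneous (d i)) (hd : ∀ i, 0 < d i)
    (hJ : (Ideal.span (Set.range f)).height = r) (g : MvPolynomial (Fin (n + 1)) k)
    (hg : ∀ i : Fin (n + 1), ∃ m : ℕ, MvPolynomial.X i ^ m * g ∈ Ideal.span (Set.range f)) :
    g ∈ Ideal.span (Set.range f) := by
  exact aux k n r hr f hJ g hg

end Groth.Agent.S10903
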