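import Groth.Statements.S10904
import Groth.Agent.Lib.Helper26.HilbDiff
import Groth.Agent.Lib.Helper26.HilbHyper


set_option autoImplicit false
universe u
open Polynomial
open ProjDeg

namespace Groth.Agent.S10904


open Groth.Agent.Lib.helper26.HS Groth.Agent.Lib.helper26.HilbHyper Polynomial


/-- Let k be a field, R = k[X_0, …, X_n] graded by degree, I a homogeneous prime ideal of R, f a
homogeneous element of degree d ≥ 1 not in I, and I' = I + (f). Let P be the Hilbert polynomial of
R/I and Q that of R/I': rational polynomials whose value at every large integer m is the k-dimension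
of the degree-m piece, i.e. dim R_m − dim (I ∩ R_m). Assume P has degree at least 1, i.e. the
projective variety V(I) ⊆ P^n_k has dimension ≥ 1. Then Q has degree deg P − 1, and the degrees of
the projective schemes, (degree of the Hilbert polynomial)! times its leading coefficient, satisfy
deg V(I') = d · deg V(I). (The published statement has no dimension hypothesis; for V(I) a single
point the left side is 0 and the right side is d · deg V(I) ≠ 0, and the printed proof uses dim
V(I') = dim V(I) − 1.) -/
theorem result (k : Type u) [Field k] (n : ℕ)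
    (I : Ideal (MvPolynomial (Fin (n + 1)) k)) (hIh : I.IsHomogeneous (CohB1.polyGrading n k)) [I.IsPrime]
    (f : MvPolynomial (Fin (n + 1)) k) (d : ℕ) (hd : 0 < d) (hf : f.IsHomogeneous d) (hfI : f ∉ I)
    (P Q : ℚ[X])
    (hP : ∃ m₀ : ℕ, ∀ m : ℕ, m₀ ≤ m → P.eval (m : ℚ) =
      (Module.finrank k ↥(CohB1.polyGrading n k m) : ℚ) -
        Module.finrank k ↥(Submodule.restrictScalars k I ⊓ CohB1.polyGrading n k m))
    (hQ : ∃ m₀ : ℕ, ∀ m : ℕ, m₀ ≤ m → Q.eval (m : ℚ) =
      (Module.finrank k ↥(CohB1.polyGrading n k m) : ℚ) -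
        Module.finrank k ↥(Submodule.restrictScalars k (I ⊔ Ideal.span {f}) ⊓ CohB1.polyGrading n k m))
    (hdim : 1 ≤ P.natDegree) :
    Q.natDegree + 1 = P.natDegree ∧
      (Q.natDegree.factorial : ℚ) * Q.leadingCoeff =
        d * ((P.natDegree.factorial : ℚ) * P.leadingCoeff) := by
  have key : Q = P - P.comp (X + C (-(d : ℚ))) := by
    obtain ⟨m₁, h₁⟩ := hP
    obtain ⟨m₂, h₂⟩ := hQ
    apply eq_of_eventually_eq Q _ (max m₁ m₂ + d)
    intro m hm
    have hm1 : m₁ ≤ max m₁ m₂ := le_max_left _ _
    have hm2 : m₂ ≤ max m₁ m₂ := le_max_right _ _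
    have hcast : (m : ℚ) + -(d : ℚ) = ((m - d : ℕ) : ℚ) := by
      rw [Nat.cast_sub (by omega)]
      ring
    rw [eval_sub, eval_comp, eval_add, eval_X, eval_C, hcast, h₂ m (by omega), h₁ m (by omega),
      h₁ (m - d) (by omega)]
    have hfr := finrank_part_sup_span I hIh f d hf hfI m (by omega)
    have hfr' : (Module.finrank k (part (I ⊔ Ideal.span {f}) m) : ℚ) +
        (Module.finrank k (part I (m - d)) : ℚ) =
        (Module.finrank k (part I m) : ℚ) +
          (Module.finrank k (MvPolynomial.homogeneousSubmodule (Fin (n + 1)) k (m - d)) : ℚ) := by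
      exact_mod_cast hfr
    unfold part at hfr'
    linarith
  have hd' : (-(d : ℚ)) ≠ 0 := by
    rw [neg_ne_zero]
    exact_mod_cast hd.ne'
  obtain ⟨h1, h2⟩ := natDegree_sub_comp_eq P (-(d : ℚ)) hd' hdim
  rw [key]
  refine ⟨h1, ?_⟩
  rw [h2]
  obtain ⟨e, he⟩ : ∃ e, P.natDegree = e + 1 := ⟨P.natDegree - 1, by omega⟩
  have h3 : (P - P.comp (X + C (-(d : ℚ)))).natDegree = e := by omega
  rw [h3, he, Nat.factorial_succ]
  push_cast
  ring


end Groth.Agent.S10904
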