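import Groth.Statements.S10905
import Groth.Agent.Lib.Helper26.GrHS4
import Groth.Agent.S10904


set_option autoImplicit false
universe u
open Polynomial
open ProjDeg

namespace Groth.Agent.S10905


open Groth.Agent.Lib.helper26.GrHS Groth.Agent.Lib.helper26.HS Groth.Agent.Lib.helper26.HilbHyper
  Groth.Agent.Lib.helper26.Graded

theorem eq_of_add_one_eq {x : WithBot ℕ∞} {a : ℕ} (h : x + 1 = ((a + 1 : ℕ) : WithBot ℕ∞)) :
    x = a := by
  induction x using WithBot.recBotCoe with
  | bot =>
    exfalso
    rw [WithBot.bot_add] at h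
    exact WithBot.bot_ne_coe h
  | coe y =>
    induction y using ENat.recTopCoe with
    | top =>
      exfalso
      have h1 : ((⊤ : ℕ∞) + 1 : ℕ∞) = ((a + 1 : ℕ) : ℕ∞) := by exact_mod_cast h
      rw [top_add] at h1
      exact ENat.top_ne_natCast _ h1
    | coe m =>
      have h1 : m + 1 = a + 1 := by exact_mod_cast h
      have : m = a := by omega
      rw [this]
      rfl


/-- Let k be a field, R = k[X_0, …, X_n] graded by degree, I a homogeneous prime ideal whose Hilbert
polynomial P (a rational polynomial with P(m) = dim_k R_m − dim_k (I ∩ R_m) for all large m) has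
degree ≥ 1, so that Y = V(I) is a projective variety of dimension ≥ 1; let f ∉ I be homogeneous of
degree d ≥ 1, I' = I + (f), and p_1, …, p_r the minimal prime ideals over I' (listed without
repetition), with Hilbert polynomials Q_i. Define the degree of V(J) as (degree of its Hilbert
polynomial)! times the leading coefficient, and the intersection multiplicity of I and (f) at p_i as
the length of (R/I')_{p_i} over R_{p_i}. Then d · deg Y = Σ_i deg V(p_i) · i(I, (f); p_i). (The
published statement has no dimension hypothesis; for Y a single point the only minimal prime over I'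
is the irrelevant ideal, whose Hilbert polynomial is 0, so the right side vanishes while the left
side does not.) -/
theorem result (k : Type u) [Field k] (n : ℕ)
    (I : Ideal (MvPolynomial (Fin (n + 1)) k)) (hIh : I.IsHomogeneous (CohB1.polyGrading n k)) [I.IsPrime]
    (f : MvPolynomial (Fin (n + 1)) k) (d : ℕ) (hd : 0 < d) (hf : f.IsHomogeneous d) (hfI : f ∉ I)
    (P : ℚ[X])
    (hP : ∃ m₀ : ℕ, ∀ m : ℕ, m₀ ≤ m → P.eval (m : ℚ) =
      (Module.finrank k ↥(CohB1.polyGrading n k m) : ℚ) -
        Module.finrank k ↥(Submodule.restrictScalars k I ⊓ CohB1.polyGrading n k m))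
    (hdim : 1 ≤ P.natDegree)
    (r : ℕ) (p : Fin r → Ideal (MvPolynomial (Fin (n + 1)) k)) [hp : ∀ i, (p i).IsPrime] (hpinj : Function.Injective p)
    (hpmin : ∀ q : Ideal (MvPolynomial (Fin (n + 1)) k), q ∈ (I ⊔ Ideal.span {f}).minimalPrimes ↔ ∃ i, q = p i)
    (Qp : Fin r → ℚ[X])
    (hQp : ∀ i, ∃ m₀ : ℕ, ∀ m : ℕ, m₀ ≤ m → (Qp i).eval (m : ℚ) =
      (Module.finrank k ↥(CohB1.polyGrading n k m) : ℚ) -
        Module.finrank k ↥(Submodule.restrictScalars k (p i) ⊓ CohB1.polyGrading n k m)) :
    (d : ℚ) * ((P.natDegree.factorial : ℚ) * P.leadingCoeff) =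
      ∑ i : Fin r, ((Qp i).natDegree.factorial : ℚ) * (Qp i).leadingCoeff *
        (Module.length (Localization.AtPrime (p i))
          (LocalizedModule (p i).primeCompl (MvPolynomial (Fin (n + 1)) k ⧸ (I ⊔ Ideal.span {f})))).toNat := by
  have hI' : (I ⊔ Ideal.span {f}).IsHomogeneous (MvPolynomial.homogeneousSubmodule (Fin (n + 1)) k) := by
    refine Ideal.IsHomogeneous.sup hIh ?_
    apply Ideal.homogeneous_span
    intro y hy
    rw [Set.mem_singleton_iff] at hy
    rw [hy]
    exact ⟨d, (MvPolynomial.mem_homogeneousSubmodule d f).2 hf⟩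
  obtain ⟨Q, hQ⟩ := exists_hilbertPoly (I ⊔ Ideal.span {f}) hI'
  have h04 := Groth.Agent.S10904.result k n I hIh f d hd hf hfI P Q hP hQ hdim
  have hsum := degree_eq_sum (I ⊔ Ideal.span {f}) hI' Q hQ r p hpinj hpmin Qp hQp
  have hpmem : ∀ i, p i ∈ (I ⊔ Ideal.span {f}).minimalPrimes := fun i => (hpmin (p i)).2 ⟨i, rfl⟩
  have hph : ∀ i, (p i).IsHomogeneous (MvPolynomial.homogeneousSubmodule (Fin (n + 1)) k) :=
    fun i => isHomogeneous_of_mem_minimalPrimes hI' (hpmem i)
  have hP0 : P ≠ 0 := by
    rintro rfl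
    simp at hdim
  have hdimI := ringKrullDim_eq_of_isHilbPoly I hIh hP hP0
  have hall : ∀ i, (Qp i).natDegree = Q.natDegree := by
    intro i
    have h1 := dim_quotient_of_mem_minimalPrimes_sup_span k (MvPolynomial (Fin (n + 1)) k) I f hfI
      (p i) (hpmem i)
    rw [hdimI] at h1
    have h2 : ringKrullDim (MvPolynomial (Fin (n + 1)) k ⧸ p i) = (P.natDegree : WithBot ℕ∞) :=
      eq_of_add_one_eq h1
    have hQ0 : Qp i ≠ 0 := by
      intro h0
      have := ringKrullDim_le_zero_of_isHilbPoly_zero (p i) (hph i) (h0 ▸ hQp i)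
      rw [h2] at this
      have h3 : P.natDegree ≤ 0 := by exact_mod_cast this
      omega
    have h3 := ringKrullDim_eq_of_isHilbPoly (p i) (hph i) (hQp i) hQ0
    rw [h2] at h3
    have h4 : P.natDegree = (Qp i).natDegree + 1 := by exact_mod_cast h3
    omega
  rw [← h04.2, hsum]
  refine Finset.sum_congr rfl (fun i _ => ?_)
  rw [if_pos (hall i)]
  rfl


end Groth.Agent.S10905
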