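import Groth.Statements.S10907
import Groth.Agent.Lib.Helper26.GrHS2


set_option autoImplicit false
universe u
open Polynomial
open ProjDeg

namespace Groth.Agent.S10907


open Groth.Agent.Lib.helper26.GrHS Groth.Agent.Lib.helper26.HS Groth.Agent.Lib.helper26.HilbHyper


/-- Let k be a field, R = k[X_0, …, X_n] graded by degree, and I a homogeneous ideal whose Hilbert
polynomial P (a rational polynomial with P(m) = dim_k R_m − dim_k (I ∩ R_m) for all large m) is
nonzero, i.e. the projective scheme V_+(I) ⊆ P^n_k is nonempty. Then the Krull dimension of R/I (the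
affine cone) equals deg P + 1; the dimension of V_+(I) itself is deg P. -/
theorem result (k : Type u) [Field k]
    (n : ℕ) (I : Ideal (MvPolynomial (Fin (n + 1)) k)) (hIh : I.IsHomogeneous (CohB1.polyGrading n k))
    (P : ℚ[X]) (hP0 : P ≠ 0)
    (hP : ∃ m₀ : ℕ, ∀ m : ℕ, m₀ ≤ m → P.eval (m : ℚ) =
      (Module.finrank k ↥(CohB1.polyGrading n k m) : ℚ) -
        Module.finrank k ↥(Submodule.restrictScalars k I ⊓ CohB1.polyGrading n k m)) :
    ringKrullDim (MvPolynomial (Fin (n + 1)) k ⧸ I) = (P.natDegree : WithBot ℕ∞) + 1 := by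
  have hne : I ≠ ⊤ := by
    rintro rfl
    apply hP0
    obtain ⟨m₀, hm₀⟩ := hP
    apply eq_of_eventually_eq P 0 m₀
    intro m hm
    rw [hm₀ m hm, Polynomial.eval_zero]
    have : Submodule.restrictScalars k (⊤ : Ideal (MvPolynomial (Fin (n + 1)) k)) ⊓
        CohB1.polyGrading n k m = CohB1.polyGrading n k m := by
      rw [Submodule.restrictScalars_top, top_inf_eq]
    rw [this, sub_self]
  have hM := hs_one_ne_top I hIh
  obtain ⟨H, hH⟩ := exists_isHSPoly (mI k (Fin (n + 1))) hM
  have h1 := natDegree_hilbert I hIh hH hP hP0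
  rw [ringKrullDim_eq_natDegree I hIh hne hH, ← h1.1]
  push_cast
  rfl


end Groth.Agent.S10907
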