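import Groth.Statements.S10908
import Groth.Agent.Lib.Helper20.ProjNormal

set_option autoImplicit false
universe u
open ProjDeg

namespace Groth.Agent.S10908

open TopologicalSpace Opposite in
/-- Let S be a Noetherian graded integral domain, graded by the natural numbers as an algebra over a
ring R, generated by its degree-one part over S_0 (S_1 S_i = S_{i+1}) with S_1 ≠ 0, and integrally
closed in its field of fractions (so that X = Proj S is projectively normal). Then for every d ≥ 0
the canonical map from S_d to the global sections of the twisting sheaf O_X(d), sending a to the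
section a/1, is bijective. (The underlying lemma: every global section of O_X(d) is an element of
the homogeneous fraction ring integral over S.) (The published corollary takes the degree-zero part
to be a finitely generated algebra over a field; this row assumes only that the ring is Noetherian,
which is all the argument uses.) -/
theorem result {R A : Type u} [CommRing R] [CommRing A] [IsDomain A]
    [IsNoetherianRing A] [Algebra R A] (𝒜 : ℕ → Submodule R A) [GradedAlgebra 𝒜]
    (hgen : ∀ i : ℕ, 𝒜 1 * 𝒜 i = 𝒜 (i + 1)) (h1 : 𝒜 1 ≠ ⊥) (hint : IsIntegrallyClosed A) (d : ℕ) :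
    Function.Bijective (fun a : ↥(𝒜 d) => Twist.globalOf 𝒜 a) := by
  classical
  -- the generic point
  have hirr : ¬ HomogeneousIdeal.irrelevant 𝒜 ≤ (⊥ : HomogeneousIdeal 𝒜) := by
    intro hle
    apply h1
    rw [Submodule.eq_bot_iff]
    intro f hf
    have h2 : f ∈ HomogeneousIdeal.irrelevant 𝒜 := by
      rw [HomogeneousIdeal.mem_irrelevant_iff, GradedRing.proj_apply,
        DirectSum.decompose_of_mem_ne 𝒜 hf one_ne_zero]
    have h3 := hle h2
    exact h3
  have hbotprime : (⊥ : HomogeneousIdeal 𝒜).toIdeal.IsPrime := by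
    show (⊥ : Ideal A).IsPrime
    exact Ideal.isPrime_bot
  let η : ProjectiveSpectrum 𝒜 := ⟨⊥, hbotprime, hirr⟩
  have hη : ∀ a : A, a ∈ η.asHomogeneousIdeal ↔ a = 0 := fun a => Iff.rfl
  have hηmem : ∀ (V : Opens (ProjectiveSpectrum.top 𝒜)) (x : ProjectiveSpectrum 𝒜),
      x ∈ V → η ∈ V := by
    intro V x hx
    have hle : η ≤ x := by
      show η.asHomogeneousIdeal ≤ x.asHomogeneousIdeal
      exact bot_le
    have hcl := (ProjectiveSpectrum.le_iff_mem_closure 𝒜 η x).mp hle
    obtain ⟨y, hyV, hy⟩ := mem_closure_iff.mp hcl (V : Set (ProjectiveSpectrum.top 𝒜)) V.2 hx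
    rw [Set.mem_singleton_iff] at hy
    rw [← hy]
    exact hyV
  -- local representations valid both at `x` and at the generic point
  have rep : ∀ (σ : Twist.sectN (𝒜 := 𝒜) (d : ℤ) (op ⊤)) (x : ProjectiveSpectrum 𝒜),
      ∃ (j : ℕ) (a t : A) (_ : t ∈ 𝒜 j) (_ : a ∈ 𝒜 (j + d))
        (htx : t ∉ x.asHomogeneousIdeal) (htη : t ∉ η.asHomogeneousIdeal),
        (σ.1 ⟨x, trivial⟩).1 = Localization.mk a ⟨t, htx⟩ ∧
        (σ.1 ⟨η, trivial⟩).1 = Localization.mk a ⟨t, htη⟩ := by
    intro σ x
    obtain ⟨V, hxV, ι, i, j, ⟨a, ha⟩, ⟨t, ht⟩, nin, cond, w⟩ := σ.2 ⟨x, trivial⟩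
    have hηV : η ∈ V := hηmem V x hxV
    refine ⟨j, a, t, ht, ?_, nin ⟨x, hxV⟩, nin ⟨η, hηV⟩, w ⟨x, hxV⟩, w ⟨η, hηV⟩⟩
    rcases cond with hc | hc
    · have hij : i = j + d := by exact_mod_cast hc
      rw [← hij]
      exact ha
    · have ha0 : a = 0 := hc
      rw [ha0]
      exact Submodule.zero_mem _
  constructor
  · -- injectivity
    intro a a' haa'
    have h2 := congrArg (fun σ : Twist.sectN (𝒜 := 𝒜) (d : ℤ) (op ⊤) => (σ.1 ⟨η, trivial⟩).1) haa'
    change Localization.mk a.1 _ = Localization.mk a'.1 _ at h2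
    rw [Localization.mk_eq_mk_iff, Localization.r_iff_exists] at h2
    obtain ⟨c, hc⟩ := h2
    have hc0 : (c : A) ≠ 0 := fun h => c.2 ((hη _).mpr h)
    have h3 := mul_left_cancel₀ hc0 hc
    simp only [one_mul] at h3
    exact Subtype.ext h3
  · -- surjectivity
    intro σ
    obtain ⟨j₀, a₀, t₀, ht₀, ha₀, -, ht₀η, -, hw₀⟩ := rep σ η
    have ht₀0 : t₀ ≠ 0 := fun h => ht₀η ((hη _).mpr h)
    have key : ∀ x : ProjectiveSpectrum 𝒜, ∃ (j : ℕ) (a t : A) (_ : t ∈ 𝒜 j) (_ : a ∈ 𝒜 (j + d))
        (htx : t ∉ x.asHomogeneousIdeal),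
        (σ.1 ⟨x, trivial⟩).1 = Localization.mk a ⟨t, htx⟩ ∧ a * t₀ = t * a₀ := by
      intro x
      obtain ⟨j, a, t, ht, ha, htx, htη, hwx, hwη⟩ := rep σ x
      refine ⟨j, a, t, ht, ha, htx, hwx, ?_⟩
      have h2 := hwη.symm.trans hw₀
      rw [Localization.mk_eq_mk_iff, Localization.r_iff_exists] at h2
      obtain ⟨c, hc⟩ := h2
      have hc0 : (c : A) ≠ 0 := fun h => c.2 ((hη _).mpr h)
      have h3 := mul_left_cancel₀ hc0 hc
      simp only at h3
      rw [mul_comm a t₀]
      exact h3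
    obtain ⟨b, hb, hbt⟩ := Groth.Agent.Lib.helper20.ProjNormal.core 𝒜 hgen h1 hint d a₀ t₀ ht₀0
      (fun x => by
        obtain ⟨j, a, t, ht, ha, htx, -, hat⟩ := key x
        exact ⟨j, t, ht, htx, a, ha, hat⟩)
    refine ⟨⟨b, hb⟩, ?_⟩
    apply Subtype.ext
    funext x
    apply Subtype.ext
    obtain ⟨j, a, t, ht, ha, htx, hwx, hat⟩ := key x.1
    have hx : x = ⟨x.1, trivial⟩ := rfl
    rw [hx, hwx]
    change Localization.mk b _ = Localization.mk a _
    rw [Localization.mk_eq_mk_iff, Localization.r_iff_exists]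
    refine ⟨1, ?_⟩
    have hab : a = t * b := by
      apply mul_right_cancel₀ ht₀0
      rw [hat, mul_assoc, hbt]
    simp only [one_mul]
    rw [hab]

end Groth.Agent.S10908
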