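import Groth.Statements.S1091
import Mathlib
import Groth.Agent.Lib.Helper25.FilDLib
import Groth.Agent.Lib.Helper25.FilDInj
import Groth.Agent.Lib.Helper25.FilDBiprod
import Groth.Agent.S1084
import Groth.Agent.S6605

set_option autoImplicit false
universe v u
open CategoryTheory CategoryTheory.Limits Opposite
open FilD

namespace Groth.Agent.S1091

open Groth.Agent.Lib.helper25.FilDLib Groth.Agent.Lib.helper25.FilDInj
  Groth.Agent.Lib.helper25.FilDBiprod

section Twist

variable {C : Type u} [Category.{v} C] [Preadditive C] [HasBinaryBiproducts C]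
  (I J : CochainComplex C ℤ) (t : ∀ n : ℤ, J.X n ⟶ I.X (n + 1))

/-- The differential of the twisted sum. -/
noncomputable def twD (n : ℤ) : I.X n ⊞ J.X n ⟶ I.X (n + 1) ⊞ J.X (n + 1) :=
  biprod.desc (I.d n (n + 1) ≫ biprod.inl) (t n ≫ biprod.inl + J.d n (n + 1) ≫ biprod.inr)

variable (ht : ∀ n : ℤ, t n ≫ I.d (n + 1) (n + 1 + 1) + J.d n (n + 1) ≫ t (n + 1) = 0)

include ht in
lemma twD_sq (n : ℤ) : twD I J t n ≫ twD I J t (n + 1) = 0 := by
  apply biprod.hom_ext'
  · simp [twD]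
  · simp only [twD, biprod.inr_desc_assoc, Preadditive.add_comp, Category.assoc, biprod.inl_desc,
      biprod.inr_desc, Preadditive.comp_add, HomologicalComplex.d_comp_d_assoc, zero_comp,
      add_zero, comp_zero]
    rw [← Category.assoc, ← Category.assoc, ← Preadditive.add_comp, ht, zero_comp]

/-- The twisted sum of two complexes. -/
noncomputable abbrev tw : CochainComplex C ℤ :=
  CochainComplex.of (fun n => I.X n ⊞ J.X n) (twD I J t) (twD_sq I J t ht)

lemma tw_d (n : ℤ) : (tw I J t ht).d n (n + 1) = twD I J t n :=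
  CochainComplex.of_d (fun n => I.X n ⊞ J.X n) (twD I J t) n

/-- The inclusion of `I` in the twisted sum. -/
noncomputable def twInl : I ⟶ tw I J t ht :=
  CochainComplex.ofHom (fun _ => biprod.inl) (fun i => by
    simp [tw, twD])

/-- The projection of the twisted sum to `J`. -/
noncomputable def twSnd : tw I J t ht ⟶ J :=
  CochainComplex.ofHom (fun _ => biprod.snd) (fun i => by
    apply biprod.hom_ext' <;> simp [tw, twD])

end Twist

section Shift

variable {C : Type u} [Category.{v} C] [Preadditive C] (I : CochainComplex C ℤ)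

/-- The shift by one of a cochain complex, with good definitional properties. -/
noncomputable abbrev sh1 : CochainComplex C ℤ :=
  CochainComplex.of (fun n => I.X (n + 1)) (fun n => -I.d (n + 1) (n + 1 + 1)) (by simp)

lemma sh1_d (n : ℤ) : (sh1 I).d n (n + 1) = -I.d (n + 1) (n + 1 + 1) :=
  CochainComplex.of_d (fun n => I.X (n + 1)) (fun n => -I.d (n + 1) (n + 1 + 1)) n

lemma sh1_isStrictlyGE [HasZeroObject C] [I.IsStrictlyGE 0] : (sh1 I).IsStrictlyGE (-1) := by
  rw [CochainComplex.isStrictlyGE_iff]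
  intro i hi
  exact I.isZero_of_isStrictlyGE 0 (i + 1) (by lia)

lemma sh1_prev {W : C} (j k : ℤ) (hjk : j + 1 = k) (h : W ⟶ (sh1 I).X j) :
    ∃ h' : W ⟶ I.X k, h ≫ (sh1 I).d j k = -(h' ≫ I.d k (k + 1)) := by
  subst hjk
  exact ⟨h, by rw [sh1_d, Preadditive.comp_neg]⟩

end Shift

section Facts

variable {A : Type u} [Category.{v} A] [Abelian A] (S : ShortComplex (FilD.FilF A))
  (hS : ∀ p : ℤ, (S.map ((FilD.IsFinFil A).ι ⋙ (evaluation ℤᵒᵖ A).obj (op p))).ShortExact)

include hS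

lemma mono_f_app (c : ℤᵒᵖ) : Mono (S.f.hom.app c) := (hS c.unop).mono_f

lemma epi_g_app (c : ℤᵒᵖ) : Epi (S.g.hom.app c) := (hS c.unop).epi_g

lemma mono_f : Mono S.f := by
  have : ∀ c, Mono (S.f.hom.app c) := mono_f_app S hS
  have : Mono ((FilD.IsFinFil A).ι.map S.f) := (NatTrans.mono_iff_mono_app _).2 this
  exact Functor.mono_of_mono_map (FilD.IsFinFil A).ι this

lemma epi_g : Epi S.g := by
  have : ∀ c, Epi (S.g.hom.app c) := epi_g_app S hS
  have : Epi ((FilD.IsFinFil A).ι.map S.g) := (NatTrans.epi_iff_epi_app _).2 this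
  exact Functor.epi_of_epi_map (FilD.IsFinFil A).ι this

lemma w_hom : S.f.hom ≫ S.g.hom = 0 := congrArg (fun φ => φ.hom) S.zero

lemma strict_f : FilD.IsStrict S.f := by
  apply isStrict_of_refinement
  intro p q h T x y hxy
  exact strict_left S.f.hom S.g.hom (w_hom S hS) h (S.X₃.property.1 _) (hS q).exact x y hxy

lemma exists_desc_app {W : FilD.FilF A} (w : S.X₂ ⟶ W) (hw : S.f ≫ w = 0) (c : ℤᵒᵖ) :
    ∃ z : S.X₃.obj.obj c ⟶ W.obj.obj c, S.g.hom.app c ≫ z = w.hom.app c := by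
  have hw' : S.f.hom.app c ≫ w.hom.app c = 0 := by
    have := congrArg (fun φ => φ.hom.app c) hw
    exact this
  have := (hS c.unop).epi_g
  exact ⟨(hS c.unop).exact.desc (w.hom.app c) hw', (hS c.unop).exact.g_desc _ _⟩

lemma exists_desc_g {W : FilD.FilF A} (w : S.X₂ ⟶ W) (hw : S.f ≫ w = 0) :
    ∃ z : S.X₃ ⟶ W, S.g ≫ z = w := by
  have hepi := epi_g_app S hS
  choose zc hzc using exists_desc_app S hS w hw
  let z : S.X₃.obj ⟶ W.obj :=
    { app := zc
      naturality := fun c c' φ => by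
        have := hepi c
        rw [← cancel_epi (S.g.hom.app c), reassoc_of% (hzc c), ← S.g.hom.naturality_assoc,
          hzc c', w.hom.naturality] }
  refine ⟨ObjectProperty.homMk z, ?_⟩
  ext1
  ext c
  exact hzc c

end Facts

/-- Let A be an abelian category with enough injectives and S = (X ⟶ Y ⟶ Z) a short complex of finite
filtered objects which is short exact at every filtration level (a short exact sequence of
Fil^f(A)). Given filtered quasi-isomorphisms X[0] ⟶ I and Z[0] ⟶ J into complexes of filtered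
injective objects vanishing in negative degrees, there are a complex M, morphisms I ⟶ M ⟶ J which
are termwise split short exact (each Mⁿ is the direct sum of Iⁿ and Jⁿ via these maps), and a
morphism Y[0] ⟶ M making the two squares commute. -/
theorem result {A : Type u} [Category.{v} A] [Abelian A] [EnoughInjectives A] (S : ShortComplex (FilD.FilF A))
    (hS : ∀ p : ℤ, (S.map ((FilD.IsFinFil A).ι ⋙ (evaluation ℤᵒᵖ A).obj (op p))).ShortExact)
    (I : CochainComplex (FilD.FilF A) ℤ) [I.IsStrictlyGE 0] (hI : ∀ n, FilD.IsFilteredInjective (I.X n))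
    (a : (CochainComplex.singleFunctor (FilD.FilF A) 0).obj S.X₁ ⟶ I) (ha : FilD.IsFilteredQuasiIso a)
    (J : CochainComplex (FilD.FilF A) ℤ) [J.IsStrictlyGE 0] (hJ : ∀ n, FilD.IsFilteredInjective (J.X n))
    (c : (CochainComplex.singleFunctor (FilD.FilF A) 0).obj S.X₃ ⟶ J) (hc : FilD.IsFilteredQuasiIso c) :
    ∃ (M : CochainComplex (FilD.FilF A) ℤ) (α : I ⟶ M) (β : M ⟶ J) (b : (CochainComplex.singleFunctor (FilD.FilF A) 0).obj S.X₂ ⟶ M),
      (∀ n, ∃ (r : M.X n ⟶ I.X n) (s : J.X n ⟶ M.X n), α.f n ≫ r = 𝟙 _ ∧ s ≫ β.f n = 𝟙 _ ∧ α.f n ≫ β.f n = 0 ∧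
        r ≫ α.f n + β.f n ≫ s = 𝟙 _) ∧
      a ≫ α = (CochainComplex.singleFunctor (FilD.FilF A) 0).map S.f ≫ b ∧ b ≫ β = (CochainComplex.singleFunctor (FilD.FilF A) 0).map S.g ≫ c := by
  have hf_mono := mono_f S hS
  have hf_strict := strict_f S hS
  have hg_epi := epi_g S hS
  obtain ⟨a', ha'⟩ : ∃ a' : (HomologicalComplex.single (FilD.FilF A) (ComplexShape.up ℤ) 0).obj
      S.X₁ ⟶ I, a' = a := ⟨a, rfl⟩
  obtain ⟨c', hc'⟩ : ∃ c' : (HomologicalComplex.single (FilD.FilF A) (ComplexShape.up ℤ) 0).obj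
      S.X₃ ⟶ J, c' = c := ⟨c, rfl⟩
  obtain ⟨a0, ha0⟩ : ∃ a0 : S.X₁ ⟶ I.X 0,
      a0 = (HomologicalComplex.singleObjXSelf (ComplexShape.up ℤ) 0 S.X₁).inv ≫ a'.f 0 := ⟨_, rfl⟩
  obtain ⟨c0, hc0⟩ : ∃ c0 : S.X₃ ⟶ J.X 0,
      c0 = (HomologicalComplex.singleObjXSelf (ComplexShape.up ℤ) 0 S.X₃).inv ≫ c'.f 0 := ⟨_, rfl⟩
  have ha0d : a0 ≫ I.d 0 (0 + 1) = 0 := by
    rw [ha0, Category.assoc, a'.comm 0 (0 + 1), HomologicalComplex.single_obj_d, zero_comp,
      comp_zero]
  have hc0d : c0 ≫ J.d 0 (0 + 1) = 0 := by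
    rw [hc0, Category.assoc, c'.comm 0 (0 + 1), HomologicalComplex.single_obj_d, zero_comp,
      comp_zero]
  -- step 1
  obtain ⟨y0, hy0⟩ := Groth.Agent.S6605.result S.f hf_strict (hI 0) a0
  -- step 2
  obtain ⟨zb, hzb⟩ := exists_desc_g S hS (y0 ≫ I.d 0 (0 + 1))
    (by rw [reassoc_of% hy0, ha0d])
  have hzbd : zb ≫ I.d (0 + 1) (0 + 1 + 1) = 0 := by
    rw [← cancel_epi S.g, reassoc_of% hzb, I.d_comp_d, comp_zero, comp_zero]
  -- step 3
  let ζ : (HomologicalComplex.single (FilD.FilF A) (ComplexShape.up ℤ) 0).obj S.X₃ ⟶ sh1 I :=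
    HomologicalComplex.mkHomFromSingle (-zb) (by
      intro k hk
      obtain rfl : 0 + 1 = k := hk
      rw [sh1_d, Preadditive.comp_neg, Preadditive.neg_comp, hzbd, neg_zero, neg_zero])
  -- step 4
  have : (sh1 I).IsStrictlyGE (-1) := sh1_isStrictlyGE I
  obtain ⟨τ', hτ'⟩ := (Groth.Agent.S1084.result (sh1 I) (-1) (fun n => hI (n + 1)) c hc).2
    ((HomotopyCategory.quotient (FilD.FilF A) (ComplexShape.up ℤ)).map ζ)
  obtain ⟨τ, rfl⟩ :=
    (HomotopyCategory.quotient (FilD.FilF A) (ComplexShape.up ℤ)).map_surjective τ'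
  dsimp only at hτ'
  rw [← Functor.map_comp] at hτ'
  have H : Homotopy (c' ≫ τ) ζ := by
    rw [hc']
    exact HomotopyCategory.homotopyOfEq _ _ hτ'
  -- step 5
  have hcomm := H.comm 0
  have h1 : dNext 0 H.hom = 0 := by
    rw [dNext_eq H.hom (show (ComplexShape.up ℤ).Rel 0 1 by simp)]
    have : H.hom 1 0 = 0 :=
      (HomologicalComplex.isZero_single_obj_X (ComplexShape.up ℤ) 0 S.X₃ 1 (by lia)).eq_of_src _ _
    rw [this, comp_zero]
  have h2 : prevD 0 H.hom = H.hom 0 (-1) ≫ (sh1 I).d (-1) 0 :=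
    prevD_eq H.hom (show (ComplexShape.up ℤ).Rel (-1) 0 by simp)
  rw [h1, h2, zero_add] at hcomm
  obtain ⟨h', hh'⟩ := sh1_prev I (-1) 0 (by lia)
    ((HomologicalComplex.singleObjXSelf (ComplexShape.up ℤ) 0 S.X₃).inv ≫ H.hom 0 (-1))
  have key : c0 ≫ τ.f 0 = -(h' ≫ I.d 0 (0 + 1)) - zb := by
    have e := congrArg (fun φ =>
      (HomologicalComplex.singleObjXSelf (ComplexShape.up ℤ) 0 S.X₃).inv ≫ φ) hcomm
    dsimp only at e
    rw [HomologicalComplex.comp_f, HomologicalComplex.mkHomFromSingle_f, Preadditive.comp_add,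
      Iso.inv_hom_id_assoc, ← Category.assoc, ← hc0, ← Category.assoc, hh'] at e
    rw [e]
    abel
  -- step 6
  have ht : ∀ n : ℤ, τ.f n ≫ I.d (n + 1) (n + 1 + 1) + J.d n (n + 1) ≫ τ.f (n + 1) = 0 := by
    intro n
    have := τ.comm n (n + 1)
    rw [sh1_d, Preadditive.comp_neg] at this
    rw [← this, add_neg_cancel]
  obtain ⟨y, hy⟩ : ∃ y : S.X₂ ⟶ I.X 0, y = y0 + S.g ≫ h' := ⟨_, rfl⟩
  have hfy : S.f ≫ y = a0 := by
    rw [hy, Preadditive.comp_add, hy0, S.zero_assoc, zero_comp, add_zero]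
  have hyd : y ≫ I.d 0 (0 + 1) + S.g ≫ c0 ≫ τ.f 0 = 0 := by
    rw [key, hy, Preadditive.add_comp, Preadditive.comp_sub, Preadditive.comp_neg, hzb,
      Category.assoc]
    abel
  -- step 7
  have hb0 : biprod.lift y (S.g ≫ c0) ≫ twD I J (fun n => τ.f n) 0 = 0 := by
    rw [twD, biprod.lift_desc]
    have e1 : (S.g ≫ c0) ≫ (τ.f 0 ≫ biprod.inl + J.d 0 (0 + 1) ≫ biprod.inr) =
        (S.g ≫ c0 ≫ τ.f 0) ≫ biprod.inl := by
      rw [Preadditive.comp_add, Category.assoc, Category.assoc, reassoc_of% hc0d, zero_comp,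
        comp_zero, add_zero, Category.assoc, Category.assoc]
    rw [e1, ← Category.assoc, ← Preadditive.add_comp, hyd, zero_comp]
  let M := tw I J (fun n => τ.f n) ht
  let b : (HomologicalComplex.single (FilD.FilF A) (ComplexShape.up ℤ) 0).obj S.X₂ ⟶ M :=
    HomologicalComplex.mkHomFromSingle (biprod.lift y (S.g ≫ c0)) (by
      intro k hk
      obtain rfl : 0 + 1 = k := hk
      rw [tw_d]
      exact hb0)
  refine ⟨M, twInl I J _ ht, twSnd I J _ ht, b, ?_, ?_, ?_⟩
  · intro n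
    exact ⟨biprod.fst, biprod.inr, biprod.inl_fst, biprod.inr_snd, biprod.inl_snd, biprod.total⟩
  · subst ha'
    refine HomologicalComplex.from_single_hom_ext (K := M) (j := 0) (A := S.X₁) ?_
    have e1 : ((HomologicalComplex.single (FilD.FilF A) (ComplexShape.up ℤ) 0).map S.f).f 0 =
        (HomologicalComplex.singleObjXSelf (ComplexShape.up ℤ) 0 S.X₁).hom ≫ S.f ≫
          (HomologicalComplex.singleObjXSelf (ComplexShape.up ℤ) 0 S.X₂).inv :=
      HomologicalComplex.single_map_f_self _ _ _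
    have e2 : b.f 0 = (HomologicalComplex.singleObjXSelf (ComplexShape.up ℤ) 0 S.X₂).hom ≫
        biprod.lift y (S.g ≫ c0) := HomologicalComplex.mkHomFromSingle_f _ _
    have e4 : S.f ≫ biprod.lift y (S.g ≫ c0) = a0 ≫ biprod.inl := by
      apply biprod.hom_ext
      · rw [Category.assoc, biprod.lift_fst, Category.assoc, biprod.inl_fst, Category.comp_id, hfy]
      · rw [Category.assoc, biprod.lift_snd, Category.assoc, biprod.inl_snd, comp_zero,
          S.zero_assoc, zero_comp]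
    show a'.f 0 ≫ (biprod.inl : I.X 0 ⟶ I.X 0 ⊞ J.X 0) =
      ((HomologicalComplex.single (FilD.FilF A) (ComplexShape.up ℤ) 0).map S.f).f 0 ≫ b.f 0
    rw [e1, e2, Category.assoc, Category.assoc, Iso.inv_hom_id_assoc, e4, ha0, Category.assoc,
      Iso.hom_inv_id_assoc]
  · subst hc'
    refine HomologicalComplex.from_single_hom_ext (K := J) (j := 0) (A := S.X₂) ?_
    have e1 : ((HomologicalComplex.single (FilD.FilF A) (ComplexShape.up ℤ) 0).map S.g).f 0 =
        (HomologicalComplex.singleObjXSelf (ComplexShape.up ℤ) 0 S.X₂).hom ≫ S.g ≫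
          (HomologicalComplex.singleObjXSelf (ComplexShape.up ℤ) 0 S.X₃).inv :=
      HomologicalComplex.single_map_f_self _ _ _
    have e2 : b.f 0 = (HomologicalComplex.singleObjXSelf (ComplexShape.up ℤ) 0 S.X₂).hom ≫
        biprod.lift y (S.g ≫ c0) := HomologicalComplex.mkHomFromSingle_f _ _
    show b.f 0 ≫ (biprod.snd : I.X 0 ⊞ J.X 0 ⟶ J.X 0) =
      ((HomologicalComplex.single (FilD.FilF A) (ComplexShape.up ℤ) 0).map S.g).f 0 ≫ c'.f 0
    rw [e1, e2, Category.assoc, biprod.lift_snd, Category.assoc, Category.assoc, hc0]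

end Groth.Agent.S1091
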