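import Groth.Statements.S10912
import Groth.Agent.Lib.Helper16.WeilOpen

set_option autoImplicit false
universe u
open CategoryTheory CategoryTheory.Limits AlgebraicGeometry TopologicalSpace
open WDiv

namespace Groth.Agent.S10912

/-- Let X be an integral Noetherian separated scheme which is regular in codimension 1, and U a nonempty
open subscheme whose complement has codimension at least 2: every point not in U has coheight ≥ 2 in
the specialization order. Then restriction identifies the divisor class groups of X and U;
concretely, since all points of coheight 1 lie in U, a Weil divisor D on X (integer-valued function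
with finite support inside the coheight-1 points) is the divisor of a nonzero rational function on X
if and only if its restriction to U is the divisor of a nonzero rational function on U. -/
theorem result (X : Scheme.{u}) [IsIntegral X]
    [IsNoetherian X] [X.IsSeparated]
    (hR1 : ∀ x : ↥X, Order.coheight x = 1 → IsDiscreteValuationRing ↑(X.presheaf.stalk x))
    (U : X.Opens) [Nonempty U] (hcod : ∀ x : ↥X, x ∉ U → 2 ≤ Order.coheight x)
    (D : ↥X → ℤ) (hD : ∀ x, Order.coheight x ≠ 1 → D x = 0) (hfin : {x | D x ≠ 0}.Finite) :
    (∃ f : ↑X.functionField, f ≠ 0 ∧ ∀ x : ↥X, Order.coheight x = 1 → Scheme.ord f x = D x) ↔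
      ∃ g : ↑(U : Scheme.{u}).functionField, g ≠ 0 ∧
        ∀ u : ↥(U : Scheme.{u}), Order.coheight u = 1 → Scheme.ord g u = D u.1 := by
  constructor
  · rintro ⟨f, hf, h⟩
    refine ⟨Groth.Agent.Lib.helper16.WeilOpen.fieldMap U.ι f, (map_ne_zero _).2 hf, fun u hu => ?_⟩
    rw [Groth.Agent.Lib.helper16.WeilOpen.ord_fieldMap]
    have hco : Order.coheight (U.ι u) = Order.coheight u := coheight_eq_of_isOpenImmersion U.ι
    exact h _ (hco.trans hu)
  · rintro ⟨g, hg, h⟩
    obtain ⟨f, rfl⟩ := (Groth.Agent.Lib.helper16.WeilOpen.fieldMap_bijective U.ι).2 g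
    refine ⟨f, fun hf => hg (by rw [hf, map_zero]), fun x hx => ?_⟩
    have hxU : x ∈ U := by
      by_contra hxU
      have := hcod x hxU
      rw [hx] at this
      exact absurd this (by norm_num)
    let u : ↥(U : Scheme.{u}) := ⟨x, hxU⟩
    have hco : Order.coheight (U.ι u) = Order.coheight u :=
      coheight_eq_of_isOpenImmersion U.ι
    have h1 := h u (hco.symm.trans hx)
    rw [Groth.Agent.Lib.helper16.WeilOpen.ord_fieldMap] at h1
    exact h1

end Groth.Agent.S10912
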