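import Groth.Statements.S10915
import Groth.Agent.Lib.Helper26.Graded2
import Groth.Agent.Lib.Helper26.HS8
import Groth.Agent.Lib.Helper26.Mult1


set_option autoImplicit false
universe u
open ProjDeg

namespace Groth.Agent.S10915


open Groth.Agent.Lib.helper26.Graded Groth.Agent.Lib.helper26.HS MvPolynomial

attribute [local instance] MvPolynomial.gradedAlgebra

/-- `dim R/J ≤ r` for a homogeneous ideal `J` of `k[X_0..X_n]` (`k` infinite): there are `r` linear
forms `h` with `(X)^N ≤ J + (h)`. -/
theorem claim (k : Type u) [Field k] [Infinite k] (n : ℕ) (r : ℕ) :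
    ∀ (J : Ideal (MvPolynomial (Fin (n + 1)) k))
      (_ : J.IsHomogeneous (homogeneousSubmodule (Fin (n + 1)) k))
      (_ : ringKrullDim (MvPolynomial (Fin (n + 1)) k ⧸ J) ≤ r),
      ∃ h : Fin r → MvPolynomial (Fin (n + 1)) k, (∀ i, (h i).IsHomogeneous 1) ∧
        ∃ N : ℕ, (Ideal.span (Set.range
          (MvPolynomial.X : Fin (n + 1) → MvPolynomial (Fin (n + 1)) k))) ^ N ≤
          J ⊔ Ideal.span (Set.range h) := by
  have hmax := span_X_isMaximal (k := k) (σ := Fin (n + 1))
  induction r with
  | zero =>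
    intro J hJ hdim
    refine ⟨Fin.elim0, fun i => i.elim0, ?_⟩
    have hrange : Set.range (Fin.elim0 : Fin 0 → MvPolynomial (Fin (n + 1)) k) = ∅ :=
      Set.range_eq_empty _
    rw [hrange, Ideal.span_empty, sup_bot_eq]
    apply Ideal.exists_pow_le_of_le_radical_of_fg _ (IsNoetherian.noetherian _)
    rw [← Ideal.sInf_minimalPrimes]
    apply le_sInf
    intro p hp
    have hpprime : p.IsPrime := hp.1.1
    have hph := isHomogeneous_of_mem_minimalPrimes hJ hp
    have hple := le_span_X_of_isHomogeneous hph hpprime.ne_top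
    -- `p` is maximal, as `dim R/p ≤ 0`
    by_contra hcon
    have hlt : (⟨p, hpprime⟩ : PrimeSpectrum (MvPolynomial (Fin (n + 1)) k)) <
        ⟨_, hmax.isPrime⟩ := lt_of_le_of_ne hple (fun h => hcon (by
          have := congrArg PrimeSpectrum.asIdeal h
          exact le_of_eq this.symm))
    have h1 := Order.coheight_add_one_le hlt
    have h2 : ringKrullDim (MvPolynomial (Fin (n + 1)) k ⧸ p) ≤ 0 :=
      (ringKrullDim_le_of_surjective (Ideal.Quotient.factor hp.1.2)
        (Ideal.Quotient.factor_surjective hp.1.2)).trans (by exact_mod_cast hdim)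
    rw [ringKrullDim_quotient_eq_coheight ⟨p, hpprime⟩] at h2
    have h3 : Order.coheight (⟨p, hpprime⟩ : PrimeSpectrum (MvPolynomial (Fin (n + 1)) k)) ≤ 0 := by
      exact_mod_cast h2
    have h4 : (0 : ℕ∞) + 1 ≤ 0 := (add_le_add zero_le le_rfl).trans (h1.trans h3)
    norm_num at h4
  | succ r ih =>
    intro J hJ hdim
    classical
    have hfin : J.minimalPrimes.Finite := Ideal.finite_minimalPrimes_of_isNoetherianRing _ J
    let s : Finset (Ideal (MvPolynomial (Fin (n + 1)) k)) := hfin.toFinset.filter
      (fun p => ¬ Ideal.span (Set.range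
        (MvPolynomial.X : Fin (n + 1) → MvPolynomial (Fin (n + 1)) k)) ≤ p)
    obtain ⟨h₀, hh₀, hav⟩ := exists_linear_form_notMem s (fun p hp => (Finset.mem_filter.1 hp).2)
    have hJ' : (J ⊔ Ideal.span {h₀}).IsHomogeneous (homogeneousSubmodule (Fin (n + 1)) k) := by
      apply Ideal.IsHomogeneous.sup hJ
      apply Ideal.homogeneous_span
      intro x hx
      rw [Set.mem_singleton_iff] at hx
      rw [hx]
      exact ⟨1, hh₀⟩
    have hdim' : ringKrullDim (MvPolynomial (Fin (n + 1)) k ⧸ (J ⊔ Ideal.span {h₀})) ≤ r := by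
      apply ringKrullDim_quotient_le_of_forall_minimalPrimes
      intro Q hQ
      have hQprime : Q.IsPrime := hQ.1.1
      obtain ⟨p, hp, hpQ⟩ := Ideal.exists_minimalPrimes_le (le_sup_left.trans hQ.1.2 : J ≤ Q)
      have hpprime : p.IsPrime := hp.1.1
      by_cases hmp : Ideal.span (Set.range
          (MvPolynomial.X : Fin (n + 1) → MvPolynomial (Fin (n + 1)) k)) ≤ p
      · -- `Q` is the irrelevant ideal
        have hQm : Ideal.span (Set.range
            (MvPolynomial.X : Fin (n + 1) → MvPolynomial (Fin (n + 1)) k)) = Q :=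
          hmax.eq_of_le hQprime.ne_top (hmp.trans hpQ)
        have : Q.IsMaximal := hQm ▸ hmax
        let _ : Field (MvPolynomial (Fin (n + 1)) k ⧸ Q) := Ideal.Quotient.field Q
        rw [ringKrullDim_eq_zero_of_field]
        exact_mod_cast Nat.zero_le r
      · have hps : p ∈ s := Finset.mem_filter.2 ⟨hfin.mem_toFinset.2 hp, hmp⟩
        have hh₀p : h₀ ∉ p := hav p hps
        obtain ⟨P, hP, hPQ⟩ := Ideal.exists_minimalPrimes_le
          (sup_le hpQ ((le_sup_right : Ideal.span {h₀} ≤ J ⊔ Ideal.span {h₀}).trans hQ.1.2) :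
            p ⊔ Ideal.span {h₀} ≤ Q)
        have hdrop := dim_quotient_of_mem_minimalPrimes_sup_span k _ p h₀ hh₀p P hP
        have h1 : ringKrullDim (MvPolynomial (Fin (n + 1)) k ⧸ p) ≤ ((r + 1 : ℕ) : WithBot ℕ∞) :=
          (ringKrullDim_le_of_surjective (Ideal.Quotient.factor hp.1.2)
            (Ideal.Quotient.factor_surjective hp.1.2)).trans hdim
        rw [← hdrop] at h1
        have h2 : ringKrullDim (MvPolynomial (Fin (n + 1)) k ⧸ P) ≤ r := le_of_add_one_le h1
        exact (ringKrullDim_le_of_surjective (Ideal.Quotient.factor hPQ)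
          (Ideal.Quotient.factor_surjective hPQ)).trans h2
    obtain ⟨h', hh', N, hN⟩ := ih (J ⊔ Ideal.span {h₀}) hJ' hdim'
    refine ⟨Fin.cons h₀ h', ?_, N, ?_⟩
    · intro i
      refine Fin.cases ?_ (fun j => ?_) i
      · simpa using hh₀
      · simpa using hh' j
    · rw [Fin.range_cons, Ideal.span_insert, ← sup_assoc]
      exact hN


/-- Let k be an algebraically closed field, R = k[X_0, …, X_n] graded by degree, and I a homogeneous
prime ideal with dim R/I = r + 1, so that X = V_+(I) ⊆ P^n_k is a projective variety of dimension r.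
Then there are r + 1 linear forms h_1, …, h_{r+1} (homogeneous of degree 1) whose common zero set in
P^n_k does not meet X, i.e. the ideal I + (h_1, …, h_{r+1}) contains some power of the irrelevant
ideal (X_0, …, X_n). (The published statement says that a generic linear subspace of dimension n − r
− 1 misses X; this row asserts only that one such subspace, cut out by r + 1 linear forms, exists.) -/
theorem result (k : Type u) [Field k] [IsAlgClosed k]
    (n r : ℕ) (I : Ideal (MvPolynomial (Fin (n + 1)) k)) (hIh : I.IsHomogeneous (CohB1.polyGrading n k)) [I.IsPrime]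
    (hdim : ringKrullDim (MvPolynomial (Fin (n + 1)) k ⧸ I) = (r : WithBot ℕ∞) + 1) :
    ∃ h : Fin (r + 1) → MvPolynomial (Fin (n + 1)) k, (∀ i, (h i).IsHomogeneous 1) ∧
      ∃ N : ℕ, (Ideal.span (Set.range (MvPolynomial.X : Fin (n + 1) → MvPolynomial (Fin (n + 1)) k))) ^ N ≤
        I ⊔ Ideal.span (Set.range h) := by
  have : Infinite k := IsAlgClosed.instInfinite
  exact claim k n (r + 1) I hIh (by rw [hdim]; norm_cast)


end Groth.Agent.S10915
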