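import Groth.Statements.S10920
import Mathlib
import Groth.Agent.Lib.Helper16.ModPairLib2
import Groth.Agent.S17083

set_option autoImplicit false
universe u
open CategoryTheory AlgebraicGeometry
open SDiv

namespace Groth.Agent.S10920

section helpers
open CategoryTheory.Limits TopologicalSpace

open Groth.Agent.Lib.helper16.EffCartier Groth.Agent.Lib.helper16.EffCartier2
  Groth.Agent.Lib.helper16.ModPairLib Groth.Agent.Lib.helper16.ModPairLib2

/-- a map from `(T, IT)` (effective Cartier) to `P` sending the interior of `IT` into the open `O`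
factors through the scheme-theoretic image of `O`. -/
lemma ker_imageι_le {W P : Scheme.{u}} (IW : W.IdealSheafData) (hW : BlowUp.IsEffCartierIdeal IW)
    (U₀ : P.Opens) (c' : W ⟶ P) (h : ∀ w : W, w ∈ ModPair.interior IW → c' w ∈ U₀) :
    U₀.ι.imageι.ker ≤ c'.ker := by
  have h0 : (ModPair.interior IW).ι.ker = ⊥ :=
    ker_ι_eq_bot_of_isEffCartier IW hW (ModPair.interior IW) (fun x hx => hx)
  have h1 : ((ModPair.interior IW).ι ≫ c').ker = c'.ker := by
    rw [Scheme.Hom.ker_comp, h0, Scheme.IdealSheafData.map_bot]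
  have hrange : Set.range ((ModPair.interior IW).ι ≫ c') ⊆ Set.range U₀.ι := by
    rintro _ ⟨w, rfl⟩
    rw [Scheme.Opens.range_ι]
    exact h _ w.2
  have h2 : IsOpenImmersion.lift U₀.ι ((ModPair.interior IW).ι ≫ c') hrange ≫ U₀.ι =
      (ModPair.interior IW).ι ≫ c' := IsOpenImmersion.lift_fac _ _ _
  rw [← h1, ← h2]
  show U₀.ι.ker.subschemeι.ker ≤ _
  rw [Scheme.IdealSheafData.ker_subschemeι]
  exact Scheme.Hom.le_ker_comp _ _

/-- the strict transform (closure of the complement of the exceptional divisor in `X' ×_X Y`) is a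
blowing up of `Y`. -/
theorem isBlowUp_strict {X Y X' : Scheme.{u}} (𝓘 : X.IdealSheafData) (f : Y ⟶ X)
    (b : X' ⟶ X) (hb : BlowUp.IsBlowUp b 𝓘) :
    BlowUp.IsBlowUp ((pullback.fst b f ⁻¹ᵁ ModPair.interior (𝓘.comap b)).ι.imageι ≫ pullback.snd b f)
      (𝓘.comap f) := by
  haveI := isAffineHom_preimage_interior_ι (𝓘.comap b) hb.1 (pullback.fst b f)
  set O := pullback.fst b f ⁻¹ᵁ ModPair.interior (𝓘.comap b) with hO
  refine ⟨?_, ?_⟩
  · have h1 := isEffCartier_comap_imageι (𝓘.comap b) hb.1 O (pullback.fst b f) le_rfl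
    rw [← Scheme.IdealSheafData.comap_comp, Category.assoc, pullback.condition,
      ← Category.assoc, Scheme.IdealSheafData.comap_comp] at h1
    rw [← Scheme.IdealSheafData.comap_comp]
    rw [← Scheme.IdealSheafData.comap_comp] at h1
    simpa only [Category.assoc] using h1
  · intro T g hg
    rw [← Scheme.IdealSheafData.comap_comp] at hg
    obtain ⟨h, hh, hhu⟩ := hb.2 T (g ≫ f) hg
    have hle : O.ι.imageι.ker ≤ (pullback.lift h g hh).ker := by
      apply ker_imageι_le (𝓘.comap (g ≫ f)) hg
      intro t ht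
      show (pullback.fst b f) ((pullback.lift h g hh) t) ∈ ModPair.interior (𝓘.comap b)
      rw [← Scheme.Hom.comp_apply, pullback.lift_fst]
      intro h'
      apply ht
      show t ∈ (𝓘.comap (g ≫ f)).support
      rw [← hh, Scheme.IdealSheafData.comap_comp, mem_compl_support_comap]
      exact h'
    have hfac : IsClosedImmersion.lift O.ι.imageι (pullback.lift h g hh) hle ≫ O.ι.imageι =
        pullback.lift h g hh := IsClosedImmersion.lift_fac _ _ _
    refine ⟨IsClosedImmersion.lift O.ι.imageι (pullback.lift h g hh) hle, ?_, ?_⟩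
    · show _ ≫ _ ≫ _ = g
      rw [← Category.assoc, hfac, pullback.lift_snd]
    · intro c hc
      have hc' : c ≫ O.ι.imageι ≫ pullback.snd b f = g := hc
      rw [← cancel_mono O.ι.imageι, hfac]
      apply pullback.hom_ext
      · rw [pullback.lift_fst]
        apply hhu
        show (c ≫ O.ι.imageι ≫ pullback.fst b f) ≫ b = g ≫ f
        rw [Category.assoc, Category.assoc, pullback.condition, ← hc']
        simp only [Category.assoc]
      · rw [pullback.lift_snd, Category.assoc, hc']


theorem result' {X Y X' Y' : Scheme.{u}}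
    (𝓘 : X.IdealSheafData) (f : Y ⟶ X) [IsClosedImmersion f]
    (b : X' ⟶ X) (hb : BlowUp.IsBlowUp b 𝓘) (b' : Y' ⟶ Y) (hb' : BlowUp.IsBlowUp b' (𝓘.comap f))
    (f' : Y' ⟶ X') (hf' : f' ≫ b = b' ≫ f) : IsClosedImmersion f' := by
  have hs := isBlowUp_strict 𝓘 f b hb
  set O := pullback.fst b f ⁻¹ᵁ ModPair.interior (𝓘.comap b) with hO
  -- the comparison morphism `Y' ⟶ Y''`
  obtain ⟨φ, hφ, -⟩ := hs.2 Y' b' hb'.1
  haveI : IsIso φ := Groth.Agent.S17083.isIso_of_isBlowUp (𝓘.comap f) b'
    (O.ι.imageι ≫ pullback.snd b f) hb' hs φ hφ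
  have hE : BlowUp.IsEffCartierIdeal (𝓘.comap (b' ≫ f)) := by
    rw [Scheme.IdealSheafData.comap_comp]
    exact hb'.1
  obtain ⟨h, -, hhu⟩ := hb.2 Y' (b' ≫ f) hE
  have e1 : f' = h := hhu f' hf'
  have e2 : φ ≫ O.ι.imageι ≫ pullback.fst b f = h := by
    apply hhu
    show (φ ≫ O.ι.imageι ≫ pullback.fst b f) ≫ b = b' ≫ f
    rw [← hφ]
    simp only [Category.assoc, pullback.condition]
  rw [e1, ← e2]
  infer_instance


end helpers


/-- Let X be a Noetherian scheme, I a quasi-coherent ideal sheaf on X, f : Y → X a closed immersion, b :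
X' → X a blowing up of X in I and b' : Y' → Y a blowing up of Y in the inverse image ideal sheaf
I·O_Y (blow-ups in the sense of the universal property: the inverse image ideal becomes effective
Cartier, universally). If f' : Y' → X' is the morphism compatible with the blow-ups, b ∘ f' = f ∘ b'
(it exists and is unique by the universal property), then f' is a closed immersion; Y' is the strict
transform of Y. -/
theorem result {X Y X' Y' : Scheme.{u}} [IsNoetherian X]
    (𝓘 : X.IdealSheafData) (f : Y ⟶ X) [IsClosedImmersion f]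
    (b : X' ⟶ X) (hb : BlowUp.IsBlowUp b 𝓘) (b' : Y' ⟶ Y) (hb' : BlowUp.IsBlowUp b' (𝓘.comap f))
    (f' : Y' ⟶ X') (hf' : f' ≫ b = b' ≫ f) : IsClosedImmersion f' := by
  exact Groth.Agent.S10920.result' 𝓘 f b hb b' hb' f' hf'

end Groth.Agent.S10920
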