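import Groth.Statements.S10924
import Groth.Agent.Lib.Helper20.Euler6b
import Groth.Agent.Lib.Helper19.ProjSpaceProper

set_option autoImplicit false
universe u
open CategoryTheory CategoryTheory.Limits AlgebraicGeometry
open ProjDual

namespace Groth.Agent.S10924

/-- Let k be a field, 0 ≤ p ≤ r, P = P^r_k with structure map to Spec k, Ω = Ω^1_{P/k} (the conormal
sheaf of the diagonal), L an O_P-module which is a p-th exterior power of Ω, and e a natural number
with r < e + p, so that the twist d = -e satisfies d < p - r; write L(d) = L ⊗ O_P(d). Then H^r(P,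
L(-e)) = H^r(P^r, Ω^p(-e)) is a k-vector space of dimension C(e+p, e) · C(e-1, r-p). -/
theorem result (k : Type u) [Field k] (r p : ℕ) (hp : p ≤ r)
    (L : (CohB1.ProjSpace r k).Modules)
    (hL : ExtPow.IsExtPow p (Omega.sheaf (CohB1.ProjSpace.toSpec r k)) L) (e : ℕ) (he : r < e + p) :
    Module.finrank k (Coh.HH (CohB1.ProjSpace r k)
      (CohB1.tensorMod L (Twist.twistProjSpace r k (-(e : ℤ)))) r) =
      Nat.choose (e + p) e * Nat.choose (e - 1) (r - p) := by
  haveI : QuasiSeparated (CohB1.ProjSpace.toSpec r k) := inferInstance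
  haveI : QuasiSeparated (Groth.Agent.Lib.helper20.Euler2.fP r k) :=
    ‹QuasiSeparated (CohB1.ProjSpace.toSpec r k)›
  obtain ⟨φ, hφ⟩ := hL
  obtain ⟨e0⟩ := Groth.Agent.Lib.helper20.Euler4f.nonempty_iso_Z (n := r) (A := k) (p := p)
    (L := L) φ hφ
  have e' : L ≅ Groth.Agent.Lib.helper20.Euler5b.ZZ r k p := e0
  have e2 : CohB1.tensorMod L (Twist.twistProjSpace r k (-(e : ℤ))) ≅
      Groth.Agent.Lib.helper20.Euler5b.Zk r k (-(e : ℤ)) p :=
    Groth.Agent.Lib.Lead.ModTensor.tensorIso e' (Iso.refl _)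
  rw [(Groth.Agent.Lib.Helper18.HH.isoEquivOver k e2 r).finrank_eq]
  by_cases hr : 1 ≤ r
  · exact (Groth.Agent.Lib.helper20.Euler6b.finrank_Hr_Zk k r hr e (r - p) p (by omega) he).2
  · have hr0 : r = 0 := by omega
    subst hr0
    have hp0 : p = 0 := by omega
    subst hp0
    rw [Groth.Agent.Lib.helper20.Euler6b.finrank_H0_Zk_P0 k (-(e : ℤ))]
    simp

end Groth.Agent.S10924
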