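import Groth.Statements.S10926
import Mathlib
import Groth.Agent.Lib.Helper21.FibreH0b
import Groth.Agent.Lib.Helper19.ProjSpaceProper
import Groth.Agent.Lib.Helper12.InvDual2
import Groth.Agent.Lib.Helper12.PullTensor
import Groth.Agent.Lib.Helper12.TensorInv
import Groth.Agent.Lib.Lead.ModTensor
-- import your own Groth.Agent.* helpers here

set_option autoImplicit false
universe u
open CategoryTheory CategoryTheory.Limits AlgebraicGeometry
open PicF

namespace Groth.Agent.S10926

/-- Let k be an algebraically closed field, Y an integral scheme of finite type over k, f : X → Y flat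
and projective (f = i ≫ pr for a closed immersion i : X → P^n_Y) with every fibre X_y integral, and
L, M invertible O_X-modules whose pullbacks to each fibre X_y are isomorphic. Then there is an
invertible O_Y-module E with L ≅ M ⊗ f^*E. -/
theorem result (k : Type u) [Field k] [IsAlgClosed k]
    {X Y : Scheme.{u}} (g : Y ⟶ Spec (CommRingCat.of k)) [LocallyOfFiniteType g] [QuasiCompact g]
    [IsIntegral Y] (n : ℕ) (i : X ⟶ CohB1.ProjSpaceOver n Y) [IsClosedImmersion i]
    (f : X ⟶ Y) (hf : f = i ≫ CohB1.ProjSpaceOver.toBase n Y) [Flat f]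
    (hint : ∀ y : Y, IsIntegral (f.fiber y))
    (L M : X.Modules) (hL : PicF.IsInvertible L) (hM : PicF.IsInvertible M)
    (hLM : ∀ y : Y, Nonempty ((Scheme.Modules.pullback (f.fiberι y)).obj L ≅ (Scheme.Modules.pullback (f.fiberι y)).obj M)) :
    ∃ E : Y.Modules, PicF.IsInvertible E ∧
      Nonempty (L ≅ CohB1.tensorMod M ((Scheme.Modules.pullback f).obj E)) := by
  subst hf
  haveI : IsProper (i ≫ CohB1.ProjSpaceOver.toBase n Y) := inferInstance
  haveI : IsLocallyNoetherian Y := LocallyOfFiniteType.isLocallyNoetherian g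
  haveI : CompactSpace Y := QuasiCompact.compactSpace_of_compactSpace g
  haveI : IsReduced Y := inferInstance
  have hcl : ∀ z : Y, IsClosed ({z} : Set Y) → IsAlgClosed (Y.residueField z) := by
    intro z hz
    exact IsAlgClosed.of_ringEquiv (k := k) (Y.residueField z)
      (residueFieldIsoBase g z hz).commRingCatIsoToRingEquiv.symm
  have h0 := Groth.Agent.Lib.helper21.FibreH0.finrank_fiber_eq_one
    (i ≫ CohB1.ProjSpaceOver.toBase n Y) hint hcl
  set f := i ≫ CohB1.ProjSpaceOver.toBase n Y with hfdef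
  obtain ⟨M', hM', ⟨eMM'⟩, ⟨eM'M⟩⟩ := Groth.Agent.Lib.helper12.InvDual.exists_inverse hM
  have hN : PicF.IsInvertible (CohB1.tensorMod L M') :=
    Groth.Agent.Lib.helper12.TensorInv.isInvertible_tensorMod hL hM'
  have hyN : ∀ y : Y, Nonempty (CohIII.fiberMod f (CohB1.tensorMod L M') y ≅
      Coh.structureModule (f.fiber y)) := fun y => by
    obtain ⟨e⟩ := hLM y
    exact ⟨Groth.Agent.Lib.helper12.PullTensor.pullTensorIso (f.fiberι y) L M' hM' ≪≫
      Groth.Agent.Lib.Lead.ModTensor.tensorIso e (Iso.refl _) ≪≫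
      (Groth.Agent.Lib.helper12.PullTensor.pullTensorIso (f.fiberι y) M M' hM').symm ≪≫
      (Scheme.Modules.pullback (f.fiberι y)).mapIso eMM' ≪≫
      Groth.Agent.Lib.helper11.InvMod.pullbackUnitIso (f.fiberι y)⟩
  have hE := Groth.Agent.Lib.helper21.PicFibre.isInvertible_pushforward f h0 _ hN hyN
  haveI := Groth.Agent.Lib.helper21.PicFibre.isIso_counit f h0 _ hN hyN
  refine ⟨(Scheme.Modules.pushforward f).obj (CohB1.tensorMod L M'), hE, ⟨?_⟩⟩
  let e0 : L ≅ CohB1.tensorMod M (CohB1.tensorMod L M') :=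
    (Groth.Agent.Lib.Lead.ModTensor.rightUnitor L).symm ≪≫
      Groth.Agent.Lib.Lead.ModTensor.tensorIso (Iso.refl L) eM'M.symm ≪≫
      (Groth.Agent.Lib.Lead.ModTensor.assoc L M' M).symm ≪≫
      Groth.Agent.Lib.Lead.ModTensor.braid _ _
  exact e0 ≪≫ Groth.Agent.Lib.Lead.ModTensor.tensorIso (Iso.refl M)
    (asIso ((Scheme.Modules.pullbackPushforwardAdjunction f).counit.app
      (CohB1.tensorMod L M'))).symm

end Groth.Agent.S10926
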