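import Groth.Statements.S10932
import Mathlib
import Groth.Agent.Lib.Helper26.ExtRing
import Groth.Agent.Lib.Helper26.ProjDimRegular

set_option autoImplicit false
universe u
open CategoryTheory
open CAlg

namespace Groth.Agent.S10932

/-- Let A be a (Noetherian) regular local ring of Krull dimension n and M a finitely generated A-module
such that Ext^j_A(M, A) = 0 for every j with 1 ≤ j ≤ n. Then M is projective, hence a free A-module. -/
theorem result (A : Type u) [CommRing A] [IsRegularLocalRing A]
    (n : ℕ) (hn : ringKrullDim A = n) (M : Type u) [AddCommGroup M] [Module A M] [Module.Finite A M]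
    (h : ∀ j : ℕ, 1 ≤ j → j ≤ n →
      Subsingleton (Abelian.Ext (ModuleCat.of A M) (ModuleCat.of A A) j)) :
    Module.Free A M := by
  have hfinM : Module.Finite A (ModuleCat.of A M) := ‹Module.Finite A M›
  have h1 := IsRegularLocalRing.spanFinrank_maximalIdeal (R := A)
  rw [hn] at h1
  have h2 : (IsLocalRing.maximalIdeal A).spanFinrank = n := by exact_mod_cast h1
  have hpd : HasProjectiveDimensionLE (ModuleCat.of A M) n :=
    Groth.Agent.Lib.helper26.PDReg.hasProjectiveDimensionLE_of_isRegularLocalRing n A h2 M
  have hall : ∀ i, 0 < i → Subsingleton (Abelian.Ext (ModuleCat.of A M) (ModuleCat.of A A) i) := by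
    intro i hi
    by_cases hin : i ≤ n
    · exact h i hi hin
    · exact HasProjectiveDimensionLT.subsingleton _ (n + 1) i (by omega) _
  have h0 : HasProjectiveDimensionLT (ModuleCat.of A M) (0 + 1) :=
    Groth.Agent.Lib.helper26.ExtRing.hasProjectiveDimensionLT_succ_of_forall_ext_ring
      (ModuleCat.of A M) 0 (n + 1) hpd hall
  rw [zero_add, ← projective_iff_hasProjectiveDimensionLT_one, ← IsProjective.iff_projective] at h0
  have hflat : Module.Flat A M := @Module.Flat.of_projective _ _ _ _ _ h0
  exact Module.free_of_flat_of_isLocalRing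


end Groth.Agent.S10932
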