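import Groth.Statements.S10933
import Mathlib
import Groth.Agent.Lib.Helper26.ExtRing
import Groth.Agent.Lib.Helper26.ProjDimRegular

set_option autoImplicit false
universe u
open CategoryTheory
open CAlg

namespace Groth.Agent.S10933

/-- Let A be a (Noetherian) regular local ring, M a finitely generated A-module and d a natural number.
Then the projective dimension of M equals d if and only if Ext^j_A(M, A) = 0 for every j > d and
Ext^d_A(M, A) ≠ 0. (Projective dimension valued in WithBot ℕ∞, the zero module having projective
dimension ⊥.) -/
theorem result (A : Type u) [CommRing A] [IsRegularLocalRing A]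
    (M : Type u) [AddCommGroup M] [Module A M] [Module.Finite A M] (d : ℕ) :
    projectiveDimension (ModuleCat.of A M) = (d : WithBot ℕ∞) ↔
      ((∀ j : ℕ, d < j → Subsingleton (Abelian.Ext (ModuleCat.of A M) (ModuleCat.of A A) j)) ∧
        Nontrivial (Abelian.Ext (ModuleCat.of A M) (ModuleCat.of A A) d)) := by
  have hfinM : Module.Finite A (ModuleCat.of A M) := ‹Module.Finite A M›
  have hpd : HasProjectiveDimensionLE (ModuleCat.of A M)
      (IsLocalRing.maximalIdeal A).spanFinrank :=
    Groth.Agent.Lib.helper26.PDReg.hasProjectiveDimensionLE_of_isRegularLocalRing _ A rfl M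
  constructor
  · intro hd
    have hle : HasProjectiveDimensionLT (ModuleCat.of A M) (d + 1) := by
      have : HasProjectiveDimensionLE (ModuleCat.of A M) d := by
        rw [← projectiveDimension_le_iff, hd]
      exact this
    have hnlt : ¬ HasProjectiveDimensionLT (ModuleCat.of A M) d := by
      rw [← projectiveDimension_lt_iff, hd]
      exact lt_irrefl _
    refine ⟨fun j hj => HasProjectiveDimensionLT.subsingleton _ (d + 1) j (by omega) _, ?_⟩
    by_contra hnt
    rw [not_nontrivial_iff_subsingleton] at hnt
    rcases Nat.eq_zero_or_pos d with h0 | hpos
    · subst h0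
      -- `M` is projective and nonzero, hence free of positive rank: a coordinate is a nonzero map
      have hproj : HasProjectiveDimensionLT (ModuleCat.of A M) (0 + 1) := hle
      rw [zero_add, ← projective_iff_hasProjectiveDimensionLT_one,
        ← IsProjective.iff_projective] at hproj
      have hflat : Module.Flat A M := @Module.Flat.of_projective _ _ _ _ _ hproj
      have hfree : Module.Free A M := Module.free_of_flat_of_isLocalRing
      have hne : Nontrivial M := by
        by_contra hsub
        rw [not_nontrivial_iff_subsingleton] at hsub
        apply hnlt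
        have : Limits.IsZero (ModuleCat.of A M) := ModuleCat.isZero_of_subsingleton _
        exact this.hasProjectiveDimensionLT_zero
      let b := Module.Free.chooseBasis A M
      have hι : Nonempty (Module.Free.ChooseBasisIndex A M) := by
        by_contra hem
        rw [not_nonempty_iff] at hem
        have : Subsingleton M := b.repr.toEquiv.subsingleton
        exact not_subsingleton M this
      obtain ⟨i⟩ := hι
      have hsub2 : Subsingleton (ModuleCat.of A M ⟶ ModuleCat.of A A) :=
        Abelian.Ext.homEquiv₀.symm.subsingleton
      have := congrArg (fun t => t.hom (b i))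
        (Subsingleton.elim (ModuleCat.ofHom (b.coord i)) (0 : ModuleCat.of A M ⟶ ModuleCat.of A A))
      simp at this
    · obtain ⟨p, rfl⟩ : ∃ p, d = p + 1 := ⟨d - 1, by omega⟩
      exact hnlt (Groth.Agent.Lib.helper26.ExtRing.hasProjectiveDimensionLT_of_ext_ring_vanish
        (ModuleCat.of A M) p hle hnt)
  · rintro ⟨hvan, hnt⟩
    have hle : HasProjectiveDimensionLT (ModuleCat.of A M) (d + 1) :=
      Groth.Agent.Lib.helper26.ExtRing.hasProjectiveDimensionLT_succ_of_forall_ext_ring
        (ModuleCat.of A M) d _ hpd hvan
    have hnlt : ¬ HasProjectiveDimensionLT (ModuleCat.of A M) d := by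
      intro hlt
      have := HasProjectiveDimensionLT.subsingleton (ModuleCat.of A M) d d le_rfl (ModuleCat.of A A)
      exact not_subsingleton _ this
    apply le_antisymm
    · rw [projectiveDimension_le_iff]
      exact hle
    · rw [← projectiveDimension_lt_iff] at hnlt
      exact not_lt.mp hnlt


end Groth.Agent.S10933
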