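import Groth.Statements.S10939
import Mathlib
import Groth.Agent.Lib.Helper12.HypCover

set_option autoImplicit false
universe u
open CategoryTheory CategoryTheory.Limits AlgebraicGeometry
open Variety

namespace Groth.Agent.S10939

/-- Let k be a field, P = P^n_k = Proj k[x_0, …, x_n], and i_X : X → P, i_Y : Y → P closed immersions
with X of dimension r. Then there are homogeneous polynomials h_1, …, h_{r+1} of positive degree,
with basic opens D_j = D_+(h_j) and hypersurfaces H_j = P ∖ D_j, such that every H_j contains Y and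
X ∖ Y = ⋃_j (X ∖ H_j), i.e. every point of X outside Y lies in some D_j; moreover each X ∖ H_j = X ∩
D_j is affine. (The published statement takes X and Y reduced; the assertion only concerns the
underlying closed sets.) -/
theorem result (k : Type u) [Field k] (n r : ℕ)
    {X Y : Scheme.{u}} (iX : X ⟶ CohB1.ProjSpace n k) (iY : Y ⟶ CohB1.ProjSpace n k)
    [IsClosedImmersion iX] [IsClosedImmersion iY] (hX : topologicalKrullDim ↥X = r) :
    ∃ (h : Fin (r + 1) → MvPolynomial (Fin (n + 1)) k) (D : Fin (r + 1) → (CohB1.ProjSpace n k).Opens),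
      (∀ j, D j = Proj.basicOpen (CohB1.polyGrading n k) (h j)) ∧
      (∀ j, ∃ d : ℕ, 0 < d ∧ (h j).IsHomogeneous d) ∧
      (∀ j, Set.range iY.base ⊆ (D j : Set ↥(CohB1.ProjSpace n k))ᶜ) ∧
      (Set.range iX.base \ Set.range iY.base ⊆ ⋃ j, (D j : Set ↥(CohB1.ProjSpace n k))) ∧
      ∀ j, IsAffineOpen (iX ⁻¹ᵁ (D j)) := by
  classical
  let 𝒜 := CohB1.polyGrading n k
  let φ : X → ProjectiveSpectrum 𝒜 := fun x => iX.base x
  have hφ : Topology.IsInducing φ := iX.isClosedEmbedding.isInducing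
  let C : Set (ProjectiveSpectrum 𝒜) := Set.range (fun y : Y => (iY.base y : ProjectiveSpectrum 𝒜))
  have hC : IsClosed C := iY.isClosedEmbedding.isClosed_range
  have hXcl : IsClosed (Set.range φ) := iX.isClosedEmbedding.isClosed_range
  have hCj : closure (Set.range φ) \ Set.range φ ⊆ C := by
    rw [hXcl.closure_eq, Set.sdiff_self]
    exact Set.empty_subset _
  have hr : topologicalKrullDim X ≤ ((r : ℕ∞) : WithBot ℕ∞) := by
    rw [hX]
    rfl
  obtain ⟨hs, hgood, hcov⟩ :=
    Groth.Agent.Lib.helper12.HypCover.exists_hypersurfaces 𝒜 φ hφ C hC hCj r hr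
  refine ⟨hs, fun j => Proj.basicOpen 𝒜 (hs j), fun j => rfl, ?_, ?_, ?_, ?_⟩
  · intro j
    obtain ⟨⟨d, hd, hmem⟩, -⟩ := hgood j
    exact ⟨d, hd, (MvPolynomial.mem_homogeneousSubmodule _ _).mp hmem⟩
  · rintro j _ ⟨y, rfl⟩
    obtain ⟨-, hJ⟩ := hgood j
    intro hmem
    have h1 : hs j ∉ (iY.base y : ProjectiveSpectrum 𝒜).asHomogeneousIdeal := hmem
    exact h1 ((ProjectiveSpectrum.mem_vanishingIdeal _ _).mp hJ _ ⟨y, rfl⟩)
  · rintro _ ⟨⟨x, rfl⟩, hxY⟩
    obtain ⟨i, hi⟩ := hcov x hxY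
    exact Set.mem_iUnion.mpr ⟨i, hi⟩
  · intro j
    obtain ⟨⟨d, hd, hmem⟩, -⟩ := hgood j
    have haff : IsAffineOpen (X := CohB1.ProjSpace n k) (Proj.basicOpen 𝒜 (hs j)) :=
      Proj.isAffineOpen_basicOpen 𝒜 (hs j) hmem hd
    exact haff.preimage iX

end Groth.Agent.S10939
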