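import Groth.Statements.S10940
import Mathlib
import Groth.Agent.Lib.Helper12.HypCover

set_option autoImplicit false
universe u
open CategoryTheory CategoryTheory.Limits AlgebraicGeometry
open Variety

namespace Groth.Agent.S10940

/-- Let k be a field and X a quasi-projective variety over k of dimension r: an integral scheme with an
immersion j : X → P^n_k. Then X admits a cover by r + 1 affine open subschemes. (Consequently the
cohomology of every quasi-coherent O_X-module vanishes above degree r; that consequence is the
general vanishing above the number of affines in a cover and is not restated here. The published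
statement is for varieties over an algebraically closed field; the argument, r + 1 hypersurfaces
through the boundary of the closure of X, works over any field, so k is an arbitrary field here.) -/
theorem result (k : Type u) [Field k] (n r : ℕ)
    {X : Scheme.{u}} (j : X ⟶ CohB1.ProjSpace n k) [IsImmersion j] [IsIntegral X]
    (hX : topologicalKrullDim ↥X = r) :
    ∃ U : Fin (r + 1) → X.Opens, (∀ i, IsAffineOpen (U i)) ∧ ⨆ i, U i = ⊤ := by
  classical
  let 𝒜 := CohB1.polyGrading n k
  let φ : X → ProjectiveSpectrum 𝒜 := fun x => j.base x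
  have hφ : Topology.IsInducing φ := j.isEmbedding.isInducing
  let C : Set (ProjectiveSpectrum 𝒜) := closure (Set.range φ) \ Set.range φ
  have hloc : IsLocallyClosed (Set.range φ) := j.isLocallyClosed_range
  have hC : IsClosed C := by
    have h1 : IsOpen (coborder (Set.range φ)) := hloc.isOpen_coborder
    have h2 : C = (coborder (Set.range φ))ᶜ := by
      rw [coborder, compl_compl]
    rw [h2]
    exact h1.isClosed_compl
  have hr : topologicalKrullDim X ≤ ((r : ℕ∞) : WithBot ℕ∞) := by
    rw [hX]
    rfl
  obtain ⟨hs, hgood, hcov⟩ :=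
    Groth.Agent.Lib.helper12.HypCover.exists_hypersurfaces 𝒜 φ hφ C hC subset_rfl r hr
  let DD : Fin (r + 1) → (CohB1.ProjSpace n k).Opens := fun i => Proj.basicOpen 𝒜 (hs i)
  refine ⟨fun i => j ⁻¹ᵁ (DD i), ?_, ?_⟩
  · intro i
    obtain ⟨⟨d, hd, hmem⟩, hJ⟩ := hgood i
    change IsAffineOpen (j ⁻¹ᵁ (DD i))
    generalize hD : DD i = D
    have haff : IsAffineOpen D := by
      rw [← hD]
      exact Proj.isAffineOpen_basicOpen 𝒜 (hs i) hmem hd
    have hle : D ≤ j.coborderRange.ι.opensRange := by
      rw [Scheme.Opens.opensRange_ι]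
      intro y hy
      change y ∈ coborder (Set.range φ)
      rw [coborder]
      intro hyC
      rw [← hD] at hy
      have h1 : hs i ∉ (y : ProjectiveSpectrum 𝒜).asHomogeneousIdeal := hy
      exact h1 ((ProjectiveSpectrum.mem_vanishingIdeal _ _).mp hJ y hyC)
    have h1 : IsAffineOpen (j.coborderRange.ι ⁻¹ᵁ D) :=
      haff.preimage_of_isOpenImmersion j.coborderRange.ι hle
    have h2 : IsAffineOpen (j.liftCoborder ⁻¹ᵁ (j.coborderRange.ι ⁻¹ᵁ D)) :=
      h1.preimage j.liftCoborder
    have h3 : j.liftCoborder ⁻¹ᵁ (j.coborderRange.ι ⁻¹ᵁ D) = j ⁻¹ᵁ D := by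
      rw [← Scheme.Hom.comp_preimage, j.liftCoborder_ι]
    rw [← h3]
    exact h2
  · rw [eq_top_iff]
    intro x _
    have hx : φ x ∉ C := fun h => h.2 ⟨x, rfl⟩
    obtain ⟨i, hi⟩ := hcov x hx
    exact TopologicalSpace.Opens.mem_iSup.mpr ⟨i, hi⟩

end Groth.Agent.S10940
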