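import Groth.Statements.S10941
import Groth.Agent.Lib.Helper5.FlatLocalDimAdd
import Groth.Agent.Lib.Helper5.FieldBCLocalDim
import Groth.Agent.Lib.Helper3.IrredDim
import Groth.Agent.Lib.Helper3.RelDim

set_option autoImplicit false
universe u
open CategoryTheory CategoryTheory.Limits AlgebraicGeometry
open FlatMor

namespace Groth.Agent.S10941

/-- Let k be a field, X, Y and Y' schemes of finite type over k with Y irreducible, f : X → Y a flat
k-morphism and n a natural number such that every irreducible component of X has dimension dim Y +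
n. Let g : Y' → Y be a k-morphism and f' : X ×_Y Y' → Y' the base change of f. Then for every
irreducible closed subset V of Y', every irreducible component of the preimage of V under f' (with
the subspace topology) has dimension dim V + n. In particular (Y' = Y) every irreducible component
of f⁻¹(V) has dimension dim V + n for every irreducible closed V ⊆ Y. -/
theorem result (k : Type u) [Field k]
    {X Y Y' : Scheme.{u}} (qX : X ⟶ Spec (CommRingCat.of k)) (qY : Y ⟶ Spec (CommRingCat.of k))
    (qY' : Y' ⟶ Spec (CommRingCat.of k))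
    [LocallyOfFiniteType qX] [QuasiCompact qX] [LocallyOfFiniteType qY] [QuasiCompact qY]
    [LocallyOfFiniteType qY'] [QuasiCompact qY']
    [IrreducibleSpace ↥Y] (f : X ⟶ Y) (hf : f ≫ qY = qX) [Flat f] (n : ℕ)
    (hX : ∀ Z : Set ↥X, Z ∈ irreducibleComponents ↥X →
      topologicalKrullDim ↥Z = topologicalKrullDim ↥Y + (n : WithBot ℕ∞))
    (g : Y' ⟶ Y) (hg : g ≫ qY = qY')
    (V : Set ↥Y') (hV : IsClosed V) (hVirr : IsIrreducible V)
    (W : Set ↥((pullback.snd f g).base ⁻¹' V))
    (hW : W ∈ irreducibleComponents ↥((pullback.snd f g).base ⁻¹' V)) :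
    topologicalKrullDim ↥W = topologicalKrullDim ↥V + (n : WithBot ℕ∞) := by
  classical
  -- `f` is locally of finite type
  haveI : LocallyOfFiniteType (f ≫ qY) := by rw [hf]; infer_instance
  haveI : LocallyOfFiniteType f := locallyOfFiniteType_of_comp f qY
  -- dimensions of `Y`
  letI : Y.Over (Spec (CommRingCat.of k)) := ⟨qY⟩
  haveI : LocallyOfFiniteType (Y ↘ Spec (CommRingCat.of k)) :=
    inferInstanceAs (LocallyOfFiniteType qY)
  obtain ⟨dY, hdY, hlocY⟩ :=
    Groth.Agent.Lib.helper3.IrredDim.exists_dim_eq_localDim_of_irreducible k Y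
  -- local dimensions of `X`
  letI : X.Over (Spec (CommRingCat.of k)) := ⟨qX⟩
  haveI : LocallyOfFiniteType (X ↘ Spec (CommRingCat.of k)) :=
    inferInstanceAs (LocallyOfFiniteType qX)
  have hlocX : ∀ x : X, FlatMor.localDim X x = ((dY + n : ℕ) : WithBot ℕ∞) := fun x =>
    Groth.Agent.Lib.helper3.RelDim.localDim_eq_of_forall_irreducibleComponents k X (dY + n)
      (fun T hT => by rw [hX T hT, hdY]; push_cast; rfl) x
  -- the fibre dimension of `f` is `n` everywhere
  have hfib : ∀ x : X, FlatMor.fibreDimAt f x = (n : WithBot ℕ∞) := by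
    intro x
    have h1 := Groth.Agent.Lib.helper5.FieldBC.localDim_eq_add_fibreDimAt k qX qY f hf x
    rw [hlocX x, hlocY (f x)] at h1
    generalize FlatMor.fibreDimAt f x = a at h1
    induction a using WithBot.recBotCoe with
    | bot =>
      rw [WithBot.add_bot] at h1
      exact absurd h1 (by simp)
    | coe b =>
      have h2 : ((dY + n : ℕ) : ℕ∞) = (dY : ℕ∞) + b := by
        have h3 : (((dY + n : ℕ) : ℕ∞) : WithBot ℕ∞) = (((dY : ℕ∞) + b : ℕ∞) : WithBot ℕ∞) := by
          rw [WithBot.coe_add]
          exact h1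
        exact WithBot.coe_injective h3
      have h4 : b = (n : ℕ∞) := by
        rw [Nat.cast_add] at h2
        exact ((ENat.add_right_injective_of_ne_top (ENat.natCast_ne_top dY)) h2).symm
      rw [h4]
      rfl
  -- the reduced induced structure on `V`
  let f' : pullback f g ⟶ Y' := pullback.snd f g
  let I := Scheme.IdealSheafData.vanishingIdeal ⟨V, hV⟩
  let ι : I.subscheme ⟶ Y' := I.subschemeι
  have hι : Set.range ι = V := by
    rw [I.range_subschemeι]
    rfl
  have hsnd : Set.range (pullback.snd ι f') = (pullback.snd f g).base ⁻¹' V := by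
    rw [Scheme.Pullback.range_snd, hι]
  let eZ : I.subscheme ≃ₜ V := (ι.isEmbedding.toHomeomorph).trans (Homeomorph.setCongr hι)
  let eT : ↥(pullback ι f') ≃ₜ ↥((pullback.snd f g).base ⁻¹' V) :=
    ((pullback.snd ι f').isEmbedding.toHomeomorph).trans (Homeomorph.setCongr hsnd)
  haveI : IrreducibleSpace ↥V := Subtype.irreducibleSpace hVirr
  haveI : IrreducibleSpace I.subscheme := by
    have h := (IrreducibleSpace.isIrreducible_univ ↥V).image eZ.symm
      eZ.symm.continuous.continuousOn
    rw [Set.image_univ, eZ.symm.surjective.range_eq] at h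
    obtain ⟨z0, -⟩ := h.nonempty
    exact { isPreirreducible_univ := h.isPreirreducible
            toNonempty := ⟨z0⟩ }
  -- structures over the field
  letI : I.subscheme.Over (Spec (CommRingCat.of k)) := ⟨ι ≫ qY'⟩
  haveI : LocallyOfFiniteType (I.subscheme ↘ Spec (CommRingCat.of k)) :=
    inferInstanceAs (LocallyOfFiniteType (ι ≫ qY'))
  letI : (pullback ι f').Over (Spec (CommRingCat.of k)) := ⟨pullback.fst ι f' ≫ (ι ≫ qY')⟩
  haveI : LocallyOfFiniteType f' := inferInstanceAs (LocallyOfFiniteType (pullback.snd f g))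
  haveI : Flat f' := inferInstanceAs (Flat (pullback.snd f g))
  haveI : LocallyOfFiniteType ((pullback ι f') ↘ Spec (CommRingCat.of k)) :=
    inferInstanceAs (LocallyOfFiniteType (pullback.fst ι f' ≫ (ι ≫ qY')))
  obtain ⟨dV, hdV, hlocV⟩ :=
    Groth.Agent.Lib.helper3.IrredDim.exists_dim_eq_localDim_of_irreducible k I.subscheme
  have hlocP : ∀ p : ↥(pullback ι f'),
      FlatMor.localDim ↥(pullback ι f') p = ((dV + n : ℕ) : WithBot ℕ∞) := by
    intro p
    rw [Groth.Agent.Lib.helper5.FieldBC.localDim_eq_add_fibreDimAt k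
      (pullback.fst ι f' ≫ (ι ≫ qY')) (ι ≫ qY') (pullback.fst ι f') rfl p, hlocV,
      Groth.Agent.Lib.helper5.FieldBC.fibreDimAt_eq_of_isPullback
        (IsPullback.of_hasPullback ι f').flip p,
      Groth.Agent.Lib.helper5.FieldBC.fibreDimAt_eq_of_isPullback
        (IsPullback.of_hasPullback f g) _, hfib]
    push_cast
    rfl
  have hcomp := Groth.Agent.Lib.helper3.RelDim.dim_eq_of_forall_localDim k
    (pullback ι f') (dV + n) hlocP
  -- transfer `W`
  have hWne : (W ∩ Set.range eT).Nonempty := by
    obtain ⟨w, hw⟩ := hW.1.nonempty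
    exact ⟨w, hw, eT.surjective w⟩
  have hWT : eT ⁻¹' W ∈ irreducibleComponents ↥(pullback ι f') :=
    preimage_mem_irreducibleComponents hW eT.isOpenEmbedding hWne
  have h1 := hcomp _ hWT
  have h2 : topologicalKrullDim ↥(eT ⁻¹' W) = topologicalKrullDim ↥W := by
    have e : ↥(eT ⁻¹' W) ≃ₜ ↥W := (eT.image (eT ⁻¹' W)).trans
      (Homeomorph.setCongr (Set.image_preimage_eq _ eT.surjective))
    exact e.isHomeomorph.topologicalKrullDim_eq e
  have h3 : topologicalKrullDim ↥V = (dV : WithBot ℕ∞) := by
    rw [← hdV]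
    exact (eZ.isHomeomorph.topologicalKrullDim_eq eZ).symm
  rw [← h2, h1, h3]
  push_cast
  rfl

end Groth.Agent.S10941
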