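import Groth.Statements.S10942
import Mathlib
import Groth.Agent.Lib.Helper21.ShRestr2
import Groth.Agent.Lib.Helper21.SchShriek
-- import your own Groth.Agent.* helpers here

set_option autoImplicit false
universe u
open CategoryTheory AlgebraicGeometry Opposite
open Coherent

namespace Groth.Agent.S10942

section Aux
open CategoryTheory CategoryTheory.Limits Opposite TopologicalSpace AlgebraicGeometry
open AlgebraicGeometry.Scheme.Modules
namespace S10942aux

theorem isSplitEpi_unit_of_mono_counit {A B : Type*} [Category A] [Category B] {L : B ⥤ A} {R : A ⥤ B}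
    {P : B ⥤ A} (adj₁ : L ⊣ R) (adj₂ : R ⊣ P) (h : ∀ M, Mono (adj₁.counit.app M)) (I : A)
    [Injective I] : IsSplitEpi (adj₂.unit.app I) := by
  let M : A := P.obj (R.obj I)
  let χ : L.obj (R.obj M) ⟶ I := (adj₁.homEquiv _ _).symm ((adj₂.homEquiv _ _).symm (𝟙 M))
  haveI := h M
  let φ : M ⟶ I := Injective.factorThru χ (adj₁.counit.app M)
  have hφ : adj₁.counit.app M ≫ φ = χ := Injective.comp_factorThru _ _
  have e1 : adj₂.homEquiv _ _ (R.map φ) = φ ≫ adj₂.unit.app I := by
    rw [Adjunction.homEquiv_unit]
    exact (adj₂.unit.naturality φ).symm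
  have e2 : adj₁.homEquiv _ _ (adj₁.counit.app M ≫ φ) = R.map φ := by
    rw [Adjunction.homEquiv_unit, Functor.map_comp, ← Category.assoc,
      adj₁.right_triangle_components, Category.id_comp]
  have h' : φ ≫ adj₂.unit.app I = 𝟙 M := by
    rw [← e1, ← e2, hφ]
    simp only [χ, Equiv.apply_symm_apply]
  exact IsSplitEpi.mk' ⟨φ, h'⟩

lemma unit_comp_map {𝒳 𝒰 : Type*} [Category 𝒳] [Category 𝒰] {Jup : 𝒳 ⥤ 𝒰} {Jlow : 𝒰 ⥤ 𝒳}
    (adj : Jup ⊣ Jlow) {Z : 𝒳} {W : 𝒰} (φ : Z ⟶ Jlow.obj W) :
    adj.unit.app Z ≫ Jlow.map (Jup.map φ ≫ adj.counit.app W) = φ := by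
  rw [Jlow.map_comp, ← Category.assoc]
  have := adj.unit.naturality φ
  simp only [Functor.id_obj, Functor.id_map, Functor.comp_obj, Functor.comp_map] at this
  rw [← this, Category.assoc, adj.right_triangle_components, Category.comp_id]

open Groth.Agent.Lib.helper21.ShRestr Groth.Agent.Lib.helper21.SchShriek
open Groth.Agent.Lib.Helper21.TensorW Groth.Agent.Lib.Helper21.TensorAdj
  Groth.Agent.Lib.Helper21.TensorMon

variable {X : Scheme.{u}} (U : X.Opens) (F : X.Modules)

/-- the unit of `j^* ⊣ j_*` at `ℋom(F, I)` is a split epimorphism for injective `I` -/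
theorem isSplitEpi_unit_sheafHom (I : X.Modules) [Injective I] :
    IsSplitEpi ((restrictAdjunction U.ι).unit.app ((ModSite.sheafHom (O := X.sheaf) F).obj I)) := by
  haveI hσ : IsIso ((sheafHomRestrHom U F).app I) := isIso_sheafHomRestrHom_app U F I
  have key : (restrictAdjunction U.ι).unit.app ((ModSite.sheafHom (O := X.sheaf) F).obj I) ≫
      (Scheme.Modules.pushforward U.ι).map ((sheafHomRestrHom U F).app I) =
      (ModSite.sheafHom (O := X.sheaf) F).map ((restrictAdjunction U.ι).unit.app I) ≫
        (pushSheafHomIso U F).hom.app ((restrictFunctor U.ι).obj I) :=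
    unit_comp_map (restrictAdjunction U.ι)
      ((ModSite.sheafHom (O := X.sheaf) F).map ((restrictAdjunction U.ι).unit.app I) ≫
        (pushSheafHomIso U F).hom.app ((restrictFunctor U.ι).obj I))
  haveI hu : IsSplitEpi ((restrictAdjunction U.ι).unit.app I) :=
    isSplitEpi_unit_of_mono_counit (Groth.Agent.Lib.helper21.SchShriek.adj U) (restrictAdjunction U.ι)
      (fun M => mono_counit_app U M) I
  let s := section_ ((restrictAdjunction U.ι).unit.app I)
  have hs : s ≫ (restrictAdjunction U.ι).unit.app I = 𝟙 _ := IsSplitEpi.id _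
  refine IsSplitEpi.mk' ⟨(Scheme.Modules.pushforward U.ι).map ((sheafHomRestrHom U F).app I) ≫
    (pushSheafHomIso U F).inv.app ((restrictFunctor U.ι).obj I) ≫
    (ModSite.sheafHom (O := X.sheaf) F).map s, ?_⟩
  haveI : IsIso ((Scheme.Modules.pushforward U.ι).map ((sheafHomRestrHom U F).app I)) :=
    Functor.map_isIso _ _
  rw [← cancel_mono ((Scheme.Modules.pushforward U.ι).map ((sheafHomRestrHom U F).app I))]
  simp only [Category.assoc, Category.id_comp]
  rw [key]
  have h3 : (ModSite.sheafHom (O := X.sheaf) F).map s ≫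
      (ModSite.sheafHom (O := X.sheaf) F).map ((restrictAdjunction U.ι).unit.app I) = 𝟙 _ :=
    ((ModSite.sheafHom (O := X.sheaf) F).map_comp _ _).symm.trans
      ((congrArg (ModSite.sheafHom (O := X.sheaf) F).map hs).trans
        ((ModSite.sheafHom (O := X.sheaf) F).map_id _))
  have h4 : (ModSite.sheafHom (O := X.sheaf) F).map s ≫
      (ModSite.sheafHom (O := X.sheaf) F).map ((restrictAdjunction U.ι).unit.app I) ≫
        (pushSheafHomIso U F).hom.app ((restrictFunctor U.ι).obj I) =
      (pushSheafHomIso U F).hom.app ((restrictFunctor U.ι).obj I) :=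
    (Category.assoc _ _ _).symm.trans ((congrArg (· ≫ _) h3).trans (Category.id_comp _))
  have h5 : (pushSheafHomIso U F).inv.app ((restrictFunctor U.ι).obj I) ≫
      (ModSite.sheafHom (O := X.sheaf) F).map s ≫
      (ModSite.sheafHom (O := X.sheaf) F).map ((restrictAdjunction U.ι).unit.app I) ≫
        (pushSheafHomIso U F).hom.app ((restrictFunctor U.ι).obj I) = 𝟙 _ :=
    (congrArg (_ ≫ ·) h4).trans ((pushSheafHomIso U F).inv_hom_id_app ((restrictFunctor U.ι).obj I))
  exact (congrArg (_ ≫ ·) h5).trans (Category.comp_id _)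

/-- the two internal homs agree -/
noncomputable def dcohIso [DCoh.HasSheafHom F] :
    DCoh.sheafHom F ≅ ModSite.sheafHom (O := X.sheaf) F :=
  (DCoh.sheafHomAdj F).rightAdjointUniq
    ((ModSite.sheafHomAdj (O := X.sheaf) F).ofNatIsoLeft (braidIso X.sheaf F).symm)

lemma isSplitEpi_unit_of_iso {G G' : X.Modules} (i : G ≅ G')
    (h : IsSplitEpi ((restrictAdjunction U.ι).unit.app G')) :
    IsSplitEpi ((restrictAdjunction U.ι).unit.app G) := by
  have nat := (restrictAdjunction U.ι).unit.naturality i.hom
  have h1 : (restrictAdjunction U.ι).unit.app G =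
      i.hom ≫ (restrictAdjunction U.ι).unit.app G' ≫
        (restrictFunctor U.ι ⋙ Scheme.Modules.pushforward U.ι).map i.inv := by
    have := congrArg (· ≫ (restrictFunctor U.ι ⋙ Scheme.Modules.pushforward U.ι).map i.inv) nat
    simp only [Functor.id_obj, Functor.id_map, Category.assoc] at this
    rw [this, ← Functor.map_comp, Iso.hom_inv_id, CategoryTheory.Functor.map_id, Category.comp_id]
  rw [h1]
  infer_instance

lemma surjective_app_of_isSplitEpi {G G' : X.Modules} (f : G ⟶ G') [IsSplitEpi f] (V : X.Opens) :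
    Function.Surjective (f.app V) := by
  intro y
  refine ⟨(section_ f).app V y, ?_⟩
  have h : (section_ f ≫ f).app V = 𝟙 _ := by rw [IsSplitEpi.id]; rfl
  have := ConcreteCategory.congr_hom h y
  exact this

theorem main (I : X.Modules) [DCoh.HasSheafHom F] [Injective I] (V : X.Opens) (hUV : U ≤ V) :
    Function.Surjective (((DCoh.sheafHom F).obj I).val.map (homOfLE hUV).op).hom := by
  set G := (DCoh.sheafHom F).obj I with hG
  haveI : IsSplitEpi ((restrictAdjunction U.ι).unit.app G) :=
    isSplitEpi_unit_of_iso U ((dcohIso F).app I) (isSplitEpi_unit_sheafHom U F I)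
  have h1 := surjective_app_of_isSplitEpi ((restrictAdjunction U.ι).unit.app G) V
  rw [restrictAdjunction_unit_app_app] at h1
  have key : ∀ (W : X.Opens) (hW : W ≤ V), W = U →
      Function.Surjective (G.presheaf.map (homOfLE hW).op) →
      Function.Surjective (G.presheaf.map (homOfLE hUV).op) := by
    intro W hW hWU hs
    subst hWU
    exact hs
  have h2 := key _ (U.ι.image_preimage_le V) (by
    ext x
    simp only [Scheme.Hom.image_preimage_eq_opensRange_inf, Scheme.Opens.opensRange_ι]
    constructor
    · rintro ⟨hx, -⟩; exact hx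
    · intro hx; exact ⟨hx, hUV hx⟩) h1
  exact h2

end S10942aux
end Aux


/-- Let X be a scheme, F an O_X-module for which the internal Hom functor Hom(F, -) exists (as the right
adjoint of F ⊗ -; always true) and I an injective object of the category of O_X-modules. Then the
O_X-module Hom(F, I) is flasque: for all opens U ⊆ V of X the restriction map Hom(F, I)(V) → Hom(F,
I)(U) is surjective. -/
theorem result (X : Scheme.{u}) (F I : X.Modules)
    [DCoh.HasSheafHom F] (hI : Injective I) (U V : X.Opens) (hUV : U ≤ V) :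
    Function.Surjective (((DCoh.sheafHom F).obj I).val.map (homOfLE hUV).op).hom := by
  haveI := hI
  exact S10942aux.main U F I V hUV

end Groth.Agent.S10942
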