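import Groth.Statements.S10944
import Mathlib
-- import your own Groth.Agent.* helpers here

set_option autoImplicit false
universe u
open CategoryTheory AlgebraicGeometry
open FlatMor

namespace Groth.Agent.S10944


/-- a point whose closure is an irreducible component has no proper generizations -/
theorem eq_of_specializes_of_mem_irreducibleComponents {T : Type*} [TopologicalSpace T] [T0Space T]
    {η ξ : T} (hη : closure {η} ∈ irreducibleComponents T) (h : ξ ⤳ η) : ξ = η := by
  have h1 : closure {η} ≤ closure {ξ} := specializes_iff_closure_subset.mp h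
  have hirr : IsIrreducible (closure ({ξ} : Set T)) := isIrreducible_singleton.closure
  have h2 := hη.2 hirr h1
  have h3 : η ⤳ ξ := specializes_iff_closure_subset.mpr h2
  exact (h.antisymm h3).eq

/-- Let f : X → Y be a flat morphism of Noetherian schemes and Y' an irreducible component of Y. Then
f⁻¹(Y') is the union of the irreducible components Z of X with f(Z) ⊆ Y'. -/
theorem result {X Y : Scheme.{u}}
    [IsNoetherian X] [IsNoetherian Y] (f : X ⟶ Y) [Flat f]
    (Y' : Set ↥Y) (hY' : Y' ∈ irreducibleComponents ↥Y) :
    f.base ⁻¹' Y' = ⋃₀ {Z : Set ↥X | Z ∈ irreducibleComponents ↥X ∧ f.base '' Z ⊆ Y'} := by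
  apply subset_antisymm
  · intro x hx
    obtain ⟨η, hη⟩ := QuasiSober.sober hY'.1 (isClosed_of_mem_irreducibleComponents Y' hY')
    have h1 : η ⤳ f.base x := by
      rw [specializes_iff_mem_closure, hη.def]; exact hx
    obtain ⟨x', hx'x, hfx'⟩ := Flat.generalizingMap f h1
    refine ⟨irreducibleComponent x', ⟨irreducibleComponent_mem_irreducibleComponents x', ?_⟩, ?_⟩
    · obtain ⟨ξ, hξ⟩ := QuasiSober.sober (isIrreducible_irreducibleComponent (x := x'))
        isClosed_irreducibleComponent
      have hξx' : ξ ⤳ x' := by
        rw [specializes_iff_mem_closure, hξ.def]; exact mem_irreducibleComponent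
      have h2 : f.base ξ ⤳ η := hfx' ▸ hξx'.map f.continuous
      have hfξ : f.base ξ = η :=
        eq_of_specializes_of_mem_irreducibleComponents (hη.def.symm ▸ hY') h2
      rw [← hξ.def, ← hη.def, ← hfξ]
      refine (image_closure_subset_closure_image f.continuous).trans ?_
      rw [Set.image_singleton]
    · exact hx'x.mem_closed isClosed_irreducibleComponent mem_irreducibleComponent
  · rintro x ⟨Z, ⟨-, hZ⟩, hxZ⟩
    exact hZ ⟨x, hxZ, rfl⟩

end Groth.Agent.S10944
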