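import Groth.Statements.S10945
import Mathlib
-- import your own Groth.Agent.* helpers here

set_option autoImplicit false
universe u
open CategoryTheory AlgebraicGeometry Opposite
open Coherent

namespace Groth.Agent.S10945


theorem exists_sections_lift {X : Scheme.{u}} {M N : X.Modules} (g : M ⟶ N)
    (hsurj : Function.Surjective (g.val.app (op ⊤)).hom) (s : SheafOfModules.sections N) :
    ∃ s' : SheafOfModules.sections M, SheafOfModules.sectionsMap g s' = s := by
  obtain ⟨a, ha⟩ := hsurj (s.val (op ⊤))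
  refine ⟨PresheafOfModules.sectionsMk
    (fun U => M.val.map (homOfLE (le_top : U.unop ≤ ⊤)).op a) ?_, ?_⟩
  · intro U V f
    rw [← PresheafOfModules.map_comp_apply]
    rfl
  · ext U
    show g.val.app U (M.val.map (homOfLE (le_top : U.unop ≤ ⊤)).op a) = s.val U
    rw [PresheafOfModules.naturality_apply]
    erw [ha]
    exact PresheafOfModules.sections_property s _


theorem epi_of_shortExact {C : Type*} [Category C] [Abelian C] (S : ShortComplex C)
    (hS : S.ShortExact) {A B D : C} (p₁ : A ⟶ S.X₁) [Epi p₁] (p₃ : B ⟶ S.X₃) [Epi p₃]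
    (p : D ⟶ S.X₂) (i₁ : A ⟶ D) (i₃ : B ⟶ D) (e1 : i₁ ≫ p = p₁ ≫ S.f)
    (e3 : i₃ ≫ p ≫ S.g = p₃) : Epi p := by
  have := hS.epi_g
  apply Preadditive.epi_of_cancel_zero
  intro Z h hph
  have h1 : (p₁ ≫ S.f) ≫ h = 0 := by
    rw [← e1, Category.assoc, hph, Limits.comp_zero]
  rw [Category.assoc] at h1
  have hfh : S.f ≫ h = 0 := Limits.zero_of_epi_comp p₁ h1
  obtain ⟨h', rfl⟩ : ∃ h', S.g ≫ h' = h := ⟨hS.exact.desc h hfh, hS.exact.g_desc h hfh⟩
  have h3 : p₃ ≫ h' = 0 := by
    rw [← e3, Category.assoc, Category.assoc, hph, Limits.comp_zero]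
  rw [Limits.zero_of_epi_comp p₃ h3, Limits.comp_zero]

/-- Let X be a scheme and 0 → F' → F → F'' → 0 a short exact sequence of O_X-modules whose map on global
sections Γ(X, F) → Γ(X, F'') is surjective. If F' and F'' are generated by global sections (each is
a quotient of a free O_X-module), then F is generated by global sections. -/
theorem result (X : Scheme.{u})
    (S : ShortComplex X.Modules) (hS : S.ShortExact)
    (hsurj : Function.Surjective (S.g.val.app (op ⊤)).hom)
    (h1 : Curv2.IsGloballyGenerated S.X₁) (h3 : Curv2.IsGloballyGenerated S.X₃) :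
    Curv2.IsGloballyGenerated S.X₂ := by
  obtain ⟨ι₁, p₁, hp₁⟩ := h1
  obtain ⟨ι₃, p₃, hp₃⟩ := h3
  have := hS.epi_g
  let s₁ : ι₁ → SheafOfModules.sections S.X₁ := SheafOfModules.freeHomEquiv _ p₁
  let s₃ : ι₃ → SheafOfModules.sections S.X₃ := SheafOfModules.freeHomEquiv _ p₃
  choose s₂ hs₂ using fun j => exists_sections_lift S.g hsurj (s₃ j)
  let t : ι₁ ⊕ ι₃ → SheafOfModules.sections S.X₂ :=
    Sum.elim (fun i => SheafOfModules.sectionsMap S.f (s₁ i)) s₂
  let p : (SheafOfModules.free (ι₁ ⊕ ι₃) : X.Modules) ⟶ S.X₂ :=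
    (SheafOfModules.freeHomEquiv _).symm t
  refine ⟨ι₁ ⊕ ι₃, p, ?_⟩
  have e1 : (SheafOfModules.freeMap Sum.inl : (SheafOfModules.free ι₁ : X.Modules) ⟶ _) ≫ p =
      p₁ ≫ S.f := by
    apply (SheafOfModules.freeHomEquiv _).injective
    funext i
    rw [SheafOfModules.freeHomEquiv_comp_apply, SheafOfModules.freeHomEquiv_comp_apply,
      SheafOfModules.freeHomEquiv_freeMap]
    exact SheafOfModules.sectionsMap_freeHomEquiv_symm_freeSection t (Sum.inl i)
  have e3 : (SheafOfModules.freeMap Sum.inr : (SheafOfModules.free ι₃ : X.Modules) ⟶ _) ≫ p ≫ S.g =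
      p₃ := by
    apply (SheafOfModules.freeHomEquiv _).injective
    funext j
    rw [SheafOfModules.freeHomEquiv_comp_apply, SheafOfModules.freeHomEquiv_freeMap,
      SheafOfModules.sectionsMap_comp]
    show SheafOfModules.sectionsMap S.g (SheafOfModules.sectionsMap p
      (SheafOfModules.freeSection (Sum.inr j))) = s₃ j
    rw [SheafOfModules.sectionsMap_freeHomEquiv_symm_freeSection t (Sum.inr j)]
    exact hs₂ j
  exact @epi_of_shortExact _ _ _ S hS _ _ _ p₁ hp₁ p₃ hp₃ p _ _ e1 e3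

end Groth.Agent.S10945
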