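import Groth.Statements.S10946
import Groth.Agent.Lib.Helper27.AffStratVan5
-- import your own Groth.Agent.* helpers here

set_option autoImplicit false
universe u
open CategoryTheory AlgebraicGeometry
open Coherent

namespace Groth.Agent.S10946

open CategoryTheory.Limits TopologicalSpace Opposite in
lemma subsingleton_bot {X : Scheme.{u}} (G : X.Modules) : Subsingleton Γ(G, (⊥ : X.Opens)) := by
  have ht : IsTerminal ((Coh.toAb G).obj.obj (op ⊥)) := TopCat.Sheaf.isTerminalOfEmpty (Coh.toAb G)
  have hz : IsZero ((Coh.toAb G).obj.obj (op ⊥)) := by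
    exact (isZero_zero _).of_iso (ht.uniqueUpToIso (isZero_zero _).isTerminal)
  exact AddCommGrpCat.subsingleton_of_isZero hz

/-- Let X be a Noetherian separated scheme and n a natural number such that H^i(X, F) = 0 for all
coherent O_X-modules F and all i > n. Then H^i(X, G) = 0 for all quasi-coherent O_X-modules G and
all i > n. -/
theorem result (X : Scheme.{u}) [IsNoetherian X]
    [X.IsSeparated] (n : ℕ)
    (h : ∀ F : X.Modules, Coh.IsCoh F → ∀ i : ℕ, n < i → Subsingleton (Coh.HH X F i))
    (G : X.Modules) (hG : Coh.IsQCoh G) (i : ℕ) (hi : n < i) :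
    Subsingleton (Coh.HH X G i) := by
  haveI : CompactSpace X := inferInstance
  haveI : QuasiSeparatedSpace X := inferInstance
  refine Groth.Agent.Lib.helper27.AffStratVan.subsingleton_HH_of_vanOn (X := X) ⊥ n ?_ G hG ?_ i hi
  · intro G' hq hft _ p hp
    exact h G' ⟨hq, hft⟩ p hp
  · intro W hW
    have hW' : W = ⊥ := le_bot_iff.mp hW
    subst hW'
    exact Groth.Agent.S10946.subsingleton_bot G

end Groth.Agent.S10946
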