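import Groth.Statements.S10947
import Mathlib
import Groth.Agent.Lib.Helper18.HHConseq
import Groth.Agent.Lib.Helper11.AmpleInv
import Groth.Agent.Lib.Helper12.PullAmple
import Groth.Agent.Lib.Lead.SerreFin
import Groth.Agent.Lib.Lead.RankAdd
import Groth.Agent.S0016

set_option autoImplicit false
universe u
open CategoryTheory AlgebraicGeometry
open Coherent

namespace Groth.Agent.S10947

open Groth.Agent.Lib.Helper18 CategoryTheory.Limits

/-- Let k be a field and X a quasi-projective scheme over k, given with an immersion ι : X → P^N_k into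
a projective space. If n is a natural number with H^i(X, E) = 0 for all finite locally free
O_X-modules E and all i > n, then H^i(X, F) = 0 for all coherent O_X-modules F (quasi-coherent of
finite type) and all i > n. -/
theorem result
    (k : Type u) [Field k] (N : ℕ) {X : Scheme.{u}} (ι : X ⟶ CohB1.ProjSpace N k) [IsImmersion ι]
    (n : ℕ) (h : ∀ E : X.Modules, FlatMod.IsFinLocFree E → ∀ i : ℕ, n < i → Subsingleton (Coh.HH X E i))
    (F : X.Modules) (hF : Coh.IsCoh F) (i : ℕ) (hi : n < i) :
    Subsingleton (Coh.HH X F i) := by
  -- the ambient projective space is Noetherian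
  have hPln : IsLocallyNoetherian (CohB1.ProjSpace N k) :=
    Groth.Agent.Lib.Lead.SerreFin.isLocallyNoetherian_projSpace N k
  have hLamp : CohB1.IsAmple (Twist.twistProjSpace N k ((1 : ℕ) : ℤ)) :=
    Groth.Agent.Lib.helper28.TwistPn.isAmple N k 1 Nat.one_pos
  have hPc : CompactSpace (CohB1.ProjSpace N k) := hLamp.2.1
  have hPn : IsNoetherian (CohB1.ProjSpace N k) := { }
  have hPns : TopologicalSpace.NoetherianSpace (CohB1.ProjSpace N k) := inferInstance
  -- X is Noetherian
  have hemb : Topology.IsEmbedding ι := ι.isEmbedding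
  have hXns : TopologicalSpace.NoetherianSpace X := hemb.isInducing.noetherianSpace
  have hXc : CompactSpace X := inferInstance
  have : LocallyOfFiniteType ι := inferInstance
  have hXln : IsLocallyNoetherian X := LocallyOfFiniteType.isLocallyNoetherian ι
  have hXn : IsNoetherian X := { }
  have hXqs : QuasiSeparatedSpace X := inferInstance
  -- ample module and resolution property
  have hamp : CohB1.IsAmple ((Scheme.Modules.pullback ι).obj (Twist.twistProjSpace N k ((1 : ℕ) : ℤ))) :=
    Groth.Agent.Lib.helper12.PullAmple.isAmple_pullback_of_isEmbedding ι hemb hLamp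
  have hres := Groth.Agent.Lib.helper11.AmpleInv.hasResolutionProperty_of_isAmple hamp
  obtain ⟨d, hd⟩ := Groth.Agent.S0016.result X
  -- descending induction
  suffices H : ∀ (m j : ℕ), n < j → d ≤ j + m → ∀ G : X.Modules, Coh.IsCoh G →
      Subsingleton (Coh.HH X G j) from H d i hi (Nat.le_add_left _ _) F hF
  intro m
  induction m with
  | zero =>
    intro j _ hdj G hG
    exact hd G hG.1 j (by omega)
  | succ m ih =>
    intro j hj hdj G hG
    obtain ⟨E, π, hE, hπ⟩ := hres G hG.1 hG.2
    have hEcoh : Coh.IsCoh E := Groth.Agent.Lib.Lead.RankAdd.isCoh_of_isFinLocFree hE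
    have hK : Coh.IsCoh (kernel π) := Groth.Agent.Lib.helper7.CohKer.isCoh_kernel hEcoh hG π
    have hS : (ShortComplex.kernelSequence π).ShortExact :=
      { exact := ShortComplex.kernelSequence_exact _
        epi_g := hπ }
    have h1 : Subsingleton (Coh.HH X (ShortComplex.kernelSequence π).X₁ (j + 1)) :=
      ih (j + 1) (by omega) (by omega) (kernel π) hK
    have h2 : Subsingleton (Coh.HH X (ShortComplex.kernelSequence π).X₂ j) := h E hE j hj
    exact HH.subsingleton_X₃ hS j h2 h1

end Groth.Agent.S10947
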