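import Groth.Statements.S10953
import Mathlib

set_option autoImplicit false
universe u
open RedSep

namespace Groth.Agent.S10953

open AlgebraicGeometry CategoryTheory in
/-- For a morphism of schemes f : X → S to an affine scheme S such that any two points of X with the
same image in S lie in one common affine open subset of X, the morphism f is separated. -/
theorem result {X S : Scheme.{u}} [IsAffine S] (f : X ⟶ S)
    (h : ∀ x y : X, f x = f y → ∃ U : X.Opens, IsAffineOpen U ∧ x ∈ U ∧ y ∈ U) :
    IsSeparated f := by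
  refine ⟨?_⟩
  haveI : IsPreimmersion (Limits.pullback.diagonal f) := inferInstance
  apply IsClosedImmersion.of_isPreimmersion
  rw [← isOpen_compl_iff, isOpen_iff_forall_mem_open]
  intro z hz
  -- a common affine open containing both projections of `z`
  have hfz : f (Limits.pullback.fst f f z) = f (Limits.pullback.snd f f z) := by
    rw [← Scheme.Hom.comp_apply, ← Scheme.Hom.comp_apply, Limits.pullback.condition]
  obtain ⟨W, hW, hz1, hz2⟩ := h _ _ hfz
  haveI : IsAffine W.toScheme := hW
  set j := Limits.pullback.map (W.ι ≫ f) (W.ι ≫ f) f f W.ι W.ι (𝟙 S) (by simp) (by simp) with hj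
  haveI : IsOpenImmersion j :=
    MorphismProperty.pullbackMap (P := @IsOpenImmersion) (f := W.ι ≫ f) (g := W.ι ≫ f)
      (f' := f) (g' := f) (i₁ := W.ι) (i₂ := W.ι) inferInstance inferInstance rfl rfl
  have hrange : Set.range j = Limits.pullback.fst f f ⁻¹' Set.range W.ι ∩
      Limits.pullback.snd f f ⁻¹' Set.range W.ι :=
    Scheme.Pullback.range_map _ _ _ _ _ _ _ _ _
  have hzj : z ∈ Set.range j := by
    rw [hrange, Scheme.Opens.range_ι]
    exact ⟨hz1, hz2⟩
  obtain ⟨z', rfl⟩ := hzj
  -- the diagonal of `W ⟶ S` is closed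
  have hC : IsClosed (Set.range (Limits.pullback.diagonal (W.ι ≫ f))) :=
    (Limits.pullback.diagonal (W.ι ≫ f)).isClosedEmbedding.isClosed_range
  have hcd : ∀ w, j (Limits.pullback.diagonal (W.ι ≫ f) w) =
      Limits.pullback.diagonal f (W.ι w) := by
    intro w
    rw [← Scheme.Hom.comp_apply, ← Scheme.Hom.comp_apply, Limits.pullback.comp_diagonal]
  refine ⟨j '' (Set.range (Limits.pullback.diagonal (W.ι ≫ f)))ᶜ, ?_,
    j.isOpenEmbedding.isOpenMap _ hC.isOpen_compl, ?_⟩
  · rintro _ ⟨y, hy, rfl⟩ ⟨x, hx⟩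
    -- `j y = Δ x` forces `y` on the diagonal of `W`
    apply hy
    have hxW : x ∈ W := by
      have h1 : Limits.pullback.fst f f (j y) ∈ Set.range W.ι := by
        have : j y ∈ Set.range j := ⟨y, rfl⟩
        rw [hrange] at this
        exact this.1
      rw [← hx, ← Scheme.Hom.comp_apply, Limits.pullback.diagonal_fst, Scheme.Opens.range_ι] at h1
      exact h1
    have h2 : j (Limits.pullback.diagonal (W.ι ≫ f) ⟨x, hxW⟩) = j y := by
      rw [hcd, ← hx]
      rfl
    exact ⟨⟨x, hxW⟩, j.isOpenEmbedding.injective h2⟩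
  · refine ⟨z', ?_, rfl⟩
    rintro ⟨w, rfl⟩
    exact hz ⟨W.ι w, (hcd w).symm⟩

end Groth.Agent.S10953
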