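import Groth.Statements.S10954
import Groth.Agent.Lib.Helper11.SerreCrit2

set_option autoImplicit false
universe u
open Coherent

namespace Groth.Agent.S10954

open AlgebraicGeometry CategoryTheory CategoryTheory.Limits Opposite in
/-- Let X be a quasi-compact scheme such that, for every short exact sequence 0 → F' → F → F'' → 0 of
quasi-coherent O_X-modules whose first term F' admits a monomorphism into a finite direct sum of
copies of O_X, taking global sections gives a surjection F(X) → F''(X). Then X is affine. (The
published statement is an equivalence of three conditions on a quasi-compact scheme; this row states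
the implication from exactness of global sections on such sequences to affineness.) -/
theorem result (X : Scheme.{u}) [CompactSpace X]
    (h : ∀ (S : ShortComplex X.Modules) (n : ℕ)
      (j : S.X₁ ⟶ ∏ᶜ (fun _ : Fin n => Coh.structureModule X)),
      S.ShortExact → Mono j → Coh.IsQCoh S.X₁ → Coh.IsQCoh S.X₂ → Coh.IsQCoh S.X₃ →
        Function.Surjective (S.g.val.app (op ⊤)).hom) :
    IsAffine X := by
  refine Groth.Agent.Lib.helper11.SerreCrit.isAffine_of_decomp
    (Groth.Agent.Lib.helper11.SerreCrit.decomp_of_surjective ?_)
  intro A B hA hB α β j hα hj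
  obtain ⟨hS, hm, hK, hAB, hIm⟩ := Groth.Agent.Lib.helper11.SerreCrit.ses_facts A B α β j
  let ι1 : Coh.structureModule X ⟶ ∏ᶜ (fun _ : Fin 1 => Coh.structureModule X) :=
    Pi.lift (fun _ => 𝟙 _)
  have hι1 : Mono ι1 := by
    have : ι1 ≫ Pi.π _ (0 : Fin 1) = 𝟙 _ := by simp [ι1]
    exact mono_of_mono_fac this
  have hm' : Mono (((kernel.ι (Abelian.factorThruImage (biprod.desc α β)) ≫ biprod.snd) ≫ j) ≫ ι1) :=
    mono_comp _ _
  intro s
  obtain ⟨t, ht⟩ := h _ 1 _ hS hm' hK hAB hIm s
  exact ⟨t, ht⟩

end Groth.Agent.S10954
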