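import Groth.Statements.S10955
import Groth.Agent.LibJZ29
-- import your own Groth.Agent.* helpers here

set_option autoImplicit false
universe u
open scoped TensorProduct
open Unram

namespace Groth.Agent.S10955

open TensorProduct KaehlerDifferential

/-- injectivity after two successive base changes -/
lemma injective_baseChange_baseChange_iff {C : Type u} [CommRing C] (T : Type u) [CommRing T]
    [Algebra C T] (κ : Type u) [CommRing κ] [Algebra T κ] [Algebra C κ] [IsScalarTower C T κ]
    {N L : Type u} [AddCommGroup N] [Module C N] [AddCommGroup L] [Module C L] (u : N →ₗ[C] L) :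
    Function.Injective ((u.baseChange T).baseChange κ) ↔ Function.Injective (u.baseChange κ) := by
  let e1 := AlgebraTensorModule.cancelBaseChange C T κ κ N
  let e2 := AlgebraTensorModule.cancelBaseChange C T κ κ L
  have comm : e2.toLinearMap ∘ₗ ((u.baseChange T).baseChange κ) =
      (u.baseChange κ) ∘ₗ e1.toLinearMap := by
    ext x
    simp [e1, e2]
  constructor
  · intro h x y hxy
    obtain ⟨x', rfl⟩ := e1.surjective x
    obtain ⟨y', rfl⟩ := e1.surjective y
    have h1 := LinearMap.congr_fun comm x'
    have h2 := LinearMap.congr_fun comm y'
    simp only [LinearMap.comp_apply, LinearEquiv.coe_coe] at h1 h2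
    rw [← h1, ← h2] at hxy
    exact congrArg e1 (h (e2.injective hxy))
  · intro h x y hxy
    have h1 := LinearMap.congr_fun comm x
    have h2 := LinearMap.congr_fun comm y
    simp only [LinearMap.comp_apply, LinearEquiv.coe_coe] at h1 h2
    rw [hxy, h2] at h1
    exact e1.injective (h h1).symm


/-- Let A → B → C be ring homomorphisms with B and C finitely presented over A, let q be a prime ideal
of C and p its inverse image in B, and assume that C is smooth over A at q and that B is smooth over
A at p. Then C is smooth over B at q if and only if the map obtained from the canonical map C ⊗_B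
Ω_{B/A} → Ω_{C/A} by tensoring over C with the residue field k(q) is injective. -/
theorem result (A B C : Type u) [CommRing A] [CommRing B]
    [CommRing C] [Algebra A B] [Algebra B C] [Algebra A C] [IsScalarTower A B C]
    [Algebra.FinitePresentation A B] [Algebra.FinitePresentation A C] (q : Ideal C) [q.IsPrime]
    (hC : Algebra.IsSmoothAt A q) (hB : Algebra.IsSmoothAt A (q.under B)) :
    Algebra.IsSmoothAt B q ↔
      Function.Injective ((KaehlerDifferential.mapBaseChange A B C).lTensor q.ResidueField) := by
  have : Algebra.FormallySmooth A (Localization.AtPrime q) := hC
  have : Algebra.EssFiniteType C (Localization.AtPrime q) :=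
    Algebra.EssFiniteType.of_isLocalization _ q.primeCompl
  have : Algebra.EssFiniteType A (Localization.AtPrime q) :=
    Algebra.EssFiniteType.comp A C (Localization.AtPrime q)
  have : Algebra.FormallyEtale C (Localization.AtPrime q) :=
    Algebra.FormallyEtale.of_isLocalization q.primeCompl
  change Algebra.FormallySmooth B (Localization.AtPrime q) ↔ _
  rw [Groth.Agent.LibJZ29.formallySmooth_tower_iff_of_isLocalRing A B (Localization.AtPrime q)]
  let e1 := AlgebraTensorModule.cancelBaseChange B C (Localization.AtPrime q)
    (Localization.AtPrime q) Ω[B⁄A]
  let e2 := KaehlerDifferential.tensorKaehlerEquivOfFormallyEtale A C (Localization.AtPrime q)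
  have comm : e2.toLinearMap ∘ₗ (mapBaseChange A B C).baseChange (Localization.AtPrime q) =
      mapBaseChange A B (Localization.AtPrime q) ∘ₗ e1.toLinearMap := by
    ext x
    simp [e1, e2, ← IsScalarTower.algebraMap_apply]
  have h1 : Function.Injective ((mapBaseChange A B (Localization.AtPrime q)).lTensor
      (IsLocalRing.ResidueField (Localization.AtPrime q))) ↔
      Function.Injective ((((mapBaseChange A B C).baseChange (Localization.AtPrime q))).lTensor
      (IsLocalRing.ResidueField (Localization.AtPrime q))) := by
    have hc := congrArg (LinearMap.lTensor (IsLocalRing.ResidueField (Localization.AtPrime q))) comm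
    rw [LinearMap.lTensor_comp, LinearMap.lTensor_comp] at hc
    have he1 : Function.Bijective (e1.toLinearMap.lTensor
        (IsLocalRing.ResidueField (Localization.AtPrime q))) :=
      (e1.lTensor (IsLocalRing.ResidueField (Localization.AtPrime q))).bijective
    have he2 : Function.Bijective (e2.toLinearMap.lTensor
        (IsLocalRing.ResidueField (Localization.AtPrime q))) :=
      (e2.lTensor (IsLocalRing.ResidueField (Localization.AtPrime q))).bijective
    constructor
    · intro h
      have : Function.Injective ((LinearMap.lTensor _ e2.toLinearMap) ∘ₗ
          LinearMap.lTensor (IsLocalRing.ResidueField (Localization.AtPrime q))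
            ((mapBaseChange A B C).baseChange (Localization.AtPrime q))) := by
        rw [hc]; exact h.comp he1.injective
      exact Function.Injective.of_comp this
    · intro h
      have : Function.Injective ((LinearMap.lTensor _ (mapBaseChange A B (Localization.AtPrime q))) ∘ₗ
          LinearMap.lTensor (IsLocalRing.ResidueField (Localization.AtPrime q)) e1.toLinearMap) := by
        rw [← hc]; exact he2.injective.comp h
      intro x y hxy
      obtain ⟨x', rfl⟩ := he1.surjective x
      obtain ⟨y', rfl⟩ := he1.surjective y
      exact congrArg _ (this hxy)
  rw [h1]
  exact injective_baseChange_baseChange_iff (Localization.AtPrime q) q.ResidueField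
    (mapBaseChange A B C)

end Groth.Agent.S10955
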