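import Groth.Statements.S10956
import Mathlib

set_option autoImplicit false
universe u
open scoped TensorProduct
open CAlg

namespace Groth.Agent.S10956

open KaehlerDifferential TensorProduct

section
variable (R A B : Type u) [CommRing R] [CommRing A] [CommRing B] [Algebra R A] [Algebra R B]

/-- the `R`-linear map underlying the derivation `a ⊗ b ↦ (1 ⊗ b) ⊗ da`. -/
noncomputable def dLin : (A ⊗[R] B) →ₗ[R] ((A ⊗[R] B) ⊗[A] Ω[A⁄R]) :=
  TensorProduct.lift
    (LinearMap.mk₂ R (fun (a : A) (b : B) => (((1 : A) ⊗ₜ[R] b) ⊗ₜ[A] D R A a :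
        (A ⊗[R] B) ⊗[A] Ω[A⁄R]))
      (fun a a' b => by rw [map_add, tmul_add])
      (fun c a b => by rw [Derivation.map_smul, tmul_smul])
      (fun a b b' => by rw [tmul_add, add_tmul])
      (fun c a b => by rw [tmul_smul]; exact (smul_tmul' _ _ _).symm))

lemma dLin_tmul (a : A) (b : B) :
    dLin R A B (a ⊗ₜ[R] b) = ((1 : A) ⊗ₜ[R] b) ⊗ₜ[A] D R A a := by
  simp [dLin]

lemma dLin_leibniz (x y : A ⊗[R] B) :
    dLin R A B (x * y) = x • dLin R A B y + y • dLin R A B x := by
  induction x using TensorProduct.induction_on with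
  | zero => simp
  | add x x' hx hx' =>
    rw [add_mul, map_add, hx, hx', map_add, smul_add, add_smul]
    abel
  | tmul a b =>
    induction y using TensorProduct.induction_on with
    | zero => simp
    | add y y' hy hy' =>
      rw [mul_add, map_add, hy, hy', map_add, smul_add, add_smul]
      abel
    | tmul a' b' =>
      rw [Algebra.TensorProduct.tmul_mul_tmul, dLin_tmul, dLin_tmul, dLin_tmul,
        Derivation.leibniz, tmul_add, smul_tmul', smul_tmul', ← smul_tmul, ← smul_tmul,
        smul_eq_mul, smul_eq_mul, Algebra.TensorProduct.tmul_mul_tmul,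
        Algebra.TensorProduct.tmul_mul_tmul, smul_tmul', smul_tmul', smul_eq_mul, smul_eq_mul]
      simp only [mul_one, mul_comm b' b]

/-- the derivation `a ⊗ b ↦ (1 ⊗ b) ⊗ da`. -/
noncomputable def dDer : Derivation R (A ⊗[R] B) ((A ⊗[R] B) ⊗[A] Ω[A⁄R]) :=
  Derivation.mk' (dLin R A B) (dLin_leibniz R A B)

lemma dDer_tmul (a : A) (b : B) :
    dDer R A B (a ⊗ₜ[R] b) = ((1 : A) ⊗ₜ[R] b) ⊗ₜ[A] D R A a := dLin_tmul R A B a b

lemma retraction (x : (A ⊗[R] B) ⊗[A] Ω[A⁄R]) :
    (dDer R A B).liftKaehlerDifferential (mapBaseChange R A (A ⊗[R] B) x) = x := by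
  induction x using TensorProduct.induction_on with
  | zero => simp
  | add x y hx hy => rw [map_add, map_add, hx, hy]
  | tmul t ω =>
    rw [mapBaseChange_tmul, map_smul]
    have hω : ω ∈ Submodule.span A (Set.range (D R A)) := by
      rw [span_range_derivation]; exact Submodule.mem_top
    induction hω using Submodule.span_induction with
    | mem ω h =>
      obtain ⟨a, rfl⟩ := h
      rw [map_D, Derivation.liftKaehlerDifferential_comp_D,
        Algebra.TensorProduct.algebraMap_apply, Algebra.algebraMap_self_apply, dDer_tmul,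
        smul_tmul', smul_eq_mul]
      congr 1
      rw [← Algebra.TensorProduct.one_def, mul_one]
    | zero => simp
    | add ω ω' _ _ h h' =>
      rw [map_add, map_add, smul_add, h, h', tmul_add]
    | smul a ω _ h =>
      rw [map_smul, ← algebraMap_smul (A ⊗[R] B) a (KaehlerDifferential.map R R A (A ⊗[R] B) ω),
        map_smul, smul_comm, h, algebraMap_smul, tmul_smul]
end

/-- Let R be a commutative ring, A and B commutative R-algebras and T = A ⊗_R B, an A-algebra through
the left factor. There is a T-linear map r from Ω_{T/R} to T ⊗_A Ω_{A/R} sending d(a ⊗ b) to (1 ⊗ b)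
⊗ da for all a in A and b in B, and together with the canonical map Ω_{T/R} → Ω_{T/A} it identifies
Ω_{T/R} with the product (T ⊗_A Ω_{A/R}) × Ω_{T/A}. (The published statement is the isomorphism of
(Ω_{A/R} ⊗_R B) ⊕ (A ⊗_R Ω_{B/R}) with Ω_{T/R} matching the exterior differentials; it is stated
here through the canonical identifications T ⊗_A Ω_{A/R} = Ω_{A/R} ⊗_R B and Ω_{T/A} = A ⊗_R
Ω_{B/R}.) -/
theorem result (R A B : Type u) [CommRing R] [CommRing A] [CommRing B]
    [Algebra R A] [Algebra R B] :
    ∃ r : Ω[(A ⊗[R] B)⁄R] →ₗ[A ⊗[R] B] ((A ⊗[R] B) ⊗[A] Ω[A⁄R]),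
      (∀ (a : A) (b : B), r (KaehlerDifferential.D R (A ⊗[R] B) (a ⊗ₜ[R] b)) =
          ((1 : A) ⊗ₜ[R] b) ⊗ₜ[A] KaehlerDifferential.D R A a) ∧
        Function.Bijective (fun ω : Ω[(A ⊗[R] B)⁄R] =>
          (r ω, KaehlerDifferential.map R A (A ⊗[R] B) (A ⊗[R] B) ω)) := by
  classical
  refine ⟨(dDer R A B).liftKaehlerDifferential, ?_, ?_⟩
  · intro a b
    rw [Derivation.liftKaehlerDifferential_comp_D, dDer_tmul]
  · constructor
    · intro ω ω' h
      have h1 : (dDer R A B).liftKaehlerDifferential (ω - ω') = 0 := by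
        rw [map_sub, sub_eq_zero]; exact congrArg Prod.fst h
      have h2 : KaehlerDifferential.map R A (A ⊗[R] B) (A ⊗[R] B) (ω - ω') = 0 := by
        rw [map_sub, sub_eq_zero]; exact congrArg Prod.snd h
      obtain ⟨x, hx⟩ := (KaehlerDifferential.exact_mapBaseChange_map R A (A ⊗[R] B) (ω - ω')).mp h2
      rw [← hx, retraction] at h1
      rw [h1, map_zero] at hx
      exact (sub_eq_zero.mp hx.symm)
    · rintro ⟨x, y⟩
      obtain ⟨ω0, hω0⟩ := KaehlerDifferential.map_surjective R A (A ⊗[R] B) y
      refine ⟨ω0 + KaehlerDifferential.mapBaseChange R A (A ⊗[R] B)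
        (x - (dDer R A B).liftKaehlerDifferential ω0), ?_⟩
      apply Prod.ext
      · change (dDer R A B).liftKaehlerDifferential _ = x
        rw [map_add, retraction]
        abel
      · change KaehlerDifferential.map R A (A ⊗[R] B) (A ⊗[R] B) _ = y
        rw [map_add, hω0,
          (KaehlerDifferential.exact_mapBaseChange_map R A (A ⊗[R] B)).apply_apply_eq_zero,
          add_zero]

end Groth.Agent.S10956
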