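import Groth.Statements.S10959
import Groth.Agent.Lib.Helper3.GrpTransl

set_option autoImplicit false
universe u
open CategoryTheory MonoidalCategory CartesianMonoidalCategory MonObj GrpObj AlgebraicGeometry
open AbVar

namespace Groth.Agent.S10959

/-- Let K be an algebraically closed field and A an abelian variety over K (a group scheme over Spec K
with proper smooth structure morphism and irreducible underlying space). Let Z be a closed subset of
A which is not all of A, and z a K-valued point of A. Then there is a K-valued point x of A such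
that the point underlying z lies neither in the translate of Z by x nor in the translate of Z by the
inverse of x; here the translation by x is the morphism A → A given on points by a ↦ a·x, the
product of the identity and the constant map x in the group of morphisms into A. (The published
statement takes Z to be the support of an effective divisor; this row allows any closed subset other
than A.) -/
theorem result
    (K : Type u) [Field K] [IsAlgClosed K] (A : Over (Spec (CommRingCat.of K)))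
    [GrpObj A] [IsProper A.hom] [Smooth A.hom] [IrreducibleSpace A.left]
    (Z : Set A.left) (hZ : IsClosed Z) (hZne : Z ≠ Set.univ)
    (z : 𝟙_ (Over (Spec (CommRingCat.of K))) ⟶ A) :
    ∃ x : 𝟙_ (Over (Spec (CommRingCat.of K))) ⟶ A,
      Disjoint (Set.range z.left.base)
        ((𝟙 A * (toUnit A ≫ x)).left.base '' Z ∪ (𝟙 A * (toUnit A ≫ x)⁻¹).left.base '' Z) := by
  open Groth.Agent.Lib.helper3.GrpTransl in
  haveI : JacobsonSpace A.left := jacobsonSpace A
  have hUo : IsOpen Zᶜ := hZ.isOpen_compl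
  have hUne : Zᶜ.Nonempty := Set.nonempty_compl.mpr hZne
  -- a closed point `u` of `U = Zᶜ`
  obtain ⟨u, huU, hu⟩ := nonempty_inter_closedPoints hUne hUo.isLocallyClosed
  set s := sec A u hu with hs
  have hsu : s.left pt = u := sec_apply A u hu pt
  -- the two maps `x ↦ z x⁻¹` and `x ↦ z x`
  set φ₁ : A ⟶ A := (toUnit A ≫ z) * (𝟙 A)⁻¹ with hφ₁
  set φ₂ : A ⟶ A := (toUnit A ≫ z) * 𝟙 A with hφ₂
  have hφ₁x : ∀ x : 𝟙_ (Over (Spec (CommRingCat.of K))) ⟶ A, x ≫ φ₁ = z * x⁻¹ := by
    intro x
    rw [hφ₁, MonObj.comp_mul, GrpObj.comp_inv, Category.comp_id, ← Category.assoc,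
      toUnit_unique (x ≫ toUnit A) (𝟙 _), Category.id_comp]
  have hφ₂x : ∀ x : 𝟙_ (Over (Spec (CommRingCat.of K))) ⟶ A, x ≫ φ₂ = z * x := by
    intro x
    rw [hφ₂, MonObj.comp_mul, Category.comp_id, ← Category.assoc,
      toUnit_unique (x ≫ toUnit A) (𝟙 _), Category.id_comp]
  have hV₁o : IsOpen (φ₁.left.base ⁻¹' Zᶜ) := hUo.preimage φ₁.left.continuous
  have hV₂o : IsOpen (φ₂.left.base ⁻¹' Zᶜ) := hUo.preimage φ₂.left.continuous
  have hV₁ne : (φ₁.left.base ⁻¹' Zᶜ).Nonempty := by
    refine ⟨(s⁻¹ * z).left pt, ?_⟩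
    show φ₁.left.base ((s⁻¹ * z).left pt) ∈ Zᶜ
    have : φ₁.left.base ((s⁻¹ * z).left pt) = ((s⁻¹ * z) ≫ φ₁).left pt := rfl
    rw [this, hφ₁x, _root_.mul_inv_rev, _root_.inv_inv, mul_inv_cancel_left, hsu]
    exact huU
  have hV₂ne : (φ₂.left.base ⁻¹' Zᶜ).Nonempty := by
    refine ⟨(z⁻¹ * s).left pt, ?_⟩
    show φ₂.left.base ((z⁻¹ * s).left pt) ∈ Zᶜ
    have : φ₂.left.base ((z⁻¹ * s).left pt) = ((z⁻¹ * s) ≫ φ₂).left pt := rfl
    rw [this, hφ₂x, mul_inv_cancel_left, hsu]
    exact huU
  have hVne : ((φ₁.left.base ⁻¹' Zᶜ) ∩ (φ₂.left.base ⁻¹' Zᶜ)).Nonempty :=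
    nonempty_preirreducible_inter hV₁o hV₂o hV₁ne hV₂ne
  obtain ⟨p, ⟨hp1, hp2⟩, hp⟩ := nonempty_inter_closedPoints hVne
    (hV₁o.inter hV₂o).isLocallyClosed
  set x := sec A p hp with hx
  have hxp : x.left pt = p := sec_apply A p hp pt
  have h1 : (z * x⁻¹).left pt ∉ Z := by
    have : φ₁.left.base (x.left pt) = (x ≫ φ₁).left pt := rfl
    rw [← hφ₁x, ← this, hxp]
    exact hp1
  have h2 : (z * x).left pt ∉ Z := by
    have : φ₂.left.base (x.left pt) = (x ≫ φ₂).left pt := rfl
    rw [← hφ₂x, ← this, hxp]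
    exact hp2
  refine ⟨x, ?_⟩
  rw [Set.disjoint_left]
  rintro q ⟨w, rfl⟩ hq
  haveI : Subsingleton (𝟙_ (Over (Spec (CommRingCat.of K)))).left :=
    inferInstanceAs (Subsingleton (PrimeSpectrum K))
  have hw : w = pt := Subsingleton.elim _ _
  subst hw
  have hinv : (toUnit A ≫ x)⁻¹ = toUnit A ≫ x⁻¹ := (GrpObj.comp_inv _ _).symm
  rcases hq with ⟨a, haZ, ha⟩ | ⟨a, haZ, ha⟩
  · -- `z = a x`, so `a = z x⁻¹`
    have e1 : trHomeo A x a = z.left pt := ha
    have e2 : trHomeo A x ((z * x⁻¹).left pt) = z.left pt := by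
      rw [trHomeo_sec, inv_mul_cancel_right]
    have : a = (z * x⁻¹).left pt := (trHomeo A x).injective (e1.trans e2.symm)
    exact h1 (this ▸ haZ)
  · have e1 : trHomeo A x⁻¹ a = z.left pt := by
      rw [hinv] at ha
      exact ha
    have e2 : trHomeo A x⁻¹ ((z * x).left pt) = z.left pt := by
      rw [trHomeo_sec, mul_inv_cancel_right]
    have : a = (z * x).left pt := (trHomeo A x⁻¹).injective (e1.trans e2.symm)
    exact h2 (this ▸ haZ)

end Groth.Agent.S10959
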