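import Groth.Statements.S3572
import Mathlib
import Groth.Agent.Lib.Helper12.ProjUP6
import Groth.Agent.Lib.Helper12.AmpleCoprod
-- import your own Groth.Agent.* helpers here

set_option autoImplicit false
universe u
open CategoryTheory CategoryTheory.Limits AlgebraicGeometry
open EGA2

namespace Groth.Agent.S3572

/-- Existence part of the universal property of projective n-space over an affine base Spec R (the
published statement is for P(E) with E an arbitrary quasi-coherent module; here E is the free module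
of rank n+1, so that P(E) is projective n-space over R): let X be a scheme over R, L an invertible
O_X-module and s_0, …, s_n global sections of L generating L. Then there is an R-morphism r from X
to projective n-space over R and an isomorphism r^*O(1) ≅ L carrying the inverse image of the
coordinate T_i to s_i for every i. -/
theorem result {R : Type u} [CommRing R] (n : ℕ) {X : Scheme.{u}}
    (q : X ⟶ Spec (CommRingCat.of R)) (L : X.Modules) (hL : PicF.IsInvertible L)
    (s : Fin (n + 1) → ProjUP.Γm L) (hs : ProjUP.GeneratedBy L s) :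
    ∃ (r : X ⟶ CohB1.ProjSpace n R) (_ : r ≫ CohB1.ProjSpace.toSpec n R = q)
      (τ : (Scheme.Modules.pullback r).obj (Twist.twistProjSpace n R 1) ≅ L),
      ∀ i, τ.hom.app ⊤ (ProjUP.pullSec r (Twist.twistProjSpace n R 1) (ProjUP.coord n R i)) = s i := by
  classical
  let σ : Fin (n + 1) → (Coh.structureModule X ⟶ L) := fun i =>
    Groth.Agent.Lib.helper12.AmpleBasis.homOfSec L (s i)
  have hsec : ∀ i, Groth.Agent.Lib.helper11.GenLocus.sec (σ i) ⊤ = s i := fun i =>
    (Groth.Agent.Lib.helper12.AmpleBasis.val_homOfSec L (s i) ⊤).trans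
      (Groth.Agent.Lib.helper12.AmpleCoprod.res_self L le_top (s i))
  have hcov : ⨆ i, Groth.Agent.Lib.helper12.ProjUP3.gU σ i = ⊤ := by
    rw [eq_top_iff]
    intro x _
    obtain ⟨i, hi⟩ := Groth.Agent.Lib.helper12.ProjUP4.exists_mem_genLocus_of_span hL σ x (by
      simp_rw [hsec]
      exact hs x)
    exact TopologicalSpace.Opens.mem_iSup.mpr ⟨i, hi⟩
  obtain ⟨r, hr⟩ := Groth.Agent.Lib.helper12.ProjUP3.exists_toProj q σ hcov
  obtain ⟨τ, hτ⟩ := Groth.Agent.Lib.helper12.ProjUP6.exists_iso_nu q σ r hr hcov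
  refine ⟨r, Groth.Agent.Lib.helper12.ProjUP3.toProj_toSpec q σ hcov r hr, τ, fun i => ?_⟩
  have h0 : Groth.Agent.Lib.helper11.GenLocus.sec (Groth.Agent.Lib.helper12.ProjUP5.tP R n i) ⊤ =
      ProjUP.coord n R i := by
    rw [Groth.Agent.Lib.helper12.ProjUP5.sec_tP]
    rfl
  have h1 : Groth.Agent.Lib.helper11.GenLocus.sec (Groth.Agent.Lib.helper12.ProjUP6.nu r i) ⊤ =
      ProjUP.pullSec r (Twist.twistProjSpace n R 1) (ProjUP.coord n R i) := by
    have h2 := Groth.Agent.Lib.helper12.ProjUP4.sec_pullHom r
      (Groth.Agent.Lib.helper12.ProjUP5.tP R n i) ⊤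
    rw [h0] at h2
    exact h2
  have h3 : Groth.Agent.Lib.helper11.GenLocus.sec
      (Groth.Agent.Lib.helper12.ProjUP6.nu r i ≫ τ.hom) ⊤ = s i := by
    rw [hτ i]
    exact hsec i
  rw [Groth.Agent.Lib.helper11.InvHom.sec_comp, h1] at h3
  exact h3



end Groth.Agent.S3572
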