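import Groth.Statements.S10965
import Mathlib
import Groth.Agent.Lib.Helper12.Segre3
import Groth.Agent.Lib.Helper12.PullTensor
import Groth.Agent.S3572
-- import your own Groth.Agent.* helpers here

set_option autoImplicit false
universe u
open CategoryTheory CategoryTheory.Limits AlgebraicGeometry
open RelAmple

namespace Groth.Agent.S10965

/-- Let S be an affine scheme, q : X → S a morphism of schemes and L an invertible O_X-module that is
very ample relative to q, in the sense that there are n and an immersion i : X → P^n_S over S with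
i^*O(1) ≅ L. If L' is a second invertible O_X-module generated by finitely many global sections s_1,
…, s_m (their germs span every stalk), then L ⊗ L' is very ample relative to q in the same sense. -/
theorem result {X S : Scheme.{u}} [IsAffine S] (q : X ⟶ S)
    (L L' : X.Modules) (hL : PicF.IsInvertible L) (hva : RelAmple.IsRelVeryAmplePn q L)
    (hL' : PicF.IsInvertible L') {m : ℕ} (s : Fin m → ProjUP.Γm L') (hs : ProjUP.GeneratedBy L' s) :
    RelAmple.IsRelVeryAmplePn q (CohB1.tensorMod L L') := by
  classical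
  obtain ⟨n, i, hi, hiq, ⟨eL⟩⟩ := hva
  -- add a zero section so that the index set is `Fin (m + 1)`
  let s' : Fin (m + 1) → ProjUP.Γm L' := Fin.snoc s 0
  have hs' : ProjUP.GeneratedBy L' s' := by
    intro x
    rw [eq_top_iff, ← hs x]
    apply Submodule.span_mono
    rintro _ ⟨a, rfl⟩
    exact ⟨Fin.castSucc a, by simp [s']⟩
  obtain ⟨r, hr, τ, -⟩ := Groth.Agent.S3572.result (R := ULift.{u} ℤ) m
    (specULiftZIsTerminal.from X) L' hL' s' hs'
  have hrq : r ≫ CohB1.ProjSpace.toSpec m (ULift.{u} ℤ) = q ≫ specULiftZIsTerminal.from S :=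
    specULiftZIsTerminal.hom_ext _ _
  let j : X ⟶ CohB1.ProjSpaceOver m S := pullback.lift r q hrq
  have hj1 : j ≫ pullback.fst (CohB1.ProjSpace.toSpec m (ULift.{u} ℤ))
      (specULiftZIsTerminal.from S) = r := pullback.lift_fst _ _ _
  have hj2 : j ≫ CohB1.ProjSpaceOver.toBase m S = q := pullback.lift_snd _ _ _
  have hi2 : i ≫ CohB1.ProjSpaceOver.toBase n S = q := hiq
  let eL' : L' ≅ (Scheme.Modules.pullback j).obj (Twist.twistOver m S 1) :=
    τ.symm ≪≫ (Scheme.Modules.pullbackCongr hj1.symm).app _ ≪≫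
      ((Scheme.Modules.pullbackComp _ _).app _).symm
  obtain ⟨φ, hφ, hφb, ⟨eφ⟩⟩ := Groth.Agent.Lib.helper12.Segre.exists_segre_embedding_iso S n m
  let k : X ⟶ pullback (CohB1.ProjSpaceOver.toBase n S) (CohB1.ProjSpaceOver.toBase m S) :=
    pullback.lift i j (hi2.trans hj2.symm)
  have hk1 : k ≫ pullback.fst _ _ = i := pullback.lift_fst _ _ _
  have hk2 : k ≫ pullback.snd _ _ = j := pullback.lift_snd _ _ _
  have hkimm : IsImmersion k := by
    have : IsImmersion (k ≫ pullback.fst (CohB1.ProjSpaceOver.toBase n S)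
        (CohB1.ProjSpaceOver.toBase m S)) := by rw [hk1]; exact hi
    exact IsImmersion.of_comp k (pullback.fst _ _)
  have hinv2 : PicF.IsInvertible ((Scheme.Modules.pullback
      (pullback.snd (CohB1.ProjSpaceOver.toBase n S) (CohB1.ProjSpaceOver.toBase m S))).obj
      (Twist.twistOver m S 1)) :=
    Groth.Agent.Lib.helper11.InvMod.isInvertible_pullback _
      (Groth.Agent.Lib.helper11.InvMod.isInvertible_pullback _
        Groth.Agent.Lib.helper12.ProjUP6.isInvertible_twist_one)
  refine ⟨n * m + n + m, k ≫ φ, inferInstance, ?_, ⟨?_⟩⟩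
  · change (k ≫ φ) ≫ CohB1.ProjSpaceOver.toBase (n * m + n + m) S = q
    rw [Category.assoc, hφb, ← Category.assoc, hk1, hi2]
  · refine PicGrp.tensorModIso eL eL' ≪≫ ?_
    refine ?_ ≪≫ (Scheme.Modules.pullbackComp k φ).app _
    refine ?_ ≪≫ ((Scheme.Modules.pullback k).mapIso eφ).symm
    refine ?_ ≪≫ (Groth.Agent.Lib.helper12.PullTensor.pullTensorIso k _ _ hinv2).symm
    refine PicGrp.tensorModIso ?_ ?_
    · exact (Scheme.Modules.pullbackCongr hk1.symm).app _ ≪≫
        ((Scheme.Modules.pullbackComp _ _).app _).symm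
    · exact (Scheme.Modules.pullbackCongr hk2.symm).app _ ≪≫
        ((Scheme.Modules.pullbackComp _ _).app _).symm

end Groth.Agent.S10965
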