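import Groth.Statements.S10973
import Groth.Agent.Lib.Helper10.FunFld3

set_option autoImplicit false
open FunFld

namespace Groth.Agent.S10973

/-- Two nonzero elements of a function field of one variable with the same principal divisor differ by a
constant multiple. -/
theorem result (k K : Type*) [Field k] [Field K] [Algebra k K]
    (hK : FunFld.IsFunctionField k K) (x y : K) (hx : x ≠ 0) (hy : y ≠ 0)
    (h : ∀ P : FunFld.Place k K, P.ord x = P.ord y) : ∃ c : k, x = c • y := by
  by_contra hne
  have hxy : x / y ∉ Set.range (algebraMap k K) := by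
    rintro ⟨c, hc⟩
    apply hne
    refine ⟨c, ?_⟩
    rw [Algebra.smul_def, hc, div_mul_cancel₀ _ hy]
  obtain ⟨Q, hQ⟩ := Groth.Agent.Lib.helper10.FF.exists_pole hK hxy
  rw [div_eq_mul_inv, Groth.Agent.Lib.helper10.FF.Place.ord_mul Q hx (inv_ne_zero hy),
    Groth.Agent.Lib.helper10.FF.Place.ord_inv, h Q] at hQ
  omega

end Groth.Agent.S10973
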