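import Groth.Statements.S10980
import Groth.Agent.Lib.Helper10.FunFld11

set_option autoImplicit false
open FunFld

namespace Groth.Agent.S10980

/-- `L(D) = 0` for every divisor `D` of negative degree in a function field of one variable. -/
theorem result (k K : Type*) [Field k] [Field K] [Algebra k K]
    (hK : FunFld.IsFunctionField k K) (D : FunFld.Divisor k K) (h : D.deg < 0) : FunFld.L D = ⊥ := by
  rw [eq_bot_iff]
  intro x hx
  rw [Submodule.mem_bot]
  by_contra hx0
  have h1 : -D ≤ FunFld.div k x := by
    intro P
    rw [Finsupp.neg_apply, Groth.Agent.Lib.helper10.FF.div_apply hK]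
    have h2 := hx P
    rw [Groth.Agent.Lib.helper10.FF.Place.val_eq_exp_neg_ord P hx0, WithZero.exp_le_exp] at h2
    omega
  have h3 := Groth.Agent.Lib.helper10.FF.deg_mono h1
  rw [Groth.Agent.Lib.helper10.FF.deg_neg, Groth.Agent.Lib.helper10.FF.deg_div hK] at h3
  omega

end Groth.Agent.S10980
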