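import Groth.Statements.S1099
import Groth.Agent.Lib.Helper25.HomCountable

set_option autoImplicit false
universe u
open CategoryTheory CategoryTheory.Limits AlgebraicGeometry Opposite
attribute [local instance] HasDerivedCategory.standard
open Perf

namespace Groth.Agent.S1099

/-- Let the scheme X be quasi-compact and quasi-separated, K ∈ D(O_X) with quasi-coherent cohomology
sheaves whose sections over affine opens are countable, E a perfect object of D(O_X), and U ⊆ X a
quasi-compact open (restriction to U assumed exact). Then for every i the group of morphisms E|_U ⟶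
K|_U[i] in D(O_U) is countable. -/
theorem result (X : Scheme.{u}) [CompactSpace ↥X] [QuasiSeparatedSpace ↥X]
    (K : DCoh.D X) (hK : DCoh.IsQCohD K) (hKc : ∀ V : X.Opens, IsAffineOpen V → ∀ i : ℤ, Countable ((DCoh.HD K i).val.obj (op V)))
    (E : DCoh.D X) (hE : DCoh.IsPerfect E) (U : X.Opens) (hU : IsCompact (U : Set X)) [PreservesFiniteLimits (Scheme.Modules.restrictFunctor U.ι)] (i : ℤ) :
    Countable ((DCoh.restrictD U.ι).obj E ⟶ ((DCoh.restrictD U.ι).obj K)⟦i⟧) := by
  haveI : CompactSpace (U : Scheme.{u}) := isCompact_iff_compactSpace.mp hU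
  haveI : QuasiSeparatedSpace (U : Scheme.{u}) :=
    QuasiSeparatedSpace.of_isOpenEmbedding U.ι.isOpenEmbedding
  have hck : Groth.Agent.Lib.Helper25.HomCountable.CK X K := ⟨hK, hKc⟩
  exact Groth.Agent.Lib.Helper25.HomCountable.cnt_of_isPerfect U _
    (Groth.Agent.Lib.Helper25.HomVanQcqs.isPerfect_restrictD U.ι hE) _
    (Groth.Agent.Lib.Helper25.HomCountable.ck_shift
      (Groth.Agent.Lib.Helper25.HomCountable.ck_restrict hck U) i)

end Groth.Agent.S1099
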