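import Groth.Statements.S11005
import Mathlib
import Groth.Agent.Lib.Helper10.FunFld1
-- import your own Groth.Agent.* helpers here

set_option autoImplicit false
universe u v
open FunFld

namespace Groth.Agent.S11005

open IntermediateField in
/-- `K₀` is finite over `k(x)` computed inside `K₀`. -/
theorem finite_adjoin_sub {k : Type u} {K : Type v} [Field k] [Field K] [Algebra k K]
    (K₀ : IntermediateField k K) (x : K) (hx : x ∈ K₀) [FiniteDimensional k⟮x⟯ K] :
    FiniteDimensional (k⟮(⟨x, hx⟩ : K₀)⟯) K₀ := by
  set E : IntermediateField k K₀ := k⟮(⟨x, hx⟩ : K₀)⟯ with hE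
  have hEF : E.map K₀.val = k⟮x⟯ := by
    rw [hE, IntermediateField.adjoin_map]
    congr 1
    simp
  let e : E ≃ₐ[k] k⟮x⟯ := (IntermediateField.equivMap E K₀.val).trans
    (IntermediateField.equivOfEq hEF)
  have he : ∀ w : E, ((e w : k⟮x⟯) : K) = ((w : K₀) : K) := fun w => rfl
  have hfinEK : Module.Finite E K := by
    refine Module.Finite.of_equiv_equiv (A₁ := k⟮x⟯) (B₁ := K) (A₂ := E) (B₂ := K)
      e.symm.toRingEquiv (RingEquiv.refl K) ?_
    ext z
    have := he (e.symm z)
    rw [AlgEquiv.apply_symm_apply] at this
    exact this.symm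
  exact Module.Finite.of_injective ((IsScalarTower.toAlgHom E K₀ K).toLinearMap)
    (IsScalarTower.toAlgHom E K₀ K).injective


/-- An intermediate field `K₀` of a geometric function field of one variable `K/k` that is
transcendental over `k` is again a geometric function field of one variable over `k`. -/
theorem result (k : Type u) (K : Type v) [Field k] [Field K] [Algebra k K]
    (hK : FunFld.IsFunctionField k K) (hg : FunFld.IsGeometric k K) (K₀ : IntermediateField k K)
    (h₀ : ∃ x ∈ K₀, Transcendental k x) : FunFld.IsFunctionField k K₀ ∧ FunFld.IsGeometric k K₀ := by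
  obtain ⟨x, hxK₀, hx⟩ := h₀
  have hfinK : FiniteDimensional (IntermediateField.adjoin k ({x} : Set K)) K :=
    Groth.Agent.Lib.helper10.FF.finiteDimensional_adjoin hK hx
  refine ⟨⟨⟨⟨x, hxK₀⟩, ?_, ?_⟩, ?_⟩, ?_⟩
  · -- transcendental in `K₀`
    have : Transcendental k (algebraMap K₀ K ⟨x, hxK₀⟩) := hx
    exact (transcendental_algebraMap_iff (algebraMap K₀ K).injective).mp this
  · exact finite_adjoin_sub K₀ x hxK₀
  · -- algebraic elements
    intro y hy
    have hy' : IsAlgebraic k (algebraMap K₀ K y) := hy.algebraMap
    obtain ⟨c, hc⟩ := hK.2 _ hy'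
    exact ⟨c, Subtype.ext hc⟩
  · -- geometric
    intro k' _ _ hfin
    have hF := hg k' hfin
    let φ : TensorProduct k k' K₀ →ₐ[k] TensorProduct k k' K :=
      Algebra.TensorProduct.map (AlgHom.id k k') K₀.val
    have hφ : Function.Injective φ := by
      have h1 : Function.Injective (K₀.val.toLinearMap.lTensor k') :=
        Module.Flat.lTensor_preserves_injective_linearMap _ K₀.val.injective
      intro a b hab
      apply h1
      have h2 : ∀ t, φ t = K₀.val.toLinearMap.lTensor k' t := by
        intro t
        induction t using TensorProduct.induction_on with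
        | zero => simp
        | tmul a b => simp [φ]
        | add a b ha hb => rw [map_add, map_add, ha, hb]
      rw [← h2, ← h2, hab]
    have hdomK : IsDomain (TensorProduct k k' K) := hF.isDomain
    have hdom : IsDomain (TensorProduct k k' K₀) :=
      Function.Injective.isDomain φ.toRingHom hφ
    let c : TensorProduct k K₀ k' ≃ₐ[k] TensorProduct k k' K₀ := Algebra.TensorProduct.comm k K₀ k'
    have hdom' : IsDomain (TensorProduct k K₀ k') := c.toMulEquiv.isDomain _
    have hfin' : Module.Finite K₀ (TensorProduct k K₀ k') := Module.Finite.base_change k K₀ k'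
    have hart : IsArtinianRing (TensorProduct k K₀ k') := IsArtinianRing.of_finite K₀ (TensorProduct k K₀ k')
    have hfld : IsField (TensorProduct k K₀ k') :=
      IsArtinianRing.isField_of_isDomain (TensorProduct k K₀ k')
    exact c.symm.toMulEquiv.isField hfld

end Groth.Agent.S11005
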