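import Groth.Statements.S11006
import Mathlib
-- import your own Groth.Agent.* helpers here

set_option autoImplicit false
universe u v
open FunFld

namespace Groth.Agent.S11006

open TensorProduct

section
variable {k k' : Type u} {K K' : Type v} [Field k] [Field k'] [Field K] [Field K']
    [Algebra k k'] [FiniteDimensional k k'] [Algebra k K] [Algebra K K'] [Algebra k' K'] [Algebra k K']
    [IsScalarTower k k' K'] [IsScalarTower k K K']

/-- The product map as a `k'`-algebra equivalence. -/
noncomputable def prodEquiv
    (h : Function.Bijective (Algebra.TensorProduct.productMap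
      (IsScalarTower.toAlgHom k k' K') (IsScalarTower.toAlgHom k K K'))) :
    (k' ⊗[k] K) ≃ₐ[k'] K' :=
  AlgEquiv.ofBijective
    (Algebra.TensorProduct.productLeftAlgHom (Algebra.ofId k' K') (IsScalarTower.toAlgHom k K K'))
    (by
      have hfun : ⇑(Algebra.TensorProduct.productLeftAlgHom (Algebra.ofId k' K')
          (IsScalarTower.toAlgHom k K K')) =
          ⇑(Algebra.TensorProduct.productMap
            (IsScalarTower.toAlgHom k k' K') (IsScalarTower.toAlgHom k K K')) := by
        funext z
        induction z using TensorProduct.induction_on with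
        | zero => simp
        | tmul a b => rfl
        | add x y hx hy => rw [map_add, map_add, hx, hy]
      rw [hfun]
      exact h)

/-- Part B: `k'' ⊗[k'] K'` is a field for every finite extension `k''/k'`. -/
theorem isField_tensor
    (h : Function.Bijective (Algebra.TensorProduct.productMap
      (IsScalarTower.toAlgHom k k' K') (IsScalarTower.toAlgHom k K K')))
    (hg : FunFld.IsGeometric k K)
    (k'' : Type u) [Field k''] [Algebra k' k''] [FiniteDimensional k' k''] :
    IsField (k'' ⊗[k'] K') := by
  let : Algebra k k'' := ((algebraMap k' k'').comp (algebraMap k k')).toAlgebra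
  have : IsScalarTower k k' k'' := IsScalarTower.of_algebraMap_eq (fun _ => rfl)
  have : FiniteDimensional k k'' := FiniteDimensional.trans k k' k''
  have hF : IsField (k'' ⊗[k] K) := hg k'' inferInstance
  let e1 : (k'' ⊗[k'] K') ≃ₐ[k'] (k'' ⊗[k'] (k' ⊗[k] K)) :=
    Algebra.TensorProduct.congr AlgEquiv.refl (prodEquiv h).symm
  let e2 : (k'' ⊗[k'] (k' ⊗[k] K)) ≃ₐ[k''] (k'' ⊗[k] K) :=
    Algebra.TensorProduct.cancelBaseChange k k' k'' k'' K
  exact MulEquiv.isField hF (e1.toRingEquiv.trans e2.toRingEquiv).toMulEquiv

end

section
variable {k k' : Type u} {K K' : Type v} [Field k] [Field k'] [Field K] [Field K']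
    [Algebra k k'] [FiniteDimensional k k'] [Algebra k K] [Algebra K K'] [Algebra k' K'] [Algebra k K']
    [IsScalarTower k k' K'] [IsScalarTower k K K']

/-- `k'` is algebraically closed in `K'`. -/
theorem alg_closed
    (h : Function.Bijective (Algebra.TensorProduct.productMap
      (IsScalarTower.toAlgHom k k' K') (IsScalarTower.toAlgHom k K K')))
    (hg : FunFld.IsGeometric k K) (y : K') (hy : IsAlgebraic k' y) :
    y ∈ Set.range (algebraMap k' K') := by
  have hint : IsIntegral k' y := hy.isIntegral
  have : Fact (Irreducible (minpoly k' y)) := ⟨minpoly.irreducible hint⟩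
  have : FiniteDimensional k' (AdjoinRoot (minpoly k' y)) := (minpoly.monic hint).finite_adjoinRoot
  let ι : AdjoinRoot (minpoly k' y) →ₐ[k'] K' :=
    AdjoinRoot.liftAlgHom (minpoly k' y) (Algebra.ofId k' K') y (minpoly.aeval k' y)
  have hF := isField_tensor h hg (AdjoinRoot (minpoly k' y))
  have hF' : IsField (K' ⊗[k'] AdjoinRoot (minpoly k' y)) :=
    MulEquiv.isField hF
      (Algebra.TensorProduct.comm k' K' (AdjoinRoot (minpoly k' y))).toRingEquiv.toMulEquiv
  let μ : (K' ⊗[k'] AdjoinRoot (minpoly k' y)) →ₐ[K'] K' :=
    Algebra.TensorProduct.productLeftAlgHom (AlgHom.id K' K') ι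
  have hμ : Function.Injective μ := by
    rw [injective_iff_map_eq_zero]
    intro a ha
    by_contra hne
    obtain ⟨b, hb⟩ := hF'.mul_inv_cancel hne
    have := congrArg μ hb
    rw [map_mul, ha, zero_mul, map_one] at this
    exact zero_ne_one this
  have hle : Module.finrank K' (K' ⊗[k'] AdjoinRoot (minpoly k' y)) ≤ Module.finrank K' K' :=
    LinearMap.finrank_le_finrank_of_injective (f := μ.toLinearMap) hμ
  rw [Module.finrank_baseChange, Module.finrank_self] at hle
  have hdeg : Module.finrank k' (AdjoinRoot (minpoly k' y)) = (minpoly k' y).natDegree := by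
    rw [(AdjoinRoot.powerBasis (minpoly.ne_zero hint)).finrank, AdjoinRoot.powerBasis_dim]
  have h1 : (minpoly k' y).natDegree = 1 :=
    le_antisymm (hdeg ▸ hle) (minpoly.natDegree_pos hint)
  exact minpoly.natDegree_eq_one_iff.mp h1

theorem finite_KK'
    (h : Function.Bijective (Algebra.TensorProduct.productMap
      (IsScalarTower.toAlgHom k k' K') (IsScalarTower.toAlgHom k K K'))) :
    Module.Finite K K' := by
  let ν : (K ⊗[k] k') →ₐ[K] K' :=
    Algebra.TensorProduct.productLeftAlgHom (Algebra.ofId K K') (IsScalarTower.toAlgHom k k' K')
  have hν : ∀ w : k' ⊗[k] K, ν (Algebra.TensorProduct.comm k k' K w) =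
      Algebra.TensorProduct.productMap
        (IsScalarTower.toAlgHom k k' K') (IsScalarTower.toAlgHom k K K') w := by
    intro w
    induction w using TensorProduct.induction_on with
    | zero => simp
    | tmul a b =>
      show algebraMap K K' b * algebraMap k' K' a = algebraMap k' K' a * algebraMap K K' b
      exact mul_comm _ _
    | add x y hx hy => rw [map_add, map_add, map_add, hx, hy]
  have hsurj : Function.Surjective ν.toLinearMap := by
    intro z
    obtain ⟨w, rfl⟩ := h.2 z
    exact ⟨Algebra.TensorProduct.comm k k' K w, hν w⟩
  exact Module.Finite.of_surjective ν.toLinearMap hsurj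

theorem exists_transc
    (h : Function.Bijective (Algebra.TensorProduct.productMap
      (IsScalarTower.toAlgHom k k' K') (IsScalarTower.toAlgHom k K K')))
    (hK : FunFld.IsFunctionField k K) :
    ∃ x' : K', Transcendental k' x' ∧
      FiniteDimensional (IntermediateField.adjoin k' ({x'} : Set K')) K' := by
  obtain ⟨⟨x, hx, hfin⟩, -⟩ := hK
  refine ⟨algebraMap K K' x, ?_, ?_⟩
  · intro halg
    have : Algebra.IsAlgebraic k k' := Algebra.IsAlgebraic.of_finite k k'
    have h1 : IsAlgebraic k (algebraMap K K' x) := halg.restrictScalars k
    exact hx ((isAlgebraic_algebraMap_iff (algebraMap K K').injective).mp h1)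
  · have hKK' : Module.Finite K K' := finite_KK' h
    let φ : K →ₐ[k] K' := IsScalarTower.toAlgHom k K K'
    have hmem : ∀ f : IntermediateField.adjoin k ({x} : Set K),
        algebraMap K K' f.1 ∈ IntermediateField.adjoin k' ({algebraMap K K' x} : Set K') := by
      have hle : IntermediateField.adjoin k ({x} : Set K) ≤
          ((IntermediateField.adjoin k' ({algebraMap K K' x} : Set K')).restrictScalars k).comap φ := by
        rw [IntermediateField.adjoin_le_iff]
        intro z hz
        rw [Set.mem_singleton_iff.mp hz]
        exact IntermediateField.subset_adjoin k' ({algebraMap K K' x} : Set K')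
          (Set.mem_singleton _)
      intro f
      exact hle f.2
    have : Module.Finite (IntermediateField.adjoin k ({x} : Set K)) K' :=
      Module.Finite.trans K K'
    let : SMul (IntermediateField.adjoin k ({x} : Set K))
        (IntermediateField.adjoin k' ({algebraMap K K' x} : Set K')) :=
      ⟨fun f a => ⟨algebraMap K K' f.1 * a.1, mul_mem (hmem f) a.2⟩⟩
    have : IsScalarTower (IntermediateField.adjoin k ({x} : Set K))
        (IntermediateField.adjoin k' ({algebraMap K K' x} : Set K')) K' := by
      refine ⟨fun f a z => ?_⟩
      rw [IntermediateField.smul_def, Algebra.smul_def, IntermediateField.smul_def,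
        IntermediateField.smul_def, Algebra.smul_def]
      show (algebraMap K K' f.1 * a.1) * z = algebraMap K K' f.1 * (a.1 * z)
      exact mul_assoc _ _ _
    exact Module.Finite.of_restrictScalars_finite (IntermediateField.adjoin k ({x} : Set K))
      (IntermediateField.adjoin k' ({algebraMap K K' x} : Set K')) K'

end

/-- For `K/k` a geometric function field of one variable and `k'/k` finite, the field `K' = k' ⊗_k K` is
a geometric function field of one variable over `k'`: some element of `K'` is transcendental over
`k'` with `K'` of finite degree over the subfield it generates over `k'`, `k'` is algebraically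
closed in `K'`, and `K'` stays a field after tensoring over `k'` with any finite field extension of
`k'`. -/
theorem result (k k' : Type u) (K K' : Type v) [Field k] [Field k'] [Field K] [Field K']
    [Algebra k k'] [FiniteDimensional k k'] [Algebra k K] [Algebra K K'] [Algebra k' K'] [Algebra k K']
    [IsScalarTower k k' K'] [IsScalarTower k K K']
    (h : Function.Bijective (Algebra.TensorProduct.productMap
      (IsScalarTower.toAlgHom k k' K') (IsScalarTower.toAlgHom k K K')))
    (hK : FunFld.IsFunctionField k K) (hg : FunFld.IsGeometric k K) :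
    FunFld.IsFunctionField k' K' ∧ FunFld.IsGeometric k' K' := by
  exact ⟨⟨exists_transc h hK, fun y hy => alg_closed h hg y hy⟩,
    fun k'' _ _ _ => isField_tensor h hg k''⟩

end Groth.Agent.S11006
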