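import Groth.Statements.S11008
import Mathlib
import Groth.Agent.Lib.Helper10.PlaneModel1
import Groth.Agent.Lib.Helper10.PlaneModel2
import Groth.Agent.Lib.Helper10.PlaneModel3
import Groth.Agent.Lib.Helper26.FunFldSep

set_option autoImplicit false
universe u v
open FunFld

namespace Groth.Agent.S11008

set_option linter.style.haveILetI false

open TensorProduct IntermediateField Groth.Agent.Lib.helper10.PlaneModel

theorem range_pair {K : Type v} (x y : K) : Set.range ![x, y] = ({x, y} : Set K) := by
  ext z
  simp only [Set.mem_range, Set.mem_insert_iff, Set.mem_singleton_iff]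
  constructor
  · rintro ⟨i, rfl⟩
    fin_cases i
    · left; rfl
    · right; rfl
  · rintro (rfl | rfl)
    · exact ⟨0, rfl⟩
    · exact ⟨1, rfl⟩

theorem main (k : Type u) (K : Type v) [Field k] [Field K] [Algebra k K] :
    (FunFld.IsFunctionField k K ∧ FunFld.IsGeometric k K) ↔
      ∃ (x y : K) (f : MvPolynomial (Fin 2) k),
        IntermediateField.adjoin k ({x, y} : Set K) = ⊤ ∧
        (∀ (k' : Type u) [Field k'] [Algebra k k'], FiniteDimensional k k' →
          Irreducible (MvPolynomial.map (algebraMap k k') f)) ∧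
        RingHom.ker (MvPolynomial.aeval ![x, y] : MvPolynomial (Fin 2) k →ₐ[k] K) = Ideal.span {f} := by
  classical
  constructor
  · rintro ⟨hK, hg⟩
    obtain ⟨x, hxtr, hsep⟩ := Groth.Agent.Lib.helper26.FunFldSep.exists_separating_element hK hg
    obtain ⟨⟨x₀, hx₀, hfin₀⟩, -⟩ := hK
    have hess : Algebra.EssFiniteType k K :=
      Groth.Agent.Lib.helper26.FunFldSep.essFiniteType_of_finite_adjoin x₀
    have hess' : Algebra.EssFiniteType k⟮x⟯ K := Algebra.EssFiniteType.of_comp k k⟮x⟯ K
    have hunr : Algebra.FormallyUnramified k⟮x⟯ K :=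
      Algebra.FormallyUnramified.of_isSeparable k⟮x⟯ K
    have hfin : Module.Finite k⟮x⟯ K := Algebra.FormallyUnramified.finite_of_free k⟮x⟯ K
    obtain ⟨y, hy⟩ := Field.exists_primitive_element k⟮x⟯ K
    have hgen : IntermediateField.adjoin k ({x, y} : Set K) = ⊤ := by
      have h2 := IntermediateField.adjoin_adjoin_left k ({x} : Set K) ({y} : Set K)
      rw [hy] at h2
      rw [Set.insert_eq, ← h2]
      rfl
    have hyalg : IsAlgebraic (Algebra.adjoin k ({x} : Set K)) y :=
      IntermediateField.isAlgebraic_adjoin_iff.mp (Algebra.IsAlgebraic.isAlgebraic y)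
    have hne : RingHom.ker (MvPolynomial.aeval ![x, y] : MvPolynomial (Fin 2) k →ₐ[k] K) ≠ ⊥ := by
      intro hbot
      have hind : AlgebraicIndependent k ![x, y] := by
        rw [algebraicIndependent_iff_ker_eq_bot]
        exact hbot
      have h3 := hind.transcendental_adjoin (s := {0}) (i := 1) (by simp)
      rw [Set.image_singleton] at h3
      exact h3 hyalg
    obtain ⟨f, hfirr, hker⟩ := ker_eq_span_of_transcendental
      (MvPolynomial.aeval ![x, y] : MvPolynomial (Fin 2) k →ₐ[k] K) hne (MvPolynomial.X 0)
      (by rw [MvPolynomial.aeval_X]; exact hxtr)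
    refine ⟨x, y, f, hgen, ?_, hker⟩
    intro k' _ _ hk'
    exact irreducible_map_of_isField k k' _ f hfirr.ne_zero hker (hg k' hk')
  · rintro ⟨x, y, f, hgen, habs, hker⟩
    have hirr : Irreducible f := by
      have := habs k inferInstance
      rwa [Algebra.algebraMap_self, MvPolynomial.map_id] at this
    have hfrac : ∀ c : K, ∃ p q : MvPolynomial (Fin 2) k,
        (MvPolynomial.aeval ![x, y] : MvPolynomial (Fin 2) k →ₐ[k] K) q ≠ 0 ∧
        c * (MvPolynomial.aeval ![x, y] : MvPolynomial (Fin 2) k →ₐ[k] K) q =
          (MvPolynomial.aeval ![x, y] : MvPolynomial (Fin 2) k →ₐ[k] K) p := by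
      intro c
      have hc : c ∈ IntermediateField.adjoin k ({x, y} : Set K) := by rw [hgen]; trivial
      rw [IntermediateField.mem_adjoin_iff_div] at hc
      obtain ⟨r, hr, s, hs, hcrs⟩ := hc
      rw [← range_pair, Algebra.adjoin_range_eq_range_aeval] at hr hs
      obtain ⟨p, hp⟩ := hr
      obtain ⟨q, hq'⟩ := hs
      have hp' : (MvPolynomial.aeval ![x, y] : MvPolynomial (Fin 2) k →ₐ[k] K) p = r := hp
      have hq'' : (MvPolynomial.aeval ![x, y] : MvPolynomial (Fin 2) k →ₐ[k] K) q = s := hq'
      by_cases hq : s = 0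
      · refine ⟨0, 1, by rw [map_one]; exact one_ne_zero, ?_⟩
        rw [hcrs, hq, div_zero, zero_mul, map_zero]
      · refine ⟨p, q, by rw [hq'']; exact hq, ?_⟩
        rw [hp', hq'', hcrs, div_mul_cancel₀ _ hq]
    have hg : FunFld.IsGeometric k K := by
      intro k' _ _ hk'
      exact isField_tensor_of_irreducible k k' _ f hfrac hker (habs k' hk')
    refine ⟨⟨?_, fun α hα => mem_range_of_isAlgebraic_of_isGeometric hg α hα⟩, hg⟩
    apply exists_transcendental_finite x y hgen
    · rw [algebraicIndependent_iff_ker_eq_bot]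
      intro hbot
      have : Ideal.span {f} = (⊥ : Ideal (MvPolynomial (Fin 2) k)) := by
        rw [← hker]; exact hbot
      rw [Ideal.span_singleton_eq_bot] at this
      exact hirr.ne_zero this
    · rintro ⟨hx, hy⟩
      exact not_both_algebraic x y f hirr hker hx hy



/-- `K/k` is a geometric function field of one variable iff `K = k(x, y)` where the relation ideal of
`(x, y)` in `k[X, Y]` is generated by an absolutely irreducible polynomial `f`. -/
theorem result (k : Type u) (K : Type v) [Field k] [Field K] [Algebra k K] :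
    (FunFld.IsFunctionField k K ∧ FunFld.IsGeometric k K) ↔
      ∃ (x y : K) (f : MvPolynomial (Fin 2) k),
        IntermediateField.adjoin k ({x, y} : Set K) = ⊤ ∧
        (∀ (k' : Type u) [Field k'] [Algebra k k'], FiniteDimensional k k' →
          Irreducible (MvPolynomial.map (algebraMap k k') f)) ∧
        RingHom.ker (MvPolynomial.aeval ![x, y] : MvPolynomial (Fin 2) k →ₐ[k] K) = Ideal.span {f} := by
  exact main k K

end Groth.Agent.S11008
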