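import Groth.Statements.S11010
import Groth.Agent.Lib.Helper26.FunFldGeom

set_option autoImplicit false
universe u v
open FunFld

namespace Groth.Agent.S11010

/-- A finite separable extension `K'/k'` of a geometric function field of one variable `K/k` (with `k'`
the constant field of `K'`) is again geometric. (The published statement has no separability
hypothesis on `K'/K`; for `k = 𝔽_p(s,t)`, `K = k(x)` and `K' = K(y)` with `y^p = s x^p + t`, the
field `k` is algebraically closed in `K'` yet `k(s^{1/p}, t^{1/p}) ⊗_k K'` has nonzero nilpotents,
so `K'/K` is taken separable here.) -/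
theorem result (k k' : Type u) (K K' : Type v) [Field k] [Field k'] [Field K] [Field K']
    [Algebra k k'] [Algebra k K] [Algebra K K'] [Algebra k' K'] [Algebra k K']
    [IsScalarTower k k' K'] [IsScalarTower k K K'] [FiniteDimensional K K'] [Algebra.IsSeparable K K']
    (hK : FunFld.IsFunctionField k K) (hg : FunFld.IsGeometric k K)
    (hK' : FunFld.IsFunctionField k' K') : FunFld.IsGeometric k' K' := by
  obtain ⟨x, hxt, hsep⟩ := Groth.Agent.Lib.helper26.FunFldSep.exists_separating_element hK hg
  have hsep' : Algebra.IsSeparable (IntermediateField.adjoin k ({x} : Set K)) K' :=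
    Algebra.IsSeparable.trans (IntermediateField.adjoin k ({x} : Set K)) K K'
  -- the inclusion `k(x) → k'(x)`
  have hle : ∀ a ∈ IntermediateField.adjoin k ({x} : Set K),
      algebraMap K K' a ∈ IntermediateField.adjoin k' ({algebraMap K K' x} : Set K') := by
    intro a ha
    induction ha using IntermediateField.adjoin_induction with
    | mem y hy =>
      rw [Set.mem_singleton_iff] at hy
      rw [hy]
      exact IntermediateField.mem_adjoin_simple_self k' _
    | algebraMap c =>
      rw [← IsScalarTower.algebraMap_apply k K K', IsScalarTower.algebraMap_apply k k' K']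
      exact IntermediateField.algebraMap_mem _ _
    | add a b _ _ ha hb => rw [map_add]; exact add_mem ha hb
    | inv a _ ha => rw [map_inv₀]; exact inv_mem ha
    | mul a b _ _ ha hb => rw [map_mul]; exact mul_mem ha hb
  let φ : IntermediateField.adjoin k ({x} : Set K) →+*
      IntermediateField.adjoin k' ({algebraMap K K' x} : Set K') :=
    { toFun := fun a => ⟨algebraMap K K' a.1, hle a.1 a.2⟩
      map_one' := Subtype.ext (map_one _)
      map_mul' := fun _ _ => Subtype.ext (map_mul _ _ _)
      map_zero' := Subtype.ext (map_zero _)
      map_add' := fun _ _ => Subtype.ext (map_add _ _ _) }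
  letI : Algebra (IntermediateField.adjoin k ({x} : Set K))
      (IntermediateField.adjoin k' ({algebraMap K K' x} : Set K')) := φ.toAlgebra
  haveI : IsScalarTower (IntermediateField.adjoin k ({x} : Set K))
      (IntermediateField.adjoin k' ({algebraMap K K' x} : Set K')) K' :=
    IsScalarTower.of_algebraMap_eq (fun _ => rfl)
  have hsep'' : Algebra.IsSeparable
      (IntermediateField.adjoin k' ({algebraMap K K' x} : Set K')) K' :=
    Algebra.isSeparable_tower_top_of_isSeparable (IntermediateField.adjoin k ({x} : Set K))
      (IntermediateField.adjoin k' ({algebraMap K K' x} : Set K')) K'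
  have hxt' : Transcendental k' (algebraMap K K' x) := by
    intro halg
    obtain ⟨⟨x₀, hx₀, -⟩, -⟩ := hK'
    have h1 : Algebra.IsAlgebraic k'
        (IntermediateField.adjoin k' ({algebraMap K K' x} : Set K')) :=
      IntermediateField.isAlgebraic_adjoin_simple halg.isIntegral
    have h2 : Algebra.IsAlgebraic
        (IntermediateField.adjoin k' ({algebraMap K K' x} : Set K')) K' :=
      Algebra.IsSeparable.isAlgebraic _ _
    have h3 : Algebra.IsAlgebraic k' K' :=
      Algebra.IsAlgebraic.trans k' (IntermediateField.adjoin k' ({algebraMap K K' x} : Set K')) K'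
    exact hx₀ (h3.isAlgebraic x₀)
  exact Groth.Agent.Lib.helper26.FunFldGeom.isGeometric_of_isSeparable hK' _ hxt' hsep''

end Groth.Agent.S11010
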