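import Groth.Statements.S11011
import Groth.Agent.Lib.Helper10.FunFld60
open Groth.Agent.Lib.helper10
open scoped TensorProduct

set_option autoImplicit false
universe u v
open FunFld

namespace Groth.Agent.S11011

/-- For a place `P` of a geometric function field of one variable `K/k` and a finite extension `k'/k`
with either `k'/k` or `F_P/k` purely inseparable, `P` has exactly one place of `k' ⊗_k K` above it. -/
theorem result (k k' : Type u) (K K' : Type v) [Field k] [Field k'] [Field K] [Field K']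
    [Algebra k k'] [FiniteDimensional k k'] [Algebra k K] [Algebra K K'] [Algebra k' K'] [Algebra k K']
    [IsScalarTower k k' K'] [IsScalarTower k K K']
    (h : Function.Bijective (Algebra.TensorProduct.productMap
      (IsScalarTower.toAlgHom k k' K') (IsScalarTower.toAlgHom k K K')))
    (hK : FunFld.IsFunctionField k K) (hg : FunFld.IsGeometric k K) (P : FunFld.Place k K)
    (hpi : IsPurelyInseparable k k' ∨ IsPurelyInseparable k (IsLocalRing.ResidueField P.O)) :
    ∃! Q : FunFld.Place k K', FunFld.IsOver Q P := by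
  classical
  obtain ⟨n, hn⟩ : ∃ n, Module.finrank k k' = n := ⟨_, rfl⟩
  let c : Module.Basis (Fin n) k k' := Module.finBasisOfFinrankEq k k' hn
  obtain ⟨bE, hbE⟩ := FF.exists_const_basis h c
  have : FiniteDimensional K K' := Module.Finite.of_basis bE
  obtain ⟨Q₀, hQ₀⟩ := FF.exists_place_over (E := K') hK P
  refine ⟨Q₀, hQ₀, fun Q hQ => ?_⟩
  obtain ⟨q, hq⟩ : ∃ q, q = ringExpChar k := ⟨_, rfl⟩
  haveI : ExpChar k q := hq ▸ ringExpChar.expChar k
  haveI : ExpChar K' q := expChar_of_injective_algebraMap (algebraMap k K').injective q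
  have hqpos : ∀ N : ℕ, 0 < q ^ N := fun N => pow_pos (expChar_pos k q) N
  rcases hpi with hpi | hpi
  · haveI := hpi
    have hrad : ∀ z : K', ∃ m : ℕ, 0 < m ∧ z ^ m ∈ Set.range (algebraMap K K') := by
      intro z
      obtain ⟨N, hN⟩ := FF.exists_pow_mem_of_const h q (algebraMap K K').range
        (fun b => RingHom.mem_range.2 ⟨b, rfl⟩) (fun c => by
          obtain ⟨m, y, hy⟩ := IsPurelyInseparable.pow_mem k q c
          refine ⟨m, RingHom.mem_range.2 ⟨algebraMap k K y, ?_⟩⟩
          rw [← map_pow, ← hy, ← IsScalarTower.algebraMap_apply, ← IsScalarTower.algebraMap_apply]) z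
      exact ⟨q ^ N, hqpos N, RingHom.mem_range.1 hN⟩
    exact FF.place_unique_of_radicial hQ hQ₀ hrad
  · obtain ⟨ks, hks⟩ : ∃ ks : IntermediateField k k', ks = separableClosure k k' := ⟨_, rfl⟩
    haveI : Algebra.IsSeparable k ks := by rw [hks]; exact separableClosure.isSeparable k k'
    haveI : IsPurelyInseparable ks k' := by rw [hks]; exact separableClosure.isPurelyInseparable k k'
    letI : Field (ks ⊗[k] K) := (hg ks inferInstance).toField
    letI : Algebra K (ks ⊗[k] K) := Algebra.TensorProduct.rightAlgebra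
    haveI : IsScalarTower k K (ks ⊗[k] K) := Algebra.TensorProduct.right_isScalarTower
    have h₁ : Function.Bijective (Algebra.TensorProduct.productMap
        (IsScalarTower.toAlgHom k ks (ks ⊗[k] K)) (IsScalarTower.toAlgHom k K (ks ⊗[k] K))) := by
      have e : ∀ t : ks ⊗[k] K, (Algebra.TensorProduct.productMap
          (IsScalarTower.toAlgHom k ks (ks ⊗[k] K)) (IsScalarTower.toAlgHom k K (ks ⊗[k] K))) t =
          t := by
        intro t
        induction t using TensorProduct.induction_on with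
        | zero => rw [map_zero]
        | tmul a b =>
          show (a ⊗ₜ[k] (1 : K)) * ((1 : ks) ⊗ₜ[k] b) = a ⊗ₜ[k] b
          rw [Algebra.TensorProduct.tmul_mul_tmul, mul_one, one_mul]
        | add x y hx hy => rw [map_add, hx, hy]
      exact ⟨fun x y hxy => by rw [← e x, ← e y, hxy], fun y => ⟨y, e y⟩⟩
    obtain ⟨φ₁, hφ₁⟩ : ∃ φ₁ : (ks ⊗[k] K) →ₐ[k] K', φ₁ =
        (Algebra.TensorProduct.productMap (IsScalarTower.toAlgHom k k' K')
          (IsScalarTower.toAlgHom k K K')).comp
          (Algebra.TensorProduct.map ks.val (AlgHom.id k K)) := ⟨_, rfl⟩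
    have hφ₁tmul : ∀ (s : ks) (b : K), φ₁ (s ⊗ₜ b) = algebraMap k' K' (s : k') * algebraMap K K' b := by
      intro s b
      rw [hφ₁]
      rfl
    letI : Algebra (ks ⊗[k] K) K' := φ₁.toRingHom.toAlgebra
    haveI : IsScalarTower K (ks ⊗[k] K) K' := IsScalarTower.of_algebraMap_eq (fun b => by
      show algebraMap K K' b = φ₁ ((1 : ks) ⊗ₜ b)
      rw [hφ₁tmul, OneMemClass.coe_one, map_one, one_mul])
    haveI : IsScalarTower k (ks ⊗[k] K) K' :=
      IsScalarTower.of_algebraMap_eq (fun x => (φ₁.commutes x).symm)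
    obtain ⟨n₁, hn₁⟩ : ∃ n₁, Module.finrank k ks = n₁ := ⟨_, rfl⟩
    let c₁ : Module.Basis (Fin n₁) k ks := Module.finBasisOfFinrankEq k ks hn₁
    obtain ⟨bE₁, hbE₁⟩ := FF.exists_const_basis h₁ c₁
    haveI : FiniteDimensional K (ks ⊗[k] K) := Module.Finite.of_basis bE₁
    have hK₁ := FF.isFunctionField_algebraicClosure' (k := k) (F := K) (E := ks ⊗[k] K) hK
    haveI : Algebra.IsAlgebraic (ks ⊗[k] K) K' := Algebra.IsAlgebraic.tower_top (K := K) _
    obtain ⟨PE, e, he⟩ := FF.exists_place_under' hK₁ Q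
    obtain ⟨PE₀, e₀, he₀⟩ := FF.exists_place_under' hK₁ Q₀
    have hover : ∀ (Q : Place k K') (PE : Place k (ks ⊗[k] K)) (e : ℕ), IsOverWith Q PE e →
        IsOver Q P → IsOver PE P := by
      intro Q PE e he hQ
      obtain ⟨P', e', he'⟩ := FF.exists_place_under hK PE
      have hcomp : IsOverWith Q P' (e' * e) := fun x => by
        rw [IsScalarTower.algebraMap_apply K (ks ⊗[k] K) K', he, he' x, ← pow_mul]
      obtain ⟨eQ, heQ⟩ := hQ
      have hPP : P' = P := FF.isOverWith_unique_place hcomp heQ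
      rw [← hPP]
      exact ⟨e', he'⟩
    have hPE : IsOver PE P := hover Q PE e he hQ
    have hPE₀ : IsOver PE₀ P := hover Q₀ PE₀ e₀ he₀ hQ₀
    have hpi' : ∀ a : K, P.1 a ≤ 1 → ∃ (m : ℕ) (γ : k),
        P.1 (a ^ (q ^ m) - algebraMap k K γ) < 1 := by
      intro a ha
      haveI := hpi
      obtain ⟨m, γ, hγ⟩ := IsPurelyInseparable.pow_mem k q (IsLocalRing.residue P.O ⟨a, ha⟩)
      refine ⟨m, γ, ?_⟩
      have h0 : IsLocalRing.residue P.O ((⟨a, ha⟩ : P.O) ^ (q ^ m) - algebraMap k P.O γ) = 0 := by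
        rw [map_sub, map_pow, ← hγ, sub_eq_zero]
        rfl
      exact (FF.Place.residue_eq_zero_iff P _).1 h0
    have hPEeq : PE = PE₀ := FF.place_unique_of_sep_const h₁ hK P q hpi' hPE hPE₀
    have hrad : ∀ z : K', ∃ m : ℕ, 0 < m ∧ z ^ m ∈ Set.range (algebraMap (ks ⊗[k] K) K') := by
      intro z
      obtain ⟨N, hN⟩ := FF.exists_pow_mem_of_const h q (algebraMap (ks ⊗[k] K) K').range
        (fun b => RingHom.mem_range.2 ⟨algebraMap K (ks ⊗[k] K) b,
          (IsScalarTower.algebraMap_apply K (ks ⊗[k] K) K' b).symm⟩) (fun c => by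
          haveI : ExpChar ks q := expChar_of_injective_algebraMap (algebraMap k ks).injective q
          obtain ⟨m, s, hs⟩ := IsPurelyInseparable.pow_mem ks q c
          refine ⟨m, RingHom.mem_range.2 ⟨s ⊗ₜ (1 : K), ?_⟩⟩
          show φ₁ (s ⊗ₜ (1 : K)) = _
          rw [hφ₁tmul, map_one, mul_one, ← map_pow, ← hs]
          rfl) z
      exact ⟨q ^ N, hqpos N, RingHom.mem_range.1 hN⟩
    rw [hPEeq] at he
    exact FF.place_unique_of_radicial ⟨e, he⟩ ⟨e₀, he₀⟩ hrad

end Groth.Agent.S11011
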