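import Groth.Statements.S11012
import Groth.Agent.Lib.Helper10.FunFld54
open Groth.Agent.Lib.helper10

set_option autoImplicit false
universe u v
open FunFld

namespace Groth.Agent.S11012

/-- Under a finite separable constant extension `k'/k` of a geometric function field of one variable,
the integral closure of `O_P` in `k' ⊗_k K` is `k' ⊗_k O_P` and every place above `P` has
ramification index `1`. -/
theorem result (k k' : Type u) (K K' : Type v) [Field k] [Field k'] [Field K] [Field K']
    [Algebra k k'] [FiniteDimensional k k'] [Algebra k K] [Algebra K K'] [Algebra k' K'] [Algebra k K']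
    [IsScalarTower k k' K'] [IsScalarTower k K K']
    (h : Function.Bijective (Algebra.TensorProduct.productMap
      (IsScalarTower.toAlgHom k k' K') (IsScalarTower.toAlgHom k K K')))
    (hK : FunFld.IsFunctionField k K) (hg : FunFld.IsGeometric k K) [Algebra.IsSeparable k k']
    (P : FunFld.Place k K) [Algebra P.O K'] [IsScalarTower P.O K K']
    (Q : FunFld.Place k K') (hQ : FunFld.IsOver Q P) :
    (integralClosure P.O K').toSubring =
      (Algebra.adjoin P.O (Set.range (algebraMap k' K'))).toSubring ∧
    FunFld.IsOverWith Q P 1 := by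
  classical
  obtain ⟨n, hn⟩ : ∃ n, Module.finrank k k' = n := ⟨_, rfl⟩
  let c : Module.Basis (Fin n) k k' := Module.finBasisOfFinrankEq k k' hn
  obtain ⟨bE, hbE⟩ := FF.exists_const_basis h c
  have : FiniteDimensional K K' := Module.Finite.of_basis bE
  have hnK : Module.finrank K K' = n := by
    rw [Module.finrank_eq_card_basis bE, Fintype.card_fin]
  have hdiscr : Algebra.discr K bE = algebraMap k K (Algebra.discr k c) :=
    FF.discr_map_eq (IsScalarTower.toAlgHom k k' K') c bE (fun i => (hbE i).symm)
  have hd0 : Algebra.discr k c ≠ 0 := Algebra.discr_not_zero_of_basis k c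
  have hdP : P.1 (Algebra.discr K bE) = 1 := by
    rw [hdiscr]
    exact FF.Place.val_algebraMap_eq_one P hd0
  let Qs := (FF.finite_places_over' (E := K') hK P).toFinset
  have hQs : ∀ Q', Q' ∈ Qs ↔ IsOver Q' P := fun Q' => by
    simp only [Qs, Set.Finite.mem_toFinset, Set.mem_ofPred_eq]
  have hw : ∀ i, bE i ∈ FF.semiO Qs := by
    intro i
    rw [FF.mem_semiO, hbE]
    intro Q' _
    apply FF.Place.val_le_one_of_isAlgebraic
    exact (Algebra.IsAlgebraic.isAlgebraic (c i)).algebraMap
  constructor
  · ext z
    simp only [Subalgebra.mem_toSubring]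
    constructor
    · intro hz
      have hzO := FF.mem_semiO_of_isIntegral P Qs (fun Q' hQ' => (hQs Q').1 hQ') hz
      obtain ⟨a, ha, hza⟩ := FF.exists_repr_of_discr hK P Qs hQs hnK bE hw hdP hzO
      rw [hza]
      refine Subalgebra.sum_mem _ fun i _ => ?_
      have e : algebraMap K K' (a i) * bE i = (⟨a i, ha i⟩ : P.O) • bE i := by
        rw [Algebra.smul_def, IsScalarTower.algebraMap_apply P.O K K']
        rfl
      rw [e]
      have hmem : bE i ∈ Algebra.adjoin P.O (Set.range (algebraMap k' K')) :=
        Algebra.subset_adjoin ⟨c i, (hbE i).symm⟩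
      exact Subalgebra.smul_mem _ hmem _
    · intro hz
      have hle : Algebra.adjoin P.O (Set.range (algebraMap k' K')) ≤ integralClosure P.O K' := by
        apply Algebra.adjoin_le
        rintro _ ⟨a, rfl⟩
        have : IsScalarTower k P.O K' := IsScalarTower.of_algebraMap_eq (fun x => by
          rw [IsScalarTower.algebraMap_apply P.O K K', IsScalarTower.algebraMap_apply k K K']
          rfl)
        have h1 : IsIntegral k (algebraMap k' K' a) :=
          (Algebra.IsIntegral.isIntegral a).algebraMap
        exact h1.tower_top
      exact hle hz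
  · have h1 := FF.ramIdx_eq_one_of_discr hK P Qs hQs hnK bE hw hdP ((hQs Q).2 hQ)
    have h2 := FF.isOverWith_ramIdx hQ
    rwa [h1] at h2

end Groth.Agent.S11012
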