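import Groth.Statements.S11017
import Mathlib

set_option autoImplicit false
open FunFld

namespace Groth.Agent.S11017

/-- For a Weil differential `ω` with divisor `C`, `ord_P [ω] ≥ e` iff `ω` kills every repartition
concentrated at `P` with `P`-component of order at least `-e`. -/
theorem result (k K : Type*) [Field k] [Field K] [Algebra k K] (ω : Module.Dual k (FunFld.adele k K)) (C : FunFld.Divisor k K) (hω : FunFld.IsDivOf ω C)
    (P : FunFld.Place k K) (e : ℤ) :
    e ≤ C P ↔ ∀ (a : FunFld.Place k K → K) (ha : a ∈ FunFld.adele k K),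
      (∀ Q, Q ≠ P → a Q = 0) → P.1 (a P) ≤ WithZero.exp e → ω ⟨a, ha⟩ = 0 := by
  classical
  constructor
  · intro he a ha hconc hval
    have hωC : ω ∈ FunFld.WD C := (hω C).mpr le_rfl
    rw [FunFld.WD, Submodule.mem_dualAnnihilator] at hωC
    apply hωC
    change a ∈ FunFld.AD C ⊔ LinearMap.range (FunFld.diag k K)
    apply Submodule.mem_sup_left
    intro Q
    by_cases hQ : Q = P
    · subst hQ
      exact hval.trans (WithZero.exp_le_exp.mpr he)
    · rw [hconc Q hQ, map_zero]
      exact zero_le
  · intro hkill
    by_contra hlt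
    push Not at hlt
    set E : FunFld.Divisor k K := C + Finsupp.single P (e - C P) with hE
    have hEP : E P = e := by
      rw [hE, Finsupp.add_apply, Finsupp.single_eq_same]
      ring
    have hEQ : ∀ Q, Q ≠ P → E Q = C Q := by
      intro Q hQ
      rw [hE, Finsupp.add_apply, Finsupp.single_eq_of_ne hQ, add_zero]
    have hωE : ω ∈ FunFld.WD E := by
      rw [FunFld.WD, Submodule.mem_dualAnnihilator]
      rintro ⟨b, hb⟩ hbE
      change b ∈ FunFld.AD E ⊔ LinearMap.range (FunFld.diag k K) at hbE
      obtain ⟨a', ha', z, hz, hsum⟩ := Submodule.mem_sup.mp hbE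
      let a : FunFld.Place k K → K := fun Q => if Q = P then a' P else 0
      have haP : a P = a' P := if_pos rfl
      have haQ : ∀ Q, Q ≠ P → a Q = 0 := fun Q hQ => if_neg hQ
      have ha : a ∈ FunFld.adele k K := by
        change ∀ᶠ Q : FunFld.Place k K in Filter.cofinite, Q.1 (a Q) ≤ 1
        rw [Filter.eventually_cofinite]
        refine (Set.finite_singleton P).subset ?_
        intro Q hQ
        by_contra hne
        apply hQ
        rw [haQ Q hne, map_zero]
        exact zero_le
      have h1 : ω ⟨a, ha⟩ = 0 := by
        apply hkill a ha haQ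
        rw [haP, ← hEP]
        exact ha' P
      have hba : b - a ∈ FunFld.adele k K := (FunFld.adele k K).sub_mem hb ha
      have h2 : ω ⟨b - a, hba⟩ = 0 := by
        have hωC : ω ∈ FunFld.WD C := (hω C).mpr le_rfl
        rw [FunFld.WD, Submodule.mem_dualAnnihilator] at hωC
        apply hωC
        change b - a ∈ FunFld.AD C ⊔ LinearMap.range (FunFld.diag k K)
        have : b - a = (a' - a) + z := by rw [← hsum]; abel
        rw [this]
        refine Submodule.add_mem _ (Submodule.mem_sup_left ?_) (Submodule.mem_sup_right hz)
        intro Q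
        by_cases hQ : Q = P
        · subst hQ
          rw [Pi.sub_apply, haP, sub_self, map_zero]
          exact zero_le
        · rw [Pi.sub_apply, haQ Q hQ, sub_zero, ← hEQ Q hQ]
          exact ha' Q
      have hsplit : (⟨b, hb⟩ : FunFld.adele k K) = ⟨b - a, hba⟩ + ⟨a, ha⟩ := by
        apply Subtype.ext
        change b = b - a + a
        abel
      rw [hsplit, map_add, h1, h2, add_zero]
    have hle := (hω E).mp hωE P
    rw [hEP] at hle
    omega

end Groth.Agent.S11017
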