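import Groth.Statements.S11018
import Groth.Agent.Lib.Helper10.FunFld55
open Groth.Agent.Lib.helper10

set_option autoImplicit false
universe u v
open FunFld

namespace Groth.Agent.S11018

/-- Every place with separable residue field is nonsingular: for all finite `k'/k` the integral closure
of `O_P` in `k' ⊗_k K` is `k' ⊗_k O_P`. -/
theorem result (k k' : Type u) (K K' : Type v) [Field k] [Field k'] [Field K] [Field K']
    [Algebra k k'] [FiniteDimensional k k'] [Algebra k K] [Algebra K K'] [Algebra k' K'] [Algebra k K']
    [IsScalarTower k k' K'] [IsScalarTower k K K']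
    (h : Function.Bijective (Algebra.TensorProduct.productMap
      (IsScalarTower.toAlgHom k k' K') (IsScalarTower.toAlgHom k K K')))
    (hK : FunFld.IsFunctionField k K) (hg : FunFld.IsGeometric k K)
    (P : FunFld.Place k K) [Algebra.IsSeparable k (IsLocalRing.ResidueField P.O)]
    [Algebra P.O K'] [IsScalarTower P.O K K'] :
    (integralClosure P.O K').toSubring =
      (Algebra.adjoin P.O (Set.range (algebraMap k' K'))).toSubring := by
  classical
  obtain ⟨n, hn⟩ : ∃ n, Module.finrank k k' = n := ⟨_, rfl⟩
  let c : Module.Basis (Fin n) k k' := Module.finBasisOfFinrankEq k k' hn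
  obtain ⟨bE, hbE⟩ := FF.exists_const_basis h c
  have : FiniteDimensional K K' := Module.Finite.of_basis bE
  have hnK : Module.finrank K K' = n := by
    rw [Module.finrank_eq_card_basis bE, Fintype.card_fin]
  let Qs := (FF.finite_places_over' (E := K') hK P).toFinset
  have hQs : ∀ Q', Q' ∈ Qs ↔ IsOver Q' P := fun Q' => by
    simp only [Qs, Set.Finite.mem_toFinset, Set.mem_ofPred_eq]
  have hloc : FF.LocIndep Qs P bE := FF.locIndep_const_of_isSeparable hK P c bE hbE Qs hQs
  ext z
  simp only [Subalgebra.mem_toSubring]
  constructor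
  · intro hz
    have hzO := FF.mem_semiO_of_isIntegral P Qs (fun Q' hQ' => (hQs Q').1 hQ') hz
    obtain ⟨a, ha, hza⟩ := hloc.exists_repr (fun Q' hQ' => (hQs Q').1 hQ') hnK hzO
    rw [hza]
    refine Subalgebra.sum_mem _ fun i _ => ?_
    have e : algebraMap K K' (a i) * bE i = (⟨a i, ha i⟩ : P.O) • bE i := by
      rw [Algebra.smul_def, IsScalarTower.algebraMap_apply P.O K K']
      rfl
    rw [e]
    have hmem : bE i ∈ Algebra.adjoin P.O (Set.range (algebraMap k' K')) :=
      Algebra.subset_adjoin ⟨c i, (hbE i).symm⟩
    exact Subalgebra.smul_mem _ hmem _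
  · intro hz
    have hle : Algebra.adjoin P.O (Set.range (algebraMap k' K')) ≤ integralClosure P.O K' := by
      apply Algebra.adjoin_le
      rintro _ ⟨a, rfl⟩
      have : IsScalarTower k P.O K' := IsScalarTower.of_algebraMap_eq (fun x => by
        rw [IsScalarTower.algebraMap_apply P.O K K', IsScalarTower.algebraMap_apply k K K']
        rfl)
      have h1 : IsIntegral k (algebraMap k' K' a) :=
        (Algebra.IsIntegral.isIntegral a).algebraMap
      exact h1.tower_top
    exact hle hz

end Groth.Agent.S11018
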