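import Groth.Statements.S11020
import Groth.Agent.Lib.Helper10.FunFld53
open Groth.Agent.Lib.helper10

set_option autoImplicit false
open FunFld

namespace Groth.Agent.S11020

/-- In a finite separable extension `K'/K` of function fields of one variable, almost all places `Q` of
`K'` have `e(Q|P) = 1` over the place `P` of `K` below. (The published statement also gives
separability of almost all residue extensions `F_Q/F_P`; only the ramification part is stated here.) -/
theorem result (k K K' : Type*) [Field k] [Field K] [Field K'] [Algebra k K] [Algebra K K'] [Algebra k K']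
    [IsScalarTower k K K'] [FiniteDimensional K K'] (hK : FunFld.IsFunctionField k K) [Algebra.IsSeparable K K'] :
    {Q : FunFld.Place k K' | ¬ Function.Surjective (Q.1.comap (algebraMap K K'))}.Finite := by
  classical
  have hE := FF.isFunctionField_algebraicClosure' (k := k) (F := K) (E := K') hK
  obtain ⟨n, hn⟩ : ∃ n, Module.finrank K K' = n := ⟨_, rfl⟩
  let bE : Module.Basis (Fin n) K K' := Module.finBasisOfFinrankEq K K' hn
  have hd0 : Algebra.discr K bE ≠ 0 := Algebra.discr_not_zero_of_basis K bE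
  obtain ⟨d, hd⟩ : ∃ d, d = algebraMap K K' (Algebra.discr K bE) := ⟨_, rfl⟩
  have hd'0 : d ≠ 0 := by
    rw [hd]
    exact (_root_.map_ne_zero _).2 hd0
  have hw0 : ∀ i, bE i ≠ 0 := fun i => bE.ne_zero i
  let B' : Set (Place k K') :=
    ({Q | Q.1 d < 1} ∪ {Q | Q.1 d⁻¹ < 1}) ∪ ⋃ i, {Q | Q.1 (bE i)⁻¹ < 1}
  have hB' : B'.Finite :=
    ((FF.finite_zeros' hE hd'0).union (FF.finite_zeros' hE (inv_ne_zero hd'0))).union
      (Set.finite_iUnion fun i => FF.finite_zeros' hE (inv_ne_zero (hw0 i)))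
  choose under eU hU using fun Q : Place k K' => FF.exists_place_under hK Q
  have hS : (⋃ Q' ∈ B', {Q : Place k K' | IsOver Q (under Q')}).Finite :=
    hB'.biUnion fun Q' _ => FF.finite_places_over' hK _
  refine hS.subset ?_
  intro Q hQ
  by_contra hnot
  apply hQ
  have hQP := hU Q
  obtain ⟨P, hP⟩ : ∃ P, P = under Q := ⟨_, rfl⟩
  rw [← hP] at hQP
  let Qs := (FF.finite_places_over' (E := K') hK P).toFinset
  have hQs : ∀ Q', Q' ∈ Qs ↔ IsOver Q' P := fun Q' => by
    simp only [Qs, Set.Finite.mem_toFinset, Set.mem_ofPred_eq]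
  have hQmem : Q ∈ Qs := (hQs Q).2 ⟨_, hQP⟩
  have hgood : ∀ Q' ∈ Qs, Q' ∉ B' := by
    intro Q' hQ' hB
    apply hnot
    simp only [Set.mem_iUnion, Set.mem_ofPred_eq]
    refine ⟨Q', hB, ?_⟩
    obtain ⟨e', he'⟩ := (hQs Q').1 hQ'
    have : under Q' = P := FF.isOverWith_unique_place (hU Q') he'
    rw [this]
    exact ⟨_, hQP⟩
  have hw : ∀ i, bE i ∈ FF.semiO Qs := by
    intro i
    rw [FF.mem_semiO]
    intro Q' hQ'
    by_contra hlt
    push Not at hlt
    apply hgood Q' hQ'
    refine Or.inr ?_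
    simp only [Set.mem_iUnion, Set.mem_ofPred_eq]
    exact ⟨i, by rw [map_inv₀]; exact inv_lt_one_of_one_lt₀ hlt⟩
  have hdP : P.1 (Algebra.discr K bE) = 1 := by
    have hg := hgood Q hQmem
    have h1 : ¬ Q.1 d < 1 := fun h => hg (Or.inl (Or.inl h))
    have h2 : ¬ Q.1 d⁻¹ < 1 := fun h => hg (Or.inl (Or.inr h))
    have h3 : Q.1 d = 1 := by
      refine le_antisymm ?_ (not_lt.1 h1)
      by_contra hlt
      push Not at hlt
      apply h2
      rw [map_inv₀]
      exact inv_lt_one_of_one_lt₀ hlt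
    rw [hd, hQP] at h3
    have hpos := FF.isOverWith_pos hQP
    rcases pow_eq_one_iff.1 h3 with h | h
    · exact h
    · omega
  have hram := FF.ramIdx_eq_one_of_discr hK P Qs hQs hn bE hw hdP hQmem
  have he1 : eU Q = 1 := by
    rw [← FF.ramIdx_eq hQP]
    exact hram
  intro γ
  obtain ⟨x, hx⟩ := P.2.2 γ
  refine ⟨x, ?_⟩
  rw [Valuation.comap_apply, hQP x, he1, pow_one, hx]

end Groth.Agent.S11020
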