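import Groth.Statements.S11026
import Groth.Agent.Lib.Helper26.FunFldSep

set_option autoImplicit false
universe u v
open FunFld

namespace Groth.Agent.S11026

/-- A weakly separable finite extension `K'/k'` of a geometric function field `K/k` (the map `Ω_{K/k} →
Ω_{K'/k'}` injective) is separable over the compositum `k'K`. -/
theorem result (k k' : Type u) (K K' : Type v) [Field k] [Field k'] [Field K] [Field K']
    [Algebra k k'] [Algebra k K] [Algebra K K'] [Algebra k' K'] [Algebra k K']
    [IsScalarTower k k' K'] [IsScalarTower k K K'] [FiniteDimensional K K']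
    (hK : FunFld.IsFunctionField k K) (hg : FunFld.IsGeometric k K)
    (hK' : FunFld.IsFunctionField k' K') (hg' : FunFld.IsGeometric k' K')
    (hw : Function.Injective (KaehlerDifferential.map k k' K K')) :
    Algebra.IsSeparable (IntermediateField.adjoin K (Set.range (algebraMap k' K'))) K' := by
  obtain ⟨x, hxt, hsep⟩ := Groth.Agent.Lib.helper26.FunFldSep.exists_separating_element hK hg
  have hDx : KaehlerDifferential.D k K x ≠ 0 :=
    Groth.Agent.Lib.helper26.FunFldSep.D_ne_zero_of_separating hxt hsep
  have hDx' : KaehlerDifferential.D k' K' (algebraMap K K' x) ≠ 0 := by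
    intro h
    apply hDx
    apply hw
    rw [KaehlerDifferential.map_D, h, map_zero]
  have hsep' : Algebra.IsSeparable (IntermediateField.adjoin k' ({algebraMap K K' x} : Set K')) K' :=
    Groth.Agent.Lib.helper26.FunFldSep.isSeparable_of_D_ne_zero hK' hg' hDx'
  set L := IntermediateField.adjoin K (Set.range (algebraMap k' K')) with hL
  have hle : ∀ a ∈ IntermediateField.adjoin k' ({algebraMap K K' x} : Set K'), a ∈ L := by
    intro a ha
    induction ha using IntermediateField.adjoin_induction with
    | mem y hy =>
      rw [Set.mem_singleton_iff] at hy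
      rw [hy]
      exact L.algebraMap_mem x
    | algebraMap c => exact IntermediateField.subset_adjoin K _ ⟨c, rfl⟩
    | add a b _ _ ha hb => exact L.add_mem ha hb
    | inv a _ ha => exact L.inv_mem ha
    | mul a b _ _ ha hb => exact L.mul_mem ha hb
  let φ : IntermediateField.adjoin k' ({algebraMap K K' x} : Set K') →+* L :=
    { toFun := fun a => ⟨a.1, hle a.1 a.2⟩
      map_one' := rfl
      map_mul' := fun _ _ => rfl
      map_zero' := rfl
      map_add' := fun _ _ => rfl }
  letI : Algebra (IntermediateField.adjoin k' ({algebraMap K K' x} : Set K')) L := φ.toAlgebra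
  haveI : IsScalarTower (IntermediateField.adjoin k' ({algebraMap K K' x} : Set K')) L K' :=
    IsScalarTower.of_algebraMap_eq (fun _ => rfl)
  exact Algebra.isSeparable_tower_top_of_isSeparable
    (IntermediateField.adjoin k' ({algebraMap K K' x} : Set K')) L K'

end Groth.Agent.S11026
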