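import Groth.Statements.S11038
import Mathlib
import Groth.Agent.Lib.Helper10.Zeta4

set_option autoImplicit false
open FunFld

namespace Groth.Agent.S11038

set_option linter.style.haveILetI false

open Groth.Agent.Lib.helper10 in
theorem main (k K : Type*) [Field k] [Finite k] [Field K] [Algebra k K]
    (hK : FunFld.IsFunctionField k K) (p : Polynomial ℤ)
    (hp : (p : PowerSeries ℤ) = FunFld.numerZ k K) :
    p.eval 1 = (FunFld.classNum k K : ℤ) :=
  Zeta.eval_one_eq_classNum hK p hp



/-- `L_K(1) = h_K`, the class number, where `L_K(t) = (1 - t)(1 - q t) Z_K(t)` is the numerator of the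
zeta function. -/
theorem result
    (k K : Type*) [Field k] [Finite k] [Field K] [Algebra k K]
    (hK : FunFld.IsFunctionField k K) (p : Polynomial ℤ)
    (hp : (p : PowerSeries ℤ) = FunFld.numerZ k K) :
    p.eval 1 = (FunFld.classNum k K : ℤ) := by
  exact main k K hK p hp

end Groth.Agent.S11038
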