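import Groth.Statements.S11043
import Mathlib

set_option autoImplicit false
open FunFld

namespace Groth.Agent.S11043

/-- Product over the `n`-th roots of unity as a product over powers of a primitive root. -/
theorem prod_nthRoots_eq_prod_range {n : ℕ} (_hn : 0 < n) {ζ : ℂ} (hζ : IsPrimitiveRoot ζ n)
    (F : ℂ → ℂ) :
    ∏ θ ∈ Polynomial.nthRootsFinset n (1 : ℂ), F θ = ∏ i ∈ Finset.range n, F (ζ ^ i) := by
  classical
  have h1 : Polynomial.nthRootsFinset n (1 : ℂ) = (Finset.range n).image (ζ ^ ·) := by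
    rw [Polynomial.nthRootsFinset_def, hζ.nthRoots_eq (one_pow n)]
    ext x
    simp only [mul_one, Multiset.mem_toFinset, Multiset.mem_map, Multiset.mem_range,
      Finset.mem_image, Finset.mem_range]
  rw [h1, Finset.prod_image]
  intro i hi j hj hij
  exact hζ.injOn_pow (by simpa using hi) (by simpa using hj) hij


/-- For positive integers `n`, `d` with `e = gcd(n, d)`, in `ℂ[t]` one has `(1 - t^{nd/e})^e = ∏_{θⁿ =
1} (1 - (θ t)^d)`, the product over the complex `n`-th roots of unity. -/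
theorem result (n d : ℕ) (hn : 0 < n) (hd : 0 < d) :
    ((1 : Polynomial ℂ) - Polynomial.X ^ (n * d / Nat.gcd n d)) ^ Nat.gcd n d =
      ∏ θ ∈ Polynomial.nthRootsFinset n (1 : ℂ),
        (1 - Polynomial.C (θ ^ d) * Polynomial.X ^ d) := by
  classical
  apply Polynomial.funext
  intro t
  simp only [Polynomial.eval_pow, Polynomial.eval_sub, Polynomial.eval_one, Polynomial.eval_X,
    Polynomial.eval_prod, Polynomial.eval_mul, Polynomial.eval_C]
  set e := Nat.gcd n d with he
  have hepos : 0 < e := Nat.gcd_pos_of_pos_left d hn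
  have hen : e ∣ n := Nat.gcd_dvd_left n d
  set m := n / e with hm
  have hnme : n = m * e := (Nat.div_mul_cancel hen).symm
  have hmpos : 0 < m := Nat.div_pos (Nat.le_of_dvd hn hen) hepos
  -- primitive roots
  obtain ⟨ζ, hζ⟩ : ∃ ζ : ℂ, IsPrimitiveRoot ζ n := ⟨_, Complex.isPrimitiveRoot_exp n hn.ne'⟩
  have hξ : IsPrimitiveRoot (ζ ^ d) m := by
    have h1 := IsPrimitiveRoot.orderOf (ζ ^ d)
    rwa [orderOf_pow' ζ hd.ne', ← hζ.eq_orderOf] at h1
  rw [prod_nthRoots_eq_prod_range hn hζ (fun θ => 1 - θ ^ d * t ^ d)]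
  have hstep : ∀ i, (1 : ℂ) - (ζ ^ i) ^ d * t ^ d = 1 - (ζ ^ d) ^ i * t ^ d := by
    intro i
    rw [← pow_mul, ← pow_mul, mul_comm i d]
  simp only [hstep]
  -- periodicity
  have hper : ∀ e' : ℕ, ∏ i ∈ Finset.range (m * e'), ((1 : ℂ) - (ζ ^ d) ^ i * t ^ d) =
      (∏ i ∈ Finset.range m, ((1 : ℂ) - (ζ ^ d) ^ i * t ^ d)) ^ e' := by
    intro e'
    induction e' with
    | zero => simp
    | succ e' ih =>
      rw [Nat.mul_succ, Finset.prod_range_add, ih, pow_succ]
      congr 1
      refine Finset.prod_congr rfl fun x _ => ?_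
      rw [pow_add, pow_mul, hξ.pow_eq_one, one_pow, one_mul]
  rw [hnme, hper e]
  congr 1
  rw [← prod_nthRoots_eq_prod_range hmpos hξ (fun η => 1 - η * t ^ d),
    ← hξ.pow_sub_pow_eq_prod_sub_mul 1 (t ^ d) hmpos, one_pow, ← pow_mul]
  congr 2
  rw [← hnme, hm, mul_comm]
  exact Nat.mul_div_assoc d hen

end Groth.Agent.S11043
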