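import Groth.Statements.S11045
import Mathlib
import Groth.Agent.Lib.Helper10.FunFld21

set_option autoImplicit false
open FunFld

namespace Groth.Agent.S11045

open Groth.Agent.Lib.helper10

/-- If `a` is a pole number at `P` there is a function with exact pole order `a` at `P` and no other
pole. -/
theorem exists_exact_pole {k K : Type*} [Field k] [Field K] [Algebra k K]
    (P : FunFld.Place k K) (a : ℤ)
    (h : FunFld.L (Finsupp.single P a) ≠ FunFld.L (Finsupp.single P (a - 1))) :
    ∃ x : K, x ∈ FunFld.L (Finsupp.single P a) ∧ P.1 x = WithZero.exp a := by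
  classical
  have hle : FunFld.L (Finsupp.single P (a - 1)) ≤ FunFld.L (Finsupp.single P a) := by
    apply FF.L_mono
    intro Q
    by_cases hQ : Q = P
    · subst hQ; simp
    · simp [Ne.symm hQ]
  obtain ⟨x, hx, hx'⟩ := SetLike.exists_of_lt (lt_of_le_of_ne hle (Ne.symm h))
  refine ⟨x, hx, ?_⟩
  rw [FF.mem_L_iff] at hx hx'
  push Not at hx'
  obtain ⟨Q, hQ⟩ := hx'
  have hQP : Q = P := by
    by_contra hne
    have := hx Q
    rw [Finsupp.single_apply, if_neg (Ne.symm hne)] at this hQ
    exact absurd this (not_le.mpr hQ)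
  subst hQP
  have h1 := hx Q
  rw [Finsupp.single_eq_same] at h1 hQ
  apply le_antisymm h1
  by_contra hlt
  rw [not_le, FF.lt_exp_iff_le_exp_sub_one] at hlt
  exact absurd hlt (not_le.mpr hQ)

/-- Pole numbers at `P` are closed under addition. -/
theorem nongap_add {k K : Type*} [Field k] [Field K] [Algebra k K]
    (P : FunFld.Place k K) (a b : ℤ)
    (ha : FunFld.L (Finsupp.single P a) ≠ FunFld.L (Finsupp.single P (a - 1)))
    (hb : FunFld.L (Finsupp.single P b) ≠ FunFld.L (Finsupp.single P (b - 1))) :
    FunFld.L (Finsupp.single P (a + b)) ≠ FunFld.L (Finsupp.single P (a + b - 1)) := by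
  classical
  obtain ⟨x, hx, hxP⟩ := exists_exact_pole P a ha
  obtain ⟨y, hy, hyP⟩ := exists_exact_pole P b hb
  intro heq
  have hxy : x * y ∈ FunFld.L (Finsupp.single P (a + b)) := by
    rw [FF.mem_L_iff] at hx hy ⊢
    intro Q
    rw [map_mul]
    by_cases hQ : Q = P
    · subst hQ
      rw [Finsupp.single_eq_same, WithZero.exp_add]
      have h1 := hx Q
      have h2 := hy Q
      rw [Finsupp.single_eq_same] at h1 h2
      exact mul_le_mul' h1 h2
    · have h1 := hx Q
      have h2 := hy Q
      rw [Finsupp.single_apply, if_neg (Ne.symm hQ)] at h1 h2 ⊢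
      calc Q.1 x * Q.1 y ≤ WithZero.exp 0 * WithZero.exp 0 := mul_le_mul' h1 h2
        _ = WithZero.exp 0 := by rw [← WithZero.exp_add, add_zero]
  rw [heq, FF.mem_L_iff] at hxy
  have := hxy P
  rw [Finsupp.single_eq_same, map_mul, hxP, hyP, ← WithZero.exp_add, WithZero.exp_le_exp] at this
  omega


/-- Over an algebraically closed constant field, if `n ≥ 1` is a gap number at the place `P` (no
function has a pole of exact order `n` at `P` and no other pole, i.e. `L(nP) = L((n-1)P)`), then the
gap numbers at `P` make up at least half of the positive integers below `n`. -/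
theorem result
    (k K : Type*) [Field k] [IsAlgClosed k] [Field K] [Algebra k K]
    (hK : FunFld.IsFunctionField k K) (P : FunFld.Place k K) (n : ℕ) (hn : 1 ≤ n)
    (hgap : FunFld.L (Finsupp.single P (n : ℤ)) = FunFld.L (Finsupp.single P ((n : ℤ) - 1))) :
    n - 1 ≤ 2 * Set.ncard {m : ℕ | 1 ≤ m ∧ m < n ∧
      FunFld.L (Finsupp.single P (m : ℤ)) = FunFld.L (Finsupp.single P ((m : ℤ) - 1))} := by
  classical
  set G : Set ℕ := {m : ℕ | 1 ≤ m ∧ m < n ∧
      FunFld.L (Finsupp.single P (m : ℤ)) = FunFld.L (Finsupp.single P ((m : ℤ) - 1))} with hG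
  have hGsub : G ⊆ (Finset.Ioo 0 n : Set ℕ) := by
    intro m hm
    simp only [Finset.coe_Ioo, Set.mem_Ioo]
    exact ⟨hm.1, hm.2.1⟩
  have hGfin : G.Finite := (Finset.finite_toSet _).subset hGsub
  set G' : Finset ℕ := hGfin.toFinset with hG'
  have hcover : Finset.Ioo 0 n ⊆ G' ∪ G'.image (fun m => n - m) := by
    intro m hm
    rw [Finset.mem_Ioo] at hm
    rw [Finset.mem_union, Finset.mem_image]
    by_cases hgm : FunFld.L (Finsupp.single P (m : ℤ)) =
        FunFld.L (Finsupp.single P ((m : ℤ) - 1))
    · left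
      rw [hG', Set.Finite.mem_toFinset]
      exact ⟨hm.1, hm.2, hgm⟩
    · right
      refine ⟨n - m, ?_, by omega⟩
      rw [hG', Set.Finite.mem_toFinset]
      refine ⟨by omega, by omega, ?_⟩
      by_contra hgm'
      have := nongap_add P (m : ℤ) ((n - m : ℕ) : ℤ) hgm hgm'
      apply this
      have e : (m : ℤ) + ((n - m : ℕ) : ℤ) = n := by
        rw [Nat.cast_sub hm.2.le]; ring
      rw [e]
      exact hgap
  have h1 := Finset.card_le_card hcover
  rw [Nat.card_Ioo] at h1
  have h2 := Finset.card_union_le G' (G'.image (fun m => n - m))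
  have h3 := Finset.card_image_le (s := G') (f := fun m => n - m)
  have h4 : G.ncard = G'.card := by
    rw [hG', Set.ncard_eq_toFinset_card G hGfin]
  rw [h4]
  omega

end Groth.Agent.S11045
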