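import Groth.Statements.S11046
import Mathlib
import Groth.Agent.Lib.Helper10.FunFld21
import Groth.Agent.S11045

set_option autoImplicit false
open FunFld

namespace Groth.Agent.S11046

open Groth.Agent.Lib.helper10

section

variable {k K : Type*} [Field k] [IsAlgClosed k] [Field K] [Algebra k K]

set_option linter.unusedSectionVars false

/-- `m` is a gap number at `P`. -/
def IsGap (P : FunFld.Place k K) (m : ℕ) : Prop :=
  FunFld.L (Finsupp.single P (m : ℤ)) = FunFld.L (Finsupp.single P ((m : ℤ) - 1))

theorem single_le (P : FunFld.Place k K) (m : ℕ) :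
    (Finsupp.single P (m : ℤ) : FunFld.Divisor k K) ≤ Finsupp.single P ((m + 1 : ℕ) : ℤ) := by
  classical
  intro Q
  by_cases hQ : Q = P
  · subst hQ; simp
  · simp [Ne.symm hQ]

theorem ell_succ_of_gap (P : FunFld.Place k K) (m : ℕ) (h : IsGap P (m + 1)) :
    FunFld.ell (Finsupp.single P ((m + 1 : ℕ) : ℤ)) = FunFld.ell (Finsupp.single P (m : ℤ)) := by
  unfold IsGap at h
  unfold FunFld.ell
  rw [h]
  have e : ((m + 1 : ℕ) : ℤ) - 1 = m := by push_cast; ring
  rw [e]

theorem ell_succ_of_not_gap (hK : FunFld.IsFunctionField k K) (P : FunFld.Place k K) (m : ℕ)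
    (h : ¬ IsGap P (m + 1)) :
    FunFld.ell (Finsupp.single P ((m + 1 : ℕ) : ℤ)) =
      FunFld.ell (Finsupp.single P (m : ℤ)) + 1 := by
  have hP : P.deg = 1 := FF.Place.deg_eq_one hK P
  have hle := single_le P m
  have h1 := FF.ell_mono hK hle
  have h2 := FF.ell_le_add hK hle
  rw [FF.deg_single, FF.deg_single, hP] at h2
  push_cast at h2
  have h3 : FunFld.ell (Finsupp.single P ((m + 1 : ℕ) : ℤ)) ≠
      FunFld.ell (Finsupp.single P (m : ℤ)) := by
    intro heq
    apply h
    unfold IsGap
    have := FF.finiteDimensional_L hK (Finsupp.single P ((m + 1 : ℕ) : ℤ))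
    have e : ((m + 1 : ℕ) : ℤ) - 1 = m := by push_cast; ring
    rw [e]
    exact (Submodule.eq_of_le_of_finrank_eq (FF.L_mono hle) heq.symm).symm
  have h2' : (FunFld.ell (Finsupp.single P ((m + 1 : ℕ) : ℤ)) : ℤ) ≤
      FunFld.ell (Finsupp.single P (m : ℤ)) + 1 := by
    push_cast; linarith
  have h2'' : FunFld.ell (Finsupp.single P ((m + 1 : ℕ) : ℤ)) ≤
      FunFld.ell (Finsupp.single P (m : ℤ)) + 1 := by exact_mod_cast h2'
  omega

open Classical in
/-- number of gaps in `[1, n]` -/
noncomputable def gaps (P : FunFld.Place k K) (n : ℕ) : ℕ :=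
  ((Finset.Icc 1 n).filter (fun m => IsGap P m)).card

open Classical in
theorem gaps_succ (P : FunFld.Place k K) (n : ℕ) :
    gaps P (n + 1) = gaps P n + if IsGap P (n + 1) then 1 else 0 := by
  unfold gaps
  have : Finset.Icc 1 (n + 1) = insert (n + 1) (Finset.Icc 1 n) := by
    ext x; simp only [Finset.mem_Icc, Finset.mem_insert]; omega
  rw [this, Finset.filter_insert]
  split_ifs with h
  · rw [Finset.card_insert_of_notMem]
    simp
  · simp

theorem ell_add_gaps (hK : FunFld.IsFunctionField k K) (P : FunFld.Place k K) (n : ℕ) :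
    FunFld.ell (Finsupp.single P (n : ℤ)) + gaps P n = n + 1 := by
  induction n with
  | zero =>
    have : (Finsupp.single P ((0 : ℕ) : ℤ) : FunFld.Divisor k K) = 0 := by simp
    rw [this, FF.ell_zero hK]
    simp [gaps]
  | succ n ih =>
    rw [gaps_succ]
    by_cases h : IsGap P (n + 1)
    · rw [if_pos h, ell_succ_of_gap P n h]; omega
    · rw [if_neg h, ell_succ_of_not_gap hK P n h]; omega

open Classical in
theorem gaps_eq_of_no_gap (P : FunFld.Place k K) (n m : ℕ) (hnm : n ≤ m)
    (h : ∀ j, n < j → j ≤ m → ¬ IsGap P j) : gaps P m = gaps P n := by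
  induction m, hnm using Nat.le_induction with
  | base => rfl
  | succ m hnm ih =>
    rw [gaps_succ, if_neg (h (m + 1) (by omega) le_rfl), add_zero]
    exact ih fun j h1 h2 => h j h1 (by omega)

end


/-- Over an algebraically closed constant field, for a place `P` of a function field of genus `g` and a
natural number `n ≤ 2g - 2` one has `ℓ(nP) ≤ 1 + n/2` (Clifford's bound for multiples of a point). -/
theorem result
    (k K : Type*) [Field k] [IsAlgClosed k] [Field K] [Algebra k K]
    (hK : FunFld.IsFunctionField k K) (P : FunFld.Place k K) (n : ℕ)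
    (hn : (n : ℤ) ≤ 2 * (FunFld.genus k K : ℤ) - 2) :
    2 * FunFld.ell (Finsupp.single P (n : ℤ)) ≤ n + 2 := by
  classical
  have hsum := ell_add_gaps hK P n
  by_cases hex : ∃ n', n < n' ∧ IsGap P n'
  · -- least gap above `n`
    let n' := Nat.find hex
    obtain ⟨hn', hgap⟩ := Nat.find_spec hex
    have hmin : ∀ j, n < j → j < n' → ¬ IsGap P j := fun j h1 h2 hj =>
      Nat.find_min hex h2 ⟨h1, hj⟩
    have h45 := Groth.Agent.S11045.result k K hK P n' (by omega) hgap
    have hset : {m : ℕ | 1 ≤ m ∧ m < n' ∧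
        FunFld.L (Finsupp.single P (m : ℤ)) = FunFld.L (Finsupp.single P ((m : ℤ) - 1))} =
        (((Finset.Icc 1 n).filter (fun m => IsGap P m) : Finset ℕ) : Set ℕ) := by
      ext m
      simp only [Set.mem_ofPred_eq, Finset.coe_filter, Finset.mem_Icc]
      constructor
      · rintro ⟨h1, h2, h3⟩
        refine ⟨⟨h1, ?_⟩, h3⟩
        by_contra hlt
        exact hmin m (by omega) h2 h3
      · rintro ⟨⟨h1, h2⟩, h3⟩
        exact ⟨h1, by omega, h3⟩
    rw [hset, Set.ncard_coe_finset] at h45
    change n' - 1 ≤ 2 * gaps P n at h45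
    omega
  · -- no gap above `n`
    push Not at hex
    have hg : 1 ≤ FunFld.genus k K := by omega
    set N : ℕ := 2 * FunFld.genus k K - 1 with hN
    have hnN : n ≤ N := by omega
    have h1 := gaps_eq_of_no_gap P n N hnN fun j hj _ => hex j hj
    have h2 := ell_add_gaps hK P N
    have hP : P.deg = 1 := FF.Place.deg_eq_one hK P
    have h3 := FF.ell_of_deg_ge hK (D := (Finsupp.single P (N : ℤ) : FunFld.Divisor k K)) (by
      rw [FF.deg_single, hP, hN]
      push_cast
      omega)
    rw [FF.deg_single, hP] at h3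
    push_cast at h3
    have h4 : (FunFld.ell (Finsupp.single P (N : ℤ) : FunFld.Divisor k K) : ℤ) =
        FunFld.genus k K := by
      rw [h3, hN]; omega
    have h5 : FunFld.ell (Finsupp.single P (N : ℤ) : FunFld.Divisor k K) = FunFld.genus k K := by
      exact_mod_cast h4
    omega

end Groth.Agent.S11046
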