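import Groth.Statements.S11048
import Mathlib
import Groth.Agent.Lib.Helper10.Weier5
import Groth.Agent.Lib.Helper10.HasseExist
import Groth.Agent.S12618

set_option autoImplicit false
open FunFld

namespace Groth.Agent.S11048

set_option linter.style.haveILetI false
set_option linter.unusedSectionVars false
set_option linter.unusedVariables false

open Groth.Agent.Lib.helper10 Groth.Agent.Lib.helper10.HasseExp WithZero

theorem main
    (k K : Type*) [Field k] [IsAlgClosed k] [Field K] [Algebra k K]
    (hK : FunFld.IsFunctionField k K) (hg : 1 < FunFld.genus k K)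
    (hp : ringChar k = 0 ∨ 2 * FunFld.genus k K - 2 < ringChar k) :
    Finite (K ≃ₐ[k] K) := by
  classical
  obtain ⟨C, hC⟩ := FF.exists_canonical hK
  obtain ⟨hellC, hdegC⟩ := FF.ell_canonical hK hC
  obtain ⟨n, hn⟩ : ∃ n, FunFld.genus k K = n + 1 := ⟨FunFld.genus k K - 1, by omega⟩
  haveI := FF.finiteDimensional_L hK C
  have hell : Module.finrank k (FunFld.L C) = n + 1 := by
    have : FunFld.ell C = n + 1 := by rw [hellC, hn]
    exact this
  let b : Module.Basis (Fin (n + 1)) k (FunFld.L C) := Module.finBasisOfFinrankEq k (FunFld.L C) hell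
  set φ : Fin (n + 1) → K := fun i => ((b i : FunFld.L C) : K) with hφdef
  have hφ : LinearIndependent k φ :=
    b.linearIndependent.map' (FunFld.L C).subtype (Submodule.ker_subtype _)
  have hspan : Submodule.span k (Set.range φ) = FunFld.L C := by
    have h1 : Set.range φ = (FunFld.L C).subtype '' Set.range b := by
      rw [← Set.range_comp]
      rfl
    rw [h1, ← Submodule.map_span, b.span_eq, Submodule.map_subtype_top]
  obtain ⟨s, H, hH⟩ := HasseExist.exists_isHasseFamily hK
  obtain ⟨J, hJ, -⟩ := exists_isOrders hK hH φ hφ (AlgHom.id k K)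
  choose Φ hΦ using fun P : FunFld.Place k K => exists_expansion' hK P
  set W := FunFld.wDiv (AlgHom.id k K) H Φ s φ J with hW
  have hzero := fun P => Weier.wDiv_eq_zero_iff hK hg hp C hC φ hφ hspan s H hH J hJ Φ hΦ P
  have h618 := Groth.Agent.S12618.result k K hK hg hp C hC φ hφ hspan s H hH J hJ Φ hΦ
  apply Weier.finite_aut W.support
  · intro σ P hP
    rw [Finsupp.mem_support_iff] at hP ⊢
    intro h0
    apply hP
    rw [hzero] at h0 ⊢
    intro m hm2 hmg
    exact (Weier.isGap_comapPlace_iff σ P m).mp (h0 m hm2 hmg)
  · rcases h618 with ⟨-, h1⟩ | ⟨-, x, hx, h2⟩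
    · refine (Set.finite_singleton AlgEquiv.refl).subset ?_
      intro ρ hρ
      exact h1 ρ (fun P hP => (Groth.Agent.S11047.isFixed_iff ρ P).mpr
        (hρ P (Finsupp.mem_support_iff.mpr hP)))
    · have hfin : FiniteDimensional (IntermediateField.adjoin k ({x} : Set K)) K :=
        FiniteDimensional.of_finrank_pos (by rw [hx]; norm_num)
      refine (Weier.finite_fixing hfin).subset ?_
      intro ρ hρ
      exact (h2 ρ).mp (fun P hP => (Groth.Agent.S11047.isFixed_iff ρ P).mpr
        (hρ P (Finsupp.mem_support_iff.mpr hP)))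



/-- Over an algebraically closed constant field of characteristic `0` or greater than `2g - 2`, a
function field of one variable of genus `g > 1` has only finitely many automorphisms over the
constants. -/
theorem result
    (k K : Type*) [Field k] [IsAlgClosed k] [Field K] [Algebra k K]
    (hK : FunFld.IsFunctionField k K) (hg : 1 < FunFld.genus k K)
    (hp : ringChar k = 0 ∨ 2 * FunFld.genus k K - 2 < ringChar k) :
    Finite (K ≃ₐ[k] K) := by
  exact main k K hK hg hp

end Groth.Agent.S11048
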