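import Groth.Statements.S11051
import Mathlib
import Groth.Agent.Lib.Helper10.Adj5
import Groth.Agent.Lib.Helper26.FunFldSep

set_option autoImplicit false
open FunFld

namespace Groth.Agent.S11051

set_option linter.style.haveILetI false

open Groth.Agent.Lib.helper10 Groth.Agent.Lib.helper10.FF Groth.Agent.Lib.helper10.Adj
open Groth.Agent.Lib.helper10.Tate Groth.Agent.Lib.helper10.HasseExp
open IntermediateField

universe u v
variable {k : Type u} {K : Type v} [Field k] [Field K] [Algebra k K]

/-- At a finite place where `dx` has order zero, `x - x(P)` is a local parameter. -/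
theorem exists_sub_const_uniformizer [IsAlgClosed k] (hK : IsFunctionField k K) {x : K}
    (hxt : Transcendental k x) (P : Place k K) {Φ : K →ₐ[k] LaurentSeries k}
    (hΦ : LocRes.IsExpansionAt P.1 Φ) (hP : P.1 x ≤ 1) (hv : LocRes.vDiff Φ 1 x = 1) :
    ∃ a : k, P.1 (x - algebraMap k K a) = WithZero.exp (-1) := by
  obtain ⟨a, ha⟩ := Place.exists_const_sub_lt hK P hP
  refine ⟨a, ?_⟩
  have hne : x - algebraMap k K a ≠ 0 := by
    intro h0
    apply hxt
    rw [sub_eq_zero] at h0
    rw [h0]
    exact isAlgebraic_algebraMap a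
  set e := P.ord (x - algebraMap k K a) with he
  have hval := Place.val_eq_exp_neg_ord P hne
  rw [← he] at hval
  have he1 : 1 ≤ e := by
    rw [hval, ← WithZero.exp_zero, WithZero.exp_lt_exp] at ha
    omega
  by_contra hcon
  have he2 : 2 ≤ e := by
    rcases eq_or_lt_of_le he1 with h | h
    · exfalso
      apply hcon
      rw [hval, ← h]
    · omega
  have h1 : Valued.v (Φ (x - algebraMap k K a)) ≤ WithZero.exp (-e) := by
    rw [hΦ.1, hval]
  have h2 := val_D_le h1
  have h3 : LocRes.D k (Φ (x - algebraMap k K a)) = LocRes.D k (Φ x) := by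
    rw [map_sub, map_sub, Φ.commutes, Derivation.map_algebraMap, sub_zero]
  rw [h3] at h2
  unfold LocRes.vDiff at hv
  rw [map_one, one_mul] at hv
  rw [hv, ← WithZero.exp_zero, WithZero.exp_le_exp] at h2
  omega

/-- Outside a finite set of places, `x - x(P)` is a local parameter. -/
theorem exists_finset_bad [IsAlgClosed k] (hK : IsFunctionField k K) {x : K}
    (hxt : Transcendental k x) (hD : KaehlerDifferential.D k K x ≠ 0) :
    ∃ S : Finset (Place k K), ∀ P ∉ S, ∃ a : k,
      P.1 (x - algebraMap k K a) = WithZero.exp (-1) := by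
  classical
  have hg : IsGeometric k K := HasseExp.isGeometric_of_isAlgClosed (k := k) (K := K)
  choose Φ hΦ using fun P : Place k K => exists_expansion' hK P
  obtain ⟨W, -, hW⟩ := exists_divisor_eq_ordDiff (fun _ => k) Φ hΦ hK hg
    (one_ne_zero : (1 : K) ≠ 0) hD
  refine ⟨W.support ∪ (polesDiv k x).support, ?_⟩
  intro P hP
  rw [Finset.mem_union, not_or, Finsupp.notMem_support_iff, Finsupp.notMem_support_iff] at hP
  obtain ⟨h1, h2⟩ := hP
  have hPx : P.1 x ≤ 1 := by
    have := exp_polesDiv hK x P
    rw [h2, WithZero.exp_zero] at this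
    exact le_trans (le_max_left _ _) this.symm.le
  have hD' : LocRes.D k (Φ P x) ≠ 0 := D_exp_ne_zero hK hg (hΦ P) hD
  have hv0 : LocRes.vDiff (Φ P) 1 x ≠ 0 := by
    unfold LocRes.vDiff
    rw [map_one, one_mul]
    exact (Valuation.ne_zero_iff _).2 hD'
  have hv : LocRes.vDiff (Φ P) 1 x = 1 := by
    have h3 := hW P
    rw [h1] at h3
    unfold LocRes.ordDiff at h3
    have h4 : WithZero.log (LocRes.vDiff (Φ P) 1 x) = 0 := by omega
    rw [← WithZero.exp_log hv0, h4, WithZero.exp_zero]
  exact exists_sub_const_uniformizer hK hxt P (hΦ P) hPx hv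

theorem adjoin_pair_eq_top_of_simple {x y : K} (h : IntermediateField.adjoin k⟮x⟯ ({y} : Set K) = ⊤) :
    IntermediateField.adjoin k ({x, y} : Set K) = ⊤ := by
  rw [eq_top_iff]
  intro z _
  have hz : z ∈ IntermediateField.adjoin k⟮x⟯ ({y} : Set K) := by rw [h]; trivial
  induction hz using IntermediateField.adjoin_induction with
  | mem w hw =>
    rw [Set.mem_singleton_iff.mp hw]
    exact IntermediateField.subset_adjoin k _ (by simp)
  | algebraMap a =>
    have hle : k⟮x⟯ ≤ IntermediateField.adjoin k ({x, y} : Set K) :=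
      IntermediateField.adjoin.mono k _ _ (by simp)
    exact hle a.2
  | add a b _ _ ha hb => exact add_mem (ha trivial) (hb trivial)
  | inv a _ ha => exact inv_mem (ha trivial)
  | mul a b _ _ ha hb => exact mul_mem (ha trivial) (hb trivial)

theorem main
    (k K : Type*) [Field k] [IsAlgClosed k] [Field K] [Algebra k K]
    (hK : FunFld.IsFunctionField k K) (x : K)
    (hsep : Algebra.IsSeparable (IntermediateField.adjoin k ({x} : Set K)) K) :
    ∃ y : K, IntermediateField.adjoin k ({x, y} : Set K) = ⊤ ∧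
      ∀ P : FunFld.Place k K, ∃ f ∈ Submodule.span k ({1, x, y} : Set K),
        P.1 f = WithZero.exp (-1) := by
  classical
  have hxt : Transcendental k x := by
    intro halg
    obtain ⟨⟨t, ht, -⟩, -⟩ := id hK
    apply ht
    haveI : Algebra.IsAlgebraic k⟮x⟯ K := Algebra.IsSeparable.isAlgebraic k⟮x⟯ K
    haveI : Algebra.IsAlgebraic k k⟮x⟯ := IntermediateField.isAlgebraic_adjoin_simple halg.isIntegral
    exact (Algebra.IsAlgebraic.trans k k⟮x⟯ K).isAlgebraic t
  haveI := finiteDimensional_adjoin hK hxt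
  have hD := Groth.Agent.Lib.helper26.FunFldSep.D_ne_zero_of_separating hxt hsep
  obtain ⟨S₀, hS₀⟩ := exists_finset_bad hK hxt hD
  obtain ⟨P₁⟩ := exists_place hK
  set S : Finset (Place k K) := insert P₁ S₀ with hS
  obtain ⟨y₀, hy₀⟩ := weak_approx_eq S (fun _ => (0 : K)) (fun _ => (1 : ℤ))
  simp only [sub_zero] at hy₀
  obtain ⟨z, hz⟩ := Field.exists_primitive_element k⟮x⟯ K
  obtain ⟨N, hN⟩ := exists_nat_bound S (fun P : Place k K => P.1 z)
  have hK₀ := isFunctionField_adjoin_simple hK hxt
  choose Pd e he using fun P : Place k K => exists_place_under hK₀ P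
  set Sd : Finset (Place k k⟮x⟯) := S.image Pd with hSd
  obtain ⟨h, hh⟩ := weak_approx_eq Sd (fun _ => (0 : k⟮x⟯)) (fun _ => ((N : ℤ) + 2))
  simp only [sub_zero] at hh
  have hh0 : h ≠ 0 := by
    rintro rfl
    have := hh (Pd P₁) (Finset.mem_image_of_mem _ (Finset.mem_insert_self _ _))
    rw [Valuation.map_zero] at this
    exact WithZero.exp_ne_zero this.symm
  have hhP : ∀ P ∈ S, P.1 (algebraMap k⟮x⟯ K h) ≤ WithZero.exp (-((N : ℤ) + 2)) := by
    intro P hP
    rw [he P h, hh (Pd P) (Finset.mem_image_of_mem _ hP)]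
    have h1 := isOverWith_pos (he P)
    have hle1 : WithZero.exp (-((N : ℤ) + 2)) ≤ 1 := by
      rw [← WithZero.exp_zero, WithZero.exp_le_exp]
      omega
    calc WithZero.exp (-((N : ℤ) + 2)) ^ e P
        = WithZero.exp (-((N : ℤ) + 2)) ^ (e P - 1) * WithZero.exp (-((N : ℤ) + 2)) := by
          rw [← pow_succ, Nat.sub_add_cancel h1]
      _ ≤ 1 * WithZero.exp (-((N : ℤ) + 2)) := mul_le_mul' (pow_le_one' hle1 _) le_rfl
      _ = _ := one_mul _
  set w : K := z * algebraMap k⟮x⟯ K h with hw
  have hwP : ∀ P ∈ S, P.1 w ≤ WithZero.exp (-(2 : ℤ)) := by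
    intro P hP
    rw [hw, map_mul]
    calc P.1 z * P.1 (algebraMap k⟮x⟯ K h)
        ≤ WithZero.exp (N : ℤ) * WithZero.exp (-((N : ℤ) + 2)) := mul_le_mul' (hN P hP) (hhP P hP)
      _ = WithZero.exp (-(2 : ℤ)) := by
          rw [← WithZero.exp_add]
          congr 1
          ring
  haveI : Finite (IntermediateField k⟮x⟯ K) :=
    Field.finite_intermediateField_of_exists_primitive_element k⟮x⟯ K ⟨z, hz⟩
  obtain ⟨c₁, c₂, hne, heq⟩ := Finite.exists_ne_map_eq_of_infinite
    (fun c : k => IntermediateField.adjoin k⟮x⟯ ({y₀ + algebraMap k K c * w} : Set K))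
  change IntermediateField.adjoin k⟮x⟯ ({y₀ + algebraMap k K c₁ * w} : Set K) =
    IntermediateField.adjoin k⟮x⟯ ({y₀ + algebraMap k K c₂ * w} : Set K) at heq
  obtain ⟨E, hE⟩ : ∃ E : IntermediateField k⟮x⟯ K,
      E = IntermediateField.adjoin k⟮x⟯ ({y₀ + algebraMap k K c₁ * w} : Set K) := ⟨_, rfl⟩
  have hm1 : y₀ + algebraMap k K c₁ * w ∈ E := by
    rw [hE]
    exact IntermediateField.mem_adjoin_simple_self _ _
  have hm2 : y₀ + algebraMap k K c₂ * w ∈ E := by
    rw [hE, heq]
    exact IntermediateField.mem_adjoin_simple_self _ _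
  have hcK : ∀ c : k, algebraMap k K c ∈ E := fun c => by
    rw [IsScalarTower.algebraMap_apply k k⟮x⟯ K]
    exact E.algebraMap_mem _
  have hc12 : algebraMap k K (c₁ - c₂) ≠ 0 := by
    rw [Ne, map_eq_zero_iff _ (algebraMap k K).injective, sub_eq_zero]
    exact hne
  have hwE : w ∈ E := by
    have h1 : algebraMap k K (c₁ - c₂) * w ∈ E := by
      have : algebraMap k K (c₁ - c₂) * w =
          (y₀ + algebraMap k K c₁ * w) - (y₀ + algebraMap k K c₂ * w) := by
        rw [map_sub]
        ring
      rw [this]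
      exact sub_mem hm1 hm2
    have h2 : w = (algebraMap k K (c₁ - c₂))⁻¹ * (algebraMap k K (c₁ - c₂) * w) := by
      rw [inv_mul_cancel_left₀ hc12]
    rw [h2]
    exact mul_mem (inv_mem (hcK _)) h1
  have hhK : algebraMap k⟮x⟯ K h ≠ 0 := by
    rw [Ne, map_eq_zero]
    exact hh0
  have hzE : z ∈ E := by
    have : z = w * (algebraMap k⟮x⟯ K h)⁻¹ := by
      rw [hw, mul_assoc, mul_inv_cancel₀ hhK, mul_one]
    rw [this]
    exact mul_mem hwE (inv_mem (E.algebraMap_mem h))
  have hEtop : E = ⊤ := by
    rw [eq_top_iff, ← hz, IntermediateField.adjoin_le_iff]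
    intro t ht
    rw [Set.mem_singleton_iff.mp ht]
    exact hzE
  set y : K := y₀ + algebraMap k K c₁ * w with hy
  have hyP : ∀ P ∈ S, P.1 y = WithZero.exp (-1) := by
    intro P hP
    rw [hy, ← hy₀ P hP]
    apply Valuation.map_add_eq_of_lt_left
    rw [hy₀ P hP, map_mul]
    calc P.1 (algebraMap k K c₁) * P.1 w ≤ 1 * WithZero.exp (-(2 : ℤ)) :=
          mul_le_mul' (P.2.1 c₁) (hwP P hP)
      _ < WithZero.exp (-1) := by
          rw [one_mul, WithZero.exp_lt_exp]
          norm_num
  refine ⟨y, adjoin_pair_eq_top_of_simple (hE ▸ hEtop), ?_⟩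
  intro P
  by_cases hP : P ∈ S
  · exact ⟨y, Submodule.subset_span (by simp), hyP P hP⟩
  · have hP₀ : P ∉ S₀ := fun h => hP (Finset.mem_insert_of_mem h)
    obtain ⟨a, ha⟩ := hS₀ P hP₀
    refine ⟨x - algebraMap k K a, ?_, ha⟩
    refine sub_mem (Submodule.subset_span (by simp)) ?_
    rw [Algebra.algebraMap_eq_smul_one]
    exact Submodule.smul_mem _ _ (Submodule.subset_span (by simp))



/-- Over an algebraically closed constant field, for every separating variable `x` of a function field
`K` of one variable (`K` separable over `k(x)`) there is `y` with `K = k(x, y)` such that the span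
of `1, x, y` contains a local parameter at every place. (The published statement takes any `x`; this
row takes `x` separating, which is what the published proof uses, since it works with the finitely
many places ramified over `k(x)`: for a constant `x` the conclusion fails for every `K`, and in
characteristic `p` it fails for `K = k(t)`, `x = t^p`, where every place is ramified over `k(x)` and
no element of the span has order one at the place at infinity or, if `y` is not a polynomial in `t`,
at a pole of `y`.) -/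
theorem result
    (k K : Type*) [Field k] [IsAlgClosed k] [Field K] [Algebra k K]
    (hK : FunFld.IsFunctionField k K) (x : K)
    (hsep : Algebra.IsSeparable (IntermediateField.adjoin k ({x} : Set K)) K) :
    ∃ y : K, IntermediateField.adjoin k ({x, y} : Set K) = ⊤ ∧
      ∀ P : FunFld.Place k K, ∃ f ∈ Submodule.span k ({1, x, y} : Set K),
        P.1 f = WithZero.exp (-1) := by
  exact main k K hK x hsep

end Groth.Agent.S11051
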