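import Groth.Statements.S12603
import Mathlib
import Groth.Agent.Lib.Helper10.Tate5
import Groth.Agent.Lib.Helper10.HasseExp17
import Groth.Agent.S12597
import Groth.Agent.S12598
import Groth.Agent.S12614
import Groth.Agent.S11052

set_option autoImplicit false
open FunFld

namespace Groth.Agent.S12603

set_option linter.style.haveILetI false
set_option linter.unusedSectionVars false
set_option linter.unusedVariables false

open Groth.Agent.Lib.helper10 Groth.Agent.Lib.helper10.HasseExp WithZero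

theorem val_det_le_one {k K : Type*} [Field k] [Field K] [Algebra k K] (P : FunFld.Place k K)
    {m : ℕ} (M : Matrix (Fin m) (Fin m) K) (h : ∀ i j, P.1 (M i j) ≤ 1) : P.1 M.det ≤ 1 := by
  rw [Matrix.det_apply]
  apply Valuation.map_sum_le
  intro σ _
  rw [Units.smul_def, zsmul_eq_mul, map_mul]
  have h1 : P.1 (((Equiv.Perm.sign σ : ℤˣ) : ℤ) : K) ≤ 1 := by
    rcases Int.units_eq_one_or (Equiv.Perm.sign σ) with h | h <;> rw [h] <;> simp
  have h2 : P.1 (∏ i, M (σ i) i) ≤ 1 := by
    rw [map_prod]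
    exact Finset.prod_le_one' fun i _ => h _ _
  calc _ ≤ (1 : WithZero (Multiplicative ℤ)) * 1 := mul_le_mul' h1 h2
    _ = 1 := one_mul _

theorem main
    (k K : Type*) [Field k] [IsAlgClosed k] [Field K] [Algebra k K]
    (hK : FunFld.IsFunctionField k K) {n : ℕ} (φ : Fin (n + 1) → K) (hφ : LinearIndependent k φ)
    (τ : K →ₐ[k] K) (s : K) (H : K →ₐ[k] PowerSeries K) (hH : LocRes.IsHasseFamily s H)
    (J : Fin n → ℕ) (hJ : FunFld.IsOrders K (FunFld.hcol τ H φ) J)
    (Φ : FunFld.Place k K → (K →ₐ[k] LaurentSeries k))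
    (hΦ : ∀ P : FunFld.Place k K, LocRes.IsExpansionAt P.1 (Φ P)) :
    0 ≤ FunFld.wDiv τ H Φ s φ J ∧
    (FunFld.wDiv τ H Φ s φ J).deg =
      ((Module.finrank τ.fieldRange K : ℤ) + n) * (FunFld.mapDiv k φ).deg +
        (2 * (FunFld.genus k K : ℤ) - 2) * ∑ l, (J l : ℤ) := by
  classical
  have hφ0 : ∀ i, φ i ≠ 0 := fun i => hφ.ne_zero i
  constructor
  · intro P
    rw [Finsupp.zero_apply]
    -- a local parameter and its Hasse family
    obtain ⟨π, hπ⟩ := FF.Place.exists_uniformizer P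
    obtain ⟨Hπ, hHπ⟩ := exists_isHasseFamily_uniformizer hK hH P hπ
    -- normalize `φ` at `P`
    obtain ⟨j, hj⟩ := FF.exists_argmax_gen φ P
    set y := (φ j)⁻¹ with hy
    have hy0 : y ≠ 0 := inv_ne_zero (hφ0 j)
    set φ' : Fin (n + 1) → K := y • φ with hφ'
    have hφ'li : LinearIndependent k φ' := by
      have := hφ.map' (LinearMap.mulLeft k y) (by
        rw [LinearMap.ker_eq_bot]
        intro a b hab
        exact mul_left_cancel₀ hy0 hab)
      exact this
    have hφ'0 : ∀ i, φ' i ≠ 0 := fun i => hφ'li.ne_zero i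
    have hnorm : ∀ i, P.1 (φ' i) ≤ 1 := by
      intro i
      change P.1 (y * φ i) ≤ 1
      rw [hy, map_mul, map_inv₀]
      have hne : P.1 (φ j) ≠ 0 := (Valuation.ne_zero_iff _).mpr (hφ0 j)
      rw [inv_mul_le_iff₀ (zero_lt_iff.mpr hne), mul_one]
      exact hj i
    have hunit : ∃ i, P.1 (φ' i) = 1 := by
      refine ⟨j, ?_⟩
      change P.1 (y * φ j) = 1
      rw [hy, inv_mul_cancel₀ (hφ0 j), map_one]
    have h14 := Groth.Agent.S12614.result k K hK φ hφ τ s H hH π Hπ hHπ J hJ
      (1 : Matrix (Fin (n + 1)) (Fin (n + 1)) k) (by rw [Matrix.det_one]; exact one_ne_zero) y hy0 φ'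
      (by
        intro i
        change y * φ i = _
        congr 1
        simp [Matrix.one_apply]) Φ hΦ
    rw [← h14]
    have hm : mapDiv k φ' P = 0 := mapDiv_eq_zero hK P φ' hφ'0 hnorm hunit
    have hd : divDiff Φ 1 π P = 0 := divDiff_apply_uniformizer Φ hΦ P hπ
    set W := (FunFld.wrMat τ Hπ φ' J).det with hW
    have hwd : FunFld.wDiv τ Hπ Φ π φ' J P = P.ord W + mapDiv k (τ ∘ φ') P := by
      unfold FunFld.wDiv
      rw [Finsupp.add_apply, Finsupp.add_apply, Finsupp.add_apply, Finsupp.smul_apply,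
        Finsupp.smul_apply, hm, hd, FF.div_apply hK]
      simp [hW]
    rw [hwd]
    -- the valuation of the Wronskian
    obtain ⟨χ, hχ, hχπ⟩ := exists_expansion hK P π hπ
    have hint : ∀ i l, P.1 (LocRes.hasseD Hπ l (φ' i)) ≤ 1 := fun i l =>
      val_hasseD_le_one hK hχ hχπ hHπ (hnorm i) l
    have hWle : P.1 W ≤ WithZero.exp (mapDiv k (τ ∘ φ') P) := by
      rw [hW, Matrix.det_succ_column_zero]
      apply Valuation.map_sum_le
      intro i _
      rw [map_mul, map_mul]
      have h1 : P.1 ((-1 : K) ^ (i : ℕ)) ≤ 1 := by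
        rw [map_pow, Valuation.map_neg, map_one, one_pow]
      have h2 : P.1 (FunFld.wrMat τ Hπ φ' J i 0) ≤ WithZero.exp (mapDiv k (τ ∘ φ') P) := by
        have : FunFld.wrMat τ Hπ φ' J i 0 = (τ ∘ φ') i := rfl
        rw [this]
        exact FF.val_le_exp_mapDiv hK (τ ∘ φ') P i
      have h3 : P.1 ((FunFld.wrMat τ Hπ φ' J).submatrix i.succAbove Fin.succ).det ≤ 1 := by
        apply val_det_le_one
        intro a b
        have : (FunFld.wrMat τ Hπ φ' J).submatrix i.succAbove Fin.succ a b =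
            LocRes.hasseD Hπ (J b) (φ' (i.succAbove a)) := rfl
        rw [this]
        exact hint _ _
      calc _ ≤ (1 : WithZero (Multiplicative ℤ)) * WithZero.exp (mapDiv k (τ ∘ φ') P) * 1 :=
            mul_le_mul' (mul_le_mul' h1 h2) h3
        _ = WithZero.exp (mapDiv k (τ ∘ φ') P) := by rw [one_mul, mul_one]
    by_cases hW0 : W = 0
    · rw [hW0]
      have h0 : P.ord (0 : K) = 0 := FF.Place.ord_zero P
      rw [h0, zero_add]
      -- mapDiv of τ ∘ φ' at P is ≥ 0 since some entry is a unit... use 1 in span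
      have hτφ'0 : ∀ i, (τ ∘ φ') i ≠ 0 := fun i => (map_ne_zero τ).mpr (hφ'0 i)
      exfalso
      have hJ1 : IsOrders K (hcol τ H φ') J :=
        ((Groth.Agent.S12597.result k K hK φ hφ τ s H hH y hy0).1 J).mpr hJ
      have hJ2 : IsOrders K (hcol τ Hπ φ') J :=
        ((Groth.Agent.S12598.result k K hK φ' hφ'li τ s H hH π Hπ hHπ).1 J).mpr hJ1
      have := det_wrMat_ne_zero τ Hπ φ' (by
        intro h0
        exact hτφ'0 0 (congrFun h0 0)) J hJ2
      exact this hW0
    · have hne : P.1 W ≠ 0 := (Valuation.ne_zero_iff _).mpr hW0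
      have hexp : P.1 W = exp (WithZero.log (P.1 W)) := (WithZero.exp_log hne).symm
      rw [hexp, exp_le_exp] at hWle
      unfold FunFld.Place.ord
      omega
  · unfold FunFld.wDiv
    rw [FF.deg_add, FF.deg_add, FF.deg_add, FF.deg_zsmul, FF.deg_zsmul, FF.deg_div hK,
      Groth.Agent.S11052.result k K hK τ φ hφ, Tate.deg_divDiff Φ hΦ hK hH]
    ring



/-- Over an algebraically closed constant field, the Weierstrass divisor `W(φ, τ) = [w_s(φ, τ)] + [τ(φ)]
+ n[φ] + j(φ, τ)[ds]` of a linearly independent tuple `φ = (φ₀, …, φₙ)` with respect to a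
`k`-endomorphism `τ` is nonnegative, and its degree is `(deg τ + n) deg φ + (2g - 2) j(φ, τ)`, where
`deg τ = [K : τ(K)]`, `deg φ` is the degree of the divisor of `φ`, `g` is the genus and `j(φ, τ)`
the sum of the `τ`-orders. The divisor of `ds` is read through a family of Laurent expansions at the
places. -/
theorem result
    (k K : Type*) [Field k] [IsAlgClosed k] [Field K] [Algebra k K]
    (hK : FunFld.IsFunctionField k K) {n : ℕ} (φ : Fin (n + 1) → K) (hφ : LinearIndependent k φ)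
    (τ : K →ₐ[k] K) (s : K) (H : K →ₐ[k] PowerSeries K) (hH : LocRes.IsHasseFamily s H)
    (J : Fin n → ℕ) (hJ : FunFld.IsOrders K (FunFld.hcol τ H φ) J)
    (Φ : FunFld.Place k K → (K →ₐ[k] LaurentSeries k))
    (hΦ : ∀ P : FunFld.Place k K, LocRes.IsExpansionAt P.1 (Φ P)) :
    0 ≤ FunFld.wDiv τ H Φ s φ J ∧
    (FunFld.wDiv τ H Φ s φ J).deg =
      ((Module.finrank τ.fieldRange K : ℤ) + n) * (FunFld.mapDiv k φ).deg +
        (2 * (FunFld.genus k K : ℤ) - 2) * ∑ l, (J l : ℤ) := by
  exact main k K hK φ hφ τ s H hH J hJ Φ hΦ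

end Groth.Agent.S12603
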