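import Groth.Statements.S12606
import Mathlib
import Groth.Agent.Lib.Helper10.HasseExp13
import Groth.Agent.S12605
import Groth.Agent.S12601

set_option autoImplicit false
open FunFld

namespace Groth.Agent.S12606

set_option linter.style.haveILetI false
set_option linter.unusedSectionVars false
set_option linter.unusedVariables false

open Groth.Agent.Lib.helper10 Groth.Agent.Lib.helper10.HasseExp WithZero

theorem main
    (k K : Type*) [Field k] [IsAlgClosed k] [Field K] [Algebra k K]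
    (hK : FunFld.IsFunctionField k K) (τ : K →ₐ[k] K) (P : FunFld.Place k K) (hP : FunFld.IsStrongFixedPt τ P)
    {n : ℕ} (hn : 0 < n) (φ : Fin (n + 1) → K) (hφ : LinearIndependent k φ)
    (heff : (1 : K) ∈ Submodule.span k (Set.range φ)) (hnorm : ∀ i, P.1 (φ i) ≤ 1)
    (hτφ : ¬ ∃ y : K, ∀ i, τ (φ i) = y * φ i)
    (t : K) (ht : P.1 t = WithZero.exp (-1))
    (Ht : K →ₐ[k] PowerSeries K) (hHt : LocRes.IsHasseFamily t Ht)
    (J : Fin n → ℕ) (hJ : FunFld.IsOrders K (FunFld.hcol τ Ht φ) J)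
    (J' : Fin n → ℕ) (hJ' : FunFld.IsOrders (IsLocalRing.ResidueField P.O) (FunFld.hcolAt P Ht φ) J') :
    ∀ l, J l + J' ⟨0, hn⟩ ≤ J' l := by
  obtain ⟨n', rfl⟩ : ∃ n', n = n' + 1 := ⟨n - 1, by omega⟩
  have hfix : FunFld.IsFixedPt τ P := by
    intro z hz
    refine lt_of_le_of_lt (hP z hz) ?_
    rw [← exp_zero, exp_lt_exp]
    norm_num
  obtain ⟨I, hI, hIle, hIdet⟩ := exists_binomMat_det_ne_zero (k := k) J' hJ'.1
  have h05 := Groth.Agent.S12605.result k K hK τ P hfix φ hφ heff hnorm t ht Ht hHt J' hJ' I hI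
  have hval := (h05.2 (Or.inr hP)).mpr hIdet
  have hdet : (FunFld.wrMat τ Ht φ I).det ≠ 0 := by
    intro h0
    rw [h0, map_zero] at hval
    exact exp_ne_zero hval.symm
  have hle := Groth.Agent.S12601.result k K hK φ hφ τ t Ht hHt J hJ I hI hdet
  intro l
  have h1 := hle l
  have h2 := hIle l
  have h3 : (⟨0, hn⟩ : Fin (n' + 1)) = 0 := rfl
  rw [h3]
  omega



/-- Over an algebraically closed constant field, let `P` be a strong fixed point of the `k`-endomorphism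
`τ`, `φ = (φ₀, …, φₙ)` (`n ≥ 1`) an effective projective map normalized at `P` with `τ(φ)` not a
`K`-multiple of `φ`, `t` a local parameter at `P`, `j₁, …, jₙ` the `τ`-orders of `φ` and `j'₁, …,
j'ₙ` the orders of `φ` at `P`. Then `jₗ ≤ j'ₗ - j'₁` for `1 ≤ l ≤ n`. -/
theorem result
    (k K : Type*) [Field k] [IsAlgClosed k] [Field K] [Algebra k K]
    (hK : FunFld.IsFunctionField k K) (τ : K →ₐ[k] K) (P : FunFld.Place k K) (hP : FunFld.IsStrongFixedPt τ P)
    {n : ℕ} (hn : 0 < n) (φ : Fin (n + 1) → K) (hφ : LinearIndependent k φ)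
    (heff : (1 : K) ∈ Submodule.span k (Set.range φ)) (hnorm : ∀ i, P.1 (φ i) ≤ 1)
    (hτφ : ¬ ∃ y : K, ∀ i, τ (φ i) = y * φ i)
    (t : K) (ht : P.1 t = WithZero.exp (-1))
    (Ht : K →ₐ[k] PowerSeries K) (hHt : LocRes.IsHasseFamily t Ht)
    (J : Fin n → ℕ) (hJ : FunFld.IsOrders K (FunFld.hcol τ Ht φ) J)
    (J' : Fin n → ℕ) (hJ' : FunFld.IsOrders (IsLocalRing.ResidueField P.O) (FunFld.hcolAt P Ht φ) J') :
    ∀ l, J l + J' ⟨0, hn⟩ ≤ J' l := by
  exact main k K hK τ P hP hn φ hφ heff hnorm hτφ t ht Ht hHt J hJ J' hJ'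

end Groth.Agent.S12606
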