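import Groth.Statements.S12604
import Mathlib
import Groth.Agent.Lib.Helper10.Tate5
import Groth.Agent.Lib.Helper10.HasseExp17
import Groth.Agent.S12597
import Groth.Agent.S12598
import Groth.Agent.S12614
import Groth.Agent.S12603
import Groth.Agent.S12606
import Groth.Agent.S12615

set_option autoImplicit false
open FunFld

namespace Groth.Agent.S12604

set_option linter.style.haveILetI false
set_option linter.unusedSectionVars false
set_option linter.unusedVariables false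

open Groth.Agent.Lib.helper10 Groth.Agent.Lib.helper10.HasseExp WithZero

theorem isFixedPt_of_isStrongFixedPt {k K : Type*} [Field k] [Field K] [Algebra k K]
    {τ : K →ₐ[k] K} {P : FunFld.Place k K} (h : FunFld.IsStrongFixedPt τ P) :
    FunFld.IsFixedPt τ P := by
  intro z hz
  refine lt_of_le_of_lt (h z hz) ?_
  rw [← exp_zero, exp_lt_exp]; norm_num

/-- at a strong fixed point, the Weierstrass divisor has coefficient at least `n` -/
theorem le_wDiv_of_isStrongFixedPt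
    (k K : Type*) [Field k] [IsAlgClosed k] [Field K] [Algebra k K]
    (hK : FunFld.IsFunctionField k K) (τ : K →ₐ[k] K) {n : ℕ} (hn : 0 < n) (φ : Fin (n + 1) → K)
    (hφ : LinearIndependent k φ)
    (hτφ : ¬ ∃ y : K, ∀ i, τ (φ i) = y * φ i) (s : K) (H : K →ₐ[k] PowerSeries K)
    (hH : LocRes.IsHasseFamily s H)
    (J : Fin n → ℕ) (hJ : FunFld.IsOrders K (FunFld.hcol τ H φ) J)
    (Φ : FunFld.Place k K → (K →ₐ[k] LaurentSeries k))
    (hΦ : ∀ P : FunFld.Place k K, LocRes.IsExpansionAt P.1 (Φ P))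
    (P : FunFld.Place k K) (hP : FunFld.IsStrongFixedPt τ P) :
    (n : ℤ) ≤ FunFld.wDiv τ H Φ s φ J P := by
  classical
  have hφ0 : ∀ i, φ i ≠ 0 := fun i => hφ.ne_zero i
  obtain ⟨π, hπ⟩ := FF.Place.exists_uniformizer P
  obtain ⟨Hπ, hHπ⟩ := exists_isHasseFamily_uniformizer hK hH P hπ
  obtain ⟨j, hj⟩ := FF.exists_argmax_gen φ P
  set y := (φ j)⁻¹ with hy
  have hy0 : y ≠ 0 := inv_ne_zero (hφ0 j)
  set φ' : Fin (n + 1) → K := y • φ with hφ'
  have hφ'li : LinearIndependent k φ' := by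
    have := hφ.map' (LinearMap.mulLeft k y) (by
      rw [LinearMap.ker_eq_bot]
      intro a b hab
      exact mul_left_cancel₀ hy0 hab)
    exact this
  have hnorm : ∀ i, P.1 (φ' i) ≤ 1 := by
    intro i
    change P.1 (y * φ i) ≤ 1
    rw [hy, map_mul, map_inv₀]
    have hne : P.1 (φ j) ≠ 0 := (Valuation.ne_zero_iff _).mpr (hφ0 j)
    rw [inv_mul_le_iff₀ (zero_lt_iff.mpr hne), mul_one]
    exact hj i
  have heff : (1 : K) ∈ Submodule.span k (Set.range φ') := by
    apply Submodule.subset_span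
    refine ⟨j, ?_⟩
    change y * φ j = 1
    rw [hy, inv_mul_cancel₀ (hφ0 j)]
  have hτφ' : ¬ ∃ y' : K, ∀ i, τ (φ' i) = y' * φ' i := by
    rintro ⟨y', hy'⟩
    apply hτφ
    refine ⟨y' * y / τ y, fun i => ?_⟩
    have h1 := hy' i
    change τ (y * φ i) = y' * (y * φ i) at h1
    rw [map_mul] at h1
    have hτy : τ y ≠ 0 := (map_ne_zero τ).mpr hy0
    field_simp
    rw [mul_comm, h1]
    ring
  have h97 := Groth.Agent.S12597.result k K hK φ hφ τ s H hH y hy0
  have hJ1 : IsOrders K (hcol τ H φ') J := (h97.1 J).mpr hJ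
  have h98 := Groth.Agent.S12598.result k K hK φ' hφ'li τ s H hH π Hπ hHπ
  have hJ2 : IsOrders K (hcol τ Hπ φ') J := (h98.1 J).mpr hJ1
  obtain ⟨J', hJ'⟩ := exists_isOrdersAt hK P φ' hφ'li heff hnorm π hπ Hπ hHπ
  have h06 := Groth.Agent.S12606.result k K hK τ P hP hn φ' hφ'li heff hnorm hτφ' π hπ Hπ hHπ
    J hJ2 J' hJ'
  have h15 := Groth.Agent.S12615.result k K hK τ P (isFixedPt_of_isStrongFixedPt hP) φ' hφ'li heff
    hnorm π hπ Hπ hHπ J hJ2 J' hJ' Φ hΦ
  obtain ⟨χ, hχ, hχπ⟩ := exists_expansion hK P π hπ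
  have hJ'1 : ∀ l, 1 ≤ J' l := by
    intro l
    have := (hJ'.2 (J' l)).mp ⟨l, rfl⟩
    exact ((isJump_succ_iff hK hχ hχπ hHπ φ' hnorm _).mp this).1
  have h14 := Groth.Agent.S12614.result k K hK φ hφ τ s H hH π Hπ hHπ J hJ
    (1 : Matrix (Fin (n + 1)) (Fin (n + 1)) k) (by rw [Matrix.det_one]; exact one_ne_zero) y hy0 φ'
    (by
      intro i
      change y * φ i = _
      congr 1
      simp [Matrix.one_apply]) Φ hΦ
  rw [← h14]
  refine le_trans ?_ h15.1
  have h1 : ∀ l, (1 : ℤ) ≤ (J' l : ℤ) - J l := by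
    intro l
    have a := h06 l
    have b := hJ'1 ⟨0, hn⟩
    omega
  calc (n : ℤ) = ∑ _l : Fin n, (1 : ℤ) := by simp
    _ ≤ ∑ l, ((J' l : ℤ) - J l) := Finset.sum_le_sum fun l _ => h1 l

theorem main
    (k K : Type*) [Field k] [IsAlgClosed k] [Field K] [Algebra k K]
    (hK : FunFld.IsFunctionField k K) (τ : K →ₐ[k] K) {n : ℕ} (φ : Fin (n + 1) → K) (hφ : LinearIndependent k φ)
    (hτφ : ¬ ∃ y : K, ∀ i, τ (φ i) = y * φ i) (s : K) (H : K →ₐ[k] PowerSeries K) (hH : LocRes.IsHasseFamily s H)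
    (J : Fin n → ℕ) (hJ : FunFld.IsOrders K (FunFld.hcol τ H φ) J) :
    {P : FunFld.Place k K | FunFld.IsStrongFixedPt τ P}.Finite ∧
    (n : ℤ) * (Set.ncard {P : FunFld.Place k K | FunFld.IsStrongFixedPt τ P} : ℤ) ≤
      ((n : ℤ) + Module.finrank τ.fieldRange K) * (FunFld.mapDiv k φ).deg +
        (2 * (FunFld.genus k K : ℤ) - 2) * ∑ l, (J l : ℤ) := by
  classical
  have hφ0 : ∀ i, φ i ≠ 0 := fun i => hφ.ne_zero i
  -- `n` is positive
  have hn : 0 < n := by
    by_contra hn0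
    have hn' : n = 0 := by omega
    subst hn'
    apply hτφ
    refine ⟨τ (φ 0) / φ 0, fun i => ?_⟩
    rw [Fin.eq_zero i, div_mul_cancel₀ _ (hφ0 0)]
  -- expansions
  choose Φ hΦ using fun P : FunFld.Place k K => exists_expansion' hK P
  have h03 := Groth.Agent.S12603.result k K hK φ hφ τ s H hH J hJ Φ hΦ
  set W := FunFld.wDiv τ H Φ s φ J with hW
  have hle : ∀ P, FunFld.IsStrongFixedPt τ P → (n : ℤ) ≤ W P := fun P hP =>
    le_wDiv_of_isStrongFixedPt k K hK τ hn φ hφ hτφ s H hH J hJ Φ hΦ P hP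
  have hsub : {P : FunFld.Place k K | FunFld.IsStrongFixedPt τ P} ⊆ ↑W.support := by
    intro P hP
    rw [Finset.mem_coe, Finsupp.mem_support_iff]
    have := hle P hP
    have hn' : (0 : ℤ) < n := by exact_mod_cast hn
    omega
  have hfin : {P : FunFld.Place k K | FunFld.IsStrongFixedPt τ P}.Finite :=
    W.support.finite_toSet.subset hsub
  refine ⟨hfin, ?_⟩
  have hdeg : W.deg = ∑ P ∈ W.support, W P := by
    unfold FunFld.Divisor.deg Finsupp.sum
    refine Finset.sum_congr rfl fun P _ => ?_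
    show W P * (P.deg : ℤ) = W P
    rw [FF.Place.deg_eq_one hK P, Nat.cast_one, mul_one]
  have e : ((n : ℤ) + Module.finrank τ.fieldRange K) * (FunFld.mapDiv k φ).deg +
      (2 * (FunFld.genus k K : ℤ) - 2) * ∑ l, (J l : ℤ) = W.deg := by
    rw [h03.2]; ring
  rw [e, hdeg]
  have hS : (Set.ncard {P : FunFld.Place k K | FunFld.IsStrongFixedPt τ P} : ℤ) =
      ∑ _P ∈ hfin.toFinset, (1 : ℤ) := by
    rw [Set.ncard_eq_toFinset_card _ hfin]; simp
  rw [hS, Finset.mul_sum]
  have hsub' : hfin.toFinset ⊆ W.support := by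
    intro P hP
    rw [Set.Finite.mem_toFinset] at hP
    exact_mod_cast hsub hP
  calc ∑ _P ∈ hfin.toFinset, (n : ℤ) * 1 ≤ ∑ P ∈ hfin.toFinset, W P := by
        refine Finset.sum_le_sum fun P hP => ?_
        rw [mul_one]
        exact hle P ((Set.Finite.mem_toFinset hfin).1 hP)
    _ ≤ ∑ P ∈ W.support, W P := by
        refine Finset.sum_le_sum_of_subset_of_nonneg hsub' fun P _ _ => ?_
        have := h03.1 P
        simpa using this



/-- Over an algebraically closed constant field, let `τ` be a `k`-endomorphism of the function field `K`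
of genus `g`, of degree `deg τ = [K : τ(K)]`, and `φ = (φ₀, …, φₙ)` a projective map such that
`τ(φ)` is not a `K`-multiple of `φ`, with `τ`-orders `j₁, …, jₙ`. Then the number `N` of strong
fixed points of `τ` (places whose maximal ideal `τ` maps into its square) is finite and `n N ≤ (n +
deg τ) deg φ + (2g - 2)(j₁ + ⋯ + jₙ)`, i.e. `N ≤ (1/n) deg W(φ, τ)`. -/
theorem result
    (k K : Type*) [Field k] [IsAlgClosed k] [Field K] [Algebra k K]
    (hK : FunFld.IsFunctionField k K) (τ : K →ₐ[k] K) {n : ℕ} (φ : Fin (n + 1) → K) (hφ : LinearIndependent k φ)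
    (hτφ : ¬ ∃ y : K, ∀ i, τ (φ i) = y * φ i) (s : K) (H : K →ₐ[k] PowerSeries K) (hH : LocRes.IsHasseFamily s H)
    (J : Fin n → ℕ) (hJ : FunFld.IsOrders K (FunFld.hcol τ H φ) J) :
    {P : FunFld.Place k K | FunFld.IsStrongFixedPt τ P}.Finite ∧
    (n : ℤ) * (Set.ncard {P : FunFld.Place k K | FunFld.IsStrongFixedPt τ P} : ℤ) ≤
      ((n : ℤ) + Module.finrank τ.fieldRange K) * (FunFld.mapDiv k φ).deg +
        (2 * (FunFld.genus k K : ℤ) - 2) * ∑ l, (J l : ℤ) := by
  exact main k K hK τ φ hφ hτφ s H hH J hJ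

end Groth.Agent.S12604
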