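import Groth.Statements.S11053
import Mathlib
import Groth.Agent.Lib.Helper10.HasseExist
import Groth.Agent.Lib.Helper10.SVComb
import Groth.Agent.Lib.Helper10.HasseExp17
import Groth.Agent.Lib.Helper10.FunFld26
import Groth.Agent.S12604
import Groth.Agent.S12606
import Groth.Agent.S11056

set_option autoImplicit false
open FunFld

namespace Groth.Agent.S11053

set_option linter.style.haveILetI false
set_option linter.unusedSectionVars false
set_option linter.unusedVariables false

open Groth.Agent.Lib.helper10 Groth.Agent.Lib.helper10.HasseExp WithZero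

/-- an endomorphism scaling a nonsingular projective map is the identity -/
theorem tau_eq_id {k K : Type*} [Field k] [Field K] [Algebra k K] (τ : K →ₐ[k] K) {ι : Type*}
    (φ : ι → K) (P : FunFld.Place k K) (hns : FunFld.IsNonsingularAt φ P) (y : K)
    (hy : ∀ i, τ (φ i) = y * φ i) : ∀ z, τ z = z := by
  have hfix : ∀ z, P.1 z ≤ 1 → τ z = z := by
    intro z hz
    obtain ⟨j, hj0, -, u, hu, w, hw, hw1, hzw⟩ := hns z hz
    have hy0 : y ≠ 0 := by
      intro h
      have := hy j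
      rw [h, zero_mul] at this
      exact hj0 ((map_eq_zero τ).mp this)
    have hratio : ∀ i, τ (φ i / φ j) = φ i / φ j := by
      intro i
      rw [map_div₀, hy, hy, mul_div_mul_left _ _ hy0]
    have hle : Algebra.adjoin k (Set.range fun i => φ i / φ j) ≤
        AlgHom.equalizer τ (AlgHom.id k K) := by
      apply Algebra.adjoin_le
      rintro _ ⟨i, rfl⟩
      exact hratio i
    have hadj : ∀ a ∈ Algebra.adjoin k (Set.range fun i => φ i / φ j), τ a = a :=
      fun a ha => hle ha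
    have hw0 : w ≠ 0 := by
      intro h
      rw [h, map_zero] at hw1
      exact zero_ne_one hw1
    have := congrArg τ hzw
    rw [map_mul, hadj u hu, hadj w hw, ← hzw] at this
    exact mul_right_cancel₀ hw0 this
  intro z
  by_cases hz : P.1 z ≤ 1
  · exact hfix z hz
  · have hz0 : z ≠ 0 := by
      rintro rfl
      simp at hz
    have h1 : P.1 z⁻¹ ≤ 1 := by
      rw [map_inv₀]
      exact inv_le_one_of_one_le₀ (le_of_lt (not_le.mp hz))
    have h := hfix _ h1
    rw [map_inv₀] at h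
    exact inv_injective h

theorem main
    (k K : Type*) [Field k] [IsAlgClosed k] [Field K] [Algebra k K]
    (hK : FunFld.IsFunctionField k K) (τ : K →ₐ[k] K) (n : ℕ)
    (hn : FunFld.genus k K < n) :
    {P : FunFld.Place k K | ∀ x : K, P.1 x < 1 → P.1 (τ x) ≤ WithZero.exp (-2)}.Finite ∧
    (Set.ncard {P : FunFld.Place k K | ∀ x : K, P.1 x < 1 → P.1 (τ x) ≤ WithZero.exp (-2)} : ℝ) ≤
      1 + Module.finrank τ.fieldRange K +
        (n + (Module.finrank τ.fieldRange K : ℝ) / n) * FunFld.genus k K +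
        2 * (FunFld.genus k K : ℝ) ^ 2 * (FunFld.genus k K - 1) / n := by
  classical
  set g := FunFld.genus k K with hg
  set q := Module.finrank τ.fieldRange K with hq
  have hn0 : 0 < n := by omega
  have hnR : (0 : ℝ) < n := by exact_mod_cast hn0
  by_cases hne : {P : FunFld.Place k K | ∀ x : K, P.1 x < 1 →
      P.1 (τ x) ≤ WithZero.exp (-2)}.Nonempty
  swap
  · rw [Set.not_nonempty_iff_eq_empty] at hne
    rw [hne]
    refine ⟨Set.finite_empty, ?_⟩
    rw [Set.ncard_empty, Nat.cast_zero]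
    rcases Nat.eq_zero_or_pos g with h0 | h1
    · rw [h0]
      simp
      positivity
    · have : (1 : ℝ) ≤ g := by exact_mod_cast h1
      have h2 : (0 : ℝ) ≤ (g : ℝ) - 1 := by linarith
      positivity
  obtain ⟨P₀, hP₀⟩ := hne
  have hP₀' : FunFld.IsStrongFixedPt τ P₀ := hP₀
  obtain ⟨t, ht⟩ := FF.Place.exists_uniformizer P₀
  have hτt : τ t ≠ t := by
    intro h
    have := hP₀' t (by rw [ht, ← exp_zero, exp_lt_exp]; norm_num)
    rw [h, ht, exp_le_exp] at this
    omega
  obtain ⟨s, H, hH⟩ := HasseExist.exists_isHasseFamily hK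
  obtain ⟨Ht, hHt⟩ := exists_isHasseFamily_uniformizer hK hH P₀ ht
  have hdegP : P₀.deg = 1 := FF.Place.deg_eq_one hK P₀
  have hnongap : ∀ m : ℕ, 2 * g ≤ m → ¬ FF.IsGap P₀ m := by
    intro m hm hgap
    rcases FF.ell_single_step hK P₀ m with ⟨-, h1⟩ | ⟨h1, -⟩
    · have e1 := FF.ell_of_deg_ge hK (D := Finsupp.single P₀ (m : ℤ))
        (by rw [FF.deg_single, hdegP]; push_cast; omega)
      have e2 := FF.ell_of_deg_ge hK (D := Finsupp.single P₀ ((m : ℤ) - 1))
        (by rw [FF.deg_single, hdegP]; push_cast; omega)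
      rw [FF.deg_single, hdegP] at e1 e2
      rw [h1] at e1
      push_cast at e1 e2
      omega
    · exact h1 hgap
  obtain ⟨h, hhL, hhv⟩ := (FF.not_isGap_iff P₀ (n + g)).mp (hnongap (n + g) (by omega))
  have hh0 : h ≠ 0 := by
    rintro rfl
    rw [map_zero] at hhv
    exact exp_ne_zero hhv.symm
  set D₀ : FunFld.Divisor k K := Finsupp.single P₀ ((n + g : ℕ) : ℤ) with hD₀
  set D : FunFld.Divisor k K := D₀ + FunFld.div k h with hD
  have hDdeg : D.deg = n + g := by
    rw [hD, FF.deg_add_div hK, hD₀, FF.deg_single, hdegP]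
    push_cast
    ring
  have hD0 : 0 ≤ D := (FF.mem_L_iff_div hK hh0 D₀).mp hhL
  have hDP₀ : D P₀ = 0 := by
    have h1 : P₀.1 h = exp (-P₀.ord h) := FF.Place.val_eq_exp_neg_ord P₀ hh0
    rw [hhv, exp_inj] at h1
    rw [hD, Finsupp.add_apply, FF.div_apply hK, hD₀, Finsupp.single_eq_same]
    omega
  have hell : FunFld.ell D = n + 1 := by
    have := FF.ell_of_deg_ge hK (D := D) (by rw [hDdeg]; omega)
    rw [hDdeg] at this
    omega
  haveI := FF.finiteDimensional_L hK D
  let b : Module.Basis (Fin (n + 1)) k (FunFld.L D) := Module.finBasisOfFinrankEq k (FunFld.L D) hell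
  set φ : Fin (n + 1) → K := fun i => ((b i : FunFld.L D) : K) with hφdef
  have hφ : LinearIndependent k φ :=
    b.linearIndependent.map' (FunFld.L D).subtype (Submodule.ker_subtype _)
  have hspan : Submodule.span k (Set.range φ) = FunFld.L D := by
    have h1 : Set.range φ = (FunFld.L D).subtype '' Set.range b := by
      rw [← Set.range_comp]
      rfl
    rw [h1, ← Submodule.map_span, b.span_eq, Submodule.map_subtype_top]
  have hφL : ∀ i, φ i ∈ FunFld.L D := fun i => (b i).2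
  have hφ0 : ∀ i, φ i ≠ 0 := fun i => hφ.ne_zero i
  have hnorm : ∀ i, P₀.1 (φ i) ≤ 1 := by
    intro i
    have := hφL i P₀
    rwa [hDP₀, exp_zero] at this
  have heff : (1 : K) ∈ Submodule.span k (Set.range φ) := by
    rw [hspan]
    intro P
    rw [map_one, ← exp_zero, exp_le_exp]
    exact hD0 P
  have hns := Groth.Agent.S11056.result k K hK D (by rw [hDdeg]; omega) φ hφ hspan P₀
  have hτφ : ¬ ∃ y : K, ∀ i, τ (φ i) = y * φ i := by
    rintro ⟨y, hy⟩
    exact hτt (tau_eq_id τ φ P₀ hns y hy t)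
  obtain ⟨J, hJ, -⟩ := exists_isOrders hK hHt φ hφ τ
  obtain ⟨J', hJ'⟩ := exists_isOrdersAt hK P₀ φ hφ heff hnorm t ht Ht hHt
  have h606 := Groth.Agent.S12606.result k K hK τ P₀ hP₀' hn0 φ hφ heff hnorm hτφ t ht Ht hHt
    J hJ J' hJ'
  have h604 := Groth.Agent.S12604.result k K hK τ φ hφ hτφ t Ht hHt J hJ
  have hmd : (FunFld.mapDiv k φ).deg ≤ n + g := by
    rw [← hDdeg]
    apply FF.deg_mono
    intro Q
    obtain ⟨i, hi⟩ := FF.exists_val_eq_exp_mapDiv hK φ hφ0 Q
    have := hφL i Q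
    rw [hi, exp_le_exp] at this
    exact this
  obtain ⟨Φ, hΦ, hΦt⟩ := exists_expansion hK P₀ t ht
  have hjump := fun j => isJump_succ_iff hK hΦ hΦt hHt φ hnorm j
  have hJ'1 : ∀ l, 1 ≤ J' l := by
    intro l
    exact ((hjump _).mp ((hJ'.2 _).mp ⟨l, rfl⟩)).1
  have hJ'2 : ∀ l, J' l ≤ n + g := by
    intro l
    obtain ⟨-, f, hf, hfv⟩ := (hjump _).mp ((hJ'.2 _).mp ⟨l, rfl⟩)
    rw [hspan] at hf
    by_contra hlt
    push_neg at hlt
    have hf' : f ∈ FunFld.L (D - Finsupp.single P₀ ((J' l : ℤ))) := by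
      intro Q
      by_cases hQ : Q = P₀
      · subst hQ
        rw [Finsupp.sub_apply, Finsupp.single_eq_same, hDP₀, zero_sub, hfv]
      · rw [Finsupp.sub_apply, Finsupp.single_eq_of_ne hQ, sub_zero]
        exact hf Q
    rw [FF.L_eq_bot_of_deg_neg hK (by
      rw [FF.deg_sub, hDdeg, FF.deg_single, hdegP]; push_cast; omega)] at hf'
    rw [Submodule.mem_bot] at hf'
    rw [hf', map_zero] at hfv
    exact exp_ne_zero hfv.symm
  have hJ'3 : ∀ j, 1 ≤ j → j ≤ n - g → j ∈ Set.range J' := by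
    intro j hj1 hj2
    rw [hJ'.2, hjump]
    refine ⟨hj1, ?_⟩
    obtain ⟨u, huL, huv⟩ := (FF.not_isGap_iff P₀ (n + g - j)).mp (hnongap _ (by omega))
    refine ⟨u / h, ?_, ?_⟩
    · rw [hspan, hD, FF.mem_L_add_div_iff hK D₀ hh0, div_mul_cancel₀ _ hh0]
      refine FF.L_mono ?_ huL
      intro Q
      by_cases hQ : Q = P₀
      · subst hQ
        rw [hD₀, Finsupp.single_eq_same, Finsupp.single_eq_same]
        push_cast
        omega
      · rw [hD₀, Finsupp.single_eq_of_ne hQ, Finsupp.single_eq_of_ne hQ]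
    · rw [map_div₀, huv, hhv, ← exp_sub]
      congr 1
      push_cast
      omega
  have hsumJ' := SVComb.sum_le_of_orders hn J' hJ'.1 hJ'1 hJ'2 hJ'3
  have hsumJ1 : ∑ l, J l + n ≤ ∑ l, J' l := by
    calc ∑ l, J l + n = ∑ l : Fin n, (J l + 1) := by
          rw [Finset.sum_add_distrib]
          simp
      _ ≤ ∑ l, J' l := Finset.sum_le_sum fun l _ => by
          have h1 := h606 l
          have h2 := hJ'1 ⟨0, hn0⟩
          omega
  have hsumJ2 := SVComb.sum_ge_of_strictMono J hJ.1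
  refine ⟨h604.1, ?_⟩
  have hmain := h604.2
  rw [← hg, ← hq] at hmain
  set N := {P : FunFld.Place k K | FunFld.IsStrongFixedPt τ P}.ncard with hN
  change (N : ℝ) ≤ _
  obtain ⟨T, hT⟩ : ∃ T : ℕ, T = ∑ l, J l := ⟨_, rfl⟩
  obtain ⟨S', hS'⟩ : ∃ S' : ℕ, S' = ∑ l, J' l := ⟨_, rfl⟩
  have hcast : (∑ l, (J l : ℤ)) = (T : ℤ) := by
    rw [hT]
    push_cast
    rfl
  rw [hcast] at hmain
  rw [← hT] at hsumJ1 hsumJ2
  rw [← hS'] at hsumJ1 hsumJ'
  have hT1 : (n : ℤ) * n - n ≤ 2 * T := by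
    have h1 : ((n * (n - 1) : ℕ) : ℤ) ≤ ((2 * T : ℕ) : ℤ) := by exact_mod_cast hsumJ2
    rw [Nat.cast_mul, Nat.cast_sub hn0] at h1
    push_cast at h1
    linarith
  have hT2 : 2 * (T : ℤ) ≤ n * n - n + 2 * g ^ 2 := by
    have h1 : (T : ℤ) + n ≤ S' := by exact_mod_cast hsumJ1
    have h2 : 2 * (S' : ℤ) ≤ n * (n + 1) + 2 * g ^ 2 := by exact_mod_cast hsumJ'
    linarith
  have had : ((n : ℤ) + q) * (FunFld.mapDiv k φ).deg ≤ ((n : ℤ) + q) * (n + g) :=
    mul_le_mul_of_nonneg_left hmd (by positivity)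
  have hint : (n : ℤ) * N ≤ n + n * q + (n * n + q) * g + 2 * g ^ 2 * (g - 1) := by
    rcases Nat.eq_zero_or_pos g with h0 | h1
    · have hg0 : (g : ℤ) = 0 := by exact_mod_cast h0
      rw [hg0] at hmain had ⊢
      linarith
    · have hg1 : (1 : ℤ) ≤ g := by exact_mod_cast h1
      have hcT : (2 * (g : ℤ) - 2) * T ≤ ((g : ℤ) - 1) * (n * n - n + 2 * g ^ 2) := by
        have e : (2 * (g : ℤ) - 2) * T = ((g : ℤ) - 1) * (2 * T) := by ring
        rw [e]
        exact mul_le_mul_of_nonneg_left hT2 (by linarith)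
      linarith
  have hR : (n : ℝ) * N ≤ n + n * q + (n * n + q) * g + 2 * g ^ 2 * (g - 1) := by
    exact_mod_cast hint
  have hne' : (n : ℝ) ≠ 0 := ne_of_gt hnR
  have e : (1 : ℝ) + q + (n + (q : ℝ) / n) * g + 2 * (g : ℝ) ^ 2 * (g - 1) / n =
      (n + n * q + (n * n + q) * g + 2 * g ^ 2 * (g - 1)) / n := by
    field_simp
  rw [e, le_div_iff₀ hnR]
  linarith



/-- Over an algebraically closed constant field, let `τ` be a `k`-embedding of the function field `K` of
genus `g` into itself, of degree `deg τ = [K : τ(K)]`. A place is a strong fixed point of `τ` when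
`τ` maps its maximal ideal into the square of that ideal. For every integer `n > g` there are at
most `1 + deg τ + (n + deg τ / n) g + 2g²(g-1)/n` strong fixed points. -/
theorem result
    (k K : Type*) [Field k] [IsAlgClosed k] [Field K] [Algebra k K]
    (hK : FunFld.IsFunctionField k K) (τ : K →ₐ[k] K) (n : ℕ)
    (hn : FunFld.genus k K < n) :
    {P : FunFld.Place k K | ∀ x : K, P.1 x < 1 → P.1 (τ x) ≤ WithZero.exp (-2)}.Finite ∧
    (Set.ncard {P : FunFld.Place k K | ∀ x : K, P.1 x < 1 → P.1 (τ x) ≤ WithZero.exp (-2)} : ℝ) ≤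
      1 + Module.finrank τ.fieldRange K +
        (n + (Module.finrank τ.fieldRange K : ℝ) / n) * FunFld.genus k K +
        2 * (FunFld.genus k K : ℝ) ^ 2 * (FunFld.genus k K - 1) / n := by
  exact main k K hK τ n hn

end Groth.Agent.S11053
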