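import Groth.Statements.S11066
import Mathlib
import Groth.Agent.Lib.Helper10.FunFld4
-- import your own Groth.Agent.* helpers here

set_option autoImplicit false
open FunFld

namespace Groth.Agent.S11066

section helpers
open FunFld Groth.Agent.Lib.helper10.FF

section
variable {k K : Type*} [Field k] [Field K] [Algebra k K]

theorem residue_eq_zero_iff' (P : Place k K) (w : P.O) :
    IsLocalRing.residue P.O w = 0 ↔ P.1 (w : K) < 1 := by
  rw [IsLocalRing.residue_eq_zero_iff, ValuationSubring.valuation_lt_one_iff]
  exact ((Valuation.isEquiv_valuation_valuationSubring P.1).lt_one_iff_lt_one).symm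

/-- over an algebraically closed constant field every integral element is congruent to a constant -/
theorem exists_const [IsAlgClosed k] (hK : IsFunctionField k K) (P : Place k K) (z : K)
    (hz : P.1 z ≤ 1) : ∃ c : k, P.1 (z - algebraMap k K c) < 1 := by
  have hfd := Place.finiteDimensional_residueField hK P
  have hint : Algebra.IsIntegral k (IsLocalRing.ResidueField P.O) :=
    @Algebra.IsIntegral.of_finite k (IsLocalRing.ResidueField P.O) _ _ _ hfd
  have hsurj := (IsAlgClosed.algebraMap_bijective_of_isIntegral (k := k)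
    (K := IsLocalRing.ResidueField P.O)).2
  obtain ⟨c, hc⟩ := hsurj (IsLocalRing.residue P.O ⟨z, hz⟩)
  refine ⟨c, ?_⟩
  have h1 : IsLocalRing.residue P.O (⟨z, hz⟩ - algebraMap k P.O c) = 0 := by
    rw [map_sub, ← hc]
    exact sub_self _
  exact (residue_eq_zero_iff' P _).mp h1

theorem lt_one_iff_le_exp (x : WithZero (Multiplicative ℤ)) : x < 1 ↔ x ≤ WithZero.exp (-1 : ℤ) := by
  rcases eq_or_ne x 0 with rfl | hx
  · simp
  · obtain ⟨n, rfl⟩ : ∃ n : ℤ, x = WithZero.exp n := ⟨WithZero.log x, (WithZero.exp_log hx).symm⟩
    rw [← WithZero.exp_zero, WithZero.exp_lt_exp, WithZero.exp_le_exp]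
    omega

theorem exp_neg_two_lt : (WithZero.exp (-2 : ℤ) : WithZero (Multiplicative ℤ)) < WithZero.exp (-1 : ℤ) := by
  rw [WithZero.exp_lt_exp]; omega

theorem exp_neg_one_lt_one : (WithZero.exp (-1 : ℤ) : WithZero (Multiplicative ℤ)) < 1 := by
  rw [← WithZero.exp_zero, WithZero.exp_lt_exp]; omega

theorem mem_ratio {n : ℕ} (φ : Fin (n + 1) → K) (j : Fin (n + 1)) (x : K)
    (hx : x ∈ Submodule.span k (Set.range φ)) :
    x / φ j ∈ Algebra.adjoin k (Set.range fun i => φ i / φ j) := by
  induction hx using Submodule.span_induction with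
  | mem x hx => obtain ⟨i, rfl⟩ := hx; exact Algebra.subset_adjoin ⟨i, rfl⟩
  | zero => simp
  | add x y _ _ hx hy => rw [add_div]; exact Subalgebra.add_mem _ hx hy
  | smul c x _ hx => rw [smul_div_assoc]; exact Subalgebra.smul_mem _ hx c

/-- some entry has valuation one -/
theorem exists_val_one {n : ℕ} (φ : Fin (n + 1) → K) (P : Place k K)
    (heff : (1 : K) ∈ Submodule.span k (Set.range φ)) (hnorm : ∀ i, P.1 (φ i) ≤ 1) :
    ∃ j, P.1 (φ j) = 1 := by
  by_contra hcon
  push Not at hcon
  have hlt : ∀ i, P.1 (φ i) < 1 := fun i => lt_of_le_of_ne (hnorm i) (hcon i)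
  have key : ∀ x ∈ Submodule.span k (Set.range φ), P.1 x < 1 := by
    intro x hx
    induction hx using Submodule.span_induction with
    | mem x hx => obtain ⟨i, rfl⟩ := hx; exact hlt i
    | zero => simp
    | add x y _ _ hx hy => exact lt_of_le_of_lt (P.1.map_add x y) (max_lt hx hy)
    | smul c x _ hx =>
      rw [Algebra.smul_def, map_mul]
      exact lt_of_le_of_lt (mul_le_of_le_one_left' (P.2.1 c)) hx
  have := key 1 heff
  rw [map_one] at this
  exact lt_irrefl _ this

theorem main [IsAlgClosed k]
    (hK : FunFld.IsFunctionField k K) {n : ℕ} (φ : Fin (n + 1) → K)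
    (P : FunFld.Place k K) (heff : (1 : K) ∈ Submodule.span k (Set.range φ))
    (hnorm : ∀ i, P.1 (φ i) ≤ 1) :
    (∃ t : K, FunFld.InLocRing φ P t ∧ P.1 t = WithZero.exp (-1)) ↔
      ∃ t ∈ Submodule.span k (Set.range φ), P.1 t = WithZero.exp (-1) := by
  obtain ⟨j0, hj0⟩ := exists_val_one φ P heff hnorm
  constructor
  · rintro ⟨t, ⟨j, hφj, hjmax, u, hu, w, hw, hw1, htw⟩, ht⟩
    have hvj : P.1 (φ j) = 1 := le_antisymm (hnorm j) (hj0.symm.le.trans (hjmax j0))
    have hvu : P.1 u = WithZero.exp (-1) := by rw [← htw, map_mul, hw1, mul_one, ht]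
    -- ratios and their residue constants
    have hr : ∀ i, P.1 (φ i / φ j) ≤ 1 := by
      intro i
      rw [map_div₀, hvj, div_one]
      exact hnorm i
    choose c hc using fun i => exists_const hK P (φ i / φ j) (hr i)
    let s : Fin (n + 1) → K := fun i => φ i / φ j - algebraMap k K (c i)
    have hspan_lt : ∀ l ∈ Submodule.span k (Set.range s), P.1 l ≤ WithZero.exp (-1 : ℤ) := by
      intro l hl
      rw [← lt_one_iff_le_exp]
      induction hl using Submodule.span_induction with
      | mem x hx => obtain ⟨i, rfl⟩ := hx; exact hc i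
      | zero => simp
      | add x y _ _ hx hy => exact lt_of_le_of_lt (P.1.map_add x y) (max_lt hx hy)
      | smul c x _ hx =>
        rw [Algebra.smul_def, map_mul]
        exact lt_of_le_of_lt (mul_le_of_le_one_left' (P.2.1 c)) hx
    have hmul : ∀ l ∈ Submodule.span k (Set.range s), l * φ j ∈ Submodule.span k (Set.range φ) := by
      intro l hl
      induction hl using Submodule.span_induction with
      | mem x hx =>
        obtain ⟨i, rfl⟩ := hx
        have : s i * φ j = φ i - c i • φ j := by
          simp only [s, Algebra.smul_def]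
          field_simp
        rw [this]
        exact Submodule.sub_mem _ (Submodule.subset_span ⟨i, rfl⟩)
          (Submodule.smul_mem _ _ (Submodule.subset_span ⟨j, rfl⟩))
      | zero => simp
      | add x y _ _ hx hy => rw [add_mul]; exact Submodule.add_mem _ hx hy
      | smul c x _ hx => rw [smul_mul_assoc]; exact Submodule.smul_mem _ _ hx
    -- decomposition of elements of the ratio algebra
    have hdec : ∀ u ∈ Algebra.adjoin k (Set.range fun i => φ i / φ j),
        ∃ a : k, ∃ l ∈ Submodule.span k (Set.range s), ∃ h : K,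
          P.1 h ≤ WithZero.exp (-2 : ℤ) ∧ u = algebraMap k K a + l + h := by
      intro u hu
      induction hu using Algebra.adjoin_induction with
      | mem x hx =>
        obtain ⟨i, rfl⟩ := hx
        refine ⟨c i, s i, Submodule.subset_span ⟨i, rfl⟩, 0, by simp, ?_⟩
        simp only [s]; ring
      | algebraMap r => exact ⟨r, 0, Submodule.zero_mem _, 0, by simp, by simp⟩
      | add x y _ _ hx hy =>
        obtain ⟨a, l, hl, h, hh, rfl⟩ := hx
        obtain ⟨a', l', hl', h', hh', rfl⟩ := hy
        refine ⟨a + a', l + l', Submodule.add_mem _ hl hl', h + h',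
          (P.1.map_add h h').trans (max_le hh hh'), ?_⟩
        rw [map_add]; ring
      | mul x y _ _ hx hy =>
        obtain ⟨a, l, hl, h, hh, rfl⟩ := hx
        obtain ⟨a', l', hl', h', hh', rfl⟩ := hy
        refine ⟨a * a', a • l' + a' • l, Submodule.add_mem _ (Submodule.smul_mem _ _ hl')
          (Submodule.smul_mem _ _ hl),
          l * l' + (algebraMap k K a + l) * h' + h * (algebraMap k K a' + l' + h'), ?_, ?_⟩
        · have h1 : P.1 (l * l') ≤ WithZero.exp (-2 : ℤ) := by
            rw [map_mul]
            calc P.1 l * P.1 l' ≤ WithZero.exp (-1 : ℤ) * WithZero.exp (-1 : ℤ) :=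
                  mul_le_mul' (hspan_lt l hl) (hspan_lt l' hl')
              _ = WithZero.exp (-2 : ℤ) := by rw [← WithZero.exp_add]; norm_num
          have hle1 : ∀ (a : k) (l : K), l ∈ Submodule.span k (Set.range s) →
              P.1 (algebraMap k K a + l) ≤ 1 := by
            intro a l hl
            refine (P.1.map_add _ _).trans (max_le (P.2.1 a) ?_)
            exact (hspan_lt l hl).trans exp_neg_one_lt_one.le
          have h2 : P.1 ((algebraMap k K a + l) * h') ≤ WithZero.exp (-2 : ℤ) := by
            rw [map_mul]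
            exact (mul_le_of_le_one_left' (hle1 a l hl)).trans hh'
          have h3 : P.1 (h * (algebraMap k K a' + l' + h')) ≤ WithZero.exp (-2 : ℤ) := by
            rw [map_mul]
            refine (mul_le_of_le_one_right' ?_).trans hh
            refine (P.1.map_add _ _).trans (max_le (hle1 a' l' hl') ?_)
            exact hh'.trans (exp_neg_two_lt.le.trans exp_neg_one_lt_one.le)
          exact (P.1.map_add _ _).trans (max_le ((P.1.map_add _ _).trans (max_le h1 h2)) h3)
        · rw [map_mul, Algebra.smul_def, Algebra.smul_def]; ring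
    obtain ⟨a, l, hl, h, hh, hudec⟩ := hdec u hu
    have hl_lt : P.1 l < 1 := (lt_one_iff_le_exp _).mpr (hspan_lt l hl)
    have hh_lt : P.1 h < WithZero.exp (-1 : ℤ) := lt_of_le_of_lt hh exp_neg_two_lt
    have ha0 : a = 0 := by
      by_contra ha
      have hva : P.1 (algebraMap k K a) = 1 := Place.trivOn P a ha
      have : algebraMap k K a = u - l - h := by rw [hudec]; ring
      rw [this] at hva
      have hlt : P.1 (u - l - h) < 1 := by
        refine lt_of_le_of_lt (P.1.map_sub _ _) (max_lt ?_ (hh_lt.trans exp_neg_one_lt_one))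
        refine lt_of_le_of_lt (P.1.map_sub _ _) (max_lt ?_ hl_lt)
        rw [hvu]; exact exp_neg_one_lt_one
      rw [hva] at hlt
      exact lt_irrefl _ hlt
    have hvl : P.1 l = WithZero.exp (-1 : ℤ) := by
      have : l = u - h := by rw [hudec, ha0, map_zero]; ring
      rw [this, ← hvu]
      exact Valuation.map_sub_eq_of_lt_left _ (hvu ▸ hh_lt)
    exact ⟨l * φ j, hmul l hl, by rw [map_mul, hvj, mul_one, hvl]⟩
  · rintro ⟨t, ht, hvt⟩
    refine ⟨t, ⟨j0, ?_, fun i => (hnorm i).trans hj0.symm.le, t / φ j0, ?_, 1 / φ j0, ?_, ?_, ?_⟩, hvt⟩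
    · intro h0
      rw [h0, map_zero] at hj0
      exact zero_ne_one hj0
    · exact mem_ratio φ j0 t ht
    · exact mem_ratio φ j0 1 heff
    · rw [map_div₀, map_one, hj0, div_one]
    · ring

end
end helpers

/-- Over an algebraically closed constant field, for an effective projective map `φ` normalized at the
place `P` (`1` in the span of the entries, all entries integral at `P`), the local ring of `φ` at
`P` has an element of order one at `P` (a local parameter) exactly when the span of the entries has
one. The local ring consists of the quotients of polynomials over `k` in the ratios `φᵢ/φⱼ`, `φⱼ` of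
least order at `P`, with denominator a unit at `P`. -/
theorem result
    (k K : Type*) [Field k] [IsAlgClosed k] [Field K] [Algebra k K]
    (hK : FunFld.IsFunctionField k K) {n : ℕ} (φ : Fin (n + 1) → K)
    (P : FunFld.Place k K) (heff : (1 : K) ∈ Submodule.span k (Set.range φ))
    (hnorm : ∀ i, P.1 (φ i) ≤ 1) :
    (∃ t : K, FunFld.InLocRing φ P t ∧ P.1 t = WithZero.exp (-1)) ↔
      ∃ t ∈ Submodule.span k (Set.range φ), P.1 t = WithZero.exp (-1) := by
  exact main hK φ P heff hnorm

end Groth.Agent.S11066
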