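import Groth.Statements.S11067
import Mathlib
import Groth.Agent.Lib.Helper10.Adj2
import Groth.Agent.Lib.Helper10.FunFld41
import Groth.Agent.Lib.Helper10.FunFld57

set_option autoImplicit false
open FunFld

namespace Groth.Agent.S11067

set_option linter.style.haveILetI false

open Groth.Agent.Lib.helper10 Groth.Agent.Lib.helper10.FF Groth.Agent.Lib.helper10.Adj
open IntermediateField Polynomial

universe u v
variable {k : Type u} {K : Type v} [Field k] [Field K] [Algebra k K]

theorem val_aeval_le_one {K₀ : Type*} [Field K₀] [Algebra k K₀] (P : Place k K₀) {x₀ : K₀}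
    (hx : P.1 x₀ ≤ 1) (p : k[X]) : P.1 (aeval x₀ p) ≤ 1 := by
  rw [aeval_eq_sum_range]
  apply Valuation.map_sum_le
  intro i _
  rw [Algebra.smul_def, map_mul, map_pow]
  exact mul_le_one' (P.2.1 _) (pow_le_one' hx i)

/-- An element of `k(x)` integral at all finite places is a polynomial in `x`. -/
theorem exists_aeval_eq_of_forall_finite [IsAlgClosed k] {x : K} (hx : Transcendental k x)
    (c : k⟮x⟯)
    (hc : ∀ P : Place k k⟮x⟯, P.1 (AdjoinSimple.gen k x) ≤ 1 → P.1 c ≤ 1) :
    ∃ p : k[X], c = aeval (AdjoinSimple.gen k x) p := by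
  set ε := RatFunc.algEquivOfTranscendental x hx with hε
  set r : RatFunc k := ε.symm c with hr
  have hεgen : ε RatFunc.X = AdjoinSimple.gen k x := by
    apply Subtype.ext
    rw [hε, RatFunc.algEquivOfTranscendental_X]
    rfl
  have hdeg : r.denom.natDegree = 0 := by
    by_contra hne
    have hd : 1 ≤ r.denom.natDegree := by omega
    obtain ⟨p, P', hp, hpd, hP'⟩ := exists_place_irreducible_factor hd
    have hp1 : p.degree = 1 := IsAlgClosed.degree_eq_one_of_irreducible k hp
    have hX : P'.1 (RatFunc.X : RatFunc k) ≤ 1 := by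
      by_contra hgt
      rw [not_le] at hgt
      -- p = C a * X + C b with a ≠ 0
      obtain ⟨a, ha, b, rfl⟩ : ∃ a : k, a ≠ 0 ∧ ∃ b : k, p = C a * X + C b := by
        have := Polynomial.eq_X_add_C_of_degree_eq_one hp1
        exact ⟨p.leadingCoeff, Polynomial.leadingCoeff_ne_zero.2 hp.ne_zero, p.coeff 0, this⟩
      have h1 : P'.1 (algebraMap k[X] (RatFunc k) (C a * X + C b)) = P'.1 (RatFunc.X : RatFunc k) := by
        rw [map_add, map_mul, RatFunc.algebraMap_X, RatFunc.algebraMap_C, RatFunc.algebraMap_C]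
        have hCa : P'.1 (RatFunc.C a) = 1 := by
          have : (RatFunc.C a : RatFunc k) = algebraMap k (RatFunc k) a := rfl
          rw [this]
          exact Place.val_algebraMap_eq_one P' ha
        have h2 : P'.1 (RatFunc.C a * RatFunc.X) = P'.1 (RatFunc.X : RatFunc k) := by
          rw [map_mul, hCa, one_mul]
        rw [← h2]
        apply Valuation.map_add_eq_of_lt_left
        rw [h2]
        have : (RatFunc.C b : RatFunc k) = algebraMap k (RatFunc k) b := rfl
        rw [this]
        exact lt_of_le_of_lt (P'.2.1 b) hgt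
      rw [h1] at hP'
      exact absurd hP' (not_lt.2 hgt.le)
    obtain ⟨q, hq⟩ := hpd
    have hden : P'.1 (algebraMap k[X] (RatFunc k) r.denom) < 1 := by
      rw [hq, map_mul, map_mul]
      calc _ ≤ P'.1 (algebraMap k[X] (RatFunc k) p) * 1 :=
            mul_le_mul' le_rfl (Place.val_polynomial_le_one P' hX q)
        _ < 1 := by rw [mul_one]; exact hP'
    set P : Place k k⟮x⟯ := placeComap P' ε.symm with hP
    have hPx : P.1 (AdjoinSimple.gen k x) ≤ 1 := by
      rw [hP, placeComap_apply, ← hεgen, ε.symm_apply_apply]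
      exact hX
    have hPc := hc P hPx
    rw [hP, placeComap_apply] at hPc
    have := Place.val_denom_eq_one P' hX hPc
    rw [this] at hden
    exact lt_irrefl _ hden
  have hden1 : r.denom = 1 := by
    have hm := RatFunc.monic_denom r
    exact Polynomial.eq_one_of_monic_natDegree_zero hm hdeg
  refine ⟨r.num, ?_⟩
  have h1 : r = algebraMap k[X] (RatFunc k) r.num := by
    conv_lhs => rw [← RatFunc.num_div_denom r]
    rw [hden1, map_one, div_one]
  have h2 : c = ε r := by rw [hr, ε.apply_symm_apply]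
  rw [h2, h1, hε, RatFunc.algEquivOfTranscendental_algebraMap]
  congr 1
  rw [← h1]

open scoped IntermediateField.algebraAdjoinAdjoin

theorem isIntegrallyClosed_adjoin {x : K} (hx : Transcendental k x) :
    IsIntegrallyClosed (Algebra.adjoin k ({x} : Set K)) :=
  IsIntegrallyClosed.of_equiv (Polynomial.algEquivOfTranscendental k x hx).toRingEquiv

theorem minpoly_coeff_mem {x y : K} (hx : Transcendental k x)
    (hy : IsIntegral (Algebra.adjoin k ({x} : Set K)) y) (i : ℕ) :
    ∃ p : k[X], (minpoly k⟮x⟯ y).coeff i = aeval (AdjoinSimple.gen k x) p := by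
  haveI := isIntegrallyClosed_adjoin hx
  have h := minpoly.isIntegrallyClosed_eq_field_fractions' k⟮x⟯ hy
  rw [h, Polynomial.coeff_map]
  set r := (minpoly (Algebra.adjoin k ({x} : Set K)) y).coeff i with hr
  have hr2 : ∀ w : K, w ∈ Algebra.adjoin k ({x} : Set K) → ∃ p : k[X], aeval x p = w := by
    intro w hw
    rw [Algebra.adjoin_singleton_eq_range_aeval] at hw
    exact hw
  obtain ⟨p, hp⟩ := hr2 (r : K) r.2
  refine ⟨p, ?_⟩
  apply Subtype.ext
  rw [← IntermediateField.aeval_coe]
  exact hp.symm

/-- Elements of `O_P[y]` are `O_P`-combinations of `1, y, …, y^(n-1)`. -/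
theorem exists_coeffs_of_mem_closure {x y : K} (hx : Transcendental k x)
    (hy : IsIntegral (Algebra.adjoin k ({x} : Set K)) y)
    (hyint : IsIntegral k⟮x⟯ y) (P : Place k k⟮x⟯) (hP : P.1 (AdjoinSimple.gen k x) ≤ 1) {z : K}
    (hz : z ∈ Subring.closure ((algebraMap k⟮x⟯ K '' (P.O : Set k⟮x⟯)) ∪ {y})) :
    ∃ c : Fin (minpoly k⟮x⟯ y).natDegree → k⟮x⟯, (∀ i, P.1 (c i) ≤ 1) ∧
      z = ∑ i, algebraMap k⟮x⟯ K (c i) * y ^ (i : ℕ) := by
  classical
  set g := minpoly k⟮x⟯ y with hg
  set n := g.natDegree with hn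
  letI : Algebra P.O K := ((algebraMap k⟮x⟯ K).comp (algebraMap P.O k⟮x⟯)).toAlgebra
  haveI : IsScalarTower P.O k⟮x⟯ K := IsScalarTower.of_algebraMap_eq (fun _ => rfl)
  have hcoef : ∀ i, P.1 (g.coeff i) ≤ 1 := by
    intro i
    obtain ⟨p, hp⟩ := minpoly_coeff_mem hx hy i
    rw [hp]
    exact val_aeval_le_one P hP p
  have hgm : g.Monic := minpoly.monic hyint
  have hyn : y ^ n = -∑ i ∈ Finset.range n, algebraMap k⟮x⟯ K (g.coeff i) * y ^ i := by
    have h0 : Polynomial.aeval y g = 0 := minpoly.aeval _ _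
    rw [hgm.as_sum, map_add, map_pow, aeval_X, map_sum] at h0
    rw [eq_neg_iff_add_eq_zero, ← h0]
    congr 1
    apply Finset.sum_congr rfl
    intro i _
    rw [map_mul, aeval_C, map_pow, aeval_X]
  set M : Submodule P.O K := Submodule.span P.O (Set.range fun i : Fin n => y ^ (i : ℕ)) with hM
  have hsmul : ∀ (a : k⟮x⟯) (ha : P.1 a ≤ 1) (w : K), w ∈ M → algebraMap k⟮x⟯ K a * w ∈ M := by
    intro a ha w hw
    have : algebraMap k⟮x⟯ K a * w = (⟨a, ha⟩ : P.O) • w := by
      rw [Algebra.smul_def]
      rfl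
    rw [this]
    exact M.smul_mem _ hw
  have hpow : ∀ m : ℕ, y ^ m ∈ M := by
    intro m
    induction m using Nat.strong_induction_on with
    | _ m ih =>
      by_cases hm : m < n
      · exact Submodule.subset_span ⟨⟨m, hm⟩, rfl⟩
      · have e1 : y ^ m = -∑ i ∈ Finset.range n,
            algebraMap k⟮x⟯ K (g.coeff i) * y ^ (i + (m - n)) := by
          rw [show m = n + (m - n) by omega, pow_add, hyn, neg_mul, Finset.sum_mul]
          rw [show n + (m - n) - n = m - n by omega]
          congr 1
          apply Finset.sum_congr rfl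
          intro i _
          rw [pow_add]
          ring
        rw [e1]
        refine M.neg_mem (M.sum_mem fun i hi => ?_)
        rw [Finset.mem_range] at hi
        exact hsmul _ (hcoef i) _ (ih _ (by omega))
  have hle : Subalgebra.toSubmodule (Algebra.adjoin P.O ({y} : Set K)) ≤ M := by
    rw [Algebra.adjoin_eq_span, Submodule.span_le]
    intro w hw
    rw [← Submonoid.powers_eq_closure] at hw
    obtain ⟨m, rfl⟩ := hw
    exact hpow m
  have hrange : Set.range (algebraMap P.O K) = algebraMap k⟮x⟯ K '' (P.O : Set k⟮x⟯) := by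
    ext w
    constructor
    · rintro ⟨a, rfl⟩
      exact ⟨a.1, a.2, rfl⟩
    · rintro ⟨a, ha, rfl⟩
      exact ⟨⟨a, ha⟩, rfl⟩
  have hzA : z ∈ Algebra.adjoin P.O ({y} : Set K) := by
    rw [← Subalgebra.mem_toSubring, Algebra.adjoin_eq_ring_closure, hrange]
    exact hz
  have hzM : z ∈ M := hle hzA
  rw [hM, Submodule.mem_span_range_iff_exists_fun] at hzM
  obtain ⟨c, hc⟩ := hzM
  refine ⟨fun i => (c i : k⟮x⟯), fun i => (c i).2, ?_⟩
  rw [← hc]
  apply Finset.sum_congr rfl
  intro i _
  rw [Algebra.smul_def]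
  rfl

theorem main
    (k K : Type*) [Field k] [IsAlgClosed k] [Field K] [Algebra k K]
    (hK : FunFld.IsFunctionField k K) (x y : K) (hx : Transcendental k x)
    (hxy : IntermediateField.adjoin k ({x, y} : Set K) = ⊤)
    (hy : IsIntegral (Algebra.adjoin k ({x} : Set K)) y) :
    (Algebra.adjoin k ({x, y} : Set K) : Set K) =
      ⋂ (P : FunFld.Place k (IntermediateField.adjoin k ({x} : Set K)))
        (_ : P.1 ⟨x, IntermediateField.mem_adjoin_simple_self k x⟩ ≤ 1),
        (Subring.closure
          ((algebraMap (IntermediateField.adjoin k ({x} : Set K)) K '' (P.O : Set _)) ∪ {y}) :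
          Set K) := by
  classical
  have hK₀ := isFunctionField_adjoin_simple hK hx
  haveI := finiteDimensional_adjoin hK hx
  have hyint : IsIntegral k⟮x⟯ y := Algebra.IsIntegral.isIntegral y
  have hli := linearIndependent_pow (K := k⟮x⟯) y
  apply Set.Subset.antisymm
  · intro z hz
    simp only [Set.mem_iInter]
    intro P hP
    rw [SetLike.mem_coe] at hz ⊢
    induction hz using Algebra.adjoin_induction with
    | mem w hw =>
      rcases hw with rfl | hw
      · exact Subring.subset_closure (Or.inl ⟨⟨w, IntermediateField.mem_adjoin_simple_self k w⟩,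
          hP, rfl⟩)
      · exact Subring.subset_closure (Or.inr hw)
    | algebraMap c =>
      refine Subring.subset_closure (Or.inl ⟨algebraMap k k⟮x⟯ c, P.2.1 c, ?_⟩)
      rw [← IsScalarTower.algebraMap_apply]
    | add a b _ _ ha hb => exact add_mem ha hb
    | mul a b _ _ ha hb => exact mul_mem ha hb
  · intro z hz
    simp only [Set.mem_iInter] at hz
    rw [SetLike.mem_coe]
    have hx₀ : AdjoinSimple.gen k x ∉ Set.range (algebraMap k k⟮x⟯) := by
      rintro ⟨c, hc⟩
      apply hx
      have h1 := congrArg (algebraMap k⟮x⟯ K) hc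
      rw [← IsScalarTower.algebraMap_apply, AdjoinSimple.algebraMap_gen] at h1
      rw [← h1]
      exact isAlgebraic_algebraMap c
    obtain ⟨P₀, hP₀⟩ := exists_zero hK₀ hx₀
    have hgen0 : AdjoinSimple.gen k x ≠ 0 := by
      intro h0
      exact hx₀ ⟨0, by rw [map_zero, h0]⟩
    have hP₀' : P₀.1 (AdjoinSimple.gen k x) ≤ 1 := by
      rw [Place.val_eq_exp_neg_ord P₀ hgen0, ← WithZero.exp_zero, WithZero.exp_le_exp]
      omega
    obtain ⟨c, hc, hzc⟩ := exists_coeffs_of_mem_closure hx hy hyint P₀ hP₀' (hz P₀ hP₀')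
    have hcall : ∀ i, ∀ P : Place k k⟮x⟯, P.1 (AdjoinSimple.gen k x) ≤ 1 → P.1 (c i) ≤ 1 := by
      intro i P hP
      obtain ⟨c', hc', hzc'⟩ := exists_coeffs_of_mem_closure hx hy hyint P hP (hz P hP)
      have hsum : ∑ j, (c j - c' j) • y ^ (j : ℕ) = 0 := by
        have e1 : ∀ j, (c j - c' j) • y ^ (j : ℕ) =
            algebraMap k⟮x⟯ K (c j) * y ^ (j : ℕ) - algebraMap k⟮x⟯ K (c' j) * y ^ (j : ℕ) := by
          intro j
          rw [Algebra.smul_def, map_sub, sub_mul]
        simp only [e1, Finset.sum_sub_distrib]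
        rw [← hzc, ← hzc', sub_self]
      have := (Fintype.linearIndependent_iff.1 hli) (fun j => c j - c' j) hsum i
      rw [sub_eq_zero] at this
      rw [this]
      exact hc' i
    choose p hp using fun i => exists_aeval_eq_of_forall_finite hx (c i) (hcall i)
    rw [hzc]
    refine sum_mem fun i _ => mul_mem ?_ (pow_mem (Algebra.subset_adjoin (by simp)) _)
    rw [hp i]
    have : algebraMap k⟮x⟯ K (aeval (AdjoinSimple.gen k x) (p i)) = aeval x (p i) := by
      rw [← aeval_algebraMap_apply, AdjoinSimple.algebraMap_gen]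
    rw [this]
    exact Algebra.adjoin_mono (by simp) (Polynomial.aeval_mem_adjoin_singleton k x)



/-- Over an algebraically closed constant field, for a plane curve with natural map `(1 : x : y)` (so `K
= k(x, y)`) and `y` integral over `k[x]`, the ring `k[x, y]` is the intersection of the rings
`O_P[y]` over the places `P` of `k(x)` at which `x` is integral. -/
theorem result
    (k K : Type*) [Field k] [IsAlgClosed k] [Field K] [Algebra k K]
    (hK : FunFld.IsFunctionField k K) (x y : K) (hx : Transcendental k x)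
    (hxy : IntermediateField.adjoin k ({x, y} : Set K) = ⊤)
    (hy : IsIntegral (Algebra.adjoin k ({x} : Set K)) y) :
    (Algebra.adjoin k ({x, y} : Set K) : Set K) =
      ⋂ (P : FunFld.Place k (IntermediateField.adjoin k ({x} : Set K)))
        (_ : P.1 ⟨x, IntermediateField.mem_adjoin_simple_self k x⟩ ≤ 1),
        (Subring.closure
          ((algebraMap (IntermediateField.adjoin k ({x} : Set K)) K '' (P.O : Set _)) ∪ {y}) :
          Set K) := by
  exact main k K hK x y hx hxy hy

end Groth.Agent.S11067
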