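import Groth.Statements.S11068
import Mathlib
import Groth.Agent.Lib.Helper10.Zeta13

set_option autoImplicit false
open FunFld

namespace Groth.Agent.S11068

set_option linter.style.haveILetI false

open Groth.Agent.Lib.helper10 Groth.Agent.Lib.helper10.Zeta Groth.Agent.Lib.helper10.FF
open Polynomial FunFld

section Rep

variable {k K kb Kb : Type*} [Field k] [Field K] [Algebra k K] [Field kb] [Algebra k kb]
  [Field Kb] [Algebra K Kb] [Algebra kb Kb] [Algebra k Kb] [IsScalarTower k K Kb]
  [IsScalarTower k kb Kb]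

/-- Every element of `K·k̄` is a `K`-combination of `k`-linearly independent constants. -/
theorem exists_rep (hgen : Algebra.adjoin K (Set.range (algebraMap kb Kb)) = ⊤) (z : Kb) :
    ∃ (n : ℕ) (c : Fin n → kb) (x : Fin n → K), LinearIndependent k c ∧
      z = ∑ i, algebraMap kb Kb (c i) * algebraMap K Kb (x i) := by
  classical
  have hz : z ∈ Submodule.span K (Set.range (algebraMap kb Kb)) := by
    have h1 : z ∈ Algebra.adjoin K (Set.range (algebraMap kb Kb)) := by rw [hgen]; trivial
    have h1' : z ∈ Subalgebra.toSubmodule (Algebra.adjoin K (Set.range (algebraMap kb Kb))) := h1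
    rw [Algebra.adjoin_eq_span] at h1'
    refine Submodule.span_mono ?_ h1'
    intro w hw
    have hle : Submonoid.closure (Set.range (algebraMap kb Kb)) ≤
        MonoidHom.mrange ((algebraMap kb Kb : kb →+* Kb) : kb →* Kb) := by
      rw [Submonoid.closure_le]
      rintro _ ⟨c, rfl⟩
      exact ⟨c, rfl⟩
    obtain ⟨c, hc⟩ := hle hw
    exact ⟨c, hc⟩
  obtain ⟨l, hl⟩ := (Finsupp.mem_span_range_iff_exists_finsupp).1 hz
  obtain ⟨W, hW⟩ : ∃ W : Submodule k kb, W = Submodule.span k (l.support : Set kb) := ⟨_, rfl⟩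
  haveI : FiniteDimensional k W := by
    rw [hW]
    exact FiniteDimensional.span_finset k l.support
  obtain ⟨n, hn⟩ : ∃ n, n = Module.finrank k W := ⟨_, rfl⟩
  let b : Module.Basis (Fin n) k W := (Module.finBasis k W).reindex (finCongr hn.symm)
  have hmemW : ∀ c ∈ l.support, c ∈ W := by
    intro c hc
    rw [hW]
    exact Submodule.subset_span hc
  refine ⟨n, fun i => (b i : kb), fun i => ∑ c ∈ l.support.attach,
    l c.1 * algebraMap k K (b.repr ⟨c.1, hmemW c.1 c.2⟩ i), ?_, ?_⟩
  · have := b.linearIndependent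
    exact this.map' W.subtype (Submodule.ker_subtype W)
  · rw [← hl, Finsupp.sum, ← Finset.sum_attach]
    have hexp : ∀ c : {c // c ∈ l.support}, algebraMap kb Kb c.1 =
        ∑ i, algebraMap k Kb (b.repr ⟨c.1, hmemW c.1 c.2⟩ i) * algebraMap kb Kb (b i : kb) := by
      intro c
      have h1 := b.sum_repr ⟨c.1, hmemW c.1 c.2⟩
      have h2 := congrArg (fun w : W => algebraMap kb Kb (w : kb)) h1
      simp only [Submodule.coe_sum, Submodule.coe_smul, map_sum] at h2
      rw [← h2]
      apply Finset.sum_congr rfl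
      intro i _
      rw [Algebra.smul_def, map_mul, ← IsScalarTower.algebraMap_apply k kb Kb]
    calc ∑ c ∈ l.support.attach, l c.1 • algebraMap kb Kb c.1
        = ∑ c ∈ l.support.attach, ∑ i, algebraMap kb Kb (b i : kb) *
            algebraMap K Kb (l c.1 * algebraMap k K (b.repr ⟨c.1, hmemW c.1 c.2⟩ i)) := by
          apply Finset.sum_congr rfl
          intro c _
          rw [hexp c, Finset.smul_sum]
          apply Finset.sum_congr rfl
          intro i _
          rw [Algebra.smul_def, map_mul, ← IsScalarTower.algebraMap_apply k K Kb]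
          ring
      _ = _ := by
          rw [Finset.sum_comm]
          apply Finset.sum_congr rfl
          intro i _
          rw [map_sum, Finset.mul_sum]

/-- Fixed points of the `q`-power map in an extension of a finite field with `q` elements. -/
theorem mem_range_of_pow_card_eq {k L : Type*} [Field k] [Finite k] [Field L] [Algebra k L]
    (y : L) (hy : y ^ Nat.card k = y) : y ∈ Set.range (algebraMap k L) := by
  classical
  haveI : Fintype k := Fintype.ofFinite _
  have hq : 1 < Nat.card k := Finite.one_lt_card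
  obtain ⟨N, hN⟩ : ∃ N, N = Nat.card k := ⟨_, rfl⟩
  rw [← hN] at hy hq
  obtain ⟨R, hR⟩ : ∃ R : L[X], R = X ^ N - X := ⟨_, rfl⟩
  have hR0 : R ≠ 0 := hR ▸ FiniteField.X_pow_card_sub_X_ne_zero _ hq
  have hRdeg : R.natDegree = N := hR ▸ FiniteField.X_pow_card_sub_X_natDegree_eq _ hq
  have hinj : Function.Injective (algebraMap k L) := (algebraMap k L).injective
  have hcard : Fintype.card k = N := by rw [hN, Nat.card_eq_fintype_card]
  have hsub : Finset.univ.image (algebraMap k L) ⊆ R.roots.toFinset := by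
    intro z hz
    obtain ⟨x, -, rfl⟩ := Finset.mem_image.1 hz
    rw [Multiset.mem_toFinset, mem_roots hR0, IsRoot.def, hR, eval_sub, eval_pow, eval_X,
      ← map_pow, ← hcard, FiniteField.pow_card, sub_self]
  have hcardle : R.roots.toFinset.card ≤ (Finset.univ.image (algebraMap k L)).card := by
    rw [Finset.card_image_of_injective _ hinj, Finset.card_univ, hcard]
    calc R.roots.toFinset.card ≤ R.roots.card := Multiset.toFinset_card_le _
      _ ≤ R.natDegree := card_roots' R
      _ = N := hRdeg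
  have heq := Finset.eq_of_subset_of_card_le hsub hcardle
  have hyR : y ∈ R.roots.toFinset := by
    rw [Multiset.mem_toFinset, mem_roots hR0, IsRoot.def, hR, eval_sub, eval_pow, eval_X, hy,
      sub_self]
  rw [← heq] at hyR
  obtain ⟨x, -, rfl⟩ := Finset.mem_image.1 hyR
  exact ⟨x, rfl⟩

/-- At a place of degree one every integral element is congruent to a constant. -/
theorem exists_const_sub_lt_of_deg_one (P : Place k K) (hdeg : P.deg = 1) {z : K}
    (hz : P.1 z ≤ 1) : ∃ a : k, P.1 (z - algebraMap k K a) < 1 := by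
  have htop := Subalgebra.bot_eq_top_of_finrank_eq_one (F := k)
    (E := IsLocalRing.ResidueField P.O) hdeg
  have hmem : IsLocalRing.residue P.O ⟨z, hz⟩ ∈ (⊥ : Subalgebra k (IsLocalRing.ResidueField P.O)) := by
    rw [htop]; trivial
  obtain ⟨a, ha⟩ := Algebra.mem_bot.1 hmem
  refine ⟨a, ?_⟩
  exact val_sub_lt_of_residue_eq P hz (P.2.1 a) ha.symm

theorem lt_iff_of_le_iff (Q : Place kb Kb) (P : Place k K)
    (hQP : ∀ x : K, Q.1 (algebraMap K Kb x) ≤ 1 ↔ P.1 x ≤ 1) (x : K) :
    Q.1 (algebraMap K Kb x) < 1 ↔ P.1 x < 1 := by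
  by_cases hx : x = 0
  · subst hx
    simp
  have h := hQP x⁻¹
  rw [map_inv₀, map_inv₀, map_inv₀] at h
  have hQ0 : 0 < Q.1 (algebraMap K Kb x) := by
    rw [zero_lt_iff, Valuation.ne_zero_iff]
    exact (_root_.map_ne_zero _).2 hx
  have hP0 : 0 < P.1 x := by
    rw [zero_lt_iff, Valuation.ne_zero_iff]
    exact hx
  rw [inv_le_one₀ hQ0, inv_le_one₀ hP0] at h
  rw [← not_le, ← not_le, h]

theorem val_sum_lt_one_iff (Q : Place kb Kb) (P : Place k K)
    (hQP : ∀ x : K, Q.1 (algebraMap K Kb x) ≤ 1 ↔ P.1 x ≤ 1) (hdeg : P.deg = 1) {n : ℕ}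
    (c : Fin n → kb) (x : Fin n → K) (hc : LinearIndependent k c) :
    Q.1 (∑ i, algebraMap kb Kb (c i) * algebraMap K Kb (x i)) < 1 ↔ ∀ i, P.1 (x i) < 1 := by
  have hlt := lt_iff_of_le_iff Q P hQP
  constructor
  · intro hz
    by_contra hcon
    push Not at hcon
    obtain ⟨i₀, hi₀⟩ := hcon
    obtain ⟨j, -, hj⟩ := Finset.exists_max_image Finset.univ (fun i => P.1 (x i))
      ⟨i₀, Finset.mem_univ _⟩
    have hj1 : 1 ≤ P.1 (x j) := hi₀.trans (hj i₀ (Finset.mem_univ _))
    have hxj0 : x j ≠ 0 := by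
      intro h0
      rw [h0, map_zero] at hj1
      exact absurd hj1 (by simp)
    have hPj0 : P.1 (x j) ≠ 0 := (Valuation.ne_zero_iff _).2 hxj0
    have hy : ∀ i, P.1 (x i / x j) ≤ 1 := by
      intro i
      rw [map_div₀]
      exact div_le_one_of_le₀ (hj i (Finset.mem_univ _)) zero_le
    choose a ha using fun i => exists_const_sub_lt_of_deg_one P hdeg (hy i)
    have haj : a j ≠ 0 := by
      intro h0
      have := ha j
      rw [h0, map_zero, sub_zero, div_self hxj0, map_one] at this
      exact lt_irrefl _ this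
    have hS : ∑ i, a i • c i ≠ 0 := by
      intro h0
      exact haj (Fintype.linearIndependent_iff.1 hc a h0 j)
    have hdecomp : ∑ i, algebraMap kb Kb (c i) * algebraMap K Kb (x i) =
        algebraMap K Kb (x j) * (algebraMap kb Kb (∑ i, a i • c i) +
          ∑ i, algebraMap kb Kb (c i) * algebraMap K Kb (x i / x j - algebraMap k K (a i))) := by
      rw [map_sum, ← Finset.sum_add_distrib, Finset.mul_sum]
      apply Finset.sum_congr rfl
      intro i _
      rw [Algebra.smul_def, map_mul, map_sub, map_div₀, ← IsScalarTower.algebraMap_apply k K Kb,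
        ← IsScalarTower.algebraMap_apply k kb Kb]
      have : algebraMap K Kb (x j) ≠ 0 := (_root_.map_ne_zero _).2 hxj0
      field_simp
      ring
    have h1 : Q.1 (algebraMap kb Kb (∑ i, a i • c i)) = 1 := Place.val_algebraMap_eq_one Q hS
    have h2 : Q.1 (∑ i, algebraMap kb Kb (c i) *
        algebraMap K Kb (x i / x j - algebraMap k K (a i))) < 1 := by
      apply Valuation.map_sum_lt _ one_ne_zero
      intro i _
      rw [map_mul]
      calc Q.1 (algebraMap kb Kb (c i)) * Q.1 (algebraMap K Kb (x i / x j - algebraMap k K (a i)))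
          ≤ 1 * Q.1 (algebraMap K Kb (x i / x j - algebraMap k K (a i))) :=
            mul_le_mul_left (Q.2.1 (c i)) _
        _ = Q.1 (algebraMap K Kb (x i / x j - algebraMap k K (a i))) := one_mul _
        _ < 1 := (hlt _).2 (ha i)
    have h3 : Q.1 (algebraMap kb Kb (∑ i, a i • c i) +
          ∑ i, algebraMap kb Kb (c i) * algebraMap K Kb (x i / x j - algebraMap k K (a i))) = 1 := by
      rw [Valuation.map_add_eq_of_lt_left _ (by rw [h1]; exact h2), h1]
    rw [hdecomp, map_mul, h3, mul_one, hlt] at hz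
    exact absurd hz (not_lt.2 hj1)
  · intro hx
    apply Valuation.map_sum_lt _ one_ne_zero
    intro i _
    rw [map_mul]
    calc Q.1 (algebraMap kb Kb (c i)) * Q.1 (algebraMap K Kb (x i))
        ≤ 1 * Q.1 (algebraMap K Kb (x i)) := mul_le_mul_left (Q.2.1 (c i)) _
      _ = Q.1 (algebraMap K Kb (x i)) := one_mul _
      _ < 1 := (hlt _).2 (hx i)

theorem exists_lt_one_of_prod_lt_one (Q : Place kb Kb) (s : Multiset Kb) (hs : ∀ a ∈ s, Q.1 a ≤ 1)
    (h : Q.1 s.prod < 1) : ∃ a ∈ s, Q.1 a < 1 := by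
  by_contra hcon
  push Not at hcon
  have h1 : ∀ a ∈ s, Q.1 a = 1 := fun a ha => le_antisymm (hs a ha) (hcon a ha)
  have h2 : Q.1 s.prod = 1 := by
    rw [map_multiset_prod]
    apply Multiset.prod_eq_one
    intro w hw
    obtain ⟨a, ha, rfl⟩ := Multiset.mem_map.1 hw
    exact h1 a ha
  rw [h2] at h
  exact lt_irrefl _ h

theorem exists_root_sub_lt [IsAlgClosed kb] (hK : IsFunctionField k K) (Q : Place kb Kb)
    (P : Place k K) (hlt : ∀ x : K, Q.1 (algebraMap K Kb x) < 1 ↔ P.1 x < 1)
    (hle : ∀ x : K, Q.1 (algebraMap K Kb x) ≤ 1 ↔ P.1 x ≤ 1) {y : K}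
    (hy : P.1 y ≤ 1) : ∃ b : kb, Q.1 (algebraMap K Kb y - algebraMap kb Kb b) < 1 := by
  have hfd := Place.finiteDimensional_residueField hK P
  haveI hfd' : @Module.Finite k (IsLocalRing.ResidueField P.O) _ _ (Place.algRes P).toModule := hfd
  obtain ⟨r, hr⟩ : ∃ r, r = IsLocalRing.residue P.O ⟨y, hy⟩ := ⟨_, rfl⟩
  have hint : IsIntegral k r := IsIntegral.of_finite k r
  obtain ⟨g, hg⟩ : ∃ g, g = minpoly k r := ⟨_, rfl⟩
  have hmonic : g.Monic := hg ▸ minpoly.monic hint
  have h0 : aeval r g = 0 := hg ▸ minpoly.aeval k r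
  have h1 : P.1 (aeval y g) < 1 := by
    have := Place.residue_aeval P ⟨y, hy⟩ g
    rw [← hr, h0, Place.residue_eq_zero_iff, Place.coe_aeval] at this
    exact this
  have h2 : Q.1 (algebraMap K Kb (aeval y g)) < 1 := (hlt _).2 h1
  obtain ⟨gb, hgb⟩ : ∃ gb : kb[X], gb = g.map (algebraMap k kb) := ⟨_, rfl⟩
  have hgbm : gb.Monic := hgb ▸ hmonic.map _
  have hsplit : gb.Splits := IsAlgClosed.splits gb
  have h3 : algebraMap K Kb (aeval y g) =
      (gb.roots.map (fun b => algebraMap K Kb y - algebraMap kb Kb b)).prod := by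
    rw [← aeval_algebraMap_apply, ← aeval_map_algebraMap kb (algebraMap K Kb y) g, ← hgb]
    conv_lhs => rw [hsplit.eq_prod_roots_of_monic hgbm]
    rw [map_multiset_prod, Multiset.map_map]
    congr 1
    apply Multiset.map_congr rfl
    intro b _
    simp
  rw [h3] at h2
  obtain ⟨w, hw, hw1⟩ := exists_lt_one_of_prod_lt_one Q _ (by
    intro w hw
    obtain ⟨b, -, rfl⟩ := Multiset.mem_map.1 hw
    exact Valuation.map_sub_le _ ((hle y).2 hy) (Q.2.1 b)) h2
  obtain ⟨b, -, rfl⟩ := Multiset.mem_map.1 hw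
  exact ⟨b, hw1⟩

end Rep

theorem main (k K kb Kb : Type*) [Field k] [Finite k] [Field K] [Algebra k K] [Field kb] [Algebra k kb]
    [IsAlgClosure k kb] [Field Kb] [Algebra K Kb] [Algebra kb Kb]
    (hK : FunFld.IsFunctionField k K)
    (hc : ∀ c : k, algebraMap K Kb (algebraMap k K c) = algebraMap kb Kb (algebraMap k kb c))
    (hgen : Algebra.adjoin K (Set.range (algebraMap kb Kb)) = ⊤)
    (F : Kb →+* Kb) (hF1 : ∀ c : kb, F (algebraMap kb Kb c) = algebraMap kb Kb c)
    (hF2 : ∀ x : K, F (algebraMap K Kb x) = algebraMap K Kb x ^ Nat.card k)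
    (Q : FunFld.Place kb Kb) :
    (∀ z : Kb, Q.1 (F z) < 1 ↔ Q.1 z < 1) ↔
      ∃ P : FunFld.Place k K, (∀ x : K, Q.1 (algebraMap K Kb x) ≤ 1 ↔ P.1 x ≤ 1) ∧ P.deg = 1 := by
  letI : Algebra k Kb := ((algebraMap K Kb).comp (algebraMap k K)).toAlgebra
  haveI : IsScalarTower k K Kb := IsScalarTower.of_algebraMap_eq (fun _ => rfl)
  haveI : IsScalarTower k kb Kb := IsScalarTower.of_algebraMap_eq (fun c => hc c)
  haveI : IsAlgClosed kb := IsAlgClosure.isAlgClosed k
  haveI : Algebra.IsAlgebraic k kb := IsAlgClosure.isAlgebraic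
  have hq : 1 < Nat.card k := Finite.one_lt_card
  haveI : Algebra.IsAlgebraic K Kb := by
    haveI : Algebra.IsIntegral K Kb := by
      rw [← integralClosure_eq_top_iff, eq_top_iff, ← hgen]
      rw [Algebra.adjoin_le_iff]
      rintro _ ⟨c, rfl⟩
      show IsIntegral K (algebraMap kb Kb c)
      have h1 : IsIntegral k c := (Algebra.IsAlgebraic.isAlgebraic (R := k) c).isIntegral
      have h2 : IsIntegral k (algebraMap kb Kb c) := h1.map (IsScalarTower.toAlgHom k kb Kb)
      exact h2.tower_top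
    infer_instance
  constructor
  · intro hstab
    obtain ⟨e, he⟩ := isOver_under hK Q
    have hle : ∀ x : K, Q.1 (algebraMap K Kb x) ≤ 1 ↔ (under hK Q).1 x ≤ 1 :=
      fun x => isOverWith_le_one_iff he x
    have hlt : ∀ x : K, Q.1 (algebraMap K Kb x) < 1 ↔ (under hK Q).1 x < 1 :=
      fun x => isOverWith_lt_one_iff he x
    obtain ⟨P, hP⟩ : ∃ P, P = under hK Q := ⟨_, rfl⟩
    rw [← hP] at hle hlt
    refine ⟨P, hle, ?_⟩
    have hsurj : Function.Surjective (algebraMap k (IsLocalRing.ResidueField P.O)) := by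
      intro w
      obtain ⟨⟨y, hy⟩, rfl⟩ := IsLocalRing.residue_surjective (R := P.O) w
      obtain ⟨b, hb⟩ := exists_root_sub_lt hK Q P hlt hle hy
      have h1 : Q.1 (F (algebraMap K Kb y - algebraMap kb Kb b)) < 1 := (hstab _).2 hb
      rw [map_sub, hF1, hF2] at h1
      have h2 : Q.1 (algebraMap K Kb y ^ Nat.card k - algebraMap kb Kb b ^ Nat.card k) < 1 := by
        rw [← geom_sum₂_mul, map_mul]
        have h5 : Q.1 (∑ i ∈ Finset.range (Nat.card k), algebraMap K Kb y ^ i *
            algebraMap kb Kb b ^ (Nat.card k - 1 - i)) ≤ 1 := by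
          apply Valuation.map_sum_le
          intro i _
          rw [map_mul, map_pow, map_pow]
          exact mul_le_one' (pow_le_one' ((hle y).2 hy) _) (pow_le_one' (Q.2.1 b) _)
        calc _ ≤ 1 * Q.1 (algebraMap K Kb y - algebraMap kb Kb b) := mul_le_mul_left h5 _
          _ = _ := one_mul _
          _ < 1 := hb
      have h3 : Q.1 (algebraMap kb Kb (b ^ Nat.card k - b)) < 1 := by
        have : algebraMap kb Kb (b ^ Nat.card k - b) =
            (algebraMap K Kb y ^ Nat.card k - algebraMap kb Kb b) -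
              (algebraMap K Kb y ^ Nat.card k - algebraMap kb Kb b ^ Nat.card k) := by
          rw [map_sub, map_pow]; ring
        rw [this]
        exact Valuation.map_sub_lt _ h1 h2
      have h4 : b ^ Nat.card k - b = 0 := by
        by_contra hne
        rw [Place.val_algebraMap_eq_one Q hne] at h3
        exact lt_irrefl _ h3
      obtain ⟨a, ha⟩ := mem_range_of_pow_card_eq (k := k) b (sub_eq_zero.1 h4)
      refine ⟨a, ?_⟩
      have h6 : P.1 (algebraMap k K a - y) < 1 := by
        rw [← hlt, map_sub, hc a, ha, ← Valuation.map_neg, neg_sub]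
        exact hb
      exact residue_eq_of_val_sub_lt P (P.2.1 a) hy h6
    have hbij : Function.Bijective (Algebra.linearMap k (IsLocalRing.ResidueField P.O)) :=
      ⟨(algebraMap k (IsLocalRing.ResidueField P.O)).injective, hsurj⟩
    exact (LinearEquiv.ofBijective _ hbij).finrank_eq.symm.trans (Module.finrank_self k)
  · rintro ⟨P, hle, hdeg⟩ z
    obtain ⟨n, c, x, hlin, rfl⟩ := exists_rep (k := k) hgen z
    have hFz : F (∑ i, algebraMap kb Kb (c i) * algebraMap K Kb (x i)) =
        ∑ i, algebraMap kb Kb (c i) * algebraMap K Kb (x i ^ Nat.card k) := by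
      rw [map_sum]
      apply Finset.sum_congr rfl
      intro i _
      rw [map_mul, hF1, hF2, map_pow]
    rw [hFz, val_sum_lt_one_iff Q P hle hdeg c _ hlin, val_sum_lt_one_iff Q P hle hdeg c x hlin]
    apply forall_congr'
    intro i
    rw [map_pow]
    exact pow_lt_one_iff_of_nonneg zero_le (by omega)



/-- Over a finite constant field with `q` elements, let `K̄ = k̄ ⊗ K` be the constant-field extension to
an algebraic closure and `F` its Frobenius map (identity on `k̄`, `q`-th power on `K`). A place `Q`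
of `K̄/k̄` satisfies `Q^F = Q` (the maximal ideal of `Q` is exactly the preimage of itself under
`F`) if and only if `Q` is defined over `k`, i.e. the place of `K` below `Q` has degree one. -/
theorem result
    (k K kb Kb : Type*) [Field k] [Finite k] [Field K] [Algebra k K] [Field kb] [Algebra k kb]
    [IsAlgClosure k kb] [Field Kb] [Algebra K Kb] [Algebra kb Kb]
    (hK : FunFld.IsFunctionField k K)
    (hc : ∀ c : k, algebraMap K Kb (algebraMap k K c) = algebraMap kb Kb (algebraMap k kb c))
    (hgen : Algebra.adjoin K (Set.range (algebraMap kb Kb)) = ⊤)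
    (F : Kb →+* Kb) (hF1 : ∀ c : kb, F (algebraMap kb Kb c) = algebraMap kb Kb c)
    (hF2 : ∀ x : K, F (algebraMap K Kb x) = algebraMap K Kb x ^ Nat.card k)
    (Q : FunFld.Place kb Kb) :
    (∀ z : Kb, Q.1 (F z) < 1 ↔ Q.1 z < 1) ↔
      ∃ P : FunFld.Place k K, (∀ x : K, Q.1 (algebraMap K Kb x) ≤ 1 ↔ P.1 x ≤ 1) ∧ P.deg = 1 := by
  exact main k K kb Kb hK hc hgen F hF1 hF2 Q

end Groth.Agent.S11068
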