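import Groth.Statements.S11071
import Mathlib
import Groth.Agent.Lib.Helper10.Jac8

set_option autoImplicit false
open FunFld

namespace Groth.Agent.S11071

set_option linter.style.haveILetI false
open MvPolynomial Groth.Agent.Lib.helper10 Groth.Agent.Lib.helper10.Jac Groth.Agent.Lib.helper10.FF

theorem main (k K : Type*) [Field k] [IsAlgClosed k] [Field K] [Algebra k K]
    (hK : FunFld.IsFunctionField k K) {n : ℕ} (hn : 1 ≤ n)
    (φ : Fin (n + 1) → K) (hφ : LinearIndependent k φ)
    (hbir : IntermediateField.adjoin k (Set.range fun i => φ i / φ 0) = ⊤)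
    (P : FunFld.Place k K) (hP : ∀ i, P.1 (φ i) ≤ P.1 (φ 0)) {r : ℕ}
    (f : Fin r → MvPolynomial (Fin (n + 1)) k)
    (hhom : ∀ i, (f i).IsHomogeneous (f i).totalDegree)
    (hgen : Ideal.span (Set.range f) =
      RingHom.ker (MvPolynomial.aeval fun i => Polynomial.C (φ i) * Polynomial.X))
    (M : Matrix (Fin r) (Fin n) P.O)
    (hM : ∀ i j, ((M i j : P.O) : K) =
      MvPolynomial.aeval (fun l => φ l / φ 0) (MvPolynomial.pderiv j.succ (f i))) :
    FunFld.IsNonsingularAt φ P ↔ (M.map (IsLocalRing.residue P.O)).rank = n - 1 := by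
  have h0 : ∀ i, φ i ≠ 0 := fun i => hφ.ne_zero i
  obtain ⟨c, hc⟩ : ∃ c : Chart P (Fin (n + 1)), c.u = fun i => φ i / φ 0 :=
    ⟨chartOf hK φ P 0 (h0 0) hP, rfl⟩
  have hgen' : Ideal.span (Set.range f) = RingHom.ker (psi (k := k) φ) := hgen
  have hJ := isNonsingularAt_iff_finrank hK φ h0 P 0 hP hbir c hc (Set.range f)
    (by rintro _ ⟨i, rfl⟩; exact ⟨_, hhom i⟩) hgen'
  rw [hJ]
  -- basic facts on the centre
  have hker := ker_aeval_div_eq (k := k) φ 0 (h0 0)
  rw [← hc] at hker
  have hf0 : ∀ i, eval c.a (f i) = 0 := by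
    intro i
    apply c.eval_eq_zero_of_aeval_eq_zero
    have h1 : f i ∈ RingHom.ker (psi (k := k) φ) := by
      rw [← hgen']; exact Ideal.subset_span ⟨i, rfl⟩
    have h2 : f i ∈ RingHom.ker (aeval (R := k) c.u) := by
      rw [hker]; exact Ideal.mem_sup_left h1
    exact h2
  have ha0 : c.a 0 = 1 := by
    have h2 : (X 0 - 1 : MvPolynomial (Fin (n + 1)) k) ∈ RingHom.ker (aeval (R := k) c.u) := by
      rw [hker]; exact Ideal.mem_sup_right (Ideal.mem_span_singleton_self _)
    have := c.eval_eq_zero_of_aeval_eq_zero h2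
    rw [map_sub, eval_X, map_one, sub_eq_zero] at this
    exact this
  -- the Jacobian matrix over `k`
  obtain ⟨D, hD⟩ : ∃ D : Matrix (Fin r) (Fin (n + 1)) k, ∀ i l, D i l = grad c.a (f i) l :=
    ⟨Matrix.of fun i l => grad c.a (f i) l, fun _ _ => rfl⟩
  have hrow : grad c.a '' Set.range f = Set.range D.row := by
    ext v
    constructor
    · rintro ⟨_, ⟨i, rfl⟩, rfl⟩
      exact ⟨i, funext fun l => hD i l⟩
    · rintro ⟨i, rfl⟩
      exact ⟨f i, ⟨i, rfl⟩, funext fun l => (hD i l).symm⟩
  rw [hrow, ← Matrix.rank_eq_finrank_span_row]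
  obtain ⟨D', hD'⟩ : ∃ D' : Matrix (Fin r) (Fin n) k, ∀ i j, D' i j = D i j.succ :=
    ⟨D.submatrix id Fin.succ, fun _ _ => rfl⟩
  have hMD : M.map (IsLocalRing.residue P.O) =
      D'.map (algebraMap k (IsLocalRing.ResidueField P.O)) := by
    ext i j
    simp only [Matrix.map_apply]
    rw [hD', hD]
    exact c.residue_aeval (pderiv j.succ (f i)) (M i j) (by rw [hM i j, hc])
  rw [hMD, rank_map_of_bijective _ (algebraMap_residueField_bijective hK P)]
  have hrank : D'.rank = D.rank := by
    rw [Matrix.rank_eq_finrank_span_cols, Matrix.rank_eq_finrank_span_cols]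
    suffices hspan : Submodule.span k (Set.range D'.col) = Submodule.span k (Set.range D.col) by
      rw [hspan]
    apply le_antisymm
    · rw [Submodule.span_le]
      rintro _ ⟨j, rfl⟩
      apply Submodule.subset_span
      exact ⟨j.succ, funext fun i => (hD' i j).symm⟩
    · rw [Submodule.span_le]
      rintro _ ⟨l, rfl⟩
      refine Fin.cases ?_ (fun j => ?_) l
      · have e : D.col 0 = - ∑ j : Fin n, c.a j.succ • D'.col j := by
          funext i
          have hE := euler_grad c.a (hhom i) (hf0 i)
          rw [Fin.sum_univ_succ, ha0, one_mul] at hE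
          simp only [Matrix.col_apply, Pi.neg_apply, Finset.sum_apply, Pi.smul_apply, smul_eq_mul]
          rw [hD, eq_neg_iff_add_eq_zero, ← hE]
          congr 1
          apply Finset.sum_congr rfl
          intro j _
          rw [hD', hD]
        rw [e]
        exact neg_mem (sum_mem fun j _ => Submodule.smul_mem _ _ (Submodule.subset_span ⟨j, rfl⟩))
      · apply Submodule.subset_span
        exact ⟨j, funext fun i => hD' i j⟩
  rw [hrank, Fintype.card_fin]
  omega



/-- Over an algebraically closed constant field, let `φ = (φ₀, …, φₙ)`, `n ≥ 1`, be a birational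
projective map, `f₁, …, f_r` homogeneous generators of its ideal of homogeneous relations (the ideal
of the image curve), and `P` a place at which all `φᵢ/φ₀` are integral, with image point `a`. Then
`φ` is nonsingular at `P` if and only if the matrix `(∂fᵢ/∂Xⱼ(a))`, `1 ≤ j ≤ n`, has rank `n - 1`
(entries read in the residue field of `P`). Here the local ring of `φ` at `P` consists of the
quotients of polynomials over `k` in the ratios `φᵢ/φ₀` with denominator a unit at `P`; `φ` is
nonsingular at `P` when this ring is the whole valuation ring. -/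
theorem result (k K : Type*) [Field k] [IsAlgClosed k] [Field K] [Algebra k K]
    (hK : FunFld.IsFunctionField k K) {n : ℕ} (hn : 1 ≤ n)
    (φ : Fin (n + 1) → K) (hφ : LinearIndependent k φ)
    (hbir : IntermediateField.adjoin k (Set.range fun i => φ i / φ 0) = ⊤)
    (P : FunFld.Place k K) (hP : ∀ i, P.1 (φ i) ≤ P.1 (φ 0)) {r : ℕ}
    (f : Fin r → MvPolynomial (Fin (n + 1)) k)
    (hhom : ∀ i, (f i).IsHomogeneous (f i).totalDegree)
    (hgen : Ideal.span (Set.range f) =
      RingHom.ker (MvPolynomial.aeval fun i => Polynomial.C (φ i) * Polynomial.X))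
    (M : Matrix (Fin r) (Fin n) P.O)
    (hM : ∀ i j, ((M i j : P.O) : K) =
      MvPolynomial.aeval (fun l => φ l / φ 0) (MvPolynomial.pderiv j.succ (f i))) :
    FunFld.IsNonsingularAt φ P ↔ (M.map (IsLocalRing.residue P.O)).rank = n - 1 := by
  exact main k K hK hn φ hφ hbir P hP f hhom hgen M hM

end Groth.Agent.S11071
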