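import Groth.Statements.S11072
import Mathlib
import Groth.Agent.Lib.Helper10.Jac10

set_option autoImplicit false
open FunFld

namespace Groth.Agent.S11072

set_option linter.style.haveILetI false
open MvPolynomial Groth.Agent.Lib.helper10 Groth.Agent.Lib.helper10.Jac Groth.Agent.Lib.helper10.FF

/-- Scaling the tuple does not change the ideal of homogeneous relations. -/
theorem ker_psi_mul {k K : Type*} [Field k] [Field K] [Algebra k K] {σ : Type*}
    (v : σ → K) (c : K) (hc : c ≠ 0) :
    RingHom.ker (psi (k := k) fun i => c * v i) = RingHom.ker (psi (k := k) v) := by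
  ext G
  rw [RingHom.mem_ker, RingHom.mem_ker, psi_eq_zero_iff, psi_eq_zero_iff]
  apply forall_congr'
  intro d
  rw [aeval_mul_of_isHomogeneous (k := k) v c (homogeneousComponent_isHomogeneous d G),
    mul_eq_zero]
  constructor
  · rintro (h | h)
    · exact absurd h (pow_ne_zero _ hc)
    · exact h
  · intro h; exact Or.inr h

theorem aeval_residue_eq {k K : Type*} [Field k] [Field K] [Algebra k K] {σ : Type*}
    (P : Place k K) (a : σ → k) (G : MvPolynomial σ k) :
    aeval (fun i => algebraMap k (IsLocalRing.ResidueField P.O) (a i)) G =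
      algebraMap k (IsLocalRing.ResidueField P.O) (eval a G) := by
  have h : (aeval fun i => algebraMap k (IsLocalRing.ResidueField P.O) (a i)) =
      (Algebra.ofId k (IsLocalRing.ResidueField P.O)).comp (aeval a) := by
    apply algHom_ext
    intro i
    simp [Algebra.ofId_apply]
  rw [h]
  rfl

theorem main (k K : Type*) [Field k] [IsAlgClosed k] [Field K] [Algebra k K]
    (hK : FunFld.IsFunctionField k K) (φ : Fin 3 → K)
    (hφ : LinearIndependent k φ)
    (hbir : IntermediateField.adjoin k (Set.range fun i => φ i / φ 0) = ⊤)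
    (f : MvPolynomial (Fin 3) k) (hf : Irreducible f) (hhom : f.IsHomogeneous f.totalDegree)
    (hfφ : MvPolynomial.aeval φ f = 0) (P : FunFld.Place k K) (j : Fin 3)
    (hj : ∀ i, P.1 (φ i) ≤ P.1 (φ j)) (a : Fin 3 → P.O) (ha : ∀ i, ((a i : P.O) : K) = φ i / φ j) :
    ¬ FunFld.IsNonsingularAt φ P ↔
      ∀ l : Fin 3, MvPolynomial.aeval (fun i => IsLocalRing.residue P.O (a i))
        (MvPolynomial.pderiv l f) = 0 := by
  have h0 : ∀ i, φ i ≠ 0 := fun i => hφ.ne_zero i
  -- the plane model
  obtain ⟨x, hx⟩ : ∃ x, x = φ 1 / φ 0 := ⟨_, rfl⟩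
  obtain ⟨y, hy⟩ : ∃ y, y = φ 2 / φ 0 := ⟨_, rfl⟩
  have hxy : IntermediateField.adjoin k ({x, y} : Set K) = ⊤ := by
    rw [eq_top_iff, ← hbir, IntermediateField.adjoin_le_iff]
    rintro _ ⟨i, rfl⟩
    fin_cases i
    · show φ 0 / φ 0 ∈ _
      rw [div_self (h0 0)]
      exact one_mem _
    · show φ 1 / φ 0 ∈ _
      rw [← hx]
      exact IntermediateField.subset_adjoin _ _ (Set.mem_insert _ _)
    · show φ 2 / φ 0 ∈ _
      rw [← hy]
      exact IntermediateField.subset_adjoin _ _ (Set.mem_insert_of_mem _ rfl)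
  obtain ⟨F, hFirr, -, hFker⟩ := plane_ker_psi hK x y hxy
  have hφeq : φ = fun i => φ 0 * ![(1 : K), x, y] i := by
    funext i
    have h00 := h0 0
    fin_cases i
    · show φ 0 = φ 0 * 1
      rw [mul_one]
    · show φ 1 = φ 0 * x
      rw [hx]; field_simp
    · show φ 2 = φ 0 * y
      rw [hy]; field_simp
  have hkerφ : RingHom.ker (psi (k := k) φ) = Ideal.span {F} := by
    rw [← hFker]
    conv_lhs => rw [hφeq]
    exact ker_psi_mul _ _ (h0 0)
  have hfker : f ∈ RingHom.ker (psi (k := k) φ) := by
    rw [RingHom.mem_ker, psi_of_isHomogeneous φ hhom, hfφ, map_zero, zero_mul]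
  have hFf : F ∣ f := by
    rw [hkerφ, Ideal.mem_span_singleton] at hfker
    exact hfker
  have hgen : Ideal.span ({f} : Set (MvPolynomial (Fin 3) k)) = RingHom.ker (psi (k := k) φ) := by
    rw [hkerφ, Ideal.span_singleton_eq_span_singleton]
    exact (hFirr.associated_of_dvd hf hFf).symm
  -- the chart
  obtain ⟨c, hc⟩ : ∃ c : Chart P (Fin 3), c.u = fun i => φ i / φ j :=
    ⟨chartOf hK φ P j (h0 j) hj, rfl⟩
  have hbirj := adjoin_div_eq_top φ 0 j (h0 j) hbir
  have hJ := isNonsingularAt_iff_finrank hK φ h0 P j hj hbirj c hc {f}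
    (by rintro _ rfl; exact ⟨_, hhom⟩) hgen
  rw [hJ, Set.image_singleton]
  have hres : ∀ i, IsLocalRing.residue P.O (a i) =
      algebraMap k (IsLocalRing.ResidueField P.O) (c.a i) := by
    intro i
    apply residue_eq_algebraMap
    rw [ha i]
    have := c.hu i
    rw [hc] at this
    exact this
  have hres' : (fun i => IsLocalRing.residue P.O (a i)) =
      fun i => algebraMap k (IsLocalRing.ResidueField P.O) (c.a i) := funext hres
  rw [hres']
  have hiff : (∀ l : Fin 3, aeval (fun i => algebraMap k (IsLocalRing.ResidueField P.O) (c.a i))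
      (pderiv l f) = 0) ↔ grad c.a f = 0 := by
    constructor
    · intro h
      funext l
      have := h l
      rw [aeval_residue_eq, map_eq_zero] at this
      exact this
    · intro h l
      rw [aeval_residue_eq, map_eq_zero]
      exact congrFun h l
  rw [hiff, Fintype.card_fin]
  constructor
  · intro h
    by_contra hg
    exact h (by rw [finrank_span_singleton hg])
  · intro hg h
    rw [hg, Submodule.span_zero_singleton, finrank_bot] at h
    omega



/-- Over an algebraically closed constant field, a plane curve with defining irreducible homogeneous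
polynomial `f` and birational natural map `φ = (φ₀ : φ₁ : φ₂)` is singular at the point `a = φ(P)`
(coordinates `(φᵢ/φⱼ)(P)` for an entry `φⱼ` of least order at `P`, read in the residue field) if and
only if `∂f/∂Xᵢ(a) = 0` for `i = 0, 1, 2`. Here `φ` is nonsingular at `P` when its local ring there
(quotients of polynomials over `k` in the `φᵢ/φⱼ` with denominator a unit at `P`) is the whole
valuation ring. -/
theorem result (k K : Type*) [Field k] [IsAlgClosed k] [Field K] [Algebra k K]
    (hK : FunFld.IsFunctionField k K) (φ : Fin 3 → K)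
    (hφ : LinearIndependent k φ)
    (hbir : IntermediateField.adjoin k (Set.range fun i => φ i / φ 0) = ⊤)
    (f : MvPolynomial (Fin 3) k) (hf : Irreducible f) (hhom : f.IsHomogeneous f.totalDegree)
    (hfφ : MvPolynomial.aeval φ f = 0) (P : FunFld.Place k K) (j : Fin 3)
    (hj : ∀ i, P.1 (φ i) ≤ P.1 (φ j)) (a : Fin 3 → P.O) (ha : ∀ i, ((a i : P.O) : K) = φ i / φ j) :
    ¬ FunFld.IsNonsingularAt φ P ↔
      ∀ l : Fin 3, MvPolynomial.aeval (fun i => IsLocalRing.residue P.O (a i))
        (MvPolynomial.pderiv l f) = 0 := by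
  exact main k K hK φ hφ hbir f hf hhom hfφ P j hj a ha

end Groth.Agent.S11072
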