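import Groth.Statements.S11075
import Mathlib
import Groth.Agent.Lib.Helper10.FunFld8
-- import your own Groth.Agent.* helpers here

set_option autoImplicit false
open FunFld

namespace Groth.Agent.S11075

section helpers
open FunFld Groth.Agent.Lib.helper10.FF

section
variable {k K : Type*} [Field k] [Field K] [Algebra k K]

theorem aeval_scale {n : ℕ} (g : MvPolynomial (Fin n) k) (d : ℕ) (hg : g.IsHomogeneous d)
    (a : K) (x : Fin n → K) :
    MvPolynomial.aeval (fun i => a * x i) g = a ^ d * MvPolynomial.aeval x g := by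
  rw [MvPolynomial.aeval_def, MvPolynomial.aeval_def, MvPolynomial.eval₂_eq', MvPolynomial.eval₂_eq',
    Finset.mul_sum]
  refine Finset.sum_congr rfl fun m hm => ?_
  have hdeg : m.degree = d := by
    have := hg (MvPolynomial.mem_support_iff.mp hm)
    rw [← this, Finsupp.degree_eq_weight_one]
    rfl
  have : ∏ i, (a * x i) ^ m i = a ^ d * ∏ i, x i ^ m i := by
    simp_rw [mul_pow]
    rw [Finset.prod_mul_distrib, Finset.prod_pow_eq_pow_sum]
    congr 2
    rw [← hdeg, Finsupp.degree_eq_sum]
  rw [this]
  ring

theorem main (hK : FunFld.IsFunctionField k K) {n : ℕ} (hn : 1 ≤ n)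
    (φ : Fin (n + 1) → K) (hφ : LinearIndependent k φ) :
    (∀ g : MvPolynomial (Fin (n + 1)) k, g.IsHomogeneous g.totalDegree →
      MvPolynomial.aeval φ g ≠ 0 →
        {P : FunFld.Place k K | ∃ j, φ j ≠ 0 ∧ (∀ i, P.1 (φ i) ≤ P.1 (φ j)) ∧
          P.1 (MvPolynomial.aeval (fun i => φ i / φ j) g) < 1}.Finite) ∧
    ∀ P : FunFld.Place k K, {Q : FunFld.Place k K | FunFld.SameImage φ P Q}.Finite := by
  constructor
  · intro g hg hy
    set y := MvPolynomial.aeval φ g with hydef
    have hfin : ({P : Place k K | P.1 y < 1} ∪ ⋃ i, {P : Place k K | 1 < P.1 (φ i)}).Finite :=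
      (zeros_finite hK hy).union (Set.finite_iUnion fun i => poles_finite hK (φ i))
    refine hfin.subset ?_
    rintro P ⟨j, hφj, hjmax, hlt⟩
    by_cases hpole : ∃ i, 1 < P.1 (φ i)
    · right
      obtain ⟨i, hi⟩ := hpole
      exact Set.mem_iUnion.mpr ⟨i, hi⟩
    · left
      push Not at hpole
      have hsc : MvPolynomial.aeval (fun i => φ i / φ j) g = (φ j)⁻¹ ^ g.totalDegree * y := by
        have := aeval_scale g g.totalDegree hg (φ j)⁻¹ φ
        rw [← this]
        congr 2
        funext i
        rw [div_eq_inv_mul]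
      rw [hsc, map_mul, map_pow, map_inv₀] at hlt
      have hvj : P.1 (φ j) ≠ 0 := (P.1.ne_zero_iff).mpr hφj
      have h1 : (1 : WithZero (Multiplicative ℤ)) ≤ (P.1 (φ j))⁻¹ ^ g.totalDegree :=
        one_le_pow₀ ((one_le_inv₀ (zero_lt_iff.mpr hvj)).mpr (hpole j))
      change P.1 y < 1
      calc P.1 y = 1 * P.1 y := (one_mul _).symm
        _ ≤ (P.1 (φ j))⁻¹ ^ g.totalDegree * P.1 y := mul_le_mul' h1 le_rfl
        _ < 1 := hlt
  · intro P
    -- for each pair (j, i) the set of places with a common constant is finite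
    have hZ : ∀ j i : Fin (n + 1), i ≠ j →
        {Q : Place k K | ∃ c : k, P.1 (φ i / φ j - algebraMap k K c) < 1 ∧
          Q.1 (φ i / φ j - algebraMap k K c) < 1}.Finite := by
      intro j i hij
      by_cases hex : ∃ c0 : k, P.1 (φ i / φ j - algebraMap k K c0) < 1
      · obtain ⟨c0, hc0⟩ := hex
        have hne : φ i / φ j - algebraMap k K c0 ≠ 0 := by
          intro h0
          have hφj : φ j ≠ 0 := hφ.ne_zero j
          have h1 : φ i = c0 • φ j := by
            rw [sub_eq_zero, div_eq_iff hφj] at h0
            rw [h0, Algebra.smul_def]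
          have := Fintype.linearIndependent_iff.mp hφ (Pi.single i 1 - Pi.single j c0) (by
            simp only [Pi.sub_apply, sub_smul, Finset.sum_sub_distrib]
            rw [Finset.sum_eq_single i, Finset.sum_eq_single j]
            · simp [h1]
            · intro b _ hb; simp [hb]
            · simp
            · intro b _ hb; simp [hb]
            · simp) i
          simp [hij] at this
        refine (zeros_finite hK hne).subset ?_
        rintro Q ⟨c, hcP, hcQ⟩
        have hcc : c = c0 := by
          by_contra hne'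
          have h1 : P.1 (algebraMap k K (c0 - c)) = 1 := Place.trivOn P _ (sub_ne_zero.mpr (Ne.symm hne'))
          have h2 : algebraMap k K (c0 - c) =
              (φ i / φ j - algebraMap k K c) - (φ i / φ j - algebraMap k K c0) := by
            rw [map_sub]; ring
          rw [h2] at h1
          have h3 := lt_of_le_of_lt (P.1.map_sub _ _) (max_lt hcP hc0)
          rw [h1] at h3
          exact lt_irrefl _ h3
        rw [hcc] at hcQ
        exact hcQ
      · convert Set.finite_empty
        ext Q
        simp only [Set.mem_ofPred_eq, Set.mem_empty_iff_false, iff_false]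
        rintro ⟨c, hc, -⟩
        exact hex ⟨c, hc⟩
    have hfin : (⋃ j : Fin (n + 1), ⋃ i : {i : Fin (n + 1) // i ≠ j},
        {Q : Place k K | ∃ c : k, P.1 (φ i.1 / φ j - algebraMap k K c) < 1 ∧
          Q.1 (φ i.1 / φ j - algebraMap k K c) < 1}).Finite :=
      Set.finite_iUnion fun j => Set.finite_iUnion fun i => hZ j i.1 i.2
    refine hfin.subset ?_
    rintro Q ⟨j, hφj, hjP, hjQ, hc⟩
    -- choose i ≠ j
    obtain ⟨i, hij⟩ : ∃ i : Fin (n + 1), i ≠ j := by
      by_cases hj0 : j = 0
      · refine ⟨1, ?_⟩
        rw [hj0]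
        intro h
        have := congrArg Fin.val h
        simp only [Fin.val_zero] at this
        rw [Fin.val_one'] at this
        have : 1 % (n + 1) = 1 := Nat.mod_eq_of_lt (by omega)
        omega
      · exact ⟨0, Ne.symm hj0⟩
    exact Set.mem_iUnion.mpr ⟨j, Set.mem_iUnion.mpr ⟨⟨i, hij⟩, hc i⟩⟩

end
end helpers

/-- Over an algebraically closed constant field, let `φ = (φ₀, …, φₙ)`, `n ≥ 1`, be a projective map
onto the curve `V`. (a) A homogeneous `g` not vanishing identically on `V` vanishes at the image
point of only finitely many places (so a closed set not containing `V` meets `V` in a finite set);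
(b) each fibre of `φ` is finite. Here `g` vanishes at `φ(P)` when `g(φ₀/φⱼ, …, φₙ/φⱼ)` lies in the
maximal ideal of `P` for an entry `φⱼ` of least order at `P`. Two places have the same image point
when some entry `φⱼ` has least order at both and each `φᵢ/φⱼ` is congruent to one constant modulo
both maximal ideals. -/
theorem result (k K : Type*) [Field k] [IsAlgClosed k] [Field K] [Algebra k K]
    (hK : FunFld.IsFunctionField k K) {n : ℕ} (hn : 1 ≤ n)
    (φ : Fin (n + 1) → K) (hφ : LinearIndependent k φ) :
    (∀ g : MvPolynomial (Fin (n + 1)) k, g.IsHomogeneous g.totalDegree →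
      MvPolynomial.aeval φ g ≠ 0 →
        {P : FunFld.Place k K | ∃ j, φ j ≠ 0 ∧ (∀ i, P.1 (φ i) ≤ P.1 (φ j)) ∧
          P.1 (MvPolynomial.aeval (fun i => φ i / φ j) g) < 1}.Finite) ∧
    ∀ P : FunFld.Place k K, {Q : FunFld.Place k K | FunFld.SameImage φ P Q}.Finite := by
  exact main hK hn φ hφ

end Groth.Agent.S11075
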