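import Groth.Statements.S11074
import Mathlib
import Groth.Agent.S11066
import Groth.Agent.S11075
-- import your own Groth.Agent.* helpers here

set_option autoImplicit false
open FunFld

namespace Groth.Agent.S11074

section helpers
open FunFld Groth.Agent.Lib.helper10.FF

section
variable {k K : Type*} [Field k] [Field K] [Algebra k K]

/-- first order Taylor expansion modulo the square of the maximal ideal -/
theorem taylor {σ : Type*} [Fintype σ] [DecidableEq σ] (P : Place k K) (α : σ → k) (a : σ → K)
    (hs : ∀ i, P.1 (a i - algebraMap k K (α i)) < 1) (f : MvPolynomial σ k) :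
    P.1 (MvPolynomial.aeval a f - algebraMap k K (MvPolynomial.eval α f) -
      ∑ i, algebraMap k K (MvPolynomial.eval α (MvPolynomial.pderiv i f)) *
        (a i - algebraMap k K (α i))) ≤ WithZero.exp (-2 : ℤ) := by
  have hs' : ∀ i, P.1 (a i - algebraMap k K (α i)) ≤ WithZero.exp (-1 : ℤ) :=
    fun i => (Groth.Agent.S11066.lt_one_iff_le_exp _).mp (hs i)
  have ha : ∀ i, P.1 (a i) ≤ 1 := by
    intro i
    have : a i = (a i - algebraMap k K (α i)) + algebraMap k K (α i) := by ring
    rw [this]
    exact (P.1.map_add _ _).trans (max_le (hs i).le (P.2.1 _))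
  have hD : ∀ g : MvPolynomial σ k, P.1 (∑ i, algebraMap k K (MvPolynomial.eval α (MvPolynomial.pderiv i g)) *
        (a i - algebraMap k K (α i))) ≤ WithZero.exp (-1 : ℤ) := by
    intro g
    refine Valuation.map_sum_le _ fun i _ => ?_
    rw [map_mul]
    exact (mul_le_of_le_one_left' (P.2.1 _)).trans (hs' i)
  induction f using MvPolynomial.induction_on with
  | C c => simp
  | add f g hf hg =>
    have : MvPolynomial.aeval a (f + g) - algebraMap k K (MvPolynomial.eval α (f + g)) -
        ∑ i, algebraMap k K (MvPolynomial.eval α (MvPolynomial.pderiv i (f + g))) *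
          (a i - algebraMap k K (α i)) =
        (MvPolynomial.aeval a f - algebraMap k K (MvPolynomial.eval α f) -
          ∑ i, algebraMap k K (MvPolynomial.eval α (MvPolynomial.pderiv i f)) *
            (a i - algebraMap k K (α i))) +
        (MvPolynomial.aeval a g - algebraMap k K (MvPolynomial.eval α g) -
          ∑ i, algebraMap k K (MvPolynomial.eval α (MvPolynomial.pderiv i g)) *
            (a i - algebraMap k K (α i))) := by
      simp only [map_add, add_mul, Finset.sum_add_distrib]
      ring
    rw [this]
    exact (P.1.map_add _ _).trans (max_le hf hg)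
  | mul_X f l hf =>
    have : MvPolynomial.aeval a (f * MvPolynomial.X l) -
        algebraMap k K (MvPolynomial.eval α (f * MvPolynomial.X l)) -
        ∑ i, algebraMap k K (MvPolynomial.eval α (MvPolynomial.pderiv i (f * MvPolynomial.X l))) *
          (a i - algebraMap k K (α i)) =
        (MvPolynomial.aeval a f - algebraMap k K (MvPolynomial.eval α f) -
          ∑ i, algebraMap k K (MvPolynomial.eval α (MvPolynomial.pderiv i f)) *
            (a i - algebraMap k K (α i))) * a l +
        (∑ i, algebraMap k K (MvPolynomial.eval α (MvPolynomial.pderiv i f)) *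
            (a i - algebraMap k K (α i))) * (a l - algebraMap k K (α l)) := by
      simp only [map_mul, MvPolynomial.aeval_X, MvPolynomial.eval_X, MvPolynomial.pderiv_mul,
        MvPolynomial.pderiv_X, map_add, add_mul, Finset.sum_add_distrib]
      have h1 : ∑ i, algebraMap k K (MvPolynomial.eval α f) *
          algebraMap k K (MvPolynomial.eval α (Pi.single (M := fun _ => MvPolynomial σ k) i 1 l)) *
            (a i - algebraMap k K (α i)) =
          algebraMap k K (MvPolynomial.eval α f) * (a l - algebraMap k K (α l)) := by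
        rw [Finset.sum_eq_single l]
        · simp
        · intro b _ hb
          simp [hb]
        · simp
      rw [h1]
      have h2 : ∑ i, algebraMap k K (MvPolynomial.eval α (MvPolynomial.pderiv i f)) *
          algebraMap k K (α l) * (a i - algebraMap k K (α i)) =
          algebraMap k K (α l) * ∑ i, algebraMap k K (MvPolynomial.eval α (MvPolynomial.pderiv i f)) *
            (a i - algebraMap k K (α i)) := by
        rw [Finset.mul_sum]
        exact Finset.sum_congr rfl fun i _ => by ring
      rw [h2]
      ring
    rw [this]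
    refine (P.1.map_add _ _).trans (max_le ?_ ?_)
    · rw [map_mul]
      exact (mul_le_of_le_one_right' (ha l)).trans hf
    · rw [map_mul]
      calc _ ≤ WithZero.exp (-1 : ℤ) * WithZero.exp (-1 : ℤ) := mul_le_mul' (hD f) (hs' l)
        _ = WithZero.exp (-2 : ℤ) := by rw [← WithZero.exp_add]; norm_num

theorem main [IsAlgClosed k]
    (hK : FunFld.IsFunctionField k K) (φ : Fin 3 → K) (hφ : LinearIndependent k φ)
    (f : MvPolynomial (Fin 3) k) (hhom : f.IsHomogeneous f.totalDegree)
    (hfφ : MvPolynomial.aeval φ f = 0) (P : FunFld.Place k K) (j : Fin 3)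
    (hj : ∀ i, P.1 (φ i) ≤ P.1 (φ j)) (a : Fin 3 → P.O)
    (ha : ∀ i, ((a i : P.O) : K) = φ i / φ j) (c : Fin 3 → k)
    (hc : ∀ i, algebraMap k (IsLocalRing.ResidueField P.O) (c i) =
      MvPolynomial.aeval (fun l => IsLocalRing.residue P.O (a l)) (MvPolynomial.pderiv i f)) :
    P.1 (∑ i, c i • (φ i / φ j)) ≤ WithZero.exp (-2) := by
  have hφj : φ j ≠ 0 := hφ.ne_zero j
  have hvj : P.1 (φ j) ≠ 0 := (P.1.ne_zero_iff).mpr hφj
  let r : Fin 3 → K := fun i => φ i / φ j
  have hr : ∀ i, P.1 (r i) ≤ 1 := by
    intro i
    simp only [r]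
    rw [map_div₀, div_le_iff₀ (zero_lt_iff.mpr hvj), one_mul]
    exact hj i
  choose α hα using fun i => Groth.Agent.S11066.exists_const hK P (r i) (hr i)
  -- f(r) = 0
  have hfr : MvPolynomial.aeval r f = 0 := by
    have := Groth.Agent.S11075.aeval_scale f f.totalDegree hhom (φ j)⁻¹ φ
    have h2 : (fun i => (φ j)⁻¹ * φ i) = r := by
      funext i
      simp only [r]
      rw [div_eq_inv_mul]
    rw [h2, hfφ, mul_zero] at this
    exact this
  have hT := taylor P α r hα f
  rw [hfr, zero_sub] at hT
  set D := ∑ i, algebraMap k K (MvPolynomial.eval α (MvPolynomial.pderiv i f)) *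
        (r i - algebraMap k K (α i)) with hD
  have hDlt : P.1 D < 1 := by
    have : P.1 D ≤ WithZero.exp (-1 : ℤ) := by
      refine Valuation.map_sum_le _ fun i _ => ?_
      rw [map_mul]
      exact (mul_le_of_le_one_left' (P.2.1 _)).trans
        ((Groth.Agent.S11066.lt_one_iff_le_exp _).mp (hα i))
    exact lt_of_le_of_lt this Groth.Agent.S11066.exp_neg_one_lt_one
  -- f(α) = 0
  have hfα : MvPolynomial.eval α f = 0 := by
    by_contra hne
    have h1 : P.1 (algebraMap k K (MvPolynomial.eval α f)) = 1 := Place.trivOn P _ hne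
    have h2 : algebraMap k K (MvPolynomial.eval α f) =
        -(-algebraMap k K (MvPolynomial.eval α f) - D) - D := by ring
    rw [h2] at h1
    have h3 : P.1 (-(-algebraMap k K (MvPolynomial.eval α f) - D) - D) < 1 := by
      refine lt_of_le_of_lt (P.1.map_sub _ _) (max_lt ?_ hDlt)
      rw [Valuation.map_neg]
      exact lt_of_le_of_lt hT (lt_trans Groth.Agent.S11066.exp_neg_two_lt
        Groth.Agent.S11066.exp_neg_one_lt_one)
    rw [h1] at h3
    exact lt_irrefl _ h3
  rw [hfα, map_zero, neg_zero, zero_sub, Valuation.map_neg] at hT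
  -- identify c i with the partial derivatives at α
  have hres : ∀ l, IsLocalRing.residue P.O (a l) =
      algebraMap k (IsLocalRing.ResidueField P.O) (α l) := by
    intro l
    have h1 : IsLocalRing.residue P.O (a l - algebraMap k P.O (α l)) = 0 := by
      rw [Groth.Agent.S11066.residue_eq_zero_iff']
      have : ((a l - algebraMap k P.O (α l) : P.O) : K) = (a l : K) - algebraMap k K (α l) := rfl
      rw [this, ha l]
      exact hα l
    rw [map_sub, sub_eq_zero] at h1
    exact h1
  have hci : ∀ i, c i = MvPolynomial.eval α (MvPolynomial.pderiv i f) := by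
    intro i
    have h1 := hc i
    have h2 : (fun l => IsLocalRing.residue P.O (a l)) =
        (algebraMap k (IsLocalRing.ResidueField P.O)) ∘ α := by
      funext l
      exact hres l
    have h3 : ∀ q : MvPolynomial (Fin 3) k,
        MvPolynomial.aeval ((algebraMap k (IsLocalRing.ResidueField P.O)) ∘ α) q =
        algebraMap k (IsLocalRing.ResidueField P.O) (MvPolynomial.eval α q) := by
      intro q
      rw [MvPolynomial.aeval_def, MvPolynomial.eval, MvPolynomial.coe_eval₂Hom,
        MvPolynomial.eval₂_comp_left, RingHom.comp_id]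
    rw [h2, h3] at h1
    exact (algebraMap k (IsLocalRing.ResidueField P.O)).injective h1
  -- Euler
  have hEuler : ∑ i, α i * MvPolynomial.eval α (MvPolynomial.pderiv i f) = 0 := by
    have := congrArg (MvPolynomial.eval α) hhom.sum_X_mul_pderiv
    simp only [map_sum, map_mul, MvPolynomial.eval_X, map_nsmul, hfα, smul_zero] at this
    exact this
  have hfinal : ∑ i, c i • (φ i / φ j) = D := by
    have h1 : ∑ i, c i • (φ i / φ j) =
        ∑ i, (algebraMap k K (MvPolynomial.eval α (MvPolynomial.pderiv i f)) *
          (r i - algebraMap k K (α i)) +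
          algebraMap k K (α i * MvPolynomial.eval α (MvPolynomial.pderiv i f))) := by
      refine Finset.sum_congr rfl fun i _ => ?_
      rw [hci i, Algebra.smul_def, map_mul]
      simp only [r]
      ring
    rw [h1, Finset.sum_add_distrib, ← map_sum, hEuler, map_zero, add_zero]
  rw [hfinal]
  exact hT

end
end helpers

/-- Over an algebraically closed constant field, at a nonsingular point `a = φ(P)` of a plane curve
`V(f)` with birational natural map `φ = (φ₀ : φ₁ : φ₂)`, the tangent line is `(∂f/∂X₀(a) : ∂f/∂X₁(a)
: ∂f/∂X₂(a))`: the corresponding linear form, pulled back along `φ` normalized at `P`, vanishes to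
order at least `2` at `P` (the tangent line being the one line whose pullback vanishes to order `≥
2`). Nonsingular at `P` means that the local ring of `φ` at `P` (quotients of polynomials over `k`
in the `φᵢ/φⱼ`, `φⱼ` of least order at `P`, denominator a unit at `P`) is the whole valuation ring. -/
theorem result
    (k K : Type*) [Field k] [IsAlgClosed k] [Field K] [Algebra k K]
    (hK : FunFld.IsFunctionField k K) (φ : Fin 3 → K) (hφ : LinearIndependent k φ)
    (hbir : IntermediateField.adjoin k (Set.range fun i => φ i / φ 0) = ⊤)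
    (f : MvPolynomial (Fin 3) k) (hf : Irreducible f) (hhom : f.IsHomogeneous f.totalDegree)
    (hfφ : MvPolynomial.aeval φ f = 0) (P : FunFld.Place k K) (j : Fin 3)
    (hj : ∀ i, P.1 (φ i) ≤ P.1 (φ j)) (hns : FunFld.IsNonsingularAt φ P) (a : Fin 3 → P.O)
    (ha : ∀ i, ((a i : P.O) : K) = φ i / φ j) (c : Fin 3 → k)
    (hc : ∀ i, algebraMap k (IsLocalRing.ResidueField P.O) (c i) =
      MvPolynomial.aeval (fun l => IsLocalRing.residue P.O (a l)) (MvPolynomial.pderiv i f)) :
    P.1 (∑ i, c i • (φ i / φ j)) ≤ WithZero.exp (-2) := by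
  exact main hK φ hφ f hhom hfφ P j hj a ha c hc

end Groth.Agent.S11074
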