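import Groth.Statements.S11078
import Mathlib
import Groth.Agent.S11066
-- import your own Groth.Agent.* helpers here

set_option autoImplicit false
open FunFld

namespace Groth.Agent.S11078

section helpers
open FunFld Groth.Agent.Lib.helper10.FF

section
variable {k K : Type*} [Field k] [Field K] [Algebra k K]

/-- elements of `k[ρ]` are congruent to constants simultaneously at `P` and `Q` when the generators
are -/
theorem common_const {ι : Type*} (ρ : ι → K) (P Q : Place k K)
    (hρ : ∀ i, ∃ c : k, P.1 (ρ i - algebraMap k K c) < 1 ∧ Q.1 (ρ i - algebraMap k K c) < 1)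
    (u : K) (hu : u ∈ Algebra.adjoin k (Set.range ρ)) :
    ∃ c : k, P.1 (u - algebraMap k K c) < 1 ∧ Q.1 (u - algebraMap k K c) < 1 := by
  have hle : ∀ (R : Place k K) (x : K) (c : k), R.1 (x - algebraMap k K c) < 1 → R.1 x ≤ 1 := by
    intro R x c h
    have : x = (x - algebraMap k K c) + algebraMap k K c := by ring
    rw [this]
    exact (R.1.map_add _ _).trans (max_le h.le (R.2.1 c))
  induction hu using Algebra.adjoin_induction with
  | mem x hx => obtain ⟨i, rfl⟩ := hx; exact hρ i
  | algebraMap r => exact ⟨r, by simp, by simp⟩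
  | add x y _ _ hx hy =>
    obtain ⟨c, hcP, hcQ⟩ := hx
    obtain ⟨c', hcP', hcQ'⟩ := hy
    refine ⟨c + c', ?_, ?_⟩
    · have : x + y - algebraMap k K (c + c') =
          (x - algebraMap k K c) + (y - algebraMap k K c') := by rw [map_add]; ring
      rw [this]
      exact lt_of_le_of_lt (P.1.map_add _ _) (max_lt hcP hcP')
    · have : x + y - algebraMap k K (c + c') =
          (x - algebraMap k K c) + (y - algebraMap k K c') := by rw [map_add]; ring
      rw [this]
      exact lt_of_le_of_lt (Q.1.map_add _ _) (max_lt hcQ hcQ')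
  | mul x y _ _ hx hy =>
    obtain ⟨c, hcP, hcQ⟩ := hx
    obtain ⟨c', hcP', hcQ'⟩ := hy
    have key : ∀ R : Place k K, R.1 (x - algebraMap k K c) < 1 → R.1 (y - algebraMap k K c') < 1 →
        R.1 (x * y - algebraMap k K (c * c')) < 1 := by
      intro R h1 h2
      have : x * y - algebraMap k K (c * c') =
          (x - algebraMap k K c) * y + algebraMap k K c * (y - algebraMap k K c') := by
        rw [map_mul]; ring
      rw [this]
      refine lt_of_le_of_lt (R.1.map_add _ _) (max_lt ?_ ?_)
      · rw [map_mul]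
        exact lt_of_le_of_lt (mul_le_of_le_one_right' (hle R y c' h2)) h1
      · rw [map_mul]
        exact lt_of_le_of_lt (mul_le_of_le_one_left' (R.2.1 c)) h2
    exact ⟨c * c', key P hcP hcP', key Q hcQ hcQ'⟩

theorem lt_one_iff_const_zero (R : Place k K) (u : K) (c : k)
    (h : R.1 (u - algebraMap k K c) < 1) : R.1 u < 1 ↔ c = 0 := by
  constructor
  · intro hu
    by_contra hc
    have h1 : R.1 (algebraMap k K c) = 1 := Place.trivOn R c hc
    have : algebraMap k K c = u - (u - algebraMap k K c) := by ring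
    rw [this] at h1
    have h2 : R.1 (u - (u - algebraMap k K c)) < 1 :=
      lt_of_le_of_lt (R.1.map_sub _ _) (max_lt hu h)
    rw [h1] at h2
    exact lt_irrefl _ h2
  · rintro rfl
    simpa using h

theorem eq_one_of_const_ne_zero (R : Place k K) (u : K) (c : k)
    (h : R.1 (u - algebraMap k K c) < 1) (hc : c ≠ 0) : R.1 u = 1 := by
  have h1 : R.1 (algebraMap k K c) = 1 := Place.trivOn R c hc
  have : u = (u - algebraMap k K c) + algebraMap k K c := by ring
  rw [this, Valuation.map_add_eq_of_lt_right _ (by rw [h1]; exact h), h1]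

theorem main [IsAlgClosed k]
    (hK : FunFld.IsFunctionField k K) {n : ℕ} (φ : Fin (n + 1) → K)
    (hφ : LinearIndependent k φ) (P Q : FunFld.Place k K) :
    FunFld.SameImage φ P Q ↔
      ∀ z : K, FunFld.InLocRing φ P z → (Q.1 z ≤ 1 ∧ (Q.1 z < 1 ↔ P.1 z < 1)) := by
  have hφ0 : ∀ i, φ i ≠ 0 := fun i => hφ.ne_zero i
  constructor
  · rintro ⟨j, hφj, hjP, hjQ, hc⟩ z ⟨j', hφj', hj'P, u, hu, w, hw, hw1, hzw⟩
    have hvPj : P.1 (φ j) ≠ 0 := (P.1.ne_zero_iff).mpr hφj
    have hvQj : Q.1 (φ j) ≠ 0 := (Q.1.ne_zero_iff).mpr hφj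
    -- the ratio φ j' / φ j
    have hPjj' : P.1 (φ j' / φ j) = 1 := by
      rw [map_div₀, le_antisymm (hjP j') (hj'P j), div_self hvPj]
    obtain ⟨cj', hcj'P, hcj'Q⟩ := hc j'
    have hcj'0 : cj' ≠ 0 := by
      intro h0
      have := (lt_one_iff_const_zero P _ _ hcj'P).mpr h0
      rw [hPjj'] at this
      exact lt_irrefl _ this
    have hQjj' : Q.1 (φ j' / φ j) = 1 := eq_one_of_const_ne_zero Q _ _ hcj'Q hcj'0
    -- generators of the local ring wrt j'
    have hgen : ∀ i, ∃ c : k, P.1 (φ i / φ j' - algebraMap k K c) < 1 ∧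
        Q.1 (φ i / φ j' - algebraMap k K c) < 1 := by
      intro i
      obtain ⟨ci, hciP, hciQ⟩ := hc i
      refine ⟨ci / cj', ?_, ?_⟩
      all_goals
        have hid : φ i / φ j' - algebraMap k K (ci / cj') =
            ((φ i / φ j - algebraMap k K ci) * algebraMap k K cj' -
              algebraMap k K ci * (φ j' / φ j - algebraMap k K cj')) /
              ((φ j' / φ j) * algebraMap k K cj') := by
          have h1 : algebraMap k K cj' ≠ 0 := (map_ne_zero _).mpr hcj'0
          rw [map_div₀]
          field_simp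
          ring
        rw [hid, map_div₀, map_mul]
      · rw [hPjj', Place.trivOn P cj' hcj'0, mul_one, div_one]
        refine lt_of_le_of_lt (P.1.map_sub _ _) (max_lt ?_ ?_)
        · rw [map_mul]
          exact lt_of_le_of_lt (mul_le_of_le_one_right' (P.2.1 _)) hciP
        · rw [map_mul]
          exact lt_of_le_of_lt (mul_le_of_le_one_left' (P.2.1 _)) hcj'P
      · rw [hQjj', Place.trivOn Q cj' hcj'0, mul_one, div_one]
        refine lt_of_le_of_lt (Q.1.map_sub _ _) (max_lt ?_ ?_)
        · rw [map_mul]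
          exact lt_of_le_of_lt (mul_le_of_le_one_right' (Q.2.1 _)) hciQ
        · rw [map_mul]
          exact lt_of_le_of_lt (mul_le_of_le_one_left' (Q.2.1 _)) hcj'Q
    obtain ⟨γu, hγuP, hγuQ⟩ := common_const (fun i => φ i / φ j') P Q hgen u hu
    obtain ⟨γw, hγwP, hγwQ⟩ := common_const (fun i => φ i / φ j') P Q hgen w hw
    have hγw0 : γw ≠ 0 := by
      intro h0
      have := (lt_one_iff_const_zero P _ _ hγwP).mpr h0
      rw [hw1] at this
      exact lt_irrefl _ this
    have hw1Q : Q.1 w = 1 := eq_one_of_const_ne_zero Q _ _ hγwQ hγw0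
    have hzP : P.1 z = P.1 u := by rw [← hzw, map_mul, hw1, mul_one]
    have hzQ : Q.1 z = Q.1 u := by rw [← hzw, map_mul, hw1Q, mul_one]
    have huQ : Q.1 u ≤ 1 := by
      have : u = (u - algebraMap k K γu) + algebraMap k K γu := by ring
      rw [this]
      exact (Q.1.map_add _ _).trans (max_le hγuQ.le (Q.2.1 _))
    refine ⟨hzQ ▸ huQ, ?_⟩
    rw [hzP, hzQ, lt_one_iff_const_zero Q _ _ hγuQ, lt_one_iff_const_zero P _ _ hγuP]
  · intro H
    -- choose j of maximal valuation at P
    obtain ⟨j, hj⟩ := Finite.exists_max (fun i => P.1 (φ i))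
    have hvPj : P.1 (φ j) ≠ 0 := (P.1.ne_zero_iff).mpr (hφ0 j)
    have hvQj : Q.1 (φ j) ≠ 0 := (Q.1.ne_zero_iff).mpr (hφ0 j)
    have hmem : ∀ u ∈ Algebra.adjoin k (Set.range fun i => φ i / φ j), InLocRing φ P u :=
      fun u hu => ⟨j, hφ0 j, hj, u, hu, 1, Subalgebra.one_mem _, map_one _, mul_one _⟩
    refine ⟨j, hφ0 j, hj, ?_, ?_⟩
    · intro i
      have h1 := (H _ (hmem _ (Algebra.subset_adjoin ⟨i, rfl⟩))).1
      rw [map_div₀, div_le_iff₀ (zero_lt_iff.mpr hvQj), one_mul] at h1
      exact h1
    · intro i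
      have hPi : P.1 (φ i / φ j) ≤ 1 := by
        rw [map_div₀, div_le_iff₀ (zero_lt_iff.mpr hvPj), one_mul]
        exact hj i
      obtain ⟨c, hc⟩ := Groth.Agent.S11066.exists_const hK P _ hPi
      refine ⟨c, hc, ?_⟩
      have hmem' : φ i / φ j - algebraMap k K c ∈
          Algebra.adjoin k (Set.range fun i => φ i / φ j) :=
        Subalgebra.sub_mem _ (Algebra.subset_adjoin ⟨i, rfl⟩) (Subalgebra.algebraMap_mem _ c)
      exact (H _ (hmem _ hmem')).2.mpr hc

end
end helpers

/-- Over an algebraically closed constant field, for a projective map `φ = (φ₀, …, φₙ)`, `n ≥ 1`, and a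
point `a = φ(P)` with local ring `O_a`, the fibre `φ⁻¹(a)` consists of the places `Q` with `O_a ⊆
O_Q` and `m_Q ∩ O_a` equal to the maximal ideal of `O_a` (which is `m_P ∩ O_a`). Here `O_a` consists
of the quotients of polynomials over `k` in the ratios `φᵢ/φⱼ`, `φⱼ` of least order at `P`, with
denominator a unit at `P`; and `Q` has the same image point as `P` when some entry has least order
at both places and the ratios are congruent to common constants modulo both maximal ideals. -/
theorem result
    (k K : Type*) [Field k] [IsAlgClosed k] [Field K] [Algebra k K]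
    (hK : FunFld.IsFunctionField k K) {n : ℕ} (hn : 1 ≤ n) (φ : Fin (n + 1) → K)
    (hφ : LinearIndependent k φ) (P Q : FunFld.Place k K) :
    FunFld.SameImage φ P Q ↔
      ∀ z : K, FunFld.InLocRing φ P z → (Q.1 z ≤ 1 ∧ (Q.1 z < 1 ↔ P.1 z < 1)) := by
  exact main hK φ hφ P Q

end Groth.Agent.S11078
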