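import Groth.Statements.S11079
import Mathlib

set_option autoImplicit false
universe u
open CAlg

namespace Groth.Agent.S11079

section
variable {K L : Type u} [Field K] [Field L] [Algebra K L] [FiniteDimensional K L] {n : ℕ}

/-- The twisted averaging map on vectors. -/
noncomputable def beta (B : (L ≃ₐ[K] L) → Matrix (Fin n) (Fin n) L) (x : Fin n → L) : Fin n → L :=
  ∑ σ : L ≃ₐ[K] L, (B σ).mulVec (fun i => σ (x i))

theorem beta_smul (B : (L ≃ₐ[K] L) → Matrix (Fin n) (Fin n) L) (h : L) (x : Fin n → L) :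
    beta B (h • x) = ∑ σ : L ≃ₐ[K] L, σ h • (B σ).mulVec (fun i => σ (x i)) := by
  unfold beta
  refine Finset.sum_congr rfl fun σ _ => ?_
  rw [← Matrix.mulVec_smul]
  congr 1
  ext i
  simp

/-- The vectors `beta B x` span everything, if `B 1` is invertible. -/
theorem span_beta (B : (L ≃ₐ[K] L) → Matrix (Fin n) (Fin n) L) (h1 : IsUnit (B 1)) :
    Submodule.span L (Set.range (beta B)) = ⊤ := by
  classical
  by_contra hne
  obtain ⟨u, hu0, hu⟩ := Submodule.exists_le_ker_of_lt_top _ (lt_top_iff_ne_top.mpr hne)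
  have hux : ∀ x, u (beta B x) = 0 := fun x => hu (Submodule.subset_span ⟨x, rfl⟩)
  have hli : LinearIndependent L (fun σ : L ≃ₐ[K] L => ((σ : L →ₐ[K] L).toLinearMap : L →ₗ[K] L)) :=
    (linearIndependent_toLinearMap K L L).comp (fun σ : L ≃ₐ[K] L => (σ : L →ₐ[K] L))
      (fun σ τ h => AlgEquiv.coe_toAlgHom_injective h)
  rw [Fintype.linearIndependent_iff] at hli
  have key : ∀ (x : Fin n → L) (σ : L ≃ₐ[K] L), u ((B σ).mulVec (fun i => σ (x i))) = 0 := by
    intro x
    apply hli (fun σ => u ((B σ).mulVec (fun i => σ (x i))))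
    ext h
    have := hux (h • x)
    rw [beta_smul, map_sum] at this
    simp only [map_smul, smul_eq_mul] at this
    simp only [LinearMap.coe_sum, Finset.sum_apply, LinearMap.smul_apply, AlgHom.toLinearMap_apply,
      AlgEquiv.coe_toAlgHom, smul_eq_mul, LinearMap.zero_apply]
    rw [← this]
    exact Finset.sum_congr rfl fun σ _ => mul_comm _ _
  apply hu0
  ext j
  obtain ⟨Binv, hBinv⟩ := h1.exists_right_inv
  have := key ((Binv).mulVec (Pi.single j 1)) 1
  simp only [AlgEquiv.one_apply] at this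
  rw [Matrix.mulVec_mulVec, hBinv, Matrix.one_mulVec] at this
  simpa using this

end

/-- Let L/K be a finite Galois extension of fields, n a natural number, and B a map from the Galois
group of L over K to the invertible n × n matrices over L such that B(σ) · σ(B(τ)) = B(στ) for all
σ, τ, where σ acts on matrices entrywise and στ is the automorphism applying τ first. Then there is
an invertible matrix A over L with B(σ) = A⁻¹ · σ(A) for every σ; that is, every 1-cocycle of the
Galois group with values in GL_n(L) is a coboundary. -/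
theorem result (K L : Type u) [Field K] [Field L]
    [Algebra K L] [FiniteDimensional K L] [IsGalois K L] (n : ℕ)
    (B : (L ≃ₐ[K] L) → GL (Fin n) L)
    (hB : ∀ σ τ : L ≃ₐ[K] L,
      (B σ : Matrix (Fin n) (Fin n) L) * (B τ : Matrix (Fin n) (Fin n) L).map σ = (B (σ * τ) : Matrix (Fin n) (Fin n) L)) :
    ∃ A : GL (Fin n) L, ∀ σ : L ≃ₐ[K] L,
      (B σ : Matrix (Fin n) (Fin n) L) = ((A⁻¹ : GL (Fin n) L) : Matrix (Fin n) (Fin n) L) * (A : Matrix (Fin n) (Fin n) L).map σ := by
  classical
  let Bm : (L ≃ₐ[K] L) → Matrix (Fin n) (Fin n) L := fun σ => (B σ : Matrix (Fin n) (Fin n) L)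
  have hB1 : IsUnit (Bm 1) := ⟨B 1, rfl⟩
  have hspan := span_beta Bm hB1
  -- extract a basis
  obtain ⟨b, hbsub, hbspan, hbli⟩ := exists_linearIndependent L (Set.range (beta Bm))
  rw [hspan] at hbspan
  let bas : Module.Basis b L (Fin n → L) :=
    Module.Basis.mk hbli (by rw [Subtype.range_coe]; exact hbspan.ge)
  have : Finite b := Module.Finite.finite_basis bas
  let _ : Fintype b := Fintype.ofFinite b
  have hcard : Fintype.card b = n := by
    rw [← Module.finrank_eq_card_basis bas, Module.finrank_fin_fun]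
  let e : Fin n ≃ b := (Fintype.equivFinOfCardEq hcard).symm
  have hx : ∀ j : Fin n, ∃ x : Fin n → L, beta Bm x = (e j : Fin n → L) := fun j => hbsub (e j).2
  choose x hx using hx
  let C : Matrix (Fin n) (Fin n) L := Matrix.of fun i j => x j i
  let bC : Matrix (Fin n) (Fin n) L := ∑ σ : L ≃ₐ[K] L, Bm σ * C.map σ
  have hcol : ∀ j, bC.col j = (e j : Fin n → L) := by
    intro j
    rw [← hx j]
    ext i
    simp only [bC, Matrix.col_apply, Matrix.sum_apply, beta, Finset.sum_apply, Matrix.mul_apply,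
      Matrix.mulVec, dotProduct, Matrix.map_apply, C, Matrix.of_apply]
  have hunit : IsUnit bC := by
    rw [← Matrix.linearIndependent_cols_iff_isUnit]
    have : bC.col = fun j => (e j : Fin n → L) := funext hcol
    rw [this]
    exact hbli.comp e e.injective
  -- the key identity
  have hmap : ∀ σ : L ≃ₐ[K] L, Bm σ * bC.map σ = bC := by
    intro σ
    have h1 : bC.map σ = ∑ τ : L ≃ₐ[K] L, (Bm τ).map σ * C.map (σ * τ) := by
      ext i j
      simp only [bC, Matrix.map_apply, Matrix.sum_apply, Matrix.mul_apply, map_sum, map_mul,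
        AlgEquiv.mul_apply]
    rw [h1, Finset.mul_sum]
    simp only [← mul_assoc]
    have h2 : ∀ τ : L ≃ₐ[K] L, Bm σ * (Bm τ).map σ = Bm (σ * τ) := fun τ => hB σ τ
    simp only [h2]
    exact Fintype.sum_equiv (Equiv.mulLeft σ) _ _ (fun τ => rfl)
  obtain ⟨A', hA'⟩ := hunit
  refine ⟨A'⁻¹, fun σ => ?_⟩
  rw [inv_inv, hA']
  have h3 : bC.map σ * ((A'⁻¹ : GL (Fin n) L) : Matrix (Fin n) (Fin n) L).map σ = 1 := by
    rw [← hA']
    have := congrArg (fun M : Matrix (Fin n) (Fin n) L => M.map σ) (Units.mul_inv A')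
    simp only [Matrix.map_mul] at this
    rw [this]
    ext i j
    simp [Matrix.map_apply, Matrix.one_apply]
  calc (B σ : Matrix (Fin n) (Fin n) L) = Bm σ * (bC.map σ * ((A'⁻¹ : GL (Fin n) L) : Matrix (Fin n) (Fin n) L).map σ) := by
        rw [h3, mul_one]
    _ = bC * ((A'⁻¹ : GL (Fin n) L) : Matrix (Fin n) (Fin n) L).map σ := by
        rw [← mul_assoc, hmap σ]

end Groth.Agent.S11079
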