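import Groth.Statements.S11080
import Mathlib

set_option autoImplicit false
universe u
open CAlg

namespace Groth.Agent.S11080

open IsDedekindDomain IsDedekindDomain.HeightOneSpectrum

/-- Valuation rings over a curve: let A be a Dedekind domain with fraction field K. A valuation subring
O of K contains A and is different from K if and only if O is the valuation ring of the v-adic
valuation of K at some nonzero prime v of A (equivalently O is the local ring of A at a maximal
ideal, a discrete valuation ring). (The published statement takes A to be the coordinate ring of a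
nonsingular affine curve over an algebraically closed field, which is such a Dedekind domain; its
proof uses only that the local rings of A at nonzero primes are discrete valuation rings and that
nonzero primes are maximal.) -/
theorem result (A K : Type u) [CommRing A]
    [IsDedekindDomain A] [Field K] [Algebra A K] [IsFractionRing A K] (O : ValuationSubring K) :
    ((algebraMap A K).range ≤ O.toSubring ∧ O ≠ ⊤) ↔
      ∃ v : IsDedekindDomain.HeightOneSpectrum A, O = (v.valuation K).valuationSubring := by
  constructor
  · rintro ⟨hA, hO⟩
    have hAO : ∀ a : A, algebraMap A K a ∈ O := fun a => hA ⟨a, rfl⟩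
    -- the prime below the maximal ideal of `O`
    let ι : A →+* O := (algebraMap A K).codRestrict O.toSubring hAO
    let p : Ideal A := (IsLocalRing.maximalIdeal O).comap ι
    have hp : p.IsPrime := Ideal.comap_isPrime ι _
    have hmem : ∀ a : A, a ∈ p ↔ ¬ IsUnit (ι a) := fun a => by
      show ι a ∈ IsLocalRing.maximalIdeal O ↔ _
      rw [IsLocalRing.mem_maximalIdeal]; rfl
    have hpbot : p ≠ ⊥ := by
      intro hbot
      apply hO
      rw [eq_top_iff]
      intro x _
      obtain ⟨a, b, hb, rfl⟩ := IsFractionRing.div_surjective (A := A) x
      have hb0 : (b : A) ≠ 0 := nonZeroDivisors.ne_zero hb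
      have hbu : IsUnit (ι b) := by
        by_contra hnu
        have : b ∈ p := (hmem b).mpr hnu
        rw [hbot] at this
        exact hb0 this
      obtain ⟨c, hc⟩ := hbu.exists_right_inv
      have hc' : algebraMap A K b * (c : K) = 1 := congrArg Subtype.val hc
      have : algebraMap A K a / algebraMap A K b = algebraMap A K a * (c : K) := by
        rw [div_eq_iff (by
          intro h0
          rw [h0, zero_mul] at hc'
          exact zero_ne_one hc')]
        rw [mul_assoc, mul_comm (c : K), hc', mul_one]
      rw [this]
      exact O.mul_mem _ _ (hAO a) c.2
    let v : IsDedekindDomain.HeightOneSpectrum A := ⟨p, hp, hpbot⟩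
    refine ⟨v, ?_⟩
    rw [← valuationSubringAtPrime_eq_valuationSubring]
    symm
    refine ValuationSubring.eq_of_le_of_ne_top _ ?_ hO
    rintro x ⟨a, s, hs, rfl⟩
    have hsu : IsUnit (ι s) := by
      by_contra hnu
      exact hs ((hmem s).mpr hnu)
    obtain ⟨c, hc⟩ := hsu.exists_right_inv
    have hc' : algebraMap A K s * (c : K) = 1 := congrArg Subtype.val hc
    have hinv : (algebraMap A K s)⁻¹ = (c : K) := inv_eq_of_mul_eq_one_right hc'
    rw [hinv]
    exact O.mul_mem _ _ (hAO a) c.2
  · rintro ⟨v, rfl⟩
    refine ⟨?_, ?_⟩
    · rintro _ ⟨a, rfl⟩
      exact v.valuation_le_one a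
    · rw [ne_eq, Valuation.valuationSubring_eq_top_iff, not_not]
      infer_instance

end Groth.Agent.S11080
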