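import Groth.Statements.S11082
import Groth.Agent.Lib.Helper26.KaehlerField
import Mathlib

set_option autoImplicit false
universe u v
open CAlg

namespace Groth.Agent.S11082

open Groth.Agent.Lib.helper26

/-- Let k be an algebraically closed field, F a field extension of k which is finitely generated as a
field, and x a transcendence basis of F over k indexed by a type ι. Then F is a separable algebraic
extension of the subfield k(x) generated by the family (x is a separating transcendence basis) if
and only if the differentials d(x i) form a basis of the F-vector space of Kähler differentials of F
over k, i.e. they are linearly independent over F and span it. -/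
theorem result (k : Type u) (F : Type v)
    [Field k] [IsAlgClosed k] [Field F] [Algebra k F] (hF : (⊤ : IntermediateField k F).FG)
    {ι : Type v} (x : ι → F) (hx : IsTranscendenceBasis k x) :
    Algebra.IsSeparable (IntermediateField.adjoin k (Set.range x)) F ↔
      (LinearIndependent F (fun i : ι => KaehlerDifferential.D k F (x i)) ∧
        Submodule.span F (Set.range fun i : ι => KaehlerDifferential.D k F (x i)) = ⊤) := by
  have hess : Algebra.EssFiniteType k F := IntermediateField.fg_top_iff.mp hF
  constructor
  · intro hsep
    obtain ⟨b, hb⟩ := exists_basis_D (k := k) x hx.1
    have hfun : (fun i : ι => KaehlerDifferential.D k F (x i)) = b := funext fun i => (hb i).symm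
    rw [hfun]
    exact ⟨b.linearIndependent, b.span_eq⟩
  · rintro ⟨-, hspan⟩
    let E := IntermediateField.adjoin k (Set.range x)
    have hessE : Algebra.EssFiniteType E F := Algebra.EssFiniteType.of_comp k E F
    have hsub : Subsingleton (Ω[F⁄E]) := by
      refine subsingleton_of_forall_eq 0 fun y => ?_
      obtain ⟨z, rfl⟩ := KaehlerDifferential.map_surjective k E F y
      have hz : z ∈ Submodule.span F (Set.range fun i : ι => KaehlerDifferential.D k F (x i)) := by
        rw [hspan]; trivial
      refine Submodule.span_induction (p := fun z _ => KaehlerDifferential.map k E F F z = 0)
        ?_ ?_ ?_ ?_ hz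
      · rintro _ ⟨i, rfl⟩
        rw [KaehlerDifferential.map_D]
        have : (algebraMap F F) (x i) = algebraMap E F ⟨x i, IntermediateField.subset_adjoin k _ ⟨i, rfl⟩⟩ := rfl
        rw [this, Derivation.map_algebraMap]
      · exact map_zero _
      · intro a b _ _ ha hb
        rw [map_add, ha, hb, add_zero]
      · intro c a _ ha
        rw [map_smul, ha, smul_zero]
    have hunr : Algebra.FormallyUnramified E F := ⟨hsub⟩
    exact Algebra.FormallyUnramified.isSeparable E F

end Groth.Agent.S11082
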