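import Groth.Statements.S11084
import Groth.Agent.S11080
import Mathlib

set_option autoImplicit false
universe u
open CAlg

namespace Groth.Agent.S11084

open IsDedekindDomain IsDedekindDomain.HeightOneSpectrum

/-- Let k be a field and O a valuation subring of the field of rational functions k(x). Then O contains
the constants k and is different from k(x) if and only if O is the valuation ring of the P-adic
valuation at a nonzero prime P of the polynomial ring k[x], or O is the valuation ring of the
valuation at infinity (given by the degree). (The published statement has k algebraically closed, so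
that these valuation rings correspond to the points of the projective line; the published proof does
not use that k is algebraically closed. The published statement also asserts that distinct points
give distinct valuation rings, which this row does not state, and counts k(x) itself among the
valuation rings containing k; this row excludes it.) -/
theorem result (k : Type u) [Field k] [DecidableEq (RatFunc k)]
    (O : ValuationSubring (RatFunc k)) :
    ((algebraMap k (RatFunc k)).range ≤ O.toSubring ∧ O ≠ ⊤) ↔
      ((∃ v : IsDedekindDomain.HeightOneSpectrum (Polynomial k), O = (v.valuation (RatFunc k)).valuationSubring) ∨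
        O = (RatFunc.inftyValuation k).valuationSubring) := by
  constructor
  · rintro ⟨hk, hO⟩
    have hkO : ∀ c : k, algebraMap k (RatFunc k) c ∈ O := fun c => hk ⟨c, rfl⟩
    by_cases hX : (RatFunc.X : RatFunc k) ∈ O
    · left
      refine (Groth.Agent.S11080.result (Polynomial k) (RatFunc k) O).mp ⟨?_, hO⟩
      rintro _ ⟨p, rfl⟩
      induction p using Polynomial.induction_on' with
      | add p q hp hq =>
        rw [map_add]
        exact O.add_mem _ _ hp hq
      | monomial n a =>
        rw [← Polynomial.C_mul_X_pow_eq_monomial, map_mul, map_pow, RatFunc.algebraMap_C,
          RatFunc.algebraMap_X]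
        refine O.mul_mem _ _ ?_ (pow_mem hX n)
        rw [← RatFunc.algebraMap_eq_C]
        exact hkO a
    · right
      have htriv : O.valuation.IsTrivialOn k := by
        refine ⟨fun c hc => ?_⟩
        have h1 : O.valuation (algebraMap k (RatFunc k) c) ≤ 1 :=
          (O.valuation_le_one_iff _).mpr (hkO c)
        have h2 : O.valuation (algebraMap k (RatFunc k) c⁻¹) ≤ 1 :=
          (O.valuation_le_one_iff _).mpr (hkO c⁻¹)
        rw [map_inv₀, map_inv₀] at h2
        have hne : O.valuation (algebraMap k (RatFunc k) c) ≠ 0 := by
          rw [ne_eq, map_eq_zero]
          exact (map_ne_zero _).mpr hc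
        have h3 : 1 ≤ O.valuation (algebraMap k (RatFunc k) c) := by
          rwa [inv_le_one₀ (zero_lt_iff.mpr hne)] at h2
        exact le_antisymm h1 h3
      have hlt : 1 < O.valuation (RatFunc.X : RatFunc k) := by
        rw [← not_le, O.valuation_le_one_iff]
        exact hX
      have hequiv := RatFunc.valuation_isEquiv_inftyValuation_of_one_lt_valuation_X hlt
      rw [Valuation.isEquiv_iff_valuationSubring, ValuationSubring.valuationSubring_valuation] at hequiv
      exact hequiv
  · rintro (⟨v, rfl⟩ | rfl)
    · refine ⟨?_, ?_⟩
      · rintro _ ⟨c, rfl⟩
        rw [RatFunc.algebraMap_eq_C, ← RatFunc.algebraMap_C]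
        exact v.valuation_le_one _
      · rw [ne_eq, Valuation.valuationSubring_eq_top_iff, not_not]
        infer_instance
    · refine ⟨?_, ?_⟩
      · rintro _ ⟨c, rfl⟩
        by_cases hc : c = 0
        · rw [hc, map_zero]
          exact Subring.zero_mem _
        · show RatFunc.inftyValuation k (algebraMap k (RatFunc k) c) ≤ 1
          rw [RatFunc.algebraMap_eq_C, RatFunc.inftyValuation.C k hc]
      · rw [ne_eq, Valuation.valuationSubring_eq_top_iff, not_not]
        infer_instance

end Groth.Agent.S11084
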