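import Groth.Statements.S11085
import Mathlib
import Groth.Agent.Lib.Helper10.FunFld39

set_option autoImplicit false
universe u
open CAlg

namespace Groth.Agent.S11085

set_option linter.style.haveILetI false
set_option linter.unusedSectionVars false


open Polynomial FunFld Groth.Agent.Lib.helper10 Groth.Agent.Lib.helper10.FF

/-- going up (same proof as helper24 `RegUnram1`, helper1 `IntegralDim`). -/
theorem ringKrullDim_eq_of_isIntegral_of_injective' {A B : Type*} [CommRing A] [CommRing B]
    (f : A →+* B) (hf : f.IsIntegral) (hinj : Function.Injective f) :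
    ringKrullDim A = ringKrullDim B := by
  apply le_antisymm
  · algebraize [f]
    have : Algebra.IsIntegral A B := ⟨hf⟩
    have hinj' : Function.Injective (algebraMap A B) := hinj
    unfold ringKrullDim Order.krullDim
    apply iSup_le
    intro l
    obtain ⟨P, -, hP, hPl⟩ := Ideal.exists_ideal_over_prime_of_isIntegral
      (S := B) l.head.asIdeal (⊥ : Ideal B) (by
        rw [← RingHom.ker_eq_comap_bot, (RingHom.injective_iff_ker_eq_bot _).mp hinj']
        exact bot_le)
    have : P.LiesOver l.head.asIdeal := ⟨hPl.symm⟩
    obtain ⟨L, hL, -, -⟩ := Ideal.exists_ltSeries_of_hasGoingUp l P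
    rw [← hL]
    exact le_iSup (fun p : LTSeries (PrimeSpectrum B) => (p.length : WithBot ℕ∞)) L
  · refine Order.krullDim_le_of_strictMono (PrimeSpectrum.comap f) ?_
    letI := f.toAlgebra
    haveI : Algebra.IsIntegral A B := ⟨hf⟩
    intro p q hpq
    haveI := p.isPrime
    exact Ideal.IsIntegral.comap_lt_comap (R := A) (I := p.asIdeal) (J := q.asIdeal) hpq

theorem val_le_one_of_isAlgebraic {k F : Type*} [Field k] [Field F] [Algebra k F]
    (O : ValuationSubring F) (hkO : ∀ c : k, algebraMap k F c ∈ O) {c : F}
    (hc : IsAlgebraic k c) : c ∈ O := by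
  rw [← O.valuation_le_one_iff]
  by_contra hgt
  rw [not_le] at hgt
  have hc0 : c ≠ 0 := by
    rintro rfl
    rw [Valuation.map_zero] at hgt
    exact absurd hgt (not_lt.mpr zero_le)
  have ht : O.valuation c⁻¹ < 1 := by
    rw [map_inv₀]
    exact inv_lt_one_of_one_lt₀ hgt
  have hint : IsIntegral k c⁻¹ := hc.inv.isIntegral
  have h0 := minpoly.coeff_zero_ne_zero hint (inv_ne_zero hc0)
  have h1 := (trivOn_valuationSubring O hkO).aeval_eq_one ht (minpoly k c⁻¹) h0
  rw [minpoly.aeval, Valuation.map_zero] at h1
  exact zero_ne_one h1

theorem main (k A F : Type u) [Field k]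
    [CommRing A] [IsDomain A] [Algebra k A] [Algebra.FiniteType k A] (hA : ringKrullDim A = 1)
    [Field F] [Algebra A F] [IsFractionRing A F] [Algebra k F] [IsScalarTower k A F] :
    {O : ValuationSubring F | (algebraMap k F).range ≤ O.toSubring ∧
        ¬ (algebraMap A F).range ≤ O.toSubring}.Finite := by
  classical
  obtain ⟨s, g, hginj, hgfin⟩ := exists_finite_inj_algHom_of_fg k A
  have hs : s = 1 := by
    have h1 := ringKrullDim_eq_of_isIntegral_of_injective' g.toRingHom hgfin.to_isIntegral hginj
    rw [hA, MvPolynomial.ringKrullDim_of_isNoetherianRing, ringKrullDim_eq_zero_of_field,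
      zero_add, Nat.card_fin] at h1
    exact_mod_cast h1
  subst hs
  -- the polynomial ring in one variable
  let ψ : k[X] ≃ₐ[k] MvPolynomial (Fin 1) k :=
    (MvPolynomial.pUnitAlgEquiv k : MvPolynomial PUnit.{1} k ≃ₐ[k] k[X]).symm.trans
      (MvPolynomial.renameEquiv k (Equiv.equivPUnit.{1, 1} (Fin 1)).symm)
  let φ : k[X] →ₐ[k] A := g.comp ψ.toAlgHom
  have hφinj : Function.Injective φ := hginj.comp ψ.injective
  have hφfin : φ.toRingHom.Finite := by
    have h1 : (ψ.toAlgHom : k[X] →ₐ[k] MvPolynomial (Fin 1) k).toRingHom.Finite :=
      RingHom.Finite.of_surjective _ ψ.surjective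
    exact RingHom.Finite.comp hgfin h1
  letI : Algebra k[X] A := φ.toRingHom.toAlgebra
  haveI : IsScalarTower k k[X] A := IsScalarTower.of_algebraMap_eq (fun c => (φ.commutes c).symm)
  haveI : Module.Finite k[X] A := hφfin
  haveI : FaithfulSMul k[X] A := (faithfulSMul_iff_algebraMap_injective _ _).2 hφinj
  letI : Algebra k[X] F := ((algebraMap A F).comp (algebraMap k[X] A)).toAlgebra
  haveI : IsScalarTower k[X] A F := IsScalarTower.of_algebraMap_eq (fun _ => rfl)
  have hinjF : Function.Injective (algebraMap k[X] F) :=
    (IsFractionRing.injective A F).comp hφinj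
  letI : Algebra (RatFunc k) F := (IsFractionRing.lift hinjF).toAlgebra
  haveI : IsScalarTower k[X] (RatFunc k) F :=
    IsScalarTower.of_algebraMap_eq (fun p => (IsFractionRing.lift_algebraMap hinjF p).symm)
  haveI : IsScalarTower k (RatFunc k) F := IsScalarTower.of_algebraMap_eq (fun c => by
    have h1 : algebraMap k (RatFunc k) c = algebraMap k[X] (RatFunc k) (C c) := by
      rw [RatFunc.algebraMap_C]
      rfl
    rw [h1, ← IsScalarTower.algebraMap_apply k[X] (RatFunc k) F,
      IsScalarTower.algebraMap_apply k[X] A F, IsScalarTower.algebraMap_apply k A F]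
    congr 1
    exact (φ.commutes c).symm)
  haveI : Algebra.IsAlgebraic k[X] A := (Algebra.IsIntegral.of_finite k[X] A).isAlgebraic
  haveI : FiniteDimensional (RatFunc k) F :=
    Module.Finite.of_isLocalization k[X] A (nonZeroDivisors k[X])
  have hE : FunFld.IsFunctionField (algebraicClosure k F) F :=
    FF.isFunctionField_algebraicClosure (k := k) (k₀ := k) (F := RatFunc k) (E := F)
      FF.isFunctionField_ratFunc
  -- generators of `A`
  obtain ⟨S, hS⟩ := (Algebra.FiniteType.out : (⊤ : Subalgebra k A).FG)
  -- the finite set of poles of generators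
  set T : Set (Place k F) :=
    ⋃ a ∈ S, Function.support (fun Q : Place k F => Q.ord (algebraMap A F a)) with hT
  have hTfin : T.Finite :=
    Set.Finite.biUnion S.finite_toSet (fun a _ => FF.support_ord_finite' hE _)
  refine (hTfin.image (fun Q : Place k F => Q.O)).subset ?_
  rintro O ⟨hkO, hAO⟩
  have hkO' : ∀ c : k, algebraMap k F c ∈ O := fun c => hkO ⟨c, rfl⟩
  -- some generator is not in `O`
  have hex : ∃ a ∈ S, algebraMap A F a ∉ O := by
    by_contra hcon
    push Not at hcon
    apply hAO
    let B : Subalgebra k A :=
      { carrier := {a | algebraMap A F a ∈ O}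
        mul_mem' := fun {a b} ha hb => by
          simp only [Set.mem_ofPred_eq, map_mul] at ha hb ⊢
          exact O.mul_mem _ _ ha hb
        add_mem' := fun {a b} ha hb => by
          simp only [Set.mem_ofPred_eq, map_add] at ha hb ⊢
          exact O.add_mem _ _ ha hb
        algebraMap_mem' := fun c => by
          simp only [Set.mem_ofPred_eq]
          rw [← IsScalarTower.algebraMap_apply k A F]
          exact hkO' c }
    have hB : Algebra.adjoin k (S : Set A) ≤ B := Algebra.adjoin_le (fun a ha => hcon a ha)
    rw [hS] at hB
    rintro _ ⟨a, rfl⟩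
    exact hB (Algebra.mem_top : a ∈ (⊤ : Subalgebra k A))
  obtain ⟨a, haS, haO⟩ := hex
  have hOtop : O ≠ ⊤ := by
    rintro rfl
    exact haO trivial
  have hkcO : ∀ c : algebraicClosure k F, algebraMap (algebraicClosure k F) F c ∈ O := fun c =>
    val_le_one_of_isAlgebraic O hkO' ((mem_algebraicClosure_iff).1 c.2)
  set Q : Place k F := Place.down (k := k) (FF.placeOf O hE hkcO hOtop) with hQ
  have hQO : Q.O = O := FF.placeOf_O O hE hkcO hOtop
  refine ⟨Q, ?_, hQO⟩
  rw [hT]
  simp only [Set.mem_iUnion, Function.mem_support]
  refine ⟨a, haS, ?_⟩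
  have ha0 : algebraMap A F a ≠ 0 := by
    intro h0
    rw [h0] at haO
    exact haO O.zero_mem
  have h1 : 1 < Q.1 (algebraMap A F a) := by
    rw [← not_le]
    intro hle
    apply haO
    rw [← hQO]
    exact hle
  have h2 := (Place.ord_neg_iff Q ha0).2 h1
  exact h2.ne



/-- Let k be a field, A a finitely generated k-algebra which is an integral domain of Krull dimension
one (the coordinate ring of an affine curve), and F its field of fractions. Then the set of
valuation subrings of F which contain k but do not contain A is finite. (The published statement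
speaks of all valuation rings of F different from F and not containing A, over an algebraically
closed k; valuation rings not containing k must be excluded — for k an algebraic closure of a
rational function field in one variable t over a finite field and F = k(x), the t-adic valuation of
k has infinitely many extensions to F, none of whose rings contains A — and the published proof,
through the valuation at infinity of k(x), treats valuation rings containing k; it does not use that
k is algebraically closed.) -/
theorem result (k A F : Type u) [Field k]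
    [CommRing A] [IsDomain A] [Algebra k A] [Algebra.FiniteType k A] (hA : ringKrullDim A = 1)
    [Field F] [Algebra A F] [IsFractionRing A F] [Algebra k F] [IsScalarTower k A F] :
    {O : ValuationSubring F | (algebraMap k F).range ≤ O.toSubring ∧
        ¬ (algebraMap A F).range ≤ O.toSubring}.Finite := by
  exact main k A F hA

end Groth.Agent.S11085
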