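import Groth.Statements.S11087
import Groth.Agent.Lib.Helper24.RedFib5
import Groth.Agent.Lib.Helper3.HensFinite

set_option autoImplicit false
universe u
attribute [local instance] FractionRing.liftAlgebra
open CAlg

namespace Groth.Agent.S11087

/-- Let A be a complete discrete valuation ring and K a perfect field contained in A such that K → A →
A/m is bijective. Let B be a Dedekind domain which is a finite torsion-free A-algebra with fraction
field separable over that of A (the integral closure of A in a finite separable extension of its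
fraction field). Then for every maximal ideal M of B and every b in B there is exactly one element c
of B which is algebraic over K and congruent to b modulo M; in other words the algebraic closure of
K in B is a subfield mapping isomorphically onto B/M. -/
theorem result (K A B : Type u) [Field K]
    [PerfectField K] [CommRing A] [IsDomain A] [IsDiscreteValuationRing A]
    [IsAdicComplete (IsLocalRing.maximalIdeal A) A]
    [Algebra K A] (hK : Function.Bijective ((IsLocalRing.residue A).comp (algebraMap K A)))
    [CommRing B] [IsDedekindDomain B] [Algebra A B] [Module.Finite A B] [Module.IsTorsionFree A B]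
    [Algebra.IsSeparable (FractionRing A) (FractionRing B)] [Algebra K B] [IsScalarTower K A B]
    (M : Ideal B) [M.IsMaximal] (b : B) :
    ∃! c : B, IsAlgebraic K c ∧ b - c ∈ M := by
  open Polynomial in
  classical
  obtain ⟨hloc, hcompl⟩ :=
    Groth.Agent.Lib.Helper24.RedFib.exists_isLocalRing_isAdicComplete_of_finite A B
  have hM : M = IsLocalRing.maximalIdeal B := IsLocalRing.eq_maximalIdeal ‹_›
  have hhens : HenselianLocalRing B :=
    Groth.Agent.Lib.helper3.HensFinite.henselianLocalRing_of_isAdicComplete B
  -- M lies over m_A
  have hcomap : M.comap (algebraMap A B) = IsLocalRing.maximalIdeal A := by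
    have : (M.comap (algebraMap A B)).IsMaximal :=
      Ideal.isMaximal_comap_of_isIntegral_of_isMaximal M
    exact IsLocalRing.eq_maximalIdeal this
  -- κ : A → K
  let eK : K ≃+* IsLocalRing.ResidueField A := RingEquiv.ofBijective _ hK
  let κ : A →+* K := (eK.symm : IsLocalRing.ResidueField A →+* K).comp (IsLocalRing.residue A)
  have hκ : ∀ a : A, a - algebraMap K A (κ a) ∈ IsLocalRing.maximalIdeal A := by
    intro a
    rw [← IsLocalRing.residue_eq_zero_iff, map_sub, sub_eq_zero]
    have : IsLocalRing.residue A (algebraMap K A (κ a)) = eK (κ a) := rfl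
    rw [this]
    simp [κ]
  have hκ' : ∀ a : A, algebraMap K (B ⧸ M) (κ a) = Ideal.Quotient.mk M (algebraMap A B a) := by
    intro a
    have h1 : algebraMap K (B ⧸ M) (κ a) = Ideal.Quotient.mk M (algebraMap K B (κ a)) := rfl
    rw [h1, IsScalarTower.algebraMap_apply K A B, eq_comm, ← sub_eq_zero, ← map_sub, ← map_sub,
      Ideal.Quotient.eq_zero_iff_mem]
    have := hκ a
    rw [← hcomap] at this
    exact this
  -- mk b algebraic over K
  let _ : Field (B ⧸ M) := Ideal.Quotient.field M
  have halg : IsAlgebraic K (Ideal.Quotient.mk M b) := by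
    obtain ⟨p, hp, hpb⟩ := Algebra.IsIntegral.isIntegral (R := A) b
    refine ⟨p.map κ, (hp.map κ).ne_zero, ?_⟩
    rw [aeval_def, eval₂_map]
    have hcomp : (algebraMap K (B ⧸ M)).comp κ = (Ideal.Quotient.mk M).comp (algebraMap A B) :=
      RingHom.ext hκ'
    rw [hcomp, ← hom_eval₂, hpb, map_zero]
  -- minimal polynomial
  have hint : IsIntegral K (Ideal.Quotient.mk M b) := halg.isIntegral
  set f := minpoly K (Ideal.Quotient.mk M b) with hf
  have hfirr : Irreducible f := minpoly.irreducible hint
  have hfsep : f.Separable := PerfectField.separable_of_irreducible hfirr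
  have hfmon : f.Monic := minpoly.monic hint
  set F : B[X] := f.map (algebraMap K B) with hF
  have hFmon : F.Monic := hfmon.map _
  have hmkF : ∀ g : K[X], Ideal.Quotient.mk M ((g.map (algebraMap K B)).eval b) =
      aeval (Ideal.Quotient.mk M b) g := by
    intro g
    rw [eval_map, hom_eval₂, aeval_def]
    rfl
  have h1 : F.eval b ∈ IsLocalRing.maximalIdeal B := by
    rw [← hM, ← Ideal.Quotient.eq_zero_iff_mem, hmkF, hf, minpoly.aeval]
  have h2 : IsUnit (F.derivative.eval b) := by
    rw [← IsLocalRing.notMem_maximalIdeal, ← hM, ← Ideal.Quotient.eq_zero_iff_mem, hF,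
      derivative_map, hmkF]
    exact hfsep.aeval_derivative_ne_zero (minpoly.aeval K _)
  obtain ⟨c, hc, hcb⟩ := HenselianLocalRing.is_henselian F hFmon b h1 h2
  have hcalg : IsAlgebraic K c := by
    refine ⟨f, hfmon.ne_zero, ?_⟩
    rw [aeval_def, ← eval_map]
    exact hc
  refine ⟨c, ⟨hcalg, ?_⟩, ?_⟩
  · rw [hM]
    have : b - c = -(c - b) := by ring
    rw [this]
    exact neg_mem hcb
  · rintro c' ⟨hc'alg, hc'⟩
    by_contra hne
    have hx : IsAlgebraic K (c' - c) := hc'alg.sub hcalg
    have hxu : IsUnit (c' - c) := hx.isIntegral.isUnit (sub_ne_zero.mpr hne)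
    have hxM : c' - c ∈ M := by
      have : c' - c = (b - c) - (b - c') := by ring
      rw [this]
      refine M.sub_mem ?_ hc'
      rw [hM]
      have : b - c = -(c - b) := by ring
      rw [this]
      exact neg_mem hcb
    exact (Ideal.IsMaximal.ne_top ‹_›) (Ideal.eq_top_of_isUnit_mem _ hxM hxu)

end Groth.Agent.S11087
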