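import Groth.Statements.S11088
import Groth.Agent.Lib.Helper24.RedFib5

set_option autoImplicit false
universe u
attribute [local instance] FractionRing.liftAlgebra
open CAlg

namespace Groth.Agent.S11088

/-- In a local Dedekind domain every nonzero ideal is a power of the maximal ideal. -/
theorem eq_pow_of_local {B : Type*} [CommRing B] [IsDedekindDomain B] [IsLocalRing B]
    (M : Ideal B) [M.IsMaximal] (hM0 : M ≠ ⊥) (J : Ideal B) (hJ : J ≠ ⊥) :
    J = M ^ multiplicity M J := by
  have hMu : ¬ IsUnit M := by
    rw [Ideal.isUnit_iff]; exact Ideal.IsMaximal.ne_top ‹_›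
  have hfin : FiniteMultiplicity M J := FiniteMultiplicity.of_not_isUnit hMu hJ
  obtain ⟨J', hJ', hndvd⟩ := hfin.exists_eq_pow_mul_and_not_dvd
  have hJ'top : J' = ⊤ := by
    by_contra hne
    apply hndvd
    rw [Ideal.dvd_iff_le]
    have : J' ≤ IsLocalRing.maximalIdeal B := IsLocalRing.le_maximalIdeal hne
    rwa [← IsLocalRing.eq_maximalIdeal ‹M.IsMaximal›] at this
  rw [hJ'top, ← Ideal.one_eq_top, mul_one] at hJ'
  exact hJ'


/-- Let A be a complete discrete valuation ring with maximal ideal m and B a Dedekind domain which is a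
finite torsion-free A-algebra with fraction field separable over that of A (the integral closure of
A in a finite separable extension). Then for every maximal ideal M of B, with f the degree of B/M
over A/m, and every nonzero x in B, the multiplicity of m in the ideal generated by the norm of x
equals f times the multiplicity of M in the ideal generated by x: v(N(x)) = f · w(x). -/
theorem result (A B : Type u) [CommRing A] [IsDomain A] [IsDiscreteValuationRing A]
    [IsAdicComplete (IsLocalRing.maximalIdeal A) A]
    [CommRing B] [IsDedekindDomain B] [Algebra A B] [Module.Finite A B] [Module.IsTorsionFree A B]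
    [Algebra.IsSeparable (FractionRing A) (FractionRing B)]
    (M : Ideal B) [M.IsMaximal] (x : B) (hx : x ≠ 0) :
    emultiplicity (IsLocalRing.maximalIdeal A) (Ideal.span {Algebra.intNorm A B x}) =
      (M.inertiaDeg A : ℕ∞) * emultiplicity M (Ideal.span {x}) := by
  classical
  obtain ⟨hloc, hcompl⟩ :=
    Groth.Agent.Lib.Helper24.RedFib.exists_isLocalRing_isAdicComplete_of_finite A B
  have hM : M = IsLocalRing.maximalIdeal B := IsLocalRing.eq_maximalIdeal ‹_›
  have hcomap : M.comap (algebraMap A B) = IsLocalRing.maximalIdeal A := by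
    have : (M.comap (algebraMap A B)).IsMaximal :=
      Ideal.isMaximal_comap_of_isIntegral_of_isMaximal M
    exact IsLocalRing.eq_maximalIdeal this
  have hlies : M.LiesOver (IsLocalRing.maximalIdeal A) := ⟨hcomap.symm⟩
  have hinj : Function.Injective (algebraMap A B) := FaithfulSMul.algebraMap_injective A B
  have hm0 : IsLocalRing.maximalIdeal A ≠ ⊥ := IsDiscreteValuationRing.not_a_field A
  have hM0 : M ≠ ⊥ := by
    intro h
    apply hm0
    rw [← hcomap, h]
    exact (Ideal.comap_bot_of_injective _ hinj)
  have hmu : ¬ IsUnit (IsLocalRing.maximalIdeal A) := by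
    rw [Ideal.isUnit_iff]; exact Ideal.IsMaximal.ne_top inferInstance
  have hMu : ¬ IsUnit M := by
    rw [Ideal.isUnit_iff]; exact Ideal.IsMaximal.ne_top ‹_›
  -- relNorm M = m ^ s
  obtain ⟨s, hs⟩ := Ideal.exists_relNorm_eq_pow_of_isPrime (R := A) M (IsLocalRing.maximalIdeal A)
  -- mB = M ^ e
  have hmB0 : (IsLocalRing.maximalIdeal A).map (algebraMap A B) ≠ ⊥ :=
    Ideal.map_ne_bot_of_ne_bot hm0
  have hmB := eq_pow_of_local M hM0 _ hmB0
  have he : M.ramificationIdx A = multiplicity M ((IsLocalRing.maximalIdeal A).map (algebraMap A B)) :=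
    Ideal.IsDedekindDomain.ramificationIdx_eq_multiplicity (IsLocalRing.maximalIdeal A) M hmB0
  have hflat : Module.Flat A B := inferInstance
  -- unique prime over m
  let hU : Unique ((IsLocalRing.maximalIdeal A).primesOver B) :=
    { default := ⟨M, Ideal.IsMaximal.isPrime ‹_›, hlies⟩
      uniq := by
        rintro ⟨P, hP, hPl⟩
        apply Subtype.ext
        show P = M
        have hP0 : P ≠ ⊥ := by
          intro h
          apply hm0
          rw [hPl.over, h]
          exact (Ideal.comap_bot_of_injective _ hinj)
        have : P.IsMaximal := Ring.DimensionLEOne.maximalOfPrime hP0 hP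
        rw [hM]
        exact IsLocalRing.eq_maximalIdeal this }
  let _ : Fintype ((IsLocalRing.maximalIdeal A).primesOver B) := Unique.fintype
  have hsum := Ideal.sum_ramification_inertia_eq_finrank (IsLocalRing.maximalIdeal A) B
  rw [Fintype.sum_unique] at hsum
  have hdef : ((default : (IsLocalRing.maximalIdeal A).primesOver B) : Ideal B) = M := rfl
  rw [hdef] at hsum
  -- relNorm of mB
  have hrel := Ideal.relNorm_algebraMap B (IsLocalRing.maximalIdeal A)
  rw [hmB, map_pow, hs, ← pow_mul, ← he] at hrel
  have hse : s * M.ramificationIdx A = Module.finrank A B := by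
    have := congrArg (emultiplicity (IsLocalRing.maximalIdeal A)) hrel
    rw [emultiplicity_pow_self hm0 hmu, emultiplicity_pow_self hm0 hmu] at this
    exact_mod_cast this
  have he0 : M.ramificationIdx A ≠ 0 := by
    intro h0
    rw [h0, mul_zero] at hse
    have : 0 < Module.finrank A B := Module.finrank_pos
    omega
  have hsf : s = M.inertiaDeg A := by
    rw [← hsum, mul_comm s] at hse
    exact Nat.eq_of_mul_eq_mul_left (Nat.pos_of_ne_zero he0) hse
  -- now x
  have hx0 : Ideal.span {x} ≠ ⊥ := by
    rw [Ne, Ideal.span_singleton_eq_bot]; exact hx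
  have hxM := eq_pow_of_local M hM0 _ hx0
  have hfin : FiniteMultiplicity M (Ideal.span {x}) := FiniteMultiplicity.of_not_isUnit hMu hx0
  rw [← Ideal.relNorm_singleton (R := A) (S := B) x]
  conv_lhs => rw [hxM]
  rw [map_pow, hs, ← pow_mul, emultiplicity_pow_self hm0 hmu, hfin.emultiplicity_eq_multiplicity,
    hsf]
  push_cast
  rfl

end Groth.Agent.S11088
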