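import Groth.Statements.S11089
import Groth.Agent.Lib.Helper24.RedFib5
import Groth.Agent.Lib.Helper3.HensFinite

set_option autoImplicit false
universe u
attribute [local instance] FractionRing.liftAlgebra
open CAlg

namespace Groth.Agent.S11089

open Polynomial

/-- In a local Dedekind domain every nonzero ideal is a power of the maximal ideal. -/
theorem eq_pow_of_local {B : Type*} [CommRing B] [IsDedekindDomain B] [IsLocalRing B]
    (M : Ideal B) [M.IsMaximal] (J : Ideal B) (hJ : J ≠ ⊥) :
    J = M ^ multiplicity M J := by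
  have hMu : ¬ IsUnit M := by
    rw [Ideal.isUnit_iff]; exact Ideal.IsMaximal.ne_top ‹_›
  have hfin : FiniteMultiplicity M J := FiniteMultiplicity.of_not_isUnit hMu hJ
  obtain ⟨J', hJ', hndvd⟩ := hfin.exists_eq_pow_mul_and_not_dvd
  have hJ'top : J' = ⊤ := by
    by_contra hne
    apply hndvd
    rw [Ideal.dvd_iff_le]
    have : J' ≤ IsLocalRing.maximalIdeal B := IsLocalRing.le_maximalIdeal hne
    rwa [← IsLocalRing.eq_maximalIdeal ‹M.IsMaximal›] at this
  rw [hJ'top, ← Ideal.one_eq_top, mul_one] at hJ'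
  exact hJ'


/-- Let A be a complete discrete valuation ring containing a field K with K → A → A/m bijective, and B a
Dedekind domain which is a finite torsion-free A-algebra of rank m with fraction field separable
over that of A (the integral closure of A in a finite separable extension E of F = Frac A). If the
extension is totally ramified — the maximal ideal M of B has ramification index m — and m is a unit
in A, then some uniformizer u of B (an element of M not in M²) satisfies u^m ∈ A and generates E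
over F: its minimal polynomial over A has degree m. -/
theorem result (K A B : Type u) [Field K]
    [CommRing A] [IsDomain A] [IsDiscreteValuationRing A]
    [IsAdicComplete (IsLocalRing.maximalIdeal A) A]
    [Algebra K A] (hK : Function.Bijective ((IsLocalRing.residue A).comp (algebraMap K A)))
    [CommRing B] [IsDedekindDomain B] [Algebra A B] [Module.Finite A B] [Module.IsTorsionFree A B]
    [Algebra.IsSeparable (FractionRing A) (FractionRing B)]
    (M : Ideal B) [M.IsMaximal] (hram : M.ramificationIdx A = Module.finrank A B)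
    (hm : IsUnit ((Module.finrank A B : ℕ) : A)) :
    ∃ u : B, u ∈ M ∧ u ∉ M ^ 2 ∧ u ^ Module.finrank A B ∈ (algebraMap A B).range ∧
      (minpoly A u).natDegree = Module.finrank A B := by
  classical
  obtain ⟨hloc, hcompl⟩ :=
    Groth.Agent.Lib.Helper24.RedFib.exists_isLocalRing_isAdicComplete_of_finite A B
  have hhens : HenselianLocalRing B :=
    Groth.Agent.Lib.helper3.HensFinite.henselianLocalRing_of_isAdicComplete B
  have hM : M = IsLocalRing.maximalIdeal B := IsLocalRing.eq_maximalIdeal ‹_›
  have hcomap : M.comap (algebraMap A B) = IsLocalRing.maximalIdeal A := by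
    have : (M.comap (algebraMap A B)).IsMaximal :=
      Ideal.isMaximal_comap_of_isIntegral_of_isMaximal M
    exact IsLocalRing.eq_maximalIdeal this
  have hlies : M.LiesOver (IsLocalRing.maximalIdeal A) := ⟨hcomap.symm⟩
  have hinj : Function.Injective (algebraMap A B) := FaithfulSMul.algebraMap_injective A B
  have hm0 : IsLocalRing.maximalIdeal A ≠ ⊥ := IsDiscreteValuationRing.not_a_field A
  have hM0 : M ≠ ⊥ := by
    intro h
    apply hm0
    rw [← hcomap, h]
    exact (Ideal.comap_bot_of_injective _ hinj)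
  have hMu : ¬ IsUnit M := by
    rw [Ideal.isUnit_iff]; exact Ideal.IsMaximal.ne_top ‹_›
  set n := Module.finrank A B with hn
  have hnpos : 0 < n := Module.finrank_pos
  -- mB = M ^ n
  have hmB0 : (IsLocalRing.maximalIdeal A).map (algebraMap A B) ≠ ⊥ :=
    Ideal.map_ne_bot_of_ne_bot hm0
  have hmB := eq_pow_of_local M _ hmB0
  have he : M.ramificationIdx A = multiplicity M ((IsLocalRing.maximalIdeal A).map (algebraMap A B)) :=
    Ideal.IsDedekindDomain.ramificationIdx_eq_multiplicity (IsLocalRing.maximalIdeal A) M hmB0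
  rw [← he, hram] at hmB
  -- uniformizers
  obtain ⟨π, hπ⟩ := IsDiscreteValuationRing.exists_irreducible A
  have hπm : IsLocalRing.maximalIdeal A = Ideal.span {π} := hπ.maximalIdeal_eq
  -- ϖ ∈ M \ M²
  have hMsq : M ^ 2 < M := by
    refine lt_of_le_of_ne (Ideal.pow_le_self two_ne_zero) ?_
    intro h
    have h1 : M ^ 2 = M ^ 1 := by rw [pow_one]; exact h
    have := (IsLeftCancelMulZero.mul_left_cancel_of_ne_zero hM0).pow_injective (by rw [Ideal.one_eq_top]; exact Ideal.IsMaximal.ne_top ‹_›) h1
    omega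
  obtain ⟨ϖ, hϖM, hϖsq⟩ := SetLike.exists_of_lt hMsq
  -- span{ϖ} = M
  have hϖ0 : Ideal.span {ϖ} ≠ ⊥ := by
    rw [Ne, Ideal.span_singleton_eq_bot]
    rintro rfl
    exact hϖsq (zero_mem _)
  have hϖM' := eq_pow_of_local M _ hϖ0
  have hk : multiplicity M (Ideal.span {ϖ}) = 1 := by
    set k := multiplicity M (Ideal.span {ϖ}) with hkdef
    have hmem : ϖ ∈ M ^ k := by rw [← hϖM']; exact Ideal.subset_span rfl
    rcases Nat.lt_or_ge k 2 with h2 | h2
    · rcases Nat.eq_zero_or_pos k with h0 | h0
      · exfalso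
        rw [h0, pow_zero, Ideal.one_eq_top] at hϖM'
        have : (1 : B) ∈ Ideal.span {ϖ} := by rw [hϖM']; trivial
        rw [Ideal.mem_span_singleton] at this
        have hu : IsUnit ϖ := isUnit_of_dvd_one this
        exact (Ideal.IsMaximal.ne_top ‹M.IsMaximal›) (Ideal.eq_top_of_isUnit_mem _ hϖM hu)
      · omega
    · exfalso
      exact hϖsq (Ideal.pow_le_pow_right h2 hmem)
  rw [hk, pow_one] at hϖM'
  -- ϖ ^ n associated to π
  have hassoc : Associated (algebraMap A B π) (ϖ ^ n) := by
    rw [← Ideal.span_singleton_eq_span_singleton, ← Ideal.span_singleton_pow, hϖM', ← hmB, hπm,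
      Ideal.map_span, Set.image_singleton]
  obtain ⟨ε, hε⟩ := hassoc
  -- inertia degree one
  have hflat : Module.Flat A B := inferInstance
  let hU : Unique ((IsLocalRing.maximalIdeal A).primesOver B) :=
    { default := ⟨M, Ideal.IsMaximal.isPrime ‹_›, hlies⟩
      uniq := by
        rintro ⟨P, hP, hPl⟩
        apply Subtype.ext
        show P = M
        have hP0 : P ≠ ⊥ := by
          intro h
          apply hm0
          rw [hPl.over, h]
          exact (Ideal.comap_bot_of_injective _ hinj)
        have : P.IsMaximal := Ring.DimensionLEOne.maximalOfPrime hP0 hP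
        rw [hM]
        exact IsLocalRing.eq_maximalIdeal this }
  let _ : Fintype ((IsLocalRing.maximalIdeal A).primesOver B) := Unique.fintype
  have hsum := Ideal.sum_ramification_inertia_eq_finrank (IsLocalRing.maximalIdeal A) B
  rw [Fintype.sum_unique] at hsum
  have hdef : ((default : (IsLocalRing.maximalIdeal A).primesOver B) : Ideal B) = M := rfl
  rw [hdef, hram, ← hn] at hsum
  have hf1 : M.inertiaDeg A = 1 := by
    have : n * M.inertiaDeg A = n * 1 := by rw [hsum, mul_one]
    exact Nat.eq_of_mul_eq_mul_left hnpos this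
  rw [Ideal.inertiaDeg_eq_of_isMaximal (IsLocalRing.maximalIdeal A) M] at hf1
  -- every element of B is congruent to an element of A mod M
  have hres : ∀ b : B, ∃ a : A, b - algebraMap A B a ∈ M := by
    intro b
    let _ : Field (A ⧸ IsLocalRing.maximalIdeal A) := Ideal.Quotient.field _
    let _ : Field (B ⧸ M) := Ideal.Quotient.field _
    have h1 := (finrank_eq_one_iff_of_nonzero' (1 : B ⧸ M) one_ne_zero).mp hf1
    obtain ⟨c, hc⟩ := h1 (Ideal.Quotient.mk M b)
    obtain ⟨a, rfl⟩ := Ideal.Quotient.mk_surjective c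
    refine ⟨a, ?_⟩
    rw [← Ideal.Quotient.eq_zero_iff_mem, map_sub, ← hc, sub_eq_zero, Algebra.smul_def, mul_one]
    rfl
  obtain ⟨a, ha⟩ := hres (ε : B)
  have hau : IsUnit a := by
    by_contra hna
    have ham : a ∈ IsLocalRing.maximalIdeal A := (IsLocalRing.mem_maximalIdeal a).mpr hna
    have haM : algebraMap A B a ∈ M := by
      have : a ∈ M.comap (algebraMap A B) := hcomap ▸ ham
      exact this
    have : (ε : B) ∈ M := by
      have h := M.add_mem ha haM
      simpa using h
    exact (Ideal.IsMaximal.ne_top ‹M.IsMaximal›) (Ideal.eq_top_of_isUnit_mem _ this ε.isUnit)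
  obtain ⟨ua, rfl⟩ := hau
  set vb : Bˣ := Units.map (algebraMap A B).toMonoidHom ua with hvb
  have hvb' : (vb : B) = algebraMap A B (ua : A) := rfl
  set ε₁ : Bˣ := ε * vb⁻¹ with hε₁
  have hε₁M : (1 : B) - (ε₁ : B) ∈ M := by
    have h1 : (1 : B) - (ε₁ : B) = -(((ε : B) - algebraMap A B (ua : A)) * ((vb⁻¹ : Bˣ) : B)) := by
      rw [hε₁, Units.val_mul, sub_mul, ← hvb', Units.mul_inv]
      ring
    rw [h1]
    exact neg_mem (Ideal.mul_mem_right _ _ ha)
  -- Hensel
  set F : B[X] := X ^ n - C (ε₁ : B) with hF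
  have hFmon : F.Monic := monic_X_pow_sub_C _ hnpos.ne'
  have hF1 : F.eval 1 ∈ IsLocalRing.maximalIdeal B := by
    rw [← hM, hF]
    simpa using hε₁M
  have hF2 : IsUnit (F.derivative.eval 1) := by
    have : F.derivative.eval 1 = algebraMap A B ((n : ℕ) : A) := by
      rw [hF, derivative_sub, derivative_C, sub_zero, derivative_X_pow, eval_mul, eval_C,
        eval_pow, eval_X, one_pow, mul_one, map_natCast]
    rw [this]
    exact hm.map _
  obtain ⟨η, hη, hη1⟩ := HenselianLocalRing.is_henselian F hFmon 1 hF1 hF2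
  have hηn : η ^ n = (ε₁ : B) := by
    have : F.eval η = 0 := hη
    rw [hF] at this
    simpa [sub_eq_zero] using this
  have hηu : IsUnit η := by
    have : IsUnit (η ^ n) := hηn ▸ ε₁.isUnit
    exact (isUnit_pow_iff hnpos.ne').mp this
  obtain ⟨uη, rfl⟩ := hηu
  have hpow : (ϖ * ((uη⁻¹ : Bˣ) : B)) ^ n = algebraMap A B (π * (ua : A)) := by
    have h1 : ((uη⁻¹ : Bˣ) : B) ^ n = ((ε₁⁻¹ : Bˣ) : B) := by
      have : uη ^ n = ε₁ := Units.ext (by simpa using hηn)
      rw [← this, ← Units.val_pow_eq_pow_val, inv_pow]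
    rw [mul_pow, ← hε, h1, hε₁, map_mul, ← hvb']
    have : ((ε * vb⁻¹)⁻¹ : Bˣ) = vb * ε⁻¹ := by
      rw [mul_inv_rev, inv_inv]
    rw [this, Units.val_mul, mul_assoc, ← mul_assoc (ε : B), mul_comm (ε : B) (vb : B), mul_assoc,
      Units.mul_inv, mul_one]
  refine ⟨ϖ * ((uη⁻¹ : Bˣ) : B), Ideal.mul_mem_right _ _ hϖM, ?_, ?_, ?_⟩
  · intro hmem
    apply hϖsq
    have : ϖ = ϖ * ((uη⁻¹ : Bˣ) : B) * (uη : B) := by
      rw [mul_assoc, Units.inv_mul, mul_one]
    rw [this]
    exact Ideal.mul_mem_right _ _ hmem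
  · exact ⟨π * ua, hpow.symm⟩
  · -- minimal polynomial
    set f : A[X] := X ^ n - C (π * (ua : A)) with hf
    have hfmon : f.Monic := monic_X_pow_sub_C _ hnpos.ne'
    have hfdeg : f.natDegree = n := natDegree_X_pow_sub_C
    have hπa : π * (ua : A) ∈ IsLocalRing.maximalIdeal A := by
      rw [hπm]; exact Ideal.mul_mem_right _ _ (Ideal.subset_span rfl)
    have hπa2 : π * (ua : A) ∉ IsLocalRing.maximalIdeal A ^ 2 := by
      rw [hπm, Ideal.span_singleton_pow, Ideal.mem_span_singleton]
      rintro ⟨c, hc⟩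
      have h1 : π * (ua : A) = π * (π * c) := by rw [hc]; ring
      have h2 : (ua : A) = π * c := mul_left_cancel₀ hπ.ne_zero h1
      have : IsUnit π := isUnit_of_mul_isUnit_left (h2 ▸ ua.isUnit)
      exact hπ.not_isUnit this
    have hfeis : f.IsEisensteinAt (IsLocalRing.maximalIdeal A) := by
      refine ⟨?_, ?_, ?_⟩
      · rw [hfmon.leadingCoeff]
        exact (Ideal.ne_top_iff_one _).mp (Ideal.IsMaximal.ne_top inferInstance)
      · intro k hk
        rw [hfdeg] at hk
        rw [hf, coeff_sub, coeff_X_pow, if_neg hk.ne, zero_sub, coeff_C]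
        split_ifs
        · exact neg_mem hπa
        · simp
      · rw [hf, coeff_sub, coeff_X_pow, if_neg hnpos.ne, zero_sub, coeff_C_zero, neg_mem_iff]
        exact hπa2
    have hfirr : Irreducible f :=
      hfeis.irreducible (Ideal.IsMaximal.isPrime inferInstance) hfmon.isPrimitive
        (hfdeg ▸ hnpos)
    have hint : IsIntegral A (ϖ * ((uη⁻¹ : Bˣ) : B)) := Algebra.IsIntegral.isIntegral _
    have hroot : aeval (ϖ * ((uη⁻¹ : Bˣ) : B)) f = 0 := by
      rw [hf, map_sub, map_pow, aeval_X, aeval_C, hpow, sub_self]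
    have hdvd : minpoly A (ϖ * ((uη⁻¹ : Bˣ) : B)) ∣ f := minpoly.isIntegrallyClosed_dvd hint hroot
    have hassoc : Associated (minpoly A (ϖ * ((uη⁻¹ : Bˣ) : B))) f :=
      ((hfirr.dvd_iff).mp hdvd).resolve_left (minpoly.not_isUnit A _) |>.symm
    rw [eq_of_monic_of_associated (minpoly.monic hint) hfmon hassoc, hfdeg]

end Groth.Agent.S11089
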