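import Groth.Statements.S4270
import Groth.Agent.Lib.Helper11.CounitEpi
import Groth.Agent.Lib.Helper12.InvDual2
import Groth.Agent.Lib.Helper12.TensorCocont
import Groth.Agent.Lib.Helper16.FLFTensor
import Groth.Agent.Lib.Helper16.FLF5
import Groth.Agent.S7390

set_option autoImplicit false
universe u
open CategoryTheory CategoryTheory.Limits AlgebraicGeometry
attribute [local instance] HasDerivedCategory.standard
open KSix

namespace Groth.Agent.S4270

open Scheme.Modules Opposite TopologicalSpace CategoryTheory.Limits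
open Groth.Agent.Lib.helper11.SerreGG Groth.Agent.Lib.helper12.TwistExtend

/-- A morphism which is locally surjective at the points of `U` restricts to an epimorphism on `U`. -/
theorem epi_restrict_of_locally_surjective {X : Scheme.{u}} {G M : X.Modules} (φ : G ⟶ M)
    (U : X.Opens)
    (h : ∀ (V : X.Opens) (s : M.val.obj (op V)) (y : X), y ∈ V → y ∈ U →
      ∃ (W : X.Opens) (hW : W ≤ V), y ∈ W ∧
        ∃ t : G.val.obj (op W), (φ.val.app (op W)).hom t = res M hW s) :
    Epi ((restrictFunctor U.ι).map φ) := by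
  refine Groth.Agent.Lib.helper28.SecEpi.epi_of_locally_surjective _ fun V' s' y hy => ?_
  obtain ⟨W, hW, hyW, t, ht⟩ := h (U.ι ''ᵁ V') s' y.1 ⟨y, hy, rfl⟩ y.2
  have hle : U.ι ''ᵁ (U.ι ⁻¹ᵁ W) ≤ W := by
    rw [Scheme.Hom.image_preimage_eq_opensRange_inf]
    exact inf_le_right
  have hW' : U.ι ⁻¹ᵁ W ≤ V' := by
    intro z hz
    obtain ⟨z', hz', hzz⟩ := hW hz
    have : z' = z := U.ι.isOpenEmbedding.injective hzz
    exact this ▸ hz'
  refine ⟨U.ι ⁻¹ᵁ W, hW', hyW, res G hle t, ?_⟩
  change (φ.val.app (op (U.ι ''ᵁ (U.ι ⁻¹ᵁ W)))).hom (res G hle t) = _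
  rw [← res_app, ht, res_res]
  rfl

/-- Global sections generating `M` at the points of `U` give a map from a free module which is an
epimorphism over `U`. -/
theorem epi_restrict_canonBy {X : Scheme.{u}} (M : X.Modules) {ι : Type u}
    (τ : ι → M.val.obj (op ⊤)) (U : X.Opens) (h : ∀ y ∈ U, GenAtBy M τ y) :
    Epi ((restrictFunctor U.ι).map (canonBy M τ)) := by
  refine epi_restrict_of_locally_surjective _ U fun V s y hyV hyU => ?_
  obtain ⟨W, hW, hyW, hmem⟩ := h y hyU V s hyV
  obtain ⟨t, ht⟩ := gsubBy_le_range_canonBy M τ W hmem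
  exact ⟨W, hW, hyW, t, ht⟩

/-- Tensoring on the right preserves "epimorphism over `U`". -/
theorem epi_restrict_tensorMap {X : Scheme.{u}} {G M : X.Modules} (φ : G ⟶ M) (D : X.Modules)
    (U : X.Opens) (h : Epi ((restrictFunctor U.ι).map φ)) :
    Epi ((restrictFunctor U.ι).map (Groth.Agent.Lib.Lead.ModTensor.tensorMap φ (𝟙 D))) := by
  have hnat := Groth.Agent.Lib.helper12.PullTensor.restrictTensorIso_inv_naturality U.ι φ (𝟙 D)
  have h1 : (restrictFunctor U.ι).map (Groth.Agent.Lib.Lead.ModTensor.tensorMap φ (𝟙 D)) =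
      (Groth.Agent.Lib.helper12.TensorRestrict.restrictTensorIso U.ι G D).hom ≫
        Groth.Agent.Lib.Lead.ModTensor.tensorMap ((restrictFunctor U.ι).map φ)
          ((restrictFunctor U.ι).map (𝟙 D)) ≫
        (Groth.Agent.Lib.helper12.TensorRestrict.restrictTensorIso U.ι M D).inv := by
    rw [hnat, Iso.hom_inv_id_assoc]
  rw [h1, CategoryTheory.Functor.map_id]
  haveI := h
  haveI : Epi (Groth.Agent.Lib.Lead.ModTensor.tensorMap ((restrictFunctor U.ι).map φ)
      (𝟙 ((restrictFunctor U.ι).obj D))) :=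
    Groth.Agent.Lib.helper12.TensorCocont.epi_tensorMap_right _ _
  infer_instance

theorem isFinLocFree_free (X : Scheme.{u}) (ι : Type u) [Finite ι] :
    FlatMod.IsFinLocFree (SheafOfModules.free ι : X.Modules) := by
  obtain ⟨n, ⟨e⟩⟩ := Finite.exists_equiv_fin ι
  have i : FlatMod.freeMod X n ≅ (SheafOfModules.free ι : X.Modules) :=
    Sigma.reindex e.symm (fun _ : ι => Coh.structureModule X)
  exact Groth.Agent.Lib.helper16.FLF.isFinLocFree_of_iso i
    (Groth.Agent.Lib.helper16.FLF.isFinLocFree_freeMod X n)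

open Groth.Agent.Lib.Helper21.TensorMon in
theorem nonempty_assoc {Y : Scheme.{u}} (D A M : Y.Modules) :
    Nonempty (CohB1.tensorMod D (CohB1.tensorMod A M) ≅
      CohB1.tensorMod (CohB1.tensorMod D A) M) :=
  ⟨((assocIso Y.sheaf D A).app M).symm⟩

open Groth.Agent.Lib.Helper21.TensorMon in
theorem nonempty_unitor {Y : Scheme.{u}} (M : Y.Modules) :
    Nonempty (CohB1.tensorMod (Coh.structureModule Y) M ≅ M) :=
  ⟨(unitIso Y.sheaf).app M⟩

/-- One chart: a finite locally free module mapping to `M`, epimorphically over `X_s`. -/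
theorem exists_flf_epi_on_genLocus {X : Scheme.{u}} [CompactSpace X] [QuasiSeparatedSpace X]
    (M : X.Modules) (hM : Coh.IsCoh M) {A : X.Modules} (hA : PicF.IsInvertible A)
    (s : Coh.structureModule X ⟶ A) (haff : IsAffineOpen (CohB1.genLocus A s)) :
    ∃ (E : X.Modules) (ρ : E ⟶ M), FlatMod.IsFinLocFree E ∧
      Epi ((restrictFunctor (CohB1.genLocus A s).ι).map ρ) := by
  obtain ⟨m₀, hm₀⟩ := exists_genAtBy_twist hA s haff M hM
  obtain ⟨ι, hι, T, hT⟩ := hm₀ m₀ le_rfl
  have hB : PicF.IsInvertible (CohB1.tensorPow A m₀) :=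
    Groth.Agent.Lib.helper12.TensorInv.isInvertible_tensorPow hA _
  obtain ⟨D, hD, ⟨e1⟩, -⟩ := Groth.Agent.Lib.helper12.InvDual.exists_inverse hB
  have h1 := epi_restrict_canonBy _ T (CohB1.genLocus A s) hT
  have h2 := epi_restrict_tensorMap _ D _ h1
  obtain ⟨a⟩ := nonempty_assoc M (CohB1.tensorPow A m₀) D
  obtain ⟨u⟩ := nonempty_unitor M
  let w : CohB1.tensorMod (CohB1.tensorMod M (CohB1.tensorPow A m₀)) D ≅ M :=
    a.symm ≪≫ PicGrp.tensorModIso (Iso.refl M) e1 ≪≫
      Groth.Agent.Lib.helper12.InvDual.tensorModComm M (Coh.structureModule X) ≪≫ u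
  refine ⟨_, Groth.Agent.Lib.Lead.ModTensor.tensorMap (canonBy _ T) (𝟙 D) ≫ w.hom,
    Groth.Agent.Lib.helper16.FLFTensor.isFinLocFree_tensor (isFinLocFree_free X ι)
      (Groth.Agent.Lib.helper16.FLF.isFinLocFree_of_isInvertible hD), ?_⟩
  rw [CategoryTheory.Functor.map_comp]
  haveI := h2
  exact epi_comp _ _

theorem result' (X : Scheme.{u}) (hX : MoreMor.HasAmpleFamily X) :
    PerfAux.HasResolutionProperty X := by
  classical
  obtain ⟨hc, hfam⟩ := hX
  haveI := hc
  haveI hqs : QuasiSeparatedSpace X := by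
    have h1 : IsAffineHom (Limits.pullback.diagonal (Limits.terminal.from X)) :=
      Groth.Agent.S7390.result X (fun x => by
        obtain ⟨L, n, s, hL, -, hxs, haff⟩ := hfam x
        exact ⟨_, s, Groth.Agent.Lib.helper12.TensorInv.isInvertible_tensorPow hL n, hxs, haff⟩)
    rw [quasiSeparatedSpace_iff_quasiSeparated]
    exact ⟨inferInstance⟩
  intro M hMq hMft
  have hMc : Coh.IsCoh M := ⟨hMq, hMft⟩
  -- for each point a chart
  have hpt : ∀ x : X, ∃ (U : X.Opens) (E : X.Modules) (ρ : E ⟶ M), x ∈ U ∧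
      FlatMod.IsFinLocFree E ∧ Epi ((restrictFunctor U.ι).map ρ) := by
    intro x
    obtain ⟨L, n, s, hL, -, hxs, haff⟩ := hfam x
    obtain ⟨E, ρ, hE, hρ⟩ := exists_flf_epi_on_genLocus M hMc
      (Groth.Agent.Lib.helper12.TensorInv.isInvertible_tensorPow hL n) s haff
    exact ⟨_, E, ρ, hxs, hE, hρ⟩
  choose U E ρ hxU hE hρ using hpt
  obtain ⟨t, ht⟩ := isCompact_univ.elim_finite_subcover (fun x : X => ((U x : X.Opens) : Set X))
    (fun x => (U x).2) (fun x _ => Set.mem_iUnion.mpr ⟨x, hxU x⟩)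
  -- finite sums
  have hsum : ∀ t : Finset X, ∃ (F : X.Modules) (Φ : F ⟶ M), FlatMod.IsFinLocFree F ∧
      ∀ x ∈ t, Epi ((restrictFunctor (U x).ι).map Φ) := by
    intro t
    induction t using Finset.induction_on with
    | empty =>
      exact ⟨Coh.structureModule X, 0,
        Groth.Agent.Lib.helper16.FLF.isFinLocFree_structureModule X, by simp⟩
    | insert x₀ t hx₀ ih =>
      obtain ⟨F, Φ, hF, hΦ⟩ := ih
      refine ⟨F ⊞ E x₀, biprod.desc Φ (ρ x₀),
        Groth.Agent.Lib.helper16.FLF.isFinLocFree_biprod hF (hE x₀), ?_⟩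
      intro x hx
      rcases Finset.mem_insert.mp hx with rfl | hx
      · have h1 : (biprod.inr : E x ⟶ F ⊞ E x) ≫ biprod.desc Φ (ρ x) = ρ x :=
          biprod.inr_desc _ _
        have h2 : (restrictFunctor (U x).ι).map (biprod.inr : E x ⟶ F ⊞ E x) ≫
            (restrictFunctor (U x).ι).map (biprod.desc Φ (ρ x)) =
            (restrictFunctor (U x).ι).map (ρ x) := by
          rw [← CategoryTheory.Functor.map_comp, h1]
        haveI : Epi ((restrictFunctor (U x).ι).map (biprod.inr : E x ⟶ F ⊞ E x) ≫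
            (restrictFunctor (U x).ι).map (biprod.desc Φ (ρ x))) := by
          rw [h2]; exact hρ x
        exact epi_of_epi ((restrictFunctor (U x).ι).map (biprod.inr : E x ⟶ F ⊞ E x)) _
      · have h1 : (biprod.inl : F ⟶ F ⊞ E x₀) ≫ biprod.desc Φ (ρ x₀) = Φ :=
          biprod.inl_desc _ _
        have h2 : (restrictFunctor (U x).ι).map (biprod.inl : F ⟶ F ⊞ E x₀) ≫
            (restrictFunctor (U x).ι).map (biprod.desc Φ (ρ x₀)) =
            (restrictFunctor (U x).ι).map Φ := by
          rw [← CategoryTheory.Functor.map_comp, h1]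
        haveI : Epi ((restrictFunctor (U x).ι).map (biprod.inl : F ⟶ F ⊞ E x₀) ≫
            (restrictFunctor (U x).ι).map (biprod.desc Φ (ρ x₀))) := by
          rw [h2]; exact hΦ x hx
        exact epi_of_epi ((restrictFunctor (U x).ι).map (biprod.inl : F ⟶ F ⊞ E x₀)) _
  obtain ⟨F, Φ, hF, hΦ⟩ := hsum t
  refine ⟨F, Φ, hF, ?_⟩
  refine Groth.Agent.Lib.helper11.CounitEpi.epi_of_forall_restrict Φ fun y => ?_
  have hy := ht (Set.mem_univ y)
  simp only [Set.mem_iUnion] at hy
  obtain ⟨x, hxt, hyx⟩ := hy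
  exact ⟨U x, hyx, hΦ x hxt⟩


/-- A scheme admitting an ample family of invertible modules has the resolution property: every
quasi-coherent module of finite type is a quotient of a finite locally free module. -/
theorem result (X : Scheme.{u}) (hX : MoreMor.HasAmpleFamily X) :
    PerfAux.HasResolutionProperty X := by
  exact result' X hX

end Groth.Agent.S4270
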