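import Groth.Statements.S1109
import Groth.Agent.Lib.Lead.AmpFam4
import Groth.Agent.S2821
import Groth.Agent.S4270

set_option autoImplicit false
universe u
open CategoryTheory AlgebraicGeometry
open Perf

namespace Groth.Agent.S1109

/-- Let X be a quasi-compact, locally Noetherian scheme all of whose local rings are regular and whose
diagonal is affine (intersections of affine opens are affine). Then X has the resolution property. -/
theorem result (X : Scheme.{u}) [CompactSpace ↥X] [IsLocallyNoetherian X]
    (hreg : ∀ x : X, IsRegularLocalRing (X.presheaf.stalk x))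
    (hdiag : ∀ U V : X.Opens, IsAffineOpen U → IsAffineOpen V → IsAffineOpen (U ⊓ V)) :
    PerfAux.HasResolutionProperty X := by
  refine Groth.Agent.S4270.result X
    (Groth.Agent.Lib.Lead.AmpFam.hasAmpleFamily_of_locallyFactorial (fun x => ?_) hdiag)
  haveI := hreg x
  obtain ⟨h1, h2⟩ := Groth.Agent.S2821.result (X.presheaf.stalk x)
  exact ⟨h1, h2⟩

end Groth.Agent.S1109
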