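import Groth.Statements.S11092
import Groth.Agent.Lib.Helper26.KaehlerField
import Mathlib

set_option autoImplicit false
universe u v
open CAlg

namespace Groth.Agent.S11092

open Groth.Agent.Lib.helper26 TensorProduct

/-- A linear map out of a one-dimensional space is zero or injective. -/
theorem zero_or_injective {K V W : Type*} [Field K] [AddCommGroup V] [Module K V] [AddCommGroup W] [Module K W]
    (h1 : Module.finrank K V = 1) (f : V →ₗ[K] W) : f = 0 ∨ Function.Injective f := by
  obtain ⟨v, hv0, hv⟩ := finrank_eq_one_iff'.mp h1
  by_cases hfv : f v = 0
  · left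
    ext w
    obtain ⟨c, rfl⟩ := hv w
    rw [map_smul, hfv, smul_zero, LinearMap.zero_apply]
  · right
    rw [injective_iff_map_eq_zero]
    intro w hw
    obtain ⟨c, rfl⟩ := hv w
    rw [map_smul, smul_eq_zero] at hw
    rcases hw with hc | hc
    · rw [hc, zero_smul]
    · exact absurd hc hfv

/-- Let k be an algebraically closed field, K a field finitely generated over k admitting a one-element
transcendence basis over k (a function field of dimension one), and L a finite extension field of K
with the compatible k-algebra structure. Then the K-linear map from the Kähler differentials of K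
over k to those of L over k induced by the inclusion is either the zero map or injective, and it is
injective if and only if L is separable over K. (The published statement takes K ⊆ L to be the
function fields of two elliptic curves related by a nonzero homomorphism; its proof uses only that
they are function fields of dimension one over k.) -/
theorem result (k : Type u) (K L : Type v)
    [Field k] [IsAlgClosed k] [Field K] [Field L] [Algebra k K] [Algebra k L] [Algebra K L]
    [IsScalarTower k K L] (hK : (⊤ : IntermediateField k K).FG)
    (hx : ∃ x : K, IsTranscendenceBasis k (fun _ : Unit => x)) [FiniteDimensional K L] :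
    (KaehlerDifferential.map k k K L = 0 ∨ Function.Injective (KaehlerDifferential.map k k K L)) ∧
      (Function.Injective (KaehlerDifferential.map k k K L) ↔ Algebra.IsSeparable K L) := by
  obtain ⟨x, hx⟩ := hx
  have hessK : Algebra.EssFiniteType k K := IntermediateField.fg_top_iff.mp hK
  have hessKL : Algebra.EssFiniteType K L := inferInstance
  have hessL : Algebra.EssFiniteType k L := Algebra.EssFiniteType.comp k K L
  have hrK : Module.finrank K (Ω[K⁄k]) = 1 := finrank_kaehler_eq_one x hx
  have hxL : IsTranscendenceBasis k (fun _ : Unit => algebraMap K L x) := hx.algebraMap_comp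
  have hrL : Module.finrank L (Ω[L⁄k]) = 1 := finrank_kaehler_eq_one (algebraMap K L x) hxL
  refine ⟨zero_or_injective hrK _, ?_, ?_⟩
  · -- injective implies separable
    intro hinj
    obtain ⟨ω, hω0, hω⟩ := finrank_eq_one_iff'.mp hrK
    have hw0 : KaehlerDifferential.map k k K L ω ≠ 0 := fun h0 =>
      hω0 (hinj (by rw [h0, map_zero]))
    have hsub : Subsingleton (Ω[L⁄K]) := by
      refine subsingleton_of_forall_eq 0 fun y => ?_
      obtain ⟨z, rfl⟩ := KaehlerDifferential.map_surjective k K L y
      obtain ⟨w, hw0', hw⟩ := finrank_eq_one_iff'.mp hrL
      -- `map ω` spans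
      obtain ⟨c, hc⟩ := hw (KaehlerDifferential.map k k K L ω)
      have hc0 : c ≠ 0 := by
        rintro rfl
        rw [zero_smul] at hc
        exact hw0 hc.symm
      obtain ⟨d, rfl⟩ := hw z
      have : d • w = KaehlerDifferential.mapBaseChange k K L ((d * c⁻¹) ⊗ₜ ω) := by
        rw [KaehlerDifferential.mapBaseChange_tmul, ← hc, smul_smul, mul_assoc, inv_mul_cancel₀ hc0,
          mul_one]
      rw [this]
      exact (KaehlerDifferential.exact_mapBaseChange_map k K L).apply_apply_eq_zero _
    have hunr : Algebra.FormallyUnramified K L := ⟨hsub⟩
    exact Algebra.FormallyUnramified.isSeparable K L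
  · -- separable implies injective
    intro hsep
    have hfe : Algebra.FormallyEtale K L := Algebra.FormallyEtale.of_isSeparable K L
    rw [injective_iff_map_eq_zero]
    intro z hz
    have h1 : KaehlerDifferential.tensorKaehlerEquivOfFormallyEtale k K L ((1 : L) ⊗ₜ z) = 0 := by
      rw [KaehlerDifferential.tensorKaehlerEquivOfFormallyEtale_apply,
        KaehlerDifferential.mapBaseChange_tmul, one_smul, hz]
    have h2 : (1 : L) ⊗ₜ[K] z = 0 :=
      (KaehlerDifferential.tensorKaehlerEquivOfFormallyEtale k K L).injective (by rw [h1, map_zero])
    have h3 := Module.Flat.tensorProduct_mk_injective K (Ω[K⁄k]) L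
    apply h3
    rw [map_zero]
    exact h2

end Groth.Agent.S11092
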