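import Groth.Statements.S11095
import Mathlib
import Groth.Agent.Lib.Helper3.GeomRed
import Groth.Agent.Lib.Helper3.SepClosedIn

set_option autoImplicit false
universe u
open CAlg

namespace Groth.Agent.S11095

/-- Let K₀ be a perfect field, K an algebraic extension of K₀ and F₀ a field extension of K₀ such that
K₀ is algebraically closed in F₀. Then the K₀-algebra F₀ ⊗ K is a field; consequently F₀ and K,
embedded in it by x ↦ x ⊗ 1 and y ↦ 1 ⊗ y, are linearly disjoint over K₀. -/
theorem result (K₀ F₀ K : Type u)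
    [Field K₀] [PerfectField K₀] [Field F₀] [Algebra K₀ F₀] [Field K] [Algebra K₀ K]
    [Algebra.IsAlgebraic K₀ K] (h : algebraicClosure K₀ F₀ = ⊥) :
    IsField (TensorProduct K₀ F₀ K) := by
  have hsep : separableClosure K₀ F₀ = ⊥ := by
    rw [eq_bot_iff, ← h]
    exact le_algebraicClosure K₀ F₀ (separableClosure K₀ F₀)
  have hirr : IrreducibleSpace (PrimeSpectrum (TensorProduct K₀ K F₀)) :=
    Groth.Agent.Lib.helper3.SepClosedIn.geomIrr_of_separableClosure_eq_bot hsep K
  have hred : IsReduced (TensorProduct K₀ K F₀) := by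
    have : Algebra.IsGeometricallyReduced K₀ F₀ :=
      Groth.Agent.Lib.helper3.GeomRed.isGeometricallyReduced_of_perfectField K₀ F₀
    exact Groth.Agent.Lib.helper3.GeomRed.isReduced_tensor_of_isGeometricallyReduced K₀ K F₀
  have hdom : IsDomain (TensorProduct K₀ K F₀) := by
    rw [PrimeSpectrum.irreducibleSpace_iff_isPrime_nilradical, nilradical_eq_zero] at hirr
    have h1 : IsDomain (TensorProduct K₀ K F₀ ⧸ (⊥ : Ideal (TensorProduct K₀ K F₀))) :=
      (Ideal.Quotient.isDomain_iff_prime _).mpr hirr
    exact (RingEquiv.quotientBot (TensorProduct K₀ K F₀)).toMulEquiv.symm.isDomain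
  have hdom' : IsDomain (TensorProduct K₀ F₀ K) :=
    (Algebra.TensorProduct.comm K₀ F₀ K).toMulEquiv.isDomain
  exact Algebra.TensorProduct.isField_of_isAlgebraic K₀ F₀ K (Or.inr inferInstance)

end Groth.Agent.S11095
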