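import Groth.Statements.S11096
-- import your own Groth.Agent.* helpers here

set_option autoImplicit false
universe u
open Neron

namespace Groth.Agent.S11096

/-- Let a Weierstrass equation have coefficients in a commutative ring R and let I be an ideal with a₃,
a₄, a₆ ∈ I. If the discriminant Δ does not lie in I ^ 2, then a₆ does not lie in I ^ 2 and b₂ does
not lie in I. (For a discrete valuation ring with maximal ideal (π): if π divides a₃, a₄, a₆ and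
v(Δ) = 1, then v(a₆) = 1 and π does not divide b₂.) -/
theorem result {R : Type u} [CommRing R] (W : WeierstrassCurve R)
    (I : Ideal R) (h3 : W.a₃ ∈ I) (h4 : W.a₄ ∈ I) (h6 : W.a₆ ∈ I) (hΔ : W.Δ ∉ I ^ 2) :
    W.a₆ ∉ I ^ 2 ∧ W.b₂ ∉ I := by
  have hmul : ∀ x y : R, x ∈ I → y ∈ I → x * y ∈ I ^ 2 := by
    intro x y hx hy; rw [sq]; exact Ideal.mul_mem_mul hx hy
  have hb4 : W.b₄ ∈ I := by
    rw [WeierstrassCurve.b₄]
    exact I.add_mem (I.mul_mem_left _ h4) (I.mul_mem_left _ h3)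
  have hb6 : W.b₆ ∈ I := by
    rw [WeierstrassCurve.b₆]
    exact I.add_mem (I.pow_mem_of_mem h3 2 (by norm_num)) (I.mul_mem_left _ h6)
  have hΔeq : W.Δ = W.b₂ * W.b₂ * (-W.b₈) + (W.b₄ * W.b₄) * (-8 * W.b₄) + (W.b₆ * W.b₆) * (-27)
      + (W.b₄ * W.b₆) * (9 * W.b₂) := by
    rw [WeierstrassCurve.Δ]; ring
  constructor
  · intro h6'
    apply hΔ
    have hb8 : W.b₈ ∈ I ^ 2 := by
      have : W.b₈ = W.a₆ * (W.a₁ ^ 2 + 4 * W.a₂) + (W.a₃ * W.a₄) * (-W.a₁)
          + (W.a₃ * W.a₃) * W.a₂ + (W.a₄ * W.a₄) * (-1) := by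
        rw [WeierstrassCurve.b₈]; ring
      rw [this]
      refine Ideal.add_mem _ (Ideal.add_mem _ (Ideal.add_mem _ ?_ ?_) ?_) ?_
      · exact Ideal.mul_mem_right _ _ h6'
      · exact Ideal.mul_mem_right _ _ (hmul _ _ h3 h4)
      · exact Ideal.mul_mem_right _ _ (hmul _ _ h3 h3)
      · exact Ideal.mul_mem_right _ _ (hmul _ _ h4 h4)
    rw [hΔeq]
    refine Ideal.add_mem _ (Ideal.add_mem _ (Ideal.add_mem _ ?_ ?_) ?_) ?_
    · have : W.b₂ * W.b₂ * (-W.b₈) = W.b₈ * (-(W.b₂ * W.b₂)) := by ring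
      rw [this]
      exact Ideal.mul_mem_right _ _ hb8
    · exact Ideal.mul_mem_right _ _ (hmul _ _ hb4 hb4)
    · exact Ideal.mul_mem_right _ _ (hmul _ _ hb6 hb6)
    · exact Ideal.mul_mem_right _ _ (hmul _ _ hb4 hb6)
  · intro hb2
    apply hΔ
    rw [hΔeq]
    refine Ideal.add_mem _ (Ideal.add_mem _ (Ideal.add_mem _ ?_ ?_) ?_) ?_
    · exact Ideal.mul_mem_right _ _ (hmul _ _ hb2 hb2)
    · exact Ideal.mul_mem_right _ _ (hmul _ _ hb4 hb4)
    · exact Ideal.mul_mem_right _ _ (hmul _ _ hb6 hb6)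
    · exact Ideal.mul_mem_right _ _ (hmul _ _ hb4 hb6)

end Groth.Agent.S11096
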