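import Groth.Statements.S11097
import Mathlib

set_option autoImplicit false
universe u
open Polynomial
open Neron

namespace Groth.Agent.S11097

open WeierstrassCurve.Affine

section
variable {R : Type u} [CommRing R] (W : WeierstrassCurve.Affine R)

/-- The class of `x`. -/
noncomputable abbrev xB : W.CoordinateRing := CoordinateRing.mk W (C X)
/-- The class of `y`. -/
noncomputable abbrev yB : W.CoordinateRing := CoordinateRing.mk W X

theorem algebraMap_eq_mk (r : R) : algebraMap R W.CoordinateRing r = CoordinateRing.mk W (C (C r)) := rfl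

/-- `a₆` lies in the ideal generated by `x` and `y`. -/
theorem a6_mem : algebraMap R W.CoordinateRing W.a₆ ∈ Ideal.span {xB W, yB W} := by
  have hpoly : W.polynomial = X * (X + C (C W.a₁ * X + C W.a₃)) -
      C X * C (X ^ 2 + C W.a₂ * X + C W.a₄) - C (C W.a₆) := by
    simp only [WeierstrassCurve.Affine.polynomial, map_add, map_mul, map_pow]
    ring
  have h0 : CoordinateRing.mk W (X * (X + C (C W.a₁ * X + C W.a₃)) -
      C X * C (X ^ 2 + C W.a₂ * X + C W.a₄) - C (C W.a₆)) = 0 := by
    rw [← hpoly]; exact AdjoinRoot.mk_self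
  rw [map_sub, map_sub, sub_eq_zero] at h0
  rw [algebraMap_eq_mk, ← h0, map_mul, map_mul]
  refine Ideal.sub_mem _ (Ideal.mul_mem_right _ _ (Ideal.subset_span (by simp)))
    (Ideal.mul_mem_right _ _ (Ideal.subset_span (by simp)))

/-- Every element is a constant modulo `(x, y)`. -/
theorem exists_const (b : W.CoordinateRing) :
    ∃ r : R, b - algebraMap R W.CoordinateRing r ∈ Ideal.span {xB W, yB W} := by
  obtain ⟨f, rfl⟩ := AdjoinRoot.mk_surjective b
  obtain ⟨g, hg⟩ : ∃ g : R[X], g = f.coeff 0 := ⟨_, rfl⟩
  obtain ⟨r, hr⟩ : ∃ r : R, r = g.coeff 0 := ⟨_, rfl⟩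
  refine ⟨r, ?_⟩
  have h1 : divX f * X + C g = f := by rw [hg]; exact divX_mul_X_add f
  have h2 : divX g * X + C r = g := by rw [hr]; exact divX_mul_X_add g
  have e1 : CoordinateRing.mk W f = CoordinateRing.mk W (divX f) * yB W + CoordinateRing.mk W (C g) := by
    conv_lhs => rw [← h1]
    rw [map_add, map_mul]
  have e2 : CoordinateRing.mk W (C g) =
      CoordinateRing.mk W (C (divX g)) * xB W + CoordinateRing.mk W (C (C r)) := by
    conv_lhs => rw [← h2]
    rw [map_add, map_add, map_mul, map_mul]
  have h3 : CoordinateRing.mk W f - algebraMap R W.CoordinateRing r =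
      CoordinateRing.mk W (divX f) * yB W + CoordinateRing.mk W (C (divX g)) * xB W := by
    rw [algebraMap_eq_mk, e1, e2]
    ring
  rw [h3]
  exact Ideal.add_mem _ (Ideal.mul_mem_left _ _ (Ideal.subset_span (by simp)))
    (Ideal.mul_mem_left _ _ (Ideal.subset_span (by simp)))

end

/-- In a discrete valuation ring, an element of `m \ m²` generates `m`. -/
theorem maximalIdeal_eq_span {R : Type u} [CommRing R] [IsDomain R] [IsDiscreteValuationRing R] (a : R)
    (h1 : a ∈ IsLocalRing.maximalIdeal R) (h2 : a ∉ IsLocalRing.maximalIdeal R ^ 2) :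
    IsLocalRing.maximalIdeal R = Ideal.span {a} := by
  obtain ⟨ϖ, hϖ⟩ := IsDiscreteValuationRing.exists_irreducible R
  have hm : IsLocalRing.maximalIdeal R = Ideal.span {ϖ} :=
    (IsDiscreteValuationRing.irreducible_iff_uniformizer ϖ).mp hϖ
  have ha0 : a ≠ 0 := by
    rintro rfl
    exact h2 (zero_mem _)
  obtain ⟨n, u, hu⟩ := IsDiscreteValuationRing.eq_unit_mul_pow_irreducible ha0 hϖ
  have hn : n = 1 := by
    rcases Nat.lt_or_ge n 1 with h | h
    · exfalso
      have hn0 : n = 0 := by omega
      rw [hn0, pow_zero, mul_one] at hu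
      rw [hu] at h1
      exact (IsLocalRing.mem_maximalIdeal _).mp h1 u.isUnit
    · rcases Nat.lt_or_ge n 2 with h' | h'
      · omega
      · exfalso
        apply h2
        rw [hm, Ideal.span_singleton_pow, Ideal.mem_span_singleton, hu]
        exact Dvd.dvd.mul_left (pow_dvd_pow ϖ h') _
  rw [hn, pow_one] at hu
  rw [hm, hu, Ideal.span_singleton_eq_span_singleton]
  exact ⟨u, by rw [mul_comm]⟩

/-- Let R be a discrete valuation ring with maximal ideal m and let y² + a₁xy + a₃y = x³ + a₂x² + a₄x +
a₆ be a Weierstrass equation with coefficients in R such that a₃, a₄, a₆ ∈ m and a₆ ∉ m². Then the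
affine scheme defined by the equation over R is regular at the point π = x = y = 0 of its special
fibre: the localization of the coordinate ring at a maximal ideal containing the image of m and the
classes of x and y is a regular local ring. (The published statement asserts regularity of the
projective Weierstrass scheme; this row states it at the point π = x = y = 0 of the special fibre.) -/
theorem result (R : Type u) [CommRing R] [IsDomain R]
    [IsDiscreteValuationRing R] (W : WeierstrassCurve.Affine R)
    (h3 : W.a₃ ∈ IsLocalRing.maximalIdeal R) (h4 : W.a₄ ∈ IsLocalRing.maximalIdeal R)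
    (h6 : W.a₆ ∈ IsLocalRing.maximalIdeal R) (h6' : W.a₆ ∉ IsLocalRing.maximalIdeal R ^ 2)
    (P : Ideal W.CoordinateRing) [P.IsMaximal]
    (hP : ∀ r ∈ IsLocalRing.maximalIdeal R, algebraMap R W.CoordinateRing r ∈ P)
    (hx : WeierstrassCurve.Affine.CoordinateRing.mk W (C X) ∈ P)
    (hy : WeierstrassCurve.Affine.CoordinateRing.mk W X ∈ P) :
    IsRegularLocalRing (Localization.AtPrime P) := by
  have hm := maximalIdeal_eq_span W.a₆ h6 h6'
  have ha60 : W.a₆ ≠ 0 := by
    intro h0
    exact h6' (h0 ▸ zero_mem _)
  -- P = (x, y)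
  have hspanle : Ideal.span {xB W, yB W} ≤ P := by
    rw [Ideal.span_le]
    rintro _ (rfl | rfl)
    · exact hx
    · exact hy
  have hPeq : P = Ideal.span {xB W, yB W} := by
    refine le_antisymm ?_ hspanle
    intro b hb
    obtain ⟨r, hr⟩ := exists_const W b
    have hrP : algebraMap R W.CoordinateRing r ∈ P := by
      have := P.sub_mem hb (hspanle hr)
      simpa using this
    have hrm : r ∈ IsLocalRing.maximalIdeal R := by
      by_contra hnm
      have hu : IsUnit r := by
        by_contra hnu
        exact hnm ((IsLocalRing.mem_maximalIdeal r).mpr hnu)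
      exact (Ideal.IsMaximal.ne_top inferInstance) (Ideal.eq_top_of_isUnit_mem P hrP (hu.map _))
    rw [hm, Ideal.mem_span_singleton] at hrm
    obtain ⟨c, rfl⟩ := hrm
    have : b = (b - algebraMap R W.CoordinateRing (W.a₆ * c)) +
        algebraMap R W.CoordinateRing W.a₆ * algebraMap R W.CoordinateRing c := by
      rw [map_mul]; ring
    rw [this]
    exact Ideal.add_mem _ hr (Ideal.mul_mem_right _ _ (a6_mem W))
  -- the height of P is at least 2
  have hheight : (2 : ℕ∞) ≤ P.height := by
    let p₀ : Ideal R[X] := P.under R[X]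
    have hp₀ : p₀.IsPrime := inferInstance
    have hlies : P.LiesOver p₀ := ⟨rfl⟩
    have hge := Ideal.height_eq_height_add_of_liesOver_of_hasGoingDown p₀ P
    have hXp₀ : (X : R[X]) ∈ p₀ := by
      show algebraMap R[X] W.CoordinateRing X ∈ P
      exact hx
    have hCp₀ : (C W.a₆ : R[X]) ∈ p₀ := by
      show algebraMap R[X] W.CoordinateRing (C W.a₆) ∈ P
      exact hP _ h6
    have hq₁ : (Ideal.span {(X : R[X])}).IsPrime := by
      rw [Ideal.span_singleton_prime X_ne_zero]
      exact prime_X
    have hlt1 : (⊥ : Ideal R[X]) < Ideal.span {(X : R[X])} := by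
      rw [bot_lt_iff_ne_bot, ne_eq, Ideal.span_singleton_eq_bot]
      exact X_ne_zero
    have hlt2 : Ideal.span {(X : R[X])} < p₀ := by
      refine lt_of_le_of_ne ((Ideal.span_singleton_le_iff_mem _).mpr hXp₀) ?_
      intro heq
      have : (C W.a₆ : R[X]) ∈ Ideal.span {(X : R[X])} := heq ▸ hCp₀
      rw [Ideal.mem_span_singleton, X_dvd_iff, coeff_C_zero] at this
      exact ha60 this
    have hbot : (⊥ : Ideal R[X]).IsPrime := Ideal.isPrime_bot
    have e1 := Ideal.height_add_one_le_of_lt_of_isPrime hlt1
    have e2 := Ideal.height_add_one_le_of_lt_of_isPrime hlt2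
    have e3 : (2 : ℕ∞) ≤ p₀.height := by
      calc (2 : ℕ∞) = 0 + 1 + 1 := by norm_num
        _ ≤ (⊥ : Ideal R[X]).height + 1 + 1 := by gcongr; exact zero_le
        _ ≤ (Ideal.span {(X : R[X])}).height + 1 := by gcongr
        _ ≤ p₀.height := e2
    rw [hge]
    exact le_trans e3 le_self_add
  -- conclude
  apply IsRegularLocalRing.of_spanFinrank_maximalIdeal_le
  rw [IsLocalization.AtPrime.ringKrullDim_eq_height P (Localization.AtPrime P)]
  have hmax : IsLocalRing.maximalIdeal (Localization.AtPrime P) =
      Ideal.span {algebraMap W.CoordinateRing (Localization.AtPrime P) (xB W),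
        algebraMap W.CoordinateRing (Localization.AtPrime P) (yB W)} := by
    rw [← Localization.AtPrime.map_eq_maximalIdeal]
    rw [congrArg (Ideal.map (algebraMap W.CoordinateRing (Localization.AtPrime P))) hPeq]
    rw [Ideal.map_span]
    congr 1
    simp [Set.image_pair]
  rw [hmax]
  have hfin : (Submodule.span (Localization.AtPrime P)
      {algebraMap W.CoordinateRing (Localization.AtPrime P) (xB W),
        algebraMap W.CoordinateRing (Localization.AtPrime P) (yB W)}).spanFinrank ≤ 2 := by
    refine le_trans (Submodule.spanFinrank_span_le_ncard_of_finite (Set.toFinite _)) ?_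
    exact (Set.ncard_insert_le _ _).trans (by simp)
  have h1 : (((Submodule.span (Localization.AtPrime P)
      {algebraMap W.CoordinateRing (Localization.AtPrime P) (xB W),
        algebraMap W.CoordinateRing (Localization.AtPrime P) (yB W)}).spanFinrank : ℕ) : ℕ∞) ≤ 2 := by
    exact_mod_cast hfin
  have h2 := h1.trans hheight
  exact_mod_cast WithBot.coe_le_coe.mpr h2

end Groth.Agent.S11097
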