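import Groth.Statements.S1110
import Groth.Agent.Lib.Helper16.Satur5
import Groth.Agent.Lib.Helper16.FLF5
import Groth.Agent.Lib.Helper16.QCohEpi
import Groth.Agent.Lib.Helper16.QCohAffinePush

set_option autoImplicit false
universe u
open CategoryTheory AlgebraicGeometry
open Perf

namespace Groth.Agent.S1110

open CategoryTheory.Limits TopologicalSpace Opposite Scheme.Modules
open Groth.Agent.Lib.helper16

section aux
variable {Y : Scheme.{u}}

/-- Step A: finitely many finite sets of sections over affine opens of a quasi-coherent module on a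
qcqs scheme with the resolution property are hit by one map from a finite locally free module. -/
theorem exists_flf_hitting [CompactSpace Y] [QuasiSeparatedSpace Y]
    (hY : PerfAux.HasResolutionProperty Y) (N : Y.Modules) [N.IsQuasicoherent]
    (T : ∀ V : Y.affineOpens, Finset Γ(N, V.1)) (t : Finset Y.affineOpens) :
    ∃ (E : Y.Modules) (φ : E ⟶ N), FlatMod.IsFinLocFree E ∧
      ∀ V ∈ t, ∀ m ∈ T V, ∃ e : Γ(E, V.1), φ.app V.1 e = m := by
  classical
  induction t using Finset.induction_on with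
  | empty =>
    exact ⟨Coh.structureModule Y, 0, FLF.isFinLocFree_structureModule Y, by simp⟩
  | insert V₀ t hV₀ ih =>
    obtain ⟨E, φ, hE, hφ⟩ := ih
    obtain ⟨G, i, _, hGq, hGft, hG⟩ := Satur.exists_ft_sub_sections N V₀.2 (T V₀)
    obtain ⟨E₀, π, hE₀, hπ⟩ := hY G hGq hGft
    haveI : E₀.IsQuasicoherent := FLF.isQuasicoherent_of_isFinLocFree E₀ hE₀
    haveI : G.IsQuasicoherent := hGq
    have hsurj := QCohEpi.surjective_app_of_epi π V₀.2
    refine ⟨E ⊞ E₀, biprod.desc φ (π ≫ i), FLF.isFinLocFree_biprod hE hE₀, ?_⟩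
    intro V hV m hm
    rcases Finset.mem_insert.mp hV with rfl | hV
    · obtain ⟨g, hg⟩ := hG m hm
      obtain ⟨e₀, he₀⟩ := hsurj g
      refine ⟨(biprod.inr : E₀ ⟶ E ⊞ E₀).app V.1 e₀, ?_⟩
      have h1 : (biprod.inr : E₀ ⟶ E ⊞ E₀) ≫ biprod.desc φ (π ≫ i) = π ≫ i := biprod.inr_desc _ _
      have h2 := congrArg (fun ψ => (Hom.app ψ V.1) e₀) h1
      simp only [Hom.comp_app] at h2
      rw [← hg, ← he₀]
      exact h2
    · obtain ⟨e, he⟩ := hφ V hV m hm
      refine ⟨(biprod.inl : E ⟶ E ⊞ E₀).app V.1 e, ?_⟩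
      have h1 : (biprod.inl : E ⟶ E ⊞ E₀) ≫ biprod.desc φ (π ≫ i) = φ := biprod.inl_desc _ _
      have h2 := congrArg (fun ψ => (Hom.app ψ V.1) e) h1
      simp only [Hom.comp_app] at h2
      rw [← he]
      exact h2

end aux


/-- For an affine morphism f : X ⟶ Y over a quasi-compact, quasi-separated Y, the resolution property
passes from Y up to X. (The source also treats quasi-affine f.) -/
theorem result {X Y : Scheme.{u}} (f : X ⟶ Y) [IsAffineHom f] [CompactSpace ↥Y] [QuasiSeparatedSpace ↥Y]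
    (hY : PerfAux.HasResolutionProperty Y) : PerfAux.HasResolutionProperty X := by
  classical
  intro M hMq hMft
  haveI : M.IsQuasicoherent := hMq
  -- the pushforward is quasi-coherent
  haveI hN : ((Scheme.Modules.pushforward f).obj M).IsQuasicoherent :=
    QCohAffinePush.isQuasicoherent_push f M
  -- finite generating sets over the preimages of affine opens
  have hfin : ∀ V : Y.affineOpens, Module.Finite Γ(X, f ⁻¹ᵁ V.1) Γ(M, f ⁻¹ᵁ V.1) := fun V =>
    CohFinite.finite_sections_of_isFiniteType M hMft (V.2.preimage f)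
  have hspan : ∀ V : Y.affineOpens, ∃ S : Finset Γ(M, f ⁻¹ᵁ V.1),
      Submodule.span Γ(X, f ⁻¹ᵁ V.1) (S : Set Γ(M, f ⁻¹ᵁ V.1)) = ⊤ := fun V =>
    (hfin V).fg_top
  choose T hT using hspan
  -- a finite affine cover of Y
  obtain ⟨t, ht⟩ : ∃ t : Finset Y.affineOpens, ∀ y : Y, ∃ V ∈ t, y ∈ V.1 := by
    obtain ⟨t, ht⟩ := isCompact_univ.elim_finite_subcover
      (fun V : Y.affineOpens => (V.1 : Set Y)) (fun V => V.1.2) (by
        intro y _
        obtain ⟨_, ⟨V, hV, rfl⟩, hyV, -⟩ := (Scheme.isBasis_affineOpens Y).exists_subset_of_mem_open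
          (Set.mem_univ y) isOpen_univ
        exact Set.mem_iUnion.mpr ⟨⟨V, hV⟩, hyV⟩)
    refine ⟨t, fun y => ?_⟩
    have := ht (Set.mem_univ y)
    simp only [Set.mem_iUnion] at this
    obtain ⟨V, hV, hy⟩ := this
    exact ⟨V, hV, hy⟩
  obtain ⟨E, φ, hE, hφ⟩ := exists_flf_hitting hY ((Scheme.Modules.pushforward f).obj M)
    (fun V => T V) t
  -- the adjoint map
  let adj := Scheme.Modules.pullbackPushforwardAdjunction f
  let ψ : (Scheme.Modules.pullback f).obj E ⟶ M := (adj.homEquiv E M).symm φ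
  have hφψ : φ = adj.unit.app E ≫ (Scheme.Modules.pushforward f).map ψ := by
    have := adj.homEquiv_unit (X := E) (Y := M) (f := ψ)
    rw [← this]
    exact ((adj.homEquiv E M).apply_symm_apply φ).symm
  refine ⟨(Scheme.Modules.pullback f).obj E, ψ, FLF.isFinLocFree_pullback f hE, ?_⟩
  refine QCohEpi.epi_of_surjective_on_affine_cover ψ (fun V : t => f ⁻¹ᵁ V.1.1)
    (fun V => V.1.2.preimage f) (fun x => ?_) (fun V => ?_)
  · obtain ⟨V, hV, hx⟩ := ht (f x)
    exact ⟨⟨V, hV⟩, hx⟩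
  · -- surjectivity on sections over f⁻¹V
    let R : Submodule Γ(X, f ⁻¹ᵁ V.1.1) Γ(M, f ⁻¹ᵁ V.1.1) :=
      { carrier := Set.range (ψ.app (f ⁻¹ᵁ V.1.1)).hom
        add_mem' := by
          rintro _ _ ⟨a, rfl⟩ ⟨b, rfl⟩
          exact ⟨a + b, map_add _ _ _⟩
        zero_mem' := ⟨0, map_zero _⟩
        smul_mem' := by
          rintro r _ ⟨a, rfl⟩
          exact ⟨r • a, Hom.app_smul ψ r a⟩ }
    have hR : (T V.1 : Set Γ(M, f ⁻¹ᵁ V.1.1)) ⊆ R := by
      intro m hm
      obtain ⟨e, he⟩ := hφ V.1 V.2 m hm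
      refine ⟨(adj.unit.app E).app V.1.1 e, ?_⟩
      rw [hφψ] at he
      exact he
    have : R = ⊤ := by
      rw [eq_top_iff, ← hT V.1]
      exact Submodule.span_le.mpr hR
    intro m
    have hm : m ∈ R := by rw [this]; trivial
    exact hm

end Groth.Agent.S1110
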