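import Groth.Statements.S11100
import Groth.Agent.Lib.Helper17.RegSmoothFlat2

set_option autoImplicit false
set_option linter.style.haveILetI false
universe u
open CategoryTheory AlgebraicGeometry
open Neron

namespace Groth.Agent.S11100

/-- Let R be a Dedekind domain and p : X → Spec R flat and locally of finite presentation with X regular
(all local rings regular). Then every section s of p factors through the smooth locus of p: for
every point t of Spec R, p is smooth at s(t). (The published statement is for regular arithmetic
surfaces over a Dedekind domain with perfect residue fields; this row assumes only that X is flat,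
locally of finite presentation and regular.) -/
theorem result {R : Type u} [CommRing R] [IsDedekindDomain R]
    {X : Scheme.{u}} (p : X ⟶ Spec (CommRingCat.of R)) [Flat p] [LocallyOfFinitePresentation p]
    (hreg : ∀ x : X, IsRegularLocalRing (X.presheaf.stalk x))
    (s : Spec (CommRingCat.of R) ⟶ X) (hs : s ≫ p = 𝟙 _) (t : Spec (CommRingCat.of R)) :
    s.base t ∈ p.smoothLocus := by
  classical
  rw [Scheme.Hom.mem_smoothLocus]
  have hess := LocallyOfFiniteType.stalkMap p (s.base t)
  have hflat := Flat.stalkMap p (s.base t)
  algebraize [(p.stalkMap (s.base t)).hom]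
  -- the base local ring is a local PID
  let q : Spec (CommRingCat.of R) := p (s.base t)
  let K' := (Spec.structureSheaf R).presheaf.stalk q
  have hle : q.asIdeal.primeCompl ≤ nonZeroDivisors R := q.asIdeal.primeCompl_le_nonZeroDivisors
  haveI : IsLocalRing K' :=
    (inferInstance : IsLocalRing ((Spec (CommRingCat.of R)).presheaf.stalk q))
  haveI : IsDomain K' := IsLocalization.isDomain_of_le_nonZeroDivisors K' hle
  haveI : IsDedekindDomain K' := IsLocalization.isDedekindDomain R hle K'
  haveI : IsPrincipalIdealRing K' :=
    ((tfae_of_isNoetherianRing_of_isLocalRing_of_isDomain K').out 2 0 rfl rfl).mp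
      (inferInstance : IsDedekindDomain K')
  haveI : IsDomain ((Spec (CommRingCat.of R)).presheaf.stalk (p (s.base t))) :=
    (inferInstance : IsDomain K')
  haveI : IsPrincipalIdealRing ((Spec (CommRingCat.of R)).presheaf.stalk (p (s.base t))) :=
    (inferInstance : IsPrincipalIdealRing K')
  haveI : IsRegularLocalRing (X.presheaf.stalk (s.base t)) := hreg _
  haveI : IsLocalHom (algebraMap ((Spec (CommRingCat.of R)).presheaf.stalk (p (s.base t)))
      (X.presheaf.stalk (s.base t))) :=
    inferInstanceAs (IsLocalHom (p.stalkMap (s.base t)).hom)
  haveI : Module.Flat ((Spec (CommRingCat.of R)).presheaf.stalk (p (s.base t)))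
      (X.presheaf.stalk (s.base t)) := hflat
  -- the retraction
  haveI : IsIso (s ≫ p) := by rw [hs]; infer_instance
  have hcomp : (s ≫ p).stalkMap t = p.stalkMap (s.base t) ≫ s.stalkMap t :=
    Scheme.Hom.stalkMap_comp s p t
  have hbij : Function.Bijective ((s.stalkMap t).hom.comp
      (algebraMap ((Spec (CommRingCat.of R)).presheaf.stalk (p (s.base t)))
        (X.presheaf.stalk (s.base t)))) := by
    have h1 : Function.Bijective ((s ≫ p).stalkMap t).hom :=
      ConcreteCategory.bijective_of_isIso ((s ≫ p).stalkMap t)
    rw [hcomp] at h1
    exact h1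
  exact Groth.Agent.Lib.helper17.RegSmooth.formallySmooth_of_retraction
    ((Spec (CommRingCat.of R)).presheaf.stalk (p (s.base t)))
    ((Spec (CommRingCat.of R)).presheaf.stalk t) (X.presheaf.stalk (s.base t))
    (s.stalkMap t).hom hbij

end Groth.Agent.S11100
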