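import Groth.Statements.S11104
import Mathlib
import Groth.Agent.Lib.Helper6.JacCore
import Groth.Agent.S11097
import Groth.Agent.Lib.Helper24.SmoothRegular

set_option autoImplicit false
universe u
open Neron

namespace Groth.Agent.S11104

section aux

open TensorProduct KaehlerDifferential

theorem tmul_D_ne_zero' {σ : Type} (A : Type u) [CommRing A] (κ : Type u) [Field κ]
    [Algebra (MvPolynomial σ A) κ]
    (f : MvPolynomial σ A) (v₀ : σ)
    (h : algebraMap (MvPolynomial σ A) κ (MvPolynomial.pderiv v₀ f) ≠ 0) :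
    (1 : κ) ⊗ₜ[MvPolynomial σ A] D A (MvPolynomial σ A) f ≠ 0 := by
  intro h0
  have h1 := congrArg (LinearMap.liftBaseChange κ
    ((Algebra.linearMap (MvPolynomial σ A) κ).comp
      (MvPolynomial.pderiv v₀).liftKaehlerDifferential)) h0
  rw [map_zero, LinearMap.liftBaseChange_tmul, one_smul, LinearMap.comp_apply,
    Derivation.liftKaehlerDifferential_comp_D, Algebra.linearMap_apply] at h1
  exact h h1

theorem sing_pt {D : Type*} [CommRing D] [IsDomain D] (a₁ a₂ a₃ a₄ a₆ x y : D)
    (h3 : a₃ = 0) (h4 : a₄ = 0) (h6 : a₆ = 0)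
    (e1 : y ^ 2 + a₁ * x * y + a₃ * y - (x ^ 3 + a₂ * x ^ 2 + a₄ * x + a₆) = 0)
    (e2 : a₁ * y - (3 * x ^ 2 + 2 * a₂ * x + a₄) = 0)
    (e3 : 2 * y + a₁ * x + a₃ = 0) : x = 0 ∧ y = 0 := by
  have hx3 : x ^ 3 = 0 := by
    linear_combination 2 * e1 - x * e2 - y * e3 - y * h3 + x * h4 + 2 * h6
  have hx0 : x = 0 := by
    rwa [pow_eq_zero_iff (by norm_num)] at hx3
  have hy2 : y ^ 2 = 0 := by
    linear_combination e1 - (a₁ * y) * hx0 - y * h3 + (x ^ 2 + a₂ * x + a₄) * hx0 + h6
  have hy0 : y = 0 := by
    rwa [pow_eq_zero_iff (by norm_num)] at hy2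
  exact ⟨hx0, hy0⟩

theorem disc_pt {D : Type*} [CommRing D] (W' : WeierstrassCurve.Affine D) (x y : D)
    (e1 : y ^ 2 + W'.a₁ * x * y + W'.a₃ * y - (x ^ 3 + W'.a₂ * x ^ 2 + W'.a₄ * x + W'.a₆) = 0)
    (e2 : W'.a₁ * y - (3 * x ^ 2 + 2 * W'.a₂ * x + W'.a₄) = 0)
    (e3 : 2 * y + W'.a₁ * x + W'.a₃ = 0) : W'.Δ = 0 := by
  by_contra hΔ
  have h1 := (WeierstrassCurve.Affine.equation_iff_nonsingular_of_Δ_ne_zero (W := W')
    (x := x) (y := y) hΔ).mp ((WeierstrassCurve.Affine.equation_iff' x y).mpr e1)
  rw [WeierstrassCurve.Affine.nonsingular_iff'] at h1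
  rcases h1.2 with h | h
  · exact h e2
  · exact h e3

variable {R : Type u} [CommRing R] (W : WeierstrassCurve.Affine R)

/-- the presentation `R[x, y] → R[W]` as a ring hom -/
noncomputable def ψ : MvPolynomial (Fin 2) R →+* W.CoordinateRing :=
  (AdjoinRoot.mk W.polynomial).comp
    ((Polynomial.Bivariate.equivMvPolynomial R).symm :
      MvPolynomial (Fin 2) R →+* Polynomial (Polynomial R))

/-- the Weierstrass polynomial in `R[x, y]` -/
noncomputable def G : MvPolynomial (Fin 2) R :=
  Polynomial.Bivariate.equivMvPolynomial R W.polynomial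

theorem ψ_surjective : Function.Surjective (ψ W) :=
  AdjoinRoot.mk_surjective.comp (Polynomial.Bivariate.equivMvPolynomial R).symm.surjective

theorem G_symm : (Polynomial.Bivariate.equivMvPolynomial R).symm (G W) = W.polynomial := by
  unfold G
  exact AlgEquiv.symm_apply_apply _ _

theorem ker_ψ : RingHom.ker (ψ W) = Ideal.span {G W} := by
  ext b
  rw [RingHom.mem_ker, Ideal.mem_span_singleton]
  have h0 : ψ W b = AdjoinRoot.mk W.polynomial
      ((Polynomial.Bivariate.equivMvPolynomial R).symm b) := rfl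
  rw [h0, AdjoinRoot.mk_eq_zero]
  constructor
  · rintro ⟨c, hc⟩
    refine ⟨Polynomial.Bivariate.equivMvPolynomial R c, ?_⟩
    have h1 := congrArg (Polynomial.Bivariate.equivMvPolynomial R) hc
    rw [AlgEquiv.apply_symm_apply, map_mul] at h1
    exact h1
  · rintro ⟨c, hc⟩
    refine ⟨(Polynomial.Bivariate.equivMvPolynomial R).symm c, ?_⟩
    rw [hc, map_mul, G_symm]

theorem ψ_C (r : R) : ψ W (MvPolynomial.C r) = algebraMap R W.CoordinateRing r := by
  show AdjoinRoot.mk W.polynomial
    ((Polynomial.Bivariate.equivMvPolynomial R).symm (MvPolynomial.C r)) = _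
  rw [Polynomial.Bivariate.equivMvPolynomial_symm_C]
  rfl

theorem ψ_X0 : ψ W (MvPolynomial.X 0) = Groth.Agent.S11097.xB W := by
  show AdjoinRoot.mk W.polynomial
    ((Polynomial.Bivariate.equivMvPolynomial R).symm (MvPolynomial.X 0)) = _
  rw [Polynomial.Bivariate.equivMvPolynomial_symm_X_0]

theorem ψ_X1 : ψ W (MvPolynomial.X 1) = Groth.Agent.S11097.yB W := by
  show AdjoinRoot.mk W.polynomial
    ((Polynomial.Bivariate.equivMvPolynomial R).symm (MvPolynomial.X 1)) = _
  rw [Polynomial.Bivariate.equivMvPolynomial_symm_X_1]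

theorem G_eq : G W = MvPolynomial.X 1 ^ 2 + MvPolynomial.C W.a₁ * MvPolynomial.X 0 *
    MvPolynomial.X 1 + MvPolynomial.C W.a₃ * MvPolynomial.X 1 -
    (MvPolynomial.X 0 ^ 3 + MvPolynomial.C W.a₂ * MvPolynomial.X 0 ^ 2 +
      MvPolynomial.C W.a₄ * MvPolynomial.X 0 + MvPolynomial.C W.a₆) := by
  unfold G
  rw [WeierstrassCurve.Affine.polynomial]
  simp only [map_add, map_sub, map_mul, map_pow,
    Polynomial.Bivariate.equivMvPolynomial_C_C, Polynomial.Bivariate.equivMvPolynomial_C_X,
    Polynomial.Bivariate.equivMvPolynomial_X]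
  ring

theorem pderiv0_G : MvPolynomial.pderiv (0 : Fin 2) (G W) =
    MvPolynomial.C W.a₁ * MvPolynomial.X 1 -
      (3 * MvPolynomial.X 0 ^ 2 + 2 * MvPolynomial.C W.a₂ * MvPolynomial.X 0 +
        MvPolynomial.C W.a₄) := by
  rw [G_eq]
  simp only [map_add, map_sub, MvPolynomial.pderiv_mul, MvPolynomial.pderiv_pow,
    MvPolynomial.pderiv_C, MvPolynomial.pderiv_X_self,
    MvPolynomial.pderiv_X_of_ne (by decide : (1 : Fin 2) ≠ 0)]
  norm_num
  ring

theorem pderiv1_G : MvPolynomial.pderiv (1 : Fin 2) (G W) =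
    2 * MvPolynomial.X 1 + MvPolynomial.C W.a₁ * MvPolynomial.X 0 + MvPolynomial.C W.a₃ := by
  rw [G_eq]
  simp only [map_add, map_sub, MvPolynomial.pderiv_mul, MvPolynomial.pderiv_pow,
    MvPolynomial.pderiv_C, MvPolynomial.pderiv_X_self,
    MvPolynomial.pderiv_X_of_ne (by decide : (0 : Fin 2) ≠ 1)]
  norm_num

end aux



/-- Let R be a discrete valuation ring with maximal ideal m and y² + a₁xy + a₃y = x³ + a₂x² + a₄x + a₆ a
Weierstrass equation over R with nonzero discriminant (an elliptic curve over the fraction field)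
such that a₃, a₄, a₆ ∈ m and a₆ ∉ m². Then the affine scheme over R defined by the equation is
regular: every localization of its coordinate ring at a prime ideal is a regular local ring. (The
published statement asserts regularity of the projective Weierstrass scheme in P²_R; this row states
it for the affine part.) -/
theorem result (R : Type u) [CommRing R] [IsDomain R]
    [IsDiscreteValuationRing R] (W : WeierstrassCurve.Affine R) (hΔ : W.Δ ≠ 0)
    (h3 : W.a₃ ∈ IsLocalRing.maximalIdeal R) (h4 : W.a₄ ∈ IsLocalRing.maximalIdeal R)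
    (h6 : W.a₆ ∈ IsLocalRing.maximalIdeal R) (h6' : W.a₆ ∉ IsLocalRing.maximalIdeal R ^ 2)
    (P : Ideal W.CoordinateRing) [P.IsPrime] :
    IsRegularLocalRing (Localization.AtPrime P) := by
  classical
  letI algB : Algebra (MvPolynomial (Fin 2) R) W.CoordinateRing := (ψ W).toAlgebra
  haveI : IsScalarTower R (MvPolynomial (Fin 2) R) W.CoordinateRing :=
    IsScalarTower.of_algebraMap_eq (fun r => (ψ_C W r).symm)
  have hsurj : Function.Surjective (algebraMap (MvPolynomial (Fin 2) R) W.CoordinateRing) :=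
    ψ_surjective W
  have hker : RingHom.ker (algebraMap (MvPolynomial (Fin 2) R) W.CoordinateRing) =
      Ideal.span {G W} := ker_ψ W
  have hGP : algebraMap (MvPolynomial (Fin 2) R) W.CoordinateRing (G W) = 0 := by
    rw [← RingHom.mem_ker, hker]
    exact Ideal.mem_span_singleton_self _
  by_cases hcase : ∃ v, MvPolynomial.pderiv v (G W) ∉
      Ideal.comap (algebraMap (MvPolynomial (Fin 2) R) W.CoordinateRing) P
  · -- smooth case
    obtain ⟨v, hv⟩ := hcase
    haveI : Algebra.FinitePresentation R W.CoordinateRing :=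
      Algebra.FinitePresentation.of_surjective
        (f := IsScalarTower.toAlgHom R (MvPolynomial (Fin 2) R) W.CoordinateRing) hsurj (by
          show (RingHom.ker (algebraMap (MvPolynomial (Fin 2) R) W.CoordinateRing)).FG
          rw [hker]
          exact Submodule.fg_span (Set.finite_singleton _))
    have hXP : Algebra.FormallySmooth R (Localization.AtPrime
        (Ideal.comap (algebraMap (MvPolynomial (Fin 2) R) W.CoordinateRing) P)) := by
      haveI : Algebra.FormallyEtale (MvPolynomial (Fin 2) R) (Localization.AtPrime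
          (Ideal.comap (algebraMap (MvPolynomial (Fin 2) R) W.CoordinateRing) P)) :=
        Algebra.FormallyEtale.of_isLocalization
          (Ideal.comap (algebraMap (MvPolynomial (Fin 2) R) W.CoordinateRing) P).primeCompl
      exact Algebra.FormallySmooth.comp R (MvPolynomial (Fin 2) R) _
    haveI hsm : Algebra.IsSmoothAt R P := by
      refine (Groth.Agent.Lib.helper6.JacCore.isSmoothAt_iff R (MvPolynomial (Fin 2) R)
        W.CoordinateRing (G W) P hsurj hker hXP).mpr (Or.inr ?_)
      apply tmul_D_ne_zero' R _ (G W) v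
      rw [IsScalarTower.algebraMap_apply (MvPolynomial (Fin 2) R) W.CoordinateRing
        P.ResidueField, Ne, Ideal.algebraMap_residueField_eq_zero]
      exact hv
    exact Groth.Agent.Lib.Helper24.SmoothRegular.isRegularLocalRing_atPrime_of_smoothAt R
      W.CoordinateRing P
  · -- singular case: `P = (m, x, y)`
    push Not at hcase
    -- evaluation into the domain `R[W] / P`
    let ev : MvPolynomial (Fin 2) R →+* (W.CoordinateRing ⧸ P) :=
      (Ideal.Quotient.mk P).comp (algebraMap (MvPolynomial (Fin 2) R) W.CoordinateRing)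
    have hev : ∀ b, ev b = 0 ↔ algebraMap (MvPolynomial (Fin 2) R) W.CoordinateRing b ∈ P :=
      fun b => Ideal.Quotient.eq_zero_iff_mem
    have hevC : ∀ r : R, ev (MvPolynomial.C r) = 0 ↔ algebraMap R W.CoordinateRing r ∈ P := by
      intro r
      rw [hev]
      show ψ W (MvPolynomial.C r) ∈ P ↔ _
      rw [ψ_C]
    have E1 := (hev (G W)).mpr (by rw [hGP]; exact zero_mem _)
    have E2 := (hev _).mpr (hcase 0)
    have E3 := (hev _).mpr (hcase 1)
    rw [G_eq] at E1
    rw [pderiv0_G] at E2
    rw [pderiv1_G] at E3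
    simp only [map_add, map_sub, map_mul, map_pow, map_ofNat] at E1 E2 E3
    -- the discriminant lies in `P`
    have hΔP : algebraMap R W.CoordinateRing W.Δ ∈ P := by
      rw [← hevC]
      have h1 := disc_pt (WeierstrassCurve.map W (ev.comp MvPolynomial.C))
        (ev (MvPolynomial.X 0)) (ev (MvPolynomial.X 1)) E1 E2 E3
      rw [WeierstrassCurve.map_Δ] at h1
      exact h1
    -- hence `m ⊆ P`
    have hp0 : Ideal.comap (algebraMap R W.CoordinateRing) P = IsLocalRing.maximalIdeal R := by
      apply IsLocalRing.eq_maximalIdeal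
      apply Ideal.IsPrime.isMaximal inferInstance
      intro hbot
      have h2 : W.Δ ∈ Ideal.comap (algebraMap R W.CoordinateRing) P := hΔP
      rw [hbot, Ideal.mem_bot] at h2
      exact hΔ h2
    have hPm : ∀ r ∈ IsLocalRing.maximalIdeal R, algebraMap R W.CoordinateRing r ∈ P := by
      intro r hr
      rw [← hp0] at hr
      exact hr
    have hxy := sing_pt (ev (MvPolynomial.C W.a₁)) (ev (MvPolynomial.C W.a₂))
      (ev (MvPolynomial.C W.a₃)) (ev (MvPolynomial.C W.a₄)) (ev (MvPolynomial.C W.a₆))
      (ev (MvPolynomial.X 0)) (ev (MvPolynomial.X 1))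
      ((hevC _).mpr (hPm _ h3)) ((hevC _).mpr (hPm _ h4)) ((hevC _).mpr (hPm _ h6)) E1 E2 E3
    have hx : Groth.Agent.S11097.xB W ∈ P := by
      rw [← ψ_X0]
      exact (hev _).mp hxy.1
    have hy : Groth.Agent.S11097.yB W ∈ P := by
      rw [← ψ_X1]
      exact (hev _).mp hxy.2
    -- `P` is maximal
    haveI hmax : P.IsMaximal := by
      rw [Ideal.isMaximal_iff]
      refine ⟨fun h1 => (Ideal.IsPrime.ne_top inferInstance) ((Ideal.eq_top_iff_one P).mpr h1), ?_⟩
      intro J b hPJ hbP hbJ
      obtain ⟨r, hr⟩ := Groth.Agent.S11097.exists_const W b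
      have hxyP : Ideal.span {Groth.Agent.S11097.xB W, Groth.Agent.S11097.yB W} ≤ P := by
        rw [Ideal.span_le]
        intro z hz
        rcases hz with rfl | rfl
        · exact hx
        · exact hy
      have hrP : algebraMap R W.CoordinateRing r ∉ P := by
        intro hrP
        apply hbP
        have h4 : b = (b - algebraMap R W.CoordinateRing r) + algebraMap R W.CoordinateRing r := by
          ring
        rw [h4]
        exact P.add_mem (hxyP hr) hrP
      have hru : IsUnit r := by
        by_contra hnu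
        exact hrP (hPm r ((IsLocalRing.mem_maximalIdeal r).mpr hnu))
      have hrJ : algebraMap R W.CoordinateRing r ∈ J := by
        have h4 : algebraMap R W.CoordinateRing r =
            b - (b - algebraMap R W.CoordinateRing r) := by ring
        rw [h4]
        exact J.sub_mem hbJ (hPJ (hxyP hr))
      have h5 := Ideal.eq_top_of_isUnit_mem J hrJ (hru.map (algebraMap R W.CoordinateRing))
      rw [h5]
      trivial
    exact Groth.Agent.S11097.result R W h3 h4 h6 h6' P hPm hx hy


end Groth.Agent.S11104
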