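import Groth.Statements.S2354
-- import your own Groth.Agent.* helpers here
import Groth.Agent.Lib.Helper9.DVRExtendVal
import Groth.Agent.S9829
import Groth.Agent.Lib.Helper15.Regular

set_option autoImplicit false
universe u
open CategoryTheory CategoryTheory.Limits AlgebraicGeometry
open EGA2

namespace Groth.Agent.S2354
open Groth.Agent.Lib.helper9

/-- Extension over points of codimension ≤ 1: let Y be reduced and locally Noetherian with regular local
ring at every point whose local ring has dimension at most one, f : X → Y separated, of finite type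
and closed as a map, V a dense open of Y and s : V → X a section of f over V. Then s extends to a
section of f over an open U ⊇ V containing every point of Y whose local ring has dimension at most
one. (The source states that the indeterminacy locus has codimension ≥ 2 under the hypothesis that
the non-regular locus has codimension ≥ 2; with codimension measured by dimensions of local rings
this pointwise form is equivalent.) -/
theorem result {X Y : Scheme.{u}} [IsLocallyNoetherian Y] [IsReduced Y]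
    (hreg : ∀ y : Y, ringKrullDim (Y.presheaf.stalk y) ≤ 1 → IsRegularLocalRing (Y.presheaf.stalk y))
    (f : X ⟶ Y) [IsSeparated f] [LocallyOfFiniteType f] [QuasiCompact f] (hcl : IsClosedMap f.base)
    (V : Y.Opens) (hV : Dense (V : Set Y)) (s : (V : Scheme.{u}) ⟶ X) (hs : s ≫ f = V.ι) :
    ∃ (U : Y.Opens) (hVU : V ≤ U) (s' : (U : Scheme.{u}) ⟶ X), s' ≫ f = U.ι ∧ Y.homOfLE hVU ≫ s' = s ∧
      ∀ y : Y, ringKrullDim (Y.presheaf.stalk y) ≤ 1 → y ∈ U := by
  classical
  -- the family of all local sections compatible with `s`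
  let P : ∀ W : Y.Opens, ((W : Scheme.{u}) ⟶ X) → Prop := fun W g =>
    g ≫ f = W.ι ∧ Y.homOfLE (inf_le_right : V ⊓ W ≤ W) ≫ g = Y.homOfLE (inf_le_left : V ⊓ W ≤ V) ≫ s
  let J : Type u := Σ W : Y.Opens, {g : (W : Scheme.{u}) ⟶ X // P W g}
  let Wf : J → Y.Opens := fun i => i.1
  let gf : ∀ i : J, ((Wf i : Y.Opens) : Scheme.{u}) ⟶ X := fun i => i.2.1
  have hgf : ∀ i : J, P (Wf i) (gf i) := fun i => i.2.2
  have compat : ∀ i j : J, Y.homOfLE (inf_le_left : Wf i ⊓ Wf j ≤ Wf i) ≫ gf i =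
      Y.homOfLE (inf_le_right : Wf i ⊓ Wf j ≤ Wf j) ≫ gf j := by
    intro i j
    have hle : V ⊓ (Wf i ⊓ Wf j) ≤ Wf i ⊓ Wf j := inf_le_right
    have hdom : IsDominant (Y.homOfLE hle) := by
      constructor
      intro o
      rw [mem_closure_iff]
      intro M hM hoM
      have hopen : IsOpen ((Wf i ⊓ Wf j).ι '' M) := (Wf i ⊓ Wf j).ι.isOpenEmbedding.isOpenMap M hM
      obtain ⟨_, ⟨m, hmM, rfl⟩, hmV⟩ := hV.inter_open_nonempty _ hopen ⟨_, o, hoM, rfl⟩
      refine ⟨m, hmM, ⟨⟨(Wf i ⊓ Wf j).ι m, hmV, m.2⟩, ?_⟩⟩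
      apply (Wf i ⊓ Wf j).ι.isOpenEmbedding.injective
      rw [← Scheme.Hom.comp_apply, Scheme.homOfLE_ι]
      rfl
    refine ext_of_isDominant_of_isSeparated f ?_ (Y.homOfLE hle) ?_
    · rw [Category.assoc, Category.assoc, (hgf i).1, (hgf j).1, Scheme.homOfLE_ι, Scheme.homOfLE_ι]
    · have hi : V ⊓ (Wf i ⊓ Wf j) ≤ V ⊓ Wf i := fun t ht => ⟨ht.1, ht.2.1⟩
      have hj : V ⊓ (Wf i ⊓ Wf j) ≤ V ⊓ Wf j := fun t ht => ⟨ht.1, ht.2.2⟩
      have e1 : Y.homOfLE hle ≫ Y.homOfLE (inf_le_left : Wf i ⊓ Wf j ≤ Wf i) =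
          Y.homOfLE hi ≫ Y.homOfLE (inf_le_right : V ⊓ Wf i ≤ Wf i) := by
        rw [Y.homOfLE_homOfLE, Y.homOfLE_homOfLE]
      have e2 : Y.homOfLE hle ≫ Y.homOfLE (inf_le_right : Wf i ⊓ Wf j ≤ Wf j) =
          Y.homOfLE hj ≫ Y.homOfLE (inf_le_right : V ⊓ Wf j ≤ Wf j) := by
        rw [Y.homOfLE_homOfLE, Y.homOfLE_homOfLE]
      have e3 : Y.homOfLE hi ≫ Y.homOfLE (inf_le_left : V ⊓ Wf i ≤ V) =
          Y.homOfLE hj ≫ Y.homOfLE (inf_le_left : V ⊓ Wf j ≤ V) := by
        rw [Y.homOfLE_homOfLE, Y.homOfLE_homOfLE]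
      calc Y.homOfLE hle ≫ Y.homOfLE (inf_le_left : Wf i ⊓ Wf j ≤ Wf i) ≫ gf i
          = (Y.homOfLE hi ≫ Y.homOfLE (inf_le_right : V ⊓ Wf i ≤ Wf i)) ≫ gf i := by
            rw [← Category.assoc, e1]
        _ = (Y.homOfLE hi ≫ Y.homOfLE (inf_le_left : V ⊓ Wf i ≤ V)) ≫ s := by
            rw [Category.assoc, (hgf i).2, Category.assoc]
        _ = (Y.homOfLE hj ≫ Y.homOfLE (inf_le_left : V ⊓ Wf j ≤ V)) ≫ s := by rw [e3]
        _ = (Y.homOfLE hj ≫ Y.homOfLE (inf_le_right : V ⊓ Wf j ≤ Wf j)) ≫ gf j := by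
            rw [Category.assoc, ← (hgf j).2, Category.assoc]
        _ = Y.homOfLE hle ≫ Y.homOfLE (inf_le_right : Wf i ⊓ Wf j ≤ Wf j) ≫ gf j := by
            rw [← e2, Category.assoc]
  obtain ⟨g', hg', hext⟩ := exists_glue_family Wf gf compat
  have hPV : P V s := ⟨hs, rfl⟩
  let i₀ : J := ⟨V, s, hPV⟩
  refine ⟨⨆ i, Wf i, le_iSup Wf i₀, g', ?_, hg' i₀, ?_⟩
  · apply hext
    intro i
    rw [← Category.assoc, hg' i, (hgf i).1, Scheme.homOfLE_ι]
  · intro y hy
    have hR : IsRegularLocalRing (Y.presheaf.stalk y) := hreg y hy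
    have hD : IsDomain (Y.presheaf.stalk y) :=
      Groth.Agent.Lib.helper15.isDomain_of_isRegularLocalRing _
    have hIC : IsIntegrallyClosed (Y.presheaf.stalk y) := Groth.Agent.S9829.result _
    have hVR : ValuationRing (Y.presheaf.stalk y) :=
      valuationRing_of_isIntegrallyClosed_of_ringKrullDim_le_one _ hy
    -- a point of the closure of the section over `y`
    obtain ⟨z, hzΓ, hz⟩ : ∃ z ∈ closure (Set.range s), f z = y := by
      have hcl' : IsClosed (f '' closure (Set.range s)) := hcl _ isClosed_closure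
      have hsub : (V : Set Y) ⊆ f '' closure (Set.range s) := by
        intro v hv
        refine ⟨s ⟨v, hv⟩, subset_closure ⟨_, rfl⟩, ?_⟩
        rw [← Scheme.Hom.comp_apply, hs]
        rfl
      have h1 : closure (V : Set Y) ⊆ f '' closure (Set.range s) :=
        hcl'.closure_subset_iff.mpr hsub
      rw [hV.closure_eq] at h1
      exact h1 (Set.mem_univ y)
    obtain ⟨Vy, σ, hyVy, hσq, hσU, -⟩ :=
      exists_section_extension_of_valuationRing_point_of_isLocallyNoetherian f V s hs y z hz hzΓ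
    let iy : J := ⟨Vy, σ, ⟨hσq, hσU⟩⟩
    exact (le_iSup Wf iy) hyVy

end Groth.Agent.S2354
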