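import Groth.Statements.S11107
-- import your own Groth.Agent.* helpers here
import Groth.Agent.S2354
import Groth.Agent.Lib.Helper9.ZMTCodimTwo
import Groth.Agent.Lib.Helper13.Normal2

set_option autoImplicit false
universe u
open CategoryTheory AlgebraicGeometry
open Neron

namespace Groth.Agent.S11107
open Groth.Agent.Lib.helper9 CategoryTheory.Limits

/-- Let R be a Dedekind domain, X → Spec R a smooth morphism, Y → Spec R a proper morphism, U ⊆ X a
dense open subscheme and f : U → Y a morphism over Spec R (a rational map X ⇢ Y over R). Then f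
extends, over Spec R, to an open subscheme V ⊇ U of X such that every point of X outside V has a
local ring of Krull dimension at least 2: the locus where the rational map is undefined has
codimension at least two. (The published statement assumes the rational map dominant; this row does
not.) -/
theorem result {R : Type u} [CommRing R] [IsDedekindDomain R]
    {X Y : Scheme.{u}} (pX : X ⟶ Spec (CommRingCat.of R)) (pY : Y ⟶ Spec (CommRingCat.of R))
    [Smooth pX] [IsProper pY] (U : X.Opens) (hU : Dense (U : Set X))
    (f : (U : Scheme.{u}) ⟶ Y) (hf : f ≫ pY = U.ι ≫ pX) :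
    ∃ (V : X.Opens) (hUV : U ≤ V) (g : (V : Scheme.{u}) ⟶ Y),
      g ≫ pY = V.ι ≫ pX ∧ X.homOfLE hUV ≫ g = f ∧
      ∀ x : X, x ∉ V → (2 : WithBot ℕ∞) ≤ ringKrullDim (X.presheaf.stalk x) := by
  have hSpecN : Pi1.IsNormalScheme (Spec (CommRingCat.of R)) :=
    Groth.Agent.Lib.helper13.Normal.Spec_of_isNormalDomain (CommRingCat.of R)
      ⟨(inferInstance : IsDomain R), (inferInstance : IsIntegrallyClosed R)⟩
  have hnorm : Pi1.IsNormalScheme X := Groth.Agent.Lib.helper13.Normal.of_smooth pX hSpecN
  have hXN : IsLocallyNoetherian X := LocallyOfFiniteType.isLocallyNoetherian pX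
  have hXred : IsReduced X := Groth.Agent.Lib.helper13.Normal.isReduced hnorm
  have hreg : ∀ y : X, ringKrullDim (X.presheaf.stalk y) ≤ 1 →
      IsRegularLocalRing (X.presheaf.stalk y) := by
    intro y hy
    obtain ⟨hD, hIC⟩ := hnorm y
    have hVR : ValuationRing (X.presheaf.stalk y) :=
      valuationRing_of_isIntegrallyClosed_of_ringKrullDim_le_one _ hy
    have hPID : IsPrincipalIdealRing (X.presheaf.stalk y) :=
      ((IsBezout.TFAE (R := ↑(X.presheaf.stalk y))).out 0 1).mp
        (inferInstance : IsNoetherianRing (X.presheaf.stalk y))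
    infer_instance
  have hcl : IsClosedMap (pullback.fst pX pY).base := (pullback.fst pX pY).isClosedMap
  set s := pullback.lift U.ι f hf.symm with hs
  have hsfst : s ≫ pullback.fst pX pY = U.ι := pullback.lift_fst _ _ _
  have hssnd : s ≫ pullback.snd pX pY = f := pullback.lift_snd _ _ _
  obtain ⟨V, hUV, s', hs'q, hs'U, hVdim⟩ :=
    Groth.Agent.S2354.result hreg (pullback.fst pX pY) hcl U hU s hsfst
  have hcond : pullback.fst pX pY ≫ pX = pullback.snd pX pY ≫ pY := pullback.condition
  refine ⟨V, hUV, s' ≫ pullback.snd pX pY, ?_, ?_, ?_⟩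
  · rw [Category.assoc, ← hcond, ← Category.assoc, hs'q]
  · rw [← Category.assoc, hs'U, hssnd]
  · intro x hxV
    by_contra hcon
    apply hxV
    apply hVdim
    generalize ringKrullDim (X.presheaf.stalk x) = d at hcon
    induction d using WithBot.recBotCoe with
    | bot => exact bot_le
    | coe n =>
      have h1 : ¬ (2 : ℕ∞) ≤ n := fun h => hcon (by
        have h' : ((2 : ℕ∞) : WithBot ℕ∞) ≤ (n : WithBot ℕ∞) := WithBot.coe_le_coe.mpr h
        exact h')
      have h2 : n < 1 + 1 := by
        rw [one_add_one_eq_two]; exact not_le.mp h1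
      have h3 : n ≤ 1 := Order.le_of_lt_add_one h2
      have h4 : ((n : ℕ∞) : WithBot ℕ∞) ≤ ((1 : ℕ∞) : WithBot ℕ∞) := WithBot.coe_le_coe.mpr h3
      exact h4

end Groth.Agent.S11107
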