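import Groth.Statements.S1113
import Groth.Agent.Lib.Helper27.DerivedTrunc
-- import your own Groth.Agent.* helpers here

set_option autoImplicit false
universe w v u
open CategoryTheory CategoryTheory.Limits
open CohDer

namespace Groth.Agent.S1113

section helpers

open DerivedCategory Groth.Agent.Lib.helper27

variable {A : Type u} [Category.{v} A] [Abelian A] [HasDerivedCategory.{w} A]

theorem main1113 (K : ℕᵒᵖ ⥤ CochainComplex A ℤ)
    (h0 : ∀ i : ℤ, i < 0 → IsZero ((K.obj (Opposite.op 0)).homology i)) :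
    ∀ (n : ℕ) (_ : ∀ j : ℕ, j < n → HomologicalComplex.homologyMap (K.map (homOfLE (Nat.le_succ j)).op) (j : ℤ) = 0),
    ∃ φ : DerivedCategory.Q.obj ((K.obj (Opposite.op n)).truncGE (n : ℤ)) ⟶ DerivedCategory.Q.obj (K.obj (Opposite.op 0)),
      DerivedCategory.Q.map ((K.obj (Opposite.op n)).πTruncGE (n : ℤ)) ≫ φ = DerivedCategory.Q.map (K.map (homOfLE (Nat.zero_le n)).op) := by
  intro n
  induction n with
  | zero =>
    intro _
    have : (Q.obj (K.obj (Opposite.op 0))).IsGE (((0 : ℕ) : ℤ)) := by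
      rw [isGE_Q_obj_iff, CochainComplex.isGE_iff]
      intro i hi
      rw [HomologicalComplex.exactAt_iff_isZero_homology]
      exact h0 i (by simpa using hi)
    obtain ⟨φ, hφ⟩ := factors_truncGE (Q.obj (K.obj (Opposite.op 0))) (((0 : ℕ) : ℤ)) (K.obj (Opposite.op 0)) (𝟙 _)
    refine ⟨φ, ?_⟩
    rw [hφ]
    have : (homOfLE (Nat.zero_le 0)).op = 𝟙 (Opposite.op (0 : ℕ)) := Subsingleton.elim _ _
    rw [this, K.map_id, Q.map_id]
  | succ n ih =>
    intro hz
    obtain ⟨φ, hφ⟩ := ih (fun j hj => hz j (by omega))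
    have hY : (Q.obj ((K.obj (Opposite.op n)).truncGE (n : ℤ))).IsGE (n : ℤ) := inferInstance
    have hψ : (homologyFunctor A (n : ℤ)).map
        (Q.map (K.map (homOfLE (Nat.le_succ n)).op ≫ (K.obj (Opposite.op n)).πTruncGE (n : ℤ))) = 0 :=
      homologyFunctor_map_Q_eq_zero _ _
        (by rw [HomologicalComplex.homologyMap_comp, hz n (by omega), zero_comp])
    obtain ⟨w, hw⟩ := factors_truncGE_of_ghost _ (n : ℤ) (((n + 1 : ℕ) : ℤ)) (by push_cast; ring)
      (K.obj (Opposite.op (n + 1))) _ hψ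
    refine ⟨w ≫ φ, ?_⟩
    rw [← Category.assoc, hw, Functor.map_comp, Category.assoc, hφ, ← Functor.map_comp, ← K.map_comp]
    rfl

end helpers

/-- Let K : ℕᵒᵖ ⥤ CochainComplex A ℤ be a sequence of cochain maps … → K₂ → K₁ → K₀ in an abelian
category with Hⁱ(K₀) = 0 for i < 0 and such that for every j < n the map Hʲ(Kⱼ₊₁) → Hʲ(Kⱼ) is zero.
Then in the derived category the composite Kₙ → K₀ factors through the canonical truncation Kₙ →
τ_{≥ n}Kₙ. -/
theorem result {A : Type u} [Category.{v} A] [Abelian A] [HasDerivedCategory.{w} A]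
    (K : ℕᵒᵖ ⥤ CochainComplex A ℤ) (n : ℕ)
    (h0 : ∀ i : ℤ, i < 0 → IsZero ((K.obj (Opposite.op 0)).homology i))
    (hz : ∀ j : ℕ, j < n → HomologicalComplex.homologyMap (K.map (homOfLE (Nat.le_succ j)).op) (j : ℤ) = 0) :
    ∃ φ : DerivedCategory.Q.obj ((K.obj (Opposite.op n)).truncGE (n : ℤ)) ⟶ DerivedCategory.Q.obj (K.obj (Opposite.op 0)),
      DerivedCategory.Q.map ((K.obj (Opposite.op n)).πTruncGE (n : ℤ)) ≫ φ = DerivedCategory.Q.map (K.map (homOfLE (Nat.zero_le n)).op) := by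
  exact main1113 K h0 n hz

end Groth.Agent.S1113
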