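import Groth.Statements.S11134
import Mathlib
import Groth.Agent.Lib.Helper13.KFlat10
import Groth.Agent.Lib.Helper21.ExtZeroT
-- import your own Groth.Agent.* helpers here

set_option autoImplicit false
universe u
open CategoryTheory
open ModSite

namespace Groth.Agent.S11134

/-- On a small ringed site (C, J, O) with commutative O, for every object x of C the module O_x =
j_{x!}(O restricted to C/x), placed in degree 0 as a cochain complex, is K-flat. -/
theorem result {C : Type u} [SmallCategory C] {J : GrothendieckTopology C}
    (O : Sheaf J CommRingCat.{u}) (x : C) :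
    ModSite.IsKFlat ((CochainComplex.singleFunctor (ModSite.Mod O) 0).obj (ModSite.freeOn O x)) := by
  refine Groth.Agent.Lib.helper13.KFlat.isKFlat_of_bounded_above _ 0 (fun q hq => ?_) (fun n => ?_)
  · exact HomologicalComplex.isZero_single_obj_X (ComplexShape.up ℤ) 0 _ q (by omega)
  · by_cases h : n = 0
    · subst h
      exact Groth.Agent.Lib.helper13.KFlat.isFlat_of_iso
        (HomologicalComplex.singleObjXSelf (ComplexShape.up ℤ) 0 (ModSite.freeOn O x)).symm
        (Groth.Agent.Lib.Helper21.ExtZeroT.isFlat_freeOn O x)
    · exact Groth.Agent.Lib.Helper21.FlatSES.isFlat_of_isZero _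
        (HomologicalComplex.isZero_single_obj_X (ComplexShape.up ℤ) 0 _ n h)

end Groth.Agent.S11134
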