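import Groth.Statements.S11135
import Mathlib

set_option autoImplicit false
universe u
open InvTh

namespace Groth.Agent.S11135


lemma nzd_pi {ι : Type u} (D : ι → Type u) [∀ i, CommRing (D i)] [∀ i, IsDomain (D i)]
    (w : Π i, D i) (hw : ∀ i, w i ≠ 0) : w ∈ nonZeroDivisors (Π i, D i) := by
  rw [mem_nonZeroDivisors_iff_right]
  intro x hx
  funext i
  have h := congrFun hx i
  rw [Pi.mul_apply, Pi.zero_apply] at h
  rcases mul_eq_zero.mp h with h | h
  · exact h
  · exact absurd h (hw i)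

section
variable {ι : Type u} [Fintype ι] (D : ι → Type u)
    [∀ i, CommRing (D i)] [∀ i, IsDomain (D i)] [∀ i, IsIntegrallyClosed (D i)]
    (R : Type u) [CommRing R] (F : Set ((Π i, D i) →+* R))
    (hF : ∀ f ∈ F, ∀ s ∈ nonZeroDivisors (Π i, D i), f s ∈ nonZeroDivisors R)
    (A : Subring (Π i, D i)) (hA : ∀ a, a ∈ A ↔ ∀ f ∈ F, ∀ f' ∈ F, f a = f' a)

include hF hA in
lemma supp_mem (a : Π i, D i) (ha : a ∈ A) :
    ∃ e : Π i, D i, e ∈ A ∧ ∀ i, (a i ≠ 0 → e i = 1) ∧ (a i = 0 → e i = 0) := by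
  classical
  obtain ⟨e, he⟩ : ∃ e : Π i, D i, e = fun i => if a i = 0 then 0 else 1 := ⟨_, rfl⟩
  have he0 : ∀ i, a i = 0 → e i = 0 := fun i h => by rw [he]; exact if_pos h
  have he1 : ∀ i, a i ≠ 0 → e i = 1 := fun i h => by rw [he]; exact if_neg h
  refine ⟨e, ?_, fun i => ⟨he1 i, he0 i⟩⟩
  have hae : a * e = a := by
    funext i
    by_cases h : a i = 0
    · rw [Pi.mul_apply, h, zero_mul]
    · rw [Pi.mul_apply, he1 i h, mul_one]
  have hee : e * e = e := by
    funext i
    by_cases h : a i = 0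
    · rw [Pi.mul_apply, he0 i h, mul_zero]
    · rw [Pi.mul_apply, he1 i h, mul_one]
  have hw : a + (1 - e) ∈ nonZeroDivisors (Π i, D i) := by
    apply nzd_pi
    intro i
    by_cases h : a i = 0
    · rw [Pi.add_apply, Pi.sub_apply, Pi.one_apply, h, he0 i h, sub_zero, zero_add]
      exact one_ne_zero
    · rw [Pi.add_apply, Pi.sub_apply, Pi.one_apply, he1 i h, sub_self, add_zero]
      exact h
  rw [hA]
  intro f hf f' hf'
  have hx : f a = f' a := (hA a).mp ha f hf f' hf'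
  have h1 : f a * f e = f a := by rw [← map_mul, hae]
  have h1' : f a * f' e = f a := by rw [hx, ← map_mul, hae]
  have h3 : f e * f e = f e := by rw [← map_mul, hee]
  have h2 : f' a * f' e = f' a := by rw [← map_mul, hae]
  have h2' : f' a * f e = f' a := by rw [← hx, ← map_mul, hae]
  have h3' : f' e * f' e = f' e := by rw [← map_mul, hee]
  have hw1 := hF f hf _ hw
  have hw2 := hF f' hf' _ hw
  rw [map_add, map_sub, map_one] at hw1 hw2
  have k1 : f e * (1 - f' e) = 0 := (mem_nonZeroDivisors_iff_right.mp hw1) _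
    (by linear_combination (1 - f' e) * h1 - h1' - (1 - f' e) * h3)
  have k2 : f' e * (1 - f e) = 0 := (mem_nonZeroDivisors_iff_right.mp hw2) _
    (by linear_combination (1 - f e) * h2 - h2' - (1 - f e) * h3')
  linear_combination k1 - k2

/-- the prime ideal of elements vanishing at the `i`-th coordinate -/
noncomputable def P (i : ι) : Ideal A := RingHom.ker ((Pi.evalRingHom D i).comp A.subtype)

lemma mem_P (i : ι) (a : A) : a ∈ P D A i ↔ a.1 i = 0 := RingHom.mem_ker

instance P_prime (i : ι) : (P D A i).IsPrime := RingHom.ker_isPrime _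

lemma L3 (e : Π i, D i) (he : e ∈ A) (hid : ∀ i, e i = 0 ∨ e i = 1) {i i' : ι}
    (hP : P D A i = P D A i') (h1 : e i' = 1) : e i = 1 := by
  rcases hid i with h | h
  · have hmem : (⟨e, he⟩ : A) ∈ P D A i' := by rw [← hP]; exact (mem_P D A i _).mpr h
    have h0 : e i' = 0 := (mem_P D A i' _).mp hmem
    rw [h1] at h0
    exact absurd h0 one_ne_zero
  · exact h

include hF hA in
lemma L2 {i₀ i' : ι} (hne : P D A i' ≠ P D A i₀) :
    ∃ e : Π i, D i, e ∈ A ∧ (∀ i, e i = 0 ∨ e i = 1) ∧ e i₀ = 1 ∧ e i' = 0 := by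
  by_cases h : P D A i' ≤ P D A i₀
  · have h' : ¬ P D A i₀ ≤ P D A i' := fun h' => hne (le_antisymm h h')
    obtain ⟨a, ha0, ha'⟩ := SetLike.not_le_iff_exists.mp h'
    obtain ⟨e, heA, he⟩ := supp_mem D R F hF A hA a.1 a.2
    refine ⟨1 - e, A.sub_mem A.one_mem heA, fun i => ?_, ?_, ?_⟩
    · by_cases hi : a.1 i = 0
      · right; rw [Pi.sub_apply, Pi.one_apply, (he i).2 hi, sub_zero]
      · left; rw [Pi.sub_apply, Pi.one_apply, (he i).1 hi, sub_self]
    · rw [Pi.sub_apply, Pi.one_apply, (he i₀).2 ((mem_P D A i₀ a).mp ha0), sub_zero]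
    · rw [Pi.sub_apply, Pi.one_apply, (he i').1 (fun h0 => ha' ((mem_P D A i' a).mpr h0)), sub_self]
  · obtain ⟨a, ha', ha0⟩ := SetLike.not_le_iff_exists.mp h
    obtain ⟨e, heA, he⟩ := supp_mem D R F hF A hA a.1 a.2
    refine ⟨e, heA, fun i => ?_, ?_, ?_⟩
    · by_cases hi : a.1 i = 0
      · left; exact (he i).2 hi
      · right; exact (he i).1 hi
    · exact (he i₀).1 (fun h0 => ha0 ((mem_P D A i₀ a).mpr h0))
    · exact (he i').2 ((mem_P D A i' a).mp ha')

include hF hA in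
lemma L4 (i₀ : ι) : ∃ E0 : Π i, D i, E0 ∈ A ∧
    ∀ i, (P D A i = P D A i₀ → E0 i = 1) ∧ (P D A i ≠ P D A i₀ → E0 i = 0) := by
  have key : ∀ i', ∃ e : Π i, D i, e ∈ A ∧ (∀ i, e i = 0 ∨ e i = 1) ∧ e i₀ = 1 ∧
      (P D A i' ≠ P D A i₀ → e i' = 0) := by
    intro i'
    by_cases h : P D A i' = P D A i₀
    · exact ⟨1, A.one_mem, fun i => Or.inr rfl, rfl, fun h' => absurd h h'⟩
    · obtain ⟨e, he, h1, h2, h3⟩ := L2 D R F hF A hA h
      exact ⟨e, he, h1, h2, fun _ => h3⟩
  choose e he hid h0 hz using key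
  refine ⟨∏ i', e i', Subring.prod_mem A (fun c _ => he c), fun i => ⟨?_, ?_⟩⟩
  · intro hPi
    rw [Finset.prod_apply]
    apply Finset.prod_eq_one
    intro i' _
    exact L3 D A (e i') (he i') (hid i') hPi (h0 i')
  · intro hPi
    rw [Finset.prod_apply]
    exact Finset.prod_eq_zero (Finset.mem_univ i) (hz i hPi)

include hF hA in
lemma L5 {i i' : ι} (hne : P D A i ≠ P D A i') : IsCoprime (P D A i) (P D A i') := by
  obtain ⟨e, he, _, h1, h0⟩ := L2 D R F hF A hA (i₀ := i) (i' := i') (fun h => hne h.symm)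
  rw [Ideal.isCoprime_iff_exists]
  refine ⟨1 - ⟨e, he⟩, ?_, ⟨e, he⟩, ?_, sub_add_cancel 1 _⟩
  · rw [mem_P]
    show (1 - e) i = 0
    rw [Pi.sub_apply, Pi.one_apply, h1, sub_self]
  · rw [mem_P]
    exact h0

lemma comp_int (i₀ i : ι) (hP : P D A i = P D A i₀) (x : FractionRing (A ⧸ P D A i₀))
    (hx : IsIntegral (A ⧸ P D A i₀) x) (a b : A)
    (hxab : x * algebraMap (A ⧸ P D A i₀) (FractionRing (A ⧸ P D A i₀)) (Ideal.Quotient.mk _ b) =
      algebraMap (A ⧸ P D A i₀) (FractionRing (A ⧸ P D A i₀)) (Ideal.Quotient.mk _ a)) :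
    ∃ t : D i, a.1 i = b.1 i * t := by
  have hπ0 : ∀ y ∈ P D A i₀, ((Pi.evalRingHom D i).comp A.subtype) y = 0 := by
    intro y hy
    rw [← hP] at hy
    exact (mem_P D A i y).mp hy
  obtain ⟨π, hπ⟩ : ∃ π : (A ⧸ P D A i₀) →+* D i, ∀ y : A, π (Ideal.Quotient.mk _ y) = y.1 i :=
    ⟨Ideal.Quotient.lift _ _ hπ0, fun y => Ideal.Quotient.lift_mk _ _ _⟩
  have hπinj : Function.Injective π := by
    rw [injective_iff_map_eq_zero]
    intro y hy
    obtain ⟨y, rfl⟩ := Ideal.Quotient.mk_surjective y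
    rw [hπ] at hy
    rw [Ideal.Quotient.eq_zero_iff_mem, ← hP]
    exact (mem_P D A i y).mpr hy
  have hg : Function.Injective ((algebraMap (D i) (FractionRing (D i))).comp π) :=
    (IsFractionRing.injective (D i) (FractionRing (D i))).comp hπinj
  obtain ⟨L, hL⟩ : ∃ L : FractionRing (A ⧸ P D A i₀) →+* FractionRing (D i),
      ∀ y, L (algebraMap _ _ y) = algebraMap (D i) (FractionRing (D i)) (π y) :=
    ⟨IsFractionRing.lift hg, fun y => IsFractionRing.lift_algebraMap hg y⟩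
  have hint : IsIntegral (D i) (L x) :=
    IsIntegral.map_of_comp_eq π L (RingHom.ext fun y => (hL y).symm) hx
  obtain ⟨t, ht⟩ := IsIntegrallyClosed.isIntegral_iff.mp hint
  refine ⟨t, ?_⟩
  have h1 := congrArg L hxab
  rw [map_mul, hL, hL, hπ, hπ, ← ht, ← map_mul] at h1
  have h2 := IsFractionRing.injective (D i) (FractionRing (D i)) h1
  rw [← h2, mul_comm]

include hF hA in
lemma intClosed (i₀ : ι) : IsIntegrallyClosed (A ⧸ P D A i₀) := by
  rw [isIntegrallyClosed_iff (FractionRing (A ⧸ P D A i₀))]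
  intro x hx
  obtain ⟨y, z, hz, hyz⟩ := IsFractionRing.div_surjective (A := A ⧸ P D A i₀) x
  obtain ⟨a, rfl⟩ := Ideal.Quotient.mk_surjective y
  obtain ⟨b, rfl⟩ := Ideal.Quotient.mk_surjective z
  have hbne : algebraMap (A ⧸ P D A i₀) (FractionRing (A ⧸ P D A i₀)) (Ideal.Quotient.mk _ b) ≠ 0 := by
    intro h
    have h' := (IsFractionRing.injective (A ⧸ P D A i₀) (FractionRing (A ⧸ P D A i₀)))
      (h.trans (map_zero _).symm)
    exact nonZeroDivisors.ne_zero hz h'
  have hxab : x * algebraMap (A ⧸ P D A i₀) (FractionRing (A ⧸ P D A i₀)) (Ideal.Quotient.mk _ b) =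
      algebraMap (A ⧸ P D A i₀) (FractionRing (A ⧸ P D A i₀)) (Ideal.Quotient.mk _ a) := by
    rw [← hyz, div_mul_cancel₀ _ hbne]
  have hb0 : ∀ i, P D A i = P D A i₀ → b.1 i ≠ 0 := by
    intro i hP h
    have hb : b ∈ P D A i₀ := by rw [← hP]; exact (mem_P D A i b).mpr h
    exact nonZeroDivisors.ne_zero hz (Ideal.Quotient.eq_zero_iff_mem.mpr hb)
  have hcomp : ∀ i, ∃ t : D i, P D A i = P D A i₀ → a.1 i = b.1 i * t := by
    intro i
    by_cases hP : P D A i = P D A i₀
    · obtain ⟨t, ht⟩ := comp_int D A i₀ i hP x hx a b hxab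
      exact ⟨t, fun _ => ht⟩
    · exact ⟨0, fun h => absurd h hP⟩
  choose t ht using hcomp
  obtain ⟨E0, hE0, hE⟩ := L4 D R F hF A hA i₀
  have F1 : a.1 * E0 = b.1 * (t * E0) := by
    funext i
    by_cases hP : P D A i = P D A i₀
    · rw [Pi.mul_apply, Pi.mul_apply, Pi.mul_apply, (hE i).1 hP, mul_one, mul_one]
      exact ht i hP
    · rw [Pi.mul_apply, Pi.mul_apply, Pi.mul_apply, (hE i).2 hP, mul_zero, mul_zero, mul_zero]
  have F2 : (t * E0) * E0 = t * E0 := by
    funext i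
    by_cases hP : P D A i = P D A i₀
    · rw [Pi.mul_apply, Pi.mul_apply, (hE i).1 hP, mul_one, mul_one]
    · rw [Pi.mul_apply, Pi.mul_apply, (hE i).2 hP, mul_zero, mul_zero]
  have F3 : b.1 * E0 + (1 - E0) ∈ nonZeroDivisors (Π i, D i) := by
    apply nzd_pi
    intro i
    by_cases hP : P D A i = P D A i₀
    · rw [Pi.add_apply, Pi.mul_apply, Pi.sub_apply, Pi.one_apply, (hE i).1 hP, mul_one, sub_self,
        add_zero]
      exact hb0 i hP
    · rw [Pi.add_apply, Pi.mul_apply, Pi.sub_apply, Pi.one_apply, (hE i).2 hP, mul_zero, sub_zero,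
        zero_add]
      exact one_ne_zero
  have hsA : t * E0 ∈ A := by
    rw [hA]
    intro f hf f' hf'
    have Hα : f (a.1 * E0) = f' (a.1 * E0) := (hA _).mp (A.mul_mem a.2 hE0) f hf f' hf'
    have Hb : f b.1 = f' b.1 := (hA _).mp b.2 f hf f' hf'
    have HE : f E0 = f' E0 := (hA _).mp hE0 f hf f' hf'
    have S1 : f (t * E0) * f E0 = f (t * E0) := by rw [← map_mul, F2]
    have S2 : f' (t * E0) * f E0 = f' (t * E0) := by rw [HE, ← map_mul, F2]
    have B1 : f (a.1 * E0) = f b.1 * f (t * E0) := by rw [← map_mul, F1]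
    have B2 : f' (a.1 * E0) = f b.1 * f' (t * E0) := by rw [Hb, ← map_mul, F1]
    have hw := hF f hf _ F3
    rw [map_add, map_mul, map_sub, map_one] at hw
    have hz0 : f (t * E0) - f' (t * E0) = 0 := (mem_nonZeroDivisors_iff_right.mp hw) _
      (by linear_combination (f b.1) * S1 - (f b.1) * S2 - S1 + S2 - B1 + Hα + B2)
    exact sub_eq_zero.mp hz0
  refine ⟨Ideal.Quotient.mk _ ⟨t * E0, hsA⟩, ?_⟩
  have hmk : Ideal.Quotient.mk (P D A i₀) a =
      Ideal.Quotient.mk (P D A i₀) ⟨t * E0, hsA⟩ * Ideal.Quotient.mk (P D A i₀) b := by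
    rw [← map_mul, Ideal.Quotient.eq, mem_P]
    show a.1 i₀ - (t * E0) i₀ * b.1 i₀ = 0
    rw [Pi.mul_apply, (hE i₀).1 rfl, mul_one, ht i₀ rfl, mul_comm, sub_self]
  refine (mul_right_cancel₀ hbne ?_).symm
  rw [hxab, hmk, map_mul]

end


/-- Suppose S is the product of a finite family of integrally closed domains (a finite product of normal
domains), R is any commutative ring, and F is a family of ring maps S → R each carrying
non-zero-divisors of S to non-zero-divisors of R. Then the subring A of S on which all members of F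
coincide (a ∈ A iff f(a) = f'(a) for all f, f' in F) is ring-isomorphic to a product of finitely
many integrally closed domains. -/
theorem result {ι : Type u} [Fintype ι] (D : ι → Type u)
    [∀ i, CommRing (D i)] [∀ i, IsDomain (D i)] [∀ i, IsIntegrallyClosed (D i)]
    (R : Type u) [CommRing R] (F : Set ((Π i, D i) →+* R))
    (hF : ∀ f ∈ F, ∀ s ∈ nonZeroDivisors (Π i, D i), f s ∈ nonZeroDivisors R)
    (A : Subring (Π i, D i)) (hA : ∀ a, a ∈ A ↔ ∀ f ∈ F, ∀ f' ∈ F, f a = f' a) :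
    ∃ (κ : Type u) (_ : Fintype κ) (E : κ → Type u) (_ : ∀ j, CommRing (E j)) (_ : ∀ j, IsDomain (E j))
      (_ : ∀ j, IsIntegrallyClosed (E j)), Nonempty (A ≃+* Π j, E j) := by
  classical
  haveI : Finite (Set.range (P D A)) := (Set.finite_range _).to_subtype
  have hprime : ∀ k : Set.range (P D A), (k : Ideal A).IsPrime := by
    intro k
    obtain ⟨i, hi⟩ := k.2
    rw [← hi]
    exact P_prime D A i
  have hic : ∀ k : Set.range (P D A), IsIntegrallyClosed (A ⧸ (k : Ideal A)) := by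
    intro k
    obtain ⟨i, hi⟩ := k.2
    rw [← hi]
    exact intClosed D R F hF A hA i
  refine ⟨Set.range (P D A), Fintype.ofFinite _, fun k => A ⧸ (k : Ideal A), fun k => inferInstance,
    fun k => ?_, fun k => ?_, ?_⟩
  · haveI := hprime k
    exact Ideal.Quotient.isDomain _
  · exact hic k
  · have hcop : Pairwise (Function.onFun IsCoprime (fun k : Set.range (P D A) => (k : Ideal A))) := by
      intro k k' hne
      obtain ⟨i, hi⟩ := k.2
      obtain ⟨i', hi'⟩ := k'.2
      show IsCoprime (k : Ideal A) (k' : Ideal A)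
      rw [← hi, ← hi']
      apply L5 D R F hF A hA
      intro heq
      apply hne
      apply Subtype.ext
      rw [← hi, ← hi']
      exact heq
    have hinf : ⨅ k : Set.range (P D A), (k : Ideal A) = ⊥ := by
      rw [eq_bot_iff]
      intro a ha
      rw [Ideal.mem_iInf] at ha
      rw [Ideal.mem_bot]
      apply Subtype.ext
      funext i
      exact (mem_P D A i a).mp (ha ⟨P D A i, ⟨i, rfl⟩⟩)
    exact ⟨((RingEquiv.quotientBot A).symm.trans (Ideal.quotEquivOfEq hinf.symm)).trans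
      (Ideal.quotientInfRingEquivPiQuotient _ hcop)⟩


end Groth.Agent.S11135
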