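import Groth.Statements.S11136
import Mathlib

set_option autoImplicit false
universe u v
open InvTh

namespace Groth.Agent.S11136

section aux

theorem isOpen_cc {α : Type*} [TopologicalSpace α] [TopologicalSpace.NoetherianSpace α] (x : α) :
    IsOpen (connectedComponent x) := by
  rw [← isClosed_compl_iff]
  have : (connectedComponent x)ᶜ =
      ⋃₀ {Z ∈ irreducibleComponents α | ¬ Z ⊆ connectedComponent x} := by
    ext y; constructor
    · intro hy
      exact ⟨irreducibleComponent y, ⟨irreducibleComponent_mem_irreducibleComponents y,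
        fun h => hy (h mem_irreducibleComponent)⟩, mem_irreducibleComponent⟩
    · rintro ⟨Z, ⟨hZ, hZx⟩, hyZ⟩ hy
      apply hZx
      have hconn : IsPreconnected Z := hZ.1.2.isPreconnected
      have := hconn.subset_connectedComponent hyZ
      rwa [← connectedComponent_eq hy] at this
  rw [this, Set.sUnion_eq_biUnion]
  exact Set.Finite.isClosed_biUnion
    (TopologicalSpace.NoetherianSpace.finite_irreducibleComponents.subset (fun Z hZ => hZ.1))
    (fun Z hZ => isClosed_of_mem_irreducibleComponents Z hZ.1)

end aux


/-- Let a finite group G act on a Noetherian commutative ring R by ring automorphisms, with ring of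
invariants A (A → R injective with image the fixed elements). When the prime spectrum of A is
connected, any two connected components of Spec R are exchanged by some element of G: for all points
x, y of Spec R there is g in G whose induced self-map of Spec R carries the connected component of x
onto the connected component of y. -/
theorem result
    (A : Type u) (R : Type v) [CommRing A] [CommRing R] [Algebra A R] [IsNoetherianRing R]
    (G : Type u) [Group G] [Finite G] [MulSemiringAction G R] [SMulCommClass G A R]
    [Algebra.IsInvariant A R G] [FaithfulSMul A R]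
    [ConnectedSpace (PrimeSpectrum A)] (x y : PrimeSpectrum R) :
    ∃ g : G, PrimeSpectrum.comap (MulSemiringAction.toRingHom G R g) '' connectedComponent x =
      connectedComponent y := by
  classical
  have : Fintype G := Fintype.ofFinite G
  let σ : G → PrimeSpectrum R → PrimeSpectrum R :=
    fun g => PrimeSpectrum.comap (MulSemiringAction.toRingHom G R g)
  have hσc : ∀ g, Continuous (σ g) := fun g => PrimeSpectrum.continuous_comap _
  have hmem : ∀ (g : G) (p : PrimeSpectrum R) (r : R), r ∈ (σ g p).asIdeal ↔ g • r ∈ p.asIdeal :=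
    fun g p r => Iff.rfl
  have hσmul : ∀ (g h : G) (p : PrimeSpectrum R), σ g (σ h p) = σ (h * g) p := by
    intro g h p
    apply PrimeSpectrum.ext
    ext r
    rw [hmem, hmem, hmem, mul_smul]
  have hσone : ∀ p : PrimeSpectrum R, σ 1 p = p := by
    intro p
    apply PrimeSpectrum.ext
    ext r
    rw [hmem, one_smul]
  set C := connectedComponent x with hC
  have hCclopen : IsClopen C := ⟨isClosed_connectedComponent, isOpen_cc x⟩
  let U : Set (PrimeSpectrum R) := ⋃ g : G, (σ g) ⁻¹' C
  have hUmem : ∀ z, z ∈ U ↔ ∃ g, σ g z ∈ C := fun z => by simp [U]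
  have hUclopen : IsClopen U := isClopen_iUnion_of_finite fun g => hCclopen.preimage (hσc g)
  have hUstab : ∀ h : G, (σ h) ⁻¹' U = U := by
    intro h
    ext z
    rw [Set.mem_preimage, hUmem, hUmem]
    constructor
    · rintro ⟨g, hg⟩; rw [hσmul] at hg; exact ⟨_, hg⟩
    · rintro ⟨g, hg⟩
      refine ⟨h⁻¹ * g, ?_⟩
      rw [hσmul, mul_inv_cancel_left]; exact hg
  obtain ⟨e, he, hUe⟩ := PrimeSpectrum.exists_idempotent_basicOpen_eq_of_isClopen hUclopen
  have hinv : ∀ h : G, h • e = e := by
    intro h
    have hide : IsIdempotentElem (h • e) := by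
      show h • e * h • e = h • e
      rw [← smul_mul', he.eq]
    refine PrimeSpectrum.basicOpen_injOn_isIdempotentElem hide he ?_
    apply SetLike.ext'
    rw [← hUe, ← hUstab h, hUe]
    ext z
    rfl
  obtain ⟨a, ha⟩ := Algebra.IsInvariant.isInvariant (A := A) (G := G) e hinv
  have hinj := FaithfulSMul.algebraMap_injective A R
  have haid : IsIdempotentElem a := by
    apply hinj
    rw [map_mul, ha, he.eq]
  have haclopen : IsClopen (PrimeSpectrum.basicOpen a : Set (PrimeSpectrum A)) :=
    PrimeSpectrum.isClopen_iff.mpr ⟨a, haid, rfl⟩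
  have hbo : ∀ z : PrimeSpectrum R, z ∈ U ↔
      PrimeSpectrum.comap (algebraMap A R) z ∈ (PrimeSpectrum.basicOpen a : Set (PrimeSpectrum A)) := by
    intro z
    rw [hUe]
    show e ∉ z.asIdeal ↔ algebraMap A R a ∉ z.asIdeal
    rw [ha]
  have hxU : x ∈ U := (hUmem x).2 ⟨1, by rw [hσone]; exact mem_connectedComponent⟩
  have hall : (PrimeSpectrum.basicOpen a : Set (PrimeSpectrum A)) = Set.univ := by
    rcases isClopen_iff.mp haclopen with h | h
    · exfalso
      have := (hbo x).1 hxU
      rw [h] at this
      exact this
    · exact h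
  have hyU : y ∈ U := (hbo y).2 (by rw [hall]; exact Set.mem_univ _)
  obtain ⟨g, hg⟩ := (hUmem y).1 hyU
  have hCz : connectedComponent (σ g y) = C := (connectedComponent_eq hg).symm
  have hy' : σ g⁻¹ (σ g y) = y := by rw [hσmul, mul_inv_cancel, hσone]
  refine ⟨g⁻¹, ?_⟩
  show σ g⁻¹ '' C = connectedComponent y
  apply Set.Subset.antisymm
  · have := (hσc g⁻¹).image_connectedComponent_subset (σ g y)
    rwa [hCz, hy'] at this
  · intro w hw
    have h1 := (hσc g).image_connectedComponent_subset y
    rw [hCz] at h1
    refine ⟨σ g w, h1 ⟨w, hw, rfl⟩, ?_⟩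
    rw [hσmul, mul_inv_cancel, hσone]

end Groth.Agent.S11136
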