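import Groth.Statements.S11137
import Mathlib.RingTheory.Invariant.Basic
import Mathlib.RingTheory.Ideal.GoingUp
-- import your own Groth.Agent.* helpers here

set_option autoImplicit false
universe u v
open InvTh
open scoped Pointwise

namespace Groth.Agent.S11137

/-- Let G be a finite group acting by ring automorphisms on a Noetherian commutative ring R, and let A
be its ring of invariants (A → R injective with image the fixed elements), with R module-finite over
A. Then the going-down property holds for the extension A → R. (The published statement also asserts
that G acts transitively on the primes of R over a given prime of A; this row states only the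
going-down assertion.) -/
theorem result
    (A : Type u) (R : Type v) [CommRing A] [CommRing R] [Algebra A R] [IsNoetherianRing R]
    (G : Type u) [Group G] [Finite G] [MulSemiringAction G R] [SMulCommClass G A R]
    [Algebra.IsInvariant A R G] [FaithfulSMul A R] [Module.Finite A R] :
    Algebra.HasGoingDown A R := by
  have hint : Algebra.IsIntegral A R := Algebra.IsInvariant.isIntegral A R G
  refine ⟨fun {p} _ Q _ hpQ => ?_⟩
  -- a prime of R over p
  obtain ⟨P₀, -, hP₀prime, hP₀⟩ := Ideal.exists_ideal_over_prime_of_isIntegral p (⊥ : Ideal R)
    (by
      rw [← RingHom.ker_eq_comap_bot,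
        (RingHom.injective_iff_ker_eq_bot _).mp (FaithfulSMul.algebraMap_injective A R)]
      exact bot_le)
  have hq : (Q.under A).IsPrime := Ideal.IsPrime.under A Q
  obtain ⟨Q', hQ'ge, hQ'prime, hQ'⟩ :=
    Ideal.exists_ideal_over_prime_of_isIntegral_of_isPrime (Q.under A) P₀
      (by rw [hP₀]; exact hpQ.le)
  obtain ⟨g, hg⟩ := Algebra.IsInvariant.exists_smul_of_under_eq A R G Q' Q
    (by rw [Ideal.under_def, hQ'])
  refine ⟨g • P₀, ?_, hP₀prime.smul g, ?_⟩
  · rw [hg]
    exact Ideal.pointwise_smul_le_pointwise_smul_iff.mpr hQ'ge
  · rw [Ideal.liesOver_iff, Ideal.under_smul, Ideal.under_def, hP₀]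

end Groth.Agent.S11137
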