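import Groth.Statements.S11141
import Groth.Agent.Lib.Helper22.Colon

set_option autoImplicit false
universe u
open TensorProduct
open InvTh

namespace Groth.Agent.S11141

section aux

open Polynomial

/-- in an integrally closed domain, a homogeneous monic relation gives divisibility -/
theorem dvd_of_eval_scaleRoots {D : Type*} [CommRing D] [IsDomain D] [IsIntegrallyClosed D]
    (P : D[X]) (hP : P.Monic) (a b : D) (hb : b ≠ 0) (h : eval a (scaleRoots P b) = 0) :
    ∃ y, a = b * y := by
  let K := FractionRing D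
  let f := algebraMap D K
  have hfb : f b ≠ 0 := by
    intro h0
    exact hb ((IsFractionRing.injective D K) (by rw [map_zero]; exact h0))
  have h1 : eval₂ f (f b * (f a / f b)) (scaleRoots P b) =
      f b ^ P.natDegree * eval₂ f (f a / f b) P := scaleRoots_eval₂_mul f _ _
  have h2 : f b * (f a / f b) = f a := mul_div_cancel₀ _ hfb
  rw [h2, Polynomial.eval₂_at_apply, h, map_zero] at h1
  have h4 : eval₂ f (f a / f b) P = 0 := by
    rcases mul_eq_zero.mp h1.symm with h | h
    · exact absurd h (pow_ne_zero _ hfb)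
    · exact h
  have hint : IsIntegral D (f a / f b) := ⟨P, hP, h4⟩
  obtain ⟨y, hy⟩ := IsIntegrallyClosed.algebraMap_eq_of_integral hint
  refine ⟨y, ?_⟩
  apply IsFractionRing.injective D K
  rw [map_mul, hy]
  exact h2.symm

variable {ι : Type u} [Fintype ι] {D : ι → Type u} [∀ i, CommRing (D i)] [∀ i, IsDomain (D i)]
  [∀ i, IsIntegrallyClosed (D i)]

open Classical in
/-- support indicator -/
noncomputable def supp (a : Π i, D i) : Π i, D i := fun i => if a i = 0 then 0 else 1

theorem supp_apply_of_eq {a : Π i, D i} {i : ι} (h : a i = 0) : supp a i = 0 := by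
  simp [supp, h]

theorem supp_apply_of_ne {a : Π i, D i} {i : ι} (h : a i ≠ 0) : supp a i = 1 := by
  simp [supp, h]

theorem prod_normal (B : Subring (Π i, D i))
    (H1 : ∀ a ∈ B, supp a ∈ B)
    (H2 : ∀ a ∈ B, ∀ b ∈ B, (∀ i, b i ≠ 0) → ∀ s : Π i, D i, a = b * s → s ∈ B) :
    ∃ (κ : Type u) (_ : Fintype κ) (E : κ → Type u) (_ : ∀ j, CommRing (E j))
      (_ : ∀ j, IsDomain (E j)) (_ : ∀ j, IsIntegrallyClosed (E j)),
      Nonempty (B ≃+* Π j, E j) := by
  classical
  let r : Setoid ι :=
    { r := fun i i' => ∀ a ∈ B, a i = 0 ↔ a i' = 0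
      iseqv := ⟨fun i a _ => Iff.rfl, fun h a ha => (h a ha).symm,
        fun h1 h2 a ha => (h1 a ha).trans (h2 a ha)⟩ }
  let κ := Quotient r
  let rep : κ → ι := fun q => q.out
  have hrep : ∀ q : κ, (Quotient.mk r (rep q)) = q := fun q => Quotient.out_eq q
  have hrel : ∀ i, ∀ a ∈ B, a (rep (Quotient.mk r i)) = 0 ↔ a i = 0 :=
    fun i a ha => (Quotient.mk_out (s := r) i) a ha
  have hrel' : ∀ (q : κ) i, Quotient.mk r i = q → ∀ a ∈ B, a (rep q) = 0 ↔ a i = 0 := by
    intro q i hi a ha
    rw [← hi]
    exact hrel i a ha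
  have hnrel : ∀ (q : κ) i', Quotient.mk r i' ≠ q → ¬ r (rep q) i' := by
    intro q i' hne hr
    apply hne
    rw [← hrep q]
    exact (Quotient.sound hr).symm
  -- evaluation homs
  let φ : ∀ i, B →+* D i := fun i => (Pi.evalRingHom D i).comp B.subtype
  have hφ : ∀ i (a : B), φ i a = (a : Π i, D i) i := fun _ _ => rfl
  -- separating idempotents
  have hsep : ∀ i i', ¬ r i i' → ∃ v ∈ B, v i = 1 ∧ v i' = 0 := by
    intro i i' hne
    have hne' : ¬ ∀ a ∈ B, a i = 0 ↔ a i' = 0 := hne
    obtain ⟨a, hne1⟩ := not_forall.mp hne'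
    obtain ⟨ha, hne''⟩ := Classical.not_imp.mp hne1
    by_cases hi : a i = 0
    · have hi' : a i' ≠ 0 := by
        intro h
        exact hne'' ⟨fun _ => h, fun _ => hi⟩
      refine ⟨1 - supp a, B.sub_mem B.one_mem (H1 a ha), ?_, ?_⟩
      · simp [supp_apply_of_eq hi]
      · simp [supp_apply_of_ne hi']
    · have hi' : a i' = 0 := by
        by_contra h
        exact hne'' ⟨fun h0 => absurd h0 hi, fun h0 => absurd h0 h⟩
      exact ⟨supp a, H1 a ha, supp_apply_of_ne hi, supp_apply_of_eq hi'⟩
  -- indicator of a class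
  let ind : κ → Π i, D i := fun q i => if Quotient.mk r i = q then 1 else 0
  have hind_eq : ∀ q i, Quotient.mk r i = q → ind q i = 1 := by
    intro q i h; simp [ind, h]
  have hind_ne : ∀ q i, Quotient.mk r i ≠ q → ind q i = 0 := by
    intro q i h; simp [ind, h]
  have hind : ∀ q, ind q ∈ B := by
    intro q
    choose! v hv using hsep
    let w : Π i, D i := ∏ i' ∈ Finset.univ.filter (fun i' => Quotient.mk r i' ≠ q), v (rep q) i'
    have hw : w ∈ B := by
      apply Subring.prod_mem
      intro i' hi'
      rw [Finset.mem_filter] at hi'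
      exact (hv _ _ (hnrel q i' hi'.2)).1
    have hw1 : w (rep q) = 1 := by
      show (∏ i' ∈ Finset.univ.filter (fun i' => Quotient.mk r i' ≠ q), v (rep q) i') (rep q) = 1
      rw [Finset.prod_apply]
      apply Finset.prod_eq_one
      intro i' hi'
      rw [Finset.mem_filter] at hi'
      exact (hv _ _ (hnrel q i' hi'.2)).2.1
    have hw0 : ∀ i', Quotient.mk r i' ≠ q → w i' = 0 := by
      intro i' hi'
      show (∏ i'' ∈ Finset.univ.filter (fun i' => Quotient.mk r i' ≠ q), v (rep q) i'') i' = 0
      rw [Finset.prod_apply]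
      apply Finset.prod_eq_zero (i := i')
      · rw [Finset.mem_filter]; exact ⟨Finset.mem_univ _, hi'⟩
      · exact (hv _ _ (hnrel q i' hi')).2.2
    have : ind q = supp w := by
      funext i
      by_cases hi : Quotient.mk r i = q
      · have hwi : w i ≠ 0 := by
          intro h0
          have := (hrel' q i hi w hw).mpr h0
          rw [hw1] at this
          exact one_ne_zero this
        rw [hind_eq q i hi, supp_apply_of_ne hwi]
      · rw [hind_ne q i hi, supp_apply_of_eq (hw0 i hi)]
    rw [this]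
    exact H1 w hw
  -- the ideals
  let I : κ → Ideal B := fun q => RingHom.ker (φ (rep q))
  have hI : ∀ q (a : B), a ∈ I q ↔ (a : Π i, D i) (rep q) = 0 := fun q a => Iff.rfl
  have hIprime : ∀ q, (I q).IsPrime := fun q => RingHom.ker_isPrime _
  have hIinf : ⨅ q, I q = ⊥ := by
    rw [eq_bot_iff]
    intro a ha
    rw [Ideal.mem_iInf] at ha
    rw [Ideal.mem_bot]
    apply Subtype.ext
    funext i
    have := (hI _ a).mp (ha (Quotient.mk r i))
    exact (hrel i a a.2).mp this
  have hcop : Pairwise (Function.onFun IsCoprime I) := by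
    intro q q' hqq'
    show IsCoprime (I q) (I q')
    rw [Ideal.isCoprime_iff_exists]
    refine ⟨⟨1 - ind q, B.sub_mem B.one_mem (hind q)⟩, ?_, ⟨ind q, hind q⟩, ?_, ?_⟩
    · rw [hI]
      show (1 - ind q) (rep q) = 0
      rw [Pi.sub_apply, Pi.one_apply, hind_eq q _ (hrep q), sub_self]
    · rw [hI]
      show ind q (rep q') = 0
      apply hind_ne
      rw [hrep q']
      exact fun h => hqq' h.symm
    · apply Subtype.ext
      show (1 - ind q) + ind q = 1
      abel
  refine ⟨κ, inferInstance, fun q => B ⧸ I q, inferInstance, fun q => ?_, fun q => ?_, ?_⟩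
  · haveI := hIprime q
    infer_instance
  · haveI := hIprime q
    rw [isIntegrallyClosed_iff (FractionRing (B ⧸ I q))]
    intro x hx
    obtain ⟨n, d, hd, rfl⟩ := IsFractionRing.div_surjective (A := B ⧸ I q) x
    obtain ⟨p, hpm, hp⟩ := hx
    have hroot : eval₂ (algebraMap (B ⧸ I q) (FractionRing (B ⧸ I q)))
        (algebraMap (B ⧸ I q) (FractionRing (B ⧸ I q)) n) (scaleRoots p d) = 0 :=
      scaleRoots_eval₂_eq_zero_of_eval₂_div_eq_zero
        (IsFractionRing.injective (B ⧸ I q) (FractionRing (B ⧸ I q))) hp hd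
    have hroot' : eval n (scaleRoots p d) = 0 := by
      apply IsFractionRing.injective (B ⧸ I q) (FractionRing (B ⧸ I q))
      rw [map_zero, ← hroot, Polynomial.eval₂_at_apply]
    have hd0 : d ≠ 0 := nonZeroDivisors.ne_zero hd
    obtain ⟨a, rfl⟩ := Ideal.Quotient.mk_surjective n
    obtain ⟨b, rfl⟩ := Ideal.Quotient.mk_surjective d
    obtain ⟨P, hPmap, -, hPm⟩ := lifts_and_natDegree_eq_and_monic
      (f := Ideal.Quotient.mk (I q)) (p := p)
      (by rw [Polynomial.mem_lifts]
          exact Polynomial.map_surjective _ Ideal.Quotient.mk_surjective p) hpm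
    -- the homogeneous relation
    have hmapsr : ∀ {T : Type u} [CommRing T] [Nontrivial T] (g : B →+* T),
        g (eval a (scaleRoots P b)) = eval (g a) (scaleRoots (P.map g) (g b)) := by
      intro T _ _ g
      rw [← Polynomial.eval₂_at_apply, ← Polynomial.eval_map, Polynomial.map_scaleRoots]
      rw [hPm.leadingCoeff, map_one]
      exact one_ne_zero
    have hW : eval a (scaleRoots P b) ∈ I q := by
      rw [← Ideal.Quotient.eq_zero_iff_mem, hmapsr, hPmap]
      exact hroot'
    have hbq : (b : Π i, D i) (rep q) ≠ 0 := by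
      intro h0
      apply hd0
      rw [Ideal.Quotient.eq_zero_iff_mem, hI]
      exact h0
    have hb : ∀ i, Quotient.mk r i = q → (b : Π i, D i) i ≠ 0 := by
      intro i hi h0
      exact hbq ((hrel' q i hi b b.2).mpr h0)
    have hy : ∀ i, Quotient.mk r i = q → ∃ y : D i, (a : Π i, D i) i = (b : Π i, D i) i * y := by
      intro i hi
      have hWi : φ i (eval a (scaleRoots P b)) = 0 := by
        rw [hφ]
        exact (hrel' q i hi _ (eval a (scaleRoots P b)).2).mp ((hI q _).mp hW)
      rw [hmapsr] at hWi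
      exact dvd_of_eval_scaleRoots (P.map (φ i)) (hPm.map _) (φ i a) (φ i b) (hb i hi) hWi
    let s : Π i, D i := fun i =>
      if h : Quotient.mk r i = q then Classical.choose (hy i h) else 0
    have hs_eq : ∀ i (h : Quotient.mk r i = q), (a : Π i, D i) i = (b : Π i, D i) i * s i := by
      intro i h
      simp only [s, dif_pos h]
      exact Classical.choose_spec (hy i h)
    have hs_ne : ∀ i, Quotient.mk r i ≠ q → s i = 0 := by
      intro i h
      simp only [s, dif_neg h]
    have hsB : s ∈ B := by
      refine H2 ((a : Π i, D i) * ind q) (B.mul_mem a.2 (hind q))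
        ((b : Π i, D i) * ind q + (1 - ind q))
        (B.add_mem (B.mul_mem b.2 (hind q)) (B.sub_mem B.one_mem (hind q))) ?_ s ?_
      · intro i
        by_cases hi : Quotient.mk r i = q
        · simp only [Pi.add_apply, Pi.mul_apply, Pi.sub_apply, Pi.one_apply, hind_eq q i hi,
            mul_one, sub_self, add_zero]
          exact hb i hi
        · simp only [Pi.add_apply, Pi.mul_apply, Pi.sub_apply, Pi.one_apply, hind_ne q i hi,
            mul_zero, sub_zero, zero_add]
          exact one_ne_zero
      · funext i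
        by_cases hi : Quotient.mk r i = q
        · simp only [Pi.add_apply, Pi.mul_apply, Pi.sub_apply, Pi.one_apply, hind_eq q i hi,
            mul_one, sub_self, add_zero]
          exact hs_eq i hi
        · simp only [Pi.add_apply, Pi.mul_apply, Pi.sub_apply, Pi.one_apply, hind_ne q i hi,
            mul_zero, sub_zero, zero_add, hs_ne i hi]
    refine ⟨Ideal.Quotient.mk (I q) ⟨s, hsB⟩, ?_⟩
    have hab : Ideal.Quotient.mk (I q) a = Ideal.Quotient.mk (I q) b *
        Ideal.Quotient.mk (I q) ⟨s, hsB⟩ := by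
      rw [← map_mul, Ideal.Quotient.eq, hI]
      show ((a : Π i, D i) - (b : Π i, D i) * s) (rep q) = 0
      rw [Pi.sub_apply, Pi.mul_apply, hs_eq (rep q) (hrep q), sub_self]
    rw [hab, map_mul]
    have hne : algebraMap (B ⧸ I q) (FractionRing (B ⧸ I q)) (Ideal.Quotient.mk (I q) b) ≠ 0 := by
      intro h0
      exact hd0 ((IsFractionRing.injective (B ⧸ I q) (FractionRing (B ⧸ I q)))
        (by rw [map_zero]; exact h0))
    rw [mul_div_cancel_left₀ _ hne]
  · refine ⟨((RingEquiv.quotientBot B).symm.trans (Ideal.quotEquivOfEq hIinf.symm)).trans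
      (Ideal.quotientInfRingEquivPiQuotient I hcop)⟩

end aux

section aux2

open Groth.Agent.Lib.helper22

variable {k : Type u} [Field k] {H : Type u} [CommRing H] [HopfAlgebra k H]
  {S : Type u} [CommRing S] [Algebra k S] [HopfRep.Comod k H S] [GLin.IsCoactAlg k H S]

theorem tmul_one_mul_of_fix (J : Ideal S) (c : S) (hc : ∀ j ∈ J, c * j = j) (t : S ⊗[k] H)
    (ht : t ∈ LinearMap.range ((J.restrictScalars k).subtype.rTensor H)) :
    (c ⊗ₜ[k] (1 : H)) * t = t := by
  obtain ⟨s, rfl⟩ := ht
  induction s using TensorProduct.induction_on with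
  | zero => simp
  | add s₁ s₂ h₁ h₂ => rw [map_add, mul_add, h₁, h₂]
  | tmul j b =>
    simp only [LinearMap.rTensor_tmul, Submodule.subtype_apply,
      Algebra.TensorProduct.tmul_mul_tmul, one_mul]
    rw [hc j.1 j.2]

theorem tmul_one_mul_of_kill (J : Ideal S) (c : S) (hc : ∀ j ∈ J, c * j = 0) (t : S ⊗[k] H)
    (ht : t ∈ LinearMap.range ((J.restrictScalars k).subtype.rTensor H)) :
    (c ⊗ₜ[k] (1 : H)) * t = 0 := by
  obtain ⟨s, rfl⟩ := ht
  induction s using TensorProduct.induction_on with
  | zero => simp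
  | add s₁ s₂ h₁ h₂ => rw [map_add, mul_add, h₁, h₂, add_zero]
  | tmul j b =>
    simp only [LinearMap.rTensor_tmul, Submodule.subtype_apply,
      Algebra.TensorProduct.tmul_mul_tmul, one_mul]
    rw [hc j.1 j.2, TensorProduct.zero_tmul]

/-- an idempotent such that `(ε)` and `(1 - ε)` are stable is invariant -/
theorem idem_invariant (ε : S) (hε : ε * ε = ε)
    (h1 : HopfRep.IsSubcomod (k := k) (A := H) ((Ideal.span {ε}).restrictScalars k))
    (h2 : HopfRep.IsSubcomod (k := k) (A := H) ((Ideal.span {1 - ε}).restrictScalars k)) :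
    HopfRep.Comod.coact (k := k) (A := H) ε = ε ⊗ₜ[k] (1 : H) := by
  have e1 : (ε ⊗ₜ[k] (1 : H)) * HopfRep.Comod.coact (k := k) (A := H) ε =
      HopfRep.Comod.coact (k := k) (A := H) ε := by
    apply tmul_one_mul_of_fix (Ideal.span {ε}) ε _ _ (h1 ε (Ideal.subset_span rfl))
    intro j hj
    obtain ⟨s, rfl⟩ := Ideal.mem_span_singleton'.mp hj
    rw [mul_comm, mul_assoc, hε]
  have e2 : (ε ⊗ₜ[k] (1 : H)) * HopfRep.Comod.coact (k := k) (A := H) (1 - ε) = 0 := by
    apply tmul_one_mul_of_kill (Ideal.span {1 - ε}) ε _ _ (h2 (1 - ε) (Ideal.subset_span rfl))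
    intro j hj
    obtain ⟨s, rfl⟩ := Ideal.mem_span_singleton'.mp hj
    rw [mul_comm, mul_assoc, sub_mul, one_mul, hε, sub_self, mul_zero]
  have e3 : HopfRep.Comod.coact (k := k) (A := H) ε +
      HopfRep.Comod.coact (k := k) (A := H) (1 - ε) = 1 := by
    rw [← map_add, add_sub_cancel, GLin.IsCoactAlg.coact_one]
  calc HopfRep.Comod.coact (k := k) (A := H) ε
      = (ε ⊗ₜ[k] (1 : H)) * (HopfRep.Comod.coact (k := k) (A := H) ε +
          HopfRep.Comod.coact (k := k) (A := H) (1 - ε)) := by rw [mul_add, e1, e2, add_zero]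
    _ = ε ⊗ₜ[k] (1 : H) := by rw [e3, mul_one]

theorem isSubcomod_bot_ideal :
    HopfRep.IsSubcomod (k := k) (A := H) ((⊥ : Ideal S).restrictScalars k) := by
  intro w hw
  have hw0 : w = 0 := hw
  rw [hw0, map_zero]
  exact Submodule.zero_mem _

/-- for an idempotent `ε'`, the annihilator of a stable `(ε')` is `(1 - ε')`, which is stable -/
theorem isSubcomod_span_one_sub (a ε' : S) (hε : ε' * ε' = ε')
    (ha : HopfRep.IsSubcomod (k := k) (A := H) ((Ideal.span {a}).restrictScalars k))
    (hann : ∀ c : S, c * a = 0 ↔ c * ε' = 0) :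
    HopfRep.IsSubcomod (k := k) (A := H) ((Ideal.span {1 - ε'}).restrictScalars k) := by
  have hcol := isSubcomod_colonSub (k := k) (A := H) (Ideal.span {a}) ⊥ ha isSubcomod_bot_ideal
  have heq : colonSub k (Ideal.span {a}) (⊥ : Ideal S) =
      (Ideal.span {1 - ε'}).restrictScalars k := by
    ext c
    rw [mem_colonSub, Submodule.restrictScalars_mem, Ideal.mem_span_singleton']
    constructor
    · intro h
      have h1 : c * a = 0 := h a (Ideal.subset_span rfl)
      have h2 := (hann c).mp h1
      refine ⟨c, ?_⟩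
      rw [mul_sub, mul_one, h2, sub_zero]
    · rintro ⟨s, rfl⟩ y hy
      obtain ⟨z, rfl⟩ := Ideal.mem_span_singleton'.mp hy
      have h3 : s * (1 - ε') * a = 0 := by
        rw [hann]
        rw [mul_assoc, sub_mul, one_mul, hε, sub_self, mul_zero]
      rw [Ideal.mem_bot]
      calc s * (1 - ε') * (z * a) = z * (s * (1 - ε') * a) := by ring
        _ = 0 := by rw [h3, mul_zero]
  rw [← heq]
  exact hcol

/-- multiplication by `b ⊗ 1` is injective when multiplication by `b` is -/
theorem tmul_one_mul_injective (b : S) (hb : ∀ c : S, b * c = 0 → c = 0) (t : S ⊗[k] H)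
    (ht : (b ⊗ₜ[k] (1 : H)) * t = 0) : t = 0 := by
  have hinj : Function.Injective (LinearMap.mulLeft k b) := by
    rw [← LinearMap.ker_eq_bot, LinearMap.ker_eq_bot']
    intro c hc
    exact hb c hc
  have hinj' : Function.Injective ((LinearMap.mulLeft k b).rTensor H) :=
    Module.Flat.rTensor_preserves_injective_linearMap _ hinj
  have hformula : ∀ t : S ⊗[k] H, (LinearMap.mulLeft k b).rTensor H t = (b ⊗ₜ[k] (1 : H)) * t := by
    intro t
    induction t using TensorProduct.induction_on with
    | zero => simp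
    | add t₁ t₂ h₁ h₂ => rw [map_add, mul_add, h₁, h₂]
    | tmul s h =>
      simp only [LinearMap.rTensor_tmul, LinearMap.mulLeft_apply,
        Algebra.TensorProduct.tmul_mul_tmul, one_mul]
  apply hinj'
  rw [hformula, ht, map_zero]

end aux2

/-- Let k be a field, H a finitely generated commutative Hopf algebra over k (the coordinate ring of a
group scheme affine and of finite type over k), and S a commutative k-algebra which is
ring-isomorphic to a finite product of normal (integrally closed) domains and carries an H-comodule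
structure whose coaction S → S ⊗ H is multiplicative and unital. Then the k-subalgebra of invariants
of S, the elements s whose coaction is s ⊗ 1, is again ring-isomorphic to a finite product of normal
domains. -/
theorem result (k : Type u) [Field k]
    (H : Type u) [CommRing H] [HopfAlgebra k H] [Algebra.FiniteType k H]
    (S : Type u) [CommRing S] [Algebra k S] [HopfRep.Comod k H S]
    (hmul : ∀ x y : S, HopfRep.Comod.coact (k := k) (A := H) (x * y) =
        HopfRep.Comod.coact (k := k) (A := H) x * HopfRep.Comod.coact (k := k) (A := H) y)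
    (hone : HopfRep.Comod.coact (k := k) (A := H) (1 : S) = 1)
    {ι : Type u} [Fintype ι] (D : ι → Type u) [∀ i, CommRing (D i)] [∀ i, IsDomain (D i)]
    [∀ i, IsIntegrallyClosed (D i)] (e : S ≃+* Π i, D i)
    (A : Subalgebra k S)
    (hA : ∀ a : S, a ∈ A ↔ HopfRep.Comod.coact (k := k) (A := H) a = a ⊗ₜ[k] (1 : H)) :
    ∃ (κ : Type u) (_ : Fintype κ) (E : κ → Type u) (_ : ∀ j, CommRing (E j)) (_ : ∀ j, IsDomain (E j))
      (_ : ∀ j, IsIntegrallyClosed (E j)), Nonempty (A ≃+* Π j, E j) := by
  classical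
  haveI : GLin.IsCoactAlg k H S := ⟨hone, hmul⟩
  let B : Subring (Π i, D i) := A.toSubring.map e.toRingHom
  have hBmem : ∀ a : S, a ∈ A → e a ∈ B := fun a ha => ⟨a, ha, rfl⟩
  have hinvA : ∀ a : S, a ∈ A → a ∈ GLin.invariants k H S := fun a ha => (hA a).mp ha
  have H1 : ∀ a ∈ B, supp a ∈ B := by
    rintro a' ⟨a, ha, rfl⟩
    have haA : a ∈ A := ha
    show supp (e a) ∈ B
    have heε : e (e.symm (supp (e a))) = supp (e a) := e.apply_symm_apply _
    have hεε : e.symm (supp (e a)) * e.symm (supp (e a)) = e.symm (supp (e a)) := by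
      apply e.injective
      rw [map_mul, heε]
      funext i
      by_cases h : e a i = 0
      · rw [Pi.mul_apply, supp_apply_of_eq h, mul_zero]
      · rw [Pi.mul_apply, supp_apply_of_ne h, mul_one]
    have hann : ∀ c : S, c * a = 0 ↔ c * e.symm (supp (e a)) = 0 := by
      intro c
      rw [← map_eq_zero_iff e e.injective, ← map_eq_zero_iff e e.injective (x := c * _),
        map_mul, map_mul, heε, funext_iff, funext_iff]
      refine forall_congr' fun i => ?_
      by_cases h : e a i = 0
      · simp [supp_apply_of_eq h, h]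
      · simp [supp_apply_of_ne h, h]
    have ha_st : HopfRep.IsSubcomod (k := k) (A := H) ((Ideal.span {a}).restrictScalars k) :=
      Groth.Agent.Lib.helper22.isSubcomod_span_of_subset_invariants {a}
        (Set.singleton_subset_iff.mpr (hinvA a haA))
    have h2 := isSubcomod_span_one_sub a (e.symm (supp (e a))) hεε ha_st hann
    have h1' := isSubcomod_span_one_sub (k := k) (H := H) (1 - e.symm (supp (e a)))
      (1 - e.symm (supp (e a)))
      (by
        have := hεε
        ring_nf
        ring_nf at this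
        rw [this]
        ring) h2 (fun c => Iff.rfl)
    rw [sub_sub_cancel] at h1'
    have hinv := idem_invariant (k := k) (H := H) _ hεε h1' h2
    have := hBmem _ ((hA _).mpr hinv)
    rwa [heε] at this
  have H2 : ∀ a ∈ B, ∀ b ∈ B, (∀ i, b i ≠ 0) → ∀ s : Π i, D i, a = b * s → s ∈ B := by
    rintro a' ⟨a, ha, rfl⟩ b' ⟨b, hb, rfl⟩ hbne s' hs'
    have haA : a ∈ A := ha
    have hbA : b ∈ A := hb
    have hab : a = b * e.symm s' := by
      apply e.injective
      rw [map_mul, e.apply_symm_apply]
      exact hs'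
    have hbinj : ∀ c : S, b * c = 0 → c = 0 := by
      intro c hc
      apply e.injective
      rw [map_zero]
      funext i
      have := congrFun (congrArg e hc) i
      rw [map_mul, map_zero, Pi.mul_apply, Pi.zero_apply] at this
      exact (mul_eq_zero.mp this).resolve_left (hbne i)
    have hca := (hA a).mp haA
    have hcb := (hA b).mp hbA
    have hkey : (b ⊗ₜ[k] (1 : H)) *
        (HopfRep.Comod.coact (k := k) (A := H) (e.symm s') - (e.symm s') ⊗ₜ[k] (1 : H)) = 0 := by
      rw [mul_sub, ← hcb, ← hmul, ← hab, hca, hcb, Algebra.TensorProduct.tmul_mul_tmul, ← hab,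
        mul_one, sub_self]
    have hz := tmul_one_mul_injective b hbinj _ hkey
    have hsA : e.symm s' ∈ A := (hA _).mpr (sub_eq_zero.mp hz)
    have := hBmem _ hsA
    rwa [e.apply_symm_apply] at this
  obtain ⟨κ, fκ, E, i1, i2, i3, ⟨iso⟩⟩ := prod_normal B H1 H2
  let g : A →+* B := (e.toRingHom.comp A.val.toRingHom).codRestrict B (fun a => ⟨a.1, a.2, rfl⟩)
  have hg : Function.Bijective g := by
    constructor
    · intro x y hxy
      have h1 : e x.1 = e y.1 := congrArg Subtype.val hxy
      exact Subtype.ext (e.injective h1)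
    · rintro ⟨y, x, hx, rfl⟩
      exact ⟨⟨x, hx⟩, rfl⟩
  exact ⟨κ, fκ, E, i1, i2, i3, ⟨(RingEquiv.ofBijective g hg).trans iso⟩⟩

end Groth.Agent.S11141
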