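import Groth.Statements.S11142
import Mathlib

set_option autoImplicit false
universe u
open CategoryTheory AlgebraicGeometry
open FlatMor

namespace Groth.Agent.S11142

theorem exists_generization_mem {Y : Scheme.{u}} [IsLocallyNoetherian Y] (U : Y.Opens)
    (hU : Dense (U : Set Y)) (y : Y) : ∃ y' : Y, y' ⤳ y ∧ y' ∈ U := by
  obtain ⟨W, hW, hyW, -⟩ := AlgebraicGeometry.exists_isAffineOpen_mem_and_subset
    (x := y) (U := ⊤) trivial
  have : IsAffine (W : Scheme) := hW
  have : IsNoetherian (W : Scheme) := {}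
  let y₀ : (W : Scheme) := ⟨y, hyW⟩
  let Z := irreducibleComponent y₀
  have hZ : Z ∈ irreducibleComponents (W : Scheme) := irreducibleComponent_mem_irreducibleComponents y₀
  obtain ⟨o, ho, hone, hoZ⟩ :=
    TopologicalSpace.NoetherianSpace.exists_isOpen_nonempty_subset_irreducibleComponent Z hZ
  have hdense : Dense (W.ι ⁻¹' (U : Set Y)) := hU.preimage W.ι.isOpenEmbedding.isOpenMap
  obtain ⟨z, hzo, hzU⟩ := hdense.inter_open_nonempty o ho hone
  have hZirr : IsIrreducible Z := isIrreducible_irreducibleComponent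
  have hZcl : IsClosed Z := isClosed_irreducibleComponent
  obtain ⟨η, hη⟩ := QuasiSober.sober hZirr hZcl
  have hηz : η ⤳ z := hη.specializes (hoZ hzo)
  have hηy : η ⤳ y₀ := hη.specializes mem_irreducibleComponent
  have hηU : η ∈ W.ι ⁻¹' (U : Set Y) :=
    hηz.mem_open (U.2.preimage W.ι.continuous) hzU
  exact ⟨W.ι η, hηy.map W.ι.continuous, hηU⟩

/-- For a flat morphism f : X → Y between locally Noetherian schemes, the preimage under f of any dense
open subset of Y is dense in X. -/
theorem result (X Y : Scheme.{u}) [IsLocallyNoetherian X]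
    [IsLocallyNoetherian Y] (f : X ⟶ Y) [Flat f] (U : Y.Opens) (hU : Dense (U : Set Y)) :
    Dense ((f ⁻¹ᵁ U : X.Opens) : Set X) := by
  have hgen : GeneralizingMap f := Flat.generalizingMap f
  rw [dense_iff_inter_open]
  rintro V hV ⟨x, hx⟩
  obtain ⟨y', hy', hy'U⟩ := exists_generization_mem U hU (f x)
  obtain ⟨x', hx', rfl⟩ := hgen hy'
  exact ⟨x', hx'.mem_open hV hx, hy'U⟩

end Groth.Agent.S11142
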