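import Groth.Statements.S11159
import Mathlib
-- import your own Groth.Agent.* helpers here

set_option autoImplicit false
universe w v u
open CategoryTheory CategoryTheory.Limits CategoryTheory.Pretriangulated
open CohDer

namespace Groth.Agent.S11159

/-- Let A be an abelian category with enough injectives and X ⟶ Y ⟶ Z ⟶ X⟦1⟧ a distinguished triangle in
D(A). If X and Z are each isomorphic in D(A) to a bounded complex of injective objects of A, then so
is Y. -/
theorem result {A : Type u} [Category.{v} A] [Abelian A]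
    [HasDerivedCategory.{w} A] [EnoughInjectives A]
    (T : Triangle (DerivedCategory A)) (hT : T ∈ distTriang (DerivedCategory A))
    (h₁ : (∃ (I : CochainComplex A ℤ) (b c : ℤ), I.IsStrictlyGE b ∧ I.IsStrictlyLE c ∧
        (∀ n : ℤ, Injective (I.X n)) ∧ Nonempty (T.obj₁ ≅ DerivedCategory.Q.obj I)))
    (h₃ : (∃ (I : CochainComplex A ℤ) (b c : ℤ), I.IsStrictlyGE b ∧ I.IsStrictlyLE c ∧
        (∀ n : ℤ, Injective (I.X n)) ∧ Nonempty (T.obj₃ ≅ DerivedCategory.Q.obj I))) :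
    (∃ (I : CochainComplex A ℤ) (b c : ℤ), I.IsStrictlyGE b ∧ I.IsStrictlyLE c ∧
        (∀ n : ℤ, Injective (I.X n)) ∧ Nonempty (T.obj₂ ≅ DerivedCategory.Q.obj I)) := by
  obtain ⟨I₁, b₁, c₁, hb₁, hc₁, hI₁, ⟨e₁⟩⟩ := h₁
  obtain ⟨I₃, b₃, c₃, hb₃, hc₃, hI₃, ⟨e₃⟩⟩ := h₃
  haveI := hb₁
  haveI := hc₁
  haveI := hb₃
  haveI := hc₃
  haveI := hI₁
  haveI := hI₃
  haveI : I₁.IsKInjective := CochainComplex.isKInjective_of_injective I₁ b₁
  -- the inverse-rotated triangle `Z⟦-1⟧ ⟶ X ⟶ Y ⟶`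
  have hT' := inv_rot_of_distTriang _ hT
  let J : CochainComplex A ℤ := I₃⟦(-1 : ℤ)⟧
  let eJ : DerivedCategory.Q.obj J ≅ (T.obj₃)⟦(-1 : ℤ)⟧ :=
    (DerivedCategory.Q.commShiftIso (-1 : ℤ)).app I₃ ≪≫
      (shiftFunctor (DerivedCategory A) (-1 : ℤ)).mapIso e₃.symm
  obtain ⟨g, hg⟩ : ∃ g : (T.obj₃)⟦(-1 : ℤ)⟧ ⟶ T.obj₁, g = T.invRotate.mor₁ := ⟨_, rfl⟩
  obtain ⟨φ, hφ⟩ := (CochainComplex.IsKInjective.Qh_map_bijective
    ((HomotopyCategory.quotient _ _).obj J) I₁).2 (eJ.hom ≫ g ≫ e₁.hom)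
  obtain ⟨f, rfl⟩ := (HomotopyCategory.quotient _ _).map_surjective φ
  have hf : DerivedCategory.Q.map f = eJ.hom ≫ g ≫ e₁.hom := hφ
  have hcomm : DerivedCategory.Q.map f ≫ e₁.inv = eJ.hom ≫ g := by
    rw [hf, Category.assoc, Category.assoc, Iso.hom_inv_id, Category.comp_id]
  have hT₂ := DerivedCategory.mappingCone_triangle_distinguished f
  have iso := isoTriangleOfIso₁₂ _ _ hT₂ hT' eJ e₁.symm (by
    rw [hg] at hcomm
    exact hcomm)
  refine ⟨CochainComplex.mappingCone f, min b₁ b₃, max c₁ c₃, ?_, ?_, ?_,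
    ⟨(Triangle.π₃.mapIso iso).symm⟩⟩
  · rw [CochainComplex.isStrictlyGE_iff]
    intro i hi
    refine HomologicalComplex.homotopyCofiber.isZero_X f i ?_ ?_
    · exact CochainComplex.isZero_of_isStrictlyGE I₁ b₁ i (lt_of_lt_of_le hi (min_le_left _ _))
    · intro j hj
      simp only [ComplexShape.up_Rel] at hj
      show IsZero (I₃.X (j + -1))
      exact CochainComplex.isZero_of_isStrictlyGE I₃ b₃ _
        (by have := min_le_right b₁ b₃; omega)
  · rw [CochainComplex.isStrictlyLE_iff]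
    intro i hi
    refine HomologicalComplex.homotopyCofiber.isZero_X f i ?_ ?_
    · exact CochainComplex.isZero_of_isStrictlyLE I₁ c₁ i (lt_of_le_of_lt (le_max_left _ _) hi)
    · intro j hj
      simp only [ComplexShape.up_Rel] at hj
      show IsZero (I₃.X (j + -1))
      exact CochainComplex.isZero_of_isStrictlyLE I₃ c₃ _
        (by have := le_max_right c₁ c₃; omega)
  · intro n
    have e := HomologicalComplex.homotopyCofiber.XIsoBiprod f n (n + 1) (by simp)
    haveI : Injective (J.X (n + 1)) := by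
      show Injective (I₃.X (n + 1 + -1))
      infer_instance
    exact Injective.of_iso e.symm inferInstance

end Groth.Agent.S11159
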