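import Groth.Statements.S11164
import Mathlib
import Groth.Agent.Lib.Helper25.SiteLTensor
import Groth.Agent.Lib.Helper21.ExtZeroT
import Groth.Agent.Lib.Helper21.LocFreeBridge
import Groth.Agent.Lib.Helper1.FreeOnLoc
import Groth.Agent.Lib.Helper13.KRes5
-- import your own Groth.Agent.* helpers here

set_option autoImplicit false
universe u
open CategoryTheory CategoryTheory.Limits AlgebraicGeometry
attribute [local instance] HasDerivedCategory.standard
open Coherent

namespace Groth.Agent.S11164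

open Groth.Agent.Lib.Helper21.TensorMon Groth.Agent.Lib.Helper21.TensorAdj
  Groth.Agent.Lib.Helper21.FlatSES

section
variable {C : Type u} [SmallCategory C] {J : GrothendieckTopology C} (O : Sheaf J CommRingCat.{u})

/-- a `Type u`-indexed coproduct of flat modules is flat -/
theorem isFlat_sigma' {A : Type u} (M : A → ModSite.Mod O)
    (hM : ∀ a, ModSite.IsFlat (M a)) : ModSite.IsFlat (∐ M) := by
  haveI : AB5OfSize.{u, u} (ModSite.Mod O) :=
    Groth.Agent.Lib.Helper21.ModGroth.ab5_mod (ModSite.ringSh O)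
  haveI : HasFiniteBiproducts (ModSite.Mod O) := HasFiniteBiproducts.of_hasFiniteProducts
  haveI : AB4OfSize.{u} (ModSite.Mod O) := AB4.of_AB5 _
  refine isFlat_of_mono _ (fun {N N'} f _ => ?_)
  haveI := isLeftAdjoint_tensL O N
  haveI := isLeftAdjoint_tensL O N'
  let c : Cofan M := Cofan.mk (∐ M) (Sigma.ι M)
  have hc : IsColimit c := coproductIsCoproduct M
  have hc₁ : IsColimit ((tensL O N).mapCocone c) := isColimitOfPreserves (tensL O N) hc
  have hc₂ : IsColimit ((tensL O N').mapCocone c) := isColimitOfPreserves (tensL O N') hc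
  let φ : Discrete.functor M ⋙ tensL O N ⟶ Discrete.functor M ⋙ tensL O N' :=
    { app := fun a => (tens O (M a.as)).map f
      naturality := by
        rintro ⟨a⟩ ⟨b⟩ ⟨⟨h⟩⟩
        cases h
        simp }
  haveI : ∀ a, Mono (φ.app a) := fun a => mono_tens_of_isFlat (M a.as) (hM a.as) f
  haveI : Mono φ := NatTrans.mono_of_mono_app φ
  exact colim.map_mono' φ hc₁ hc₂ ((tens O (∐ M)).map f) (fun a =>
    (((ModSite.tensorBi O).map f).naturality (Sigma.ι M a.as)))

end

/-- `j_! O_V` on the scheme is the site-level `freeOn`. -/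
noncomputable def extZeroUnitIso {X : Scheme.{u}} (V : X.Opens) :
    CxOX.extZeroUnit V.ι ≅ ModSite.freeOn X.sheaf V :=
  (CxOX.extZeroIsoSite V).app (Coh.structureModule (↑V : Scheme.{u})) ≪≫
    (ModSite.extZero X.sheaf V).mapIso
      (Groth.Agent.Lib.helper21.LocFreeBridge.overEquivInverseUnit V)



/-- Every O_X-module on a scheme X is a quotient of a flat O_X-module; precisely, for every O_X-module F
there are opens U_i of X and an epimorphism ∐ j_{U_i !} O_{U_i} ⟶ F, and such a direct sum of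
extensions by zero of structure sheaves of opens is flat (all its stalks are flat over the local
rings). -/
theorem result {X : Scheme.{u}} (F : X.Modules) :
    ∃ (ι : Type u) (U : ι → X.Opens) (p : (∐ fun i => CxOX.extZeroUnit (U i).ι) ⟶ F),
      Epi p ∧ FlatMod.IsFlat (∐ fun i => CxOX.extZeroUnit (U i).ι) := by
  let F' : ModSite.Mod X.sheaf := F
  let ι : Type u := Σ U : X.Opens, (ModSite.freeOn X.sheaf U ⟶ F')
  let e : (∐ fun p : ι => CxOX.extZeroUnit (p.1).ι) ≅ ∐ fun p : ι => ModSite.freeOn X.sheaf p.1 :=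
    Sigma.mapIso (fun p => extZeroUnitIso p.1)
  let π : (∐ fun p : ι => ModSite.freeOn X.sheaf p.1) ⟶ F' := Sigma.desc (fun p => p.2)
  have hπ : Epi π := by
    refine Groth.Agent.H1.FreeOnLoc.epi_of_local_sections X.sheaf _ (fun U s => ⟨⊤, (Opens.grothendieckTopology X).top_mem U, ?_⟩)
    intro Y g _
    refine ⟨Sigma.ι (fun p : ι => ModSite.freeOn X.sheaf p.1)
      ⟨Y, Groth.Agent.H1.FreeOnLoc.fmap X.sheaf g ≫ s⟩, ?_⟩
    exact Sigma.ι_desc _ _
  refine ⟨ι, fun p => p.1, e.hom ≫ π, ?_, ?_⟩
  · exact @epi_comp _ _ _ _ _ e.hom _ π hπ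
  · apply Groth.Agent.Lib.helper13.KRes.flatMod_of_isFlat
    refine Groth.Agent.Lib.helper13.KFlat.isFlat_of_iso e.symm ?_
    exact isFlat_sigma' X.sheaf _ (fun p => Groth.Agent.Lib.Helper21.ExtZeroT.isFlat_freeOn X.sheaf p.1)

end Groth.Agent.S11164
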