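import Groth.Statements.S11165
import Groth.Agent.Lib.Helper27.EdgeIn
import Groth.Agent.S0028
import Groth.Agent.S11319
import Groth.Agent.Lib.Helper27.PullConst
-- import your own Groth.Agent.* helpers here

set_option autoImplicit false
universe u
open CategoryTheory CategoryTheory.Limits AlgebraicGeometry
open Coherent

namespace Groth.Agent.S11165

/-- Let f : X ⟶ Y be a separated morphism of schemes, U an open of X on which f restricts to an affine
morphism, i : U ⟶ X the inclusion and F a quasi-coherent O_X-module. Then i_*(F|_U) is acyclic for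
f_*: its higher direct images R^j f_* vanish for j > 0. (The binder asserting injective resolutions
of O_X-modules always holds.) -/
theorem result {X Y : Scheme.{u}} (f : X ⟶ Y) [IsSeparated f]
    (U : X.Opens) [IsAffineHom (U.ι ≫ f)] (F : X.Modules) (hF : Coh.IsQCoh F)
    [HasInjectiveResolutions X.Modules] (j : ℕ) (hj : 0 < j) :
    IsZero ((Coh.Rpush f j).obj ((Scheme.Modules.pushforward U.ι).obj ((Scheme.Modules.restrictFunctor U.ι).obj F))) := by
  classical
  let i := U.ι
  let G : (U : Scheme.{u}).Modules := (Scheme.Modules.restrictFunctor U.ι).obj F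
  have hG : Coh.IsQCoh G := by
    have : F.IsQuasicoherent := hF
    exact Scheme.Modules.isQuasicoherent_restrictFunctor U.ι F
  have : IsAffineHom i := IsAffineHom.of_comp i f
  -- abelian level
  have hpm : (TopCat.Sheaf.pullback AddCommGrpCat.{u} i.base).PreservesMonomorphisms := by
    have := Groth.Agent.Lib.helper27.PullConst.pull_preservesFiniteLimits i.base
    infer_instance
  have : (Coh.pushAb i).PreservesInjectiveObjects :=
    Functor.preservesInjectiveObjects_of_adjunction_of_preservesMonomorphisms
      (TopCat.Sheaf.pullbackPushforwardAdjunction AddCommGrpCat.{u} i.base)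
  have : PreservesFiniteLimits (Coh.pushAb i) := by
    have h : PreservesLimitsOfSize.{u, u} (Coh.pushAb i) :=
      (TopCat.Sheaf.pullbackPushforwardAdjunction AddCommGrpCat.{u}
        i.base).rightAdjoint_preservesLimits
    exact PreservesLimitsOfSize.preservesFiniteLimits.{u, u} _
  have h1 : IsIso (RDer.edgeIn (Coh.pushAb i) (Coh.pushAb f) j (Coh.toAb G)) :=
    Groth.Agent.Lib.helper27.EdgeIn.isIso_edgeIn (Coh.pushAb i) (Coh.pushAb f) j (Coh.toAb G)
      (fun n => Groth.Agent.S0028.result i G (n + 1) (Nat.succ_pos n))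
  have h2 : IsZero ((Coh.RpushAb (i ≫ f) j).obj (Coh.toAb G)) :=
    Groth.Agent.S0028.result (i ≫ f) G j hj
  have h3 : IsZero (((Coh.pushAb i ⋙ Coh.pushAb f).rightDerived j).obj (Coh.toAb G)) :=
    h2.of_iso ((RDer.rightDerivedIso
      (Iso.refl _ : Coh.pushAb i ⋙ Coh.pushAb f ≅ Coh.pushAb (i ≫ f)) j).app (Coh.toAb G))
  have h4 : IsZero ((Coh.RpushAb f j).obj ((Coh.pushAb i).obj (Coh.toAb G))) :=
    h3.of_iso (asIso (RDer.edgeIn (Coh.pushAb i) (Coh.pushAb f) j (Coh.toAb G)))
  obtain ⟨e⟩ := Groth.Agent.S11319.result f ((Scheme.Modules.pushforward i).obj G) j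
  have h5 : IsZero (Coh.toAb ((Coh.Rpush f j).obj ((Scheme.Modules.pushforward i).obj G))) :=
    h4.of_iso e
  rw [IsZero.iff_id_eq_zero] at h5 ⊢
  apply (SheafOfModules.toSheaf.{u} Y.ringCatSheaf).map_injective
  exact ((SheafOfModules.toSheaf.{u} Y.ringCatSheaf).map_id _).trans (h5.trans (by rfl))

end Groth.Agent.S11165
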