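import Groth.Statements.S11167
import Mathlib
set_option linter.style.haveILetI false

set_option autoImplicit false
universe u
open CategoryTheory CategoryTheory.Limits AlgebraicGeometry
open Coherent

namespace Groth.Agent.S11167

variable {X : Scheme.{u}}

theorem app_injective_of_mono {G H : X.Modules} (ι : G ⟶ H) [Mono ι] (U : X.Opens) :
    Function.Injective (ι.app U) := by
  have h1 : Mono ((Scheme.Modules.toPresheaf X).map ι) := inferInstance
  have h2 : Mono (((Scheme.Modules.toPresheaf X).map ι).app (Opposite.op U)) := inferInstance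
  exact (AddCommGrpCat.mono_iff_injective _).mp h2

theorem germ_smul'' (F : X.Modules) (U : X.Opens) (x : X) (hx : x ∈ U) (r : Γ(X, U)) (m : Γ(F, U)) :
    (F.presheaf.germ U x hx).hom (r • m) =
      (X.presheaf.germ U x hx).hom r • (F.presheaf.germ U x hx).hom m :=
  PresheafOfModules.germ_smul (R := X.presheaf)
    (show PresheafOfModules (X.presheaf ⋙ forget₂ CommRingCat RingCat) from F.val) x U hx r m

/-- the map `G(U) → O(U)` induced by `ι`. -/
noncomputable def phi {G : X.Modules} (ι : G ⟶ Coh.structureModule X) (U : X.Opens) :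
    Γ(G, U) →+ Γ(X, U) := (ι.app U).hom

variable {G : X.Modules} (ι : G ⟶ Coh.structureModule X)

theorem phi_smul (U : X.Opens) (r : Γ(X, U)) (s : Γ(G, U)) :
    phi ι U (r • s) = r * phi ι U s :=
  Scheme.Modules.Hom.app_smul ι r s

theorem phi_res {U V : X.Opens} (i : V ⟶ U) (s : Γ(G, U)) :
    phi ι V (G.presheaf.map i.op s) = X.presheaf.map i.op (phi ι U s) := by
  have := ι.mapPresheaf.naturality i.op
  exact congr($this s)

theorem phi_injective [Mono ι] (U : X.Opens) : Function.Injective (phi ι U) :=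
  app_injective_of_mono ι U

/-- the ideal of functions on `U` which lie in the image of `G` near `η`. -/
def locIdeal (U : X.Opens) (η : X) (hηU : η ∈ U) : Ideal Γ(X, U) where
  carrier := {a | ∃ (V : X.Opens) (hV : V ≤ U) (τ : Γ(G, V)), η ∈ V ∧
    phi ι V τ = X.presheaf.map (homOfLE hV).op a}
  add_mem' := by
    rintro a b ⟨V, hV, τ, hη, h⟩ ⟨V', hV', τ', hη', h'⟩
    refine ⟨V ⊓ V', inf_le_left.trans hV,
      G.presheaf.map (homOfLE (inf_le_left : V ⊓ V' ≤ V)).op τ +
        G.presheaf.map (homOfLE (inf_le_right : V ⊓ V' ≤ V')).op τ', ⟨hη, hη'⟩, ?_⟩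
    rw [map_add, phi_res, phi_res, h, h', map_add, ← ConcreteCategory.comp_apply,
      ← ConcreteCategory.comp_apply, ← Functor.map_comp, ← Functor.map_comp]
    rfl
  zero_mem' := ⟨U, le_rfl, 0, hηU, by rw [map_zero, map_zero]⟩
  smul_mem' := by
    rintro c a ⟨V, hV, τ, hη, h⟩
    refine ⟨V, hV, X.presheaf.map (homOfLE hV).op c • τ, hη, ?_⟩
    rw [phi_smul, h, smul_eq_mul, map_mul]


/-- a section of `G` over some open. -/
abbrev Sec (G : X.Modules) : Type u := Σ U : X.Opens, (Γ(G, U) : Type u)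

/-- the germs at `x` of the sections in `L` defined near `x` generate the stalk. -/
def GenAt (G : X.Modules) (L : Set (Sec G)) (x : X) : Prop :=
  Submodule.span (X.presheaf.stalk x)
    {t : G.presheaf.stalk x | ∃ p ∈ L, ∃ h : x ∈ p.1, t = (G.presheaf.germ p.1 x h).hom p.2} = ⊤

theorem GenAt.mono {L L' : Set (Sec G)} (h : L ⊆ L') {x : X} (hx : GenAt G L x) : GenAt G L' x := by
  unfold GenAt at hx ⊢
  rw [eq_top_iff, ← hx]
  apply Submodule.span_mono
  rintro t ⟨p, hp, hxp, rfl⟩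
  exact ⟨p, h hp, hxp, rfl⟩

theorem local_claim [Mono ι] (U : X.Opens) (hU : IsAffineOpen U) [IsNoetherianRing Γ(X, U)]
    (η : X) (hηU : η ∈ U) :
    ∃ (W : X.Opens) (L : Set (Sec G)), η ∈ W ∧ L.Finite ∧ ∀ y ∈ W, η ⤳ y → GenAt G L y := by
  classical
  obtain ⟨r, a, ha⟩ := (Submodule.fg_iff_exists_fin_generating_family).mp
    ((isNoetherianRing_iff_ideal_fg Γ(X, U)).mp inferInstance (locIdeal ι U η hηU))
  have hmem : ∀ l, a l ∈ locIdeal ι U η hηU := fun l => ha ▸ Submodule.subset_span ⟨l, rfl⟩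
  choose V hV τ hηV hτ using hmem
  let W : X.Opens := U ⊓ ⨅ l, V l
  have hWV : ∀ l, W ≤ V l := fun l => inf_le_right.trans (iInf_le _ l)
  have hWU : W ≤ U := inf_le_left
  have hηW : η ∈ W := by
    refine ⟨hηU, ?_⟩
    change η ∈ ((⨅ l, V l : X.Opens) : Set X)
    rw [TopologicalSpace.Opens.coe_iInf]
    exact Set.mem_iInter.mpr hηV
  let σ : Fin r → Γ(G, W) := fun l => G.presheaf.map (homOfLE (hWV l)).op (τ l)
  refine ⟨W, Set.range fun l => (⟨W, σ l⟩ : Sec G), hηW, Set.finite_range _, ?_⟩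
  intro y hyW hηy
  unfold GenAt
  rw [eq_top_iff]
  intro t _
  obtain ⟨V', hyV', τ', rfl⟩ := G.presheaf.exists_germ_eq t
  obtain ⟨g, hgV, hyg⟩ := hU.exists_basicOpen_le (V := V' ⊓ W) ⟨y, ⟨hyV', hyW⟩⟩ (hWU hyW)
  have hyg : y ∈ X.basicOpen g := hyg
  have hgV' : X.basicOpen g ≤ V' := hgV.trans inf_le_left
  have hgW : X.basicOpen g ≤ W := hgV.trans inf_le_right
  have hηg : η ∈ X.basicOpen g := hηy.mem_open (X.basicOpen g).isOpen hyg
  let τ₁ : Γ(G, X.basicOpen g) := G.presheaf.map (homOfLE hgV').op τ'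
  have hgerm : (G.presheaf.germ V' y hyV').hom τ' = (G.presheaf.germ (X.basicOpen g) y hyg).hom τ₁ :=
    (TopCat.Presheaf.germ_res_apply G.presheaf (homOfLE hgV') y hyg τ').symm
  rw [hgerm]
  haveI := hU.isLocalization_basicOpen g
  obtain ⟨⟨b, ⟨_, k, rfl⟩⟩, hb⟩ := IsLocalization.surj (Submonoid.powers g) (phi ι _ τ₁)
  dsimp only at hb
  let ρ : Γ(X, U) ⟶ Γ(X, X.basicOpen g) := X.presheaf.map (homOfLE (X.basicOpen_le g)).op
  change phi ι (X.basicOpen g) τ₁ * ρ.hom (g ^ k) = ρ.hom b at hb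
  have hb' : phi ι (X.basicOpen g) (ρ.hom (g ^ k) • τ₁) = ρ.hom b := by
    rw [phi_smul, mul_comm, hb]
  have hbmem : b ∈ locIdeal ι U η hηU := ⟨X.basicOpen g, X.basicOpen_le g, _, hηg, hb'⟩
  rw [← ha] at hbmem
  obtain ⟨c, hc⟩ := (Submodule.mem_span_range_iff_exists_fun _).mp hbmem
  have hal : ∀ l, ρ.hom (a l) =
      phi ι (X.basicOpen g) (G.presheaf.map (homOfLE hgW).op (σ l)) := by
    intro l
    rw [phi_res, phi_res, hτ l, ← ConcreteCategory.comp_apply, ← ConcreteCategory.comp_apply,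
      ← Functor.map_comp, ← Functor.map_comp]
    rfl
  have hkey : ρ.hom (g ^ k) • τ₁ =
      ∑ l, ρ.hom (c l) • G.presheaf.map (homOfLE hgW).op (σ l) := by
    apply phi_injective ι
    rw [hb', ← hc, map_sum, map_sum]
    refine Finset.sum_congr rfl fun l _ => ?_
    rw [phi_smul, ← hal l, smul_eq_mul, map_mul]
  have hunit : IsUnit ((X.presheaf.germ (X.basicOpen g) y hyg).hom (ρ.hom (g ^ k))) := by
    rw [map_pow, map_pow]
    refine IsUnit.pow _ ?_
    have h1 : (X.presheaf.germ (X.basicOpen g) y hyg).hom (ρ.hom g) =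
        (X.presheaf.germ U y (hWU hyW)).hom g :=
      TopCat.Presheaf.germ_res_apply X.presheaf (homOfLE (X.basicOpen_le g)) y hyg g
    rw [h1]
    exact (X.mem_basicOpen g y (hWU hyW)).mp hyg
  have hg2 := congrArg (G.presheaf.germ (X.basicOpen g) y hyg).hom hkey
  rw [germ_smul'', map_sum] at hg2
  obtain ⟨u, hu⟩ := hunit
  have hfin : (G.presheaf.germ (X.basicOpen g) y hyg).hom τ₁ =
      (↑u⁻¹ : X.presheaf.stalk y) • ∑ l, (G.presheaf.germ (X.basicOpen g) y hyg).hom
        (ρ.hom (c l) • G.presheaf.map (homOfLE hgW).op (σ l)) := by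
    rw [← hg2, ← hu, smul_smul, Units.inv_mul, one_smul]
  rw [hfin]
  refine Submodule.smul_mem _ _ (Submodule.sum_mem _ fun l _ => ?_)
  rw [germ_smul'']
  refine Submodule.smul_mem _ _ (Submodule.subset_span ?_)
  refine ⟨⟨W, σ l⟩, ⟨l, rfl⟩, hyW, ?_⟩
  exact TopCat.Presheaf.germ_res_apply G.presheaf (homOfLE hgW) y hyg (σ l)


open TopologicalSpace in
theorem exists_finite_genAt [IsNoetherian X] [Mono ι] (Z : Closeds X) :
    ∃ L : Set (Sec G), L.Finite ∧ ∀ x ∈ Z, GenAt G L x := by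
  induction Z using (wellFounded_lt (α := Closeds X)).induction with
  | _ Z ih =>
  by_cases hirr : IsIrreducible (Z : Set X)
  · obtain ⟨η, hη⟩ := QuasiSober.sober hirr Z.isClosed
    have hηZ : η ∈ Z := hη.mem
    obtain ⟨_, ⟨U, hU, rfl⟩, hηU, -⟩ :=
      (X.isBasis_affineOpens).exists_subset_of_mem_open (Set.mem_univ η) isOpen_univ
    have hηU : η ∈ U := hηU
    haveI : IsNoetherianRing Γ(X, U) := IsLocallyNoetherian.component_noetherian ⟨U, hU⟩
    obtain ⟨W, L₁, hηW, hL₁, hgen⟩ := local_claim ι U hU η hηU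
    let Z' : Closeds X := ⟨(Z : Set X) ∩ (W : Set X)ᶜ, Z.isClosed.inter W.isOpen.isClosed_compl⟩
    have hZ' : Z' < Z := by
      refine lt_of_le_of_ne (fun x hx => hx.1) ?_
      intro h
      have : η ∈ Z' := h ▸ hηZ
      exact this.2 hηW
    obtain ⟨L₂, hL₂, hgen₂⟩ := ih Z' hZ'
    refine ⟨L₁ ∪ L₂, hL₁.union hL₂, ?_⟩
    intro x hx
    by_cases hxW : x ∈ W
    · refine (hgen x hxW ?_).mono Set.subset_union_left
      rw [specializes_iff_mem_closure, hη.def]
      exact hx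
    · exact (hgen₂ x ⟨hx, hxW⟩).mono Set.subset_union_right
  · by_cases hne : (Z : Set X).Nonempty
    · have hpre : ¬ IsPreirreducible (Z : Set X) := fun h => hirr ⟨hne, h⟩
      rw [isPreirreducible_iff_isClosed_union_isClosed] at hpre
      push Not at hpre
      obtain ⟨z₁, z₂, hz₁, hz₂, hsub, hn₁, hn₂⟩ := hpre
      let Z₁ : Closeds X := ⟨(Z : Set X) ∩ z₁, Z.isClosed.inter hz₁⟩
      let Z₂ : Closeds X := ⟨(Z : Set X) ∩ z₂, Z.isClosed.inter hz₂⟩
      have hZ₁ : Z₁ < Z := by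
        refine lt_of_le_of_ne (fun x hx => hx.1) ?_
        intro h
        exact hn₁ fun x hx => ((h ▸ hx : x ∈ Z₁)).2
      have hZ₂ : Z₂ < Z := by
        refine lt_of_le_of_ne (fun x hx => hx.1) ?_
        intro h
        exact hn₂ fun x hx => ((h ▸ hx : x ∈ Z₂)).2
      obtain ⟨L₁, hL₁, hgen₁⟩ := ih Z₁ hZ₁
      obtain ⟨L₂, hL₂, hgen₂⟩ := ih Z₂ hZ₂
      refine ⟨L₁ ∪ L₂, hL₁.union hL₂, ?_⟩
      intro x hx
      rcases hsub hx with h | h
      · exact (hgen₁ x ⟨hx, h⟩).mono Set.subset_union_left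
      · exact (hgen₂ x ⟨hx, h⟩).mono Set.subset_union_right
    · refine ⟨∅, Set.finite_empty, fun x hx => (hne ⟨x, hx⟩).elim⟩


/-- Let X be a Noetherian scheme and G ⟶ O_X a sub-O_X-module of the structure sheaf (a sheaf of ideals,
not necessarily quasi-coherent). Then there are finitely many opens U_i of X and finitely many
sections s_{ij} ∈ G(U_i) such that for every point x of X the germs at x of those s_{ij} with x ∈
U_i generate the stalk G_x as an O_{X,x}-module. -/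
theorem result {X : Scheme.{u}} [IsNoetherian X]
    (G : X.Modules) (ι : G ⟶ Coh.structureModule X) [Mono ι] :
    ∃ (m : ℕ) (U : Fin m → X.Opens) (k : Fin m → ℕ)
      (s : (i : Fin m) → Fin (k i) → (G.presheaf.obj (Opposite.op (U i)) : Type u)),
      ∀ x : X, Submodule.span (X.presheaf.stalk x)
          (Set.range (fun p : (Σ i : {i : Fin m // x ∈ U i}, Fin (k i.1)) =>
            (G.presheaf.germ (U p.1.1) x p.1.2) (s p.1.1 p.2))) = ⊤ := by
  obtain ⟨L, hL, hgen⟩ := exists_finite_genAt ι (⊤ : TopologicalSpace.Closeds X)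
  obtain ⟨m, f, -, hf⟩ := hL.fin_param
  refine ⟨m, fun i => (f i).1, fun _ => 1, fun i _ => (f i).2, ?_⟩
  intro x
  have hx := hgen x trivial
  unfold GenAt at hx
  rw [eq_top_iff, ← hx]
  apply Submodule.span_mono
  rintro t ⟨p, hp, hxp, rfl⟩
  rw [← hf] at hp
  obtain ⟨i, rfl⟩ := hp
  exact ⟨⟨⟨i, hxp⟩, 0⟩, rfl⟩

end Groth.Agent.S11167
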