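import Groth.Statements.S11171
import Mathlib
import Groth.Agent.Lib.Helper23.DualChar1
import Groth.Agent.Lib.Helper23.DualChar2
import Groth.Agent.Lib.Helper23.DualChar3
import Groth.Agent.Lib.Helper23.FBC14
import Groth.Agent.Lib.Helper23.DShift
import Groth.Agent.S0542
-- import your own Groth.Agent.* helpers here

set_option autoImplicit false
universe u
open CategoryTheory
attribute [local instance] HasDerivedCategory.standard
open Dual

namespace Groth.Agent.S11171

/-- Over a Noetherian local ring A with residue field k, let R be an object of D(A) whose cohomology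
modules are finite and vanish in all sufficiently negative degrees. If there is an integer d such
that the A-module of maps k → R[i] in D(A) is zero for every i ≠ d and is A-linearly isomorphic to k
for i = d, then R is a dualizing complex for A (finite injective dimension, finite cohomology, and A
→ End(R) bijective with no self-maps of nonzero degree). -/
theorem result (A : Type u) [CommRing A] [IsLocalRing A] [IsNoetherianRing A] (R : Dual.D A) (hfin : ∀ i : ℤ, Module.Finite A (Dual.HD A R i)) (hbdd : ∃ a : ℤ, ∀ i : ℤ, i < a → Subsingleton (Dual.HD A R i)) (d : ℤ) (hvan : ∀ i : ℤ, i ≠ d → Subsingleton (Dual.inD A (IsLocalRing.ResidueField A) ⟶ R⟦i⟧)) (hd : Nonempty ((Dual.inD A (IsLocalRing.ResidueField A) ⟶ R⟦d⟧) ≃ₗ[A] IsLocalRing.ResidueField A)) : Dual.IsDualizing A R := by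
  classical
  let B := AdicCompletion (IsLocalRing.maximalIdeal A) A
  haveI : IsNoetherianRing B :=
    Groth.Agent.S0542.result A (IsLocalRing.maximalIdeal A)
      (IsLocalRing.maximalIdeal A).fg_of_isNoetherianRing
  haveI : Module.FaithfullyFlat A B := Module.FaithfullyFlat.of_flat_of_isLocalHom
  have hm : (IsLocalRing.maximalIdeal A).map (algebraMap A B) = IsLocalRing.maximalIdeal B :=
    (AdicCompletion.maximalIdeal_eq_map (R := A)).symm
  obtain ⟨ω, hω⟩ := Groth.Agent.Lib.helper23.DualChar.exists_dualizing_of_complete B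
  obtain ⟨a, ha⟩ := hbdd
  haveI : R.IsGE a := (DerivedCategory.isGE_iff R a).2 (fun i hi => by
    haveI := ha i hi
    exact ModuleCat.isZero_of_subsingleton _)
  letI : Limits.PreservesFiniteLimits (ModuleCat.extendScalars.{u, u, u} (algebraMap A B)) :=
    Groth.Agent.Lib.helper23.FlatBC.preservesFiniteLimits_extendScalars_algebraMap
  let R' : Dual.D B := (Groth.Agent.Lib.helper23.FBC.EE A B).obj R
  haveI : R'.IsGE a := (DerivedCategory.isGE_iff R' a).2 (fun i hi =>
    Groth.Agent.Lib.helper23.FlatBC.isZero_homology_extD (algebraMap A B) R i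
      ((DerivedCategory.isGE_iff R a).1 inferInstance i hi))
  have hfin' : ∀ i : ℤ, Module.Finite B (Dual.HD B R' i) := fun i =>
    Groth.Agent.Lib.helper23.FlatBC.finite_homology_extD (algebraMap A B) R i (hfin i)
  have hv' : ∀ i : ℤ, i ≠ d →
      Subsingleton (Dual.inD B (B ⧸ IsLocalRing.maximalIdeal B) ⟶ R'⟦i⟧) := fun i hi =>
    Groth.Agent.Lib.helper23.DualChar.subsingleton_ext_residue_EE hm R a i (hvan i hi)
  have hcyc : Groth.Agent.Lib.helper23.GorInv.IsCyc A
      (Dual.inD A (A ⧸ IsLocalRing.maximalIdeal A) ⟶ R⟦d⟧) := by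
    obtain ⟨e⟩ := hd
    exact (Groth.Agent.Lib.helper23.GorInv.isCyc_quotient (IsLocalRing.maximalIdeal A)
      (Ideal.IsMaximal.ne_top inferInstance)).of_linearEquiv e.symm
  have hcyc' := Groth.Agent.Lib.helper23.DualChar.isCyc_ext_residue_EE hm R a d hcyc
  obtain ⟨n, ⟨e⟩⟩ := Groth.Agent.Lib.helper23.DualChar.exists_iso_shift_of_ext_residue B ω hω R'
    hfin' a d hv' hcyc'
  have hR' : Dual.IsDualizing B R' :=
    Groth.Agent.Lib.helper23.FBC.isDualizing_of_iso e.symm
      (Groth.Agent.Lib.helper23.FBC.isDualizing_shift ω n hω)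
  haveI : ∀ l, Module.Flat A (Groth.Agent.Lib.helper23.FBC.BfOne B l) :=
    fun _ => inferInstanceAs (Module.Flat A B)
  refine Groth.Agent.Lib.helper23.FBC.isDualizing_of_finite_family
    (Groth.Agent.Lib.helper23.FBC.BfOne B) (Groth.Agent.Lib.helper23.FBC.detects_one A B)
    (Groth.Agent.Lib.helper23.FBC.detects_one A B)
    (fun N _ _ hN => ?_) R (fun _ => hR')
  exact Groth.Agent.Lib.helper23.ExtSc.finite_of_faithfullyFlat N (hN ())

end Groth.Agent.S11171
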