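import Groth.Statements.S11180
import Mathlib
import Groth.Agent.S0543

set_option autoImplicit false
universe u
open scoped TensorProduct
open CAlg

namespace Groth.Agent.S11180


theorem main (A : Type u) [CommRing A] [IsNoetherianRing A] (M : Type u) [AddCommGroup M]
    [Module A M] (m : M)
    (h : ∀ (B : Type u) [CommRing B] [Algebra A B] [IsNoetherianRing B] [IsLocalRing B],
      IsAdicComplete (IsLocalRing.maximalIdeal B) B → Module.Flat A B → (1 : B) ⊗ₜ[A] m = 0) :
    m = 0 := by
  by_contra hm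
  let f : A →ₗ[A] M := LinearMap.toSpanSingleton A M m
  let I : Ideal A := LinearMap.ker f
  have hI : I ≠ ⊤ := by
    intro hI
    have : (1 : A) ∈ I := hI ▸ Submodule.mem_top
    have : f 1 = 0 := this
    simp [f] at this
    exact hm this
  obtain ⟨𝔪, h𝔪, hI𝔪⟩ := Ideal.exists_le_maximal I hI
  let A' := Localization.AtPrime 𝔪
  let B := AdicCompletion (IsLocalRing.maximalIdeal A') A'
  have hBN : IsNoetherianRing B := Groth.Agent.S0543.result A' _
  have hflat' : Module.Flat A' B := inferInstance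
  have hflat : Module.Flat A B := Module.Flat.trans A A' B
  have h0 := h B inferInstance hflat
  -- injective map A/I → M
  let ι : (A ⧸ I) →ₗ[A] M := Submodule.liftQ I f le_rfl
  have hι : Function.Injective ι := by
    rw [← LinearMap.ker_eq_bot]
    exact Submodule.ker_liftQ_eq_bot _ _ _ le_rfl
  have hinj : Function.Injective (ι.lTensor B) :=
    Module.Flat.lTensor_preserves_injective_linearMap ι hι
  have h1 : (ι.lTensor B) ((1 : B) ⊗ₜ[A] (Ideal.Quotient.mk I 1)) = 0 := by
    rw [LinearMap.lTensor_tmul]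
    have : ι (Ideal.Quotient.mk I 1) = m := by
      show f 1 = m
      simp [f]
    rw [this, h0]
  have h2 : (1 : B) ⊗ₜ[A] (Ideal.Quotient.mk I (1 : A)) = 0 := hinj (by rw [h1, map_zero])
  -- map to the residue field of B
  let 𝔫 := IsLocalRing.maximalIdeal B
  have hI𝔫 : ∀ a ∈ I, algebraMap A B a ∈ 𝔫 := by
    intro a ha
    have ha' : algebraMap A A' a ∈ IsLocalRing.maximalIdeal A' :=
      (IsLocalization.AtPrime.to_map_mem_maximal_iff A' 𝔪 a).mpr (hI𝔪 ha)
    rw [IsScalarTower.algebraMap_apply A A' B]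
    exact map_nonunit (algebraMap A' B) _ ha'
  let g : (A ⧸ I) →ₐ[A] (B ⧸ 𝔫) := Ideal.Quotient.liftₐ I (Algebra.ofId A (B ⧸ 𝔫)) (by
    intro a ha
    show algebraMap A (B ⧸ 𝔫) a = 0
    rw [IsScalarTower.algebraMap_apply A B (B ⧸ 𝔫)]
    exact Ideal.Quotient.eq_zero_iff_mem.mpr (hI𝔫 a ha))
  let F : B ⊗[A] (A ⧸ I) →ₐ[A] (B ⧸ 𝔫) :=
    Algebra.TensorProduct.lift (Ideal.Quotient.mkₐ A 𝔫) g (fun _ _ => Commute.all _ _)
  have hF : F ((1 : B) ⊗ₜ[A] (Ideal.Quotient.mk I (1 : A))) = 1 := by
    simp [F]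
  rw [h2, map_zero] at hF
  have : Nontrivial (B ⧸ 𝔫) := Ideal.Quotient.nontrivial_iff.mpr (IsLocalRing.maximalIdeal.isMaximal B).ne_top
  exact zero_ne_one hF



/-- Let A be a Noetherian ring and M an A-module. If an element m of M is such that 1 ⊗ m = 0 in B ⊗_A M
for every A-algebra B which is a complete Noetherian local ring, flat over A, then m = 0.
(Equivalently the natural map from M to the limit of the modules B ⊗_A M over all such B is
injective.) -/
theorem result (A : Type u) [CommRing A] [IsNoetherianRing A] (M : Type u) [AddCommGroup M] [Module A M] (m : M) (h : ∀ (B : Type u) [CommRing B] [Algebra A B] [IsNoetherianRing B] [IsLocalRing B], IsAdicComplete (IsLocalRing.maximalIdeal B) B → Module.Flat A B → (1 : B) ⊗ₜ[A] m = 0) : m = 0 := by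
  exact main A M m h

end Groth.Agent.S11180
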