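import Groth.Statements.S11217
import Mathlib

set_option autoImplicit false
universe u
open CategoryTheory MonoidalCategory CartesianMonoidalCategory MonObj GrpObj AlgebraicGeometry
open scoped TensorProduct
open AGF

namespace Groth.Agent.S11217

open MvPolynomial in
theorem delta_eq (k : Type u) [Field k] (g3 g4 g5 g6 f : MvPolynomial (Fin 7) k) :
    MvPolynomial.mkDerivation k (![0, 0, 0, g3, g4, g5, g6] : Fin 7 → MvPolynomial (Fin 7) k) f
      = g3 * pderiv 3 f + g4 * pderiv 4 f + g5 * pderiv 5 f + g6 * pderiv 6 f := by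
  have h : MvPolynomial.mkDerivation k
      (![0, 0, 0, g3, g4, g5, g6] : Fin 7 → MvPolynomial (Fin 7) k)
      = g3 • pderiv 3 + g4 • pderiv 4 + g5 • pderiv 5 + g6 • pderiv 6 := by
    apply MvPolynomial.derivation_ext
    intro i
    rw [MvPolynomial.mkDerivation_X]
    fin_cases i <;>
      simp [Derivation.coe_add, Derivation.coe_smul, Pi.add_apply, Pi.smul_apply,
        MvPolynomial.pderiv_X, smul_eq_mul]
  rw [h]
  rfl

open MvPolynomial in
theorem term_miss {k : Type u} [Field k] (gam E : Fin 7 →₀ ℕ) (i : Fin 7)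
    (f : MvPolynomial (Fin 7) k) (j : Fin 7) (hj : E j < gam j) :
    coeff E (monomial gam (1:k) * pderiv i f) = 0 := by
  rw [coeff_monomial_mul', if_neg]
  intro h
  exact absurd (h j) (not_le.mpr hj)

open MvPolynomial in
theorem term_hit {k : Type u} [Field k] (gam d' d₀ : Fin 7 →₀ ℕ) (i : Fin 7)
    (f : MvPolynomial (Fin 7) k) (hd : d₀ = d' + Finsupp.single i 1) :
    coeff (d' + gam) (monomial gam (1:k) * pderiv i f) = coeff d₀ f * ((d' i : k) + 1) := by
  rw [add_comm d' gam, coeff_monomial_mul, _root_.one_mul, coeff_pderiv, ← hd]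

theorem tsub_single_spec (d₀ : Fin 7 →₀ ℕ) (i : Fin 7) (h : 1 ≤ d₀ i) :
    d₀ = (d₀ - Finsupp.single i 1) + Finsupp.single i 1 ∧
      ∀ j, j ≠ i → (d₀ - Finsupp.single i 1 : Fin 7 →₀ ℕ) j = d₀ j := by
  constructor
  · ext j
    by_cases hj : j = i
    · subst hj
      rw [Finsupp.add_apply, Finsupp.tsub_apply, Finsupp.single_eq_same]
      omega
    · rw [Finsupp.add_apply, Finsupp.tsub_apply, Finsupp.single_eq_of_ne hj]
      omega
  · intro j hj
    rw [Finsupp.tsub_apply, Finsupp.single_eq_of_ne hj]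
    omega


theorem ev_single_ne (a b : Fin 7) (c : ℕ) (h : b ≠ a) : (Finsupp.single a c) b = 0 :=
  Finsupp.single_eq_of_ne h



/-- Let k be a field of characteristic zero and m ≥ 2; in the polynomial ring k[x, y, z, s, t, u, v]
(variables 0, …, 6) let δ be the k-derivation with δ(x) = δ(y) = δ(z) = 0, δ(s) = x^(m+1), δ(t) =
y^(m+1), δ(u) = z^(m+1), δ(v) = (xyz)^m, and grade by total degree in s, t, u, v. If f is
homogeneous of degree n ≥ 1 for this grading and δ(f) = 0, then every coefficient of f, as a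
polynomial in s, t, u, v over k[x, y, z], lies in the ideal (x, y, z): every monomial of f has
positive degree in x, y, z. (The published statement allows n = 0, where the constant 1 is a
counterexample; this row assumes n ≥ 1. The published definition of the derivation gives δ(v) =
(xyz)^(m+1), for which the assertion fails: v − (yz)^(m+1)·s is killed by δ and has the monomial v
with coefficient 1; this row uses δ(v) = (xyz)^m, the exponent of the published action formula and
of the published examples of invariants.) -/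
theorem result (k : Type u) [Field k] [CharZero k] (m : ℕ) (hm : 2 ≤ m) (n : ℕ) (hn : 1 ≤ n)
    (f : MvPolynomial (Fin 7) k)
    (hf : MvPolynomial.IsWeightedHomogeneous (![0, 0, 0, 1, 1, 1, 1] : Fin 7 → ℕ) f n)
    (hδ : MvPolynomial.mkDerivation k
      (![0, 0, 0, MvPolynomial.X 0 ^ (m + 1), MvPolynomial.X 1 ^ (m + 1), MvPolynomial.X 2 ^ (m + 1),
        (MvPolynomial.X 0 * MvPolynomial.X 1 * MvPolynomial.X 2) ^ m] : Fin 7 → MvPolynomial (Fin 7) k) f = 0) :
    ∀ d ∈ f.support, 0 < d 0 + d 1 + d 2 := by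
  intro d₀ hd₀
  by_contra hneg
  have h012 : d₀ 0 = 0 ∧ d₀ 1 = 0 ∧ d₀ 2 = 0 := by omega
  obtain ⟨h0, h1, h2⟩ := h012
  have hc : MvPolynomial.coeff d₀ f ≠ 0 := MvPolynomial.mem_support_iff.mp hd₀
  have hw : d₀ 3 + d₀ 4 + d₀ 5 + d₀ 6 = n := by
    have := hf hc
    rw [Finsupp.weight_apply, Finsupp.sum_fintype d₀ (fun i c => c • (![0, 0, 0, 1, 1, 1, 1] : Fin 7 → ℕ) i) (fun i => zero_smul ℕ _),
      Fin.sum_univ_seven] at this
    simpa using this
  rw [delta_eq] at hδ
  have e0 : (MvPolynomial.X 0 : MvPolynomial (Fin 7) k) ^ (m + 1)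
      = MvPolynomial.monomial (Finsupp.single 0 (m + 1)) 1 := MvPolynomial.X_pow_eq_monomial
  have e1 : (MvPolynomial.X 1 : MvPolynomial (Fin 7) k) ^ (m + 1)
      = MvPolynomial.monomial (Finsupp.single 1 (m + 1)) 1 := MvPolynomial.X_pow_eq_monomial
  have e2 : (MvPolynomial.X 2 : MvPolynomial (Fin 7) k) ^ (m + 1)
      = MvPolynomial.monomial (Finsupp.single 2 (m + 1)) 1 := MvPolynomial.X_pow_eq_monomial
  have e6 : ((MvPolynomial.X 0 : MvPolynomial (Fin 7) k) * MvPolynomial.X 1 * MvPolynomial.X 2) ^ m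
      = MvPolynomial.monomial
          (Finsupp.single 0 m + Finsupp.single 1 m + Finsupp.single 2 m) 1 := by
    rw [mul_pow, mul_pow, MvPolynomial.X_pow_eq_monomial, MvPolynomial.X_pow_eq_monomial,
      MvPolynomial.X_pow_eq_monomial, MvPolynomial.monomial_mul, MvPolynomial.monomial_mul,
      _root_.one_mul, _root_.one_mul]
  rw [e0, e1, e2, e6] at hδ
  have hcoef : ∀ E : Fin 7 →₀ ℕ,
      MvPolynomial.coeff E (MvPolynomial.monomial (Finsupp.single 0 (m + 1)) (1:k)
          * MvPolynomial.pderiv 3 f)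
      + MvPolynomial.coeff E (MvPolynomial.monomial (Finsupp.single 1 (m + 1)) (1:k)
          * MvPolynomial.pderiv 4 f)
      + MvPolynomial.coeff E (MvPolynomial.monomial (Finsupp.single 2 (m + 1)) (1:k)
          * MvPolynomial.pderiv 5 f)
      + MvPolynomial.coeff E (MvPolynomial.monomial
          (Finsupp.single 0 m + Finsupp.single 1 m + Finsupp.single 2 m) (1:k)
          * MvPolynomial.pderiv 6 f) = 0 := by
    intro E
    have := congrArg (MvPolynomial.coeff E) hδ
    rwa [MvPolynomial.coeff_add, MvPolynomial.coeff_add, MvPolynomial.coeff_add,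
      MvPolynomial.coeff_zero] at this
  have hpos : 1 ≤ d₀ 3 ∨ 1 ≤ d₀ 4 ∨ 1 ≤ d₀ 5 ∨ 1 ≤ d₀ 6 := by omega
  rcases hpos with h | h | h | h
  · obtain ⟨hdd, hoth⟩ := tsub_single_spec d₀ 3 h
    obtain ⟨d', hd'⟩ : ∃ d', d' = d₀ - Finsupp.single 3 1 := ⟨_, rfl⟩
    rw [← hd'] at hdd hoth
    have hd'0 : d' 0 = 0 := by rw [hoth 0 (by decide)]; exact h0
    have hd'1 : d' 1 = 0 := by rw [hoth 1 (by decide)]; exact h1
    have hd'2 : d' 2 = 0 := by rw [hoth 2 (by decide)]; exact h2
    have := hcoef (d' + Finsupp.single 0 (m + 1))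
    rw [term_hit (Finsupp.single 0 (m + 1)) d' d₀ 3 f hdd,
      term_miss (Finsupp.single 1 (m + 1)) (d' + Finsupp.single 0 (m + 1)) 4 f 1
        (by simp only [Finsupp.add_apply, Finsupp.single_eq_same, hd'0, hd'1, hd'2, ev_single_ne 0 1 m (by decide), ev_single_ne 0 2 m (by decide), ev_single_ne 1 0 m (by decide), ev_single_ne 1 2 m (by decide), ev_single_ne 2 0 m (by decide), ev_single_ne 2 1 m (by decide), ev_single_ne 0 1 (m + 1) (by decide), ev_single_ne 0 2 (m + 1) (by decide), ev_single_ne 1 0 (m + 1) (by decide), ev_single_ne 1 2 (m + 1) (by decide), ev_single_ne 2 0 (m + 1) (by decide), ev_single_ne 2 1 (m + 1) (by decide)]; omega),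
      term_miss (Finsupp.single 2 (m + 1)) (d' + Finsupp.single 0 (m + 1)) 5 f 2
        (by simp only [Finsupp.add_apply, Finsupp.single_eq_same, hd'0, hd'1, hd'2, ev_single_ne 0 1 m (by decide), ev_single_ne 0 2 m (by decide), ev_single_ne 1 0 m (by decide), ev_single_ne 1 2 m (by decide), ev_single_ne 2 0 m (by decide), ev_single_ne 2 1 m (by decide), ev_single_ne 0 1 (m + 1) (by decide), ev_single_ne 0 2 (m + 1) (by decide), ev_single_ne 1 0 (m + 1) (by decide), ev_single_ne 1 2 (m + 1) (by decide), ev_single_ne 2 0 (m + 1) (by decide), ev_single_ne 2 1 (m + 1) (by decide)]; omega),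
      term_miss (Finsupp.single 0 m + Finsupp.single 1 m + Finsupp.single 2 m)
        (d' + Finsupp.single 0 (m + 1)) 6 f 1
        (by simp only [Finsupp.add_apply, Finsupp.single_eq_same, hd'0, hd'1, hd'2, ev_single_ne 0 1 m (by decide), ev_single_ne 0 2 m (by decide), ev_single_ne 1 0 m (by decide), ev_single_ne 1 2 m (by decide), ev_single_ne 2 0 m (by decide), ev_single_ne 2 1 m (by decide), ev_single_ne 0 1 (m + 1) (by decide), ev_single_ne 0 2 (m + 1) (by decide), ev_single_ne 1 0 (m + 1) (by decide), ev_single_ne 1 2 (m + 1) (by decide), ev_single_ne 2 0 (m + 1) (by decide), ev_single_ne 2 1 (m + 1) (by decide)]; omega),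
      add_zero, add_zero, add_zero] at this
    exact (mul_ne_zero hc (Nat.cast_add_one_ne_zero _)) this
  · obtain ⟨hdd, hoth⟩ := tsub_single_spec d₀ 4 h
    obtain ⟨d', hd'⟩ : ∃ d', d' = d₀ - Finsupp.single 4 1 := ⟨_, rfl⟩
    rw [← hd'] at hdd hoth
    have hd'0 : d' 0 = 0 := by rw [hoth 0 (by decide)]; exact h0
    have hd'1 : d' 1 = 0 := by rw [hoth 1 (by decide)]; exact h1
    have hd'2 : d' 2 = 0 := by rw [hoth 2 (by decide)]; exact h2
    have := hcoef (d' + Finsupp.single 1 (m + 1))
    rw [term_hit (Finsupp.single 1 (m + 1)) d' d₀ 4 f hdd,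
      term_miss (Finsupp.single 0 (m + 1)) (d' + Finsupp.single 1 (m + 1)) 3 f 0
        (by simp only [Finsupp.add_apply, Finsupp.single_eq_same, hd'0, hd'1, hd'2, ev_single_ne 0 1 m (by decide), ev_single_ne 0 2 m (by decide), ev_single_ne 1 0 m (by decide), ev_single_ne 1 2 m (by decide), ev_single_ne 2 0 m (by decide), ev_single_ne 2 1 m (by decide), ev_single_ne 0 1 (m + 1) (by decide), ev_single_ne 0 2 (m + 1) (by decide), ev_single_ne 1 0 (m + 1) (by decide), ev_single_ne 1 2 (m + 1) (by decide), ev_single_ne 2 0 (m + 1) (by decide), ev_single_ne 2 1 (m + 1) (by decide)]; omega),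
      term_miss (Finsupp.single 2 (m + 1)) (d' + Finsupp.single 1 (m + 1)) 5 f 2
        (by simp only [Finsupp.add_apply, Finsupp.single_eq_same, hd'0, hd'1, hd'2, ev_single_ne 0 1 m (by decide), ev_single_ne 0 2 m (by decide), ev_single_ne 1 0 m (by decide), ev_single_ne 1 2 m (by decide), ev_single_ne 2 0 m (by decide), ev_single_ne 2 1 m (by decide), ev_single_ne 0 1 (m + 1) (by decide), ev_single_ne 0 2 (m + 1) (by decide), ev_single_ne 1 0 (m + 1) (by decide), ev_single_ne 1 2 (m + 1) (by decide), ev_single_ne 2 0 (m + 1) (by decide), ev_single_ne 2 1 (m + 1) (by decide)]; omega),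
      term_miss (Finsupp.single 0 m + Finsupp.single 1 m + Finsupp.single 2 m)
        (d' + Finsupp.single 1 (m + 1)) 6 f 0
        (by simp only [Finsupp.add_apply, Finsupp.single_eq_same, hd'0, hd'1, hd'2, ev_single_ne 0 1 m (by decide), ev_single_ne 0 2 m (by decide), ev_single_ne 1 0 m (by decide), ev_single_ne 1 2 m (by decide), ev_single_ne 2 0 m (by decide), ev_single_ne 2 1 m (by decide), ev_single_ne 0 1 (m + 1) (by decide), ev_single_ne 0 2 (m + 1) (by decide), ev_single_ne 1 0 (m + 1) (by decide), ev_single_ne 1 2 (m + 1) (by decide), ev_single_ne 2 0 (m + 1) (by decide), ev_single_ne 2 1 (m + 1) (by decide)]; omega),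
      zero_add, add_zero, add_zero] at this
    exact (mul_ne_zero hc (Nat.cast_add_one_ne_zero _)) this
  · obtain ⟨hdd, hoth⟩ := tsub_single_spec d₀ 5 h
    obtain ⟨d', hd'⟩ : ∃ d', d' = d₀ - Finsupp.single 5 1 := ⟨_, rfl⟩
    rw [← hd'] at hdd hoth
    have hd'0 : d' 0 = 0 := by rw [hoth 0 (by decide)]; exact h0
    have hd'1 : d' 1 = 0 := by rw [hoth 1 (by decide)]; exact h1
    have hd'2 : d' 2 = 0 := by rw [hoth 2 (by decide)]; exact h2
    have := hcoef (d' + Finsupp.single 2 (m + 1))
    rw [term_hit (Finsupp.single 2 (m + 1)) d' d₀ 5 f hdd,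
      term_miss (Finsupp.single 0 (m + 1)) (d' + Finsupp.single 2 (m + 1)) 3 f 0
        (by simp only [Finsupp.add_apply, Finsupp.single_eq_same, hd'0, hd'1, hd'2, ev_single_ne 0 1 m (by decide), ev_single_ne 0 2 m (by decide), ev_single_ne 1 0 m (by decide), ev_single_ne 1 2 m (by decide), ev_single_ne 2 0 m (by decide), ev_single_ne 2 1 m (by decide), ev_single_ne 0 1 (m + 1) (by decide), ev_single_ne 0 2 (m + 1) (by decide), ev_single_ne 1 0 (m + 1) (by decide), ev_single_ne 1 2 (m + 1) (by decide), ev_single_ne 2 0 (m + 1) (by decide), ev_single_ne 2 1 (m + 1) (by decide)]; omega),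
      term_miss (Finsupp.single 1 (m + 1)) (d' + Finsupp.single 2 (m + 1)) 4 f 1
        (by simp only [Finsupp.add_apply, Finsupp.single_eq_same, hd'0, hd'1, hd'2, ev_single_ne 0 1 m (by decide), ev_single_ne 0 2 m (by decide), ev_single_ne 1 0 m (by decide), ev_single_ne 1 2 m (by decide), ev_single_ne 2 0 m (by decide), ev_single_ne 2 1 m (by decide), ev_single_ne 0 1 (m + 1) (by decide), ev_single_ne 0 2 (m + 1) (by decide), ev_single_ne 1 0 (m + 1) (by decide), ev_single_ne 1 2 (m + 1) (by decide), ev_single_ne 2 0 (m + 1) (by decide), ev_single_ne 2 1 (m + 1) (by decide)]; omega),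
      term_miss (Finsupp.single 0 m + Finsupp.single 1 m + Finsupp.single 2 m)
        (d' + Finsupp.single 2 (m + 1)) 6 f 0
        (by simp only [Finsupp.add_apply, Finsupp.single_eq_same, hd'0, hd'1, hd'2, ev_single_ne 0 1 m (by decide), ev_single_ne 0 2 m (by decide), ev_single_ne 1 0 m (by decide), ev_single_ne 1 2 m (by decide), ev_single_ne 2 0 m (by decide), ev_single_ne 2 1 m (by decide), ev_single_ne 0 1 (m + 1) (by decide), ev_single_ne 0 2 (m + 1) (by decide), ev_single_ne 1 0 (m + 1) (by decide), ev_single_ne 1 2 (m + 1) (by decide), ev_single_ne 2 0 (m + 1) (by decide), ev_single_ne 2 1 (m + 1) (by decide)]; omega),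
      zero_add, zero_add, add_zero] at this
    exact (mul_ne_zero hc (Nat.cast_add_one_ne_zero _)) this
  · obtain ⟨hdd, hoth⟩ := tsub_single_spec d₀ 6 h
    obtain ⟨d', hd'⟩ : ∃ d', d' = d₀ - Finsupp.single 6 1 := ⟨_, rfl⟩
    rw [← hd'] at hdd hoth
    have hd'0 : d' 0 = 0 := by rw [hoth 0 (by decide)]; exact h0
    have hd'1 : d' 1 = 0 := by rw [hoth 1 (by decide)]; exact h1
    have hd'2 : d' 2 = 0 := by rw [hoth 2 (by decide)]; exact h2
    have := hcoef (d' + (Finsupp.single 0 m + Finsupp.single 1 m + Finsupp.single 2 m))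
    rw [term_hit (Finsupp.single 0 m + Finsupp.single 1 m + Finsupp.single 2 m) d' d₀ 6 f hdd,
      term_miss (Finsupp.single 0 (m + 1))
        (d' + (Finsupp.single 0 m + Finsupp.single 1 m + Finsupp.single 2 m)) 3 f 0
        (by simp only [Finsupp.add_apply, Finsupp.single_eq_same, hd'0, hd'1, hd'2, ev_single_ne 0 1 m (by decide), ev_single_ne 0 2 m (by decide), ev_single_ne 1 0 m (by decide), ev_single_ne 1 2 m (by decide), ev_single_ne 2 0 m (by decide), ev_single_ne 2 1 m (by decide), ev_single_ne 0 1 (m + 1) (by decide), ev_single_ne 0 2 (m + 1) (by decide), ev_single_ne 1 0 (m + 1) (by decide), ev_single_ne 1 2 (m + 1) (by decide), ev_single_ne 2 0 (m + 1) (by decide), ev_single_ne 2 1 (m + 1) (by decide)]; omega),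
      term_miss (Finsupp.single 1 (m + 1))
        (d' + (Finsupp.single 0 m + Finsupp.single 1 m + Finsupp.single 2 m)) 4 f 1
        (by simp only [Finsupp.add_apply, Finsupp.single_eq_same, hd'0, hd'1, hd'2, ev_single_ne 0 1 m (by decide), ev_single_ne 0 2 m (by decide), ev_single_ne 1 0 m (by decide), ev_single_ne 1 2 m (by decide), ev_single_ne 2 0 m (by decide), ev_single_ne 2 1 m (by decide), ev_single_ne 0 1 (m + 1) (by decide), ev_single_ne 0 2 (m + 1) (by decide), ev_single_ne 1 0 (m + 1) (by decide), ev_single_ne 1 2 (m + 1) (by decide), ev_single_ne 2 0 (m + 1) (by decide), ev_single_ne 2 1 (m + 1) (by decide)]; omega),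
      term_miss (Finsupp.single 2 (m + 1))
        (d' + (Finsupp.single 0 m + Finsupp.single 1 m + Finsupp.single 2 m)) 5 f 2
        (by simp only [Finsupp.add_apply, Finsupp.single_eq_same, hd'0, hd'1, hd'2, ev_single_ne 0 1 m (by decide), ev_single_ne 0 2 m (by decide), ev_single_ne 1 0 m (by decide), ev_single_ne 1 2 m (by decide), ev_single_ne 2 0 m (by decide), ev_single_ne 2 1 m (by decide), ev_single_ne 0 1 (m + 1) (by decide), ev_single_ne 0 2 (m + 1) (by decide), ev_single_ne 1 0 (m + 1) (by decide), ev_single_ne 1 2 (m + 1) (by decide), ev_single_ne 2 0 (m + 1) (by decide), ev_single_ne 2 1 (m + 1) (by decide)]; omega),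
      zero_add, zero_add, zero_add] at this
    exact (mul_ne_zero hc (Nat.cast_add_one_ne_zero _)) this


end Groth.Agent.S11217
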