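import Groth.Statements.S11221
import Mathlib

set_option autoImplicit false
universe u
open CategoryTheory MonoidalCategory CartesianMonoidalCategory MonObj GrpObj AlgebraicGeometry
open scoped TensorProduct
open AGF

namespace Groth.Agent.S11221

/-- Let R be a Noetherian integrally closed domain with fraction field K and let p be a prime ideal of R
of height one. Then there is f ∈ K which is not in R but lies in the local ring R_q ⊆ K of every
height-one prime q ≠ p (f = a/b with b ∉ q): a rational function on Spec R with a pole along V(p)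
only. (The published statement is for the coordinate ring of a normal affine variety; this row is
for any Noetherian integrally closed domain, which is all the argument uses.) -/
theorem result (R : Type u) [CommRing R] [IsDomain R] [IsNoetherianRing R] [IsIntegrallyClosed R]
    (p : Ideal R) [p.IsPrime] (hp : p.height = 1) :
    ∃ f : FractionRing R, f ∉ Set.range ⇑(algebraMap R (FractionRing R)) ∧
      ∀ q : Ideal R, q.IsPrime → q.height = 1 → q ≠ p →
        ∃ a b : R, b ∉ q ∧ f * algebraMap R (FractionRing R) b = algebraMap R (FractionRing R) a := by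
  classical
  have hpbot : p ≠ ⊥ := Ideal.ne_bot_of_height_eq_one hp
  obtain ⟨a, hap, ha0⟩ := Submodule.exists_mem_ne_zero_of_ne_bot hpbot
  set I : Ideal R := Ideal.span {a} with hI
  have hIp : I ≤ p := (Ideal.span_singleton_le_iff_mem _).mpr hap
  have hfin : ∀ q : Ideal R, q.height = 1 → q.FiniteHeight := fun q hq =>
    ⟨Or.inr (by rw [hq]; exact ENat.one_ne_top)⟩
  have hpfin := hfin p hp
  have hmin : p ∈ I.minimalPrimes := by
    refine ⟨⟨inferInstance, hIp⟩, ?_⟩
    rintro q ⟨hq, hIq⟩ hqp
    by_contra hne
    have hlt : q < p := lt_of_le_of_ne hqp (fun h => hne (h ▸ le_rfl))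
    have hh := Ideal.height_strict_mono_of_isPrime_of_isPrime hlt
    rw [hp] at hh
    have hq0 : q.height = 0 := (Order.lt_one_iff (x := q.height)).mp hh
    rw [Ideal.height_eq_zero_iff_eq_bot] at hq0
    have : a ∈ q := hIq (Ideal.mem_span_singleton_self a)
    rw [hq0] at this
    exact ha0 this
  have hann : Module.annihilator R (R ⧸ I) = I := Ideal.annihilator_quotient
  have hass : p ∈ associatedPrimes R (R ⧸ I) :=
    Module.associatedPrimes.minimalPrimes_annihilator_subset_associatedPrimes R (R ⧸ I)
      (hann.symm ▸ hmin)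
  obtain ⟨_, x, hx⟩ := isAssociatedPrime_iff.mp hass
  obtain ⟨b, rfl⟩ := Ideal.Quotient.mk_surjective x
  have hmem : ∀ s : R, s ∈ p ↔ s * b ∈ I := by
    intro s
    rw [hx, Submodule.mem_colon_singleton, Submodule.mem_bot]
    change Ideal.Quotient.mk I (s * b) = 0 ↔ _
    exact Ideal.Quotient.eq_zero_iff_mem
  have hbI : b ∉ I := by
    intro hb
    have : (1 : R) ∈ p := (hmem 1).mpr (by rwa [_root_.one_mul])
    exact (Ideal.ne_top_iff_one p).mp (Ideal.IsPrime.ne_top inferInstance) this
  have ha0' : algebraMap R (FractionRing R) a ≠ 0 := by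
    intro h
    exact ha0 ((IsFractionRing.injective R (FractionRing R)) (by rw [h, map_zero]))
  refine ⟨algebraMap R (FractionRing R) b / algebraMap R (FractionRing R) a, ?_, ?_⟩
  · rintro ⟨c, hc⟩
    apply hbI
    rw [eq_div_iff ha0', ← map_mul] at hc
    have := IsFractionRing.injective R (FractionRing R) hc
    rw [hI, Ideal.mem_span_singleton']
    exact ⟨c, this⟩
  · intro q hq hq1 hqp
    have hpq : ¬ p ≤ q := by
      intro hle
      have hqfin := hfin q hq1
      apply hqp
      by_contra hne
      have hlt : p < q := lt_of_le_of_ne hle (fun h => hne h.symm)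
      have hh := Ideal.height_strict_mono_of_isPrime_of_isPrime hlt
      rw [hp, hq1] at hh
      exact lt_irrefl _ hh
    obtain ⟨s, hsp, hsq⟩ := Set.not_subset.mp hpq
    have hsb : s * b ∈ I := (hmem s).mp hsp
    rw [hI, Ideal.mem_span_singleton'] at hsb
    obtain ⟨t, ht⟩ := hsb
    refine ⟨t, s, hsq, ?_⟩
    rw [div_mul_eq_mul_div, div_eq_iff ha0', ← map_mul, ← map_mul, mul_comm b s, ht]

end Groth.Agent.S11221
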