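import Groth.Statements.S11223
import Mathlib

set_option autoImplicit false
universe u
open CAlg

namespace Groth.Agent.S11223


open DirectSum

attribute [local instance] MvPolynomial.gradedAlgebra

section
variable {k : Type u} [Field k] {n : ℕ}

local notation "𝒜" => MvPolynomial.homogeneousSubmodule (Fin n) k

lemma mem_pow_of_mem (e : ℕ) {f : MvPolynomial (Fin n) k} (hf : f ∈ 𝒜 e) :
    f ∈ (Ideal.span (Set.range (MvPolynomial.X : Fin n → MvPolynomial (Fin n) k))) ^ e := by
  set I := Ideal.span (Set.range (MvPolynomial.X : Fin n → MvPolynomial (Fin n) k)) with hI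
  have h1 : 𝒜 1 ≤ I.restrictScalars k := by
    rw [MvPolynomial.homogeneousSubmodule_one_eq_span_X]
    refine Submodule.span_le.mpr ?_
    intro x hx
    exact Ideal.subset_span hx
  have h2 : ∀ e, (𝒜 1) ^ e ≤ (I ^ e).restrictScalars k := by
    intro e
    induction e with
    | zero =>
      rw [pow_zero, pow_zero, Ideal.one_eq_top]
      intro x _
      trivial
    | succ e ih =>
      rw [pow_succ, pow_succ, Submodule.mul_le]
      intro a ha b hb
      exact Ideal.mul_mem_mul (ih ha) (h1 hb)
  rw [← MvPolynomial.homogeneousSubmodule_one_pow] at hf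
  exact h2 e hf

lemma main_finite (m : ℕ)
    (z : Fin m → MvPolynomial (Fin n) k) (d : Fin m → ℕ) (hd : ∀ i, 0 < d i)
    (hz : ∀ i, z i ∈ 𝒜 (d i))
    (hrad : (Ideal.span (Set.range z)).radical =
      Ideal.span (Set.range (MvPolynomial.X : Fin n → MvPolynomial (Fin n) k))) :
    Module.Finite (Algebra.adjoin k (Set.range z)) (MvPolynomial (Fin n) k) := by
  classical
  set I := Ideal.span (Set.range (MvPolynomial.X : Fin n → MvPolynomial (Fin n) k)) with hI
  set J := Ideal.span (Set.range z) with hJ
  obtain ⟨N, hN⟩ : ∃ N, I ^ N ≤ J :=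
    Ideal.exists_pow_le_of_le_radical_of_fg (hrad ▸ le_rfl)
      (Submodule.fg_span (Set.finite_range _))
  have hN' : ∀ e, N ≤ e → ∀ f ∈ 𝒜 e, f ∈ J := fun e he f hf =>
    hN (Ideal.pow_le_pow_right he (mem_pow_of_mem e hf))
  set C := Algebra.adjoin k (Set.range z) with hC
  have hfg : ∀ e, (𝒜 e).FG := fun e => MvPolynomial.homogeneousSubmodule_fg (Fin n) k e
  choose S hS using hfg
  set T : Finset (MvPolynomial (Fin n) k) := (Finset.range N).biUnion S with hT
  set M : Submodule C (MvPolynomial (Fin n) k) :=
    Submodule.span C (T : Set (MvPolynomial (Fin n) k)) with hM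
  have hzM : ∀ i, ∀ y ∈ M, y * z i ∈ M := by
    intro i y hy
    have e1 : y * z i = (⟨z i, Algebra.subset_adjoin ⟨i, rfl⟩⟩ : C) • y := by
      rw [mul_comm]
      rfl
    rw [e1]
    exact M.smul_mem _ hy
  have hhom : ∀ e, ∀ f ∈ 𝒜 e, f ∈ M := by
    intro e
    induction e using Nat.strong_induction_on with
    | _ e ih =>
      intro f hf
      by_cases he : e < N
      · have h1 : f ∈ Submodule.span k (S e : Set (MvPolynomial (Fin n) k)) := by
          rw [hS e]
          exact hf
        have h2 := Submodule.span_le_restrictScalars k C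
          (S e : Set (MvPolynomial (Fin n) k)) h1
        have h3 : Submodule.span C (S e : Set (MvPolynomial (Fin n) k)) ≤ M := by
          refine Submodule.span_mono ?_
          intro x hx
          rw [hT]
          simp only [Finset.coe_biUnion, Set.mem_iUnion]
          exact ⟨e, Finset.mem_coe.mpr (Finset.mem_range.mpr he), hx⟩
        exact h3 h2
      · push Not at he
        have hfJ := hN' e he f hf
        rw [hJ, Ideal.mem_span_range_iff_exists_fun] at hfJ
        obtain ⟨g, hg⟩ := hfJ
        have h1 : ((decompose 𝒜 f e : 𝒜 e) : MvPolynomial (Fin n) k) = f :=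
          decompose_of_mem_same 𝒜 hf
        have h2 : ((decompose 𝒜 f e : 𝒜 e) : MvPolynomial (Fin n) k) =
            ∑ i, ((decompose 𝒜 (g i * z i) e : 𝒜 e) : MvPolynomial (Fin n) k) := by
          rw [← hg, decompose_sum, DFinsupp.finsetSum_apply, AddSubmonoidClass.coe_finsetSum]
        rw [← h1, h2]
        refine M.sum_mem (fun i _ => ?_)
        rw [coe_decompose_mul_of_right_mem 𝒜 e (hz i)]
        split_ifs with hie
        · refine hzM i _ (ih (e - d i) ?_ _ (SetLike.coe_mem _))
          have h3 := hd i
          omega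
        · exact M.zero_mem
  have hMtop : M = ⊤ := by
    rw [eq_top_iff]
    intro f _
    rw [← sum_support_decompose 𝒜 f]
    exact M.sum_mem (fun i _ => hhom i _ (SetLike.coe_mem _))
  exact ⟨⟨T, hMtop⟩⟩

end


/-- Let k be a field, let z_1, ..., z_m be homogeneous polynomials of positive degree in the polynomial
ring k[x_1, ..., x_n], and suppose the radical of the ideal (z_1, ..., z_m) is the ideal (x_1, ...,
x_n) generated by the variables. Then the polynomial ring is integral over the subalgebra generated
by z_1, ..., z_m. (The published statement is over an algebraically closed field; this row takes any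
field, which its proof allows.) -/
theorem result (k : Type u) [Field k] (n m : ℕ)
    (z : Fin m → MvPolynomial (Fin n) k) (d : Fin m → ℕ) (hd : ∀ i, 0 < d i)
    (hz : ∀ i, (z i).IsHomogeneous (d i))
    (hrad : (Ideal.span (Set.range z)).radical =
      Ideal.span (Set.range (MvPolynomial.X : Fin n → MvPolynomial (Fin n) k))) :
    Algebra.IsIntegral (Algebra.adjoin k (Set.range z)) (MvPolynomial (Fin n) k) := by
  have : Module.Finite (Algebra.adjoin k (Set.range z)) (MvPolynomial (Fin n) k) :=
    main_finite m z d hd (fun i => (MvPolynomial.mem_homogeneousSubmodule _ _).mpr (hz i)) hrad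
  exact Algebra.IsIntegral.of_finite _ _


end Groth.Agent.S11223
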