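import Groth.Statements.S11231
import Mathlib

set_option autoImplicit false
universe u
open CategoryTheory MonoidalCategory CartesianMonoidalCategory MonObj GrpObj AlgebraicGeometry
open scoped TensorProduct
open AGF

namespace Groth.Agent.S11231


theorem mul_one_tmul_injective {k : Type u} [Field k] {A B : Type u} [CommRing A] [IsDomain A]
    [Algebra k A] [CommRing B] [Algebra k B] (b : A) (hb : b ≠ 0) :
    Function.Injective (fun y : B ⊗[k] A => y * ((1 : B) ⊗ₜ[k] b)) := by
  have h1 : Function.Injective (LinearMap.mulRight k b) := by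
    intro x y hxy
    have : x * b = y * b := hxy
    exact mul_right_cancel₀ hb this
  have h2 := Module.Flat.lTensor_preserves_injective_linearMap (M := B) (LinearMap.mulRight k b) h1
  have h3 : ∀ y : B ⊗[k] A,
      y * ((1 : B) ⊗ₜ[k] b) = (LinearMap.mulRight k b).lTensor B y := by
    intro y
    induction y using TensorProduct.induction_on with
    | zero => simp
    | tmul x a => simp [Algebra.TensorProduct.tmul_mul_tmul]
    | add x y hx hy => rw [add_mul, hx, hy, map_add]
  intro y₁ y₂ h
  apply h2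
  rw [← h3, ← h3]; exact h

theorem fixed_intClosed {k : Type u} [Field k] {G H : Over (Spec (CommRingCat.of k))}
    [GrpObj G] [GrpObj H]
    {A : Type u} [CommRing A] [IsDomain A] [Algebra k A] [IsIntegrallyClosed A]
    (ρ : VecGrp.GMod G A) (hρ : ρ.IsMult) (i : H ⟶ G) :
    IsIntegrallyClosed ↥(ρ.fixedSubalgebra hρ i) := by
  obtain ⟨S, hS⟩ : ∃ S : Subalgebra k A, S = ρ.fixedSubalgebra hρ i := ⟨_, rfl⟩
  rw [← hS]
  have hmem : ∀ x : A, x ∈ S ↔ ∀ (B : Type u) [CommRing B] [Algebra k B]
      (h : VecGrp.pt k B ⟶ H),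
      ρ.ρ B (h ≫ i) ((1 : B) ⊗ₜ[k] x) = (1 : B) ⊗ₜ[k] x := by
    intro x; rw [hS]; exact Iff.rfl
  let K := FractionRing S
  let L := FractionRing A
  let j : S →+* A := S.val
  have hj : Function.Injective j := Subtype.val_injective
  let g : S →+* L := (algebraMap A L).comp j
  have hg : Function.Injective g := (IsFractionRing.injective A L).comp hj
  let ψ : K →+* L := IsFractionRing.lift hg
  have hψ : ∀ s : S, ψ (algebraMap S K s) = algebraMap A L (j s) :=
    fun s => IsFractionRing.lift_algebraMap hg s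
  rw [isIntegrallyClosed_iff K]
  intro x hx
  have hx' : IsIntegral A (ψ x) := by
    refine IsIntegral.map_of_comp_eq j ψ ?_ hx
    ext s
    exact (hψ s).symm
  obtain ⟨c, hc⟩ := IsIntegrallyClosed.algebraMap_eq_of_integral hx'
  obtain ⟨a, b, hb, rfl⟩ := IsFractionRing.div_surjective (A := S) x
  have hb0 : b ≠ 0 := nonZeroDivisors.ne_zero hb
  have hjb0 : j b ≠ 0 := fun h => hb0 (hj (by rw [h, map_zero]))
  have hLb0 : algebraMap A L (j b) ≠ 0 := by
    intro h0
    exact hjb0 ((IsFractionRing.injective A L) (by rw [h0, map_zero]))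
  have hcb : c * j b = j a := by
    apply IsFractionRing.injective A L
    rw [map_mul, hc, map_div₀, hψ, hψ, div_mul_cancel₀ _ hLb0]
  have hcS : c ∈ S := by
    rw [hmem]
    intro B _ _ h
    have hbS := (hmem (j b)).mp b.2 B h
    have haS := (hmem (j a)).mp a.2 B h
    have hmul := (hρ B (h ≫ i)).1
    apply mul_one_tmul_injective (B := B) (j b) hjb0
    show ρ.ρ B (h ≫ i) ((1 : B) ⊗ₜ[k] c) * ((1 : B) ⊗ₜ[k] j b) =
      ((1 : B) ⊗ₜ[k] c) * ((1 : B) ⊗ₜ[k] j b)
    have e : ((1 : B) ⊗ₜ[k] c : B ⊗[k] A) * ((1 : B) ⊗ₜ[k] j b) = (1 : B) ⊗ₜ[k] j a := by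
      rw [Algebra.TensorProduct.tmul_mul_tmul, _root_.one_mul, hcb]
    rw [e]
    conv_lhs => rw [← hbS]
    rw [← hmul, e, haS]
  refine ⟨⟨c, hcS⟩, ?_⟩
  have hKb0 : algebraMap S K b ≠ 0 := by
    intro h0
    exact hb0 ((IsFractionRing.injective S K) (by rw [h0, map_zero]))
  rw [eq_div_iff hKb0, ← map_mul]
  congr 1
  exact Subtype.ext hcb



/-- Let k an algebraically closed field, G a connected reductive linear algebraic group over k, B a
Borel subgroup of G with unipotent radical U (a maximal unipotent subgroup), and let A be a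
commutative k-algebra with a rational action of G by algebra automorphisms. If A is an integrally
closed domain then so is A^U. (The published statement is for A normal; its proof reduces to the
case of a domain, which is the case stated here.) -/
theorem result (k : Type u) [Field k] [IsAlgClosed k]
    (G : Over (Spec (CommRingCat.of k))) [GrpObj G] (hG : Red.IsReductiveOver k G)
    (Bo : Over (Spec (CommRingCat.of k))) [GrpObj Bo] (iB : Bo ⟶ G) (hB : Red.IsBorelOver k iB)
    (U : Over (Spec (CommRingCat.of k))) [GrpObj U] (u : U ⟶ Bo) (hU : Par.IsUnipotentRadical u)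
    (A : Type u) [CommRing A] [IsDomain A] [Algebra k A] [IsIntegrallyClosed A]
    (ρ : VecGrp.GMod G A) (hρ : ρ.IsMult) :
    IsIntegrallyClosed ↥(ρ.fixedSubalgebra hρ (u ≫ iB)) := by
  exact fixed_intClosed ρ hρ (u ≫ iB)


end Groth.Agent.S11231
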