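import Groth.Statements.S11233
import Mathlib

set_option autoImplicit false
universe u
open CAlg

namespace Groth.Agent.S11233

/-- Let k be an algebraically closed field, A an integral domain which is a k-algebra, T an m by m
matrix over A with invertible determinant, and let the additive group k^m act on the polynomial ring
A[y_1, ..., y_m] by the A-algebra maps y_s ↦ y_s + Σ_r h_r T_rs. Then the only invariant polynomials
are the constants: a polynomial fixed by all these substitutions lies in A. -/
theorem result (k : Type u) [Field k] [IsAlgClosed k]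
    (A : Type u) [CommRing A] [IsDomain A] [Algebra k A] (m : ℕ) (T : Matrix (Fin m) (Fin m) A)
    (hT : IsUnit T.det) (f : MvPolynomial (Fin m) A)
    (hf : ∀ h : Fin m → k, MvPolynomial.aeval
      (fun s : Fin m => MvPolynomial.X s + MvPolynomial.C (∑ r : Fin m, algebraMap k A (h r) * T r s)) f = f) :
    ∃ a : A, f = MvPolynomial.C a := by
  open MvPolynomial in
  classical
  let B := MvPolynomial (Fin m) A
  let Φ : MvPolynomial (Fin m) A →ₐ[A] MvPolynomial (Fin m) B :=
    aeval (fun s : Fin m => (C (X s : B) + ∑ r : Fin m, X r * C (C (T r s) : B) : MvPolynomial (Fin m) B))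
  have hinf : Infinite k := IsAlgClosed.instInfinite
  -- Step 1: Φ f = C f
  have h1 : Φ f = C (f : B) := by
    apply funext_set (fun _ => Set.range (algebraMap k B))
      (fun _ => Set.infinite_range_of_injective (algebraMap k B).injective)
    intro x hx
    have hx' : ∀ r, ∃ c : k, algebraMap k B c = x r := fun r => hx r (Set.mem_univ r)
    choose h hh using hx'
    rw [eval_C]
    have h2 : (eval x) (Φ f) = aeval (fun s : Fin m => (X s + C (∑ r : Fin m, algebraMap k A (h r) * T r s) : B)) f := by
      have h3 : ((aeval x : MvPolynomial (Fin m) B →ₐ[B] B).restrictScalars A).comp Φ =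
          aeval (fun s : Fin m => (X s + C (∑ r : Fin m, algebraMap k A (h r) * T r s) : B)) := by
        apply MvPolynomial.algHom_ext
        intro s
        simp only [AlgHom.comp_apply, Φ, aeval_X, AlgHom.restrictScalars_apply, map_add, map_sum,
          map_mul, aeval_C, Algebra.algebraMap_self, RingHom.id_apply]
        congr 1
        apply Finset.sum_congr rfl
        intro r _
        rw [← hh r]
        rfl
      have := AlgHom.congr_fun h3 f
      simpa [aeval_eq_eval] using this
    rw [h2, hf h]
  -- Step 2: specialise z = - y T⁻¹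
  have hTT : T⁻¹ * T = 1 := Matrix.nonsing_inv_mul T hT
  let z : Fin m → B := fun r => - ∑ s : Fin m, X s * C (T⁻¹ s r)
  have h4 := congrArg (aeval z : MvPolynomial (Fin m) B →ₐ[B] B) h1
  rw [aeval_C, Algebra.algebraMap_self, RingHom.id_apply] at h4
  have h5 : ((aeval z : MvPolynomial (Fin m) B →ₐ[B] B).restrictScalars A).comp Φ =
      aeval (fun _ : Fin m => (0 : B)) := by
    apply MvPolynomial.algHom_ext
    intro s
    simp only [AlgHom.comp_apply, Φ, aeval_X, AlgHom.restrictScalars_apply, map_add, map_sum,
      map_mul, aeval_C, Algebra.algebraMap_self, RingHom.id_apply, z]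
    have h6 : ∑ r : Fin m, (-∑ s' : Fin m, (X s' : B) * C (T⁻¹ s' r)) * C (T r s) = - X s := by
      simp only [neg_mul, Finset.sum_neg_distrib, Finset.sum_mul, neg_inj]
      rw [Finset.sum_comm]
      have : ∀ s' : Fin m, ∑ r : Fin m, (X s' : B) * C (T⁻¹ s' r) * C (T r s) =
          X s' * C ((T⁻¹ * T) s' s) := by
        intro s'
        rw [Matrix.mul_apply, map_sum, Finset.mul_sum]
        apply Finset.sum_congr rfl
        intro r _
        rw [map_mul]; ring
      simp only [this, hTT, Matrix.one_apply]
      simp
    rw [h6]; ring
  have h7 := AlgHom.congr_fun h5 f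
  simp only [AlgHom.comp_apply, AlgHom.restrictScalars_apply] at h7
  rw [h4] at h7
  refine ⟨constantCoeff f, ?_⟩
  have h8 := MvPolynomial.aeval_zero (S₁ := B) f
  exact h7.trans h8


end Groth.Agent.S11233
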