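import Groth.Statements.S11235
import Mathlib

set_option autoImplicit false
universe u
open CAlg

namespace Groth.Agent.S11235



/-- Let k be an algebraically closed field, A a commutative k-algebra, α ∈ k, and M a maximal ideal of
the polynomial ring A[x] containing x - α. Let I ⊆ M be an ideal whose zero set in Spec A[x] is
invariant under the automorphisms x ↦ c·x, c ∈ k nonzero (equivalently: the image of I under each
such A-algebra automorphism has the same radical as I). Then there is a maximal ideal of A[x]
containing I and x. -/
theorem result (k : Type u) [Field k] [IsAlgClosed k]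
    (A : Type u) [CommRing A] [Algebra k A] (α : k)
    (M : Ideal (Polynomial A)) (hM : M.IsMaximal)
    (hα : Polynomial.X - Polynomial.C (algebraMap k A α) ∈ M)
    (I : Ideal (Polynomial A)) (hIM : I ≤ M)
    (hI : ∀ c : kˣ, (I.map (Polynomial.aeval (R := A)
      (algebraMap k A (c : k) • (Polynomial.X : Polynomial A)))).radical = I.radical) :
    ∃ N : Ideal (Polynomial A), N.IsMaximal ∧ I ≤ N ∧ Polynomial.X ∈ N := by
  classical
  by_cases hα0 : α = 0
  · refine ⟨M, hM, hIM, ?_⟩
    rw [hα0, map_zero, map_zero, sub_zero] at hα
    exact hα
  · haveI := hM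
    letI : Field (Polynomial A ⧸ M) := Ideal.Quotient.field M
    let mk : Polynomial A →+* (Polynomial A ⧸ M) := Ideal.Quotient.mk M
    let ι : A →+* (Polynomial A ⧸ M) := mk.comp Polynomial.C
    let j : k →+* (Polynomial A ⧸ M) := ι.comp (algebraMap k A)
    have hj : Function.Injective j := RingHom.injective j
    have hmkX : mk Polynomial.X = ι (algebraMap k A α) :=
      Ideal.Quotient.eq.mpr hα
    have hmkp : ∀ p : Polynomial A, mk p = ι (p.eval (algebraMap k A α)) := by
      intro p
      have h1 : p - Polynomial.C (p.eval (algebraMap k A α)) ∈ M := by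
        obtain ⟨q, hq⟩ := Polynomial.X_sub_C_dvd_sub_C_eval (a := algebraMap k A α) (p := p)
        rw [hq]
        exact M.mul_mem_right _ hα
      exact Ideal.Quotient.eq.mpr h1
    let ψ : Polynomial A →+* (Polynomial A ⧸ M) := ι.comp (Polynomial.evalRingHom 0)
    have hψsurj : Function.Surjective ψ := by
      intro y
      obtain ⟨p, rfl⟩ := Ideal.Quotient.mk_surjective y
      refine ⟨Polynomial.C (p.eval (algebraMap k A α)), ?_⟩
      show ι (Polynomial.eval 0 (Polynomial.C (p.eval (algebraMap k A α)))) = mk p
      rw [Polynomial.eval_C, hmkp]
    refine ⟨RingHom.ker ψ, RingHom.ker_isMaximal_of_surjective ψ hψsurj, ?_, ?_⟩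
    · intro f hf
      rw [RingHom.mem_ker]
      show ι (Polynomial.eval 0 f) = 0
      -- f.map ι = 0
      have hroots : ∀ c : k, c ≠ 0 → (f.map ι).IsRoot (j (c * α)) := by
        intro c hc
        have h1 : Polynomial.aeval (R := A) (algebraMap k A c • (Polynomial.X : Polynomial A)) f ∈
            I.map (Polynomial.aeval (R := A)
              (algebraMap k A c • (Polynomial.X : Polynomial A))) :=
          Ideal.mem_map_of_mem _ hf
        have h2 : Polynomial.aeval (R := A) (algebraMap k A c • (Polynomial.X : Polynomial A)) f ∈
            M := by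
          have h3 := Ideal.le_radical h1
          have e := hI (Units.mk0 c hc)
          rw [Units.val_mk0] at e
          rw [e] at h3
          have h4 := Ideal.radical_mono hIM h3
          rwa [hM.isPrime.radical] at h4
        have h5 : mk (Polynomial.aeval (R := A)
            (algebraMap k A c • (Polynomial.X : Polynomial A)) f) = 0 :=
          Ideal.Quotient.eq_zero_iff_mem.mpr h2
        rw [Polynomial.aeval_def, Polynomial.hom_eval₂, Polynomial.algebraMap_eq] at h5
        rw [Polynomial.IsRoot.def, Polynomial.eval_map]
        have h6 : mk (algebraMap k A c • (Polynomial.X : Polynomial A)) = j (c * α) := by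
          rw [Polynomial.smul_eq_C_mul, map_mul, hmkX]
          show ι (algebraMap k A c) * ι (algebraMap k A α) = ι (algebraMap k A (c * α))
          rw [map_mul, map_mul]
        rw [h6] at h5
        exact h5
      have hzero : f.map ι = 0 := by
        apply Polynomial.eq_zero_of_infinite_isRoot
        have hinf : ({0}ᶜ : Set k).Infinite := (Set.finite_singleton (0 : k)).infinite_compl
        refine Set.infinite_of_injOn_mapsTo (f := fun c : k => j (c * α)) ?_ ?_ hinf
        · intro c _ c' _ h
          have h1 : c * α = c' * α := hj h
          exact mul_right_cancel₀ hα0 h1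
        · intro c hc
          exact hroots c hc
      have h7 : (f.map ι).coeff 0 = 0 := by rw [hzero, Polynomial.coeff_zero]
      rw [Polynomial.coeff_map, Polynomial.coeff_zero_eq_eval_zero] at h7
      exact h7
    · rw [RingHom.mem_ker]
      show ι (Polynomial.eval 0 Polynomial.X) = 0
      rw [Polynomial.eval_X, map_zero]


end Groth.Agent.S11235
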