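import Groth.Statements.S11238
import Mathlib

set_option autoImplicit false
universe u
open AGF

namespace Groth.Agent.S11238

section aux
open Polynomial
open scoped IntermediateField.algebraAdjoinAdjoin

abbrev PP (k : Type u) [Field k] (n : ℕ) := MvPolynomial (Fin n) k
abbrev LL (k : Type u) [Field k] (n : ℕ) := FractionRing (MvPolynomial (Fin n) k)

theorem exists_nonroot (k : Type u) [Field k] [Infinite k] (n : ℕ) (f : PP k n) (hf : f ≠ 0) :
    ∃ a : Fin n → k, MvPolynomial.eval a f ≠ 0 := by
  by_contra h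
  push Not at h
  exact hf (MvPolynomial.funext (fun a => by rw [h a, map_zero]))

/-- substitution of a parametrised line `a + s (a' - a)` -/
noncomputable def lineSub (k : Type u) [Field k] (n : ℕ) (a a' : Fin n → k) : PP k n →ₐ[k] k[X] :=
  MvPolynomial.aeval (fun i => Polynomial.C (a i) + Polynomial.X * Polynomial.C (a' i - a i))

theorem eval_lineSub (k : Type u) [Field k] (n : ℕ) (a a' : Fin n → k) (s : k) (f : PP k n) :
    Polynomial.eval s (lineSub k n a a' f)
      = MvPolynomial.eval (fun i => a i + s * (a' i - a i)) f := by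
  induction f using MvPolynomial.induction_on with
  | C c => simp [lineSub]
  | add f g hf hg => rw [map_add, Polynomial.eval_add, hf, hg, map_add]
  | mul_X f i hf =>
    rw [map_mul, Polynomial.eval_mul, hf, map_mul]
    congr 1
    simp [lineSub]

theorem eval_lineSub_zero (k : Type u) [Field k] (n : ℕ) (a a' : Fin n → k) (f : PP k n) :
    Polynomial.eval 0 (lineSub k n a a' f) = MvPolynomial.eval a f := by
  rw [eval_lineSub]
  have : (fun i => a i + 0 * (a' i - a i)) = a := by funext i; ring
  rw [this]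

theorem eval_lineSub_one (k : Type u) [Field k] (n : ℕ) (a a' : Fin n → k) (f : PP k n) :
    Polynomial.eval 1 (lineSub k n a a' f) = MvPolynomial.eval a' f := by
  rw [eval_lineSub]
  have : (fun i => a i + 1 * (a' i - a i)) = a' := by funext i; ring
  rw [this]

noncomputable def lineSub' (k : Type u) [Field k] (n : ℕ) (a a' : Fin n → k) :
    PP k n →+* RatFunc k :=
  (algebraMap k[X] (RatFunc k)).comp ((lineSub k n a a' : PP k n →ₐ[k] k[X]) : PP k n →+* k[X])

theorem lineSub'_apply (k : Type u) [Field k] (n : ℕ) (a a' : Fin n → k) (f : PP k n) :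
    lineSub' k n a a' f = algebraMap k[X] (RatFunc k) (lineSub k n a a' f) := rfl

section core
variable (k : Type u) [Field k] (n : ℕ) (σ' : PP k n →+* RatFunc k)

local notation "𝒪" => Localization.AtPrime (RingHom.ker σ')
local notation "𝔐" => Ideal.primeCompl (RingHom.ker σ')

instance kerPrime : (RingHom.ker σ').IsPrime := RingHom.ker_isPrime σ'

theorem hM : 𝔐 ≤ nonZeroDivisors (PP k n) := Ideal.primeCompl_le_nonZeroDivisors _

instance instDomO : IsDomain 𝒪 := IsLocalization.isDomain_of_le_nonZeroDivisors _ (hM k n σ')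

instance instICO : IsIntegrallyClosed 𝒪 :=
  isIntegrallyClosed_of_isLocalization _ 𝔐 (hM k n σ')

theorem unit_of_ne (y : 𝔐) : IsUnit (σ' y) :=
  IsUnit.mk0 _ (fun h => y.2 ((RingHom.mem_ker).mpr h))

noncomputable def ev : 𝒪 →+* RatFunc k := IsLocalization.lift (M := 𝔐) (unit_of_ne k n σ')

theorem ev_algebraMap (f : PP k n) : ev k n σ' (algebraMap (PP k n) 𝒪 f) = σ' f :=
  IsLocalization.lift_eq _ f

theorem isUnit_of_ev_ne_zero (o : 𝒪) (ho : ev k n σ' o ≠ 0) : IsUnit o := by
  obtain ⟨f, s, rfl⟩ := IsLocalization.exists_mk'_eq 𝔐 o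
  have h := IsLocalization.mk'_spec 𝒪 f s
  have h2 := congrArg (ev k n σ') h
  rw [map_mul, ev_algebraMap, ev_algebraMap] at h2
  have hf : f ∈ 𝔐 := by
    refine Ideal.mem_primeCompl_iff.mpr (fun hf => ?_)
    have h3 : σ' f = 0 := (RingHom.mem_ker).mp hf
    rw [h3] at h2
    rcases mul_eq_zero.mp h2 with h4 | h4
    · exact ho h4
    · exact (unit_of_ne k n σ' s).ne_zero h4
  exact isUnit_iff_exists_inv.mpr ⟨_, IsLocalization.mk'_mul_mk'_eq_one' f s hf⟩

theorem core (K : Type u) [Field K] [Algebra k K] (x : K) (hx : Transcendental k x)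
    (halg : Algebra.IsAlgebraic ↥(IntermediateField.adjoin k {x}) K)
    (φ : K →ₐ[k] LL k n)
    (hσ'C : ∀ c : k, σ' (MvPolynomial.C c) = algebraMap k (RatFunc k) c)
    (p q : PP k n) (hσq : σ' q ≠ 0)
    (hpq : algebraMap (PP k n) (LL k n) p / algebraMap (PP k n) (LL k n) q = φ x)
    (hξtr : Transcendental k (σ' p / σ' q)) :
    Nonempty (K →ₐ[k] RatFunc k) := by
  classical
  have hφinj : Function.Injective φ := (φ : K →+* LL k n).injective
  have hPL : Function.Injective (algebraMap (PP k n) (LL k n)) := IsFractionRing.injective _ _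
  have hC : ∀ c : k, algebraMap (PP k n) (LL k n) (MvPolynomial.C c) = algebraMap k (LL k n) c :=
    fun c => by
      rw [IsScalarTower.algebraMap_apply k (PP k n) (LL k n), MvPolynomial.algebraMap_eq]
  have hq0 : q ≠ 0 := fun h => hσq (by rw [h, map_zero])
  have hqL : algebraMap (PP k n) (LL k n) q ≠ 0 := fun h => hq0 (hPL (by rw [h, map_zero]))
  have hqM : q ∈ 𝔐 := Ideal.mem_primeCompl_iff.mpr (fun h => hσq ((RingHom.mem_ker).mp h))
  let ox : 𝒪 := IsLocalization.mk' 𝒪 p ⟨q, hqM⟩
  have hox1 : algebraMap 𝒪 (LL k n) ox = φ x := by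
    have h := IsLocalization.mk'_spec 𝒪 p ⟨q, hqM⟩
    have h2 := congrArg (algebraMap 𝒪 (LL k n)) h
    rw [map_mul, ← IsScalarTower.algebraMap_apply, ← IsScalarTower.algebraMap_apply] at h2
    rw [← hpq, eq_div_iff hqL]
    exact h2
  have hox2 : ev k n σ' ox = σ' p / σ' q := by
    have h := IsLocalization.mk'_spec 𝒪 p ⟨q, hqM⟩
    have h2 := congrArg (ev k n σ') h
    rw [map_mul, ev_algebraMap, ev_algebraMap] at h2
    rw [eq_div_iff hσq]
    exact h2
  let c0 : k →+* 𝒪 := (algebraMap (PP k n) 𝒪).comp MvPolynomial.C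
  let θ : k[X] →+* 𝒪 := Polynomial.eval₂RingHom c0 ox
  have hθ : ∀ f : k[X], θ f = Polynomial.eval₂ c0 ox f := fun f => rfl
  have hevθ : ∀ f : k[X], ev k n σ' (θ f) = Polynomial.aeval (σ' p / σ' q) f := by
    intro f
    rw [hθ, Polynomial.hom_eval₂, hox2, Polynomial.aeval_def]
    congr 1
    ext c
    show ev k n σ' (algebraMap (PP k n) 𝒪 (MvPolynomial.C c)) = _
    rw [ev_algebraMap, hσ'C]
  have hθunit : ∀ f : k[X], f ≠ 0 → IsUnit (θ f) := by
    intro f hf
    apply isUnit_of_ev_ne_zero
    rw [hevθ]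
    intro h
    exact hf ((transcendental_iff.mp hξtr) f h)
  have hθL : (algebraMap 𝒪 (LL k n)).comp θ
      = (φ : K →+* LL k n).comp ((Polynomial.aeval x : k[X] →ₐ[k] K) : k[X] →+* K) := by
    apply Polynomial.ringHom_ext
    · intro c
      show algebraMap 𝒪 (LL k n) (Polynomial.eval₂ c0 ox (Polynomial.C c))
        = φ (Polynomial.aeval x (Polynomial.C c))
      rw [Polynomial.eval₂_C, Polynomial.aeval_C, AlgHom.commutes]
      show algebraMap 𝒪 (LL k n) (algebraMap (PP k n) 𝒪 (MvPolynomial.C c)) = _
      rw [← IsScalarTower.algebraMap_apply, hC]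
    · show algebraMap 𝒪 (LL k n) (Polynomial.eval₂ c0 ox Polynomial.X)
        = φ (Polynomial.aeval x Polynomial.X)
      rw [Polynomial.eval₂_X, Polynomial.aeval_X, hox1]
  letI algK : Algebra k[X] K :=
    ((Polynomial.aeval x : k[X] →ₐ[k] K) : k[X] →+* K).toAlgebra
  have halgz : ∀ z : K, IsAlgebraic k[X] z := by
    intro z
    haveI : Algebra.IsAlgebraic (Algebra.adjoin k {x}) K :=
      Algebra.IsAlgebraic.trans (Algebra.adjoin k {x}) (IntermediateField.adjoin k {x}) K
    have hz : IsAlgebraic (Algebra.adjoin k {x}) z := Algebra.IsAlgebraic.isAlgebraic z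
    have hmemx : ∀ g : k[X], Polynomial.aeval x g ∈ Algebra.adjoin k {x} := fun g => by
      rw [Algebra.adjoin_singleton_eq_range_aeval]; exact ⟨g, rfl⟩
    let f : k[X] →+* Algebra.adjoin k {x} :=
      (((Polynomial.aeval x).codRestrict (Algebra.adjoin k {x}) hmemx :
        k[X] →ₐ[k] Algebra.adjoin k {x}) : k[X] →+* Algebra.adjoin k {x})
    refine IsAlgebraic.of_ringHom_of_comp_eq (a := z) f (RingHom.id K) hz ?_
      Function.injective_id ?_
    · rintro ⟨y, hy⟩
      rw [Algebra.adjoin_singleton_eq_range_aeval] at hy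
      obtain ⟨g, rfl⟩ := hy
      exact ⟨g, Subtype.ext rfl⟩
    · apply RingHom.ext
      intro g
      rfl
  have hmem : ∀ z : K, ∃ o : 𝒪, algebraMap 𝒪 (LL k n) o = φ z := by
    intro z
    obtain ⟨b, hb0, hint⟩ := (halgz z).exists_integral_multiple
    have hint' : IsIntegral 𝒪 ((φ : K →+* LL k n) (b • z)) :=
      IsIntegral.map_of_comp_eq θ (φ : K →+* LL k n) hθL hint
    obtain ⟨o, ho⟩ := IsIntegrallyClosed.isIntegral_iff.mp hint'
    obtain ⟨u, hu⟩ := hθunit b hb0
    have hbz : b • z = Polynomial.aeval x b * z := Algebra.smul_def b z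
    have hφb : algebraMap 𝒪 (LL k n) (θ b) = φ (Polynomial.aeval x b) :=
      RingHom.congr_fun hθL b
    have hφb0 : φ (Polynomial.aeval x b) ≠ 0 := by
      intro h
      have h1 : Polynomial.aeval x b = 0 := hφinj (by rw [map_zero]; exact h)
      exact hb0 ((transcendental_iff.mp hx) b h1)
    refine ⟨o * ↑u⁻¹, mul_right_cancel₀ hφb0 ?_⟩
    calc algebraMap 𝒪 (LL k n) (o * ↑u⁻¹) * φ (Polynomial.aeval x b)
        = algebraMap 𝒪 (LL k n) (o * ↑u⁻¹) * algebraMap 𝒪 (LL k n) (θ b) := by rw [hφb]
      _ = algebraMap 𝒪 (LL k n) (o * ↑u⁻¹ * ↑u) := by rw [← map_mul, hu]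
      _ = algebraMap 𝒪 (LL k n) o := by rw [mul_assoc, Units.inv_mul, mul_one]
      _ = φ (Polynomial.aeval x b * z) := by rw [ho, hbz] <;> rfl
      _ = φ z * φ (Polynomial.aeval x b) := by rw [map_mul, mul_comm]
  have hιinj : Function.Injective (algebraMap 𝒪 (LL k n)) := IsFractionRing.injective _ _
  choose τ hτ using hmem
  have τ1 : τ 1 = 1 := hιinj (by rw [hτ, map_one, map_one])
  have τ0 : τ 0 = 0 := hιinj (by rw [hτ, map_zero, map_zero])
  have τmul : ∀ z w, τ (z * w) = τ z * τ w := fun z w =>
    hιinj (by rw [hτ, map_mul, map_mul, hτ, hτ])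
  have τadd : ∀ z w, τ (z + w) = τ z + τ w := fun z w =>
    hιinj (by rw [hτ, map_add, map_add, hτ, hτ])
  have τC : ∀ c : k, τ (algebraMap k K c) = algebraMap (PP k n) 𝒪 (MvPolynomial.C c) := fun c =>
    hιinj (by rw [hτ, AlgHom.commutes, ← IsScalarTower.algebraMap_apply, hC])
  exact ⟨{ toFun := fun z => ev k n σ' (τ z)
           map_one' := by show ev k n σ' (τ 1) = 1; rw [τ1, map_one]
           map_mul' := fun z w => by
             show ev k n σ' (τ (z * w)) = ev k n σ' (τ z) * ev k n σ' (τ w)
             rw [τmul, map_mul]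
           map_zero' := by show ev k n σ' (τ 0) = 0; rw [τ0, map_zero]
           map_add' := fun z w => by
             show ev k n σ' (τ (z + w)) = ev k n σ' (τ z) + ev k n σ' (τ w)
             rw [τadd, map_add]
           commutes' := fun c => by
             show ev k n σ' (τ (algebraMap k K c)) = algebraMap k (RatFunc k) c
             rw [τC, ev_algebraMap, hσ'C] }⟩

end core

theorem exists_embedding (k : Type u) [Field k] [Infinite k]
    (K : Type u) [Field K] [Algebra k K]
    (x : K) (hx : Transcendental k x)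
    (halg : Algebra.IsAlgebraic ↥(IntermediateField.adjoin k {x}) K)
    (n : ℕ) (φ : K →ₐ[k] LL k n) :
    Nonempty (K →ₐ[k] RatFunc k) := by
  classical
  have hφinj : Function.Injective φ := (φ : K →+* LL k n).injective
  have hPL : Function.Injective (algebraMap (PP k n) (LL k n)) := IsFractionRing.injective _ _
  have hC : ∀ c : k, algebraMap (PP k n) (LL k n) (MvPolynomial.C c) = algebraMap k (LL k n) c :=
    fun c => by
      rw [IsScalarTower.algebraMap_apply k (PP k n) (LL k n), MvPolynomial.algebraMap_eq]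
  obtain ⟨p, q, hq, hpq⟩ := IsFractionRing.div_surjective (A := PP k n) (φ x)
  have hq0 : q ≠ 0 := nonZeroDivisors.ne_zero hq
  have hqL : algebraMap (PP k n) (LL k n) q ≠ 0 := fun h => hq0 (hPL (by rw [h, map_zero]))
  obtain ⟨a', ha'⟩ := exists_nonroot k n q hq0
  have hD1ne : p * MvPolynomial.C (MvPolynomial.eval a' q)
      - MvPolynomial.C (MvPolynomial.eval a' p) * q ≠ 0 := by
    intro h0
    apply hx
    have h1 := sub_eq_zero.mp h0
    have h2 := congrArg (algebraMap (PP k n) (LL k n)) h1
    rw [map_mul, map_mul, hC, hC] at h2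
    have hcL : algebraMap k (LL k n) (MvPolynomial.eval a' q) ≠ 0 := by
      intro h
      exact ha' ((algebraMap k (LL k n)).injective (by rw [h, map_zero]))
    have h3 : φ x = algebraMap k (LL k n) (MvPolynomial.eval a' p / MvPolynomial.eval a' q) := by
      rw [← hpq, map_div₀, div_eq_div_iff hqL hcL]
      exact h2
    have h4 : x = algebraMap k K (MvPolynomial.eval a' p / MvPolynomial.eval a' q) :=
      hφinj (by rw [h3, AlgHom.commutes])
    rw [h4]
    exact isAlgebraic_algebraMap _
  obtain ⟨a, ha⟩ := exists_nonroot k n _ (mul_ne_zero hD1ne hq0)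
  have haq : MvPolynomial.eval a q ≠ 0 := fun h => ha (by rw [map_mul, h, mul_zero])
  have haD : MvPolynomial.eval a p * MvPolynomial.eval a' q
      - MvPolynomial.eval a' p * MvPolynomial.eval a q ≠ 0 := by
    intro h
    apply ha
    rw [map_mul, map_sub, map_mul, map_mul, MvPolynomial.eval_C, MvPolynomial.eval_C, h, zero_mul]
  have hinj : Function.Injective (algebraMap k[X] (RatFunc k)) := IsFractionRing.injective _ _
  have hσ'C : ∀ c : k, lineSub' k n a a' (MvPolynomial.C c) = algebraMap k (RatFunc k) c := by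
    intro c
    rw [lineSub'_apply, ← MvPolynomial.algebraMap_eq, AlgHom.commutes,
      ← IsScalarTower.algebraMap_apply]
  have hσq : lineSub' k n a a' q ≠ 0 := by
    intro h
    rw [lineSub'_apply] at h
    have h1 : lineSub k n a a' q = 0 := hinj (by rw [map_zero]; exact h)
    apply haq
    rw [← eval_lineSub_zero k n a a' q, h1, Polynomial.eval_zero]
  have hξtr : Transcendental k (lineSub' k n a a' p / lineSub' k n a a' q) := by
    refine RatFunc.transcendental_of_ne_C _ ?_
    rintro ⟨c, hc⟩
    have h1 : lineSub' k n a a' p = RatFunc.C c * lineSub' k n a a' q := by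
      rw [← hc, div_mul_cancel₀ _ hσq]
    rw [lineSub'_apply, lineSub'_apply] at h1
    have h2 : lineSub k n a a' p = Polynomial.C c * lineSub k n a a' q :=
      hinj (by rw [map_mul, RatFunc.algebraMap_C]; exact h1)
    have e0 := congrArg (Polynomial.eval 0) h2
    have e1 := congrArg (Polynomial.eval 1) h2
    rw [Polynomial.eval_mul, Polynomial.eval_C, eval_lineSub_zero, eval_lineSub_zero] at e0
    rw [Polynomial.eval_mul, Polynomial.eval_C, eval_lineSub_one, eval_lineSub_one] at e1
    apply haD
    rw [e0, e1]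
    ring
  exact core k n (lineSub' k n a a') K x hx halg φ hσ'C p q hσq hpq hξtr

end aux



/-- Over an algebraically closed field k, a unirational variety of dimension one is rational. Field
form: let K be a finitely generated field extension of k of transcendence degree one (K is algebraic
over k(x) for some x ∈ K transcendental over k) admitting a k-embedding into a purely transcendental
extension k(t_1, ..., t_n). Then K = k(t) for some t ∈ K transcendental over k. -/
theorem result (k : Type u) [Field k] [IsAlgClosed k]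
    (K : Type u) [Field K] [Algebra k K] (hfg : (⊤ : IntermediateField k K).FG)
    (x : K) (hx : Transcendental k x) (halg : Algebra.IsAlgebraic ↥(IntermediateField.adjoin k {x}) K)
    (n : ℕ) (φ : K →ₐ[k] FractionRing (MvPolynomial (Fin n) k)) :
    ∃ t : K, Transcendental k t ∧ IntermediateField.adjoin k {t} = ⊤ := by
  haveI : Infinite k := inferInstance
  obtain ⟨ψ⟩ := exists_embedding k K x hx halg n φ
  have hgen : RatFunc.Luroth.generator ψ.fieldRange ∈ ψ.fieldRange :=
    RatFunc.Luroth.generator_mem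
  obtain ⟨t, ht⟩ := AlgHom.mem_fieldRange.mp hgen
  have htop : IntermediateField.adjoin k {t} = ⊤ := by
    apply IntermediateField.map_injective ψ
    rw [IntermediateField.adjoin_map, Set.image_singleton, ht, ← AlgHom.fieldRange_eq_map]
    exact (RatFunc.Luroth.eq_adjoin_generator (E := ψ.fieldRange)).symm
  refine ⟨t, ?_, htop⟩
  intro halgt
  apply hx
  haveI := IntermediateField.isAlgebraic_adjoin_simple halgt.isIntegral
  have hxmem : x ∈ IntermediateField.adjoin k {t} := by rw [htop]; exact IntermediateField.mem_top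
  have h1 : IsAlgebraic k (⟨x, hxmem⟩ : IntermediateField.adjoin k {t}) :=
    Algebra.IsAlgebraic.isAlgebraic _
  exact h1.algHom (IntermediateField.val _)


end Groth.Agent.S11238
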