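import Groth.Statements.S11239
import Mathlib

set_option autoImplicit false
universe u
open AGF

namespace Groth.Agent.S11239

/-- Let X be an m × n matrix over a commutative ring, u an upper triangular n × n matrix with ones on
the diagonal, t a diagonal n × n matrix and p ≤ n. For any choice of p rows, the minor of X·t·u
formed with these rows and the first p columns equals (t_11 ⋯ t_pp) times the corresponding minor of
X: the minors on the first p columns are semi-invariant of weight ω_p under right multiplication by
the upper triangular group. (The published statement is for the generic matrix over an algebraically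
closed field; this row states the identity over any commutative ring.) -/
theorem result (R : Type u) [CommRing R] (m n p : ℕ) (hp : p ≤ n)
    (X : Matrix (Fin m) (Fin n) R) (d : Fin n → R) (u : Matrix (Fin n) (Fin n) R)
    (hu1 : ∀ i, u i i = 1) (hu0 : ∀ i j, j < i → u i j = 0) (I : Fin p → Fin m) :
    ((X * Matrix.diagonal d * u).submatrix I (Fin.castLE hp)).det =
      (∏ i : Fin p, d (Fin.castLE hp i)) * (X.submatrix I (Fin.castLE hp)).det := by
  set c := Fin.castLE hp with hc
  have hcinj : Function.Injective c := Fin.castLE_injective hp
  have hsub : (X * Matrix.diagonal d * u).submatrix I c =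
      (X.submatrix I c) * (Matrix.diagonal (fun i => d (c i)) * u.submatrix c c) := by
    ext a j
    rw [Matrix.mul_assoc]
    simp only [Matrix.submatrix_apply, Matrix.mul_apply (M := X), Matrix.mul_apply (M := X.submatrix I c),
      Matrix.diagonal_mul]
    symm
    apply Fintype.sum_of_injective c hcinj
    · intro l hl
      have hlt : c j < l := by
        by_contra hnot
        apply hl
        have : (l : ℕ) < p := by
          have h1 : (l : ℕ) ≤ (c j : ℕ) := not_lt.mp hnot
          have h2 : (c j : ℕ) = (j : ℕ) := rfl
          omega
        exact ⟨⟨l, this⟩, Fin.ext rfl⟩
      rw [hu0 l (c j) hlt, mul_zero, mul_zero]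
    · intro l'
      rfl
  rw [hsub, Matrix.det_mul, Matrix.det_mul, Matrix.det_diagonal]
  have htri : (u.submatrix c c).IsUpperTriangular := by
    intro i j hij
    exact hu0 (c i) (c j) hij
  rw [Matrix.det_of_isUpperTriangular htri]
  simp only [Matrix.submatrix_apply, hu1, Finset.prod_const_one, mul_one]
  ring

end Groth.Agent.S11239
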