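import Groth.Statements.S11240
import Mathlib

set_option autoImplicit false
universe u
open AGF

namespace Groth.Agent.S11240

theorem entry {R : Type*} [CommRing R] {n m : ℕ} (i j : Fin n) (β : R)
    (X : Matrix (Fin n) (Fin m) R) (a : Fin n) (c : Fin m) :
    (Matrix.transvection i j β * X) a c = X a c + (if a = i then β * X j c else 0) := by
  unfold Matrix.transvection
  rw [Matrix.add_mul, Matrix.one_mul, Matrix.add_apply]
  congr 1
  by_cases h : a = i
  · rw [if_pos h, h, Matrix.single_mul_apply_same]
  · rw [if_neg h, Matrix.single_mul_apply_of_ne (h := h)]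

theorem sub_eq {R : Type*} [CommRing R] {n m p : ℕ} (j : Fin n) (β : R)
    (X : Matrix (Fin n) (Fin m) R) (I : Fin p → Fin n) (hI : Function.Injective I)
    (J : Fin p → Fin m) (s : Fin p) :
    (Matrix.transvection (I s) j β * X).submatrix I J =
      Matrix.updateRow (X.submatrix I J) s
        ((X.submatrix I J) s + β • (fun c => X j (J c))) := by
  ext a c
  rw [Matrix.submatrix_apply, entry]
  by_cases h : a = s
  · rw [h, Matrix.updateRow_self, if_pos rfl]
    rfl
  · have h2 : I a ≠ I s := fun h2 => h (hI h2)
    rw [Matrix.updateRow_ne h, if_neg h2, add_zero]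
    rfl

theorem det_eq {R : Type*} [CommRing R] {n m p : ℕ} (j : Fin n) (β : R)
    (X : Matrix (Fin n) (Fin m) R) (I : Fin p → Fin n) (hI : Function.Injective I)
    (J : Fin p → Fin m) (s : Fin p) :
    ((Matrix.transvection (I s) j β * X).submatrix I J).det =
      (X.submatrix I J).det +
        β * (Matrix.updateRow (X.submatrix I J) s (fun c => X j (J c))).det := by
  rw [sub_eq j β X I hI J s, Matrix.det_updateRow_add, Matrix.updateRow_eq_self,
    Matrix.det_updateRow_smul]


/-- For a single root subgroup: let k be an algebraically closed field and X = (x_ab) the generic n × m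
matrix over the polynomial ring k[x_ab]. Let i ≠ j be row indices and let I (rows) and J (columns)
be strictly increasing sequences of length p. The minor of X with rows I and columns J is invariant
under replacing X by (1 + b·E_ij)·X for every b ∈ k (the one-parameter unipotent group adding b
times row j to row i) if and only if j occurs in I whenever i does. (The published statement gives
the criterion for the group generated by several such root subgroups, which is the conjunction of
these.) -/
theorem result (k : Type u) [Field k] [IsAlgClosed k] (n m p : ℕ)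
    (i j : Fin n) (hij : i ≠ j) (I : Fin p ↪o Fin n) (J : Fin p ↪o Fin m) :
    (∀ b : k, ((Matrix.transvection i j (MvPolynomial.C b) *
        (Matrix.of fun a c => (MvPolynomial.X (a, c) : MvPolynomial (Fin n × Fin m) k))).submatrix I J).det =
        ((Matrix.of fun a c => (MvPolynomial.X (a, c) : MvPolynomial (Fin n × Fin m) k)).submatrix I J).det) ↔
      (i ∈ Set.range I → j ∈ Set.range I) := by
  classical
  obtain ⟨X, hX⟩ : ∃ X : Matrix (Fin n) (Fin m) (MvPolynomial (Fin n × Fin m) k),
      X = Matrix.of fun a c => MvPolynomial.X (a, c) := ⟨_, rfl⟩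
  rw [← hX]
  show (∀ b : k, ((Matrix.transvection i j
      (MvPolynomial.C b : MvPolynomial (Fin n × Fin m) k) * X).submatrix I J).det =
        (X.submatrix I J).det) ↔ (i ∈ Set.range I → j ∈ Set.range I)
  constructor
  · intro hall hi
    obtain ⟨s, hs⟩ := hi
    subst hs
    by_contra hj
    have h1 := hall 1
    rw [map_one, det_eq j 1 X I I.injective J s, one_mul] at h1
    have h2 : (Matrix.updateRow (X.submatrix I J) s (fun c => X j (J c))).det = 0 :=
      add_left_cancel (a := (X.submatrix I J).det) (h1.trans (add_zero _).symm)
    obtain ⟨I', hI'⟩ : ∃ I' : Fin p → Fin n, I' = Function.update I s j := ⟨_, rfl⟩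
    have hI'inj : Function.Injective I' := by
      intro t1 t2 h12
      rw [hI'] at h12
      by_cases h1s : t1 = s
      · by_cases h2s : t2 = s
        · rw [h1s, h2s]
        · exfalso
          rw [h1s, Function.update_self, Function.update_of_ne h2s] at h12
          exact hj ⟨t2, h12.symm⟩
      · by_cases h2s : t2 = s
        · exfalso
          rw [h2s, Function.update_self, Function.update_of_ne h1s] at h12
          exact hj ⟨t1, h12⟩
        · rw [Function.update_of_ne h1s, Function.update_of_ne h2s] at h12
          exact I.injective h12
    have hN : Matrix.updateRow (X.submatrix I J) s (fun c => X j (J c)) =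
        X.submatrix I' J := by
      ext a c
      rw [Matrix.submatrix_apply, hI']
      by_cases h : a = s
      · rw [h, Matrix.updateRow_self, Function.update_self]
      · rw [Matrix.updateRow_ne h, Function.update_of_ne h]
        rfl
    rw [hN] at h2
    obtain ⟨P, hP⟩ : ∃ P : Fin n × Fin m → k,
        P = fun ac => if ∃ t, I' t = ac.1 ∧ J t = ac.2 then (1 : k) else 0 := ⟨_, rfl⟩
    have hPv : ∀ a c, P (a, c) = if ∃ t, I' t = a ∧ J t = c then (1 : k) else 0 := by
      intro a c
      rw [hP]
    have h3 := congrArg (MvPolynomial.eval P) h2
    rw [map_zero, RingHom.map_det, RingHom.mapMatrix_apply] at h3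
    have h4 : (X.submatrix I' J).map (MvPolynomial.eval P) = 1 := by
      ext t1 t2
      rw [Matrix.map_apply, Matrix.submatrix_apply, hX, Matrix.of_apply, MvPolynomial.eval_X,
        hPv, Matrix.one_apply]
      by_cases h12 : t1 = t2
      · rw [if_pos h12, if_pos ⟨t1, rfl, by rw [h12]⟩]
      · rw [if_neg h12, if_neg]
        rintro ⟨t, ht1, ht2⟩
        exact h12 ((hI'inj ht1).symm.trans (J.injective ht2))
    rw [h4, Matrix.det_one] at h3
    exact one_ne_zero h3
  · intro himp b
    by_cases hi : i ∈ Set.range I
    · obtain ⟨s, hs⟩ := hi
      obtain ⟨s', hs'⟩ := himp ⟨s, hs⟩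
      subst hs
      have hss : s' ≠ s := by
        intro h
        apply hij
        rw [← hs', h]
      rw [det_eq j (MvPolynomial.C b) X I I.injective J s]
      have hz : (Matrix.updateRow (X.submatrix I J) s (fun c => X j (J c))).det = 0 := by
        apply Matrix.det_zero_of_row_eq hss
        rw [Matrix.updateRow_ne hss, Matrix.updateRow_self]
        ext c
        rw [Matrix.submatrix_apply, hs']
      rw [hz, mul_zero, add_zero]
    · congr 1
      ext a c
      rw [Matrix.submatrix_apply, Matrix.submatrix_apply, entry, if_neg, add_zero]
      intro h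
      exact hi ⟨a, h⟩


end Groth.Agent.S11240
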