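import Groth.Statements.S5491
import Mathlib.LinearAlgebra.RootSystem.Base

set_option autoImplicit false
open RootD

namespace Groth.Agent.S5491

open Classical in
/-- With ρ^v the half-sum of the positive coroots, the order (height) of any root α relative to the
simple system equals (ρ^v, α); equivalently 2·height(α) = Σ_{β > 0} (β^v, α). -/
theorem result {ι M N : Type*} [AddCommGroup M] [AddCommGroup N]
    (P : RootPairing ι ℤ M N) [Finite ι] [Fintype ι] [P.IsReduced] (b : P.Base) (i : ι) :
    2 * b.height i = ∑ j, if b.IsPos j then P.pairing i j else 0 := by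
  -- the simple case
  have hsimple : ∀ s ∈ b.support, (∑ j, if b.IsPos j then P.pairing s j else 0) = 2 := by
    intro s hs
    have hspos : b.IsPos s := RootPairing.Base.isPos_of_mem_support hs
    set σ := P.reflectionPerm s with hσ
    have hσσ : ∀ j, σ (σ j) = j := fun j => P.reflectionPerm_self s j
    have hpres : ∀ j, (b.IsPos j ∧ j ≠ s) → (b.IsPos (σ j) ∧ σ j ≠ s) := by
      intro j ⟨hj, hjs⟩
      refine ⟨hj.reflectionPerm hs hjs, fun h => ?_⟩
      have hj' : j = σ s := by rw [← h, hσσ]
      have hneg := RootPairing.Base.IsPos.neg_iff_not b s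
      simp only [RootPairing.indexNeg_neg] at hneg
      rw [hσ] at hj'
      rw [hj'] at hj
      exact hneg.mp hj hspos
    have hiff : ∀ j, (b.IsPos (σ j) ∧ σ j ≠ s) ↔ (b.IsPos j ∧ j ≠ s) := by
      intro j
      refine ⟨fun h => ?_, hpres j⟩
      have := hpres (σ j) h
      rwa [hσσ] at this
    let g : ι → ℤ := fun j => if b.IsPos j ∧ j ≠ s then P.pairing s j else 0
    have hgσ : ∀ j, g (σ j) = -g j := by
      intro j
      simp only [g]
      by_cases h : b.IsPos j ∧ j ≠ s
      · rw [if_pos h, if_pos ((hiff j).mpr h), hσ, P.pairing_reflectionPerm,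
          P.pairing_reflectionPerm_self_left]
      · rw [if_neg h, if_neg (fun h' => h ((hiff j).mp h'))]
        simp
    have hT : ∑ j, g j = 0 := by
      have h1 : ∑ j, g (σ j) = ∑ j, g j := Equiv.sum_comp σ g
      have h2 : ∑ j, g (σ j) = -∑ j, g j := by
        rw [← Finset.sum_neg_distrib]
        exact Finset.sum_congr rfl (fun j _ => hgσ j)
      omega
    have hsplit : ∀ j, (if b.IsPos j then P.pairing s j else 0) = g j + (if j = s then 2 else 0) := by
      intro j
      simp only [g]
      by_cases hjs : j = s
      · subst hjs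
        simp [hspos, P.pairing_same]
      · simp [hjs]
    rw [Finset.sum_congr rfl (fun j _ => hsplit j), Finset.sum_add_distrib, hT]
    simp
  apply b.induction_add i (p := fun i => 2 * b.height i = ∑ j, if b.IsPos j then P.pairing i j else 0)
  · intro i hi
    have h1 := b.height_reflectionPerm_self i
    simp only [RootPairing.indexNeg_neg] at h1
    rw [h1, mul_neg, hi, ← Finset.sum_neg_distrib]
    refine Finset.sum_congr rfl (fun j _ => ?_)
    split_ifs
    · rw [P.pairing_reflectionPerm_self_left]
    · simp
  · intro s hs
    rw [hsimple s hs, RootPairing.Base.height_one_of_mem_support hs]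
    norm_num
  · intro i j k hk hi hj
    have hpj : 2 * b.height j = ∑ l, if b.IsPos l then P.pairing j l else 0 := by
      rw [hsimple j hj, RootPairing.Base.height_one_of_mem_support hj]
      norm_num
    rw [b.height_add hk, mul_add, hi, hpj, ← Finset.sum_add_distrib]
    refine Finset.sum_congr rfl (fun l _ => ?_)
    split_ifs
    · rw [RootPairing.pairing_eq_add_of_root_eq_add hk]
    · simp

end Groth.Agent.S5491
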