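import Groth.Statements.S11243
import Groth.Agent.Lib.Helper3.RootD6
import Groth.Agent.S5491

set_option autoImplicit false
universe u v w
open RootD

namespace Groth.Agent.S11243

open Groth.Agent.Lib.helper3.RootDLib

/-- (b), for a connected group, as a statement about its root datum: let P be a finite reduced
crystallographic root pairing over ℤ with weight lattice M, and b a base of P (simple roots,
determining the positive roots). Then there is an additive map h : M → ℤ which is positive on every
positive root (so that h strictly increases along the dominance order) and non-negative on every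
dominant weight, i.e. on every ω ∈ M pairing non-negatively with all simple coroots. (Part (c),
invariance under the component group of a disconnected group, is not stated.) -/
theorem result {ι : Type u} {M : Type v} {N : Type w}
    [Fintype ι] [AddCommGroup M] [AddCommGroup N]
    (P : RootPairing ι ℤ M N) [P.IsReduced] [P.IsCrystallographic] (b : P.Base) :
    ∃ h : M →+ ℤ, (∀ i : ι, b.IsPos i → 0 < h (P.root i)) ∧
      ∀ ω : M, (∀ j ∈ b.support, 0 ≤ P.toLinearMap ω (P.coroot j)) → 0 ≤ h ω := by
  classical
  have : Module.IsReflexive ℤ M := isReflexive_left P
  let hl : Module.Dual ℤ M := ∑ j : ι, if b.IsPos j then P.coroot' j else 0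
  have hl_apply : ∀ m : M, hl m = ∑ j : ι, if b.IsPos j then P.toLinearMap m (P.coroot j) else 0 := by
    intro m
    change (∑ j : ι, if b.IsPos j then P.coroot' j else 0) m = _
    rw [LinearMap.sum_apply]
    apply Finset.sum_congr rfl
    intro j _
    split_ifs
    · rfl
    · rfl
  refine ⟨hl.toAddMonoidHom, ?_, ?_⟩
  · intro i hi
    change 0 < hl (P.root i)
    rw [hl_apply]
    have h1 := Groth.Agent.S5491.result P b i
    have h2 : (∑ j : ι, if b.IsPos j then P.toLinearMap (P.root i) (P.coroot j) else 0) =
        ∑ j, if b.IsPos j then P.pairing i j else 0 := rfl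
    rw [h2, ← h1]
    have : 0 < b.height i := hi
    omega
  · intro ω hω
    change 0 ≤ hl ω
    rw [hl_apply]
    apply Finset.sum_nonneg
    intro j _
    split_ifs with hj
    · -- positive coroot pairs non-negatively
      obtain ⟨f, hf, hf' | hf'⟩ := b.exists_root_eq_sum_nat_or_neg j
      · have hℓ : ∀ k, 0 < P.RootForm (P.root k) (P.root k) := rootForm_root_pos P
        have h1 : (P.RootForm (P.root j) (P.root j)) • P.coroot j =
            ∑ k ∈ b.support, f k • ((P.RootForm (P.root k) (P.root k)) • P.coroot k) := by
          rw [P.rootForm_self_smul_coroot j]
          conv_lhs => rw [hf']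
          rw [map_sum, Finset.smul_sum]
          apply Finset.sum_congr rfl
          intro k _
          rw [map_nsmul, P.rootForm_self_smul_coroot k, smul_comm]
        have h2 := congrArg (P.toLinearMap ω) h1
        rw [map_smul, map_sum, smul_eq_mul] at h2
        have h3 : 0 ≤ ∑ k ∈ b.support, P.toLinearMap ω
            (f k • ((P.RootForm (P.root k) (P.root k)) • P.coroot k)) := by
          apply Finset.sum_nonneg
          intro k hk
          rw [map_nsmul, map_smul, smul_eq_mul]
          exact nsmul_nonneg (mul_nonneg (hℓ k).le (hω k hk)) _
        rw [← h2] at h3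
        exact nonneg_of_mul_nonneg_right h3 (hℓ j) |> fun h => h
      · exfalso
        have h1 : P.root j = ∑ k ∈ b.support, (-(f k : ℤ)) • P.root k := by
          rw [hf']
          simp [neg_smul, Finset.sum_neg_distrib]
        have h2 := b.height_eq_sum h1
        have h3 : 0 < b.height j := hj
        rw [h2, Finset.sum_neg_distrib] at h3
        have h4 : 0 ≤ ∑ k ∈ b.support, (f k : ℤ) := Finset.sum_nonneg (fun k _ => by positivity)
        omega
    · exact le_rfl

end Groth.Agent.S11243
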