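import Groth.Statements.S11249
import Mathlib

set_option autoImplicit false
universe u
open W4bk4grassmannian

namespace Groth.Agent.S11249

theorem ext_h (K : Type u) [Field K] (d n : ℕ) (A A' : Matrix (Fin n) (Fin d) K) (c : K)
    (h : ∀ θ : Idx d n, (A.submatrix θ.1 id).det = c * (A'.submatrix θ.1 id).det)
    (a : Fin d → Fin n) :
    (A.submatrix a id).det = c * (A'.submatrix a id).det := by
  by_cases ha : Function.Injective a
  · obtain ⟨σ, hσ⟩ : ∃ σ : Equiv.Perm (Fin d), σ = Tuple.sort a := ⟨_, rfl⟩
    have hmono : Monotone (a ∘ σ) := by rw [hσ]; exact Tuple.monotone_sort a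
    have hsm : StrictMono (a ∘ σ) := hmono.strictMono_of_injective (ha.comp σ.injective)
    have key : ∀ B : Matrix (Fin n) (Fin d) K,
        (B.submatrix (a ∘ σ) id).det = Equiv.Perm.sign σ * (B.submatrix a id).det := by
      intro B
      have h0 : B.submatrix (a ∘ σ) id = (B.submatrix a id).submatrix σ id := rfl
      rw [h0, Matrix.det_permute]
    have h1 := h ⟨a ∘ σ, hsm⟩
    rw [key A, key A'] at h1
    rcases Int.units_eq_one_or (Equiv.Perm.sign σ) with hs | hs
    · rw [hs] at h1
      have h2 : (((1 : ℤˣ) : ℤ) : K) = 1 := by norm_num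
      rw [h2, one_mul, one_mul] at h1
      exact h1
    · rw [hs] at h1
      have h2 : (((-1 : ℤˣ) : ℤ) : K) = -1 := by norm_num
      rw [h2] at h1
      linear_combination -h1
  · have key : ∀ B : Matrix (Fin n) (Fin d) K, (B.submatrix a id).det = 0 := by
      intro B
      obtain ⟨i, j, hij, hne⟩ : ∃ i j, a i = a j ∧ i ≠ j := by
        rw [Function.Injective] at ha
        push_neg at ha
        exact ha
      apply Matrix.det_zero_of_row_eq hne
      funext l
      rw [Matrix.submatrix_apply, Matrix.submatrix_apply, hij]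
    rw [key A, key A', mul_zero]

theorem exists_minor (K : Type u) [Field K] (d n : ℕ) (A : Matrix (Fin n) (Fin d) K)
    (hA : LinearIndependent K A.transpose) :
    ∃ a : Fin d → Fin n, (A.submatrix a id).det ≠ 0 := by
  classical
  have hinj : Function.Injective A.mulVec := Matrix.mulVec_injective_iff.mpr hA
  have hker : LinearMap.ker (Matrix.toLin' A) = ⊥ := by
    apply LinearMap.ker_eq_bot.mpr
    intro x y hxy
    rw [Matrix.toLin'_apply, Matrix.toLin'_apply] at hxy
    exact hinj hxy
  obtain ⟨g, hg⟩ := LinearMap.exists_leftInverse_of_injective (Matrix.toLin' A) hker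
  obtain ⟨G, hG⟩ : ∃ G : Matrix (Fin d) (Fin n) K, G = LinearMap.toMatrix' g := ⟨_, rfl⟩
  have hGA : G * A = 1 := by
    have h0 := congrArg LinearMap.toMatrix' hg
    rw [LinearMap.toMatrix'_comp, LinearMap.toMatrix'_toLin', LinearMap.toMatrix'_id] at h0
    rw [hG]
    exact h0
  by_contra hcon
  push_neg at hcon
  have hexp : (Matrix.detRowAlternating (R := K) (n := Fin d)) (fun i => ∑ r, G i r • A r) =
      ∑ a : Fin d → Fin n, (∏ i, G i (a i)) • (A.submatrix a id).det := by
    have h2 := MultilinearMap.map_sum
      (Matrix.detRowAlternating (R := K) (n := Fin d)).toMultilinearMap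
      (fun (i : Fin d) (r : Fin n) => G i r • A r)
    refine h2.trans ?_
    apply Finset.sum_congr rfl
    intro a _
    exact MultilinearMap.map_smul_univ _ (fun i => G i (a i)) (fun i => A (a i))
  have h1 : (G * A).det = 0 := by
    have hrows : G * A = fun i => ∑ r, G i r • A r := by
      funext i j
      rw [Matrix.mul_apply, Finset.sum_apply]
      rfl
    show Matrix.detRowAlternating (G * A) = 0
    rw [hrows, hexp]
    apply Finset.sum_eq_zero
    intro a _
    rw [hcon a, smul_zero]
  rw [hGA, Matrix.det_one] at h1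
  exact one_ne_zero h1

theorem cramer_row {K : Type u} [Field K] {d : ℕ} (M : Matrix (Fin d) (Fin d) K)
    (w : Fin d → K) (l : Fin d) :
    ∑ j, (M.updateRow j w).det * M j l = M.det * w l := by
  have h := congrFun (Matrix.mulVec_cramer M.transpose w) l
  rw [Matrix.det_transpose, Pi.smul_apply, smul_eq_mul] at h
  rw [← h]
  show _ = ∑ j, M.transpose l j * Matrix.cramer M.transpose w j
  apply Finset.sum_congr rfl
  intro j _
  rw [Matrix.cramer_transpose_apply, Matrix.transpose_apply, mul_comm]

theorem col_mem {K : Type u} [Field K] {d n : ℕ} (Z : Matrix (Fin n) (Fin d) K)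
    (P : Matrix (Fin d) (Fin d) K) (l : Fin d) :
    (Z * P).transpose l ∈ Submodule.span K (Set.range Z.transpose) := by
  have h0 : (Z * P).transpose l = ∑ t, P t l • Z.transpose t := by
    funext r
    rw [Matrix.transpose_apply, Matrix.mul_apply, Finset.sum_apply]
    apply Finset.sum_congr rfl
    intro t _
    rw [Pi.smul_apply, Matrix.transpose_apply, smul_eq_mul, mul_comm]
  rw [h0]
  exact Submodule.sum_mem _ (fun t _ => Submodule.smul_mem _ _ (Submodule.subset_span ⟨t, rfl⟩))

theorem one_dir (K : Type u) [Field K] (d n : ℕ) (A A' : Matrix (Fin n) (Fin d) K) (c : K)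
    (hc : c ≠ 0)
    (h : ∀ a : Fin d → Fin n, (A.submatrix a id).det = c * (A'.submatrix a id).det)
    (a : Fin d → Fin n) (ha : (A'.submatrix a id).det ≠ 0) :
    Submodule.span K (Set.range A.transpose) ≤ Submodule.span K (Set.range A'.transpose) := by
  classical
  obtain ⟨M, hM⟩ : ∃ M : Matrix (Fin d) (Fin d) K, M = A.submatrix a id := ⟨_, rfl⟩
  obtain ⟨M', hM'⟩ : ∃ M' : Matrix (Fin d) (Fin d) K, M' = A'.submatrix a id := ⟨_, rfl⟩
  have hdet : M.det = c * M'.det := by rw [hM, hM']; exact h a
  have hD' : M'.det ≠ 0 := by rw [hM']; exact ha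
  have hupd : ∀ (B : Matrix (Fin n) (Fin d) K) (r : Fin n) (j : Fin d),
      (B.submatrix a id).updateRow j (B r) = B.submatrix (Function.update a j r) id := by
    intro B r j
    ext i l
    by_cases hij : i = j
    · rw [hij, Matrix.updateRow_self, Matrix.submatrix_apply, Function.update_self]
      rfl
    · rw [Matrix.updateRow_ne hij, Matrix.submatrix_apply, Matrix.submatrix_apply,
        Function.update_of_ne hij]
  have hy : ∀ r j, (M.updateRow j (A r)).det = c * (M'.updateRow j (A' r)).det := by
    intro r j
    rw [hM, hM', hupd A r j, hupd A' r j]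
    exact h _
  obtain ⟨Z, hZ⟩ : ∃ Z : Matrix (Fin n) (Fin d) K,
      Z = Matrix.of fun r j => (M'.updateRow j (A' r)).det / M'.det := ⟨_, rfl⟩
  have hZv : ∀ r j, Z r j = (M'.updateRow j (A' r)).det / M'.det := by
    intro r j; rw [hZ]; rfl
  have hI : Z * M' = A' := by
    ext r l
    rw [Matrix.mul_apply]
    have h1 := cramer_row M' (A' r) l
    have h2 : ∑ j, Z r j * M' j l = (∑ j, (M'.updateRow j (A' r)).det * M' j l) / M'.det := by
      rw [Finset.sum_div]
      apply Finset.sum_congr rfl
      intro j _
      rw [hZv r j]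
      ring
    rw [h2, h1, mul_div_cancel_left₀ _ hD']
  have hII : Z * M = A := by
    ext r l
    rw [Matrix.mul_apply]
    have h1 := cramer_row M (A r) l
    have h2 : ∑ j, Z r j * M j l = (∑ j, (M.updateRow j (A r)).det * M j l) / M.det := by
      rw [Finset.sum_div]
      apply Finset.sum_congr rfl
      intro j _
      rw [hZv r j, hy r j, hdet]
      field_simp
    have hD : M.det ≠ 0 := by rw [hdet]; exact mul_ne_zero hc hD'
    rw [h2, h1, mul_div_cancel_left₀ _ hD]
  have hZ2 : Z = A' * M'⁻¹ := by
    rw [← hI, Matrix.mul_nonsing_inv_cancel_right _ _ (isUnit_iff_ne_zero.mpr hD')]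
  have hA2 : A = A' * (M'⁻¹ * M) := by
    rw [← Matrix.mul_assoc, ← hZ2, hII]
  rw [Submodule.span_le]
  rintro _ ⟨l, rfl⟩
  rw [hA2]
  exact col_mem A' (M'⁻¹ * M) l


open W4bk4grassmannian in
/-- Injectivity of the Plücker map, in matrix form: let K be a field, A and A' two n × d matrices over K
with linearly independent columns, and suppose there is a nonzero scalar c with det A_θ = c · det
A'_θ for every strictly increasing d-tuple θ of row indices (A_θ the d × d submatrix on the rows θ).
Then the columns of A and of A' span the same subspace of K^n. (The published statement is over an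
algebraically closed field; this row allows any field K.) -/
theorem result (K : Type u) [Field K] (d n : ℕ)
    (A A' : Matrix (Fin n) (Fin d) K) (hA : LinearIndependent K A.transpose)
    (hA' : LinearIndependent K A'.transpose) (c : K) (hc : c ≠ 0)
    (h : ∀ θ : Idx d n, (A.submatrix θ.1 id).det = c * (A'.submatrix θ.1 id).det) :
    Submodule.span K (Set.range A.transpose) = Submodule.span K (Set.range A'.transpose) := by
  have hext := ext_h K d n A A' c h
  obtain ⟨a, ha⟩ := exists_minor K d n A' hA'
  have ha2 : (A.submatrix a id).det ≠ 0 := by rw [hext a]; exact mul_ne_zero hc ha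
  apply le_antisymm
  · exact one_dir K d n A A' c hc hext a ha
  · apply one_dir K d n A' A c⁻¹ (inv_ne_zero hc) _ a ha2
    intro b
    rw [hext b, ← mul_assoc, inv_mul_cancel₀ hc, one_mul]


end Groth.Agent.S11249
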