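import Groth.Statements.S11251
import Mathlib
import Groth.Agent.Lib.Helper10.SMT3

set_option autoImplicit false
universe u
open W4bk4grassmannian

namespace Groth.Agent.S11251

set_option linter.style.haveILetI false
open MvPolynomial Groth.Agent.Lib.helper10.SMT

theorem main (K : Type u) [CommRing K] (d n : ℕ) :
    Submodule.span K (Set.range fun c : (Σ m : ℕ, {c : Fin m → Idx d n // Antitone c}) =>
        Ideal.Quotient.mk (plIdealTop (d := d) (n := n) K) (chainMon K c.2.1)) = ⊤ := by
  rw [eq_top_iff]
  intro x _
  obtain ⟨f, rfl⟩ := Ideal.Quotient.mk_surjective x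
  obtain ⟨g, hg, hfg⟩ := exists_std_sub_mem K f
  have h1 : Ideal.Quotient.mk (plIdealTop (d := d) (n := n) K) f =
      Ideal.Quotient.mk (plIdealTop (d := d) (n := n) K) g :=
    Ideal.Quotient.eq.2 hfg
  rw [h1]
  have h2 : (Ideal.Quotient.mkₐ K (plIdealTop (d := d) (n := n) K)).toLinearMap g ∈
      Submodule.map (Ideal.Quotient.mkₐ K (plIdealTop (d := d) (n := n) K)).toLinearMap
        (stdPoly (d := d) (n := n) K) := Submodule.mem_map_of_mem hg
  unfold stdPoly at h2
  rw [Submodule.map_span, ← Set.range_comp] at h2
  exact h2



open W4bk4grassmannian in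
/-- Let K be a commutative ring, d, n natural numbers, S = K[X_θ : θ ∈ I(d,n)] the Plücker polynomial
ring on the strictly increasing maps Fin d → Fin n (ordered entrywise), and I ⊆ S the ideal
generated by the quadratic shuffle relations at pivots. Then the classes in S/I of the standard
monomials, the products X_{τ_1} ⋯ X_{τ_m} over all m ≥ 0 and all chains τ_1 ≥ ⋯ ≥ τ_m, span S/I as a
K-module. (The published statement is over an algebraically closed field; this row allows any
commutative ring K, the straightening argument being formal.) -/
theorem result (K : Type u) [CommRing K] (d n : ℕ) :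
    Submodule.span K (Set.range fun c : (Σ m : ℕ, {c : Fin m → Idx d n // Antitone c}) =>
        Ideal.Quotient.mk (plIdealTop (d := d) (n := n) K) (chainMon K c.2.1)) = ⊤ := by
  exact main K d n

end Groth.Agent.S11251
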