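import Groth.Statements.S11256
import Mathlib
import Groth.Agent.Lib.Helper10.QPl2

set_option autoImplicit false
universe u
open W4bk4grassmannian

namespace Groth.Agent.S11256

set_option linter.style.haveILetI false
open MvPolynomial Groth.Agent.Lib.helper10.QPl Groth.Agent.Lib.helper10.SMT
  Groth.Agent.Lib.helper10.DetV

theorem eval_quadric {K : Type u} [Field K] {e n : ℕ} (q : Idx (e + 1) n → K) (i' : Idx e n)
    (j' : Idx (e + 2) n) :
    MvPolynomial.eval q (quadric K i' j') =
      Qd (fun a => MvPolynomial.eval q (coord K (e + 1) n a)) i'.1 j'.1 := by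
  unfold quadric Qd
  rw [map_sum]
  apply Finset.sum_congr rfl
  intro h _
  rw [map_mul, map_mul, map_pow, map_neg, map_one]

theorem dir1 (K : Type u) [Field K] (e n : ℕ) (q : Idx (e + 1) n → K)
    (A : Matrix (Fin n) (Fin (e + 1)) K) (hA : ∀ θ : Idx (e + 1) n, q θ = (A.submatrix θ.1 id).det)
    (i' : Idx e n) (j' : Idx (e + 2) n) : MvPolynomial.eval q (quadric K i' j') = 0 := by
  have hq : q = fun θ : Idx (e + 1) n => (A.submatrix θ.1 id).det := funext hA
  have h1 : ∀ f : PlRing K (e + 1) n, MvPolynomial.eval q f = evalMinors K (e + 1) n A f := by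
    intro f
    rw [hq]
    rfl
  rw [eval_quadric]
  unfold Qd
  have h2 := plucker_minors A i'.1 j'.1
  rw [← h2]
  apply Finset.sum_congr rfl
  intro h _
  dsimp only
  rw [h1, h1, evalMinors_coord, evalMinors_coord]

theorem det_one_updateRow {K : Type u} [CommRing K] {d : ℕ} (k : Fin d) (v : Fin d → K) :
    ((1 : Matrix (Fin d) (Fin d) K).updateRow k v).det = v k := by
  rw [← Matrix.cramer_transpose_apply, Matrix.transpose_one, Matrix.cramer_one]
  rfl

theorem dir2 (K : Type u) [Field K] (e n : ℕ) (q : Idx (e + 1) n → K) (hq : q ≠ 0)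
    (hquad : ∀ (i' : Idx e n) (j' : Idx (e + 2) n), MvPolynomial.eval q (quadric K i' j') = 0) :
    ∃ A : Matrix (Fin n) (Fin (e + 1)) K, ∀ θ : Idx (e + 1) n, q θ = (A.submatrix θ.1 id).det := by
  classical
  obtain ⟨F, hFdef⟩ : ∃ F : (Fin (e + 1) → Fin n) → K,
      F = fun a => MvPolynomial.eval q (coord K (e + 1) n a) := ⟨_, rfl⟩
  have hF : IsAlt F := by rw [hFdef]; exact isAlt_coord q
  have hFθ : ∀ θ : Idx (e + 1) n, F θ.1 = q θ := by
    intro θ
    rw [hFdef]
    dsimp only
    rw [coord_idx, eval_X]
  have hFq : ∀ (i' : Idx e n) (j' : Idx (e + 2) n), Qd F i'.1 j'.1 = 0 := by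
    intro i' j'
    rw [hFdef, ← eval_quadric]
    exact hquad i' j'
  obtain ⟨θ₀, hθ₀⟩ : ∃ θ₀, q θ₀ ≠ 0 := by
    by_contra hcon
    push Not at hcon
    exact hq (funext hcon)
  obtain ⟨p, hp⟩ : ∃ p : Fin (e + 1) → Fin n, p = θ₀.1 := ⟨_, rfl⟩
  have hpinj : Function.Injective p := by rw [hp]; exact θ₀.2.injective
  have hFp : F p ≠ 0 := by rw [hp, hFθ]; exact hθ₀
  obtain ⟨A', hA'⟩ : ∃ A' : Matrix (Fin n) (Fin (e + 1)) K,
      A' = Matrix.of fun s k => F (Function.update p k s) / F p := ⟨_, rfl⟩
  obtain ⟨G, hGdef⟩ : ∃ G : (Fin (e + 1) → Fin n) → K,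
      G = fun a => F p * (A'.submatrix a id).det := ⟨_, rfl⟩
  have hG : IsAlt G := by
    have h1 := isAlt_minors A'
    constructor
    · intro a ha
      rw [hGdef]
      dsimp only
      rw [h1.zero_of_card a ha, mul_zero]
    · intro a σ
      rw [hGdef]
      dsimp only
      rw [h1.perm a σ]
      ring
  have hGq : ∀ (i' : Idx e n) (j' : Idx (e + 2) n), Qd G i'.1 j'.1 = 0 := by
    intro i' j'
    unfold Qd
    have h2 := plucker_minors A' i'.1 j'.1
    have h3 : ∑ h : Fin (e + 2), (-1) ^ (h.val + 1) * G (Fin.snoc i'.1 (j'.1 h)) *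
        G (j'.1 ∘ h.succAbove) = F p * F p * ∑ h : Fin (e + 2), (-1) ^ (h.val + 1) *
        (A'.submatrix (Fin.snoc i'.1 (j'.1 h)) id).det *
        (A'.submatrix (j'.1 ∘ h.succAbove) id).det := by
      rw [Finset.mul_sum]
      apply Finset.sum_congr rfl
      intro h _
      rw [hGdef]
      ring
    rw [h3, h2, mul_zero]
  -- the rows `p` of `A'` form the identity matrix
  have hrow : ∀ i k : Fin (e + 1), A' (p i) k = (1 : Matrix (Fin (e + 1)) (Fin (e + 1)) K) i k := by
    intro i k
    rw [hA', Matrix.of_apply, Matrix.one_apply]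
    by_cases hik : i = k
    · rw [if_pos hik, hik, Function.update_eq_self, div_self hFp]
    · rw [if_neg hik]
      have hcard : (Finset.univ.image (Function.update p k (p i))).card ≠ e + 1 := by
        intro hc
        have hinj := injective_of_card_image _ hc
        have h1 : Function.update p k (p i) k = Function.update p k (p i) i := by
          rw [Function.update_self, Function.update_of_ne hik]
        exact hik (hinj h1).symm
      rw [hF.zero_of_card _ hcard, zero_div]
  have hpeq : F p = G p := by
    rw [hGdef]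
    dsimp only
    have h1 : A'.submatrix p id = 1 := by
      refine Matrix.ext fun i k => ?_
      rw [Matrix.submatrix_apply, id]
      exact hrow i k
    rw [h1, Matrix.det_one, mul_one]
  have hupd : ∀ k s, F (Function.update p k s) = G (Function.update p k s) := by
    intro k s
    rw [hGdef]
    dsimp only
    have h1 : A'.submatrix (Function.update p k s) id =
        (1 : Matrix (Fin (e + 1)) (Fin (e + 1)) K).updateRow k (fun j => A' s j) := by
      refine Matrix.ext fun i j => ?_
      rw [Matrix.submatrix_apply, id]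
      by_cases hik : i = k
      · rw [hik, Function.update_self, Matrix.updateRow_self]
      · rw [Function.update_of_ne hik, Matrix.updateRow_ne hik]
        exact hrow i j
    rw [h1, det_one_updateRow, hA', Matrix.of_apply, mul_div_cancel₀ _ hFp]
  have hFG := eq_of_quadrics hF hG hFq hGq p hpinj hFp hpeq hupd
  obtain ⟨cvec, hcvec⟩ : ∃ cvec : Fin (e + 1) → K, cvec = fun k => if k = 0 then F p else 1 :=
    ⟨_, rfl⟩
  refine ⟨A' * Matrix.diagonal cvec, fun θ => ?_⟩
  rw [← hFθ, hFG, hGdef]
  dsimp only
  have hsub : (A' * Matrix.diagonal cvec).submatrix θ.1 id =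
      A'.submatrix θ.1 id * Matrix.diagonal cvec := by
    have h1 := Matrix.submatrix_mul A' (Matrix.diagonal cvec) θ.1 id (id : Fin (e + 1) → Fin (e + 1))
      Function.bijective_id
    rw [h1, Matrix.submatrix_id_id]
  rw [hsub, Matrix.det_mul, Matrix.det_diagonal, hcvec,
    Finset.prod_ite_eq' Finset.univ (0 : Fin (e + 1)) (fun _ => F p), if_pos (Finset.mem_univ _),
    mul_comm]

theorem main (K : Type u) [Field K] (e n : ℕ)
    (q : Idx (e + 1) n → K) (hq : q ≠ 0) :
    (∀ (i' : Idx e n) (j' : Idx (e + 2) n), MvPolynomial.eval q (quadric K i' j') = 0) ↔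
      ∃ A : Matrix (Fin n) (Fin (e + 1)) K, ∀ θ : Idx (e + 1) n, q θ = (A.submatrix θ.1 id).det := by
  constructor
  · intro h
    exact dir2 K e n q hq h
  · rintro ⟨A, hA⟩ i' j'
    exact dir1 K e n q A hA i' j'



open W4bk4grassmannian in
/-- The Grassmannian is cut out set-theoretically by the Plücker quadrics: let K be a field, e, n
natural numbers, and q : I(e+1,n) → K a nonzero vector (a point of the projective space of the
Plücker embedding of G(e+1,n)). Then q is the vector of (e+1) × (e+1) row-minors of some n × (e+1)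
matrix over K if and only if all the quadrics attached to i' ∈ I(e,n), j' ∈ I(e+2,n) (the signed
sums Σ_h (-1)^(h+1) [i', j'_h] [j' with j'_h removed], brackets of arbitrary tuples meaning signed
sorted coordinates, zero on repeated rows) vanish at q. (The published statement is over an
algebraically closed field; this row allows any field K.) -/
theorem result (K : Type u) [Field K] (e n : ℕ)
    (q : Idx (e + 1) n → K) (hq : q ≠ 0) :
    (∀ (i' : Idx e n) (j' : Idx (e + 2) n), MvPolynomial.eval q (quadric K i' j') = 0) ↔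
      ∃ A : Matrix (Fin n) (Fin (e + 1)) K, ∀ θ : Idx (e + 1) n, q θ = (A.submatrix θ.1 id).det := by
  exact main K e n q hq

end Groth.Agent.S11256
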