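import Groth.Statements.S11257
import Mathlib

set_option autoImplicit false
universe u
open W4bk4grassmannian

namespace Groth.Agent.S11257

open RingTheory.Sequence

section aux
variable {A : Type u} [CommRing A]

/-- membership in `F • ⊤` inside `A ⧸ K` -/
lemma mk_mem_smul_top (K F : Ideal A) (a : A) :
    (Submodule.Quotient.mk a : A ⧸ K) ∈ (F • ⊤ : Submodule A (A ⧸ K)) ↔ a ∈ F ⊔ K := by
  have h1 : (F • ⊤ : Submodule A (A ⧸ K)) = Submodule.map (Submodule.mkQ K) F := by
    have h2 : (⊤ : Submodule A (A ⧸ K)) = Submodule.map (Submodule.mkQ K) ⊤ := by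
      rw [Submodule.map_top, Submodule.range_mkQ]
    rw [h2, ← Submodule.map_smul'', smul_eq_mul, Ideal.mul_top]
  rw [h1, ← Submodule.mkQ_apply, ← Submodule.mem_comap, Submodule.comap_map_mkQ, sup_comm]

/-- ideal-theoretic criterion for weak regularity on `A ⧸ K` -/
lemma weaklyRegular_iff (K : Ideal A) (rs : List A) :
    IsWeaklyRegular (A ⧸ K) rs ↔ ∀ i (h : i < rs.length), ∀ a : A,
      rs[i] * a ∈ Ideal.ofList (rs.take i) ⊔ K → a ∈ Ideal.ofList (rs.take i) ⊔ K := by
  rw [isWeaklyRegular_iff]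
  refine forall_congr' fun i => forall_congr' fun h => ?_
  rw [isSMulRegular_quotient_iff_mem_of_smul_mem]
  constructor
  · intro H a ha
    have := H (Submodule.Quotient.mk a) (by
      rw [← Submodule.Quotient.mk_smul, mk_mem_smul_top, smul_eq_mul]; exact ha)
    rwa [mk_mem_smul_top] at this
  · intro H x hx
    obtain ⟨a, rfl⟩ := Submodule.Quotient.mk_surjective K x
    rw [← Submodule.Quotient.mk_smul, mk_mem_smul_top, smul_eq_mul] at hx
    rw [mk_mem_smul_top]
    exact H a hx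

/-- the key inductive step -/
lemma step (F I J : Ideal A) (g : A)
    (hreg : ∀ a, g * a ∈ F ⊔ (I ⊔ J) → a ∈ F ⊔ (I ⊔ J))
    (ih : (F ⊔ I) ⊓ (F ⊔ J) ≤ F ⊔ I ⊓ J) :
    (F ⊔ Ideal.span {g} ⊔ I) ⊓ (F ⊔ Ideal.span {g} ⊔ J) ≤ F ⊔ Ideal.span {g} ⊔ I ⊓ J := by
  rintro z ⟨hz1, hz2⟩
  obtain ⟨s1, hs1, x, hx, rfl⟩ := Submodule.mem_sup.1 hz1
  obtain ⟨u, hu, ga, hga, rfl⟩ := Submodule.mem_sup.1 hs1
  obtain ⟨a, rfl⟩ := Ideal.mem_span_singleton'.1 hga
  obtain ⟨s2, hs2, y, hy, hzy⟩ := Submodule.mem_sup.1 hz2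
  obtain ⟨v, hv, gb, hgb, rfl⟩ := Submodule.mem_sup.1 hs2
  obtain ⟨b, rfl⟩ := Ideal.mem_span_singleton'.1 hgb
  -- g (a - b) ∈ F + I + J
  have h1 : g * (a - b) ∈ F ⊔ (I ⊔ J) := by
    have : g * (a - b) = (v - u) + (-x + y) := by
      have := hzy
      linear_combination -this
    rw [this]
    exact Submodule.add_mem_sup (F.sub_mem hv hu)
      (Submodule.add_mem_sup (I.neg_mem hx) hy)
  obtain ⟨w, hw, xy, hxy, hab⟩ := Submodule.mem_sup.1 (hreg _ h1)
  obtain ⟨x', hx', y', hy', rfl⟩ := Submodule.mem_sup.1 hxy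
  -- c = a - x'
  have hc1 : u + a * g + x - g * (a - x') ∈ F ⊔ I := by
    have : u + a * g + x - g * (a - x') = u + (g * x' + x) := by ring
    rw [this]
    exact Submodule.add_mem_sup hu (I.add_mem (I.mul_mem_left g hx') hx)
  have hc2 : u + a * g + x - g * (a - x') ∈ F ⊔ J := by
    have : u + a * g + x - g * (a - x') = (v - g * w) + (y - g * y') := by
      linear_combination (-1 : A) * hzy + g * hab
    rw [this]
    exact Submodule.add_mem_sup (F.sub_mem hv (F.mul_mem_left g hw))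
      (J.sub_mem hy (J.mul_mem_left g hy'))
  obtain ⟨t, ht, m, hm, htm⟩ := Submodule.mem_sup.1 (ih ⟨hc1, hc2⟩)
  have : u + a * g + x = (t + (a - x') * g) + m := by
    linear_combination -htm
  rw [this]
  exact Submodule.add_mem_sup
    (Submodule.add_mem_sup ht (Ideal.mem_span_singleton'.2 ⟨a - x', rfl⟩)) hm

end aux


/-- Let A be a Noetherian local integral domain with maximal ideal m, I and J ideals of A, d ≥ 1, and
f_1, …, f_d ∈ m. Assume depth A/(I+J) ≥ d - 1, depth A/I ≥ d and depth A/J ≥ d (depths of the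
quotients as A-modules), that f_1, …, f_d is a regular sequence on A/I and on A/J, and that f_1, …,
f_{d-1} is a regular sequence on A/(I+J). Then f_1, …, f_d is a regular sequence on A/(I ∩ J). -/
theorem result (A : Type u) [CommRing A] [IsDomain A]
    [IsNoetherianRing A] [IsLocalRing A] (I J : Ideal A) (d : ℕ) (hd : 0 < d) (f : Fin d → A)
    (hf : ∀ k, f k ∈ IsLocalRing.maximalIdeal A)
    (hIJd : ((d - 1 : ℕ) : ℕ∞) ≤ LocCoh.depth A (A ⧸ (I ⊔ J)))
    (hId : (d : ℕ∞) ≤ LocCoh.depth A (A ⧸ I)) (hJd : (d : ℕ∞) ≤ LocCoh.depth A (A ⧸ J))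
    (hI : RingTheory.Sequence.IsRegular (A ⧸ I) (List.ofFn f))
    (hJ : RingTheory.Sequence.IsRegular (A ⧸ J) (List.ofFn f))
    (hIJ : RingTheory.Sequence.IsRegular (A ⧸ (I ⊔ J)) ((List.ofFn f).take (d - 1))) :
    RingTheory.Sequence.IsRegular (A ⧸ (I ⊓ J)) (List.ofFn f) := by
  classical
  have hlen : (List.ofFn f).length = d := List.length_ofFn
  have cI := (weaklyRegular_iff I (List.ofFn f)).1 hI.toIsWeaklyRegular
  have cJ := (weaklyRegular_iff J (List.ofFn f)).1 hJ.toIsWeaklyRegular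
  have cIJ := (weaklyRegular_iff (I ⊔ J) ((List.ofFn f).take (d - 1))).1 hIJ.toIsWeaklyRegular
  have claim : ∀ i, i ≤ d - 1 →
      (Ideal.ofList ((List.ofFn f).take i) ⊔ I) ⊓ (Ideal.ofList ((List.ofFn f).take i) ⊔ J) ≤
        Ideal.ofList ((List.ofFn f).take i) ⊔ I ⊓ J := by
    intro i
    induction i with
    | zero =>
      intro _
      simp
    | succ i ih =>
      intro hi
      have hi' : i < (List.ofFn f).length := by omega
      have hi2 : i < ((List.ofFn f).take (d - 1)).length := by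
        rw [List.length_take]; omega
      rw [List.take_succ_eq_append_getElem hi', Ideal.ofList_append, Ideal.ofList_singleton]
      apply step _ I J _ ?_ (ih (by omega))
      intro a ha
      have h1 := cIJ i hi2 a
      rw [List.getElem_take, List.take_take, min_eq_left (by omega)] at h1
      exact h1 ha
  have hw : IsWeaklyRegular (A ⧸ (I ⊓ J)) (List.ofFn f) := by
    rw [weaklyRegular_iff]
    intro i h a ha
    have hi : i ≤ d - 1 := by omega
    apply claim i hi
    have hL : Ideal.ofList ((List.ofFn f).take i) ⊔ I ⊓ J ≤ Ideal.ofList ((List.ofFn f).take i) ⊔ I :=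
      sup_le_sup_left inf_le_left _
    have hR : Ideal.ofList ((List.ofFn f).take i) ⊔ I ⊓ J ≤ Ideal.ofList ((List.ofFn f).take i) ⊔ J :=
      sup_le_sup_left inf_le_right _
    exact ⟨cI i h a (hL ha), cJ i h a (hR ha)⟩
  have hnt : Nontrivial (A ⧸ (I ⊓ J)) := by
    have h1 : Nontrivial (A ⧸ I) := hI.nontrivial
    rw [Ideal.Quotient.nontrivial_iff] at h1 ⊢
    intro h
    apply h1
    rw [eq_top_iff, ← h]
    exact inf_le_left
  refine IsRegular.of_isWeaklyRegular_of_mem_maximalIdeal _ ?_ hw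
  intro r hr
  obtain ⟨k, rfl⟩ := (List.mem_ofFn' f r).1 hr
  exact hf k

end Groth.Agent.S11257
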