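import Groth.Statements.S1126
import Mathlib
-- import your own Groth.Agent.* helpers here

set_option autoImplicit false
open CategoryTheory CategoryTheory.Limits AlgebraicGeometry Opposite
universe u
open Desc

namespace Groth.Agent.S1126

/-- If the base change of a morphism along a quasi-compact flat surjective morphism to its target is a
universal homeomorphism, then the morphism is a universal homeomorphism. (Stated for a single
quasi-compact flat surjective base change; combined with Zariski-locality on the target this gives
the fpqc-local form.) -/
theorem result :
    MorphismProperty.DescendsAlong (FlatMor.IsUnivHomeo.{u})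
      (@Surjective ⊓ @Flat ⊓ @QuasiCompact : MorphismProperty Scheme.{u}) := by
  have key : ∀ {X Y : Scheme.{u}} (f : X ⟶ Y), FlatMor.IsUnivHomeo f ↔
      (UniversallyInjective f ∧ UniversallyOpen f ∧ Surjective f) := by
    intro X Y f
    constructor
    · intro h
      refine ⟨⟨?_⟩, ⟨?_⟩, ⟨?_⟩⟩
      · exact MorphismProperty.universally_mono (fun _ _ g (hg : IsHomeomorph _) => hg.injective) _ h
      · exact MorphismProperty.universally_mono (fun _ _ g (hg : IsHomeomorph _) => hg.isOpenMap) _ h
      · exact (MorphismProperty.universally_le _ _ h : IsHomeomorph _).surjective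
    · rintro ⟨h1, h2, h3⟩
      intro X' Y' i₁ i₂ f' hpb
      have hs : Surjective f' := MorphismProperty.of_isPullback hpb.flip h3
      exact ⟨f'.continuous, h2.universally_isOpenMap _ _ _ hpb,
        h1.universally_injective _ _ _ hpb, hs.surj⟩
  constructor
  intro A X Y Z fst snd f g h hf hfst
  rw [key] at hfst ⊢
  obtain ⟨h1, h2, h3⟩ := hfst
  exact ⟨MorphismProperty.of_isPullback_of_descendsAlong (P := @UniversallyInjective) h hf h1,
    MorphismProperty.of_isPullback_of_descendsAlong (P := @UniversallyOpen) h hf h2,
    MorphismProperty.of_isPullback_of_descendsAlong (P := @Surjective) h hf h3⟩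

end Groth.Agent.S1126
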