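import Groth.Statements.S11262
import Mathlib

set_option autoImplicit false
universe u v
open W4bk4grassmannian

namespace Groth.Agent.S11262

section aux
open MvPolynomial Finset


theorem key {K σ : Type*} [Field K] (S : Set (σ →₀ ℕ)) (m : ℕ) (G : Finset (σ →₀ ℕ))
    (hG : ∀ e, e ∈ G ↔ e.degree = m ∧ ∀ s ∈ S, ¬ s ≤ e) :
    Module.finrank K ((homogeneousSubmodule σ K m).map
      (Ideal.Quotient.mkₐ K (Ideal.span ((fun s => monomial s (1:K)) '' S))).toLinearMap) = G.card := by
  classical
  set I := Ideal.span ((fun s => monomial s (1:K)) '' S) with hI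
  set π := (Ideal.Quotient.mkₐ K I).toLinearMap with hπ
  have hπ0 : ∀ p, π p = 0 ↔ p ∈ I := fun p => by
    simp [hπ, Ideal.Quotient.eq_zero_iff_mem]
  have hmon : ∀ (e : σ →₀ ℕ) (c : K), monomial e c = c • monomial e (1:K) := by
    intro e c; rw [smul_monomial, smul_eq_mul, mul_one]
  let v : G → MvPolynomial σ K ⧸ I := fun e => π (monomial e.1 1)
  have hli : LinearIndependent K v := by
    rw [linearIndependent_iff']
    intro t g hsum i hi
    by_contra hgi
    set p : MvPolynomial σ K := ∑ j ∈ t, monomial j.1 (g j) with hp
    have hpI : p ∈ I := by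
      rw [← hπ0, hp, map_sum, ← hsum]
      refine Finset.sum_congr rfl fun j _ => ?_
      rw [hmon, map_smul]
    rw [hI, mem_ideal_span_monomial_image] at hpI
    have hcoeff : coeff i.1 p = g i := by
      rw [hp, coeff_sum]
      rw [Finset.sum_eq_single i]
      · simp
      · intro j _ hji
        rw [coeff_monomial, if_neg]
        intro h; exact hji (Subtype.ext h)
      · intro h; exact absurd hi h
    have hsupp : i.1 ∈ p.support := by
      rw [mem_support_iff, hcoeff]; exact hgi
    obtain ⟨s, hs, hle⟩ := hpI i.1 hsupp
    exact ((hG i.1).1 i.2).2 s hs hle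
  have hspan : (homogeneousSubmodule σ K m).map π = Submodule.span K (Set.range v) := by
    apply le_antisymm
    · rintro _ ⟨p, hp, rfl⟩
      have hp' : p.IsHomogeneous m := hp
      rw [← support_sum_monomial_coeff p, map_sum]
      refine Submodule.sum_mem _ fun d hd => ?_
      by_cases hgood : ∀ s ∈ S, ¬ s ≤ d
      · have hdeg : d.degree = m := by
          have := hp' (mem_support_iff.mp hd)
          rwa [Finsupp.degree_eq_weight_one]
        have hdG : d ∈ G := (hG d).2 ⟨hdeg, hgood⟩
        rw [hmon, map_smul]
        exact Submodule.smul_mem _ _ (Submodule.subset_span ⟨⟨d, hdG⟩, rfl⟩)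
      · push Not at hgood
        obtain ⟨s, hs, hle⟩ := hgood
        have : monomial d (coeff d p) ∈ I := by
          rw [hI, mem_ideal_span_monomial_image]
          intro x hx
          have := support_monomial_subset hx
          rw [Finset.mem_singleton] at this
          exact ⟨s, hs, this ▸ hle⟩
        rw [(hπ0 _).2 this]
        exact Submodule.zero_mem _
    · rw [Submodule.span_le]
      rintro _ ⟨e, rfl⟩
      refine ⟨monomial e.1 1, ?_, rfl⟩
      have := (hG e.1).1 e.2
      show (monomial e.1 (1:K)).IsHomogeneous m
      have h2 := isHomogeneous_monomial (R := K) (d := e.1) (n := m) (1:K) (by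
        exact this.1)
      exact h2
  rw [hspan, finrank_span_eq_card hli, Fintype.card_coe]


theorem fiber_card {L : Type*} [DecidableEq L] [Fintype L] (C : Finset L) (hC : C.Nonempty) (m : ℕ)
    (hm : 1 ≤ m) :
    ((Finset.univ.finsuppAntidiag m).filter (fun e : L →₀ ℕ => e.support = C)).card
      = Nat.choose (m - 1) (C.card - 1) := by
  have hCpos : 1 ≤ C.card := Finset.card_pos.mpr hC
  by_cases hle : C.card ≤ m
  · set one : L →₀ ℕ := Finsupp.indicator C (fun _ _ => 1) with hone
    have hone_in : ∀ a ∈ C, one a = 1 := fun a ha => by simp [hone, Finsupp.indicator_apply, ha]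
    have hone_out : ∀ a ∉ C, one a = 0 := fun a ha => by simp [hone, Finsupp.indicator_apply, ha]
    have hsum_one : ∑ a ∈ C, one a = C.card := by
      rw [Finset.sum_congr rfl hone_in]; simp
    have hcard : ((Finset.univ.finsuppAntidiag m).filter (fun e : L →₀ ℕ => e.support = C)).card
        = (C.finsuppAntidiag (m - C.card)).card := by
      refine Finset.card_nbij' (fun e => e - one) (fun e => e + one) ?_ ?_ ?_ ?_
      · intro e he
        simp only [Finset.coe_filter, Set.mem_ofPred_eq, mem_finsuppAntidiag] at he
        obtain ⟨⟨hs, -⟩, hsupp⟩ := he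
        have hge : ∀ a ∈ C, 1 ≤ e a := fun a ha => by
          have : a ∈ e.support := hsupp ▸ ha
          exact Nat.one_le_iff_ne_zero.mpr (Finsupp.mem_support_iff.mp this)
        have hsC : ∑ a ∈ C, e a = m := by
          rw [← hs]
          refine Finset.sum_subset (Finset.subset_univ _) fun a _ ha => ?_
          rw [← hsupp] at ha
          exact Finsupp.notMem_support_iff.mp ha
        simp only [Finset.mem_coe, mem_finsuppAntidiag]
        constructor
        · have : C.sum ⇑(e - one) + C.card = m := by
            show ∑ a ∈ C, (e - one) a + C.card = m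
            rw [← hsum_one, ← Finset.sum_add_distrib, ← hsC]
            refine Finset.sum_congr rfl fun a ha => ?_
            rw [Finsupp.tsub_apply, hone_in a ha]
            exact Nat.sub_add_cancel (hge a ha)
          omega
        · intro a ha
          rw [Finsupp.mem_support_iff, Finsupp.tsub_apply] at ha
          rw [← hsupp, Finsupp.mem_support_iff]
          intro h0; apply ha; rw [h0]; simp
      · intro e he
        simp only [Finset.mem_coe, mem_finsuppAntidiag] at he
        obtain ⟨hs, hsupp⟩ := he
        simp only [Finset.coe_filter, Set.mem_ofPred_eq, mem_finsuppAntidiag]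
        refine ⟨⟨?_, Finset.subset_univ _⟩, ?_⟩
        · have : ∑ a, (e + one) a = ∑ a ∈ C, (e + one) a := by
            symm
            refine Finset.sum_subset (Finset.subset_univ _) fun a _ ha => ?_
            rw [Finsupp.add_apply, hone_out a ha]
            have : a ∉ e.support := fun h => ha (hsupp h)
            simp [Finsupp.notMem_support_iff.mp this]
          show ∑ a, (e + one) a = m
          rw [this]
          simp only [Finsupp.add_apply]
          rw [Finset.sum_add_distrib, hs, hsum_one]
          omega
        · ext a
          rw [Finsupp.mem_support_iff, Finsupp.add_apply]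
          by_cases ha : a ∈ C
          · rw [hone_in a ha]; simp [ha]
          · rw [hone_out a ha]
            have : a ∉ e.support := fun h => ha (hsupp h)
            rw [Finsupp.notMem_support_iff.mp this]; simp [ha]
      · intro e he
        simp only [Finset.coe_filter, Set.mem_ofPred_eq, mem_finsuppAntidiag] at he
        obtain ⟨-, hsupp⟩ := he
        have hle1 : one ≤ e := by
          intro a
          by_cases ha : a ∈ C
          · rw [hone_in a ha]
            have : a ∈ e.support := hsupp ▸ ha
            exact Nat.one_le_iff_ne_zero.mpr (Finsupp.mem_support_iff.mp this)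
          · rw [hone_out a ha]; exact Nat.zero_le _
        exact tsub_add_cancel_of_le hle1
      · intro e _
        exact add_tsub_cancel_right e one
    rw [hcard, Finset.card_finsuppAntidiag_nat_eq_choose]
    have h1 : C.card + (m - C.card) - 1 = m - 1 := by omega
    rw [h1]
    exact Nat.choose_symm_of_eq_add (by omega)
  · push Not at hle
    rw [Nat.choose_eq_zero_of_lt (by omega), Finset.card_eq_zero, Finset.filter_eq_empty_iff]
    intro e he hsupp
    rw [mem_finsuppAntidiag] at he
    have he1 : ∑ a, e a = m := he.1
    have hge : ∀ a ∈ C, 1 ≤ e a := fun a ha => by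
      have : a ∈ e.support := hsupp ▸ ha
      exact Nat.one_le_iff_ne_zero.mpr (Finsupp.mem_support_iff.mp this)
    have h1 : C.card ≤ ∑ a ∈ C, e a := by
      calc C.card = ∑ a ∈ C, 1 := by simp
        _ ≤ ∑ a ∈ C, e a := Finset.sum_le_sum hge
    have h2 : ∑ a ∈ C, e a ≤ ∑ a, e a :=
      Finset.sum_le_sum_of_subset (Finset.subset_univ _)
    omega


end aux


/-- Hilbert function of the Stanley–Reisner ring of a finite distributive lattice: let K be a field, L a
finite distributive lattice, R = K[x_α : α ∈ L], I ⊆ R the ideal generated by the products x_α x_β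
over the incomparable (skew) pairs α, β, and m ≥ 1. Then the image in R/I of the homogeneous
polynomials of degree m has K-dimension equal to the sum, over the nonempty chains C ⊆ L, of the
binomial coefficient (m - 1 choose |C| - 1). (The published statement is that the degree of R/I
equals the number of maximal chains of L; this row states the Hilbert function from which that
degree is read off.) -/
theorem result (K : Type u) [Field K] (L : Type v) [DistribLattice L]
    [Fintype L] (m : ℕ) (hm : 1 ≤ m) :
    Module.finrank K ((MvPolynomial.homogeneousSubmodule L K m).map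
        (Ideal.Quotient.mkₐ K (Ideal.span {f : MvPolynomial L K | ∃ a b : L, ¬ a ≤ b ∧ ¬ b ≤ a ∧
          f = MvPolynomial.X a * MvPolynomial.X b})).toLinearMap) =
      ∑ᶠ C : {C : Finset L // C.Nonempty ∧ IsChain (fun a b : L => a ≤ b) (↑C : Set L)},
        Nat.choose (m - 1) (C.1.card - 1) := by
  classical
  set S : Set (L →₀ ℕ) := {s | ∃ a b : L, ¬ a ≤ b ∧ ¬ b ≤ a ∧
    s = Finsupp.single a 1 + Finsupp.single b 1} with hS
  have hgen : {f : MvPolynomial L K | ∃ a b : L, ¬ a ≤ b ∧ ¬ b ≤ a ∧
      f = MvPolynomial.X a * MvPolynomial.X b} = (fun s => MvPolynomial.monomial s (1:K)) '' S := by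
    ext f
    constructor
    · rintro ⟨a, b, hab, hba, rfl⟩
      refine ⟨Finsupp.single a 1 + Finsupp.single b 1, ⟨a, b, hab, hba, rfl⟩, ?_⟩
      show MvPolynomial.monomial _ (1:K) = _
      rw [MvPolynomial.X, MvPolynomial.X, MvPolynomial.monomial_mul, mul_one]
    · rintro ⟨s, ⟨a, b, hab, hba, rfl⟩, rfl⟩
      refine ⟨a, b, hab, hba, ?_⟩
      show MvPolynomial.monomial _ (1:K) = _
      rw [MvPolynomial.X, MvPolynomial.X, MvPolynomial.monomial_mul, mul_one]
  rw [hgen]
  set G : Finset (L →₀ ℕ) := (Finset.univ.finsuppAntidiag m).filter
    (fun e : L →₀ ℕ => IsChain (fun a b : L => a ≤ b) (e.support : Set L)) with hGdef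
  have hG : ∀ e : L →₀ ℕ, e ∈ G ↔ e.degree = m ∧ ∀ s ∈ S, ¬ s ≤ e := by
    intro e
    rw [hGdef, Finset.mem_filter, Finset.mem_finsuppAntidiag, Finsupp.degree_eq_sum]
    have hchain : IsChain (fun a b : L => a ≤ b) (e.support : Set L) ↔ ∀ s ∈ S, ¬ s ≤ e := by
      constructor
      · rintro hch s ⟨a, b, hab, hba, rfl⟩ hle
        have hne : a ≠ b := fun h => hab (h ▸ le_refl a)
        have ha : a ∈ (e.support : Set L) := by
          rw [Finset.mem_coe, Finsupp.mem_support_iff]
          have := hle a
          simp only [Finsupp.add_apply, Finsupp.single_eq_same] at this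
          omega
        have hb : b ∈ (e.support : Set L) := by
          rw [Finset.mem_coe, Finsupp.mem_support_iff]
          have := hle b
          simp only [Finsupp.add_apply, Finsupp.single_eq_same] at this
          omega
        rcases hch ha hb hne with h | h
        · exact hab h
        · exact hba h
      · intro h a ha b hb hne
        by_contra hcon
        push Not at hcon
        refine h (Finsupp.single a 1 + Finsupp.single b 1) ⟨a, b, hcon.1, hcon.2, rfl⟩ ?_
        intro x
        rw [Finset.mem_coe, Finsupp.mem_support_iff] at ha hb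
        simp only [Finsupp.add_apply, Finsupp.single_apply]
        by_cases hax : a = x
        · subst hax
          rw [if_pos rfl, if_neg (Ne.symm hne)]
          omega
        · rw [if_neg hax]
          by_cases hbx : b = x
          · subst hbx
            rw [if_pos rfl]; omega
          · rw [if_neg hbx]; omega
    rw [hchain]
    constructor
    · rintro ⟨⟨h1, -⟩, h2⟩; exact ⟨h1, h2⟩
    · rintro ⟨h1, h2⟩; exact ⟨⟨h1, Finset.subset_univ _⟩, h2⟩
  rw [key S m G hG]
  -- counting
  set T : Finset (Finset L) := Finset.univ.filter
    (fun C : Finset L => C.Nonempty ∧ IsChain (fun a b : L => a ≤ b) (↑C : Set L)) with hT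
  have hmaps : (G : Set (L →₀ ℕ)).MapsTo Finsupp.support T := by
    intro e he
    rw [Finset.mem_coe, hGdef, Finset.mem_filter, Finset.mem_finsuppAntidiag] at he
    rw [Finset.mem_coe, hT, Finset.mem_filter]
    refine ⟨Finset.mem_univ _, ?_, he.2⟩
    rw [Finset.nonempty_iff_ne_empty]
    intro hemp
    rw [Finsupp.support_eq_empty] at hemp
    have := he.1.1
    rw [hemp] at this
    simp at this
    omega
  rw [Finset.card_eq_sum_card_fiberwise hmaps]
  rw [finsum_eq_sum_of_fintype]
  rw [← Finset.sum_subtype T (p := fun C : Finset L => C.Nonempty ∧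
      IsChain (fun a b : L => a ≤ b) (↑C : Set L)) (fun C => by rw [hT, Finset.mem_filter]; simp)
      (fun C => Nat.choose (m - 1) (C.card - 1))]
  refine Finset.sum_congr rfl fun C hC => ?_
  rw [hT, Finset.mem_filter] at hC
  rw [← fiber_card C hC.2.1 m hm, hGdef, Finset.filter_filter]
  congr 1
  refine Finset.filter_congr fun e _ => ?_
  constructor
  · exact fun h => h.2
  · intro h; exact ⟨h ▸ hC.2.2, h⟩

end Groth.Agent.S11262
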