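import Groth.Statements.S11266
import Mathlib
import Groth.Agent.Lib.Helper10.GLF3

set_option autoImplicit false
universe u
open W4bk4grassmannian

namespace Groth.Agent.S11266

set_option linter.style.haveILetI false
open MvPolynomial Groth.Agent.Lib.helper10.GLF

theorem main (K : Type u) [Field K] [IsAlgClosed K] (m n q : ℕ)
    (f : PairRing K n m q) :
    (∀ A : GL (Fin n) K, glTranslate K n m q A f = f) ↔ f ∈ (pairingMap K n m q).range := by
  constructor
  · intro hf
    exact mem_range_of_invariant K n m q f hf
  · rintro ⟨Φ, rfl⟩ A
    exact glTranslate_pairingMap K n m q A Φ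



open W4bk4grassmannian in
/-- First Fundamental Theorem of invariant theory for the general linear group acting on pairs of
matrices: let K be an algebraically closed field and m, n, q natural numbers; GL_n(K) acts on the
coordinate ring of M_{m,n} × M_{n,q} by (A • f)(U, W) = f(U A⁻¹, A W). Then f is fixed by every A ∈
GL_n(K) if and only if f lies in the image of the comorphism of (U, W) ↦ U W, i.e. f is a polynomial
in the entries Σ_k u_{ik} ξ_{kj} of the product matrix. -/
theorem result (K : Type u) [Field K] [IsAlgClosed K] (m n q : ℕ)
    (f : PairRing K n m q) :
    (∀ A : GL (Fin n) K, glTranslate K n m q A f = f) ↔ f ∈ (pairingMap K n m q).range := by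
  exact main K m n q f

end Groth.Agent.S11266
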