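import Groth.Statements.S11269
import Groth.Agent.Lib.Helper24.SerreNormal4
import Mathlib

set_option autoImplicit false
universe u
open W4bk4grassmannian

namespace Groth.Agent.S11269

open IsLocalRing LocCoh Groth.Agent.Lib.helper26.Depth Groth.Agent.Lib.Helper24.SerreNormal

/-- Let R be a Noetherian integral domain. Then R satisfies Serre's condition (S_2) (depth R_P ≥ min(2,
dim R_P) for all primes P) if and only if, for every nonzero a ∈ R, every associated prime of the
R-module R/(a) has height one. -/
theorem result (R : Type u) [CommRing R] [IsDomain R]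
    [IsNoetherianRing R] :
    LocCoh.HasSk 2 R R ↔
      ∀ a : R, a ≠ 0 → ∀ P : Ideal R, P ∈ associatedPrimes R (R ⧸ Ideal.span {a}) → P.height = 1 := by
  constructor
  · intro hS a ha P hP
    haveI hPp : P.IsPrime := hP.isPrime
    have hreg : IsSMulRegular R a := fun x y hxy => mul_left_cancel₀ ha hxy
    have hP' : P ∈ associatedPrimes R (QuotSMulTop a R) := by
      rw [LinearEquiv.AssociatedPrimes.eq (quotSMulTopEquiv R a)]
      exact hP
    have haP : a ∈ P := by
      apply IsAssociatedPrime.annihilator_le hP
      rw [Submodule.mem_annihilator]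
      intro x _
      obtain ⟨x, rfl⟩ := Ideal.Quotient.mk_surjective x
      rw [Algebra.smul_def, Ideal.Quotient.algebraMap_eq, ← map_mul,
        Ideal.Quotient.eq_zero_iff_mem]
      exact Ideal.mul_mem_right _ _ (Ideal.subset_span rfl)
    obtain ⟨_, hd0⟩ := depth_localization_eq_zero_of_mem_associatedPrimes (QuotSMulTop a R) P hP'
    have hd1 := depth_localization_quotSMulTop P R a haP hreg
    rw [hd0, zero_add] at hd1
    have hS2 := hS P
    rw [← hd1] at hS2
    have hdim : ringKrullDim (Localization.AtPrime P) ≤ 1 := by
      have h3 : Module.supportDim (Localization.AtPrime P) (LocalizedModule P.primeCompl R) =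
          ringKrullDim (Localization.AtPrime P) :=
        Module.supportDim_self_eq_ringKrullDim (R := Localization.AtPrime P)
      rw [h3] at hS2
      rcases min_le_iff.mp hS2 with h4 | h4
      · exfalso
        have h7 : ((2 : ℕ) : ℕ∞) ≤ ((1 : ℕ) : ℕ∞) := WithBot.coe_le_coe.mp h4
        have := Nat.cast_le.mp h7
        omega
      · exact_mod_cast h4
    have hht : P.height ≤ 1 := by
      rw [IsLocalization.AtPrime.ringKrullDim_eq_height P] at hdim
      exact_mod_cast hdim
    have h1 : 1 ≤ P.height := by
      rw [Order.one_le_iff_pos, pos_iff_ne_zero, Ne, Ideal.height_eq_zero_iff_eq_bot]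
      intro h
      rw [h] at haP
      exact ha haP
    exact le_antisymm hht h1
  · intro h p _
    have h3 : Module.supportDim (Localization.AtPrime p) (LocalizedModule p.primeCompl R) =
        ringKrullDim (Localization.AtPrime p) :=
      Module.supportDim_self_eq_ringKrullDim (R := Localization.AtPrime p)
    rw [h3, IsLocalization.AtPrime.ringKrullDim_eq_height p]
    by_cases hp0 : p = ⊥
    · have : p.height = 0 := (Ideal.height_eq_zero_iff_eq_bot).2 hp0
      rw [this]
      refine le_trans (min_le_right _ _) ?_
      exact WithBot.coe_le_coe.mpr (zero_le)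
    · obtain ⟨a, hap, ha0⟩ := Submodule.exists_mem_ne_zero_of_ne_bot hp0
      have hreg : IsSMulRegular R a := fun x y hxy => mul_left_cancel₀ ha0 hxy
      have hd1 := depth_localization_quotSMulTop p R a hap hreg
      by_cases h0 : depth (Localization.AtPrime p)
          (LocalizedModule p.primeCompl (QuotSMulTop a R)) = 0
      · obtain ⟨P', hP', hmP'⟩ := exists_associatedPrime_ge_of_idealDepth_eq_zero
          (maximalIdeal (Localization.AtPrime p))
          (LocalizedModule p.primeCompl (QuotSMulTop a R)) h0
        have hP'm : P' = maximalIdeal (Localization.AtPrime p) :=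
          le_antisymm (le_maximalIdeal hP'.isPrime.ne_top) hmP'
        have hcomap := Module.associatedPrimes.comap_mem_associatedPrimes_of_mem_associatedPrimes_of_isLocalizedModule_of_fg
          p.primeCompl (LocalizedModule.mkLinearMap p.primeCompl (QuotSMulTop a R)) P' hP'
          (IsNoetherian.noetherian _)
        have hc : Ideal.comap (algebraMap R (Localization.AtPrime p))
            (maximalIdeal (Localization.AtPrime p)) = p :=
          IsLocalization.AtPrime.under_maximalIdeal (Localization.AtPrime p) p
        rw [hP'm, hc] at hcomap
        have hass : p ∈ associatedPrimes R (R ⧸ Ideal.span {a}) := by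
          rw [← LinearEquiv.AssociatedPrimes.eq (quotSMulTopEquiv R a)]
          exact hcomap
        have hht := h a ha0 p hass
        rw [hht, ← hd1, h0, zero_add]
        exact min_le_right _ _
      · have h2 : 1 ≤ depth (Localization.AtPrime p)
            (LocalizedModule p.primeCompl (QuotSMulTop a R)) := Order.one_le_iff_ne_zero.mpr h0
        have h4 : (2 : ℕ∞) ≤ depth (Localization.AtPrime p) (LocalizedModule p.primeCompl R) := by
          rw [← hd1]
          calc (2 : ℕ∞) = 1 + 1 := by norm_num
            _ ≤ _ := add_le_add_left h2 1
        refine le_trans (min_le_left _ _) ?_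
        exact WithBot.coe_le_coe.mpr h4

end Groth.Agent.S11269
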