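import Groth.Statements.S11271
import Mathlib.LinearAlgebra.Matrix.ToLin
import Mathlib.LinearAlgebra.Matrix.SpecialLinearGroup
import Mathlib.FieldTheory.IsAlgClosed.Basic
import Mathlib.LinearAlgebra.Matrix.NonsingularInverse
import Mathlib.LinearAlgebra.Basis.VectorSpace
import Mathlib.Algebra.Polynomial.Roots

set_option autoImplicit false
universe u
open W4bk4grassmannian

namespace Groth.Agent.S11271

open Matrix

section aux
variable {K : Type u} [Field K] {d n : ℕ}

/-- the generic matrix -/
noncomputable def gen (K : Type u) [Field K] (d n : ℕ) :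
    Matrix (Fin n) (Fin d) (MvPolynomial (Fin n × Fin d) K) :=
  Matrix.of fun i j => MvPolynomial.X (i, j)

/-- the evaluation point attached to a matrix -/
def pt (M : Matrix (Fin n) (Fin d) K) : Fin n × Fin d → K := fun p => M p.1 p.2

lemma eval_gen (M : Matrix (Fin n) (Fin d) K) :
    (gen K d n).map (MvPolynomial.eval (pt M)) = M := by
  ext i j
  simp [gen, pt]

/-- the polynomial `det (L * X) - 1` -/
noncomputable def fL (L : Matrix (Fin d) (Fin n) K) : MvPolynomial (Fin n × Fin d) K :=
  (L.map MvPolynomial.C * gen K d n).det - 1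

lemma eval_fL (L : Matrix (Fin d) (Fin n) K) (M : Matrix (Fin n) (Fin d) K) :
    MvPolynomial.eval (pt M) (fL L) = (L * M).det - 1 := by
  unfold fL
  rw [map_sub, map_one, RingHom.map_det, RingHom.mapMatrix_apply, Matrix.map_mul, eval_gen]
  have h1 : (L.map MvPolynomial.C).map (MvPolynomial.eval (pt M)) = L := by
    ext i j
    simp
  rw [h1]

lemma forward (hd : 0 < d) (A : Matrix (Fin n) (Fin d) K) (hA : LinearIndependent K A.transpose) :
    ∃ f : MatRing K d n, (∀ g : Matrix.SpecialLinearGroup (Fin d) K,
        MvPolynomial.eval (fun p : Fin n × Fin d => (A * (g : Matrix (Fin d) (Fin d) K)) p.1 p.2) f = 0) ∧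
        MvPolynomial.eval (fun _ : Fin n × Fin d => (0 : K)) f ≠ 0 := by
  have hinj : Function.Injective A.mulVec := Matrix.mulVec_injective_iff.2 hA
  obtain ⟨g, hg⟩ := LinearMap.exists_leftInverse_of_injective A.mulVecLin
    (LinearMap.ker_eq_bot.2 hinj)
  have hLA : LinearMap.toMatrix' g * A = 1 := by
    have h1 : LinearMap.toMatrix' (g ∘ₗ A.mulVecLin) = 1 := by rw [hg]; exact LinearMap.toMatrix'_id
    rwa [LinearMap.toMatrix'_comp, ← Matrix.toLin'_apply', LinearMap.toMatrix'_toLin'] at h1
  refine ⟨fL (LinearMap.toMatrix' g), ?_, ?_⟩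
  · intro s
    have := eval_fL (LinearMap.toMatrix' g) (A * (s : Matrix (Fin d) (Fin d) K))
    rw [← Matrix.mul_assoc, hLA, Matrix.one_mul, s.det_coe, sub_self] at this
    exact this
  · have h1 := eval_fL (LinearMap.toMatrix' g) (0 : Matrix (Fin n) (Fin d) K)
    have hne : Nonempty (Fin d) := ⟨⟨0, hd⟩⟩
    rw [Matrix.mul_zero, Matrix.det_zero, zero_sub] at h1
    have h2 : (pt (0 : Matrix (Fin n) (Fin d) K)) = fun _ => (0 : K) := rfl
    rw [h2] at h1
    rw [h1]
    exact neg_ne_zero.2 one_ne_zero

end aux

section aux2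
variable {K : Type u} [Field K] {d n : ℕ}

lemma eval_line (B : Matrix (Fin n) (Fin d) K) (f : MvPolynomial (Fin n × Fin d) K) (t : K) :
    Polynomial.eval t (MvPolynomial.aeval
      (fun p : Fin n × Fin d => Polynomial.C (B p.1 p.2) * Polynomial.X) f) =
      MvPolynomial.eval (pt (t • B)) f := by
  rw [← Polynomial.coe_evalRingHom, MvPolynomial.aeval_def, MvPolynomial.eval₂_comp_left]
  have h1 : (Polynomial.evalRingHom t).comp (algebraMap K (Polynomial K)) = RingHom.id K := by
    refine RingHom.ext fun a => ?_
    simp only [RingHom.comp_apply, Polynomial.algebraMap_apply, Algebra.algebraMap_self,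
      RingHom.id_apply, Polynomial.coe_evalRingHom, Polynomial.eval_C]
  rw [h1, MvPolynomial.eval₂_id]
  congr 2
  funext p
  simp only [Function.comp_apply, Polynomial.coe_evalRingHom, Polynomial.eval_mul, Polynomial.eval_C,
    Polynomial.eval_X, pt, Matrix.smul_apply, smul_eq_mul]
  exact mul_comm _ _

lemma backward [IsAlgClosed K] (A : Matrix (Fin n) (Fin d) K)
    (f : MvPolynomial (Fin n × Fin d) K)
    (hf : ∀ g : Matrix.SpecialLinearGroup (Fin d) K,
      MvPolynomial.eval (pt (A * (g : Matrix (Fin d) (Fin d) K))) f = 0)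
    (hf0 : MvPolynomial.eval (fun _ : Fin n × Fin d => (0 : K)) f ≠ 0) :
    LinearIndependent K A.transpose := by
  classical
  by_contra hA
  have hinj : ¬ Function.Injective A.mulVec := fun h => hA (Matrix.mulVec_injective_iff.1 h)
  rw [Function.Injective] at hinj
  push Not at hinj
  obtain ⟨x, y, hxy, hne⟩ := hinj
  have hv : A *ᵥ (x - y) = 0 := by rw [Matrix.mulVec_sub, hxy, sub_self]
  have hv0 : x - y ≠ 0 := sub_ne_zero.2 hne
  obtain ⟨i, hi⟩ : ∃ i, (x - y) i ≠ 0 := by
    by_contra h
    push Not at h
    exact hv0 (funext h)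
  obtain ⟨w, hw, hwi⟩ : ∃ w : Fin d → K, A *ᵥ w = 0 ∧ w i = 1 := by
    refine ⟨((x - y) i)⁻¹ • (x - y), ?_, ?_⟩
    · rw [Matrix.mulVec_smul, hv, smul_zero]
    · show ((x - y) i)⁻¹ * (x - y) i = 1
      exact inv_mul_cancel₀ hi
  have hG : ((1 : Matrix (Fin d) (Fin d) K).updateCol i w).det = 1 := by
    rw [← Matrix.cramer_apply, Matrix.cramer_one]
    simpa using hwi
  have hAG : A * (1 : Matrix (Fin d) (Fin d) K).updateCol i w = A.updateCol i 0 := by
    ext r j
    rw [Matrix.mul_apply]
    by_cases hj : j = i
    · subst hj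
      simp only [Matrix.updateCol_self, Pi.zero_apply]
      have := congrFun hw r
      simpa [Matrix.mulVec, dotProduct] using this
    · simp [Matrix.updateCol_ne hj, Matrix.one_apply]
  have key : ∀ t : K, t ≠ 0 → MvPolynomial.eval (pt (t • A.updateCol i 0)) f = 0 := by
    intro t ht
    have hDt : (Matrix.diagonal (fun j : Fin d => if j = i then (t ^ (d - 1))⁻¹ else t)).det = 1 := by
      rw [Matrix.det_diagonal, ← Finset.mul_prod_erase Finset.univ _ (Finset.mem_univ i), if_pos rfl]
      have h1 : ∏ j ∈ Finset.univ.erase i, (if j = i then (t ^ (d - 1))⁻¹ else t) =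
          ∏ _j ∈ Finset.univ.erase i, t := by
        apply Finset.prod_congr rfl
        intro j hj
        rw [if_neg (Finset.ne_of_mem_erase hj)]
      rw [h1, Finset.prod_const, Finset.card_erase_of_mem (Finset.mem_univ i), Finset.card_univ,
        Fintype.card_fin]
      exact inv_mul_cancel₀ (pow_ne_zero _ ht)
    have hBD : A.updateCol i 0 *
        Matrix.diagonal (fun j : Fin d => if j = i then (t ^ (d - 1))⁻¹ else t) =
        t • A.updateCol i 0 := by
      ext r j
      rw [Matrix.mul_diagonal]
      by_cases hj : j = i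
      · subst hj
        simp
      · simp [hj, mul_comm]
    have h2 := hf ⟨(1 : Matrix (Fin d) (Fin d) K).updateCol i w *
      Matrix.diagonal (fun j : Fin d => if j = i then (t ^ (d - 1))⁻¹ else t), by
        rw [Matrix.det_mul, hG, hDt, one_mul]⟩
    simp only [] at h2
    rwa [← Matrix.mul_assoc, hAG, hBD] at h2
  have hP : MvPolynomial.aeval
      (fun p : Fin n × Fin d => Polynomial.C ((A.updateCol i 0) p.1 p.2) * Polynomial.X) f = 0 := by
    apply Polynomial.eq_zero_of_infinite_isRoot
    apply Set.Infinite.mono (s := {t : K | t ≠ 0})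
    · intro t ht
      show Polynomial.IsRoot _ t
      rw [Polynomial.IsRoot.def, eval_line]
      exact key t ht
    · have : {t : K | t ≠ 0} = ({0} : Set K)ᶜ := by ext t; simp
      rw [this]
      exact (Set.finite_singleton (0 : K)).infinite_compl
  have h3 := eval_line (A.updateCol i 0) f 0
  rw [hP, Polynomial.eval_zero] at h3
  have h4 : pt ((0 : K) • A.updateCol i 0) = fun _ => (0 : K) := by
    funext p
    simp [pt]
  rw [h4] at h3
  exact hf0 h3.symm

end aux2


open W4bk4grassmannian in
/-- Semistable matrices are the matrices of full rank: let K be an algebraically closed field, 0 < d <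
n, and let SL_d(K) act on n × d matrices by right multiplication; a matrix A is semistable when the
zero matrix is not in the Zariski closure of its orbit, i.e. when some polynomial in the entries
vanishes at A g for every g ∈ SL_d(K) but not at 0. Then A is semistable if and only if its columns
are linearly independent. -/
theorem result (K : Type u) [Field K]
    [IsAlgClosed K] (d n : ℕ) (hd : 0 < d) (hdn : d < n) (A : Matrix (Fin n) (Fin d) K) :
    LinearIndependent K A.transpose ↔
      ∃ f : MatRing K d n, (∀ g : Matrix.SpecialLinearGroup (Fin d) K,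
        MvPolynomial.eval (fun p : Fin n × Fin d => (A * (g : Matrix (Fin d) (Fin d) K)) p.1 p.2) f = 0) ∧
        MvPolynomial.eval (fun _ : Fin n × Fin d => (0 : K)) f ≠ 0 := by
  constructor
  · exact forward hd A
  · rintro ⟨f, hf, hf0⟩
    exact backward A f hf hf0

end Groth.Agent.S11271
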