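import Groth.Statements.S11272
import Mathlib
import Groth.Agent.Lib.Helper10.ConeCM2

set_option autoImplicit false
universe u
open W4bk4grassmannian

namespace Groth.Agent.S11272

set_option linter.style.haveILetI false
open MvPolynomial Groth.Agent.Lib.helper10.ConeCM
open Groth.Agent.Lib.helper26.Seg Groth.Agent.Lib.helper26.GrCM

attribute [local instance] MvPolynomial.weightedGradedAlgebra

theorem isHomogeneous_mem_stdGr (K : Type u) [Field K] (σ : Type) [Fintype σ]
    (f : MvPolynomial σ K) (m : ℕ) (hf : f.IsHomogeneous m) : f ∈ stdGr K σ (m : ℤ) := by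
  rw [MvPolynomial.mem_weightedHomogeneousSubmodule]
  intro e he
  rw [weight_one_eq]
  have h1 := hf he
  rw [Finsupp.weight_apply] at h1
  rw [Finsupp.degree_apply]
  have h2 : (e.sum fun _ b => b) = m := by
    rw [← h1]
    apply Finsupp.sum_congr
    intro i _
    simp
  rw [Finsupp.sum] at h2
  exact_mod_cast h2

theorem irr_stdGr_eq (K : Type u) [Field K] (σ : Type) [Fintype σ] :
    irr (stdGr K σ) = RingHom.ker (MvPolynomial.constantCoeff : MvPolynomial σ K →+* K) := by
  apply le_antisymm
  · unfold irr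
    rw [Ideal.span_le]
    intro f hf
    simp only [Set.mem_iUnion, SetLike.mem_coe] at hf
    obtain ⟨m, hm, hf⟩ := hf
    rw [Set.mem_Ioi] at hm
    rw [SetLike.mem_coe, RingHom.mem_ker, MvPolynomial.constantCoeff_eq]
    rw [MvPolynomial.mem_weightedHomogeneousSubmodule] at hf
    by_contra hne
    have h1 := hf hne
    rw [weight_one_eq] at h1
    simp at h1
    omega
  · intro f hf
    obtain ⟨c, hc⟩ := exists_sub_mem_irr (stdGr K σ) stdGr_eq_bot stdGr_zero f
    have h1 : MvPolynomial.constantCoeff (f - algebraMap K (MvPolynomial σ K) c) = 0 := by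
      have hle : irr (stdGr K σ) ≤
          RingHom.ker (MvPolynomial.constantCoeff : MvPolynomial σ K →+* K) := by
        unfold irr
        rw [Ideal.span_le]
        intro g hg
        simp only [Set.mem_iUnion, SetLike.mem_coe] at hg
        obtain ⟨m, hm, hg⟩ := hg
        rw [Set.mem_Ioi] at hm
        rw [SetLike.mem_coe, RingHom.mem_ker, MvPolynomial.constantCoeff_eq]
        rw [MvPolynomial.mem_weightedHomogeneousSubmodule] at hg
        by_contra hne
        have h1 := hg hne
        rw [weight_one_eq] at h1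
        simp at h1
        omega
      exact hle hc
    rw [RingHom.mem_ker] at hf
    rw [map_sub, hf, zero_sub, MvPolynomial.algebraMap_eq, MvPolynomial.constantCoeff_C,
      neg_eq_zero] at h1
    rw [h1, map_zero, sub_zero] at hc
    exact hc

theorem transport {R : Type u} [CommRing R] (p q : Ideal R) [_hp : p.IsPrime] [_hq : q.IsPrime]
    (h : p = q) (hCM : LocCoh.IsCohenMacaulayLocalRing (Localization.AtPrime p)) :
    LocCoh.IsCohenMacaulayLocalRing (Localization.AtPrime q) := by
  subst h
  exact hCM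

theorem main_aux (K : Type u) [Field K] (N : ℕ) (J : HomogeneousIdeal (stdGr K (Fin N)))
    (hJ : J.toIdeal ≠ ⊤)
    [hm : ((RingHom.ker (MvPolynomial.constantCoeff : MvPolynomial (Fin N) K →+* K)).map
      (Ideal.Quotient.mk J.toIdeal)).IsPrime]
    (hCM : LocCoh.IsCohenMacaulayLocalRing (Localization.AtPrime
        ((RingHom.ker (MvPolynomial.constantCoeff : MvPolynomial (Fin N) K →+* K)).map
          (Ideal.Quotient.mk J.toIdeal)))) :
    LocCoh.IsCohenMacaulayRing (MvPolynomial (Fin N) K ⧸ J.toIdeal) := by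
  have heq : (RingHom.ker (MvPolynomial.constantCoeff : MvPolynomial (Fin N) K →+* K)).map
      (Ideal.Quotient.mk J.toIdeal) = irr (qGr (stdGr K (Fin N)) J) := by
    rw [← irr_stdGr_eq, map_irr]
  haveI hq : (irr (qGr (stdGr K (Fin N)) J)).IsPrime := heq ▸ hm
  have hCM' := transport _ _ heq hCM
  haveI : Nontrivial (MvPolynomial (Fin N) K ⧸ J.toIdeal) :=
    Ideal.Quotient.nontrivial_iff.2 hJ
  obtain ⟨r, hr⟩ := exists_nat_ringKrullDim_eq K (MvPolynomial (Fin N) K ⧸ J.toIdeal)
  have key := le_idealDepth_of_isCohenMacaulayLocalRing (stdGr K (Fin N)) J stdGr_eq_bot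
    stdGr_zero hJ r hr hCM'
  exact isCohenMacaulayRing_quotient_of_le_idealDepth (stdGr K (Fin N)) J stdGr_eq_bot
    stdGr_zero hJ r hr key

theorem main (K : Type u) [Field K] [IsAlgClosed K] (N : ℕ)
    (I : Ideal (MvPolynomial (Fin N) K))
    (hI : ∃ T : Set (MvPolynomial (Fin N) K), (∀ f ∈ T, ∃ k : ℕ, f.IsHomogeneous k) ∧ I = Ideal.span T)
    (hI' : I ≠ ⊤)
    [hm : ((RingHom.ker (MvPolynomial.constantCoeff : MvPolynomial (Fin N) K →+* K)).map
      (Ideal.Quotient.mk I)).IsPrime] :
    LocCoh.IsCohenMacaulayRing (MvPolynomial (Fin N) K ⧸ I) ↔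
      LocCoh.IsCohenMacaulayLocalRing (Localization.AtPrime
        ((RingHom.ker (MvPolynomial.constantCoeff : MvPolynomial (Fin N) K →+* K)).map
          (Ideal.Quotient.mk I))) := by
  constructor
  · intro h
    exact h.isCohenMacaulayLocalRing_localization _
  · intro hCM
    obtain ⟨T, hT, rfl⟩ := hI
    have hhom : (Ideal.span T).IsHomogeneous (stdGr K (Fin N)) := by
      apply Ideal.homogeneous_span
      intro f hf
      obtain ⟨m, hm⟩ := hT f hf
      exact ⟨(m : ℤ), isHomogeneous_mem_stdGr K (Fin N) f m hm⟩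
    exact main_aux K N ⟨Ideal.span T, hhom⟩ hI' hCM



/-- A cone is Cohen–Macaulay iff it is so at its vertex: let K be an algebraically closed field, N a
natural number, S = K[x_1, …, x_N] graded by degree, I ⊆ S a proper ideal generated by homogeneous
polynomials, and m ⊆ S/I the image of the irrelevant ideal (x_1, …, x_N) (the vertex of the cone
Spec S/I), assumed prime. Then S/I is a Cohen–Macaulay ring if and only if the local ring (S/I)_m is
Cohen–Macaulay. -/
theorem result (K : Type u) [Field K] [IsAlgClosed K] (N : ℕ)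
    (I : Ideal (MvPolynomial (Fin N) K))
    (hI : ∃ T : Set (MvPolynomial (Fin N) K), (∀ f ∈ T, ∃ k : ℕ, f.IsHomogeneous k) ∧ I = Ideal.span T)
    (hI' : I ≠ ⊤)
    [hm : ((RingHom.ker (MvPolynomial.constantCoeff : MvPolynomial (Fin N) K →+* K)).map
      (Ideal.Quotient.mk I)).IsPrime] :
    LocCoh.IsCohenMacaulayRing (MvPolynomial (Fin N) K ⧸ I) ↔
      LocCoh.IsCohenMacaulayLocalRing (Localization.AtPrime
        ((RingHom.ker (MvPolynomial.constantCoeff : MvPolynomial (Fin N) K →+* K)).map
          (Ideal.Quotient.mk I))) := by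
  exact main K N I hI hI'

end Groth.Agent.S11272
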