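import Groth.Statements.S11275
import Mathlib
import Groth.Agent.Lib.Helper15.Fitting
import Groth.Agent.Lib.Helper15.FittLink

set_option autoImplicit false
universe u
open W4bk4grassmannian

namespace Groth.Agent.S11275

section aux
open Matrix Groth.Agent.Lib.helper15.Fitting Groth.Agent.Lib.helper15.FittLink

theorem exists_sort {d n : ℕ} (a : Fin d → Fin n) (ha : Function.Injective a) :
    ∃ (θ : Fin d → Fin n) (π : Equiv.Perm (Fin d)), StrictMono θ ∧ a = θ ∘ π := by
  classical
  let s : Finset (Fin n) := Finset.univ.image a
  have hs : s.card = d := by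
    rw [Finset.card_image_of_injective _ ha]
    simp
  let emb := s.orderEmbOfFin hs
  have hmem : ∀ i, ∃ j, emb j = a i := by
    intro i
    have h1 : a i ∈ (s : Set (Fin n)) := Finset.mem_coe.mpr (Finset.mem_image_of_mem a (Finset.mem_univ i))
    rw [← Finset.range_orderEmbOfFin s hs] at h1
    exact h1
  choose p hp using hmem
  have hpinj : Function.Injective p := fun i j h => ha (by rw [← hp i, ← hp j, h])
  have hpbij : Function.Bijective p := Finite.injective_iff_bijective.mp hpinj
  exact ⟨emb, Equiv.ofBijective p hpbij, emb.strictMono, funext fun i => (hp i).symm⟩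

variable (K : Type u) [CommRing K]

theorem cellMatrix_low (d r : ℕ) (i : Fin (d + r)) (j : Fin d) (h : i.val < d) :
    cellMatrix K d r i j = if i.val = j.val then 1 else 0 := by
  simp [cellMatrix, h]

theorem cellMatrix_high (d r : ℕ) (i : Fin (d + r)) (j : Fin d) (h : ¬ i.val < d) :
    cellMatrix K d r i j = genMatrix K r d ⟨i.val - d, by have := i.isLt; omega⟩ j := by
  simp [cellMatrix, h, genMatrix]

theorem cellMinor_mem (d r t : ℕ) (hd : 0 < d) (ht : 0 < t) (htd : t ≤ d)
    (θ : Idx d (d + r)) (hθ : d ≤ (θ.1 ⟨d - t, Nat.sub_lt hd ht⟩).val) :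
    cellMinor K d r θ ∈ CAlgX.minorIdeal (genMatrix K r d) t := by
  classical
  set Z := genMatrix K r d with hZ
  set Kr : Submodule (CellRing K d r) (Fin d → CellRing K d r) :=
    Submodule.span _ (Set.range fun i : Fin r => Z i) with hKr
  let w : Fin (d - t) → (Fin d → CellRing K d r) := fun b =>
    cellMatrix K d r (θ.1 ⟨b.val, by have := b.isLt; omega⟩)
  set M : Matrix (Fin d) (Fin d) (CellRing K d r) := (cellMatrix K d r).submatrix θ.1 id with hM
  have hrows : ∀ a, M a ∈ Kr ⊔ Submodule.span _ (Set.range w) := by
    intro a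
    by_cases ha : a.val < d - t
    · apply Submodule.mem_sup_right
      apply Submodule.subset_span
      exact ⟨⟨a.val, ha⟩, rfl⟩
    · apply Submodule.mem_sup_left
      have hmono : θ.1 ⟨d - t, Nat.sub_lt hd ht⟩ ≤ θ.1 a := by
        apply θ.2.monotone
        rw [Fin.le_def]
        simp only
        omega
      have hge : ¬ (θ.1 a).val < d := by
        have := Fin.le_def.mp hmono
        omega
      apply Submodule.subset_span
      refine ⟨⟨(θ.1 a).val - d, by have := (θ.1 a).isLt; omega⟩, ?_⟩
      funext j
      exact (cellMatrix_high K d r (θ.1 a) j hge).symm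
  have h1 := det_mem_detIdeal M _ hrows
  have h2 := detIdeal_sup_span_range_le Kr (d - t) w t
  have hdt : t + (d - t) = d := by omega
  rw [hdt] at h2
  have h3 : detIdeal Kr t ≤ CAlgX.minorIdeal Z t := by
    rw [hKr, detIdeal_span]
    apply Ideal.span_le.mpr
    rintro _ ⟨z, e, hz, rfl⟩
    choose ρ hρ using hz
    have : (Matrix.of fun a b => z b (e a)) = (Z.submatrix ρ e)ᵀ := by
      ext a b
      simp only [Matrix.of_apply, Matrix.transpose_apply, Matrix.submatrix_apply]
      rw [← hρ b]
    rw [this, Matrix.det_transpose]
    exact Ideal.subset_span ⟨(ρ, e), rfl⟩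
  exact h3 (h2 h1)

theorem minor_mem_span (d r t : ℕ) (hd : 0 < d) (ht : 0 < t) (htd : t ≤ d)
    (ρ : Fin t → Fin r) (γ : Fin t → Fin d) :
    ((genMatrix K r d).submatrix ρ γ).det ∈
      Ideal.span {f : CellRing K d r | ∃ θ : Idx d (d + r),
        d ≤ (θ.1 ⟨d - t, Nat.sub_lt hd ht⟩).val ∧ f = cellMinor K d r θ} := by
  classical
  set Z := genMatrix K r d with hZ
  by_cases hγ : Function.Injective γ
  swap
  · rw [Function.Injective] at hγ
    push Not at hγ
    obtain ⟨x, y, hxy, hne⟩ := hγ
    have : (Z.submatrix ρ γ).det = 0 := by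
      apply Matrix.det_zero_of_column_eq hne
      intro a
      simp [hxy]
    rw [this]
    exact Submodule.zero_mem _
  by_cases hρ : Function.Injective ρ
  swap
  · rw [Function.Injective] at hρ
    push Not at hρ
    obtain ⟨x, y, hxy, hne⟩ := hρ
    have : (Z.submatrix ρ γ).det = 0 := by
      apply Matrix.det_zero_of_row_eq hne
      funext b
      simp [hxy]
    rw [this]
    exact Submodule.zero_mem _
  -- complement of the columns
  let C : Finset (Fin d) := Finset.univ \ Finset.univ.image γ
  have hC : C.card = d - t := by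
    rw [Finset.card_sdiff_of_subset (Finset.subset_univ _), Finset.card_image_of_injective _ hγ]
    simp
  let cemb := C.orderEmbOfFin hC
  have hcemb : ∀ b b', cemb b ≠ γ b' := by
    intro b b' h
    have h1 : cemb b ∈ C := Finset.orderEmbOfFin_mem C hC b
    rw [Finset.mem_sdiff] at h1
    exact h1.2 (h ▸ Finset.mem_image_of_mem γ (Finset.mem_univ b'))
  let κ : Fin (d - t) ⊕ Fin t → Fin d := Sum.elim cemb γ
  have hκinj : Function.Injective κ := by
    rintro (b | b) (b' | b') h
    · exact congrArg Sum.inl (cemb.injective h)
    · exact absurd h (hcemb b b')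
    · exact absurd h.symm (hcemb b' b)
    · exact congrArg Sum.inr (hγ h)
  have hκbij : Function.Bijective κ := by
    rw [Fintype.bijective_iff_injective_and_card]
    refine ⟨hκinj, ?_⟩
    simp only [Fintype.card_sum, Fintype.card_fin]
    omega
  let κe : Fin (d - t) ⊕ Fin t ≃ Fin d := Equiv.ofBijective κ hκbij
  let rowsel : Fin (d - t) ⊕ Fin t → Fin (d + r) :=
    Sum.elim (fun b => Fin.castAdd r (cemb b)) (fun b => Fin.natAdd d (ρ b))
  let N : Matrix (Fin (d - t) ⊕ Fin t) (Fin d) (CellRing K d r) :=
    (cellMatrix K d r).submatrix rowsel id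
  have hblock : N.submatrix id κ =
      Matrix.fromBlocks (1 : Matrix (Fin (d - t)) (Fin (d - t)) (CellRing K d r)) 0
        (Z.submatrix ρ cemb) (Z.submatrix ρ γ) := by
    ext (b | b) (b' | b')
    · simp only [N, Matrix.submatrix_apply, id, κ, rowsel, Sum.elim_inl, Matrix.fromBlocks_apply₁₁]
      rw [cellMatrix_low K d r _ _ (by simp), Matrix.one_apply]
      simp only [Fin.val_castAdd]
      by_cases h : b = b'
      · simp [h]
      · rw [if_neg h, if_neg]
        intro h2
        exact h (cemb.injective (Fin.ext h2))
    · simp only [N, Matrix.submatrix_apply, id, κ, rowsel, Sum.elim_inl, Sum.elim_inr,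
        Matrix.fromBlocks_apply₁₂, Matrix.zero_apply]
      rw [cellMatrix_low K d r _ _ (by simp), if_neg]
      simp only [Fin.val_castAdd]
      intro h2
      exact hcemb b b' (Fin.ext h2)
    · simp only [N, Matrix.submatrix_apply, id, κ, rowsel, Sum.elim_inl, Sum.elim_inr,
        Matrix.fromBlocks_apply₂₁]
      rw [cellMatrix_high K d r _ _ (by simp)]
      have hidx : (⟨(Fin.natAdd d (ρ b)).val - d,
          by simp⟩ : Fin r) = ρ b := Fin.ext (by simp)
      rw [hidx]
    · simp only [N, Matrix.submatrix_apply, id, κ, rowsel, Sum.elim_inr,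
        Matrix.fromBlocks_apply₂₂]
      rw [cellMatrix_high K d r _ _ (by simp)]
      have hidx : (⟨(Fin.natAdd d (ρ b)).val - d,
          by simp⟩ : Fin r) = ρ b := Fin.ext (by simp)
      rw [hidx]
  have hdet1 : (N.submatrix id κ).det = (Z.submatrix ρ γ).det := by
    rw [hblock, Matrix.det_fromBlocks_zero₁₂, Matrix.det_one, one_mul]
  let a : Fin d → Fin (d + r) := rowsel ∘ κe.symm
  have hrowsel_inj : Function.Injective rowsel := by
    rintro (b | b) (b' | b') h
    · simp only [rowsel, Sum.elim_inl] at h
      exact congrArg Sum.inl (cemb.injective (Fin.castAdd_injective _ _ h))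
    · simp only [rowsel, Sum.elim_inl, Sum.elim_inr] at h
      have := congrArg Fin.val h
      simp only [Fin.val_castAdd, Fin.val_natAdd] at this
      have := (cemb b).isLt
      omega
    · simp only [rowsel, Sum.elim_inl, Sum.elim_inr] at h
      have := congrArg Fin.val h
      simp only [Fin.val_castAdd, Fin.val_natAdd] at this
      have := (cemb b').isLt
      omega
    · simp only [rowsel, Sum.elim_inr] at h
      exact congrArg Sum.inr (hρ (Fin.natAdd_injective _ _ h))
  have ha : Function.Injective a := hrowsel_inj.comp κe.symm.injective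
  set N' : Matrix (Fin d) (Fin d) (CellRing K d r) := (cellMatrix K d r).submatrix a id with hN'
  have hdet2 : (N.submatrix id κ).det = N'.det := by
    have : N.submatrix id κ = N'.submatrix κe κe := by
      ext x y
      simp only [N, N', a, Matrix.submatrix_apply, id, Function.comp_apply, Equiv.symm_apply_apply]
      rfl
    rw [this, Matrix.det_submatrix_equiv_self]
  obtain ⟨θ, π, hθmono, haθ⟩ := exists_sort a ha
  have hdet3 : N'.det = ((Equiv.Perm.sign π : ℤ) : CellRing K d r) *
      cellMinor K d r ⟨θ, hθmono⟩ := by
    have : N' = ((cellMatrix K d r).submatrix θ id).submatrix π id := by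
      rw [hN', haθ]
      rfl
    rw [this, Matrix.det_permute]
    rfl
  have hθge : d ≤ (θ ⟨d - t, Nat.sub_lt hd ht⟩).val := by
    by_contra hlt
    push Not at hlt
    -- an injection Fin (d - t + 1) → Fin (d - t)
    have hsmall : ∀ j : Fin (d - t + 1), (θ ⟨j.val, by have := j.isLt; omega⟩).val < d := by
      intro j
      have h1 : θ ⟨j.val, by have := j.isLt; omega⟩ ≤ θ ⟨d - t, Nat.sub_lt hd ht⟩ := by
        apply hθmono.monotone
        rw [Fin.le_def]
        simp only
        have := j.isLt
        omega
      have := Fin.le_def.mp h1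
      omega
    let g : Fin (d - t + 1) → Fin (d - t) ⊕ Fin t := fun j =>
      κe.symm (π.symm ⟨j.val, by have := j.isLt; omega⟩)
    have hg : ∀ j, rowsel (g j) = θ ⟨j.val, by have := j.isLt; omega⟩ := by
      intro j
      have := congrFun haθ (π.symm ⟨j.val, by have := j.isLt; omega⟩)
      simp only [Function.comp_apply, Equiv.apply_symm_apply] at this
      exact this
    have hgleft : ∀ j, ∃ b, g j = Sum.inl b := by
      intro j
      rcases hgj : g j with b | b
      · exact ⟨b, rfl⟩
      · exfalso
        have h1 := hg j
        rw [hgj] at h1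
        have h2 := hsmall j
        rw [← h1] at h2
        simp only [rowsel, Sum.elim_inr, Fin.val_natAdd] at h2
        omega
    choose gl hgl using hgleft
    have hglinj : Function.Injective gl := by
      intro j j' h
      have h1 : g j = g j' := by rw [hgl j, hgl j', h]
      have h2 := π.symm.injective (κe.symm.injective h1)
      exact Fin.ext (by simpa using congrArg Fin.val h2)
    have := Fintype.card_le_of_injective gl hglinj
    simp only [Fintype.card_fin] at this
    omega
  rw [← hdet1, hdet2, hdet3]
  apply Ideal.mul_mem_left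
  exact Ideal.subset_span ⟨⟨θ, hθmono⟩, hθge, rfl⟩

end aux

open W4bk4grassmannian in
/-- Ideal-theoretic form; determinantal ideals as ideals of opposite cells of Schubert varieties: let K
be a commutative ring, d, r ≥ 1, 1 ≤ t ≤ min(d, r), Z the generic r × d matrix over K[z_{ij}] and
[I_d ; Z] the (d + r) × d matrix with the identity block on top. For θ ∈ I(d, d + r) let q_θ be the
d × d minor of [I_d ; Z] on the rows θ (the Plücker coordinate p_θ on the opposite big cell). Then
the ideal generated by the q_θ with θ_{d-t} ≥ d (0-indexed; these are the θ not below the index φ =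
(t-1, …, d-1, d+r+1-t, …, d+r-1) of the Schubert variety whose opposite cell is D_t) equals the
ideal generated by the t × t minors of Z. (The published statement is over an algebraically closed
field and identifies the determinantal variety D_t with the opposite cell of the Schubert variety
X(φ); this row states the equality of ideals behind that identification, over any commutative ring
K.) -/
theorem result (K : Type u) [CommRing K] (d r t : ℕ) (hd : 0 < d)
    (ht : 0 < t) (htd : t ≤ d) (htr : t ≤ r) :
    Ideal.span {f : CellRing K d r | ∃ θ : Idx d (d + r),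
        d ≤ (θ.1 ⟨d - t, Nat.sub_lt hd ht⟩).val ∧ f = cellMinor K d r θ} =
      CAlgX.minorIdeal (genMatrix K r d) t := by
  apply le_antisymm
  · apply Ideal.span_le.mpr
    rintro f ⟨θ, hθ, rfl⟩
    exact cellMinor_mem K d r t hd ht htd θ hθ
  · unfold CAlgX.minorIdeal
    apply Ideal.span_le.mpr
    rintro _ ⟨⟨ρ, γ⟩, rfl⟩
    exact minor_mem_span K d r t hd ht htd ρ γ

end Groth.Agent.S11275
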