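import Groth.Statements.S11277
import Mathlib

set_option autoImplicit false
universe u v
open W4bk4grassmannian

namespace Groth.Agent.S11277



/-- Let K be a field, R = ⊕_{i ≥ 0} R_i an ℕ-graded commutative K-algebra which is an integral domain,
and s ∈ R_e a homogeneous element of degree e > 0. Let R_(s) ⊆ R[1/s] be the homogeneous
localization (fractions f / s^k with f homogeneous of degree k e). Then the image of s in R[1/s] is
transcendental over R_(s). -/
theorem result (K : Type u) [Field K] (R : Type v) [CommRing R]
    [IsDomain R] [Algebra K R] (𝒜 : ℕ → Submodule K R) [GradedAlgebra 𝒜] (e : ℕ) (he : 0 < e) (s : R)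
    (hs : s ∈ 𝒜 e) :
    Transcendental (HomogeneousLocalization.Away 𝒜 s) (algebraMap R (Localization.Away s) s) := by
  classical
  by_cases hs0 : s = 0
  · rintro ⟨P, hP0, _⟩
    have : Subsingleton (HomogeneousLocalization.Away 𝒜 s) :=
      HomogeneousLocalization.subsingleton 𝒜 ⟨1, by show s ^ 1 = 0; rw [pow_one, hs0]⟩
    exact hP0 (Subsingleton.elim _ _)
  rintro ⟨P, hP0, hP⟩
  apply hP0
  have hrep : ∀ i, ∃ n a, ∃ ha : a ∈ 𝒜 (n • e),
      HomogeneousLocalization.Away.mk 𝒜 hs n a ha = P.coeff i :=
    fun i => HomogeneousLocalization.Away.mk_surjective 𝒜 hs (P.coeff i)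
  choose n a ha hmk using hrep
  obtain ⟨d, hd⟩ : ∃ d, d = P.natDegree := ⟨_, rfl⟩
  obtain ⟨N, hN⟩ : ∃ N, N = ∑ i ∈ Finset.range (d + 1), n i := ⟨_, rfl⟩
  have hle : ∀ j ∈ Finset.range (d + 1), n j ≤ N := by
    intro j hj
    rw [hN]
    exact Finset.single_le_sum (f := n) (fun i _ => Nat.zero_le _) hj
  -- the relation in R
  have hsum : ∑ i ∈ Finset.range (d + 1), a i * s ^ (N - n i + i) = 0 := by
    have hinj : Function.Injective (algebraMap R (Localization.Away s)) :=
      IsLocalization.injective (Localization.Away s) (M := Submonoid.powers s)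
        (powers_le_nonZeroDivisors_of_noZeroDivisors hs0)
    apply hinj
    rw [map_zero, map_sum]
    rw [Polynomial.aeval_eq_sum_range, ← hd] at hP
    have h2 := congrArg (fun y => algebraMap R (Localization.Away s) (s ^ N) * y) hP
    simp only [mul_zero, Finset.mul_sum] at h2
    rw [← h2]
    apply Finset.sum_congr rfl
    intro i hi
    obtain ⟨t, ht⟩ := Nat.exists_eq_add_of_le (hle i hi)
    have e1 : N - n i + i = t + i := by omega
    rw [e1, ht, Algebra.smul_def, HomogeneousLocalization.algebraMap_apply, ← hmk i,
      HomogeneousLocalization.Away.val_mk, Localization.mk_eq_mk', pow_add (s) (n i) t,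
      map_mul (algebraMap R (Localization.Away s)) (s ^ n i) (s ^ t)]
    have e2 := IsLocalization.mk'_spec' (Localization.Away s) (a i)
      (⟨s ^ n i, n i, rfl⟩ : Submonoid.powers s)
    have e3 : algebraMap R (Localization.Away s) (s ^ n i) *
        algebraMap R (Localization.Away s) (s ^ t) *
        (IsLocalization.mk' (Localization.Away s) (a i) (⟨s ^ n i, n i, rfl⟩ : Submonoid.powers s) *
          algebraMap R (Localization.Away s) s ^ i) =
        (algebraMap R (Localization.Away s) (s ^ n i) *
          IsLocalization.mk' (Localization.Away s) (a i)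
            (⟨s ^ n i, n i, rfl⟩ : Submonoid.powers s)) *
        (algebraMap R (Localization.Away s) (s ^ t) *
          algebraMap R (Localization.Away s) s ^ i) := by ring
    rw [e3, e2, map_mul, pow_add, map_mul, map_pow, map_pow]
  -- each term is homogeneous of degree (N + i) * e
  have hmem : ∀ i ∈ Finset.range (d + 1), a i * s ^ (N - n i + i) ∈ 𝒜 ((N + i) * e) := by
    intro i hi
    obtain ⟨t, ht⟩ := Nat.exists_eq_add_of_le (hle i hi)
    have e1 : N - n i + i = t + i := by omega
    have h1 := SetLike.mul_mem_graded (ha i) (SetLike.pow_mem_graded (N - n i + i) hs)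
    have e2 : n i • e + (N - n i + i) • e = (N + i) * e := by
      rw [e1, ht, smul_eq_mul, smul_eq_mul]; ring
    rw [e2] at h1
    exact h1
  have hzero : ∀ j ∈ Finset.range (d + 1), a j = 0 := by
    intro j hj
    have h1 := congrArg (GradedRing.proj 𝒜 ((N + j) * e)) hsum
    rw [map_sum, map_zero, Finset.sum_eq_single j] at h1
    · rw [GradedRing.proj_apply, DirectSum.decompose_of_mem_same 𝒜 (hmem j hj)] at h1
      rcases mul_eq_zero.mp h1 with h | h
      · exact h
      · exact absurd h (pow_ne_zero _ hs0)
    · intro i hi hij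
      rw [GradedRing.proj_apply]
      apply DirectSum.decompose_of_mem_ne 𝒜 (hmem i hi)
      intro h
      apply hij
      have he' : e ≠ 0 := Nat.pos_iff_ne_zero.mp he
      have := Nat.eq_of_mul_eq_mul_right he h
      omega
    · intro h; exact absurd hj h
  apply Polynomial.ext
  intro j
  rw [Polynomial.coeff_zero]
  by_cases hj : j ∈ Finset.range (d + 1)
  · rw [← hmk j]
    apply HomogeneousLocalization.val_injective
    rw [HomogeneousLocalization.Away.val_mk, HomogeneousLocalization.val_zero]
    simp only [hzero j hj, Localization.mk_zero]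
  · apply Polynomial.coeff_eq_zero_of_natDegree_lt
    rw [Finset.mem_range] at hj
    omega


end Groth.Agent.S11277
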