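import Groth.Statements.S1128
import Mathlib.RingTheory.Flat.FaithfullyFlat.Algebra
import Mathlib.RingTheory.RingHom.Flat

set_option autoImplicit false
open CategoryTheory CategoryTheory.Limits AlgebraicGeometry Opposite
universe u
open Desc

namespace Groth.Agent.S1128

open TensorProduct in
/-- If `A → B → C` with `C` faithfully flat over `B` and flat over `A`, then `B` is flat over `A`. -/
theorem flat_of_flat_comp_of_faithfullyFlat (A B C : Type u) [CommRing A] [CommRing B] [CommRing C]
    [Algebra A B] [Algebra B C] [Algebra A C] [IsScalarTower A B C]
    [Module.FaithfullyFlat B C] [Module.Flat A C] : Module.Flat A B := by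
  rw [Module.Flat.iff_lTensor_preserves_injective_linearMap]
  intro N P _ _ _ _ f hf
  have h1 : Function.Injective (f.lTensor C) :=
    Module.Flat.lTensor_preserves_injective_linearMap f hf
  let eN := AlgebraTensorModule.cancelBaseChange A B B C N
  let eP := AlgebraTensorModule.cancelBaseChange A B B C P
  have key : ∀ x, eP ((f.baseChange B).lTensor C x) = (f.lTensor C) (eN x) := by
    intro x
    induction x using TensorProduct.induction_on with
    | zero => simp
    | tmul c y =>
      induction y using TensorProduct.induction_on with
      | zero => simp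
      | tmul b n => simp [eN, eP]
      | add y₁ y₂ h₁ h₂ => simp only [tmul_add, map_add, h₁, h₂]
    | add x₁ x₂ h₁ h₂ => simp only [map_add, h₁, h₂]
  have h2 : Function.Injective ((f.baseChange B).lTensor C) := by
    intro x y hxy
    have := congrArg eP hxy
    rw [key, key] at this
    exact eN.injective (h1 this)
  have h3 : Function.Injective (f.baseChange B) :=
    (Module.FaithfullyFlat.lTensor_injective_iff_injective B C _).mp h2
  exact h3

/-- If f is flat and surjective and the composite of f with g is flat, then g is flat; together with
stability of flatness under composition this says flatness is fpqc local on the source. -/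
theorem result {X' X Y : Scheme.{u}} (f : X' ⟶ X) (g : X ⟶ Y) [Flat f]
    [Surjective f] [Flat (f ≫ g)] : Flat g := by
  refine Flat.of_stalkMap g fun x => ?_
  obtain ⟨x', rfl⟩ := f.surjective x
  have hf : (f.stalkMap x').hom.Flat := Flat.stalkMap f x'
  have hfg : ((f ≫ g).stalkMap x').hom.Flat := Flat.stalkMap (f ≫ g) x'
  rw [Scheme.Hom.stalkMap_comp] at hfg
  algebraize [(f.stalkMap x').hom, (g.stalkMap (f x')).hom,
    (f.stalkMap x').hom.comp (g.stalkMap (f x')).hom]
  have : Module.Flat (Y.presheaf.stalk (g (f x'))) (X'.presheaf.stalk x') := hfg
  have : IsLocalHom (algebraMap (X.presheaf.stalk (f x')) (X'.presheaf.stalk x')) := by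
    change IsLocalHom (f.stalkMap x').hom
    infer_instance
  have : Module.FaithfullyFlat (X.presheaf.stalk (f x')) (X'.presheaf.stalk x') :=
    Module.FaithfullyFlat.of_flat_of_isLocalHom
  exact flat_of_flat_comp_of_faithfullyFlat (Y.presheaf.stalk (g (f x')))
    (X.presheaf.stalk (f x')) (X'.presheaf.stalk x')

end Groth.Agent.S1128
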