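import Groth.Statements.S12498
import Mathlib

set_option autoImplicit false
universe u
open Deform

namespace Groth.Agent.S12498

section aux
variable {k : Type u} [Field k] {A : Type u} [CommRing A] [Algebra k A] [IsLocalRing A]
  {B : Type u} [CommRing B] [Algebra A B]

lemma t_mul_eq_zero (t : A) (htm : ∀ a ∈ IsLocalRing.maximalIdeal A, a * t = 0) (b : B)
    (hb : b ∈ (IsLocalRing.maximalIdeal A).map (algebraMap A B)) : algebraMap A B t * b = 0 := by
  change b ∈ Ideal.span _ at hb
  induction hb using Submodule.span_induction with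
  | mem x hx =>
    obtain ⟨a, ha, rfl⟩ := hx
    rw [← map_mul, mul_comm, htm a ha, map_zero]
  | zero => simp
  | add x y _ _ hx hy => rw [mul_add, hx, hy, add_zero]
  | smul c x _ hx => rw [smul_eq_mul, mul_left_comm, hx, mul_zero]

lemma mem_of_t_mul_eq_zero [Module.Flat A B] (t : A) (ht0 : t ≠ 0) (b : B)
    (h : algebraMap A B t * b = 0) : b ∈ (IsLocalRing.maximalIdeal A).map (algebraMap A B) := by
  obtain ⟨κ, a, y, hxy, haj⟩ := Module.Flat.isTrivialRelation_of_sum_smul_eq_zero (R := A) (M := B)
    (ι := Unit) (f := fun _ => t) (x := fun _ => b) (by simp [Algebra.smul_def, h])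
  have hb : b = ∑ j, a () j • y j := hxy ()
  rw [hb]
  refine Ideal.sum_mem _ fun j _ => ?_
  have hj : t * a () j = 0 := by simpa using haj j
  have hm : a () j ∈ IsLocalRing.maximalIdeal A := by
    rw [IsLocalRing.mem_maximalIdeal, mem_nonunits_iff]
    intro hu
    exact ht0 ((hu.mul_left_eq_zero).1 hj)
  rw [Algebra.smul_def]
  exact Ideal.mul_mem_right _ _ (Ideal.mem_map_of_mem _ hm)

end aux

/-- Let k be an algebraically closed field, A a local Artinian k-algebra with residue field k, and t a
nonzero element of the maximal ideal m_A annihilated by m_A, so that A → A/tA is a small extension.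
Let B be a flat A-algebra (a deformation over A of its closed fibre B_0 = B/m_A B), and σ an
A-algebra automorphism of B/tB inducing the identity on B_0. Fix an A-algebra automorphism τ of B
inducing σ (so τ induces the identity on B_0). Then the A-algebra automorphisms η of B inducing σ
correspond bijectively to the k-derivations d of B_0 through the rule η = τ + t·d, meaning η(b) =
τ(b) + t b′ for all b ∈ B and all b′ ∈ B lifting d applied to the image of b in B_0: every such η
determines a unique d, and every d comes from some such η. (The published statement phrases the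
conclusion as a free and transitive action of Der_k(B_0, B_0) on the nonempty set of lifts of σ; the
condition that σ induces the identity on B_0 is expressed here through the chosen lift τ.) -/
theorem result
    {k : Type u} [Field k] [IsAlgClosed k]
    {A : Type u} [CommRing A] [Algebra k A] [IsLocalRing A] [IsArtinianRing A]
    (hres : ∀ a : A, ∃ c : k, a - algebraMap k A c ∈ IsLocalRing.maximalIdeal A)
    (t : A) (ht : t ∈ IsLocalRing.maximalIdeal A) (ht0 : t ≠ 0)
    (htm : ∀ a ∈ IsLocalRing.maximalIdeal A, a * t = 0)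
    {B : Type u} [CommRing B] [Algebra A B] [Module.Flat A B] [Algebra k B] [IsScalarTower k A B]
    (σ : (B ⧸ Ideal.span {algebraMap A B t}) ≃ₐ[A] (B ⧸ Ideal.span {algebraMap A B t}))
    (τ : B ≃ₐ[A] B)
    (hτ : ∀ b : B, Ideal.Quotient.mk (Ideal.span {algebraMap A B t}) (τ b) =
      σ (Ideal.Quotient.mk (Ideal.span {algebraMap A B t}) b))
    (hτ0 : ∀ b : B, τ b - b ∈ (IsLocalRing.maximalIdeal A).map (algebraMap A B)) :
    (∀ η : B ≃ₐ[A] B, (∀ b : B, Ideal.Quotient.mk (Ideal.span {algebraMap A B t}) (η b) =
        σ (Ideal.Quotient.mk (Ideal.span {algebraMap A B t}) b)) →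
      ∃! d : Derivation k (B ⧸ (IsLocalRing.maximalIdeal A).map (algebraMap A B))
          (B ⧸ (IsLocalRing.maximalIdeal A).map (algebraMap A B)),
        ∀ b b' : B, Ideal.Quotient.mk ((IsLocalRing.maximalIdeal A).map (algebraMap A B)) b' =
            d (Ideal.Quotient.mk ((IsLocalRing.maximalIdeal A).map (algebraMap A B)) b) →
          η b = τ b + algebraMap A B t * b') ∧
    (∀ d : Derivation k (B ⧸ (IsLocalRing.maximalIdeal A).map (algebraMap A B))
        (B ⧸ (IsLocalRing.maximalIdeal A).map (algebraMap A B)),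
      ∃ η : B ≃ₐ[A] B, (∀ b : B, Ideal.Quotient.mk (Ideal.span {algebraMap A B t}) (η b) =
          σ (Ideal.Quotient.mk (Ideal.span {algebraMap A B t}) b)) ∧
        ∀ b b' : B, Ideal.Quotient.mk ((IsLocalRing.maximalIdeal A).map (algebraMap A B)) b' =
            d (Ideal.Quotient.mk ((IsLocalRing.maximalIdeal A).map (algebraMap A B)) b) →
          η b = τ b + algebraMap A B t * b') := by
  classical
  have hTT : algebraMap A B t * algebraMap A B t = 0 := by rw [← map_mul, htm t ht, map_zero]
  have F1 : ∀ b ∈ (IsLocalRing.maximalIdeal A).map (algebraMap A B), algebraMap A B t * b = 0 :=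
    fun b hb => t_mul_eq_zero t htm b hb
  have F2 : ∀ b, algebraMap A B t * b = 0 → b ∈ (IsLocalRing.maximalIdeal A).map (algebraMap A B) :=
    fun b hb => mem_of_t_mul_eq_zero t ht0 b hb
  have F3 : ∀ b, algebraMap A B t * τ b = algebraMap A B t * b := fun b => by
    have := F1 _ (hτ0 b)
    rw [mul_sub, sub_eq_zero] at this
    exact this
  have hτ𝔪 : ∀ c ∈ (IsLocalRing.maximalIdeal A).map (algebraMap A B),
      τ c ∈ (IsLocalRing.maximalIdeal A).map (algebraMap A B) := fun c hc => by
    have := Ideal.add_mem _ (hτ0 c) hc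
    rwa [sub_add_cancel] at this
  have mk0_eq : ∀ b b', Ideal.Quotient.mk ((IsLocalRing.maximalIdeal A).map (algebraMap A B)) b =
      Ideal.Quotient.mk ((IsLocalRing.maximalIdeal A).map (algebraMap A B)) b' →
      algebraMap A B t * b = algebraMap A B t * b' := fun b b' h => by
    rw [Ideal.Quotient.eq] at h
    have := F1 _ h
    rwa [mul_sub, sub_eq_zero] at this
  have eq_mk0 : ∀ b b', algebraMap A B t * b = algebraMap A B t * b' →
      Ideal.Quotient.mk ((IsLocalRing.maximalIdeal A).map (algebraMap A B)) b =
      Ideal.Quotient.mk ((IsLocalRing.maximalIdeal A).map (algebraMap A B)) b' := fun b b' h => by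
    rw [Ideal.Quotient.eq]
    apply F2
    rw [mul_sub, h, sub_self]
  have F4 : ∀ η : B ≃ₐ[A] B, (∀ b : B, Ideal.Quotient.mk (Ideal.span {algebraMap A B t}) (η b) =
      σ (Ideal.Quotient.mk (Ideal.span {algebraMap A B t}) b)) →
      ∀ b, ∃ b', η b = τ b + algebraMap A B t * b' := by
    intro η hη b
    have h : Ideal.Quotient.mk (Ideal.span {algebraMap A B t}) (η b - τ b) = 0 := by
      rw [map_sub, hη, hτ, sub_self]
    rw [Ideal.Quotient.eq_zero_iff_mem, Ideal.mem_span_singleton'] at h
    obtain ⟨b', hb'⟩ := h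
    exact ⟨b', by rw [mul_comm, hb']; ring⟩
  have F5 : ∀ η : B ≃ₐ[A] B, (∀ b : B, Ideal.Quotient.mk (Ideal.span {algebraMap A B t}) (η b) =
      σ (Ideal.Quotient.mk (Ideal.span {algebraMap A B t}) b)) →
      ∀ c ∈ (IsLocalRing.maximalIdeal A).map (algebraMap A B), η c = τ c := by
    intro η hη c hc
    change c ∈ Ideal.span _ at hc
    induction hc using Submodule.span_induction with
    | mem x hx =>
      obtain ⟨a, _, rfl⟩ := hx
      rw [AlgEquiv.commutes, AlgEquiv.commutes]
    | zero => rw [map_zero, map_zero]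
    | add x y _ _ hx hy => rw [map_add, map_add, hx, hy]
    | smul r x hx ih =>
      obtain ⟨r', hr'⟩ := F4 η hη r
      rw [smul_eq_mul, map_mul, map_mul, ih, hr', add_mul, mul_right_comm, F1 _ (hτ𝔪 x hx), zero_mul, add_zero]
  have hsm : ∀ (ζ : B ≃ₐ[A] B) (c : k) (b : B), ζ (c • b) = c • ζ b := fun ζ c b => by
    rw [← algebraMap_smul A c b, map_smul, algebraMap_smul]
  refine ⟨fun η hη => ?_, fun d => ?_⟩
  · have hex : ∀ x : B ⧸ (IsLocalRing.maximalIdeal A).map (algebraMap A B),
        ∃ y : B ⧸ (IsLocalRing.maximalIdeal A).map (algebraMap A B), ∀ b b',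
          Ideal.Quotient.mk ((IsLocalRing.maximalIdeal A).map (algebraMap A B)) b = x →
          η b = τ b + algebraMap A B t * b' →
          y = Ideal.Quotient.mk ((IsLocalRing.maximalIdeal A).map (algebraMap A B)) b' := by
      intro x
      obtain ⟨b₀, rfl⟩ := Ideal.Quotient.mk_surjective x
      obtain ⟨b₀', hb₀'⟩ := F4 η hη b₀
      refine ⟨Ideal.Quotient.mk _ b₀', fun b b' hb hb' => ?_⟩
      apply eq_mk0
      have h1 : η (b - b₀) = τ (b - b₀) := F5 η hη _ (Ideal.Quotient.eq.1 hb)
      rw [map_sub, map_sub, hb', hb₀'] at h1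
      linear_combination -h1
    choose dfun hd using hex
    have K : ∀ b b', η b = τ b + algebraMap A B t * b' →
        dfun (Ideal.Quotient.mk _ b) = Ideal.Quotient.mk _ b' := fun b b' h => hd _ b b' rfl h
    let dlin : (B ⧸ (IsLocalRing.maximalIdeal A).map (algebraMap A B)) →ₗ[k]
        (B ⧸ (IsLocalRing.maximalIdeal A).map (algebraMap A B)) :=
      { toFun := dfun
        map_add' := by
          intro x y
          obtain ⟨b₁, rfl⟩ := Ideal.Quotient.mk_surjective x
          obtain ⟨b₂, rfl⟩ := Ideal.Quotient.mk_surjective y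
          obtain ⟨b₁', h₁⟩ := F4 η hη b₁
          obtain ⟨b₂', h₂⟩ := F4 η hη b₂
          rw [← map_add, K (b₁ + b₂) (b₁' + b₂') (by rw [map_add, map_add, h₁, h₂]; ring),
            K b₁ b₁' h₁, K b₂ b₂' h₂, map_add]
        map_smul' := by
          intro c x
          obtain ⟨b, rfl⟩ := Ideal.Quotient.mk_surjective x
          obtain ⟨b', h⟩ := F4 η hη b
          have e1 : c • Ideal.Quotient.mk ((IsLocalRing.maximalIdeal A).map (algebraMap A B)) b =
            Ideal.Quotient.mk _ (c • b) := rfl
          have e2 : η (c • b) = τ (c • b) + algebraMap A B t * (c • b') := by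
            rw [hsm, hsm, h, smul_add, mul_smul_comm]
          rw [RingHom.id_apply, e1, K (c • b) (c • b') e2, K b b' h]
          rfl }
    have hleib : ∀ x y : B ⧸ (IsLocalRing.maximalIdeal A).map (algebraMap A B),
        dlin (x * y) = x • dlin y + y • dlin x := by
      intro x y
      obtain ⟨b₁, rfl⟩ := Ideal.Quotient.mk_surjective x
      obtain ⟨b₂, rfl⟩ := Ideal.Quotient.mk_surjective y
      obtain ⟨b₁', h₁⟩ := F4 η hη b₁
      obtain ⟨b₂', h₂⟩ := F4 η hη b₂
      have e3 : η (b₁ * b₂) = τ (b₁ * b₂) + algebraMap A B t * (b₁ * b₂' + b₂ * b₁') := by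
        rw [map_mul, map_mul, h₁, h₂]
        have e1 := F3 b₁
        have e2 := F3 b₂
        linear_combination b₂' * e1 + b₁' * e2 + (b₁' * b₂') * hTT
      change dfun (Ideal.Quotient.mk _ b₁ * Ideal.Quotient.mk _ b₂) =
        Ideal.Quotient.mk _ b₁ • dfun (Ideal.Quotient.mk _ b₂) + Ideal.Quotient.mk _ b₂ • dfun (Ideal.Quotient.mk _ b₁)
      rw [← map_mul, K (b₁ * b₂) _ e3, K b₁ b₁' h₁, K b₂ b₂' h₂, smul_eq_mul, smul_eq_mul, ← map_mul, ← map_mul,
        ← map_add]
    refine ⟨Derivation.mk' dlin hleib, ?_, ?_⟩
    · intro b b' hb'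
      obtain ⟨b'', h''⟩ := F4 η hη b
      have h3 : Ideal.Quotient.mk ((IsLocalRing.maximalIdeal A).map (algebraMap A B)) b' =
          Ideal.Quotient.mk _ b'' := by
        rw [hb']
        exact K b b'' h''
      rw [h'', mk0_eq _ _ h3]
    · intro d' hd'
      ext x
      obtain ⟨b, rfl⟩ := Ideal.Quotient.mk_surjective x
      obtain ⟨b', hb'⟩ := Ideal.Quotient.mk_surjective (d' (Ideal.Quotient.mk _ b))
      have h1 := hd' b b' hb'
      change d' (Ideal.Quotient.mk _ b) = dfun (Ideal.Quotient.mk _ b)
      rw [K b b' h1, hb']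
  · have hs : ∀ x : B ⧸ (IsLocalRing.maximalIdeal A).map (algebraMap A B),
        Ideal.Quotient.mk ((IsLocalRing.maximalIdeal A).map (algebraMap A B))
          (Function.surjInv Ideal.Quotient.mk_surjective x) = x := Function.surjInv_eq _
    have P : ∀ b b', Ideal.Quotient.mk ((IsLocalRing.maximalIdeal A).map (algebraMap A B)) b' =
        d (Ideal.Quotient.mk _ b) →
        τ b + algebraMap A B t * Function.surjInv Ideal.Quotient.mk_surjective (d (Ideal.Quotient.mk _ b)) =
          τ b + algebraMap A B t * b' := fun b b' h => by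
      rw [mk0_eq _ b' (by rw [hs, h])]
    have hd0 : ∀ a : A, d (Ideal.Quotient.mk ((IsLocalRing.maximalIdeal A).map (algebraMap A B))
        (algebraMap A B a)) = 0 := by
      intro a
      obtain ⟨c, hc⟩ := hres a
      have h1 : Ideal.Quotient.mk ((IsLocalRing.maximalIdeal A).map (algebraMap A B))
          (algebraMap A B (a - algebraMap k A c)) = 0 :=
        Ideal.Quotient.eq_zero_iff_mem.2 (Ideal.mem_map_of_mem _ hc)
      rw [map_sub, map_sub, sub_eq_zero] at h1
      have h2 : Ideal.Quotient.mk ((IsLocalRing.maximalIdeal A).map (algebraMap A B))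
          (algebraMap A B (algebraMap k A c)) =
          algebraMap k (B ⧸ (IsLocalRing.maximalIdeal A).map (algebraMap A B)) c := by
        rw [← IsScalarTower.algebraMap_apply k A B]; rfl
      rw [h1, h2, Derivation.map_algebraMap]
    let ηhom : B →ₐ[A] B :=
      { toFun := fun b => τ b + algebraMap A B t *
          Function.surjInv Ideal.Quotient.mk_surjective (d (Ideal.Quotient.mk _ b))
        map_one' := by
          rw [P 1 0 (by rw [map_zero, map_one, Derivation.map_one_eq_zero]), map_one, mul_zero, add_zero]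
        map_mul' := fun b₁ b₂ => by
          rw [P b₁ _ (hs _), P b₂ _ (hs _), P (b₁ * b₂)
            (b₁ * Function.surjInv Ideal.Quotient.mk_surjective (d (Ideal.Quotient.mk _ b₂)) +
              b₂ * Function.surjInv Ideal.Quotient.mk_surjective (d (Ideal.Quotient.mk _ b₁)))
            (by rw [map_add, map_mul, map_mul, hs, hs, map_mul, Derivation.leibniz, smul_eq_mul, smul_eq_mul]),
            map_mul]
          have e1 := F3 b₁
          have e2 := F3 b₂
          linear_combination (-(Function.surjInv Ideal.Quotient.mk_surjective (d (Ideal.Quotient.mk _ b₂)))) * e1 -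
            (Function.surjInv Ideal.Quotient.mk_surjective (d (Ideal.Quotient.mk _ b₁))) * e2 -
            ((Function.surjInv Ideal.Quotient.mk_surjective (d (Ideal.Quotient.mk _ b₁))) *
              (Function.surjInv Ideal.Quotient.mk_surjective (d (Ideal.Quotient.mk _ b₂)))) * hTT
        map_zero' := by
          rw [P 0 0 (by rw [map_zero, map_zero]), map_zero, mul_zero, add_zero]
        map_add' := fun b₁ b₂ => by
          rw [P b₁ _ (hs _), P b₂ _ (hs _), P (b₁ + b₂)
            (Function.surjInv Ideal.Quotient.mk_surjective (d (Ideal.Quotient.mk _ b₁)) +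
              Function.surjInv Ideal.Quotient.mk_surjective (d (Ideal.Quotient.mk _ b₂)))
            (by rw [map_add, map_add, hs, hs, map_add]), map_add]
          ring
        commutes' := fun a => by
          rw [P (algebraMap A B a) 0 (by rw [map_zero, hd0]), mul_zero, add_zero, AlgEquiv.commutes] }
    have hη₀ : ∀ b, ηhom b = τ b + algebraMap A B t *
        Function.surjInv Ideal.Quotient.mk_surjective (d (Ideal.Quotient.mk _ b)) := fun b => rfl
    have hT𝔪 : ∀ c : B, algebraMap A B t * c ∈ (IsLocalRing.maximalIdeal A).map (algebraMap A B) :=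
      fun c => Ideal.mul_mem_right _ _ (Ideal.mem_map_of_mem _ ht)
    have hinj : Function.Injective ηhom := by
      rw [injective_iff_map_eq_zero]
      intro b hb
      rw [hη₀] at hb
      have h1 : τ b = algebraMap A B t *
          (-Function.surjInv Ideal.Quotient.mk_surjective (d (Ideal.Quotient.mk _ b))) := by
        linear_combination hb
      have h2 : b = algebraMap A B t *
          τ.symm (-Function.surjInv Ideal.Quotient.mk_surjective (d (Ideal.Quotient.mk _ b))) := by
        rw [← AlgEquiv.commutes τ.symm t, ← map_mul, ← h1, AlgEquiv.symm_apply_apply]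
      have h3 : Ideal.Quotient.mk ((IsLocalRing.maximalIdeal A).map (algebraMap A B)) b = 0 := by
        rw [Ideal.Quotient.eq_zero_iff_mem, h2]
        exact hT𝔪 _
      have h4 := P b 0 (by rw [map_zero, h3, map_zero])
      rw [h4, mul_zero, add_zero] at hb
      exact (map_eq_zero_iff τ τ.injective).1 hb
    have hsurj : Function.Surjective ηhom := by
      intro y
      refine ⟨τ.symm y - algebraMap A B t *
        Function.surjInv Ideal.Quotient.mk_surjective (d (Ideal.Quotient.mk _ (τ.symm y))), ?_⟩
      rw [map_sub, map_mul, AlgHom.commutes, hη₀, hη₀, AlgEquiv.apply_symm_apply]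
      have e1 := F3 (Function.surjInv Ideal.Quotient.mk_surjective (d (Ideal.Quotient.mk _ (τ.symm y))))
      linear_combination (-1 : B) * e1 - (Function.surjInv Ideal.Quotient.mk_surjective (d (Ideal.Quotient.mk _
        (Function.surjInv Ideal.Quotient.mk_surjective (d (Ideal.Quotient.mk _ (τ.symm y))))))) * hTT
    refine ⟨AlgEquiv.ofBijective ηhom ⟨hinj, hsurj⟩, ?_, ?_⟩
    · intro b
      change Ideal.Quotient.mk _ (ηhom b) = _
      rw [hη₀, map_add, hτ]
      have h0 : Ideal.Quotient.mk (Ideal.span {algebraMap A B t}) (algebraMap A B t *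
          Function.surjInv Ideal.Quotient.mk_surjective (d (Ideal.Quotient.mk _ b))) = 0 :=
        Ideal.Quotient.eq_zero_iff_mem.2 (Ideal.mul_mem_right _ _ (Ideal.mem_span_singleton_self _))
      rw [h0, add_zero]
    · intro b b' hb'
      change ηhom b = _
      rw [hη₀]
      exact P b b' hb'

end Groth.Agent.S12498
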