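import Groth.Statements.S11280
import Mathlib
import Groth.Agent.S12498
import Groth.Agent.Lib.Helper24.FlatNilSmooth

set_option autoImplicit false
set_option linter.style.haveILetI false
universe u
open Deform

namespace Groth.Agent.S11280

open IsLocalRing in
/-- formal smoothness of the closed fibre over the residue field `A ⧸ 𝔪` from formal smoothness
over the coefficient field `k`. -/
lemma formallySmooth_quot {k : Type u} [Field k] {A : Type u} [CommRing A] [Algebra k A]
    [IsLocalRing A]
    (hres : ∀ a : A, ∃ c : k, a - algebraMap k A c ∈ IsLocalRing.maximalIdeal A)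
    {B : Type u} [CommRing B] [Algebra A B] [Algebra k B] [IsScalarTower k A B]
    (hsm : Algebra.FormallySmooth k (B ⧸ (IsLocalRing.maximalIdeal A).map (algebraMap A B))) :
    Algebra.FormallySmooth (A ⧸ maximalIdeal A)
      (B ⧸ (maximalIdeal A).map (algebraMap A B)) := by
  refine Algebra.FormallySmooth.of_comp_surjective (fun C _ _ N hN g => ?_)
  letI : Algebra k C := ((algebraMap (A ⧸ maximalIdeal A) C).comp
    ((Ideal.Quotient.mk (maximalIdeal A)).comp (algebraMap k A))).toAlgebra
  have hkC : ∀ c : k, algebraMap k C c =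
      algebraMap (A ⧸ maximalIdeal A) C (Ideal.Quotient.mk _ (algebraMap k A c)) := fun c => rfl
  have hkF : ∀ c : k, algebraMap k (B ⧸ (maximalIdeal A).map (algebraMap A B)) c =
      algebraMap (A ⧸ maximalIdeal A) (B ⧸ (maximalIdeal A).map (algebraMap A B))
        (Ideal.Quotient.mk _ (algebraMap k A c)) := by
    intro c
    change Ideal.Quotient.mk _ (algebraMap k B c) = _
    rw [IsScalarTower.algebraMap_apply k A B]
    rfl
  let gk : (B ⧸ (maximalIdeal A).map (algebraMap A B)) →ₐ[k] C ⧸ N :=
    { g.toRingHom with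
      commutes' := by
        intro c
        change g (algebraMap k _ c) = Ideal.Quotient.mk N (algebraMap k C c)
        rw [hkF, g.commutes, hkC]
        rfl }
  obtain ⟨h, hh⟩ := Algebra.FormallySmooth.comp_surjective k
    (B ⧸ (maximalIdeal A).map (algebraMap A B)) N hN gk
  refine ⟨{ h.toRingHom with commutes' := ?_ }, ?_⟩
  · intro a'
    obtain ⟨a, rfl⟩ := Ideal.Quotient.mk_surjective a'
    obtain ⟨c, hc⟩ := hres a
    have h1 : Ideal.Quotient.mk (maximalIdeal A) a = Ideal.Quotient.mk _ (algebraMap k A c) :=
      Ideal.Quotient.eq.2 hc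
    change h (algebraMap _ _ (Ideal.Quotient.mk (maximalIdeal A) a)) = _
    rw [h1, ← hkF, h.commutes, hkC]
  · ext x
    exact AlgHom.congr_fun hh x

/-- Let k be an algebraically closed field, A a local Artinian k-algebra with residue field k and t an
element of the maximal ideal of A annihilated by the maximal ideal, so that A is a small extension
of A/tA. Let B be a flat A-algebra whose closed fibre B/m_A B is a formally smooth k-algebra (an
infinitesimal deformation over A of a formally smooth k-algebra). Then every A-algebra automorphism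
of B/tB is induced by an A-algebra automorphism of B. (The published statement asks the automorphism
of B/tB to induce the identity on B/m_A B; this row does not. The published statement takes the
closed fibre smooth, that is formally smooth and essentially of finite type; this row asks the
closed fibre to be formally smooth over k in the sense of lifting along all square-zero surjections
of commutative k-algebras, with no finiteness condition.) -/
theorem result
    {k : Type u} [Field k] [IsAlgClosed k]
    {A : Type u} [CommRing A] [Algebra k A] [IsLocalRing A] [IsArtinianRing A]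
    (hres : ∀ a : A, ∃ c : k, a - algebraMap k A c ∈ IsLocalRing.maximalIdeal A)
    (t : A) (ht : t ∈ IsLocalRing.maximalIdeal A)
    (htm : ∀ a ∈ IsLocalRing.maximalIdeal A, a * t = 0)
    {B : Type u} [CommRing B] [Algebra A B] [Module.Flat A B] [Algebra k B] [IsScalarTower k A B]
    (hsm : Algebra.FormallySmooth k (B ⧸ (IsLocalRing.maximalIdeal A).map (algebraMap A B)))
    (σ : (B ⧸ Ideal.span {algebraMap A B t}) ≃ₐ[A] (B ⧸ Ideal.span {algebraMap A B t})) :
    ∃ τ : B ≃ₐ[A] B, ∀ b : B,
      Ideal.Quotient.mk (Ideal.span {algebraMap A B t}) (τ b) =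
        σ (Ideal.Quotient.mk (Ideal.span {algebraMap A B t}) b) := by
  classical
  let I : Ideal B := Ideal.span {algebraMap A B t}
  have hI : I = Ideal.span {algebraMap A B t} := rfl
  have htt : t * t = 0 := htm t ht
  have hI2 : I ^ 2 = ⊥ := by
    rw [hI, Ideal.span_singleton_pow, ← map_pow, pow_two, htt, map_zero]
    simp
  have hInil : IsNilpotent I := ⟨2, hI2⟩
  -- `B` is formally smooth over `A`
  haveI : Algebra.FormallySmooth (A ⧸ IsLocalRing.maximalIdeal A)
      (B ⧸ (IsLocalRing.maximalIdeal A).map (algebraMap A B)) := formallySmooth_quot hres hsm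
  have hnil : IsNilpotent (IsLocalRing.maximalIdeal A) := by
    have := IsArtinianRing.isNilpotent_jacobson_bot (R := A)
    rwa [IsLocalRing.jacobson_eq_maximalIdeal ⊥ bot_ne_top] at this
  haveI : Algebra.FormallySmooth A B :=
    Groth.Agent.Lib.Helper24.FlatNilSmooth.formallySmooth_of_flat_of_isNilpotent
      (IsLocalRing.maximalIdeal A) hnil
  -- the lift
  let g : B →ₐ[A] B ⧸ I := σ.toAlgHom.comp (Ideal.Quotient.mkₐ A I)
  let τ₀ : B →ₐ[A] B := Algebra.FormallySmooth.lift I hInil g
  have hτ₀ : ∀ b, Ideal.Quotient.mk I (τ₀ b) = σ (Ideal.Quotient.mk I b) := fun b =>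
    Algebra.FormallySmooth.mk_lift I hInil g b
  have hmemI : ∀ b : B, b ∈ I ↔ ∃ c, b = algebraMap A B t * c := by
    intro b
    rw [hI, Ideal.mem_span_singleton']
    constructor
    · rintro ⟨c, rfl⟩; exact ⟨c, mul_comm _ _⟩
    · rintro ⟨c, rfl⟩; exact ⟨c, mul_comm _ _⟩
  have hτt : ∀ c : B, τ₀ (algebraMap A B t * c) = algebraMap A B t * τ₀ c := by
    intro c
    rw [map_mul, τ₀.commutes]
  -- surjectivity
  have hsurj : Function.Surjective τ₀ := by
    have step : ∀ b : B, ∃ b₁ c : B, b = τ₀ b₁ + algebraMap A B t * c := by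
      intro b
      obtain ⟨b₁, hb₁⟩ := Ideal.Quotient.mk_surjective (σ.symm (Ideal.Quotient.mk I b))
      have h1 : Ideal.Quotient.mk I (τ₀ b₁) = Ideal.Quotient.mk I b := by
        rw [hτ₀, hb₁, AlgEquiv.apply_symm_apply]
      have h2 : b - τ₀ b₁ ∈ I := by
        rw [← Ideal.Quotient.eq, h1]
      obtain ⟨c, hc⟩ := (hmemI _).1 h2
      exact ⟨b₁, c, by rw [← hc]; ring⟩
    intro b
    obtain ⟨b₁, c, hb⟩ := step b
    obtain ⟨c₁, c', hc⟩ := step c
    refine ⟨b₁ + algebraMap A B t * c₁, ?_⟩
    rw [map_add, hτt, hb, hc, mul_add, ← mul_assoc, ← map_mul, htt, map_zero, zero_mul, add_zero]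
  -- injectivity
  have hinj : Function.Injective τ₀ := by
    rw [injective_iff_map_eq_zero]
    intro b hb
    have h1 : Ideal.Quotient.mk I b = 0 := by
      have := hτ₀ b
      rw [hb, map_zero] at this
      exact (map_eq_zero_iff σ σ.injective).1 this.symm
    obtain ⟨c, rfl⟩ := (hmemI b).1 (Ideal.Quotient.eq_zero_iff_mem.1 h1)
    by_cases ht0 : t = 0
    · rw [ht0, map_zero, zero_mul]
    rw [hτt] at hb
    have h2 : τ₀ c ∈ (IsLocalRing.maximalIdeal A).map (algebraMap A B) :=
      Groth.Agent.S12498.mem_of_t_mul_eq_zero t ht0 _ hb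
    -- transport through `σ⁻¹`
    have h3 : Ideal.Quotient.mk I c ∈
        (IsLocalRing.maximalIdeal A).map (algebraMap A (B ⧸ I)) := by
      have h4 : Ideal.Quotient.mk I (τ₀ c) ∈
          (IsLocalRing.maximalIdeal A).map (algebraMap A (B ⧸ I)) := by
        have := Ideal.mem_map_of_mem (Ideal.Quotient.mk I) h2
        rwa [Ideal.map_map] at this
      rw [hτ₀] at h4
      have h5 := Ideal.mem_map_of_mem (σ.symm.toAlgHom : (B ⧸ I) →+* (B ⧸ I)) h4
      rw [Ideal.map_map] at h5
      have h6 : ((σ.symm.toAlgHom : (B ⧸ I) →+* (B ⧸ I)).comp (algebraMap A (B ⧸ I))) =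
          algebraMap A (B ⧸ I) := by
        ext a
        exact σ.symm.commutes a
      rw [h6] at h5
      simpa using h5
    have h7 : c ∈ (IsLocalRing.maximalIdeal A).map (algebraMap A B) := by
      have h8 : (IsLocalRing.maximalIdeal A).map (algebraMap A (B ⧸ I)) =
          ((IsLocalRing.maximalIdeal A).map (algebraMap A B)).map (Ideal.Quotient.mk I) := by
        rw [Ideal.map_map]; rfl
      rw [h8] at h3
      have h9 := Ideal.mem_comap.2 h3
      rw [Ideal.comap_map_of_surjective _ Ideal.Quotient.mk_surjective, ← RingHom.ker_eq_comap_bot,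
        Ideal.mk_ker] at h9
      have hIle : I ≤ (IsLocalRing.maximalIdeal A).map (algebraMap A B) := by
        rw [hI, Ideal.span_singleton_le_iff_mem]
        exact Ideal.mem_map_of_mem _ ht
      exact (sup_eq_left.2 hIle) ▸ h9
    exact Groth.Agent.S12498.t_mul_eq_zero t htm c h7
  refine ⟨AlgEquiv.ofBijective τ₀ ⟨hinj, hsurj⟩, ?_⟩
  intro b
  exact hτ₀ b

end Groth.Agent.S11280
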