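import Groth.Statements.S11281
import Mathlib

set_option autoImplicit false
universe u
open Deform

namespace Groth.Agent.S11281

open IsLocalRing

section common

variable {k : Type u} [Field k] {Λ : Type u} [CommRing Λ] [Algebra k Λ]
  {R : Type u} [CommRing R] [Algebra Λ R] [IsLocalRing R]

/-- the structure map `k → R`. -/
noncomputable def algK (k : Type u) [Field k] (Λ : Type u) [CommRing Λ] [Algebra k Λ]
    (R : Type u) [CommRing R] [Algebra Λ R] : k →+* R :=
  (algebraMap Λ R).comp (algebraMap k Λ)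

lemma algK_apply (c : k) : algK k Λ R c = algebraMap Λ R (algebraMap k Λ c) := rfl

/-- `k → ResidueField R`. -/
noncomputable def iotaK (k : Type u) [Field k] (Λ : Type u) [CommRing Λ] [Algebra k Λ]
    (R : Type u) [CommRing R] [Algebra Λ R] [IsLocalRing R] : k →+* ResidueField R :=
  (residue R).comp (algK k Λ R)

lemma iotaK_bijective (hR : ∀ r : R, ∃ c : k, r - algebraMap Λ R (algebraMap k Λ c) ∈ maximalIdeal R) :
    Function.Bijective (iotaK k Λ R) := by
  refine ⟨(iotaK k Λ R).injective, fun x => ?_⟩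
  obtain ⟨r, rfl⟩ := residue_surjective x
  obtain ⟨c, hc⟩ := hR r
  refine ⟨c, ?_⟩
  change residue R (algK k Λ R c) = residue R r
  rw [← sub_eq_zero, ← map_sub, residue_eq_zero_iff]
  have : algK k Λ R c - r = -(r - algebraMap Λ R (algebraMap k Λ c)) := by rw [algK_apply]; ring
  rw [this]
  exact Ideal.neg_mem_iff _ |>.2 hc

/-- the residue scalar of an element. -/
noncomputable def eK (hR : ∀ r : R, ∃ c : k, r - algebraMap Λ R (algebraMap k Λ c) ∈ maximalIdeal R) :
    k ≃+* ResidueField R := RingEquiv.ofBijective (iotaK k Λ R) (iotaK_bijective hR)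

lemma eK_apply (hR : ∀ r : R, ∃ c : k, r - algebraMap Λ R (algebraMap k Λ c) ∈ maximalIdeal R) (c : k) :
    eK hR c = residue R (algK k Λ R c) := rfl

lemma sub_algK_mem (hR : ∀ r : R, ∃ c : k, r - algebraMap Λ R (algebraMap k Λ c) ∈ maximalIdeal R) (r : R) :
    r - algK k Λ R ((eK hR).symm (residue R r)) ∈ maximalIdeal R := by
  rw [← residue_eq_zero_iff, map_sub, sub_eq_zero, ← eK_apply hR, RingEquiv.apply_symm_apply]

lemma isUnit_algK [Nontrivial R] (c : k) (hc : c ≠ 0) : IsUnit (algK k Λ R c) := (Ne.isUnit hc).map _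

end common

section fwd

variable {k : Type u} [Field k] {Λ : Type u} [CommRing Λ] [Algebra k Λ]
  {R : Type u} [CommRing R] [Algebra Λ R] [IsLocalRing R]

theorem lift_of_trivial
    (hR : ∀ r : R, ∃ c : k, r - algebraMap Λ R (algebraMap k Λ c) ∈ maximalIdeal R)
    (hX : ∀ X : Exal.Ext Λ R (ResidueField R), X.IsTrivial)
    (B : Type u) [CommRing B] [Algebra Λ B] [IsLocalRing B]
    (hB : ∀ b : B, ∃ c : k, b - algebraMap Λ B (algebraMap k Λ c) ∈ maximalIdeal B)
    (t : B) (ht : t ∈ maximalIdeal B) (htm : ∀ b ∈ maximalIdeal B, b * t = 0)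
    (φ : R →ₐ[Λ] B ⧸ Ideal.span {t}) :
    ∃ φ' : R →ₐ[Λ] B, (Ideal.Quotient.mkₐ Λ (Ideal.span {t})).comp φ' = φ := by
  classical
  by_cases ht0 : t = 0
  · have hinj : Function.Injective (Ideal.Quotient.mkₐ Λ (Ideal.span {t})) := by
      rw [injective_iff_map_eq_zero]
      intro b hb
      have hb' : Ideal.Quotient.mk (Ideal.span {t}) b = 0 := hb
      rw [Ideal.Quotient.eq_zero_iff_mem, ht0, Ideal.span_singleton_zero, Ideal.mem_bot] at hb'
      exact hb'
    let e₀ := AlgEquiv.ofBijective (Ideal.Quotient.mkₐ Λ (Ideal.span {t}))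
      ⟨hinj, Ideal.Quotient.mkₐ_surjective Λ _⟩
    refine ⟨e₀.symm.toAlgHom.comp φ, ?_⟩
    apply AlgHom.ext
    intro r
    change e₀ (e₀.symm (φ r)) = φ r
    rw [AlgEquiv.apply_symm_apply]
  · -- notation
    have hIm : Ideal.span {t} ≤ maximalIdeal B := (Ideal.span_singleton_le_iff_mem _).2 ht
    have htt : t * t = 0 := htm t ht
    have hmk_nonunit : ∀ x ∈ maximalIdeal B, ¬ IsUnit (Ideal.Quotient.mk (Ideal.span {t}) x) := by
      intro x hx hu
      obtain ⟨y, hy⟩ := hu.exists_right_inv
      obtain ⟨y', rfl⟩ := Ideal.Quotient.mk_surjective y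
      rw [← map_mul, ← map_one (Ideal.Quotient.mk (Ideal.span {t})), Ideal.Quotient.eq] at hy
      have h1 : x * y' - 1 ∈ maximalIdeal B := hIm hy
      have h2 : (1 : B) ∈ maximalIdeal B := by
        have := Ideal.sub_mem _ (Ideal.mul_mem_right y' _ hx) h1
        rwa [sub_sub_cancel] at this
      exact (Ideal.ne_top_iff_one _).1 (IsLocalRing.maximalIdeal.isMaximal B).ne_top h2
    have hφalg : ∀ c : k, φ (algK k Λ R c) = Ideal.Quotient.mk (Ideal.span {t}) (algK k Λ B c) := by
      intro c
      rw [algK_apply, algK_apply, AlgHom.commutes]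
      rfl
    -- locality
    have hloc : ∀ m ∈ maximalIdeal R, ∀ b : B, Ideal.Quotient.mk (Ideal.span {t}) b = φ m →
        b ∈ maximalIdeal B := by
      intro m hm b hb
      obtain ⟨c, hc⟩ := hB b
      by_cases hc0 : c = 0
      · rw [hc0, map_zero, map_zero, sub_zero] at hc
        exact hc
      · exfalso
        have hu : IsUnit (m - algK k Λ R c) := by
          by_contra hnu
          have h1 : m - algK k Λ R c ∈ maximalIdeal R := hnu
          have h2 : algK k Λ R c ∈ maximalIdeal R := by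
            have := Ideal.sub_mem _ hm h1
            rwa [sub_sub_cancel] at this
          exact h2 (isUnit_algK c hc0)
        have hu2 : IsUnit (φ (m - algK k Λ R c)) := hu.map φ
        rw [map_sub, ← hb, hφalg, ← map_sub] at hu2
        exact hmk_nonunit _ hc hu2
    -- elements of the ideal `(t)` are `k`-multiples of `t`
    have hIt : ∀ b : B, ∃ c : k, b * t = algK k Λ B c * t := by
      intro b
      obtain ⟨c, hc⟩ := hB b
      refine ⟨c, ?_⟩
      have h1 := htm _ hc
      rw [sub_mul] at h1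
      exact sub_eq_zero.1 h1
    -- the middle ring
    let E : Subalgebra Λ (R × B) :=
      AlgHom.equalizer (φ.comp (AlgHom.fst Λ R B)) ((Ideal.Quotient.mkₐ Λ (Ideal.span {t})).comp (AlgHom.snd Λ R B))
    have hEmem : ∀ p : R × B, p ∈ E ↔ φ p.1 = Ideal.Quotient.mk (Ideal.span {t}) p.2 := fun p => Iff.rfl
    let proj : E →ₐ[Λ] R := (AlgHom.fst Λ R B).comp E.val
    have hincl_mem : ∀ z : ResidueField R, ((0 : R), algK k Λ B ((eK hR).symm z) * t) ∈ E := by
      intro z
      rw [hEmem]
      change φ 0 = _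
      rw [map_zero, eq_comm, Ideal.Quotient.eq_zero_iff_mem]
      exact Ideal.mul_mem_left _ _ (Ideal.mem_span_singleton_self t)
    let incl : ResidueField R →+ E :=
      { toFun := fun z => ⟨((0 : R), algK k Λ B ((eK hR).symm z) * t), hincl_mem z⟩
        map_zero' := by
          apply Subtype.ext
          change ((0 : R), algK k Λ B ((eK hR).symm 0) * t) = (0, 0)
          rw [map_zero, map_zero, zero_mul]
        map_add' := fun z z' => by
          apply Subtype.ext
          change ((0 : R), algK k Λ B ((eK hR).symm (z + z')) * t) =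
            ((0 : R) + 0, algK k Λ B ((eK hR).symm z) * t + algK k Λ B ((eK hR).symm z') * t)
          rw [map_add, map_add, add_mul, add_zero] }
    have hincl_val : ∀ z, (incl z : R × B) = ((0 : R), algK k Λ B ((eK hR).symm z) * t) := fun z => rfl
    have hext : Exal.IsExtension proj incl := by
      refine ⟨?_, ?_, ?_, ?_⟩
      · intro r
        obtain ⟨b, hb⟩ := Ideal.Quotient.mk_surjective (φ r)
        exact ⟨⟨(r, b), (hEmem _).2 hb.symm⟩, rfl⟩
      · intro z z' h
        have h1 : algK k Λ B ((eK hR).symm z) * t = algK k Λ B ((eK hR).symm z') * t :=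
          congrArg (fun x : E => (x : R × B).2) h
        rw [← sub_eq_zero, ← sub_mul, ← map_sub] at h1
        by_contra hne
        have hc : (eK hR).symm z - (eK hR).symm z' ≠ 0 := by
          intro h0
          exact hne ((eK hR).symm.injective (sub_eq_zero.1 h0))
        have hu : IsUnit (algK k Λ B ((eK hR).symm z - (eK hR).symm z')) := isUnit_algK _ hc
        exact ht0 ((hu.mul_right_eq_zero).1 h1)
      · intro x
        constructor
        · intro hx
          have hx1 : (x : R × B).1 = 0 := hx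
          have hx2 : φ (x : R × B).1 = Ideal.Quotient.mk (Ideal.span {t}) (x : R × B).2 := (hEmem _).1 x.2
          rw [hx1, map_zero, eq_comm, Ideal.Quotient.eq_zero_iff_mem, Ideal.mem_span_singleton'] at hx2
          obtain ⟨b', hb'⟩ := hx2
          obtain ⟨c, hc⟩ := hIt b'
          refine ⟨eK hR c, ?_⟩
          apply Subtype.ext
          rw [hincl_val, RingEquiv.symm_apply_apply, ← hc, hb']
          exact Prod.ext hx1.symm rfl
        · rintro ⟨z, rfl⟩
          rfl
      · intro x z
        apply Subtype.ext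
        have hx2 : φ (x : R × B).1 = Ideal.Quotient.mk (Ideal.span {t}) (x : R × B).2 := (hEmem _).1 x.2
        -- the residue scalar of the first component
        set r := (x : R × B).1 with hr
        set b := (x : R × B).2 with hb
        have h1 : b - algK k Λ B ((eK hR).symm (residue R r)) ∈ maximalIdeal B := by
          apply hloc _ (sub_algK_mem hR r)
          rw [map_sub, map_sub, hφalg, hx2]
        have h2 := htm _ h1
        rw [sub_mul, sub_eq_zero] at h2
        have h3 : (eK hR).symm (proj x • z) = (eK hR).symm (residue R r) * (eK hR).symm z := by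
          rw [← map_mul]
          rfl
        change ((x : R × B) * (incl z : R × B)) = (incl (proj x • z) : R × B)
        rw [hincl_val, hincl_val, h3, map_mul]
        apply Prod.ext
        · change r * 0 = 0
          rw [mul_zero]
        · change b * (algK k Λ B ((eK hR).symm z) * t) = _
          rw [mul_left_comm, h2]
          ring
    obtain ⟨s, hs⟩ := hX ⟨E, proj, incl, hext⟩
    refine ⟨(AlgHom.snd Λ R B).comp (E.val.comp s), ?_⟩
    apply AlgHom.ext
    intro r
    have h1 : φ ((s r : E) : R × B).1 = Ideal.Quotient.mk (Ideal.span {t}) ((s r : E) : R × B).2 :=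
      (hEmem _).1 (s r).2
    have h2 : ((s r : E) : R × B).1 = r := hs r
    rw [h2] at h1
    exact h1.symm

end fwd

section bwd

variable {k : Type u} [Field k] {Λ : Type u} [CommRing Λ] [Algebra k Λ]
  {R : Type u} [CommRing R] [Algebra Λ R] [IsLocalRing R]

variable (X : Exal.Ext Λ R (ResidueField R))

lemma mul_incl' (x : X.E) (z : ResidueField R) :
    x * X.incl z = X.incl (residue R (X.proj x) * z) := by
  rw [X.isExtension.mul_incl, Algebra.smul_def, ResidueField.algebraMap_eq]

lemma proj_incl (z : ResidueField R) : X.proj (X.incl z) = 0 :=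
  (X.isExtension.exact _).2 ⟨z, rfl⟩

lemma incl_mul_incl (z w : ResidueField R) : X.incl z * X.incl w = 0 := by
  rw [mul_incl', proj_incl, map_zero, zero_mul, map_zero]

lemma isUnit_of_proj (e : X.E) (h : IsUnit (X.proj e)) : IsUnit e := by
  obtain ⟨r, hr⟩ := h.exists_right_inv
  obtain ⟨e', rfl⟩ := X.isExtension.proj_surjective r
  have h1 : X.proj (e * e' - 1) = 0 := by rw [map_sub, map_mul, hr, map_one, sub_self]
  obtain ⟨z, hz⟩ := (X.isExtension.exact _).1 h1
  have h2 : e * (e' * (1 - X.incl z)) = 1 := by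
    have : e * e' = 1 + X.incl z := by rw [hz]; ring
    rw [← mul_assoc, this]
    have h3 := incl_mul_incl X z z
    linear_combination -h3
  exact IsUnit.of_mul_eq_one _ h2

instance : IsLocalHom (X.proj : X.E →+* R) := ⟨fun e h => isUnit_of_proj X e h⟩

lemma nontrivial_E : Nontrivial X.E := by
  refine ⟨⟨0, 1, fun h => ?_⟩⟩
  have := congrArg X.proj h
  rw [map_zero, map_one] at this
  exact zero_ne_one this

lemma isLocalRing_E : IsLocalRing X.E :=
  haveI := nontrivial_E X
  RingHom.domain_isLocalRing (X.proj : X.E →+* R)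


lemma mem_maximalIdeal_E [IsLocalRing X.E] (e : X.E) :
    e ∈ maximalIdeal X.E ↔ X.proj e ∈ maximalIdeal R := by
  rw [mem_maximalIdeal, mem_maximalIdeal, mem_nonunits_iff, mem_nonunits_iff]
  exact not_congr ⟨fun h => h.map X.proj, fun h => isUnit_of_proj X e h⟩

/-- the generator of the kernel. -/
noncomputable def eps : X.E := X.incl 1

lemma eps_ne_zero : eps X ≠ 0 := by
  intro h
  have : X.incl 1 = X.incl 0 := by rw [map_zero]; exact h
  exact one_ne_zero (X.isExtension.incl_injective this)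

lemma proj_eps : X.proj (eps X) = 0 := proj_incl X 1

lemma incl_eq_mul_eps (z : ResidueField R) : ∃ e : X.E, X.incl z = e * eps X := by
  obtain ⟨r, rfl⟩ := residue_surjective z
  obtain ⟨e, rfl⟩ := X.isExtension.proj_surjective r
  refine ⟨e, ?_⟩
  rw [eps, mul_incl', mul_one]

lemma maximal_mul_eps [IsLocalRing X.E] (e : X.E) (he : e ∈ maximalIdeal X.E) : e * eps X = 0 := by
  rw [eps, mul_incl', (residue_eq_zero_iff _).2 ((mem_maximalIdeal_E X e).1 he), zero_mul, map_zero]

/-- a nonzero ideal inside the kernel contains `eps`. -/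
lemma eps_mem_of_le_ker (J : Ideal X.E) (hJ : J ≤ RingHom.ker (X.proj : X.E →+* R)) (hne : J ≠ ⊥) :
    eps X ∈ J := by
  obtain ⟨x, hxJ, hx0⟩ := Submodule.exists_mem_ne_zero_of_ne_bot hne
  obtain ⟨z, rfl⟩ := (X.isExtension.exact x).1 (hJ hxJ)
  have hz : z ≠ 0 := by
    rintro rfl
    exact hx0 (map_zero _)
  obtain ⟨r, hr⟩ := residue_surjective z⁻¹
  obtain ⟨e, rfl⟩ := X.isExtension.proj_surjective r
  have : eps X = e * X.incl z := by
    rw [mul_incl', hr, inv_mul_cancel₀ hz]
    rfl
  rw [this]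
  exact Ideal.mul_mem_left _ _ hxJ

lemma ker_eq_span : RingHom.ker (X.proj : X.E →+* R) = Ideal.span {eps X} := by
  apply le_antisymm
  · intro x hx
    obtain ⟨z, rfl⟩ := (X.isExtension.exact x).1 hx
    obtain ⟨e, he⟩ := incl_eq_mul_eps X z
    rw [he]
    exact Ideal.mul_mem_left _ _ (Ideal.mem_span_singleton_self _)
  · rw [Ideal.span_singleton_le_iff_mem]
    exact proj_eps X

lemma isNoetherianRing_E [IsNoetherianRing R] : IsNoetherianRing X.E := by
  rw [isNoetherianRing_iff_ideal_fg]
  intro J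
  apply Ideal.fg_of_fg_map_of_fg_inf_ker_of_surjective (f := (X.proj : X.E →+* R))
    ((isNoetherianRing_iff_ideal_fg R).1 inferInstance _) _ X.isExtension.proj_surjective
  by_cases h : J ⊓ RingHom.ker (X.proj : X.E →+* R) = ⊥
  · rw [h]
    exact Submodule.fg_bot
  · have h1 : eps X ∈ J ⊓ RingHom.ker (X.proj : X.E →+* R) := eps_mem_of_le_ker X _ inf_le_right h
    have h2 : J ⊓ RingHom.ker (X.proj : X.E →+* R) = Ideal.span {eps X} := by
      apply le_antisymm
      · rw [← ker_eq_span]
        exact inf_le_right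
      · rw [Ideal.span_singleton_le_iff_mem]
        exact h1
    rw [h2]
    exact ⟨{eps X}, by simp⟩

lemma exists_pow_not_mem [IsNoetherianRing R] [IsLocalRing X.E] :
    ∃ n : ℕ, eps X ∉ maximalIdeal X.E ^ n := by
  haveI := isNoetherianRing_E X
  by_contra hcon
  push Not at hcon
  have h1 : eps X ∈ ⨅ i, maximalIdeal X.E ^ i := by
    rw [Ideal.mem_iInf]
    exact hcon
  rw [Ideal.iInf_pow_eq_bot_of_isLocalRing _ (maximalIdeal.isMaximal X.E).ne_top, Ideal.mem_bot] at h1
  exact eps_ne_zero X h1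


theorem exists_descend' {S T : Type u} [CommRing S] [CommRing T] [Algebra Λ S] [Algebra Λ T]
    (π : S →ₐ[Λ] R) (hπ : Function.Surjective π) (Φ : S →ₐ[Λ] T)
    (h : ∀ g ∈ RingHom.ker π, Φ g = 0) : ∃ φ : R →ₐ[Λ] T, ∀ s, φ (π s) = Φ s := by
  let e := Ideal.quotientKerAlgEquivOfSurjective hπ
  refine ⟨(Ideal.Quotient.liftₐ (RingHom.ker π) Φ h).comp e.symm.toAlgHom, fun s => ?_⟩
  have h1 : e.symm (π s) = Ideal.Quotient.mk (RingHom.ker π) s := by
    rw [AlgEquiv.symm_apply_eq]
    rfl
  change (Ideal.Quotient.liftₐ (RingHom.ker π) Φ h) (e.symm (π s)) = Φ s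
  rw [h1]
  rfl

theorem trivial_of_lift [IsNoetherianRing R]
    (hR : ∀ r : R, ∃ c : k, r - algebraMap Λ R (algebraMap k Λ c) ∈ maximalIdeal R)
    (hL : ∀ (B : Type u) [CommRing B] [Algebra Λ B] [IsLocalRing B] [IsArtinianRing B],
      (∀ b : B, ∃ c : k, b - algebraMap Λ B (algebraMap k Λ c) ∈ IsLocalRing.maximalIdeal B) →
      ∀ t : B, t ∈ IsLocalRing.maximalIdeal B → (∀ b ∈ IsLocalRing.maximalIdeal B, b * t = 0) →
      ∀ φ : R →ₐ[Λ] B ⧸ Ideal.span {t},
        ∃ φ' : R →ₐ[Λ] B, (Ideal.Quotient.mkₐ Λ (Ideal.span {t})).comp φ' = φ)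
    (X : Exal.Ext Λ R (ResidueField R)) : X.IsTrivial := by
  haveI := isLocalRing_E X
  haveI := isNoetherianRing_E X
  obtain ⟨n, hn⟩ := exists_pow_not_mem X
  obtain ⟨I, hI⟩ : ∃ I : Ideal X.E, I = maximalIdeal X.E ^ n := ⟨_, rfl⟩
  rw [← hI] at hn
  have hItop : I ≠ ⊤ := fun h => hn (h ▸ Submodule.mem_top)
  have hIle : I ≤ maximalIdeal X.E := le_maximalIdeal hItop
  haveI : Nontrivial (X.E ⧸ I) := Ideal.Quotient.nontrivial_iff.2 hItop
  haveI : IsLocalRing (X.E ⧸ I) :=
    IsLocalRing.of_surjective' (Ideal.Quotient.mk I) Ideal.Quotient.mk_surjective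
  have hmB : ∀ e : X.E, Ideal.Quotient.mk I e ∈ maximalIdeal (X.E ⧸ I) ↔ e ∈ maximalIdeal X.E := by
    intro e
    constructor
    · intro h
      rw [mem_maximalIdeal, mem_nonunits_iff] at h ⊢
      exact fun hu => h (hu.map _)
    · intro h
      rw [mem_maximalIdeal, mem_nonunits_iff]
      intro hu
      obtain ⟨y, hy⟩ := hu.exists_right_inv
      obtain ⟨y', rfl⟩ := Ideal.Quotient.mk_surjective y
      rw [← map_mul, ← map_one (Ideal.Quotient.mk I), Ideal.Quotient.eq] at hy
      have h1 : e * y' - 1 ∈ maximalIdeal X.E := hIle hy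
      have h2 : (1 : X.E) ∈ maximalIdeal X.E := by
        have := Ideal.sub_mem _ (Ideal.mul_mem_right y' _ h) h1
        rwa [sub_sub_cancel] at this
      exact (Ideal.ne_top_iff_one _).1 (maximalIdeal.isMaximal X.E).ne_top h2
  haveI : IsArtinianRing (X.E ⧸ I) := by
    rw [isArtinianRing_iff_isNilpotent_maximalIdeal]
    refine ⟨n, ?_⟩
    rw [Ideal.zero_eq_bot, ← le_bot_iff]
    have hle : maximalIdeal (X.E ⧸ I) ≤ (maximalIdeal X.E).map (Ideal.Quotient.mk I) := by
      intro x hx
      obtain ⟨a, rfl⟩ := Ideal.Quotient.mk_surjective x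
      exact Ideal.mem_map_of_mem _ ((hmB a).1 hx)
    calc maximalIdeal (X.E ⧸ I) ^ n
        ≤ ((maximalIdeal X.E).map (Ideal.Quotient.mk I)) ^ n := Ideal.pow_right_mono hle _
      _ = I.map (Ideal.Quotient.mk I) := by rw [← Ideal.map_pow, hI]
      _ = ⊥ := Ideal.map_quotient_self _
      _ ≤ ⊥ := le_rfl
  have hB : ∀ b : X.E ⧸ I, ∃ c : k,
      b - algebraMap Λ (X.E ⧸ I) (algebraMap k Λ c) ∈ maximalIdeal (X.E ⧸ I) := by
    intro b
    obtain ⟨e, rfl⟩ := Ideal.Quotient.mk_surjective b
    obtain ⟨c, hc⟩ := hR (X.proj e)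
    refine ⟨c, ?_⟩
    have : Ideal.Quotient.mk I e - algebraMap Λ (X.E ⧸ I) (algebraMap k Λ c) =
        Ideal.Quotient.mk I (e - algebraMap Λ X.E (algebraMap k Λ c)) := by
      rw [map_sub]
      rfl
    rw [this, hmB, mem_maximalIdeal_E, map_sub, AlgHom.commutes]
    exact hc
  have heps_m : eps X ∈ maximalIdeal X.E := by
    rw [mem_maximalIdeal_E, proj_eps]
    exact Ideal.zero_mem _
  obtain ⟨t, ht⟩ : ∃ t : X.E ⧸ I, t = Ideal.Quotient.mk I (eps X) := ⟨_, rfl⟩
  have htm : t ∈ maximalIdeal (X.E ⧸ I) := by rw [ht, hmB]; exact heps_m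
  have htann : ∀ b ∈ maximalIdeal (X.E ⧸ I), b * t = 0 := by
    intro b hb
    obtain ⟨e, rfl⟩ := Ideal.Quotient.mk_surjective b
    rw [ht, ← map_mul, maximal_mul_eps X e ((hmB e).1 hb), map_zero]
  let q : X.E →ₐ[Λ] (X.E ⧸ I) ⧸ Ideal.span {t} :=
    (Ideal.Quotient.mkₐ Λ (Ideal.span {t})).comp (Ideal.Quotient.mkₐ Λ I)
  have hq : ∀ g ∈ RingHom.ker X.proj, q g = 0 := by
    intro g hg
    have hg' : g ∈ RingHom.ker (X.proj : X.E →+* R) := hg
    rw [ker_eq_span, Ideal.mem_span_singleton'] at hg'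
    obtain ⟨a, rfl⟩ := hg'
    rw [map_mul]
    have : q (eps X) = 0 := by
      change Ideal.Quotient.mk (Ideal.span {t}) (Ideal.Quotient.mk I (eps X)) = 0
      rw [← ht, Ideal.Quotient.eq_zero_iff_mem]
      exact Ideal.mem_span_singleton_self t
    rw [this, mul_zero]
  obtain ⟨φ, hφ⟩ := exists_descend' X.proj X.isExtension.proj_surjective q hq
  obtain ⟨φ', hφ'⟩ := hL (X.E ⧸ I) hB t htm htann φ
  have hφ'' : ∀ r, Ideal.Quotient.mk (Ideal.span {t}) (φ' r) = φ r := fun r =>
    congrArg (fun f : R →ₐ[Λ] (X.E ⧸ I) ⧸ Ideal.span {t} => f r) hφ'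
  have hex : ∀ r : R, ∃ e : X.E, X.proj e = r ∧ Ideal.Quotient.mk I e = φ' r := by
    intro r
    obtain ⟨e₀, he₀⟩ := X.isExtension.proj_surjective r
    have h1 : Ideal.Quotient.mk (Ideal.span {t}) (Ideal.Quotient.mk I e₀ - φ' r) = 0 := by
      rw [map_sub, hφ'', ← he₀, hφ]
      exact sub_self _
    rw [Ideal.Quotient.eq_zero_iff_mem, Ideal.mem_span_singleton'] at h1
    obtain ⟨b, hb⟩ := h1
    obtain ⟨e₁, rfl⟩ := Ideal.Quotient.mk_surjective b
    refine ⟨e₀ - e₁ * eps X, ?_, ?_⟩
    · rw [map_sub, map_mul, proj_eps, mul_zero, sub_zero, he₀]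
    · rw [map_sub, map_mul, ← ht, hb]
      ring
  have huniq : ∀ e e' : X.E, X.proj e = X.proj e' → Ideal.Quotient.mk I e = Ideal.Quotient.mk I e' →
      e = e' := by
    intro e e' h1 h2
    by_contra hne
    have h3 : e - e' ∈ RingHom.ker (X.proj : X.E →+* R) ⊓ I := by
      refine ⟨?_, Ideal.Quotient.eq.1 h2⟩
      change X.proj (e - e') = 0
      rw [map_sub, h1, sub_self]
    have h4 : RingHom.ker (X.proj : X.E →+* R) ⊓ I ≠ ⊥ := by
      intro h
      rw [h, Ideal.mem_bot, sub_eq_zero] at h3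
      exact hne h3
    exact hn (eps_mem_of_le_ker X _ inf_le_left h4).2
  choose s hs1 hs2 using hex
  refine ⟨{ toFun := s
            map_one' := ?_
            map_mul' := ?_
            map_zero' := ?_
            map_add' := ?_
            commutes' := ?_ }, hs1⟩
  · apply huniq
    · rw [hs1, map_one]
    · rw [hs2, map_one, map_one]
  · intro a b
    apply huniq
    · rw [hs1, map_mul, hs1, hs1]
    · rw [hs2, map_mul, map_mul, hs2, hs2]
  · apply huniq
    · rw [hs1, map_zero]
    · rw [hs2, map_zero, map_zero]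
  · intro a b
    apply huniq
    · rw [hs1, map_add, hs1, hs1]
    · rw [hs2, map_add, map_add, hs2, hs2]
  · intro a
    apply huniq
    · rw [hs1, AlgHom.commutes]
    · rw [hs2, AlgHom.commutes]
      rfl

end bwd

/-- Let k be an algebraically closed field, Λ a local Noetherian k-algebra with residue field k, and R a
local Noetherian Λ-algebra, with local structure map and residue field k. The following are
equivalent: (a) every Λ-extension of R by its residue field k is trivial, i.e. the relative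
obstruction space o(R/Λ) = Ex_Λ(R, k) vanishes; (b) for every local Artinian Λ-algebra B with
residue field k and every t in the maximal ideal of B annihilated by the maximal ideal, every
Λ-algebra map R → B/tB lifts to a Λ-algebra map R → B (formal smoothness of R over Λ tested on small
extensions of Artinian rings). The test algebras B range over the universe of R. -/
theorem result
    {k : Type u} [Field k] [IsAlgClosed k]
    {Λ : Type u} [CommRing Λ] [Algebra k Λ] [IsLocalRing Λ] [IsNoetherianRing Λ]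
    (hΛ : ∀ a : Λ, ∃ c : k, a - algebraMap k Λ c ∈ IsLocalRing.maximalIdeal Λ)
    {R : Type u} [CommRing R] [Algebra Λ R] [IsLocalRing R] [IsNoetherianRing R]
    [IsLocalHom (algebraMap Λ R)]
    (hR : ∀ r : R, ∃ c : k, r - algebraMap Λ R (algebraMap k Λ c) ∈ IsLocalRing.maximalIdeal R) :
    (∀ X : Exal.Ext Λ R (IsLocalRing.ResidueField R), X.IsTrivial) ↔
    (∀ (B : Type u) [CommRing B] [Algebra Λ B] [IsLocalRing B] [IsArtinianRing B],
      (∀ b : B, ∃ c : k, b - algebraMap Λ B (algebraMap k Λ c) ∈ IsLocalRing.maximalIdeal B) →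
      ∀ t : B, t ∈ IsLocalRing.maximalIdeal B → (∀ b ∈ IsLocalRing.maximalIdeal B, b * t = 0) →
      ∀ φ : R →ₐ[Λ] B ⧸ Ideal.span {t},
        ∃ φ' : R →ₐ[Λ] B, (Ideal.Quotient.mkₐ Λ (Ideal.span {t})).comp φ' = φ) := by
  constructor
  · intro hX B _ _ _ _ hB t ht htm φ
    exact lift_of_trivial hR hX B hB t ht htm φ
  · intro hL X
    exact trivial_of_lift hR hL X

end Groth.Agent.S11281
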