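import Groth.Statements.S11282
import Mathlib
import Groth.Agent.S11281

set_option autoImplicit false
universe u
open Deform

namespace Groth.Agent.S11282

open IsLocalRing Groth.Agent.S11281

section

variable {k : Type u} [Field k] {Λ : Type u} [CommRing Λ] [Algebra k Λ]
  {R : Type u} [CommRing R] [Algebra Λ R] [IsLocalRing R]

/-- the syzygy pairing `R^d → R` for a family `x`. -/
noncomputable def piMap {d : ℕ} (x : Fin d → R) : (Fin d → R) →ₗ[R] R :=
  Fintype.linearCombination R x

lemma piMap_apply {d : ℕ} (x : Fin d → R) (f : Fin d → R) : piMap x f = ∑ i, f i * x i := by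
  rw [piMap, Fintype.linearCombination_apply]
  rfl

variable (X : Exal.Ext Λ R (ResidueField R))

/-- the evaluation `E^d → E` at lifts `y`. -/
noncomputable def theta {d : ℕ} (y : Fin d → X.E) (g : Fin d → X.E) : X.E := ∑ i, g i * y i

lemma theta_add {d : ℕ} (y : Fin d → X.E) (g g' : Fin d → X.E) :
    theta X y (g + g') = theta X y g + theta X y g' := by
  rw [theta, theta, theta, ← Finset.sum_add_distrib]
  exact Finset.sum_congr rfl fun i _ => by rw [Pi.add_apply, add_mul]

lemma theta_smul {d : ℕ} (y : Fin d → X.E) (a : X.E) (g : Fin d → X.E) :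
    theta X y (a • g) = a * theta X y g := by
  rw [theta, theta, Finset.mul_sum]
  exact Finset.sum_congr rfl fun i _ => by rw [Pi.smul_apply, smul_eq_mul, mul_assoc]

lemma proj_theta {d : ℕ} (x : Fin d → R) (y : Fin d → X.E) (hy : ∀ i, X.proj (y i) = x i)
    (g : Fin d → X.E) : X.proj (theta X y g) = piMap x (fun i => X.proj (g i)) := by
  rw [theta, piMap_apply, map_sum]
  exact Finset.sum_congr rfl fun i _ => by rw [map_mul, hy]

/-- `theta` only depends on the image in `R^d` when the `y i` lie in the maximal ideal. -/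
lemma theta_eq_of_proj_eq [IsLocalRing X.E] {d : ℕ} (y : Fin d → X.E)
    (hym : ∀ i, y i ∈ maximalIdeal X.E)
    (g g' : Fin d → X.E) (h : ∀ i, X.proj (g i) = X.proj (g' i)) : theta X y g = theta X y g' := by
  rw [theta, theta]
  refine Finset.sum_congr rfl fun i _ => ?_
  have h1 : g i - g' i ∈ RingHom.ker (X.proj : X.E →+* R) := by
    change X.proj (g i - g' i) = 0
    rw [map_sub, h i, sub_self]
  rw [ker_eq_span, Ideal.mem_span_singleton'] at h1
  obtain ⟨a, ha⟩ := h1
  have h2 : (g i - g' i) * y i = 0 := by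
    rw [← ha, mul_assoc, mul_comm (eps X), maximal_mul_eps X _ (hym i), mul_zero]
  rw [← sub_eq_zero, ← sub_mul]
  exact h2

end

section main

variable {k : Type u} [Field k] {Λ : Type u} [CommRing Λ] [Algebra k Λ]
  {R : Type u} [CommRing R] [Algebra Λ R] [IsLocalRing R]

variable (X : Exal.Ext Λ R (ResidueField R))

lemma theta_eq_zero_of_mem [IsLocalRing X.E] {d : ℕ} (x : Fin d → R) (y : Fin d → X.E)
    (hy : ∀ i, X.proj (y i) = x i) (hym : ∀ i, y i ∈ maximalIdeal X.E)
    (f : Fin d → R) (hf : f ∈ maximalIdeal R • LinearMap.ker (piMap x)) :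
    ∀ g : Fin d → X.E, (∀ i, X.proj (g i) = f i) → theta X y g = 0 := by
  refine Submodule.smul_induction_on hf ?_ ?_
  · intro r hr z hz g hg
    obtain ⟨r', hr'⟩ := X.isExtension.proj_surjective r
    choose z' hz' using fun i => X.isExtension.proj_surjective (z i)
    have h1 : theta X y g = theta X y (r' • z') := by
      apply theta_eq_of_proj_eq X y hym
      intro i
      rw [hg i, Pi.smul_apply, Pi.smul_apply, smul_eq_mul, smul_eq_mul, map_mul, hr', hz']
    rw [h1, theta_smul]
    have h2 : theta X y z' ∈ RingHom.ker (X.proj : X.E →+* R) := by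
      change X.proj (theta X y z') = 0
      rw [proj_theta X x y hy]
      have : (fun i => X.proj (z' i)) = z := funext hz'
      rw [this]
      exact hz
    rw [ker_eq_span, Ideal.mem_span_singleton'] at h2
    obtain ⟨a, ha⟩ := h2
    have hr'm : r' ∈ maximalIdeal X.E := by
      rw [mem_maximalIdeal_E, hr']
      exact hr
    rw [← ha, mul_left_comm, maximal_mul_eps X _ hr'm, mul_zero]
  · intro f₁ f₂ h₁ h₂ g hg
    choose g₁ hg₁ using fun i => X.isExtension.proj_surjective (f₁ i)
    have h3 : g = g₁ + (g - g₁) := by abel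
    rw [h3, theta_add, h₁ g₁ hg₁, h₂ (g - g₁), add_zero]
    intro i
    rw [Pi.sub_apply, map_sub, hg i, hg₁ i, Pi.add_apply, add_sub_cancel_left]

lemma map_proj_maximalIdeal_le [IsLocalRing X.E] :
    (maximalIdeal X.E).map (X.proj : X.E →+* R) ≤ maximalIdeal R := by
  rw [Ideal.map_le_iff_le_comap]
  intro e he
  exact (mem_maximalIdeal_E X e).1 he

theorem eps_not_mem [IsLocalRing X.E] {d : ℕ} (x : Fin d → R)
    (hx : Ideal.span (Set.range x) = maximalIdeal R) (c : ℕ)
    (hc : (maximalIdeal R ^ (c + 1) • (⊤ : Submodule R (Fin d → R))) ⊓ LinearMap.ker (piMap x) ≤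
      maximalIdeal R • LinearMap.ker (piMap x)) :
    eps X ∉ maximalIdeal X.E ^ (c + 2) := by
  choose y hy using fun i => X.isExtension.proj_surjective (x i)
  have hym : ∀ i, y i ∈ maximalIdeal X.E := by
    intro i
    rw [mem_maximalIdeal_E, hy, ← hx]
    exact Ideal.subset_span ⟨i, rfl⟩
  have hdecomp : ∀ w ∈ maximalIdeal X.E ^ (c + 1) * maximalIdeal X.E,
      ∃ a : Fin d → X.E, (∀ i, a i ∈ maximalIdeal X.E ^ (c + 1)) ∧ w = theta X y a := by
    intro w hw
    refine Submodule.mul_induction_on hw ?_ ?_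
    · intro u hu v hv
      have hpv : X.proj v ∈ Ideal.span (Set.range x) := by
        rw [hx]
        exact (mem_maximalIdeal_E X v).1 hv
      rw [Ideal.mem_span_range_iff_exists_fun] at hpv
      obtain ⟨r, hr⟩ := hpv
      choose b hb using fun i => X.isExtension.proj_surjective (r i)
      have h1 : v - theta X y b ∈ RingHom.ker (X.proj : X.E →+* R) := by
        change X.proj (v - theta X y b) = 0
        rw [map_sub, proj_theta X x y hy, piMap_apply, ← hr, sub_eq_zero]
        exact Finset.sum_congr rfl fun i _ => by rw [hb]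
      rw [ker_eq_span, Ideal.mem_span_singleton'] at h1
      obtain ⟨a, ha⟩ := h1
      have hum : u ∈ maximalIdeal X.E := Ideal.pow_le_self (Nat.succ_ne_zero c) hu
      refine ⟨u • b, fun i => ?_, ?_⟩
      · rw [Pi.smul_apply, smul_eq_mul]
        exact Ideal.mul_mem_right _ _ hu
      · rw [theta_smul]
        have : v = theta X y b + a * eps X := by rw [ha]; ring
        rw [this, mul_add, mul_left_comm, maximal_mul_eps X u hum, mul_zero, add_zero]
    · intro w₁ w₂ h₁ h₂
      obtain ⟨a₁, ha₁, rfl⟩ := h₁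
      obtain ⟨a₂, ha₂, rfl⟩ := h₂
      exact ⟨a₁ + a₂, fun i => Ideal.add_mem _ (ha₁ i) (ha₂ i), (theta_add X y a₁ a₂).symm⟩
  intro hmem
  rw [pow_succ] at hmem
  obtain ⟨a, ha, hε⟩ := hdecomp _ hmem
  have hpa : ∀ i, X.proj (a i) ∈ maximalIdeal R ^ (c + 1) := by
    intro i
    have h1 : X.proj (a i) ∈ (maximalIdeal X.E ^ (c + 1)).map (X.proj : X.E →+* R) :=
      Ideal.mem_map_of_mem _ (ha i)
    rw [Ideal.map_pow] at h1
    exact Ideal.pow_right_mono (map_proj_maximalIdeal_le X) _ h1
  have hf1 : (fun i => X.proj (a i)) ∈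
      (maximalIdeal R ^ (c + 1) • (⊤ : Submodule R (Fin d → R))) := by
    have : (fun i => X.proj (a i)) = ∑ i, X.proj (a i) • (Pi.single i 1 : Fin d → R) := by
      funext j
      rw [Finset.sum_apply]
      simp [Pi.single_apply]
    rw [this]
    exact Submodule.sum_mem _ fun i _ => Submodule.smul_mem_smul (hpa i) Submodule.mem_top
  have hf2 : (fun i => X.proj (a i)) ∈ LinearMap.ker (piMap x) := by
    rw [LinearMap.mem_ker, ← proj_theta X x y hy, ← hε, proj_eps]
  have h0 := theta_eq_zero_of_mem X x y hy hym _ (hc ⟨hf1, hf2⟩) a (fun i => rfl)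
  rw [← hε] at h0
  exact eps_ne_zero X h0

end main

/-- Let k be an algebraically closed field, Λ a complete local Noetherian k-algebra with residue field
k, and R a local Noetherian Λ-algebra with local structure map, residue field k and maximal ideal m.
Then for some n the pull-back map o((R/m^(n+1))/Λ) → o(R/Λ) on obstruction spaces is onto: every
Λ-extension 0 → k → E → R → 0 of R by its residue field is the inverse image of a Λ-extension of
R/m^(n+1) by k. Concretely, the middle ring E of every such extension contains an ideal I which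
meets the kernel k only in 0 and whose image in R is exactly m^(n+1) (then E/I is an extension of
R/m^(n+1) by k whose inverse image along R → R/m^(n+1) is E). -/
theorem result
    {k : Type u} [Field k] [IsAlgClosed k]
    {Λ : Type u} [CommRing Λ] [Algebra k Λ] [IsLocalRing Λ] [IsNoetherianRing Λ]
    [IsAdicComplete (IsLocalRing.maximalIdeal Λ) Λ]
    (hΛ : ∀ a : Λ, ∃ c : k, a - algebraMap k Λ c ∈ IsLocalRing.maximalIdeal Λ)
    {R : Type u} [CommRing R] [Algebra Λ R] [IsLocalRing R] [IsNoetherianRing R]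
    [IsLocalHom (algebraMap Λ R)]
    (hR : ∀ r : R, ∃ c : k, r - algebraMap Λ R (algebraMap k Λ c) ∈ IsLocalRing.maximalIdeal R) :
    ∃ n : ℕ, ∀ X : Exal.Ext Λ R (IsLocalRing.ResidueField R),
      ∃ I : Ideal X.E, (∀ x ∈ I, X.proj x = 0 → x = 0) ∧
        Ideal.map X.proj I = IsLocalRing.maximalIdeal R ^ (n + 1) := by
  obtain ⟨d, x, hx⟩ := (Submodule.fg_iff_exists_fin_generating_family).1
    ((isNoetherianRing_iff_ideal_fg R).1 inferInstance (IsLocalRing.maximalIdeal R))
  have hx' : Ideal.span (Set.range x) = IsLocalRing.maximalIdeal R := hx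
  obtain ⟨c, hc⟩ := Ideal.exists_pow_inf_eq_pow_smul (IsLocalRing.maximalIdeal R)
    (LinearMap.ker (piMap x))
  have hc' : (IsLocalRing.maximalIdeal R ^ (c + 1) • (⊤ : Submodule R (Fin d → R))) ⊓
      LinearMap.ker (piMap x) ≤ IsLocalRing.maximalIdeal R • LinearMap.ker (piMap x) := by
    rw [hc (c + 1) (Nat.le_succ c), Nat.add_sub_cancel_left, pow_one]
    exact Submodule.smul_mono le_rfl inf_le_right
  refine ⟨c + 1, fun X => ?_⟩
  haveI := isLocalRing_E X
  have hn := eps_not_mem X x hx' c hc'
  refine ⟨IsLocalRing.maximalIdeal X.E ^ (c + 1 + 1), ?_, ?_⟩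
  · intro e he hpe
    by_contra hne
    have h1 : IsLocalRing.maximalIdeal X.E ^ (c + 1 + 1) ⊓ RingHom.ker (X.proj : X.E →+* R) ≠ ⊥ := by
      intro h
      have h2 : e ∈ IsLocalRing.maximalIdeal X.E ^ (c + 1 + 1) ⊓ RingHom.ker (X.proj : X.E →+* R) :=
        ⟨he, hpe⟩
      rw [h, Ideal.mem_bot] at h2
      exact hne h2
    exact hn (eps_mem_of_le_ker X _ inf_le_right h1).1
  · have h1 : Ideal.map (X.proj : X.E →+* R) (IsLocalRing.maximalIdeal X.E) = IsLocalRing.maximalIdeal R := by
      apply le_antisymm (map_proj_maximalIdeal_le X)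
      intro r hr
      obtain ⟨e, rfl⟩ := X.isExtension.proj_surjective r
      exact Ideal.mem_map_of_mem _ ((mem_maximalIdeal_E X e).2 hr)
    change Ideal.map (X.proj : X.E →+* R) _ = _
    rw [Ideal.map_pow, h1]

end Groth.Agent.S11282
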