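import Groth.Statements.S11283
import Mathlib
import Groth.Agent.Lib.Helper17.ExalSimple
import Groth.Agent.S0543

set_option autoImplicit false
universe u
open Deform

namespace Groth.Agent.S11283

open IsLocalRing Groth.Agent.Lib.helper17.ExalSimple

section part2

variable {Λ R : Type u} [CommRing Λ] [CommRing R] [Algebra Λ R] [IsLocalRing R] [IsNoetherianRing R]
  (L : Type u) [AddCommGroup L] [Module (AdicCompletion (maximalIdeal R) R) L] [Module R L]
  [IsScalarTower R (AdicCompletion (maximalIdeal R) R) L] [IsSimpleModule R L]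

variable (Y : Exal.Ext Λ R L) [IsLocalRing Y.E] (n : ℕ)

/-- `E_Y / m^n → R / m^n`. -/
noncomputable def g₁ : (Y.E ⧸ maximalIdeal Y.E ^ n) →ₐ[Λ] (R ⧸ maximalIdeal R ^ n) :=
  Ideal.quotientMapₐ (maximalIdeal R ^ n) Y.proj (fun a ha => proj_mem_pow Y n a ha)

lemma g₁_mk (e : Y.E) :
    g₁ L Y n (Ideal.Quotient.mk _ e) = Ideal.Quotient.mk (maximalIdeal R ^ n) (Y.proj e) := rfl

/-- `R̂ → R / m^n`. -/
noncomputable def g₂ : AdicCompletion (maximalIdeal R) R →ₐ[Λ] (R ⧸ maximalIdeal R ^ n) :=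
  (AdicCompletion.evalₐ (maximalIdeal R) n).restrictScalars Λ

lemma g₂_apply (b : AdicCompletion (maximalIdeal R) R) :
    g₂ (Λ := Λ) n b = AdicCompletion.evalₐ (maximalIdeal R) n b := rfl

/-- the middle ring of the extension of the completion. -/
noncomputable def hatE : Subalgebra Λ ((Y.E ⧸ maximalIdeal Y.E ^ n) × AdicCompletion (maximalIdeal R) R) :=
  AlgHom.equalizer ((g₁ L Y n).comp (AlgHom.fst Λ _ _)) ((g₂ n).comp (AlgHom.snd Λ _ _))

lemma mem_hatE (p : (Y.E ⧸ maximalIdeal Y.E ^ n) × AdicCompletion (maximalIdeal R) R) :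
    p ∈ hatE L Y n ↔ g₁ L Y n p.1 = g₂ (Λ := Λ) n p.2 := Iff.rfl


lemma hatIncl_mem (z : L) :
    (Ideal.Quotient.mk (maximalIdeal Y.E ^ n) (Y.incl z), (0 : AdicCompletion (maximalIdeal R) R)) ∈
      hatE L Y n := by
  rw [mem_hatE]
  change g₁ L Y n (Ideal.Quotient.mk _ (Y.incl z)) = g₂ n 0
  rw [g₁_mk, proj_incl, map_zero, map_zero]

/-- the inclusion of `L`. -/
noncomputable def hatIncl : L →+ hatE L Y n where
  toFun z := ⟨_, hatIncl_mem L Y n z⟩
  map_zero' := by
    apply Subtype.ext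
    change (Ideal.Quotient.mk (maximalIdeal Y.E ^ n) (Y.incl 0), (0 : AdicCompletion (maximalIdeal R) R)) = (0, 0)
    rw [map_zero, map_zero]
  map_add' z z' := by
    apply Subtype.ext
    change (Ideal.Quotient.mk (maximalIdeal Y.E ^ n) (Y.incl (z + z')),
      (0 : AdicCompletion (maximalIdeal R) R)) =
      (Ideal.Quotient.mk (maximalIdeal Y.E ^ n) (Y.incl z) + Ideal.Quotient.mk (maximalIdeal Y.E ^ n) (Y.incl z'), 0 + 0)
    rw [map_add, map_add, add_zero]

lemma hatIncl_val (z : L) : ((hatIncl L Y n z : hatE L Y n) :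
    (Y.E ⧸ maximalIdeal Y.E ^ n) × AdicCompletion (maximalIdeal R) R) =
    (Ideal.Quotient.mk (maximalIdeal Y.E ^ n) (Y.incl z), 0) := rfl

/-- the projection to the completion. -/
noncomputable def hatProj : hatE L Y n →ₐ[Λ] AdicCompletion (maximalIdeal R) R :=
  (AlgHom.snd Λ _ _).comp (hatE L Y n).val

lemma hatProj_apply (x : hatE L Y n) : hatProj L Y n x =
    (x : (Y.E ⧸ maximalIdeal Y.E ^ n) × AdicCompletion (maximalIdeal R) R).2 := rfl

theorem hat_isExtension (hn : maximalIdeal Y.E ^ n ⊓ RingHom.ker (Y.proj : Y.E →+* R) = ⊥) :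
    Exal.IsExtension (hatProj L Y n) (hatIncl L Y n) := by
  haveI := isSimpleModule_hat (R := R) L
  have hn1 : 1 ≤ n := one_le_of_pow_inf_ker_eq_bot Y hn
  refine ⟨?_, ?_, ?_, ?_⟩
  · intro b
    obtain ⟨r, hr⟩ := Ideal.Quotient.mk_surjective (AdicCompletion.evalₐ (maximalIdeal R) n b)
    obtain ⟨e, he⟩ := Y.isExtension.proj_surjective r
    refine ⟨⟨(Ideal.Quotient.mk _ e, b), ?_⟩, rfl⟩
    rw [mem_hatE]
    change g₁ L Y n (Ideal.Quotient.mk _ e) = g₂ n b
    rw [g₁_mk, he, hr]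
    rfl
  · intro z z' h
    have h1 : Ideal.Quotient.mk (maximalIdeal Y.E ^ n) (Y.incl z) =
        Ideal.Quotient.mk (maximalIdeal Y.E ^ n) (Y.incl z') :=
      congrArg (fun x : hatE L Y n =>
        (x : (Y.E ⧸ maximalIdeal Y.E ^ n) × AdicCompletion (maximalIdeal R) R).1) h
    rw [Ideal.Quotient.eq, ← map_sub] at h1
    have h2 := eq_zero_of_mem_pow_of_proj Y hn _ h1 (proj_incl Y _)
    rw [incl_eq_zero_iff, sub_eq_zero] at h2
    exact h2
  · intro x
    constructor
    · intro hx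
      have hx2 : (x : (Y.E ⧸ maximalIdeal Y.E ^ n) × AdicCompletion (maximalIdeal R) R).2 = 0 := hx
      have hx1 := (mem_hatE L Y n _).1 x.2
      rw [hx2, map_zero] at hx1
      obtain ⟨e, he⟩ := Ideal.Quotient.mk_surjective
        (x : (Y.E ⧸ maximalIdeal Y.E ^ n) × AdicCompletion (maximalIdeal R) R).1
      rw [← he, g₁_mk, Ideal.Quotient.eq_zero_iff_mem] at hx1
      obtain ⟨a, ha, hae⟩ := exists_mem_pow_proj_eq Y n _ hx1
      have h3 : Y.proj (e - a) = 0 := by rw [map_sub, hae, sub_self]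
      obtain ⟨z, hz⟩ := (Y.isExtension.exact _).1 h3
      refine ⟨z, ?_⟩
      apply Subtype.ext
      rw [hatIncl_val, hz]
      apply Prod.ext
      · change Ideal.Quotient.mk _ (e - a) = _
        rw [map_sub, Ideal.Quotient.eq_zero_iff_mem.2 ha, sub_zero, he]
      · exact hx2.symm
    · rintro ⟨z, rfl⟩
      rfl
  · intro x z
    apply Subtype.ext
    obtain ⟨e, he⟩ := Ideal.Quotient.mk_surjective
      (x : (Y.E ⧸ maximalIdeal Y.E ^ n) × AdicCompletion (maximalIdeal R) R).1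
    have hx1 := (mem_hatE L Y n _).1 x.2
    rw [← he, g₁_mk, g₂_apply, ← evalₐ_algebraMap, ← sub_eq_zero, ← map_sub, evalₐ_eq_zero_iff] at hx1
    have h4 := maximal_smul (L := L) _ (Ideal.pow_le_self (Nat.one_le_iff_ne_zero.1 hn1) hx1) z
    rw [sub_smul, algebraMap_smul, sub_eq_zero] at h4
    change (x : (Y.E ⧸ maximalIdeal Y.E ^ n) × AdicCompletion (maximalIdeal R) R) *
      (hatIncl L Y n z : hatE L Y n) = (hatIncl L Y n (hatProj L Y n x • z) : hatE L Y n)
    rw [hatIncl_val, hatIncl_val, hatProj_apply]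
    apply Prod.ext
    · change (x : (Y.E ⧸ maximalIdeal Y.E ^ n) × AdicCompletion (maximalIdeal R) R).1 *
        Ideal.Quotient.mk _ (Y.incl z) = _
      rw [← he, ← map_mul, Y.isExtension.mul_incl, h4]
    · change (x : (Y.E ⧸ maximalIdeal Y.E ^ n) × AdicCompletion (maximalIdeal R) R).2 * 0 = 0
      rw [mul_zero]

/-- the extension of the completion. -/
noncomputable def hatExt (hn : maximalIdeal Y.E ^ n ⊓ RingHom.ker (Y.proj : Y.E →+* R) = ⊥) :
    Exal.Ext Λ (AdicCompletion (maximalIdeal R) R) L :=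
  ⟨hatE L Y n, hatProj L Y n, hatIncl L Y n, hat_isExtension L Y n hn⟩


variable [IsScalarTower Λ R (AdicCompletion (maximalIdeal R) R)]

lemma phi₁_mem (e : Y.E) :
    ((Ideal.Quotient.mkₐ Λ (maximalIdeal Y.E ^ n)).prod
      ((IsScalarTower.toAlgHom Λ R (AdicCompletion (maximalIdeal R) R)).comp Y.proj)) e ∈ hatE L Y n := by
  rw [mem_hatE]
  change g₁ L Y n (Ideal.Quotient.mk _ e) =
    g₂ n (algebraMap R (AdicCompletion (maximalIdeal R) R) (Y.proj e))
  rw [g₁_mk, g₂_apply, evalₐ_algebraMap]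

/-- `E_Y → Ê`. -/
noncomputable def phi₁ : Y.E →ₐ[Λ] hatE L Y n :=
  AlgHom.codRestrict ((Ideal.Quotient.mkₐ Λ (maximalIdeal Y.E ^ n)).prod
      ((IsScalarTower.toAlgHom Λ R (AdicCompletion (maximalIdeal R) R)).comp Y.proj)) (hatE L Y n)
    (phi₁_mem L Y n)

lemma phi₁_val (e : Y.E) : ((phi₁ L Y n e : hatE L Y n) :
    (Y.E ⧸ maximalIdeal Y.E ^ n) × AdicCompletion (maximalIdeal R) R) =
    (Ideal.Quotient.mk _ e, algebraMap R (AdicCompletion (maximalIdeal R) R) (Y.proj e)) := rfl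

theorem exists_hat (hn : maximalIdeal Y.E ^ n ⊓ RingHom.ker (Y.proj : Y.E →+* R) = ⊥) :
    Nonempty (((hatExt L Y n hn).pullback R).Equiv Y) := by
  have hmem : ∀ e : Y.E, ((phi₁ L Y n).prod Y.proj) e ∈ (hatExt L Y n hn).fiberProd R := by
    intro e
    rfl
  let Φ : Y.E →ₐ[Λ] ((hatExt L Y n hn).fiberProd R) :=
    AlgHom.codRestrict ((phi₁ L Y n).prod Y.proj) _ hmem
  refine ⟨(equivOfHom Y ((hatExt L Y n hn).pullback R) Φ (fun e => rfl) (fun z => ?_)).symm⟩
  apply Subtype.ext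
  apply Prod.ext
  · apply Subtype.ext
    change ((phi₁ L Y n (Y.incl z) : hatE L Y n) :
      (Y.E ⧸ maximalIdeal Y.E ^ n) × AdicCompletion (maximalIdeal R) R) =
      ((hatIncl L Y n z : hatE L Y n) :
        (Y.E ⧸ maximalIdeal Y.E ^ n) × AdicCompletion (maximalIdeal R) R)
    rw [phi₁_val, hatIncl_val, proj_incl, map_zero]
  · exact proj_incl Y z

end part2


section part1

variable {Λ R : Type u} [CommRing Λ] [CommRing R] [Algebra Λ R] [IsLocalRing R] [IsNoetherianRing R]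
  (L : Type u) [AddCommGroup L] [Module (AdicCompletion (maximalIdeal R) R) L] [Module R L]
  [IsScalarTower R (AdicCompletion (maximalIdeal R) R) L] [IsSimpleModule R L]
  [IsScalarTower Λ R (AdicCompletion (maximalIdeal R) R)]

variable (X : Exal.Ext Λ (AdicCompletion (maximalIdeal R) R) L)

/-- the map from the middle ring of the pullback. -/
noncomputable def piX : (X.pullback R).E →ₐ[Λ] X.E :=
  (AlgHom.fst Λ X.E R).comp (X.fiberProd R).val

lemma proj_piX (y : (X.pullback R).E) :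
    X.proj (piX L X y) = algebraMap R (AdicCompletion (maximalIdeal R) R) ((X.pullback R).proj y) :=
  y.2

lemma piX_incl (z : L) : piX L X ((X.pullback R).incl z) = X.incl z := rfl

variable [IsLocalRing X.E] [IsLocalRing (X.pullback R).E]

lemma piX_mem_pow (j : ℕ) (y : (X.pullback R).E) (hy : y ∈ maximalIdeal (X.pullback R).E ^ j) :
    piX L X y ∈ maximalIdeal X.E ^ j := by
  have h1 : (maximalIdeal (X.pullback R).E).map (piX L X : (X.pullback R).E →+* X.E) ≤
      maximalIdeal X.E := by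
    rw [Ideal.map_le_iff_le_comap]
    intro w hw
    rw [Ideal.mem_comap]
    change piX L X w ∈ maximalIdeal X.E
    rw [mem_maximalIdeal_E X, proj_piX]
    have hw' : (X.pullback R).proj w ∈ maximalIdeal R ^ 1 := by
      rw [pow_one]
      exact (mem_maximalIdeal_E (X.pullback R) w).1 hw
    have := algebraMap_mem_pow 1 _ hw'
    rwa [pow_one] at this
  have h2 : piX L X y ∈ (maximalIdeal (X.pullback R).E ^ j).map (piX L X : (X.pullback R).E →+* X.E) :=
    Ideal.mem_map_of_mem _ hy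
  rw [Ideal.map_pow] at h2
  exact Ideal.pow_right_mono h1 j h2

/-- approximation of elements of `X.E` by the pullback. -/
lemma exists_approx (n : ℕ) (e : X.E) :
    ∃ y : (X.pullback R).E, e - piX L X y ∈ maximalIdeal X.E ^ n := by
  obtain ⟨r, hr⟩ := exists_sub_algebraMap_mem n (X.proj e)
  obtain ⟨a, ha, hpa⟩ := exists_mem_pow_proj_eq X n _ hr
  have hmem : ((e - a, r) : X.E × R) ∈ X.fiberProd R := by
    change X.proj (e - a) = algebraMap R (AdicCompletion (maximalIdeal R) R) r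
    rw [map_sub, hpa, sub_sub_cancel]
  refine ⟨⟨(e - a, r), hmem⟩, ?_⟩
  change e - (e - a) ∈ _
  rw [sub_sub_cancel]
  exact ha

/-- elements of the pullback landing in `m_X^n` lie in `m_Y^n`. -/
lemma mem_pow_of_piX_mem (n : ℕ)
    (hn : maximalIdeal X.E ^ n ⊓ RingHom.ker (X.proj : X.E →+* AdicCompletion (maximalIdeal R) R) = ⊥)
    (y : (X.pullback R).E) (hy : piX L X y ∈ maximalIdeal X.E ^ n) :
    y ∈ maximalIdeal (X.pullback R).E ^ n := by
  haveI := isSimpleModule_hat (R := R) L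
  have h1 : algebraMap R (AdicCompletion (maximalIdeal R) R) ((X.pullback R).proj y) ∈
      maximalIdeal (AdicCompletion (maximalIdeal R) R) ^ n := by
    rw [← proj_piX]
    exact proj_mem_pow X n _ hy
  have h2 := mem_pow_of_algebraMap_mem n _ h1
  obtain ⟨b, hb, hpb⟩ := exists_mem_pow_proj_eq (X.pullback R) n _ h2
  have h3 : (X.pullback R).proj (y - b) = 0 := by rw [map_sub, hpb, sub_self]
  obtain ⟨z, hz⟩ := ((X.pullback R).isExtension.exact _).1 h3
  have h4 : X.incl z ∈ maximalIdeal X.E ^ n := by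
    rw [← piX_incl, hz, map_sub]
    exact Ideal.sub_mem _ hy (piX_mem_pow L X n b hb)
  have h5 := eq_zero_of_mem_pow_of_proj X hn _ h4 (proj_incl X z)
  rw [incl_eq_zero_iff] at h5
  rw [h5, map_zero] at hz
  have : y = b := (sub_eq_zero.1 hz.symm)
  rw [this]
  exact hb

end part1

section part1main

variable {Λ R : Type u} [CommRing Λ] [CommRing R] [Algebra Λ R] [IsLocalRing R] [IsNoetherianRing R]
  (L : Type u) [AddCommGroup L] [Module (AdicCompletion (maximalIdeal R) R) L] [Module R L]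
  [IsScalarTower R (AdicCompletion (maximalIdeal R) R) L] [IsSimpleModule R L]
  [IsScalarTower Λ R (AdicCompletion (maximalIdeal R) R)]

theorem equiv_of_pullback_equiv (X X' : Exal.Ext Λ (AdicCompletion (maximalIdeal R) R) L)
    (ψ : (X.pullback R).Equiv (X'.pullback R)) : Nonempty (X.Equiv X') := by
  haveI := isSimpleModule_hat (R := R) L
  haveI : IsNoetherianRing (AdicCompletion (maximalIdeal R) R) :=
    Groth.Agent.S0543.result R (maximalIdeal R)
  haveI := isLocalRing_E X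
  haveI := isLocalRing_E X'
  haveI := isLocalRing_E (X.pullback R)
  haveI := isLocalRing_E (X'.pullback R)
  obtain ⟨n₁, hn₁⟩ := exists_pow_inf_ker_eq_bot X
  obtain ⟨n₂, hn₂⟩ := exists_pow_inf_ker_eq_bot X'
  obtain ⟨n, hnn₁, hnn₂⟩ : ∃ n, n₁ ≤ n ∧ n₂ ≤ n := ⟨max n₁ n₂, le_max_left _ _, le_max_right _ _⟩
  have hn := pow_inf_ker_eq_bot_of_le X hnn₁ hn₁
  have hn' := pow_inf_ker_eq_bot_of_le X' hnn₂ hn₂
  have hψ : ∀ y ∈ maximalIdeal (X.pullback R).E ^ n,
      ψ.toAlgEquiv y ∈ maximalIdeal (X'.pullback R).E ^ n := by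
    intro y hy
    have h1 : (maximalIdeal (X.pullback R).E).map
        (ψ.toAlgEquiv : (X.pullback R).E →+* (X'.pullback R).E) ≤ maximalIdeal (X'.pullback R).E := by
      rw [Ideal.map_le_iff_le_comap]
      intro w hw
      rw [Ideal.mem_comap]
      change ψ.toAlgEquiv w ∈ maximalIdeal (X'.pullback R).E
      rw [mem_maximalIdeal_E (X'.pullback R), ψ.proj_apply]
      exact (mem_maximalIdeal_E (X.pullback R) w).1 hw
    have h2 : ψ.toAlgEquiv y ∈ (maximalIdeal (X.pullback R).E ^ n).map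
        (ψ.toAlgEquiv : (X.pullback R).E →+* (X'.pullback R).E) := Ideal.mem_map_of_mem _ hy
    rw [Ideal.map_pow] at h2
    exact Ideal.pow_right_mono h1 n h2
  have hprojψ : ∀ y : (X.pullback R).E,
      X'.proj (piX L X' (ψ.toAlgEquiv y)) = X.proj (piX L X y) := by
    intro y
    rw [proj_piX, proj_piX, ψ.proj_apply]
  let Rel : X.E → X'.E → Prop := fun e e' => X'.proj e' = X.proj e ∧
    ∃ y : (X.pullback R).E, e - piX L X y ∈ maximalIdeal X.E ^ n ∧
      e' - piX L X' (ψ.toAlgEquiv y) ∈ maximalIdeal X'.E ^ n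
  have hex : ∀ e, ∃ e', Rel e e' := by
    intro e
    obtain ⟨y, hy⟩ := exists_approx L X n e
    obtain ⟨a', ha', hpa'⟩ := exists_mem_pow_proj_eq X' n _ (proj_mem_pow X n _ hy)
    refine ⟨piX L X' (ψ.toAlgEquiv y) + a', ?_, y, hy, ?_⟩
    · rw [map_add, hpa', hprojψ, map_sub]
      ring
    · rw [add_sub_cancel_left]
      exact ha'
  have huniq : ∀ e e'₁ e'₂, Rel e e'₁ → Rel e e'₂ → e'₁ = e'₂ := by
    rintro e e'₁ e'₂ ⟨h1, y₁, hy₁, hy₁'⟩ ⟨h2, y₂, hy₂, hy₂'⟩
    have h3 : piX L X (y₁ - y₂) ∈ maximalIdeal X.E ^ n := by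
      have : piX L X (y₁ - y₂) = (e - piX L X y₂) - (e - piX L X y₁) := by
        rw [map_sub]
        ring
      rw [this]
      exact Ideal.sub_mem _ hy₂ hy₁
    have h4 := piX_mem_pow L X' n _ (hψ _ (mem_pow_of_piX_mem L X n hn _ h3))
    have h5 : e'₁ - e'₂ ∈ maximalIdeal X'.E ^ n := by
      have : e'₁ - e'₂ = (e'₁ - piX L X' (ψ.toAlgEquiv y₁)) - (e'₂ - piX L X' (ψ.toAlgEquiv y₂)) +
          piX L X' (ψ.toAlgEquiv (y₁ - y₂)) := by
        rw [map_sub, map_sub]
        ring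
      rw [this]
      exact Ideal.add_mem _ (Ideal.sub_mem _ hy₁' hy₂') h4
    have h6 : X'.proj (e'₁ - e'₂) = 0 := by rw [map_sub, h1, h2, sub_self]
    exact sub_eq_zero.1 (eq_zero_of_mem_pow_of_proj X' hn' _ h5 h6)
  have hone : Rel 1 1 := by
    refine ⟨by rw [map_one, map_one], 1, ?_, ?_⟩
    · rw [map_one, sub_self]
      exact Ideal.zero_mem _
    · rw [map_one, map_one, sub_self]
      exact Ideal.zero_mem _
  have hzero : Rel 0 0 := by
    refine ⟨by rw [map_zero, map_zero], 0, ?_, ?_⟩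
    · rw [map_zero, sub_self]
      exact Ideal.zero_mem _
    · rw [map_zero, map_zero, sub_self]
      exact Ideal.zero_mem _
  have hadd : ∀ e₁ e₂ e'₁ e'₂, Rel e₁ e'₁ → Rel e₂ e'₂ → Rel (e₁ + e₂) (e'₁ + e'₂) := by
    rintro e₁ e₂ e'₁ e'₂ ⟨h1, y₁, hy₁, hy₁'⟩ ⟨h2, y₂, hy₂, hy₂'⟩
    refine ⟨by rw [map_add, map_add, h1, h2], y₁ + y₂, ?_, ?_⟩
    · have : e₁ + e₂ - piX L X (y₁ + y₂) = (e₁ - piX L X y₁) + (e₂ - piX L X y₂) := by
        rw [map_add]
        ring
      rw [this]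
      exact Ideal.add_mem _ hy₁ hy₂
    · have : e'₁ + e'₂ - piX L X' (ψ.toAlgEquiv (y₁ + y₂)) =
          (e'₁ - piX L X' (ψ.toAlgEquiv y₁)) + (e'₂ - piX L X' (ψ.toAlgEquiv y₂)) := by
        rw [map_add, map_add]
        ring
      rw [this]
      exact Ideal.add_mem _ hy₁' hy₂'
  have hmul : ∀ e₁ e₂ e'₁ e'₂, Rel e₁ e'₁ → Rel e₂ e'₂ → Rel (e₁ * e₂) (e'₁ * e'₂) := by
    rintro e₁ e₂ e'₁ e'₂ ⟨h1, y₁, hy₁, hy₁'⟩ ⟨h2, y₂, hy₂, hy₂'⟩
    refine ⟨by rw [map_mul, map_mul, h1, h2], y₁ * y₂, ?_, ?_⟩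
    · have : e₁ * e₂ - piX L X (y₁ * y₂) =
          e₁ * (e₂ - piX L X y₂) + (e₁ - piX L X y₁) * piX L X y₂ := by
        rw [map_mul]
        ring
      rw [this]
      exact Ideal.add_mem _ (Ideal.mul_mem_left _ _ hy₂) (Ideal.mul_mem_right _ _ hy₁)
    · have : e'₁ * e'₂ - piX L X' (ψ.toAlgEquiv (y₁ * y₂)) =
          e'₁ * (e'₂ - piX L X' (ψ.toAlgEquiv y₂)) +
            (e'₁ - piX L X' (ψ.toAlgEquiv y₁)) * piX L X' (ψ.toAlgEquiv y₂) := by
        rw [map_mul, map_mul]
        ring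
      rw [this]
      exact Ideal.add_mem _ (Ideal.mul_mem_left _ _ hy₂') (Ideal.mul_mem_right _ _ hy₁')
  have halg : ∀ a : Λ, Rel (algebraMap Λ X.E a) (algebraMap Λ X'.E a) := by
    intro a
    refine ⟨by rw [AlgHom.commutes, AlgHom.commutes], algebraMap Λ (X.pullback R).E a, ?_, ?_⟩
    · rw [AlgHom.commutes, sub_self]
      exact Ideal.zero_mem _
    · rw [AlgEquiv.commutes, AlgHom.commutes, sub_self]
      exact Ideal.zero_mem _
  choose s hs using hex
  let Ψ : X.E →ₐ[Λ] X'.E :=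
    { toFun := s
      map_one' := huniq 1 _ _ (hs 1) hone
      map_mul' := fun a b => huniq _ _ _ (hs _) (hmul _ _ _ _ (hs a) (hs b))
      map_zero' := huniq 0 _ _ (hs 0) hzero
      map_add' := fun a b => huniq _ _ _ (hs _) (hadd _ _ _ _ (hs a) (hs b))
      commutes' := fun a => huniq _ _ _ (hs _) (halg a) }
  refine ⟨equivOfHom X X' Ψ (fun e => (hs e).1) (fun z => ?_)⟩
  refine huniq _ _ _ (hs _) ⟨by rw [proj_incl, proj_incl], (X.pullback R).incl z, ?_, ?_⟩
  · rw [piX_incl, sub_self]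
    exact Ideal.zero_mem _
  · rw [ψ.apply_incl, piX_incl, sub_self]
    exact Ideal.zero_mem _

end part1main

/-- Let k be an algebraically closed field, Λ a complete local Noetherian k-algebra with residue field
k, R a local Noetherian Λ-algebra with local structure map and residue field k, and R̂ the
completion of R at its maximal ideal. Let L be a simple R-module (a one-dimensional k-vector space
on which R acts through its residue field) carrying a compatible R̂-module structure. Then inverse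
image of Λ-extensions along R → R̂ induces a bijection o(R̂/Λ) → o(R/Λ) on classes of Λ-extensions
by L: two Λ-extensions of R̂ by L whose inverse images over R are equivalent are equivalent, and
every Λ-extension of R by L is equivalent to the inverse image of one of R̂. -/
theorem result
    {k : Type u} [Field k] [IsAlgClosed k]
    {Λ : Type u} [CommRing Λ] [Algebra k Λ] [IsLocalRing Λ] [IsNoetherianRing Λ]
    [IsAdicComplete (IsLocalRing.maximalIdeal Λ) Λ]
    (hΛ : ∀ a : Λ, ∃ c : k, a - algebraMap k Λ c ∈ IsLocalRing.maximalIdeal Λ)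
    {R : Type u} [CommRing R] [Algebra Λ R] [IsLocalRing R] [IsNoetherianRing R]
    [IsLocalHom (algebraMap Λ R)]
    (hR : ∀ r : R, ∃ c : k, r - algebraMap Λ R (algebraMap k Λ c) ∈ IsLocalRing.maximalIdeal R)
    (L : Type u) [AddCommGroup L] [Module (AdicCompletion (IsLocalRing.maximalIdeal R) R) L] [Module R L]
    [IsScalarTower R (AdicCompletion (IsLocalRing.maximalIdeal R) R) L] [IsSimpleModule R L] :
    (∀ X X' : Exal.Ext Λ (AdicCompletion (IsLocalRing.maximalIdeal R) R) L,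
        Nonempty ((X.pullback R).Equiv (X'.pullback R)) → Nonempty (X.Equiv X')) ∧
    (∀ Y : Exal.Ext Λ R L, ∃ X : Exal.Ext Λ (AdicCompletion (IsLocalRing.maximalIdeal R) R) L,
        Nonempty ((X.pullback R).Equiv Y)) := by
  constructor
  · rintro X X' ⟨ψ⟩
    exact equiv_of_pullback_equiv L X X' ψ
  · intro Y
    haveI := isLocalRing_E Y
    obtain ⟨n, hn⟩ := exists_pow_inf_ker_eq_bot Y
    exact ⟨hatExt L Y n hn, exists_hat L Y n hn⟩

end Groth.Agent.S11283
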