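import Groth.Statements.S11285
import Groth.Agent.LibExt29
-- import your own Groth.Agent.* helpers here

set_option autoImplicit false
universe u
open Deform

namespace Groth.Agent.S11285

open Groth.Agent.LibExt29 TensorProduct


/-- Let k be an algebraically closed field and A → B a map of finitely generated k-algebras with B
reduced and smooth over A at every minimal prime of B (the morphism Spec B → Spec A is smooth on a
dense open subset). Let M be a finitely generated projective B-module and 0 → M → N → Ω_{B/A} → 0 an
exact sequence of B-modules (i injective, q surjective, image of i = kernel of q). Then there is an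
A-algebra extension E → B with square-zero kernel, together with a B-linear identification of its
kernel with M and a B-linear isomorphism of B ⊗_E Ω_{E/A} with N, carrying the conormal map of the
extension to i and q to the canonical map B ⊗_E Ω_{E/A} → Ω_{B/A}. Together with the injectivity
statement for such conormal sequences this is the surjectivity half of the identification of Ex_A(B,
M) with Ext^1_B(Ω_{B/A}, M); affine case of the statement for algebraic schemes. The module N ranges
over the universe of B. -/
theorem result
    {k : Type u} [Field k] [IsAlgClosed k]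
    {A B : Type u} [CommRing A] [CommRing B] [Algebra k A] [Algebra k B] [Algebra A B]
    [IsScalarTower k A B] [Algebra.FiniteType k A] [Algebra.FiniteType k B] [IsReduced B]
    (hsm : ∀ p : PrimeSpectrum B, p.asIdeal ∈ minimalPrimes B → Algebra.IsSmoothAt A p.asIdeal)
    (M N : Type u) [AddCommGroup M] [Module B M] [Module.Finite B M] [Module.Projective B M]
    [AddCommGroup N] [Module B N]
    (i : M →ₗ[B] N) (q : N →ₗ[B] Ω[B⁄A]) (hi : Function.Injective i) (hq : Function.Surjective q)
    (hex : Function.Exact i q) :
    ∃ P : Algebra.Extension.{u} A B, P.ker ^ 2 = ⊥ ∧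
      ∃ (e₁ : P.Cotangent ≃ₗ[B] M) (e₂ : P.CotangentSpace ≃ₗ[B] N),
        (∀ x, e₂ (P.cotangentComplex x) = i (e₁ x)) ∧ (∀ y, q (e₂ y) = P.toKaehler y) := by
  let _ : Module A N := Module.compHom N (algebraMap A B)
  have : IsScalarTower A B N := ⟨fun a b n => by
    change (a • b) • n = algebraMap A B a • b • n
    rw [Algebra.smul_def, mul_smul]⟩
  have hcot := toCot_bijective q i hq hex hi
  have hsp := cotSpaceTo_bijective q hq i hex hi
  refine ⟨pairExt q hq, pairExt_ker_sq q hq,
    (LinearEquiv.ofBijective (toCot q i hq hex) hcot).symm,
    LinearEquiv.ofBijective (cotSpaceTo q hq) hsp, ?_, ?_⟩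
  · intro x
    obtain ⟨m, rfl⟩ := hcot.2 x
    rw [LinearEquiv.ofBijective_apply, cotSpaceTo_cotangentComplex]
    congr 1
    exact ((LinearEquiv.ofBijective (toCot q i hq hex) hcot).symm_apply_apply m).symm
  · intro y
    exact q_cotSpaceTo q hq y

end Groth.Agent.S11285
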