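import Groth.Statements.S11286
import Groth.Agent.LibExt29
import Groth.Agent.S11284
-- import your own Groth.Agent.* helpers here

set_option autoImplicit false
universe u
open Deform

namespace Groth.Agent.S11286

open Groth.Agent.LibExt29 TensorProduct


/-- Let k be an algebraically closed field and A → B a map of finitely generated k-algebras with B
reduced and smooth over A at every minimal prime of B (the morphism Spec B → Spec A is smooth on a
dense open subset). Let E → B and E' → B be two A-algebra extensions with square-zero kernels I, I',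
where I is a finitely generated projective B-module, and suppose their relative conormal sequences
are isomorphic as extensions of Ω_{B/A}: there are B-linear isomorphisms I ≅ I' and B ⊗_E Ω_{E/A} ≅
B ⊗_{E'} Ω_{E'/A} commuting with the conormal maps and with the canonical maps to Ω_{B/A}. Then
there is a homomorphism of extensions E → E' (a ring map over A and over B) which is bijective and
induces the given isomorphism I ≅ I'. This is the injectivity half of the identification of Ex_A(B,
M) with Ext^1_B(Ω_{B/A}, M); affine case of the statement for algebraic schemes. -/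
theorem result
    {k : Type u} [Field k] [IsAlgClosed k]
    {A B : Type u} [CommRing A] [CommRing B] [Algebra k A] [Algebra k B] [Algebra A B]
    [IsScalarTower k A B] [Algebra.FiniteType k A] [Algebra.FiniteType k B] [IsReduced B]
    (hsm : ∀ p : PrimeSpectrum B, p.asIdeal ∈ minimalPrimes B → Algebra.IsSmoothAt A p.asIdeal)
    (P P' : Algebra.Extension.{u} A B) (hsq : P.ker ^ 2 = ⊥) (hsq' : P'.ker ^ 2 = ⊥)
    [Module.Finite B P.Cotangent] [Module.Projective B P.Cotangent]
    (e₁ : P.Cotangent ≃ₗ[B] P'.Cotangent) (e₂ : P.CotangentSpace ≃ₗ[B] P'.CotangentSpace)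
    (h₁ : ∀ x, e₂ (P.cotangentComplex x) = P'.cotangentComplex (e₁ x))
    (h₂ : ∀ y, P'.toKaehler (e₂ y) = P.toKaehler y) :
    ∃ f : P.Hom P', Function.Bijective f.toRingHom ∧
      Algebra.Extension.Cotangent.map f = e₁.toLinearMap := by
  have hproj' : Module.Projective B P'.Cotangent := Module.Projective.of_equiv e₁
  have hinj : Function.Injective P.cotangentComplex :=
    Groth.Agent.S11284.injective_cotangentComplex hsm P hsq
  have hinj' : Function.Injective P'.cotangentComplex :=
    Groth.Agent.S11284.injective_cotangentComplex hsm P' hsq'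
  have h₂' : ∀ y, P.toKaehler (e₂.symm y) = P'.toKaehler y := by
    intro y
    rw [← h₂, LinearEquiv.apply_symm_apply]
  obtain ⟨f, hf⟩ := exists_hom P P' e₂.toLinearMap hsq' hinj' h₂
  obtain ⟨g, hg⟩ := exists_hom P' P e₂.symm.toLinearMap hsq hinj h₂'
  have hgf : ∀ e, g.toRingHom (f.toRingHom e) = e := by
    intro e
    refine Rel.unique P P LinearMap.id hsq hinj (e := e) ⟨?_, ?_⟩ ⟨rfl, rfl⟩
    · rw [(hg _).1, (hf e).1]
    · rw [(hg _).2, (hf e).2]
      simp
  have hfg : ∀ e, f.toRingHom (g.toRingHom e) = e := by
    intro e
    refine Rel.unique P' P' LinearMap.id hsq' hinj' (e := e) ⟨?_, ?_⟩ ⟨rfl, rfl⟩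
    · rw [(hf _).1, (hg e).1]
    · rw [(hf _).2, (hg e).2]
      simp
  refine ⟨f, ⟨?_, ?_⟩, ?_⟩
  · exact Function.LeftInverse.injective hgf
  · exact Function.RightInverse.surjective hfg
  · apply LinearMap.ext
    intro c
    obtain ⟨y, rfl⟩ := Algebra.Extension.Cotangent.mk_surjective c
    apply hinj'
    rw [Algebra.Extension.Cotangent.map_mk, Algebra.Extension.cotangentComplex_mk]
    change (1 : B) ⊗ₜ[P'.Ring] KaehlerDifferential.D A P'.Ring (f.toRingHom y.1) = _
    rw [(hf y.1).2]
    change e₂ _ = P'.cotangentComplex (e₁ _)
    rw [← h₁, Algebra.Extension.cotangentComplex_mk]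

end Groth.Agent.S11286
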