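import Groth.Statements.S11287
import Groth.Agent.LibPS29
import Groth.Agent.LibCR29f
import Mathlib.RingTheory.Filtration
import Mathlib.RingTheory.SimpleModule.Basic
import Mathlib.RingTheory.MvPowerSeries.Equiv
-- import your own Groth.Agent.* helpers here

set_option autoImplicit false
universe u
open Deform

namespace Groth.Agent.S11287

open IsLocalRing

section basics

variable {A : Type u} {B L : Type u} [CommRing A] [CommRing B] [Algebra A B] [AddCommGroup L]
  [Module B L] (X : Exal.Ext A B L)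

lemma proj_incl (z : L) : X.proj (X.incl z) = 0 := (X.isExtension.exact _).2 ⟨z, rfl⟩

lemma exists_incl_of_proj_eq_zero (x : X.E) (hx : X.proj x = 0) : ∃ z, X.incl z = x :=
  (X.isExtension.exact x).1 hx

lemma mul_incl (x : X.E) (z : L) : x * X.incl z = X.incl (X.proj x • z) :=
  X.isExtension.mul_incl x z

lemma incl_mul_incl (z w : L) : X.incl z * X.incl w = 0 := by
  rw [mul_incl, proj_incl, zero_smul, map_zero]

end basics

section construct

attribute [local instance] Exal.opModule Exal.isCentralScalar_opModule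

variable {Λ : Type u} [CommRing Λ] {P : Type u} [CommRing P] [Algebra Λ P] (J : Ideal P)
  (L : Type u) [AddCommGroup L] [Module (P ⧸ J) L] [Module P L] [IsScalarTower P (P ⧸ J) L]

omit [Algebra Λ P] in
lemma smul_eq_zero_of_mem (j : P) (hj : j ∈ J) (z : L) : j • z = 0 := by
  rw [← IsScalarTower.algebraMap_smul (P ⧸ J) j z, Ideal.Quotient.algebraMap_eq,
    Ideal.Quotient.eq_zero_iff_mem.2 hj, zero_smul]

omit [Algebra Λ P] in
lemma mk_smul (p : P) (z : L) : (Ideal.Quotient.mk J p) • z = p • z := by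
  rw [← Ideal.Quotient.algebraMap_eq, IsScalarTower.algebraMap_smul]

variable {J L}

/-- the `Λ`-algebra structure on `P ⊕ L` through `Λ → P`. -/
@[instance_reducible]
noncomputable def algTSZ : Algebra Λ (TrivSqZeroExt P L) :=
  ((TrivSqZeroExt.inlHom P L).comp (algebraMap Λ P) : Λ →+* TrivSqZeroExt P L).toAlgebra

attribute [local instance] algTSZ

lemma algebraMap_TSZ (a : Λ) :
    algebraMap Λ (TrivSqZeroExt P L) a = TrivSqZeroExt.inl (algebraMap Λ P a) := rfl

/-- the graph ideal of `-δ`. -/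
def graph (δ : J →ₗ[P] L) : Ideal (TrivSqZeroExt P L) where
  carrier := {x | ∃ h : TrivSqZeroExt.fst x ∈ J, TrivSqZeroExt.snd x + δ ⟨TrivSqZeroExt.fst x, h⟩ = 0}
  add_mem' := by
    rintro a b ⟨ha, ha'⟩ ⟨hb, hb'⟩
    refine ⟨by rw [TrivSqZeroExt.fst_add]; exact Ideal.add_mem _ ha hb, ?_⟩
    have e : (⟨TrivSqZeroExt.fst (a + b), by rw [TrivSqZeroExt.fst_add]; exact Ideal.add_mem _ ha hb⟩ : J) =
        ⟨TrivSqZeroExt.fst a, ha⟩ + ⟨TrivSqZeroExt.fst b, hb⟩ := rfl
    rw [e, map_add, TrivSqZeroExt.snd_add]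
    have : TrivSqZeroExt.snd a + TrivSqZeroExt.snd b + (δ ⟨TrivSqZeroExt.fst a, ha⟩ + δ ⟨TrivSqZeroExt.fst b, hb⟩) =
        (TrivSqZeroExt.snd a + δ ⟨TrivSqZeroExt.fst a, ha⟩) +
          (TrivSqZeroExt.snd b + δ ⟨TrivSqZeroExt.fst b, hb⟩) := by abel
    rw [this, ha', hb', add_zero]
  zero_mem' := by
    refine ⟨by rw [TrivSqZeroExt.fst_zero]; exact Ideal.zero_mem _, ?_⟩
    have e : (⟨TrivSqZeroExt.fst (0 : TrivSqZeroExt P L), by
        rw [TrivSqZeroExt.fst_zero]; exact Ideal.zero_mem _⟩ : J) = 0 := rfl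
    rw [e, map_zero, TrivSqZeroExt.snd_zero, add_zero]
  smul_mem' := by
    rintro c x ⟨hx, hx'⟩
    have hfst : TrivSqZeroExt.fst (c • x) = TrivSqZeroExt.fst c * TrivSqZeroExt.fst x := by
      rw [smul_eq_mul]; exact TrivSqZeroExt.fst_mul c x
    have hmem : TrivSqZeroExt.fst (c • x) ∈ J := by
      rw [hfst]; exact Ideal.mul_mem_left _ _ hx
    refine ⟨hmem, ?_⟩
    have e : (⟨TrivSqZeroExt.fst (c • x), hmem⟩ : J) =
        TrivSqZeroExt.fst c • ⟨TrivSqZeroExt.fst x, hx⟩ := by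
      apply Subtype.ext
      exact hfst
    have hsnd : TrivSqZeroExt.snd (c • x) =
        TrivSqZeroExt.fst c • TrivSqZeroExt.snd x + TrivSqZeroExt.fst x • TrivSqZeroExt.snd c := by
      rw [smul_eq_mul]
      exact TrivSqZeroExt.snd_mul c x
    rw [e, map_smul, hsnd, smul_eq_zero_of_mem J L _ hx, add_zero, ← smul_add, hx', smul_zero]

lemma mem_graph (δ : J →ₗ[P] L) (x : TrivSqZeroExt P L) :
    x ∈ graph δ ↔ ∃ h : TrivSqZeroExt.fst x ∈ J, TrivSqZeroExt.snd x + δ ⟨TrivSqZeroExt.fst x, h⟩ = 0 := by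
  unfold graph
  rw [Submodule.mem_mk]
  exact Iff.rfl

/-- the projection `P ⊕ L → P ⧸ J`. -/
noncomputable def projT : TrivSqZeroExt P L →ₐ[Λ] P ⧸ J where
  toFun x := Ideal.Quotient.mk J (TrivSqZeroExt.fst x)
  map_one' := by rw [TrivSqZeroExt.fst_one, map_one]
  map_mul' x y := by rw [TrivSqZeroExt.fst_mul, map_mul]
  map_zero' := by rw [TrivSqZeroExt.fst_zero, map_zero]
  map_add' x y := by rw [TrivSqZeroExt.fst_add, map_add]
  commutes' a := by
    rw [algebraMap_TSZ, TrivSqZeroExt.fst_inl]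
    rfl

omit [Module (P ⧸ J) L] [IsScalarTower P (P ⧸ J) L] in
lemma projT_apply (x : TrivSqZeroExt P L) :
    (projT (Λ := Λ) (J := J) x) = Ideal.Quotient.mk J (TrivSqZeroExt.fst x) := rfl

lemma graph_le_ker (δ : J →ₗ[P] L) (x : TrivSqZeroExt P L) (hx : x ∈ graph δ) :
    projT (Λ := Λ) (J := J) x = 0 := by
  obtain ⟨h, -⟩ := (mem_graph δ x).1 hx
  rw [projT_apply, Ideal.Quotient.eq_zero_iff_mem]
  exact h

/-- the extension attached to `δ : J → L`. -/
noncomputable def extOf (δ : J →ₗ[P] L) : Exal.Ext Λ (P ⧸ J) L where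
  E := TrivSqZeroExt P L ⧸ graph δ
  proj := Ideal.Quotient.liftₐ (graph δ) (projT (Λ := Λ) (J := J)) (graph_le_ker δ)
  incl :=
    { toFun := fun z => Ideal.Quotient.mk (graph δ) (TrivSqZeroExt.inr z)
      map_zero' := by rw [TrivSqZeroExt.inr_zero, map_zero]
      map_add' := fun z w => by rw [TrivSqZeroExt.inr_add, map_add] }
  isExtension :=
    { proj_surjective := fun b => by
        obtain ⟨p, rfl⟩ := Ideal.Quotient.mk_surjective b
        exact ⟨Ideal.Quotient.mk (graph δ) (TrivSqZeroExt.inl p), by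
          change Ideal.Quotient.mk J (TrivSqZeroExt.fst (TrivSqZeroExt.inl p)) = _
          rw [TrivSqZeroExt.fst_inl]⟩
      incl_injective := by
        intro z w hzw
        change Ideal.Quotient.mk (graph δ) (TrivSqZeroExt.inr z) =
          Ideal.Quotient.mk (graph δ) (TrivSqZeroExt.inr w) at hzw
        rw [Ideal.Quotient.eq, ← TrivSqZeroExt.inr_sub, mem_graph] at hzw
        obtain ⟨h, h2⟩ := hzw
        have e : (⟨TrivSqZeroExt.fst (TrivSqZeroExt.inr (z - w) : TrivSqZeroExt P L), h⟩ : J) = 0 := by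
          apply Subtype.ext
          exact TrivSqZeroExt.fst_inr P (z - w)
        rw [e, map_zero, add_zero, TrivSqZeroExt.snd_inr, sub_eq_zero] at h2
        exact h2
      exact := fun x => by
        obtain ⟨y, rfl⟩ := Ideal.Quotient.mk_surjective x
        change Ideal.Quotient.mk J (TrivSqZeroExt.fst y) = 0 ↔ _
        rw [Ideal.Quotient.eq_zero_iff_mem]
        constructor
        · intro hy
          refine ⟨TrivSqZeroExt.snd y + δ ⟨TrivSqZeroExt.fst y, hy⟩, ?_⟩
          change Ideal.Quotient.mk (graph δ) (TrivSqZeroExt.inr _) = _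
          rw [Ideal.Quotient.eq, mem_graph]
          have hfst : TrivSqZeroExt.fst (TrivSqZeroExt.inr (TrivSqZeroExt.snd y + δ ⟨TrivSqZeroExt.fst y, hy⟩) - y) =
              -TrivSqZeroExt.fst y := by
            rw [TrivSqZeroExt.fst_sub, TrivSqZeroExt.fst_inr, zero_sub]
          have hmem : TrivSqZeroExt.fst (TrivSqZeroExt.inr (TrivSqZeroExt.snd y + δ ⟨TrivSqZeroExt.fst y, hy⟩) - y) ∈ J := by
            rw [hfst]; exact Ideal.neg_mem_iff J |>.2 hy
          refine ⟨hmem, ?_⟩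
          have e : (⟨_, hmem⟩ : J) = -⟨TrivSqZeroExt.fst y, hy⟩ := by
            apply Subtype.ext
            exact hfst
          rw [e, map_neg, TrivSqZeroExt.snd_sub, TrivSqZeroExt.snd_inr]
          abel
        · rintro ⟨z, hz⟩
          change Ideal.Quotient.mk (graph δ) (TrivSqZeroExt.inr z) = _ at hz
          rw [Ideal.Quotient.eq, mem_graph] at hz
          obtain ⟨h, -⟩ := hz
          rw [TrivSqZeroExt.fst_sub, TrivSqZeroExt.fst_inr, zero_sub] at h
          exact (Ideal.neg_mem_iff J).1 h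
      mul_incl := fun x z => by
        obtain ⟨y, rfl⟩ := Ideal.Quotient.mk_surjective x
        change Ideal.Quotient.mk (graph δ) y * Ideal.Quotient.mk (graph δ) (TrivSqZeroExt.inr z) =
          Ideal.Quotient.mk (graph δ) (TrivSqZeroExt.inr (Ideal.Quotient.mk J (TrivSqZeroExt.fst y) • z))
        rw [← map_mul, mk_smul]
        congr 1
        refine TrivSqZeroExt.ext ?_ ?_
        · rw [TrivSqZeroExt.fst_mul, TrivSqZeroExt.fst_inr, mul_zero, TrivSqZeroExt.fst_inr]
        · rw [TrivSqZeroExt.snd_mul, TrivSqZeroExt.snd_inr, TrivSqZeroExt.fst_inr,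
            MulOpposite.op_zero, zero_smul, add_zero, TrivSqZeroExt.snd_inr] }

/-- the canonical lift `P → E_δ`. -/
noncomputable def liftOf (δ : J →ₗ[P] L) : P →ₐ[Λ] (extOf (Λ := Λ) δ).E where
  toFun p := Ideal.Quotient.mk (graph δ) (TrivSqZeroExt.inl p)
  map_one' := by rw [TrivSqZeroExt.inl_one, map_one]; rfl
  map_mul' p q := by rw [TrivSqZeroExt.inl_mul, map_mul]; rfl
  map_zero' := by rw [TrivSqZeroExt.inl_zero, map_zero]; rfl
  map_add' p q := by rw [TrivSqZeroExt.inl_add, map_add]; rfl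
  commutes' a := rfl

lemma proj_liftOf (δ : J →ₗ[P] L) (p : P) :
    (extOf (Λ := Λ) δ).proj (liftOf δ p) = Ideal.Quotient.mk J p := by
  change Ideal.Quotient.mk J (TrivSqZeroExt.fst (TrivSqZeroExt.inl p)) = _
  rw [TrivSqZeroExt.fst_inl]

lemma incl_eq_liftOf (δ : J →ₗ[P] L) (j : J) :
    (extOf (Λ := Λ) δ).incl (δ j) = liftOf δ (j : P) := by
  change Ideal.Quotient.mk (graph δ) (TrivSqZeroExt.inr (δ j)) =
    Ideal.Quotient.mk (graph δ) (TrivSqZeroExt.inl (j : P))
  rw [Ideal.Quotient.eq, mem_graph]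
  have hfst : TrivSqZeroExt.fst (TrivSqZeroExt.inr (δ j) - TrivSqZeroExt.inl (j : P) : TrivSqZeroExt P L) =
      -(j : P) := by
    rw [TrivSqZeroExt.fst_sub, TrivSqZeroExt.fst_inr, TrivSqZeroExt.fst_inl, zero_sub]
  have hmem : TrivSqZeroExt.fst (TrivSqZeroExt.inr (δ j) - TrivSqZeroExt.inl (j : P) : TrivSqZeroExt P L) ∈ J := by
    rw [hfst]; exact (Ideal.neg_mem_iff J).2 j.2
  refine ⟨hmem, ?_⟩
  have e : (⟨_, hmem⟩ : J) = -j := by
    apply Subtype.ext
    exact hfst
  rw [e, map_neg, TrivSqZeroExt.snd_sub, TrivSqZeroExt.snd_inr, TrivSqZeroExt.snd_inl, sub_zero,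
    add_neg_cancel]

end construct

section equiv

variable {Λ : Type u} [CommRing Λ] {P : Type u} [CommRing P] [Algebra Λ P] {J : Ideal P}
  {L : Type u} [AddCommGroup L] [Module (P ⧸ J) L]

/-- two lifts of the quotient map agree on the square of an ideal acting trivially on `L`. -/
lemma lifts_agree_on_sq (X : Exal.Ext Λ (P ⧸ J) L) (v v' : P →ₐ[Λ] X.E)
    (hv : ∀ p, X.proj (v p) = Ideal.Quotient.mk J p) (hv' : ∀ p, X.proj (v' p) = Ideal.Quotient.mk J p)
    (𝔞 : Ideal P) (h𝔞 : ∀ a ∈ 𝔞, ∀ z : L, Ideal.Quotient.mk J a • z = 0)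
    (f : P) (hf : f ∈ 𝔞 ^ 2) : v f = v' f := by
  have hdiff : ∀ p, ∃ w : L, X.incl w = v p - v' p := by
    intro p
    apply exists_incl_of_proj_eq_zero
    rw [map_sub, hv, hv', sub_self]
  rw [pow_two] at hf
  refine Submodule.mul_induction_on hf (fun a ha b hb => ?_) (fun a b ha hb => ?_)
  · obtain ⟨wa, hwa⟩ := hdiff a
    obtain ⟨wb, hwb⟩ := hdiff b
    have e1 : v a * X.incl wb = 0 := by
      rw [mul_incl, hv, h𝔞 a ha, map_zero]
    have e2 : v' b * X.incl wa = 0 := by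
      rw [mul_incl, hv', h𝔞 b hb, map_zero]
    rw [map_mul, map_mul]
    rw [hwb] at e1
    rw [hwa] at e2
    linear_combination e1 + e2
  · rw [map_add, map_add, ha, hb]

variable (X X' : Exal.Ext Λ (P ⧸ J) L) (u : P →ₐ[Λ] X.E) (u' : P →ₐ[Λ] X'.E)
  (hu : ∀ p, X.proj (u p) = Ideal.Quotient.mk J p) (hu' : ∀ p, X'.proj (u' p) = Ideal.Quotient.mk J p)

include hu hu' in
/-- transport along matching restrictions to `J`. -/
lemma exists_map (h : ∀ j ∈ J, ∃ z : L, X.incl z = u j ∧ X'.incl z = u' j) :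
    ∃ φ : X.E →ₐ[Λ] X'.E, ∀ p z, φ (u p + X.incl z) = u' p + X'.incl z := by
  have hdec : ∀ x : X.E, ∃ (p : P) (z : L), x = u p + X.incl z := by
    intro x
    obtain ⟨p, hp⟩ := Ideal.Quotient.mk_surjective (X.proj x)
    obtain ⟨z, hz⟩ := exists_incl_of_proj_eq_zero X (x - u p) (by rw [map_sub, hu, hp, sub_self])
    exact ⟨p, z, by rw [hz]; ring⟩
  choose pp zz hpz using hdec
  have WD : ∀ p q z w, u p + X.incl z = u q + X.incl w → u' p + X'.incl z = u' q + X'.incl w := by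
    intro p q z w hpq
    have h1 : Ideal.Quotient.mk J p = Ideal.Quotient.mk J q := by
      have := congrArg X.proj hpq
      rw [map_add, map_add, hu, hu, proj_incl, proj_incl, add_zero, add_zero] at this
      exact this
    have hj : p - q ∈ J := Ideal.Quotient.eq.1 h1
    obtain ⟨z₀, hz1, hz2⟩ := h (p - q) hj
    have h2 : X.incl z₀ = X.incl (w - z) := by
      rw [hz1, map_sub, map_sub]
      linear_combination hpq
    have h3 : z₀ = w - z := X.isExtension.incl_injective h2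
    rw [h3, map_sub, map_sub] at hz2
    linear_combination -hz2
  have key : ∀ x p z, x = u p + X.incl z → u' (pp x) + X'.incl (zz x) = u' p + X'.incl z := by
    intro x p z hx
    apply WD
    rw [← hpz x, hx]
  refine ⟨{ toFun := fun x => u' (pp x) + X'.incl (zz x)
            map_one' := ?_
            map_mul' := ?_
            map_zero' := ?_
            map_add' := ?_
            commutes' := ?_ }, fun p z => key _ p z rfl⟩
  · rw [key 1 1 0 (by rw [map_one, map_zero, add_zero]), map_one, map_zero, add_zero]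
  · intro x y
    have hx := hpz x
    have hy := hpz y
    have hxy : x * y = u (pp x * pp y) +
        X.incl (Ideal.Quotient.mk J (pp x) • zz y + Ideal.Quotient.mk J (pp y) • zz x) := by
      have e1 : u (pp x) * X.incl (zz y) = X.incl (Ideal.Quotient.mk J (pp x) • zz y) := by
        rw [mul_incl, hu]
      have e2 : u (pp y) * X.incl (zz x) = X.incl (Ideal.Quotient.mk J (pp y) • zz x) := by
        rw [mul_incl, hu]
      have e3 := incl_mul_incl X (zz x) (zz y)
      rw [map_add, ← e1, ← e2, map_mul]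
      conv_lhs => rw [hx, hy]
      linear_combination e3
    rw [key _ _ _ hxy]
    have e1 : u' (pp x) * X'.incl (zz y) = X'.incl (Ideal.Quotient.mk J (pp x) • zz y) := by
      rw [mul_incl, hu']
    have e2 : u' (pp y) * X'.incl (zz x) = X'.incl (Ideal.Quotient.mk J (pp y) • zz x) := by
      rw [mul_incl, hu']
    have e3 := incl_mul_incl X' (zz x) (zz y)
    rw [map_add, ← e1, ← e2, map_mul]
    linear_combination -e3
  · rw [key 0 0 0 (by rw [map_zero, map_zero, add_zero]), map_zero, map_zero, add_zero]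
  · intro x y
    have hxy : x + y = u (pp x + pp y) + X.incl (zz x + zz y) := by
      rw [map_add, map_add]
      conv_lhs => rw [hpz x, hpz y]
      ring
    rw [key _ _ _ hxy, map_add, map_add]
    ring
  · intro a
    have ha : algebraMap Λ X.E a = u (algebraMap Λ P a) + X.incl 0 := by
      rw [map_zero, add_zero, AlgHom.commutes]
    change u' (pp (algebraMap Λ X.E a)) + X'.incl (zz (algebraMap Λ X.E a)) = _
    rw [key _ _ _ ha, map_zero, add_zero, AlgHom.commutes]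

include hu hu' in
theorem equiv_of_agree (h : ∀ j ∈ J, ∃ z : L, X.incl z = u j ∧ X'.incl z = u' j) :
    Nonempty (X.Equiv X') := by
  obtain ⟨φ, hφ⟩ := exists_map X X' u u' hu hu' h
  obtain ⟨ψ, hψ⟩ := exists_map X' X u' u hu' hu (fun j hj => by
    obtain ⟨z, h1, h2⟩ := h j hj
    exact ⟨z, h2, h1⟩)
  have hdec : ∀ x : X.E, ∃ (p : P) (z : L), x = u p + X.incl z := by
    intro x
    obtain ⟨p, hp⟩ := Ideal.Quotient.mk_surjective (X.proj x)
    obtain ⟨z, hz⟩ := exists_incl_of_proj_eq_zero X (x - u p) (by rw [map_sub, hu, hp, sub_self])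
    exact ⟨p, z, by rw [hz]; ring⟩
  have hdec' : ∀ x : X'.E, ∃ (p : P) (z : L), x = u' p + X'.incl z := by
    intro x
    obtain ⟨p, hp⟩ := Ideal.Quotient.mk_surjective (X'.proj x)
    obtain ⟨z, hz⟩ := exists_incl_of_proj_eq_zero X' (x - u' p) (by rw [map_sub, hu', hp, sub_self])
    exact ⟨p, z, by rw [hz]; ring⟩
  refine ⟨{ toAlgEquiv := AlgEquiv.ofAlgHom φ ψ ?_ ?_
            proj_apply := ?_
            apply_incl := ?_ }⟩
  · apply AlgHom.ext
    intro x
    obtain ⟨p, z, rfl⟩ := hdec' x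
    rw [AlgHom.comp_apply, hψ, hφ]
    rfl
  · apply AlgHom.ext
    intro x
    obtain ⟨p, z, rfl⟩ := hdec x
    rw [AlgHom.comp_apply, hφ, hψ]
    rfl
  · intro x
    obtain ⟨p, z, rfl⟩ := hdec x
    change X'.proj (φ _) = _
    rw [hφ, map_add, map_add, hu, hu', proj_incl, proj_incl]
  · intro z
    change φ (X.incl z) = _
    have := hφ 0 z
    rw [map_zero, map_zero, zero_add, zero_add] at this
    exact this

include hu hu' in
theorem agree_of_equiv (𝔞 : Ideal P) (h𝔞 : ∀ a ∈ 𝔞, ∀ z : L, Ideal.Quotient.mk J a • z = 0)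
    (hJ : J ≤ 𝔞 ^ 2) (e : X.Equiv X') :
    ∀ j ∈ J, ∃ z : L, X.incl z = u j ∧ X'.incl z = u' j := by
  intro j hj
  obtain ⟨z, hz⟩ := exists_incl_of_proj_eq_zero X (u j) (by
    rw [hu, Ideal.Quotient.eq_zero_iff_mem]; exact hj)
  refine ⟨z, hz, ?_⟩
  have h1 := lifts_agree_on_sq X' ((e.toAlgEquiv : X.E →ₐ[Λ] X'.E).comp u) u'
    (fun p => by
      rw [AlgHom.comp_apply]
      change X'.proj (e.toAlgEquiv (u p)) = _
      rw [e.proj_apply, hu]) hu' 𝔞 h𝔞 j (hJ hj)
  rw [← h1, AlgHom.comp_apply, ← hz]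
  exact (e.apply_incl z).symm

end equiv

section noeth

variable {Λ : Type u} [CommRing Λ] {R : Type u} [CommRing R] [Algebra Λ R]
  {L : Type u} [AddCommGroup L] [Module R L] [IsSimpleModule R L] (X : Exal.Ext Λ R L)

lemma fg_inf_ker (𝔞 : Ideal X.E) : (𝔞 ⊓ RingHom.ker (X.proj : X.E →+* R)).FG := by
  let S : Submodule R L :=
    { carrier := {z | X.incl z ∈ 𝔞}
      add_mem' := fun {a b} ha hb => by
        change X.incl (a + b) ∈ 𝔞
        rw [map_add]; exact 𝔞.add_mem ha hb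
      zero_mem' := by
        change X.incl 0 ∈ 𝔞
        rw [map_zero]; exact 𝔞.zero_mem
      smul_mem' := fun r z hz => by
        obtain ⟨x, rfl⟩ := X.isExtension.proj_surjective r
        change X.incl (X.proj x • z) ∈ 𝔞
        rw [← mul_incl]
        exact 𝔞.mul_mem_left _ hz }
  have hS : ∀ z, z ∈ S ↔ X.incl z ∈ 𝔞 := fun z => Iff.rfl
  rcases eq_bot_or_eq_top S with h | h
  · have : 𝔞 ⊓ RingHom.ker (X.proj : X.E →+* R) = ⊥ := by
      rw [eq_bot_iff]
      rintro x ⟨hx1, hx2⟩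
      obtain ⟨z, rfl⟩ := exists_incl_of_proj_eq_zero X x hx2
      have hz : z ∈ S := (hS z).2 hx1
      rw [h, Submodule.mem_bot] at hz
      rw [hz, map_zero]
      exact Ideal.zero_mem _
    rw [this]
    exact Submodule.fg_bot
  · have hnt : Nontrivial L := IsSimpleModule.nontrivial R L
    obtain ⟨z₀, hz₀⟩ := exists_ne (0 : L)
    have hsurj := IsSimpleModule.toSpanSingleton_surjective R hz₀
    have : 𝔞 ⊓ RingHom.ker (X.proj : X.E →+* R) = Ideal.span {X.incl z₀} := by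
      apply le_antisymm
      · rintro x ⟨-, hx2⟩
        obtain ⟨z, rfl⟩ := exists_incl_of_proj_eq_zero X x hx2
        obtain ⟨r, rfl⟩ := hsurj z
        obtain ⟨y, rfl⟩ := X.isExtension.proj_surjective r
        rw [LinearMap.toSpanSingleton_apply, ← mul_incl]
        exact Ideal.mul_mem_left _ _ (Ideal.mem_span_singleton_self _)
      · rw [Ideal.span_singleton_le_iff_mem]
        refine ⟨(hS z₀).1 (by rw [h]; trivial), ?_⟩
        exact proj_incl X z₀
    rw [this]
    exact ⟨{X.incl z₀}, by simp⟩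

lemma isNoetherianRing_E [IsNoetherianRing R] : IsNoetherianRing X.E := by
  rw [isNoetherianRing_iff_ideal_fg]
  intro 𝔞
  exact Ideal.fg_of_fg_map_of_fg_inf_ker_of_surjective (f := (X.proj : X.E →+* R))
    ((isNoetherianRing_iff_ideal_fg R).1 inferInstance _) (fg_inf_ker X 𝔞)
    X.isExtension.proj_surjective

/-- Artin–Rees: a power of an ideal killing the kernel meets the kernel trivially. -/
lemma exists_pow_inf_ker [IsNoetherianRing R] (𝔫 : Ideal X.E)
    (h𝔫 : ∀ y ∈ 𝔫, ∀ z : L, y * X.incl z = 0) :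
    ∃ c : ℕ, ∀ x ∈ 𝔫 ^ (c + 1), X.proj x = 0 → x = 0 := by
  have := isNoetherianRing_E X
  obtain ⟨c, hc⟩ := Ideal.exists_pow_inf_eq_pow_smul 𝔫
    (RingHom.ker (X.proj : X.E →+* R) : Submodule X.E X.E)
  refine ⟨c, fun x hx hpx => ?_⟩
  have h1 : x ∈ 𝔫 ^ (c + 1) • (⊤ : Submodule X.E X.E) ⊓ RingHom.ker (X.proj : X.E →+* R) := by
    refine ⟨?_, hpx⟩
    rw [smul_eq_mul, Ideal.mul_top]
    exact hx
  rw [hc (c + 1) (Nat.le_succ c), Nat.add_sub_cancel_left, pow_one] at h1
  refine Submodule.smul_induction_on h1 (fun y hy w hw => ?_) (fun a b ha hb => ?_)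
  · obtain ⟨z, rfl⟩ := exists_incl_of_proj_eq_zero X w hw.2
    rw [smul_eq_mul]
    exact h𝔫 y hy z
  · rw [ha, hb, add_zero]

end noeth

section lift

open Groth.Agent.LibPS29 Groth.Agent.LibCR29

variable {Λ : Type u} [CommRing Λ] [IsLocalRing Λ] [IsNoetherianRing Λ] {d : ℕ}
  {J : Ideal (MvPowerSeries (Fin d) Λ)}
  {L : Type u} [AddCommGroup L] [Module (MvPowerSeries (Fin d) Λ ⧸ J) L]
  [IsSimpleModule (MvPowerSeries (Fin d) Λ ⧸ J) L]

omit [IsNoetherianRing Λ] in
/-- the variables kill the simple module `L`. -/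
lemma span_X_smul (a : MvPowerSeries (Fin d) Λ)
    (ha : a ∈ Ideal.span (Set.range (MvPowerSeries.X : Fin d → MvPowerSeries (Fin d) Λ))) (z : L) :
    Ideal.Quotient.mk J a • z = 0 := by
  have hmax : (Module.annihilator (MvPowerSeries (Fin d) Λ ⧸ J) L).IsMaximal :=
    IsSimpleModule.annihilator_isMaximal
  have hcomap : ((Module.annihilator (MvPowerSeries (Fin d) Λ ⧸ J) L).comap
      (Ideal.Quotient.mk J)).IsMaximal :=
    Ideal.comap_isMaximal_of_surjective _ Ideal.Quotient.mk_surjective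
  have heq := IsLocalRing.eq_maximalIdeal hcomap
  have h1 : a ∈ maximalIdeal (MvPowerSeries (Fin d) Λ) := by
    refine (Ideal.span_le.2 ?_) ha
    rintro _ ⟨i, rfl⟩
    exact X_mem_maximalIdeal_ps i
  rw [← heq, Ideal.mem_comap, Module.mem_annihilator] at h1
  exact h1 z

/-- (a): the quotient map lifts to every extension. -/
theorem exists_lift (X : Exal.Ext Λ (MvPowerSeries (Fin d) Λ ⧸ J) L) :
    ∃ u : MvPowerSeries (Fin d) Λ →ₐ[Λ] X.E, ∀ p, X.proj (u p) = Ideal.Quotient.mk J p := by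
  classical
  have hlift : ∀ i : Fin d, ∃ e : X.E, X.proj e = Ideal.Quotient.mk J (MvPowerSeries.X i) :=
    fun i => X.isExtension.proj_surjective _
  choose e he using hlift
  obtain ⟨𝔫, h𝔫def⟩ : ∃ 𝔫 : Ideal X.E, 𝔫 = Ideal.span (Set.range e) := ⟨_, rfl⟩
  have h𝔫 : ∀ y ∈ 𝔫, ∀ z : L, y * X.incl z = 0 := by
    intro y hy z
    rw [h𝔫def] at hy
    induction hy using Submodule.span_induction with
    | mem y hy =>
      obtain ⟨i, rfl⟩ := hy
      rw [mul_incl, he, span_X_smul _ (Ideal.subset_span ⟨i, rfl⟩), map_zero]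
    | zero => rw [zero_mul]
    | add a b _ _ ha hb => rw [add_mul, ha, hb, add_zero]
    | smul a b _ hb => rw [smul_eq_mul, mul_assoc, hb, mul_zero]
  obtain ⟨c, hc1, hc⟩ : ∃ c : ℕ, 1 ≤ c ∧ ∀ x ∈ 𝔫 ^ (c + 1), X.proj x = 0 → x = 0 := by
    obtain ⟨c₀, hc₀⟩ := exists_pow_inf_ker X 𝔫 h𝔫
    exact ⟨c₀ + 1, by omega, fun x hx => hc₀ x (Ideal.pow_le_pow_right (by omega) hx)⟩
  -- the Artinian truncation of `E`
  have hz : ∀ i, (Ideal.Quotient.mk (𝔫 ^ (c + 1)) (e i)) ^ (c + 1) = 0 := by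
    intro i
    rw [← map_pow, Ideal.Quotient.eq_zero_iff_mem]
    apply Ideal.pow_mem_pow
    rw [h𝔫def]
    exact Ideal.subset_span ⟨i, rfl⟩
  obtain ⟨uN, huN⟩ : ∃ uN : MvPowerSeries (Fin d) Λ →ₐ[Λ] (X.E ⧸ 𝔫 ^ (c + 1)),
      uN = ev (fun i => Ideal.Quotient.mk (𝔫 ^ (c + 1)) (e i)) c hz := ⟨_, rfl⟩
  have huNX : ∀ i, uN (MvPowerSeries.X i) = Ideal.Quotient.mk (𝔫 ^ (c + 1)) (e i) := by
    intro i
    rw [huN, ev_X _ c hc1 hz i]
  -- the truncation of `R`
  obtain ⟨𝔯, h𝔯def⟩ : ∃ 𝔯 : Ideal (MvPowerSeries (Fin d) Λ ⧸ J),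
      𝔯 = Ideal.span (Set.range fun i => Ideal.Quotient.mk J (MvPowerSeries.X i)) := ⟨_, rfl⟩
  have hmap : Ideal.map (X.proj : X.E →+* _) (𝔫 ^ (c + 1)) = 𝔯 ^ (c + 1) := by
    rw [Ideal.map_pow, h𝔫def, Ideal.map_span, ← Set.range_comp, h𝔯def]
    congr 3
    funext i
    exact he i
  have hw : ∀ i, (Ideal.Quotient.mk (𝔯 ^ (c + 1)) (Ideal.Quotient.mk J (MvPowerSeries.X i))) ^ (c + 1) = 0 := by
    intro i
    rw [← map_pow, Ideal.Quotient.eq_zero_iff_mem]
    apply Ideal.pow_mem_pow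
    rw [h𝔯def]
    exact Ideal.subset_span ⟨i, rfl⟩
  obtain ⟨q, hq⟩ : ∃ q : (MvPowerSeries (Fin d) Λ ⧸ J) →ₐ[Λ]
      ((MvPowerSeries (Fin d) Λ ⧸ J) ⧸ 𝔯 ^ (c + 1)), ∀ r, q r = Ideal.Quotient.mk (𝔯 ^ (c + 1)) r :=
    ⟨Ideal.Quotient.mkₐ Λ (𝔯 ^ (c + 1)), fun r => rfl⟩
  have hqproj : ∀ a ∈ 𝔫 ^ (c + 1), (q.comp X.proj) a = 0 := by
    intro a ha
    rw [AlgHom.comp_apply, hq, Ideal.Quotient.eq_zero_iff_mem, ← hmap]
    exact Ideal.mem_map_of_mem _ ha
  obtain ⟨pbar, hpbar⟩ : ∃ pbar : (X.E ⧸ 𝔫 ^ (c + 1)) →ₐ[Λ]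
      ((MvPowerSeries (Fin d) Λ ⧸ J) ⧸ 𝔯 ^ (c + 1)),
      ∀ x : X.E, pbar (Ideal.Quotient.mk _ x) = q (X.proj x) :=
    ⟨Ideal.Quotient.liftₐ (𝔫 ^ (c + 1)) (q.comp X.proj) hqproj, fun x => rfl⟩
  -- Claim A
  have hA : ∀ f, pbar (uN f) = q (Ideal.Quotient.mk J f) := by
    have h1 : pbar.comp uN = ev (fun i => Ideal.Quotient.mk (𝔯 ^ (c + 1))
        (Ideal.Quotient.mk J (MvPowerSeries.X i))) c hw :=
      algHom_eq_ev (A := Λ) (E := (MvPowerSeries (Fin d) Λ ⧸ J) ⧸ 𝔯 ^ (c + 1))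
        (fun i => Ideal.Quotient.mk (𝔯 ^ (c + 1)) (Ideal.Quotient.mk J (MvPowerSeries.X i))) c hw
        (pbar.comp uN) (fun i => by
        rw [AlgHom.comp_apply, huNX, hpbar, he, hq])
    have h2 : q.comp (Ideal.Quotient.mkₐ Λ J) = ev (fun i => Ideal.Quotient.mk (𝔯 ^ (c + 1))
        (Ideal.Quotient.mk J (MvPowerSeries.X i))) c hw :=
      algHom_eq_ev (A := Λ) (E := (MvPowerSeries (Fin d) Λ ⧸ J) ⧸ 𝔯 ^ (c + 1))
        (fun i => Ideal.Quotient.mk (𝔯 ^ (c + 1)) (Ideal.Quotient.mk J (MvPowerSeries.X i))) c hw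
        (q.comp (Ideal.Quotient.mkₐ Λ J)) (fun i => by
        rw [AlgHom.comp_apply, hq]
        rfl)
    intro f
    have := DFunLike.congr_fun (h1.trans h2.symm) f
    exact this
  -- Claim B
  have hsurj : Function.Surjective (X.proj : X.E →+* MvPowerSeries (Fin d) Λ ⧸ J) :=
    X.isExtension.proj_surjective
  have hB : ∀ y : X.E ⧸ 𝔫 ^ (c + 1), pbar y = 0 → ∃ l : L, y = Ideal.Quotient.mk _ (X.incl l) := by
    intro y hy
    obtain ⟨x, rfl⟩ := Ideal.Quotient.mk_surjective y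
    rw [hpbar, hq, Ideal.Quotient.eq_zero_iff_mem, ← hmap] at hy
    obtain ⟨x', hx', hxx'⟩ := (Ideal.mem_map_iff_of_surjective _ hsurj).1 hy
    have hxx'' : X.proj x' = X.proj x := hxx'
    obtain ⟨l, hl⟩ := exists_incl_of_proj_eq_zero X (x - x') (by
      rw [map_sub, sub_eq_zero]; exact hxx''.symm)
    refine ⟨l, ?_⟩
    rw [hl, map_sub, Ideal.Quotient.eq_zero_iff_mem.2 hx', sub_zero]
  -- existence and uniqueness of the value
  have hex : ∀ f : MvPowerSeries (Fin d) Λ, ∃ x : X.E,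
      X.proj x = Ideal.Quotient.mk J f ∧ Ideal.Quotient.mk (𝔫 ^ (c + 1)) x = uN f := by
    intro f
    obtain ⟨x₁, hx₁⟩ := X.isExtension.proj_surjective (Ideal.Quotient.mk J f)
    obtain ⟨l, hl⟩ := hB (uN f - Ideal.Quotient.mk _ x₁) (by
      rw [map_sub, hA, hpbar, hx₁, sub_self])
    refine ⟨x₁ + X.incl l, by rw [map_add, hx₁, proj_incl, add_zero], ?_⟩
    rw [map_add, ← hl]
    ring
  have huniq : ∀ (f : MvPowerSeries (Fin d) Λ) (x x' : X.E),
      X.proj x = Ideal.Quotient.mk J f → Ideal.Quotient.mk (𝔫 ^ (c + 1)) x = uN f →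
      X.proj x' = Ideal.Quotient.mk J f → Ideal.Quotient.mk (𝔫 ^ (c + 1)) x' = uN f → x = x' := by
    intro f x x' h1 h2 h3 h4
    rw [← sub_eq_zero]
    apply hc
    · rw [← Ideal.Quotient.eq, h2, h4]
    · rw [map_sub, h1, h3, sub_self]
  choose uu huu using hex
  refine ⟨{ toFun := uu
            map_one' := ?_
            map_mul' := ?_
            map_zero' := ?_
            map_add' := ?_
            commutes' := ?_ }, fun p => (huu p).1⟩
  · exact huniq 1 _ _ (huu 1).1 (huu 1).2 (by rw [map_one, map_one]) (by rw [map_one, map_one])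
  · intro f g
    refine huniq (f * g) _ _ (huu _).1 (huu _).2 ?_ ?_
    · rw [map_mul, (huu f).1, (huu g).1, map_mul]
    · rw [map_mul, (huu f).2, (huu g).2, map_mul]
  · exact huniq 0 _ _ (huu 0).1 (huu 0).2 (by rw [map_zero, map_zero]) (by rw [map_zero, map_zero])
  · intro f g
    refine huniq (f + g) _ _ (huu _).1 (huu _).2 ?_ ?_
    · rw [map_add, (huu f).1, (huu g).1, map_add]
    · rw [map_add, (huu f).2, (huu g).2, map_add]
  · intro a
    refine huniq (algebraMap Λ _ a) _ _ (huu _).1 (huu _).2 ?_ ?_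
    · rw [AlgHom.commutes]
      rfl
    · rw [AlgHom.commutes]
      rfl

end lift


/-- Let k be an algebraically closed field, Λ a complete local Noetherian k-algebra with residue field
k, P = Λ[[X_1, …, X_d]] the power series ring, J an ideal of P contained in (X_1, …, X_d)^2, R =
P/J, and L a simple R-module (a copy of the residue field k). Then: (a) for every Λ-extension 0 → L
→ E → R → 0 the quotient map P → R lifts to a Λ-algebra map u : P → E; (b) for two such extensions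
E, E' with lifts u, u', the extensions are equivalent if and only if u and u' send every element of
J to the images of the same element of L (the restrictions J → L of the lifts agree); (c) every
P-linear map J → L is the restriction of a lift for some extension. Thus the classes of Λ-extensions
of R by L correspond bijectively to Hom_P(J, L), the dual of J/m_P J; this is the identification of
the obstruction space o(R/Λ) for a complete R (the general case reduces to it by passing to the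
completion). -/
theorem result
    {k : Type u} [Field k] [IsAlgClosed k]
    {Λ : Type u} [CommRing Λ] [Algebra k Λ] [IsLocalRing Λ] [IsNoetherianRing Λ]
    [IsAdicComplete (IsLocalRing.maximalIdeal Λ) Λ]
    (hΛ : ∀ a : Λ, ∃ c : k, a - algebraMap k Λ c ∈ IsLocalRing.maximalIdeal Λ)
    (d : ℕ) (J : Ideal (MvPowerSeries (Fin d) Λ))
    (hJ : J ≤ Ideal.span (Set.range (MvPowerSeries.X : Fin d → MvPowerSeries (Fin d) Λ)) ^ 2)
    (L : Type u) [AddCommGroup L] [Module (MvPowerSeries (Fin d) Λ ⧸ J) L] [Module (MvPowerSeries (Fin d) Λ) L]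
    [IsScalarTower (MvPowerSeries (Fin d) Λ) (MvPowerSeries (Fin d) Λ ⧸ J) L] [IsSimpleModule (MvPowerSeries (Fin d) Λ ⧸ J) L] :
    (∀ X : Exal.Ext Λ (MvPowerSeries (Fin d) Λ ⧸ J) L,
        ∃ u : MvPowerSeries (Fin d) Λ →ₐ[Λ] X.E, ∀ p, X.proj (u p) = Ideal.Quotient.mk J p) ∧
    (∀ (X X' : Exal.Ext Λ (MvPowerSeries (Fin d) Λ ⧸ J) L) (u : MvPowerSeries (Fin d) Λ →ₐ[Λ] X.E) (u' : MvPowerSeries (Fin d) Λ →ₐ[Λ] X'.E),
        (∀ p, X.proj (u p) = Ideal.Quotient.mk J p) → (∀ p, X'.proj (u' p) = Ideal.Quotient.mk J p) →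
        (Nonempty (X.Equiv X') ↔ ∀ j ∈ J, ∃ z : L, X.incl z = u j ∧ X'.incl z = u' j)) ∧
    (∀ δ : J →ₗ[MvPowerSeries (Fin d) Λ] L, ∃ (X : Exal.Ext Λ (MvPowerSeries (Fin d) Λ ⧸ J) L) (u : MvPowerSeries (Fin d) Λ →ₐ[Λ] X.E),
        (∀ p, X.proj (u p) = Ideal.Quotient.mk J p) ∧ ∀ j : J, X.incl (δ j) = u j) := by
  refine ⟨fun X => exists_lift X, fun X X' u u' hu hu' => ⟨?_, ?_⟩, fun δ => ?_⟩
  · rintro ⟨e⟩
    exact agree_of_equiv X X' u u' hu hu' _ (fun a ha z => span_X_smul a ha z) hJ e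
  · intro h
    exact equiv_of_agree X X' u u' hu hu' h
  · exact ⟨extOf δ, liftOf δ, proj_liftOf δ, incl_eq_liftOf δ⟩

end Groth.Agent.S11287
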