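import Groth.Statements.S11288
import Mathlib

set_option autoImplicit false
universe u
open Deform

namespace Groth.Agent.S11288

/-- Let K be a field, R' a local Artinian K-algebra with residue field K, and t a nonzero element of the
maximal ideal m' of R' with m' t = 0, so that R' → R = R'/(t) is a small extension of R. Then the
extension is trivial, i.e. the projection admits a section which is a K-algebra map, if and only if
t is not in m'^2; equivalently, iff the surjection m'/m'^2 → m_R/m_R^2 induced on cotangent spaces,
whose kernel is spanned by the class of t, is not bijective. For instance K[t]/(t^(n+1)) →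
K[t]/(t^n) is a non-trivial small extension for n ≥ 2. (The published example allows any local
K-algebra with residue field K; the row takes R' Artinian, the case in which the subalgebra
generated by lifts of a basis of the cotangent space maps onto R.) -/
theorem result
    {K : Type u} [Field K]
    {R' : Type u} [CommRing R'] [Algebra K R'] [IsLocalRing R'] [IsArtinianRing R']
    (hres : ∀ a : R', ∃ c : K, a - algebraMap K R' c ∈ IsLocalRing.maximalIdeal R')
    (t : R') (ht : t ∈ IsLocalRing.maximalIdeal R') (ht0 : t ≠ 0)
    (htm : ∀ a ∈ IsLocalRing.maximalIdeal R', a * t = 0) :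
    (∃ s : (R' ⧸ Ideal.span {t}) →ₐ[K] R', ∀ x, Ideal.Quotient.mk (Ideal.span {t}) (s x) = x) ↔
      t ∉ IsLocalRing.maximalIdeal R' ^ 2 := by
  classical
  -- general facts
  have hIt : ∀ r : R', ∃ c : K, r * t = c • t := by
    intro r
    obtain ⟨c, hc⟩ := hres r
    refine ⟨c, ?_⟩
    have h1 := htm _ hc
    rw [sub_mul] at h1
    rw [sub_eq_zero.1 h1, Algebra.smul_def]
  have htt : t * t = 0 := htm t ht
  have hker : ∀ x : R', Ideal.Quotient.mk (Ideal.span {t}) x = 0 → ∃ c : K, x = c • t := by
    intro x hx
    rw [Ideal.Quotient.eq_zero_iff_mem, Ideal.mem_span_singleton'] at hx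
    obtain ⟨r, rfl⟩ := hx
    exact hIt r
  constructor
  · rintro ⟨s, hs⟩ htsq
    have ha : ∀ a : R', ∃ c : K, a = s (Ideal.Quotient.mk _ a) + c • t := by
      intro a
      obtain ⟨c, hc⟩ := hker (a - s (Ideal.Quotient.mk _ a)) (by rw [map_sub, hs, sub_self])
      exact ⟨c, by rw [← hc]; ring⟩
    have hb : ∀ a ∈ IsLocalRing.maximalIdeal R', s (Ideal.Quotient.mk _ a) ∈ IsLocalRing.maximalIdeal R' := by
      intro a ham
      obtain ⟨c, hc⟩ := ha a
      have h1 : s (Ideal.Quotient.mk _ a) = a - c • t := by rw [eq_sub_iff_add_eq, ← hc]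
      rw [h1]
      exact Ideal.sub_mem _ ham (Submodule.smul_of_tower_mem _ c ht)
    have hd : ∀ a ∈ IsLocalRing.maximalIdeal R', ∀ b ∈ IsLocalRing.maximalIdeal R',
        a * b = s (Ideal.Quotient.mk _ (a * b)) := by
      intro a ham b hbm
      obtain ⟨c, hc⟩ := ha a
      obtain ⟨c', hc'⟩ := ha b
      have h1 := htm _ (hb a ham)
      have h2 := htm _ (hb b hbm)
      rw [map_mul, map_mul]
      conv_lhs => rw [hc, hc']
      rw [add_mul, mul_add, mul_add, mul_smul_comm, h1, smul_zero, add_zero, smul_mul_assoc,
        mul_comm t (s _), h2, smul_zero, zero_add, smul_mul_assoc, mul_smul_comm, htt, smul_zero, smul_zero,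
        add_zero]
    have he : ∀ y ∈ IsLocalRing.maximalIdeal R' ^ 2, y = s (Ideal.Quotient.mk _ y) := by
      intro y hy
      rw [pow_two] at hy
      refine Submodule.mul_induction_on hy ?_ ?_
      · intro a ham b hbm
        exact hd a ham b hbm
      · intro x y hx hy
        rw [map_add, map_add, ← hx, ← hy]
    have h1 := he t htsq
    have h2 : Ideal.Quotient.mk (Ideal.span {t}) t = 0 :=
      Ideal.Quotient.eq_zero_iff_mem.2 (Ideal.mem_span_singleton_self t)
    rw [h2, map_zero] at h1
    exact ht0 h1
  · intro htsq
    -- the subspace K·1 + m'^2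
    let P : Submodule K R' := Submodule.span K {(1 : R')} ⊔ (IsLocalRing.maximalIdeal R' ^ 2).restrictScalars K
    have htP : t ∉ P := by
      intro h
      obtain ⟨u, hu, y, hy, huy⟩ := Submodule.mem_sup.1 h
      obtain ⟨c, rfl⟩ := Submodule.mem_span_singleton.1 hu
      have hy' : y ∈ IsLocalRing.maximalIdeal R' ^ 2 := hy
      have hym : y ∈ IsLocalRing.maximalIdeal R' := Ideal.pow_le_self two_ne_zero hy'
      have hc1 : c • (1 : R') ∈ IsLocalRing.maximalIdeal R' := by
        have : c • (1 : R') = t - y := by rw [← huy]; ring
        rw [this]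
        exact Ideal.sub_mem _ ht hym
      have hc0 : c = 0 := by
        by_contra hne
        have hu : IsUnit (c • (1 : R')) := by
          rw [Algebra.smul_def, mul_one]
          exact (Ne.isUnit hne).map _
        exact hc1 hu
      rw [hc0, zero_smul, zero_add] at huy
      exact htsq (huy ▸ hy')
    obtain ⟨f, hft, hPf⟩ := Submodule.exists_le_ker_of_notMem htP
    let lam : R' →ₗ[K] K := (f t)⁻¹ • f
    have hlt : lam t = 1 := by
      change (f t)⁻¹ • f t = 1
      rw [smul_eq_mul, inv_mul_cancel₀ hft]
    have hl1 : lam 1 = 0 := by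
      have : f 1 = 0 := hPf (Submodule.mem_sup_left (Submodule.subset_span rfl))
      change (f t)⁻¹ • f 1 = 0
      rw [this, smul_zero]
    have hlsq : ∀ y ∈ IsLocalRing.maximalIdeal R' ^ 2, lam y = 0 := by
      intro y hy
      have : f y = 0 := hPf (Submodule.mem_sup_right hy)
      change (f t)⁻¹ • f y = 0
      rw [this, smul_zero]
    have hdec : ∀ x : R', ∃ c : K, x * t = algebraMap K R' c * t ∧
        ∀ y : R', lam (x * y) = c * lam y + lam (x - algebraMap K R' c) * 0 + lam ((x - algebraMap K R' c) * y) := by
      intro x
      obtain ⟨c, hc⟩ := hres x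
      refine ⟨c, ?_, fun y => ?_⟩
      · have h1 := htm _ hc
        rw [sub_mul] at h1
        exact sub_eq_zero.1 h1
      · have : x * y = c • y + (x - algebraMap K R' c) * y := by
          rw [Algebra.smul_def]; ring
        conv_lhs => rw [this]
        rw [map_add, map_smul, smul_eq_mul, mul_zero, add_zero]
    have hlam_m : ∀ x : R', ∀ c : K, x - algebraMap K R' c ∈ IsLocalRing.maximalIdeal R' →
        lam x = lam (x - algebraMap K R' c) := by
      intro x c _
      rw [map_sub, Algebra.algebraMap_eq_smul_one, map_smul, hl1, smul_zero, sub_zero]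
    have hmul : ∀ x y : R', (x * y) - lam (x * y) • t = (x - lam x • t) * (y - lam y • t) := by
      intro x y
      obtain ⟨c, hc⟩ := hres x
      obtain ⟨c', hc'⟩ := hres y
      have hxt : x * t = algebraMap K R' c * t := by
        have h1 := htm _ hc
        rw [sub_mul] at h1
        exact sub_eq_zero.1 h1
      have hyt : y * t = algebraMap K R' c' * t := by
        have h1 := htm _ hc'
        rw [sub_mul] at h1
        exact sub_eq_zero.1 h1
      have hl : lam (x * y) = c * lam y + c' * lam x := by
        have e1 : x * y = c • y + c' • (x - algebraMap K R' c) +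
            (x - algebraMap K R' c) * (y - algebraMap K R' c') := by
          rw [Algebra.smul_def, Algebra.smul_def]; ring
        rw [e1, map_add, map_add, map_smul, map_smul, smul_eq_mul, smul_eq_mul,
          hlsq ((x - algebraMap K R' c) * (y - algebraMap K R' c')) (by rw [pow_two]; exact Ideal.mul_mem_mul hc hc'),
          add_zero, ← hlam_m x c hc]
      rw [hl, Algebra.smul_def, Algebra.smul_def, Algebra.smul_def, map_add, map_mul, map_mul]
      linear_combination (algebraMap K R' (lam y)) * hxt + (algebraMap K R' (lam x)) * hyt -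
        (algebraMap K R' (lam x) * algebraMap K R' (lam y)) * htt
    let σ : R' →ₐ[K] R' :=
      { toFun := fun x => x - lam x • t
        map_one' := by
          change (1 : R') - lam 1 • t = 1
          rw [hl1, zero_smul, sub_zero]
        map_mul' := hmul
        map_zero' := by
          change (0 : R') - lam 0 • t = 0
          rw [map_zero, zero_smul, sub_zero]
        map_add' := fun x y => by
          change (x + y) - lam (x + y) • t = (x - lam x • t) + (y - lam y • t)
          rw [map_add, add_smul]; ring
        commutes' := fun c => by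
          change algebraMap K R' c - lam (algebraMap K R' c) • t = algebraMap K R' c
          rw [Algebra.algebraMap_eq_smul_one, map_smul, hl1, smul_zero, zero_smul, sub_zero] }
    have hσ : ∀ x, σ x = x - lam x • t := fun x => rfl
    have hkill : ∀ x ∈ Ideal.span {t}, σ x = 0 := by
      intro x hx
      rw [Ideal.mem_span_singleton'] at hx
      obtain ⟨r, rfl⟩ := hx
      obtain ⟨c, hc⟩ := hIt r
      rw [hσ, hc, map_smul, hlt, smul_eq_mul, mul_one, sub_self]
    refine ⟨Ideal.Quotient.liftₐ (Ideal.span {t}) σ hkill, fun x => ?_⟩
    obtain ⟨y, rfl⟩ := Ideal.Quotient.mk_surjective x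
    change Ideal.Quotient.mk _ (σ y) = _
    rw [hσ, map_sub, sub_eq_self, Ideal.Quotient.eq_zero_iff_mem]
    exact Submodule.smul_of_tower_mem _ _ (Ideal.mem_span_singleton_self t)

end Groth.Agent.S11288
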