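import Groth.Statements.S11291
import Groth.Agent.LibObs29
import Groth.Agent.LibObs29d
import Groth.Agent.S11740
-- import your own Groth.Agent.* helpers here

set_option autoImplicit false
universe u
open Deform

namespace Groth.Agent.S11291

open IsLocalRing Groth.Agent.LibObs29

/-- a nilpotent ideal makes the ring adically complete. -/
theorem isAdicComplete_of_pow_eq_bot {R : Type*} [CommRing R] (I : Ideal R) (N : ℕ) (hN : I ^ N = ⊥) :
    IsAdicComplete I R := by
  have hH : IsHausdorff I R := by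
    refine ⟨fun x hx => ?_⟩
    have h := hx N
    rw [SModEq.zero, hN] at h
    simpa using h
  have hP : IsPrecomplete I R := by
    refine ⟨fun {f} hf => ⟨f N, fun n => ?_⟩⟩
    rcases le_total n N with h | h
    · exact hf h
    · have h2 := hf h
      rw [hN] at h2
      have h3 : f N = f n := by
        have := (SModEq.sub_mem.1 h2)
        simp only [Submodule.bot_smul, Submodule.mem_bot, sub_eq_zero] at this
        exact this
      rw [h3]
  exact { toIsHausdorff := hH, toIsPrecomplete := hP }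

section general

variable {k : Type u} [Field k] {P : Type u} [CommRing P] [Algebra k P] [IsLocalRing P]
  (I : Ideal P) (χ : P →ₐ[k] k) (hdecomp : ∀ p : P, p - algebraMap k P (χ p) ∈ maximalIdeal P)
  (lam0 : ↥I →ₗ[k] k) (hlamW : ∀ x : ↥I, (x : P) ∈ maximalIdeal P * I → lam0 x = 0)

include hdecomp hlamW in
lemma lam_mul (p : P) (x : ↥I) :
    lam0 ⟨p * x, Ideal.mul_mem_left _ _ x.2⟩ = χ p * lam0 x := by
  have e : (⟨p * x, Ideal.mul_mem_left _ _ x.2⟩ : ↥I) =
      χ p • x + ⟨(p - algebraMap k P (χ p)) * x, Ideal.mul_mem_left _ _ x.2⟩ := by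
    apply Subtype.ext
    rw [Submodule.coe_add, Submodule.coe_smul_of_tower, Algebra.smul_def]
    ring
  rw [e, map_add, map_smul, smul_eq_mul,
    hlamW ⟨(p - algebraMap k P (χ p)) * x, Ideal.mul_mem_left _ _ x.2⟩
      (Ideal.mul_mem_mul (hdecomp p) x.2), add_zero]

/-- the hyperplane ideal. -/
def hyp (hdecomp : ∀ p : P, p - algebraMap k P (χ p) ∈ maximalIdeal P)
    (hlamW : ∀ x : ↥I, (x : P) ∈ maximalIdeal P * I → lam0 x = 0) : Ideal P :=
  { carrier := {x | ∃ h : x ∈ I, lam0 ⟨x, h⟩ = 0}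
    add_mem' := fun {a b} ha hb => by
      obtain ⟨ha1, ha2⟩ := ha
      obtain ⟨hb1, hb2⟩ := hb
      refine ⟨Ideal.add_mem _ ha1 hb1, ?_⟩
      have : (⟨a + b, Ideal.add_mem _ ha1 hb1⟩ : ↥I) = ⟨a, ha1⟩ + ⟨b, hb1⟩ := rfl
      rw [this, map_add, ha2, hb2, add_zero]
    zero_mem' := ⟨Ideal.zero_mem _, by
      have : (⟨0, Ideal.zero_mem _⟩ : ↥I) = 0 := rfl
      rw [this, map_zero]⟩
    smul_mem' := fun p x hx => by
      obtain ⟨hx1, hx2⟩ := hx
      refine ⟨Ideal.mul_mem_left _ _ hx1, ?_⟩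
      have := lam_mul I χ hdecomp lam0 hlamW p ⟨x, hx1⟩
      rw [hx2, mul_zero] at this
      exact this }

lemma mem_hyp (x : P) : x ∈ hyp I χ lam0 hdecomp hlamW ↔ ∃ h : x ∈ I, lam0 ⟨x, h⟩ = 0 := by
  unfold hyp
  rw [Submodule.mem_mk]
  exact Iff.rfl


end general

section ext

variable {k : Type u} [Field k] {A : Type u} [CommRing A] [Algebra k A] [IsLocalRing A]
  {P : Type u} [CommRing P] [Algebra k P] [IsLocalRing P]

theorem exists_ext (res : A →ₐ[k] k) (hresm : ∀ r, r ∈ maximalIdeal A ↔ res r = 0)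
    (φ₀ : P →ₐ[k] A) (hφ₀ : Function.Surjective φ₀)
    (hI2 : RingHom.ker φ₀ ≤ maximalIdeal P ^ 2)
    (hne : ¬ RingHom.ker φ₀ ≤ maximalIdeal P * RingHom.ker φ₀) :
    ∃ X : Exal.Ext k A (IsLocalRing.ResidueField A), ¬ X.IsTrivial := by
  classical
  obtain ⟨I, hIdef⟩ : ∃ I : Ideal P, I = RingHom.ker φ₀ := ⟨_, rfl⟩
  rw [← hIdef] at hI2 hne
  have hImem : ∀ p, p ∈ I ↔ φ₀ p = 0 := fun p => by rw [hIdef, RingHom.mem_ker]
  -- the augmentation of `P`
  obtain ⟨χ, hχ⟩ : ∃ χ : P →ₐ[k] k, ∀ p, χ p = res (φ₀ p) := ⟨res.comp φ₀, fun p => rfl⟩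
  have hχsurj : Function.Surjective χ := fun c =>
    ⟨algebraMap k _ c, by rw [AlgHom.commutes]; rfl⟩
  have hχker : RingHom.ker χ = maximalIdeal P :=
    IsLocalRing.eq_maximalIdeal (RingHom.ker_isMaximal_of_surjective _ hχsurj)
  have hχm : ∀ p, p ∈ maximalIdeal P ↔ χ p = 0 := fun p => by
    rw [← hχker, RingHom.mem_ker]
  have hdecomp : ∀ p : P, p - algebraMap k P (χ p) ∈ maximalIdeal P := by
    intro p
    rw [hχm, map_sub, AlgHom.commutes]
    simp
  -- the functional
  let W : Submodule k ↥I :=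
    Submodule.comap ((Submodule.subtype I).restrictScalars k)
      ((maximalIdeal P * I).restrictScalars k)
  have hWmem : ∀ x : ↥I, x ∈ W ↔ (x : P) ∈ maximalIdeal P * I := fun x => Iff.rfl
  have hWlt : W < ⊤ := by
    rw [lt_top_iff_ne_top]
    intro hW
    apply hne
    intro x hx
    have : (⟨x, hx⟩ : ↥I) ∈ W := by rw [hW]; trivial
    exact this
  obtain ⟨lam0, hlam0, hWlam0⟩ := W.exists_le_ker_of_lt_top hWlt
  obtain ⟨g0, hg0⟩ : ∃ g0 : ↥I, lam0 g0 ≠ 0 := by
    by_contra h
    push Not at h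
    exact hlam0 (LinearMap.ext h)
  -- normalise
  obtain ⟨g, hg⟩ : ∃ g : ↥I, lam0 g = 1 :=
    ⟨(lam0 g0)⁻¹ • g0, by rw [map_smul, smul_eq_mul, inv_mul_cancel₀ hg0]⟩
  have hlamW : ∀ x : ↥I, (x : P) ∈ maximalIdeal P * I → lam0 x = 0 := fun x hx =>
    LinearMap.mem_ker.1 (hWlam0 ((hWmem x).2 hx))
  -- the ideal `I'`
  obtain ⟨I', hI'mem⟩ : ∃ I' : Ideal P, ∀ x, x ∈ I' ↔ ∃ h : x ∈ I, lam0 ⟨x, h⟩ = 0 :=
    ⟨hyp I χ lam0 hdecomp hlamW, fun x => mem_hyp I χ hdecomp lam0 hlamW x⟩
  have hI'le : I' ≤ I := fun x hx => ((hI'mem x).1 hx).1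
  have hmI : maximalIdeal P * I ≤ I' := fun x hx =>
    (hI'mem x).2 ⟨Ideal.mul_le_right hx, hlamW ⟨x, Ideal.mul_le_right hx⟩ hx⟩
  have hgnot : (g : P) ∉ I' := by
    intro h
    obtain ⟨h1, h2⟩ := (hI'mem _).1 h
    have : (⟨(g : P), h1⟩ : ↥I) = g := rfl
    rw [this, hg] at h2
    exact one_ne_zero h2
  -- the residue field
  obtain ⟨ebar, hebar⟩ : ∃ ebar : ResidueField A →+* k,
      ∀ a : A, ebar (IsLocalRing.residue A a) = res a :=
    ⟨Ideal.Quotient.lift (maximalIdeal A) res.toRingHom (fun a ha => (hresm a).1 ha),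
      fun a => rfl⟩
  have hebar_inj : Function.Injective ebar := RingHom.injective ebar
  -- the extension
  obtain ⟨proj, hproj⟩ : ∃ proj : (P ⧸ I') →ₐ[k] A,
      ∀ p : P, proj (Ideal.Quotient.mk I' p) = φ₀ p :=
    ⟨Ideal.Quotient.liftₐ I' φ₀ (fun x hx => (hImem x).1 (hI'le hx)), fun p => rfl⟩
  obtain ⟨incl, hincl⟩ : ∃ incl : ResidueField A →+ (P ⧸ I'),
      ∀ z, incl z = Ideal.Quotient.mk I' (algebraMap k P (ebar z) * (g : P)) :=
    ⟨{ toFun := fun z => Ideal.Quotient.mk I' (algebraMap k P (ebar z) * (g : P))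
       map_zero' := by rw [map_zero, map_zero, zero_mul, map_zero]
       map_add' := fun a b => by rw [map_add, map_add, add_mul, map_add] }, fun z => rfl⟩
  have hlamcg : ∀ c : k, lam0 ⟨algebraMap k P c * (g : P), Ideal.mul_mem_left _ _ g.2⟩ = c := by
    intro c
    have : (⟨algebraMap k P c * (g : P), Ideal.mul_mem_left _ _ g.2⟩ : ↥I) = c • g := by
      apply Subtype.ext
      rw [Submodule.coe_smul_of_tower, Algebra.smul_def]
    rw [this, map_smul, hg, smul_eq_mul, mul_one]
  have hext : Exal.IsExtension proj incl :=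
    { proj_surjective := fun a => by
        obtain ⟨p, rfl⟩ := hφ₀ a
        exact ⟨Ideal.Quotient.mk I' p, hproj p⟩
      incl_injective := by
        rw [injective_iff_map_eq_zero]
        intro z hz
        rw [hincl, Ideal.Quotient.eq_zero_iff_mem, hI'mem] at hz
        obtain ⟨h1, h2⟩ := hz
        rw [hlamcg] at h2
        exact hebar_inj (by rw [h2, map_zero])
      exact := fun x => by
        obtain ⟨p, rfl⟩ := Ideal.Quotient.mk_surjective x
        rw [hproj]
        constructor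
        · intro hp
          have hpI : p ∈ I := (hImem p).2 hp
          obtain ⟨z, hz⟩ : ∃ z : ResidueField A, ebar z = lam0 ⟨p, hpI⟩ :=
            ⟨IsLocalRing.residue A (algebraMap k A (lam0 ⟨p, hpI⟩)), by
              rw [hebar, AlgHom.commutes]; rfl⟩
          refine ⟨z, ?_⟩
          rw [hincl, hz, Ideal.Quotient.eq, hI'mem]
          have hmem : algebraMap k P (lam0 ⟨p, hpI⟩) * (g : P) - p ∈ I :=
            Ideal.sub_mem _ (Ideal.mul_mem_left _ _ g.2) hpI
          refine ⟨hmem, ?_⟩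
          have : (⟨algebraMap k P (lam0 ⟨p, hpI⟩) * (g : P) - p, hmem⟩ : ↥I) =
              ⟨algebraMap k P (lam0 ⟨p, hpI⟩) * (g : P), Ideal.mul_mem_left _ _ g.2⟩ - ⟨p, hpI⟩ := rfl
          rw [this, map_sub, hlamcg, sub_self]
        · rintro ⟨z, hz⟩
          rw [hincl, Ideal.Quotient.eq] at hz
          have h1 : algebraMap k P (ebar z) * (g : P) ∈ I := Ideal.mul_mem_left _ _ g.2
          have h2 : p ∈ I := by
            have := Ideal.sub_mem _ h1 (hI'le hz)
            simpa using this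
          exact (hImem p).1 h2
      mul_incl := fun x z => by
        obtain ⟨p, rfl⟩ := Ideal.Quotient.mk_surjective x
        obtain ⟨a, rfl⟩ := IsLocalRing.residue_surjective z
        rw [hproj, hincl, hincl, ← map_mul, Ideal.Quotient.eq]
        have e1 : φ₀ p • IsLocalRing.residue A a = IsLocalRing.residue A (φ₀ p * a) := by
          rw [Algebra.smul_def, map_mul]; rfl
        rw [e1, hebar, hebar, map_mul, ← hχ, map_mul]
        apply hmI
        have : p * (algebraMap k P (res a) * (g : P)) -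
            algebraMap k P (χ p) * algebraMap k P (res a) * (g : P) =
            (p - algebraMap k P (χ p)) * (algebraMap k P (res a) * (g : P)) := by ring
        rw [this]
        exact Ideal.mul_mem_mul (hdecomp p) (Ideal.mul_mem_left _ _ g.2) }
  refine ⟨{ E := P ⧸ I', proj := proj, incl := incl, isExtension := hext }, ?_⟩
  rintro ⟨s, hs⟩
  change ∀ b : A, proj (s b) = b at hs
  have key := inf_sq_le_ker_of_lift (maximalIdeal P) I (hI2.trans (Ideal.pow_le_self two_ne_zero))
    (Ideal.Quotient.mk I') (s.toRingHom.comp φ₀.toRingHom)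
    (by rw [Ideal.mk_ker]; exact hmI)
    (fun x hx => by
      rw [RingHom.mem_ker, RingHom.comp_apply]
      have : φ₀.toRingHom x = 0 := (hImem x).1 hx
      rw [this, map_zero])
    (fun x => by
      have h0 : proj ((s.toRingHom.comp φ₀.toRingHom) x - Ideal.Quotient.mk I' x) = 0 := by
        rw [map_sub, hproj, RingHom.comp_apply]
        have := hs (φ₀ x)
        rw [sub_eq_zero]
        exact this
      obtain ⟨y, hy⟩ := Ideal.Quotient.mk_surjective
        ((s.toRingHom.comp φ₀.toRingHom) x - Ideal.Quotient.mk I' x)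
      rw [← hy] at h0 ⊢
      rw [hproj] at h0
      exact Ideal.mem_map_of_mem _ ((hImem y).2 h0))
  rw [Ideal.mk_ker] at key
  exact hgnot (key ⟨g.2, hI2 g.2⟩)

end ext


/-- Let k be an algebraically closed field and A a local Artinian k-algebra with residue field k and
non-zero maximal ideal, i.e. A is not k. Then the obstruction space o(A) = Ex_k(A, k) is not zero:
there is a k-extension 0 → k → E → A → 0 of A by its residue field which is not trivial (admits no
k-algebra section). Equivalently, k is the only formally smooth object among local Artinian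
k-algebras with residue field k. -/
theorem result
    {k : Type u} [Field k] [IsAlgClosed k]
    {A : Type u} [CommRing A] [Algebra k A] [IsLocalRing A] [IsArtinianRing A]
    (hres : ∀ a : A, ∃ c : k, a - algebraMap k A c ∈ IsLocalRing.maximalIdeal A)
    (hA : IsLocalRing.maximalIdeal A ≠ ⊥) :
    ∃ X : Exal.Ext k A (IsLocalRing.ResidueField A), ¬ X.IsTrivial := by
  classical
  -- nilpotence
  obtain ⟨N, hN⟩ : ∃ N : ℕ, maximalIdeal A ^ N = ⊥ := by
    have h : IsNilpotent (Ideal.jacobson (⊥ : Ideal A)) := IsArtinianRing.isNilpotent_jacobson_bot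
    rw [IsLocalRing.jacobson_eq_maximalIdeal ⊥ bot_ne_top] at h
    obtain ⟨N, hN⟩ := h
    exact ⟨N, hN⟩
  have : IsAdicComplete (maximalIdeal A) A := isAdicComplete_of_pow_eq_bot _ N hN
  have hR : Function.Surjective ((IsLocalRing.residue A).comp (algebraMap k A)) := by
    intro z
    obtain ⟨a, rfl⟩ := IsLocalRing.residue_surjective z
    obtain ⟨c, hc⟩ := hres a
    refine ⟨c, ?_⟩
    rw [RingHom.comp_apply]
    symm
    rw [← sub_eq_zero, ← map_sub, IsLocalRing.residue_eq_zero_iff]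
    exact hc
  obtain ⟨res, hressurj, hresm⟩ := Groth.Agent.S11740.exists_cring k A hR
  let S : ArtFun.CRing k k :=
    { carrier := A
      res := res
      res_surjective := hressurj
      isAdicComplete := inferInstance }
  obtain ⟨n, φ₀, hφ₀, hker⟩ := exists_ps_presentation S
  refine exists_ext (P := MvPowerSeries (Fin n) k) res hresm φ₀ hφ₀ hker ?_
  intro hle
  -- Nakayama: the kernel is zero
  have hbot : RingHom.ker φ₀ = ⊥ := by
    refine Submodule.eq_bot_of_le_smul_of_le_jacobson_bot (maximalIdeal (MvPowerSeries (Fin n) k)) _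
      (IsNoetherian.noetherian _) hle ?_
    rw [IsLocalRing.jacobson_eq_maximalIdeal ⊥ bot_ne_top]
  obtain ⟨a, ham, ha0⟩ := Submodule.exists_mem_ne_zero_of_ne_bot hA
  obtain ⟨p, rfl⟩ := hφ₀ a
  have h1 : φ₀ p ^ N = 0 := by
    have : φ₀ p ^ N ∈ maximalIdeal A ^ N := Ideal.pow_mem_pow ham N
    rw [hN] at this
    exact this
  rw [← map_pow] at h1
  have h2 : p ^ N ∈ RingHom.ker φ₀ := h1
  rw [hbot, Ideal.mem_bot] at h2
  have h3 : p = 0 := pow_eq_zero_iff (n := N) (by
    rintro rfl
    rw [pow_zero] at h2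
    exact one_ne_zero h2) |>.1 h2
  exact ha0 (by rw [h3, map_zero])

end Groth.Agent.S11291
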