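import Groth.Statements.S5817
import Mathlib
-- import your own Groth.Agent.* helpers here

set_option autoImplicit false
universe u v
open EGA41

namespace Groth.Agent.S5817

section helpers
attribute [local instance] Exal.opModule Exal.isCentralScalar_opModule

theorem main {A : Type u} {B C L : Type v} [CommRing A] [CommRing B] [CommRing C]
    [Algebra A B] [Algebra B C] [Algebra A C] [IsScalarTower A B C]
    [AddCommGroup L] [Module C L] [Module B L] [IsScalarTower B C L] [Module A L] [IsScalarTower A B L]
    [IsScalarTower A C L]
    (D : Derivation A B L) :
    (Exal.Ext.ofDerivation (C := C) D).IsTrivial ↔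
      ∃ D' : Derivation A C L, D'.compAlgebraMap B = D := by
  constructor
  · rintro ⟨s, hs⟩
    let s' : C →+* TrivSqZeroExt C L := (s : C →+* (Exal.Ext.ofDerivation (C := C) D).E)
    have hfst : ∀ c, (s' c).fst = c := hs
    have hcomm : ∀ b : B, s' (algebraMap B C b) =
        TrivSqZeroExt.inl (algebraMap B C b) + TrivSqZeroExt.inr (D b) := fun b => s.commutes b
    have hδB : ∀ b : B, (s' (algebraMap B C b)).snd = D b := by
      intro b
      rw [hcomm]
      simp
    have hadd : ∀ c c', (s' (c + c')).snd = (s' c).snd + (s' c').snd := by
      intro c c'
      rw [map_add, TrivSqZeroExt.snd_add]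
    have hmul : ∀ c c', (s' (c * c')).snd = c • (s' c').snd + c' • (s' c).snd := by
      intro c c'
      rw [map_mul, TrivSqZeroExt.snd_mul, hfst, hfst, op_smul_eq_smul]
    let Dlin : C →ₗ[A] L :=
      { toFun := fun c => (s' c).snd
        map_add' := hadd
        map_smul' := fun a c => by
          rw [RingHom.id_apply, Algebra.smul_def, hmul, IsScalarTower.algebraMap_apply A B C, hδB,
            Derivation.map_algebraMap, smul_zero, add_zero, ← IsScalarTower.algebraMap_apply A B C,
            algebraMap_smul] }
    refine ⟨Derivation.mk' Dlin (fun c c' => hmul c c'), ?_⟩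
    ext b
    exact hδB b
  · rintro ⟨D', rfl⟩
    let r : C →+* TrivSqZeroExt C L := Exal.Ext.derivationHom (A := A) (B := C) (C := C) D'
    have hr : ∀ c, r c = TrivSqZeroExt.inl c + TrivSqZeroExt.inr (D' c) := fun c => rfl
    refine ⟨{ toFun := fun c => r c
              map_one' := map_one r
              map_mul' := map_mul r
              map_zero' := map_zero r
              map_add' := map_add r
              commutes' := fun b => ?_ }, fun c => ?_⟩
    · change r (algebraMap B C b) = TrivSqZeroExt.inl (algebraMap B C b) +
        TrivSqZeroExt.inr ((D'.compAlgebraMap B) b)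
      rw [hr]
      rfl
    · change (r c).fst = c
      rw [hr]
      simp
end helpers

/-- Commutative rings, exactness at Der_A(B, L). For ring maps A → B → C and a C-module L, the
B-extension of C by L attached to an A-derivation D : B → L (middle ring C ⊕ L, made a B-algebra
through x ↦ (x, D x)) is trivial if and only if D is the composite of B → C with an A-derivation C →
L. -/
theorem result {A : Type u} {B C L : Type v} [CommRing A] [CommRing B] [CommRing C]
    [Algebra A B] [Algebra B C] [Algebra A C] [IsScalarTower A B C]
    [AddCommGroup L] [Module C L] [Module B L] [IsScalarTower B C L] [Module A L] [IsScalarTower A B L]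
    [IsScalarTower A C L]
    (D : Derivation A B L) :
    (Exal.Ext.ofDerivation (C := C) D).IsTrivial ↔
      ∃ D' : Derivation A C L, D'.compAlgebraMap B = D := by
  exact main D

end Groth.Agent.S5817
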