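import Groth.Statements.S5819
-- import your own Groth.Agent.* helpers here

set_option autoImplicit false
universe u v
open EGA41

namespace Groth.Agent.S5819

/-- Commutative rings, exactness at Exalcom_A(C, L) on underlying pointed sets. For ring maps A → B → C
and a C-module L, an A-extension Y of C by L pulls back to a trivial A-extension of B if and only if
Y is equivalent to some B-extension of C by L viewed as an A-extension. -/
theorem result {A : Type u} {B C L : Type v} [CommRing A]
    [CommRing B] [CommRing C] [Algebra A B] [Algebra B C] [Algebra A C] [IsScalarTower A B C]
    [AddCommGroup L] [Module C L] [Module B L] [IsScalarTower B C L]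
    (Y : Exal.Ext A C L) :
    (Y.pullback B).IsTrivial ↔
      ∃ X : Exal.Ext B C L, Nonempty ((X.restrictBase A).Equiv Y) := by
  constructor
  · rintro ⟨s, hs⟩
    -- the A-algebra map t : B → Y.E
    let t : B →ₐ[A] Y.E := (AlgHom.fst A Y.E B).comp ((Y.fiberProd B).val.comp s)
    have hsnd : ∀ b : B, (s b).1.2 = b := hs
    have ht : ∀ b : B, Y.proj (t b) = algebraMap B C b := by
      intro b
      have h1 : Y.proj (s b).1.1 = algebraMap B C (s b).1.2 :=
        (AlgHom.mem_equalizer _ _ _).mp (s b).2
      rw [hsnd] at h1
      exact h1
    let alg : Algebra B Y.E := t.toRingHom.toAlgebra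
    let X : Exal.Ext B C L :=
      { E := Y.E
        proj :=
          { toFun := fun x => Y.proj x
            map_one' := map_one Y.proj
            map_mul' := map_mul Y.proj
            map_zero' := map_zero Y.proj
            map_add' := map_add Y.proj
            commutes' := fun b => ht b }
        incl := Y.incl
        isExtension :=
          { proj_surjective := Y.isExtension.proj_surjective
            incl_injective := Y.isExtension.incl_injective
            exact := Y.isExtension.exact
            mul_incl := Y.isExtension.mul_incl } }
    refine ⟨X, ⟨?_⟩⟩
    exact
      { toAlgEquiv :=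
          { toFun := fun x => x
            invFun := fun x => x
            left_inv := fun _ => rfl
            right_inv := fun _ => rfl
            map_mul' := fun _ _ => rfl
            map_add' := fun _ _ => rfl
            commutes' := fun a => t.commutes a }
        proj_apply := fun x => by
          change Y.proj x = Y.proj x
          rfl
        apply_incl := fun z => by
          change Y.incl z = Y.incl z
          rfl }
  · rintro ⟨X, ⟨e⟩⟩
    -- B → X.E as an A-algebra map into the restricted carrier
    let q : B →ₐ[A] (X.restrictBase A).E :=
      { toFun := fun b => algebraMap B X.E b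
        map_one' := map_one (algebraMap B X.E)
        map_mul' := map_mul (algebraMap B X.E)
        map_zero' := map_zero (algebraMap B X.E)
        map_add' := map_add (algebraMap B X.E)
        commutes' := fun _ => rfl }
    let t : B →ₐ[A] Y.E := (e.toAlgEquiv : (X.restrictBase A).E →ₐ[A] Y.E).comp q
    have ht : ∀ b : B, Y.proj (t b) = algebraMap B C b := by
      intro b
      change Y.proj (e.toAlgEquiv (algebraMap B X.E b)) = _
      rw [e.proj_apply]
      exact X.proj.commutes b
    let sfun : B →ₐ[A] (Y.E × B) := AlgHom.prod t (AlgHom.id A B)
    have hmem : ∀ b, sfun b ∈ Y.fiberProd B := by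
      intro b
      change Y.proj (t b) = algebraMap B C b
      exact ht b
    refine ⟨AlgHom.codRestrict sfun (Y.fiberProd B) hmem, ?_⟩
    intro b
    rfl

end Groth.Agent.S5819
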