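import Groth.Statements.S11292
import Mathlib
import Groth.Agent.Lib.Helper17.ExalSimple
import Groth.Agent.S5817
import Groth.Agent.S5818
import Groth.Agent.S5819

set_option autoImplicit false
universe u
open Deform

namespace Groth.Agent.S11292

open Groth.Agent.Lib.helper17.ExalSimple

section general

variable {A : Type u} {B C L : Type u} [CommRing A] [CommRing B] [CommRing C]
  [Algebra A B] [Algebra B C] [Algebra A C] [IsScalarTower A B C]
  [AddCommGroup L] [Module C L] [Module B L] [IsScalarTower B C L]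

lemma isTrivial_of_equiv {A : Type u} {B L : Type u} [CommRing A] [CommRing B] [Algebra A B]
    [AddCommGroup L] [Module B L] {X Y : Exal.Ext A B L} (e : X.Equiv Y) (hY : Y.IsTrivial) :
    X.IsTrivial := by
  obtain ⟨s, hs⟩ := hY
  refine ⟨e.toAlgEquiv.symm.toAlgHom.comp s, fun b => ?_⟩
  change X.proj (e.toAlgEquiv.symm (s b)) = b
  rw [← e.proj_apply, AlgEquiv.apply_symm_apply, hs]

attribute [local instance] Exal.opModule Exal.isCentralScalar_opModule

/-- a trivial extension is equivalent to the standard one. -/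
lemma equiv_trivial_of_isTrivial {A : Type u} {B L : Type u} [CommRing A] [CommRing B] [Algebra A B]
    [AddCommGroup L] [Module B L] {X : Exal.Ext A B L} (hX : X.IsTrivial) :
    Nonempty ((Exal.Ext.trivial A B L).Equiv X) := by
  obtain ⟨s, hs⟩ := hX
  let f : TrivSqZeroExt B L → X.E := fun x => s (TrivSqZeroExt.fst x) + X.incl (TrivSqZeroExt.snd x)
  have hf : ∀ x, f x = s (TrivSqZeroExt.fst x) + X.incl (TrivSqZeroExt.snd x) := fun x => rfl
  have hone : f 1 = 1 := by
    rw [hf, TrivSqZeroExt.fst_one, TrivSqZeroExt.snd_one, map_one, map_zero, add_zero]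
  have hmul : ∀ x y, f (x * y) = f x * f y := by
    intro x y
    rw [hf, hf, hf, TrivSqZeroExt.fst_mul, TrivSqZeroExt.snd_mul, map_mul, map_add, mul_add, add_mul,
      add_mul, incl_mul_incl, X.isExtension.mul_incl, hs, mul_comm (X.incl _) (s _),
      X.isExtension.mul_incl, hs, op_smul_eq_smul]
    abel
  have hzero : f 0 = 0 := by
    rw [hf, TrivSqZeroExt.fst_zero, TrivSqZeroExt.snd_zero, map_zero, map_zero, add_zero]
  have hadd : ∀ x y, f (x + y) = f x + f y := by
    intro x y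
    rw [hf, hf, hf, TrivSqZeroExt.fst_add, TrivSqZeroExt.snd_add, map_add, map_add]
    abel
  have hcomm : ∀ a : A, f (TrivSqZeroExt.inl (algebraMap A B a)) = algebraMap A X.E a := by
    intro a
    rw [hf, TrivSqZeroExt.fst_inl, TrivSqZeroExt.snd_inl, map_zero, add_zero, AlgHom.commutes]
  let Φ : (Exal.Ext.trivial A B L).E →ₐ[A] X.E :=
    { toFun := f
      map_one' := hone
      map_mul' := hmul
      map_zero' := hzero
      map_add' := hadd
      commutes' := hcomm }
  refine ⟨equivOfHom _ X Φ (fun x => ?_) (fun z => ?_)⟩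
  · change X.proj (s (TrivSqZeroExt.fst x) + X.incl (TrivSqZeroExt.snd x)) = TrivSqZeroExt.fst x
    rw [map_add, hs, proj_incl, add_zero]
  · change f (TrivSqZeroExt.inr z) = X.incl z
    rw [hf, TrivSqZeroExt.fst_inr, TrivSqZeroExt.snd_inr, map_zero, zero_add]

lemma trivial_isTrivial {A : Type u} {B L : Type u} [CommRing A] [CommRing B] [Algebra A B]
    [AddCommGroup L] [Module B L] : (Exal.Ext.trivial A B L).IsTrivial := by
  refine ⟨{ toFun := fun b => (TrivSqZeroExt.inl b : TrivSqZeroExt B L)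
            map_one' := TrivSqZeroExt.inl_one _
            map_mul' := fun x y => TrivSqZeroExt.inl_mul _ x y
            map_zero' := TrivSqZeroExt.inl_zero _
            map_add' := fun x y => TrivSqZeroExt.inl_add _ x y
            commutes' := fun a => rfl }, fun b => rfl⟩

end general

section baer

variable {A : Type u} {B C L : Type u} [CommRing A] [CommRing B] [CommRing C]
  [Algebra A B] [Algebra B C] [Algebra A C] [IsScalarTower A B C]
  [AddCommGroup L] [Module C L] [Module B L] [IsScalarTower B C L]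

variable (Y Y' : Exal.Ext A C L)

/-- the fibre product of the two middle rings. -/
def DD : Subalgebra A (Y.E × Y'.E) :=
  AlgHom.equalizer (Y.proj.comp (AlgHom.fst A Y.E Y'.E)) (Y'.proj.comp (AlgHom.snd A Y.E Y'.E))

lemma mem_DD (p : Y.E × Y'.E) : p ∈ DD Y Y' ↔ Y.proj p.1 = Y'.proj p.2 := Iff.rfl

lemma diag_mem (z : L) : ((Y.incl z, Y'.incl z) : Y.E × Y'.E) ∈ DD Y Y' := by
  rw [mem_DD, proj_incl, proj_incl]

/-- the diagonal copy of `L`. -/
def Delta : Ideal (DD Y Y') where
  carrier := {d | ∃ z : L, (d : Y.E × Y'.E) = (Y.incl z, Y'.incl z)}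
  add_mem' := by
    rintro a b ⟨z, hz⟩ ⟨w, hw⟩
    refine ⟨z + w, ?_⟩
    change (a : Y.E × Y'.E) + (b : Y.E × Y'.E) = _
    rw [hz, hw, map_add, map_add]
    rfl
  zero_mem' := ⟨0, by rw [map_zero, map_zero]; rfl⟩
  smul_mem' := by
    rintro c a ⟨z, hz⟩
    refine ⟨Y.proj (c : Y.E × Y'.E).1 • z, ?_⟩
    change (c : Y.E × Y'.E) * (a : Y.E × Y'.E) = _
    rw [hz]
    apply Prod.ext
    · change (c : Y.E × Y'.E).1 * Y.incl z = _
      rw [Y.isExtension.mul_incl]
    · change (c : Y.E × Y'.E).2 * Y'.incl z = _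
      rw [Y'.isExtension.mul_incl, ← (mem_DD Y Y' _).1 c.2]

lemma mem_Delta (d : DD Y Y') : d ∈ Delta Y Y' ↔ ∃ z : L, (d : Y.E × Y'.E) = (Y.incl z, Y'.incl z) :=
  Iff.rfl

/-- the inclusion of `L` in the first factor. -/
def inclD : L →+ DD Y Y' where
  toFun z := ⟨(Y.incl z, 0), by rw [mem_DD, proj_incl, map_zero]⟩
  map_zero' := by
    apply Subtype.ext
    change ((Y.incl 0, 0) : Y.E × Y'.E) = (0, 0)
    rw [map_zero]
  map_add' z w := by
    apply Subtype.ext
    change ((Y.incl (z + w), 0) : Y.E × Y'.E) = (Y.incl z + Y.incl w, 0 + 0)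
    rw [map_add, add_zero]

lemma inclD_val (z : L) : ((inclD Y Y' z : DD Y Y') : Y.E × Y'.E) = (Y.incl z, 0) := rfl

/-- the middle ring of the Baer difference. -/
def ZE (Y Y' : Exal.Ext A C L) : Type u := DD Y Y' ⧸ Delta Y Y'

noncomputable instance : CommRing (ZE Y Y') := inferInstanceAs (CommRing (DD Y Y' ⧸ Delta Y Y'))

/-- the quotient map. -/
noncomputable def mkZ : DD Y Y' →+* ZE Y Y' := Ideal.Quotient.mk (Delta Y Y')

lemma mkZ_surjective : Function.Surjective (mkZ Y Y') := Ideal.Quotient.mk_surjective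

lemma mkZ_eq_zero_iff (d : DD Y Y') : mkZ Y Y' d = 0 ↔ d ∈ Delta Y Y' :=
  Ideal.Quotient.eq_zero_iff_mem

lemma mkZ_eq_iff (d d' : DD Y Y') : mkZ Y Y' d = mkZ Y Y' d' ↔ d - d' ∈ Delta Y Y' :=
  Ideal.Quotient.eq

/-- the projection of the quotient to `C` as a ring map. -/
noncomputable def projZr : ZE Y Y' →+* C :=
  Ideal.Quotient.lift (Delta Y Y')
    ((Y.proj : Y.E →+* C).comp ((RingHom.fst Y.E Y'.E).comp (DD Y Y').toSubring.subtype)) (by
      rintro d ⟨z, hz⟩
      change Y.proj (d : Y.E × Y'.E).1 = 0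
      rw [hz, proj_incl])

lemma projZr_mk (d : DD Y Y') :
    projZr Y Y' (mkZ Y Y' d) = Y.proj (d : Y.E × Y'.E).1 := rfl


/-- the map from the middle ring of the pullback. -/
noncomputable def piY (Y : Exal.Ext A C L) : (Y.pullback B).E →ₐ[A] Y.E :=
  (AlgHom.fst A Y.E B).comp (Y.fiberProd B).val

lemma proj_piY (p : (Y.pullback B).E) :
    Y.proj (piY Y p) = algebraMap B C ((Y.pullback B).proj p) := p.2

lemma piY_incl (z : L) : piY (B := B) Y ((Y.pullback B).incl z) = Y.incl z := rfl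

variable (ψ : (Y.pullback B).Equiv (Y'.pullback B))

lemma theta_mem (p : (Y.pullback B).E) :
    ((piY Y p, piY Y' (ψ.toAlgEquiv p)) : Y.E × Y'.E) ∈ DD Y Y' := by
  rw [mem_DD]
  change Y.proj (piY Y p) = Y'.proj (piY Y' (ψ.toAlgEquiv p))
  rw [proj_piY, proj_piY, ψ.proj_apply]

/-- the graph map `P → D`. -/
noncomputable def theta : (Y.pullback B).E →+* DD Y Y' :=
  RingHom.codRestrict
    (RingHom.prod (piY (B := B) Y).toRingHom
      ((piY (B := B) Y').toRingHom.comp ψ.toAlgEquiv.toAlgHom.toRingHom))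
    (DD Y Y') (fun p => theta_mem Y Y' ψ p)

lemma theta_val (p : (Y.pullback B).E) : ((theta Y Y' ψ p : DD Y Y') : Y.E × Y'.E) =
    (piY Y p, piY Y' (ψ.toAlgEquiv p)) := rfl

lemma thetaBar_ker (p : (Y.pullback B).E)
    (hp : p ∈ RingHom.ker ((Y.pullback B).proj : (Y.pullback B).E →+* B)) :
    ((mkZ Y Y').comp (theta Y Y' ψ)) p = 0 := by
  obtain ⟨z, rfl⟩ := ((Y.pullback B).isExtension.exact p).1 hp
  change mkZ Y Y' (theta Y Y' ψ ((Y.pullback B).incl z)) = 0
  rw [mkZ_eq_zero_iff, mem_Delta]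
  refine ⟨z, ?_⟩
  rw [theta_val, ψ.apply_incl, piY_incl, piY_incl]

/-- the `B`-algebra structure map of the Baer difference. -/
noncomputable def rho : B →+* ZE Y Y' :=
  (Ideal.Quotient.lift (RingHom.ker ((Y.pullback B).proj : (Y.pullback B).E →+* B))
    ((mkZ Y Y').comp (theta Y Y' ψ)) (thetaBar_ker Y Y' ψ)).comp
    (RingHom.quotientKerEquivOfSurjective
      (f := ((Y.pullback B).proj : (Y.pullback B).E →+* B))
      (Y.pullback B).isExtension.proj_surjective).symm.toRingHom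

lemma rho_proj (p : (Y.pullback B).E) :
    rho Y Y' ψ ((Y.pullback B).proj p) = mkZ Y Y' (theta Y Y' ψ p) := by
  have h1 : (RingHom.quotientKerEquivOfSurjective
      (f := ((Y.pullback B).proj : (Y.pullback B).E →+* B))
      (Y.pullback B).isExtension.proj_surjective).symm ((Y.pullback B).proj p) =
      Ideal.Quotient.mk _ p := by
    rw [RingEquiv.symm_apply_eq]
    rfl
  have h2 : rho Y Y' ψ ((Y.pullback B).proj p) =
      (Ideal.Quotient.lift (RingHom.ker ((Y.pullback B).proj : (Y.pullback B).E →+* B))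
        ((mkZ Y Y').comp (theta Y Y' ψ)) (thetaBar_ker Y Y' ψ))
      ((RingHom.quotientKerEquivOfSurjective
        (f := ((Y.pullback B).proj : (Y.pullback B).E →+* B))
        (Y.pullback B).isExtension.proj_surjective).symm ((Y.pullback B).proj p)) := rfl
  rw [h2, h1]
  rfl


include ψ in
theorem equiv_of_pullback_equiv' (hX : ∀ X : Exal.Ext B C L, X.IsTrivial) :
    Nonempty (Y.Equiv Y') := by
  letI : Algebra B (ZE Y Y') := (rho Y Y' ψ).toAlgebra
  let projZ : ZE Y Y' →ₐ[B] C :=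
    { (projZr Y Y') with
      commutes' := fun b => by
        obtain ⟨p, rfl⟩ := (Y.pullback B).isExtension.proj_surjective b
        change projZr Y Y' (rho Y Y' ψ _) = _
        rw [rho_proj, projZr_mk, theta_val]
        exact proj_piY Y p }
  have hprojZ : ∀ d : DD Y Y', projZ (mkZ Y Y' d) = Y.proj (d : Y.E × Y'.E).1 := fun d => rfl
  let inclZ : L →+ ZE Y Y' := (mkZ Y Y').toAddMonoidHom.comp (inclD Y Y')
  have hinclZ : ∀ z, inclZ z = mkZ Y Y' (inclD Y Y' z) := fun z => rfl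
  have hext : Exal.IsExtension projZ inclZ := by
    refine ⟨?_, ?_, ?_, ?_⟩
    · intro c
      obtain ⟨e, he⟩ := Y.isExtension.proj_surjective c
      obtain ⟨e', he'⟩ := Y'.isExtension.proj_surjective c
      exact ⟨mkZ Y Y' ⟨(e, e'), (mem_DD Y Y' _).2 (he.trans he'.symm)⟩, he⟩
    · intro z z' h
      rw [hinclZ, hinclZ, mkZ_eq_iff, mem_Delta] at h
      obtain ⟨w, hw⟩ := h
      have h1 : ((inclD Y Y' z - inclD Y Y' z' : DD Y Y') : Y.E × Y'.E) =
          (Y.incl z - Y.incl z', 0 - 0) := rfl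
      rw [h1] at hw
      have h2 : (0 : Y'.E) - 0 = Y'.incl w := congrArg Prod.snd hw
      have h3 : Y.incl z - Y.incl z' = Y.incl w := congrArg Prod.fst hw
      rw [sub_zero, eq_comm, incl_eq_zero_iff] at h2
      rw [h2, map_zero, sub_eq_zero] at h3
      exact Y.isExtension.incl_injective h3
    · intro x
      obtain ⟨d, rfl⟩ := mkZ_surjective Y Y' x
      constructor
      · intro hx
        rw [hprojZ] at hx
        obtain ⟨z, hz⟩ := (Y.isExtension.exact _).1 hx
        have hx' : Y'.proj (d : Y.E × Y'.E).2 = 0 := by rw [← (mem_DD Y Y' _).1 d.2, hx]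
        obtain ⟨z', hz'⟩ := (Y'.isExtension.exact _).1 hx'
        refine ⟨z - z', ?_⟩
        rw [hinclZ, eq_comm, mkZ_eq_iff, mem_Delta]
        refine ⟨z', ?_⟩
        change ((d : Y.E × Y'.E).1 - Y.incl (z - z'), (d : Y.E × Y'.E).2 - 0) = _
        rw [← hz, ← hz', map_sub, sub_sub_cancel, sub_zero]
      · rintro ⟨z, hz⟩
        rw [← hz, hinclZ, hprojZ, inclD_val, proj_incl]
    · intro x z
      obtain ⟨d, rfl⟩ := mkZ_surjective Y Y' x
      rw [hinclZ, hinclZ, hprojZ, ← map_mul]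
      congr 1
      apply Subtype.ext
      apply Prod.ext
      · change (d : Y.E × Y'.E).1 * Y.incl z = Y.incl _
        rw [Y.isExtension.mul_incl]
      · change (d : Y.E × Y'.E).2 * 0 = 0
        rw [mul_zero]
  obtain ⟨s, hs⟩ := hX ⟨ZE Y Y', projZ, inclZ, hext⟩
  have hs' : ∀ c : C, projZ (s c) = c := hs
  -- `s` is compatible with the `A`-structures
  have hsA : ∀ a : A, s (algebraMap A C a) = mkZ Y Y' (algebraMap A (DD Y Y') a) := by
    intro a
    rw [IsScalarTower.algebraMap_apply A B C, AlgHom.commutes]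
    change rho Y Y' ψ (algebraMap A B a) = _
    have h1 : algebraMap A B a = (Y.pullback B).proj (algebraMap A (Y.pullback B).E a) := by
      rw [AlgHom.commutes]
    rw [h1, rho_proj]
    congr 1
    apply Subtype.ext
    rw [theta_val, AlgEquiv.commutes, AlgHom.commutes, AlgHom.commutes]
    rfl
  let Rel : Y.E → Y'.E → Prop := fun e e' =>
    ∃ hd : ((e, e') : Y.E × Y'.E) ∈ DD Y Y', s (Y.proj e) = mkZ Y Y' ⟨(e, e'), hd⟩
  have hex : ∀ e, ∃ e', Rel e e' := by
    intro e
    obtain ⟨d₁, hd₁⟩ := mkZ_surjective Y Y' (s (Y.proj e))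
    have h1 : Y.proj (d₁ : Y.E × Y'.E).1 = Y.proj e := by
      rw [← hprojZ, hd₁, hs']
    have h2 : Y.proj (e - (d₁ : Y.E × Y'.E).1) = 0 := by rw [map_sub, h1, sub_self]
    obtain ⟨z, hz⟩ := (Y.isExtension.exact _).1 h2
    have hmem : ((e, (d₁ : Y.E × Y'.E).2 + Y'.incl z) : Y.E × Y'.E) ∈ DD Y Y' := by
      rw [mem_DD]
      change Y.proj e = Y'.proj ((d₁ : Y.E × Y'.E).2 + Y'.incl z)
      rw [map_add, proj_incl, add_zero, ← (mem_DD Y Y' _).1 d₁.2, h1]
    refine ⟨(d₁ : Y.E × Y'.E).2 + Y'.incl z, hmem, ?_⟩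
    rw [← hd₁, mkZ_eq_iff, mem_Delta]
    refine ⟨-z, ?_⟩
    change ((d₁ : Y.E × Y'.E).1 - e, (d₁ : Y.E × Y'.E).2 - ((d₁ : Y.E × Y'.E).2 + Y'.incl z)) = _
    rw [map_neg, map_neg, hz]
    apply Prod.ext
    · change (d₁ : Y.E × Y'.E).1 - e = -(e - (d₁ : Y.E × Y'.E).1)
      ring
    · change (d₁ : Y.E × Y'.E).2 - ((d₁ : Y.E × Y'.E).2 + Y'.incl z) = -Y'.incl z
      ring
  have huniq : ∀ e e'₁ e'₂, Rel e e'₁ → Rel e e'₂ → e'₁ = e'₂ := by
    rintro e e'₁ e'₂ ⟨hd₁, h1⟩ ⟨hd₂, h2⟩
    rw [h1, mkZ_eq_iff, mem_Delta] at h2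
    obtain ⟨w, hw⟩ := h2
    have h3 : e - e = Y.incl w := congrArg Prod.fst hw
    have h4 : e'₁ - e'₂ = Y'.incl w := congrArg Prod.snd hw
    rw [sub_self, eq_comm, incl_eq_zero_iff] at h3
    rw [h3, map_zero, sub_eq_zero] at h4
    exact h4
  have hone : Rel 1 1 := ⟨(DD Y Y').one_mem, by rw [map_one, map_one]; rfl⟩
  have hzero : Rel 0 0 := ⟨(DD Y Y').zero_mem, by rw [map_zero, map_zero]; rfl⟩
  have hadd : ∀ e₁ e₂ e'₁ e'₂, Rel e₁ e'₁ → Rel e₂ e'₂ → Rel (e₁ + e₂) (e'₁ + e'₂) := by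
    rintro e₁ e₂ e'₁ e'₂ ⟨hd₁, h1⟩ ⟨hd₂, h2⟩
    refine ⟨(DD Y Y').add_mem hd₁ hd₂, ?_⟩
    rw [map_add, map_add, h1, h2, ← map_add]
    rfl
  have hmul : ∀ e₁ e₂ e'₁ e'₂, Rel e₁ e'₁ → Rel e₂ e'₂ → Rel (e₁ * e₂) (e'₁ * e'₂) := by
    rintro e₁ e₂ e'₁ e'₂ ⟨hd₁, h1⟩ ⟨hd₂, h2⟩
    refine ⟨(DD Y Y').mul_mem hd₁ hd₂, ?_⟩
    rw [map_mul, map_mul, h1, h2, ← map_mul]
    rfl
  have halg : ∀ a : A, Rel (algebraMap A Y.E a) (algebraMap A Y'.E a) := by
    intro a
    refine ⟨(DD Y Y').algebraMap_mem a, ?_⟩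
    rw [AlgHom.commutes, hsA]
    rfl
  choose t ht using hex
  let Ψ : Y.E →ₐ[A] Y'.E :=
    { toFun := t
      map_one' := huniq 1 _ _ (ht 1) hone
      map_mul' := fun a b => huniq _ _ _ (ht _) (hmul _ _ _ _ (ht a) (ht b))
      map_zero' := huniq 0 _ _ (ht 0) hzero
      map_add' := fun a b => huniq _ _ _ (ht _) (hadd _ _ _ _ (ht a) (ht b))
      commutes' := fun a => huniq _ _ _ (ht _) (halg a) }
  refine ⟨equivOfHom Y Y' Ψ (fun e => ?_) (fun z => ?_)⟩
  · obtain ⟨hd, _⟩ := ht e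
    exact ((mem_DD Y Y' _).1 hd).symm
  · refine huniq _ _ _ (ht _) ⟨diag_mem Y Y' z, ?_⟩
    rw [proj_incl, map_zero, eq_comm, mkZ_eq_zero_iff, mem_Delta]
    exact ⟨z, rfl⟩

end baer

section restrict

lemma restrictBase_isTrivial {A' A : Type u} {B L : Type u} [CommRing A'] [CommRing A] [CommRing B]
    [Algebra A B] [Algebra A' A] [Algebra A' B] [IsScalarTower A' A B]
    [AddCommGroup L] [Module B L] {X : Exal.Ext A B L} (hX : X.IsTrivial) :
    (X.restrictBase A').IsTrivial := by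
  obtain ⟨s, hs⟩ := hX
  refine ⟨{ toFun := fun b => (s b : X.E)
            map_one' := map_one s
            map_mul' := map_mul s
            map_zero' := map_zero s
            map_add' := map_add s
            commutes' := fun a => ?_ }, fun b => hs b⟩
  change s (algebraMap A' B a) = algebraMap A X.E (algebraMap A' A a)
  rw [IsScalarTower.algebraMap_apply A' A B, AlgHom.commutes]

end restrict

/-- Let k be an algebraically closed field, Λ and R local Noetherian k-algebras with residue field k,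
and Λ → R a local k-algebra homomorphism. Then the relative obstruction space vanishes — every
Λ-extension of R by its residue field k is trivial — if and only if (a) the tangent map t_R → t_Λ is
surjective: every k-derivation of Λ into k extends along Λ → R to a k-derivation of R into k, and
(b) the obstruction map o(R) → o(Λ) given by inverse image is injective on classes: two k-extensions
of R by k whose inverse images over Λ are equivalent are equivalent (R is less obstructed than Λ).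
Here k is the residue field of R, a module over R, Λ and k through the structure maps. -/
theorem result
    {k : Type u} [Field k] [IsAlgClosed k]
    {Λ : Type u} [CommRing Λ] [Algebra k Λ] [IsLocalRing Λ] [IsNoetherianRing Λ]
    (hΛ : ∀ a : Λ, ∃ c : k, a - algebraMap k Λ c ∈ IsLocalRing.maximalIdeal Λ)
    {R : Type u} [CommRing R] [Algebra Λ R] [Algebra k R] [IsScalarTower k Λ R]
    [IsLocalRing R] [IsNoetherianRing R] [IsLocalHom (algebraMap Λ R)]
    (hR : ∀ r : R, ∃ c : k, r - algebraMap k R c ∈ IsLocalRing.maximalIdeal R) :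
    (∀ X : Exal.Ext Λ R (IsLocalRing.ResidueField R), X.IsTrivial) ↔
    ((∀ D : Derivation k Λ (IsLocalRing.ResidueField R),
        ∃ D' : Derivation k R (IsLocalRing.ResidueField R), ∀ a : Λ, D' (algebraMap Λ R a) = D a) ∧
     (∀ Y Y' : Exal.Ext k R (IsLocalRing.ResidueField R),
        Nonempty ((Y.pullback Λ).Equiv (Y'.pullback Λ)) → Nonempty (Y.Equiv Y'))) := by
  constructor
  · intro hX
    constructor
    · intro D
      obtain ⟨D', hD'⟩ := (Groth.Agent.S5817.result (A := k) (B := Λ) (C := R) D).1 (hX _)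
      refine ⟨D', fun a => ?_⟩
      rw [← hD']
      rfl
    · rintro Y Y' ⟨ψ⟩
      exact equiv_of_pullback_equiv' Y Y' ψ hX
  · rintro ⟨ha, hb⟩ X
    have h1 : ((X.restrictBase k).pullback Λ).IsTrivial :=
      (Groth.Agent.S5819.result (A := k) (B := Λ) (C := R) (X.restrictBase k)).2
        ⟨X, ⟨Exal.Ext.Equiv.refl _⟩⟩
    have h0 : ((Exal.Ext.trivial Λ R (IsLocalRing.ResidueField R)).restrictBase k).IsTrivial :=
      restrictBase_isTrivial trivial_isTrivial
    obtain ⟨e0⟩ := equiv_trivial_of_isTrivial h0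
    have h2 : ((Exal.Ext.trivial k R (IsLocalRing.ResidueField R)).pullback Λ).IsTrivial :=
      (Groth.Agent.S5819.result (A := k) (B := Λ) (C := R) _).2 ⟨_, ⟨e0.symm⟩⟩
    obtain ⟨e1⟩ := equiv_trivial_of_isTrivial h1
    obtain ⟨e2⟩ := equiv_trivial_of_isTrivial h2
    obtain ⟨e3⟩ := hb _ _ ⟨e1.symm.trans e2⟩
    have h3 : X.IsTrivialOver k := isTrivial_of_equiv e3 trivial_isTrivial
    obtain ⟨D, ⟨e4⟩⟩ := (Groth.Agent.S5818.result (A := k) X).1 h3
    obtain ⟨D', hD'⟩ := ha D
    have h4 : (Exal.Ext.ofDerivation (C := R) D).IsTrivial :=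
      (Groth.Agent.S5817.result (A := k) (B := Λ) (C := R) D).2 ⟨D', Derivation.ext (fun a => hD' a)⟩
    exact isTrivial_of_equiv e4 h4

end Groth.Agent.S11292
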