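import Groth.Statements.S11294
import Mathlib
-- import your own Groth.Agent.* helpers here

set_option autoImplicit false
universe u
open Deform

namespace Groth.Agent.S11294


open TrivSqZeroExt

theorem decomp {P : Type u} [CommRing P] (x : DualNumber P) :
    (inl x.fst + inr x.snd : DualNumber P) = x :=
  TrivSqZeroExt.inl_fst_add_inr_snd_eq x

theorem eps_mul {P : Type u} [CommRing P] (x : DualNumber P) :
    (DualNumber.eps * x : DualNumber P) = inr x.fst := by
  ext
  · simp [DualNumber.fst_eps]
  · simp [DualNumber.fst_eps, DualNumber.snd_eps]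

/-- the ideal attached to `φ`. -/
def idealOf {P : Type u} [CommRing P] (J : Ideal P) (φ : J →ₗ[P] (P ⧸ J)) :
    Ideal (DualNumber P) where
  carrier := {x | ∃ h : x.fst ∈ J, Ideal.Quotient.mk J x.snd = φ ⟨x.fst, h⟩}
  zero_mem' := by
    refine ⟨by simp, ?_⟩
    have : (⟨(0 : DualNumber P).fst, by simp⟩ : J) = 0 := by
      ext; simp
    rw [this]; simp
  add_mem' := by
    rintro x y ⟨hx, hx'⟩ ⟨hy, hy'⟩
    refine ⟨by simpa using J.add_mem hx hy, ?_⟩
    have : (⟨(x + y).fst, by simpa using J.add_mem hx hy⟩ : J) = ⟨x.fst, hx⟩ + ⟨y.fst, hy⟩ := by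
      ext; simp
    rw [this, map_add, ← hx', ← hy']; simp
  smul_mem' := by
    rintro c x ⟨hx, hx'⟩
    have h1 : (c • x).fst ∈ J := by
      simpa using J.mul_mem_left c.fst hx
    refine ⟨h1, ?_⟩
    have : (⟨(c • x).fst, h1⟩ : J) = c.fst • ⟨x.fst, hx⟩ := by
      ext; simp
    rw [this, map_smul, ← hx']
    have h2 : Ideal.Quotient.mk J x.fst = 0 := Ideal.Quotient.eq_zero_iff_mem.mpr hx
    simp [TrivSqZeroExt.snd_mul, h2, Algebra.smul_def]

theorem mem_idealOf {P : Type u} [CommRing P] (J : Ideal P) (φ : J →ₗ[P] (P ⧸ J))
    (x : DualNumber P) :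
    x ∈ idealOf J φ ↔ ∃ h : x.fst ∈ J, Ideal.Quotient.mk J x.snd = φ ⟨x.fst, h⟩ := Iff.rfl

open TrivSqZeroExt in
/-- Let P be a commutative ring, J an ideal, and P[ε] the ring of dual numbers over P. First-order
embedded deformations of Spec(P/J) in Spec P, namely ideals J' of P[ε] lifting J (the image of J'
under ε ↦ 0 is J) with P[ε]/J' flat over the dual numbers — flatness being replaced by the condition
that every element of P[ε]/J' annihilated by ε is a multiple of ε (equivalent to flatness over k[ε]
when P is an algebra over a field k) — are in canonical bijection with Hom_P(J, P/J) =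
Hom_{P/J}(J/J^2, P/J), the normal module: to φ corresponds the ideal of all a + εb with a in J and b
reducing to φ(a) modulo J. The first clause says this rule defines exactly one ideal for each φ; the
second says an ideal J' is a flat lift of J precisely when its membership is given by this rule for
some φ. (The published statement is the global one, identifying first-order deformations of a closed
subscheme X of an algebraic scheme Y with H^0(X, N_{X/Y}); this row is the affine computation in its
proof, valid for every commutative ring P.) -/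
theorem result (P : Type u) [CommRing P] (J : Ideal P) :
    (∀ φ : J →ₗ[P] (P ⧸ J), ∃! J' : Ideal (DualNumber P),
        ∀ a b : P, (inl a + inr b : DualNumber P) ∈ J' ↔ ∃ h : a ∈ J, Ideal.Quotient.mk J b = φ ⟨a, h⟩) ∧
    (∀ J' : Ideal (DualNumber P),
      (J'.map (TrivSqZeroExt.fstHom P P P) = J ∧
        ∀ m : DualNumber P ⧸ J', Ideal.Quotient.mk J' DualNumber.eps * m = 0 →
          ∃ m' : DualNumber P ⧸ J', m = Ideal.Quotient.mk J' DualNumber.eps * m') ↔
      ∃ φ : J →ₗ[P] (P ⧸ J), ∀ a b : P,
        (inl a + inr b : DualNumber P) ∈ J' ↔ ∃ h : a ∈ J, Ideal.Quotient.mk J b = φ ⟨a, h⟩) := by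
  refine ⟨?_, ?_⟩
  · intro φ
    refine ⟨idealOf J φ, ?_, ?_⟩
    · intro a b
      rw [mem_idealOf]
      simp
    · intro J'' hJ''
      ext x
      rw [← decomp x, hJ'', mem_idealOf]
      simp
  · intro J'
    constructor
    · rintro ⟨hmap, hflat⟩
      -- F1
      have F1 : ∀ x : DualNumber P, x ∈ J' → x.fst ∈ J := by
        intro x hx
        rw [← hmap]
        exact Ideal.mem_map_of_mem (TrivSqZeroExt.fstHom P P P) hx
      have hsurj : Function.Surjective (TrivSqZeroExt.fstHom P P P) := fun a => ⟨inl a, by simp⟩
      have F2 : ∀ a ∈ J, ∃ b : P, (inl a + inr b : DualNumber P) ∈ J' := by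
        intro a ha
        rw [← hmap, Ideal.mem_map_iff_of_surjective _ hsurj] at ha
        obtain ⟨x, hx, rfl⟩ := ha
        refine ⟨x.snd, ?_⟩
        have : (inl ((TrivSqZeroExt.fstHom P P P) x) + inr x.snd : DualNumber P) = x := decomp x
        rw [this]; exact hx
      have F3 : ∀ j ∈ J, (inr j : DualNumber P) ∈ J' := by
        intro j hj
        rw [← hmap, Ideal.mem_map_iff_of_surjective _ hsurj] at hj
        obtain ⟨x, hx, rfl⟩ := hj
        have := J'.mul_mem_left DualNumber.eps hx
        rw [eps_mul] at this
        exact this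
      have F4 : ∀ c : P, (inr c : DualNumber P) ∈ J' → c ∈ J := by
        intro c hc
        have h1 : Ideal.Quotient.mk J' DualNumber.eps * Ideal.Quotient.mk J' (inl c) = 0 := by
          rw [← map_mul, eps_mul, Ideal.Quotient.eq_zero_iff_mem]
          simpa using hc
        obtain ⟨m', hm'⟩ := hflat _ h1
        obtain ⟨y, rfl⟩ := Ideal.Quotient.mk_surjective m'
        rw [← map_mul, Ideal.Quotient.eq] at hm'
        have := F1 _ hm'
        rw [eps_mul] at this
        simpa using this
      have hwd : ∀ a b b' : P, (inl a + inr b : DualNumber P) ∈ J' →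
          (inl a + inr b' : DualNumber P) ∈ J' → Ideal.Quotient.mk J b = Ideal.Quotient.mk J b' := by
        intro a b b' h1 h2
        rw [Ideal.Quotient.eq]
        apply F4
        have := J'.sub_mem h1 h2
        have e : (inl a + inr b - (inl a + inr b') : DualNumber P) = inr (b - b') := by
          ext <;> simp
        rwa [e] at this
      choose! g hg using F2
      let φ : J →ₗ[P] (P ⧸ J) :=
        { toFun := fun a => Ideal.Quotient.mk J (g a.1)
          map_add' := by
            intro a1 a2
            rw [← map_add]
            apply hwd (a1.1 + a2.1)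
            · exact hg _ (J.add_mem a1.2 a2.2)
            · have := J'.add_mem (hg _ a1.2) (hg _ a2.2)
              have e : (inl (a1 : P) + inr (g a1) + (inl (a2 : P) + inr (g a2)) : DualNumber P)
                  = inl ((a1 : P) + a2) + inr (g a1 + g a2) := by
                ext <;> simp
              rwa [e] at this
          map_smul' := by
            intro c a
            simp only [RingHom.id_apply]
            rw [Algebra.smul_def, Ideal.Quotient.algebraMap_eq, ← map_mul]
            apply hwd (c * a.1)
            · exact hg _ (J.mul_mem_left c a.2)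
            · have := J'.mul_mem_left (inl c) (hg _ a.2)
              have e : ((inl c : DualNumber P) * (inl (a : P) + inr (g a)) : DualNumber P)
                  = inl (c * (a : P)) + inr (c * g a) := by
                ext <;> simp
              rwa [e] at this }
      refine ⟨φ, ?_⟩
      intro a b
      constructor
      · intro h
        have ha : a ∈ J := by simpa using F1 _ h
        exact ⟨ha, hwd a b (g a) h (hg a ha)⟩
      · rintro ⟨ha, hb⟩
        have hb' : Ideal.Quotient.mk J b = Ideal.Quotient.mk J (g a) := hb
        rw [Ideal.Quotient.eq] at hb'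
        have := J'.add_mem (hg a ha) (F3 _ hb')
        have e : (inl a + inr (g a) + inr (b - g a) : DualNumber P) = inl a + inr b := by
          ext <;> simp
        rwa [e] at this
    · rintro ⟨φ, hφ⟩
      have hsurj : Function.Surjective (TrivSqZeroExt.fstHom P P P) := fun a => ⟨inl a, by simp⟩
      have hmem : ∀ x : DualNumber P, x ∈ J' ↔
          ∃ h : x.fst ∈ J, Ideal.Quotient.mk J x.snd = φ ⟨x.fst, h⟩ := by
        intro x
        rw [← hφ, decomp]
      refine ⟨?_, ?_⟩
      · ext a
        rw [Ideal.mem_map_iff_of_surjective _ hsurj]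
        constructor
        · rintro ⟨x, hx, rfl⟩
          exact ((hmem x).mp hx).1
        · intro ha
          obtain ⟨b, hb⟩ := Ideal.Quotient.mk_surjective (φ ⟨a, ha⟩)
          exact ⟨inl a + inr b, (hφ a b).mpr ⟨ha, hb⟩, by simp⟩
      · intro m hm
        obtain ⟨x, rfl⟩ := Ideal.Quotient.mk_surjective m
        rw [← map_mul, eps_mul, Ideal.Quotient.eq_zero_iff_mem, hmem] at hm
        obtain ⟨h0, h1⟩ := hm
        have hz : (⟨(inr x.fst : DualNumber P).fst, h0⟩ : J) = 0 := by
          ext; simp
        rw [hz, map_zero] at h1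
        have ha : x.fst ∈ J := by
          simpa [Ideal.Quotient.eq_zero_iff_mem] using h1
        obtain ⟨b', hb'⟩ := Ideal.Quotient.mk_surjective (φ ⟨x.fst, ha⟩)
        refine ⟨Ideal.Quotient.mk J' (inl (x.snd - b')), ?_⟩
        rw [← map_mul, eps_mul, Ideal.Quotient.eq, hmem]
        refine ⟨by simpa using ha, ?_⟩
        have hz2 : (⟨(x - inr (inl (x.snd - b') : DualNumber P).fst : DualNumber P).fst,
            by simpa using ha⟩ : J) = ⟨x.fst, ha⟩ := by
          ext; simp
        rw [hz2, ← hb']
        simp

end Groth.Agent.S11294
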