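import Groth.Statements.S11298
import Mathlib
-- import your own Groth.Agent.* helpers here

set_option autoImplicit false
universe u v
open LocCoh

namespace Groth.Agent.S11298

open Pointwise in
lemma regular_dual {B : Type u} [CommRing B] (M : Type v) [AddCommGroup M] [Module B M]
    (x y : B) (hx : IsSMulRegular B x) (hy : IsSMulRegular (QuotSMulTop x B) y) :
    RingTheory.Sequence.IsWeaklyRegular (M →ₗ[B] B) [x, y] := by
  rw [RingTheory.Sequence.isWeaklyRegular_cons_iff, RingTheory.Sequence.isWeaklyRegular_cons_iff]
  have hx' : IsSMulRegular (M →ₗ[B] B) x := by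
    intro φ ψ h
    ext m
    apply hx
    have := congrArg (fun f : M →ₗ[B] B => f m) h
    simpa using this
  refine ⟨hx', ?_, RingTheory.Sequence.IsWeaklyRegular.nil _ _⟩
  rw [isSMulRegular_quotient_iff_mem_of_smul_mem] at hy ⊢
  intro φ hφ
  rw [Submodule.mem_smul_pointwise_iff_exists] at hφ ⊢
  obtain ⟨ψ, -, hψ⟩ := hφ
  -- for each m, φ m ∈ x • ⊤
  have key : ∀ m : M, ∃ c : B, x • c = φ m := by
    intro m
    have h1 : y • φ m ∈ x • (⊤ : Submodule B B) := by
      rw [Submodule.mem_smul_pointwise_iff_exists]
      refine ⟨ψ m, trivial, ?_⟩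
      have := congrArg (fun f : M →ₗ[B] B => f m) hψ
      simpa using this
    have h2 := hy (φ m) h1
    rw [Submodule.mem_smul_pointwise_iff_exists] at h2
    obtain ⟨c, -, hc⟩ := h2
    exact ⟨c, hc⟩
  choose χ hχ using key
  refine ⟨{ toFun := χ, map_add' := ?_, map_smul' := ?_ }, trivial, ?_⟩
  · intro m m'
    apply hx
    show x • χ (m + m') = x • (χ m + χ m')
    rw [smul_add, hχ, hχ, hχ, map_add]
  · intro c m
    apply hx
    show x • χ (c • m) = x • (c • χ m)
    rw [hχ, smul_comm, hχ, map_smul]
  · ext m
    exact hχ m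


/-- Let X = Spec B be an affine Noetherian scheme, Z = V(I) a closed subscheme and G a coherent sheaf,
i.e. a finitely generated B-module M, with dual G^v = Hom_B(M, B). If depth_Z(O_X) ≥ 2 then
depth_Z(G^v) ≥ 2. Here the depth along I of a module N is the supremum of the lengths of N-regular
sequences contained in I (and is infinite when I N = N). (The published statement adds that sections
of the dual over X and over X minus Z agree; this row omits that clause.) -/
theorem result (B : Type u) [CommRing B] [IsNoetherianRing B]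
    (I : Ideal B) (M : Type v) [AddCommGroup M] [Module B M] [Module.Finite B M]
    (h : 2 ≤ LocCoh.idealDepth I B) : 2 ≤ LocCoh.idealDepth I (M →ₗ[B] B) := by
  classical
  unfold LocCoh.idealDepth at h ⊢
  by_cases hI : I • (⊤ : Submodule B B) = ⊤
  · have hItop : I = ⊤ := by simpa using hI
    have : I • (⊤ : Submodule B (M →ₗ[B] B)) = ⊤ := by rw [hItop, Submodule.top_smul]
    rw [if_pos this]
    exact le_top
  · rw [if_neg hI] at h
    split_ifs with hI'
    · exact le_top
    · -- extract a sequence of length ≥ 2
      obtain ⟨rs, hrs, hlen⟩ : ∃ rs : List B,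
          (RingTheory.Sequence.IsWeaklyRegular B rs ∧ ∀ r ∈ rs, r ∈ I) ∧ 2 ≤ rs.length := by
        by_contra hcon
        push Not at hcon
        have : (⨆ (rs : List B) (_ : RingTheory.Sequence.IsWeaklyRegular B rs ∧ ∀ r ∈ rs, r ∈ I),
            (rs.length : ℕ∞)) ≤ 1 := by
          refine iSup₂_le fun rs hrs => ?_
          have := hcon rs hrs
          exact_mod_cast Nat.lt_succ_iff.mp this
        have h2 : (2 : ℕ∞) ≤ 1 := le_trans h this
        exact absurd h2 (by norm_num)
      match rs, hrs, hlen with
      | x :: y :: rest, ⟨hreg, hmem⟩, _ =>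
        rw [RingTheory.Sequence.isWeaklyRegular_cons_iff,
          RingTheory.Sequence.isWeaklyRegular_cons_iff] at hreg
        have hxy := regular_dual M x y hreg.1 hreg.2.1
        refine le_trans ?_ (le_iSup₂ (f := fun (rs : List B)
          (_ : RingTheory.Sequence.IsWeaklyRegular (M →ₗ[B] B) rs ∧ ∀ r ∈ rs, r ∈ I) =>
            (rs.length : ℕ∞)) [x, y] ⟨hxy, ?_⟩)
        · simp
        · intro r hr
          simp only [List.mem_cons, List.not_mem_nil, or_false] at hr
          rcases hr with rfl | rfl
          · exact hmem _ (by simp)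
          · exact hmem _ (by simp)

end Groth.Agent.S11298
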