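import Groth.Statements.S11299
import Mathlib.Algebra.Module.Projective
import Mathlib.LinearAlgebra.Quotient.Basic
-- import your own Groth.Agent.* helpers here

set_option autoImplicit false
universe u
open CAlg

namespace Groth.Agent.S11299

section

variable {P : Type u} [CommRing P] {N : Type u} [AddCommGroup N] [Module P N]
variable {F : Type u} [AddCommGroup F] [Module P F] {F' : Type u} [AddCommGroup F'] [Module P F']
variable {F'' : Type u} [AddCommGroup F''] [Module P F'']

/-- the trivial relations -/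
abbrev trivS (j : F →ₗ[P] P) : Submodule P F := Submodule.span P {y : F | ∃ u v : F, y = j u • v - j v • u}

/-- restrictions to the relation module of maps on `F` -/
abbrev Bq (N : Type u) [AddCommGroup N] [Module P N] (j : F →ₗ[P] P) :
    Submodule P (LinearMap.ker j →ₗ[P] N) :=
  LinearMap.range (LinearMap.lcomp P N (LinearMap.ker j).subtype)

/-- maps on the relation module killing the trivial relations -/
abbrev Zq (N : Type u) [AddCommGroup N] [Module P N] (j : F →ₗ[P] P) :
    Submodule P (LinearMap.ker j →ₗ[P] N) :=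
  LinearMap.ker (LinearMap.lcomp P N (Submodule.comap (LinearMap.ker j).subtype (trivS j)).subtype)

/-- the module `T²` of a presentation of an ideal -/
abbrev T2 (N : Type u) [AddCommGroup N] [Module P N] (j : F →ₗ[P] P) : Submodule P ((LinearMap.ker j →ₗ[P] N) ⧸ Bq N j) :=
  Submodule.map (Bq N j).mkQ (Zq N j)

variable (j : F →ₗ[P] P) (j' : F' →ₗ[P] P) (j'' : F'' →ₗ[P] P)

/-- restriction of a morphism to the relation modules -/
def resQ (g : F →ₗ[P] F') (hg : j' ∘ₗ g = j) : LinearMap.ker j →ₗ[P] LinearMap.ker j' :=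
  (g.comp (LinearMap.ker j).subtype).codRestrict (LinearMap.ker j') (fun q => by
    rw [LinearMap.mem_ker, LinearMap.comp_apply, ← LinearMap.comp_apply j' g, hg]
    exact q.2)

@[simp] lemma resQ_coe (g : F →ₗ[P] F') (hg : j' ∘ₗ g = j) (q : LinearMap.ker j) :
    (resQ j j' g hg q : F') = g q := rfl

lemma map_trivS (g : F →ₗ[P] F') (hg : j' ∘ₗ g = j) {y : F} (hy : y ∈ trivS j) : g y ∈ trivS j' := by
  induction hy using Submodule.span_induction with
  | mem x hx =>
    obtain ⟨a, b, rfl⟩ := hx
    refine Submodule.subset_span ⟨g a, g b, ?_⟩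
    rw [map_sub, map_smul, map_smul, ← hg]
    rfl
  | zero => simp
  | add x y _ _ hx hy => rw [map_add]; exact Submodule.add_mem _ hx hy
  | smul r x _ hx => rw [map_smul]; exact Submodule.smul_mem _ _ hx

/-- pull-back on the quotient `Hom(Q', N)/B' → Hom(Q, N)/B` -/
def pullQ (g : F →ₗ[P] F') (hg : j' ∘ₗ g = j) :
    ((LinearMap.ker j' →ₗ[P] N) ⧸ Bq N j') →ₗ[P] ((LinearMap.ker j →ₗ[P] N) ⧸ Bq N j) :=
  Submodule.mapQ _ _ (LinearMap.lcomp P N (resQ j j' g hg)) (by
    rintro _ ⟨ψ, rfl⟩
    refine ⟨ψ ∘ₗ g, ?_⟩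
    ext q
    rfl)

lemma pullQ_mk (g : F →ₗ[P] F') (hg : j' ∘ₗ g = j) (φ : LinearMap.ker j' →ₗ[P] N) :
    pullQ j j' g hg (Submodule.Quotient.mk φ) = Submodule.Quotient.mk (φ ∘ₗ resQ j j' g hg) := rfl

lemma pullQ_mem (g : F →ₗ[P] F') (hg : j' ∘ₗ g = j) (x) (hx : x ∈ T2 N j') :
    pullQ j j' g hg x ∈ T2 N j := by
  obtain ⟨φ, hφ, rfl⟩ := hx
  refine ⟨φ ∘ₗ resQ j j' g hg, ?_, rfl⟩
  rw [SetLike.mem_coe, LinearMap.mem_ker] at hφ ⊢
  ext ⟨q, hq⟩
  have hq' : (q : F) ∈ trivS j := hq
  have h1 : (resQ j j' g hg q : F') ∈ trivS j' := map_trivS j j' g hg hq'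
  exact LinearMap.congr_fun hφ ⟨resQ j j' g hg q, h1⟩

/-- an endomorphism over the identity acts trivially -/
lemma pullQ_self (h : F →ₗ[P] F) (hh : j ∘ₗ h = j) (x : (LinearMap.ker j →ₗ[P] N) ⧸ Bq N j) :
    pullQ j j h hh x = x := by
  obtain ⟨φ, rfl⟩ := Submodule.Quotient.mk_surjective _ x
  rw [pullQ_mk, ← sub_eq_zero, ← Submodule.Quotient.mk_sub, Submodule.Quotient.mk_eq_zero]
  have hk : ∀ f : F, h f - f ∈ LinearMap.ker j := by
    intro f
    rw [LinearMap.mem_ker, map_sub, ← LinearMap.comp_apply, hh, sub_self]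
  refine ⟨φ ∘ₗ ((h - LinearMap.id).codRestrict (LinearMap.ker j) hk), ?_⟩
  ext q
  change φ ⟨h q - q, _⟩ = φ (resQ j j h hh q) - φ q
  rw [← map_sub]
  rfl

lemma pullQ_comp (g : F →ₗ[P] F') (hg : j' ∘ₗ g = j) (g' : F' →ₗ[P] F'') (hg' : j'' ∘ₗ g' = j') (x) :
    pullQ (N := N) j j' g hg (pullQ j' j'' g' hg' x) =
      pullQ j j'' (g' ∘ₗ g) (by rw [← LinearMap.comp_assoc, hg', hg]) x := by
  obtain ⟨φ, rfl⟩ := Submodule.Quotient.mk_surjective _ x
  rfl

end


/-- The second cotangent module does not depend on the presentation: let P be a commutative ring, J an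
ideal and B = P/J. For a presentation of J, i.e. a finitely generated free P-module F with a
P-linear map j : F → P with image J, let R = ker j be the relation module and R^tr ⊆ R the span of
the trivial relations j(u) • v - j(v) • u; the module T^2 of the presentation is the quotient of
Hom_B(R/R^tr, B), realised as the P-linear maps R → P/J vanishing on R^tr, by the restrictions to R
of the P-linear maps F → P/J (here: the image of that submodule in the quotient of Hom_P(R, P/J) by
the restrictions). Then for two presentations (F, j) and (F', j') of the same ideal J the two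
modules T^2 are isomorphic as P-modules (existence of an isomorphism; the comparison maps depend on
expressing one system of generators through the other). (The published statement takes B essentially
of finite type over a field and P smooth; this row allows any commutative ring P and ideal J.) -/
theorem result (P : Type u) [CommRing P] (J : Ideal P)
    (F : Type u) [AddCommGroup F] [Module P F] [Module.Free P F] [Module.Finite P F]
    (F' : Type u) [AddCommGroup F'] [Module P F'] [Module.Free P F'] [Module.Finite P F']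
    (j : F →ₗ[P] P) (j' : F' →ₗ[P] P) (hj : LinearMap.range j = J) (hj' : LinearMap.range j' = J) :
    Nonempty (↥(Submodule.map
          (LinearMap.range (LinearMap.lcomp P (P ⧸ J) (LinearMap.ker j).subtype)).mkQ
          (LinearMap.ker (LinearMap.lcomp P (P ⧸ J)
            (Submodule.comap (LinearMap.ker j).subtype
              (Submodule.span P {y : F | ∃ u v : F, y = j u • v - j v • u})).subtype))) ≃ₗ[P]
      ↥(Submodule.map
          (LinearMap.range (LinearMap.lcomp P (P ⧸ J) (LinearMap.ker j').subtype)).mkQ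
          (LinearMap.ker (LinearMap.lcomp P (P ⧸ J)
            (Submodule.comap (LinearMap.ker j').subtype
              (Submodule.span P {y : F' | ∃ u v : F', y = j' u • v - j' v • u})).subtype)))) := by
  -- lifts in both directions
  have hlift : ∀ {G G' : Type u} [AddCommGroup G] [Module P G] [Module.Free P G] [AddCommGroup G'] [Module P G']
      (i : G →ₗ[P] P) (i' : G' →ₗ[P] P), LinearMap.range i = J → LinearMap.range i' = J →
      ∃ g : G →ₗ[P] G', i' ∘ₗ g = i := by
    intro G G' _ _ _ _ _ i i' hi hi'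
    let iJ : G →ₗ[P] J := i.codRestrict J (fun x => by rw [← hi]; exact LinearMap.mem_range_self _ x)
    let iJ' : G' →ₗ[P] J := i'.codRestrict J (fun x => by rw [← hi']; exact LinearMap.mem_range_self _ x)
    have hsurj : Function.Surjective iJ' := by
      rintro ⟨y, hy⟩
      rw [← hi'] at hy
      obtain ⟨x, rfl⟩ := hy
      exact ⟨x, rfl⟩
    obtain ⟨g, hg⟩ := Module.projective_lifting_property iJ' iJ hsurj
    refine ⟨g, ?_⟩
    ext x
    exact congrArg Subtype.val (LinearMap.congr_fun hg x)
  obtain ⟨g, hg⟩ := hlift j j' hj hj'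
  obtain ⟨g', hg'⟩ := hlift j' j hj' hj
  refine ⟨LinearEquiv.ofLinearMap
    ((pullQ (N := P ⧸ J) j' j g' hg').restrict (pullQ_mem j' j g' hg'))
    ((pullQ (N := P ⧸ J) j j' g hg).restrict (pullQ_mem j j' g hg)) ?_ ?_⟩
  · ext ⟨x, hx⟩
    change pullQ j' j g' hg' (pullQ j j' g hg x) = x
    rw [pullQ_comp, pullQ_self]
  · ext ⟨x, hx⟩
    change pullQ j j' g hg (pullQ j' j g' hg' x) = x
    rw [pullQ_comp, pullQ_self]

end Groth.Agent.S11299
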