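import Groth.Statements.S11302
import Groth.Agent.Lib.Helper11.QuasiReg
-- import your own Groth.Agent.* helpers here

set_option autoImplicit false
universe u
open Deform

namespace Groth.Agent.S11302
open Groth.Agent.Lib.helper11.QuasiReg

section homJ
variable {R : Type u} [CommRing R] {n : ℕ} (f : Fin n → R)

/-- the generators as elements of the ideal -/
def gen (i : Fin n) : ↥(Ideal.span (Set.range f)) :=
  ⟨f i, Ideal.subset_span (Set.mem_range_self i)⟩

/-- evaluation at the generators -/
def evGen : (↥(Ideal.span (Set.range f)) →ₗ[R] (R ⧸ Ideal.span (Set.range f))) →ₗ[R]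
    (Fin n → R ⧸ Ideal.span (Set.range f)) where
  toFun φ := fun i => φ (gen f i)
  map_add' _ _ := rfl
  map_smul' _ _ := rfl

theorem evGen_apply (φ : ↥(Ideal.span (Set.range f)) →ₗ[R] (R ⧸ Ideal.span (Set.range f)))
    (i : Fin n) : evGen f φ i = φ (gen f i) := rfl

theorem exists_eq_sum (x : ↥(Ideal.span (Set.range f))) :
    ∃ c : Fin n → R, x = ∑ i, c i • gen f i := by
  have hx : (x : R) ∈ LinearMap.range (Fintype.linearCombination R f) := by
    rw [Fintype.range_linearCombination]
    exact x.2
  obtain ⟨c, hc⟩ := hx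
  refine ⟨c, Subtype.ext ?_⟩
  rw [← hc, Fintype.linearCombination_apply, Submodule.coe_sum]
  rfl

theorem evGen_injective : Function.Injective (evGen f) := by
  intro φ ψ h
  apply LinearMap.ext
  intro x
  obtain ⟨c, rfl⟩ := exists_eq_sum f x
  rw [map_sum, map_sum]
  apply Finset.sum_congr rfl
  intro i _
  rw [map_smul, map_smul]
  have := congrFun h i
  rw [evGen_apply, evGen_apply] at this
  rw [this]

theorem evGen_surjective (hf : QR f) : Function.Surjective (evGen f) := by
  classical
  intro b
  let ρ : (Fin n → R) →ₗ[R] R := Fintype.linearCombination R f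
  let β : (Fin n → R) →ₗ[R] (R ⧸ Ideal.span (Set.range f)) := Fintype.linearCombination R b
  have hρ : LinearMap.range ρ = Ideal.span (Set.range f) := Fintype.range_linearCombination R f
  have hker : LinearMap.ker ρ ≤ LinearMap.ker β := by
    intro c hc
    rw [LinearMap.mem_ker] at hc ⊢
    change Fintype.linearCombination R f c = 0 at hc
    change Fintype.linearCombination R b c = 0
    rw [Fintype.linearCombination_apply] at hc ⊢
    -- the coefficients lie in the ideal
    have hcJ : ∀ i, c i ∈ Ideal.span (Set.range f) := by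
      let Q : MvPolynomial (Fin n) R := ∑ i, MvPolynomial.C (c i) * MvPolynomial.X i
      have hQ : Q.IsHomogeneous 1 := by
        apply MvPolynomial.IsHomogeneous.sum
        intro i _
        have := (MvPolynomial.isHomogeneous_C (Fin n) (c i)).mul (MvPolynomial.isHomogeneous_X R i)
        simpa using this
      have hev : MvPolynomial.eval f Q = ∑ i, c i • f i := by
        rw [map_sum]
        apply Finset.sum_congr rfl
        intro i _
        rw [map_mul, MvPolynomial.eval_C, MvPolynomial.eval_X, smul_eq_mul]
      have h1 := hf 1 Q hQ (by rw [hev, hc]; exact Ideal.zero_mem _)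
      intro i
      have h2 := h1 (Finsupp.single i 1)
      have h3 : Q.coeff (Finsupp.single i 1) = c i := by
        rw [MvPolynomial.coeff_sum]
        rw [Finset.sum_eq_single i]
        · rw [MvPolynomial.coeff_C_mul, MvPolynomial.coeff_X, if_pos rfl, mul_one]
        · intro j _ hji
          rw [MvPolynomial.coeff_C_mul, MvPolynomial.coeff_X]
          rw [if_neg, mul_zero]
          intro h
          apply hji
          have := Finsupp.single_left_injective (one_ne_zero) h
          exact this
        · intro h; exact absurd (Finset.mem_univ _) h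
      rw [h3] at h2
      exact h2
    apply Finset.sum_eq_zero
    intro i _
    rw [Algebra.smul_def, Ideal.Quotient.algebraMap_eq, Ideal.Quotient.eq_zero_iff_mem.2 (hcJ i),
      zero_mul]
  let φ₀ : LinearMap.range ρ →ₗ[R] (R ⧸ Ideal.span (Set.range f)) :=
    ((LinearMap.ker ρ).liftQ β hker).comp ρ.quotKerEquivRange.symm.toLinearMap
  let φ : ↥(Ideal.span (Set.range f)) →ₗ[R] (R ⧸ Ideal.span (Set.range f)) :=
    φ₀.comp (LinearEquiv.ofEq _ _ hρ).symm.toLinearMap
  refine ⟨φ, ?_⟩
  funext i
  rw [evGen_apply]
  have h1 : ρ (Pi.single i 1) = f i := by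
    change Fintype.linearCombination R f (Pi.single i 1) = f i
    rw [Fintype.linearCombination_apply_single, one_smul]
  have h2 : (LinearEquiv.ofEq _ _ hρ).symm (gen f i) = ⟨ρ (Pi.single i 1), ⟨_, rfl⟩⟩ := by
    apply Subtype.ext
    change f i = ρ (Pi.single i 1)
    rw [h1]
  change φ₀ ((LinearEquiv.ofEq _ _ hρ).symm (gen f i)) = b i
  rw [h2]
  change ((LinearMap.ker ρ).liftQ β hker) (ρ.quotKerEquivRange.symm ⟨ρ (Pi.single i 1), _⟩) = b i
  rw [LinearMap.quotKerEquivRange_symm_apply_image, Submodule.mkQ_apply, Submodule.liftQ_apply]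
  change Fintype.linearCombination R b (Pi.single i 1) = b i
  rw [Fintype.linearCombination_apply_single, one_smul]

end homJ


section der
open MvPolynomial
variable {k : Type u} [Field k] {d : ℕ} {M : Type*} [AddCommGroup M] [Module k M]
  [Module (MvPolynomial (Fin d) k) M] [IsScalarTower k (MvPolynomial (Fin d) k) M]

omit [IsScalarTower k (MvPolynomial (Fin d) k) M] in
theorem der_eq_sum (D : Derivation k (MvPolynomial (Fin d) k) M) (p : MvPolynomial (Fin d) k) :
    D p = ∑ j, pderiv j p • D (X j) := by
  classical
  induction p using MvPolynomial.induction_on with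
  | C a =>
    have h1 : D (C a) = 0 := D.map_algebraMap a
    rw [h1]
    symm
    apply Finset.sum_eq_zero
    intro j _
    rw [pderiv_C, zero_smul]
  | add p q hp hq =>
    rw [map_add, hp, hq, ← Finset.sum_add_distrib]
    apply Finset.sum_congr rfl
    intro j _
    rw [map_add, add_smul]
  | mul_X p i hp =>
    rw [D.leibniz, hp]
    have h1 : ∀ j, pderiv j (p * X i) • D (X j) =
        (X i : MvPolynomial (Fin d) k) • (pderiv j p • D (X j)) +
          (p * pderiv j (X i : MvPolynomial (Fin d) k)) • D (X j) := by
      intro j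
      rw [pderiv_mul, add_smul, smul_smul, mul_comm (X i : MvPolynomial (Fin d) k)]
    rw [Finset.sum_congr rfl (fun j _ => h1 j), Finset.sum_add_distrib, ← Finset.smul_sum,
      add_comm]
    congr 1
    rw [Finset.sum_eq_single i]
    · rw [pderiv_X_self, mul_one]
    · intro j _ hji
      have h2 : pderiv j (X i : MvPolynomial (Fin d) k) = 0 := pderiv_X_of_ne (Ne.symm hji)
      rw [h2, mul_zero, zero_smul]
    · intro h; exact absurd (Finset.mem_univ _) h

end der


section restrict
variable {k : Type u} [Field k] {R : Type u} [CommRing R] [Algebra k R] (J : Ideal R)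

/-- the restriction of a derivation `R → R/J` to `J` is `R`-linear. -/
def derRestrict (D : Derivation k R (R ⧸ J)) : ↥J →ₗ[R] (R ⧸ J) where
  toFun a := D (a : R)
  map_add' a b := by rw [Submodule.coe_add, map_add]
  map_smul' p a := by
    rw [Submodule.coe_smul, smul_eq_mul, D.leibniz, RingHom.id_apply]
    have h1 : (a : R) • D p = 0 := by
      rw [Algebra.smul_def, Ideal.Quotient.algebraMap_eq, Ideal.Quotient.eq_zero_iff_mem.2 a.2,
        zero_mul]
    rw [h1, add_zero]

theorem derRestrict_apply (D : Derivation k R (R ⧸ J)) (a : J) : derRestrict J D a = D (a : R) :=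
  rfl

end restrict


open MvPolynomial in
/-- T^1 of a complete intersection; the hypersurface case P/(f, ∂f/∂X_1, ..., ∂f/∂X_d) is n = 1: let k
be an algebraically closed field, P = k[X_1, ..., X_d], f_1, ..., f_n a regular sequence in P (each
f_i a non-zero-divisor modulo the preceding ones), J the ideal they generate and B = P/J. The first
cotangent module T^1_B — the cokernel of Der_k(P, B) → Hom_P(J, B), a derivation being restricted to
J — is isomorphic, as a P-module, to B^n modulo the B-submodule generated by the d columns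
(∂f_1/∂X_j, ..., ∂f_n/∂X_j), j = 1, ..., d, of the Jacobian matrix reduced modulo J, through the map
sending the class of φ : J → B to the class of (φ(f_1), ..., φ(f_n)). (The published formula allows
P to be a localisation of the polynomial ring; this row takes the polynomial ring.) -/
theorem result (k : Type u) [Field k] [IsAlgClosed k] (d n : ℕ)
    (f : Fin n → MvPolynomial (Fin d) k) (hreg : RingTheory.Sequence.IsWeaklyRegular (MvPolynomial (Fin d) k) (List.ofFn f)) :
    ∃ e : ((↥(Ideal.span (Set.range f)) →ₗ[MvPolynomial (Fin d) k] (MvPolynomial (Fin d) k ⧸ Ideal.span (Set.range f))) ⧸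
            Submodule.span (MvPolynomial (Fin d) k)
              {ψ : ↥(Ideal.span (Set.range f)) →ₗ[MvPolynomial (Fin d) k] (MvPolynomial (Fin d) k ⧸ Ideal.span (Set.range f)) |
                ∃ D : Derivation k (MvPolynomial (Fin d) k) (MvPolynomial (Fin d) k ⧸ Ideal.span (Set.range f)), ∀ a : ↥(Ideal.span (Set.range f)), ψ a = D (a : MvPolynomial (Fin d) k)}) ≃ₗ[MvPolynomial (Fin d) k]
          ((Fin n → MvPolynomial (Fin d) k ⧸ Ideal.span (Set.range f)) ⧸
            Submodule.span (MvPolynomial (Fin d) k ⧸ Ideal.span (Set.range f))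
              (Set.range fun j : Fin d => fun i : Fin n => Ideal.Quotient.mk (Ideal.span (Set.range f)) (pderiv j (f i)))),
      ∀ φ : ↥(Ideal.span (Set.range f)) →ₗ[MvPolynomial (Fin d) k] (MvPolynomial (Fin d) k ⧸ Ideal.span (Set.range f)),
        e (Submodule.Quotient.mk φ) =
          Submodule.Quotient.mk (fun i : Fin n => φ ⟨f i, Ideal.subset_span (Set.mem_range_self i)⟩) := by
  classical
  have hQR : QR f := QR_of_isWeaklyRegular n f hreg
  obtain ⟨J, hJ⟩ : ∃ J : Ideal (MvPolynomial (Fin d) k), J = Ideal.span (Set.range f) := ⟨_, rfl⟩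
  let Φ : (↥(Ideal.span (Set.range f)) →ₗ[MvPolynomial (Fin d) k]
      (MvPolynomial (Fin d) k ⧸ Ideal.span (Set.range f))) ≃ₗ[MvPolynomial (Fin d) k]
      (Fin n → MvPolynomial (Fin d) k ⧸ Ideal.span (Set.range f)) :=
    LinearEquiv.ofBijective (evGen f) ⟨evGen_injective f, evGen_surjective f hQR⟩
  have hΦ : ∀ φ i, Φ φ i = φ (gen f i) := fun φ i => rfl
  let col : Fin d → Fin n → MvPolynomial (Fin d) k ⧸ Ideal.span (Set.range f) :=
    fun j i => Ideal.Quotient.mk (Ideal.span (Set.range f)) (pderiv j (f i))
  have hder : ∀ (D : Derivation k (MvPolynomial (Fin d) k)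
      (MvPolynomial (Fin d) k ⧸ Ideal.span (Set.range f))) (i : Fin n),
      D (f i) = ∑ j, D (X j) • col j i := by
    intro D i
    rw [der_eq_sum D (f i)]
    apply Finset.sum_congr rfl
    intro j _
    obtain ⟨q, hq⟩ := Ideal.Quotient.mk_surjective (D (X j))
    rw [← hq]
    change Ideal.Quotient.mk _ (pderiv j (f i) • q) =
      Ideal.Quotient.mk _ q * Ideal.Quotient.mk _ (pderiv j (f i))
    rw [smul_eq_mul, mul_comm, map_mul]
  have hmap : (Submodule.span (MvPolynomial (Fin d) k)
      {ψ : ↥(Ideal.span (Set.range f)) →ₗ[MvPolynomial (Fin d) k] (MvPolynomial (Fin d) k ⧸ Ideal.span (Set.range f)) |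
        ∃ D : Derivation k (MvPolynomial (Fin d) k) (MvPolynomial (Fin d) k ⧸ Ideal.span (Set.range f)), ∀ a : ↥(Ideal.span (Set.range f)), ψ a = D (a : MvPolynomial (Fin d) k)}).map
        (Φ : _ →ₗ[MvPolynomial (Fin d) k] _) =
      (Submodule.span (MvPolynomial (Fin d) k ⧸ Ideal.span (Set.range f))
        (Set.range col)).restrictScalars (MvPolynomial (Fin d) k) := by
    apply le_antisymm
    · rw [Submodule.map_le_iff_le_comap]
      apply Submodule.span_le.2
      rintro ψ ⟨D, hD⟩
      rw [SetLike.mem_coe, Submodule.mem_comap, Submodule.restrictScalars_mem]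
      have h1 : (Φ : _ →ₗ[MvPolynomial (Fin d) k] _) ψ = ∑ j, D (X j) • col j := by
        funext i
        change Φ ψ i = _
        rw [hΦ, hD, Finset.sum_apply]
        exact hder D i
      rw [h1]
      apply Submodule.sum_mem
      intro j _
      exact Submodule.smul_mem _ _ (Submodule.subset_span ⟨j, rfl⟩)
    · intro x hx
      rw [Submodule.restrictScalars_mem] at hx
      obtain ⟨T, hT⟩ : ∃ T : Submodule (MvPolynomial (Fin d) k)
          (Fin n → MvPolynomial (Fin d) k ⧸ Ideal.span (Set.range f)), T = Submodule.map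
          (Φ : (↥(Ideal.span (Set.range f)) →ₗ[MvPolynomial (Fin d) k]
            (MvPolynomial (Fin d) k ⧸ Ideal.span (Set.range f))) →ₗ[MvPolynomial (Fin d) k]
            (Fin n → MvPolynomial (Fin d) k ⧸ Ideal.span (Set.range f)))
          (Submodule.span (MvPolynomial (Fin d) k)
      {ψ : ↥(Ideal.span (Set.range f)) →ₗ[MvPolynomial (Fin d) k] (MvPolynomial (Fin d) k ⧸ Ideal.span (Set.range f)) |
        ∃ D : Derivation k (MvPolynomial (Fin d) k) (MvPolynomial (Fin d) k ⧸ Ideal.span (Set.range f)), ∀ a : ↥(Ideal.span (Set.range f)), ψ a = D (a : MvPolynomial (Fin d) k)}) := ⟨_, rfl⟩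
      rw [← hT]
      refine Submodule.span_induction (p := fun x _ => x ∈ T) ?_ ?_ ?_ ?_ hx
      · rintro _ ⟨j, rfl⟩
        let D : Derivation k (MvPolynomial (Fin d) k)
            (MvPolynomial (Fin d) k ⧸ Ideal.span (Set.range f)) :=
          mkDerivation k (Pi.single j 1)
        rw [hT]
        refine ⟨derRestrict _ D, Submodule.subset_span ⟨D, fun a => rfl⟩, ?_⟩
        funext i
        change Φ (derRestrict _ D) i = col j i
        rw [hΦ, derRestrict_apply]
        change D (f i) = _
        rw [hder D i, Finset.sum_eq_single j]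
        · rw [mkDerivation_X, Pi.single_eq_same, one_smul]
        · intro l _ hlj
          rw [mkDerivation_X, Pi.single_eq_of_ne hlj, smul_eq_mul, zero_mul]
        · intro h; exact absurd (Finset.mem_univ _) h
      · exact Submodule.zero_mem _
      · intro x y _ _ hx hy
        exact Submodule.add_mem _ hx hy
      · intro b x _ hx
        obtain ⟨p, rfl⟩ := Ideal.Quotient.mk_surjective b
        have h1 : (Ideal.Quotient.mk (Ideal.span (Set.range f)) p) • x = p • x := by
          funext i
          rw [Pi.smul_apply, Pi.smul_apply]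
          obtain ⟨q, hq⟩ := Ideal.Quotient.mk_surjective (x i)
          rw [← hq]
          change Ideal.Quotient.mk _ p * Ideal.Quotient.mk _ q = Ideal.Quotient.mk _ (p • q)
          rw [smul_eq_mul, map_mul]
        rw [h1]
        exact Submodule.smul_mem _ p hx
  refine ⟨(Submodule.Quotient.equiv _ _ Φ hmap).trans
    (Submodule.Quotient.restrictScalarsEquiv (MvPolynomial (Fin d) k) _), ?_⟩
  intro φ
  rfl

end Groth.Agent.S11302
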