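import Groth.Statements.S11306
import Mathlib
-- import your own Groth.Agent.* helpers here

set_option autoImplicit false
universe u
open TensorProduct
open CAlg

namespace Groth.Agent.S11306

/-- Take a Noetherian local domain A, with residue field k and fraction field K, and let M be a finitely
generated A-module. If k ⊗_A M and K ⊗_A M have the same dimension r (over k and over K
respectively), then M is a free A-module of rank r. -/
theorem result (A : Type u) [CommRing A] [IsDomain A]
    [IsNoetherianRing A] [IsLocalRing A] (M : Type u) [AddCommGroup M] [Module A M] [Module.Finite A M] (r : ℕ)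
    (hk : Module.finrank (IsLocalRing.ResidueField A) (IsLocalRing.ResidueField A ⊗[A] M) = r)
    (hK : Module.finrank (FractionRing A) (FractionRing A ⊗[A] M) = r) :
    Module.Free A M ∧ Module.finrank A M = r := by
  classical
  let b : Module.Basis (Fin r) (IsLocalRing.ResidueField A) (IsLocalRing.ResidueField A ⊗[A] M) :=
    Module.finBasisOfFinrankEq _ _ hk
  have hsurj : Function.Surjective (TensorProduct.mk A (IsLocalRing.ResidueField A) M 1) :=
    TensorProduct.mk_surjective A M _ Ideal.Quotient.mk_surjective
  choose f hf using fun i => hsurj (b i)
  have hspan : Submodule.span A (Set.range f) = ⊤ :=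
    IsLocalRing.span_eq_top_of_tmul_eq_basis f b hf
  let π : (Fin r → A) →ₗ[A] M := Fintype.linearCombination A f
  have hπsurj : Function.Surjective π := by
    rw [← LinearMap.range_eq_top, Fintype.range_linearCombination, hspan]
  have hπinj : Function.Injective π := by
    let πK : FractionRing A ⊗[A] (Fin r → A) →ₗ[FractionRing A] FractionRing A ⊗[A] M :=
      LinearMap.baseChange (FractionRing A) π
    have hπKsurj : Function.Surjective πK := by
      intro y
      obtain ⟨z, hz⟩ := LinearMap.lTensor_surjective (FractionRing A) hπsurj y
      exact ⟨z, hz⟩
    have hdim : Module.finrank (FractionRing A) (FractionRing A ⊗[A] (Fin r → A)) =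
        Module.finrank (FractionRing A) (FractionRing A ⊗[A] M) := by
      rw [hK, Module.finrank_baseChange, Module.finrank_fin_fun]
    have hfd : FiniteDimensional (FractionRing A) (FractionRing A ⊗[A] (Fin r → A)) :=
      inferInstance
    have hπKinj : Function.Injective πK :=
      (LinearMap.injective_iff_surjective_of_finrank_eq_finrank hdim).2 hπKsurj
    rw [injective_iff_map_eq_zero]
    intro x hx
    have h1 : πK ((1 : FractionRing A) ⊗ₜ[A] x) = 0 := by
      simp only [πK, LinearMap.baseChange_tmul, hx, TensorProduct.tmul_zero]
    have h2 : (1 : FractionRing A) ⊗ₜ[A] x = 0 := hπKinj (by rw [h1, map_zero])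
    have hinj : Function.Injective
        (LinearMap.rTensor (Fin r → A) (Algebra.linearMap A (FractionRing A))) :=
      Module.Flat.rTensor_preserves_injective_linearMap _
        (IsFractionRing.injective A (FractionRing A))
    have h3 : LinearMap.rTensor (Fin r → A) (Algebra.linearMap A (FractionRing A))
        ((1 : A) ⊗ₜ[A] x) = 0 := by
      simpa using h2
    have h4 := hinj (h3.trans (map_zero _).symm)
    have h5 := congrArg (TensorProduct.lid A (Fin r → A)) h4
    simpa using h5
  let e : (Fin r → A) ≃ₗ[A] M := LinearEquiv.ofBijective π ⟨hπinj, hπsurj⟩
  exact ⟨Module.Free.of_equiv e, by rw [← e.finrank_eq, Module.finrank_fin_fun]⟩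

end Groth.Agent.S11306
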