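import Groth.Statements.S1131
import Mathlib
-- import your own Groth.Agent.* helpers here

set_option autoImplicit false
open CategoryTheory CategoryTheory.Limits AlgebraicGeometry Opposite
universe u
open Desc

namespace Groth.Agent.S1131

/-- If p : X ⟶ S is surjective, flat and quasi-compact, then the functor sending a scheme over S to its
canonical descent datum relative to p is full. (Faithfulness, which needs no quasi-compactness, is a
companion statement.) (Descent data are taken in functor-of-points form, equivalent by the Yoneda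
lemma to the usual form of an isomorphism over X ×_S X satisfying the cocycle condition.) -/
theorem result {X S : Scheme.{u}} (p : X ⟶ S) [Surjective p] [Flat p] [QuasiCompact p] :
    (Desc.toDD p).Full := by
  constructor
  intro U U' F
  have hq : EffectiveEpi (pullback.snd p U.hom) := inferInstance
  obtain ⟨Fl, hFl⟩ : ∃ Fl : pullback p U.hom ⟶ pullback p U'.hom, Fl = F.hom.left := ⟨_, rfl⟩
  have hFw : Fl ≫ pullback.fst p U'.hom = pullback.fst p U.hom := by
    rw [hFl]; exact Over.w F.hom
  let ψ : pullback p U.hom ⟶ U'.left := Fl ≫ pullback.snd p U'.hom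
  have hψ : ∀ {T : Scheme.{u}} (a b : T ⟶ pullback p U.hom),
      a ≫ pullback.snd p U.hom = b ≫ pullback.snd p U.hom → a ≫ ψ = b ≫ ψ := by
    intro T a b hab
    have h : (a ≫ pullback.fst p U.hom) ≫ p = (b ≫ pullback.fst p U.hom) ≫ p := by
      rw [Category.assoc, Category.assoc, pullback.condition, ← Category.assoc, hab, Category.assoc]
    have hw : (a ≫ Fl) ≫ pullback.fst p U'.hom = a ≫ pullback.fst p U.hom := by
      rw [Category.assoc, hFw]
    have hc := F.comm (a ≫ pullback.fst p U.hom) (b ≫ pullback.fst p U.hom) h
      ⟨a, rfl⟩ ⟨a ≫ Fl, hw⟩ (by subst hFl; rfl)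
    have hb : (((Desc.toDD p).obj U).φ (a ≫ pullback.fst p U.hom) (b ≫ pullback.fst p U.hom) h ⟨a, rfl⟩).1
        = b := by
      change pullback.lift _ _ _ = b
      apply pullback.hom_ext
      · rw [pullback.lift_fst]
      · rw [pullback.lift_snd]; exact hab
    rw [hb, ← hFl] at hc
    have hc2 := congrArg (· ≫ pullback.snd p U'.hom) hc
    change pullback.lift _ _ _ ≫ pullback.snd p U'.hom = (b ≫ Fl) ≫ pullback.snd p U'.hom at hc2
    rw [pullback.lift_snd] at hc2
    exact (Category.assoc _ _ _).symm.trans (hc2.trans (Category.assoc _ _ _))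
  let G : U.left ⟶ U'.left := EffectiveEpi.desc (pullback.snd p U.hom) ψ (fun a b hab => hψ a b hab)
  have hG : pullback.snd p U.hom ≫ G = ψ := EffectiveEpi.fac _ _ _
  have hGw : G ≫ U'.hom = U.hom := by
    have : Epi (pullback.snd p U.hom) := inferInstance
    rw [← cancel_epi (pullback.snd p U.hom), ← Category.assoc, hG]
    simp only [ψ, Category.assoc]
    rw [← pullback.condition, ← Category.assoc, hFw, pullback.condition]
  refine ⟨Over.homMk G hGw, ?_⟩
  apply Desc.SchDD.hom_ext
  ext
  rw [← hFl]
  change pullback.map p U.hom p U'.hom (𝟙 X) G (𝟙 S) (by simp) (by simp [hGw]) = Fl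
  apply pullback.hom_ext
  · rw [hFw]; exact (pullback.lift_fst _ _ _).trans (Category.comp_id _)
  · rw [pullback.lift_snd, hG]

end Groth.Agent.S1131
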