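import Groth.Statements.S11321
import Mathlib
import Groth.Agent.Lib.Helper21.FlatClosure2
-- import your own Groth.Agent.* helpers here

set_option autoImplicit false
universe u
open CategoryTheory CategoryTheory.Limits AlgebraicGeometry
open FlatMor

namespace Groth.Agent.S11321

/-- Flat limits over a curve: let Y be a locally Noetherian integral scheme of dimension one all of
whose local rings are regular local rings, P a closed point of Y with open complement U, V = P^n_U
the inverse image of U in P^n_Y, and X a closed subscheme of V (a closed immersion i : X → V) which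
is flat over Y, equivalently over U. Then X extends to a closed subscheme X' of P^n_Y which is flat
over Y and whose restriction to V is X — there are a closed immersion i' : X' → P^n_Y with X' → Y
flat and a morphism j : X → X' making X the fibre product of X' and V over P^n_Y — and such an
extension is unique: for any second one (X'', i'', j'') there is an isomorphism X' ≅ X'' over P^n_Y.
(The published statement does not say that Y is locally Noetherian; the printed argument, through
associated points and the scheme-theoretic closure, uses it, and this row assumes it.) -/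
theorem result
    {Y : Scheme.{u}} [IsIntegral Y] [IsLocallyNoetherian Y] (hreg : ∀ y : Y, IsRegularLocalRing (Y.presheaf.stalk y))
    (hY : topologicalKrullDim ↥Y = 1) (P : Y) (U : Y.Opens) (hU : (U : Set ↥Y) = {P}ᶜ) (n : ℕ)
    (X : Scheme.{u}) (i : X ⟶ ↑(CohB1.ProjSpaceOver.toBase n Y ⁻¹ᵁ U)) [IsClosedImmersion i]
    [Flat (i ≫ (CohB1.ProjSpaceOver.toBase n Y ⁻¹ᵁ U).ι ≫ CohB1.ProjSpaceOver.toBase n Y)] :
    ∃ (X' : Scheme.{u}) (i' : X' ⟶ CohB1.ProjSpaceOver n Y) (j : X ⟶ X'),
      IsClosedImmersion i' ∧ Flat (i' ≫ CohB1.ProjSpaceOver.toBase n Y) ∧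
      IsPullback j i i' (CohB1.ProjSpaceOver.toBase n Y ⁻¹ᵁ U).ι ∧
      ∀ (X'' : Scheme.{u}) (i'' : X'' ⟶ CohB1.ProjSpaceOver n Y) (j'' : X ⟶ X''),
        IsClosedImmersion i'' → Flat (i'' ≫ CohB1.ProjSpaceOver.toBase n Y) →
        IsPullback j'' i i'' (CohB1.ProjSpaceOver.toBase n Y ⁻¹ᵁ U).ι →
        ∃ e : X' ≅ X'', e.hom ≫ i'' = i' := by
  classical
  have hW : IsPullback (CohB1.ProjSpaceOver.toBase n Y ⁻¹ᵁ U).ι (CohB1.ProjSpaceOver.toBase n Y ∣_ U)
      (CohB1.ProjSpaceOver.toBase n Y) U.ι := (isPullback_morphismRestrict _ U).flip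
  have hdim : ∀ y : Y, IsRegularLocalRing (Y.presheaf.stalk y) ∧
      ringKrullDim (Y.presheaf.stalk y) ≤ 1 :=
    fun y => ⟨hreg y, (Groth.Agent.Lib.Lead.VBCurve.ringKrullDim_stalk_le Y y).trans hY.le⟩
  have hne : (U : Set Y).Nonempty := by
    by_contra hempty
    rw [Set.not_nonempty_iff_eq_empty, hU, Set.compl_empty_iff] at hempty
    haveI : Subsingleton Y := ⟨fun a b => by
      have ha : a ∈ ({P} : Set Y) := hempty ▸ Set.mem_univ a
      have hb : b ∈ ({P} : Set Y) := hempty ▸ Set.mem_univ b
      rw [Set.mem_singleton_iff] at ha hb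
      rw [ha, hb]⟩
    haveI : Subsingleton (TopologicalSpace.IrreducibleCloseds Y) := ⟨fun a b => by
      apply TopologicalSpace.IrreducibleCloseds.ext
      obtain ⟨x, hx⟩ := a.isIrreducible'.nonempty
      obtain ⟨y, hy⟩ := b.isIrreducible'.nonempty
      ext t
      rw [Subsingleton.elim t x]
      constructor
      · intro _; rw [Subsingleton.elim x y]; exact hy
      · intro _; exact hx⟩
    have h0 : topologicalKrullDim Y ≤ 0 := Order.krullDim_nonpos_of_subsingleton
    rw [hY] at h0
    exact absurd h0 (by decide)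
  haveI : IsDominant U.ι := ⟨by
    rw [DenseRange, Scheme.Opens.range_ι]
    exact U.isOpen.dense hne⟩
  haveI : IsSchemeTheoreticallyDominant U.ι := .of_isDominant _
  haveI : Flat (i ≫ (CohB1.ProjSpaceOver.toBase n Y ∣_ U) ≫ U.ι) := by
    rw [← hW.w]; infer_instance
  obtain ⟨X', i', j, h1, h2, h3⟩ := Groth.Agent.Lib.helper21.FlatClosure.exists_closure U.ι
    (CohB1.ProjSpaceOver.toBase n Y) _ _ hW i hdim
  refine ⟨X', i', j, h1, h2, h3, ?_⟩
  intro X'' i'' j'' h4 h5 h6
  exact Groth.Agent.Lib.helper21.FlatClosure.unique U.ι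
    (CohB1.ProjSpaceOver.toBase n Y) _ _ hW i i' i'' j j'' h3 h6

end Groth.Agent.S11321
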