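import Groth.Statements.S11322
import Mathlib
import Groth.Agent.Lib.Helper3.RelDim
import Groth.Agent.Lib.Helper17.FibreDim
import Groth.Agent.Lib.Helper3.FTFieldDim
import Groth.Agent.Lib.Helper3.FibreIsol

set_option autoImplicit false
universe u
open CategoryTheory AlgebraicGeometry
open FlatMor

namespace Groth.Agent.S11322
open Groth.Agent.Lib.helper3.DimIneq Groth.Agent.Lib.helper3.DimFibre Groth.Agent.Lib.helper3.RelDim Groth.Agent.Lib.helper3.QFinTop Groth.Agent.Lib.helper3.FTField Groth.Agent.Lib.helper3.FibreParam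

/-- Let k be a field, X and Y schemes of finite type over k with Y irreducible, f : X → Y a flat
k-morphism and n a natural number. Then all irreducible components of X have dimension dim Y + n if
and only if, for each point y of Y (generic points included), all irreducible components of the
fibre of f over y have dimension n. -/
theorem result (k : Type u) [Field k]
    {X Y : Scheme.{u}} (qX : X ⟶ Spec (CommRingCat.of k)) (qY : Y ⟶ Spec (CommRingCat.of k))
    [LocallyOfFiniteType qX] [QuasiCompact qX] [LocallyOfFiniteType qY] [QuasiCompact qY]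
    [IrreducibleSpace ↥Y] (f : X ⟶ Y) (hf : f ≫ qY = qX) [Flat f] (n : ℕ) :
    (∀ Z : Set ↥X, Z ∈ irreducibleComponents ↥X → topologicalKrullDim ↥Z = topologicalKrullDim ↥Y + (n : WithBot ℕ∞)) ↔
      ∀ (y : Y) (Z : Set ↥(f.fiber y)), Z ∈ irreducibleComponents ↥(f.fiber y) →
        topologicalKrullDim ↥Z = (n : WithBot ℕ∞) := by
  letI : X.Over (Spec (CommRingCat.of k)) := ⟨qX⟩
  letI : Y.Over (Spec (CommRingCat.of k)) := ⟨qY⟩
  haveI : LocallyOfFiniteType (X ↘ Spec (CommRingCat.of k)) := ‹LocallyOfFiniteType qX›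
  haveI : LocallyOfFiniteType (Y ↘ Spec (CommRingCat.of k)) := ‹LocallyOfFiniteType qY›
  haveI : LocallyOfFiniteType f := by
    haveI : LocallyOfFiniteType (f ≫ qY) := by rw [hf]; infer_instance
    exact locallyOfFiniteType_of_comp f qY
  haveI : IsLocallyNoetherian X := LocallyOfFiniteType.isLocallyNoetherian qX
  haveI : IsLocallyNoetherian Y := LocallyOfFiniteType.isLocallyNoetherian qY
  -- the dimension of `Y`
  set η := genericPoint Y with hη
  have hηcl : closure ({η} : Set Y) = Set.univ := genericPoint_spec Y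
  have hηgen : ∀ y : Y, η ⤳ y := fun y => by
    rw [specializes_iff_mem_closure, hηcl]; trivial
  obtain ⟨D, hD⟩ := exists_nat_trdeg_residueField k Y η
  have hunivY : topologicalKrullDim ↥(Set.univ : Set Y) = topologicalKrullDim Y :=
    IsHomeomorph.topologicalKrullDim_eq _ (Homeomorph.Set.univ Y).isHomeomorph
  have hdimY : topologicalKrullDim Y = (D : WithBot ℕ∞) := by
    have h1 := dim_closure_eq_trdeg k Y η D hD
    rw [hηcl, hunivY] at h1
    exact h1
  rw [hdimY]
  have hcompY : ∀ T ∈ irreducibleComponents (Y : Type u),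
      topologicalKrullDim ↥T = (D : WithBot ℕ∞) := by
    intro T hT
    have hTu : Set.univ ⊆ T := hT.2 (IrreducibleSpace.isIrreducible_univ Y) (Set.subset_univ T)
    have : T = Set.univ := Set.eq_univ_of_univ_subset hTu
    rw [this, hunivY, hdimY]
  -- additivity of transcendence degrees
  have hadd : ∀ x : X, ∀ a c t : ℕ,
      @Algebra.trdeg k (X.residueField x) _ _ (Curv2.resAlgebra k X x) = a →
      @Algebra.trdeg k (Y.residueField (f x)) _ _ (Curv2.resAlgebra k Y (f x)) = c →
      td (f.residueFieldMap x).hom = (t : Cardinal.{u}) → a = c + t := by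
    intro x a c t ha hc ht
    have hcomp := resMap_comp k qY qX f hf x
    have h1 := td_add_of_comp (Curv2.resMap k Y (f x)) (f.residueFieldMap x).hom
      (RingHom.injective _) (RingHom.injective _)
    have h2 : td ((f.residueFieldMap x).hom.comp (Curv2.resMap k Y (f x))) = (a : Cardinal.{u}) := by
      rw [← ha]
      have : (f.residueFieldMap x).hom.comp (Curv2.resMap k Y (f x)) = Curv2.resMap k X x :=
        hcomp.symm
      rw [this]
    have h3 : td (Curv2.resMap k Y (f x)) = (c : Cardinal.{u}) := hc
    rw [h2, h3, ht] at h1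
    exact_mod_cast h1
  rw [← show Cyc.HasRelDim f n ↔ ∀ (y : Y) (Z : Set ↥(f.fiber y)),
      Z ∈ irreducibleComponents ↥(f.fiber y) → topologicalKrullDim ↥Z = (n : WithBot ℕ∞) from Iff.rfl]
  constructor
  · intro h
    apply hasRelDim_of_forall_fibreDimAt
    intro x
    have hX : ∀ T ∈ irreducibleComponents (X : Type u),
        topologicalKrullDim ↥T = ((D + n : ℕ) : WithBot ℕ∞) := by
      intro T hT
      rw [h T hT]; push_cast; rfl
    have hlX := localDim_eq_of_forall_irreducibleComponents k X (D + n) hX x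
    have hlY := localDim_eq_of_forall_irreducibleComponents k Y D hcompY (f x)
    obtain ⟨a, ha⟩ := exists_nat_trdeg_residueField k X x
    obtain ⟨c, hc⟩ := exists_nat_trdeg_residueField k Y (f x)
    obtain ⟨t, b, ht, hb, htb⟩ := fibreDimAt_eq_add f x
    have hst := Groth.Agent.Lib.helper17.FibreDim.dim_stalk_eq f x (Flat.stalkMap f x)
    -- dimensions of the local rings are finite
    obtain ⟨hY', hhY⟩ : ∃ m : ℕ, ringKrullDim (Y.presheaf.stalk (f x)) = (m : WithBot ℕ∞) := by
      obtain ⟨V, hV, hyV, -⟩ := exists_isAffineOpen_mem_and_subset (x := f x) (U := ⊤) trivial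
      haveI := isNoetherianRing_of_isAffineOpen k Y hV
      have hne : (hV.primeIdealOf ⟨f x, hyV⟩).asIdeal.height ≠ ⊤ := Ideal.height_ne_top_of_isPrime
      obtain ⟨m, hm⟩ := ENat.ne_top_iff_exists.mp hne
      exact ⟨m, by rw [ringKrullDim_stalk_eq_height hV (f x) hyV, ← hm]; rfl⟩
    have hhX : ringKrullDim (X.presheaf.stalk x) = ((hY' + b : ℕ) : WithBot ℕ∞) := by
      rw [hst, hhY, hb]; push_cast; rfl
    rw [localDim_eq k X x a (hY' + b) ha hhX] at hlX
    rw [localDim_eq k Y (f x) c hY' hc hhY] at hlY
    have e1 : a + (hY' + b) = D + n := by exact_mod_cast hlX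
    have e2 : c + hY' = D := by exact_mod_cast hlY
    have e3 := hadd x a c t ha hc ht
    rw [htb]
    have : t + b = n := by omega
    exact_mod_cast this
  · intro h Z hZ
    obtain ⟨ξ, hξ⟩ := QuasiSober.sober hZ.1 (isClosed_of_mem_irreducibleComponents Z hZ)
    have hZ' : Z = closure {ξ} := hξ.def.symm
    subst hZ'
    obtain ⟨N, hN⟩ := exists_nat_trdeg_residueField k X ξ
    rw [dim_closure_eq_trdeg k X ξ N hN]
    -- `f ξ = η`
    have hfξ : f ξ = η := by
      obtain ⟨x', hx', hfx'⟩ := (Flat.generalizingMap f) (hηgen (f ξ))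
      have hsub : closure ({ξ} : Set X) ⊆ closure {x'} := hx'.closure_subset
      have heq : closure ({x'} : Set X) = closure {ξ} :=
        (hZ.2 isIrreducible_singleton.closure hsub).antisymm hsub |>.symm ▸ rfl
      have hsp : ξ ⤳ x' := by
        rw [specializes_iff_mem_closure, ← heq]; exact subset_closure rfl
      have : x' = ξ := (hx'.antisymm hsp).eq
      rw [← this, hfx']
    -- no proper generizations of `ξ`
    obtain ⟨t, b, ht, hb, htb⟩ := fibreDimAt_eq_add f ξ
    rw [fibreDimAt_eq_of_hasRelDim f n h ξ] at htb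
    have hb0 : b = 0 := by
      have hmaxz : IsMax (f.asFiber ξ) := by
        intro z' hz'
        have h1 : z' ⤳ f.asFiber ξ := Scheme.le_iff_specializes.mp hz'
        have h2 : f.fiberι (f ξ) z' ⤳ ξ := by
          have := (fiberι_specializes_iff f (f ξ) z' (f.asFiber ξ)).mpr h1
          rwa [f.fiberι_asFiber] at this
        have hsub : closure ({ξ} : Set X) ⊆ closure {f.fiberι (f ξ) z'} := h2.closure_subset
        have hsub2 := hZ.2 isIrreducible_singleton.closure hsub
        have h3 : ξ ⤳ f.fiberι (f ξ) z' := by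
          rw [specializes_iff_mem_closure]; exact hsub2 (subset_closure rfl)
        have h4 : f.fiberι (f ξ) z' = ξ := (h2.antisymm h3).eq
        have h5 : z' = f.asFiber ξ :=
          fiberι_injective f (f ξ) (h4.trans (f.fiberι_asFiber ξ).symm)
        rw [h5]
      have h0 : Order.coheight (f.asFiber ξ) = 0 := Order.coheight_eq_zero.mpr hmaxz
      have h5 := ringKrullDim_stalk_eq_coheight (f.asFiber ξ)
      rw [h0] at h5
      have hb' : ringKrullDim ((f.fiber (f ξ)).presheaf.stalk (f.asFiber ξ)) = (b : WithBot ℕ∞) := hb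
      rw [hb'] at h5
      exact_mod_cast h5
    have hD' : @Algebra.trdeg k (Y.residueField (f ξ)) _ _ (Curv2.resAlgebra k Y (f ξ)) = D := by
      rw [hfξ]; exact hD
    have e3 := hadd ξ N D t hN hD' ht
    have e4 : n = t + b := by exact_mod_cast htb
    have : N = D + n := by omega
    rw [this]; push_cast; rfl

end Groth.Agent.S11322
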