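import Groth.Statements.S11328
import Groth.Agent.Lib.Helper21.ShRestr2
import Groth.Agent.Lib.Helper21.DerivedComm
import Groth.Agent.Lib.Helper21.SchShriek
-- import your own Groth.Agent.* helpers here

set_option autoImplicit false
universe u
open CategoryTheory AlgebraicGeometry
open Coherent

namespace Groth.Agent.S11328

/-- Let X be a scheme, U an open subscheme, F and G O_X-modules and i ≥ 0. Then the restriction to U of
the Ext sheaf Ext^i_X(F, G) — the i-th right derived functor of the internal Hom functor Hom(F, -)
on O_X-modules, evaluated at G — is isomorphic to the Ext sheaf Ext^i_U(F|_U, G|_U) formed on U.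
(The internal Hom functors and injective resolutions on X and on U are the stated instance
hypotheses, all true; stated for schemes, the published statement being for ringed spaces; existence
of an isomorphism of O_U-modules.) -/
theorem result (X : Scheme.{u}) (U : X.Opens) (F G : X.Modules) (i : ℕ)
    [ModSite.HasSheafHom (O := X.sheaf) F] [HasInjectiveResolutions (ModSite.Mod X.sheaf)]
    [ModSite.HasSheafHom (O := (↑U : Scheme.{u}).sheaf) (F.restrict U.ι)]
    [HasInjectiveResolutions (ModSite.Mod (↑U : Scheme.{u}).sheaf)] :
    Nonempty ((Scheme.Modules.restrictFunctor U.ι).obj ((ModSite.extSh (O := X.sheaf) F i).obj G) ≅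
      (ModSite.extSh (O := (↑U : Scheme.{u}).sheaf) (F.restrict U.ι) i).obj (G.restrict U.ι)) := by
  classical
  let j : ModSite.Mod X.sheaf ⥤ ModSite.Mod (↑U : Scheme.{u}).sheaf :=
    Scheme.Modules.restrictFunctor U.ι
  haveI hR : j.IsRightAdjoint := (Groth.Agent.Lib.helper21.SchShriek.adj U).isRightAdjoint
  haveI hL : j.IsLeftAdjoint := (Scheme.Modules.restrictAdjunction U.ι).isLeftAdjoint
  haveI : Limits.PreservesFiniteLimits j := inferInstance
  haveI : Limits.PreservesFiniteColimits j := inferInstance
  haveI : j.Additive := Functor.additive_of_preserves_binary_products j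
  haveI : j.PreservesHomology := inferInstance
  haveI : j.PreservesInjectiveObjects :=
    Groth.Agent.Lib.helper21.SchShriek.restrict_preservesInjectiveObjects U
  have e1 := Groth.Agent.Lib.Helper21.DerivedComm.rightDerivedPostIso j
    (ModSite.sheafHom (O := X.sheaf) F) i
  have e2 := Groth.Agent.Lib.Helper21.DerivedComm.rightDerivedPreIso j
    (ModSite.sheafHom (O := (↑U : Scheme.{u}).sheaf) (F.restrict U.ι)) i
  haveI a1 : (ModSite.sheafHom (O := X.sheaf) F ⋙ j).Additive := inferInstance
  haveI a2 : (j ⋙ ModSite.sheafHom (O := (↑U : Scheme.{u}).sheaf) (F.restrict U.ι)).Additive :=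
    inferInstance
  have e3 := @Groth.Agent.Lib.Helper21.DerivedComm.rightDerivedIso _ _ _ _ _ _ _ _ _ a1 a2
    (Groth.Agent.Lib.helper21.ShRestr.sheafHomRestrIso U F) i
  exact ⟨(e1.symm ≪≫ e3 ≪≫ e2).app G⟩

end Groth.Agent.S11328
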