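import Groth.Statements.S11330
import Mathlib
import Groth.Agent.Lib.Helper18.CurvePt2
import Groth.Agent.Lib.Helper18.CurvePt3
import Groth.Agent.Lib.Helper18.TwoSec
import Groth.Agent.Lib.Helper9.CurveGG

set_option autoImplicit false
universe u
open CategoryTheory CategoryTheory.Limits AlgebraicGeometry
open Curves

namespace Groth.Agent.S11330

open Groth.Agent.Lib.Helper18 Module Opposite TopologicalSpace
  Groth.Agent.Lib.helper11.IsoLocus Groth.Agent.Lib.helper11.InvMod
  Groth.Agent.Lib.helper9.CurveTwist Groth.Agent.Lib.helper9.CurveGG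
  Groth.Agent.Lib.Lead.CurveInv Groth.Agent.Lib.Lead.CurveEuler Groth.Agent.Lib.Lead.ModTensor
  Groth.Agent.Lib.Lead.CurveSec Groth.Agent.Lib.helper11.TwistH1
  Groth.Agent.Lib.Helper20.SplitH1 in
/-- a globally generated invertible module has a section generating at a given closed point -/
theorem exists_mem_isoLocus_of_gg (k : Type u) [Field k] (X : Scheme.{u})
    [X.Over (Spec (CommRingCat.of k))] [IsIntegral X] [IsProper (X ↘ (Spec (CommRingCat.of k)))]
    (hdim : topologicalKrullDim X ≤ 1) (L : X.Modules) (hL : PicF.IsInvertible L)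
    (hgg : Curv2.IsGloballyGenerated L) {y : X} (hy : IsClosed ({y} : Set X)) :
    ∃ s : Coh.structureModule X ⟶ L, y ∈ isoLocus s := by
  by_contra hcon
  push Not at hcon
  obtain ⟨ι, φ, hφ⟩ := hgg
  set Z := Scheme.IdealSheafData.vanishingIdeal ⟨{y}, hy⟩ with hZdef
  have hZ := dim_support_vanishingIdeal_le X hy
  obtain ⟨hFc, heul, -⟩ := idealTwist_main k X hdim L hL Z hZ
  set F := CohB1.tensorMod (ClSub.idealMod Z) L with hFdef
  let j : F ⟶ L := tensorMap (ClSub.idealModι Z) (𝟙 L) ≫ (leftUnitor L).hom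
  haveI : Mono (ClSub.idealModι Z) := Groth.Agent.Lib.helper7.IdealMod.mono_idealModι Z
  haveI hφmono : Mono (tensorMap (ClSub.idealModι Z) (𝟙 L)) := mono_tensorMap_left _ hL
  haveI : Mono j := mono_comp _ _
  have hfac : ∀ i : ι, ∃ s' : Coh.structureModule X ⟶ F, s' ≫ j = SheafOfModules.ιFree i ≫ φ :=
    fun i => TwoSec.exists_factor hL (SheafOfModules.ιFree i ≫ φ) hy (hcon _)
  choose s' hs' using hfac
  let ψ : (SheafOfModules.free ι : X.Modules) ⟶ F :=
    F.freeHomEquiv.symm (fun i => F.unitHomEquiv (s' i))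
  have hψ : ∀ i, SheafOfModules.ιFree i ≫ ψ = s' i := by
    intro i
    have h := SheafOfModules.unitHomEquiv_symm_freeHomEquiv_apply ψ i
    rw [← h]
    show F.unitHomEquiv.symm (F.freeHomEquiv (F.freeHomEquiv.symm _) i) = _
    rw [Equiv.apply_symm_apply, Equiv.symm_apply_apply]
  have hψj : ψ ≫ j = φ := by
    apply L.freeHomEquiv.injective
    funext i
    apply L.unitHomEquiv.symm.injective
    rw [SheafOfModules.unitHomEquiv_symm_freeHomEquiv_apply,
      SheafOfModules.unitHomEquiv_symm_freeHomEquiv_apply, ← Category.assoc, hψ]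
    exact hs' i
  haveI : Epi (ψ ≫ j) := by rw [hψj]; exact hφ
  haveI : Epi j := epi_of_epi ψ j
  haveI : IsIso j := isIso_of_mono_of_epi j
  have e1 : Curv2.euler k X F = Curv2.euler k X L := euler_eq_of_iso k X (asIso j)
  have hpos := finrank_H0_quotMod_pos k X hy
  rw [e1] at heul
  have : (0 : ℤ) < (finrank k (Coh.HH X (ClSub.quotMod Z) 0) : ℤ) := by exact_mod_cast hpos
  linarith

open Groth.Agent.Lib.Helper18 Module Opposite TopologicalSpace
  Groth.Agent.Lib.helper11.IsoLocus Groth.Agent.Lib.helper11.InvMod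
  Groth.Agent.Lib.helper9.CurveTwist Groth.Agent.Lib.helper9.CurveGG
  Groth.Agent.Lib.Lead.CurveInv Groth.Agent.Lib.Lead.CurveEuler Groth.Agent.Lib.Lead.ModTensor
  Groth.Agent.Lib.Lead.CurveSec Groth.Agent.Lib.helper11.SerreGG
  Groth.Agent.Lib.helper9.CurveLinSer Groth.Agent.Lib.Helper20.SplitH1 in

/-- Let k be an algebraically closed field and X a curve over k (an integral scheme, proper over k, of
dimension one, with all local rings regular), and L an invertible O_X-module. Then L is generated by
its global sections (a quotient of a free O_X-module) if and only if for every closed point P of X,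
with ideal sheaf I_P ⊆ O_X, dim_k H^0(X, L ⊗ I_P) = dim_k H^0(X, L) - 1. -/
theorem result (k : Type u) [Field k] [IsAlgClosed k] (X : Scheme.{u}) [X.Over (Spec (CommRingCat.of k))]
    [IsIntegral X] [IsProper (X ↘ (Spec (CommRingCat.of k)))] (hdim : topologicalKrullDim X = 1)
    (hreg : ∀ x : X, IsRegularLocalRing (X.presheaf.stalk x)) (L : X.Modules) (hL : PicF.IsInvertible L) :
    Curv2.IsGloballyGenerated L ↔
      ∀ (P : X) (hP : IsClosed ({P} : Set X)),
        Module.finrank k (Coh.HH X (CohB1.tensorMod L (ClSub.idealMod (Scheme.IdealSheafData.vanishingIdeal ⟨{P}, hP⟩))) 0) + 1 = Module.finrank k (Coh.HH X L 0) := by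
  have hbr : ∀ (P : X) (hP : IsClosed ({P} : Set X)),
      finrank k (Coh.HH X (CohB1.tensorMod L
        (ClSub.idealMod (Scheme.IdealSheafData.vanishingIdeal ⟨{P}, hP⟩))) 0) =
      finrank k (Coh.HH X (CohB1.tensorMod
        (ClSub.idealMod (Scheme.IdealSheafData.vanishingIdeal ⟨{P}, hP⟩)) L) 0) :=
    fun P hP => finrank_HH_eq_of_iso k (braid _ _) 0
  constructor
  · intro hgg P hP
    obtain ⟨s, hs⟩ := exists_mem_isoLocus_of_gg k X hdim.le L hL hgg hP
    rw [hbr]
    exact (CurvePt.twist_down k X hdim.le hL s hP hs (CurvePt.finrank_H0_quotMod_point k X hP)).1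
  · intro h
    apply isGloballyGenerated_of_genAt
    intro y
    suffices h : ∃ t : Coh.structureModule X ⟶ L, y ∈ isoLocus t by
      obtain ⟨t, ht⟩ := h
      exact genAt_of_mem_isoLocus t ht
    have hO := isInvertible_structureModule X
    have hLc := isCoh_of_isInvertible X hL
    by_cases hy : IsClosed ({y} : Set X)
    · set Z := Scheme.IdealSheafData.vanishingIdeal ⟨{y}, hy⟩ with hZdef
      have hZ := dim_support_vanishingIdeal_le X hy
      obtain ⟨hFc, -, -⟩ := idealTwist_main k X hdim.le L hL Z hZ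
      have hlt : finrank k (Coh.HH X (CohB1.tensorMod (ClSub.idealMod Z) L) 0) <
          finrank k (Coh.HH X L 0) := by
        rw [← hbr y hy, ← h y hy]
        omega
      let OL := CohB1.tensorMod (Coh.structureModule X) L
      let φ : CohB1.tensorMod (ClSub.idealMod Z) L ⟶ OL := tensorMap (ClSub.idealModι Z) (𝟙 L)
      have hOL0 : finrank k (Coh.HH X OL 0) = finrank k (Coh.HH X L 0) :=
        finrank_HH_eq_of_iso k (leftUnitor L) 0
      haveI : Module.Finite k (Coh.HH X (CohB1.tensorMod (ClSub.idealMod Z) L) 0) :=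
        Groth.Agent.Lib.Lead.ProperEuler.finite_HH k X _ hFc 0
      obtain ⟨x', hx'⟩ : ∃ x' : Γ(OL, ⊤), x' ∉ Set.range (φ.app ⊤).hom := by
        by_contra hcon
        push Not at hcon
        have hs : Function.Surjective (HH.mapOver k φ 0) :=
          surjective_H0_of_sections φ (fun x' => hcon x')
        have h' : finrank k (Coh.HH X OL 0) ≤
            finrank k (Coh.HH X (CohB1.tensorMod (ClSub.idealMod Z) L) 0) :=
          LinearMap.finrank_le_finrank_of_surjective hs
        rw [hOL0] at h'
        exact absurd hlt (not_lt.mpr h')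
      have hyt : y ∈ isoLocus (homOfGlobal OL x') := by
        by_contra hcon
        exact hx' (exists_preimage_of_not_mem_isoLocus hL hy x' hcon)
      refine ⟨homOfGlobal OL x' ≫ (leftUnitor L).hom, ?_⟩
      rw [isoLocus_comp_of_isIso_right]
      exact hyt
    · obtain ⟨P, -, hP⟩ := CurvePt.exists_isClosed_mem k X ⊤ ⟨y, trivial⟩
      have hpos : 0 < finrank k (Coh.HH X L 0) := by
        rw [← h P hP]; omega
      obtain ⟨s, hs⟩ := exists_hom_ne_zero_of_finrank_pos k X L hpos
      refine ⟨s, ?_⟩
      by_contra hcon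
      exact hy (isClosed_singleton_of_not_mem hdim.le _ (isoLocus_nonempty X hO hL s hs) y hcon)

end Groth.Agent.S11330
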