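import Groth.Statements.S11347
import Groth.Agent.Lib.Lead.VBCurve19
-- import your own Groth.Agent.* helpers here

set_option autoImplicit false
set_option backward.isDefEq.respectTransparency false
universe u
open CategoryTheory CategoryTheory.Limits AlgebraicGeometry
open Curves

namespace Groth.Agent.S11347

/-- Let C be a genus-g curve over an algebraically closed field k (integral, proper over k, of dimension
one, all local rings regular), and E a locally free O_C-module of rank 2 which is normalized —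
H^0(C, E) ≠ 0 while H^0(C, E ⊗ M) = 0 for every invertible M with deg M < 0 — and indecomposable —
not isomorphic to a direct sum of two invertible modules. Then the invariant e = -deg E of the ruled
surface P(E) satisfies -2g ≤ e ≤ 2g - 2; here deg E = χ(E) - 2 χ(O_C). -/
theorem result (k : Type u) [Field k] [IsAlgClosed k] (C : Scheme.{u}) [C.Over (Spec (CommRingCat.of k))]
    [IsIntegral C] [IsProper (C ↘ (Spec (CommRingCat.of k)))] (hdimC : topologicalKrullDim C = 1)
    (hregC : ∀ x : C, IsRegularLocalRing (C.presheaf.stalk x))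
    (E : C.Modules) (hE : FlatMod.IsFinLocFreeOfRank 2 E)
    (hn0 : Nontrivial (Coh.HH C E 0))
    (hneg : ∀ M : C.Modules, PicF.IsInvertible M → Curv2.deg k C M 1 < 0 → Subsingleton (Coh.HH C (CohB1.tensorMod E M) 0))
    (hind : ∀ L₁ L₂ : C.Modules, PicF.IsInvertible L₁ → PicF.IsInvertible L₂ → IsEmpty (E ≅ L₁ ⊞ L₂)) :
    2 - 2 * (Curv2.genus k C : ℤ) ≤ Curv2.deg k C E 2 ∧ Curv2.deg k C E 2 ≤ 2 * (Curv2.genus k C : ℤ) := by
  classical
  have hP := Groth.Agent.Lib.Lead.VBCurve.pidStalks_of_regular hregC hdimC.le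
  have hd := hdimC.le
  have h0 := Groth.Agent.Lib.helper9.CurveVanish.finrank_H0_structureModule_eq_one k C
  have hO := Groth.Agent.Lib.helper11.InvMod.isInvertible_structureModule C
  obtain ⟨s, hs⟩ := Groth.Agent.Lib.Lead.CurveSec.exists_hom_ne_zero_of_nontrivial E hn0
  obtain ⟨hm, t, hrk, ht, hdeg⟩ :=
    Groth.Agent.Lib.Lead.VBCurve.cokernel_section_of_normalized k C hP hd hE hneg s hs
  have ht1 : t = 1 := by omega
  subst ht1
  have := hm
  have hq := (Groth.Agent.Lib.helper16.FLF.isInvertible_iff_isFinLocFreeOfRank_one (cokernel s)).mpr ht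
  have hS := Groth.Agent.Lib.Lead.VBCurve.shortExact_cokernel C s
  have hns : ¬ IsSplitEpi (cokernel.π s) := by
    rintro ⟨⟨σ, hσ⟩⟩
    have spl : (ShortComplex.mk s (cokernel.π s) (cokernel.condition s)).Splitting :=
      ShortComplex.Splitting.ofExactOfSection _ hS.exact σ hσ hS.mono_f
    exact (hind _ _ hO hq).false spl.isoBinaryBiproduct
  refine ⟨?_, ?_⟩
  · have h1 := Groth.Agent.Lib.Lead.VBCurve.deg_sub_le_of_not_isSplitEpi k C hd h0
      (ShortComplex.mk s (cokernel.π s) (cokernel.condition s)) hS hO hq hns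
    change Curv2.deg k C (Coh.structureModule C) 1 - Curv2.deg k C (cokernel s) 1 ≤ _ at h1
    rw [Groth.Agent.Lib.Lead.CurveEuler.deg_structureModule k C] at h1
    rw [hdeg]
    linarith
  · obtain ⟨M, hM, hdM⟩ := Groth.Agent.Lib.Lead.VBCurve.exists_invertible_deg k C hP hdimC (-1)
    have hsub := hneg M hM (by rw [hdM]; norm_num)
    obtain ⟨hEM, hdEM⟩ := Groth.Agent.Lib.Lead.VBCurve.deg_tensor_invertible k C hd hE hM
    have hc := Groth.Agent.Lib.Lead.RankAdd.isCoh_of_isFinLocFreeOfRank hEM
    have hrr := Groth.Agent.Lib.Lead.CurveEuler.riemann_roch' k C hd h0 _ hc.1 2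
    rw [hdEM, hdM, Module.finrank_zero_of_subsingleton] at hrr
    have h1 : (0 : ℤ) ≤ (Module.finrank k (Coh.HH C (CohB1.tensorMod E M) 1) : ℤ) := Int.natCast_nonneg _
    push_cast at hrr
    linarith


end Groth.Agent.S11347
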