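import Groth.Statements.S11353
import Groth.Agent.Lib.Lead.VBCurve19
-- import your own Groth.Agent.* helpers here

set_option autoImplicit false
set_option backward.isDefEq.respectTransparency false
universe u
open CategoryTheory CategoryTheory.Limits AlgebraicGeometry
open Curves

namespace Groth.Agent.S11353

/-- Let C be a curve over an algebraically closed field k (integral, proper over k, of dimension one,
all local rings regular) and E a decomposable locally free sheaf of rank 2 — E ≅ L₁ ⊕ L₂ with L₁, L₂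
invertible — which is normalized: H^0(C, E) ≠ 0 while H^0(C, E ⊗ M) = 0 for every invertible M of
negative degree. Then E ≅ O_C ⊕ L for an invertible L with deg L ≤ 0; in particular e = -deg E ≥ 0. -/
theorem result (k : Type u) [Field k] [IsAlgClosed k] (C : Scheme.{u}) [C.Over (Spec (CommRingCat.of k))]
    [IsIntegral C] [IsProper (C ↘ (Spec (CommRingCat.of k)))] (hdimC : topologicalKrullDim C = 1)
    (hregC : ∀ x : C, IsRegularLocalRing (C.presheaf.stalk x))
    (E L₁ L₂ : C.Modules) (hL₁ : PicF.IsInvertible L₁) (hL₂ : PicF.IsInvertible L₂) (hE : Nonempty (E ≅ L₁ ⊞ L₂))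
    (hn0 : Nontrivial (Coh.HH C E 0))
    (hneg : ∀ M : C.Modules, PicF.IsInvertible M → Curv2.deg k C M 1 < 0 → Subsingleton (Coh.HH C (CohB1.tensorMod E M) 0)) :
    ∃ L : C.Modules, PicF.IsInvertible L ∧ Curv2.deg k C L 1 ≤ 0 ∧ Nonempty (E ≅ Coh.structureModule C ⊞ L) := by
  classical
  have hP := Groth.Agent.Lib.Lead.VBCurve.pidStalks_of_regular hregC hdimC.le
  have hd := hdimC.le
  obtain ⟨e⟩ := hE
  have hO := Groth.Agent.Lib.helper11.InvMod.isInvertible_structureModule C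
  obtain ⟨s, hs⟩ := Groth.Agent.Lib.Lead.CurveSec.exists_hom_ne_zero_of_nontrivial E hn0
  have hL₁1 := (Groth.Agent.Lib.helper16.FLF.isInvertible_iff_isFinLocFreeOfRank_one L₁).mp hL₁
  have hL₂1 := (Groth.Agent.Lib.helper16.FLF.isInvertible_iff_isFinLocFreeOfRank_one L₂).mp hL₂
  haveI : Mono ((biprod.inl : L₁ ⟶ L₁ ⊞ L₂) ≫ e.inv) := mono_comp _ _
  haveI : Mono ((biprod.inr : L₂ ⟶ L₁ ⊞ L₂) ≫ e.inv) := mono_comp _ _
  have hd1 : Curv2.deg k C L₁ 1 ≤ 0 :=
    Groth.Agent.Lib.Lead.VBCurve.deg_le_zero_of_normalized k C hd hneg hL₁1 ((biprod.inl : L₁ ⟶ L₁ ⊞ L₂) ≫ e.inv)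
  have hd2 : Curv2.deg k C L₂ 1 ≤ 0 :=
    Groth.Agent.Lib.Lead.VBCurve.deg_le_zero_of_normalized k C hd hneg hL₂1 ((biprod.inr : L₂ ⟶ L₁ ⊞ L₂) ≫ e.inv)
  have hdO := Groth.Agent.Lib.Lead.CurveEuler.deg_structureModule k C
  by_cases h1 : s ≫ e.hom ≫ biprod.fst = 0
  · have h2 : s ≫ e.hom ≫ biprod.snd ≠ 0 := by
      intro h2
      apply hs
      rw [← cancel_mono e.hom, zero_comp]
      apply biprod.hom_ext
      · rw [Category.assoc, h1, zero_comp]
      · rw [Category.assoc, h2, zero_comp]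
    have hge := Groth.Agent.Lib.Lead.VBCurve.deg_le_of_ne_zero_of_isInvertible k C hP hd hO hL₂ _ h2
    rw [hdO] at hge
    haveI := Groth.Agent.Lib.Lead.VBCurve.isIso_of_isInvertible_of_deg_eq k C hP hd hO hL₂ _ h2
      (by rw [hdO]; omega)
    let φ : Coh.structureModule C ≅ L₂ := asIso (s ≫ e.hom ≫ biprod.snd)
    exact ⟨L₁, hL₁, hd1, ⟨e ≪≫ biprod.braiding L₁ L₂ ≪≫ biprod.mapIso φ.symm (Iso.refl L₁)⟩⟩
  · have hge := Groth.Agent.Lib.Lead.VBCurve.deg_le_of_ne_zero_of_isInvertible k C hP hd hO hL₁ _ h1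
    rw [hdO] at hge
    haveI := Groth.Agent.Lib.Lead.VBCurve.isIso_of_isInvertible_of_deg_eq k C hP hd hO hL₁ _ h1
      (by rw [hdO]; omega)
    let φ : Coh.structureModule C ≅ L₁ := asIso (s ≫ e.hom ≫ biprod.fst)
    exact ⟨L₂, hL₂, hd2, ⟨e ≪≫ biprod.mapIso φ.symm (Iso.refl L₂)⟩⟩


end Groth.Agent.S11353
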