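import Groth.Statements.S11355
import Mathlib
import Groth.Agent.Lib.Helper18.CurveNum

set_option autoImplicit false
universe u
open CategoryTheory CategoryTheory.Limits AlgebraicGeometry
open Curves

namespace Groth.Agent.S11355

open Groth.Agent.Lib.Helper18 Groth.Agent.Lib.Helper18.PencilTrick Module Opposite
open Groth.Agent.Lib.Lead.ModTensor Groth.Agent.Lib.helper9.CurveVanish
open Groth.Agent.Lib.helper11.IsoLocus Groth.Agent.Lib.Helper20.SplitH1
open Groth.Agent.Lib.Helper18.CurveNum

/-- Let k be an algebraically closed field and X a curve over k (an integral scheme, proper over k, of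
dimension one, with all local rings regular), of genus g ≥ 2. If X is hyperelliptic its g^1_2 is
unique: for any two linear series (M, s), (M', s') of degree 2 and dimension 1 on X (invertible
modules of degree 2, each with two k-linearly independent global sections), M ≅ M' (existence of an
isomorphism; for g ≥ 2 such a module has exactly a 2-dimensional space of sections, so the linear
series coincide). -/
theorem result (k : Type u) [Field k] [IsAlgClosed k] (X : Scheme.{u}) [X.Over (Spec (CommRingCat.of k))]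
    [IsIntegral X] [IsProper (X ↘ (Spec (CommRingCat.of k)))] (hdim : topologicalKrullDim X = 1)
    (hreg : ∀ x : X, IsRegularLocalRing (X.presheaf.stalk x)) (hg : 2 ≤ Curv2.genus k X)
    (M : X.Modules) (s : Fin 2 → LinSer.Sect X M) (hM : LinSer.IsLinSer k X M 2 1 s)
    (M' : X.Modules) (s' : Fin 2 → LinSer.Sect X M') (hM' : LinSer.IsLinSer k X M' 2 1 s') :
    Nonempty (M ≅ M') := by
  have hdim' : topologicalKrullDim X ≤ 1 := hdim.le
  obtain ⟨h₁, hd₁, hl₁⟩ := hM
  obtain ⟨h₂, hd₂, hl₂⟩ := hM'
  push_cast at hd₁ hd₂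
  -- `h⁰ = 2` for both
  have key : ∀ (L : X.Modules), PicF.IsInvertible L → Curv2.deg k X L 1 = 2 →
      2 ≤ finrank k (Coh.HH X L 0) → finrank k (Coh.HH X L 0) = 2 := by
    intro L hL hdL h2
    rcases clifford_or k X hdim' hL (by omega) with h | h
    · rw [hdL] at h; omega
    · rw [hdL] at h; omega
  have h0₁ : finrank k (Coh.HH X M 0) = 2 := by
    haveI := finite_HH k X h₁ 0
    exact key M h₁ hd₁ (le_finrank_of_linIndep k X M s hl₁)
  have h0₂ : finrank k (Coh.HH X M' 0) = 2 := by
    haveI := finite_HH k X h₂ 0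
    exact key M' h₂ hd₂ (le_finrank_of_linIndep k X M' s' hl₂)
  obtain ⟨s₀, s₁, hs⟩ := exists_gen_sections k X hdim hreg (by omega) h₁ hd₁ h0₁
  obtain ⟨N, hN, ⟨eN⟩, ⟨eN'⟩⟩ := Groth.Agent.Lib.helper12.InvDual.exists_inverse h₁
  by_contra hcon
  have hne : IsEmpty (M ≅ M') := not_nonempty_iff.mp hcon
  -- `G = M' ⊗ M⁻¹`
  set G := CohB1.tensorMod M' N with hGdef
  have hG : PicF.IsInvertible G := Groth.Agent.Lib.helper12.TensorInv.isInvertible_tensorMod h₂ hN
  let φ : CohB1.tensorMod G M ≅ M' :=
    assoc M' N M ≪≫ tensorIso (Iso.refl M') eN' ≪≫ rightUnitor M'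
  have hGD : PicF.IsInvertible (CohB1.tensorMod G M) :=
    Groth.Agent.Lib.helper12.TensorInv.isInvertible_tensorMod hG h₁
  have hGDD : PicF.IsInvertible (CohB1.tensorMod (CohB1.tensorMod G M) M) :=
    Groth.Agent.Lib.helper12.TensorInv.isInvertible_tensorMod hGD h₁
  have hdG : Curv2.deg k X G 1 = 0 := by
    have e1 := Groth.Agent.Lib.helper9.CurveDegAdd.deg_tensorMod k X hdim' hG h₁
    rw [deg_eq_of_iso k X φ 1, hd₂, hd₁] at e1
    linarith
  have h0G : finrank k (Coh.HH X G 0) = 0 := by
    by_contra hcon'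
    haveI := finite_HH k X hG 0
    have hnt : Nontrivial (Coh.HH X G 0) :=
      Module.nontrivial_of_finrank_pos (R := k) (Nat.pos_of_ne_zero hcon')
    obtain ⟨y, hy⟩ := exists_ne (0 : Coh.HH X G 0)
    have ht : secHom G y ≠ 0 := fun h => hy ((secHom_eq_zero_iff G y).mp h)
    have hχ : Curv2.euler k X G ≤ Curv2.euler k X (Coh.structureModule X) := by
      unfold Curv2.deg at hdG
      push_cast at hdG
      linarith
    haveI : IsIso (secHom G y) :=
      Groth.Agent.Lib.Helper18.TwoSec.isIso_of_euler_le k X hdim'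
        (Groth.Agent.Lib.Lead.CurveInv.isCoh_of_isInvertible X hG) hG (𝟙 G) (secHom G y) ht hχ
    exact hne.false
      ((leftUnitor M).symm ≪≫ tensorIso (asIso (secHom G y)) (Iso.refl M) ≪≫ φ)
  have hpen : 2 * finrank k (Coh.HH X (CohB1.tensorMod G M) 0) ≤
      finrank k (Coh.HH X G 0) +
        finrank k (Coh.HH X (CohB1.tensorMod (CohB1.tensorMod G M) M) 0) := by
    haveI := finite_HH k X hG 0
    haveI := finite_HH k X hGD 0
    haveI := finite_HH k X hGDD 0
    exact two_mul_finrank_le k s₀ s₁ hs G 0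
  have e1 : finrank k (Coh.HH X (CohB1.tensorMod G M) 0) = 2 := by
    rw [← h0₂]
    exact LinearEquiv.finrank_eq (HH.isoEquivOver k φ 0)
  rw [e1, h0G] at hpen
  have hd : Curv2.deg k X (CohB1.tensorMod (CohB1.tensorMod G M) M) 1 = 4 := by
    rw [Groth.Agent.Lib.helper9.CurveDegAdd.deg_tensorMod k X hdim' hGD h₁,
      Groth.Agent.Lib.helper9.CurveDegAdd.deg_tensorMod k X hdim' hG h₁, hdG, hd₁]
    norm_num
  rcases clifford_or k X hdim' hGDD (by omega) with h | h
  · rw [hd] at h; omega
  · rw [hd] at h; omega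

end Groth.Agent.S11355
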