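import Groth.Statements.S11369
import Groth.Agent.Lib.Helper7.NefAmple

set_option autoImplicit false
universe u
open CategoryTheory CategoryTheory.Limits AlgebraicGeometry TopologicalSpace
open Variety

namespace Groth.Agent.S11369

/-- Let X be proper over an algebraically closed field k and L an invertible O_X-module generated by its
global sections. If for every integral closed subscheme C of X of dimension one the pullback of L to
C is ample, then L is ample. -/
theorem result (k : Type u) [Field k] [IsAlgClosed k] (X : Scheme.{u})
    [X.Over (Spec (CommRingCat.of k))] [IsProper (X ↘ (Spec (CommRingCat.of k)))]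
    (L : X.Modules) (hL : PicF.IsInvertible L) (hgen : Curv2.IsGloballyGenerated L)
    (hcurves : ∀ C : X.IdealSheafData, IsIntegral C.subscheme →
      topologicalKrullDim (C.support : Set X) = 1 →
        CohB1.IsAmple ((Scheme.Modules.pullback C.subschemeι).obj L)) :
    CohB1.IsAmple L := by
  apply Groth.Agent.Lib.helper7.NefAmple.isAmple_of_strictlyNef_of_gg k X hL ?_ 0 ?_
  · intro C hCi hC
    haveI := hCi
    rw [Groth.Agent.Lib.Helper18.NefPull.nefq_eq_deg k X C L
      (Groth.Agent.Lib.helper16.FLF.isFinLocFree_of_isInvertible hL)]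
    letI : C.subscheme.Over (Spec (CommRingCat.of k)) :=
      ⟨C.subschemeι ≫ (X ↘ Spec (CommRingCat.of k))⟩
    haveI : IsProper (C.subscheme ↘ Spec (CommRingCat.of k)) :=
      inferInstanceAs (IsProper (C.subschemeι ≫ (X ↘ Spec (CommRingCat.of k))))
    exact Groth.Agent.Lib.helper9.CurveAmple.deg_pos_of_isAmple k C.subscheme
      (Groth.Agent.Lib.helper7.NefAmple.dim_subscheme_eq X C hC) (hcurves C hCi hC)
  · exact Groth.Agent.Lib.helper12.GGTensor.gg_of_iso
      (Groth.Agent.Lib.Lead.ModTensor.tensorPowOne L).symm hgen

end Groth.Agent.S11369
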