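import Groth.Statements.S11377
import Groth.Agent.Lib.Helper20.K0Reg
import Groth.Agent.Lib.Helper20.KosChase
import Groth.Agent.Lib.Helper11.AmpleInv
import Groth.Agent.Lib.Helper11.TensorEpi
import Groth.Agent.Lib.Helper12.AmpleBasis
import Groth.Agent.Lib.Helper14.IsogDim1
import Groth.Agent.Lib.Helper18.HHConseq
import Groth.Agent.Lib.Helper18.HHSum0
import Groth.Agent.Lib.Lead.GrothVanish
import Groth.Agent.Lib.Lead.ModTensor

set_option autoImplicit false
universe u
open CategoryTheory CategoryTheory.Limits AlgebraicGeometry TopologicalSpace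
open CohDim

namespace Groth.Agent.S11377

/-- Let S be an integral scheme, separated and of finite type over an algebraically closed field k, with
all local rings regular, let L be an ample invertible O_S-module with tensor inverse M (so S is
quasi-projective and M^{⊗m} plays the role of O_S(-m)), and let r ≥ 0. If there is m₀ such that
H^i(S, M^{⊗m}) = 0 for every i > r and every m ≥ m₀, then H^i(S, F) = 0 for every i > r and every
coherent O_S-module F. (The published statement takes O_S(1) from a quasi-projective embedding; the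
printed proof uses only that F ⊗ O_S(m) is generated by finitely many global sections for m ≫ 0,
which holds for any ample L.) -/
theorem result (k : Type u) [Field k] [IsAlgClosed k] (S : Scheme.{u})
    [S.Over (Spec (CommRingCat.of k))] [IsSeparated (S ↘ (Spec (CommRingCat.of k)))]
    [LocallyOfFiniteType (S ↘ (Spec (CommRingCat.of k)))] [QuasiCompact (S ↘ (Spec (CommRingCat.of k)))]
    [IsIntegral S] (hreg : ∀ x : S, IsRegularLocalRing (S.presheaf.stalk x))
    (L M : S.Modules) (hL : CohB1.IsAmple L) (hM : ClSub.IsInverseOf M L) (r : ℕ)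
    (hneg : ∃ m₀ : ℕ, ∀ m : ℕ, m₀ ≤ m → ∀ i : ℕ, r < i → Subsingleton (Coh.HH S (CohB1.tensorPow M m) i))
    (F : S.Modules) (hF : Coh.IsCoh F) (i : ℕ) (hi : r < i) :
    Subsingleton (Coh.HH S F i) := by
  classical
  haveI : IsLocallyNoetherian S :=
    LocallyOfFiniteType.isLocallyNoetherian (S ↘ Spec (CommRingCat.of k))
  haveI : CompactSpace S := hL.2.1
  haveI : QuasiSeparatedSpace S :=
    Groth.Agent.Lib.helper12.AmpleBasis.quasiSeparatedSpace_of_hasAffineCover hL.1 hL.2.2
  obtain ⟨d, hd⟩ := Groth.Agent.Lib.Helper14.IsogDim.exists_nat_dim k (S ↘ Spec (CommRingCat.of k))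
  obtain ⟨m₀, hm₀⟩ := hneg
  obtain ⟨n₁, h1⟩ := Groth.Agent.Lib.helper11.AmpleInv.exists_inverse_tensorPow hL
  have hLM : ClSub.IsInverseOf L M := Groth.Agent.Lib.Lead.ModTensor.isInverseOf_symm hM
  have key : ∀ (j : ℕ) (F : S.Modules), Coh.IsCoh F → ∀ i : ℕ, r < i → d < i + j →
      Subsingleton (Coh.HH S F i) := by
    intro j
    induction j with
    | zero =>
      intro F _ i _ hdi
      exact Groth.Agent.Lib.Lead.GrothVanish.subsingleton_HH_of_dim_le S d (le_of_eq hd) F i
        (by omega)
    | succ j ih =>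
      intro F hF i hi hdi
      obtain ⟨n₀, h0⟩ :=
        Groth.Agent.Lib.helper11.TensorEpi.exists_epi_sigma_of_isAmple hL F hF
      set n := max n₀ (max n₁ m₀) with hn
      obtain ⟨N, hN, hinv⟩ := h1 n (by omega)
      obtain ⟨m, π, hπ⟩ := h0 n (by omega) N hinv
      have hinv' : ClSub.IsInverseOf (CohB1.tensorPow L n) (CohB1.tensorPow M n) :=
        Groth.Agent.Lib.Lead.ModTensor.isInverseOf_tensorPow hLM n
      obtain ⟨e⟩ := Groth.Agent.Lib.Lead.ModTensor.isInverseOf_unique hinv' hinv
      have hNi : ∀ i', r < i' → Subsingleton (Coh.HH S N i') := fun i' hi' =>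
        Groth.Agent.Lib.helper20.KosChase.subsingleton_HH_of_iso e i' (hm₀ n (by omega) i' hi')
      have hsum : ∀ i', r < i' → Subsingleton (Coh.HH S (∐ fun _ : Fin m => N) i') := by
        intro i' hi'
        haveI := hNi i' hi'
        exact (Groth.Agent.Lib.Helper18.HH.sigmaEquiv (fun _ : Fin m => N) i').toEquiv.subsingleton
      have hvb : FlatMod.IsFinLocFree (∐ fun _ : Fin m => N) :=
        Groth.Agent.Lib.helper11.AmpleInv.isFinLocFree_sigma_of_isInvertible hN m
      have hS : (ShortComplex.mk (kernel.ι π) π (kernel.condition π)).ShortExact :=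
        ShortComplex.ShortExact.mk' (ShortComplex.exact_of_f_is_kernel _ (kernelIsKernel _))
          (inferInstanceAs (Mono (kernel.ι π))) hπ
      have hK : Coh.IsCoh (kernel π) :=
        Groth.Agent.Lib.Helper20.K0Reg.coh_ker _ hS
          (Groth.Agent.Lib.Helper20.K0Reg.isCoh_of_vb hvb) hF
      have hK1 : Subsingleton (Coh.HH S (kernel π) (i + 1)) :=
        ih (kernel π) hK (i + 1) (by omega) (by omega)
      exact Groth.Agent.Lib.Helper18.HH.subsingleton_X₃ hS i (hsum i hi) hK1
  exact key (d + 1) F hF i hi (by omega)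

end Groth.Agent.S11377
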