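import Groth.Statements.S11393
import Mathlib
import Groth.Agent.Lib.Helper21.FormalLocal1
import Groth.Agent.Lib.Helper21.FormalLocal2
import Groth.Agent.Lib.Helper21.ZeroConn4
-- import your own Groth.Agent.* helpers here

set_option autoImplicit false
universe u
open CategoryTheory CategoryTheory.Limits AlgebraicGeometry TopologicalSpace
open Variety

namespace Groth.Agent.S11393

/-- Let X be proper over an algebraically closed field k and 𝓘 a quasi-coherent ideal whose closed
subscheme Y is connected (and nonempty); let Y_m be the closed subscheme of 𝓘^{m+1} and A = lim_m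
Γ(Y_m, O_{Y_m}) the ring of formal-regular functions along Y (global sections of the structure sheaf
of the formal completion), formed as the limit in commutative rings along the restriction maps
Γ(Y_{m+1}, O) → Γ(Y_m, O). Then A is a local ring, and every element a of A differs from the image
of some constant c ∈ k by an element whose image in each Γ(Y_m, O_{Y_m}) is nilpotent (so the
residue field of A is k through the structure map). (The published statement also asserts that A is
a complete local ring; that clause is not included here.) -/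
theorem result (k : Type u) [Field k] [IsAlgClosed k] (X : Scheme.{u})
    [X.Over (Spec (CommRingCat.of k))] [IsProper (X ↘ (Spec (CommRingCat.of k)))]
    (𝓘 : X.IdealSheafData) (hY : _root_.IsConnected (𝓘.support : Set X)) :
    IsLocalRing ↑(limit (Functor.ofOpSequence
        (X := fun m : ℕ => Γ((𝓘 ^ (m + 1)).subscheme, ⊤))
        (fun m : ℕ => (Scheme.IdealSheafData.inclusion (Lef.pow_succ_le 𝓘 m)).appTop))) ∧
      ∀ a : ↑(limit (Functor.ofOpSequence
        (X := fun m : ℕ => Γ((𝓘 ^ (m + 1)).subscheme, ⊤))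
        (fun m : ℕ => (Scheme.IdealSheafData.inclusion (Lef.pow_succ_le 𝓘 m)).appTop))),
        ∃ c : k, ∀ m : ℕ, IsNilpotent (Sub.sub (α := ↑Γ((𝓘 ^ (m + 1)).subscheme, ⊤))
          ((limit.π (Functor.ofOpSequence
              (X := fun m : ℕ => Γ((𝓘 ^ (m + 1)).subscheme, ⊤))
              (fun m : ℕ => (Scheme.IdealSheafData.inclusion (Lef.pow_succ_le 𝓘 m)).appTop)) (Opposite.op m)).hom a)
          (((𝓘 ^ (m + 1)).subschemeι ≫ (X ↘ Spec (CommRingCat.of k))).appTop.hom
            ((Scheme.ΓSpecIso (CommRingCat.of k)).inv.hom c))) := by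
  classical
  let F : ℕᵒᵖ ⥤ CommRingCat.{u} := Functor.ofOpSequence
    (X := fun m : ℕ => Γ((𝓘 ^ (m + 1)).subscheme, ⊤))
    (fun m : ℕ => (Scheme.IdealSheafData.inclusion (Lef.pow_succ_le 𝓘 m)).appTop)
  -- the structure maps
  let str : ∀ m : ℕ, (𝓘 ^ (m + 1)).subscheme ⟶ Spec (CommRingCat.of k) :=
    fun m => (𝓘 ^ (m + 1)).subschemeι ≫ (X ↘ Spec (CommRingCat.of k))
  have htr : ∀ m : ℕ, Groth.Agent.Lib.helper21.FormalLocal.tr F m =
      (Scheme.IdealSheafData.inclusion (Lef.pow_succ_le 𝓘 m)).appTop := fun m =>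
    Functor.ofOpSequence_map_homOfLE_succ _ m
  -- properties of each term
  have hconn : ∀ m : ℕ, ConnectedSpace ↥(𝓘 ^ (m + 1)).subscheme := fun m =>
    Groth.Agent.Lib.helper21.ZeroConn.connectedSpace_subscheme _ (by
      rw [Scheme.IdealSheafData.support_pow_succ]; exact hY)
  have hUN : ∀ (m : ℕ) (b : F.obj (Opposite.op m)), IsUnit b ∨ IsNilpotent b := by
    intro m b
    letI : (𝓘 ^ (m + 1)).subscheme.Over (Spec (CommRingCat.of k)) := ⟨str m⟩
    haveI : IsProper ((𝓘 ^ (m + 1)).subscheme ↘ Spec (CommRingCat.of k)) := by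
      change IsProper ((𝓘 ^ (m + 1)).subschemeι ≫ (X ↘ Spec (CommRingCat.of k)))
      infer_instance
    haveI := hconn m
    exact Groth.Agent.Lib.helper21.ZeroConn.isUnit_or_isNilpotent k (𝓘 ^ (m + 1)).subscheme b
  have hnt : ∀ m : ℕ, Nontrivial (F.obj (Opposite.op m)) := by
    intro m
    haveI := hconn m
    obtain ⟨x⟩ := (inferInstance : Nonempty ↥(𝓘 ^ (m + 1)).subscheme)
    haveI : Nonempty ((⊤ : (𝓘 ^ (m + 1)).subscheme.Opens)) := ⟨⟨x, trivial⟩⟩
    change Nontrivial Γ((𝓘 ^ (m + 1)).subscheme, ⊤)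
    exact Scheme.component_nontrivial _ ⊤
  refine ⟨Groth.Agent.Lib.helper21.FormalLocal.isLocalRing_of_seq F hnt hUN, fun a => ?_⟩
  -- the scalar, found at level 0
  letI : (𝓘 ^ (0 + 1)).subscheme.Over (Spec (CommRingCat.of k)) := ⟨str 0⟩
  haveI : IsProper ((𝓘 ^ (0 + 1)).subscheme ↘ Spec (CommRingCat.of k)) := by
    change IsProper ((𝓘 ^ (0 + 1)).subschemeι ≫ (X ↘ Spec (CommRingCat.of k)))
    infer_instance
  letI alg : Algebra k Γ((𝓘 ^ (0 + 1)).subscheme, ⊤) :=
    (show k →+* Γ((𝓘 ^ (0 + 1)).subscheme, ⊤) from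
      Coh.toGlobal ((𝓘 ^ (0 + 1)).subscheme ↘ Spec (CommRingCat.of k))).toAlgebra
  haveI : Module.Finite k Γ((𝓘 ^ (0 + 1)).subscheme, ⊤) :=
    Groth.Agent.Lib.helper21.FormalLocal.finite_sections_top k (𝓘 ^ (0 + 1)).subscheme
  obtain ⟨c, hc⟩ := Groth.Agent.Lib.helper21.FormalLocal.exists_sub_algebraMap_isNilpotent
    (k := k) (B := Γ((𝓘 ^ (0 + 1)).subscheme, ⊤)) (hUN 0) ((limit.π F (Opposite.op 0)).hom a)
  refine ⟨c, ?_⟩
  -- the constants are compatible with the transition maps
  have hconst : ∀ m : ℕ, (Groth.Agent.Lib.helper21.FormalLocal.tr F m).hom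
      ((str (m + 1)).appTop.hom ((Scheme.ΓSpecIso (CommRingCat.of k)).inv.hom c)) =
      (str m).appTop.hom ((Scheme.ΓSpecIso (CommRingCat.of k)).inv.hom c) := by
    intro m
    rw [htr m]
    have h1 : Scheme.IdealSheafData.inclusion (Lef.pow_succ_le 𝓘 m) ≫ str (m + 1) = str m := by
      change Scheme.IdealSheafData.inclusion (Lef.pow_succ_le 𝓘 m) ≫
        (𝓘 ^ (m + 1 + 1)).subschemeι ≫ (X ↘ Spec (CommRingCat.of k)) = _
      rw [← Category.assoc, Scheme.IdealSheafData.inclusion_subschemeι]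
    have h2 : (str m).appTop = (str (m + 1)).appTop ≫
        (Scheme.IdealSheafData.inclusion (Lef.pow_succ_le 𝓘 m)).appTop := by
      rw [← h1, Scheme.Hom.comp_appTop]
    rw [h2]
    rfl
  intro m
  induction m with
  | zero => exact hc
  | succ m ih =>
    rcases hUN (m + 1) (Sub.sub (α := ↑Γ((𝓘 ^ (m + 1 + 1)).subscheme, ⊤))
        ((limit.π F (Opposite.op (m + 1))).hom a)
        ((str (m + 1)).appTop.hom ((Scheme.ΓSpecIso (CommRingCat.of k)).inv.hom c))) with hu | hn
    · exfalso
      have hu' := hu.map (Groth.Agent.Lib.helper21.FormalLocal.tr F m).hom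
      have hmap : (Groth.Agent.Lib.helper21.FormalLocal.tr F m).hom
          (Sub.sub (α := ↑Γ((𝓘 ^ (m + 1 + 1)).subscheme, ⊤))
            ((limit.π F (Opposite.op (m + 1))).hom a)
            ((str (m + 1)).appTop.hom ((Scheme.ΓSpecIso (CommRingCat.of k)).inv.hom c))) =
          Sub.sub (α := ↑Γ((𝓘 ^ (m + 1)).subscheme, ⊤))
            ((limit.π F (Opposite.op m)).hom a)
            ((str m).appTop.hom ((Scheme.ΓSpecIso (CommRingCat.of k)).inv.hom c)) := by
        have := map_sub (Groth.Agent.Lib.helper21.FormalLocal.tr F m).hom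
          ((limit.π F (Opposite.op (m + 1))).hom a)
          ((str (m + 1)).appTop.hom ((Scheme.ΓSpecIso (CommRingCat.of k)).inv.hom c))
        rw [Groth.Agent.Lib.helper21.FormalLocal.π_tr F m a, hconst m] at this
        exact this
      rw [hmap] at hu'
      haveI := hnt m
      obtain ⟨v, hv⟩ := hu'
      obtain ⟨n, hn⟩ := ih
      rw [← hv] at hn
      exact (v ^ n).ne_zero (by rw [Units.val_pow_eq_pow_val]; exact hn)
    · exact hn

end Groth.Agent.S11393
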