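import Groth.Statements.S11404
import Groth.Agent.Lib.Helper14.RigidProd
import Groth.Agent.Lib.Helper14.RigidProd2
import Groth.Agent.Lib.Helper14.FibreH0b
import Groth.Agent.Lib.Helper14.GrpFactor
import Groth.Agent.Lib.Helper14.AutProd
import Mathlib

set_option autoImplicit false
universe u
open CategoryTheory MonoidalCategory CartesianMonoidalCategory MonObj GrpObj AlgebraicGeometry CategoryTheory.Limits
open AlgGrp

namespace Groth.Agent.S11404

/-- Over an algebraically closed field k, let A be an abelian variety (a proper, smooth, connected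
k-group scheme) and S a connected k-scheme of finite type. For every automorphism f of A × S over S
there are a unique k-morphism g : S → A and a unique group automorphism h of A with f(a, s) = (g(s)
· h(a), s) on points. (This is the functor-of-points form, over a connected base, of the
identification of the automorphism group scheme of A with the semidirect product of A, acting by
translations, and the constant group of group automorphisms; in particular the neutral component is
A.) -/
theorem result (k : Type u) [Field k] [IsAlgClosed k]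
    (A S : Over (Spec (CommRingCat.of k))) [GrpObj A] [IsProper A.hom] [Smooth A.hom] [ConnectedSpace ↥A.left]
    [LocallyOfFiniteType S.hom] [QuasiCompact S.hom] [ConnectedSpace ↥S.left]
    (f : A ⊗ S ≅ A ⊗ S) (hf : f.hom ≫ snd A S = snd A S) :
    ∃ (g : S ⟶ A) (h : A ⟶ A), IsMonHom h ∧ IsIso h ∧
      f.hom ≫ fst A S = (snd A S ≫ g) * (fst A S ≫ h) ∧
      ∀ (g' : S ⟶ A) (h' : A ⟶ A), IsMonHom h' →
        f.hom ≫ fst A S = (snd A S ≫ g') * (fst A S ≫ h') → g' = g ∧ h' = h := by
  -- H⁰ of the (unique) fibre of A
  have hηw : η[A].left ≫ A.hom = 𝟙 (Spec (CommRingCat.of k)) := Over.w η[A]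
  have h0 : ∀ s : (Spec (CommRingCat.of k) : Scheme.{u}),
      Function.Bijective (Limits.pullback.snd A.hom
        ((Spec (CommRingCat.of k)).fromSpecResidueField s)).appTop := by
    intro s
    refine Groth.Agent.Lib.Helper14.FibreH0.bijective_snd_appTop A.hom η[A].left hηw s ?_
    have : A.hom.base ⁻¹' {s} = Set.univ := by
      ext x
      simp only [Set.mem_preimage, Set.mem_singleton_iff, Set.mem_univ, iff_true]
      exact Subsingleton.elim _ _
    rw [this]
    exact isConnected_univ
  haveI : IsLocallyNoetherian A.left := LocallyOfFiniteType.isLocallyNoetherian A.hom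
  haveI : IsLocallyNoetherian S.left := LocallyOfFiniteType.isLocallyNoetherian S.hom
  -- unit-preserving endomorphisms of A are homomorphisms
  have P2 : ∀ h : A ⟶ A, η[A] ≫ h = η[A] → IsMonHom h := by
    intro h hh
    obtain ⟨g₁, h₁, hgh⟩ := Groth.Agent.Lib.Helper14.Rigid.factor_of_product
      (Spec (CommRingCat.of k)) A A A h0 η[A]
      (fun y => ⟨Set.univ, isPreconnected_univ, Set.mem_univ _, Set.mem_univ _⟩) (μ[A] ≫ h)
    exact Groth.Agent.Lib.Helper14.GrpFactor.isMonHom_of_factor h hh g₁ h₁ hgh
  -- a rational point of S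
  haveI : JacobsonSpace ↥S.left := LocallyOfFiniteType.jacobsonSpace S.hom
  obtain ⟨x, -, hx⟩ := nonempty_inter_closedPoints (X := ↥S.left) (Z := Set.univ)
    Set.univ_nonempty isOpen_univ.isLocallyClosed
  have hx' : IsClosed ({x} : Set ↥S.left) := hx
  let e : 𝟙_ (Over (Spec (CommRingCat.of k))) ⟶ S :=
    Over.homMk (pointOfClosedPoint S.hom x hx') (pointOfClosedPoint_comp S.hom x hx')
  have P1 : ∀ F : A ⊗ S ⟶ A, ∃ (g₀ : A ⟶ A) (h₀ : S ⟶ A),
      F = (fst A S ≫ g₀) * (snd A S ≫ h₀) := by
    intro F
    refine Groth.Agent.Lib.Helper14.Rigid.factor_of_product' (Spec (CommRingCat.of k)) A S A h0 e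
      ?_ (fun y => ⟨Set.univ, isPreconnected_univ, Set.mem_univ _, Set.mem_univ _⟩) F
    intro s y hy
    have hyx : y = x := hy.trans (pointOfClosedPoint_apply S.hom x hx' s)
    subst hyx
    show S.left.fromSpecResidueField y = S.left.fromSpecResidueField y ≫ S.hom ≫
      (Spec.map (residueFieldIsoBase S.hom y hx').hom ≫ S.left.fromSpecResidueField y)
    rw [← Category.assoc, ← Category.assoc, ← SpecMap_residueFieldIsoBase_inv S.hom y hx',
      ← Spec.map_comp, Iso.hom_inv_id, Spec.map_id, Category.id_comp]
  exact Groth.Agent.Lib.Helper14.AutProd.aut_structure e P1 P2 f hf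

end Groth.Agent.S11404
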