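import Groth.Statements.S11405
import Groth.Agent.Lib.Helper4.AntiAffTriv
import Groth.Agent.Lib.Helper4.AntiAffRep2

set_option autoImplicit false
universe u
open CategoryTheory MonoidalCategory CartesianMonoidalCategory MonObj GrpObj AlgebraicGeometry CategoryTheory.Limits
open AlgGrp

namespace Groth.Agent.S11405

/-- Over an algebraically closed field k, the following are equivalent for an algebraic group G (a
smooth k-group scheme of finite type): (i) the only global functions on G are the constants; (ii)
every finite-dimensional linear representation of G is trivial (every point of G with values in a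
k-algebra B acts as the identity on B ⊗ M, for every G-module structure on a finite-dimensional
k-vector space M); (iii) every action of G on a variety (integral, separated k-scheme of finite
type) with a fixed rational point is the trivial action. Stated as (i) ⇔ (ii) and (i) ⇔ (iii). -/
theorem result (k : Type u) [Field k] [IsAlgClosed k]
    (G : Over (Spec (CommRingCat.of k))) [GrpObj G] [Smooth G.hom] [QuasiCompact G.hom] :
    (Function.Bijective ((Scheme.ΓSpecIso (CommRingCat.of k)).inv ≫ G.hom.appTop).hom ↔
      ∀ (M : Type u) [AddCommGroup M] [Module k M] [Module.Finite k M] (m : VecGrp.GMod G M)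
        (B : Type u) [CommRing B] [Algebra k B] (g : VecGrp.pt k B ⟶ G), m.ρ B g = 1) ∧
    (Function.Bijective ((Scheme.ΓSpecIso (CommRingCat.of k)).inv ≫ G.hom.appTop).hom ↔
      ∀ (X : Over (Spec (CommRingCat.of k))) [LocallyOfFiniteType X.hom] [QuasiCompact X.hom] [IsSeparated X.hom]
        [IsIntegral X.left] (a : AlgGrp.Action G X) (x : 𝟙_ (Over (Spec (CommRingCat.of k))) ⟶ X), a.IsFixedPt x → a.act = snd G X) := by
  have hlft : LocallyOfFiniteType G.hom := inferInstance
  refine ⟨⟨?_, ?_⟩, ⟨?_, ?_⟩⟩
  · intro hb M _ _ _ m B _ _ g
    exact Groth.Agent.Lib.helper4.AntiAffRep.rho_eq_one m hb.2 B g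
  · intro h
    apply Groth.Agent.Lib.helper4.AntiAffTriv.bijective_of_matrices_trivial G
    intro n a ha
    exact Groth.Agent.Lib.helper4.AntiAffRep.eq_one_of_rep_trivial ha
      (fun B _ _ g => h (Fin n → k) (Groth.Agent.Lib.helper4.AntiAffRep.repOfMatrix ha) B g)
  · intro hb X _ _ _ _ a x hx
    have : IsLocallyNoetherian X.left := LocallyOfFiniteType.isLocallyNoetherian X.hom
    exact Groth.Agent.Lib.helper4.AntiAffTriv.act_trivial_of_bijective G hb X a x hx
  · intro h
    apply Groth.Agent.Lib.helper4.AntiAffTriv.bijective_of_actions_trivial G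
    intro n a ha
    have : LocallyOfFiniteType (Groth.Agent.Lib.helper4.AntiAffAct.AX (k := k) n).hom := inferInstance
    have : QuasiCompact (Groth.Agent.Lib.helper4.AntiAffAct.AX (k := k) n).hom := inferInstance
    have : IsSeparated (Groth.Agent.Lib.helper4.AntiAffAct.AX (k := k) n).hom := inferInstance
    exact h (Groth.Agent.Lib.helper4.AntiAffAct.AX n) a (Groth.Agent.Lib.helper4.AntiAffAct.origin n) ha

end Groth.Agent.S11405
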