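import Groth.Statements.S11416
import Groth.Agent.Lib.Helper4.GModCoef

set_option autoImplicit false
universe u
open CategoryTheory MonoidalCategory CartesianMonoidalCategory MonObj GrpObj AlgebraicGeometry CategoryTheory.Limits
open AlgGrp

namespace Groth.Agent.S11416

/-- Over an algebraically closed field k, let G be an algebraic group (a smooth k-group scheme of finite
type) and M a rational G-module, not necessarily finite-dimensional: a k-vector space with a
G-module structure (points of G with values in a k-algebra B act B-linearly on B ⊗ M, naturally in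
B) such that every vector lies in a finite-dimensional subspace N with B ⊗ N stable under all
B-points of G. If the representation is faithful, in the sense that every rational point of G acting
as the identity on M is the identity element, then G is affine. -/
theorem result (k : Type u) [Field k] [IsAlgClosed k]
    (G : Over (Spec (CommRingCat.of k))) [GrpObj G] [Smooth G.hom] [QuasiCompact G.hom]
    (M : Type u) [AddCommGroup M] [Module k M] (m : VecGrp.GMod G M)
    (hlf : ∀ v : M, ∃ N : Submodule k M, v ∈ N ∧ Module.Finite k ↥N ∧
      ∀ (B : Type u) [CommRing B] [Algebra k B] (g : VecGrp.pt k B ⟶ G) (x : VecGrp.W k M B),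
        x ∈ Submodule.baseChange B N → m.ρ B g x ∈ Submodule.baseChange B N)
    (hfaith : ∀ g : VecGrp.pt k k ⟶ G, m.ρ k g = 1 → g = 1) :
    IsAffine G.left := by
  have hlft : LocallyOfFiniteType G.hom := inferInstance
  have hcs := Groth.Agent.Lib.helper4.QAffGrp.compactSpace_of_quasiCompact G
  have hqs := Groth.Agent.Lib.helper4.QAffGrp.quasiSeparatedSpace_of_lft G
  apply Groth.Agent.Lib.helper4.QAffGrp.isAffine_of_rational_points G
  intro g hg
  let e : VecGrp.pt k k ≅ 𝟙_ (Over (Spec (CommRingCat.of k))) := Over.isoMk (Iso.refl _) (by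
    show 𝟙 _ ≫ 𝟙 _ = Spec.map (CommRingCat.ofHom (algebraMap k k))
    rw [Category.id_comp]
    exact (Spec.map_id _).symm)
  have h1 : (e.hom ≫ g) = 1 := by
    apply hfaith
    rw [← map_one (m.ρ k)]
    apply Groth.Agent.Lib.helper4.GModCoef.rho_eq_of_toSpecΓ_eq
    have h2 : (e.hom ≫ g) ≫ Groth.Agent.Lib.helper4.QAffGrp.jA G =
        (1 : VecGrp.pt k k ⟶ G) ≫ Groth.Agent.Lib.helper4.QAffGrp.jA G := by
      rw [Category.assoc, hg, MonObj.comp_one, MonObj.one_comp]
    exact congrArg (fun f => f.left) h2
  calc g = e.inv ≫ e.hom ≫ g := by simp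
    _ = e.inv ≫ 1 := by rw [h1]
    _ = 1 := MonObj.comp_one _

end Groth.Agent.S11416
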