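import Groth.Statements.S11418
import Groth.Agent.Lib.Helper14.ActPts
import Mathlib

set_option autoImplicit false
universe u
open CategoryTheory MonoidalCategory CartesianMonoidalCategory MonObj GrpObj AlgebraicGeometry CategoryTheory.Limits
open AlgGrp

namespace Groth.Agent.S11418

/-- Over an algebraically closed field k, let G be an affine algebraic group (smooth affine k-group
scheme of finite type) and π : X → Y a principal G-bundle of k-schemes of finite type: G acts on X,
π is G-invariant, faithfully flat, and the square formed by the action, the second projection G × X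
→ X and π is cartesian. Then the map θ sending a G-equivariant morphism f : X → G (for the
conjugation action on G, i.e. f(g·x) = g f(x) g⁻¹ on points) to the automorphism x ↦ f(x)·x is a
bijection onto the bundle automorphisms: every G-equivariant automorphism φ of X with π ∘ φ = π
equals θ(f) for exactly one such f. -/
theorem result (k : Type u) [Field k] [IsAlgClosed k]
    (G X Y : Over (Spec (CommRingCat.of k))) [GrpObj G] [Smooth G.hom] [QuasiCompact G.hom] [IsAffine G.left]
    [LocallyOfFiniteType X.hom] [QuasiCompact X.hom] [LocallyOfFiniteType Y.hom] [QuasiCompact Y.hom]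
    (a : AlgGrp.Action G X) (π : X ⟶ Y) (hinv : a.act ≫ π = snd G X ≫ π) [Flat π.left] [Surjective π.left]
    (hcart : IsPullback (snd G X) a.act π π)
    (φ : X ≅ X) (hφ : φ.hom ≫ π = π) (hφeq : (G ◁ φ.hom) ≫ a.act = a.act ≫ φ.hom) :
    ∃! f : X ⟶ G, (∀ (S : Over (Spec (CommRingCat.of k))) (g : S ⟶ G) (x : S ⟶ X),
        lift g x ≫ a.act ≫ f = g * (x ≫ f) * g⁻¹) ∧ φ.hom = lift f (𝟙 X) ≫ a.act := by
  have hw : 𝟙 X ≫ π = φ.hom ≫ π := by rw [Category.id_comp, hφ]
  let u : X ⟶ G ⊗ X := hcart.lift (𝟙 X) φ.hom hw
  have hu1 : u ≫ snd G X = 𝟙 X := hcart.lift_fst _ _ _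
  have hu2 : u ≫ a.act = φ.hom := hcart.lift_snd _ _ _
  let f : X ⟶ G := u ≫ fst G X
  have hu : u = lift f (𝟙 X) := by
    apply CartesianMonoidalCategory.hom_ext
    · simp only [lift_fst, f]
    · rw [lift_snd, hu1]
  have hφf : lift f (𝟙 X) ≫ a.act = φ.hom := by rw [← hu, hu2]
  refine ⟨f, ⟨?_, hφf.symm⟩, ?_⟩
  · intro S g x
    have key : lift (lift g x ≫ a.act ≫ f) (lift g x ≫ a.act) =
        lift (g * (x ≫ f) * g⁻¹) (lift g x ≫ a.act) := by
      apply hcart.hom_ext
      · simp only [lift_snd]
      · have e1 : lift (lift g x ≫ a.act ≫ f) (lift g x ≫ a.act) =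
            (lift g x ≫ a.act) ≫ lift f (𝟙 X) := by
          rw [comp_lift, Category.comp_id, Category.assoc]
        rw [e1, Category.assoc, hφf]
        rw [← Groth.Agent.Lib.Helper14.ActPts.act_mul_pt a, inv_mul_cancel_right,
          Groth.Agent.Lib.Helper14.ActPts.act_mul_pt a]
        have e2 : lift (x ≫ f) x = x ≫ lift f (𝟙 X) := by
          rw [comp_lift, Category.comp_id]
        rw [e2, Category.assoc x, hφf]
        have e3 : lift g (x ≫ φ.hom) = lift g x ≫ (G ◁ φ.hom) := by
          apply CartesianMonoidalCategory.hom_ext <;> simp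
        rw [e3]
        simp only [Category.assoc]
        rw [hφeq]
    have := congrArg (fun m => m ≫ fst G X) key
    simpa only [lift_fst] using this
  · rintro f' ⟨-, hf'⟩
    have : lift f' (𝟙 X) = u := by
      apply hcart.hom_ext
      · rw [lift_snd, hu1]
      · rw [hu2, ← hf']
    have h2 := congrArg (fun m => m ≫ fst G X) this
    simpa only [lift_fst] using h2

end Groth.Agent.S11418
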