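import Groth.Statements.S11420
import Groth.Agent.Lib.Helper14.AlgClosedPts
import Groth.Agent.Lib.Helper14.ProdAction
import Mathlib

set_option autoImplicit false
universe u
open CategoryTheory MonoidalCategory CartesianMonoidalCategory MonObj GrpObj AlgebraicGeometry CategoryTheory.Limits
open AlgGrp

namespace Groth.Agent.S11420

/-- Over an algebraically closed field k, let X and Y be complete varieties (proper, integral, separated
k-schemes of finite type) and let a connected k-group scheme of finite type G act on X × Y. Then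
there are unique actions of G on X and on Y such that the given action is the product action g·(x,
y) = (g·x, g·y). (This is the form, for actions of connected group schemes, of the identification of
the neutral component of the automorphism group scheme of X × Y with the product of those of X and
Y; the representability of these group schemes is not asserted here.) -/
theorem result (k : Type u) [Field k] [IsAlgClosed k]
    (G X Y : Over (Spec (CommRingCat.of k))) [GrpObj G] [LocallyOfFiniteType G.hom] [QuasiCompact G.hom] [ConnectedSpace ↥G.left]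
    [IsProper X.hom] [IsIntegral X.left]
    [IsProper Y.hom] [IsIntegral Y.left]
    (a : AlgGrp.Action G (X ⊗ Y)) :
    ∃ (b : AlgGrp.Action G X) (c : AlgGrp.Action G Y),
      a.act = lift ((G ◁ fst X Y) ≫ b.act) ((G ◁ snd X Y) ≫ c.act) ∧
      ∀ (b' : AlgGrp.Action G X) (c' : AlgGrp.Action G Y),
        a.act = lift ((G ◁ fst X Y) ≫ b'.act) ((G ◁ snd X Y) ≫ c'.act) → b' = b ∧ c' = c := by
  haveI : IsSeparated X.hom := inferInstance
  haveI : IsSeparated Y.hom := inferInstance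
  obtain ⟨x₁⟩ := Groth.Agent.Lib.Helper14.AlgClosedPts.exists_point X
  obtain ⟨y₁⟩ := Groth.Agent.Lib.Helper14.AlgClosedPts.exists_point Y
  -- first factor
  let σ₁ : Y ⊗ (G ⊗ X) ⟶ G ⊗ (X ⊗ Y) :=
    lift (snd Y (G ⊗ X) ≫ fst G X) (lift (snd Y (G ⊗ X) ≫ snd G X) (fst Y (G ⊗ X)))
  let ρ₁ : G ⊗ (X ⊗ Y) ⟶ Y ⊗ (G ⊗ X) :=
    lift (snd G (X ⊗ Y) ≫ snd X Y) (lift (fst G (X ⊗ Y)) (snd G (X ⊗ Y) ≫ fst X Y))
  have hρσ₁ : ρ₁ ≫ σ₁ = 𝟙 _ := by
    apply CartesianMonoidalCategory.hom_ext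
    · simp [ρ₁, σ₁]
    · apply CartesianMonoidalCategory.hom_ext <;> simp [ρ₁, σ₁]
  have hone : ∀ {T : Over (Spec (CommRingCat.of k))} (m : T ⟶ X ⊗ Y),
      lift (toUnit T ≫ η[G]) m ≫ a.act = m := by
    intro T m
    have : lift (toUnit T ≫ η[G]) m = lift (toUnit T) m ≫ (η[G] ▷ (X ⊗ Y)) := by
      apply CartesianMonoidalCategory.hom_ext
      · simp only [Category.assoc, lift_fst, whiskerRight_fst, lift_fst_assoc]
      · simp only [Category.assoc, lift_snd, whiskerRight_snd]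
    rw [this, Category.assoc, a.one_act]
    simp only [leftUnitor_hom, lift_snd]
  obtain ⟨ψ₁, hψ₁⟩ := Groth.Agent.Lib.Helper14.AlgClosedPts.rigidity_pointed Y G X X η[G]
    (σ₁ ≫ a.act ≫ fst X Y) (𝟙 X) (by
      have : (Y ◁ lift (toUnit X ≫ η[G]) (𝟙 X)) ≫ σ₁ =
          lift (toUnit (Y ⊗ X) ≫ η[G]) (lift (snd Y X) (fst Y X)) := by
        apply CartesianMonoidalCategory.hom_ext
        · simp only [σ₁, Category.assoc, lift_fst, whiskerLeft_snd_assoc]
          rw [← Category.assoc]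
          congr 1
          exact toUnit_unique _ _
        · apply CartesianMonoidalCategory.hom_ext <;> simp [σ₁]
      rw [← Category.assoc, this, ← Category.assoc, hone]
      simp)
  have h₁ : a.act ≫ fst X Y = (G ◁ fst X Y) ≫ ψ₁ := by
    have : a.act ≫ fst X Y = ρ₁ ≫ (σ₁ ≫ a.act ≫ fst X Y) := by
      rw [← Category.assoc, hρσ₁, Category.id_comp]
    rw [this, hψ₁, ← Category.assoc]
    congr 1
    apply CartesianMonoidalCategory.hom_ext <;> simp [ρ₁]
  -- second factor
  let σ₂ : X ⊗ (G ⊗ Y) ⟶ G ⊗ (X ⊗ Y) :=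
    lift (snd X (G ⊗ Y) ≫ fst G Y) (lift (fst X (G ⊗ Y)) (snd X (G ⊗ Y) ≫ snd G Y))
  let ρ₂ : G ⊗ (X ⊗ Y) ⟶ X ⊗ (G ⊗ Y) :=
    lift (snd G (X ⊗ Y) ≫ fst X Y) (lift (fst G (X ⊗ Y)) (snd G (X ⊗ Y) ≫ snd X Y))
  have hρσ₂ : ρ₂ ≫ σ₂ = 𝟙 _ := by
    apply CartesianMonoidalCategory.hom_ext
    · simp [ρ₂, σ₂]
    · apply CartesianMonoidalCategory.hom_ext <;> simp [ρ₂, σ₂]
  obtain ⟨ψ₂, hψ₂⟩ := Groth.Agent.Lib.Helper14.AlgClosedPts.rigidity_pointed X G Y Y η[G]
    (σ₂ ≫ a.act ≫ snd X Y) (𝟙 Y) (by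
      have : (X ◁ lift (toUnit Y ≫ η[G]) (𝟙 Y)) ≫ σ₂ =
          lift (toUnit (X ⊗ Y) ≫ η[G]) (𝟙 (X ⊗ Y)) := by
        apply CartesianMonoidalCategory.hom_ext
        · simp only [σ₂, Category.assoc, lift_fst, whiskerLeft_snd_assoc]
          rw [← Category.assoc]
          congr 1
          exact toUnit_unique _ _
        · apply CartesianMonoidalCategory.hom_ext <;> simp [σ₂]
      rw [← Category.assoc, this, ← Category.assoc, hone]
      simp)
  have h₂ : a.act ≫ snd X Y = (G ◁ snd X Y) ≫ ψ₂ := by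
    have : a.act ≫ snd X Y = ρ₂ ≫ (σ₂ ≫ a.act ≫ snd X Y) := by
      rw [← Category.assoc, hρσ₂, Category.id_comp]
    rw [this, hψ₂, ← Category.assoc]
    congr 1
    apply CartesianMonoidalCategory.hom_ext <;> simp [ρ₂]
  exact Groth.Agent.Lib.Helper14.ProdAction.product_action_of_factor G X Y a x₁ y₁ ψ₁ ψ₂ h₁ h₂

end Groth.Agent.S11420
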