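import Groth.Statements.S14578
import Groth.Agent.Lib.Helper14.AntiAffConn2
import Groth.Agent.Lib.Helper14.ConnDomain
import Groth.Agent.Lib.Helper14.SepGrpField
import Groth.Agent.Lib.Helper14.GrpFactor

set_option autoImplicit false
universe u
open CategoryTheory MonoidalCategory CartesianMonoidalCategory MonObj GrpObj AlgebraicGeometry CategoryTheory.Limits
open AlgGrp

namespace Groth.Agent.S14578

/-- Let k be a field, H an anti-affine k-group scheme of finite type (its only global functions are the
constants), G a k-group scheme of finite type and f : H → G a morphism of k-schemes with f(e_H) =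
e_G. Then f is a homomorphism. (The second assertion, that f factors through the centre of the
neutral component of G, is not restated here.) -/
theorem result (k : Type u) [Field k]
    (H G : Over (Spec (CommRingCat.of k))) [GrpObj H] [GrpObj G] [LocallyOfFiniteType H.hom] [QuasiCompact H.hom]
    [LocallyOfFiniteType G.hom] [QuasiCompact G.hom]
    (hH : Function.Bijective ((Scheme.ΓSpecIso (CommRingCat.of k)).inv ≫ H.hom.appTop).hom) (f : H ⟶ G) (hf : η[H] ≫ f = η[G]) : IsMonHom f := by
  classical
  haveI : IsIso H.hom.appTop := Groth.Agent.Lib.Helper14.Kunneth.isIso_appTop_of_bijective H hH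
  haveI : CompactSpace H.left :=
    (HasAffineProperty.iff_of_isAffine (P := @QuasiCompact) (f := H.hom)).mp inferInstance
  haveI : IsLocallyNoetherian H.left := LocallyOfFiniteType.isLocallyNoetherian H.hom
  haveI : QuasiSeparatedSpace H.left := inferInstance
  haveI : LocallyOfFinitePresentation H.hom :=
    LocallyOfFinitePresentation.iff_locallyOfFiniteType.mpr inferInstance
  haveI : Flat H.hom := inferInstance
  haveI : UniversallyOpen H.hom := inferInstance
  haveI : ConnectedSpace H.left :=
    Groth.Agent.Lib.Helper14.ConnDomain.connectedSpace_of_bijective H hH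
  haveI : IsSeparated G.hom := Groth.Agent.Lib.Helper14.SepGrpField.isSeparated_of_grpObj G
  -- the commutator-like map
  set C : H ⊗ H ⟶ G := (fst H H ≫ f)⁻¹ * (μ[H] ≫ f) with hC
  have hCe : (H ◁ η[H]) ≫ C = toUnit _ ≫ η[G] := by
    rw [hC, comp_mul, comp_inv]
    have e1 : (H ◁ η[H]) ≫ fst H H ≫ f = fst H (𝟙_ _) ≫ f := by
      rw [← Category.assoc, whiskerLeft_fst]
    have e2 : (H ◁ η[H]) ≫ μ[H] ≫ f = fst H (𝟙_ _) ≫ f := by
      rw [← Category.assoc, MonObj.mul_one]
      rfl
    rw [e1, e2, inv_mul_cancel, Hom.one_def]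
  have key := Groth.Agent.Lib.Helper14.AntiAffConn2.rigidity_connected' H H G η[H] η[H] C η[G] hCe
  have hmul : μ[H] ≫ f = (fst H H ≫ f) * (snd H H ≫ (lift (toUnit H ≫ η[H]) (𝟙 H) ≫ C)) := by
    rw [← key, hC]
    group
  exact Groth.Agent.Lib.Helper14.GrpFactor.isMonHom_of_factor f hf f _ hmul

end Groth.Agent.S14578
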