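import Groth.Statements.S11421
import Groth.Agent.S14578
import Groth.Agent.Lib.Helper14.ExistsPoint

set_option autoImplicit false
universe u
open CategoryTheory MonoidalCategory CartesianMonoidalCategory MonObj GrpObj AlgebraicGeometry CategoryTheory.Limits
open AlgGrp

namespace Groth.Agent.S11421

/-- Over an algebraically closed field k, let G be an algebraic group (smooth k-group scheme of finite
type) whose only global functions are the constants, H a connected algebraic group, S a connected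
k-scheme of finite type and f : G × S → H a morphism of k-schemes. Then there are a unique
k-morphism φ : S → H and a unique homomorphism ψ : G → H with f(g, s) = φ(s) · ψ(g) on points. (This
is the decomposition, over a connected base, behind the identification of the functor of morphisms
from G to H with H × Hom_gp(G, H); the published statement is the equivalence of representability of
that functor with anti-affineness of G, whose converse direction is not stated here.) -/
theorem result (k : Type u) [Field k] [IsAlgClosed k]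
    (G H S : Over (Spec (CommRingCat.of k))) [GrpObj G] [Smooth G.hom] [QuasiCompact G.hom]
    (hG : Function.Bijective ((Scheme.ΓSpecIso (CommRingCat.of k)).inv ≫ G.hom.appTop).hom)
    [GrpObj H] [Smooth H.hom] [QuasiCompact H.hom] [ConnectedSpace ↥H.left]
    [LocallyOfFiniteType S.hom] [QuasiCompact S.hom] [ConnectedSpace ↥S.left]
    (f : G ⊗ S ⟶ H) :
    ∃ (φ : S ⟶ H) (ψ : G ⟶ H), IsMonHom ψ ∧ f = (snd G S ≫ φ) * (fst G S ≫ ψ) ∧
      ∀ (φ' : S ⟶ H) (ψ' : G ⟶ H), IsMonHom ψ' → f = (snd G S ≫ φ') * (fst G S ≫ ψ') → φ' = φ ∧ ψ' = ψ := by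
  classical
  haveI : LocallyOfFiniteType G.hom := inferInstance
  haveI : LocallyOfFiniteType H.hom := inferInstance
  haveI : IsIso G.hom.appTop := Groth.Agent.Lib.Helper14.Kunneth.isIso_appTop_of_bijective G hG
  haveI : CompactSpace G.left :=
    (HasAffineProperty.iff_of_isAffine (P := @QuasiCompact) (f := G.hom)).mp inferInstance
  haveI : IsLocallyNoetherian G.left := LocallyOfFiniteType.isLocallyNoetherian G.hom
  haveI : QuasiSeparatedSpace G.left := inferInstance
  haveI : Flat G.hom := inferInstance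
  haveI : UniversallyOpen G.hom := inferInstance
  haveI : IsLocallyNoetherian S.left := LocallyOfFiniteType.isLocallyNoetherian S.hom
  haveI : IsSeparated H.hom := Groth.Agent.Lib.Helper14.SepGrpField.isSeparated_of_grpObj H
  haveI : Nonempty S.left := inferInstance
  obtain ⟨s₀⟩ := Groth.Agent.Lib.Helper14.ExistsPoint.exists_point S
  -- the inclusion `S → G × S`, `s ↦ (e, s)`
  set i₀ : S ⟶ G ⊗ S := lift (toUnit S ≫ η[G]) (𝟙 S) with hi
  -- the inclusion `G → G × S`, `g ↦ (g, s₀)`
  set j : G ⟶ G ⊗ S := lift (𝟙 G) (toUnit G ≫ s₀) with hj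
  set φ : S ⟶ H := i₀ ≫ f with hφ
  set f' : G ⊗ S ⟶ H := (snd G S ≫ φ)⁻¹ * f with hf'
  set ψ : G ⟶ H := j ≫ f' with hψ
  have hisnd : i₀ ≫ snd G S = 𝟙 S := by rw [hi, lift_snd]
  have hifst : i₀ ≫ fst G S = toUnit S ≫ η[G] := by rw [hi, lift_fst]
  have hjfst : j ≫ fst G S = 𝟙 G := by rw [hj, lift_fst]
  have hif' : i₀ ≫ f' = 1 := by
    rw [hf', comp_mul, comp_inv, ← Category.assoc, hisnd, Category.id_comp, ← hφ, inv_mul_cancel]
  have hs₀i : η[G] ≫ j = s₀ ≫ i₀ := by
    rw [hj, hi, comp_lift, comp_lift, Category.comp_id, Category.comp_id]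
    congr 1
    · rw [← Category.assoc, toUnit_unique (s₀ ≫ toUnit S) (𝟙 _), Category.id_comp]
    · rw [← Category.assoc, toUnit_unique (η[G] ≫ toUnit G) (𝟙 _), Category.id_comp]
  have hψe : η[G] ≫ ψ = η[H] := by
    rw [hψ, ← Category.assoc, hs₀i, Category.assoc, hif', Hom.one_def, ← Category.assoc,
      toUnit_unique (s₀ ≫ toUnit S) (𝟙 _), Category.id_comp]
  set D : G ⊗ S ⟶ H := f' * (fst G S ≫ ψ)⁻¹ with hD
  have hwj : fst G (𝟙_ _) ≫ j = G ◁ s₀ := by
    rw [hj, comp_lift, Category.comp_id]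
    apply CartesianMonoidalCategory.hom_ext
    · rw [lift_fst, whiskerLeft_fst]
    · rw [lift_snd, whiskerLeft_snd, ← Category.assoc]
      congr 1
      exact toUnit_unique _ _
  have hDe : (G ◁ s₀) ≫ D = toUnit _ ≫ η[H] := by
    rw [hD, comp_mul, comp_inv]
    have e1 : (G ◁ s₀) ≫ fst G S ≫ ψ = (G ◁ s₀) ≫ f' := by
      rw [← Category.assoc, whiskerLeft_fst, hψ, ← Category.assoc, hwj]
    rw [e1, mul_inv_cancel, Hom.one_def]
  have key := Groth.Agent.Lib.Helper14.AntiAffConn2.rigidity_connected' G S H η[G] s₀ D η[H] hDe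
  have hiD : i₀ ≫ D = 1 := by
    rw [hD, comp_mul, comp_inv, hif', ← Category.assoc, hifst, Category.assoc, hψe,
      ← Hom.one_def, inv_one, _root_.one_mul]
  have hD1 : D = 1 := by
    rw [key, ← hi, hiD]
    exact comp_one _
  have hf'ψ : f' = fst G S ≫ ψ := by
    have : f' * (fst G S ≫ ψ)⁻¹ = 1 := hD1
    exact mul_inv_eq_one.mp this
  have hfφψ : f = (snd G S ≫ φ) * (fst G S ≫ ψ) := by
    rw [← hf'ψ, hf']
    group
  have hψhom : IsMonHom ψ := Groth.Agent.S14578.result k G H hG ψ hψe
  refine ⟨φ, ψ, hψhom, hfφψ, ?_⟩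
  intro φ' ψ' hψ' hfφψ'
  have hφ' : φ' = φ := by
    have h1 : i₀ ≫ f = (i₀ ≫ snd G S ≫ φ') * (i₀ ≫ fst G S ≫ ψ') := by
      conv_lhs => rw [hfφψ']
      rw [comp_mul]
    rw [← Category.assoc, hisnd, Category.id_comp, ← Category.assoc, hifst, Category.assoc,
      IsMonHom.one_hom, ← Hom.one_def, _root_.mul_one] at h1
    rw [hφ, h1]
  refine ⟨hφ', ?_⟩
  rw [hφ'] at hfφψ'
  have h2 : fst G S ≫ ψ' = fst G S ≫ ψ := by
    have h3 : (snd G S ≫ φ) * (fst G S ≫ ψ') = (snd G S ≫ φ) * (fst G S ≫ ψ) := by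
      rw [← hfφψ', ← hfφψ]
    exact mul_left_cancel h3
  have h4 := congrArg (fun t => j ≫ t) h2
  simp only [← Category.assoc, hjfst, Category.id_comp] at h4
  exact h4

end Groth.Agent.S11421
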