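import Groth.Statements.S11423
import Groth.Agent.Lib.Helper14.HomogBundle
import Groth.Agent.Lib.Helper14.Kunneth
import Groth.Agent.Lib.Helper14.ExistsPoint
import Groth.Agent.Lib.Helper14.DescOver
import Groth.Agent.Lib.Helper14.TorsorSq
import Groth.Agent.Lib.Helper14.PrincBundle

set_option autoImplicit false
universe u
open CategoryTheory MonoidalCategory CartesianMonoidalCategory MonObj GrpObj AlgebraicGeometry CategoryTheory.Limits
open AlgGrp

namespace Groth.Agent.S11423

/-- Over an algebraically closed field k, let G be a connected affine algebraic group (smooth, affine,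
connected k-group scheme of finite type), A an abelian variety (proper, smooth, connected k-group
scheme) and π : X → A a principal G-bundle of k-schemes of finite type (G acts on X, π is
G-invariant and faithfully flat, and the square formed by the action, the second projection and π is
cartesian). Suppose π is trivialized by an anti-affine extension of A: there are an algebraic group
𝒢 whose only global functions are the constants, a flat surjective homomorphism φ : 𝒢 → A with
affine kernel, and a morphism σ : 𝒢 → X with π ∘ σ = φ (a section of the pulled-back bundle). Then π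
is homogeneous: for every rational point a of A there is a G-equivariant automorphism of X over the
translation of A by a. (The published statement is the equivalence; only this direction is stated
here.) -/
theorem result (k : Type u) [Field k] [IsAlgClosed k]
    (G X A : Over (Spec (CommRingCat.of k))) [GrpObj G] [Smooth G.hom] [QuasiCompact G.hom] [IsAffine G.left] [ConnectedSpace ↥G.left]
    [LocallyOfFiniteType X.hom] [QuasiCompact X.hom]
    [GrpObj A] [IsProper A.hom] [Smooth A.hom] [ConnectedSpace ↥A.left]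
    (a : AlgGrp.Action G X) (π : X ⟶ A) (hinv : a.act ≫ π = snd G X ≫ π) [Flat π.left] [Surjective π.left]
    (hcart : IsPullback (snd G X) a.act π π)
    (E : Over (Spec (CommRingCat.of k))) [GrpObj E] [Smooth E.hom] [QuasiCompact E.hom]
    (hE : Function.Bijective ((Scheme.ΓSpecIso (CommRingCat.of k)).inv ≫ E.hom.appTop).hom)
    (φ : E ⟶ A) [IsMonHom φ] [Flat φ.left] [Surjective φ.left]
    (Hk : Over (Spec (CommRingCat.of k))) [GrpObj Hk] (h : Hk ⟶ E) [IsMonHom h] (hk : AlgGrp.IsKernel h φ) [IsAffine Hk.left]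
    (σ : E ⟶ X) (hσ : σ ≫ π = φ)
    (t : 𝟙_ (Over (Spec (CommRingCat.of k))) ⟶ A) :
    ∃ ψ : X ≅ X, (G ◁ ψ.hom) ≫ a.act = a.act ≫ ψ.hom ∧
      ψ.hom ≫ π = π ≫ (lift (𝟙 A) (toUnit A ≫ t) ≫ μ[A]) := by
  classical
  -- Step A: a rational point `e₀` of `E` over `t`
  obtain ⟨e₀, he₀⟩ : ∃ e₀ : 𝟙_ (Over (Spec (CommRingCat.of k))) ⟶ E, e₀ ≫ φ = t := by
    have ht : t.left ≫ A.hom = 𝟙 _ := Over.w t
    let F : Over (Spec (CommRingCat.of k)) := Over.mk (pullback.fst φ.left t.left ≫ E.hom)
    have hFhom : F.hom = pullback.snd φ.left t.left := by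
      change pullback.fst φ.left t.left ≫ E.hom = _
      rw [← Over.w φ, ← Category.assoc, pullback.condition, Category.assoc, ht, Category.comp_id]
    haveI : LocallyOfFiniteType t.left := by
      haveI : LocallyOfFiniteType (t.left ≫ A.hom) := by rw [ht]; infer_instance
      exact locallyOfFiniteType_of_comp t.left A.hom
    haveI : LocallyOfFiniteType F.hom := by
      change LocallyOfFiniteType (pullback.fst φ.left t.left ≫ E.hom)
      infer_instance
    haveI : Nonempty ↥F.left := by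
      obtain ⟨e, he⟩ := φ.left.surjective (t.left (IsLocalRing.closedPoint k))
      obtain ⟨z, -, -⟩ := Scheme.Pullback.exists_preimage_pullback (f := φ.left) (g := t.left) e
        (IsLocalRing.closedPoint k) he
      exact ⟨z⟩
    obtain ⟨p⟩ := Groth.Agent.Lib.Helper14.ExistsPoint.exists_point F
    have hp : p.left ≫ pullback.snd φ.left t.left = 𝟙 _ := by
      rw [← hFhom]; exact Over.w p
    refine ⟨Over.homMk (p.left ≫ pullback.fst φ.left t.left) ?_, ?_⟩
    · rw [Category.assoc]
      exact Over.w p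
    · ext
      change (p.left ≫ pullback.fst φ.left t.left) ≫ φ.left = t.left
      rw [Category.assoc, pullback.condition, ← Category.assoc, hp, Category.id_comp]
  -- Step B: the cocycle `δ` and its factorisation through `Hk`
  have hx : (snd Hk E ≫ σ) ≫ π = (((fst Hk E ≫ h) * snd Hk E) ≫ σ) ≫ π := by
    rw [Category.assoc, Category.assoc, hσ, MonObj.mul_comp,
      Groth.Agent.Lib.Helper14.KerPullback.comp_eq_one_of_isKernel h φ hk, _root_.one_mul]
  obtain ⟨δ, hδ⟩ := Groth.Agent.Lib.Helper14.HomogBundle.exists_act_eq a π hcart _ _ hx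
  haveI : IsIso E.hom.appTop := Groth.Agent.Lib.Helper14.Kunneth.isIso_appTop_of_bijective E hE
  haveI : CompactSpace ↥E.left :=
    (HasAffineProperty.iff_of_isAffine (P := @QuasiCompact) (f := E.hom)).mp inferInstance
  haveI : IsLocallyNoetherian E.left := LocallyOfFiniteType.isLocallyNoetherian E.hom
  haveI : QuasiSeparatedSpace ↥E.left := inferInstance
  haveI : IsIso (fst Hk E).left.appTop := Groth.Agent.Lib.Helper14.Kunneth.isIso_fst_appTop Hk E
  obtain ⟨d, hd⟩ := Groth.Agent.Lib.Helper14.DescOver.exists_factor_of_isIso_appTop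
    (fst Hk E).left δ.left
  let d₀ : Hk ⟶ G := lift (𝟙 Hk) (toUnit Hk ≫ η[E]) ≫ δ
  have hδd : δ = fst Hk E ≫ d₀ := by
    ext
    have h1 : d₀.left = d := by
      change (lift (𝟙 Hk) (toUnit Hk ≫ η[E])).left ≫ δ.left = d
      rw [hd, ← Category.assoc, ← Over.comp_left, lift_fst]
      simp
    change δ.left = (fst Hk E).left ≫ d₀.left
    rw [h1, hd]
  have hd₀ : lift (fst Hk E ≫ d₀) (snd Hk E ≫ σ) ≫ a.act = ((fst Hk E ≫ h) * snd Hk E) ≫ σ := by
    rw [← hδd]; exact hδ
  -- Step C: `Θ` is fpqc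
  have sqΘ := Groth.Agent.Lib.Helper14.HomogBundle.isPullback_Theta a π hcart φ σ hσ
  set Θ := Groth.Agent.Lib.Helper14.HomogBundle.Theta a σ with hΘdef
  have sqΘ' : IsPullback Θ.left (snd G E).left π.left φ.left := by
    have := sqΘ.map (Over.forget _)
    simpa only [Over.forget_obj, Over.forget_map] using this
  haveI : IsSeparated A.hom := inferInstance
  haveI : QuasiCompact φ.left := by
    haveI : QuasiCompact (φ.left ≫ A.hom) := by rw [Over.w φ]; infer_instance
    exact QuasiCompact.of_comp φ.left A.hom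
  haveI : Flat Θ.left := MorphismProperty.of_isPullback sqΘ'.flip inferInstance
  haveI : Surjective Θ.left := MorphismProperty.of_isPullback sqΘ'.flip inferInstance
  haveI : QuasiCompact Θ.left := MorphismProperty.of_isPullback sqΘ'.flip inferInstance
  haveI : EffectiveEpi Θ.left := inferInstance
  -- Step D: descend `ψ'`
  let ψ' : G ⊗ E ⟶ X := lift (fst G E) ((snd G E * (toUnit _ ≫ e₀)) ≫ σ) ≫ a.act
  have hψ'pt : ∀ {Z : Over (Spec (CommRingCat.of k))} (m : Z ⟶ G ⊗ E),
      m ≫ ψ' = lift (m ≫ fst G E) (((m ≫ snd G E) * (toUnit Z ≫ e₀)) ≫ σ) ≫ a.act := by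
    intro Z m
    change m ≫ lift (fst G E) ((snd G E * (toUnit _ ≫ e₀)) ≫ σ) ≫ a.act = _
    rw [← Category.assoc, comp_lift, ← Category.assoc m, MonObj.comp_mul, ← Category.assoc m,
      toUnit_unique (m ≫ toUnit (G ⊗ E)) (toUnit Z)]
  obtain ⟨ψ, hψ⟩ := Groth.Agent.Lib.Helper14.DescOver.exists_desc_over Θ ψ' (by
    intro Z m₁ m₂ hm
    rw [hψ'pt, hψ'pt]
    exact Groth.Agent.Lib.Helper14.HomogBundle.descent_condition a π hcart φ h hk σ hσ d₀ hd₀ e₀
      m₁ m₂ hm)
  -- Step E1: `ψ` covers the translation by `t`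
  set τ : A ⟶ A := lift (𝟙 A) (toUnit A ≫ t) ≫ μ[A] with hτdef
  haveI : Epi Θ.left := inferInstance
  have hcover : ψ ≫ π = π ≫ τ := by
    ext
    rw [Over.comp_left, Over.comp_left, ← cancel_epi Θ.left, ← Over.comp_left, ← Over.comp_left,
      ← Over.comp_left, ← Over.comp_left]
    congr 1
    rw [← Category.assoc, hψ, ← Category.assoc, sqΘ.w]
    change (lift (fst G E) ((snd G E * (toUnit _ ≫ e₀)) ≫ σ) ≫ a.act) ≫ π = _
    rw [Groth.Agent.Lib.Helper14.HomogBundle.act_comp_pi a π hcart, Category.assoc, hσ,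
      MonObj.mul_comp, Category.assoc, he₀, hτdef, Category.assoc]
    have h9 : snd G E ≫ φ ≫ lift (𝟙 A) (toUnit A ≫ t) ≫ μ[A] =
        lift (snd G E ≫ φ) (toUnit (G ⊗ E) ≫ t) ≫ μ[A] := by
      rw [← Category.assoc, ← Category.assoc, comp_lift, Category.comp_id,
        ← Category.assoc (snd G E ≫ φ),
        toUnit_unique ((snd G E ≫ φ) ≫ toUnit A) (toUnit (G ⊗ E))]
    rw [h9, Hom.mul_def]
  -- Step E2: `ψ` is equivariant
  have sqW := Groth.Agent.Lib.Helper14.PrincBundle.isPullback_whiskerLeft_snd_left G Θ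
  haveI : Flat (G ◁ Θ).left := MorphismProperty.of_isPullback sqW.flip inferInstance
  haveI : Surjective (G ◁ Θ).left := MorphismProperty.of_isPullback sqW.flip inferInstance
  haveI : QuasiCompact (G ◁ Θ).left := MorphismProperty.of_isPullback sqW.flip inferInstance
  haveI : Epi (G ◁ Θ).left := inferInstance
  have hΘpt : ∀ {T : Over (Spec (CommRingCat.of k))} (g : T ⟶ G) (e : T ⟶ E),
      lift g e ≫ Θ = lift g (e ≫ σ) ≫ a.act := by
    intro T g e
    rw [hΘdef, Groth.Agent.Lib.Helper14.HomogBundle.comp_Theta, lift_fst, lift_snd]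
  have hpt : ∀ {T : Over (Spec (CommRingCat.of k))} (m : T ⟶ G ⊗ (G ⊗ E)),
      m ≫ (G ◁ Θ) ≫ (G ◁ ψ) ≫ a.act = m ≫ (G ◁ Θ) ≫ a.act ≫ ψ := by
    intro T m
    have hm' : (m ≫ snd G (G ⊗ E)) =
        lift ((m ≫ snd G (G ⊗ E)) ≫ fst G E) ((m ≫ snd G (G ⊗ E)) ≫ snd G E) := by
      apply CartesianMonoidalCategory.hom_ext <;> simp
    have hL : m ≫ (G ◁ Θ) ≫ (G ◁ ψ) ≫ a.act =
        lift (m ≫ fst G (G ⊗ E)) ((m ≫ snd G (G ⊗ E)) ≫ ψ') ≫ a.act := by
      rw [← Category.assoc (G ◁ Θ), ← MonoidalCategory.whiskerLeft_comp, hψ, ← Category.assoc]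
      congr 1
      apply CartesianMonoidalCategory.hom_ext <;> simp
    have hR1 : m ≫ (G ◁ Θ) ≫ a.act =
        lift ((m ≫ fst G (G ⊗ E)) * ((m ≫ snd G (G ⊗ E)) ≫ fst G E))
          ((m ≫ snd G (G ⊗ E)) ≫ snd G E) ≫ Θ := by
      rw [hΘpt, Groth.Agent.Lib.Helper14.ActPts.act_mul_pt, ← hΘpt, ← hm', ← Category.assoc]
      congr 1
      apply CartesianMonoidalCategory.hom_ext <;> simp
    have hR : m ≫ (G ◁ Θ) ≫ a.act ≫ ψ =
        lift ((m ≫ fst G (G ⊗ E)) * ((m ≫ snd G (G ⊗ E)) ≫ fst G E))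
          ((m ≫ snd G (G ⊗ E)) ≫ snd G E) ≫ ψ' := by
      rw [← Category.assoc (G ◁ Θ), ← Category.assoc m, hR1, Category.assoc, hψ]
    rw [hL, hR, hψ'pt, hψ'pt, lift_fst, lift_snd, Groth.Agent.Lib.Helper14.ActPts.act_mul_pt]
  have hequiv : (G ◁ ψ) ≫ a.act = a.act ≫ ψ := by
    ext
    rw [← cancel_epi (G ◁ Θ).left, ← Over.comp_left, ← Over.comp_left]
    congr 1
    have := hpt (𝟙 (G ⊗ (G ⊗ E)))
    rwa [Category.id_comp, Category.id_comp] at this
  -- Step F: `ψ` is an isomorphism
  haveI : QuasiCompact π.left := by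
    haveI : QuasiCompact (π.left ≫ A.hom) := by rw [Over.w π]; infer_instance
    exact QuasiCompact.of_comp π.left A.hom
  have h1 : IsPullback a.act.left (snd G X).left π.left π.left := by
    have := hcart.flip.map (Over.forget _)
    simpa only [Over.forget_obj, Over.forget_map] using this
  have h3 := Groth.Agent.Lib.Helper14.PrincBundle.isPullback_whiskerLeft_snd_left G ψ
  have h4 : (G ◁ ψ).left ≫ a.act.left = a.act.left ≫ ψ.left := by
    rw [← Over.comp_left, ← Over.comp_left, hequiv]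
  have h5 : π.left ≫ τ.left = ψ.left ≫ π.left := by
    rw [← Over.comp_left, ← Over.comp_left, hcover]
  have sqF := Groth.Agent.Lib.Helper14.TorsorSq.isPullback_of_equivariant a.act.left
    (snd G X).left π.left a.act.left (snd G X).left π.left (G ◁ ψ).left ψ.left τ.left
    h1 h1 h3 h4 h5
  have hτmul : τ = 𝟙 A * (toUnit A ≫ t) := by rw [hτdef, Hom.mul_def]
  have hc : ∀ f : A ⟶ A, f ≫ (toUnit A ≫ t) = toUnit A ≫ t := by
    intro f
    rw [← Category.assoc, toUnit_unique (f ≫ toUnit A) (toUnit A)]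
  haveI hτiso : IsIso τ := by
    refine ⟨𝟙 A * (toUnit A ≫ t)⁻¹, ?_, ?_⟩
    · rw [MonObj.comp_mul, Category.comp_id, GrpObj.comp_inv, hc, hτmul, mul_inv_cancel_right]
    · rw [hτmul, MonObj.comp_mul, Category.comp_id, hc, inv_mul_cancel_right]
  haveI : IsIso τ.left := (Over.forget _).map_isIso τ
  haveI : IsIso ψ.left := sqF.isIso_fst_of_isIso
  haveI : IsIso ((Over.forget (Spec (CommRingCat.of k))).map ψ) := ‹IsIso ψ.left›
  haveI : IsIso ψ := isIso_of_reflects_iso ψ (Over.forget _)
  exact ⟨asIso ψ, hequiv, hcover⟩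

end Groth.Agent.S11423
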