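import Groth.Statements.S11427
import Groth.Agent.Lib.Helper12.QuotDesc

set_option autoImplicit false
universe u
open CategoryTheory MonoidalCategory CartesianMonoidalCategory MonObj GrpObj AlgebraicGeometry Topology
open GIT

namespace Groth.Agent.S11427

theorem appLE_eq_of_eq {X Y : Scheme.{u}} {f g : X ⟶ Y} (h : f = g) (U : Y.Opens) (V : X.Opens)
    (e : V ≤ f ⁻¹ᵁ U) (e' : V ≤ g ⁻¹ᵁ U) : f.appLE U V e = g.appLE U V e' := by
  subst h; rfl

open Groth.Agent.Lib.Helper12.QuotDesc in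
theorem geom_imp_cat {S : Scheme.{u}} {G X Y : Over S} [GrpObj G] (a : AlgGrp.Action G X)
    (φ : X ⟶ Y) (h : GIT.IsGeomQuot a φ) : GIT.IsCatQuot a φ := by
  refine ⟨h.inv, fun Z ψ hψ => ?_⟩
  have h1 : IsQuotientMap φ.left.base :=
    MorphismProperty.universally_le (P := topologically @IsQuotientMap) _ h.subm
  have hfib : ∀ x x' : X.left, φ.left.base x = φ.left.base x' →
      ψ.left.base x = ψ.left.base x' := by
    intro x x' hx
    obtain ⟨t, ht1, ht2⟩ := Scheme.Pullback.exists_preimage_pullback (f := φ.left) (g := φ.left)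
      x x' hx
    obtain ⟨z, rfl⟩ := h.orbit t
    have e1 : a.act.left z = x := by
      rw [← ht1]
      exact (congrArg (fun k : (G ⊗ X).left ⟶ X.left => k.base z)
        (Limits.pullback.lift_fst a.act.left (snd G X).left h.inv.left)).symm
    have e2 : (snd G X).left z = x' := by
      rw [← ht2]
      exact (congrArg (fun k : (G ⊗ X).left ⟶ X.left => k.base z)
        (Limits.pullback.lift_snd a.act.left (snd G X).left h.inv.left)).symm
    rw [← e1, ← e2]
    exact congrArg (fun k : (G ⊗ X).left ⟶ Z.left => k.base z) hψ.left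
  have hinj : ∀ V : Y.left.Opens, Function.Injective (φ.left.app V) := fun V => (h.sections V).1
  have hrange : ∀ (V : Y.left.Opens) (W : Z.left.Opens) (e : φ.left ⁻¹ᵁ V ≤ ψ.left ⁻¹ᵁ W)
      (s : Γ(Z.left, W)), ψ.left.appLE W (φ.left ⁻¹ᵁ V) e s ∈ Set.range (φ.left.app V) := by
    intro V W e s
    rw [(h.sections V).2]
    change _ = _
    rw [← CommRingCat.comp_apply, ← CommRingCat.comp_apply, Scheme.Hom.appLE_comp_appLE,
      Scheme.Hom.appLE_comp_appLE]
    exact congrArg (fun k : Γ(Z.left, W) ⟶ Γ((G ⊗ X).left, a.act.left ⁻¹ᵁ φ.left ⁻¹ᵁ V ⊓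
      (snd G X).left ⁻¹ᵁ φ.left ⁻¹ᵁ V) => (ConcreteCategory.hom k) s)
      (appLE_eq_of_eq hψ.left _ _ _ _)
  have hχ₀ : φ.left ≫ Sch.desc φ.left ψ.left h1 hfib hinj hrange = ψ.left :=
    Sch.comp_desc φ.left ψ.left h1 hfib hinj hrange
  have hover : Sch.desc φ.left ψ.left h1 hfib hinj hrange ≫ Z.hom = Y.hom := by
    refine Sch.uniq φ.left h1 hinj _ _ ?_
    rw [← Category.assoc, hχ₀, Over.w, Over.w]
  refine ⟨Over.homMk (Sch.desc φ.left ψ.left h1 hfib hinj hrange) hover, ?_, ?_⟩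
  · ext
    exact hχ₀
  · intro χ' hχ'
    ext
    refine Sch.uniq φ.left h1 hinj _ _ ?_
    have := congrArg CommaMorphism.left hχ'
    exact this.trans hχ₀.symm


/-- A geometric quotient of X by G is a categorical quotient, and a universal geometric quotient is a
universal categorical quotient. -/
theorem result (S : Scheme.{u}) (G X Y : Over S) [GrpObj G] (a : AlgGrp.Action G X)
    (φ : X ⟶ Y) (h : GIT.IsGeomQuot a φ) :
    GIT.IsCatQuot a φ ∧ (GIT.IsUnivGeomQuot a φ → GIT.IsUnivCatQuot a φ) := by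
  refine ⟨geom_imp_cat a φ h, fun hu => ⟨geom_imp_cat a φ h, ?_⟩⟩
  intro X' Y' pr φ' g hg hpb a' ha' hinv'
  exact geom_imp_cat a' φ' (hu.2 pr φ' g hg hpb a' ha' hinv')

end Groth.Agent.S11427
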