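import Groth.Statements.S11428
import Mathlib

set_option autoImplicit false
universe u
open CategoryTheory MonoidalCategory CartesianMonoidalCategory MonObj GrpObj AlgebraicGeometry Topology
open GIT

namespace Groth.Agent.S11428

open CategoryTheory.Limits in
instance : (topologically @IsQuotientMap).IsStableUnderComposition :=
  topologically_isStableUnderComposition _ (fun _ _ hf hg => hg.comp hf)

open CategoryTheory.Limits in
theorem sep_iff {T X Y S : Scheme.{u}} (f : X ⟶ Y) (i : Y ⟶ S) (σ p₂ : T ⟶ X)
    (hinv : σ ≫ f = p₂ ≫ f)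
    (hsub : MorphismProperty.universally (topologically @IsQuotientMap) f)
    (horb : Function.Surjective (pullback.lift σ p₂ hinv : T ⟶ pullback f f).base)
    (Ψ : T ⟶ pullback (f ≫ i) (f ≫ i)) (hΨ1 : Ψ ≫ pullback.fst _ _ = σ)
    (hΨ2 : Ψ ≫ pullback.snd _ _ = p₂) :
    IsSeparated i ↔ IsClosed (Set.range Ψ.base) := by
  have hm : MorphismProperty.universally (topologically @IsQuotientMap)
      (pullback.map (f ≫ i) (f ≫ i) i i f f (𝟙 S) ((Category.comp_id _).trans rfl)
        ((Category.comp_id _).trans rfl)) :=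
    MorphismProperty.pullbackMap hsub hsub rfl rfl
  have hm' : IsQuotientMap (pullback.map (f ≫ i) (f ≫ i) i i f f (𝟙 S)
      ((Category.comp_id _).trans rfl) ((Category.comp_id _).trans rfl)).base :=
    MorphismProperty.universally_le (P := topologically @IsQuotientMap) _ hm
  have hpb := pullback_map_diagonal_isPullback f f i
  have hΨ : Ψ = pullback.lift σ p₂ hinv ≫ pullback.map f f (f ≫ i) (f ≫ i) (𝟙 _) (𝟙 _) i
      (Category.id_comp _).symm (Category.id_comp _).symm := by
    apply pullback.hom_ext
    · rw [hΨ1, Category.assoc, pullback.lift_fst, Category.comp_id, pullback.lift_fst]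
    · rw [hΨ2, Category.assoc, pullback.lift_snd, Category.comp_id, pullback.lift_snd]
  have hk : Set.range (pullback.map f f (f ≫ i) (f ≫ i) (𝟙 _) (𝟙 _) i
      (Category.id_comp _).symm (Category.id_comp _).symm).base =
      (pullback.map (f ≫ i) (f ≫ i) i i f f (𝟙 S) ((Category.comp_id _).trans rfl)
        ((Category.comp_id _).trans rfl)).base ⁻¹' Set.range (pullback.diagonal i).base := by
    rw [← Scheme.Pullback.range_snd, ← hpb.isoPullback_hom_snd]
    have hs : Function.Surjective hpb.isoPullback.hom.base :=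
      (hpb.isoPullback.hom.homeomorph).surjective
    rw [Scheme.Hom.comp_base, TopCat.coe_comp, Set.range_comp, hs.range_eq, Set.image_univ]
  have hr : Set.range Ψ.base = (pullback.map (f ≫ i) (f ≫ i) i i f f (𝟙 S)
      ((Category.comp_id _).trans rfl) ((Category.comp_id _).trans rfl)).base ⁻¹'
        Set.range (pullback.diagonal i).base := by
    rw [← hk, hΨ, Scheme.Hom.comp_base, TopCat.coe_comp, Set.range_comp, horb.range_eq,
      Set.image_univ]
  rw [hr, hm'.isClosed_preimage, AlgebraicGeometry.isSeparated_iff]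
  constructor
  · intro h
    exact (pullback.diagonal i).isClosedEmbedding.isClosed_range
  · intro h
    exact IsClosedImmersion.of_isPreimmersion _ h


open CategoryTheory.Limits in
theorem sep_iff' {T X Y S : Scheme.{u}} (f : X ⟶ Y) (i : Y ⟶ S) (fX : X ⟶ S) (hfX : f ≫ i = fX)
    (σ p₂ : T ⟶ X) (hinv : σ ≫ f = p₂ ≫ f)
    (hsub : MorphismProperty.universally (topologically @IsQuotientMap) f)
    (horb : Function.Surjective (pullback.lift σ p₂ hinv : T ⟶ pullback f f).base)
    (Ψ : T ⟶ pullback fX fX) (hΨ1 : Ψ ≫ pullback.fst _ _ = σ)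
    (hΨ2 : Ψ ≫ pullback.snd _ _ = p₂) :
    IsSeparated i ↔ IsClosed (Set.range Ψ.base) := by
  subst hfX
  exact sep_iff f i σ p₂ hinv hsub horb Ψ hΨ1 hΨ2


/-- If (Y, φ) is a geometric quotient of X by G over S, then Y is separated over S exactly when the
action is separated, i.e. the image of (σ, p₂) : G ×_S X → X ×_S X is closed. -/
theorem result (S : Scheme.{u}) (G X Y : Over S) [GrpObj G]
    (a : AlgGrp.Action G X) (φ : X ⟶ Y) (h : GIT.IsGeomQuot a φ) :
    IsSeparated Y.hom ↔ IsClosed (Set.range (GIT.psi a (𝟙 X)).left.base) := by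
  refine sep_iff' φ.left Y.hom X.hom (Over.w φ) a.act.left (snd G X).left h.inv.left h.subm h.orbit
    (GIT.psi a (𝟙 X)).left ?_ ?_
  · have : GIT.psi a (𝟙 X) ≫ fst X X = a.act := by
      simp [GIT.psi]
    exact congrArg CommaMorphism.left this
  · have : GIT.psi a (𝟙 X) ≫ snd X X = snd G X := by
      simp [GIT.psi]
    exact congrArg CommaMorphism.left this

end Groth.Agent.S11428
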