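import Groth.Statements.S11438
import Groth.Agent.Lib.Helper14.Rigid4
import Mathlib

set_option autoImplicit false
universe u
open CategoryTheory MonoidalCategory CartesianMonoidalCategory MonObj GrpObj AlgebraicGeometry Topology
open GIT

namespace Groth.Agent.S11438

/-- Let S be connected and locally Noetherian, G a locally Noetherian group scheme separated over S, X →
S proper and flat with κ(s) → H⁰(X_s, O_{X_s}) bijective for every s, and f, g : X → G morphisms
over S which agree on one fibre X_s. Then there is a section t of G over S with f = (t ∘ p) · g, the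
product taken in the group of X-valued points of G. -/
theorem result (S : Scheme.{u}) [IsLocallyNoetherian S] [ConnectedSpace S]
    (X G : Over S) [GrpObj G] [IsLocallyNoetherian G.left] [IsSeparated G.hom] [IsProper X.hom] [Flat X.hom]
    (h0 : ∀ s : S, Function.Bijective (Limits.pullback.snd X.hom (S.fromSpecResidueField s)).appTop)
    (f g : X ⟶ G) (s : S)
    (hs : Limits.pullback.fst X.hom (S.fromSpecResidueField s) ≫ f.left =
      Limits.pullback.fst X.hom (S.fromSpecResidueField s) ≫ g.left) :
    ∃ t : 𝟙_ (Over S) ⟶ G, f = (toUnit X ≫ t) * g := by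
  set h : X ⟶ G := f * g⁻¹ with hh
  have hw : h.left ≫ G.hom = X.hom := Over.w h
  have hfib : ∀ s : S, Function.Bijective (algebraMap (S.residueField s) Γ(X.hom.fiber s, ⊤)) := by
    intro s
    show Function.Bijective ((X.hom.fiberToSpecResidueField s).appTop.hom.comp
      (Scheme.ΓSpecIso (S.residueField s)).inv.hom)
    rw [RingHom.coe_comp]
    exact (h0 s).comp
      (ConcreteCategory.bijective_of_isIso (Scheme.ΓSpecIso (S.residueField s)).inv)
  let F : Over S := Over.mk (Limits.pullback.fst X.hom (S.fromSpecResidueField s) ≫ X.hom)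
  let i : F ⟶ X := Over.homMk (Limits.pullback.fst X.hom (S.fromSpecResidueField s)) rfl
  have hi : i ≫ f = i ≫ g := by
    ext
    exact hs
  have h1 : i ≫ h = 1 := by
    rw [hh, comp_mul, comp_inv, hi, mul_inv_cancel]
  have h2 : Limits.pullback.fst X.hom (S.fromSpecResidueField s) ≫ h.left =
      (Limits.pullback.fst X.hom (S.fromSpecResidueField s) ≫ X.hom) ≫ η[G].left := by
    have h3 := congrArg CommaMorphism.left h1
    rw [Hom.one_def] at h3
    exact h3
  have hmem : s ∈ Groth.Agent.Lib.Helper14.Rigid.TT X.hom h.left :=
    Groth.Agent.Lib.Helper14.Rigid.mem_TT_of_fibre_const X.hom h.left s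
      (S.fromSpecResidueField s ≫ η[G].left) (by
        refine h2.trans ?_
        rw [Limits.pullback.condition, Category.assoc]
        rfl)
  obtain ⟨t, ht1, ht2⟩ := Groth.Agent.Lib.Helper14.Rigid.rigidity_of_fibre X.hom G.hom h.left hw
    hfib s hmem
  refine ⟨Over.homMk t (by simpa using ht1), ?_⟩
  have h3 : h = toUnit X ≫ Over.homMk t (by simpa using ht1) := by
    ext
    simpa using ht2
  rw [← h3, hh, inv_mul_cancel_right]

end Groth.Agent.S11438
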