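import Groth.Statements.S11440
import Groth.Agent.Lib.Helper14.RigidProd
import Groth.Agent.Lib.Helper14.FibreH0b
import Groth.Agent.Lib.Helper14.GrpFactor
import Mathlib

set_option autoImplicit false
universe u
open CategoryTheory MonoidalCategory CartesianMonoidalCategory MonObj GrpObj AlgebraicGeometry Topology
open GIT

namespace Groth.Agent.S11440

/-- Let S be Noetherian, X an abelian scheme over S (smooth proper group scheme with connected geometric
fibres), G any locally Noetherian group scheme separated over S, and f : X → G a morphism over S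
carrying the unit of X to the unit of G. Then f is a homomorphism. -/
theorem result (S : Scheme.{u}) [IsNoetherian S]
    (X G : Over S) [GrpObj X] [GrpObj G] [Smooth X.hom] [IsProper X.hom]
    (hc : ∀ s : S, ConnectedSpace (Red.geomFibre s X).left)
    [IsLocallyNoetherian G.left] [IsSeparated G.hom] (f : X ⟶ G) (hf : η[X] ≫ f = η[G]) :
    IsMonHom f := by
  have hconnS : ∀ s : S, _root_.IsConnected (X.hom.base ⁻¹' {s}) := by
    intro s
    haveI : ConnectedSpace ↥(Limits.pullback X.hom (Red.geomPt s)) := hc s
    have hpt : ∀ z, (Red.geomPt s).base z = s := by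
      intro z
      have h1 : (Red.geomPt s).base z ∈ Set.range (S.fromSpecResidueField s).base := ⟨_, rfl⟩
      rw [Scheme.range_fromSpecResidueField] at h1
      exact h1
    have hr : Set.range (Limits.pullback.fst X.hom (Red.geomPt s)).base = X.hom.base ⁻¹' {s} := by
      rw [Scheme.Pullback.range_fst]
      congr 1
      apply Set.Subset.antisymm
      · rintro _ ⟨z, rfl⟩
        exact hpt z
      · intro x hx
        obtain ⟨z⟩ : Nonempty ↥(Spec (CommRingCat.of (AlgebraicClosure (S.residueField s)))) :=
          inferInstance
        exact ⟨z, (hpt z).trans (Set.mem_singleton_iff.mp hx).symm⟩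
    rw [← hr]
    exact isConnected_range (Limits.pullback.fst X.hom (Red.geomPt s)).continuous
  have hηw : η[X].left ≫ X.hom = 𝟙 S := Over.w η[X]
  have h0 : ∀ s : S,
      Function.Bijective (Limits.pullback.snd X.hom (S.fromSpecResidueField s)).appTop :=
    fun s => Groth.Agent.Lib.Helper14.FibreH0.bijective_snd_appTop X.hom η[X].left hηw s (hconnS s)
  haveI : IsLocallyNoetherian X.left := LocallyOfFiniteType.isLocallyNoetherian X.hom
  have hconn : ∀ y : X.left, ∃ C : Set X.left, _root_.IsPreconnected C ∧ y ∈ C ∧
      η[X].left.base (X.hom.base y) ∈ C := by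
    intro y
    refine ⟨X.hom.base ⁻¹' {X.hom.base y}, (hconnS _).isPreconnected, rfl, ?_⟩
    show X.hom.base (η[X].left.base (X.hom.base y)) = X.hom.base y
    have h1 := congrArg (fun φ : S ⟶ S => φ.base (X.hom.base y)) hηw
    exact h1
  obtain ⟨g, h, hgh⟩ :=
    Groth.Agent.Lib.Helper14.Rigid.factor_of_product S X X G h0 η[X] hconn (μ[X] ≫ f)
  exact Groth.Agent.Lib.Helper14.GrpFactor.isMonHom_of_factor f hf g h hgh

end Groth.Agent.S11440
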