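import Groth.Statements.S11445
import Groth.Agent.Lib.Helper12.QuotDesc

set_option autoImplicit false
universe u
open CategoryTheory MonoidalCategory CartesianMonoidalCategory MonObj GrpObj AlgebraicGeometry Topology
open GIT

namespace Groth.Agent.S11445

theorem appLE_eq_of_eq {X Y : Scheme.{u}} {f g : X ⟶ Y} (h : f = g) (U : Y.Opens) (V : X.Opens)
    (e : V ≤ f ⁻¹ᵁ U) (e' : V ≤ g ⁻¹ᵁ U) : f.appLE U V e = g.appLE U V e' := by
  subst h; rfl

section
variable {S : Scheme.{u}} {G X Y : Over S} [GrpObj G]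
    (a : AlgGrp.Action G X) (φ : X ⟶ Y) (hi : GIT.IsInvariant a φ)
    (hii : ∀ U : Y.left.Opens,
      Function.Injective (φ.left.app U) ∧ Set.range (φ.left.app U) = {f | GIT.IsInvSection a φ U f})
    (hiii : ∀ W : Set X.left, IsClosed W → a.act.left.base '' ((snd G X).left.base ⁻¹' W) ⊆ W →
      IsClosed (φ.left.base '' W))
    (hiii' : ∀ (J : Type u) (W : J → Set X.left),
      (∀ i, IsClosed (W i) ∧ a.act.left.base '' ((snd G X).left.base ⁻¹' W i) ⊆ W i) →
      φ.left.base '' (⋂ i, W i) = ⋂ i, φ.left.base '' W i)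

/-- preimages under an invariant morphism are invariant -/
theorem inv_preimage {Z : Over S} (ψ : X ⟶ Z) (hψ : GIT.IsInvariant a ψ) (C : Set Z.left) :
    a.act.left.base '' ((snd G X).left.base ⁻¹' (ψ.left.base ⁻¹' C)) ⊆ ψ.left.base ⁻¹' C := by
  rintro _ ⟨z, hz, rfl⟩
  have : ψ.left.base (a.act.left.base z) = ψ.left.base ((snd G X).left.base z) :=
    congrArg (fun k : (G ⊗ X).left ⟶ Z.left => k.base z) hψ.left
  change ψ.left.base (a.act.left.base z) ∈ C
  rw [this]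
  exact hz

include hiii' in
theorem surj : Function.Surjective φ.left.base := by
  have := hiii' PEmpty.{u+1} (fun i => i.elim) (fun i => i.elim)
  simp only [Set.iInter_of_empty, Set.image_univ] at this
  intro y
  have hy : y ∈ Set.range φ.left.base := by rw [this]; trivial
  exact hy

include hi hiii hiii' in
theorem quot : IsQuotientMap φ.left.base := by
  rw [Topology.isQuotientMap_iff_isClosed]
  refine ⟨surj a φ hiii', fun C => ⟨fun hC => hC.preimage φ.left.base.hom.continuous, fun hC => ?_⟩⟩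
  have := hiii _ hC (inv_preimage a φ hi C)
  rwa [Set.image_preimage_eq _ (surj a φ hiii')] at this

include hii in
theorem hrange {Z : Over S} (ψ : X ⟶ Z) (hψ : GIT.IsInvariant a ψ)
    (V : Y.left.Opens) (W : Z.left.Opens) (e : φ.left ⁻¹ᵁ V ≤ ψ.left ⁻¹ᵁ W)
    (s : Γ(Z.left, W)) : ψ.left.appLE W (φ.left ⁻¹ᵁ V) e s ∈ Set.range (φ.left.app V) := by
  rw [(hii V).2]
  change _ = _
  rw [← CommRingCat.comp_apply, ← CommRingCat.comp_apply, Scheme.Hom.appLE_comp_appLE,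
    Scheme.Hom.appLE_comp_appLE]
  exact congrArg (fun k : Γ(Z.left, W) ⟶ Γ((G ⊗ X).left, a.act.left ⁻¹ᵁ φ.left ⁻¹ᵁ V ⊓
    (snd G X).left ⁻¹ᵁ φ.left ⁻¹ᵁ V) => (ConcreteCategory.hom k) s)
    (appLE_eq_of_eq hψ.left _ _ _ _)

end


section
variable {S : Scheme.{u}} {G X Y : Over S} [GrpObj G]
    (a : AlgGrp.Action G X) (φ : X ⟶ Y) (hi : GIT.IsInvariant a φ)
    (hii : ∀ U : Y.left.Opens,
      Function.Injective (φ.left.app U) ∧ Set.range (φ.left.app U) = {f | GIT.IsInvSection a φ U f})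
    (hiii : ∀ W : Set X.left, IsClosed W → a.act.left.base '' ((snd G X).left.base ⁻¹' W) ⊆ W →
      IsClosed (φ.left.base '' W))
    (hiii' : ∀ (J : Type u) (W : J → Set X.left),
      (∀ i, IsClosed (W i) ∧ a.act.left.base '' ((snd G X).left.base ⁻¹' W i) ⊆ W i) →
      φ.left.base '' (⋂ i, W i) = ⋂ i, φ.left.base '' W i)

include hiii hiii' in
/-- every point of `Y` has an open neighbourhood `U` and an affine open `V` of `Z` with
`φ⁻¹ U ⊆ ψ⁻¹ V` -/
theorem exists_nbhd {Z : Over S} (ψ : X ⟶ Z) (hψ : GIT.IsInvariant a ψ) (y : Y.left) :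
    ∃ (U : Y.left.Opens) (V : Z.left.Opens), IsAffineOpen V ∧ y ∈ U ∧
      φ.left ⁻¹ᵁ U ≤ ψ.left ⁻¹ᵁ V := by
  let W : Z.left.affineOpens → Set X.left := fun V => (ψ.left.base ⁻¹' (V.1 : Set Z.left))ᶜ
  have hW : ∀ V, IsClosed (W V) ∧ a.act.left.base '' ((snd G X).left.base ⁻¹' W V) ⊆ W V := by
    intro V
    refine ⟨?_, ?_⟩
    · exact (V.1.isOpen.preimage ψ.left.base.hom.continuous).isClosed_compl
    · have := inv_preimage a ψ hψ ((V.1 : Set Z.left)ᶜ)
      simpa [W, Set.preimage_compl] using this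
  have hempty : ⋂ V, W V = ∅ := by
    rw [Set.eq_empty_iff_forall_notMem]
    intro x hx
    rw [Set.mem_iInter] at hx
    obtain ⟨_, ⟨V, hV, rfl⟩, hxV, -⟩ := Z.left.isBasis_affineOpens.exists_subset_of_mem_open
      (Set.mem_univ (ψ.left.base x)) isOpen_univ
    exact hx ⟨V, hV⟩ hxV
  have h1 := hiii' _ W hW
  rw [hempty, Set.image_empty] at h1
  have hy : y ∉ ⋂ V, φ.left.base '' W V := by rw [← h1]; exact Set.notMem_empty y
  rw [Set.mem_iInter, not_forall] at hy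
  obtain ⟨V, hV⟩ := hy
  have hcl : IsClosed (φ.left.base '' W V) := hiii _ (hW V).1 (hW V).2
  refine ⟨⟨(φ.left.base '' W V)ᶜ, hcl.isOpen_compl⟩, V.1, V.2, hV, ?_⟩
  intro x hx
  by_contra hxV
  exact hx ⟨x, hxV, rfl⟩

include hii hiii hiii' in
theorem hfib {Z : Over S} (ψ : X ⟶ Z) (hψ : GIT.IsInvariant a ψ) (x x' : X.left)
    (hxx' : φ.left.base x = φ.left.base x') : ψ.left.base x = ψ.left.base x' := by
  obtain ⟨U, V, hV, hyU, hle⟩ := exists_nbhd a φ hiii hiii' ψ hψ (φ.left.base x)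
  have hxU : x ∈ φ.left ⁻¹ᵁ U := hyU
  have hx'U : x' ∈ φ.left ⁻¹ᵁ U := by
    change φ.left.base x' ∈ U
    rw [← hxx']; exact hyU
  -- key: for every `b`, membership of `ψ p` in `D(b)` only depends on `φ p`
  have key : ∀ b : Γ(Z.left, V), (ψ.left.base x ∈ Z.left.basicOpen b ↔
      ψ.left.base x' ∈ Z.left.basicOpen b) := by
    intro b
    obtain ⟨c, hc⟩ := hrange a φ hii ψ hψ U V hle b
    have e1 : X.left.basicOpen (ψ.left.appLE V (φ.left ⁻¹ᵁ U) hle b) =
        φ.left ⁻¹ᵁ U ⊓ ψ.left ⁻¹ᵁ (Z.left.basicOpen b) := Scheme.basicOpen_appLE _ _ _ _ _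
    have e2 : X.left.basicOpen (φ.left.app U c) = φ.left ⁻¹ᵁ (Y.left.basicOpen c) :=
      (Scheme.preimage_basicOpen φ.left c).symm
    rw [← hc, e2] at e1
    have m1 : x ∈ φ.left ⁻¹ᵁ (Y.left.basicOpen c) ↔ x' ∈ φ.left ⁻¹ᵁ (Y.left.basicOpen c) := by
      change φ.left.base x ∈ Y.left.basicOpen c ↔ φ.left.base x' ∈ Y.left.basicOpen c
      rw [hxx']
    rw [e1] at m1
    constructor
    · intro h
      exact (m1.1 ⟨hxU, h⟩).2
    · intro h
      exact (m1.2 ⟨hx'U, h⟩).2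
  by_contra hne
  obtain ⟨O, hO, hxor⟩ := exists_isOpen_xor_mem hne
  rcases hxor with ⟨h1, h2⟩ | ⟨h1, h2⟩
  · obtain ⟨b, hb1, hb2⟩ := hV.exists_basicOpen_le (V := ⟨O, hO⟩) ⟨ψ.left.base x, h1⟩ (hle hxU)
    exact h2 (hb1 ((key b).1 hb2))
  · obtain ⟨b, hb1, hb2⟩ := hV.exists_basicOpen_le (V := ⟨O, hO⟩) ⟨ψ.left.base x', h1⟩
      (hle hx'U)
    exact h2 (hb1 ((key b).2 hb2))

end

/-- Let G act on X over S and let φ : X → Y over S satisfy (i) φ ∘ σ = φ ∘ p₂, (ii) O_Y is the sheaf of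
invariant functions (each Γ(U, O_Y) → Γ(φ⁻¹U, O_X) injective with image the invariant sections),
(iii) the image of every closed invariant subset of X is closed and φ(⋂ W_i) = ⋂ φ(W_i) for every
family of closed invariant subsets. Then (Y, φ) is a categorical quotient of X by G, and φ is
submersive. -/
theorem result (S : Scheme.{u}) (G X Y : Over S) [GrpObj G]
    (a : AlgGrp.Action G X) (φ : X ⟶ Y) (hi : GIT.IsInvariant a φ)
    (hii : ∀ U : Y.left.Opens,
      Function.Injective (φ.left.app U) ∧ Set.range (φ.left.app U) = {f | GIT.IsInvSection a φ U f})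
    (hiii : ∀ W : Set X.left, IsClosed W → a.act.left.base '' ((snd G X).left.base ⁻¹' W) ⊆ W →
      IsClosed (φ.left.base '' W))
    (hiii' : ∀ (J : Type u) (W : J → Set X.left),
      (∀ i, IsClosed (W i) ∧ a.act.left.base '' ((snd G X).left.base ⁻¹' W i) ⊆ W i) →
      φ.left.base '' (⋂ i, W i) = ⋂ i, φ.left.base '' W i) :
    GIT.IsCatQuot a φ ∧ IsQuotientMap φ.left.base := by
  have h1 : IsQuotientMap φ.left.base := quot a φ hi hiii hiii'
  refine ⟨⟨hi, fun Z ψ hψ => ?_⟩, h1⟩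
  have hf := hfib a φ hii hiii hiii' ψ hψ
  have hinj : ∀ V : Y.left.Opens, Function.Injective (φ.left.app V) := fun V => (hii V).1
  have hr := hrange a φ hii ψ hψ
  have hχ₀ : φ.left ≫ Groth.Agent.Lib.Helper12.QuotDesc.Sch.desc φ.left ψ.left h1 hf hinj hr =
      ψ.left :=
    Groth.Agent.Lib.Helper12.QuotDesc.Sch.comp_desc φ.left ψ.left h1 hf hinj hr
  have hover : Groth.Agent.Lib.Helper12.QuotDesc.Sch.desc φ.left ψ.left h1 hf hinj hr ≫ Z.hom =
      Y.hom := by
    refine Groth.Agent.Lib.Helper12.QuotDesc.Sch.uniq φ.left h1 hinj _ _ ?_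
    rw [← Category.assoc, hχ₀, Over.w, Over.w]
  refine ⟨Over.homMk (Groth.Agent.Lib.Helper12.QuotDesc.Sch.desc φ.left ψ.left h1 hf hinj hr) hover,
    ?_, ?_⟩
  · ext
    exact hχ₀
  · intro χ' hχ'
    ext
    refine Groth.Agent.Lib.Helper12.QuotDesc.Sch.uniq φ.left h1 hinj _ _ ?_
    have := congrArg CommaMorphism.left hχ'
    exact this.trans hχ₀.symm

end Groth.Agent.S11445
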