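import Groth.Statements.S1145
-- import your own Groth.Agent.* helpers here
import Groth.Agent.Lib.Helper9.FEtDense2
import Groth.Agent.Lib.Helper9.FEtDense3

set_option backward.isDefEq.respectTransparency false
set_option linter.style.haveILetI false

set_option autoImplicit false
universe u
open Pi1

namespace Groth.Agent.S1145

open AlgebraicGeometry CategoryTheory CategoryTheory.Limits in
/-- Let X be a scheme and U a dense open subscheme with quasi-compact inclusion such that every point of
the complement of U is closed and, for every such point x and every strict henselization R of the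
local ring at x, the punctured spectrum of R is connected. Then restriction of finite etale covers
from X to U is fully faithful. -/
theorem result {X : Scheme.{u}} (U : X.Opens)
    (hU : Dense (U : Set X)) [QuasiCompact U.ι] (hcl : ∀ x : X, x ∉ U → IsClosed ({x} : Set X))
    (hsh : ∀ x : X, x ∉ U → ∀ (R : Type u) [CommRing R] [IsLocalRing R] [Algebra (X.presheaf.stalk x) R]
      [IsLocalHom (algebraMap (X.presheaf.stalk x) R)] [Hensel.IsStrictHenselization (X.presheaf.stalk x) R],
      ConnectedSpace (FEt.puncturedSpec R : Scheme.{u})) :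
    (FEt.restrict U.ι).Full ∧ (FEt.restrict U.ι).Faithful := by
  refine Groth.Agent.Lib.helper9.FEtDense.full_faithful_of_spec U hU hsh ?_
  intro Z f hfin het T T' hT hT' hdisj hunion z hz
  haveI := hfin
  haveI := het
  obtain ⟨V, hV, hzV, -⟩ := exists_isAffineOpen_mem_and_subset (x := z) (U := ⊤) trivial
  haveI : QuasiCompact (f ⁻¹ᵁ U).ι :=
    MorphismProperty.of_isPullback (isPullback_morphismRestrict f U) ‹QuasiCompact U.ι›
  have h1 : IsCompact ((f ⁻¹ᵁ U).ι ⁻¹' (V : Set Z)) :=
    QuasiCompact.isCompact_preimage (f := (f ⁻¹ᵁ U).ι) _ V.2 hV.isCompact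
  have h2 : IsCompact ((V : Set Z) ∩ f ⁻¹' (U : Set X)) := by
    have := h1.image (f ⁻¹ᵁ U).ι.continuous
    rw [Set.image_preimage_eq_inter_range, Scheme.Opens.range_ι] at this
    exact this
  let K : Z.Opens := ⟨T ∩ V, hT.inter V.2⟩
  have hK : IsCompact (K : Set Z) := by
    have : (K : Set Z) = ((V : Set Z) ∩ f ⁻¹' (U : Set X)) ∩ T'ᶜ := by
      ext y
      constructor
      · rintro ⟨hyT, hyV⟩
        refine ⟨⟨hyV, ?_⟩, fun h => Set.disjoint_iff.1 hdisj ⟨hyT, h⟩⟩
        rw [← hunion]
        exact Or.inl hyT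
      · rintro ⟨⟨hyV, hyU⟩, hyT'⟩
        have : y ∈ T ∪ T' := by rw [hunion]; exact hyU
        exact ⟨this.elim id (fun h => absurd h hyT'), hyV⟩
    rw [this]
    exact h2.inter_right hT'.isClosed_compl
  have hzK : z ∈ closure (K : Set Z) := by
    rw [mem_closure_iff]
    intro o ho hzo
    obtain ⟨y, ⟨hyo, hyV⟩, hyT⟩ := mem_closure_iff.1 hz (o ∩ V) (ho.inter V.2) ⟨hzo, hzV⟩
    exact ⟨y, hyo, hyT, hyV⟩
  obtain ⟨t, ht, htz⟩ := Groth.Agent.Lib.helper9.FEtDense.exists_specializes_of_isCompact Z V hV K
    hK (fun y hy => hy.2) z hzV hzK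
  exact ⟨t, ht.1, htz⟩

end Groth.Agent.S1145
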