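import Groth.Statements.S11450
import Groth.Agent.Lib.Helper7.TorPres
import Groth.Agent.Lib.Helper7.GlueFlat
import Mathlib.RingTheory.Ideal.AssociatedPrime.Finiteness

set_option autoImplicit false
universe u
open CategoryTheory
open DefT

namespace Groth.Agent.S11450


open Groth.Agent.Lib.helper7 TensorProduct

/-- A module M over a Noetherian commutative ring A is flat if and only if Tor_1^A(M, A/p) vanishes for
every prime ideal p of A. -/
theorem result (A : Type u) [CommRing A]
    [IsNoetherianRing A] (M : Type u) [AddCommGroup M] [Module A M] :
    Module.Flat A M ↔ ∀ p : Ideal A, p.IsPrime →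
      Limits.IsZero (((CategoryTheory.Tor (ModuleCat.{u} A) 1).obj (ModuleCat.of A M)).obj (ModuleCat.of A (A ⧸ p))) := by
  classical
  constructor
  · intro hflat p _
    exact (TorPres.isZero_iff_of_exact M (A ⧸ p) p.subtype (Submodule.mkQ p)
      (Submodule.subtype_injective p) (LinearMap.exact_subtype_mkQ p)
      (Submodule.mkQ_surjective p)).2
      (Module.Flat.lTensor_preserves_injective_linearMap _ (Submodule.subtype_injective p))
  · intro h
    -- a free presentation of `M`
    obtain ⟨π, hπdef⟩ : ∃ π : (M →₀ A) →ₗ[A] M, π = Finsupp.linearCombination A id := ⟨_, rfl⟩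
    have hπ : Function.Surjective π := by
      intro x
      exact ⟨Finsupp.single x 1, by rw [hπdef]; simp⟩
    obtain ⟨L, _, _, j, hjinj, hex⟩ : ∃ (L : Type u) (_ : AddCommGroup L) (_ : Module A L)
        (j : L →ₗ[A] (M →₀ A)), Function.Injective j ∧ Function.Exact j π :=
      ⟨LinearMap.ker π, inferInstance, inferInstance, (LinearMap.ker π).subtype,
        Submodule.subtype_injective _, LinearMap.exact_subtype_ker_map π⟩
    -- `T(N)` for every finite module
    have hT : ∀ (N : Type u) [AddCommGroup N] [Module A N] [Module.Finite A N],
        Function.Injective (LinearMap.lTensor N j) := by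
      intro N _ _ hfin
      induction hfin using IsNoetherianRing.induction_on_isQuotientEquivQuotientPrime A with
      | subsingleton N =>
        intro a b _
        have hz : ∀ z : N ⊗[A] L, z = 0 := by
          intro z
          induction z using TensorProduct.induction_on with
          | zero => rfl
          | tmul x k => rw [Subsingleton.elim x 0, TensorProduct.zero_tmul]
          | add x y hx hy => rw [hx, hy, add_zero]
        rw [hz a, hz b]
      | quotient N p e =>
        refine GlueFlat.lTensor_injective_of_equiv j e ?_
        have h1 : Function.Injective (LinearMap.lTensor M p.1.subtype) :=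
          (TorPres.isZero_iff_of_exact M (A ⧸ p.1) p.1.subtype (Submodule.mkQ p.1)
            (Submodule.subtype_injective p.1) (LinearMap.exact_subtype_mkQ p.1)
            (Submodule.mkQ_surjective p.1)).1 (h p.1 p.2)
        exact lTensor_injective_of_exact_of_exact_of_rTensor_injective
          (LinearMap.exact_subtype_mkQ p.1) (Submodule.mkQ_surjective p.1) hex hπ
          ((LinearMap.lTensor_inj_iff_rTensor_inj _ _).1 h1)
          (GlueFlat.lTensor_self_injective j hjinj)
      | exact N₁ N₂ N₃ f g hf hg hfg h₁ h₃ =>
        exact GlueFlat.lTensor_injective_of_ses f g hfg hg hf j h₁ h₃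
    rw [Module.Flat.iff_lTensor_injective']
    intro I
    have h2 := hT (A ⧸ I)
    exact lTensor_injective_of_exact_of_exact_of_rTensor_injective hex hπ
      (LinearMap.exact_subtype_mkQ I) (Submodule.mkQ_surjective I)
      ((LinearMap.lTensor_inj_iff_rTensor_inj _ _).1 h2)
      (Module.Flat.lTensor_preserves_injective_linearMap _ (Submodule.subtype_injective I))

end Groth.Agent.S11450
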