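import Groth.Statements.S11451
import Groth.Agent.S12324
import Groth.Agent.Lib.Helper11.QuasiReg
import Groth.Agent.Lib.Helper15.Regular
-- import your own Groth.Agent.* helpers here

set_option autoImplicit false
universe u
open DefT

namespace Groth.Agent.S11451

open IsLocalRing MvPolynomial Groth.Agent.Lib.helper11.QuasiReg

section poly

variable {k : Type u} [Field k] {A : Type u} [CommRing A] [IsLocalRing A] [Algebra k A]
  {d : ℕ} (x : Fin d → A)

/-- `aeval x` maps the `N`-th power of the ideal of variables into the `N`-th power of the ideal generated by `x`. -/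
lemma aeval_mem_pow {B : Type*} [CommRing B] [Algebra k B] (b : Fin d → B) (N : ℕ)
    (F : MvPolynomial (Fin d) k) (hF : F ∈ idealOfVars (Fin d) k ^ N) :
    aeval b F ∈ Ideal.span (Set.range b) ^ N := by
  have h1 := Ideal.mem_map_of_mem (aeval b : MvPolynomial (Fin d) k →ₐ[k] B).toRingHom hF
  rw [Ideal.map_pow, Ideal.map_span] at h1
  have h2 : (aeval b : MvPolynomial (Fin d) k →ₐ[k] B).toRingHom '' Set.range X = Set.range b := by
    rw [← Set.range_comp]
    congr 1
    funext i
    simp
  rw [h2] at h1
  exact h1

variable (hx : Ideal.span (Set.range x) = maximalIdeal A)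
  (hres : ∀ a : A, ∃ c : k, a - algebraMap k A c ∈ maximalIdeal A)

include hx hres in
/-- linear approximation of elements of the maximal ideal. -/
lemma exists_approx_one (s : A) (hs : s ∈ maximalIdeal A) :
    ∃ G : MvPolynomial (Fin d) k, s - aeval x G ∈ maximalIdeal A ^ 2 ∧ aeval x G ∈ maximalIdeal A := by
  rw [← hx] at hs
  induction hs using Submodule.span_induction with
  | mem y hy =>
    obtain ⟨i, rfl⟩ := hy
    exact ⟨X i, by simp, by rw [aeval_X, ← hx]; exact Ideal.subset_span ⟨i, rfl⟩⟩
  | zero => exact ⟨0, by simp, by simp⟩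
  | add a b _ _ ha hb =>
    obtain ⟨Ga, ha1, ha2⟩ := ha
    obtain ⟨Gb, hb1, hb2⟩ := hb
    refine ⟨Ga + Gb, ?_, ?_⟩
    · rw [map_add]
      have : a + b - (aeval x Ga + aeval x Gb) = (a - aeval x Ga) + (b - aeval x Gb) := by ring
      rw [this]
      exact Ideal.add_mem _ ha1 hb1
    · rw [map_add]; exact Ideal.add_mem _ ha2 hb2
  | smul a s _ hs =>
    obtain ⟨G, h1, h2⟩ := hs
    obtain ⟨c, hc⟩ := hres a
    refine ⟨C c * G, ?_, ?_⟩
    · rw [map_mul, aeval_C, smul_eq_mul]
      have : a * s - algebraMap k A c * aeval x G =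
          a * (s - aeval x G) + (a - algebraMap k A c) * aeval x G := by ring
      rw [this]
      refine Ideal.add_mem _ (Ideal.mul_mem_left _ _ h1) ?_
      rw [pow_two]
      exact Ideal.mul_mem_mul hc h2
    · rw [map_mul]; exact Ideal.mul_mem_left _ _ h2

include hx hres in
/-- approximation step. -/
lemma exists_approx_step : ∀ (N : ℕ) (r : A), r ∈ maximalIdeal A ^ N →
    ∃ G : MvPolynomial (Fin d) k, r - aeval x G ∈ maximalIdeal A ^ (N + 1) := by
  intro N
  induction N with
  | zero =>
    intro r _
    obtain ⟨c, hc⟩ := hres r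
    exact ⟨C c, by rw [aeval_C, zero_add, pow_one]; exact hc⟩
  | succ N ih =>
    intro r hr
    rw [pow_succ] at hr
    refine Submodule.mul_induction_on hr (fun t ht s hs => ?_) (fun a b ha hb => ?_)
    · obtain ⟨Gt, hGt⟩ := ih t ht
      obtain ⟨Gs, hGs1, hGs2⟩ := exists_approx_one x hx hres s hs
      refine ⟨Gt * Gs, ?_⟩
      rw [map_mul]
      have : t * s - aeval x Gt * aeval x Gs =
          t * (s - aeval x Gs) + (t - aeval x Gt) * aeval x Gs := by ring
      rw [this]
      refine Ideal.add_mem _ ?_ ?_
      · have : maximalIdeal A ^ (N + 1 + 1) = maximalIdeal A ^ N * maximalIdeal A ^ 2 := by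
          rw [← pow_add]
        rw [this]
        exact Ideal.mul_mem_mul ht hGs1
      · rw [pow_succ (maximalIdeal A) (N + 1)]
        exact Ideal.mul_mem_mul hGt hGs2
    · obtain ⟨Ga, ha⟩ := ha
      obtain ⟨Gb, hb⟩ := hb
      refine ⟨Ga + Gb, ?_⟩
      rw [map_add]
      have : a + b - (aeval x Ga + aeval x Gb) = (a - aeval x Ga) + (b - aeval x Gb) := by ring
      rw [this]
      exact Ideal.add_mem _ ha hb

include hx hres in
/-- every element is a polynomial in `x` modulo any power of the maximal ideal. -/
lemma exists_approx : ∀ (N : ℕ) (a : A),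
    ∃ F : MvPolynomial (Fin d) k, a - aeval x F ∈ maximalIdeal A ^ N := by
  intro N
  induction N with
  | zero => intro a; exact ⟨0, by simp⟩
  | succ N ih =>
    intro a
    obtain ⟨F, hF⟩ := ih a
    obtain ⟨G, hG⟩ := exists_approx_step x hx hres N _ hF
    refine ⟨F + G, ?_⟩
    rw [map_add]
    have : a - (aeval x F + aeval x G) = a - aeval x F - aeval x G := by ring
    rw [this]
    exact hG

include hx in
/-- quasi-regularity: a polynomial whose value lies in `𝔪^N` has no terms of degree `< N`. -/
lemma mem_pow_of_aeval_mem (hq : QR x) (N : ℕ) (F : MvPolynomial (Fin d) k)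
    (hF : aeval x F ∈ maximalIdeal A ^ N) : F ∈ idealOfVars (Fin d) k ^ N := by
  have key : ∀ j, j ≤ N → F ∈ idealOfVars (Fin d) k ^ j := by
    intro j
    induction j with
    | zero => intro _; simp
    | succ j ih =>
      intro hj
      have hFj := ih (by omega)
      -- the homogeneous component of degree `j`
      have hF' : F - homogeneousComponent j F ∈ idealOfVars (Fin d) k ^ (j + 1) := by
        rw [mem_pow_idealOfVars_iff']
        intro α hα
        rw [coeff_sub, coeff_homogeneousComponent]
        split_ifs with h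
        · rw [sub_self]
        · have : α.degree < j := by omega
          rw [(mem_pow_idealOfVars_iff' j F).1 hFj α this, sub_zero]
      have h1 : aeval x (homogeneousComponent j F) ∈ maximalIdeal A ^ (j + 1) := by
        have h2 := aeval_mem_pow x (j + 1) _ hF'
        rw [hx, map_sub] at h2
        have h3 : aeval x F ∈ maximalIdeal A ^ (j + 1) := Ideal.pow_le_pow_right hj hF
        have := Ideal.sub_mem _ h3 h2
        simpa using this
      have h4 : ∀ α, (homogeneousComponent j F).coeff α = 0 := by
        intro α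
        by_contra hne
        have h5 := hq j (MvPolynomial.map (algebraMap k A) (homogeneousComponent j F))
          ((homogeneousComponent_isHomogeneous j F).map _)
          (by rw [eval_map, ← aeval_def, hx]; exact h1) α
        rw [coeff_map, hx] at h5
        exact h5 ((isUnit_iff_ne_zero.2 hne).map (algebraMap k A))
      have h6 : homogeneousComponent j F = 0 := MvPolynomial.ext _ _ (fun α => by rw [h4 α, coeff_zero])
      rw [h6, sub_zero] at hF'
      exact hF'
  exact key N le_rfl

end poly

section lift

variable {k : Type u} [Field k] {A : Type u} [CommRing A] [IsLocalRing A] [Algebra k A]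
  {d : ℕ} (x : Fin d → A) (hx : Ideal.span (Set.range x) = maximalIdeal A)
  (hres : ∀ a : A, ∃ c : k, a - algebraMap k A c ∈ maximalIdeal A) (hq : QR x)

include hx hres hq in
/-- maps out of `A` with prescribed nilpotent values on a regular system of parameters. -/
theorem exists_algHom_of_nilp {B : Type u} [CommRing B] [Algebra k B] (b : Fin d → B) (N : ℕ)
    (hb : Ideal.span (Set.range b) ^ N = ⊥) :
    ∃ g : A →ₐ[k] B, ∀ (a : A) (F : MvPolynomial (Fin d) k),
      a - aeval x F ∈ maximalIdeal A ^ N → g a = aeval b F := by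
  classical
  choose Fa hFa using exists_approx x hx hres N
  have key : ∀ F F' : MvPolynomial (Fin d) k, aeval x F - aeval x F' ∈ maximalIdeal A ^ N →
      aeval b F = aeval b F' := by
    intro F F' h
    rw [← map_sub] at h
    have h1 := mem_pow_of_aeval_mem x hx hq N _ h
    have h2 := aeval_mem_pow b N _ h1
    rw [hb, Ideal.mem_bot, map_sub, sub_eq_zero] at h2
    exact h2
  have hg : ∀ (a : A) (F : MvPolynomial (Fin d) k),
      a - aeval x F ∈ maximalIdeal A ^ N → aeval b (Fa a) = aeval b F := by
    intro a F hF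
    apply key
    have := Ideal.sub_mem _ hF (hFa a)
    have e : a - aeval x F - (a - aeval x (Fa a)) = aeval x (Fa a) - aeval x F := by ring
    rw [e] at this
    exact this
  refine ⟨{ toFun := fun a => aeval b (Fa a)
            map_one' := ?_
            map_mul' := ?_
            map_zero' := ?_
            map_add' := ?_
            commutes' := ?_ }, hg⟩
  · rw [hg 1 1 (by simp), map_one]
  · intro a a'
    rw [← map_mul]
    apply hg
    rw [map_mul]
    have e : a * a' - aeval x (Fa a) * aeval x (Fa a') =
        a * (a' - aeval x (Fa a')) + (a - aeval x (Fa a)) * aeval x (Fa a') := by ring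
    rw [e]
    exact Ideal.add_mem _ (Ideal.mul_mem_left _ _ (hFa a')) (Ideal.mul_mem_right _ _ (hFa a))
  · rw [hg 0 0 (by simp), map_zero]
  · intro a a'
    rw [← map_add]
    apply hg
    rw [map_add]
    have e : a + a' - (aeval x (Fa a) + aeval x (Fa a')) =
        (a - aeval x (Fa a)) + (a' - aeval x (Fa a')) := by ring
    rw [e]
    exact Ideal.add_mem _ (hFa a) (hFa a')
  · intro c
    rw [hg _ (C c) (by rw [aeval_C, sub_self]; exact Ideal.zero_mem _), aeval_C]

end lift

section forward

lemma exists_scalar_of_surjective {k : Type u} [Field k] {A : Type u} [CommRing A] [IsLocalRing A]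
    [Algebra k A] (hres : Function.Surjective (algebraMap k (IsLocalRing.ResidueField A))) (a : A) :
    ∃ c : k, a - algebraMap k A c ∈ maximalIdeal A := by
  obtain ⟨c, hc⟩ := hres (IsLocalRing.residue A a)
  refine ⟨c, ?_⟩
  rw [← IsLocalRing.residue_eq_zero_iff, map_sub, sub_eq_zero, ← hc,
    IsScalarTower.algebraMap_apply k A (ResidueField A)]
  rfl

theorem forward (k : Type u) [Field k] [IsAlgClosed k]
    (A : Type u) [CommRing A] [IsLocalRing A] [Algebra k A]
    (hres : Function.Surjective (algebraMap k (IsLocalRing.ResidueField A)))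
    [IsRegularLocalRing A]
    (B' : Type u) [CommRing B'] [IsLocalRing B'] [Algebra k B'] [Module.Finite k B']
    (J : Ideal B') (hJ : J ^ 2 = ⊥) (f : A →ₐ[k] B' ⧸ J) :
    ∃ g : A →ₐ[k] B', (Ideal.Quotient.mkₐ k J).comp g = f := by
  classical
  have hres' := exists_scalar_of_surjective hres
  -- a regular system of parameters
  have hfg : (maximalIdeal A).FG := IsNoetherian.noetherian _
  obtain ⟨s, hs1, hs2⟩ := Submodule.FG.exists_span_finset_card_eq_spanFinrank hfg
  obtain ⟨d, hd⟩ : ∃ d, (maximalIdeal A).spanFinrank = d := ⟨_, rfl⟩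
  let e : Fin d ≃ s := (s.equivFinOfCardEq (hs1.trans hd)).symm
  let x : Fin d → A := fun j => (e j : A)
  have hx : Ideal.span (Set.range x) = maximalIdeal A := by
    rw [← hs2]
    congr 1
    ext a
    constructor
    · rintro ⟨j, rfl⟩
      exact (e j).2
    · intro ha
      exact ⟨e.symm ⟨a, ha⟩, by simp [x]⟩
  have hq : QR x := QR_of_isWeaklyRegular d x
    (Groth.Agent.Lib.helper15.isWeaklyRegular_ofFn A d hd x hx)
  -- the target
  have : IsArtinianRing B' := IsArtinianRing.of_finite k B'
  obtain ⟨N, hN⟩ : ∃ N : ℕ, maximalIdeal B' ^ N = ⊥ := by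
    have h : IsNilpotent (Ideal.jacobson (⊥ : Ideal B')) := IsArtinianRing.isNilpotent_jacobson_bot
    rw [IsLocalRing.jacobson_eq_maximalIdeal ⊥ bot_ne_top] at h
    obtain ⟨N, hN⟩ := h
    exact ⟨N, hN⟩
  have hresB : ∀ b : B', ∃ c : k, b - algebraMap k B' c ∈ maximalIdeal B' := by
    have hfin : Module.Finite k (ResidueField B') :=
      Module.Finite.of_surjective (IsScalarTower.toAlgHom k B' (ResidueField B')).toLinearMap
        IsLocalRing.residue_surjective
    have : Algebra.IsIntegral k (ResidueField B') := Algebra.IsIntegral.of_finite k _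
    exact exists_scalar_of_surjective
      (IsAlgClosed.algebraMap_bijective_of_isIntegral (k := k) (K := ResidueField B')).2
  have hJtop : J ≠ ⊤ := by
    intro h
    have h1 : (1 : B') ∈ J ^ 2 := by rw [h, Ideal.top_pow]; exact Submodule.mem_top
    rw [hJ, Ideal.mem_bot] at h1
    exact one_ne_zero h1
  have hJm : J ≤ maximalIdeal B' := IsLocalRing.le_maximalIdeal hJtop
  have hlift : ∀ i, ∃ b : B', Ideal.Quotient.mk J b = f (x i) := fun i =>
    Ideal.Quotient.mk_surjective _
  choose b hb using hlift
  have hbm : ∀ i, b i ∈ maximalIdeal B' := by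
    intro i
    obtain ⟨c, hc⟩ := hresB (b i)
    by_cases hc0 : c = 0
    · rw [hc0, map_zero, sub_zero] at hc
      exact hc
    · exfalso
      -- `x i - c` is a unit of `A` mapped to a nilpotent element
      have hxi : x i ∈ maximalIdeal A := by rw [← hx]; exact Ideal.subset_span ⟨i, rfl⟩
      have hunit : IsUnit (x i - algebraMap k A c) := by
        by_contra hnu
        have h1 : x i - algebraMap k A c ∈ maximalIdeal A := hnu
        have h2 : algebraMap k A c ∈ maximalIdeal A := by
          have := Ideal.sub_mem _ hxi h1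
          simpa using this
        exact h2 ((isUnit_iff_ne_zero.2 hc0).map (algebraMap k A))
      have h3 : f (x i - algebraMap k A c) = Ideal.Quotient.mk J (b i - algebraMap k B' c) := by
        rw [map_sub, map_sub, hb, AlgHom.commutes]
        rfl
      have h4 : (Ideal.Quotient.mk J (b i - algebraMap k B' c)) ^ N = 0 := by
        rw [← map_pow, Ideal.Quotient.eq_zero_iff_mem]
        have : (b i - algebraMap k B' c) ^ N ∈ maximalIdeal B' ^ N := Ideal.pow_mem_pow hc N
        rw [hN, Ideal.mem_bot] at this
        rw [this]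
        exact Ideal.zero_mem _
      have h5 : IsUnit ((Ideal.Quotient.mk J (b i - algebraMap k B' c)) ^ N) := by
        rw [← h3]
        exact (hunit.map f).pow N
      rw [h4, isUnit_zero_iff] at h5
      have h6 : (1 : B') ∈ J := by
        rw [← Ideal.Quotient.eq_zero_iff_mem, map_one]
        exact h5.symm
      exact hJtop ((Ideal.eq_top_iff_one J).2 h6)
  have hbN : Ideal.span (Set.range b) ^ N = ⊥ := by
    rw [eq_bot_iff, ← hN]
    apply Ideal.pow_right_mono
    rw [Ideal.span_le]
    rintro _ ⟨i, rfl⟩
    exact hbm i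
  obtain ⟨g, hg⟩ := exists_algHom_of_nilp x hx hres' hq b N hbN
  refine ⟨g, ?_⟩
  -- `f` kills `𝔪^N`
  have hfN : ∀ a ∈ maximalIdeal A ^ N, f a = 0 := by
    intro a ha
    have h1 := Ideal.mem_map_of_mem f.toRingHom ha
    rw [Ideal.map_pow, ← hx, Ideal.map_span, ← Set.range_comp] at h1
    have h2 : (f.toRingHom ∘ x) = (Ideal.Quotient.mk J) ∘ b := by
      funext i
      exact (hb i).symm
    rw [h2, Set.range_comp, ← Ideal.map_span, ← Ideal.map_pow, hbN, Ideal.map_bot] at h1
    exact h1
  apply AlgHom.ext
  intro a
  obtain ⟨F, hF⟩ := exists_approx x hx hres' N a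
  rw [AlgHom.comp_apply, hg a F hF]
  have h1 : (Ideal.Quotient.mkₐ k J) (aeval b F) = aeval (fun i => f (x i)) F := by
    have := comp_aeval (R := k) b (Ideal.Quotient.mkₐ k J)
    have h2 := DFunLike.congr_fun this F
    rw [AlgHom.comp_apply] at h2
    have hfun : (fun i => (Ideal.Quotient.mkₐ k J) (b i)) = fun i => f (x i) := funext hb
    rw [hfun] at h2
    exact h2
  have h2 : f (aeval x F) = aeval (fun i => f (x i)) F := by
    have := comp_aeval (R := k) x f
    exact DFunLike.congr_fun this F
  rw [h1, ← h2]
  have h3 := hfN _ hF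
  rw [map_sub, sub_eq_zero] at h3
  exact h3.symm

end forward

section backward

open ArtFun CategoryTheory

/-- objects of `Art k k` are finite-dimensional. -/
theorem finite_art {k : Type u} [Field k] (C : Art k k) : Module.Finite k C.carrier := by
  have hker : ∀ c : C.carrier, c ∈ maximalIdeal C.carrier ↔ C.res c = 0 := fun c =>
    Art.mem_maximalIdeal_iff C c
  have hsurj : Function.Surjective
      (Algebra.linearMap k (C.carrier ⧸ Ring.jacobson C.carrier)) := by
    intro y
    obtain ⟨c, rfl⟩ := Ideal.Quotient.mk_surjective y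
    refine ⟨C.res c, ?_⟩
    rw [Algebra.linearMap_apply, IsScalarTower.algebraMap_apply k C.carrier, eq_comm]
    change Ideal.Quotient.mk _ c = Ideal.Quotient.mk _ (algebraMap k C.carrier (C.res c))
    rw [Ideal.Quotient.eq, IsLocalRing.ringJacobson_eq_maximalIdeal, hker, map_sub,
      AlgHom.commutes]
    simp
  have : Module.Finite k (C.carrier ⧸ Ring.jacobson C.carrier) :=
    Module.Finite.of_surjective _ hsurj
  exact IsSemiprimaryRing.finite_of_isArtinian k C.carrier C.carrier

theorem exists_lift_art (k : Type u) [Field k]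
    (A : Type u) [CommRing A] [Algebra k A] (res : A →ₐ[k] k)
    (hlift : ∀ (B' : Type u) [CommRing B'] [IsLocalRing B'] [Algebra k B'] [Module.Finite k B']
        (J : Ideal B'), J ^ 2 = ⊥ → ∀ f : A →ₐ[k] B' ⧸ J,
          ∃ g : A →ₐ[k] B', (Ideal.Quotient.mkₐ k J).comp g = f)
    {C' C : Art k k} (p : C' ⟶ C) (hp : Art.IsSemismallExt p) (u : HomSet A res C) :
    ∃ u' : HomSet A res C', HomSet.map p u' = u := by
  have : Module.Finite k C'.carrier := finite_art C'
  obtain ⟨J, hJdef⟩ : ∃ J : Ideal C'.carrier, J = RingHom.ker p.toAlgHom := ⟨_, rfl⟩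
  have hJ2 : J ^ 2 = ⊥ := by
    rw [eq_bot_iff, pow_two, ← hp.2, hJdef]
    apply Ideal.mul_mono_left
    intro y hy
    rw [Art.mem_maximalIdeal_iff, ← p.res_comp]
    change C.res (p.toAlgHom y) = 0
    rw [(RingHom.mem_ker).1 hy, map_zero]
  -- the isomorphism `C'/J ≃ C`
  have hpsurj : Function.Surjective p.toAlgHom := hp.1
  let pbar : (C'.carrier ⧸ J) →ₐ[k] C.carrier :=
    Ideal.Quotient.liftₐ J p.toAlgHom (fun y hy => by rw [hJdef] at hy; exact hy)
  have hpbar : ∀ y, pbar (Ideal.Quotient.mk J y) = p.toAlgHom y := fun y => rfl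
  have hpbar_inj : Function.Injective pbar := by
    rw [injective_iff_map_eq_zero]
    intro y hy
    obtain ⟨y, rfl⟩ := Ideal.Quotient.mk_surjective y
    rw [hpbar] at hy
    rw [Ideal.Quotient.eq_zero_iff_mem, hJdef]
    exact hy
  have hpbar_surj : Function.Surjective pbar := fun c => by
    obtain ⟨y, rfl⟩ := hpsurj c
    exact ⟨Ideal.Quotient.mk J y, rfl⟩
  let ebar : (C'.carrier ⧸ J) ≃ₐ[k] C.carrier := AlgEquiv.ofBijective pbar ⟨hpbar_inj, hpbar_surj⟩
  obtain ⟨g, hg⟩ := hlift C'.carrier J hJ2 ((ebar.symm : C.carrier →ₐ[k] (C'.carrier ⧸ J)).comp u.1)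
  have hpg : p.toAlgHom.comp g = u.1 := by
    apply AlgHom.ext
    intro a
    have h1 := DFunLike.congr_fun hg a
    rw [AlgHom.comp_apply, AlgHom.comp_apply] at h1
    have h2 : ebar (Ideal.Quotient.mkₐ k J (g a)) = u.1 a := by
      rw [h1]
      exact ebar.apply_symm_apply _
    exact h2
  refine ⟨⟨g, ?_⟩, Subtype.ext hpg⟩
  rw [← p.res_comp, AlgHom.comp_assoc, hpg]
  exact u.2

/-- the zero obstruction theory. -/
noncomputable def zeroObs (k : Type u) [Field k]
    (A : Type u) [CommRing A] [Algebra k A] (res : A →ₐ[k] k)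
    (hlift : ∀ (B' : Type u) [CommRing B'] [IsLocalRing B'] [Algebra k B'] [Module.Finite k B']
        (J : Ideal B'), J ^ 2 = ⊥ → ∀ f : A →ₐ[k] B' ⧸ J,
          ∃ g : A →ₐ[k] B', (Ideal.Quotient.mkₐ k J).comp g = f) :
    ArtFun.ObsTheory (ArtFun.hR A res) PUnit.{u + 1} where
  obs _ _ _ := 0
  obs_eq_zero_iff := by
    intro C' C p hp u
    refine ⟨fun _ => ?_, fun _ => rfl⟩
    exact exists_lift_art k A res hlift p hp u
  obs_quot := by
    intro C' C p hp K hK hKJ hq u
    rw [map_zero]

end backward


/-- Let k be an algebraically closed field and A a local k-algebra essentially of finite type over k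
with residue field k. Then regularity of A as a local ring is equivalent to the following: for every
local k-algebra B' of finite dimension over k, every ideal J of B' of square zero and every
k-algebra homomorphism f : A → B'/J, there is a k-algebra homomorphism g : A → B' lifting f. (Local
k-algebras of finite k-dimension are exactly the local Artin rings finite over k; lifting against
square-zero kernels is equivalent to lifting against nilpotent ones by induction.) -/
theorem result (k : Type u) [Field k] [IsAlgClosed k]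
    (A : Type u) [CommRing A] [IsLocalRing A] [Algebra k A] [Algebra.EssFiniteType k A]
    (hres : Function.Surjective (algebraMap k (IsLocalRing.ResidueField A))) :
    IsRegularLocalRing A ↔
      ∀ (B' : Type u) [CommRing B'] [IsLocalRing B'] [Algebra k B'] [Module.Finite k B']
        (J : Ideal B'), J ^ 2 = ⊥ → ∀ f : A →ₐ[k] B' ⧸ J,
          ∃ g : A →ₐ[k] B', (Ideal.Quotient.mkₐ k J).comp g = f := by
  constructor
  · intro hreg B' _ _ _ _ J hJ f
    exact forward k A hres B' J hJ f
  · intro hlift
    have : IsNoetherianRing A := Algebra.EssFiniteType.isNoetherianRing k A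
    let e : k ≃ₐ[k] IsLocalRing.ResidueField A :=
      AlgEquiv.ofBijective (Algebra.ofId k (IsLocalRing.ResidueField A))
        ⟨(algebraMap k (IsLocalRing.ResidueField A)).injective, hres⟩
    let res : A →ₐ[k] k :=
      (e.symm : IsLocalRing.ResidueField A →ₐ[k] k).comp
        (IsScalarTower.toAlgHom k A (IsLocalRing.ResidueField A))
    have T := zeroObs k A res hlift
    exact (Groth.Agent.S12324.result k A res PUnit T).2.2.1 Module.finrank_zero_of_subsingleton

end Groth.Agent.S11451
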