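import Groth.Statements.S11452
import Groth.Agent.LibAffDef29c
import Groth.Agent.S12290
-- import your own Groth.Agent.* helpers here

set_option autoImplicit false
universe u
open CategoryTheory AlgebraicGeometry
open DefT

namespace Groth.Agent.S11452

/-- Let k be an algebraically closed field, X an affine scheme of finite type over k whose local rings
are all regular, A a local Artin k-algebra with a k-algebra augmentation e : A → k, and g : X' →
Spec A a flat morphism whose fibre over the k-point Spec k → Spec A given by e is X (with its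
structure map to Spec k). Then there is an isomorphism from X' to the trivial deformation X ×_{Spec
k} Spec A compatible with the projections to Spec A. -/
theorem result (k : Type u) [Field k]
    [IsAlgClosed k] (X : Scheme.{u}) (hX : X ⟶ Spec (CommRingCat.of k)) [IsAffine X]
    [LocallyOfFiniteType hX] (hreg : ∀ x : X, IsRegularLocalRing (X.presheaf.stalk x))
    (A : Type u) [CommRing A] [IsLocalRing A] [IsArtinianRing A] [Algebra k A] (e : A →ₐ[k] k)
    (X' : Scheme.{u}) (g : X' ⟶ Spec (CommRingCat.of A)) [Flat g] (i : X ⟶ X')
    (hsq : IsPullback i hX g (Spec.map (CommRingCat.ofHom e.toRingHom))) :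
    ∃ φ : X' ≅ Limits.pullback hX (Spec.map (CommRingCat.ofHom (algebraMap k A))),
      φ.hom ≫ Limits.pullback.snd hX (Spec.map (CommRingCat.ofHom (algebraMap k A))) = g := by
  -- the kernel of the augmentation is nilpotent
  have he : Function.Surjective e := fun c => ⟨algebraMap k A c, by simp⟩
  haveI hmax : (RingHom.ker e.toRingHom).IsMaximal := RingHom.ker_isMaximal_of_surjective e.toRingHom he
  have hkm : RingHom.ker e = IsLocalRing.maximalIdeal A := IsLocalRing.eq_maximalIdeal hmax
  obtain ⟨n, hn0⟩ : IsNilpotent (Ideal.jacobson (⊥ : Ideal A)) := IsArtinianRing.isNilpotent_jacobson_bot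
  have hn : (RingHom.ker e) ^ n = ⊥ := by
    rw [hkm, ← IsLocalRing.jacobson_eq_maximalIdeal ⊥ bot_ne_top]
    exact hn0
  -- formal smoothness of the coordinate ring
  have hsm : (Groth.Agent.LibAffDef29.toΓ hX).hom.FormallySmooth := by
    letI : Algebra k Γ(X, ⊤) := (Groth.Agent.LibAffDef29.toΓ hX).hom.toAlgebra
    haveI : Algebra.FiniteType k Γ(X, ⊤) := by
      have h1 : hX.appTop.hom.FiniteType :=
        HasRingHomProperty.appTop (P := @LocallyOfFiniteType) hX inferInstance
      have h2 : (Scheme.ΓSpecIso (CommRingCat.of k)).inv.hom.FiniteType :=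
        RingHom.FiniteType.of_surjective _ (ConcreteCategory.bijective_of_isIso _).2
      exact RingHom.FiniteType.comp h1 h2
    change Algebra.FormallySmooth k Γ(X, ⊤)
    rw [Groth.Agent.S12290.formallySmooth_iff_regular]
    intro p _
    have hU := isAffineOpen_top X
    let y : Spec Γ(X, ⊤) := ⟨p, inferInstance⟩
    let x : X := hU.fromSpec y
    have hx : x ∈ (⊤ : X.Opens) := trivial
    have hy : hU.primeIdealOf ⟨x, hx⟩ = y := by
      apply hU.fromSpec.isOpenEmbedding.injective
      exact hU.fromSpec_primeIdealOf ⟨x, hx⟩
    letI : Algebra Γ(X, ⊤) (X.presheaf.stalk x) := X.presheaf.algebra_section_stalk (U := ⊤) ⟨x, hx⟩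
    haveI hloc : IsLocalization.AtPrime (X.presheaf.stalk x) p := by
      have := hU.isLocalization_stalk ⟨x, hx⟩
      rw [hy] at this
      exact this
    haveI := hreg x
    exact IsRegularLocalRing.of_ringEquiv
      (IsLocalization.algEquiv p.primeCompl (X.presheaf.stalk x) (Localization.AtPrime p)).toRingEquiv
  obtain ⟨ρ, -, hpb⟩ := Groth.Agent.LibAffDef29.exists_retraction_isPullback hX g i e n hn hsq hsm
  exact ⟨hpb.isoPullback, hpb.isoPullback_hom_snd⟩

end Groth.Agent.S11452
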