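import Groth.Statements.S11454
import Mathlib
import Groth.Agent.Lib.Helper19.DefCI

set_option autoImplicit false
universe u
open DefT

namespace Groth.Agent.S11454

open Groth.Agent.Lib.Helper19.DefCI RingTheory.Sequence

theorem isNilpotent_maximalIdeal (C : Type u) [CommRing C] [IsLocalRing C] [IsArtinianRing C] :
    IsNilpotent (IsLocalRing.maximalIdeal C) := by
  have := IsArtinianRing.isNilpotent_jacobson_bot (R := C)
  rwa [IsLocalRing.jacobson_eq_maximalIdeal ⊥ bot_ne_top] at this

theorem isNilpotent_map {C A : Type u} [CommRing C] [CommRing A] [Algebra C A] (𝔞 : Ideal C)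
    (h : IsNilpotent 𝔞) : IsNilpotent (𝔞.map (algebraMap C A)) := by
  obtain ⟨n, hn⟩ := h
  refine ⟨n, ?_⟩
  rw [← Ideal.map_pow, hn, Ideal.zero_eq_bot, Ideal.map_bot, Ideal.zero_eq_bot]



/-- Let C' be a local Artin ring, J ⊊ C' a proper ideal annihilated by the maximal ideal, C = C'/J, A' a
flat C'-algebra whose reduction modulo the maximal ideal of C' is a Cohen–Macaulay local ring, and A
= A'/JA'. If a'_1, …, a'_r ∈ A' have images in A forming a regular sequence with A/(a_1, …, a_r)
flat over C, then a'_1, …, a'_r is a regular sequence on A' and A'/(a'_1, …, a'_r) is flat over C'.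
(Regular sequences stand in for the exactness of the Koszul complexes in the published statement;
over a Noetherian local ring with the elements in the maximal ideal the two are equivalent.) -/
theorem result (C' : Type u) [CommRing C'] [IsLocalRing C'] [IsArtinianRing C'] (J : Ideal C')
    (hJ : IsLocalRing.maximalIdeal C' * J = ⊥) (hJne : J ≠ ⊤) (A' : Type u) [CommRing A'] [Algebra C' A'] [Module.Flat C' A']
    [LocCoh.IsCohenMacaulayLocalRing (A' ⧸ (IsLocalRing.maximalIdeal C').map (algebraMap C' A'))]
    (r : ℕ) (a' : Fin r → A')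
    (hreg : RingTheory.Sequence.IsRegular (A' ⧸ J.map (algebraMap C' A'))
      (List.ofFn (fun i => Ideal.Quotient.mk (J.map (algebraMap C' A')) (a' i))))
    [Module.Flat (C' ⧸ J) ((A' ⧸ J.map (algebraMap C' A')) ⧸
      Ideal.span (Set.range (fun i => Ideal.Quotient.mk (J.map (algebraMap C' A')) (a' i))))] :
    RingTheory.Sequence.IsRegular A' (List.ofFn a') ∧ Module.Flat C' (A' ⧸ Ideal.span (Set.range a')) := by
  have hJm : J ≤ IsLocalRing.maximalIdeal C' := IsLocalRing.le_maximalIdeal hJne
  have hJnil : IsNilpotent J := by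
    refine ⟨2, ?_⟩
    rw [pow_two, Ideal.zero_eq_bot, ← le_bot_iff, ← hJ]
    exact Ideal.mul_mono_left hJm
  have hmnil := isNilpotent_maximalIdeal C'
  have hm'nil := isNilpotent_map (A := A') _ hmnil
  have hm'fg : ((IsLocalRing.maximalIdeal C').map (algebraMap C' A')).FG :=
    Ideal.FG.map (IsNoetherian.noetherian _) _
  haveI : IsLocalRing (A' ⧸ (IsLocalRing.maximalIdeal C').map (algebraMap C' A')) :=
    inferInstance
  haveI : IsNoetherianRing (A' ⧸ (IsLocalRing.maximalIdeal C').map (algebraMap C' A')) :=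
    inferInstance
  haveI : IsLocalRing A' := isLocalRing_of_quotient_nilpotent _ hm'nil
  haveI : IsNoetherianRing A' := isNoetherianRing_of_quotient_nilpotent _ hm'fg hm'nil
  have hJ'ne : J.map (algebraMap C' A') ≠ ⊤ := by
    intro h
    have h1 : (IsLocalRing.maximalIdeal C').map (algebraMap C' A') = ⊤ :=
      top_le_iff.mp (h ▸ Ideal.map_mono hJm)
    exact (Ideal.Quotient.nontrivial_iff.mp inferInstance) h1
  haveI : Nontrivial (A' ⧸ J.map (algebraMap C' A')) := Ideal.Quotient.nontrivial_iff.mpr hJ'ne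
  haveI : IsLocalRing (A' ⧸ J.map (algebraMap C' A')) :=
    IsLocalRing.of_surjective' (Ideal.Quotient.mk (J.map (algebraMap C' A')))
      Ideal.Quotient.mk_surjective
  -- the lists
  have hlist : List.ofFn (fun i => Ideal.Quotient.mk (J.map (algebraMap C' A')) (a' i)) =
      (List.ofFn a').map (Ideal.Quotient.mk (J.map (algebraMap C' A'))) := by
    rw [List.map_ofFn]
    rfl
  -- Step A on the quotient
  have hmem : ∀ x ∈ (List.ofFn a').map (Ideal.Quotient.mk (J.map (algebraMap C' A'))),
      x ∈ IsLocalRing.maximalIdeal (A' ⧸ J.map (algebraMap C' A')) := by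
    intro x hx
    by_contra hxm
    have hu : IsUnit x := by
      by_contra hnu
      exact hxm ((IsLocalRing.mem_maximalIdeal x).mpr hnu)
    apply hreg.top_ne_smul
    rw [hlist]
    have : Ideal.ofList ((List.ofFn a').map (Ideal.Quotient.mk (J.map (algebraMap C' A')))) = ⊤ :=
      Ideal.eq_top_of_isUnit_mem _ (Ideal.subset_span hx) hu
    rw [this, smul_eq_mul, Ideal.mul_top]
  have hspan : Ideal.span (Set.range (fun i => Ideal.Quotient.mk (J.map (algebraMap C' A')) (a' i))) =
      (Ideal.ofList ((List.ofFn a').map (Ideal.Quotient.mk (J.map (algebraMap C' A')))) • ⊤ :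
        Submodule (A' ⧸ J.map (algebraMap C' A')) (A' ⧸ J.map (algebraMap C' A'))) := by
    rw [smul_eq_mul, Ideal.mul_top, ← hlist, Ideal.ofList]
    congr 1
    ext x
    simp [List.mem_ofFn]
  have hflatA : Module.Flat (C' ⧸ J) ((A' ⧸ J.map (algebraMap C' A')) ⧸
      (Ideal.ofList ((List.ofFn a').map (Ideal.Quotient.mk (J.map (algebraMap C' A')))) • ⊤ :
        Submodule (A' ⧸ J.map (algebraMap C' A')) (A' ⧸ J.map (algebraMap C' A')))) :=
    Module.Flat.of_linearEquiv
      ((Submodule.quotEquivOfEq _ _ hspan).symm.restrictScalars (C' ⧸ J))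
  have hregA : IsWeaklyRegular (A' ⧸ J.map (algebraMap C' A'))
      ((List.ofFn a').map (Ideal.Quotient.mk (J.map (algebraMap C' A')))) := by
    rw [← hlist]
    exact hreg.toIsWeaklyRegular
  have hA := flat_take (D := C' ⧸ J) _ (A' ⧸ J.map (algebraMap C' A')) hmem hregA hflatA
  -- FlatMod upstairs
  have hFM : ∀ i, FlatMod J (A' ⧸ (Ideal.ofList ((List.ofFn a').take i) • ⊤ : Submodule A' A')) := by
    intro i
    haveI : Module.Flat (C' ⧸ J) ((A' ⧸ J.map (algebraMap C' A')) ⧸
        (((Ideal.ofList ((List.ofFn a').take i)).map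
          (Ideal.Quotient.mk (J.map (algebraMap C' A')))) • ⊤ :
          Submodule (A' ⧸ J.map (algebraMap C' A')) (A' ⧸ J.map (algebraMap C' A')))) := by
      rw [Ideal.map_ofList, List.map_take]
      exact hA i
    exact flatMod_quot J _
  -- Step B
  have hreg0 : IsWeaklyRegular (A' ⧸ J.map (algebraMap C' A')) (List.ofFn a') :=
    (isWeaklyRegular_map_algebraMap_iff (A' ⧸ J.map (algebraMap C' A'))
      (A' ⧸ J.map (algebraMap C' A')) (List.ofFn a')).mp hregA
  have hker : LinearMap.ker (Submodule.mkQ (J.map (algebraMap C' A'))) =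
      (J.map (algebraMap C' A')) • (⊤ : Submodule A' A') := by
    rw [Submodule.ker_mkQ, smul_eq_mul, Ideal.mul_top]
  obtain ⟨hreg', hflat'⟩ := stepB J hJnil (List.ofFn a') A' (A' ⧸ J.map (algebraMap C' A'))
    (Submodule.mkQ _) (Submodule.mkQ_surjective _) hker hreg0 hFM
  refine ⟨⟨hreg', ?_⟩, ?_⟩
  · intro htop
    apply hreg.top_ne_smul
    have h1 : (1 : A') ∈ Ideal.ofList (List.ofFn a') := by
      have : (1 : A') ∈ (Ideal.ofList (List.ofFn a') • ⊤ : Submodule A' A') :=
        htop ▸ Submodule.mem_top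
      rwa [smul_eq_mul, Ideal.mul_top] at this
    have h2 : Ideal.ofList (List.ofFn (fun i => Ideal.Quotient.mk (J.map (algebraMap C' A')) (a' i)))
        = ⊤ := by
      rw [Ideal.eq_top_iff_one, hlist, ← Ideal.map_ofList]
      have := Ideal.mem_map_of_mem (Ideal.Quotient.mk (J.map (algebraMap C' A'))) h1
      rwa [map_one] at this
    rw [h2, smul_eq_mul, Ideal.mul_top]
  · have hspan' : Ideal.span (Set.range a') =
        (Ideal.ofList ((List.ofFn a').take (List.ofFn a').length) • ⊤ : Submodule A' A') := by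
      rw [List.take_length, smul_eq_mul, Ideal.mul_top, Ideal.ofList]
      congr 1
      ext x
      simp [List.mem_ofFn]
    haveI := hflat' (List.ofFn a').length
    exact Module.Flat.of_linearEquiv ((Submodule.quotEquivOfEq _ _ hspan').restrictScalars C')

end Groth.Agent.S11454
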