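import Groth.Statements.S11456
import Mathlib
import Groth.Agent.Lib.Helper19.DefCI

set_option autoImplicit false
universe u
open DefT

namespace Groth.Agent.S11456

open Groth.Agent.Lib.Helper19.DefCI RingTheory.Sequence

theorem isNilpotent_maximalIdeal (C : Type u) [CommRing C] [IsLocalRing C] [IsArtinianRing C] :
    IsNilpotent (IsLocalRing.maximalIdeal C) := by
  have := IsArtinianRing.isNilpotent_jacobson_bot (R := C)
  rwa [IsLocalRing.jacobson_eq_maximalIdeal ⊥ bot_ne_top] at this

theorem flatMod_maximalIdeal (C : Type u) [CommRing C] [IsLocalRing C] (X : Type u)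
    [AddCommGroup X] [Module C X] : FlatMod (IsLocalRing.maximalIdeal C) X := by
  unfold FlatMod
  letI : Field (C ⧸ IsLocalRing.maximalIdeal C) := Ideal.Quotient.field _
  infer_instance



/-- Let C be a local Artin ring with maximal ideal m, A a flat C-algebra such that A₀ = A/mA is a
Cohen–Macaulay local ring, and I ⊆ A an ideal with A/I flat over C whose image in A₀ is generated by
a regular sequence b_1, …, b_r on A₀. Then I is generated by r elements a_1, …, a_r forming a
regular sequence on A (so the Koszul complex on the a_i resolves A/I). -/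
theorem result (C : Type u) [CommRing C]
    [IsLocalRing C] [IsArtinianRing C] (A : Type u) [CommRing A] [Algebra C A] [Module.Flat C A]
    [LocCoh.IsCohenMacaulayLocalRing (A ⧸ (IsLocalRing.maximalIdeal C).map (algebraMap C A))]
    (I : Ideal A) [Module.Flat C (A ⧸ I)] (r : ℕ)
    (b : Fin r → A ⧸ (IsLocalRing.maximalIdeal C).map (algebraMap C A))
    (hb : RingTheory.Sequence.IsRegular (A ⧸ (IsLocalRing.maximalIdeal C).map (algebraMap C A)) (List.ofFn b))
    (hI : I.map (Ideal.Quotient.mk ((IsLocalRing.maximalIdeal C).map (algebraMap C A))) = Ideal.span (Set.range b)) :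
    ∃ a : Fin r → A, RingTheory.Sequence.IsRegular A (List.ofFn a) ∧ I = Ideal.span (Set.range a) := by
  have hnil : IsNilpotent (IsLocalRing.maximalIdeal C) := isNilpotent_maximalIdeal C
  have hmem : ∀ i, ∃ x ∈ I, Ideal.Quotient.mk ((IsLocalRing.maximalIdeal C).map (algebraMap C A)) x = b i := by
    intro i
    have : b i ∈ I.map (Ideal.Quotient.mk ((IsLocalRing.maximalIdeal C).map (algebraMap C A))) := by
      rw [hI]
      exact Ideal.subset_span ⟨i, rfl⟩
    exact (Ideal.mem_map_iff_of_surjective _ Ideal.Quotient.mk_surjective).mp this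
  choose a haI hab using hmem
  have hbeq : b = fun i => Ideal.Quotient.mk ((IsLocalRing.maximalIdeal C).map (algebraMap C A)) (a i) := funext fun i => (hab i).symm
  have hIspan : I = Ideal.span (Set.range a) := by
    refine span_eq_of_flat (IsLocalRing.maximalIdeal C) hnil I a haI ?_
    rw [hI, hbeq]
  refine ⟨a, ⟨?_, ?_⟩, hIspan⟩
  · -- weakly regular
    have hlist : List.ofFn b = (List.ofFn a).map (algebraMap A (A ⧸ ((IsLocalRing.maximalIdeal C).map (algebraMap C A)))) := by
      rw [hbeq, List.map_ofFn]
      rfl
    have hreg0 : IsWeaklyRegular (A ⧸ ((IsLocalRing.maximalIdeal C).map (algebraMap C A))) (List.ofFn a) := by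
      have := hb.toIsWeaklyRegular
      rw [hlist] at this
      exact (isWeaklyRegular_map_algebraMap_iff (A ⧸ ((IsLocalRing.maximalIdeal C).map (algebraMap C A))) (A ⧸ ((IsLocalRing.maximalIdeal C).map (algebraMap C A))) (List.ofFn a)).mp this
    have hker : LinearMap.ker (Submodule.mkQ ((IsLocalRing.maximalIdeal C).map (algebraMap C A))) = ((IsLocalRing.maximalIdeal C).map (algebraMap C A)) • (⊤ : Submodule A A) := by
      rw [Submodule.ker_mkQ, smul_eq_mul, Ideal.mul_top]
    exact (stepB (IsLocalRing.maximalIdeal C) hnil (List.ofFn a) A (A ⧸ ((IsLocalRing.maximalIdeal C).map (algebraMap C A))) (Submodule.mkQ ((IsLocalRing.maximalIdeal C).map (algebraMap C A))) (Submodule.mkQ_surjective _)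
      hker hreg0 (fun i => flatMod_maximalIdeal C _)).1
  · intro htop
    apply hb.top_ne_smul
    have h1 : (1 : A) ∈ Ideal.ofList (List.ofFn a) := by
      have : (1 : A) ∈ (Ideal.ofList (List.ofFn a) • ⊤ : Submodule A A) := htop ▸ Submodule.mem_top
      rwa [smul_eq_mul, Ideal.mul_top] at this
    have h2 : Ideal.ofList (List.ofFn b) = ⊤ := by
      rw [Ideal.eq_top_iff_one]
      have := Ideal.mem_map_of_mem (Ideal.Quotient.mk ((IsLocalRing.maximalIdeal C).map (algebraMap C A))) h1
      rw [Ideal.map_ofList, map_one] at this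
      convert this using 2
      rw [hbeq, List.map_ofFn]
      rfl
    rw [h2, smul_eq_mul, Ideal.mul_top]

end Groth.Agent.S11456
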