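import Groth.Statements.S11461
import Mathlib
-- import your own Groth.Agent.* helpers here

set_option autoImplicit false
universe u
open CategoryTheory
open DefT

namespace Groth.Agent.S11461

open Limits

section

variable {B : Type u} [CommRing B]

/-- The short complex `N → M → M/N`. -/
noncomputable abbrev scSub {M : Type u} [AddCommGroup M] [Module B M] (N : Submodule B M) :
    ShortComplex (ModuleCat.{u} B) :=
  ShortComplex.mk (ModuleCat.ofHom N.subtype) (ModuleCat.ofHom N.mkQ) (by ext x; simp)

theorem scSub_shortExact {M : Type u} [AddCommGroup M] [Module B M] (N : Submodule B M) :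
    (scSub N).ShortExact :=
  ModuleCat.shortComplex_shortExact _ (LinearMap.exact_subtype_mkQ N) N.injective_subtype
    N.mkQ_surjective

/-- The short complex `M → M → M/φM` for an injective endomorphism. -/
noncomputable abbrev scEnd {M : Type u} [AddCommGroup M] [Module B M] (φ : M →ₗ[B] M) :
    ShortComplex (ModuleCat.{u} B) :=
  ShortComplex.mk (ModuleCat.ofHom φ) (ModuleCat.ofHom (LinearMap.range φ).mkQ)
    (by ext x; simp)

theorem scEnd_shortExact {M : Type u} [AddCommGroup M] [Module B M] (φ : M →ₗ[B] M)
    (hφ : Function.Injective φ) : (scEnd φ).ShortExact :=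
  ModuleCat.shortComplex_shortExact _ (LinearMap.exact_map_mkQ_range φ) hφ
    (LinearMap.range φ).mkQ_surjective

/-- Nakayama: a nonzero finite module has a maximal ideal `m` with `m Y ≠ Y`. -/
theorem exists_maximal_smul_top_ne_top (Y : Type u) [AddCommGroup Y] [Module B Y]
    [Module.Finite B Y] [Nontrivial Y] :
    ∃ m : Ideal B, m.IsMaximal ∧ m • (⊤ : Submodule B Y) ≠ ⊤ := by
  have hne : Module.annihilator B Y ≠ ⊤ := by
    intro h
    obtain ⟨y, hy⟩ := exists_ne (0 : Y)
    have h1 : (1 : B) ∈ Module.annihilator B Y := h ▸ Submodule.mem_top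
    have := (Module.mem_annihilator.mp h1) y
    rw [one_smul] at this
    exact hy this
  obtain ⟨m, hm, hle⟩ := Ideal.exists_le_maximal _ hne
  refine ⟨m, hm, fun htop => ?_⟩
  obtain ⟨r, hr1, hr2⟩ := Submodule.exists_sub_one_mem_and_smul_eq_zero_of_fg_of_le_smul m
    (⊤ : Submodule B Y) (Module.finite_def.mp inferInstance) (by rw [htop])
  have hr : r ∈ Module.annihilator B Y :=
    Module.mem_annihilator.mpr fun y => hr2 y Submodule.mem_top
  have : (1 : B) ∈ m := by
    have h2 : (1 : B) = r - (r - 1) := by ring
    rw [h2]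
    exact m.sub_mem (hle hr) hr1
  exact hm.ne_top ((Ideal.eq_top_iff_one m).mpr this)

end

section main

variable {B : Type u} [CommRing B] [IsNoetherianRing B]
  (F : ModuleCat.{u} B ⥤ ModuleCat.{u} B) [F.Additive] [F.Linear B]

/-- `F` kills the module `X`. -/
def Z (X : Type u) [AddCommGroup X] [Module B X] : Prop :=
  IsZero (F.obj (ModuleCat.of B X))

variable {F}

theorem Z_of_equiv {X Y : Type u} [AddCommGroup X] [Module B X] [AddCommGroup Y] [Module B Y]
    (e : X ≃ₗ[B] Y) (h : Z F X) : Z F Y :=
  IsZero.of_iso h (F.mapIso e.toModuleIso).symm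

variable
  (hfg : ∀ M : ModuleCat.{u} B, Module.Finite B M → Module.Finite B (F.obj M))
  (hex : ∀ S : ShortComplex (ModuleCat.{u} B), S.ShortExact → Module.Finite B S.X₂ →
    (S.map F).Exact)
  (h0 : ∀ m : Ideal B, m.IsMaximal → Limits.IsZero (F.obj (ModuleCat.of B (B ⧸ m))))

include hex in
theorem Z_of_sub_of_quot {X : Type u} [AddCommGroup X] [Module B X] [Module.Finite B X]
    (N : Submodule B X) (h1 : Z F N) (h2 : Z F (X ⧸ N)) : Z F X := by
  have hS := hex (scSub N) (scSub_shortExact N) (inferInstanceAs (Module.Finite B X))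
  exact hS.isZero_of_both_zeros (h1.eq_of_src _ _) (h2.eq_of_tgt _ _)

include hfg hex h0 in
theorem key {X : Type u} [AddCommGroup X] [Module B X] [Module.Finite B X]
    (hq : ∀ N : Submodule B X, N ≠ ⊥ → Z F (X ⧸ N)) : Z F X := by
  by_contra hZ
  have hfin : Module.Finite B (F.obj (ModuleCat.of B X)) :=
    hfg _ (inferInstanceAs (Module.Finite B X))
  have hnt : Nontrivial (F.obj (ModuleCat.of B X)) := by
    rw [← not_subsingleton_iff_nontrivial]
    intro hs
    exact hZ (ModuleCat.isZero_of_subsingleton _)
  obtain ⟨m, hm, hmtop⟩ := exists_maximal_smul_top_ne_top (B := B) (F.obj (ModuleCat.of B X))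
  by_cases hA : ∀ x ∈ m, ∀ y : X, x • y = 0
  · -- case A: X is a vector space over B/m
    have hXnt : ∃ y : X, y ≠ 0 := by
      by_contra hno
      have hno' : ∀ y : X, y = 0 := by simpa using hno
      have : Subsingleton X := ⟨fun a b => by rw [hno' a, hno' b]⟩
      have hz : IsZero (ModuleCat.of B X) := ModuleCat.isZero_of_subsingleton _
      exact hZ (F.map_isZero hz)
    obtain ⟨y, hy⟩ := hXnt
    set f : B →ₗ[B] X := LinearMap.toSpanSingleton B X y with hf
    have hker : LinearMap.ker f = m := by
      symm
      apply hm.eq_of_le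
      · intro h
        have : (1 : B) ∈ LinearMap.ker f := h ▸ Submodule.mem_top
        rw [LinearMap.mem_ker, hf, LinearMap.toSpanSingleton_apply, one_smul] at this
        exact hy this
      · intro x hx
        rw [LinearMap.mem_ker, hf, LinearMap.toSpanSingleton_apply]
        exact hA x hx y
    have hrange : LinearMap.range f ≠ ⊥ := by
      intro h
      have : f 1 ∈ LinearMap.range f := LinearMap.mem_range_self f 1
      rw [h, Submodule.mem_bot, hf, LinearMap.toSpanSingleton_apply, one_smul] at this
      exact hy this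
    have hZN : Z F (LinearMap.range f) := by
      have e1 : (B ⧸ m) ≃ₗ[B] (B ⧸ LinearMap.ker f) := Submodule.quotEquivOfEq _ _ hker.symm
      have e2 : (B ⧸ LinearMap.ker f) ≃ₗ[B] LinearMap.range f := f.quotKerEquivRange
      exact Z_of_equiv (e1.trans e2) (h0 m hm)
    exact hZ (Z_of_sub_of_quot hex _ hZN (hq _ hrange))
  · -- case B
    have hA' : ∃ x ∈ m, ∃ y : X, x • y ≠ 0 := by
      by_contra hno
      apply hA
      intro x hx y
      by_contra hxy
      exact hno ⟨x, hx, y, hxy⟩
    obtain ⟨x, hx, y, hxy⟩ := hA'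
    set φ : X →ₗ[B] X := LinearMap.lsmul B X x with hφ
    have hrange : LinearMap.range φ ≠ ⊥ := by
      intro h
      have : φ y ∈ LinearMap.range φ := LinearMap.mem_range_self φ y
      rw [h, Submodule.mem_bot] at this
      exact hxy this
    have hZq : Z F (X ⧸ LinearMap.range φ) := hq _ hrange
    by_cases hK : LinearMap.ker φ = ⊥
    · -- φ injective
      have hinj : Function.Injective φ := LinearMap.ker_eq_bot.mp hK
      have hS := hex (scEnd φ) (scEnd_shortExact φ hinj) (inferInstanceAs (Module.Finite B X))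
      have hepi : Epi (F.map (ModuleCat.ofHom φ)) := hS.epi_f (hZq.eq_of_tgt _ _)
      have hsurj : Function.Surjective (F.map (ModuleCat.ofHom φ)) :=
        (ModuleCat.epi_iff_surjective _).mp hepi
      have hmap : F.map (ModuleCat.ofHom φ) = x • 𝟙 (F.obj (ModuleCat.of B X)) := by
        have : ModuleCat.ofHom φ = x • 𝟙 (ModuleCat.of B X) := by
          ext z
          simp [hφ]
        rw [this, F.map_smul, F.map_id]
      apply hmtop
      rw [eq_top_iff]
      intro z _
      obtain ⟨z', hz'⟩ := hsurj z
      rw [hmap] at hz'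
      have : x • z' = z := by simpa using hz'
      rw [← this]
      exact Submodule.smul_mem_smul hx Submodule.mem_top
    · have hZK : Z F (X ⧸ LinearMap.ker φ) := hq _ hK
      have hZN : Z F (LinearMap.range φ) := Z_of_equiv φ.quotKerEquivRange hZK
      exact hZ (Z_of_sub_of_quot hex _ hZN hZq)

include hfg hex h0 in
theorem main {M : Type u} [AddCommGroup M] [Module B M] [Module.Finite B M] : Z F M := by
  by_contra hZ
  have hnoeth : IsNoetherian B M := isNoetherian_of_isNoetherianRing_of_finite B M
  let S : Set (Submodule B M) := {N | ¬ Z F (M ⧸ N)}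
  have hne : S.Nonempty := by
    refine ⟨⊥, fun h => hZ ?_⟩
    exact Z_of_equiv (Submodule.quotEquivOfEqBot ⊥ rfl) h
  obtain ⟨N₀, hN₀, hmax⟩ := set_has_maximal_iff_noetherian.mpr hnoeth S hne
  apply hN₀
  apply key hfg hex h0
  intro N₁ hN₁
  set N' : Submodule B M := N₁.comap N₀.mkQ with hN'
  have hle : N₀ ≤ N' := by
    intro z hz
    rw [hN', Submodule.mem_comap, Submodule.mkQ_apply, (Submodule.Quotient.mk_eq_zero N₀).mpr hz]
    exact N₁.zero_mem
  have hmapeq : N'.map N₀.mkQ = N₁ :=
    Submodule.map_comap_eq_of_surjective N₀.mkQ_surjective N₁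
  have hlt : N₀ < N' := by
    refine lt_of_le_of_ne hle fun heq => hN₁ ?_
    rw [← hmapeq, ← heq]
    simp
  have hZ' : Z F (M ⧸ N') := by
    by_contra h
    exact hmax N' h hlt
  have e1 : (M ⧸ N') ≃ₗ[B] ((M ⧸ N₀) ⧸ N'.map N₀.mkQ) :=
    (Submodule.quotientQuotientEquivQuotient N₀ N' hle).symm
  have e2 : ((M ⧸ N₀) ⧸ N'.map N₀.mkQ) ≃ₗ[B] ((M ⧸ N₀) ⧸ N₁) :=
    Submodule.quotEquivOfEq _ _ hmapeq
  exact Z_of_equiv (e1.trans e2) hZ'

end main

/-- Let B be a Noetherian ring and F an additive, B-linear endofunctor of B-modules which preserves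
finite generation and is semi-exact on short exact sequences of finitely generated modules (the
image sequence is exact in the middle). If F kills B/m for every maximal ideal m, then F kills every
finitely generated B-module. (The published statement assumes F only additive; this row assumes F
B-linear, and takes the functor on all B-modules with the hypotheses and the conclusion on the
finitely generated ones.) -/
theorem result (B : Type u) [CommRing B]
    [IsNoetherianRing B] (F : ModuleCat.{u} B ⥤ ModuleCat.{u} B) [F.Additive] [F.Linear B]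
    (hfg : ∀ M : ModuleCat.{u} B, Module.Finite B M → Module.Finite B (F.obj M))
    (hex : ∀ S : ShortComplex (ModuleCat.{u} B), S.ShortExact → Module.Finite B S.X₂ → (S.map F).Exact)
    (h0 : ∀ m : Ideal B, m.IsMaximal → Limits.IsZero (F.obj (ModuleCat.of B (B ⧸ m))))
    (M : ModuleCat.{u} B) (hM : Module.Finite B M) : Limits.IsZero (F.obj M) := by
  exact main (F := F) hfg hex h0 (M := M)

end Groth.Agent.S11461
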