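import Groth.Statements.S11462
import Groth.Agent.Lib.Helper2.ArtNormalDepth
import Groth.Agent.Lib.Helper2.Hartogs5

set_option autoImplicit false
universe u
open CategoryTheory AlgebraicGeometry Opposite
open DefT

namespace Groth.Agent.S11462

/-- Let C be a local Artin ring with maximal ideal m, A a Noetherian C-algebra flat over C such that
Spec(A/mA) is a normal scheme, and U ⊆ X = Spec A an open subset whose closed complement has
codimension ≥ 2, i.e. every prime of A not in U has height at least 2. Then the restriction map Γ(X,
O_X) → Γ(U, O_X) is bijective. (The published statement assumes only that A is flat over C with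
normal special fibre; this row also assumes A Noetherian: for a valuation ring of rank two over a
field, which is normal and flat, the functions on the complement of the closed point are not all
global.) -/
theorem result (C : Type u) [CommRing C]
    [IsLocalRing C] [IsArtinianRing C] (A : Type u) [CommRing A] [IsNoetherianRing A] [Algebra C A]
    [Module.Flat C A]
    (hnorm : Pi1.IsNormalScheme (Spec (CommRingCat.of (A ⧸ (IsLocalRing.maximalIdeal C).map (algebraMap C A)))))
    (U : (Spec (CommRingCat.of A)).Opens)
    (hU : ∀ p : ↥(Spec (CommRingCat.of A)), p ∉ U → (2 : ℕ∞) ≤ p.asIdeal.height) :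
    Function.Bijective ((Spec (CommRingCat.of A)).presheaf.map (homOfLE (le_top : U ≤ ⊤)).op) := by
  classical
  have hnorm' : ∀ (q : Ideal (A ⧸ (IsLocalRing.maximalIdeal C).map (algebraMap C A))) [q.IsPrime],
      IsDomain (Localization.AtPrime q) ∧ IsIntegrallyClosed (Localization.AtPrime q) := by
    intro q hq
    let x : PrimeSpectrum (A ⧸ (IsLocalRing.maximalIdeal C).map (algebraMap C A)) := ⟨q, hq⟩
    obtain ⟨h1, h2⟩ := hnorm (Groth.Agent.Lib.helper2.Hartogs.spt _ x)
    letI : Algebra (A ⧸ (IsLocalRing.maximalIdeal C).map (algebraMap C A))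
        ↑((Spec (CommRingCat.of (A ⧸ (IsLocalRing.maximalIdeal C).map (algebraMap C A)))).presheaf.stalk
          (Groth.Agent.Lib.helper2.Hartogs.spt _ x)) :=
      StructureSheaf.stalkAlgebra _ x
    haveI : IsLocalization.AtPrime
        (↑((Spec (CommRingCat.of (A ⧸ (IsLocalRing.maximalIdeal C).map (algebraMap C A)))).presheaf.stalk
          (Groth.Agent.Lib.helper2.Hartogs.spt _ x))) x.asIdeal :=
      StructureSheaf.IsLocalization.to_stalk _ x
    let e : ↑((Spec (CommRingCat.of (A ⧸ (IsLocalRing.maximalIdeal C).map (algebraMap C A)))).presheaf.stalk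
          (Groth.Agent.Lib.helper2.Hartogs.spt _ x)) ≃ₐ[A ⧸ (IsLocalRing.maximalIdeal C).map (algebraMap C A)]
        Localization.AtPrime q :=
      IsLocalization.algEquiv q.primeCompl _ _
    haveI : IsDomain (Localization.AtPrime q) := e.symm.toRingEquiv.toMulEquiv.isDomain _
    exact ⟨inferInstance, IsIntegrallyClosed.of_equiv e.toRingEquiv⟩
  apply Groth.Agent.Lib.helper2.Hartogs.bijective_res_structure
  intro x hx
  let x' : PrimeSpectrum A := x
  haveI : x'.asIdeal.IsPrime := x'.isPrime
  have h := Groth.Agent.Lib.helper2.ArtNormal.two_le_depth_localization C A hnorm' x'.asIdeal (hU x hx)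
  rw [← Groth.Agent.Lib.helper2.Hartogs.depth_stalk_Spec A x'] at h
  exact h

end Groth.Agent.S11462
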