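import Groth.Statements.S11465
import Mathlib
import Groth.Agent.Lib.Helper19.DefCI

set_option autoImplicit false
universe u
open scoped TensorProduct
open DefT

namespace Groth.Agent.S11465

open Groth.Agent.Lib.Helper19.DefCI

section Tr
variable {C' A' : Type u} [CommRing C'] [CommRing A'] [Algebra C' A'] {J : Ideal C'}
  {I : Ideal (A' ⧸ J.map (algebraMap C' A'))}

local notation "Abar" => (A' ⧸ J.map (algebraMap C' A'))
local notation "BB" => ((A' ⧸ J.map (algebraMap C' A')) ⧸ I)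
local notation "mkJ" => Ideal.Quotient.mk (J.map (algebraMap C' A'))

theorem muA_mem (z : A' ⊗[C'] ↥J) : muA J z ∈ J.map (algebraMap C' A') := by
  induction z using TensorProduct.induction_on with
  | zero => simp
  | tmul a j =>
    rw [muA_tmul, Algebra.smul_def]
    exact Ideal.mul_mem_right _ _ (Ideal.mem_map_of_mem _ j.2)
  | add z₁ z₂ h₁ h₂ => rw [map_add]; exact Ideal.add_mem _ h₁ h₂

theorem smul_eq_zero_of_sq (hJJ : J * J = ⊥) (j : C') (hj : j ∈ J) (b : A')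
    (hb : b ∈ J.map (algebraMap C' A')) : j • b = 0 := by
  refine Submodule.span_induction ?_ ?_ ?_ ?_ hb
  · rintro _ ⟨c, hc, rfl⟩
    rw [Algebra.smul_def, ← map_mul]
    have : j * c ∈ J * J := Ideal.mul_mem_mul hj hc
    rw [hJJ] at this
    rw [(Submodule.mem_bot C').mp this, map_zero]
  · rw [smul_zero]
  · intro x y _ _ hx hy
    rw [smul_add, hx, hy, add_zero]
  · intro a x _ hx
    rw [smul_comm, hx, smul_zero]

/-- KER: elements of `ker ρ` map into any ideal reducing to `I`. -/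
theorem muA_mem_of_rhoA_eq_zero (hJJ : J * J = ⊥) (K : Ideal A')
    (hK : K.map (Ideal.Quotient.mk (J.map (algebraMap C' A'))) = I) (z : A' ⊗[C'] ↥J) (hz : rhoA J ((A' ⧸ J.map (algebraMap C' A')) ⧸ I) z = 0) : muA J z ∈ K := by
  let π : A' →ₗ[C'] ((A' ⧸ J.map (algebraMap C' A')) ⧸ I) := (IsScalarTower.toAlgHom C' A' ((A' ⧸ J.map (algebraMap C' A')) ⧸ I)).toLinearMap
  have hπ : Function.Surjective π := by
    intro b
    obtain ⟨a, rfl⟩ := Ideal.Quotient.mk_surjective b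
    obtain ⟨a', rfl⟩ := Ideal.Quotient.mk_surjective a
    exact ⟨a', rfl⟩
  have hex := rTensor_exact ↥J (LinearMap.exact_subtype_ker_map π) hπ
  have hz' : LinearMap.rTensor ↥J π z = 0 := hz
  obtain ⟨s, rfl⟩ := (hex z).mp hz'
  clear hz hz'
  induction s using TensorProduct.induction_on with
  | zero => simp
  | tmul k j =>
    rw [LinearMap.rTensor_tmul, muA_tmul]
    have hk : (Ideal.Quotient.mk (J.map (algebraMap C' A'))) (k : A') ∈ I := by
      have := k.2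
      rw [LinearMap.mem_ker] at this
      exact Ideal.Quotient.eq_zero_iff_mem.mp this
    have hk' : (Ideal.Quotient.mk (J.map (algebraMap C' A'))) (k : A') ∈
        K.map (Ideal.Quotient.mk (J.map (algebraMap C' A'))) := by
      rw [hK]; exact hk
    obtain ⟨i, hi, hik⟩ := (Ideal.mem_map_iff_of_surjective _ Ideal.Quotient.mk_surjective).mp hk'
    have hki : (k : A') - i ∈ J.map (algebraMap C' A') := Ideal.Quotient.eq.mp hik.symm
    have : (j : C') • (k : A') = (j : C') • i + (j : C') • ((k : A') - i) := by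
      rw [← smul_add]; congr 1; ring
    rw [Submodule.subtype_apply, this, smul_eq_zero_of_sq hJJ _ j.2 _ hki, add_zero, Algebra.smul_def]
    exact K.mul_mem_left _ hi
  | add s₁ s₂ h₁ h₂ =>
    rw [map_add, map_add]; exact K.add_mem h₁ h₂

theorem tmul_eq_zero_of_mem (hJJ : J * J = ⊥) (K : Ideal A') (b : A')
    (hb : b ∈ J.map (algebraMap C' A')) (j : ↥J) :
    ((Submodule.mkQ K).restrictScalars C' b) ⊗ₜ[C'] j = (0 : (A' ⧸ K) ⊗[C'] ↥J) := by
  refine Submodule.span_induction ?_ ?_ ?_ ?_ hb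
  · rintro _ ⟨c, hc, rfl⟩
    have h1 : (Submodule.mkQ K).restrictScalars C' (algebraMap C' A' c) =
        c • (Submodule.mkQ K).restrictScalars C' 1 := by
      rw [← map_smul, Algebra.smul_def, mul_one]
    have h2 : c • j = 0 := by
      apply Subtype.ext
      have : c * (j : C') ∈ J * J := Ideal.mul_mem_mul hc j.2
      rw [hJJ] at this
      exact (Submodule.mem_bot C').mp this
    rw [h1, TensorProduct.smul_tmul, h2, TensorProduct.tmul_zero]
  · rw [map_zero, TensorProduct.zero_tmul]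
  · intro x y _ _ hx hy
    rw [map_add, TensorProduct.add_tmul, hx, hy, add_zero]
  · intro a x _ hx
    have : ((Submodule.mkQ K).restrictScalars C' (a • x)) ⊗ₜ[C'] j =
        a • (((Submodule.mkQ K).restrictScalars C' x) ⊗ₜ[C'] j : (A' ⧸ K) ⊗[C'] ↥J) := by
      rw [TensorProduct.smul_tmul']
      rfl
    rw [this, hx, smul_zero]

theorem rTensor_mkQ_eq_zero_of_rhoA_eq_zero (hJJ : J * J = ⊥) (K : Ideal A')
    (hK : K.map (Ideal.Quotient.mk (J.map (algebraMap C' A'))) = I) (z : A' ⊗[C'] ↥J) (hz : rhoA J ((A' ⧸ J.map (algebraMap C' A')) ⧸ I) z = 0) :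
    LinearMap.rTensor ↥J ((Submodule.mkQ K).restrictScalars C') z = 0 := by
  let π : A' →ₗ[C'] ((A' ⧸ J.map (algebraMap C' A')) ⧸ I) := (IsScalarTower.toAlgHom C' A' ((A' ⧸ J.map (algebraMap C' A')) ⧸ I)).toLinearMap
  have hπ : Function.Surjective π := by
    intro b
    obtain ⟨a, rfl⟩ := Ideal.Quotient.mk_surjective b
    obtain ⟨a', rfl⟩ := Ideal.Quotient.mk_surjective a
    exact ⟨a', rfl⟩
  have hex := rTensor_exact ↥J (LinearMap.exact_subtype_ker_map π) hπ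
  have hz' : LinearMap.rTensor ↥J π z = 0 := hz
  obtain ⟨s, rfl⟩ := (hex z).mp hz'
  clear hz hz'
  induction s using TensorProduct.induction_on with
  | zero => simp
  | tmul k j =>
    rw [LinearMap.rTensor_tmul, LinearMap.rTensor_tmul]
    have hk : (Ideal.Quotient.mk (J.map (algebraMap C' A'))) (k : A') ∈ I := by
      have := k.2
      rw [LinearMap.mem_ker] at this
      exact Ideal.Quotient.eq_zero_iff_mem.mp this
    have hk' : (Ideal.Quotient.mk (J.map (algebraMap C' A'))) (k : A') ∈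
        K.map (Ideal.Quotient.mk (J.map (algebraMap C' A'))) := by
      rw [hK]; exact hk
    obtain ⟨i, hi, hik⟩ := (Ideal.mem_map_iff_of_surjective _ Ideal.Quotient.mk_surjective).mp hk'
    have hki : (k : A') - i ∈ J.map (algebraMap C' A') := Ideal.Quotient.eq.mp hik.symm
    have hpi : (Submodule.mkQ K).restrictScalars C' i = 0 :=
      (Submodule.Quotient.mk_eq_zero K).mpr hi
    have : (Submodule.mkQ K).restrictScalars C' (k : A') =
        (Submodule.mkQ K).restrictScalars C' ((k : A') - i) := by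
      rw [map_sub, hpi, sub_zero]
    rw [Submodule.subtype_apply, this]
    exact tmul_eq_zero_of_mem hJJ K _ hki j
  | add s₁ s₂ h₁ h₂ =>
    rw [map_add, map_add, h₁, h₂, add_zero]

end Tr

section Transl
variable {C' A' : Type u} [CommRing C'] [CommRing A'] [Algebra C' A'] {J : Ideal C'}
  {I : Ideal (A' ⧸ J.map (algebraMap C' A'))} (I' : Ideal A')
  (φ : ↥I →ₗ[A'] (((A' ⧸ J.map (algebraMap C' A')) ⧸ I) ⊗[C'] ↥J))

theorem phi_congr {x y : A' ⧸ J.map (algebraMap C' A')} (hx : x ∈ I) (hy : y ∈ I) (h : x = y) :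
    φ ⟨x, hx⟩ = φ ⟨y, hy⟩ := by
  subst h; rfl

/-- the translate of `I'` by `φ` -/
def transl : Ideal A' where
  carrier := {w | ∃ hx : Ideal.Quotient.mk (J.map (algebraMap C' A')) w ∈ I, ∃ x' ∈ I',
    ∃ z : A' ⊗[C'] ↥J, Ideal.Quotient.mk (J.map (algebraMap C' A')) x' =
        Ideal.Quotient.mk (J.map (algebraMap C' A')) w ∧
      muA J z = w - x' ∧
      rhoA J ((A' ⧸ J.map (algebraMap C' A')) ⧸ I) z =
        φ ⟨Ideal.Quotient.mk (J.map (algebraMap C' A')) w, hx⟩}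
  zero_mem' := by
    refine ⟨by rw [map_zero]; exact I.zero_mem, 0, I'.zero_mem, 0, rfl, by simp, ?_⟩
    rw [map_zero]
    have : (⟨Ideal.Quotient.mk (J.map (algebraMap C' A')) 0, by rw [map_zero]; exact I.zero_mem⟩ : ↥I)
        = 0 := Subtype.ext (map_zero _)
    rw [this, map_zero]
  add_mem' := by
    rintro w₁ w₂ ⟨hx₁, x'₁, hx'₁, z₁, e₁, hz₁, hρ₁⟩ ⟨hx₂, x'₂, hx'₂, z₂, e₂, hz₂, hρ₂⟩
    refine ⟨by rw [map_add]; exact I.add_mem hx₁ hx₂, x'₁ + x'₂, I'.add_mem hx'₁ hx'₂, z₁ + z₂,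
      by rw [map_add, map_add, e₁, e₂], by rw [map_add, hz₁, hz₂]; ring, ?_⟩
    rw [map_add, hρ₁, hρ₂, ← map_add]
    exact phi_congr φ _ _ (map_add _ _ _).symm
  smul_mem' := by
    rintro a w ⟨hx, x', hx', z, e, hz, hρ⟩
    refine ⟨by rw [smul_eq_mul, map_mul]; exact I.mul_mem_left _ hx, a * x', I'.mul_mem_left a hx',
      a • z, by rw [smul_eq_mul, map_mul, map_mul, e], by rw [map_smul, hz, smul_eq_mul, smul_eq_mul]; ring, ?_⟩
    rw [map_smul, hρ, ← map_smul]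
    exact phi_congr φ _ _ (by rw [smul_eq_mul, map_mul]; rfl)

theorem mem_transl_iff (w : A') : w ∈ transl I' φ ↔
    ∃ hx : Ideal.Quotient.mk (J.map (algebraMap C' A')) w ∈ I, ∃ x' ∈ I',
    ∃ z : A' ⊗[C'] ↥J, Ideal.Quotient.mk (J.map (algebraMap C' A')) x' =
        Ideal.Quotient.mk (J.map (algebraMap C' A')) w ∧
      muA J z = w - x' ∧
      rhoA J ((A' ⧸ J.map (algebraMap C' A')) ⧸ I) z =
        φ ⟨Ideal.Quotient.mk (J.map (algebraMap C' A')) w, hx⟩ := Iff.rfl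

theorem rhoA_surjective :
    Function.Surjective (rhoA (A' := A') J ((A' ⧸ J.map (algebraMap C' A')) ⧸ I)) := by
  intro y
  induction y using TensorProduct.induction_on with
  | zero => exact ⟨0, map_zero _⟩
  | tmul b j =>
    obtain ⟨a, rfl⟩ := Ideal.Quotient.mk_surjective b
    obtain ⟨a', rfl⟩ := Ideal.Quotient.mk_surjective a
    exact ⟨a' ⊗ₜ j, by rw [rhoA_tmul]; rfl⟩
  | add y₁ y₂ h₁ h₂ =>
    obtain ⟨z₁, rfl⟩ := h₁
    obtain ⟨z₂, rfl⟩ := h₂
    exact ⟨z₁ + z₂, map_add _ _ _⟩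

theorem transl_map (hI' : I'.map (Ideal.Quotient.mk (J.map (algebraMap C' A'))) = I) :
    (transl I' φ).map (Ideal.Quotient.mk (J.map (algebraMap C' A'))) = I := by
  apply le_antisymm
  · rw [Ideal.map_le_iff_le_comap]
    rintro w ⟨hx, -⟩
    exact hx
  · intro x hx
    obtain ⟨x', hx', hxx'⟩ := (Ideal.mem_map_iff_of_surjective _ Ideal.Quotient.mk_surjective).mp
      (hI'.symm ▸ hx)
    obtain ⟨z, hz⟩ := rhoA_surjective (I := I) (φ ⟨x, hx⟩)
    have hw : Ideal.Quotient.mk (J.map (algebraMap C' A')) (x' + muA J z) = x := by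
      rw [map_add, hxx', Ideal.Quotient.eq_zero_iff_mem.mpr (muA_mem z), add_zero]
    have : x' + muA J z ∈ transl I' φ := by
      refine ⟨hw ▸ hx, x', hx', z, by rw [hw, hxx'], by ring, ?_⟩
      rw [hz]
      exact phi_congr φ _ _ hw.symm
    rw [← hw]
    exact Ideal.mem_map_of_mem _ this

theorem transl_prop [Module.Flat C' A'] [Module.Flat C' (A' ⧸ I')]
    (hI' : I'.map (Ideal.Quotient.mk (J.map (algebraMap C' A'))) = I)
    (x : (A' ⧸ J.map (algebraMap C' A'))) (hx : x ∈ I) (x' x'' : A') (hx' : x' ∈ I')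
    (hx'' : x'' ∈ transl I' φ)
    (e' : Ideal.Quotient.mk (J.map (algebraMap C' A')) x' = x)
    (e'' : Ideal.Quotient.mk (J.map (algebraMap C' A')) x'' = x)
    (z : A' ⊗[C'] ↥J) (hz : muA J z = x'' - x') :
    rhoA J ((A' ⧸ J.map (algebraMap C' A')) ⧸ I) z = φ ⟨x, hx⟩ := by
  obtain ⟨hx₀, x'₀, hx'₀, z₀, e₀, hz₀, hρ₀⟩ := hx''
  have hd : x' - x'₀ ∈ I' ⊓ J.map (algebraMap C' A') :=
    ⟨I'.sub_mem hx' hx'₀, Ideal.Quotient.eq.mp (by rw [e', e₀, e''])⟩
  obtain ⟨w', hw'0, hw'⟩ := exists_mem_ker_rhoA J _ I' (algebraMap_eq_zero hI') _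
    (inf_map_le_mul I' J hd)
  have hzz : z = z₀ - w' := by
    apply muA_injective J
    rw [map_sub, hz, hz₀, hw']
    ring
  rw [hzz, map_sub, hw'0, sub_zero, hρ₀]
  exact phi_congr φ _ _ e''

theorem rid_lTensor_rTensor_mkQ (K : Ideal A') (t : A' ⊗[C'] ↥J) :
    TensorProduct.rid C' (A' ⧸ K) (LinearMap.lTensor (A' ⧸ K) J.subtype
      (LinearMap.rTensor ↥J ((Submodule.mkQ K).restrictScalars C') t)) =
      (Submodule.mkQ K).restrictScalars C' (muA J t) := by
  induction t using TensorProduct.induction_on with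
  | zero => simp
  | tmul a j => simp
  | add t₁ t₂ h₁ h₂ => simp only [map_add, h₁, h₂]

theorem transl_flat (hJJ : J * J = ⊥) [Module.Flat C' A'] [Module.Flat C' (A' ⧸ I')]
    [Module.Flat (C' ⧸ J) ((A' ⧸ J.map (algebraMap C' A')) ⧸ I)]
    (hI' : I'.map (Ideal.Quotient.mk (J.map (algebraMap C' A'))) = I) :
    Module.Flat C' (A' ⧸ transl I' φ) := by
  have hK := transl_map I' φ hI'
  have hJnil : IsNilpotent J := ⟨2, by rw [pow_two, hJJ]; rfl⟩
  -- (H2)
  have hspan : ((transl I' φ).map (Ideal.Quotient.mk (J.map (algebraMap C' A'))) • ⊤ :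
      Submodule (A' ⧸ J.map (algebraMap C' A')) (A' ⧸ J.map (algebraMap C' A'))) = I := by
    rw [smul_eq_mul, Ideal.mul_top, hK]
  haveI : Module.Flat (C' ⧸ J) ((A' ⧸ J.map (algebraMap C' A')) ⧸
      ((transl I' φ).map (Ideal.Quotient.mk (J.map (algebraMap C' A'))) • ⊤ :
        Submodule (A' ⧸ J.map (algebraMap C' A')) (A' ⧸ J.map (algebraMap C' A')))) :=
    Module.Flat.of_linearEquiv ((Submodule.quotEquivOfEq _ _ hspan).restrictScalars (C' ⧸ J))
  have hFM := flatMod_quot J (transl I' φ)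
  have hK2 : (transl I' φ • ⊤ : Submodule A' A') = transl I' φ := by
    rw [smul_eq_mul, Ideal.mul_top]
  haveI : Module.Flat (C' ⧸ J) ((C' ⧸ J) ⊗[C'] (A' ⧸ transl I' φ)) :=
    FlatMod.of_linearEquiv J ((Submodule.quotEquivOfEq _ _ hK2).restrictScalars C') hFM
  refine Groth.Agent.Lib.helper8.LocalFlat.flat_of_isNilpotent J _ ?_ hJnil
  rw [← LinearMap.lTensor_inj_iff_rTensor_inj, injective_iff_map_eq_zero]
  intro t ht
  have hp : Function.Surjective ((Submodule.mkQ (transl I' φ)).restrictScalars C') :=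
    Submodule.mkQ_surjective _
  obtain ⟨t', rfl⟩ := LinearMap.rTensor_surjective ↥J hp t
  have h1 := congrArg (TensorProduct.rid C' (A' ⧸ transl I' φ)) ht
  rw [rid_lTensor_rTensor_mkQ, map_zero] at h1
  have hmem : muA J t' ∈ transl I' φ := (Submodule.Quotient.mk_eq_zero _).mp h1
  obtain ⟨hx₀, x'₀, hx'₀, z₀, e₀, hz₀, hρ₀⟩ := hmem
  have hmk : Ideal.Quotient.mk (J.map (algebraMap C' A')) (muA J t') = 0 :=
    Ideal.Quotient.eq_zero_iff_mem.mpr (muA_mem t')
  have hρ0 : rhoA J ((A' ⧸ J.map (algebraMap C' A')) ⧸ I) z₀ = 0 := by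
    rw [hρ₀, phi_congr φ hx₀ I.zero_mem hmk]
    exact map_zero φ
  have hx'₀J : x'₀ ∈ I' ⊓ J.map (algebraMap C' A') :=
    ⟨hx'₀, Ideal.Quotient.eq_zero_iff_mem.mp (e₀.trans hmk)⟩
  obtain ⟨w', hw'0, hw'⟩ := exists_mem_ker_rhoA J _ I' (algebraMap_eq_zero hI') _
    (inf_map_le_mul I' J hx'₀J)
  have ht' : t' = z₀ + w' := by
    apply muA_injective J
    rw [map_add, hz₀, hw']
    ring
  have hρt : rhoA J ((A' ⧸ J.map (algebraMap C' A')) ⧸ I) t' = 0 := by
    rw [ht', map_add, hρ0, hw'0, add_zero]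
  exact rTensor_mkQ_eq_zero_of_rhoA_eq_zero hJJ _ hK t' hρt

theorem le_of_props (hJJ : J * J = ⊥)
    (hI' : I'.map (Ideal.Quotient.mk (J.map (algebraMap C' A'))) = I) (K₁ K₂ : Ideal A')
    (hK₁ : K₁.map (Ideal.Quotient.mk (J.map (algebraMap C' A'))) = I)
    (hK₂ : K₂.map (Ideal.Quotient.mk (J.map (algebraMap C' A'))) = I)
    (hP₁ : ∀ (x : (A' ⧸ J.map (algebraMap C' A'))) (hx : x ∈ I) (x' x'' : A'), x' ∈ I' → x'' ∈ K₁ →
      Ideal.Quotient.mk (J.map (algebraMap C' A')) x' = x →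
      Ideal.Quotient.mk (J.map (algebraMap C' A')) x'' = x →
      ∀ z : A' ⊗[C'] ↥J, muA J z = x'' - x' →
        rhoA J ((A' ⧸ J.map (algebraMap C' A')) ⧸ I) z = φ ⟨x, hx⟩)
    (hP₂ : ∀ (x : (A' ⧸ J.map (algebraMap C' A'))) (hx : x ∈ I) (x' x'' : A'), x' ∈ I' → x'' ∈ K₂ →
      Ideal.Quotient.mk (J.map (algebraMap C' A')) x' = x →
      Ideal.Quotient.mk (J.map (algebraMap C' A')) x'' = x →
      ∀ z : A' ⊗[C'] ↥J, muA J z = x'' - x' →
        rhoA J ((A' ⧸ J.map (algebraMap C' A')) ⧸ I) z = φ ⟨x, hx⟩) : K₁ ≤ K₂ := by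
  intro w hw
  have hx : Ideal.Quotient.mk (J.map (algebraMap C' A')) w ∈ I := hK₁ ▸ Ideal.mem_map_of_mem _ hw
  obtain ⟨x', hx', e'⟩ := (Ideal.mem_map_iff_of_surjective _ Ideal.Quotient.mk_surjective).mp
    (hI'.symm ▸ hx)
  obtain ⟨w₂, hw₂, e₂⟩ := (Ideal.mem_map_iff_of_surjective _ Ideal.Quotient.mk_surjective).mp
    (hK₂.symm ▸ hx)
  obtain ⟨z₁, hz₁⟩ := exists_muA_eq J (w - x') (Ideal.Quotient.eq.mp e'.symm)
  obtain ⟨z₂, hz₂⟩ := exists_muA_eq J (w₂ - x') (Ideal.Quotient.eq.mp (e₂.trans e'.symm))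
  have h1 := hP₁ _ hx x' w hx' hw e' rfl z₁ hz₁
  have h2 := hP₂ _ hx x' w₂ hx' hw₂ e' e₂ z₂ hz₂
  have h3 : rhoA J ((A' ⧸ J.map (algebraMap C' A')) ⧸ I) (z₁ - z₂) = 0 := by
    rw [map_sub, h1, h2, sub_self]
  have h4 := muA_mem_of_rhoA_eq_zero hJJ K₂ hK₂ _ h3
  rw [map_sub, hz₁, hz₂] at h4
  have : w = w₂ + (w - x' - (w₂ - x')) := by ring
  rw [this]
  exact K₂.add_mem hw₂ h4

end Transl



/-- Let C' be a local Artin ring, J ⊊ C' a proper ideal annihilated by the maximal ideal, C = C'/J, A' a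
flat C'-algebra, A = A'/JA', I ⊆ A an ideal with B = A/I flat over C, I' ⊆ A' an ideal with C'-flat
quotient reducing to I, and φ : I → B ⊗_{C'} J an A'-linear map. Then there is exactly one ideal I''
⊆ A' with C'-flat quotient reducing to I whose difference from I' is φ: for all x ∈ I, all lifts x'
∈ I', x'' ∈ I'' of x and all z ∈ A' ⊗_{C'} J mapping to x'' − x', the image of z in B ⊗_{C'} J is
φ(x). -/
theorem result (C' : Type u) [CommRing C'] [IsLocalRing C'] [IsArtinianRing C'] (J : Ideal C')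
    (hJ : IsLocalRing.maximalIdeal C' * J = ⊥) (hJne : J ≠ ⊤) (A' : Type u) [CommRing A'] [Algebra C' A'] [Module.Flat C' A']
    (I : Ideal (A' ⧸ J.map (algebraMap C' A')))
    [Module.Flat (C' ⧸ J) ((A' ⧸ J.map (algebraMap C' A')) ⧸ I)]
    (I' : Ideal A') [Module.Flat C' (A' ⧸ I')]
    (hI' : I'.map (Ideal.Quotient.mk (J.map (algebraMap C' A'))) = I)
    (φ : ↥I →ₗ[A'] (((A' ⧸ J.map (algebraMap C' A')) ⧸ I) ⊗[C'] ↥J)) :
    ∃! I'' : Ideal A', Module.Flat C' (A' ⧸ I'') ∧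
      I''.map (Ideal.Quotient.mk (J.map (algebraMap C' A'))) = I ∧
      (∀ (x : (A' ⧸ J.map (algebraMap C' A'))) (hx : x ∈ I) (x' x'' : A'), x' ∈ I' → x'' ∈ I'' →
          Ideal.Quotient.mk (J.map (algebraMap C' A')) x' = x → Ideal.Quotient.mk (J.map (algebraMap C' A')) x'' = x →
          ∀ z : A' ⊗[C'] ↥J, TensorProduct.rid C' A' (LinearMap.lTensor A' (Submodule.subtype J) z) = x'' - x' →
            LinearMap.rTensor ↥J (IsScalarTower.toAlgHom C' A' ((A' ⧸ J.map (algebraMap C' A')) ⧸ I)).toLinearMap z = φ ⟨x, hx⟩) := by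
  have hJm : J ≤ IsLocalRing.maximalIdeal C' := IsLocalRing.le_maximalIdeal hJne
  have hJJ : J * J = ⊥ := by
    rw [← le_bot_iff, ← hJ]
    exact Ideal.mul_mono_left hJm
  refine ⟨transl I' φ, ⟨transl_flat I' φ hJJ hI', transl_map I' φ hI', ?_⟩, ?_⟩
  · intro x hx x' x'' hx' hx'' e' e'' z hz
    exact transl_prop I' φ hI' x hx x' x'' hx' hx'' e' e'' z hz
  · rintro K ⟨-, hK, hP⟩
    apply le_antisymm
    · exact le_of_props I' φ hJJ hI' K (transl I' φ) hK (transl_map I' φ hI') hP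
        (fun x hx x' x'' hx' hx'' e' e'' z hz =>
          transl_prop I' φ hI' x hx x' x'' hx' hx'' e' e'' z hz)
    · exact le_of_props I' φ hJJ hI' (transl I' φ) K (transl_map I' φ hI') hK
        (fun x hx x' x'' hx' hx'' e' e'' z hz =>
          transl_prop I' φ hI' x hx x' x'' hx' hx'' e' e'' z hz) hP

end Groth.Agent.S11465
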