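import Groth.Statements.S11466
import Groth.Agent.LibObs29
-- import your own Groth.Agent.* helpers here

set_option autoImplicit false
universe u
open DefT

namespace Groth.Agent.S11466

open IsLocalRing TensorProduct W4bk4hartshdef114 Groth.Agent.LibObs29

lemma isSmallExt_quot {k : Type u} [Field k] {C' : Type u} [CommRing C'] [Algebra k C']
    (J K : Ideal C') (h : IsSmallExt k C' J) (hK : K ≤ J) :
    IsSmallExt k (C' ⧸ K) (J.map (Ideal.Quotient.mkₐ k K)) := by
  obtain ⟨hloc, hart, hsc, hkill, htop⟩ := h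
  have hJm : J ≤ maximalIdeal C' := IsLocalRing.le_maximalIdeal htop
  have hKtop : K ≠ ⊤ := fun h => htop (top_le_iff.1 (h ▸ hK))
  have : Nontrivial (C' ⧸ K) := Ideal.Quotient.nontrivial_iff.2 hKtop
  have hloc' : IsLocalRing (C' ⧸ K) :=
    IsLocalRing.of_surjective' (Ideal.Quotient.mk K) Ideal.Quotient.mk_surjective
  have hmax : maximalIdeal (C' ⧸ K) = (maximalIdeal C').map (Ideal.Quotient.mk K) :=
    (IsLocalRing.map_maximalIdeal_of_surjective (Ideal.Quotient.mk K)
      Ideal.Quotient.mk_surjective).symm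
  have hnon : ∀ a : C', Ideal.Quotient.mk K a ∈ nonunits (C' ⧸ K) → a ∈ nonunits C' := by
    intro a ha hu
    exact ha (hu.map (Ideal.Quotient.mk K))
  refine ⟨hloc', inferInstance, ?_, ?_, ?_⟩
  · intro x
    obtain ⟨a, rfl⟩ := Ideal.Quotient.mk_surjective x
    obtain ⟨c, hc⟩ := hsc a
    refine ⟨c, ?_⟩
    rw [← IsLocalRing.mem_maximalIdeal, hmax]
    have : Ideal.Quotient.mk K a - algebraMap k (C' ⧸ K) c =
        Ideal.Quotient.mk K (a - algebraMap k C' c) := by
      rw [map_sub]; rfl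
    rw [this]
    exact Ideal.mem_map_of_mem _ ((IsLocalRing.mem_maximalIdeal _).2 hc)
  · intro x j hx hj
    obtain ⟨a, rfl⟩ := Ideal.Quotient.mk_surjective x
    have hj' : j ∈ J.map (Ideal.Quotient.mk K) := hj
    rw [Ideal.mem_map_iff_of_surjective _ Ideal.Quotient.mk_surjective] at hj'
    obtain ⟨b, hb, rfl⟩ := hj'
    rw [← map_mul, hkill a b (hnon a hx) hb, map_zero]
  · intro h
    have h1 : J.map (Ideal.Quotient.mk K) ≤ maximalIdeal (C' ⧸ K) := by
      rw [hmax]; exact Ideal.map_mono hJm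
    have h2 : J.map (Ideal.Quotient.mk K) = ⊤ := h
    exact (IsLocalRing.maximalIdeal.isMaximal (C' ⧸ K)).ne_top (top_le_iff.1 (h2 ▸ h1))


/-- Let P be a regular local k-algebra with residue field k, I ⊆ m_P² an ideal, and A = P/I. If A has an
obstruction theory whose obstruction space is a finite-dimensional k-vector space V (obstructions in
V ⊗ J attached to k-algebra maps A → C'/J for small extensions 0 → J → C' → C'/J → 0 of local
Artinian k-algebras with residue field k, vanishing exactly when the map lifts to C', and compatible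
with passing to C'/K for ideals K ≤ J), then I is generated by at most dim_k V elements. (The
published statement gives a natural injection of the dual of I/m_P·I into V; this row asserts the
resulting bound on the number of generators.) -/
theorem result (k : Type u) [Field k] (P : Type u) [CommRing P]
    [IsRegularLocalRing P] [Algebra k P]
    (hres : Function.Surjective (algebraMap k (IsLocalRing.ResidueField P)))
    (I : Ideal P) (hI : I ≤ IsLocalRing.maximalIdeal P ^ 2)
    (V : Type u) [AddCommGroup V] [Module k V] [Module.Finite k V]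
    (T : W4bk4hartshdef114.ObsTheory k (P ⧸ I) V) :
    I.spanFinrank ≤ Module.finrank k V := by
  have hres' : ∀ x : P, ∃ c : k, x - algebraMap k P c ∈ maximalIdeal P := by
    intro x
    obtain ⟨c, hc⟩ := hres (IsLocalRing.residue P x)
    refine ⟨c, ?_⟩
    rw [← IsLocalRing.residue_eq_zero_iff, map_sub, ← hc, sub_eq_zero]
    exact (IsScalarTower.algebraMap_apply k P (ResidueField P) c)
  have hIm : I ≤ maximalIdeal P := hI.trans (Ideal.pow_le_self (by omega))
  obtain ⟨n, hn⟩ := exists_inf_pow_le I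
  have hresq := hres_quot hres' I n
  have hsc := exists_scalar hresq (JJ I n) (maximalIdeal_mul_JJ I n)
  have hJtop : JJ I n ≠ ⊤ := fun h =>
    (IsLocalRing.maximalIdeal.isMaximal (P ⧸ aa I n)).ne_top (top_le_iff.1 (h ▸ JJ_le I n hIm))
  have hsm : IsSmallExt k (P ⧸ aa I n) (JJ I n) := by
    refine ⟨inferInstance, inferInstance, ?_, ?_, hJtop⟩
    · intro x
      obtain ⟨c, hc⟩ := hresq x
      exact ⟨c, (IsLocalRing.mem_maximalIdeal _).1 hc⟩
    · intro x j hx hj
      have : x * j ∈ maximalIdeal (P ⧸ aa I n) * JJ I n :=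
        Ideal.mul_mem_mul ((IsLocalRing.mem_maximalIdeal _).2 hx) hj
      rw [maximalIdeal_mul_JJ] at this
      exact Ideal.mem_bot.1 this
  -- the canonical map
  let u : P ⧸ I →ₐ[k] (P ⧸ aa I n) ⧸ JJ I n :=
    Ideal.Quotient.liftₐ I ((Ideal.Quotient.mkₐ k (JJ I n)).comp (Ideal.Quotient.mkₐ k (aa I n)))
      (fun x hx => by
        rw [AlgHom.comp_apply]
        exact Ideal.Quotient.eq_zero_iff_mem.2 (Ideal.mem_map_of_mem _ hx))
  have hu : ∀ x : P, u (Ideal.Quotient.mk I x) =
      Ideal.Quotient.mk (JJ I n) (Ideal.Quotient.mk (aa I n) x) := fun x => rfl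
  refine core_sq I hI n hn (JJ I n) rfl hsc (T.obs (P ⧸ aa I n) (JJ I n) u) ?_
  intro φ hφ
  have hK : kerIdeal (JJ I n) hsc φ ≤ JJ I n := kerIdeal_le _ _ _
  have hsm' := isSmallExt_quot (JJ I n) (kerIdeal (JJ I n) hsc φ) hsm hK
  have hq := T.obs_quot (P ⧸ aa I n) (JJ I n) (kerIdeal (JJ I n) hsc φ) hsm hK u
  obtain ⟨ι, hι⟩ := exists_factor_of_ker_le φ (idealToQuot k (JJ I n) (kerIdeal (JJ I n) hsc φ)) (by
    intro j hj
    rw [LinearMap.mem_ker] at hj ⊢
    apply Subtype.ext
    show Ideal.Quotient.mk (kerIdeal (JJ I n) hsc φ) (j : P ⧸ aa I n) = 0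
    rw [Ideal.Quotient.eq_zero_iff_mem]
    exact ⟨j.2, hj⟩)
  rw [hι, LinearMap.lTensor_comp, LinearMap.comp_apply, hφ, map_zero] at hq
  obtain ⟨u', hu'⟩ := (T.obs_eq_zero_iff _ _ hsm' _).1 hq
  refine ⟨(u' : P ⧸ I →+* _).comp (Ideal.Quotient.mk I), ?_, ?_⟩
  · intro x hx
    rw [RingHom.mem_ker, RingHom.comp_apply, Ideal.Quotient.eq_zero_iff_mem.2 hx, map_zero]
  · intro x
    have h1 := DFunLike.congr_fun hu' (Ideal.Quotient.mk I x)
    rw [AlgHom.comp_apply, AlgHom.comp_apply, hu] at h1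
    have h2 : (DoubleQuot.quotQuotEquivQuotOfLE hK).symm
        (Ideal.Quotient.mk (JJ I n) (Ideal.Quotient.mk (aa I n) x)) =
        DoubleQuot.quotQuotMk (kerIdeal (JJ I n) hsc φ) (JJ I n) (Ideal.Quotient.mk (aa I n) x) :=
      DoubleQuot.quotQuotEquivQuotOfLE_symm_mk _ hK
    have h3 : Ideal.Quotient.mk (Ideal.map (Ideal.Quotient.mk (kerIdeal (JJ I n) hsc φ)) (JJ I n))
        (u' (Ideal.Quotient.mk I x)) =
        Ideal.Quotient.mk (Ideal.map (Ideal.Quotient.mk (kerIdeal (JJ I n) hsc φ)) (JJ I n))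
          (Ideal.Quotient.mk (kerIdeal (JJ I n) hsc φ) (Ideal.Quotient.mk (aa I n) x)) :=
      h1.trans h2
    exact (Ideal.Quotient.eq).1 h3

end Groth.Agent.S11466
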