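import Groth.Statements.S11468
import Groth.Agent.Lib.Helper11.Thick8

set_option autoImplicit false
universe u
open CategoryTheory AlgebraicGeometry
open DefT

namespace Groth.Agent.S11468

/-- Let C be a local Artin ring with maximal ideal m and residue field k = C/m, g : X → Spec C a flat
morphism, and i : X₀ → X the fibre of g over the closed point, i.e. a pullback of g along Spec k →
Spec C, with structure map f₀ : X₀ → Spec k. If the induced ring map k → Γ(X₀, O_{X₀}) is bijective,
then so is C → Γ(X, O_X). -/
theorem result (C : Type u) [CommRing C]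
    [IsLocalRing C] [IsArtinianRing C] (X X₀ : Scheme.{u}) (g : X ⟶ Spec (CommRingCat.of C)) [Flat g]
    (i : X₀ ⟶ X) (f₀ : X₀ ⟶ Spec (CommRingCat.of (C ⧸ IsLocalRing.maximalIdeal C)))
    (hsq : IsPullback i f₀ g
      (Spec.map (CommRingCat.ofHom (Ideal.Quotient.mk (IsLocalRing.maximalIdeal C)))))
    (h0 : Function.Bijective ((Scheme.ΓSpecIso (CommRingCat.of (C ⧸ IsLocalRing.maximalIdeal C))).inv ≫
      f₀.appTop)) :
    Function.Bijective ((Scheme.ΓSpecIso (CommRingCat.of C)).inv ≫ g.appTop) := by
  have hfl : FlatMod.IsFlatOver g (Coh.structureModule X) :=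
    Groth.Agent.Lib.helper21.InvFibre.isFlatOver_of_isFinLocFree g _
      (Groth.Agent.Lib.helper16.FLF.isFinLocFree_of_isInvertible
        (Groth.Agent.Lib.helper11.InvMod.isInvertible_structureModule X))
  haveI : (Coh.structureModule X).IsQuasicoherent :=
    Groth.Agent.Lib.helper16.FLF.isQuasicoherent_of_isFinLocFree _
      (Groth.Agent.Lib.helper16.FLF.isFinLocFree_of_isInvertible
        (Groth.Agent.Lib.helper11.InvMod.isInvertible_structureModule X))
  have hs₀ : Function.Surjective (algebraMap C (C ⧸ IsLocalRing.maximalIdeal C)) :=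
    Ideal.Quotient.mk_surjective
  have hk₀ : RingHom.ker (algebraMap C (C ⧸ IsLocalRing.maximalIdeal C)) =
      IsLocalRing.maximalIdeal C := Ideal.mk_ker
  have hsq' : CategoryTheory.IsPullback i f₀ g
      (Spec.map (CommRingCat.ofHom (algebraMap C (C ⧸ IsLocalRing.maximalIdeal C)))) := hsq
  have hb : Function.Bijective (Coh.toGlobal f₀) := h0
  have hgood0 := Groth.Agent.Lib.helper11.Thick.isGood_of_bijective_toGlobal g f₀ i hsq' hs₀ hb
  rw [hk₀] at hgood0
  have hgood := Groth.Agent.Lib.helper11.Thick.isGood_of_closedFibre g hfl f₀ i hsq' hs₀ hk₀ hgood0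
    ⊥ bot_le
  have hpb : CategoryTheory.IsPullback
      (CategoryTheory.Limits.pullback.fst g (Spec.map (CommRingCat.ofHom (algebraMap C (C ⧸ (⊥ : Ideal C))))))
      (CategoryTheory.Limits.pullback.snd g (Spec.map (CommRingCat.ofHom (algebraMap C (C ⧸ (⊥ : Ideal C)))))) g
      (Spec.map (CommRingCat.ofHom (algebraMap C (C ⧸ (⊥ : Ideal C))))) :=
    CategoryTheory.IsPullback.of_hasPullback _ _
  haveI hiso := Groth.Agent.Lib.helper11.Thick.isIso_unit_of_ker_eq_bot g _ _ hpb
    (Ideal.Quotient.mk_surjective : Function.Surjective (algebraMap C (C ⧸ (⊥ : Ideal C))))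
    Ideal.mk_ker (Coh.structureModule X)
  -- the unit is injective on global sections
  have hinj : Function.Injective (Groth.Agent.Lib.helper12.PullTensor.unitSec
      (CategoryTheory.Limits.pullback.fst g (Spec.map (CommRingCat.ofHom (algebraMap C (C ⧸ (⊥ : Ideal C))))))
      (Coh.structureModule X) ⊤) := by
    intro s s' hss'
    have e1 : ∀ z, ((inv (Groth.Agent.Lib.helper11.Thick.unitHom
        (CategoryTheory.Limits.pullback.fst g (Spec.map (CommRingCat.ofHom (algebraMap C (C ⧸ (⊥ : Ideal C))))))
        (Coh.structureModule X))).val.app (Opposite.op ⊤)).hom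
        (Groth.Agent.Lib.helper12.PullTensor.unitSec
          (CategoryTheory.Limits.pullback.fst g (Spec.map (CommRingCat.ofHom (algebraMap C (C ⧸ (⊥ : Ideal C))))))
          (Coh.structureModule X) ⊤ z) = z := fun z =>
      congrArg (fun φ : Coh.structureModule X ⟶ Coh.structureModule X =>
        (φ.val.app (Opposite.op ⊤)).hom z) (IsIso.hom_inv_id _)
    rw [← e1 s, ← e1 s', hss']
  have key : Function.Bijective (Coh.toGlobal g) := by
    constructor
    · rw [injective_iff_map_eq_zero]
      intro a ha
      have h1 : Groth.Agent.Lib.helper11.Thick.beta g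
          (CategoryTheory.Limits.pullback.fst g (Spec.map (CommRingCat.ofHom (algebraMap C (C ⧸ (⊥ : Ideal C)))))) a = 0 := by
        unfold Groth.Agent.Lib.helper11.Thick.beta
        rw [Groth.Agent.Lib.helper11.Thick.smul_oneSec, ha]
        exact map_zero ((Groth.Agent.Lib.helper11.Thick.unitHom
          (CategoryTheory.Limits.pullback.fst g (Spec.map (CommRingCat.ofHom (algebraMap C (C ⧸ (⊥ : Ideal C))))))
          (Coh.structureModule X)).val.app (Opposite.op ⊤)).hom
      exact (hgood.2 a).mp h1
    · intro s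
      obtain ⟨a, ha⟩ := hgood.1 (Groth.Agent.Lib.helper12.PullTensor.unitSec
        (CategoryTheory.Limits.pullback.fst g (Spec.map (CommRingCat.ofHom (algebraMap C (C ⧸ (⊥ : Ideal C))))))
        (Coh.structureModule X) ⊤ s)
      refine ⟨a, ?_⟩
      have h2 := hinj ha
      rw [Groth.Agent.Lib.helper11.Thick.smul_oneSec] at h2
      exact h2
  exact key

end Groth.Agent.S11468
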