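import Groth.Statements.S11469
import Mathlib
import Groth.Agent.Lib.Helper19.DefCI

set_option autoImplicit false
universe u
open scoped TensorProduct
open DefT

namespace Groth.Agent.S11469

open TensorProduct Function
open Groth.Agent.Lib.Helper19.DefCI

section Aut
variable {C' A' : Type u} [CommRing C'] [CommRing A'] [Algebra C' A'] (J : Ideal C')
  (M' : Type u) [AddCommGroup M'] [Module A' M'] [Module C' M'] [IsScalarTower C' A' M']

/-- multiplication `M' ⊗ J → M'`, `A'`-linear. -/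
noncomputable def muM : M' ⊗[C'] ↥J →ₗ[A'] M' :=
  (AlgebraTensorModule.rid C' A' M').toLinearMap ∘ₗ AlgebraTensorModule.lTensor A' M' J.subtype

variable {M'}

@[simp] theorem muM_tmul (x : M') (j : ↥J) : muM (A' := A') J M' (x ⊗ₜ j) = (j : C') • x := by
  simp [muM]

theorem muM_eq (z : M' ⊗[C'] ↥J) :
    muM (A' := A') J M' z = TensorProduct.rid C' M' (LinearMap.lTensor M' (Submodule.subtype J) z) := rfl

theorem muM_injective [Module.Flat C' M'] : Function.Injective (muM (A' := A') J M') := by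
  intro z₁ z₂ h
  rw [muM_eq, muM_eq] at h
  exact Module.Flat.lTensor_preserves_injective_linearMap (M := M') J.subtype
    Subtype.val_injective ((TensorProduct.rid C' M').injective h)

theorem muM_mem (z : M' ⊗[C'] ↥J) :
    muM (A' := A') J M' z ∈ (J.map (algebraMap C' A')) • (⊤ : Submodule A' M') := by
  induction z using TensorProduct.induction_on with
  | zero => simp
  | tmul x j =>
    rw [muM_tmul (A' := A'), ← algebraMap_smul A' (j : C') x]
    exact Submodule.smul_mem_smul (Ideal.mem_map_of_mem _ j.2) Submodule.mem_top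
  | add z₁ z₂ h₁ h₂ => rw [map_add]; exact Submodule.add_mem _ h₁ h₂

theorem exists_muM_eq (w : M') (hw : w ∈ (J.map (algebraMap C' A')) • (⊤ : Submodule A' M')) :
    ∃ z, muM (A' := A') J M' z = w := by
  refine Submodule.smul_induction_on hw ?_ ?_
  · intro b hb x _
    refine Submodule.span_induction ?_ ?_ ?_ ?_ hb
    · rintro _ ⟨c, hc, rfl⟩
      exact ⟨x ⊗ₜ ⟨c, hc⟩, by rw [muM_tmul (A' := A'), algebraMap_smul]⟩
    · exact ⟨0, by rw [map_zero, zero_smul]⟩
    · rintro b₁ b₂ _ _ ⟨z₁, h₁⟩ ⟨z₂, h₂⟩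
      exact ⟨z₁ + z₂, by rw [map_add, h₁, h₂, add_smul]⟩
    · rintro a b₁ _ ⟨z, hz⟩
      exact ⟨a • z, by rw [map_smul, hz, smul_eq_mul, mul_smul]⟩
  · rintro _ _ ⟨z₁, rfl⟩ ⟨z₂, rfl⟩
    exact ⟨z₁ + z₂, map_add _ _ _⟩

/-- an endomorphism with image in `𝔞'M'` kills `𝔟'M'` when `𝔟𝔞 = 0`. -/
theorem delta_eq_zero (𝔟 : Ideal C') (h𝔟 : 𝔟 * J = ⊥) (δ : M' →ₗ[A'] M')
    (hδ : ∀ x, δ x ∈ (J.map (algebraMap C' A')) • (⊤ : Submodule A' M')) (x : M')
    (hx : x ∈ (𝔟.map (algebraMap C' A')) • (⊤ : Submodule A' M')) : δ x = 0 := by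
  refine Submodule.smul_induction_on hx ?_ ?_
  · intro b hb y _
    rw [map_smul]
    have : b • δ y ∈ (𝔟.map (algebraMap C' A')) • ((J.map (algebraMap C' A')) • (⊤ : Submodule A' M')) :=
      Submodule.smul_mem_smul hb (hδ y)
    rw [← Submodule.mul_smul, ← Ideal.map_mul, h𝔟, Ideal.map_bot, Submodule.bot_smul] at this
    exact (Submodule.mem_bot A').mp this
  · intro y z hy hz
    rw [map_add, hy, hz, add_zero]

variable (M') in
/-- `M' ⊗ J → (M'/N) ⊗ J`, `A'`-linear. -/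
noncomputable def rhoM (N : Submodule A' M') : M' ⊗[C'] ↥J →ₗ[A'] (M' ⧸ N) ⊗[C'] ↥J :=
  AlgebraTensorModule.rTensor C' ↥J (Submodule.mkQ N)

@[simp] theorem rhoM_tmul (N : Submodule A' M') (x : M') (j : ↥J) :
    rhoM J M' N (x ⊗ₜ j) = (Submodule.Quotient.mk x) ⊗ₜ j := by
  simp [rhoM]

theorem rhoM_eq (N : Submodule A' M') (z : M' ⊗[C'] ↥J) :
    rhoM J M' N z = LinearMap.rTensor ↥J ((Submodule.mkQ N).restrictScalars C') z := rfl

theorem rhoM_surjective (N : Submodule A' M') : Function.Surjective (rhoM J M' N) := by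
  intro y
  induction y using TensorProduct.induction_on with
  | zero => exact ⟨0, map_zero _⟩
  | tmul b j =>
    obtain ⟨x, rfl⟩ := Submodule.Quotient.mk_surjective _ b
    exact ⟨x ⊗ₜ j, rhoM_tmul J N x j⟩
  | add y₁ y₂ h₁ h₂ =>
    obtain ⟨z₁, rfl⟩ := h₁
    obtain ⟨z₂, rfl⟩ := h₂
    exact ⟨z₁ + z₂, map_add _ _ _⟩

theorem smul_tmul_eq_zero (𝔟 : Ideal C') (h𝔟 : 𝔟 * J = ⊥) (b : A')
    (hb : b ∈ 𝔟.map (algebraMap C' A')) (j : ↥J) :
    ∀ y : M', (b • y) ⊗ₜ[C'] j = (0 : M' ⊗[C'] ↥J) := by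
  refine Submodule.span_induction ?_ ?_ ?_ ?_ hb
  · rintro _ ⟨c, hc, rfl⟩ y
    have h2 : c • j = 0 := by
      apply Subtype.ext
      have : c * (j : C') ∈ 𝔟 * J := Ideal.mul_mem_mul hc j.2
      rw [h𝔟] at this
      exact (Submodule.mem_bot C').mp this
    rw [algebraMap_smul, TensorProduct.smul_tmul, h2, TensorProduct.tmul_zero]
  · intro y; rw [zero_smul, TensorProduct.zero_tmul]
  · intro b₁ b₂ _ _ h₁ h₂ y
    rw [add_smul, TensorProduct.add_tmul, h₁, h₂, add_zero]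
  · intro a b₁ _ h₁ y
    rw [smul_eq_mul, mul_comm, mul_smul]
    exact h₁ (a • y)

theorem rhoM_injective (𝔟 : Ideal C') (h𝔟 : 𝔟 * J = ⊥) :
    Function.Injective (rhoM J M' ((𝔟.map (algebraMap C' A')) • (⊤ : Submodule A' M'))) := by
  rw [injective_iff_map_eq_zero]
  intro z hz
  rw [rhoM_eq] at hz
  set N := (𝔟.map (algebraMap C' A')) • (⊤ : Submodule A' M') with hN
  have hex : Function.Exact ((N.subtype).restrictScalars C') ((Submodule.mkQ N).restrictScalars C') :=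
    LinearMap.exact_subtype_mkQ N
  have hsurj : Function.Surjective ((Submodule.mkQ N).restrictScalars C') :=
    Submodule.mkQ_surjective N
  obtain ⟨s, rfl⟩ := (rTensor_exact ↥J hex hsurj z).mp hz
  clear hz
  induction s using TensorProduct.induction_on with
  | zero => simp
  | tmul n j =>
    rw [LinearMap.rTensor_tmul]
    have hn : (n : M') ∈ (𝔟.map (algebraMap C' A')) • (⊤ : Submodule A' M') := n.2
    show (n : M') ⊗ₜ[C'] j = 0
    refine Submodule.smul_induction_on hn ?_ ?_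
    · intro b hb y _
      exact smul_tmul_eq_zero J 𝔟 h𝔟 b hb j y
    · intro y₁ y₂ h₁ h₂
      rw [TensorProduct.add_tmul, h₁, h₂, add_zero]
  | add s₁ s₂ h₁ h₂ => rw [map_add, h₁, h₂, add_zero]

end Aut

section Main
variable {C' A' : Type u} [CommRing C'] [CommRing A'] [Algebra C' A'] {J 𝔪 : Ideal C'}
  {M' : Type u} [AddCommGroup M'] [Module A' M'] [Module C' M'] [IsScalarTower C' A' M']
  [Module.Flat C' M']

/-- relation defining τ from δ = σ - 1 -/
def RelM (J 𝔪 : Ideal C') (δ : M' →ₗ[A'] M')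
    (xb : M' ⧸ (𝔪.map (algebraMap C' A')) • (⊤ : Submodule A' M'))
    (y : (M' ⧸ (𝔪.map (algebraMap C' A')) • (⊤ : Submodule A' M')) ⊗[C'] ↥J) : Prop :=
  ∃ (x : M') (z : M' ⊗[C'] ↥J), Submodule.Quotient.mk x = xb ∧ muM (A' := A') J M' z = δ x ∧
    rhoM J M' _ z = y

omit [Module.Flat C' M'] in
theorem relM_total (δ : M' →ₗ[A'] M')
    (hδ : ∀ x, δ x ∈ (J.map (algebraMap C' A')) • (⊤ : Submodule A' M')) (xb) :
    ∃ y, RelM J 𝔪 δ xb y := by
  obtain ⟨x, rfl⟩ := Submodule.Quotient.mk_surjective _ xb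
  obtain ⟨z, hz⟩ := exists_muM_eq J (δ x) (hδ x)
  exact ⟨_, x, z, rfl, hz, rfl⟩

theorem relM_unique (h𝔪 : 𝔪 * J = ⊥) (δ : M' →ₗ[A'] M')
    (hδ : ∀ x, δ x ∈ (J.map (algebraMap C' A')) • (⊤ : Submodule A' M')) {xb y₁ y₂}
    (h₁ : RelM J 𝔪 δ xb y₁) (h₂ : RelM J 𝔪 δ xb y₂) : y₁ = y₂ := by
  obtain ⟨x₁, z₁, e₁, hz₁, rfl⟩ := h₁
  obtain ⟨x₂, z₂, e₂, hz₂, rfl⟩ := h₂
  have hx : x₁ - x₂ ∈ (𝔪.map (algebraMap C' A')) • (⊤ : Submodule A' M') := by
    rw [← Submodule.Quotient.eq, e₁, e₂]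
  have h0 := delta_eq_zero J 𝔪 h𝔪 δ hδ _ hx
  have : z₁ = z₂ := by
    apply muM_injective (A' := A') J
    rw [hz₁, hz₂, ← sub_eq_zero, ← map_sub, h0]
  rw [this]

omit [Module.Flat C' M'] in
theorem relM_add (δ : M' →ₗ[A'] M') {xb₁ xb₂ y₁ y₂}
    (h₁ : RelM J 𝔪 δ xb₁ y₁) (h₂ : RelM J 𝔪 δ xb₂ y₂) : RelM J 𝔪 δ (xb₁ + xb₂) (y₁ + y₂) := by
  obtain ⟨x₁, z₁, rfl, hz₁, rfl⟩ := h₁
  obtain ⟨x₂, z₂, rfl, hz₂, rfl⟩ := h₂
  exact ⟨x₁ + x₂, z₁ + z₂, rfl, by rw [map_add, map_add, hz₁, hz₂], map_add _ _ _⟩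

omit [Module.Flat C' M'] in
theorem relM_smul (δ : M' →ₗ[A'] M') (a : A') {xb y}
    (h : RelM J 𝔪 δ xb y) : RelM J 𝔪 δ (a • xb) (a • y) := by
  obtain ⟨x, z, rfl, hz, rfl⟩ := h
  exact ⟨a • x, a • z, rfl, by rw [map_smul, map_smul, hz], map_smul _ _ _⟩

end Main



/-- Let C' be a local Artin ring with maximal ideal m, J ⊊ C' a proper ideal with mJ = 0, A' a
C'-algebra, M' an A'-module flat over C', and M₀ = M'/mM'. Then (1) every A'-linear endomorphism σ
of M' that is the identity modulo JM' is bijective, and there is exactly one A'-linear τ : M₀ → M₀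
⊗_{C'} J such that, for all x ∈ M' and all z ∈ M' ⊗_{C'} J mapping to σ(x) − x in M', the image of z
in M₀ ⊗_{C'} J is τ applied to the class of x; and (2) every A'-linear τ : M₀ → M₀ ⊗_{C'} J comes in
this way from some such σ. Thus the automorphisms of the extension M' inducing the identity on
M'/JM' correspond to Hom(M₀, M₀ ⊗ J). -/
theorem result (C' : Type u) [CommRing C'] [IsLocalRing C']
    [IsArtinianRing C'] (J : Ideal C') (hJ : IsLocalRing.maximalIdeal C' * J = ⊥) (hJne : J ≠ ⊤)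
    (A' : Type u) [CommRing A'] [Algebra C' A'] (M' : Type u) [AddCommGroup M'] [Module A' M'] [Module C' M']
    [IsScalarTower C' A' M'] [Module.Flat C' M'] :
    (∀ σ : M' →ₗ[A'] M', (∀ x : M', σ x - x ∈ (J.map (algebraMap C' A')) • (⊤ : Submodule A' M')) →
      Function.Bijective σ ∧
        ∃! τ : (M' ⧸ ((IsLocalRing.maximalIdeal C').map (algebraMap C' A')) • (⊤ : Submodule A' M')) →ₗ[A'] ((M' ⧸ ((IsLocalRing.maximalIdeal C').map (algebraMap C' A')) • (⊤ : Submodule A' M')) ⊗[C'] ↥J),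
          (∀ (x : M') (z : M' ⊗[C'] ↥J), TensorProduct.rid C' M' (LinearMap.lTensor M' (Submodule.subtype J) z) = σ x - x →
            LinearMap.rTensor ↥J ((Submodule.mkQ (((IsLocalRing.maximalIdeal C').map (algebraMap C' A')) • (⊤ : Submodule A' M'))).restrictScalars C') z =
              τ (Submodule.mkQ _ x))) ∧
    (∀ τ : (M' ⧸ ((IsLocalRing.maximalIdeal C').map (algebraMap C' A')) • (⊤ : Submodule A' M')) →ₗ[A'] ((M' ⧸ ((IsLocalRing.maximalIdeal C').map (algebraMap C' A')) • (⊤ : Submodule A' M')) ⊗[C'] ↥J),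
      ∃ σ : M' →ₗ[A'] M', (∀ x : M', σ x - x ∈ (J.map (algebraMap C' A')) • (⊤ : Submodule A' M')) ∧
          (∀ (x : M') (z : M' ⊗[C'] ↥J), TensorProduct.rid C' M' (LinearMap.lTensor M' (Submodule.subtype J) z) = σ x - x →
            LinearMap.rTensor ↥J ((Submodule.mkQ (((IsLocalRing.maximalIdeal C').map (algebraMap C' A')) • (⊤ : Submodule A' M'))).restrictScalars C') z =
              τ (Submodule.mkQ _ x))) := by
  have hJm : J ≤ IsLocalRing.maximalIdeal C' := IsLocalRing.le_maximalIdeal hJne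
  have hJJ : J * J = ⊥ := by
    rw [← le_bot_iff, ← hJ]
    exact Ideal.mul_mono_left hJm
  constructor
  · intro σ hσ
    let δ : M' →ₗ[A'] M' := σ - LinearMap.id
    have hδx : ∀ x, δ x = σ x - x := fun x => rfl
    have hδ : ∀ x, δ x ∈ (J.map (algebraMap C' A')) • (⊤ : Submodule A' M') := hσ
    have hδδ : ∀ x, δ (δ x) = 0 := fun x => delta_eq_zero J J hJJ δ hδ _ (hδ x)
    have hσx : ∀ x, σ x = x + δ x := fun x => by rw [hδx]; abel
    refine ⟨?_, ?_⟩
    · rw [Function.bijective_iff_has_inverse]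
      refine ⟨fun x => x - δ x, fun x => ?_, fun x => ?_⟩
      · show σ x - δ (σ x) = x
        rw [hσx x, map_add, hδδ]
        abel
      · show σ (x - δ x) = x
        rw [hσx, map_sub, hδδ]
        abel
    · choose y hy using fun xb => relM_total (J := J) (𝔪 := IsLocalRing.maximalIdeal C') δ hδ xb
      let τ : (M' ⧸ ((IsLocalRing.maximalIdeal C').map (algebraMap C' A')) • (⊤ : Submodule A' M')) →ₗ[A'] ((M' ⧸ ((IsLocalRing.maximalIdeal C').map (algebraMap C' A')) • (⊤ : Submodule A' M')) ⊗[C'] ↥J) :=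
        { toFun := y
          map_add' := fun x₁ x₂ => relM_unique hJ δ hδ (hy (x₁ + x₂)) (relM_add δ (hy x₁) (hy x₂))
          map_smul' := fun a x => relM_unique hJ δ hδ (hy (a • x)) (relM_smul δ a (hy x)) }
      refine ⟨τ, ?_, ?_⟩
      · intro x z hz
        exact relM_unique hJ δ hδ ⟨x, z, rfl, hz, rfl⟩ (hy _)
      · intro ψ hψ
        refine LinearMap.ext fun xb => ?_
        obtain ⟨x, z, e, hz, hρ⟩ := hy xb
        have := hψ x z hz
        show ψ xb = y xb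
        rw [← hρ, ← e]
        exact this.symm
  · intro τ
    let e := LinearEquiv.ofBijective
      (rhoM J M' (((IsLocalRing.maximalIdeal C').map (algebraMap C' A')) • (⊤ : Submodule A' M')))
      ⟨rhoM_injective J _ hJ, rhoM_surjective J _⟩
    let σ : M' →ₗ[A'] M' := LinearMap.id +
      (muM (A' := A') J M') ∘ₗ e.symm.toLinearMap ∘ₗ τ ∘ₗ (Submodule.mkQ _)
    have hσx : ∀ x, σ x - x = muM (A' := A') J M' (e.symm (τ (Submodule.mkQ _ x))) := by
      intro x
      simp [σ]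
    refine ⟨σ, fun x => ?_, fun x z hz => ?_⟩
    · rw [hσx]
      exact muM_mem J _
    · rw [hσx] at hz
      have hzz : z = e.symm (τ (Submodule.mkQ _ x)) := muM_injective (A' := A') J hz
      have : rhoM J M' _ z = τ (Submodule.mkQ _ x) := by
        rw [hzz]
        exact e.apply_symm_apply _
      exact this

end Groth.Agent.S11469
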