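import Groth.Statements.S11470
import Mathlib
-- import your own Groth.Agent.* helpers here

set_option autoImplicit false
universe u
open Curves

namespace Groth.Agent.S11470

open Polynomial in
/-- A polynomial invariant under `X ↦ 1 - X` is a polynomial in `X (1 - X)`. -/
theorem exists_comp_of_invariant {k : Type u} [Field k] :
    ∀ (n : ℕ) (f : k[X]), f.natDegree = n → f.comp (1 - X) = f →
      ∃ p : k[X], f = p.comp (X * (1 - X)) := by
  intro n
  induction n using Nat.strong_induction_on with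
  | _ n ih =>
  intro f hn hf
  by_cases h0 : f.natDegree = 0
  · refine ⟨C (f.coeff 0), ?_⟩
    rw [C_comp]
    exact eq_C_of_natDegree_eq_zero h0
  set c : k := f.eval 0 with hc
  have h01 : f.eval 1 = f.eval 0 := by
    have := congrArg (eval 0) hf
    rw [eval_comp] at this
    simpa using this
  have hX : (X : k[X]) ∣ f - C c := by
    have : (X - C (0 : k)) ∣ f - C c := by
      rw [dvd_iff_isRoot]; simp [hc]
    simpa using this
  have hX1 : (X - 1 : k[X]) ∣ f - C c := by
    have : (X - C (1 : k)) ∣ f - C c := by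
      rw [dvd_iff_isRoot]; simp [hc, h01]
    simpa using this
  have hcop : IsCoprime (X : k[X]) (X - 1) := ⟨1, -1, by ring⟩
  obtain ⟨h, hh⟩ := hcop.mul_dvd hX hX1
  set h' : k[X] := -h with hh'
  have hf' : f = C c + X * (1 - X) * h' := by
    rw [hh']; linear_combination hh
  have hU0 : (X * (1 - X) : k[X]) ≠ 0 := by
    apply mul_ne_zero X_ne_zero
    intro h1
    have := congrArg (eval 0) h1
    simp at this
  have hinv : h'.comp (1 - X) = h' := by
    have h1 : f.comp (1 - X) = C c + X * (1 - X) * h'.comp (1 - X) := by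
      conv_lhs => rw [hf']
      simp only [add_comp, mul_comp, C_comp, X_comp, sub_comp, one_comp]
      ring
    rw [hf] at h1
    have h2 : X * (1 - X) * (h'.comp (1 - X) - h') = 0 := by
      linear_combination hf' - h1
    rcases mul_eq_zero.1 h2 with h3 | h3
    · exact absurd h3 hU0
    · exact sub_eq_zero.1 h3
  have hh0 : h' ≠ 0 := by
    intro h1
    apply h0
    rw [hf', h1, mul_zero, add_zero, natDegree_C]
  have hdeg : h'.natDegree < n := by
    have h1 : (X * (1 - X) * h' : k[X]).natDegree = 2 + h'.natDegree := by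
      rw [natDegree_mul hU0 hh0, natDegree_mul X_ne_zero (by
        intro h1
        have := congrArg (eval 0) h1
        simp at this), natDegree_X]
      have : (1 - X : k[X]).natDegree = 1 := by
        have : (1 - X : k[X]) = -(X - C 1) := by simp
        rw [this, natDegree_neg, natDegree_X_sub_C]
      rw [this]
    have h2 : f.natDegree = 2 + h'.natDegree := by
      conv_lhs => rw [hf', add_comm, natDegree_add_C, h1]
    omega
  obtain ⟨p', hp'⟩ := ih _ hdeg h' rfl hinv
  refine ⟨C c + X * p', ?_⟩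
  rw [add_comp, mul_comp, C_comp, X_comp, ← hp']
  exact hf'

open Polynomial in
/-- A polynomial in an element of valuation `≤ 1` has valuation `≤ 1` (valuation trivial on `k`). -/
lemma val_aeval_le_one {k K Γ : Type*} [Field k] [Field K] [Algebra k K]
    [LinearOrderedCommGroupWithZero Γ] (v : Valuation K Γ)
    (hv : ∀ c : k, v (algebraMap k K c) ≤ 1) (w : K) (hw : v w ≤ 1) (q : k[X]) :
    v (aeval w q) ≤ 1 := by
  rw [aeval_eq_sum_range]
  apply Valuation.map_sum_le
  intro i _
  rw [Algebra.smul_def, map_mul, map_pow]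
  exact mul_le_one' (hv _) (pow_le_one' hw i)

open Polynomial in
/-- A nonzero polynomial in an element of valuation `> 1` has valuation `v w ^ natDegree`. -/
lemma val_aeval_eq_pow {k K Γ : Type*} [Field k] [Field K] [Algebra k K]
    [LinearOrderedCommGroupWithZero Γ] (v : Valuation K Γ)
    (hv : ∀ c : k, c ≠ 0 → v (algebraMap k K c) = 1) (w : K) (hw : 1 < v w) (q : k[X])
    (hq : q ≠ 0) : v (aeval w q) = v w ^ q.natDegree := by
  rw [aeval_eq_sum_range, Finset.sum_range_succ]
  have hlc : q.coeff q.natDegree ≠ 0 := by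
    rw [← leadingCoeff]; exact leadingCoeff_ne_zero.2 hq
  have htop : v (q.coeff q.natDegree • w ^ q.natDegree) = v w ^ q.natDegree := by
    rw [Algebra.smul_def, map_mul, map_pow, hv _ hlc, one_mul]
  have hw0 : v w ≠ 0 := by
    intro h; rw [h] at hw; exact not_lt.2 zero_le' hw
  have hlow : v (∑ i ∈ Finset.range q.natDegree, q.coeff i • w ^ i) < v w ^ q.natDegree := by
    apply Valuation.map_sum_lt
    · exact pow_ne_zero _ hw0
    · intro i hi
      rw [Algebra.smul_def, map_mul, map_pow]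
      have h1 : v (algebraMap k K (q.coeff i)) ≤ 1 := by
        by_cases h : q.coeff i = 0
        · rw [h, map_zero, map_zero]; exact zero_le'
        · rw [hv _ h]
      calc v (algebraMap k K (q.coeff i)) * v w ^ i ≤ 1 * v w ^ i := by gcongr
        _ = v w ^ i := one_mul _
        _ < v w ^ q.natDegree := pow_lt_pow_right₀ hw (Finset.mem_range.1 hi)
  rw [← htop] at hlow ⊢
  rw [add_comm]
  exact Valuation.map_add_eq_of_lt_left v hlow

/-- `u = λ (1 - λ)`. -/
noncomputable def uu (k : Type u) [Field k] : RatFunc k := RatFunc.X * (1 - RatFunc.X)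

lemma X_sub_one_ne_zero (k : Type u) [Field k] : (RatFunc.X - 1 : RatFunc k) ≠ 0 := by
  intro h
  have h1 : (RatFunc.X : RatFunc k) = 1 := sub_eq_zero.1 h
  have := congrArg RatFunc.intDegree h1
  simp at this

lemma uu_ne_zero (k : Type u) [Field k] : uu k ≠ 0 := by
  unfold uu
  have h1 : (RatFunc.X : RatFunc k) ≠ 0 := RatFunc.X_ne_zero
  have h2 : (1 - RatFunc.X : RatFunc k) ≠ 0 := by
    intro h; apply X_sub_one_ne_zero k; linear_combination -h
  exact mul_ne_zero h1 h2

open Polynomial in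
/-- Claim (i): a `σ`-invariant polynomial in `1/u` is constant. -/
lemma const_of_invariant {k : Type u} [Field k] (σ : RatFunc k ≃ₐ[k] RatFunc k)
    (hσ : σ RatFunc.X = (RatFunc.X : RatFunc k)⁻¹) (q : k[X])
    (h : σ (aeval (uu k)⁻¹ q) = aeval (uu k)⁻¹ q) :
    ∃ c : k, aeval (uu k)⁻¹ q = algebraMap k (RatFunc k) c := by
  classical
  by_cases hq : q = 0
  · exact ⟨0, by rw [hq]; simp⟩
  set v := RatFunc.inftyValuation k with hv
  have hvk : ∀ c : k, c ≠ 0 → v (algebraMap k (RatFunc k) c) = 1 := by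
    intro c hc
    rw [RatFunc.algebraMap_eq_C]
    exact RatFunc.inftyValuation.C k hc
  have hvk' : ∀ c : k, v (algebraMap k (RatFunc k) c) ≤ 1 := by
    intro c
    by_cases hc : c = 0
    · rw [hc, map_zero, map_zero]; exact zero_le'
    · rw [hvk c hc]
  have hvX : v RatFunc.X = WithZero.exp (1 : ℤ) := RatFunc.inftyValuation.X k
  have h1lt : (1 : WithZero (Multiplicative ℤ)) < WithZero.exp (1 : ℤ) := by
    rw [← WithZero.exp_zero, WithZero.exp_lt_exp]; norm_num
  set v' : Valuation (RatFunc k) (WithZero (Multiplicative ℤ)) := v.comap (σ : RatFunc k →+* RatFunc k) with hv'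
  have hv'k : ∀ c : k, c ≠ 0 → v' (algebraMap k (RatFunc k) c) = 1 := by
    intro c hc
    rw [hv', Valuation.comap_apply]
    have : (σ : RatFunc k →+* RatFunc k) (algebraMap k (RatFunc k) c) = algebraMap k (RatFunc k) c :=
      σ.commutes c
    rw [this, hvk c hc]
  -- valuations of u⁻¹
  have hv1X : v (1 - RatFunc.X) = WithZero.exp (1 : ℤ) := by
    rw [← hvX]
    apply Valuation.map_sub_eq_of_lt_right
    rw [map_one, hvX]; exact h1lt
  have hvu : v (uu k) = WithZero.exp (1 : ℤ) * WithZero.exp (1 : ℤ) := by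
    rw [uu, map_mul, hvX, hv1X]
  have hvw : v (uu k)⁻¹ ≤ 1 := by
    rw [map_inv₀, hvu]
    apply inv_le_one_of_one_le₀
    exact (one_le_mul_of_one_le_of_one_le h1lt.le h1lt.le)
  have hσu : σ (uu k) = (RatFunc.X : RatFunc k)⁻¹ * (1 - (RatFunc.X : RatFunc k)⁻¹) := by
    rw [uu, map_mul, map_sub, map_one, hσ]
  have hvXinv : v (RatFunc.X : RatFunc k)⁻¹ = (WithZero.exp (1 : ℤ))⁻¹ := by
    rw [map_inv₀, hvX]
  have hinvlt : (WithZero.exp (1 : ℤ) : WithZero (Multiplicative ℤ))⁻¹ < 1 :=
    inv_lt_one_of_one_lt₀ h1lt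
  have hv'w : v' (uu k)⁻¹ = WithZero.exp (1 : ℤ) := by
    rw [hv', Valuation.comap_apply]
    have : (σ : RatFunc k →+* RatFunc k) (uu k)⁻¹ = (σ (uu k))⁻¹ := map_inv₀ σ _
    have h5 : v (1 - (RatFunc.X : RatFunc k)⁻¹) = 1 :=
      Valuation.map_one_sub_of_lt v (by rw [hvXinv]; exact hinvlt)
    rw [this, hσu, map_inv₀, map_mul, hvXinv, h5, mul_one, inv_inv]
  -- compare
  have hb1 : v (aeval (uu k)⁻¹ q) ≤ 1 := val_aeval_le_one v hvk' _ hvw q
  have hb2 : v' (aeval (uu k)⁻¹ q) = v' (uu k)⁻¹ ^ q.natDegree :=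
    val_aeval_eq_pow v' hv'k _ (by rw [hv'w]; exact h1lt) q hq
  have hb3 : v' (aeval (uu k)⁻¹ q) = v (aeval (uu k)⁻¹ q) := by
    rw [hv', Valuation.comap_apply]
    exact congrArg v h
  rw [hb3, hv'w] at hb2
  rw [hb2] at hb1
  have hn : q.natDegree = 0 := by
    by_contra hn
    exact absurd hb1 (not_le.2 (one_lt_pow₀ h1lt hn))
  refine ⟨q.coeff 0, ?_⟩
  rw [eq_C_of_natDegree_eq_zero hn, aeval_C]
  simp

open Polynomial in
lemma natDegree_one_sub_X (k : Type u) [Field k] : (1 - X : k[X]).natDegree = 1 := by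
  have : (1 - X : k[X]) = -(X - C 1) := by simp
  rw [this, natDegree_neg, natDegree_X_sub_C]

open Polynomial in
lemma leadingCoeff_one_sub_X (k : Type u) [Field k] : (1 - X : k[X]).leadingCoeff = -1 := by
  have : (1 - X : k[X]) = -(X - C 1) := by simp
  rw [this, leadingCoeff_neg, leadingCoeff_X_sub_C]

open Polynomial in
/-- The main induction: `σ`-invariant Laurent polynomials in `u` are polynomials in `j`. -/
theorem main_ind {k : Type u} [Field k] (h2 : (2 : k) ≠ 0) (σ : RatFunc k ≃ₐ[k] RatFunc k)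
    (hσ : σ RatFunc.X = (RatFunc.X : RatFunc k)⁻¹) (jv : RatFunc k)
    (hj : jv = 256 * (1 - uu k) ^ 3 / (uu k) ^ 2) (hσj : σ jv = jv) :
    ∀ (N : ℕ) (p : k[X]) (m : ℕ), p.natDegree ≤ m + N →
      σ (aeval (uu k) p / (uu k) ^ m) = aeval (uu k) p / (uu k) ^ m →
      aeval (uu k) p / (uu k) ^ m ∈ Algebra.adjoin k ({jv} : Set (RatFunc k)) := by
  have hu := uu_ne_zero k
  intro N
  induction N with
  | zero =>
    intro p m hp hinv
    letI : Invertible (uu k) := invertibleOfNonzero hu
    have h1 : aeval (uu k) p / (uu k) ^ m = aeval (uu k)⁻¹ (reflect m p) := by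
      have := eval₂_reflect_mul_pow (algebraMap k (RatFunc k)) (uu k) m p (by simpa using hp)
      rw [invOf_eq_inv] at this
      rw [aeval_def, aeval_def, ← this]
      field_simp
    rw [h1] at hinv ⊢
    obtain ⟨c, hc⟩ := const_of_invariant σ hσ _ hinv
    rw [hc]
    exact Subalgebra.algebraMap_mem _ c
  | succ N ih =>
    intro p m hp hinv
    by_cases hp' : p.natDegree ≤ m + N
    · exact ih p m hp' hinv
    have hpd : p.natDegree = m + (N + 1) := by omega
    set t : ℕ := N + 1 with ht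
    have hp0 : p ≠ 0 := by
      intro h; rw [h, natDegree_zero] at hpd; omega
    have h256 : (256 : k) ≠ 0 := by
      have : (256 : k) = 2 ^ 8 := by norm_num
      rw [this]; exact pow_ne_zero _ h2
    set J : k[X] := (C 256 * (1 - X) ^ 3) ^ t with hJ
    have h1X0 : (1 - X : k[X]) ≠ 0 := by
      intro h; have := natDegree_one_sub_X k; rw [h, natDegree_zero] at this; omega
    have hC256 : (C (256 : k) : k[X]) ≠ 0 := by simpa using h256
    have hJ0 : J ≠ 0 := pow_ne_zero _ (mul_ne_zero hC256 (pow_ne_zero _ h1X0))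
    have hJdeg : J.natDegree = 3 * t := by
      rw [hJ, natDegree_pow, natDegree_mul hC256 (pow_ne_zero _ h1X0), natDegree_C, natDegree_pow,
        natDegree_one_sub_X]
      ring
    have hJlc : J.leadingCoeff ≠ 0 := leadingCoeff_ne_zero.2 hJ0
    set c : k := p.leadingCoeff / J.leadingCoeff with hc
    have hc0 : c ≠ 0 := div_ne_zero (leadingCoeff_ne_zero.2 hp0) hJlc
    set A : k[X] := p * X ^ (2 * t) with hA
    set Bq : k[X] := C c * J * X ^ m with hBq
    have hA0 : A ≠ 0 := mul_ne_zero hp0 (pow_ne_zero _ X_ne_zero)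
    have hB0 : Bq ≠ 0 := mul_ne_zero (mul_ne_zero (by simpa using hc0) hJ0) (pow_ne_zero _ X_ne_zero)
    have hAdeg : A.natDegree = m + 3 * t := by
      rw [hA, natDegree_mul_X_pow _ hp0, hpd]; ring
    have hBdeg : Bq.natDegree = m + 3 * t := by
      rw [hBq, natDegree_mul_X_pow _ (mul_ne_zero (by simpa using hc0) hJ0),
        natDegree_C_mul hc0, hJdeg]; ring
    have hlc : A.leadingCoeff = Bq.leadingCoeff := by
      rw [hA, hBq, leadingCoeff_mul_X_pow, leadingCoeff_mul_X_pow, leadingCoeff_mul,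
        leadingCoeff_C, hc]
      field_simp
    have hdeg : (A - Bq).degree < A.degree := by
      apply degree_sub_lt _ hA0 hlc
      rw [degree_eq_natDegree hA0, degree_eq_natDegree hB0, hAdeg, hBdeg]
    have hp2deg : (A - Bq).natDegree ≤ (m + 2 * t) + N := by
      by_cases h0 : A - Bq = 0
      · rw [h0, natDegree_zero]; omega
      · have := natDegree_lt_natDegree h0 hdeg
        rw [hAdeg] at this
        omega
    -- the element
    have hkey : aeval (uu k) (A - Bq) / (uu k) ^ (m + 2 * t)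
        = aeval (uu k) p / (uu k) ^ m - algebraMap k (RatFunc k) c * jv ^ t := by
      rw [hA, hBq, hJ, hj]
      simp only [map_sub, map_mul, map_pow, aeval_X, aeval_C, map_one]
      have e256 : algebraMap k (RatFunc k) 256 = 256 := map_ofNat _ 256
      rw [e256, div_pow, ← pow_mul (uu k) 2 t]
      generalize (256 * (1 - uu k) ^ 3 : RatFunc k) ^ t = W
      field_simp
      ring
    have hinv2 : σ (aeval (uu k) (A - Bq) / (uu k) ^ (m + 2 * t))
        = aeval (uu k) (A - Bq) / (uu k) ^ (m + 2 * t) := by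
      rw [hkey, map_sub, map_mul, map_pow, hinv, hσj, σ.commutes]
    have hmem := ih (A - Bq) (m + 2 * t) hp2deg hinv2
    rw [hkey] at hmem
    have hjmem : jv ∈ Algebra.adjoin k ({jv} : Set (RatFunc k)) :=
      Algebra.subset_adjoin (Set.mem_singleton _)
    have := Subalgebra.add_mem _ hmem
      (Subalgebra.mul_mem _ (Subalgebra.algebraMap_mem _ c) (Subalgebra.pow_mem _ hjmem t))
    simpa using this

open Polynomial in
lemma algebraMap_U (k : Type u) [Field k] :
    algebraMap k[X] (RatFunc k) (X * (1 - X)) = uu k := by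
  simp [uu, RatFunc.algebraMap_X]

open Polynomial in
/-- Elements of `B` become polynomials after multiplying by a power of `u`. -/
lemma exists_mul_pow_eq_polynomial {k : Type u} [Field k] (b : RatFunc k)
    (hb : b ∈ Algebra.adjoin k ({RatFunc.X, (RatFunc.X : RatFunc k)⁻¹,
      ((RatFunc.X : RatFunc k) - 1)⁻¹} : Set (RatFunc k))) :
    ∃ (M : ℕ) (f : k[X]), b * (uu k) ^ M = algebraMap k[X] (RatFunc k) f := by
  have hX0 : (RatFunc.X : RatFunc k) ≠ 0 := RatFunc.X_ne_zero
  have hX1 := X_sub_one_ne_zero k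
  induction hb using Algebra.adjoin_induction with
  | mem x hx =>
    rcases hx with rfl | rfl | rfl
    · exact ⟨0, X, by simp [RatFunc.algebraMap_X]⟩
    · refine ⟨1, 1 - X, ?_⟩
      simp only [uu, pow_one, map_sub, map_one, RatFunc.algebraMap_X]
      field_simp
    · refine ⟨1, -X, ?_⟩
      simp only [uu, pow_one, map_neg, RatFunc.algebraMap_X]
      field_simp
      ring
  | algebraMap c =>
    refine ⟨0, C c, ?_⟩
    simp [RatFunc.algebraMap_eq_C]
  | add x y _ _ ihx ihy =>
    obtain ⟨M₁, f₁, h₁⟩ := ihx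
    obtain ⟨M₂, f₂, h₂⟩ := ihy
    refine ⟨M₁ + M₂, f₁ * (X * (1 - X)) ^ M₂ + f₂ * (X * (1 - X)) ^ M₁, ?_⟩
    rw [map_add, map_mul, map_mul, map_pow, map_pow, algebraMap_U, ← h₁, ← h₂]
    ring
  | mul x y _ _ ihx ihy =>
    obtain ⟨M₁, f₁, h₁⟩ := ihx
    obtain ⟨M₂, f₂, h₂⟩ := ihy
    refine ⟨M₁ + M₂, f₁ * f₂, ?_⟩
    rw [map_mul, ← h₁, ← h₂]
    ring

open Polynomial in
/-- Step 1: `τ`-invariant elements of `B` are Laurent polynomials in `u`. -/
lemma exists_aeval_div_of_invariant {k : Type u} [Field k] (τ : RatFunc k ≃ₐ[k] RatFunc k)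
    (hτ : τ RatFunc.X = 1 - (RatFunc.X : RatFunc k)) (b : RatFunc k)
    (hb : b ∈ Algebra.adjoin k ({RatFunc.X, (RatFunc.X : RatFunc k)⁻¹,
      ((RatFunc.X : RatFunc k) - 1)⁻¹} : Set (RatFunc k))) (hτb : τ b = b) :
    ∃ (p : k[X]) (m : ℕ), b = aeval (uu k) p / (uu k) ^ m := by
  obtain ⟨M, f, hf⟩ := exists_mul_pow_eq_polynomial b hb
  have hτu : τ (uu k) = uu k := by
    rw [uu, map_mul, map_sub, map_one, hτ]; ring
  have h1 : τ (algebraMap k[X] (RatFunc k) f) = algebraMap k[X] (RatFunc k) (f.comp (1 - X)) := by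
    rw [← RatFunc.aeval_X_left_eq_algebraMap, ← RatFunc.aeval_X_left_eq_algebraMap,
      ← aeval_algHom_apply, hτ, aeval_comp]
    simp
  have h2 : f.comp (1 - X) = f := by
    apply RatFunc.algebraMap_injective k
    rw [← h1, ← hf, map_mul, map_pow, hτb, hτu]
  obtain ⟨p, hp⟩ := exists_comp_of_invariant _ f rfl h2
  refine ⟨p, M, ?_⟩
  have h3 : algebraMap k[X] (RatFunc k) f = aeval (uu k) p := by
    rw [hp, ← RatFunc.aeval_X_left_eq_algebraMap, aeval_comp, RatFunc.aeval_X_left_eq_algebraMap,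
      algebraMap_U]
  rw [← h3, ← hf]
  field_simp [uu_ne_zero k]


/-- The algebraic step of its proof: Fix an algebraically closed field k whose characteristic is neither
2 nor 3, let B ⊆ k(λ) be the k-subalgebra generated by λ, λ⁻¹ and (λ - 1)⁻¹ (the coordinate ring of
the λ-line with 0 and 1 removed), and let σ and τ be the k-algebra automorphisms of k(λ) determined
by σ(λ) = λ⁻¹ and τ(λ) = 1 - λ (they generate the group of order six permuting λ, 1/λ, 1-λ, 1/(1-λ),
λ/(λ-1), (λ-1)/λ). Then the elements of B fixed by σ and τ are exactly the elements of the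
k-subalgebra generated by j = 256 (λ² - λ + 1)³ / (λ² (λ - 1)²); in other words the ring of
invariants of B is the polynomial ring k[j]. -/
theorem result (k : Type u) [Field k] [IsAlgClosed k]
    (h2 : (2 : k) ≠ 0) (h3 : (3 : k) ≠ 0)
    (σ τ : RatFunc k ≃ₐ[k] RatFunc k) (hσ : σ RatFunc.X = (RatFunc.X : RatFunc k)⁻¹)
    (hτ : τ RatFunc.X = 1 - (RatFunc.X : RatFunc k)) (b : RatFunc k) :
    (b ∈ Algebra.adjoin k ({RatFunc.X, (RatFunc.X : RatFunc k)⁻¹, ((RatFunc.X : RatFunc k) - 1)⁻¹} : Set (RatFunc k)) ∧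
        σ b = b ∧ τ b = b) ↔
      b ∈ Algebra.adjoin k ({(256 : RatFunc k) * ((RatFunc.X : RatFunc k) ^ 2 - RatFunc.X + 1) ^ 3 /
        ((RatFunc.X : RatFunc k) ^ 2 * ((RatFunc.X : RatFunc k) - 1) ^ 2)} : Set (RatFunc k)) := by
  have hX0 : (RatFunc.X : RatFunc k) ≠ 0 := RatFunc.X_ne_zero
  have hX1 := X_sub_one_ne_zero k
  have hu := uu_ne_zero k
  set jv : RatFunc k := (256 : RatFunc k) * ((RatFunc.X : RatFunc k) ^ 2 - RatFunc.X + 1) ^ 3 /
        ((RatFunc.X : RatFunc k) ^ 2 * ((RatFunc.X : RatFunc k) - 1) ^ 2) with hjv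
  have hj : jv = 256 * (1 - uu k) ^ 3 / (uu k) ^ 2 := by
    have e1 : ((RatFunc.X : RatFunc k) ^ 2 - RatFunc.X + 1) = 1 - uu k := by unfold uu; ring
    have e2 : ((RatFunc.X : RatFunc k) ^ 2 * ((RatFunc.X : RatFunc k) - 1) ^ 2) = (uu k) ^ 2 := by
      unfold uu; ring
    rw [hjv, e1, e2]
  have h1X : (1 - RatFunc.X : RatFunc k) ≠ 0 := by
    intro h; apply hX1; linear_combination -h
  have hσj : σ jv = jv := by
    rw [hjv]
    simp only [map_div₀, map_mul, map_pow, map_sub, map_add, map_one, map_ofNat, hσ]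
    have e4 : ((RatFunc.X : RatFunc k)⁻¹ - 1) = (1 - RatFunc.X) / RatFunc.X := by field_simp
    have e5 : ((RatFunc.X : RatFunc k) - 1) ^ 2 = (1 - RatFunc.X) ^ 2 := by ring
    rw [e4, e5]
    field_simp
    ring
  have hτj : τ jv = jv := by
    rw [hjv]
    simp only [map_div₀, map_mul, map_pow, map_sub, map_add, map_one, map_ofNat, hτ]
    have e3 : (1 - (RatFunc.X : RatFunc k) - 1) = -RatFunc.X := by ring
    rw [e3]
    field_simp
    ring
  constructor
  · rintro ⟨hb, hσb, hτb⟩
    obtain ⟨p, m, hpm⟩ := exists_aeval_div_of_invariant τ hτ b hb hτb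
    rw [hpm] at hσb ⊢
    exact main_ind h2 σ hσ jv hj hσj p.natDegree p m (by omega) hσb
  · intro hb
    set B := Algebra.adjoin k ({RatFunc.X, (RatFunc.X : RatFunc k)⁻¹,
      ((RatFunc.X : RatFunc k) - 1)⁻¹} : Set (RatFunc k)) with hB
    set S : Subalgebra k (RatFunc k) :=
      B ⊓ AlgHom.equalizer (σ : RatFunc k →ₐ[k] RatFunc k) (AlgHom.id k (RatFunc k)) ⊓
        AlgHom.equalizer (τ : RatFunc k →ₐ[k] RatFunc k) (AlgHom.id k (RatFunc k)) with hS
    have hjS : jv ∈ S := by
      refine ⟨⟨?_, ?_⟩, ?_⟩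
      · have hXm : (RatFunc.X : RatFunc k) ∈ B := Algebra.subset_adjoin (by simp)
        have hXi : (RatFunc.X : RatFunc k)⁻¹ ∈ B := Algebra.subset_adjoin (by simp)
        have hX1i : ((RatFunc.X : RatFunc k) - 1)⁻¹ ∈ B := Algebra.subset_adjoin (by simp)
        have e : jv = (algebraMap k (RatFunc k) 256) * ((RatFunc.X : RatFunc k) ^ 2 - RatFunc.X + 1) ^ 3 *
            ((RatFunc.X : RatFunc k)⁻¹ ^ 2 * (((RatFunc.X : RatFunc k) - 1)⁻¹) ^ 2) := by
          rw [hjv, map_ofNat]
          field_simp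
        rw [SetLike.mem_coe, e]
        apply Subalgebra.mul_mem
        · apply Subalgebra.mul_mem _ (Subalgebra.algebraMap_mem _ _)
          apply Subalgebra.pow_mem
          exact Subalgebra.add_mem _ (Subalgebra.sub_mem _ (Subalgebra.pow_mem _ hXm 2) hXm)
            (Subalgebra.one_mem _)
        · exact Subalgebra.mul_mem _ (Subalgebra.pow_mem _ hXi 2) (Subalgebra.pow_mem _ hX1i 2)
      · exact hσj
      · exact hτj
    have hle : Algebra.adjoin k ({jv} : Set (RatFunc k)) ≤ S :=
      Algebra.adjoin_le (Set.singleton_subset_iff.2 hjS)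
    obtain ⟨⟨h1, h2'⟩, h3'⟩ := hle hb
    exact ⟨h1, h2', h3'⟩

end Groth.Agent.S11470
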