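import Groth.Statements.S11482
import Groth.Agent.Lib.Lead.VBCurve17
-- import your own Groth.Agent.* helpers here

set_option autoImplicit false
set_option backward.isDefEq.respectTransparency false
universe u
open CategoryTheory CategoryTheory.Limits AlgebraicGeometry
open Curves

namespace Groth.Agent.S11482

/-- Fix an algebraically closed field k and a nonsingular projective curve X over k of genus g (smooth,
proper, integral, of dimension one, g = dim H¹(X, O_X)) and E a locally free sheaf of rank 2 and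
degree d (degree = χ(E) − 2χ(O_X)) that is indecomposable: in any decomposition E ≅ E₁ ⊕ E₂ one
summand is zero. Then (a) every invertible subsheaf L ⊆ E has 2·deg L ≤ d + 2g − 2, and (b) there is
an invertible subsheaf L ⊆ E with d − 2g ≤ 2·deg L. (The published statement is that indecomposable
bundles of fixed rank and degree form a bounded family; this row states, in rank two, the degree
bounds for invertible subsheaves on which its proof rests.) -/
theorem result (k : Type u) [Field k] [IsAlgClosed k]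
    (X : Scheme.{u}) [X.Over (Spec (CommRingCat.of k))] (hX : Curve.IsSmoothProperCurve k X (X ↘ Spec (CommRingCat.of k)))
    (E : X.Modules) (hE : FlatMod.IsFinLocFreeOfRank 2 E)
    (hind : ∀ (E₁ E₂ : X.Modules), Nonempty (E ≅ E₁ ⊞ E₂) → IsZero E₁ ∨ IsZero E₂) :
    (∀ (L : X.Modules) (ι : L ⟶ E), PicF.IsInvertible L → Mono ι →
        2 * Curv2.deg k X L 1 ≤ Curv2.deg k X E 2 + 2 * (Curv2.genus k X : ℤ) - 2) ∧
      ∃ (L : X.Modules) (ι : L ⟶ E), PicF.IsInvertible L ∧ Mono ι ∧
        Curv2.deg k X E 2 - 2 * (Curv2.genus k X : ℤ) ≤ 2 * Curv2.deg k X L 1 := by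
  classical
  obtain ⟨hprop, hsm, hint, hdim⟩ := hX
  haveI := hprop
  haveI := hsm
  haveI := hint
  have hP := Groth.Agent.Lib.Lead.VBCurve.pidStalks_of_smooth k X hdim.le
  have hd := hdim.le
  haveI := Groth.Agent.Lib.Lead.CurveEuler.isNoetherian k X
  have h0 := Groth.Agent.Lib.helper9.CurveVanish.finrank_H0_structureModule_eq_one k X
  refine ⟨fun L ι hL hι => ?_, ?_⟩
  · haveI := hι
    have hL1 := (Groth.Agent.Lib.helper16.FLF.isInvertible_iff_isFinLocFreeOfRank_one L).mp hL
    obtain ⟨G₁, ι₁, t, hm₁, hG₁, hdle, hrk, ht, hdeg⟩ :=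
      Groth.Agent.Lib.Lead.VBCurve.exists_saturated_sub k X hP hd hL1 hE ι
    haveI := hm₁
    have ht1 : t = 1 := by omega
    subst ht1
    have hL₁ := (Groth.Agent.Lib.helper16.FLF.isInvertible_iff_isFinLocFreeOfRank_one G₁).mpr hG₁
    have hq := (Groth.Agent.Lib.helper16.FLF.isInvertible_iff_isFinLocFreeOfRank_one (cokernel ι₁)).mpr ht
    have hS := Groth.Agent.Lib.Lead.VBCurve.shortExact_cokernel X ι₁
    have hns : ¬ IsSplitEpi (cokernel.π ι₁) := by
      rintro ⟨⟨s, hs⟩⟩
      have spl : (ShortComplex.mk ι₁ (cokernel.π ι₁) (cokernel.condition ι₁)).Splitting :=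
        ShortComplex.Splitting.ofExactOfSection _ hS.exact s hs hS.mono_f
      rcases hind G₁ (cokernel ι₁) ⟨spl.isoBinaryBiproduct⟩ with hz | hz
      · exact Groth.Agent.Lib.Lead.VBCurve.not_isZero_of_isInvertible X hL₁ hz
      · exact Groth.Agent.Lib.Lead.VBCurve.not_isZero_of_isInvertible X hq hz
    have := Groth.Agent.Lib.Lead.VBCurve.deg_sub_le_of_not_isSplitEpi k X hd h0
      (ShortComplex.mk ι₁ (cokernel.π ι₁) (cokernel.condition ι₁)) hS hL₁ hq hns
    change Curv2.deg k X G₁ 1 - Curv2.deg k X (cokernel ι₁) 1 ≤ _ at this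
    linarith
  · obtain ⟨L, ι, hL, hι, hle⟩ :=
      Groth.Agent.Lib.Lead.VBCurve.exists_invertible_sub_deg_ge k X hP hdim (by norm_num : 0 < 2) hE
    refine ⟨L, ι, hL, hι, ?_⟩
    push_cast at hle
    linarith

end Groth.Agent.S11482
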