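import Groth.Statements.S11483
import Groth.Agent.Lib.Lead.VBCurve4
-- import your own Groth.Agent.* helpers here

set_option autoImplicit false
set_option backward.isDefEq.respectTransparency false
universe u
open CategoryTheory CategoryTheory.Limits AlgebraicGeometry
open Curves

namespace Groth.Agent.S11483

/-- Stable bundles are simple. Let X be a nonsingular projective curve over an algebraically closed
field k (smooth, proper, integral, of dimension one) and E a locally free sheaf of rank r on X which
is stable: every locally free subsheaf G of rank s with 0 < s < r has deg G · r < deg E · s (degrees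
computed as χ − rank·χ(O_X)). Then every nonzero endomorphism of E is an isomorphism. (The published
statement concludes that the endomorphisms of E are exactly the scalars; over the algebraically
closed field k this is equivalent, the endomorphism ring being a finite-dimensional division
algebra, and the form stated here avoids the k-linear structure on endomorphisms.) -/
theorem result (k : Type u) [Field k] [IsAlgClosed k] (X : Scheme.{u})
    [X.Over (Spec (CommRingCat.of k))] (hX : Curve.IsSmoothProperCurve k X (X ↘ Spec (CommRingCat.of k))) (r : ℕ)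
    (E : X.Modules) (hE : FlatMod.IsFinLocFreeOfRank r E)
    (hst : ∀ (G : X.Modules) (s : ℕ) (ι : G ⟶ E), Mono ι → FlatMod.IsFinLocFreeOfRank s G → 0 < s → s < r →
      Curv2.deg k X G s * (r : ℤ) < Curv2.deg k X E r * (s : ℤ))
    (φ : E ⟶ E) (hφ : φ ≠ 0) : IsIso φ := by
  classical
  obtain ⟨hprop, hsm, hint, hdim⟩ := hX
  haveI := hprop
  haveI := hsm
  haveI := hint
  have hP := Groth.Agent.Lib.Lead.VBCurve.pidStalks_of_smooth k X hdim.le
  haveI := Groth.Agent.Lib.Lead.CurveEuler.isNoetherian k X
  obtain ⟨rK, rI, hK, hI, hrr⟩ := Groth.Agent.Lib.Lead.VBCurve.exists_kernel_image_ranks hP hE hE φ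
  have hdeg := Groth.Agent.Lib.Lead.VBCurve.deg_kernel_add_deg_image k X φ hK hI hrr
  have hrI : 0 < rI := by
    rcases Nat.eq_zero_or_pos rI with h0 | h0
    · exfalso
      subst h0
      have hz := Groth.Agent.Lib.Lead.VBCurve.isZero_of_isFinLocFreeOfRank_zero hI
      apply hφ
      rw [← Abelian.image.fac φ, hz.eq_of_tgt (Abelian.factorThruImage φ) 0, zero_comp]
    · exact h0
  rcases Nat.eq_zero_or_pos rK with h0 | h0
  · subst h0
    have hz := Groth.Agent.Lib.Lead.VBCurve.isZero_of_isFinLocFreeOfRank_zero hK
    haveI : Mono φ := Preadditive.mono_of_isZero_kernel φ hz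
    exact Groth.Agent.Lib.Lead.VBCurve.isIso_of_deg_eq k X hdim.le hE hE φ rfl
  · exfalso
    have h1 := hst (kernel φ) rK (kernel.ι φ) inferInstance hK h0 (by omega)
    have h2 := hst (Abelian.image φ) rI (Abelian.image.ι φ) inferInstance hI hrI (by omega)
    have hr' : (r : ℤ) = (rK : ℤ) + (rI : ℤ) := by exact_mod_cast hrr
    rw [hdeg, hr'] at h1 h2
    nlinarith

end Groth.Agent.S11483
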