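import Groth.Statements.S11484
import Groth.Agent.S0844
import Groth.Agent.Lib.Helper20.SplitH1
import Groth.Agent.Lib.Helper20.TwistEquivPn

set_option autoImplicit false
universe u
open VBPn

namespace Groth.Agent.S11484

open CategoryTheory CategoryTheory.Limits AlgebraicGeometry in
/-- Let k be an algebraically closed field of characteristic zero and n ≥ 2. On P^n_k every short exact
sequence of O-modules whose first term is isomorphic to O(a) and whose third term is isomorphic to
O(b), for integers a and b, admits a splitting; in particular its middle term is isomorphic to O(a)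
⊕ O(b). -/
theorem result (k : Type u) [Field k] [IsAlgClosed k] [CharZero k]
    (n : ℕ) (hn : 2 ≤ n) (a b : ℤ) (S : ShortComplex (CohB1.ProjSpace n k).Modules) (hS : S.ShortExact)
    (ha : Nonempty (S.X₁ ≅ Twist.twistProjSpace n k a)) (hb : Nonempty (S.X₃ ≅ Twist.twistProjSpace n k b)) :
    Nonempty S.Splitting := by
  obtain ⟨ea⟩ := ha
  obtain ⟨eb⟩ := hb
  have hT := Groth.Agent.Lib.Helper20.TwistEquivPn.shortExact_twistSC n k (-b) hS
  -- the third term of the twisted sequence is `O`
  have e3 : (Groth.Agent.Lib.Helper20.TwistEquivPn.twistSC n k (-b) S).X₃ ≅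
      Coh.structureModule (CohB1.ProjSpace n k) :=
    Groth.Agent.Lib.Lead.ModTensor.tensorIso eb (Iso.refl _) ≪≫
      Groth.Agent.Lib.Helper20.TwistEquivPn.invIso n k b
  -- the first term is `O(a - b)`, with vanishing `H¹`
  have e1 : (Groth.Agent.Lib.Helper20.TwistEquivPn.twistSC n k (-b) S).X₁ ≅
      Twist.twistProjSpace n k (a + -b) :=
    Groth.Agent.Lib.Lead.ModTensor.tensorIso ea (Iso.refl _) ≪≫
      Groth.Agent.Lib.helper28.TwistPn.tensorIso n k a (-b)
  have h1 : Subsingleton (Coh.HH (CohB1.ProjSpace n k)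
      (Groth.Agent.Lib.Helper20.TwistEquivPn.twistSC n k (-b) S).X₁ 1) := by
    refine Groth.Agent.Lib.Helper20.TwistEquivPn.subsingleton_of_iso e1.symm 1 ?_
    exact Groth.Agent.S0844.result k n (a + -b) 1 (by simp) (by rintro ⟨h, -⟩; omega)
  obtain ⟨s', hs'⟩ := Groth.Agent.Lib.Helper20.SplitH1.exists_section hT e3 h1
  -- descend the section along the equivalence `− ⊗ O(-b)`
  have := Groth.Agent.Lib.Helper20.TensorEquiv.isEquivalence_tensorRight
    (Groth.Agent.Lib.Helper20.TwistEquivPn.invIso n k (-b))
  let T := Groth.Agent.Lib.Helper20.TensorEquiv.tensorRight (X := CohB1.ProjSpace n k)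
    (Twist.twistProjSpace n k (-b))
  let s'' : T.obj S.X₃ ⟶ T.obj S.X₂ := s'
  have hs'' : s'' ≫ T.map S.g = 𝟙 (T.obj S.X₃) := hs'
  let s : S.X₃ ⟶ S.X₂ := T.preimage s''
  have hs : s ≫ S.g = 𝟙 _ := by
    apply T.map_injective
    have hp : T.map s = s'' := T.map_preimage s''
    exact (T.map_comp s S.g).trans
      ((congrArg (fun z => z ≫ T.map S.g) hp).trans (hs''.trans (T.map_id _).symm))
  exact Groth.Agent.Lib.Helper20.SplitH1.nonempty_splitting_of_section hS s hs

end Groth.Agent.S11484
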