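import Groth.Statements.S11485
import Groth.Agent.Lib.Helper20.PicPnMain
import Groth.Agent.Lib.Helper20.GaetaHom
import Groth.Agent.Lib.Helper20.TwistEquivPn
import Groth.Agent.Lib.Helper16.FLF5
import Groth.Agent.S0844

set_option autoImplicit false
universe u
open VBPn

namespace Groth.Agent.S11485

open CategoryTheory CategoryTheory.Limits AlgebraicGeometry in
/-- Let k be an algebraically closed field of characteristic zero and n ≥ 2. If 0 → L → E → M → 0 is a
short exact sequence of O-modules on P^n_k with L and M finite locally free of rank 1 (so E is a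
rank-2 vector bundle with the proper subbundle L), then E ≅ O(a) ⊕ O(b) for some integers a, b: a
rank-2 vector bundle on P^n_k, n ≥ 2, which does not split has no proper subbundle. -/
theorem result (k : Type u) [Field k] [IsAlgClosed k]
    [CharZero k] (n : ℕ) (hn : 2 ≤ n) (S : ShortComplex (CohB1.ProjSpace n k).Modules) (hS : S.ShortExact)
    (h₁ : FlatMod.IsFinLocFreeOfRank 1 S.X₁) (h₃ : FlatMod.IsFinLocFreeOfRank 1 S.X₃) :
    ∃ a b : ℤ, Nonempty (S.X₂ ≅ Twist.twistProjSpace n k a ⊞ Twist.twistProjSpace n k b) := by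
  classical
  have hi₁ : PicF.IsInvertible S.X₁ :=
    (Groth.Agent.Lib.helper16.FLF.isInvertible_iff_isFinLocFreeOfRank_one _).2 h₁
  have hi₃ : PicF.IsInvertible S.X₃ :=
    (Groth.Agent.Lib.helper16.FLF.isInvertible_iff_isFinLocFreeOfRank_one _).2 h₃
  obtain ⟨a, ⟨φ₁⟩⟩ := Groth.Agent.Lib.helper20.PicPnMain.exists_iso_twist n k S.X₁ hi₁
  obtain ⟨b, ⟨φ₃⟩⟩ := Groth.Agent.Lib.helper20.PicPnMain.exists_iso_twist n k S.X₃ hi₃
  have φ₁' : S.X₁ ≅ Twist.twistProjSpace n k a := φ₁
  have φ₃' : S.X₃ ≅ Twist.twistProjSpace n k b := φ₃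
  let e : CohB1.tensorMod S.X₃ (Twist.twistProjSpace n k (-b)) ≅
      Coh.structureModule (CohB1.ProjSpace n k) :=
    Groth.Agent.Lib.Lead.ModTensor.tensorIso φ₃' (Iso.refl _) ≪≫
      Groth.Agent.Lib.Helper20.TwistEquivPn.invIso n k b
  have hv0 : Subsingleton (Coh.HH (CohB1.ProjSpace n k) (Twist.twistProjSpace n k (a + -b)) 1) :=
    Groth.Agent.S0844.result k n (a + -b) 1 (by omega) (by omega)
  have hv : Subsingleton (Coh.HH (CohB1.ProjSpace n k)
      (CohB1.tensorMod S.X₁ (Twist.twistProjSpace n k (-b))) 1) :=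
    Groth.Agent.Lib.Helper20.TwistEquivPn.subsingleton_of_iso
      (Groth.Agent.Lib.Lead.ModTensor.tensorIso φ₁' (Iso.refl _) ≪≫
        Groth.Agent.Lib.helper28.TwistPn.tensorIso n k a (-b)).symm 1 hv0
  obtain ⟨t', ht'⟩ := Groth.Agent.Lib.helper20.GaetaHom.exists_lift e hS hv (𝟙 S.X₃)
  haveI := hS.mono_f
  let sp := ShortComplex.Splitting.ofExactOfSection S hS.exact t' ht' inferInstance
  exact ⟨a, b, ⟨sp.isoBinaryBiproduct ≪≫ biprod.mapIso φ₁' φ₃'⟩⟩

end Groth.Agent.S11485
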