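import Groth.Statements.S11486
import Groth.Agent.Lib.Helper20.SplitP0

set_option autoImplicit false
universe u
open VBPn

namespace Groth.Agent.S11486

open CategoryTheory CategoryTheory.Limits AlgebraicGeometry in
open Groth.Agent.Lib.helper20.SplitP1 Groth.Agent.Lib.helper20.H0Vanish
  Groth.Agent.Lib.helper20.Horrocks Groth.Agent.Lib.helper20.SplitP0 in
/-- Let k be a characteristic-zero algebraically closed field and E a finite locally free O-module of
rank r on P^n_k. Then E splits as a direct sum of twisting sheaves O(a_1) ⊕ ⋯ ⊕ O(a_r) if and only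
if H^i(P^n_k, E ⊗ O(d)) = 0 for every 0 < i < n and every integer d. -/
theorem result (k : Type u) [Field k] [IsAlgClosed k] [CharZero k]
    (n r : ℕ) (E : (CohB1.ProjSpace n k).Modules) (hE : FlatMod.IsFinLocFreeOfRank r E) :
    (∃ a : Fin r → ℤ, Nonempty (E ≅ ∐ fun j : Fin r => Twist.twistProjSpace n k (a j))) ↔
      ∀ (i : ℕ) (d : ℤ), 0 < i → i < n →
        Subsingleton (Coh.HH (CohB1.ProjSpace n k) (CohB1.tensorMod E (Twist.twistProjSpace n k d)) i) := by
  have hE' := Groth.Agent.Lib.helper16.FLF.isFinLocFree_of_isFinLocFreeOfRank hE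
  have hcoh : Coh.IsCoh E := Groth.Agent.Lib.Lead.RankAdd.isCoh_of_isFinLocFree hE'
  constructor
  · rintro ⟨a, ⟨e⟩⟩ i d hi hin
    have hn : 1 ≤ n := by omega
    exact (hyp_of_splits hn hcoh ⟨r, a, ⟨e⟩⟩).hmid d i hi hin
  · intro h
    have hs : Splits (k := k) E := by
      rcases Nat.eq_zero_or_pos n with hn | hn
      · subst hn
        exact splits_P0 hcoh
      · exact splits_of_hyp hn (hyp_of_isFinLocFree hn hE' (fun m i h1 h2 => h i m h1 h2))
    obtain ⟨r', a, ⟨e⟩⟩ := hs
    obtain rfl : r' = r := rank_eq_of_iso_sigma hE a e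
    exact ⟨a, ⟨e⟩⟩

end Groth.Agent.S11486
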