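import Groth.Statements.S11493
import Mathlib
import Groth.Agent.Lib.Helper20.SerreFree

set_option autoImplicit false
universe u
open CategoryTheory
open VBPn

namespace Groth.Agent.S11493

/-- Let A be a Noetherian local ring and I an ideal with a free resolution of length 1, 0 → A^p → A^q →
I → 0 (equivalently: a surjection A^q → I with free kernel). Let 0 → A → M → I → 0 be an extension
with class e ∈ Ext^1(I, A). Then M is free if and only if e generates the A-module Ext^1(I, A); the
A-module structure being through End(A) = A, this says every element of Ext^1(I, A) is the composite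
of e with an endomorphism of A. -/
theorem result (A : Type u) [CommRing A] [IsNoetherianRing A] [IsLocalRing A]
    (I : Ideal A)
    (hres : ∃ (q : ℕ) (φ : (Fin q → A) →ₗ[A] ↥I), Function.Surjective φ ∧ Module.Free A ↥(LinearMap.ker φ))
    (S : ShortComplex (ModuleCat.{u} A)) (hS : S.ShortExact)
    (h₁ : Nonempty (S.X₁ ≅ ModuleCat.of A A)) (h₃ : Nonempty (S.X₃ ≅ ModuleCat.of A ↥I)) :
    Module.Free A S.X₂ ↔
      ∀ x : Abelian.Ext S.X₃ S.X₁ 1, ∃ f : S.X₁ ⟶ S.X₁, hS.extClass.comp (Abelian.Ext.mk₀ f) (add_zero 1) = x := by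
  obtain ⟨e₁⟩ := h₁
  obtain ⟨e₃⟩ := h₃
  obtain ⟨q, φ, hφ, hK⟩ := hres
  -- the right hand side is the vanishing of `Ext¹(X₂, X₁)`
  have hP1 : Projective S.X₁ := by
    have : Projective (ModuleCat.of A A) :=
      (IsProjective.iff_projective (R := A) A).mp inferInstance
    exact Projective.of_iso e₁.symm this
  have hRHS : (∀ x : Abelian.Ext S.X₃ S.X₁ 1, ∃ f : S.X₁ ⟶ S.X₁,
      hS.extClass.comp (Abelian.Ext.mk₀ f) (add_zero 1) = x) ↔
      Subsingleton (Abelian.Ext S.X₂ S.X₁ 1) := by
    constructor
    · intro h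
      refine subsingleton_of_forall_eq 0 (fun y => ?_)
      have hy : (Abelian.Ext.mk₀ S.f).comp y (zero_add 1) = 0 := Abelian.Ext.eq_zero_of_projective _
      obtain ⟨x, rfl⟩ := Abelian.Ext.contravariant_sequence_exact₂ hS S.X₁ y hy
      obtain ⟨f, rfl⟩ := h x
      exact hS.comp_extClass_assoc _ (add_zero 1)
    · intro h x
      obtain ⟨x₁, hx₁⟩ := Abelian.Ext.contravariant_sequence_exact₃ hS S.X₁ x
        (Subsingleton.elim _ _) (add_zero 1)
      refine ⟨Abelian.Ext.homEquiv₀ x₁, ?_⟩
      rw [Abelian.Ext.mk₀_homEquiv₀_apply]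
      exact hx₁
  rw [hRHS]
  constructor
  · intro hfree
    have hP2 : Projective S.X₂ := by
      have h0 : Projective (ModuleCat.of A S.X₂) :=
        (IsProjective.iff_projective (R := A) S.X₂).mp inferInstance
      exact h0
    exact subsingleton_of_forall_eq 0 (fun y => Abelian.Ext.eq_zero_of_projective y)
  · intro hE
    -- module data
    have hj : Function.Injective S.f.hom := (ModuleCat.mono_iff_injective S.f).1 hS.mono_f
    have hg : Function.Surjective S.g.hom := (ModuleCat.epi_iff_surjective S.g).1 hS.epi_g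
    have hex : LinearMap.range S.f.hom = LinearMap.ker S.g.hom := hS.exact.moduleCat_range_eq_ker
    let j' : A →ₗ[A] S.X₂ := S.f.hom.comp e₁.inv.hom
    let g' : S.X₂ →ₗ[A] I := e₃.hom.hom.comp S.g.hom
    have he₁ : Function.Bijective e₁.inv.hom :=
      (ConcreteCategory.bijective_of_isIso e₁.inv)
    have he₃ : Function.Bijective e₃.hom.hom :=
      (ConcreteCategory.bijective_of_isIso e₃.hom)
    have hj' : Function.Injective j' := hj.comp he₁.1
    have hg' : Function.Surjective g' := he₃.2.comp hg
    have hex' : ∀ m, g' m = 0 → ∃ a, j' a = m := by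
      intro m hm
      have h1 : S.g.hom m = 0 := he₃.1 (hm.trans (map_zero _).symm)
      have h2 : m ∈ LinearMap.range S.f.hom := by rw [hex]; exact h1
      obtain ⟨n, rfl⟩ := h2
      obtain ⟨a, rfl⟩ := he₁.2 n
      exact ⟨a, rfl⟩
    have hgj : ∀ a, g' (j' a) = 0 := by
      intro a
      show e₃.hom.hom (S.g.hom (S.f.hom (e₁.inv.hom a))) = 0
      have h1 : S.g.hom (S.f.hom (e₁.inv.hom a)) = 0 := by
        have : S.f.hom (e₁.inv.hom a) ∈ LinearMap.ker S.g.hom := by
          rw [← hex]; exact ⟨_, rfl⟩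
        exact this
      rw [h1, map_zero]
    obtain ⟨lam, hlam⟩ := Module.projective_lifting_property g' φ hg'
    have hlam' : ∀ v, g' (lam v) = φ v := fun v => LinearMap.congr_fun hlam v
    let π : (A × (Fin q → A)) →ₗ[A] S.X₂ := j'.coprod lam
    have hπ : Function.Surjective π :=
      Groth.Agent.Lib.Helper20.SerreFree.coprod_surjective j' g' φ lam hex' hlam' hφ
    let eK : LinearMap.ker π ≃ₗ[A] LinearMap.ker φ :=
      Groth.Agent.Lib.Helper20.SerreFree.kerEquiv j' g' φ lam hj' hex' hgj hlam'
    have hKfree : Module.Free A (LinearMap.ker π) := Module.Free.of_equiv eK.symm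
    have hKfin : Module.Finite A (LinearMap.ker π) := inferInstance
    let b := Module.finBasis A (LinearMap.ker π)
    -- the short exact sequence `0 → ker π → A × A^q → X₂ → 0`
    let T : ShortComplex (ModuleCat.{u} A) :=
      ShortComplex.mk (ModuleCat.ofHom (LinearMap.ker π).subtype)
        (ModuleCat.ofHom π : ModuleCat.of A (A × (Fin q → A)) ⟶ S.X₂) (by
          ext k
          exact LinearMap.mem_ker.1 k.2)
    have hT : T.ShortExact := by
      refine ShortComplex.ShortExact.mk' ?_ ?_ ?_
      · rw [ShortComplex.moduleCat_exact_iff_range_eq_ker]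
        exact Submodule.range_subtype _
      · exact (ModuleCat.mono_iff_injective _).2 (Submodule.injective_subtype _)
      · exact (ModuleCat.epi_iff_surjective _).2 hπ
    have hext : ∀ c : LinearMap.ker π →ₗ[A] A, ∃ r : (A × (Fin q → A)) →ₗ[A] A,
        ∀ k : LinearMap.ker π, r k = c k := by
      intro c
      let c' : T.X₁ ⟶ S.X₁ := ModuleCat.ofHom c ≫ e₁.inv
      obtain ⟨x₂, hx₂⟩ := Abelian.Ext.contravariant_sequence_exact₁ hT S.X₁ (Abelian.Ext.mk₀ c')
        (add_zero 1) (Subsingleton.elim _ _)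
      let r' : T.X₂ ⟶ S.X₁ := Abelian.Ext.homEquiv₀ x₂
      have hr' : T.f ≫ r' = c' := by
        apply Abelian.Ext.homEquiv₀.symm.injective
        show Abelian.Ext.mk₀ (T.f ≫ r') = Abelian.Ext.mk₀ c'
        rw [← hx₂, ← Abelian.Ext.mk₀_comp_mk₀, Abelian.Ext.mk₀_homEquiv₀_apply]
      refine ⟨(r' ≫ e₁.hom).hom, fun k => ?_⟩
      have h3 : T.f ≫ r' ≫ e₁.hom = ModuleCat.ofHom c := by
        rw [← Category.assoc, hr', Category.assoc, e₁.inv_hom_id, Category.comp_id]
      have h4 := congrArg (fun ψ => ψ.hom k) h3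
      exact h4
    obtain ⟨s, hs⟩ := Groth.Agent.Lib.Helper20.SerreFree.exists_section π hπ b hext
    have hproj : Module.Projective A S.X₂ := Module.Projective.of_split s π hs
    have hfin : Module.Finite A S.X₂ := Module.Finite.of_surjective π hπ
    exact Module.free_of_flat_of_isLocalRing

end Groth.Agent.S11493
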