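import Groth.Statements.S11496
import Mathlib
import Groth.Agent.Lib.Helper26.ProjDimRegular
import Groth.Agent.S0564

set_option autoImplicit false
universe u
open CategoryTheory
open VBPn

namespace Groth.Agent.S11496

theorem height_add_ringKrullDim_quotient_le (B : Type*) [CommRing B] (J : Ideal B) [J.IsPrime] :
    (J.height : WithBot ℕ∞) + ringKrullDim (B ⧸ J) ≤ ringKrullDim B := by
  let x : PrimeSpectrum B := ⟨J, inferInstance⟩
  have : Nonempty (PrimeSpectrum B) := ⟨x⟩
  have h0 : PrimeSpectrum.zeroLocus (J : Set B) = Set.Ici x := by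
    ext y
    rw [PrimeSpectrum.mem_zeroLocus, Set.mem_Ici, ← PrimeSpectrum.asIdeal_le_asIdeal]
    rfl
  have h1 : ringKrullDim (B ⧸ J) = Order.krullDim (Set.Ici x) := by
    rw [ringKrullDim_quotient, h0]
  have h2 : J.height = Order.height x := x.height_eq_orderHeight
  rw [h1, ← Order.coheight_eq_krullDim_Ici, h2, ringKrullDim,
    Order.krullDim_eq_iSup_height_add_coheight_of_nonempty, ← WithBot.coe_add, WithBot.coe_le_coe]
  exact le_iSup (fun a : PrimeSpectrum B => Order.height a + Order.coheight a) x

/-- Let A be a regular local ring, M a finitely generated A-module and i ≥ 0. The support of Ext^i_A(M,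
A) has dimension at most dim A − i: for every prime ideal p of A such that Ext^i over the
localization A_p of M_p into A_p is nonzero (this Ext group is the localization at p of Ext^i_A(M,
A)), one has dim(A/p) + i ≤ dim A. The published statement is for coherent analytic sheaves on an
n-dimensional complex manifold; this row is stated for any regular local ring. -/
theorem result (A : Type u) [CommRing A] [IsRegularLocalRing A]
    (M : Type u) [AddCommGroup M] [Module A M] [Module.Finite A M] (i : ℕ) (p : Ideal A) [p.IsPrime]
    (h : Nontrivial (Abelian.Ext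
      (ModuleCat.of (Localization.AtPrime p) (LocalizedModule p.primeCompl M))
      (ModuleCat.of (Localization.AtPrime p) (Localization.AtPrime p)) i)) :
    ringKrullDim (A ⧸ p) + (i : WithBot ℕ∞) ≤ ringKrullDim A := by
  set B := Localization.AtPrime p with hB
  have hreg : IsRegularLocalRing B := Groth.Agent.S0564.result A p
  have hdim : ringKrullDim B = p.height := IsLocalization.AtPrime.ringKrullDim_eq_height p B
  obtain ⟨n, hn⟩ : ∃ n : ℕ, (IsLocalRing.maximalIdeal B).spanFinrank = n := ⟨_, rfl⟩
  have hnp : (n : ℕ∞) = p.height := by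
    have h1 : ((IsLocalRing.maximalIdeal B).spanFinrank : WithBot ℕ∞) = ringKrullDim B :=
      hreg.spanFinrank_maximalIdeal
    rw [hn, hdim] at h1
    have h2 : ((n : ℕ∞) : WithBot ℕ∞) = (p.height : WithBot ℕ∞) := by exact_mod_cast h1
    exact WithBot.coe_injective h2
  have hfin : Module.Finite B (LocalizedModule p.primeCompl M) :=
    Module.Finite.of_isLocalizedModule p.primeCompl (LocalizedModule.mkLinearMap p.primeCompl M)
  have hpd : HasProjectiveDimensionLT
      (ModuleCat.of B (LocalizedModule p.primeCompl M)) (n + 1) :=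
    Groth.Agent.Lib.helper26.PDReg.hasProjectiveDimensionLE_of_isRegularLocalRing n B hn
      (LocalizedModule p.primeCompl M)
  have hin : i ≤ n := by
    by_contra hlt
    push Not at hlt
    obtain ⟨x, y, hxy⟩ := h.exists_pair_ne
    apply hxy
    rw [x.eq_zero_of_hasProjectiveDimensionLT (n + 1) (by omega),
      y.eq_zero_of_hasProjectiveDimensionLT (n + 1) (by omega)]
  have h1 : (i : WithBot ℕ∞) ≤ (p.height : WithBot ℕ∞) := by
    have : (i : ℕ∞) ≤ p.height := by
      rw [← hnp]
      exact_mod_cast hin
    exact_mod_cast this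
  calc ringKrullDim (A ⧸ p) + (i : WithBot ℕ∞)
      ≤ ringKrullDim (A ⧸ p) + (p.height : WithBot ℕ∞) := by gcongr
    _ = (p.height : WithBot ℕ∞) + ringKrullDim (A ⧸ p) := add_comm _ _
    _ ≤ ringKrullDim A := height_add_ringKrullDim_quotient_le A p

end Groth.Agent.S11496
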