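import Groth.Statements.S11497
import Mathlib
-- import your own Groth.Agent.* helpers here

set_option autoImplicit false
universe w v u
open CategoryTheory
open VBPn

namespace Groth.Agent.S11497

section helpers

open CategoryTheory Limits Abelian

variable {C : Type u} [Category.{v} C] [Abelian C] [HasExt.{w} C]

/-- lifting along an epi when `Ext¹` vanishes -/
lemma ext_lift11497 {S : ShortComplex C} (hS : S.ShortExact) {X : C} (y : X ⟶ S.X₃)
    (h : Subsingleton (Ext X S.X₁ 1)) : ∃ x : X ⟶ S.X₂, x ≫ S.g = y := by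
  obtain ⟨x₂, hx₂⟩ := Ext.covariant_sequence_exact₃ X hS (Ext.mk₀ y) (n₁ := 1) (by simp)
    (Subsingleton.elim _ _)
  obtain ⟨x, rfl⟩ := (Ext.mk₀_bijective _ _).2 x₂
  refine ⟨x, ?_⟩
  rw [Ext.mk₀_comp_mk₀] at hx₂
  exact (Ext.mk₀_bijective _ _).1 hx₂

/-- extension along a mono when `Ext¹` vanishes -/
lemma ext_extend11497 {S : ShortComplex C} (hS : S.ShortExact) {Y : C} (x₁ : S.X₁ ⟶ Y)
    (h : Subsingleton (Ext S.X₃ Y 1)) : ∃ x₂ : S.X₂ ⟶ Y, S.f ≫ x₂ = x₁ := by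
  obtain ⟨x₂, hx₂⟩ := Ext.contravariant_sequence_exact₁ hS Y (Ext.mk₀ x₁) (n₁ := 1) (by simp)
    (Subsingleton.elim _ _)
  obtain ⟨x, rfl⟩ := (Ext.mk₀_bijective _ _).2 x₂
  refine ⟨x, ?_⟩
  rw [Ext.mk₀_comp_mk₀] at hx₂
  exact (Ext.mk₀_bijective _ _).1 hx₂

lemma ext_one_subsingleton11497 {S : ShortComplex C} (hS : S.ShortExact) (Y : C)
    (h₁ : Subsingleton (Ext S.X₂ Y 1)) (h₂ : Subsingleton (Ext S.X₃ Y 2)) :
    Subsingleton (Ext S.X₁ Y 1) := by
  constructor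
  intro a b
  have key : ∀ x : Ext S.X₁ Y 1, x = 0 := by
    intro x
    obtain ⟨x₂, hx₂⟩ := Ext.contravariant_sequence_exact₁ hS Y x (n₁ := 2) (by simp)
      (Subsingleton.elim _ _)
    rw [← hx₂, Subsingleton.elim x₂ 0, Ext.comp_zero]
  rw [key a, key b]

variable (M M' : ShortComplex C) [Mono M.f] [Epi M.g] [Mono M'.f] [Epi M'.g]

/-- `0 → cycles → X₂ → X₃ → 0` -/
lemma shortExact₁11497 : (ShortComplex.mk M.iCycles M.g M.iCycles_g).ShortExact :=
  { exact := ShortComplex.exact_of_f_is_kernel _ M.cyclesIsKernel }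

instance mono_toCycles11497 : Mono M.toCycles := mono_of_mono_fac M.toCycles_i

/-- `0 → X₁ → cycles → homology → 0` -/
lemma shortExact₂11497 : (ShortComplex.mk M.toCycles M.homologyπ M.toCycles_comp_homologyπ).ShortExact :=
  { exact := ShortComplex.exact_of_g_is_cokernel _ M.homologyIsCokernel }

theorem main11497
    (hBA : ∀ f : M.X₂ ⟶ M'.X₁, f = 0) (hCB : ∀ f : M.X₃ ⟶ M'.X₂, f = 0)
    (hCA₁ : Subsingleton (Abelian.Ext M.X₃ M'.X₁ 1)) (hBA₁ : Subsingleton (Abelian.Ext M.X₂ M'.X₁ 1))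
    (hCB₁ : Subsingleton (Abelian.Ext M.X₃ M'.X₂ 1)) (hCA₂ : Subsingleton (Abelian.Ext M.X₃ M'.X₁ 2)) :
    Function.Bijective (fun φ : M ⟶ M' => ShortComplex.homologyMap φ) := by
  have S1 := shortExact₁11497 M
  have S2 := shortExact₂11497 M
  have S1' := shortExact₁11497 M'
  have S2' := shortExact₂11497 M'
  constructor
  · -- injectivity
    intro φ₁ φ₂ h
    dsimp at h
    have hψ : ShortComplex.cyclesMap φ₁ = ShortComplex.cyclesMap φ₂ := by
      have h0 : (ShortComplex.cyclesMap φ₁ - ShortComplex.cyclesMap φ₂) ≫ M'.homologyπ = 0 := by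
        rw [Preadditive.sub_comp, ← ShortComplex.homologyπ_naturality,
          ← ShortComplex.homologyπ_naturality, h, sub_self]
      obtain ⟨k, hk⟩ : ∃ k : M.cycles ⟶ M'.X₁, k ≫ M'.toCycles =
          ShortComplex.cyclesMap φ₁ - ShortComplex.cyclesMap φ₂ :=
        ⟨S2'.exact.lift _ h0, S2'.exact.lift_f _ h0⟩
      obtain ⟨k', hk'⟩ := ext_extend11497 S1 k hCA₁
      dsimp at k' hk'
      rw [hBA k', comp_zero] at hk'
      rw [← hk', zero_comp] at hk
      exact (sub_eq_zero.1 hk.symm)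
    have h₂ : φ₁.τ₂ = φ₂.τ₂ := by
      have h0 : M.iCycles ≫ (φ₁.τ₂ - φ₂.τ₂) = 0 := by
        rw [Preadditive.comp_sub, ← ShortComplex.cyclesMap_i, ← ShortComplex.cyclesMap_i, hψ,
          sub_self]
      obtain ⟨d, hd⟩ : ∃ d : M.X₃ ⟶ M'.X₂, M.g ≫ d = φ₁.τ₂ - φ₂.τ₂ :=
        ⟨S1.exact.desc _ h0, S1.exact.g_desc _ h0⟩
      rw [hCB d, comp_zero] at hd
      exact sub_eq_zero.1 hd.symm
    have h₁ : φ₁.τ₁ = φ₂.τ₁ := by
      rw [← cancel_mono M'.f, φ₁.comm₁₂, φ₂.comm₁₂, h₂]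
    have h₃ : φ₁.τ₃ = φ₂.τ₃ := by
      rw [← cancel_epi M.g, ← φ₁.comm₂₃, ← φ₂.comm₂₃, h₂]
    exact ShortComplex.hom_ext _ _ h₁ h₂ h₃
  · -- surjectivity
    intro e
    have hK : Subsingleton (Ext M.cycles M'.X₁ 1) := ext_one_subsingleton11497 S1 M'.X₁ hBA₁ hCA₂
    obtain ⟨ψ, hψ⟩ := ext_lift11497 S2' (M.homologyπ ≫ e) hK
    dsimp at ψ hψ
    have ha0 : (M.toCycles ≫ ψ) ≫ M'.homologyπ = 0 := by
      rw [Category.assoc, hψ, ← Category.assoc, M.toCycles_comp_homologyπ, zero_comp]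
    obtain ⟨a, ha⟩ : ∃ a : M.X₁ ⟶ M'.X₁, a ≫ M'.toCycles = M.toCycles ≫ ψ :=
      ⟨S2'.exact.lift _ ha0, S2'.exact.lift_f _ ha0⟩
    obtain ⟨b, hb⟩ := ext_extend11497 S1 (ψ ≫ M'.iCycles) hCB₁
    dsimp at b hb
    have hc0 : M.iCycles ≫ (b ≫ M'.g) = 0 := by
      rw [← Category.assoc, hb, Category.assoc, M'.iCycles_g, comp_zero]
    obtain ⟨c, hc⟩ : ∃ c : M.X₃ ⟶ M'.X₃, M.g ≫ c = b ≫ M'.g :=
      ⟨S1.exact.desc _ hc0, S1.exact.g_desc _ hc0⟩
    have comm₁₂ : a ≫ M'.f = M.f ≫ b := by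
      rw [← M'.toCycles_i, ← Category.assoc, ha, Category.assoc, ← hb, ← Category.assoc,
        M.toCycles_i]
    let φ : M ⟶ M' := ⟨a, b, c, comm₁₂, hc.symm⟩
    refine ⟨φ, ?_⟩
    dsimp
    have hcyc : ShortComplex.cyclesMap φ = ψ := by
      rw [← cancel_mono M'.iCycles, ShortComplex.cyclesMap_i]
      exact hb
    rw [← cancel_epi M.homologyπ, ShortComplex.homologyπ_naturality, hcyc, hψ]

end helpers

/-- In an abelian category, let M : A → B → C and M' : A' → B' → C' be monads, i.e. short complexes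
whose first map is a monomorphism and whose second map is an epimorphism, with cohomology (homology)
objects E and E'. Suppose Hom(B, A') = 0, Hom(C, B') = 0 and Ext^1(C, A') = Ext^1(B, A') = Ext^1(C,
B') = Ext^2(C, A') = 0. Then the map sending a morphism of monads M → M' to the induced morphism E →
E' is bijective. The published statement is for monads of vector bundles on a complex manifold X,
with Ext^i(C, A') written H^i(X, C^* ⊗ A'); this row is stated in any abelian category. -/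
theorem result {C : Type u} [Category.{v} C] [Abelian C] [HasExt.{w} C]
    (M M' : ShortComplex C) [Mono M.f] [Epi M.g] [Mono M'.f] [Epi M'.g]
    (hBA : ∀ f : M.X₂ ⟶ M'.X₁, f = 0) (hCB : ∀ f : M.X₃ ⟶ M'.X₂, f = 0)
    (hCA₁ : Subsingleton (Abelian.Ext M.X₃ M'.X₁ 1)) (hBA₁ : Subsingleton (Abelian.Ext M.X₂ M'.X₁ 1))
    (hCB₁ : Subsingleton (Abelian.Ext M.X₃ M'.X₂ 1)) (hCA₂ : Subsingleton (Abelian.Ext M.X₃ M'.X₁ 2)) :
    Function.Bijective (fun φ : M ⟶ M' => ShortComplex.homologyMap φ) := by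
  exact main11497 M M' hBA hCB hCA₁ hBA₁ hCB₁ hCA₂

end Groth.Agent.S11497
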