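import Groth.Statements.S11499
import Mathlib

set_option autoImplicit false
universe u
open TensorProduct
open VBPn

namespace Groth.Agent.S11499

/-- Let A be an integral domain with fraction field K and M a finitely generated torsion-free A-module
of rank r (K ⊗_A M is r-dimensional over K). Then there is an injective A-linear map M → A^r. The
published statement is for torsion-free coherent sheaves on a complex manifold, locally near a
point; this row is its statement for one stalk, over any domain. -/
theorem result (A : Type u) [CommRing A] [IsDomain A]
    (M : Type u) [AddCommGroup M] [Module A M] [Module.Finite A M] [NoZeroSMulDivisors A M] (r : ℕ)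
    (hr : Module.finrank (FractionRing A) (FractionRing A ⊗[A] M) = r) :
    ∃ f : M →ₗ[A] (Fin r → A), Function.Injective f := by
  classical
  subst hr
  have hfin : Module.Finite (FractionRing A) (FractionRing A ⊗[A] M) := inferInstance
  let b := Module.finBasis (FractionRing A) (FractionRing A ⊗[A] M)
  let g : M →ₗ[A] FractionRing A ⊗[A] M := TensorProduct.mk A (FractionRing A) M 1
  have hg : ∀ m : M, g m = 0 → m = 0 := by
    intro m hm
    rw [IsLocalizedModule.eq_zero_iff (nonZeroDivisors A) g] at hm
    obtain ⟨s', hs'⟩ := hm
    rcases (smul_eq_zero (r := (s' : A)) (m := m)).mp hs' with h | h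
    · exact absurd h (nonZeroDivisors.coe_ne_zero s')
    · exact h
  obtain ⟨k, s, hs⟩ := Module.Finite.exists_fin (R := A) (M := M)
  obtain ⟨d, hd⟩ := IsLocalization.exist_integer_multiples_of_finite (nonZeroDivisors A)
    (fun p : Fin k × Fin (Module.finrank (FractionRing A) (FractionRing A ⊗[A] M)) =>
      b.repr (g (s p.1)) p.2)
  have hc : ∀ (j : Fin (Module.finrank (FractionRing A) (FractionRing A ⊗[A] M))) (m : M),
      ∃ a : A, algebraMap A (FractionRing A) a = (d : A) • b.repr (g m) j := by
    intro j m
    have hm : m ∈ Submodule.span A (Set.range s) := by rw [hs]; trivial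
    induction hm using Submodule.span_induction with
    | mem x hx =>
      obtain ⟨i, rfl⟩ := hx
      exact hd (i, j)
    | zero => exact ⟨0, by simp⟩
    | add x y _ _ hx hy =>
      obtain ⟨a, ha⟩ := hx
      obtain ⟨a', ha'⟩ := hy
      refine ⟨a + a', ?_⟩
      rw [map_add, ha, ha', map_add, map_add, Finsupp.add_apply, smul_add]
    | smul c x _ hx =>
      obtain ⟨a, ha⟩ := hx
      refine ⟨c * a, ?_⟩
      rw [map_mul, ha, map_smul, ← algebraMap_smul (FractionRing A) c (g x), map_smul,
        Finsupp.smul_apply, smul_eq_mul, Algebra.smul_def, Algebra.smul_def]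
      ring
  choose F hF using hc
  have hinj : Function.Injective (algebraMap A (FractionRing A)) :=
    IsFractionRing.injective A (FractionRing A)
  let f : M →ₗ[A] (Fin (Module.finrank (FractionRing A) (FractionRing A ⊗[A] M)) → A) :=
    { toFun := fun m j => F j m
      map_add' := by
        intro x y
        funext j
        apply hinj
        rw [Pi.add_apply, map_add, hF, hF, hF, map_add, map_add, Finsupp.add_apply, smul_add]
      map_smul' := by
        intro c x
        funext j
        apply hinj
        rw [Pi.smul_apply, smul_eq_mul, map_mul, hF, hF, map_smul,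
          ← algebraMap_smul (FractionRing A) c (g x), map_smul,
          Finsupp.smul_apply, smul_eq_mul, Algebra.smul_def, Algebra.smul_def, RingHom.id_apply]
        ring }
  refine ⟨f, ?_⟩
  rw [injective_iff_map_eq_zero]
  intro m hm
  apply hg
  apply b.repr.injective
  rw [map_zero]
  ext j
  have h1 : F j m = 0 := congrFun hm j
  have h2 := hF j m
  rw [h1, map_zero, Algebra.smul_def] at h2
  have h3 : algebraMap A (FractionRing A) (d : A) ≠ 0 := by
    intro h0
    exact nonZeroDivisors.coe_ne_zero d (hinj (by rw [h0, map_zero]))
  rcases mul_eq_zero.mp h2.symm with h | h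
  · exact absurd h h3
  · simpa using h

end Groth.Agent.S11499
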