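import Groth.Statements.S11503
import Groth.Agent.Lib.Helper20.LFMono
import Groth.Agent.Lib.Helper20.H0Vanish
import Groth.Agent.Lib.Helper16.FLF5
import Groth.Agent.Lib.Helper16.FLF4

set_option autoImplicit false
universe u
open VBPn

namespace Groth.Agent.S11503

open CategoryTheory CategoryTheory.Limits AlgebraicGeometry in
/-- Let k be a characteristic-zero algebraically closed field and E a finite locally free O-module of
rank r > 1 on P^n_k. If E has a nonzero section (a nonzero morphism O → E) and its dual has a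
nonzero section (a nonzero morphism E → O), then E is not simple: there is an endomorphism of E
which is not a homothety, i.e. whose underlying map of abelian sheaves is not multiplication by any
scalar c ∈ k. -/
theorem result (k : Type u) [Field k] [IsAlgClosed k] [CharZero k]
    (n r : ℕ) (hr : 1 < r) (E : (CohB1.ProjSpace n k).Modules) (hE : FlatMod.IsFinLocFreeOfRank r E)
    (s : Coh.structureModule (CohB1.ProjSpace n k) ⟶ E) (hs : s ≠ 0)
    (t : E ⟶ Coh.structureModule (CohB1.ProjSpace n k)) (ht : t ≠ 0) :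
    ∃ φ : E ⟶ E, ∀ c : k, (SheafOfModules.toSheaf (CohB1.ProjSpace n k).ringCatSheaf).map φ ≠
      Coh.smulAb E (Coh.toGlobal (CohB1.ProjSpace.toSpec n k) c) := by
  classical
  refine ⟨t ≫ s, fun c h => ?_⟩
  haveI : IsIntegral (CohB1.ProjSpace n k) := Groth.Agent.Lib.helper20.H0Vanish.isIntegral_projSpace n k
  by_cases hc : c = 0
  · have h0 : t ≫ s = 0 := by
      apply (SheafOfModules.toSheaf (CohB1.ProjSpace n k).ringCatSheaf).map_injective
      rw [h, hc, map_zero, Coh.smulAb_zero]
      rfl
    haveI : Mono s := Groth.Agent.Lib.helper20.LFMono.mono_of_ne_zero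
      (Groth.Agent.Lib.helper16.FLF.isFinLocFree_of_isFinLocFreeOfRank hE) s hs
    exact ht (by rw [← cancel_mono s, h0, zero_comp])
  · obtain ⟨x⟩ : Nonempty (CohB1.ProjSpace n k) := inferInstance
    obtain ⟨U, hU, hxU, -, ⟨e⟩⟩ :=
      Groth.Agent.Lib.helper16.FLF.exists_affine_free_sections_of_isFinLocFreeOfRank E hE x
    haveI : Nonempty U := ⟨⟨x, hxU⟩⟩
    haveI : Nontrivial Γ(CohB1.ProjSpace n k, U) := Scheme.component_nontrivial _ U
    let cU : Γ(CohB1.ProjSpace n k, U) :=
      Coh.resTop (CohB1.ProjSpace n k) (Opposite.op U) (Coh.toGlobal (CohB1.ProjSpace.toSpec n k) c)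
    let cU' : Γ(CohB1.ProjSpace n k, U) :=
      Coh.resTop (CohB1.ProjSpace n k) (Opposite.op U) (Coh.toGlobal (CohB1.ProjSpace.toSpec n k) c⁻¹)
    have hcc : cU' * cU = 1 := by
      change Coh.resTop _ _ _ * Coh.resTop _ _ _ = 1
      rw [← map_mul, ← map_mul, inv_mul_cancel₀ hc, map_one, map_one]
    have key : ∀ m : Γ(E, U), s.app U (t.app U m) = cU • m := by
      intro m
      have h1 := congrArg (fun ψ => ψ.hom.app (Opposite.op U) m) h
      exact h1
    have hinj : Function.Injective (Groth.Agent.Lib.helper16.FLF.sectionsLin t U) := by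
      intro m m' hmm
      have h1 : s.app U (t.app U m) = s.app U (t.app U m') := congrArg (s.app U) hmm
      rw [key, key] at h1
      have h2 := congrArg (fun z => cU' • z) h1
      simp only [smul_smul, hcc, one_smul] at h2
      exact h2
    let g : (Fin r → Γ(CohB1.ProjSpace n k, U)) →ₗ[Γ(CohB1.ProjSpace n k, U)]
        (Fin 1 → Γ(CohB1.ProjSpace n k, U)) :=
      (LinearEquiv.funUnique (Fin 1) Γ(CohB1.ProjSpace n k, U) Γ(CohB1.ProjSpace n k, U)).symm.toLinearMap ∘ₗ
        (Groth.Agent.Lib.helper16.FLF.sectionsLin t U) ∘ₗ e.symm.toLinearMap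
    have hg : Function.Injective g := by
      intro a b hab
      have h1 := (LinearEquiv.funUnique (Fin 1) Γ(CohB1.ProjSpace n k, U)
        Γ(CohB1.ProjSpace n k, U)).symm.injective hab
      exact e.symm.injective (hinj h1)
    have := le_of_fin_injective Γ(CohB1.ProjSpace n k, U) g hg
    omega

end Groth.Agent.S11503
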