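import Groth.Statements.S11506
import Groth.Agent.Lib.Helper20.Wedge5
import Groth.Agent.Lib.Helper20.GaetaHom

set_option autoImplicit false
universe u
open VBPn

namespace Groth.Agent.S11506

open CategoryTheory CategoryTheory.Limits AlgebraicGeometry in
/-- Let k be a characteristic-zero algebraically closed field and E a finite locally free O-module of
rank 2 on P^n_k with a second exterior power isomorphic to O(c), and let k₀ satisfy c + 2k₀ = 0 or c
+ 2k₀ = −1. If every endomorphism of E is a homothety (its underlying map of abelian sheaves is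
multiplication by a scalar in k), then H^0(P^n_k, E ⊗ O(k₀)) = 0. The published statement concludes
stability; this row concludes the vanishing of H^0 of the normalised twist, which for rank 2 is
stability. -/
theorem result (k : Type u) [Field k] [IsAlgClosed k] [CharZero k]
    (n : ℕ) (E : (CohB1.ProjSpace n k).Modules) (hE : FlatMod.IsFinLocFreeOfRank 2 E) (c k₀ : ℤ)
    (hdet : ∃ L : (CohB1.ProjSpace n k).Modules, ExtPow.IsExtPow 2 E L ∧ Nonempty (L ≅ Twist.twistProjSpace n k c))
    (hk₀ : c + 2 * k₀ = 0 ∨ c + 2 * k₀ = -1)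
    (hsimple : ∀ φ : E ⟶ E, ∃ c' : k, (SheafOfModules.toSheaf (CohB1.ProjSpace n k).ringCatSheaf).map φ =
      Coh.smulAb E (Coh.toGlobal (CohB1.ProjSpace.toSpec n k) c')) :
    Subsingleton (Coh.HH (CohB1.ProjSpace n k) (CohB1.tensorMod E (Twist.twistProjSpace n k k₀)) 0) := by
  obtain ⟨L, hL, ⟨eL⟩⟩ := hdet
  let e : CohB1.tensorMod (Twist.twistProjSpace n k (-k₀)) (Twist.twistProjSpace n k k₀) ≅
      Coh.structureModule (CohB1.ProjSpace n k) :=
    Groth.Agent.Lib.Lead.ModTensor.braid _ _ ≪≫ Groth.Agent.Lib.Helper20.TwistEquivPn.invIso n k k₀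
  obtain ⟨l, hl⟩ : ∃ l : ℕ, c + (l : ℤ) = -k₀ + -k₀ := by
    rcases hk₀ with h | h
    · exact ⟨0, by push_cast; omega⟩
    · exact ⟨1, by push_cast; omega⟩
  haveI : Subsingleton (Twist.twistProjSpace n k (-k₀) ⟶ E) := ⟨fun s t => by
    rw [Groth.Agent.Lib.Helper20.Wedge.eq_zero_of_simple hE hL c eL (-k₀) l hl hsimple s,
      Groth.Agent.Lib.Helper20.Wedge.eq_zero_of_simple hE hL c eL (-k₀) l hl hsimple t]⟩
  exact (Groth.Agent.Lib.helper20.GaetaHom.twEquiv e E).symm.subsingleton

end Groth.Agent.S11506
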