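import Groth.Statements.S11520
import Mathlib.CategoryTheory.Triangulated.TStructure.AbelianSubcategory
import Mathlib.CategoryTheory.Triangulated.TStructure.TruncLTGE

set_option autoImplicit false
universe v u v' u'
open CategoryTheory CategoryTheory.Limits CategoryTheory.Pretriangulated CategoryTheory.Triangulated
open PervT

namespace Groth.Agent.S11520

open ZeroObject

section

variable {C : Type u} [Category.{v} C] [Preadditive C] [HasZeroObject C] [HasShift C ℤ]
  [∀ n : ℤ, (shiftFunctor C n).Additive] [Pretriangulated C] [IsTriangulated C] (t : TStructure C)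
  {H : Type u'} [Category.{v'} H] [Preadditive H] [t.Heart H]

lemma hι : ∀ ⦃X Y : H⦄ ⦃n : ℤ⦄ (f : t.ιHeart.obj X ⟶ (t.ιHeart.obj Y)⟦n⟧), n < 0 → f = 0 := by
  intro X Y n f hn
  have : t.IsGE ((t.ιHeart.obj Y)⟦n⟧) (-n) := t.isGE_shift _ 0 n (-n) (by omega)
  exact t.zero_of_isLE_of_isGE f 0 (-n) (by omega) inferInstance inferInstance

lemma exists_lift (Y : C) [t.IsLE Y 0] [t.IsGE Y 0] : ∃ K : H, Nonempty (t.ιHeart.obj K ≅ Y) := by
  have h : t.heart Y := (t.mem_heart_iff Y).2 ⟨inferInstance, inferInstance⟩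
  rw [← t.essImage_ιHeart H] at h
  obtain ⟨K, ⟨e⟩⟩ := h
  exact ⟨K, ⟨e⟩⟩

lemma isZero_of_ι {K : H} (h : IsZero (t.ιHeart.obj K)) : IsZero K := by
  rw [IsZero.iff_id_eq_zero]
  apply t.ιHeart.map_injective
  rw [CategoryTheory.Functor.map_id, CategoryTheory.Functor.map_zero]
  exact (IsZero.iff_id_eq_zero _).1 h

include t in
lemma hasZeroObject : HasZeroObject H := by
  obtain ⟨K, ⟨e⟩⟩ := exists_lift t (H := H) (0 : C)
  exact ⟨K, isZero_of_ι t ((isZero_zero C).of_iso e)⟩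

include t in
lemma hasBinaryBiproducts : HasBinaryBiproducts H := by
  refine ⟨fun X Y => ?_⟩
  have hT := binaryBiproductTriangle_distinguished (t.ιHeart.obj X) (t.ιHeart.obj Y)
  have h1 : t.IsLE (t.ιHeart.obj X ⊞ t.ιHeart.obj Y) 0 :=
    t.isLE₂ _ hT 0 (inferInstanceAs (t.IsLE (t.ιHeart.obj X) 0))
      (inferInstanceAs (t.IsLE (t.ιHeart.obj Y) 0))
  have h2 : t.IsGE (t.ιHeart.obj X ⊞ t.ιHeart.obj Y) 0 :=
    t.isGE₂ _ hT 0 (inferInstanceAs (t.IsGE (t.ιHeart.obj X) 0))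
      (inferInstanceAs (t.IsGE (t.ιHeart.obj Y) 0))
  obtain ⟨P, ⟨e⟩⟩ := exists_lift t (H := H) (t.ιHeart.obj X ⊞ t.ιHeart.obj Y)
  let b : BinaryBicone X Y :=
    { pt := P
      fst := t.ιHeart.preimage (e.hom ≫ biprod.fst)
      snd := t.ιHeart.preimage (e.hom ≫ biprod.snd)
      inl := t.ιHeart.preimage (biprod.inl ≫ e.inv)
      inr := t.ιHeart.preimage (biprod.inr ≫ e.inv)
      inl_fst := t.ιHeart.map_injective (by simp)
      inl_snd := t.ιHeart.map_injective (by simp)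
      inr_fst := t.ιHeart.map_injective (by simp)
      inr_snd := t.ιHeart.map_injective (by simp) }
  have hb : b.IsBilimit := isBinaryBilimitOfTotal b (t.ιHeart.map_injective (by
    simp only [b, Functor.map_add, Functor.map_comp, Functor.map_preimage,
      CategoryTheory.Functor.map_id, Category.assoc]
    rw [← cancel_epi e.inv, ← cancel_mono e.hom]
    simp only [Preadditive.comp_add, Preadditive.add_comp, Category.assoc, Iso.inv_hom_id,
      Iso.inv_hom_id_assoc, Category.comp_id, Category.id_comp]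
    exact biprod.total))
  exact ⟨⟨⟨b, hb⟩⟩⟩

include t in
lemma hasFiniteProducts : HasFiniteProducts H := by
  haveI := hasZeroObject t (H := H)
  haveI := hasBinaryBiproducts t (H := H)
  exact hasFiniteProducts_of_has_binary_and_terminal

lemma hA : AbelianSubcategory.admissibleMorphism (t.ιHeart (H := H)) = ⊤ := by
  ext X₁ X₂ f₁
  simp only [MorphismProperty.top_apply, iff_true]
  intro X₃ f₂ f₃ hT
  have hrot := rot_of_distTriang _ hT
  have hs1 : t.IsLE ((t.ιHeart.obj X₁)⟦(1 : ℤ)⟧) (-1) := t.isLE_shift _ 0 1 (-1) (by omega)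
  have hs2 : t.IsGE ((t.ιHeart.obj X₁)⟦(1 : ℤ)⟧) (-1) := t.isGE_shift _ 0 1 (-1) (by omega)
  have hs1' : t.IsLE ((t.ιHeart.obj X₁)⟦(1 : ℤ)⟧) 0 := t.isLE_of_le _ (-1) 0 (by omega)
  have hX2 : t.IsGE (t.ιHeart.obj X₂) (-1) := t.isGE_of_ge _ (-1) 0 (by omega)
  have h1 : t.IsLE X₃ 0 := t.isLE₂ _ hrot 0 (inferInstanceAs (t.IsLE (t.ιHeart.obj X₂) 0)) hs1'
  have h2 : t.IsGE X₃ (-1) := t.isGE₂ _ hrot (-1) hX2 hs2
  have hD := t.triangleLEGE_distinguished (-1) 0 (by omega) X₃
  -- the two truncations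
  have a1 : t.IsLE ((t.truncLE (-1)).obj X₃) (-1) := inferInstance
  have a2 : t.IsGE ((t.truncLE (-1)).obj X₃) (-1) := inferInstance
  have b1 : t.IsLE ((t.truncGE 0).obj X₃) 0 := inferInstance
  have b2 : t.IsGE ((t.truncGE 0).obj X₃) 0 := inferInstance
  have a1' : t.IsLE (((t.truncLE (-1)).obj X₃)⟦(-1 : ℤ)⟧) 0 := t.isLE_shift _ (-1) (-1) 0 (by omega)
  have a2' : t.IsGE (((t.truncLE (-1)).obj X₃)⟦(-1 : ℤ)⟧) 0 := t.isGE_shift _ (-1) (-1) 0 (by omega)
  obtain ⟨K, ⟨eK⟩⟩ := exists_lift t (H := H) (((t.truncLE (-1)).obj X₃)⟦(-1 : ℤ)⟧)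
  obtain ⟨Q, ⟨eQ⟩⟩ := exists_lift t (H := H) ((t.truncGE 0).obj X₃)
  let e₁ : (t.ιHeart.obj K)⟦(1 : ℤ)⟧ ≅ (t.truncLE (-1)).obj X₃ :=
    (shiftFunctor C (1 : ℤ)).mapIso eK ≪≫ shiftNegShift _ (1 : ℤ)
  refine ⟨K, Q, e₁.hom ≫ ((t.triangleLEGE (-1) 0 (by omega)).obj X₃).mor₁,
    ((t.triangleLEGE (-1) 0 (by omega)).obj X₃).mor₂ ≫ eQ.inv,
    eQ.hom ≫ ((t.triangleLEGE (-1) 0 (by omega)).obj X₃).mor₃ ≫ (e₁.inv)⟦(1 : ℤ)⟧', ?_⟩
  refine isomorphic_distinguished _ hD _ ?_
  refine Triangle.isoMk _ _ e₁ (Iso.refl _) eQ ?_ ?_ ?_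
  · exact Category.comp_id _
  · change (_ ≫ eQ.inv) ≫ eQ.hom = 𝟙 _ ≫ _
    rw [Category.assoc, Iso.inv_hom_id, Category.comp_id, Category.id_comp]
  · change (eQ.hom ≫ _ ≫ (e₁.inv)⟦(1 : ℤ)⟧') ≫ (e₁.hom)⟦(1 : ℤ)⟧' = eQ.hom ≫ _
    rw [Category.assoc, Category.assoc, ← Functor.map_comp, Iso.inv_hom_id,
      CategoryTheory.Functor.map_id, Category.comp_id]

theorem main (t : TStructure C) {H : Type u'} [Category.{v'} H] [inst : Preadditive H]
    [t.Heart H] : ∃ a : Abelian H, @Abelian.toPreadditive H _ a = inst := by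
  haveI := hasFiniteProducts t (H := H)
  exact ⟨AbelianSubcategory.abelian (t.ιHeart (H := H)) (hι t) (hA t), rfl⟩

end

/-- Let `C` be a triangulated category (octahedron axiom included) with a t-structure `t`, and let `H`
be an additive category identified with the heart of `t` (the objects that are both `≤ 0` and `≥ 0`)
through a fully faithful additive functor whose essential image is the heart. Then `H` is an abelian
category: there is an abelian category structure on `H` whose underlying additive structure is the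
given one. -/
theorem result {C : Type u} [Category.{v} C] [Preadditive C] [HasZeroObject C] [HasShift C ℤ] [∀ n : ℤ, (shiftFunctor C n).Additive] [Pretriangulated C] [IsTriangulated C] (t : TStructure C) {H : Type u'} [Category.{v'} H] [inst : Preadditive H] [t.Heart H] :
    ∃ a : Abelian H, @Abelian.toPreadditive H _ a = inst := by
  exact main t

end Groth.Agent.S11520
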