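import Groth.Statements.S11521
import Mathlib
-- import your own Groth.Agent.* helpers here

set_option autoImplicit false
universe v u v' u'
open CategoryTheory CategoryTheory.Limits CategoryTheory.Pretriangulated CategoryTheory.Triangulated
open PervT

namespace Groth.Agent.S11521

section Aux

open CategoryTheory.Triangulated.AbelianSubcategory

variable {C : Type u} [Category.{v} C] [Preadditive C] [HasZeroObject C] [HasShift C ℤ]
  [∀ n : ℤ, (shiftFunctor C n).Additive] [Pretriangulated C] [IsTriangulated C]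
  (t : TStructure C) {H : Type u'} [Category.{v'} H] [Abelian H] [t.Heart H]

lemma hι ⦃X Y : H⦄ ⦃n : ℤ⦄ (f : t.ιHeart.obj X ⟶ (t.ιHeart.obj Y)⟦n⟧) (hn : n < 0) : f = 0 := by
  have : t.IsGE ((t.ιHeart.obj Y)⟦n⟧) (-n) := t.isGE_shift _ 0 n (-n) (by lia)
  exact t.zero f 0 (-n) (by lia)

lemma backward {X Y Z : H} (u : X ⟶ Y) (v : Y ⟶ Z)
    (w : t.ιHeart.obj Z ⟶ (t.ιHeart.obj X)⟦(1 : ℤ)⟧)
    (hT : Triangle.mk (t.ιHeart.map u) (t.ιHeart.map v) w ∈ distTriang C) :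
    ∃ huv : u ≫ v = 0, (ShortComplex.mk u v huv).ShortExact := by
  have h1 := isLimitKernelForkOfDistTriang (hι t) u v w hT
  have h2 := isColimitCokernelCoforkOfDistTriang (hι t) u v w hT
  have huv : u ≫ v = 0 := t.ιHeart.map_injective (by
    rw [Functor.map_comp, Functor.map_zero]
    exact comp_distTriang_mor_zero₁₂ _ hT)
  refine ⟨huv, ?_⟩
  have : Mono u := mono_of_isLimit_fork h1
  have : Epi v := epi_of_isColimit_cofork h2
  exact ShortComplex.ShortExact.mk' (ShortComplex.exact_of_f_is_kernel _ h1) ‹_› ‹_›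


set_option backward.defeqAttrib.useBackward true in
set_option backward.isDefEq.respectTransparency false in
lemma forward {X Y Z : H} (u : X ⟶ Y) (v : Y ⟶ Z) (huv : u ≫ v = 0)
    (hS : (ShortComplex.mk u v huv).ShortExact) :
    ∃ (w : t.ιHeart.obj Z ⟶ (t.ιHeart.obj X)⟦(1 : ℤ)⟧),
        Triangle.mk (t.ιHeart.map u) (t.ιHeart.map v) w ∈ distTriang C := by
  have : Mono u := hS.mono_f
  have : Epi v := hS.epi_g
  obtain ⟨Z', f₂, f₃, hT⟩ := distinguished_cocone_triangle (t.ιHeart.map u)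
  -- Z' is ≤ 0 and ≥ -1
  have hX1le : t.IsLE ((t.ιHeart.obj X)⟦(1 : ℤ)⟧) 0 :=
    have : t.IsLE ((t.ιHeart.obj X)⟦(1 : ℤ)⟧) (-1) := t.isLE_shift _ 0 1 (-1) (by lia)
    t.isLE_of_le _ (-1) 0 (by lia)
  have hX1ge : t.IsGE ((t.ιHeart.obj X)⟦(1 : ℤ)⟧) (-1) := t.isGE_shift _ 0 1 (-1) (by lia)
  have hYge : t.IsGE (t.ιHeart.obj Y) (-1) := t.isGE_of_ge _ (-1) 0 (by lia)
  have hZle : t.IsLE Z' 0 := t.isLE₂ _ (rot_of_distTriang _ hT) 0 (show t.IsLE (t.ιHeart.obj Y) 0 from inferInstance) hX1le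
  have hZge : t.IsGE Z' (-1) := t.isGE₂ _ (rot_of_distTriang _ hT) (-1) hYge hX1ge
  -- truncation triangle
  have hT₀ := t.triangleLEGE_distinguished (-1) 0 (by lia) Z'
  -- K
  have hKle : t.IsLE (((t.truncLE (-1)).obj Z')⟦(-1 : ℤ)⟧) 0 := t.isLE_shift _ (-1) (-1) 0 (by lia)
  have hKge : t.IsGE (((t.truncLE (-1)).obj Z')⟦(-1 : ℤ)⟧) 0 := t.isGE_shift _ (-1) (-1) 0 (by lia)
  have hKmem : (t.ιHeart (H := H)).essImage (((t.truncLE (-1)).obj Z')⟦(-1 : ℤ)⟧) := by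
    rw [t.essImage_ιHeart H, t.mem_heart_iff]
    exact ⟨hKle, hKge⟩
  obtain ⟨K, ⟨eK⟩⟩ := hKmem
  have hQmem : (t.ιHeart (H := H)).essImage ((t.truncGE 0).obj Z') := by
    rw [t.essImage_ιHeart H, t.mem_heart_iff]
    exact ⟨inferInstance, inferInstance⟩
  obtain ⟨Q, ⟨eQ⟩⟩ := hQmem
  let e₁ : (t.ιHeart.obj K)⟦(1 : ℤ)⟧ ≅ (t.truncLE (-1)).obj Z' :=
    (shiftFunctor C (1 : ℤ)).mapIso eK ≪≫ (shiftFunctorCompIsoId C (-1 : ℤ) 1 (by lia)).app _
  let α : (t.ιHeart.obj K)⟦(1 : ℤ)⟧ ⟶ Z' := e₁.hom ≫ (t.truncLEι (-1)).app Z'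
  let β : Z' ⟶ t.ιHeart.obj Q := (t.truncGEπ 0).app Z' ≫ eQ.inv
  let γ : t.ιHeart.obj Q ⟶ (t.ιHeart.obj K)⟦(1 : ℤ)⟧⟦(1 : ℤ)⟧ :=
    eQ.hom ≫ (t.truncGEδLE (-1) 0 (by lia)).app Z' ≫ (e₁.inv)⟦(1 : ℤ)⟧'
  have hT' : Triangle.mk α β γ ∈ distTriang C := by
    refine isomorphic_distinguished _ hT₀ _ ?_
    refine Triangle.isoMk _ _ e₁ (Iso.refl _) eQ ?_ ?_ ?_
    · dsimp [α, TStructure.triangleLEGE]
      simp
    · dsimp [β, TStructure.triangleLEGE]
      simp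
    · dsimp [γ, TStructure.triangleLEGE]
      simp
  have hK := isLimitKernelFork (hι t) hT hT'
  have hQ := isColimitCokernelCofork (hι t) hT hT'
  have h0 : ιK f₃ α = 0 := by
    rw [← cancel_mono u, zero_comp]
    exact ιK_mor₁ hT α
  have hKz : IsZero K := by
    rw [IsZero.iff_id_eq_zero]
    exact Fork.IsLimit.hom_ext hK (by simp [h0])
  have hKz' : IsZero ((t.ιHeart.obj K)⟦(1 : ℤ)⟧) :=
    (shiftFunctor C (1 : ℤ)).map_isZero (t.ιHeart.map_isZero hKz)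
  have hβ : IsIso β := (Triangle.isZero₁_iff_isIso₂ _ hT').1 hKz'
  have hZ := hS.exact.gIsCokernel
  let e : Q ≅ Z := IsColimit.coconePointUniqueUpToIso hQ hZ
  have he : πQ f₂ β ≫ e.hom = v :=
    IsColimit.comp_coconePointUniqueUpToIso_hom hQ hZ WalkingParallelPair.one
  refine ⟨t.ιHeart.map e.inv ≫ inv β ≫ f₃, ?_⟩
  refine isomorphic_distinguished _ hT _ ?_
  refine (Triangle.isoMk (Triangle.mk (t.ιHeart.map u) f₂ f₃)
    (Triangle.mk (t.ιHeart.map u) (t.ιHeart.map v) (t.ιHeart.map e.inv ≫ inv β ≫ f₃))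
    (Iso.refl _) (Iso.refl _) (asIso β ≪≫ t.ιHeart.mapIso e) ?_ ?_ ?_).symm
  · simp
  · dsimp
    rw [Category.id_comp, ← Category.assoc, ← ι_map_πQ f₂ β, ← Functor.map_comp, he]
  · simp

end Aux

/-- Let `C` be a triangulated category (octahedron axiom included) with a t-structure `t`, and let `H`
be an abelian category identified with the heart of `t` through a fully faithful additive functor
`ι` whose essential image is the heart. For morphisms `u : X ⟶ Y` and `v : Y ⟶ Z` in `H`, the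
sequence `0 ⟶ X ⟶ Y ⟶ Z ⟶ 0` is a complex and is short exact if and only if there is a morphism `w :
ι Z ⟶ (ι X)⟦1⟧` such that `(ι u, ι v, w)` is a distinguished triangle of `C`. -/
theorem result {C : Type u} [Category.{v} C] [Preadditive C] [HasZeroObject C] [HasShift C ℤ] [∀ n : ℤ, (shiftFunctor C n).Additive] [Pretriangulated C] [IsTriangulated C] (t : TStructure C) {H : Type u'} [Category.{v'} H] [Abelian H] [t.Heart H] {X Y Z : H} (u : X ⟶ Y) (v : Y ⟶ Z) :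
    (∃ huv : u ≫ v = 0, (ShortComplex.mk u v huv).ShortExact) ↔
      ∃ (w : t.ιHeart.obj Z ⟶ (t.ιHeart.obj X)⟦(1 : ℤ)⟧),
        Triangle.mk (t.ιHeart.map u) (t.ιHeart.map v) w ∈ distTriang C := by
  constructor
  · rintro ⟨huv, hS⟩
    exact forward t u v huv hS
  · rintro ⟨w, hT⟩
    exact backward t u v w hT

end Groth.Agent.S11521
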