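import Groth.Statements.S1153
import Mathlib
import Groth.Agent.S0086
import Groth.Agent.Lib.Helper8.ProperDescent

set_option autoImplicit false
open CategoryTheory CategoryTheory.Limits AlgebraicGeometry Opposite
universe u
open Desc

namespace Groth.Agent.S1153

/-- Let f : X ⟶ Y be locally of finite type, Z a closed subset of X and g : Y' ⟶ Y quasi-compact, flat
and surjective. If the preimage of Z in X ×_Y Y' is proper over Y', then Z is proper over Y. -/
theorem result {X Y Y' : Scheme.{u}} (f : X ⟶ Y) [LocallyOfFiniteType f] (Z : Set X) (hZ : IsClosed Z)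
    (g : Y' ⟶ Y) [QuasiCompact g] [Flat g] [Surjective g]
    (h : ClSub.IsProperOver (pullback.snd f g) ((pullback.fst f g).base ⁻¹' Z)) :
    ClSub.IsProperOver f Z := by
  open Groth.Agent.Lib.helper8 in
  refine ⟨hZ, ?_⟩
  obtain ⟨hcl', hprop⟩ := h
  set I := Scheme.IdealSheafData.vanishingIdeal ⟨Z, hZ⟩ with hI
  set p := pullback.fst f g with hp
  set I' := Scheme.IdealSheafData.vanishingIdeal ⟨p.base ⁻¹' Z, hcl'⟩ with hI'
  set ι := I.subschemeι with hι
  set j := pullback.snd ι p with hj
  have hd := Groth.Agent.S0086.result.{u}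
  have hpb : IsPullback (j ≫ pullback.snd f g) (pullback.fst ι p) g (ι ≫ f) :=
    (IsPullback.of_hasPullback ι p).flip.paste_horiz (IsPullback.of_hasPullback f g).flip
  refine MorphismProperty.of_isPullback_of_descendsAlong (P := @IsProper)
    (Q := (@Surjective ⊓ @Flat ⊓ @QuasiCompact : MorphismProperty Scheme.{u})) hpb
    ⟨⟨‹Surjective g›, ‹Flat g›⟩, ‹QuasiCompact g›⟩ ?_
  -- range of j
  have hrange : Set.range j.base = p.base ⁻¹' Z := by
    rw [hj, Scheme.Pullback.range_snd, hι, Scheme.IdealSheafData.range_subschemeι, hI,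
      Scheme.IdealSheafData.coe_support_vanishingIdeal]
    rfl
  have H : j.ker ≤ I'.subschemeι.ker := by
    rw [Scheme.IdealSheafData.ker_subschemeι, hI',
      ← Scheme.IdealSheafData.le_support_iff_le_vanishingIdeal]
    intro x hx
    exact j.range_subset_ker_support (hrange ▸ hx)
  let l : I'.subscheme ⟶ pullback ι p := IsClosedImmersion.lift j I'.subschemeι H
  have hl : l ≫ j = I'.subschemeι := IsClosedImmersion.lift_fac j I'.subschemeι H
  haveI : IsClosedImmersion (l ≫ j) := by rw [hl]; infer_instance
  haveI : IsClosedImmersion l := IsClosedImmersion.of_comp l j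
  haveI : Surjective l := by
    constructor
    intro t
    have ht : j.base t ∈ Set.range I'.subschemeι.base := by
      rw [Scheme.IdealSheafData.range_subschemeι, hI',
        Scheme.IdealSheafData.coe_support_vanishingIdeal]
      have : j.base t ∈ Set.range j.base := ⟨t, rfl⟩
      rw [hrange] at this
      exact this
    obtain ⟨s, hs⟩ := ht
    refine ⟨s, j.isClosedEmbedding.injective ?_⟩
    rw [← hs, ← hl]
    rfl
  have e : l ≫ (j ≫ pullback.snd f g) = I'.subschemeι ≫ pullback.snd f g := by
    rw [← Category.assoc, hl]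
  haveI : IsProper (l ≫ (j ≫ pullback.snd f g)) := by rw [e]; exact hprop
  haveI : UniversallyClosed (j ≫ pullback.snd f g) := UniversallyClosed.of_comp_surjective l _
  haveI : IsSeparated (j ≫ pullback.snd f g) :=
    isSeparated_of_comp_surjective_universallyClosed l _
  haveI : QuasiCompact (j ≫ pullback.snd f g) := quasiCompact_of_comp_surjective l _
  exact {}

end Groth.Agent.S1153
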