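import Groth.Statements.S11538
import Mathlib

set_option autoImplicit false
universe u v
open scoped TensorProduct
open AdicRing

namespace Groth.Agent.S11538

open TensorProduct

variable {A : Type u} [CommRing A] {M : Type v} [AddCommGroup M] [Module A M]

/-- The quotient ring `A/πA`. -/
abbrev Q (π : A) : Type u := A ⧸ Ideal.span {π}

theorem isTrivialRelation_of_fintype {ι κ : Type*} [Fintype ι] [Fintype κ] {f : ι → A}
    {x : ι → M} (a : ι → κ → A) (y : κ → M) (h1 : ∀ i, x i = ∑ j, a i j • y j)
    (h2 : ∀ j, ∑ i, f i * a i j = 0) : Module.IsTrivialRelation f x := by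
  let e := Fintype.equivFin κ
  refine ⟨Fintype.card κ, fun i j => a i (e.symm j), fun j => y (e.symm j), ?_, ?_⟩
  · intro i
    rw [h1 i]
    exact (Equiv.sum_comp e.symm (fun m => a i m • y m)).symm
  · intro j
    exact h2 (e.symm j)

theorem mk_smul_one_tmul (π a : A) (m : M) :
    (Ideal.Quotient.mk (Ideal.span {π}) a) • ((1 : Q π) ⊗ₜ[A] m) =
      (1 : Q π) ⊗ₜ[A] (a • m) := by
  rw [TensorProduct.smul_tmul', smul_eq_mul, mul_one]
  have h : (Ideal.Quotient.mk (Ideal.span {π}) a) = a • (1 : Q π) := by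
    rw [Algebra.smul_def, mul_one]; rfl
  rw [h, TensorProduct.smul_tmul]

theorem one_tmul_smul_self (π : A) (m : M) :
    (1 : Q π) ⊗ₜ[A] (π • m) = 0 := by
  rw [← mk_smul_one_tmul, Ideal.Quotient.eq_zero_iff_mem.mpr (Ideal.mem_span_singleton_self π),
    zero_smul]

theorem exists_one_tmul (π : A) (t : (Q π) ⊗[A] M) :
    ∃ m : M, t = (1 : Q π) ⊗ₜ[A] m := by
  induction t using TensorProduct.induction_on with
  | zero => exact ⟨0, (TensorProduct.tmul_zero _ _).symm⟩
  | tmul r m =>
    obtain ⟨a, rfl⟩ := Ideal.Quotient.mk_surjective r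
    refine ⟨a • m, ?_⟩
    rw [← mk_smul_one_tmul, TensorProduct.smul_tmul', smul_eq_mul, mul_one]
  | add t₁ t₂ h₁ h₂ =>
    obtain ⟨m₁, rfl⟩ := h₁
    obtain ⟨m₂, rfl⟩ := h₂
    exact ⟨m₁ + m₂, (TensorProduct.tmul_add _ _ _).symm⟩

theorem exists_smul_of_one_tmul_eq_zero (π : A) (m : M)
    (h : (1 : Q π) ⊗ₜ[A] m = 0) : ∃ m' : M, m = π • m' := by
  have h1 := congrArg (TensorProduct.quotTensorEquivQuotSMul M (Ideal.span {π})) h
  rw [map_zero, ← map_one (Ideal.Quotient.mk (Ideal.span {π})),
    TensorProduct.quotTensorEquivQuotSMul_mk_tmul, one_smul, Submodule.Quotient.mk_eq_zero,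
    Submodule.ideal_span_singleton_smul, Submodule.mem_smul_pointwise_iff_exists] at h1
  obtain ⟨m', -, hm'⟩ := h1
  exact ⟨m', hm'.symm⟩

theorem step2 (π : A) (hπ : π ∈ nonZeroDivisors A) (htf : ∀ x : M, π • x = 0 → x = 0)
    [Module.Flat (Q π) ((Q π) ⊗[A] M)]
    {l : ℕ} (f : Fin l → A) (x : Fin l → M)
    (h : Module.IsTrivialRelation f (fun i => π • x i)) : Module.IsTrivialRelation f x := by
  classical
  obtain ⟨k, a, y, hxy0, hfa0⟩ := h
  have hxy : ∀ i, π • x i = ∑ j, a i j • y j := hxy0
  have hfa : ∀ j, ∑ i, f i * a i j = 0 := hfa0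
  let q : A →+* (Q π) := Ideal.Quotient.mk (Ideal.span {π})
  have hrel : ∀ i, ∑ j, q (a i j) • ((1 : Q π) ⊗ₜ[A] y j) = 0 := by
    intro i
    rw [Finset.sum_congr rfl (fun j _ => mk_smul_one_tmul π (a i j) (y j)),
      ← TensorProduct.tmul_sum, ← hxy i, one_tmul_smul_self]
  let φ : (Fin l → Q π) →ₗ[Q π] (Fin k → Q π) :=
    { toFun := fun v j => ∑ i, v i * q (a i j)
      map_add' := by
        intro v w; funext j
        simp only [Pi.add_apply, add_mul, Finset.sum_add_distrib]
      map_smul' := by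
        intro c v; funext j
        simp only [Pi.smul_apply, smul_eq_mul, RingHom.id_apply, Finset.mul_sum, mul_assoc] }
  let ψ : (Fin k → Q π) →ₗ[Q π] ((Q π) ⊗[A] M) :=
    { toFun := fun w => ∑ j, w j • ((1 : Q π) ⊗ₜ[A] y j)
      map_add' := by
        intro v w
        simp only [Pi.add_apply, add_smul, Finset.sum_add_distrib]
      map_smul' := by
        intro c v
        simp only [Pi.smul_apply, smul_eq_mul, RingHom.id_apply, Finset.smul_sum, mul_smul] }
  have hφ : ∀ v j, φ v j = ∑ i, v i * q (a i j) := fun v j => rfl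
  have hψ : ∀ w, ψ w = ∑ j, w j • ((1 : Q π) ⊗ₜ[A] y j) := fun w => rfl
  have hcomp : ψ ∘ₗ φ = 0 := by
    apply LinearMap.ext
    intro v
    rw [LinearMap.comp_apply, LinearMap.zero_apply, hψ]
    have h1 : ∀ j, φ v j • ((1 : Q π) ⊗ₜ[A] y j) =
        ∑ i, v i • (q (a i j) • ((1 : Q π) ⊗ₜ[A] y j)) := by
      intro j
      rw [hφ, Finset.sum_smul]
      apply Finset.sum_congr rfl
      intro i _
      rw [mul_smul]
    rw [Finset.sum_congr rfl (fun j _ => h1 j), Finset.sum_comm]
    apply Finset.sum_eq_zero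
    intro i _
    rw [← Finset.smul_sum, hrel i, smul_zero]
  obtain ⟨p, a', y', hxy', ha'⟩ := Module.Flat.exists_factorization_of_comp_eq_zero_of_free hcomp
  let eK : Fin k → (Fin k → Q π) := fun j j' => if j = j' then 1 else 0
  let eL : Fin l → (Fin l → Q π) := fun i i' => if i = i' then 1 else 0
  let bb : Fin k → Fin p → Q π := fun j l' => a' (eK j) l'
  let zb : Fin p → ((Q π) ⊗[A] M) := fun l' => y' (Finsupp.single l' 1)
  have hy'apply : ∀ v : Fin p →₀ Q π, y' v = ∑ l', v l' • zb l' := by
    intro v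
    conv_lhs => rw [← Finsupp.univ_sum_single v]
    rw [map_sum]
    apply Finset.sum_congr rfl
    intro l' _
    rw [← Finsupp.smul_single_one, map_smul]
  have hclaim1 : ∀ j, (1 : Q π) ⊗ₜ[A] y j = ∑ l', bb j l' • zb l' := by
    intro j
    have h1 : ψ (eK j) = (1 : Q π) ⊗ₜ[A] y j := by
      rw [hψ, Finset.sum_eq_single j]
      · show (if j = j then (1 : Q π) else 0) • _ = _
        rw [if_pos rfl, one_smul]
      · intro j' _ hne
        show (if j = j' then (1 : Q π) else 0) • _ = _
        rw [if_neg (Ne.symm hne), zero_smul]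
      · intro hj; exact absurd (Finset.mem_univ j) hj
    rw [← h1, hxy', LinearMap.comp_apply, hy'apply]
  have hclaim2 : ∀ i l', ∑ j, q (a i j) * bb j l' = 0 := by
    intro i l'
    have h1 : φ (eL i) = fun j => q (a i j) := by
      funext j
      rw [hφ, Finset.sum_eq_single i]
      · show (if i = i then (1 : Q π) else 0) * _ = _
        rw [if_pos rfl, one_mul]
      · intro i' _ hne
        show (if i = i' then (1 : Q π) else 0) * _ = _
        rw [if_neg (Ne.symm hne), zero_mul]
      · intro hi; exact absurd (Finset.mem_univ i) hi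
    have h2 : a' (φ (eL i)) = 0 := by
      have h := LinearMap.congr_fun ha' (eL i)
      rwa [LinearMap.comp_apply, LinearMap.zero_apply] at h
    rw [h1, LinearMap.pi_apply_eq_sum_univ a'] at h2
    have h3 := DFunLike.congr_fun h2 l'
    simp only [Finsupp.coe_finsetSum, Finset.sum_apply, Finsupp.coe_smul, Pi.smul_apply,
      smul_eq_mul, Finsupp.coe_zero, Pi.zero_apply] at h3
    exact h3
  have hb : ∀ j l', ∃ b : A, q b = bb j l' := fun j l' => Ideal.Quotient.mk_surjective _
  choose b hb using hb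
  have hz : ∀ l', ∃ z : M, zb l' = (1 : Q π) ⊗ₜ[A] z := fun l' => exists_one_tmul π _
  choose z hz using hz
  have hy2 : ∀ j, ∃ y2 : M, y j - ∑ l', b j l' • z l' = π • y2 := by
    intro j
    apply exists_smul_of_one_tmul_eq_zero π
    rw [TensorProduct.tmul_sub, hclaim1 j, TensorProduct.tmul_sum, sub_eq_zero]
    apply Finset.sum_congr rfl
    intro l' _
    rw [← hb j l', hz l']
    exact mk_smul_one_tmul π (b j l') (z l')
  choose y2 hy2 using hy2
  have hc : ∀ i l', ∃ c : A, ∑ j, a i j * b j l' = π * c := by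
    intro i l'
    have h1 : q (∑ j, a i j * b j l') = 0 := by
      rw [map_sum, ← hclaim2 i l']
      apply Finset.sum_congr rfl
      intro j _
      rw [map_mul, hb j l']
    have h2 := Ideal.Quotient.eq_zero_iff_mem.mp h1
    obtain ⟨c, hc⟩ := Ideal.mem_span_singleton'.mp h2
    exact ⟨c, by rw [← hc, mul_comm]⟩
  choose c hc using hc
  apply isTrivialRelation_of_fintype (κ := Fin p ⊕ Fin k)
    (fun i s => Sum.elim (c i) (a i) s) (Sum.elim z y2)
  · intro i
    rw [Fintype.sum_sum_type]
    simp only [Sum.elim_inl, Sum.elim_inr]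
    have key : π • (x i - (∑ l', c i l' • z l' + ∑ j, a i j • y2 j)) = 0 := by
      rw [smul_sub, hxy i, smul_add, Finset.smul_sum, Finset.smul_sum]
      have e1 : ∀ l', π • c i l' • z l' = ∑ j, (a i j * b j l') • z l' := by
        intro l'
        rw [← mul_smul, ← hc i l', Finset.sum_smul]
      have e2 : ∀ j, π • a i j • y2 j = a i j • y j - ∑ l', (a i j * b j l') • z l' := by
        intro j
        rw [smul_comm, ← hy2 j, smul_sub, Finset.smul_sum]
        congr 1
        apply Finset.sum_congr rfl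
        intro l' _
        rw [mul_smul]
      rw [Finset.sum_congr rfl (fun l' _ => e1 l'), Finset.sum_congr rfl (fun j _ => e2 j),
        Finset.sum_sub_distrib, Finset.sum_comm]
      abel
    exact sub_eq_zero.mp (htf _ key)
  · rintro (l' | j)
    · simp only [Sum.elim_inl]
      have h1 : (∑ i, f i * c i l') * π = 0 := by
        rw [Finset.sum_mul]
        have e : ∀ i, f i * c i l' * π = ∑ j, (f i * a i j) * b j l' := by
          intro i
          rw [mul_assoc, mul_comm (c i l') π, ← hc i l', Finset.mul_sum]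
          apply Finset.sum_congr rfl
          intro j _
          rw [mul_assoc]
        rw [Finset.sum_congr rfl (fun i _ => e i), Finset.sum_comm]
        apply Finset.sum_eq_zero
        intro j _
        rw [← Finset.sum_mul, hfa j, zero_mul]
      exact (mul_right_mem_nonZeroDivisors_eq_zero_iff hπ).mp h1
    · simp only [Sum.elim_inr]
      exact hfa j

theorem step3 (π : A) (hπ : π ∈ nonZeroDivisors A) (htf : ∀ x : M, π • x = 0 → x = 0)
    [Module.Flat (Q π) ((Q π) ⊗[A] M)] {l : ℕ} (f : Fin l → A) :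
    ∀ (K : ℕ) (x : Fin l → M), Module.IsTrivialRelation f (fun i => π ^ K • x i) →
      Module.IsTrivialRelation f x := by
  intro K
  induction K with
  | zero =>
    intro x h
    have e : (fun i => π ^ 0 • x i) = x := by funext i; rw [pow_zero, one_smul]
    rwa [e] at h
  | succ K ih =>
    intro x h
    apply ih x
    apply step2 π hπ htf f (fun i => π ^ K • x i)
    have e : (fun i => π ^ (K + 1) • x i) = (fun i => π • (π ^ K • x i)) := by
      funext i; rw [pow_succ', mul_smul]
    rwa [e] at h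

theorem step1 (π : A) (hπ : π ∈ nonZeroDivisors A)
    (htf : ∀ (x : M) (n : ℕ), π ^ n • x = 0 → x = 0)
    [Module.Flat (Localization.Away π) ((Localization.Away π) ⊗[A] M)]
    {l : ℕ} (f : Fin l → A) (x : Fin l → M) (hfx : ∑ i, f i • x i = 0) :
    ∃ K : ℕ, Module.IsTrivialRelation f (fun i => π ^ K • x i) := by
  classical
  have halg : ∀ (r : A) (m : M), (algebraMap A (Localization.Away π) r) •
      ((1 : Localization.Away π) ⊗ₜ[A] m) = (1 : Localization.Away π) ⊗ₜ[A] (r • m) := by
    intro r m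
    rw [TensorProduct.smul_tmul', smul_eq_mul, mul_one, Algebra.algebraMap_eq_smul_one,
      TensorProduct.smul_tmul]
  have hS : ∑ i, (algebraMap A (Localization.Away π) (f i)) •
      ((1 : Localization.Away π) ⊗ₜ[A] x i) = 0 := by
    rw [Finset.sum_congr rfl (fun i _ => halg (f i) (x i)), ← TensorProduct.tmul_sum, hfx,
      TensorProduct.tmul_zero]
  obtain ⟨k, α, η, hxy0, hfa0⟩ := Module.Flat.isTrivialRelation_of_sum_smul_eq_zero hS
  have hxy : ∀ i, (1 : Localization.Away π) ⊗ₜ[A] x i = ∑ j, α i j • η j := hxy0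
  have hfa : ∀ j, ∑ i, algebraMap A (Localization.Away π) (f i) * α i j = 0 := hfa0
  -- clear denominators of α
  obtain ⟨⟨s, hs'⟩, hs⟩ := IsLocalization.exist_integer_multiples_of_finite (Submonoid.powers π)
    (fun p : Fin l × Fin k => α p.1 p.2)
  obtain ⟨N, hN⟩ := (Submonoid.mem_powers_iff _ _).mp hs'
  subst hN
  have ha : ∀ i j, ∃ r : A, algebraMap A (Localization.Away π) r = (π ^ N) • α i j := by
    intro i j
    obtain ⟨r, hr⟩ := hs (i, j)
    exact ⟨r, hr⟩
  choose a ha using ha
  -- clear denominators of η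
  obtain ⟨⟨s2, hs2'⟩, hs2⟩ := IsLocalizedModule.exist_integer_multiples_of_finite
    (Submonoid.powers π) (TensorProduct.mk A (Localization.Away π) M 1) η
  obtain ⟨N', hN'⟩ := (Submonoid.mem_powers_iff _ _).mp hs2'
  subst hN'
  have hy : ∀ j, ∃ m : M, (1 : Localization.Away π) ⊗ₜ[A] m = (π ^ N') • η j := by
    intro j
    obtain ⟨m, hm⟩ := hs2 j
    exact ⟨m, hm⟩
  choose y hy using hy
  refine ⟨N + N', k, a, y, ?_, ?_⟩
  · intro i
    show π ^ (N + N') • x i = ∑ j, a i j • y j
    have h1 : (1 : Localization.Away π) ⊗ₜ[A] (π ^ (N + N') • x i) =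
        (1 : Localization.Away π) ⊗ₜ[A] (∑ j, a i j • y j) := by
      rw [TensorProduct.tmul_smul, hxy i, Finset.smul_sum, TensorProduct.tmul_sum]
      apply Finset.sum_congr rfl
      intro j _
      rw [← halg, ha i j, hy j, pow_add, mul_smul, smul_assoc,
        smul_comm (π ^ N') (α i j) (η j)]
    have h1' : (TensorProduct.mk A (Localization.Away π) M 1) (π ^ (N + N') • x i) =
        (TensorProduct.mk A (Localization.Away π) M 1) (∑ j, a i j • y j) := h1
    obtain ⟨n, hn⟩ := IsLocalizedModule.Away.exists_of_eq π h1'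
    have h2 : π ^ n • (π ^ (N + N') • x i - ∑ j, a i j • y j) = 0 := by
      rw [smul_sub, hn, sub_self]
    exact sub_eq_zero.mp (htf _ n h2)
  · intro j
    apply IsLocalization.injective (Localization.Away π) (Submonoid.powers_le.mpr hπ)
    rw [map_zero, map_sum]
    have h1 : ∀ i, algebraMap A (Localization.Away π) (f i * a i j) =
        (π ^ N) • (algebraMap A (Localization.Away π) (f i) * α i j) := by
      intro i
      rw [map_mul, ha i j, mul_smul_comm]
    rw [Finset.sum_congr rfl (fun i _ => h1 i), ← Finset.smul_sum, hfa j, smul_zero]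



/-- Let A be a commutative ring, π an element of A which is not a zero divisor and M an A-module. Then M
is flat over A if and only if the π-power torsion of M vanishes, (A/πA) ⊗_A M is flat over A/πA, and
A[π⁻¹] ⊗_A M is flat over A[π⁻¹]. -/
theorem result
    (A : Type u) [CommRing A] (π : A) (hπ : π ∈ nonZeroDivisors A)
    (M : Type v) [AddCommGroup M] [Module A M] :
    Module.Flat A M ↔
      (∀ (x : M) (n : ℕ), π ^ n • x = 0 → x = 0) ∧
        Module.Flat (A ⧸ Ideal.span {π}) ((A ⧸ Ideal.span {π}) ⊗[A] M) ∧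
        Module.Flat (Localization.Away π) ((Localization.Away π) ⊗[A] M) := by
  constructor
  · intro hM
    refine ⟨?_, inferInstance, inferInstance⟩
    intro x n hx
    have hreg : IsSMulRegular M (π ^ n) :=
      Module.Flat.isSMulRegular_of_nonZeroDivisors (pow_mem hπ n)
    exact hreg (hx.trans (smul_zero _).symm)
  · rintro ⟨htf, hbar, hloc⟩
    apply Module.Flat.of_forall_isTrivialRelation
    intro l f x hfx
    obtain ⟨K, hK⟩ := step1 π hπ htf f x hfx
    have htf1 : ∀ x : M, π • x = 0 → x = 0 := fun x hx => htf x 1 (by rwa [pow_one])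
    exact step3 π hπ htf1 f K x hK


end Groth.Agent.S11538
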