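import Groth.Statements.S11545
import Mathlib
import Groth.Agent.Lib.Helper28.AdicLift
-- import your own Groth.Agent.* helpers here

set_option autoImplicit false
universe u
open AdicRing

namespace Groth.Agent.S11545

open AdicRing in
theorem main (R : Type u) [CommRing R] (I : Ideal R) (hI : I.FG) (A : Type u) [CommRing A]
    [Algebra R A] {ι : Type} (f : ι → A) (i : ι) (B : Type u) [CommRing B] [Algebra R B]
    [Algebra A B] [IsScalarTower R A B] [IsAdicComplete (I.map (algebraMap R B)) B]
    (hnzd : algebraMap A B (f i) ∈ nonZeroDivisors B)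
    (hgen : ∀ j, ∃ b, algebraMap A B (f j) = b * algebraMap A B (f i)) :
    ∃! ψ : chartAdm I f i →ₐ[R] B, ∀ a, ψ (algebraMap A (chartAdm I f i) a) = algebraMap A B a := by
  classical
  choose b hb using hgen
  -- the relation ideal
  set rel : Ideal (MvPolynomial {j : ι // j ≠ i} A) := Ideal.span (Set.range fun j : {j : ι // j ≠ i} =>
    MvPolynomial.C (f i) * MvPolynomial.X j - MvPolynomial.C (f j.1)) with hrel
  -- ψ₀ on the chart algebra
  let P : MvPolynomial {j : ι // j ≠ i} A →ₐ[A] B := MvPolynomial.aeval (fun j => b j.1)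
  have hP : ∀ x ∈ rel, P x = 0 := by
    intro x hx
    have : rel ≤ RingHom.ker P.toRingHom := by
      rw [hrel, Ideal.span_le]
      rintro _ ⟨j, rfl⟩
      simp only [SetLike.mem_coe, RingHom.mem_ker]
      change P _ = 0
      simp only [P, map_sub, map_mul, MvPolynomial.aeval_C, MvPolynomial.aeval_X]
      rw [hb j.1]
      ring
    exact this hx
  let ψ₀ : chartAlg f i →ₐ[A] B := Ideal.Quotient.liftₐ rel P hP
  -- lift to the completion
  have hg : (I.map (algebraMap R (chartAlg f i))).map (ψ₀.restrictScalars R) ≤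
      I.map (algebraMap R B) := by
    rw [Ideal.map_le_iff_le_comap, Ideal.map_le_iff_le_comap]
    intro r hr
    simp only [Ideal.mem_comap, AlgHom.commutes]
    exact Ideal.mem_map_of_mem _ hr
  obtain ⟨ĝ, hĝ⟩ := Groth.Agent.Lib.helper28.exists_lift (R₀ := R)
    (I.map (algebraMap R (chartAlg f i))) (I.map (algebraMap R B)) (ψ₀.restrictScalars R) hg
  have hĝA : ∀ a : A, ĝ (algebraMap A (chartCompl I f i) a) = algebraMap A B a := by
    intro a
    rw [AdicCompletion.algebraMap_apply, hĝ]
    simp
  set T : Ideal (chartCompl I f i) := (⨆ n : ℕ, Submodule.torsionBy (chartCompl I f i)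
    (chartCompl I f i) (algebraMap A (chartCompl I f i) (f i) ^ n) : Ideal (chartCompl I f i)) with hT
  have hkill : ∀ x ∈ T, ĝ x = 0 := by
    intro x hx
    refine Submodule.iSup_induction _ (motive := fun x => ĝ x = 0) hx (fun n y hy => ?_)
      (map_zero _) (fun y z hy hz => by rw [map_add, hy, hz, add_zero])
    rw [Submodule.mem_torsionBy_iff] at hy
    have h1 : ĝ (algebraMap A (chartCompl I f i) (f i) ^ n • y) = 0 := by rw [hy, map_zero]
    rw [smul_eq_mul, map_mul, map_pow, hĝA] at h1
    exact (mul_left_mem_nonZeroDivisors_eq_zero_iff (pow_mem hnzd n)).mp h1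
  let ψ : chartAdm I f i →ₐ[R] B := Ideal.Quotient.liftₐ T ĝ hkill
  refine ⟨ψ, fun a => ?_, fun ψ' hψ' => ?_⟩
  · exact hĝA a
  · -- uniqueness
    have hof : ∀ c : chartAlg f i, AdicCompletion.of (I.map (algebraMap R (chartAlg f i)))
        (chartAlg f i) c = algebraMap (chartAlg f i) (chartCompl I f i) c := fun c => by
      rw [AdicCompletion.algebraMap_apply]; rfl
    have hmkA : ∀ a : A, (Ideal.Quotient.mk T (algebraMap (chartAlg f i) (chartCompl I f i)
        (Ideal.Quotient.mk rel (MvPolynomial.C a))) : chartAdm I f i) =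
        algebraMap A (chartAdm I f i) a := fun a => by
      rw [← hof]; rfl
    have hX : ∀ (ψ'' : chartAdm I f i →ₐ[R] B),
        (∀ a, ψ'' (algebraMap A (chartAdm I f i) a) = algebraMap A B a) →
        ∀ j : {j : ι // j ≠ i}, ψ'' (Ideal.Quotient.mk T (algebraMap (chartAlg f i) (chartCompl I f i)
          (Ideal.Quotient.mk rel (MvPolynomial.X j)))) = b j.1 := by
      intro ψ'' h'' j
      have hrelj : (Ideal.Quotient.mk rel (MvPolynomial.C (f i) * MvPolynomial.X j) :
          chartAlg f i) = Ideal.Quotient.mk rel (MvPolynomial.C (f j.1)) := by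
        rw [Ideal.Quotient.eq]
        exact Ideal.subset_span ⟨j, rfl⟩
      have h1 : algebraMap A B (f i) * ψ'' (Ideal.Quotient.mk T (algebraMap (chartAlg f i)
          (chartCompl I f i) (Ideal.Quotient.mk rel (MvPolynomial.X j)))) =
          algebraMap A B (f j.1) := by
        rw [← h'' (f i), ← h'' (f j.1), ← map_mul, ← hmkA, ← hmkA, ← map_mul, ← map_mul, ← map_mul,
          hrelj]
      rw [hb j.1, mul_comm] at h1
      exact (mul_cancel_right_mem_nonZeroDivisors hnzd).mp h1
    have hΨ : ∀ (ψ'' : chartAdm I f i →ₐ[R] B),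
        (I.map (algebraMap R (chartAlg f i))).map ((ψ''.toRingHom.comp (Ideal.Quotient.mk T)).comp
          (algebraMap (chartAlg f i) (chartCompl I f i))) ≤ I.map (algebraMap R B) := by
      intro ψ''
      rw [Ideal.map_le_iff_le_comap, Ideal.map_le_iff_le_comap]
      intro r hr
      simp only [Ideal.mem_comap]
      have : ((ψ''.toRingHom.comp (Ideal.Quotient.mk T)).comp
          (algebraMap (chartAlg f i) (chartCompl I f i))) (algebraMap R (chartAlg f i) r) =
          algebraMap R B r := by
        change ψ'' (Ideal.Quotient.mk T (algebraMap (chartAlg f i) (chartCompl I f i)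
          (algebraMap R (chartAlg f i) r))) = _
        rw [← IsScalarTower.algebraMap_apply R (chartAlg f i) (chartCompl I f i)]
        exact ψ''.commutes r
      rw [this]
      exact Ideal.mem_map_of_mem _ hr
    have hρ : ∀ (ψ'' : chartAdm I f i →ₐ[R] B),
        (∀ a, ψ'' (algebraMap A (chartAdm I f i) a) = algebraMap A B a) →
        ∀ p : MvPolynomial {j : ι // j ≠ i} A, ψ'' (Ideal.Quotient.mk T
          (algebraMap (chartAlg f i) (chartCompl I f i) (Ideal.Quotient.mk rel p))) = P p := by
      intro ψ'' h'' p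
      induction p using MvPolynomial.induction_on with
      | C a => rw [hmkA, h'']; simp [P]
      | add p q hp hq => simp only [map_add, hp, hq]
      | mul_X p j hp =>
        rw [map_mul, map_mul, map_mul, map_mul, hp, hX ψ'' h'' j]
        simp [P]
    have hψA : ∀ a, ψ (algebraMap A (chartAdm I f i) a) = algebraMap A B a := fun a => hĝA a
    have key := Groth.Agent.Lib.helper28.eq_of_eq_on_of (I.map (algebraMap R (chartAlg f i)))
      (hI.map _) (I.map (algebraMap R B)) (ψ'.toRingHom.comp (Ideal.Quotient.mk T))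
      (ψ.toRingHom.comp (Ideal.Quotient.mk T)) (hΨ ψ') (hΨ ψ) (fun s => by
        obtain ⟨p, rfl⟩ := Ideal.Quotient.mk_surjective s
        rw [hof]
        exact (hρ ψ' hψ' p).trans (hρ ψ hψA p).symm)
    apply AlgHom.ext
    intro x
    obtain ⟨y, rfl⟩ := Ideal.Quotient.mk_surjective x
    exact congr($key y)

/-- Let R be a base ring of class (N) or (V) for the ideal I, A an admissible R-algebra, f_0, ..., f_r
elements generating an open ideal 𝔞 of A, and A_i = C_i/(f_i-power torsion) the i-th chart algebra
of the formal blowing-up of 𝔞. Let B be an R-algebra complete and separated for the I-adic topology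
and φ : A → B an R-algebra homomorphism such that the ideal 𝔞B is generated by φ(f_i), a
non-zero-divisor of B. Then there is exactly one R-algebra homomorphism A_i → B whose composite with
A → A_i is φ. -/
theorem result
    (R : Type u) [CommRing R] (I : Ideal R) (hR : AdicRing.IsBase R I)
    (A : Type u) [CommRing A] [Algebra R A] (hA : AdicRing.Admissible R I A)
    (r : ℕ) (f : Fin (r + 1) → A) (k : ℕ)
    (hopen : (I ^ k).map (algebraMap R A) ≤ Ideal.span (Set.range f)) (i : Fin (r + 1))
    (B : Type u) [CommRing B] [Algebra R B] [IsAdicComplete (I.map (algebraMap R B)) B]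
    (φ : A →ₐ[R] B) (hnzd : φ (f i) ∈ nonZeroDivisors B)
    (hgen : (Ideal.span (Set.range f)).map φ = Ideal.span {φ (f i)}) :
    ∃! ψ : AdicRing.chartAdm I f i →ₐ[R] B,
      ψ.comp (IsScalarTower.toAlgHom R A (AdicRing.chartAdm I f i)) = φ := by
  have hI : I.FG := by
    rcases hR.2 with h | h
    · haveI := h.1
      exact IsNoetherian.noetherian I
    · obtain ⟨_, _, _, t, _, rfl⟩ := h
      exact ⟨{t}, by simp⟩
  letI : Algebra A B := φ.toRingHom.toAlgebra
  haveI : IsScalarTower R A B := IsScalarTower.of_algebraMap_eq (fun x => (φ.commutes x).symm)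
  have hgen' : ∀ j, ∃ b, algebraMap A B (f j) = b * algebraMap A B (f i) := by
    intro j
    have h1 : φ (f j) ∈ (Ideal.span (Set.range f)).map φ :=
      Ideal.mem_map_of_mem φ (Ideal.subset_span ⟨j, rfl⟩)
    rw [hgen, Ideal.mem_span_singleton'] at h1
    obtain ⟨a, ha⟩ := h1
    exact ⟨a, ha.symm⟩
  obtain ⟨ψ, hψ, huniq⟩ := main R I hI A f i B hnzd hgen'
  refine ⟨ψ, ?_, fun ψ' hψ' => huniq ψ' fun a => ?_⟩
  · ext a
    exact hψ a
  · exact congr($hψ' a)

end Groth.Agent.S11545
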