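import Groth.Statements.S11546
import Mathlib

set_option autoImplicit false
universe u
open AdicRing

namespace Groth.Agent.S11546

theorem smul_top_le_self {A : Type u} [CommRing A] (J : Ideal A) :
    (J • ⊤ : Submodule A A) ≤ J :=
  Submodule.smul_le.mpr fun r hr n _ => J.mul_mem_right n hr

theorem flat_V (R : Type u) [CommRing R] [IsDomain R] [ValuationRing R] [Ring.KrullDimLE 1 R]
    (t : R) (ht0 : t ≠ 0) (n : ℕ) :
    Module.Flat R (AdicRing.RPow R (Ideal.span {t}) n) := by
  classical
  rw [Module.Flat.flat_iff_torsion_eq_bot_of_isBezout, eq_bot_iff]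
  rintro x ⟨⟨a, ha⟩, hax⟩
  rw [Submodule.mem_bot]
  have ha0 : a ≠ 0 := nonZeroDivisors.ne_zero ha
  change a • x = 0 at hax
  have hJ : (Ideal.span {t}).map (MvPolynomial.C : R →+* MvPolynomial (Fin n) R) =
      Ideal.span {MvPolynomial.C t} := by
    rw [Ideal.map_span, Set.image_singleton]
  apply AdicCompletion.ext
  intro k
  rw [AdicCompletion.val_zero_apply]
  by_cases htu : IsUnit t
  · have hJtop : (Ideal.span {t}).map (MvPolynomial.C : R →+* MvPolynomial (Fin n) R) = ⊤ := by
      rw [hJ, Ideal.span_singleton_eq_top]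
      exact htu.map MvPolynomial.C
    obtain ⟨y, hy⟩ := Submodule.mkQ_surjective
      (((Ideal.span {t}).map (MvPolynomial.C : R →+* MvPolynomial (Fin n) R)) ^ k • ⊤ :
        Submodule (MvPolynomial (Fin n) R) (MvPolynomial (Fin n) R)) (x.val k)
    rw [← hy, Submodule.mkQ_apply, Submodule.Quotient.mk_eq_zero, hJtop, Ideal.top_pow,
      Submodule.top_smul]
    trivial
  · have hrad : t ∈ (Ideal.span {a}).radical := by
      rw [Ideal.radical_eq_sInf, Ideal.mem_sInf]
      rintro p ⟨hap, hp⟩
      have hpne : p ≠ ⊥ := by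
        intro h
        rw [h] at hap
        have : a ∈ (⊥ : Ideal R) := hap (Ideal.subset_span (Set.mem_singleton _))
        exact ha0 (Ideal.mem_bot.mp this)
      have hpmax : p.IsMaximal := hp.isMaximal_of_ne_bot hpne
      rw [IsLocalRing.eq_maximalIdeal hpmax]
      exact (IsLocalRing.mem_maximalIdeal t).mpr htu
    obtain ⟨N, hN⟩ := hrad
    rw [Ideal.mem_span_singleton] at hN
    obtain ⟨c, hc⟩ := hN
    have htN : (t ^ N) • x = 0 := by rw [hc, mul_comm, mul_smul, hax, smul_zero]
    obtain ⟨y, hy⟩ := Submodule.mkQ_surjective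
      (((Ideal.span {t}).map (MvPolynomial.C : R →+* MvPolynomial (Fin n) R)) ^ (k + N) • ⊤ :
        Submodule (MvPolynomial (Fin n) R) (MvPolynomial (Fin n) R)) (x.val (k + N))
    have h1 : (t ^ N) • y ∈
        (((Ideal.span {t}).map (MvPolynomial.C : R →+* MvPolynomial (Fin n) R)) ^ (k + N) • ⊤ :
          Submodule (MvPolynomial (Fin n) R) (MvPolynomial (Fin n) R)) := by
      rw [← Submodule.Quotient.mk_eq_zero, Submodule.Quotient.mk_smul, ← Submodule.mkQ_apply, hy,
        ← AdicCompletion.val_smul_apply, htN, AdicCompletion.val_zero_apply]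
    have h2 : (MvPolynomial.C t : MvPolynomial (Fin n) R) ^ (k + N) ∣ (t ^ N) • y := by
      have h := smul_top_le_self _ h1
      rwa [hJ, Ideal.span_singleton_pow, Ideal.mem_span_singleton] at h
    obtain ⟨z, hz⟩ := h2
    have hCt : (MvPolynomial.C t : MvPolynomial (Fin n) R) ≠ 0 := by
      rw [Ne, MvPolynomial.C_eq_zero]
      exact ht0
    have h3 : y = (MvPolynomial.C t) ^ k * z := by
      have h4 : (MvPolynomial.C t : MvPolynomial (Fin n) R) ^ N * y =
          (MvPolynomial.C t) ^ N * ((MvPolynomial.C t) ^ k * z) := by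
        rw [← mul_assoc, ← pow_add, add_comm N k, ← hz, MvPolynomial.smul_eq_C_mul, map_pow]
      exact mul_left_cancel₀ (pow_ne_zero N hCt) h4
    have h5 : x.val k = Submodule.Quotient.mk y := by
      rw [← AdicCompletion.transitionMap_comp_eval_apply _ _ (Nat.le_add_right k N) x, ← hy]
      rfl
    rw [h5, Submodule.Quotient.mk_eq_zero, h3]
    have h6 : (MvPolynomial.C t : MvPolynomial (Fin n) R) ^ k ∈
        ((Ideal.span {t}).map (MvPolynomial.C : R →+* MvPolynomial (Fin n) R)) ^ k := by
      rw [hJ]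
      exact Ideal.pow_mem_pow (Ideal.subset_span (Set.mem_singleton _)) k
    exact Submodule.smul_mem_smul h6 Submodule.mem_top


/-- Let R be a base ring of class (N) or (V) for the ideal I. Then the restricted power series ring
R⟨ζ_1, ..., ζ_n⟩ is flat over R. -/
theorem result
    (R : Type u) [CommRing R] (I : Ideal R) (hR : AdicRing.IsBase R I) (n : ℕ) :
    Module.Flat R (AdicRing.RPow R I n) := by
  obtain ⟨-, hN | hV⟩ := hR
  · obtain ⟨hnoeth, -⟩ := hN
    have := hnoeth
    exact Module.Flat.trans R (MvPolynomial (Fin n) R) _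
  · obtain ⟨hdom, hpre, hdim, t, ht0, rfl⟩ := hV
    have := hdom
    have : ValuationRing R := @ValuationRing.mk R _ _ hpre
    have := hdim
    exact flat_V R t ht0 n

end Groth.Agent.S11546
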