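import Groth.Statements.S1156
import Mathlib

set_option autoImplicit false
universe u
open scoped TensorProduct
open Desc

namespace Groth.Agent.S1156

section
variable (R A : Type u) [CommRing R] [CommRing A] [Algebra R A]

/-- multiplication of the first two factors: `b ⊗ (a ⊗ n) ↦ (b a) ⊗ n` -/
noncomputable def contr (N : Type u) [AddCommGroup N] [Module R N] : A ⊗[R] (A ⊗[R] N) →ₗ[R] A ⊗[R] N :=
  (LinearMap.mul' R A).rTensor N ∘ₗ (TensorProduct.assoc R A A N).symm.toLinearMap

@[simp] theorem contr_tmul (N : Type u) [AddCommGroup N] [Module R N] (b a : A) (n : N) :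
    contr R A N (b ⊗ₜ (a ⊗ₜ n)) = (b * a) ⊗ₜ n := by
  simp [contr]

end


/-- Exactness of the extended Amitsur complex in degree 0 (injectivity in degree −1 being standard). Let
R → A be faithfully flat and M an R-module. An element x of A ⊗_R M with 1 ⊗ x = (a ⊗ m ↦ a ⊗ 1 ⊗
m)(x) in A ⊗_R A ⊗_R M lies in the image of m ↦ 1 ⊗ m. -/
theorem result (R A : Type u) [CommRing R] [CommRing A] [Algebra R A] [Module.FaithfullyFlat R A]
    (M : Type u) [AddCommGroup M] [Module R M] (x : A ⊗[R] M)
    (hx : TensorProduct.mk R A (A ⊗[R] M) 1 x = LinearMap.lTensor A (TensorProduct.mk R A M 1) x) :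
    x ∈ LinearMap.range (TensorProduct.mk R A M 1) := by
  let d0 : M →ₗ[R] A ⊗[R] M := TensorProduct.mk R A M 1
  let d1 : A ⊗[R] M →ₗ[R] A ⊗[R] (A ⊗[R] M) :=
    TensorProduct.mk R A (A ⊗[R] M) 1 - LinearMap.lTensor A d0
  have hcomp : d1 ∘ₗ d0 = 0 := by
    ext m
    simp [d0, d1]
  have hhom : contr R A (A ⊗[R] M) ∘ₗ d1.lTensor A =
      LinearMap.id - d0.lTensor A ∘ₗ contr R A M := by
    ext b a m
    simp [d0, d1]
  have hex : Function.Exact (d0.lTensor A) (d1.lTensor A) := by
    intro y
    constructor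
    · intro hy
      have := congrArg (fun f => f y) hhom
      simp only [LinearMap.comp_apply, hy, map_zero, LinearMap.sub_apply, LinearMap.id_apply] at this
      exact ⟨contr R A M y, (sub_eq_zero.1 this.symm).symm⟩
    · rintro ⟨z, rfl⟩
      rw [← LinearMap.comp_apply, ← LinearMap.lTensor_comp, hcomp, LinearMap.lTensor_zero,
        LinearMap.zero_apply]
  have hex' : Function.Exact d0 d1 := Module.FaithfullyFlat.lTensor_reflects_exact R A d0 d1 hex
  have hd1 : d1 x = 0 := by
    simp only [d1, LinearMap.sub_apply, sub_eq_zero]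
    exact hx
  exact (hex' x).1 hd1

end Groth.Agent.S1156
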