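import Groth.Statements.S3440
import Mathlib
import Groth.Agent.Lib.Helper3.OpenAtFormula
import Groth.Agent.Lib.Helper3.FlatDescI
import Groth.Agent.Lib.Helper17.Miracle
import Groth.Agent.Lib.Helper17.FibreDim
import Groth.Agent.Lib.Helper26.Depth7

set_option autoImplicit false
open CategoryTheory AlgebraicGeometry
universe u
open EGA43

namespace Groth.Agent.S3440

open IsLocalRing

/-- cancellation: `a + x = a + y` with `a` finite. -/
theorem cancel_aux (a : ℕ) (x : WithBot ℕ∞) (y : ℕ∞) (hx : 0 ≤ x)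
    (h : (a : WithBot ℕ∞) + x = (((a : ℕ∞) + y : ℕ∞) : WithBot ℕ∞)) : x = (y : WithBot ℕ∞) := by
  lift x to ℕ∞ using (by rintro rfl; simp at hx)
  have h' : ((a : ℕ∞) + x) = (a : ℕ∞) + y := by exact_mod_cast h
  have : x = y := (ENat.add_right_injective_of_ne_top (ENat.natCast_ne_top a)) h'
  rw [this]

/-- flat ⇒ the fibre is Cohen–Macaulay. -/
theorem cm_fibre_of_flat {X Y : Scheme.{u}} [IsLocallyNoetherian X] [IsLocallyNoetherian Y]
    (f : X ⟶ Y) (x : X) (hreg : IsRegularLocalRing (Y.presheaf.stalk (f.base x)))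
    (hCM : LocCoh.IsCohenMacaulayLocalRing (X.presheaf.stalk x))
    (hfl : (f.stalkMap x).hom.Flat) :
    LocCoh.IsCohenMacaulayLocalRing ((f.fiber (f.base x)).presheaf.stalk (f.asFiber x)) := by
  haveI := Groth.Agent.Lib.helper17.FibreDim.isNoetherianRing_fiberStalk f x
  refine { supportDim_eq_depth := ?_ }
  rw [Module.supportDim_self_eq_ringKrullDim]
  have h1 := Groth.Agent.Lib.helper17.FibreDim.dim_stalk_eq f x hfl
  have h2 := Groth.Agent.Lib.helper17.FibreDim.depth_stalk_eq f x hfl
  have h3 := hCM.supportDim_eq_depth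
  rw [Module.supportDim_self_eq_ringKrullDim] at h3
  have h4 := Groth.Agent.Lib.helper26.Depth.depth_eq_ringKrullDim_of_isRegularLocalRing
    (Y.presheaf.stalk (f.base x))
  have h5 := IsRegularLocalRing.spanFinrank_maximalIdeal (R := Y.presheaf.stalk (f.base x))
  set n := Submodule.spanFinrank (maximalIdeal (Y.presheaf.stalk (f.base x))) with hn
  have hdepA : LocCoh.depth (Y.presheaf.stalk (f.base x)) (Y.presheaf.stalk (f.base x)) =
      (n : ℕ∞) := by
    have : ((LocCoh.depth (Y.presheaf.stalk (f.base x)) (Y.presheaf.stalk (f.base x)) : ℕ∞) :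
        WithBot ℕ∞) = ((n : ℕ∞) : WithBot ℕ∞) := by
      rw [h4, ← h5]
      rfl
    exact_mod_cast this
  apply cancel_aux n
  · exact ringKrullDim_nonneg_of_nontrivial
  · have h5' : ringKrullDim (Y.presheaf.stalk (f.base x)) = (n : WithBot ℕ∞) := h5.symm
    rw [← h5', ← h1, h3, h2, hdepA]

/-- miracle flatness at a point. -/
theorem flat_of_dim_formula {X Y : Scheme.{u}} [IsLocallyNoetherian X] [IsLocallyNoetherian Y]
    (f : X ⟶ Y) (x : X) (hreg : IsRegularLocalRing (Y.presheaf.stalk (f.base x)))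
    (hCM : LocCoh.IsCohenMacaulayLocalRing (X.presheaf.stalk x))
    (hdim : ringKrullDim (X.presheaf.stalk x) =
      ringKrullDim (Y.presheaf.stalk (f.base x)) +
        ringKrullDim ((f.fiber (f.base x)).presheaf.stalk (f.asFiber x))) :
    (f.stalkMap x).hom.Flat := by
  algebraize [(f.stalkMap x).hom]
  haveI : IsLocalHom (algebraMap (Y.presheaf.stalk (f.base x)) (X.presheaf.stalk x)) :=
    inferInstanceAs (IsLocalHom (f.stalkMap x).hom)
  show Module.Flat (Y.presheaf.stalk (f.base x)) (X.presheaf.stalk x)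
  refine Groth.Agent.Lib.helper17.Miracle.flat_of_cm (Y.presheaf.stalk (f.base x))
    (X.presheaf.stalk x) (X.presheaf.stalk x) hCM.supportDim_eq_depth ?_
  set I : Ideal (X.presheaf.stalk x) :=
    (maximalIdeal (Y.presheaf.stalk (f.base x))).map
      (algebraMap (Y.presheaf.stalk (f.base x)) (X.presheaf.stalk x)) with hI
  have hItop : (I • (⊤ : Submodule (X.presheaf.stalk x) (X.presheaf.stalk x))) = I := by
    rw [smul_eq_mul, Ideal.mul_top]
  rw [Module.supportDim_self_eq_ringKrullDim,
    Module.supportDim_eq_of_equiv (Submodule.quotEquivOfEq _ _ hItop),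
    Module.supportDim_quotient_eq_ringKrullDim, hdim,
    ← Groth.Agent.Lib.helper17.FibreDim.dim_fibRing f x]
  rfl

/-- flat at a point ⇒ universally open on a neighbourhood. -/
theorem exists_universallyOpen_of_flat {X Y : Scheme.{u}} (f : X ⟶ Y)
    [LocallyOfFinitePresentation f] (x : X) (hfl : (f.stalkMap x).hom.Flat) :
    ∃ U : X.Opens, x ∈ U ∧ UniversallyOpen (U.ι ≫ f) := by
  let U : X.Opens := ⟨{x' : X | (f.stalkMap x').hom.Flat},
    Groth.Agent.Lib.helper3.FlatDesc.isOpen_flatLocus_of_locallyOfFinitePresentation f⟩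
  refine ⟨U, hfl, ?_⟩
  haveI : Flat (U.ι ≫ f) := by
    apply Flat.of_stalkMap
    intro u
    rw [Scheme.Hom.stalkMap_comp]
    have hu : (f.stalkMap (U.ι.base u)).hom.Flat := by
      have : U.ι.base u ∈ U := by simp
      exact this
    exact RingHom.Flat.comp hu
      (RingHom.Flat.of_bijective (ConcreteCategory.bijective_of_isIso (U.ι.stalkMap u)))
  infer_instance

/-- universally open on a neighbourhood of `x` ⇒ open at all generisations in the fibre. -/
theorem isOpenAt_of_universallyOpen {X Y : Scheme.{u}} (f : X ⟶ Y) (x : X)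
    (U : X.Opens) (hxU : x ∈ U) (hU : UniversallyOpen (U.ι ≫ f))
    (z : ↥(f.fiber (f.base x))) (hz : f.asFiber x ∈ closure {z}) :
    EGA43.IsOpenAt f.base ((f.fiberι (f.base x)).base z) := by
  set w := (f.fiberι (f.base x)).base z with hw
  have hspec : w ⤳ x := by
    have h1 : z ⤳ f.asFiber x := specializes_iff_mem_closure.mpr hz
    have h2 := h1.map (f.fiberι (f.base x)).continuous
    rwa [Scheme.Hom.fiberι_asFiber] at h2
  have hwU : w ∈ U := hspec.mem_open U.2 hxU
  intro N hN
  have hopen : IsOpenMap (U.ι ≫ f).base := (U.ι ≫ f).isOpenMap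
  rw [mem_nhds_iff] at hN ⊢
  obtain ⟨V, hVN, hVo, hwV⟩ := hN
  refine ⟨f.base '' (V ∩ U), Set.image_mono (Set.inter_subset_left.trans hVN), ?_,
    ⟨w, ⟨hwV, hwU⟩, rfl⟩⟩
  have : f.base '' (V ∩ U) = (U.ι ≫ f).base '' (U.ι.base ⁻¹' V) := by
    ext y
    constructor
    · rintro ⟨a, ⟨haV, haU⟩, rfl⟩
      exact ⟨⟨a, haU⟩, haV, rfl⟩
    · rintro ⟨a, haV, rfl⟩
      exact ⟨U.ι.base a, ⟨haV, a.2⟩, rfl⟩
  rw [this]
  exact hopen _ (hVo.preimage U.ι.continuous)

/-- Let Y be locally Noetherian, f : X ⟶ Y locally of finite type, x a point of X and y = f x; suppose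
O_{Y,y} is regular and O_{X,x} is Cohen–Macaulay. The following are equivalent: a) O_{Y,y} ⟶ O_{X,x}
is flat and the local ring of X_y at x is Cohen–Macaulay; b) O_{Y,y} ⟶ O_{X,x} is flat; c) the
restriction of f to some open neighbourhood of x is universally open; d) f is open at the generic
point of every irreducible component of X_y through x; e') dim O_{X,x} = dim O_{Y,y} + dim
O_{X_y,x}. -/
theorem result {X Y : Scheme.{u}} [IsLocallyNoetherian Y] (f : X ⟶ Y)
    [LocallyOfFiniteType f] (x : X) (hreg : IsRegularLocalRing (Y.presheaf.stalk (f.base x)))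
    (hCM : LocCoh.IsCohenMacaulayLocalRing (X.presheaf.stalk x)) :
    List.TFAE [
      (f.stalkMap x).hom.Flat ∧ LocCoh.IsCohenMacaulayLocalRing ((f.fiber (f.base x)).presheaf.stalk (f.asFiber x)),
      (f.stalkMap x).hom.Flat,
      ∃ U : X.Opens, x ∈ U ∧ UniversallyOpen (U.ι ≫ f),
      (∀ z : ↥(f.fiber (f.base x)), f.asFiber x ∈ closure {z} →
          (∀ z' : ↥(f.fiber (f.base x)), z ∈ closure {z'} → z' = z) →
          EGA43.IsOpenAt f.base ((f.fiberι (f.base x)).base z)),
      ringKrullDim (X.presheaf.stalk x) =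
        ringKrullDim (Y.presheaf.stalk (f.base x)) + ringKrullDim ((f.fiber (f.base x)).presheaf.stalk (f.asFiber x)) ] := by
  haveI : IsLocallyNoetherian X := LocallyOfFiniteType.isLocallyNoetherian f
  haveI : LocallyOfFinitePresentation f := inferInstance
  tfae_have 1 → 2 := fun h => h.1
  tfae_have 2 → 1 := fun h => ⟨h, cm_fibre_of_flat f x hreg hCM h⟩
  tfae_have 2 → 3 := fun h => exists_universallyOpen_of_flat f x h
  tfae_have 3 → 4 := by
    rintro ⟨U, hxU, hU⟩ z hz _
    exact isOpenAt_of_universallyOpen f x U hxU hU z hz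
  tfae_have 4 → 5 := fun h => Groth.Agent.Lib.helper3.OpenAtDim.dim_formula_of_isOpenAt f x h
  tfae_have 5 → 2 := fun h => flat_of_dim_formula f x hreg hCM h
  tfae_finish

end Groth.Agent.S3440
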