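import Groth.Statements.S7634
import Mathlib

set_option autoImplicit false
universe u
open CategoryTheory CategoryTheory.Limits AlgebraicGeometry
open scoped TensorProduct
open Variety

namespace Groth.Agent.S7634

/-- the polynomial ring is standard smooth of relative dimension the number of variables. -/
theorem isStandardSmoothOfRelativeDimension_mvPolynomial (A : Type u) [CommRing A] [Nontrivial A]
    (r : ℕ) : Algebra.IsStandardSmoothOfRelativeDimension r A (MvPolynomial (Fin r) A) := by
  haveI : Algebra.IsStandardSmooth A (MvPolynomial (Fin r) A) := by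
    rw [Algebra.IsStandardSmooth.iff_exists_basis_kaehlerDifferential]
    refine ⟨inferInstance, ⟨Fin r, KaehlerDifferential.mvPolynomialBasis A (Fin r), ?_⟩⟩
    rintro _ ⟨i, rfl⟩
    exact ⟨MvPolynomial.X i, (KaehlerDifferential.mvPolynomialBasis_apply A (Fin r) i).symm⟩
  rw [Algebra.IsStandardSmoothOfRelativeDimension.iff_of_isStandardSmooth]
  rw [rank_eq_card_basis (KaehlerDifferential.mvPolynomialBasis A (Fin r))]
  simp

/-- a family of `r` elements whose differentials span `κ(q) ⊗ Ω`. -/
theorem exists_span_differentials (A B : Type u) [CommRing A] [CommRing B] [Algebra A B]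
    [Algebra.FiniteType A B] (q : Ideal B) [q.IsPrime] (r : ℕ)
    (hr : Module.finrank q.ResidueField (q.ResidueField ⊗[B] Ω[B⁄A]) = r) :
    ∃ s : Fin r → B, Submodule.span q.ResidueField
      (Set.range fun i => (1 : q.ResidueField) ⊗ₜ[B] KaehlerDifferential.D A B (s i)) = ⊤ := by
  set K := q.ResidueField with hK
  set S : Set (K ⊗[B] Ω[B⁄A]) :=
    Set.range (fun b : B => (1 : K) ⊗ₜ[B] KaehlerDifferential.D A B b) with hS
  have hspan : Submodule.span K S = ⊤ := by
    have h1 : S = TensorProduct.mk B K Ω[B⁄A] 1 '' Set.range (KaehlerDifferential.D A B) := by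
      rw [hS, ← Set.range_comp]; rfl
    rw [h1, ← Submodule.baseChange_span, KaehlerDifferential.span_range_derivation,
      Submodule.baseChange_top]
  obtain ⟨b, hbS, hbspan, hli⟩ := exists_linearIndependent K S
  have hb_top : Submodule.span K (Set.range (Subtype.val : b → K ⊗[B] Ω[B⁄A])) = ⊤ := by
    rw [Subtype.range_coe, hbspan, hspan]
  let bas : Module.Basis b K (K ⊗[B] Ω[B⁄A]) := Module.Basis.mk hli hb_top.ge
  haveI : Finite b := Module.Finite.finite_basis bas
  have hcard : Nat.card b = r := by
    rw [← hr, Module.finrank_eq_nat_card_basis bas]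
  haveI : Fintype b := Fintype.ofFinite b
  have hcard' : Fintype.card b = r := by rw [← Nat.card_eq_fintype_card, hcard]
  let e : Fin r ≃ b := (Fintype.equivFinOfCardEq hcard').symm
  have hex : ∀ i : Fin r, ∃ x : B, (1 : K) ⊗ₜ[B] KaehlerDifferential.D A B x = (e i).1 :=
    fun i => hbS (e i).2
  choose s hs using hex
  refine ⟨s, ?_⟩
  have : (Set.range fun i => (1 : K) ⊗ₜ[B] KaehlerDifferential.D A B (s i)) = b := by
    ext v
    constructor
    · rintro ⟨i, rfl⟩
      change (1 : K) ⊗ₜ[B] KaehlerDifferential.D A B (s i) ∈ b
      rw [hs i]; exact (e i).2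
    · intro hv
      refine ⟨e.symm ⟨v, hv⟩, ?_⟩
      change (1 : K) ⊗ₜ[B] KaehlerDifferential.D A B (s (e.symm ⟨v, hv⟩)) = v
      rw [hs]; simp
  rw [this, hbspan, hspan]

/-- Let A → B be a finite type ring map, q a prime of B and r = dim_{κ(q)} Ω_{B/A} ⊗_B κ(q). Then there
are g in B with g not in q, an A-algebra D which is standard smooth of relative dimension r over A,
and a surjective A-algebra homomorphism D → B[1/g]; that is, the principal open D(g) containing q is
a closed subscheme of Spec D with D smooth of relative dimension r over A. (The published statement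
is for a morphism X → S locally of finite type, a point x and an affine open V ⊆ S under it, and
gives an affine open neighbourhood of x with a closed immersion over V into a scheme smooth of
relative dimension r over V; this row states the case X = Spec B, S = Spec A, with the neighbourhood
a principal open D(g) and the smooth scheme standard smooth.) -/
theorem result (A B : Type u) [CommRing A] [CommRing B] [Algebra A B] [Algebra.FiniteType A B]
    (q : Ideal B) [q.IsPrime] (r : ℕ) (hr : Module.finrank q.ResidueField (q.ResidueField ⊗[B] Ω[B⁄A]) = r) :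
    ∃ g : B, g ∉ q ∧ ∃ (D : Type u) (_ : CommRing D) (_ : Algebra A D),
      Algebra.IsStandardSmoothOfRelativeDimension r A D ∧
        ∃ φ : D →ₐ[A] Localization.Away g, Function.Surjective φ := by
  haveI : Nontrivial B := ⟨⟨0, 1, fun h => (inferInstance : q.IsPrime).ne_top
    (Ideal.eq_top_of_isUnit_mem _ q.zero_mem (h ▸ isUnit_one))⟩⟩
  haveI : Nontrivial A := (algebraMap A B).domain_nontrivial
  obtain ⟨s, hs⟩ := exists_span_differentials A B q r hr
  letI algPB : Algebra (MvPolynomial (Fin r) A) B :=
    (MvPolynomial.aeval s : MvPolynomial (Fin r) A →ₐ[A] B).toRingHom.toAlgebra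
  haveI : IsScalarTower A (MvPolynomial (Fin r) A) B := IsScalarTower.of_algebraMap_eq' (by
    ext a
    simp [RingHom.algebraMap_toAlgebra])
  haveI : Algebra.FiniteType (MvPolynomial (Fin r) A) B :=
    Algebra.FiniteType.of_restrictScalars_finiteType A (MvPolynomial (Fin r) A) B
  have hX : ∀ i, algebraMap (MvPolynomial (Fin r) A) B (MvPolynomial.X i) = s i := by
    intro i
    simp [RingHom.algebraMap_toAlgebra]
  -- `B` is unramified over the polynomial ring at `q`
  haveI hunr : Algebra.IsUnramifiedAt (MvPolynomial (Fin r) A) q := by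
    have hmem : (⟨q, inferInstance⟩ : PrimeSpectrum B) ∈
        Algebra.unramifiedLocus (MvPolynomial (Fin r) A) B := by
      rw [Algebra.unramifiedLocus_eq_compl_support, Set.mem_compl_iff,
        Module.mem_support_iff_nontrivial_residueField_tensorProduct,
        not_nontrivial_iff_subsingleton]
      let ψ : q.ResidueField ⊗[B] Ω[B⁄A] →ₗ[q.ResidueField]
          q.ResidueField ⊗[B] Ω[B⁄MvPolynomial (Fin r) A] :=
        (KaehlerDifferential.map A (MvPolynomial (Fin r) A) B B).baseChange q.ResidueField
      have hψs : Function.Surjective ψ := by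
        have h1 : Function.Surjective (KaehlerDifferential.map A (MvPolynomial (Fin r) A) B B) :=
          KaehlerDifferential.map_surjective A (MvPolynomial (Fin r) A) B
        have h2 := LinearMap.lTensor_surjective q.ResidueField h1
        exact h2
      have hψ0 : ∀ v, ψ v = 0 := by
        intro v
        have hv : v ∈ Submodule.span q.ResidueField (Set.range fun i =>
            (1 : q.ResidueField) ⊗ₜ[B] KaehlerDifferential.D A B (s i)) := hs ▸ Submodule.mem_top
        induction hv using Submodule.span_induction with
        | mem x hx =>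
          obtain ⟨i, rfl⟩ := hx
          change (KaehlerDifferential.map A (MvPolynomial (Fin r) A) B B).baseChange
            q.ResidueField ((1 : q.ResidueField) ⊗ₜ[B] KaehlerDifferential.D A B (s i)) = 0
          rw [LinearMap.baseChange_tmul, KaehlerDifferential.map_D, ← hX i]
          simp
        | zero => simp
        | add x y _ _ hx hy => rw [map_add, hx, hy, add_zero]
        | smul a x _ hx => rw [map_smul, hx, smul_zero]
      refine ⟨fun a b => ?_⟩
      obtain ⟨a', rfl⟩ := hψs a
      obtain ⟨b', rfl⟩ := hψs b
      rw [hψ0, hψ0]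
    exact hmem
  obtain ⟨g, hg, Pair, φ, hφ⟩ :=
    Algebra.IsUnramifiedAt.exists_hasStandardEtaleSurjectionOn (R := MvPolynomial (Fin r) A) q
  letI algAD : Algebra A Pair.Ring :=
    ((algebraMap (MvPolynomial (Fin r) A) Pair.Ring).comp
      (algebraMap A (MvPolynomial (Fin r) A))).toAlgebra
  haveI : IsScalarTower A (MvPolynomial (Fin r) A) Pair.Ring := IsScalarTower.of_algebraMap_eq' rfl
  refine ⟨g, hg, Pair.Ring, inferInstance, algAD, ?_, ?_⟩
  · haveI h1 := isStandardSmoothOfRelativeDimension_mvPolynomial A r
    haveI h2 : Algebra.IsStandardSmoothOfRelativeDimension 0 (MvPolynomial (Fin r) A) Pair.Ring :=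
      Algebra.Etale.iff_isStandardSmoothOfRelativeDimension_zero.mp inferInstance
    have h3 := Algebra.IsStandardSmoothOfRelativeDimension.trans (n := r) (m := 0) (R := A)
      (S := MvPolynomial (Fin r) A) (T := Pair.Ring)
    rwa [zero_add] at h3
  · exact ⟨φ.restrictScalars A, hφ⟩

end Groth.Agent.S7634
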