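import Groth.Statements.S2063
import Mathlib
import Groth.Agent.S7634
import Groth.Agent.LibLocalDimFormula29
import Groth.Agent.Lib.Helper5.SmoothFibreDim
import Groth.Agent.Lib.Helper5.FibreDimLocal
import Groth.Agent.Lib.Helper24.SmoothRegular
import Groth.Agent.Lib.Helper15.Regular
import Groth.Agent.Lib.Helper15.FittLink

set_option autoImplicit false
universe u
open CAlg

namespace Groth.Agent.S2063

open AlgebraicGeometry CategoryTheory
open scoped TensorProduct
open Groth.Agent.Lib.helper15

set_option backward.isDefEq.respectTransparency.types false in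
/-- local dimension of `Spec D` for `D` standard smooth of relative dimension `n` over a field -/
theorem localDim_stdSmooth (k D : Type u) [Field k] [CommRing D] [Algebra k D] (n : ℕ)
    [Algebra.IsStandardSmoothOfRelativeDimension n k D] (Q : PrimeSpectrum D) :
    FlatMor.localDim (PrimeSpectrum D) Q = (n : WithBot ℕ∞) := by
  let f : Spec (CommRingCat.of D) ⟶ Spec (CommRingCat.of k) :=
    Spec.map (CommRingCat.ofHom (algebraMap k D))
  haveI : SmoothOfRelativeDimension n f := by
    rw [HasRingHomProperty.Spec_iff (P := @SmoothOfRelativeDimension n)]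
    exact RingHom.locally_of RingHom.isStandardSmoothOfRelativeDimension_respectsIso _
        ((RingHom.isStandardSmoothOfRelativeDimension_algebraMap n).mpr inferInstance)
  have h1 := Groth.Agent.Lib.helper5.SmoothFibreDim.fibreDimAt_of_smoothOfRelativeDimension n f Q
  rw [Groth.Agent.Lib.helper5.FibreDimLocal.fibreDimAt_eq_localDim_preimage] at h1
  have huniv : (f ⁻¹' {f Q} : Set (Spec (CommRingCat.of D))) = Set.univ := by
    ext z
    simp only [Set.mem_preimage, Set.mem_singleton_iff, Set.mem_univ, iff_true]
    exact Subsingleton.elim _ _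
  rw [Groth.Agent.Lib.helper5.FibreDimLocal.localDim_congr_set huniv Q rfl] at h1
  rw [← h1]
  exact (Groth.Agent.Lib.helper5.FibreDimLocal.localDim_eq_of_isOpenEmbedding
    (fun z : ((Set.univ : Set (Spec (CommRingCat.of D))) : Type u) => (z.1 : PrimeSpectrum D))
    (isOpen_univ (X := PrimeSpectrum D)).isOpenEmbedding_subtypeVal ⟨Q, trivial⟩).symm

/-- local dimension is invariant under localization away from an element -/
theorem localDim_away (S : Type u) [CommRing S] (g : S) (q' : PrimeSpectrum (Localization.Away g)) :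
    FlatMor.localDim (PrimeSpectrum (Localization.Away g)) q' =
      FlatMor.localDim (PrimeSpectrum S) (PrimeSpectrum.comap (algebraMap S (Localization.Away g)) q') :=
  Groth.Agent.Lib.helper5.FibreDimLocal.localDim_eq_of_isOpenEmbedding _
    (PrimeSpectrum.localization_away_isOpenEmbedding (Localization.Away g) g) q'

/-- if `d • M ⊆ span (g_1..g_p)` with `d ∉ q` then `κ(q) ⊗ M` has dimension at most `p` -/
theorem finrank_le_of_smul_mem_span {B : Type u} [CommRing B] {M : Type u} [AddCommGroup M]
    [Module B M] (q : Ideal B) [q.IsPrime] (p : ℕ) (d : B) (hd : d ∉ q) (g : Fin p → M)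
    (hg : ∀ m : M, d • m ∈ Submodule.span B (Set.range g)) :
    Module.finrank q.ResidueField (q.ResidueField ⊗[B] M) ≤ p := by
  set K := q.ResidueField with hK
  have hspan : Submodule.span K (Set.range fun i => (1 : K) ⊗ₜ[B] g i) = ⊤ := by
    have h1 : (Set.range fun i => (1 : K) ⊗ₜ[B] g i) =
        TensorProduct.mk B K M 1 '' Set.range g := by
      rw [← Set.range_comp]; rfl
    rw [h1, ← Submodule.baseChange_span, eq_top_iff]
    rintro x -
    induction x using TensorProduct.induction_on with
    | zero => exact zero_mem _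
    | add x y hx hy => exact add_mem hx hy
    | tmul k m =>
      have hdK : algebraMap B K d ≠ 0 := by
        rwa [Ne, Ideal.algebraMap_residueField_eq_zero]
      have h2 : k ⊗ₜ[B] m = (k * (algebraMap B K d)⁻¹) • ((1 : K) ⊗ₜ[B] (d • m)) := by
        rw [TensorProduct.tmul_smul, TensorProduct.smul_tmul', TensorProduct.smul_tmul',
          smul_eq_mul, Algebra.smul_def, mul_one, mul_assoc, inv_mul_cancel₀ hdK, mul_one]
      rw [h2]
      exact Submodule.smul_mem _ _ (Submodule.tmul_mem_baseChange_of_mem _ (hg m))
  have := finrank_range_le_card (R := K) (fun i => (1 : K) ⊗ₜ[B] g i)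
  rw [Set.finrank, hspan, finrank_top, Fintype.card_fin] at this
  exact this

theorem finrank_le_of_stdSmooth_away (A S : Type u) [CommRing A] [CommRing S] [Algebra A S]
    [Algebra.FiniteType A S] (q : Ideal S) [q.IsPrime] (g : S) (hg : g ∉ q) (n : ℕ)
    [Algebra.IsStandardSmoothOfRelativeDimension n A (Localization.Away g)] :
    Module.finrank q.ResidueField (q.ResidueField ⊗[S] Ω[S⁄A]) ≤ n := by
  set T := Localization.Away g with hT
  haveI : Nontrivial T := FittLink.nontrivial_away_of_notMem q hg
  have hrank := Algebra.IsStandardSmoothOfRelativeDimension.rank_kaehlerDifferential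
    (R := A) (S := T) n
  haveI : Algebra.IsStandardSmooth A T :=
    Algebra.IsStandardSmoothOfRelativeDimension.isStandardSmooth n
  have hfin : Module.finrank T Ω[T⁄A] = n := by rw [Module.finrank, hrank]; simp
  let b : Module.Basis (Fin n) T Ω[T⁄A] := Module.finBasisOfFinrankEq T Ω[T⁄A] hfin
  have h1 : Fitt.ideal T Ω[T⁄A] n = ⊤ := FittLink.fitt_eq_top_of_span b b.span_eq le_rfl
  haveI : Algebra.FormallyEtale S T := Algebra.FormallyEtale.of_isLocalization (.powers g)
  have hbc : IsBaseChange T (KaehlerDifferential.map A A S T) :=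
    KaehlerDifferential.isBaseChange_of_formallyEtale A S T
  rw [FittLink.fitt_of_isBaseChange _ hbc n] at h1
  have hnle : ¬ Fitt.ideal S Ω[S⁄A] n ≤ q := by
    intro hle
    have h2 := Ideal.map_mono (f := algebraMap S T) hle
    rw [h1, top_le_iff] at h2
    have hdisj : Disjoint (Submonoid.powers g : Set S) (q : Set S) := by
      rw [Set.disjoint_left]
      rintro _ ⟨k, rfl⟩ hq
      exact hg (Ideal.IsPrime.mem_of_pow_mem inferInstance _ hq)
    exact (IsLocalization.isPrime_of_isPrime_disjoint (.powers g) T q inferInstance hdisj).ne_top h2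
  obtain ⟨d, hd, -, g₁, hg₁⟩ := FittLink.exists_smul_mem_span_of_not_le n q hnle
  exact finrank_le_of_smul_mem_span q n d hd g₁ hg₁

theorem localRingHom_bijective (k D T : Type u) [Field k] [CommRing D] [CommRing T] [Algebra k D]
    [Algebra k T] (r : ℕ) [Algebra.IsStandardSmoothOfRelativeDimension r k D] (φ : D →ₐ[k] T)
    (hφ : Function.Surjective φ) (q' : Ideal T) [q'.IsPrime]
    (hr : (r : WithBot ℕ∞) ≤ FlatMor.localDim (PrimeSpectrum T) ⟨q', inferInstance⟩) :
    Function.Bijective (Localization.localRingHom (q'.comap φ.toRingHom) q' φ.toRingHom rfl) := by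
  set Q := q'.comap φ.toRingHom with hQ
  haveI : Algebra.IsStandardSmooth k D :=
    Algebra.IsStandardSmoothOfRelativeDimension.isStandardSmooth r
  haveI : Algebra.FiniteType k T := Algebra.FiniteType.of_surjective φ hφ
  haveI : IsNoetherianRing D := Algebra.FiniteType.isNoetherianRing k D
  haveI : IsNoetherianRing T := Algebra.FiniteType.isNoetherianRing k T
  obtain ⟨b, hb⟩ := Groth.Agent.Lib.helper3.FTField.exists_nat_trdeg_quotient k Q
  obtain ⟨a, ha⟩ := ENat.ne_top_iff_exists.mp
    (Ideal.height_ne_top (Ideal.IsPrime.ne_top inferInstance) : Q.height ≠ ⊤)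
  obtain ⟨a', ha'⟩ := ENat.ne_top_iff_exists.mp
    (Ideal.height_ne_top (Ideal.IsPrime.ne_top inferInstance) : q'.height ≠ ⊤)
  have hb' : Algebra.trdeg k (T ⧸ q') = b := by
    rw [← hb]
    have hbij : Function.Bijective (Ideal.quotientMapₐ q' φ (le_refl Q)) :=
      ⟨Ideal.quotientMap_injective (I := q') (f := (φ : D →+* T)),
        Ideal.quotientMap_surjective (H := le_refl Q) hφ⟩
    exact (AlgEquiv.trdeg_eq (AlgEquiv.ofBijective _ hbij)).symm
  have h1 := Groth.Agent.LibLocalDimFormula29.localDim_eq_height_add_trdeg k Q a b ha.symm hb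
  rw [localDim_stdSmooth k D r ⟨Q, _⟩] at h1
  have h2 := Groth.Agent.LibLocalDimFormula29.localDim_eq_height_add_trdeg k q' a' b ha'.symm hb'
  rw [h2] at hr
  have hle : a ≤ a' := by
    have e1 : r = a + b := by exact_mod_cast h1
    have e2 : r ≤ a' + b := by exact_mod_cast hr
    omega
  have hsurj := RingHom.surjective_localRingHom_of_surjective φ.toRingHom hφ q'
  refine ⟨?_, hsurj⟩
  haveI : Algebra.IsSmoothAt k Q := by
    have : (⟨Q, inferInstance⟩ : PrimeSpectrum D) ∈ Algebra.smoothLocus k D := by
      rw [Algebra.smoothLocus_eq_univ]; trivial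
    exact this
  haveI : IsRegularLocalRing (Localization.AtPrime Q) :=
    Groth.Agent.Lib.Helper24.SmoothRegular.isRegularLocalRing_atPrime_of_smoothAt k D Q
  haveI : IsDomain (Localization.AtPrime Q) := isDomain_of_isRegularLocalRing _
  rw [injective_iff_map_eq_zero]
  intro x hx
  by_contra hne
  have h3 := ringKrullDim_succ_le_of_surjective _ hsurj (mem_nonZeroDivisors_of_ne_zero hne) hx
  rw [IsLocalization.AtPrime.ringKrullDim_eq_height Q (Localization.AtPrime Q),
    IsLocalization.AtPrime.ringKrullDim_eq_height q' (Localization.AtPrime q'), ← ha, ← ha'] at h3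
  have : a' + 1 ≤ a := by exact_mod_cast h3
  omega

theorem main {k S : Type u} [Field k] [CommRing S] [Algebra k S]
    [Algebra.FiniteType k S] (q : Ideal S) [q.IsPrime] :
    Algebra.IsSmoothAt k q ↔
      ((Module.finrank q.ResidueField (q.ResidueField ⊗[S] Ω[S⁄k]) : ℕ∞) : WithBot ℕ∞) ≤
        FlatMor.localDim (PrimeSpectrum S) ⟨q, inferInstance⟩ := by
  have key : ∀ g : S, g ∉ q → ∃ q' : PrimeSpectrum (Localization.Away g),
      PrimeSpectrum.comap (algebraMap S (Localization.Away g)) q' = ⟨q, inferInstance⟩ := by
    intro g hg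
    have hdisj : Disjoint (Submonoid.powers g : Set S) (q : Set S) := by
      rw [Set.disjoint_left]
      rintro _ ⟨k, rfl⟩ hq
      exact hg (Ideal.IsPrime.mem_of_pow_mem inferInstance _ hq)
    refine ⟨⟨q.map (algebraMap S (Localization.Away g)),
      IsLocalization.isPrime_of_isPrime_disjoint (.powers g) _ q inferInstance hdisj⟩, ?_⟩
    ext1
    exact IsLocalization.under_map_of_isPrime_disjoint (.powers g) _ inferInstance hdisj
  constructor
  · intro hsm
    haveI : Algebra.FinitePresentation k S := Algebra.FinitePresentation.of_finiteType.mp inferInstance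
    obtain ⟨g, hg, hstd⟩ := Algebra.IsSmoothAt.exists_notMem_isStandardSmooth k q
    obtain ⟨n, hn⟩ : ∃ n, Algebra.IsStandardSmoothOfRelativeDimension n k (Localization.Away g) := by
      obtain ⟨ι, σ, h1, h2, ⟨P⟩⟩ := hstd
      exact ⟨P.dimension, ⟨ι, σ, h1, h2, P, rfl⟩⟩
    have h1 := finrank_le_of_stdSmooth_away k S q g hg n
    obtain ⟨q', hq'⟩ := key g hg
    have h2 := localDim_away S g q'
    rw [localDim_stdSmooth k _ n q', hq'] at h2
    rw [← h2]
    exact_mod_cast h1
  · intro hle
    obtain ⟨g, hg, D, _, _, hD, φ, hφ⟩ := Groth.Agent.S7634.result k S q _ rfl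
    obtain ⟨q', hq'⟩ := key g hg
    have h2 := localDim_away S g q'
    rw [hq'] at h2
    have hr : ((Module.finrank q.ResidueField (q.ResidueField ⊗[S] Ω[S⁄k]) : ℕ) : WithBot ℕ∞) ≤
        FlatMor.localDim (PrimeSpectrum (Localization.Away g)) ⟨q'.asIdeal, inferInstance⟩ := by
      change _ ≤ FlatMor.localDim (PrimeSpectrum (Localization.Away g)) q'
      rw [h2]; exact_mod_cast hle
    have hbij := localRingHom_bijective k D (Localization.Away g) _ φ hφ q'.asIdeal hr
    haveI : Algebra.IsStandardSmooth k D :=
      Algebra.IsStandardSmoothOfRelativeDimension.isStandardSmooth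
        (Module.finrank q.ResidueField (q.ResidueField ⊗[S] Ω[S⁄k]))
    set Q := q'.asIdeal.comap φ.toRingHom with hQ
    have hQs : Algebra.FormallySmooth k (Localization.AtPrime Q) := by
      have : (⟨Q, inferInstance⟩ : PrimeSpectrum D) ∈ Algebra.smoothLocus k D := by
        rw [Algebra.smoothLocus_eq_univ]; trivial
      exact this
    let e : Localization.AtPrime Q ≃ₐ[k] Localization.AtPrime q'.asIdeal :=
      AlgEquiv.ofBijective
        { Localization.localRingHom Q q'.asIdeal φ.toRingHom rfl with
          commutes' := fun c => by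
            change Localization.localRingHom Q q'.asIdeal φ.toRingHom rfl
              (algebraMap k (Localization.AtPrime Q) c) = _
            rw [IsScalarTower.algebraMap_apply k D (Localization.AtPrime Q),
              Localization.localRingHom_to_map,
              IsScalarTower.algebraMap_apply k (Localization.Away g)
                (Localization.AtPrime q'.asIdeal)]
            congr 1
            exact φ.commutes c } hbij
    have h3 : q' ∈ Algebra.smoothLocus k (Localization.Away g) :=
      Algebra.FormallySmooth.of_equiv e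
    rw [← Algebra.smoothLocus_comap_of_isLocalization g] at h3
    change PrimeSpectrum.comap (algebraMap S (Localization.Away g)) q' ∈ Algebra.smoothLocus k S at h3
    rw [hq'] at h3
    exact h3

open TensorProduct in
/-- Let `S` be of finite type over a field `k` and `𝔮` a prime of `S`. Smoothness of `S` over `k` at `𝔮`
holds exactly when the `κ(𝔮)`-dimension of `Ω_{S/k} ⊗ κ(𝔮)` is at most the local dimension of `Spec
S` at `𝔮`. -/
theorem result {k S : Type u} [Field k] [CommRing S] [Algebra k S]
    [Algebra.FiniteType k S] (q : Ideal S) [q.IsPrime] :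
    Algebra.IsSmoothAt k q ↔
      ((Module.finrank q.ResidueField (q.ResidueField ⊗[S] Ω[S⁄k]) : ℕ∞) : WithBot ℕ∞) ≤
        FlatMor.localDim (PrimeSpectrum S) ⟨q, inferInstance⟩ := by
  exact main q

end Groth.Agent.S2063
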