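import Groth.Statements.S4993
import Mathlib
import Groth.Agent.Lib.Helper5.SmoothFibreDim
import Groth.Agent.Lib.Helper7.LfpOfComp

set_option autoImplicit false
universe u
open CategoryTheory CategoryTheory.Limits AlgebraicGeometry TopologicalSpace
open Unram17

namespace Groth.Agent.S4993

open CategoryTheory.Limits TensorProduct

open FlatMor

open KaehlerDifferential in
/-- `R → A → B`, with `B` formally smooth over `R` and formally unramified over `A`, and `Ω[A⁄R]`, `Ω[B⁄R]` free of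
the same finite rank: then `B` is formally étale over `A`. -/
theorem formallyEtale_of_rank_eq (R A B : Type u) [CommRing R] [CommRing A] [CommRing B]
    [Algebra R A] [Algebra R B] [Algebra A B] [IsScalarTower R A B]
    [Algebra.FormallySmooth R B] [Algebra.FormallyUnramified A B]
    [Module.Free A Ω[A⁄R]] [Module.Free B Ω[B⁄R]] (n : ℕ)
    (hA : Module.rank A Ω[A⁄R] = n) (hB : Module.rank B Ω[B⁄R] = n) :
    Algebra.FormallyEtale A B := by
  rcases subsingleton_or_nontrivial B with hsub | hnt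
  · exact ⟨Module.subsingleton B _, Module.subsingleton B _⟩
  haveI : Nontrivial A := (algebraMap A B).domain_nontrivial
  -- the source of `mapBaseChange`
  have hTrank : Module.rank B (B ⊗[A] Ω[A⁄R]) = n := by
    rw [Module.rank_baseChange, hA]; simp
  haveI : Module.Finite B Ω[B⁄R] := Module.finite_of_rank_eq_nat hB
  haveI : Module.Finite B (B ⊗[A] Ω[A⁄R]) := Module.finite_of_rank_eq_nat hTrank
  have hsurj : Function.Surjective (mapBaseChange R A B) := by
    intro x
    have hex := KaehlerDifferential.exact_mapBaseChange_map R A B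
    exact (hex x).mp (Subsingleton.elim _ _)
  obtain ⟨e⟩ : Nonempty (Ω[B⁄R] ≃ₗ[B] (B ⊗[A] Ω[A⁄R])) :=
    nonempty_linearEquiv_of_rank_eq (by rw [hB, hTrank])
  have hinj : Function.Injective (mapBaseChange R A B) := by
    have h1 : Function.Surjective (e.toLinearMap ∘ₗ mapBaseChange R A B) :=
      e.surjective.comp hsurj
    have h2 := OrzechProperty.injective_of_surjective_endomorphism _ h1
    exact Function.Injective.of_comp h2
  -- H¹ vanishes
  have hδ0 : ∀ x, Algebra.H1Cotangent.δ R A B x = 0 := by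
    intro x
    apply hinj
    rw [map_zero]
    exact (Algebra.H1Cotangent.exact_δ_mapBaseChange R A B _).mpr ⟨x, rfl⟩
  have hH1 : Subsingleton (Algebra.H1Cotangent A B) := by
    refine ⟨fun x y => ?_⟩
    have hx : ∀ z : Algebra.H1Cotangent A B, z = 0 := by
      intro z
      obtain ⟨w, rfl⟩ := (Algebra.H1Cotangent.exact_map_δ R A B z).mp (hδ0 z)
      rw [Subsingleton.elim w 0, map_zero]
    rw [hx x, hx y]
  exact ⟨inferInstance, hH1⟩


/-- the local fibre dimension from a standard smooth chart. -/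
theorem fibreDimAt_of_chart (n : ℕ) {X Y : Scheme.{u}} (f : X ⟶ Y) (U : Y.Opens)
    (hU : IsAffineOpen U) (V : X.Opens) (hV : IsAffineOpen V) (x : X) (hxV : x ∈ V)
    (e : V ≤ f ⁻¹ᵁ U) (hf : (f.appLE U V e).hom.IsStandardSmoothOfRelativeDimension n) :
    fibreDimAt f x = (n : WithBot ℕ∞) := by
  obtain ⟨g, hgC, hg⟩ := hf.exists_etale_mvPolynomial
  obtain ⟨x', rfl⟩ : ∃ x' : Spec Γ(X, V), hV.fromSpec x' = x := by
    have : x ∈ Set.range hV.fromSpec := by rw [hV.range_fromSpec]; exact hxV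
    exact this
  haveI : Etale (Spec.map (CommRingCat.ofHom g)) := by
    rw [HasRingHomProperty.Spec_iff (P := @Etale)]
    exact hg
  have hfac : Spec.map (f.appLE U V e) = Spec.map (CommRingCat.ofHom g) ≫
      Spec.map (CommRingCat.ofHom (MvPolynomial.C : Γ(Y, U) →+* MvPolynomial (Fin n) Γ(Y, U))) := by
    rw [← Spec.map_comp, ← CommRingCat.ofHom_comp, hgC]
    rfl
  rw [← Groth.Agent.Lib.helper5.FibreDimLocal.fibreDimAt_comp_etale_left hV.fromSpec f x',
    ← IsAffineOpen.SpecMap_appLE_fromSpec f hU hV e,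
    Groth.Agent.Lib.helper5.FibreDimLocal.fibreDimAt_comp_etale_right, hfac,
    Groth.Agent.Lib.helper5.FibreDimLocal.fibreDimAt_comp_etale_left,
    Groth.Agent.Lib.helper5.SmoothFibreDim.fibreDimAt_affineSpace]

/-- shrink a chart of a smooth morphism to a standard smooth one. -/
theorem exists_basicOpen_isStandardSmooth {X Y : Scheme.{u}} (f : X ⟶ Y) [Smooth f]
    (U : Y.Opens) (hU : IsAffineOpen U) (V : X.Opens) (hV : IsAffineOpen V) (e : V ≤ f ⁻¹ᵁ U)
    (x : X) (hx : x ∈ V) :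
    ∃ (r : Γ(X, V)) (_ : x ∈ X.basicOpen r) (n : ℕ),
      (f.appLE U (X.basicOpen r) ((X.basicOpen_le r).trans e)).hom.IsStandardSmoothOfRelativeDimension
        n := by
  have h1 : (f.appLE U V e).hom.Smooth := f.smooth_appLE hU hV e
  have h2 := h1.locally_isStandardSmooth
  rw [RingHom.locally_iff_isLocalization RingHom.isStandardSmooth_respectsIso] at h2
  obtain ⟨s, hs, hfs⟩ := h2
  have hs' := iSup_basicOpen_of_span_eq_top V (s : Set Γ(X, V)) hs
  have hx' : x ∈ (⨆ i ∈ (s : Set Γ(X, V)), X.basicOpen i) := hs'.symm ▸ hx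
  obtain ⟨r, hr, hrs⟩ : ∃ r ∈ s, x ∈ X.basicOpen r := by simpa using hx'
  have hloc : IsLocalization.Away r Γ(X, X.basicOpen r) := hV.isLocalization_basicOpen r
  have h3 := hfs r hr Γ(X, X.basicOpen r)
  have h4 : (f.appLE U (X.basicOpen r) ((X.basicOpen_le r).trans e)).hom.IsStandardSmooth := by
    rw [← f.appLE_map e (homOfLE (X.basicOpen_le r)).op]
    exact h3
  algebraize [(f.appLE U (X.basicOpen r) ((X.basicOpen_le r).trans e)).hom]
  obtain ⟨ι, σ, hσ, hι, ⟨P⟩⟩ := (inferInstance : Algebra.IsStandardSmooth Γ(Y, U) Γ(X, X.basicOpen r))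
  exact ⟨r, hrs, P.dimension, P.isStandardSmoothOfRelativeDimension rfl⟩

/-- the key local statement: a flat chart of `g` at `x`. -/
theorem exists_flat_chart {X Y S : Scheme.{u}} (f : Y ⟶ S) (g : X ⟶ Y) [Smooth f] [Smooth (g ≫ f)]
    [Mono g] (x : X) (hdim : fibreDimAt f (g x) = fibreDimAt (g ≫ f) x) :
    ∃ (U : Y.affineOpens) (V : X.affineOpens) (_ : x ∈ V.1) (e : V.1 ≤ g ⁻¹ᵁ U.1),
      (g.appLE U V e).hom.Flat := by
  haveI : LocallyOfFinitePresentation g :=
    Groth.Agent.Lib.helper7.locallyOfFinitePresentation_of_comp g f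
  obtain ⟨U₀, hU₀, hsU₀, -⟩ := TopologicalSpace.Opens.isBasis_iff_nbhd.mp S.isBasis_affineOpens
    (TopologicalSpace.Opens.mem_top (f (g x)))
  obtain ⟨VA, hVA, hyVA, eA⟩ := TopologicalSpace.Opens.isBasis_iff_nbhd.mp Y.isBasis_affineOpens
    (show g x ∈ f ⁻¹ᵁ U₀ from hsU₀)
  obtain ⟨a, hya, m, hm⟩ := exists_basicOpen_isStandardSmooth f U₀ hU₀ VA hVA eA (g x) hyVA
  have hVA' : IsAffineOpen (Y.basicOpen a) := hVA.basicOpen a
  obtain ⟨VB, hVB, hxVB, eB⟩ := TopologicalSpace.Opens.isBasis_iff_nbhd.mp X.isBasis_affineOpens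
    (show x ∈ g ⁻¹ᵁ (Y.basicOpen a) from hya)
  have eA' : Y.basicOpen a ≤ f ⁻¹ᵁ U₀ := (Y.basicOpen_le a).trans eA
  have eh : VB ≤ (g ≫ f) ⁻¹ᵁ U₀ := fun z hz => eA' (eB hz)
  obtain ⟨b, hxb, n, hn⟩ := exists_basicOpen_isStandardSmooth (g ≫ f) U₀ hU₀ VB hVB eh x hxVB
  have hVB' : IsAffineOpen (X.basicOpen b) := hVB.basicOpen b
  have eB' : X.basicOpen b ≤ g ⁻¹ᵁ (Y.basicOpen a) := (X.basicOpen_le b).trans eB
  have hmn : m = n := by
    have h1 := fibreDimAt_of_chart m f U₀ hU₀ (Y.basicOpen a) hVA' (g x) hya eA' hm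
    have h2 := fibreDimAt_of_chart n (g ≫ f) U₀ hU₀ (X.basicOpen b) hVB' x hxb
      ((X.basicOpen_le b).trans eh) hn
    rw [h1, h2] at hdim
    exact_mod_cast hdim
  subst hmn
  refine ⟨⟨Y.basicOpen a, hVA'⟩, ⟨X.basicOpen b, hVB'⟩, hxb, eB', ?_⟩
  set φ := f.appLE U₀ (Y.basicOpen a) eA' with hφ
  set ψ := g.appLE (Y.basicOpen a) (X.basicOpen b) eB' with hψ
  have hcomp : φ ≫ ψ = (g ≫ f).appLE U₀ (X.basicOpen b) ((X.basicOpen_le b).trans eh) :=
    Scheme.Hom.appLE_comp_appLE g f U₀ (Y.basicOpen a) (X.basicOpen b) eA' eB'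
  have hn' : (ψ.hom.comp φ.hom).IsStandardSmoothOfRelativeDimension m := by
    have : ψ.hom.comp φ.hom =
        ((g ≫ f).appLE U₀ (X.basicOpen b) ((X.basicOpen_le b).trans eh)).hom := by
      rw [← hcomp]; rfl
    rw [this]; exact hn
  have hunr : ψ.hom.FormallyUnramified :=
    HasRingHomProperty.appLE (P := @FormallyUnramified) g inferInstance ⟨_, hVA'⟩ ⟨_, hVB'⟩ eB'
  have hfp : ψ.hom.FinitePresentation := g.finitePresentation_appLE hVA' hVB' eB'
  letI : Algebra Γ(S, U₀) Γ(Y, Y.basicOpen a) := φ.hom.toAlgebra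
  letI : Algebra Γ(Y, Y.basicOpen a) Γ(X, X.basicOpen b) := ψ.hom.toAlgebra
  letI : Algebra Γ(S, U₀) Γ(X, X.basicOpen b) := (ψ.hom.comp φ.hom).toAlgebra
  haveI : IsScalarTower Γ(S, U₀) Γ(Y, Y.basicOpen a) Γ(X, X.basicOpen b) :=
    IsScalarTower.of_algebraMap_eq' rfl
  haveI hA1 : Algebra.IsStandardSmoothOfRelativeDimension m Γ(S, U₀) Γ(Y, Y.basicOpen a) := hm
  haveI hB1 : Algebra.IsStandardSmoothOfRelativeDimension m Γ(S, U₀) Γ(X, X.basicOpen b) := hn'
  haveI : Algebra.FormallyUnramified Γ(Y, Y.basicOpen a) Γ(X, X.basicOpen b) := hunr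
  haveI : Algebra.FinitePresentation Γ(Y, Y.basicOpen a) Γ(X, X.basicOpen b) := hfp
  haveI hA2 : Algebra.IsStandardSmooth Γ(S, U₀) Γ(Y, Y.basicOpen a) :=
    Algebra.IsStandardSmoothOfRelativeDimension.isStandardSmooth m
  haveI hB2 : Algebra.IsStandardSmooth Γ(S, U₀) Γ(X, X.basicOpen b) :=
    Algebra.IsStandardSmoothOfRelativeDimension.isStandardSmooth m
  show Module.Flat Γ(Y, Y.basicOpen a) Γ(X, X.basicOpen b)
  rcases subsingleton_or_nontrivial Γ(X, X.basicOpen b) with hsub | hnt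
  · infer_instance
  haveI : Nontrivial Γ(Y, Y.basicOpen a) :=
    (algebraMap Γ(Y, Y.basicOpen a) Γ(X, X.basicOpen b)).domain_nontrivial
  haveI : Algebra.FormallySmooth Γ(S, U₀) Γ(X, X.basicOpen b) := inferInstance
  have hEt := formallyEtale_of_rank_eq Γ(S, U₀) Γ(Y, Y.basicOpen a) Γ(X, X.basicOpen b) m
    (Algebra.IsStandardSmoothOfRelativeDimension.rank_kaehlerDifferential m)
    (Algebra.IsStandardSmoothOfRelativeDimension.rank_kaehlerDifferential m)
  haveI : Algebra.Etale Γ(Y, Y.basicOpen a) Γ(X, X.basicOpen b) := ⟨hEt, hfp⟩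
  infer_instance

/-- Let f : Y ⟶ S and h : X ⟶ S be smooth and let g : X ⟶ Y satisfy g ≫ f = h. Then g is an open
immersion if and only if g is a monomorphism and, for every point x of X, the local dimension at
g(x) of the fibre of f through g(x) equals the local dimension at x of the fibre of h through x. -/
theorem result {X Y S : Scheme.{u}} (f : Y ⟶ S) (h : X ⟶ S)
    [Smooth f] [Smooth h] (g : X ⟶ Y) (w : g ≫ f = h) :
    IsOpenImmersion g ↔ Mono g ∧ ∀ x : ↥X, FlatMor.fibreDimAt f (g.base x) = FlatMor.fibreDimAt h x := by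
  subst w
  constructor
  · intro hg
    exact ⟨inferInstance, fun x =>
      (Groth.Agent.Lib.helper5.FibreDimLocal.fibreDimAt_comp_etale_left g f x).symm⟩
  · rintro ⟨hmono, hdim⟩
    haveI : LocallyOfFinitePresentation g :=
      Groth.Agent.Lib.helper7.locallyOfFinitePresentation_of_comp g f
    haveI : Flat g := by
      rw [HasRingHomProperty.iff_exists_appLE (P := @Flat)
        (RingHom.Flat.stableUnderComposition.stableUnderCompositionWithLocalizationAway
          RingHom.Flat.holdsForLocalizationAway).left]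
      intro x
      exact exists_flat_chart f g x (hdim x)
    exact IsOpenImmersion.of_flat_of_mono g

end Groth.Agent.S4993
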