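import Groth.Statements.S5022
import Mathlib
import Groth.Agent.S2063
import Groth.Agent.S4993
import Groth.Agent.LibFibreDimBridge29
import Groth.Agent.Lib.Helper18.SmoothFiber
import Groth.Agent.Lib.Helper7.OmegaStruct
import Groth.Agent.Lib.Helper7.OmegaQCoh
import Groth.Agent.Lib.Helper16.FLF1
import Groth.Agent.Lib.Helper16.FLF2

set_option autoImplicit false
universe u
open CategoryTheory CategoryTheory.Limits AlgebraicGeometry TopologicalSpace
open Unram17

namespace Groth.Agent.S5022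

open scoped TensorProduct

attribute [local instance] Algebra.TensorProduct.rightAlgebra in
/-- the differentials of the fibre ring are spanned by the images of generators -/
theorem span_fiber_differentials (A B : Type u) [CommRing A] [CommRing B] [Algebra A B]
    (p : Ideal A) [p.IsPrime] (n : ℕ) (g : Fin n → Ω[B⁄A])
    (hg : Submodule.span B (Set.range g) = ⊤) :
    Submodule.span (p.Fiber B) (Set.range fun i =>
      KaehlerDifferential.map A p.ResidueField B (p.Fiber B) (g i)) = ⊤ := by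
  have hbc := KaehlerDifferential.isBaseChange A p.ResidueField B (p.Fiber B)
  rw [eq_top_iff]
  rintro x -
  refine hbc.inductionOn x _ (zero_mem _) ?_ ?_ ?_
  · intro m
    have hm : m ∈ Submodule.span B (Set.range g) := by rw [hg]; trivial
    change KaehlerDifferential.map A p.ResidueField B (p.Fiber B) m ∈ _
    induction hm using Submodule.span_induction with
    | mem z hz =>
      obtain ⟨i, rfl⟩ := hz
      exact Submodule.subset_span ⟨i, rfl⟩
    | zero => simp
    | add x y _ _ hx hy => rw [map_add]; exact add_mem hx hy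
    | smul a x _ hx =>
      rw [map_smul, ← algebraMap_smul (p.Fiber B) a]
      exact Submodule.smul_mem _ _ hx
  · intro s y hy
    rw [← algebraMap_smul (p.Fiber B) s]
    exact Submodule.smul_mem _ _ hy
  · intro y z hy hz
    exact add_mem hy hz

/-- flat at `q`, `Ω` generated by `n` elements, `n ≤` fibre dimension at `q` ⇒ smooth at `q` -/
theorem isSmoothAt_of_flat_of_span (A B : Type u) [CommRing A] [CommRing B] [Algebra A B]
    [Algebra.FinitePresentation A B] (q : Ideal B) [hq : q.IsPrime]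
    (hflat : Module.Flat A (Localization.AtPrime q)) (n : ℕ) (g : Fin n → Ω[B⁄A])
    (hg : Submodule.span B (Set.range g) = ⊤)
    (hdim : (n : WithBot ℕ∞) ≤ FlatMor.fibreDimAt (Spec.map (CommRingCat.ofHom (algebraMap A B)))
      (⟨q, hq⟩ : PrimeSpectrum B)) :
    Algebra.IsSmoothAt A q := by
  set p : Ideal A := q.under A with hp
  let Q : PrimeSpectrum (p.Fiber B) :=
    PrimeSpectrum.primesOverOrderIsoFiber A B p ⟨q, ⟨hq, ⟨rfl⟩⟩⟩
  have hQ : Q.asIdeal.comap (Algebra.TensorProduct.includeRight : B →ₐ[A] p.Fiber B) = q := by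
    have := (PrimeSpectrum.primesOverOrderIsoFiber A B p).symm_apply_apply ⟨q, ⟨hq, ⟨rfl⟩⟩⟩
    exact congrArg Subtype.val this
  have hQ' : (PrimeSpectrum.comap Algebra.TensorProduct.includeRight.toRingHom Q :
      PrimeSpectrum B) = ⟨q, hq⟩ := PrimeSpectrum.ext hQ
  have h1 := Groth.Agent.LibFibreDimBridge29.fibreDimAt_comap_includeRight A B ⟨p, inferInstance⟩ Q
  rw [hQ'] at h1
  rw [h1] at hdim
  have hsm : Algebra.IsSmoothAt p.ResidueField Q.asIdeal := by
    rw [Groth.Agent.S2063.main]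
    refine le_trans ?_ hdim
    have h2 := Groth.Agent.S2063.finrank_le_of_smul_mem_span Q.asIdeal n 1
      (fun h => Q.isPrime.ne_top ((Ideal.eq_top_iff_one _).mpr h)) _
      (fun m => by
        rw [one_smul, span_fiber_differentials A B p n g hg]; trivial)
    exact_mod_cast h2
  have keyflat : ∀ (q' : Ideal B) [hq' : q'.IsPrime], q' = q →
      Module.Flat A (Localization.AtPrime q') := by
    rintro q' hq' rfl; exact hflat
  have h3 := Groth.Agent.Lib.Helper18.SmoothFiber.isSmoothAt_of_isSmoothAt_fiber p Q.asIdeal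
    (keyflat _ hQ) hsm
  have key : ∀ (q' : Ideal B) [hq' : q'.IsPrime], q' = q → Algebra.IsSmoothAt A q' →
      Algebra.IsSmoothAt A q := by
    rintro q' hq' rfl h; exact h
  exact key _ hQ h3

set_option backward.isDefEq.respectTransparency.types false in
theorem flat_atPrime_of_flat_stalkMap {X Y : Scheme.{u}} (f : X ⟶ Y) (x : X) (W : Y.Opens)
    (hW : IsAffineOpen W) (V : X.Opens) (hV : IsAffineOpen V) (e : V ≤ f ⁻¹ᵁ W) (hxV : x ∈ V)
    (hfl : (f.stalkMap x).hom.Flat) :
    letI := (f.appLE W V e).hom.toAlgebra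
    Module.Flat Γ(Y, W) (Localization.AtPrime (hV.primeIdealOf ⟨x, hxV⟩).asIdeal) := by
  letI := (f.appLE W V e).hom.toAlgebra
  have h1 := (RingHom.Flat.respectsIso.arrow_mk_iso_iff
    (IsAffineOpen.arrowStalkMapIso f W hW V hV e hxV)).mp hfl
  set p := (hW.primeIdealOf ⟨f x, e hxV⟩).asIdeal with hp
  have h2 : (algebraMap Γ(Y, W) (Localization.AtPrime p)).Flat :=
    RingHom.flat_algebraMap_iff.mpr (IsLocalization.flat _ p.primeCompl)
  have h3 := RingHom.Flat.comp h2 h1
  rw [← RingHom.flat_algebraMap_iff]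
  have heq : algebraMap Γ(Y, W) (Localization.AtPrime (hV.primeIdealOf ⟨x, hxV⟩).asIdeal) =
      (Localization.localRingHom p (hV.primeIdealOf ⟨x, hxV⟩).asIdeal (f.appLE W V e).hom
        congr($(IsAffineOpen.comap_primeIdealOf_appLE W hW V hV e hxV).1).symm).comp
        (algebraMap Γ(Y, W) (Localization.AtPrime p)) := by
    ext a
    rw [RingHom.comp_apply, Localization.localRingHom_to_map,
      IsScalarTower.algebraMap_apply Γ(Y, W) Γ(X, V)
        (Localization.AtPrime (hV.primeIdealOf ⟨x, hxV⟩).asIdeal)]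
    rfl
  rw [heq]
  exact h3

set_option backward.isDefEq.respectTransparency.types false in
/-- the fibre dimension can be computed in an affine chart -/
theorem fibreDimAt_chart {X Y : Scheme.{u}} (f : X ⟶ Y) (W : Y.Opens)
    (hW : IsAffineOpen W) (V : X.Opens) (hV : IsAffineOpen V) (e : V ≤ f ⁻¹ᵁ W) (x : X)
    (hxV : x ∈ V) :
    FlatMor.fibreDimAt f x =
      FlatMor.fibreDimAt (Spec.map (f.appLE W V e)) (hV.primeIdealOf ⟨x, hxV⟩) := by
  have hx : hV.fromSpec (hV.primeIdealOf ⟨x, hxV⟩) = x := hV.fromSpec_primeIdealOf ⟨x, hxV⟩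
  conv_lhs => rw [← hx]
  rw [← Groth.Agent.Lib.helper5.FibreDimLocal.fibreDimAt_comp_etale_left hV.fromSpec f,
    ← IsAffineOpen.SpecMap_appLE_fromSpec f hW hV e,
    Groth.Agent.Lib.helper5.FibreDimLocal.fibreDimAt_comp_etale_right]

set_option backward.isDefEq.respectTransparency.types false in
theorem bwd {X Y : Scheme.{u}} (f : X ⟶ Y)
    [LocallyOfFinitePresentation f] (Ω' : X.Modules) (d : OmegaSh.Der f Ω') (hd : OmegaSh.IsUniversal d) (x : ↥X)
    (hfl : (f.stalkMap x).hom.Flat) (U : X.Opens) (n : ℕ) (hxU : x ∈ U)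
    (iso : Ω'.restrict U.ι ≅ FlatMod.freeMod (↑U) n)
    (hdim : FlatMor.fibreDimAt f x = (n : WithBot ℕ∞)) : x ∈ f.smoothLocus := by
  obtain ⟨W, hW, hxW, -⟩ := Opens.isBasis_iff_nbhd.mp Y.isBasis_affineOpens
      (show f x ∈ (⊤ : Y.Opens) from trivial)
  obtain ⟨V, hV, hxV, hVle⟩ := Opens.isBasis_iff_nbhd.mp X.isBasis_affineOpens
      (show x ∈ U ⊓ f ⁻¹ᵁ W from ⟨hxU, hxW⟩)
  have hVU : V ≤ U := hVle.trans inf_le_left
  have e : V ≤ f ⁻¹ᵁ W := hVle.trans inf_le_right
  obtain ⟨isoV⟩ := Groth.Agent.Lib.helper16.FLF.restrict_iso_freeMod_of_le Ω' hVU n iso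
  obtain ⟨e1⟩ := Groth.Agent.Lib.helper16.FLF.sections_of_restrict_iso_freeMod Ω' hV n isoV
  letI := (f.appLE W V e).hom.toAlgebra
  obtain ⟨ψ, -⟩ := Groth.Agent.Lib.helper7.OmegaStruct.exists_sectionsEquiv f d hd hV hW e
  haveI : Algebra.FinitePresentation Γ(Y, W) Γ(X, V) := f.finitePresentation_appLE hW hV e
  rw [Scheme.Hom.mem_smoothLocus, formallySmooth_stalkMap_iff W hW V hV e hxV]
  let b : Module.Basis (Fin n) Γ(X, V) Ω[Γ(X, V)⁄Γ(Y, W)] :=
    (Pi.basisFun Γ(X, V) (Fin n)).map (e1.symm ≪≫ₗ ψ)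
  refine isSmoothAt_of_flat_of_span Γ(Y, W) Γ(X, V) (hV.primeIdealOf ⟨x, hxV⟩).asIdeal
    (flat_atPrime_of_flat_stalkMap f x W hW V hV e hxV hfl) n b b.span_eq ?_
  rw [← hdim, fibreDimAt_chart f W hW V hV e x hxV]
  exact le_of_eq rfl

set_option backward.isDefEq.respectTransparency.types false in
/-- shrink a smooth chart to a standard smooth one. -/
theorem exists_basicOpen_isStandardSmooth' {X Y : Scheme.{u}} (f : X ⟶ Y)
    (U : Y.Opens) (_hU : IsAffineOpen U) (V : X.Opens) (hV : IsAffineOpen V) (e : V ≤ f ⁻¹ᵁ U)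
    (h1 : (f.appLE U V e).hom.Smooth) (x : X) (hx : x ∈ V) :
    ∃ (r : Γ(X, V)) (_ : x ∈ X.basicOpen r) (n : ℕ),
      (f.appLE U (X.basicOpen r) ((X.basicOpen_le r).trans e)).hom.IsStandardSmoothOfRelativeDimension
        n := by
  have h2 := h1.locally_isStandardSmooth
  rw [RingHom.locally_iff_isLocalization RingHom.isStandardSmooth_respectsIso] at h2
  obtain ⟨s, hs, hfs⟩ := h2
  have hs' := iSup_basicOpen_of_span_eq_top V (s : Set Γ(X, V)) hs
  have hx' : x ∈ (⨆ i ∈ (s : Set Γ(X, V)), X.basicOpen i) := hs'.symm ▸ hx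
  obtain ⟨r, hr, hrs⟩ : ∃ r ∈ s, x ∈ X.basicOpen r := by simpa using hx'
  have hloc : IsLocalization.Away r Γ(X, X.basicOpen r) := hV.isLocalization_basicOpen r
  have h3 := hfs r hr Γ(X, X.basicOpen r)
  have h4 : (f.appLE U (X.basicOpen r) ((X.basicOpen_le r).trans e)).hom.IsStandardSmooth := by
    rw [← f.appLE_map e (homOfLE (X.basicOpen_le r)).op]
    exact h3
  algebraize [(f.appLE U (X.basicOpen r) ((X.basicOpen_le r).trans e)).hom]
  obtain ⟨ι, σ, hσ, hι, ⟨P⟩⟩ := (inferInstance : Algebra.IsStandardSmooth Γ(Y, U) Γ(X, X.basicOpen r))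
  exact ⟨r, hrs, P.dimension, P.isStandardSmoothOfRelativeDimension rfl⟩

set_option backward.isDefEq.respectTransparency.types false in
theorem fwd {X Y : Scheme.{u}} (f : X ⟶ Y)
    [LocallyOfFinitePresentation f] (Ω' : X.Modules) (d : OmegaSh.Der f Ω') (hd : OmegaSh.IsUniversal d) (x : ↥X)
    (hx : x ∈ f.smoothLocus) :
    (f.stalkMap x).hom.Flat ∧
        ∃ (U : X.Opens) (n : ℕ), x ∈ U ∧ Nonempty (Ω'.restrict U.ι ≅ FlatMod.freeMod (↑U) n) ∧
          FlatMor.fibreDimAt f x = (n : WithBot ℕ∞) := by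
  haveI : Ω'.IsQuasicoherent :=
    Groth.Agent.Lib.helper7.OmegaQCoh.isQuasicoherent_of_isUniversal f d hd
  obtain ⟨U₀, hU₀, V, hV, eV, hxV, hsm⟩ := exists_smooth_of_formallySmooth_stalk f x hx
  constructor
  · rw [RingHom.Flat.respectsIso.arrow_mk_iso_iff
      (IsAffineOpen.arrowStalkMapIso f U₀ hU₀ V hV eV hxV)]
    exact RingHom.Flat.localRingHom hsm.flat _ _
      congr($(IsAffineOpen.comap_primeIdealOf_appLE U₀ hU₀ V hV eV hxV).1).symm
  obtain ⟨r, hxr, n, hn⟩ := exists_basicOpen_isStandardSmooth' f U₀ hU₀ V hV eV hsm x hxV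
  have hVr : IsAffineOpen (X.basicOpen r) := hV.basicOpen r
  have e' : X.basicOpen r ≤ f ⁻¹ᵁ U₀ := (X.basicOpen_le r).trans eV
  refine ⟨X.basicOpen r, n, hxr, ?_,
    Groth.Agent.S4993.fibreDimAt_of_chart n f U₀ hU₀ _ hVr x hxr e' hn⟩
  letI := (f.appLE U₀ (X.basicOpen r) e').hom.toAlgebra
  obtain ⟨ψ, -⟩ := Groth.Agent.Lib.helper7.OmegaStruct.exists_sectionsEquiv f d hd hVr hU₀ e'
  haveI h1 : Algebra.IsStandardSmoothOfRelativeDimension n Γ(Y, U₀) Γ(X, X.basicOpen r) := hn
  haveI h2 : Algebra.IsStandardSmooth Γ(Y, U₀) Γ(X, X.basicOpen r) :=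
    Algebra.IsStandardSmoothOfRelativeDimension.isStandardSmooth n
  haveI : Nontrivial Γ(X, X.basicOpen r) :=
    @Scheme.component_nontrivial X (X.basicOpen r) ⟨⟨x, hxr⟩⟩
  have hrank : Module.rank Γ(X, X.basicOpen r) Ω[Γ(X, X.basicOpen r)⁄Γ(Y, U₀)] = n :=
    Algebra.IsStandardSmoothOfRelativeDimension.rank_kaehlerDifferential n
  obtain ⟨e2⟩ : Nonempty (Ω[Γ(X, X.basicOpen r)⁄Γ(Y, U₀)] ≃ₗ[Γ(X, X.basicOpen r)]
      (Fin n → Γ(X, X.basicOpen r))) :=
    nonempty_linearEquiv_of_rank_eq (by rw [hrank, rank_fun']; simp)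
  exact Groth.Agent.Lib.helper16.FLF.restrict_iso_freeMod_of_sections Ω' hVr n (ψ ≪≫ₗ e2)

/-- Let f : X ⟶ Y be locally of finite presentation, (Ω', d) a sheaf of differentials of X over Y (d
universal) and x a point of X. Then f is smooth at x if and only if the stalk map at x is flat and
there are an open neighbourhood U of x and an integer n with Ω' free of rank n on U and n equal to
the local dimension at x of the fibre of f through x. -/
theorem result {X Y : Scheme.{u}} (f : X ⟶ Y)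
    [LocallyOfFinitePresentation f] (Ω' : X.Modules) (d : OmegaSh.Der f Ω') (hd : OmegaSh.IsUniversal d) (x : ↥X) :
    x ∈ f.smoothLocus ↔
      (f.stalkMap x).hom.Flat ∧
        ∃ (U : X.Opens) (n : ℕ), x ∈ U ∧ Nonempty (Ω'.restrict U.ι ≅ FlatMod.freeMod (↑U) n) ∧
          FlatMor.fibreDimAt f x = (n : WithBot ℕ∞) := by
  constructor
  · exact fwd f Ω' d hd x
  · rintro ⟨hfl, U, n, hxU, ⟨iso⟩, hdim⟩
    exact bwd f Ω' d hd x hfl U n hxU iso hdim

end Groth.Agent.S5022
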