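import Groth.Statements.S7658
import Mathlib
-- import your own Groth.Agent.* helpers here

set_option autoImplicit false
universe u
open CategoryTheory CategoryTheory.Limits AlgebraicGeometry
open Variety

namespace Groth.Agent.S7658

/-- A point whose closure is an irreducible component has no proper generization. -/
theorem eq_of_specializes_of_mem_irreducibleComponents {T : Type*} [TopologicalSpace T] [T0Space T]
    {ξ ξ' : T} (hξ : closure ({ξ} : Set T) ∈ irreducibleComponents T) (h : ξ' ⤳ ξ) : ξ' = ξ := by
  have h1 : closure ({ξ} : Set T) ⊆ closure ({ξ'} : Set T) := by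
    rw [← specializes_iff_closure_subset]
    exact h
  have h2 : closure ({ξ'} : Set T) ⊆ closure ({ξ} : Set T) :=
    hξ.2 (isIrreducible_singleton.closure) h1
  have h3 : ξ ⤳ ξ' := by
    rw [specializes_iff_closure_subset]
    exact h2
  exact (h.antisymm h3).eq

/-- A point with no proper generization in a quasi-sober space generates an irreducible component. -/
theorem mem_irreducibleComponents_of_forall_specializes {T : Type*} [TopologicalSpace T]
    [QuasiSober T] {ξ : T} (h : ∀ ξ' : T, ξ' ⤳ ξ → ξ' = ξ) :
    closure ({ξ} : Set T) ∈ irreducibleComponents T := by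
  refine ⟨isIrreducible_singleton.closure, fun S hS hle => ?_⟩
  have hScl : IsIrreducible (closure S) := hS.closure
  obtain ⟨ζ, hζ⟩ := QuasiSober.sober hScl isClosed_closure
  have h1 : ζ ⤳ ξ := by
    rw [specializes_iff_mem_closure, hζ.def]
    exact subset_closure (hle (subset_closure rfl))
  rw [h ζ h1] at hζ
  rw [hζ.def]
  exact subset_closure

/-- Every point of a quasi-sober space is a specialization of a generic point of an irreducible
component. -/
theorem exists_generic_specializes {T : Type*} [TopologicalSpace T] [QuasiSober T] (p : T) :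
    ∃ ζ : T, ζ ⤳ p ∧ closure ({ζ} : Set T) ∈ irreducibleComponents T := by
  have hirr : IsIrreducible (irreducibleComponent p) := isIrreducible_irreducibleComponent
  obtain ⟨ζ, hζ⟩ := QuasiSober.sober hirr isClosed_irreducibleComponent
  refine ⟨ζ, ?_, ?_⟩
  · rw [specializes_iff_mem_closure, hζ.def]
    exact mem_irreducibleComponent
  · rw [hζ.def]
    exact irreducibleComponent_mem_irreducibleComponents p

/-- A separated morphism of schemes f : X → Y such that X has an open covering on whose members f
restricts to open immersions, and such that no two distinct generic points of irreducible components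
of X have the same image under f, is an open immersion. -/
theorem result {X Y : Scheme.{u}}
    (f : X ⟶ Y) [IsSeparated f]
    (hloc : ∀ x : X, ∃ U : X.Opens, x ∈ U ∧ IsOpenImmersion (U.ι ≫ f))
    (hinj : ∀ ξ ξ' : X, closure ({ξ} : Set X) ∈ irreducibleComponents (X : Type u) → closure ({ξ'} : Set X) ∈ irreducibleComponents (X : Type u) →
      f.base ξ = f.base ξ' → ξ = ξ') :
    IsOpenImmersion f := by
  have hli : IsLocalIso f := ⟨hloc⟩
  have hflat : Flat f := (IsLocalIso.le_of_isZariskiLocalAtSource @Flat) _ _ f hli
  have huo : UniversallyOpen f := (IsLocalIso.le_of_isZariskiLocalAtSource @UniversallyOpen) _ _ f hli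
  -- injectivity
  have hinj' : Function.Injective f.base := by
    intro x₁ x₂ hx
    obtain ⟨p, hp1, hp2⟩ := Scheme.Pullback.exists_preimage_pullback (f := f) (g := f) x₁ x₂ hx
    suffices hp : p ∈ Set.range (pullback.diagonal f).base by
      obtain ⟨x, rfl⟩ := hp
      rw [← hp1, ← hp2, ← Scheme.Hom.comp_apply, ← Scheme.Hom.comp_apply, pullback.diagonal_fst,
        pullback.diagonal_snd]
    by_contra hp
    have hcl : IsClosed (Set.range (pullback.diagonal f).base) :=
      (pullback.diagonal f).isClosedEmbedding.isClosed_range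
    obtain ⟨ζ, hζp, hζ⟩ := exists_generic_specializes p
    have hζC : ζ ∉ Set.range (pullback.diagonal f).base := fun h' =>
      hp (hζp.mem_closed hcl h')
    have hgen : ∀ (pr : pullback f f ⟶ X), Flat pr →
        closure ({pr.base ζ} : Set X) ∈ irreducibleComponents X := by
      intro pr hpr
      apply mem_irreducibleComponents_of_forall_specializes
      intro ξ' hξ'
      obtain ⟨ζ', hζ', rfl⟩ := Flat.generalizingMap pr hξ'
      rw [eq_of_specializes_of_mem_irreducibleComponents hζ hζ']
    have h1 := hgen (pullback.fst f f) inferInstance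
    have h2 := hgen (pullback.snd f f) inferInstance
    have heq : (pullback.fst f f).base ζ = (pullback.snd f f).base ζ := by
      apply hinj _ _ h1 h2
      rw [← Scheme.Hom.comp_apply, ← Scheme.Hom.comp_apply, pullback.condition]
    obtain ⟨U, hξU, hU⟩ := hloc ((pullback.fst f f).base ζ)
    have hmono : Mono (U.ι ≫ f) := inferInstance
    have hζr : ζ ∈ Set.range (pullback.map (U.ι ≫ f) (U.ι ≫ f) f f U.ι U.ι (𝟙 Y)
        (Category.comp_id _) (Category.comp_id _)).base := by
      rw [Scheme.Pullback.range_map]
      refine ⟨?_, ?_⟩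
      · show (pullback.fst f f).base ζ ∈ Set.range U.ι.base
        rw [Scheme.Opens.range_ι]
        exact hξU
      · show (pullback.snd f f).base ζ ∈ Set.range U.ι.base
        rw [Scheme.Opens.range_ι, ← heq]
        exact hξU
    obtain ⟨t, rfl⟩ := hζr
    apply hζC
    have hm : pullback.map (U.ι ≫ f) (U.ι ≫ f) f f U.ι U.ι (𝟙 Y)
        (Category.comp_id _) (Category.comp_id _) =
        (pullback.fst (U.ι ≫ f) (U.ι ≫ f) ≫ U.ι) ≫ pullback.diagonal f := by
      apply pullback.hom_ext
      · rw [pullback.lift_fst, Category.assoc, pullback.diagonal_fst, Category.comp_id]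
      · rw [pullback.lift_snd, Category.assoc, pullback.diagonal_snd, Category.comp_id,
          fst_eq_snd_of_mono_eq]
    rw [hm]
    exact ⟨_, rfl⟩
  have hemb : Topology.IsOpenEmbedding f.base :=
    .of_continuous_injective_isOpenMap f.continuous hinj' f.isOpenMap
  have hstalk : ∀ x, IsIso (f.stalkMap x) := by
    intro x
    obtain ⟨U, hxU, hU⟩ := hloc x
    have h1 : (U.ι ≫ f).stalkMap ⟨x, hxU⟩ = f.stalkMap (U.ι.base ⟨x, hxU⟩) ≫ U.ι.stalkMap ⟨x, hxU⟩ :=
      Scheme.Hom.stalkMap_comp U.ι f ⟨x, hxU⟩
    have h2 : IsIso (f.stalkMap (U.ι.base ⟨x, hxU⟩) ≫ U.ι.stalkMap ⟨x, hxU⟩) := by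
      rw [← h1]
      exact (IsOpenImmersion.iff_isIso_stalkMap.1 hU).2 _
    exact IsIso.of_isIso_comp_right (f.stalkMap (U.ι.base ⟨x, hxU⟩)) (U.ι.stalkMap ⟨x, hxU⟩)
  exact IsOpenImmersion.of_isIso_stalkMap f hemb

end Groth.Agent.S7658
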