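import Groth.Statements.S1162
import Groth.Agent.S7658
-- import your own Groth.Agent.* helpers here

set_option autoImplicit false
open CategoryTheory CategoryTheory.Limits AlgebraicGeometry Opposite
universe u
open Desc

namespace Groth.Agent.S1162

open Scheme.Pullback in
/-- Two points of a fibre product with the same projections coincide if the tensor product of the
residue fields has a single prime. -/
theorem eq_of_subsingleton_tensor {X Y S : Scheme.{u}} {f : X ⟶ S} {g : Y ⟶ S}
    (t₁ t₂ : ↑(pullback f g)) (h1 : (pullback.fst f g).base t₁ = (pullback.fst f g).base t₂)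
    (h2 : (pullback.snd f g).base t₁ = (pullback.snd f g).base t₂)
    (hs : Subsingleton (Spec (Triplet.ofPoint t₂).tensor)) : t₁ = t₂ := by
  apply (carrierEquiv (f := f) (g := g)).injective
  apply carrierEquiv_eq_iff.mpr
  have e : Triplet.ofPoint t₁ = Triplet.ofPoint t₂ := Triplet.ext h1 h2
  exact ⟨e, @Subsingleton.elim _ hs _ _⟩

open Scheme.Pullback in
/-- If the residue field extension at `x` is trivial, the tensor product of residue fields has a
single prime. -/
theorem subsingleton_tensor {X Y S : Scheme.{u}} {f : X ⟶ S} {g : Y ⟶ S} (T : Triplet f g)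
    (hsurj : Function.Surjective (f.residueFieldMap T.x).hom) :
    Subsingleton (Spec T.tensor) := by
  have hbij : Function.Bijective (f.residueFieldMap T.x).hom :=
    ⟨(f.residueFieldMap T.x).hom.injective, hsurj⟩
  have h1 : IsIso (f.residueFieldMap T.x) :=
    (ConcreteCategory.isIso_iff_bijective (f.residueFieldMap T.x)).2 hbij
  have h2 : IsIso ((S.residueFieldCongr T.hx).inv ≫ f.residueFieldMap T.x) := inferInstance
  have h3 : IsIso (T.tensorInr) := by
    unfold Triplet.tensorInr
    exact pushout_inr_iso_of_left_iso _ _
  have e : Spec T.tensor ≅ Spec (Y.residueField T.y) := asIso (Spec.map T.tensorInr)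
  exact e.hom.homeomorph.injective.subsingleton

/-- Let f : X ⟶ Y be flat and separated. Write X⁰ for the generic points of the irreducible components
of X. If for every ξ in X⁰ the residue field extension κ(f ξ) ⊆ κ(ξ) is trivial and f is injective
on X⁰, then f is universally injective. -/
theorem result {X Y : Scheme.{u}} (f : X ⟶ Y) [Flat f] [IsSeparated f]
    (h2 : ∀ ξ : X, closure ({ξ} : Set X) ∈ irreducibleComponents (X : Type u) →
      Function.Surjective (f.residueFieldMap ξ).hom)
    (h3 : Set.InjOn f.base {ξ : X | closure ({ξ} : Set X) ∈ irreducibleComponents (X : Type u)}) :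
    UniversallyInjective f := by
  rw [UniversallyInjective.iff_diagonal]
  constructor
  intro p
  by_contra hp
  have hcl : IsClosed (Set.range (pullback.diagonal f).base) :=
    (pullback.diagonal f).isClosedEmbedding.isClosed_range
  obtain ⟨ζ, hζp, hζ⟩ := Groth.Agent.S7658.exists_generic_specializes p
  have hζC : ζ ∉ Set.range (pullback.diagonal f).base := fun h' =>
    hp (hζp.mem_closed hcl h')
  have hgen : ∀ (pr : pullback f f ⟶ X), Flat pr →
      closure ({pr.base ζ} : Set X) ∈ irreducibleComponents X := by
    intro pr hpr
    apply Groth.Agent.S7658.mem_irreducibleComponents_of_forall_specializes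
    intro ξ' hξ'
    obtain ⟨ζ', hζ', rfl⟩ := Flat.generalizingMap pr hξ'
    rw [Groth.Agent.S7658.eq_of_specializes_of_mem_irreducibleComponents hζ hζ']
  have h1 := hgen (pullback.fst f f) inferInstance
  have h2' := hgen (pullback.snd f f) inferInstance
  have heq : (pullback.fst f f).base ζ = (pullback.snd f f).base ζ := by
    apply h3 h1 h2'
    rw [← Scheme.Hom.comp_apply, ← Scheme.Hom.comp_apply, pullback.condition]
  apply hζC
  refine ⟨(pullback.fst f f).base ζ, ?_⟩
  apply eq_of_subsingleton_tensor
  · rw [← Scheme.Hom.comp_apply, pullback.diagonal_fst]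
    rfl
  · rw [← Scheme.Hom.comp_apply, pullback.diagonal_snd]
    exact heq
  · exact subsingleton_tensor _ (h2 _ h1)

end Groth.Agent.S1162
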