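import Groth.Statements.S1163
import Mathlib.RingTheory.Flat.FaithfullyFlat.Algebra
import Mathlib.RingTheory.RingHom.Flat
-- import your own Groth.Agent.* helpers here

set_option autoImplicit false
open CategoryTheory CategoryTheory.Limits AlgebraicGeometry Opposite
universe u
open Desc

namespace Groth.Agent.S1163

open TensorProduct in
/-- `A → B → C → D` with `C` flat over `A` and `D` faithfully flat over `B`: then `B` is flat over `A`. -/
theorem flat_of_refined (A B C D : Type u) [CommRing A] [CommRing B] [CommRing C] [CommRing D]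
    [Algebra A B] [Algebra B C] [Algebra A C] [IsScalarTower A B C]
    [Algebra C D] [Algebra B D] [IsScalarTower B C D]
    [Algebra A D] [IsScalarTower A B D] [IsScalarTower A C D]
    [Module.Flat A C] [Module.FaithfullyFlat B D] : Module.Flat A B := by
  rw [Module.Flat.iff_lTensor_preserves_injective_linearMap]
  intro N P _ _ _ _ f hf
  have h1 : Function.Injective (f.lTensor C) :=
    Module.Flat.lTensor_preserves_injective_linearMap f hf
  let bc : B →ₗ[A] C := (IsScalarTower.toAlgHom A B C).toLinearMap
  let cd : C →ₗ[A] D := (IsScalarTower.toAlgHom A C D).toLinearMap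
  let bd : B →ₗ[A] D := (IsScalarTower.toAlgHom A B D).toLinearMap
  have hbd : bd = cd.comp bc := by
    ext b
    simp [bd, cd, bc, ← IsScalarTower.algebraMap_apply]
  -- `bd.rTensor N` is injective
  have hinj : Function.Injective (bd.rTensor N) := by
    let e := AlgebraTensorModule.cancelBaseChange A B B D N
    have hfac : ∀ x, bd.rTensor N x = e (TensorProduct.mk B D (B ⊗[A] N) 1 x) := by
      intro x
      induction x using TensorProduct.induction_on with
      | zero => simp
      | tmul b n => simp [e, bd, Algebra.smul_def]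
      | add x₁ x₂ h₁ h₂ => simp only [map_add, h₁, h₂]
    intro x y hxy
    rw [hfac, hfac] at hxy
    exact Module.FaithfullyFlat.tensorProduct_mk_injective (A := B) (B := D) _ (e.injective hxy)
  rw [injective_iff_map_eq_zero]
  intro x hx
  apply (injective_iff_map_eq_zero _).1 hinj
  have h2 : bc.rTensor N x = 0 := by
    apply (injective_iff_map_eq_zero _).1 h1
    have : (f.lTensor C).comp (bc.rTensor N) = (bc.rTensor P).comp (f.lTensor B) := by
      rw [LinearMap.lTensor_comp_rTensor, LinearMap.rTensor_comp_lTensor]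
    have h3 := LinearMap.congr_fun this x
    simp only [LinearMap.comp_apply] at h3
    rw [h3, hx, map_zero]
  rw [hbd, LinearMap.rTensor_comp, LinearMap.comp_apply, h2, map_zero]

/-- ring-hom version. -/
theorem ringHom_flat_of_refined {A B C D : Type u} [CommRing A] [CommRing B] [CommRing C]
    [CommRing D] [IsLocalRing B] [IsLocalRing D] (φ : A →+* B) (ψ : B →+* C) (χ : C →+* D)
    [IsLocalHom (χ.comp ψ)]
    (h1 : (χ.comp ψ).Flat) (h2 : (ψ.comp φ).Flat) : φ.Flat := by
  algebraize [φ, ψ, χ, ψ.comp φ, χ.comp ψ, χ.comp (ψ.comp φ)]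
  have : IsScalarTower A B D := IsScalarTower.of_algebraMap_eq' rfl
  have : IsLocalHom (algebraMap B D) := ‹IsLocalHom (χ.comp ψ)›
  have : Module.FaithfullyFlat B D := Module.FaithfullyFlat.of_flat_of_isLocalHom
  exact flat_of_refined A B C D

/-- The case P = flat, single fppf cover: Let f : X ⟶ Y and q : Y ⟶ Z be morphisms of schemes, and
suppose there is a flat, surjective morphism g : Y' ⟶ Y locally of finite presentation which factors
through f. If f ≫ q is flat, then q is flat. -/
theorem result {X Y Z Y' : Scheme.{u}} (f : X ⟶ Y) (q : Y ⟶ Z) (g : Y' ⟶ Y) [Flat g] [Surjective g]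
    [LocallyOfFinitePresentation g] (l : Y' ⟶ X) (hl : l ≫ f = g) [Flat (f ≫ q)] : Flat q := by
  subst hl
  rw [Flat.iff_flat_stalkMap]
  intro y
  obtain ⟨y', rfl⟩ := (l ≫ f).surjective y
  have h1 : (((l ≫ f)).stalkMap y').hom.Flat := (Flat.iff_flat_stalkMap (l ≫ f)).1 inferInstance y'
  rw [Scheme.Hom.stalkMap_comp] at h1
  have h2 : ((f ≫ q).stalkMap (l y')).hom.Flat := (Flat.iff_flat_stalkMap (f ≫ q)).1 inferInstance (l y')
  rw [Scheme.Hom.stalkMap_comp] at h2
  have : IsLocalHom ((l.stalkMap y').hom.comp (f.stalkMap (l y')).hom) := by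
    have : IsLocalHom (((l ≫ f)).stalkMap y').hom := inferInstance
    rw [Scheme.Hom.stalkMap_comp] at this
    exact this
  exact ringHom_flat_of_refined (q.stalkMap (f (l y'))).hom (f.stalkMap (l y')).hom
    (l.stalkMap y').hom h1 h2

end Groth.Agent.S1163
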