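import Groth.Statements.S1164
import Mathlib

set_option autoImplicit false
universe u
open Desc

namespace Groth.Agent.S1164

open TensorProduct in
/-- faithfully flat descent of flatness for algebras (proof as in helper lib S4358). -/
theorem flat_of_faithfullyFlat_of_flat {A C M : Type u} [CommRing A] [CommRing C] [CommRing M]
    [Algebra A C] [Algebra C M] [Algebra A M] [IsScalarTower A C M]
    [Module.FaithfullyFlat C M] [Module.Flat A M] : Module.Flat A C := by
  rw [Module.Flat.iff_lTensor_injective']
  intro I
  let g : C ⊗[A] I →ₗ[C] C ⊗[A] A := TensorProduct.AlgebraTensorModule.lTensor C C I.subtype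
  have hg : Function.Injective g := by
    rw [← Module.FaithfullyFlat.lTensor_injective_iff_injective C M g]
    let e₁ := TensorProduct.AlgebraTensorModule.cancelBaseChange A C C M I
    let e₂ := TensorProduct.AlgebraTensorModule.cancelBaseChange A C C M A
    have hsq : ∀ x, e₂ (g.lTensor M x) = (I.subtype.lTensor M) (e₁ x) := by
      intro x
      induction x with
      | zero => simp
      | add x y hx hy => simp only [map_add, hx, hy]
      | tmul m y =>
        induction y with
        | zero => simp
        | add y z hy hz => simp only [tmul_add, map_add, hy, hz]
        | tmul c i => simp [g, e₁, e₂]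
    have hinj := Module.Flat.lTensor_preserves_injective_linearMap (M := M) I.subtype
      Subtype.val_injective
    intro x y hxy
    apply e₁.injective
    apply hinj
    rw [← hsq, ← hsq, hxy]
  exact hg


/-- Let R → S be a local homomorphism of local rings. Let R' be a local ring which is a localization at
a prime of an etale R-algebra, with R → R' local, and similarly S' for S, and suppose S' is an
R'-algebra compatibly with the given maps. Then R → S is flat if and only if R' → S' is flat. (This
is the statement that flatness of a morphism of germs is etale local on source and target together.) -/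
theorem result (R S R' S' : Type u) [CommRing R] [CommRing S] [CommRing R'] [CommRing S']
    [IsLocalRing R] [IsLocalRing S] [IsLocalRing R'] [IsLocalRing S']
    [Algebra R S] [IsLocalHom (algebraMap R S)] [Algebra R R'] [IsLocalHom (algebraMap R R')]
    [Algebra S S'] [IsLocalHom (algebraMap S S')] [Algebra R' S'] [Algebra R S']
    [IsScalarTower R R' S'] [IsScalarTower R S S']
    (E : Type u) [CommRing E] [Algebra R E] [Algebra.Etale R E] (P : Ideal E) [P.IsPrime]
    [Algebra E R'] [IsScalarTower R E R'] [IsLocalization.AtPrime R' P]
    (F : Type u) [CommRing F] [Algebra S F] [Algebra.Etale S F] (Q : Ideal F) [Q.IsPrime]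
    [Algebra F S'] [IsScalarTower S F S'] [IsLocalization.AtPrime S' Q] :
    Module.Flat R S ↔ Module.Flat R' S' := by
  haveI : Module.Flat R E := inferInstance
  have : Module.Flat E R' := IsLocalization.flat R' P.primeCompl
  have : Module.Flat R R' := Module.Flat.trans R E R'
  have : Module.Flat S F := inferInstance
  have : Module.Flat F S' := IsLocalization.flat S' Q.primeCompl
  have : Module.Flat S S' := Module.Flat.trans S F S'
  have : Module.FaithfullyFlat S S' := Module.FaithfullyFlat.of_flat_of_isLocalHom
  have : Algebra.EssFiniteType E R' := Algebra.EssFiniteType.of_isLocalization R' P.primeCompl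
  have : Algebra.EssFiniteType R R' := Algebra.EssFiniteType.comp R E R'
  have : Algebra.FormallyUnramified E R' := Algebra.FormallyUnramified.of_isLocalization P.primeCompl
  have : Algebra.FormallyUnramified R R' := Algebra.FormallyUnramified.comp R E R'
  constructor
  · intro h
    have : Module.Flat R S' := Module.Flat.trans R S S'
    exact Algebra.FormallyUnramified.flat_of_restrictScalars R R' S'
  · intro h
    have : Module.Flat R S' := Module.Flat.trans R R' S'
    exact flat_of_faithfullyFlat_of_flat (A := R) (C := S) (M := S')


end Groth.Agent.S1164
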