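import Groth.Statements.S1175
import Groth.Agent.Lib.Helper1.EtAssocCex
import Groth.Agent.Lib.Helper1.EtAssocZar
import Groth.Agent.Lib.Helper1.EtZarLeray
import Groth.Agent.Lib.Helper1.ZarUlift
import Groth.Agent.Lib.Helper1.ZarContProof

set_option autoImplicit false
open CategoryTheory CategoryTheory.Limits AlgebraicGeometry Opposite
universe u
open Desc

namespace Groth.Agent.S1175

open Groth.Agent.S17614 Groth.Agent.H1.ZarUlift TopologicalSpace Groth.Agent.H1.EtAssocBC
  Groth.Agent.H1.EtAssocZar Groth.Agent.H1.EtAssocCex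

variable {S : Scheme.{u}} [EtZar.ZarCont S] (F : S.Modules) (G : EtCoh.Ab S)
  (e : ∀ U : S.Etale, (G.obj.obj (op U) : Type (u + 1)) ≃+ ULift.{u + 1} (EtAssoc.obj F U))

/-- sections of `π_* G` and of `F` -/
noncomputable def zEquiv (U : (S.Opens)ᵒᵖ) :
    ((EtZar.resZar S).obj G).obj.obj U ≃+ ((Φ S).obj (Coh.toAb F)).obj.obj U :=
  (dn F G e (zo U.unop)).trans ((bEquiv F U.unop).symm.trans
    (AddEquiv.ulift (α := Γ(F, U.unop))).symm)

variable (he : ∀ (U U' : S.Etale) (g : U' ⟶ U) (s : G.obj.obj (op U)),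
  (e U' (G.obj.map g.op s)).down = EtAssoc.resMap F g (e U s).down)

include he in
theorem zEquiv_naturality {U V : (S.Opens)ᵒᵖ} (i : U ⟶ V)
    (s : ((EtZar.resZar S).obj G).obj.obj U) :
    zEquiv F G e V (((EtZar.resZar S).obj G).obj.map i s) =
      ((Φ S).obj (Coh.toAb F)).obj.map i (zEquiv F G e U s) := by
  change (⟨(bEquiv F V.unop).symm (dn F G e (zo V.unop)
      (G.obj.map ((EtZar.zarToEt S).map i.unop).op s))⟩ : ULift Γ(F, V.unop)) =
    ⟨F.presheaf.map i ((bEquiv F U.unop).symm (dn F G e (zo U.unop) s))⟩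
  congr 1
  rw [dn_map F G e he, AddEquiv.symm_apply_eq]
  obtain ⟨t, ht⟩ := (bEquiv F U.unop).surjective (dn F G e (zo U.unop) s)
  rw [← ht, AddEquiv.symm_apply_apply]
  exact ρ_b F i.unop t

/-- `π_* G` is `F`, lifted one universe up -/
noncomputable def zIso : (EtZar.resZar S).obj G ≅ (Φ S).obj (Coh.toAb F) :=
  (fullyFaithfulSheafToPresheaf _ _).preimageIso
    (NatIso.ofComponents (fun U => (zEquiv F G e U).toAddCommGrpIso) (by
      intro U V i
      ext s
      exact zEquiv_naturality F G e he i s))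

omit [EtZar.ZarCont S] in
theorem main [F.IsQuasicoherent] (hG : EtAssoc.IsAssoc F G) (q : ℕ) :
    Nonempty (EtCoh.H S G q ≃+ ULift.{u + 1} (Coh.HH S F q)) := by
  haveI := Groth.Agent.H1.ZarContProof.zarCont S
  obtain ⟨e1⟩ := Groth.Agent.H1.EtZarLeray.main G (acyc F G hG) q
  obtain ⟨e3⟩ := nonempty_H_addEquiv (Coh.toAb F) q
  obtain ⟨e, he⟩ := hG
  let e2 : EtZar.H ((EtZar.resZar S).obj G) q ≃+ EtZar.H ((Φ S).obj (Coh.toAb F)) q :=
    ((Sheaf.functorH (Opens.grothendieckTopology S) q).mapIso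
      (zIso F G e he)).addCommGroupIsoToAddEquiv
  exact ⟨(e1.trans (e2.trans e3.symm)).trans AddEquiv.ulift.symm⟩

/-- Let S be a scheme, F a quasi-coherent 𝒪_S-module and G an abelian sheaf on the small étale site of S
with sections G(U) = Γ(U, u^*F) for U → S étale (an associated étale sheaf of F). Then for every q
the étale cohomology group H^q(S_ét, G) is isomorphic to the Zariski cohomology group H^q(S, F). -/
theorem result {S : Scheme.{u}} (F : S.Modules) [F.IsQuasicoherent] (G : EtCoh.Ab S)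
    (hG : EtAssoc.IsAssoc F G) (q : ℕ) : Nonempty (EtCoh.H S G q ≃+ ULift.{u + 1} (Coh.HH S F q)) := by
  exact main F G hG q

end Groth.Agent.S1175
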