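import Groth.Statements.S1178
import Mathlib
import Groth.Agent.Lib.Helper16.CohFP
import Groth.Agent.Lib.Helper16.QCohAffinePush

set_option autoImplicit false
open CategoryTheory CategoryTheory.Limits AlgebraicGeometry Opposite
universe u
open Desc

namespace Groth.Agent.S1178

section helpers
open CategoryTheory CategoryTheory.Limits AlgebraicGeometry TopologicalSpace

open Opposite
open Groth.Agent.Lib.helper16.CohFinite Groth.Agent.Lib.helper16.CohFP
  Groth.Agent.Lib.helper16.QCohPush Groth.Agent.Lib.helper16.QCohAffinePush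

theorem fp_of_fp_restrictScalars (A B M : Type*) [CommRing A] [CommRing B] [Algebra A B]
    [Module.Finite A B] [AddCommGroup M] [Module A M] [Module B M] [IsScalarTower A B M]
    [Module.FinitePresentation A M] : Module.FinitePresentation B M := by
  haveI : Module.Finite B M := Module.Finite.of_restrictScalars_finite A B M
  obtain ⟨n, f, hf⟩ := Module.Finite.exists_fin' B M
  refine Module.finitePresentation_of_free_of_surjective f hf ?_
  have h1 : (LinearMap.ker (f.restrictScalars A)).FG :=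
    Module.FinitePresentation.fg_ker (f.restrictScalars A) hf
  apply Submodule.FG.of_restrictScalars A
  rwa [LinearMap.ker_restrictScalars] at h1

/-- sections of the pushforward along a finite finitely presented morphism -/
theorem fp_push_sections {X Y : Scheme.{u}} (f : X ⟶ Y) [IsFinite f]
    [LocallyOfFinitePresentation f] (F : X.Modules)
    {V : Y.Opens} (hV : IsAffineOpen V)
    (h : Module.FinitePresentation Γ(X, f ⁻¹ᵁ V) Γ(F, f ⁻¹ᵁ V)) :
    Module.FinitePresentation Γ(Y, V) Γ(push f F, V) := by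
  have hfin : (f.app V).hom.Finite := IsFinite.finite_app f V hV
  have hfp : (f.app V).hom.FinitePresentation := by
    have := LocallyOfFinitePresentation.finitePresentation_appLE f hV (hV.preimage f) le_rfl
    rwa [Scheme.Hom.appLE_eq_app] at this
  letI : Algebra Γ(Y, V) Γ(X, f ⁻¹ᵁ V) := (f.app V).hom.toAlgebra
  haveI : Module.Finite Γ(Y, V) Γ(X, f ⁻¹ᵁ V) := hfin
  haveI : Algebra.FinitePresentation Γ(Y, V) Γ(X, f ⁻¹ᵁ V) := hfp
  haveI : Module.FinitePresentation Γ(Y, V) Γ(X, f ⁻¹ᵁ V) :=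
    Module.FinitePresentation.of_finite_of_finitePresentation _ _
  letI : Module Γ(X, f ⁻¹ᵁ V) Γ(push f F, V) := inferInstanceAs (Module Γ(X, f ⁻¹ᵁ V) Γ(F, f ⁻¹ᵁ V))
  haveI : Module.FinitePresentation Γ(X, f ⁻¹ᵁ V) Γ(push f F, V) := h
  haveI : IsScalarTower Γ(Y, V) Γ(X, f ⁻¹ᵁ V) Γ(push f F, V) :=
    ⟨fun a b m => by
      change ((f.app V).hom a * b) • (show Γ(F, f ⁻¹ᵁ V) from m) = (f.app V).hom a • (b • (show Γ(F, f ⁻¹ᵁ V) from m))
      rw [mul_smul]⟩
  exact Module.FinitePresentation.trans Γ(Y, V) Γ(push f F, V) Γ(X, f ⁻¹ᵁ V)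

/-- converse -/
theorem fp_sections_of_push {X Y : Scheme.{u}} (f : X ⟶ Y) [IsFinite f] (F : X.Modules)
    {V : Y.Opens} (hV : IsAffineOpen V) (h : Module.FinitePresentation Γ(Y, V) Γ(push f F, V)) :
    Module.FinitePresentation Γ(X, f ⁻¹ᵁ V) Γ(F, f ⁻¹ᵁ V) := by
  have hfin : (f.app V).hom.Finite := IsFinite.finite_app f V hV
  letI : Algebra Γ(Y, V) Γ(X, f ⁻¹ᵁ V) := (f.app V).hom.toAlgebra
  haveI : Module.Finite Γ(Y, V) Γ(X, f ⁻¹ᵁ V) := hfin
  letI : Module Γ(X, f ⁻¹ᵁ V) Γ(push f F, V) := inferInstanceAs (Module Γ(X, f ⁻¹ᵁ V) Γ(F, f ⁻¹ᵁ V))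
  haveI : IsScalarTower Γ(Y, V) Γ(X, f ⁻¹ᵁ V) Γ(push f F, V) :=
    ⟨fun a b m => by
      change ((f.app V).hom a * b) • (show Γ(F, f ⁻¹ᵁ V) from m) = (f.app V).hom a • (b • (show Γ(F, f ⁻¹ᵁ V) from m))
      rw [mul_smul]⟩
  exact fp_of_fp_restrictScalars Γ(Y, V) Γ(X, f ⁻¹ᵁ V) Γ(push f F, V)

theorem main {X Y : Scheme.{u}} (f : X ⟶ Y) [IsFinite f] [LocallyOfFinitePresentation f]
    (F : X.Modules) [F.IsQuasicoherent] :
    CohB1.IsFP F ↔ CohB1.IsFP ((Scheme.Modules.pushforward f).obj F) := by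
  haveI : (push f F).IsQuasicoherent := isQuasicoherent_push f F
  constructor
  · intro hF
    refine isFinitePresentation_of_fp_sections (push f F) (fun V : Y.affineOpens => V.1)
      (fun V => V.2) (iSup_affineOpens_eq_top Y) (fun V => ?_)
    exact fp_push_sections f F V.2 (fp_sections_of_isFinitePresentation F hF (V.2.preimage f))
  · intro hF
    refine isFinitePresentation_of_fp_sections F (fun V : Y.affineOpens => f ⁻¹ᵁ V.1)
      (fun V => V.2.preimage f) ?_ (fun V => ?_)
    · have h := iSup_affineOpens_eq_top Y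
      apply_fun (fun W => f ⁻¹ᵁ W) at h
      rw [Scheme.Hom.preimage_iSup] at h
      simpa using h
    · exact fp_sections_of_push f F V.2 (fp_sections_of_isFinitePresentation (push f F) hF V.2)


end helpers


/-- Let f : X ⟶ Y be finite and locally of finite presentation and F a quasi-coherent O_X-module. Then F
is finitely presented exactly when its pushforward f_*F is a finitely presented O_Y-module. -/
theorem result {X Y : Scheme.{u}} (f : X ⟶ Y) [IsFinite f] [LocallyOfFinitePresentation f]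
    (F : X.Modules) [F.IsQuasicoherent] :
    CohB1.IsFP F ↔ CohB1.IsFP ((Scheme.Modules.pushforward f).obj F) := by
  exact main f F

end Groth.Agent.S1178
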