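import Groth.Statements.S1183
import Groth.Agent.Lib.Helper24.RkDescent
import Groth.Agent.Lib.Helper24.SmoothRegularIff
-- import your own Groth.Agent.* helpers here

set_option autoImplicit false
universe u
open Desc

namespace Groth.Agent.S1183

/-- Let A → B be a smooth ring map of Noetherian rings and k a natural number. If A satisfies (R_k) then
so does B; and if moreover A → B is faithfully flat and B satisfies (R_k), then A does. -/
theorem result (A B : Type u) [CommRing A] [CommRing B] [IsNoetherianRing A] [IsNoetherianRing B]
    [Algebra A B] [Algebra.Smooth A B] (k : ℕ) :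
    (LocCoh.HasRk k A → LocCoh.HasRk k B) ∧
    (Module.FaithfullyFlat A B → LocCoh.HasRk k B → LocCoh.HasRk k A) := by
  refine ⟨fun hA => ?_, fun hff hB => ?_⟩
  · intro q hq hht
    haveI : q.LiesOver (q.comap (algebraMap A B)) := ⟨rfl⟩
    haveI : Module.Flat A B := inferInstance
    have h := Ideal.height_eq_height_add_of_liesOver_of_hasGoingDown (q.comap (algebraMap A B)) q
    have hle : (q.comap (algebraMap A B)).height ≤ k := by
      refine le_trans ?_ hht
      rw [h]
      exact le_self_add
    have hreg := hA (q.comap (algebraMap A B)) hle
    exact Groth.Agent.Lib.Helper24.SmoothRegularIff.isRegularLocalRing_atPrime_of_smooth A B q hreg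
  · exact Groth.Agent.Lib.Helper24.RkDescent.hasRk_of_faithfullyFlat A B k hB

end Groth.Agent.S1183
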