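import Groth.Statements.S1186
import Groth.Agent.Lib.Helper12.FerrandFun2
import Groth.Agent.Lib.Helper12.Ferrand5
import Groth.Agent.Lib.Helper12.Ferrand6

set_option autoImplicit false
universe u
open Pi1

namespace Groth.Agent.S1186


set_option backward.isDefEq.respectTransparency.types false in
open AlgebraicGeometry CategoryTheory in
theorem etale_comp_inst : MorphismProperty.IsStableUnderComposition @Etale.{u} := inferInstance

open AlgebraicGeometry CategoryTheory CategoryTheory.Limits in
/-- Let i : Z ⟶ X be a closed immersion and j : Z ⟶ Y an integral morphism such that every fibre of j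
lies in the preimage under i of some affine open of X, and let a : X ⟶ W, b : Y ⟶ W exhibit W as the
pushout of i and j in the category of schemes. If U is finite étale over X and V is finite étale
over Y with U ×_X Z ≅ V ×_Y Z over Z, then there is a finite étale cover T of W whose restrictions
to X and to Y are isomorphic to U and to V respectively. (This is the essential-surjectivity part of
an equivalence between finite étale covers of W and the 2-fibre product of the categories of finite
étale covers of X and of Y over that of Z; only the gluing of objects is asserted, and the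
compatibility of the two identifications over Z is not asserted.) -/
theorem result {Z X Y W : Scheme.{u}} (i : Z ⟶ X) [IsClosedImmersion i] (j : Z ⟶ Y) [IsIntegralHom j]
    (h3 : ∀ y : Y, ∃ U : X.Opens, IsAffineOpen U ∧ ∀ z : Z, j.base z = y → i.base z ∈ U)
    (a : X ⟶ W) (b : Y ⟶ W) (hpo : IsPushout i j a b)
    (U : FEt.Cat X) (V : FEt.Cat Y) (e : (FEt.restrict i).obj U ≅ (FEt.restrict j).obj V) :
    ∃ T : FEt.Cat W, Nonempty ((FEt.restrict a).obj T ≅ U) ∧ Nonempty ((FEt.restrict b).obj T ≅ V) := by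
  classical
  have hUf : IsFinite U.hom := U.prop.1
  have hUe : Etale U.hom := U.prop.2
  have hVf : IsFinite V.hom := V.prop.1
  have hVe : Etale V.hom := V.prop.2
  let eL : pullback U.hom i ≅ pullback V.hom j :=
    (MorphismProperty.Over.forget _ _ _ ⋙ CategoryTheory.Over.forget _).mapIso e
  have heL : eL.hom ≫ pullback.snd V.hom j = pullback.snd U.hom i :=
    MorphismProperty.Over.w e.hom
  have hX : IsPullback (pullback.fst U.hom i) (pullback.snd U.hom i) U.hom i :=
    IsPullback.of_hasPullback _ _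
  have hY : IsPullback (eL.hom ≫ pullback.fst V.hom j) (pullback.snd U.hom i) V.hom j := by
    refine IsPullback.of_iso (IsPullback.of_hasPullback V.hom j) eL.symm (Iso.refl _) (Iso.refl _)
      (Iso.refl _) ?_ ?_ ?_ ?_
    · rw [Iso.refl_hom, Category.comp_id, Iso.symm_hom, Iso.inv_hom_id_assoc]
    · rw [Iso.refl_hom, Category.comp_id, Iso.symm_hom, ← heL, Iso.inv_hom_id_assoc]
    · rw [Iso.refl_hom, Iso.refl_hom, Category.comp_id, Category.id_comp]
    · rw [Iso.refl_hom, Iso.refl_hom, Category.comp_id, Category.id_comp]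
  have hi' : IsClosedImmersion (pullback.fst U.hom i) := inferInstance
  have hj' : IsIntegralHom (eL.hom ≫ pullback.fst V.hom j) := inferInstance
  have hraw := Groth.Agent.Lib.Helper12.Ferrand5.exists_goodPair i j (fun y => by
    obtain ⟨U₀, hU₀, hz⟩ := h3 y
    exact ⟨U₀, hU₀, fun z hz' => hz z hz'⟩)
  have hcov : ∀ y : Y, ∃ k : Groth.Agent.Lib.Helper12.Ferrand.GoodPair i j, y ∈ k.V := by
    intro y
    obtain ⟨U₀, V₀, hU₀, hV₀, hy, hh⟩ := hraw y
    exact ⟨⟨U₀, V₀, hU₀, hV₀, hh⟩, hy⟩
  have hcov' : ∀ y' : V.left, ∃ k : Groth.Agent.Lib.Helper12.Ferrand.GoodPair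
      (pullback.fst U.hom i) (eL.hom ≫ pullback.fst V.hom j), y' ∈ k.V := by
    intro y'
    obtain ⟨k, hk⟩ := hcov (V.hom y')
    refine ⟨⟨U.hom ⁻¹ᵁ k.U, V.hom ⁻¹ᵁ k.V, k.hU.preimage U.hom, k.hV.preimage V.hom, ?_⟩, hk⟩
    rw [← Scheme.Hom.comp_preimage, ← Scheme.Hom.comp_preimage, hX.w, hY.w,
      Scheme.Hom.comp_preimage, Scheme.Hom.comp_preimage, k.h]
  obtain ⟨-, hbcl, haint, -⟩ := Groth.Agent.Lib.Helper12.Ferrand6.of_isPushout i j hraw a b hpo
  have haint' : IsIntegralHom a := haint inferInstance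
  have hP' := Groth.Agent.Lib.Helper12.Ferrand.isPushout (pullback.fst U.hom i)
    (eL.hom ≫ pullback.fst V.hom j) hcov'
  let h : Groth.Agent.Lib.Helper12.Ferrand.P (pullback.fst U.hom i)
      (eL.hom ≫ pullback.fst V.hom j) ⟶ W :=
    hP'.desc (U.hom ≫ a) (V.hom ≫ b) (Groth.Agent.Lib.Helper12.FerrandFun.hsq' hpo hX hY)
  have ha : Groth.Agent.Lib.Helper12.Ferrand.a (pullback.fst U.hom i)
      (eL.hom ≫ pullback.fst V.hom j) hcov' ≫ h = U.hom ≫ a := hP'.inl_desc _ _ _
  have hb : Groth.Agent.Lib.Helper12.Ferrand.b (pullback.fst U.hom i)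
      (eL.hom ≫ pullback.fst V.hom j) hcov' ≫ h = V.hom ≫ b := hP'.inr_desc _ _ _
  have hfin : IsFinite h :=
    Groth.Agent.Lib.Helper12.FerrandFun.isFinite_h hcov hcov' hpo hP' hX hY h ha hb
  have inst3 := etale_comp_inst.{u}
  have het : Etale h :=
    (Groth.Agent.Lib.Helper12.FerrandFun.iff_of_charts hcov' hpo hP' hX hY h ha hb
      @Etale RingHom.Etale (fun ι _ => inferInstance)
      (fun O hO k' hU' hV' =>
        (Groth.Agent.Lib.Helper12.FerrandFun.charts_iff hcov hpo hX hY O hO k' hU'
          hV').2.2.2.2.1)).mpr ⟨hUe, hVe⟩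
  let T : FEt.Cat W := MorphismProperty.Over.mk ⊤ h ⟨hfin, het⟩
  refine ⟨T, ⟨?_⟩, ⟨?_⟩⟩
  · have hpb := Groth.Agent.Lib.Helper12.FerrandFun.isPullback_X hcov hcov' hpo hP' hX hY h ha hb
    exact MorphismProperty.Over.isoMk hpb.isoPullback.symm hpb.isoPullback_inv_snd
  · have hpb := Groth.Agent.Lib.Helper12.FerrandFun.isPullback_Y hcov hcov' hpo hP' hX hY h ha hb
    exact MorphismProperty.Over.isoMk hpb.isoPullback.symm hpb.isoPullback_inv_snd

end Groth.Agent.S1186
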