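import Groth.Statements.S1188
import Mathlib
import Groth.Agent.Lib.Helper14.Gal2

set_option autoImplicit false
universe u v w
open CategoryTheory PreGaloisCategory
open Pi1

namespace Groth.Agent.S1188

/-- Let H : C ⥤ C' be an exact functor between Galois categories and F' a fibre functor on C' such that
F' ∘ H is a fibre functor on C; write h : π_1(C', F') → π_1(C, F' ∘ H) for the induced homomorphism
of fundamental groups. Then h is injective if and only if for every connected object X' of C' there
are an object X of C, an object Y' of C', an epimorphism Y' ⟶ X' and a monomorphism Y' ⟶ H(X). -/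
theorem result {C C' : Type u} [Category.{v} C] [Category.{v} C'] [GaloisCategory C] [GaloisCategory C']
    (H : C ⥤ C') [Limits.PreservesFiniteLimits H] [Limits.PreservesFiniteColimits H]
    (F' : C' ⥤ FintypeCat.{w}) [FiberFunctor F'] [FiberFunctor (H ⋙ F')] :
    Function.Injective (Pi1X.autWhisker H F') ↔
      ∀ X' : C', IsConnected X' → ∃ (X : C) (Y' : C') (p : Y' ⟶ X') (q : Y' ⟶ H.obj X), Epi p ∧ Mono q := by
  constructor
  · intro hinj X' hX'
    obtain ⟨a'⟩ := nonempty_fiber_of_isConnected F' X'
    have hker : (Pi1X.autWhisker H F').ker ≤ MulAction.stabilizer (Aut F') a' := by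
      rw [(MonoidHom.ker_eq_bot_iff _).mpr hinj]
      exact bot_le
    obtain ⟨X, Y', i, q, hm, hc⟩ :=
      (Groth.Agent.Lib.Helper14.Gal.ker_le_stabilizer_iff H F' X' a').mp hker
    haveI := hc
    haveI : Nonempty (F'.obj Y') := nonempty_fiber_of_isConnected F' Y'
    exact ⟨X, Y', q, i, epi_of_nonempty_of_isConnected F' q, hm⟩
  · intro h
    rw [← MonoidHom.ker_eq_bot_iff, eq_bot_iff]
    intro σ hσ
    rw [Subgroup.mem_bot]
    apply Iso.ext
    apply natTrans_ext_of_isGalois F'
    intro X' _
    ext x'
    obtain ⟨X, Y', p, q, hp, hq⟩ := h X' inferInstance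
    have hinj : Function.Injective (F'.map q) :=
      ConcreteCategory.injective_of_mono_of_preservesPullback _
    have htriv : ∀ y : F'.obj Y', σ • y = y := by
      intro y
      apply hinj
      rw [← mulAction_naturality]
      exact Groth.Agent.Lib.Helper14.Gal.smul_eq_of_mem_ker H F' σ hσ X _
    obtain ⟨y, rfl⟩ := surjective_on_fiber_of_epi F' p x'
    change σ • (F'.map p y) = F'.map p y
    rw [mulAction_naturality, htriv]

end Groth.Agent.S1188
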