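import Groth.Statements.S1190
import Mathlib
import Groth.Agent.Lib.Helper14.Gal6
import Groth.Agent.S1187
import Groth.Agent.S1189

set_option autoImplicit false
universe u v w
open CategoryTheory PreGaloisCategory
open Pi1

namespace Groth.Agent.S1190

/-- Let H : C ⥤ C' and H' : C' ⥤ C'' be exact functors between Galois categories, F'' a fibre functor on
C'' with F'' ∘ H' and F'' ∘ H' ∘ H fibre functors, and h', h the induced homomorphisms of
fundamental groups. Then: h is surjective, h ∘ h' is trivial and the kernel of h is the closed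
normal subgroup generated by the image of h', if and only if H is fully faithful and its essential
image consists exactly of those X' in C' for which H'(X') is a finite coproduct of copies of the
final object. -/
theorem result {C C' C'' : Type u} [Category.{v} C] [Category.{v} C'] [Category.{v} C'']
    [GaloisCategory C] [GaloisCategory C'] [GaloisCategory C'']
    (H : C ⥤ C') [Limits.PreservesFiniteLimits H] [Limits.PreservesFiniteColimits H]
    (H' : C' ⥤ C'') [Limits.PreservesFiniteLimits H'] [Limits.PreservesFiniteColimits H']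
    (F'' : C'' ⥤ FintypeCat.{w}) [FiberFunctor F''] [FiberFunctor (H' ⋙ F'')] [FiberFunctor (H ⋙ (H' ⋙ F''))] :
    (Function.Surjective (Pi1X.autWhisker H (H' ⋙ F'')) ∧
      (∀ σ : Aut F'', Pi1X.autWhisker H (H' ⋙ F'') (Pi1X.autWhisker H' F'' σ) = 1) ∧
      (Pi1X.autWhisker H (H' ⋙ F'')).ker = (Subgroup.normalClosure (Set.range (Pi1X.autWhisker H' F''))).topologicalClosure) ↔
    ((H.Full ∧ H.Faithful) ∧
      ∀ X' : C', (∃ X : C, Nonempty (H.obj X ≅ X')) ↔ ∃ n : ℕ, Nonempty (H'.obj X' ≅ ∐ fun _ : Fin n => ⊤_ C'')) := by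
  constructor
  · rintro ⟨hsurj, htriv, hker⟩
    have hff : H.Full ∧ H.Faithful := (Groth.Agent.S1187.result H (H' ⋙ F'')).mp hsurj
    refine ⟨hff, fun X' => ⟨?_, ?_⟩⟩
    · rintro ⟨X, ⟨e⟩⟩
      obtain ⟨n, ⟨i⟩⟩ := (Groth.Agent.S1189.result H H' F'').mp htriv X
      exact ⟨n, ⟨(H'.mapIso e).symm ≪≫ i⟩⟩
    · intro hsplit
      have hact : ∀ (σ : Aut F'') (x : F''.obj (H'.obj X')), σ • x = x :=
        (Groth.Agent.Lib.Helper14.Gal.trivial_action_iff_split F'' (H'.obj X')).mpr hsplit
      apply Groth.Agent.Lib.Helper14.Gal.exists_iso_of_ker_trivial H (H' ⋙ F'') hsurj X'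
      intro σ hσ x
      rw [hker] at hσ
      have hle := Groth.Agent.Lib.Helper14.Gal.closure_normalClosure_le_fixSubgroup (H' ⋙ F'')
        (Set.range (Pi1X.autWhisker H' F'')) X' (by
          rintro _ ⟨σ'', rfl⟩ x
          exact hact σ'' x)
      exact (Groth.Agent.Lib.Helper14.Gal.mem_fixSubgroup_iff _ _ _).mp (hle hσ) x
  · rintro ⟨hff, hess⟩
    have hsurj : Function.Surjective (Pi1X.autWhisker H (H' ⋙ F'')) :=
      (Groth.Agent.S1187.result H (H' ⋙ F'')).mpr hff
    have htriv : ∀ σ : Aut F'', Pi1X.autWhisker H (H' ⋙ F'') (Pi1X.autWhisker H' F'' σ) = 1 :=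
      (Groth.Agent.S1189.result H H' F'').mpr
        (fun X => (hess (H.obj X)).mp ⟨X, ⟨Iso.refl _⟩⟩)
    refine ⟨hsurj, htriv, le_antisymm ?_ ?_⟩
    · intro σ hσ
      apply Groth.Agent.Lib.Helper14.Gal.mem_of_forall_open_of_isClosed (H' ⋙ F'') _
        (Subgroup.isClosed_topologicalClosure _)
      intro U' hU' hNU
      obtain ⟨X', a', hX', hstab⟩ :=
        Groth.Agent.Lib.Helper14.Gal.exists_pointed_of_openSubgroup (H' ⋙ F'') U' hU'
      have := hX'
      have hNn : ((Subgroup.normalClosure
          (Set.range (Pi1X.autWhisker H' F''))).topologicalClosure).Normal :=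
        Subgroup.is_normal_topologicalClosure _
      have hact : ∀ (σ'' : Aut F'') (x : F''.obj (H'.obj X')), σ'' • x = x := by
        intro σ'' x
        exact Groth.Agent.Lib.Helper14.Gal.smul_eq_of_normal_le_stabilizer (H' ⋙ F'') _ X' a'
          (hstab ▸ hNU) (Pi1X.autWhisker H' F'' σ'')
          (Subgroup.le_topologicalClosure _
            (Subgroup.subset_normalClosure (Set.mem_range_self σ''))) x
      have hsplit := (Groth.Agent.Lib.Helper14.Gal.trivial_action_iff_split F''
        (H'.obj X')).mp hact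
      obtain ⟨X, ⟨e⟩⟩ := (hess X').mpr hsplit
      rw [← hstab, MulAction.mem_stabilizer_iff]
      have ha : a' = (H' ⋙ F'').map e.hom ((H' ⋙ F'').map e.inv a') := by
        rw [← FintypeCat.comp_apply, ← (H' ⋙ F'').map_comp, e.inv_hom_id, (H' ⋙ F'').map_id,
          FintypeCat.id_apply]
      rw [ha, mulAction_naturality,
        Groth.Agent.Lib.Helper14.Gal.smul_eq_of_mem_ker H (H' ⋙ F'') σ hσ X]
    · apply Subgroup.topologicalClosure_minimal _ _
        (Groth.Agent.Lib.Helper14.Gal.isClosed_ker_autWhisker H (H' ⋙ F''))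
      apply Subgroup.normalClosure_le_normal
      rintro _ ⟨σ'', rfl⟩
      exact htriv σ''

end Groth.Agent.S1190
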