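import Groth.Statements.S1191
import Mathlib

set_option autoImplicit false
universe u
open FlatMor

namespace Groth.Agent.S1191

attribute [local instance] Algebra.TensorProduct.rightAlgebra

open TensorProduct in
lemma isUnit_algebraMap_fiber {R S : Type u} [CommRing R] [CommRing S] [Algebra R S]
    (p : Ideal R) [p.IsPrime] (t : R) (ht : t ∉ p) :
    IsUnit (algebraMap R (p.Fiber S) t) := by
  have h1 : IsUnit (algebraMap R p.ResidueField t) := by
    rw [isUnit_iff_ne_zero]
    intro h0
    exact ht ((Ideal.algebraMap_residueField_eq_zero).mp h0)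
  have h2 : algebraMap R (p.Fiber S) t =
      (Algebra.TensorProduct.includeLeft : p.ResidueField →ₐ[R] p.Fiber S)
        (algebraMap R p.ResidueField t) := by
    rw [AlgHom.commutes]
  rw [h2]
  exact h1.map _

open TensorProduct in
lemma le_fiberIdeal_of_comap_le {R S : Type u} [CommRing R] [CommRing S] [Algebra R S]
    (p : Ideal R) [p.IsPrime] (q : Ideal S) (r : Ideal (p.Fiber S))
    (h : r.comap (Algebra.TensorProduct.includeRight (R := R) (A := p.ResidueField) (B := S)).toRingHom ≤ q) :
    r ≤ FlatCA.fiberIdeal p q := by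
  intro x hx
  obtain ⟨t, ht, s, e⟩ := Ideal.Fiber.exists_smul_eq_one_tmul p x
  have hu := isUnit_algebraMap_fiber (S := S) p t ht
  have h1 : (1 : p.ResidueField) ⊗ₜ[R] s ∈ r := by
    rw [← e, Algebra.smul_def]
    exact Ideal.mul_mem_left _ _ hx
  have h2 : s ∈ q := h (by
    rw [Ideal.mem_comap]
    simpa using h1)
  have h3 : (1 : p.ResidueField) ⊗ₜ[R] s ∈ FlatCA.fiberIdeal p q := by
    unfold FlatCA.fiberIdeal
    have := Ideal.mem_map_of_mem
      (Algebra.TensorProduct.includeRight (R := R) (A := p.ResidueField) (B := S)).toRingHom h2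
    simpa using this
  rw [← e, Algebra.smul_def] at h3
  exact (Ideal.unit_mul_mem_iff_mem _ hu).mp h3

open TensorProduct in
/-- For a finitely presented algebra S over R, a finitely presented S-module N and a prime q of S over
p, some element of S outside q maps into every associated prime of the fibre module of N over p that
is not contained in the extension of q to the fibre ring. -/
theorem result {R S : Type u} [CommRing R] [CommRing S] [Algebra R S] [Algebra.FinitePresentation R S]
    (N : Type u) [AddCommGroup N] [Module S N] [Module R N] [IsScalarTower R S N] [Module.FinitePresentation S N]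
    (p : Ideal R) [p.IsPrime] (q : Ideal S) [q.IsPrime] [q.LiesOver p] :
    ∃ g : S, g ∉ q ∧ ∀ r ∈ associatedPrimes (p.Fiber S) (FlatCA.fiberMod p S N),
      ¬ r ≤ FlatCA.fiberIdeal p q → (1 : p.ResidueField) ⊗ₜ[R] g ∈ r := by
  classical
  have : Algebra.FiniteType p.ResidueField (p.Fiber S) := inferInstance
  have : IsNoetherianRing (p.Fiber S) := Algebra.FiniteType.isNoetherianRing p.ResidueField _
  have : Module.Finite (p.Fiber S) (FlatCA.fiberMod p S N) := by
    have : Module.Finite S N := inferInstance
    exact Module.Finite.base_change S (p.Fiber S) N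
  have hfin : (associatedPrimes (p.Fiber S) (FlatCA.fiberMod p S N)).Finite :=
    associatedPrimes.finite _ _
  set ι := (Algebra.TensorProduct.includeRight (R := R) (A := p.ResidueField) (B := S)).toRingHom
    with hι
  -- for each bad r choose an element
  have hchoose : ∀ r : Ideal (p.Fiber S), ¬ r ≤ FlatCA.fiberIdeal p q →
      ∃ g : S, g ∈ r.comap ι ∧ g ∉ q := by
    intro r hr
    by_contra hcon
    push Not at hcon
    exact hr (le_fiberIdeal_of_comap_le p q r (fun g hg => hcon g hg))
  let T : Finset (Ideal (p.Fiber S)) :=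
    hfin.toFinset.filter (fun r => ¬ r ≤ FlatCA.fiberIdeal p q)
  let gf : Ideal (p.Fiber S) → S := fun r =>
    if h : ¬ r ≤ FlatCA.fiberIdeal p q then (hchoose r h).choose else 1
  have hgf1 : ∀ r, ¬ r ≤ FlatCA.fiberIdeal p q → gf r ∈ r.comap ι := by
    intro r h
    simp only [gf, dif_pos h]
    exact (hchoose r h).choose_spec.1
  have hgf2 : ∀ r, gf r ∉ q := by
    intro r
    by_cases h : ¬ r ≤ FlatCA.fiberIdeal p q
    · simp only [gf, dif_pos h]
      exact (hchoose r h).choose_spec.2
    · simp only [gf, dif_neg h]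
      intro h1
      exact (inferInstance : q.IsPrime).ne_top ((Ideal.eq_top_iff_one _).mpr h1)
  refine ⟨∏ r ∈ T, gf r, ?_, ?_⟩
  · intro hmem
    obtain ⟨r, _, hr⟩ := Ideal.IsPrime.prod_mem_iff.mp hmem
    exact hgf2 r hr
  · intro r hr hnle
    have hrT : r ∈ T := by
      simp only [T, Finset.mem_filter, Set.Finite.mem_toFinset]
      exact ⟨hr, hnle⟩
    have h1 : (∏ r ∈ T, gf r) ∈ r.comap ι := by
      obtain ⟨c, hc⟩ := Finset.dvd_prod_of_mem gf hrT
      rw [hc]
      exact Ideal.mul_mem_right _ _ (hgf1 r hnle)
    rw [Ideal.mem_comap] at h1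
    exact h1

end Groth.Agent.S1191
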