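import Groth.Statements.S1199
import Groth.Agent.Lib.Helper3.UnivInjCompl1

set_option autoImplicit false
universe u
open FlatMor

namespace Groth.Agent.S1199

open TensorProduct in
/-- Let R → S be a map of Noetherian rings, I an ideal of R and N a finite S-module. Assume that for
every finite R-module Q and every associated prime q of the S-module N ⊗_R Q the ideal IS + q is
proper. Then the canonical map from N to its I-adic completion is universally injective as a map of
R-modules. -/
theorem result {R S : Type u} [CommRing R] [CommRing S] [Algebra R S] [IsNoetherianRing R] [IsNoetherianRing S] (I : Ideal R)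
    (N : Type u) [AddCommGroup N] [Module S N] [Module R N] [IsScalarTower R S N] [Module.Finite S N]
    (h : ∀ (Q : Type u) [AddCommGroup Q] [Module R Q], Module.Finite R Q →
      ∀ q ∈ associatedPrimes S (N ⊗[R] Q), I.map (algebraMap R S) ⊔ q ≠ ⊤) :
    FlatCA.UnivInj R (AdicCompletion.of I N) := by
  refine Groth.Agent.Lib.helper3.UnivInjCompl.lTensor_injective_of_forall_fg _ ?_
  intro Q _ _ hQ
  rw [LinearMap.lTensor_inj_iff_rTensor_inj]
  exact Groth.Agent.Lib.helper3.UnivInjCompl.rTensor_of_injective I N Q (h Q hQ)

end Groth.Agent.S1199
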