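import Groth.Statements.S1201
import Groth.Agent.Lib.Helper26.RGInj6
import Groth.Agent.Lib.Helper3.FlatAtLib1

set_option linter.style.haveILetI false

set_option autoImplicit false
universe u
open FlatMor

namespace Groth.Agent.S1201

/-- Ring form: X = Spec S, S = Spec R: for a finite type R-algebra S, a finite S-module N and a prime q
of S lying over p, the localization N_q is flat over R if and only if N_{q'} is flat over R for
every prime q' ⊆ q lying over p whose extension to the fibre ring over p is an associated prime of
the fibre module of N (the associated points of the fibre which specialize to q). -/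
theorem result {R S : Type u} [CommRing R] [CommRing S] [Algebra R S] [Algebra.FiniteType R S]
    (N : Type u) [AddCommGroup N] [Module S N] [Module R N] [IsScalarTower R S N] [Module.Finite S N]
    (p : Ideal R) [p.IsPrime] (q : Ideal S) [q.IsPrime] [q.LiesOver p] :
    FlatCA.FlatAt R q N ↔ ∀ (q' : Ideal S) [q'.IsPrime], q' ≤ q → q'.LiesOver p →
      FlatCA.fiberIdeal p q' ∈ associatedPrimes (p.Fiber S) (FlatCA.fiberMod p S N) → FlatCA.FlatAt R q' N := by
  constructor
  · intro hflat q' _ hle _ _
    -- flatness passes to generizations
    rw [Groth.Agent.Lib.helper3.FlatAtLib.flatAt_iff_forall_eq_zero] at hflat ⊢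
    intro P Q _ _ _ _ u hu x hx
    obtain ⟨s, hs, hsx⟩ := hflat P Q u hu x hx
    exact ⟨s, fun h => hs (hle h), hsx⟩
  · intro h
    obtain rfl : p = q.comap (algebraMap R S) := Ideal.LiesOver.over (p := p) (P := q)
    exact Groth.Agent.Lib.helper26.RGInj.flatAt_of_flatAt_ass N q
      (fun q' _ hle hlo hass => h q' hle hlo hass)

end Groth.Agent.S1201
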