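import Groth.Statements.S12056
import Mathlib
-- import your own Groth.Agent.* helpers here

set_option autoImplicit false
open Red

namespace Groth.Agent.S12056

section helpers

variable {R : Type} [CommRing R]

theorem agree (b : MvPowerSeries (Fin 2) R) (hb0 : MvPowerSeries.constantCoeff b = 0)
    (P Q : PowerSeries R) (m : ℕ) (h : ∀ d < m, PowerSeries.coeff d P = PowerSeries.coeff d Q)
    (e : Fin 2 →₀ ℕ) (he : e.degree < m) :
    MvPowerSeries.coeff e (PowerSeries.subst b P) = MvPowerSeries.coeff e (PowerSeries.subst b Q) := by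
  have hb : PowerSeries.HasSubst b := PowerSeries.HasSubst.of_constantCoeff_zero hb0
  rw [PowerSeries.coeff_subst hb, PowerSeries.coeff_subst hb]
  refine finsum_congr fun d => ?_
  rcases lt_or_ge d m with hd | hd
  · rw [h d hd]
  · have : MvPowerSeries.coeff e (b ^ d) = 0 := by
      apply MvPowerSeries.coeff_of_lt_order
      refine lt_of_lt_of_le ?_ (MvPowerSeries.le_order_pow_of_constantCoeff_eq_zero d hb0)
      exact_mod_cast lt_of_lt_of_le he hd
    rw [this, smul_zero, smul_zero]

open PowerSeries in
theorem chain (b : MvPowerSeries (Fin 2) R) (hb0 : MvPowerSeries.constantCoeff b = 0)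
    (F : PowerSeries R) (i : Fin 2) :
    MvPowerSeries.pderiv R i (PowerSeries.subst b F) =
      PowerSeries.subst b (d⁄dX R F) * MvPowerSeries.pderiv R i b := by
  have hb : PowerSeries.HasSubst b := PowerSeries.HasSubst.of_constantCoeff_zero hb0
  ext e
  set m := e.degree + 2 with hm
  set p : Polynomial R := PowerSeries.trunc m F with hp
  have h1 : MvPowerSeries.coeff (e + Finsupp.single i 1) (PowerSeries.subst b F) =
      MvPowerSeries.coeff (e + Finsupp.single i 1) (PowerSeries.subst b (p : PowerSeries R)) := by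
    apply agree b hb0 F _ m
    · intro d hd
      rw [PowerSeries.coeff_coe_trunc_of_lt hd]
    · rw [map_add, Finsupp.degree_single]; omega
  rw [MvPowerSeries.coeff_pderiv, h1, ← MvPowerSeries.coeff_pderiv, PowerSeries.subst_coe hb,
    Derivation.comp_aeval_eq, smul_eq_mul, ← PowerSeries.subst_coe hb,
    MvPowerSeries.coeff_mul, MvPowerSeries.coeff_mul]
  refine Finset.sum_congr rfl fun ⟨x, y⟩ hxy => ?_
  congr 1
  apply agree b hb0 _ _ (e.degree + 1)
  · intro d hd
    rw [PowerSeries.coeff_derivative, Polynomial.coeff_coe, Polynomial.coeff_derivative,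
      PowerSeries.coeff_trunc, if_pos (by omega)]
  · rw [Finset.HasAntidiagonal.mem_antidiagonal] at hxy
    have : x.degree ≤ e.degree := by
      rw [← hxy, map_add]; exact Nat.le_add_right _ _
    exact Nat.lt_succ_of_le this

theorem coeff_prod (P Q : PowerSeries R) (e : Fin 2 →₀ ℕ) :
    MvPowerSeries.coeff e (PowerSeries.subst (MvPowerSeries.X (0 : Fin 2)) P *
      PowerSeries.subst (MvPowerSeries.X (1 : Fin 2)) Q : MvPowerSeries (Fin 2) R) =
      PowerSeries.coeff (e 0) P * PowerSeries.coeff (e 1) Q := by
  classical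
  rw [MvPowerSeries.coeff_mul]
  rw [Finset.sum_eq_single (Finsupp.single (0 : Fin 2) (e 0), Finsupp.single (1 : Fin 2) (e 1))]
  · rw [PowerSeries.coeff_subst_single, PowerSeries.coeff_subst_single]
    simp
  · rintro ⟨p, q⟩ hpq hne
    rw [Finset.HasAntidiagonal.mem_antidiagonal] at hpq
    rw [PowerSeries.coeff_subst_single, PowerSeries.coeff_subst_single]
    dsimp only at hpq ⊢
    split_ifs with h1 h2
    · exfalso
      apply hne
      have hp1 : p 1 = 0 := by rw [h1]; simp
      have hq0 : q 0 = 0 := by rw [h2]; simp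
      have he0 : e 0 = p 0 := by rw [← hpq]; simp [hq0]
      have he1 : e 1 = q 1 := by rw [← hpq]; simp [hp1]
      rw [he0, he1, ← h1, ← h2]
    · rw [mul_zero]
    · rw [zero_mul]
    · rw [zero_mul]
  · intro hnot
    exfalso
    apply hnot
    rw [Finset.HasAntidiagonal.mem_antidiagonal]
    ext i
    fin_cases i <;> simp

open PowerSeries in
theorem main (F : PowerSeries R)
    (h0 : PowerSeries.constantCoeff F = 1) (ha : IsUnit (PowerSeries.coeff 1 F))
    (hFE : PowerSeries.subst
        (MvPowerSeries.X (0 : Fin 2) + MvPowerSeries.X 1 * PowerSeries.subst (MvPowerSeries.X (0 : Fin 2)) F :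
          MvPowerSeries (Fin 2) R) F =
      PowerSeries.subst (MvPowerSeries.X (0 : Fin 2)) F * PowerSeries.subst (MvPowerSeries.X (1 : Fin 2)) F) :
    F = 1 + PowerSeries.C (PowerSeries.coeff 1 F) * PowerSeries.X := by
  classical
  have hX0 : PowerSeries.HasSubst (MvPowerSeries.X (0 : Fin 2) : MvPowerSeries (Fin 2) R) :=
    PowerSeries.HasSubst.X 0
  have hX1 : PowerSeries.HasSubst (MvPowerSeries.X (1 : Fin 2) : MvPowerSeries (Fin 2) R) :=
    PowerSeries.HasSubst.X 1
  set G : MvPowerSeries (Fin 2) R := PowerSeries.subst (MvPowerSeries.X (0 : Fin 2)) F with hG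
  set b : MvPowerSeries (Fin 2) R := MvPowerSeries.X (0 : Fin 2) + MvPowerSeries.X 1 * G with hb
  have hb0 : MvPowerSeries.constantCoeff b = 0 := by
    simp [hb]
  have hc0 : ∀ s : Fin 2, MvPowerSeries.constantCoeff
      (MvPowerSeries.X s : MvPowerSeries (Fin 2) R) = 0 := fun s => by simp
  -- derivatives of the pure substitutions
  have dG : ∀ (s i : Fin 2) (P : PowerSeries R),
      MvPowerSeries.pderiv R i (PowerSeries.subst (MvPowerSeries.X s : MvPowerSeries (Fin 2) R) P) =
        PowerSeries.subst (MvPowerSeries.X s : MvPowerSeries (Fin 2) R) (d⁄dX R P) *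
          MvPowerSeries.pderiv R i (MvPowerSeries.X s) := fun s i P => chain _ (hc0 s) P i
  have h01 : (1 : Fin 2) ≠ 0 := by decide
  have h10 : (0 : Fin 2) ≠ 1 := by decide
  -- G is a unit
  have hGu : IsUnit G := by
    rw [MvPowerSeries.isUnit_iff_constantCoeff]
    have : MvPowerSeries.constantCoeff G = 1 := by
      rw [← MvPowerSeries.coeff_zero_eq_constantCoeff_apply, hG, PowerSeries.coeff_subst_single]
      simpa using h0
    rw [this]; exact isUnit_one
  -- ∂/∂y
  have D1 := congrArg (MvPowerSeries.pderiv R (1 : Fin 2)) hFE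
  rw [chain b hb0 F 1, Derivation.leibniz, dG 0 1, dG 1 1, MvPowerSeries.pderiv_X_self,
    MvPowerSeries.pderiv_X_of_ne h10] at D1
  have hb1 : MvPowerSeries.pderiv R (1 : Fin 2) b = G := by
    rw [hb, map_add, Derivation.leibniz, MvPowerSeries.pderiv_X_self,
      MvPowerSeries.pderiv_X_of_ne h10, hG, dG 0 1, MvPowerSeries.pderiv_X_of_ne h10]
    simp
  rw [hb1] at D1
  have E1 : PowerSeries.subst b (d⁄dX R F) =
      PowerSeries.subst (MvPowerSeries.X (1 : Fin 2) : MvPowerSeries (Fin 2) R) (d⁄dX R F) := by
    apply hGu.mul_right_cancel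
    rw [D1]
    simp only [smul_eq_mul, mul_zero, mul_one, add_zero]
    ring
  -- ∂/∂x
  have D0 := congrArg (MvPowerSeries.pderiv R (0 : Fin 2)) hFE
  rw [chain b hb0 F 0, Derivation.leibniz, dG 0 0, dG 1 0, MvPowerSeries.pderiv_X_self,
    MvPowerSeries.pderiv_X_of_ne h01, E1] at D0
  have hb0' : MvPowerSeries.pderiv R (0 : Fin 2) b =
      1 + MvPowerSeries.X 1 * PowerSeries.subst (MvPowerSeries.X (0 : Fin 2)) (d⁄dX R F) := by
    rw [hb, map_add, Derivation.leibniz, MvPowerSeries.pderiv_X_self,
      MvPowerSeries.pderiv_X_of_ne h01, hG, dG 0 0, MvPowerSeries.pderiv_X_self]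
    simp
  rw [hb0'] at D0
  -- the key identity in pure substitutions
  have hXF : (MvPowerSeries.X (1 : Fin 2) : MvPowerSeries (Fin 2) R) *
      PowerSeries.subst (MvPowerSeries.X (1 : Fin 2)) (d⁄dX R F) =
      PowerSeries.subst (MvPowerSeries.X (1 : Fin 2)) (PowerSeries.X * d⁄dX R F) := by
    rw [PowerSeries.subst_mul hX1, PowerSeries.subst_X hX1]
  have key : PowerSeries.subst (MvPowerSeries.X (1 : Fin 2) : MvPowerSeries (Fin 2) R) (d⁄dX R F) +
      PowerSeries.subst (MvPowerSeries.X (0 : Fin 2)) (d⁄dX R F) *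
        PowerSeries.subst (MvPowerSeries.X (1 : Fin 2)) (PowerSeries.X * d⁄dX R F) =
      PowerSeries.subst (MvPowerSeries.X (0 : Fin 2)) (d⁄dX R F) *
        PowerSeries.subst (MvPowerSeries.X (1 : Fin 2)) F := by
    rw [← hXF]
    simp only [smul_eq_mul, mul_zero, mul_one, zero_add] at D0
    linear_combination D0
  -- coefficients
  have hd : ∀ n : ℕ, 1 ≤ n → PowerSeries.coeff n (d⁄dX R F) = 0 := by
    intro n hn
    have := congrArg (MvPowerSeries.coeff (Finsupp.single (0 : Fin 2) n)) key
    rw [map_add, coeff_prod, coeff_prod, PowerSeries.coeff_subst_single] at this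
    have hne : ¬ (Finsupp.single (0 : Fin 2) n =
        Finsupp.single (1 : Fin 2) ((Finsupp.single (0 : Fin 2) n) 1)) := by
      intro h
      have := DFunLike.congr_fun h 0
      simp at this
      omega
    rw [if_neg hne] at this
    simp only [Finsupp.single_eq_same, Finsupp.single_apply, h10, if_false] at this
    have hc : PowerSeries.coeff 0 F = 1 := by
      rw [PowerSeries.coeff_zero_eq_constantCoeff_apply]; exact h0
    rw [PowerSeries.coeff_zero_X_mul, hc] at this
    simpa using this.symm
  have hc : ∀ k : ℕ, 2 ≤ k → PowerSeries.coeff k F = 0 := by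
    intro k hk
    have := congrArg (MvPowerSeries.coeff (Finsupp.single (1 : Fin 2) k)) key
    rw [map_add, coeff_prod, coeff_prod, PowerSeries.coeff_subst_single] at this
    simp only [Finsupp.single_eq_same, Finsupp.single_apply, h01, if_false, if_true] at this
    obtain ⟨k', rfl⟩ : ∃ k', k = k' + 1 := ⟨k - 1, by omega⟩
    rw [PowerSeries.coeff_succ_X_mul, hd (k' + 1) (by omega), hd k' (by omega)] at this
    have h1 : PowerSeries.coeff 0 (d⁄dX R F) = PowerSeries.coeff 1 F := by
      rw [PowerSeries.coeff_derivative]; simp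
    rw [h1] at this
    simp only [mul_zero, add_zero] at this
    exact (ha.mul_right_eq_zero).1 this.symm
  ext n
  rcases n with _ | _ | n
  · simp only [map_add, PowerSeries.coeff_zero_eq_constantCoeff_apply, h0]
    simp
  · simp
  · rw [hc (n + 2) (by omega)]
    simp [PowerSeries.coeff_one]

end helpers

/-- In formal-power-series form, let R be a commutative ring and F ∈ R⟦X⟧ with constant term 1 whose
linear coefficient a is a unit of R. Suppose that in R⟦X₀, X₁⟧ one has F(X₀ + X₁ · F(X₀)) = F(X₀) ·
F(X₁) (the functional equation F(x + y F(x)) = F(x) F(y)). Then F = 1 + a X. (The published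
statement concerns a morphism to the multiplicative group from an open neighbourhood of the zero
section in the additive group over a base scheme, the identity holding on an open neighbourhood of
the origin of the plane on which all terms are defined, with a the derivative at 0; this row states
it for formal power series over a ring.) -/
theorem result (R : Type) [CommRing R] (F : PowerSeries R)
    (h0 : PowerSeries.constantCoeff F = 1) (ha : IsUnit (PowerSeries.coeff 1 F))
    (hFE : PowerSeries.subst
        (MvPowerSeries.X (0 : Fin 2) + MvPowerSeries.X 1 * PowerSeries.subst (MvPowerSeries.X (0 : Fin 2)) F :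
          MvPowerSeries (Fin 2) R) F =
      PowerSeries.subst (MvPowerSeries.X (0 : Fin 2)) F * PowerSeries.subst (MvPowerSeries.X (1 : Fin 2)) F) :
    F = 1 + PowerSeries.C (PowerSeries.coeff 1 F) * PowerSeries.X := by
  exact main F h0 ha hFE

end Groth.Agent.S12056
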