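import Groth.Statements.S12123
import Mathlib
-- import your own Groth.Agent.* helpers here

set_option autoImplicit false
universe u
open EGA41

namespace Groth.Agent.S12123


section General

variable {Y : Type*} [TopologicalSpace Y]

open Topology in
theorem isClopen_of_compact_open {U : Set Y} (ho : IsOpen U) (hc : IsCompact U) :
    IsClopen ((WithTopology.toTopology (constructibleTopology Y)) '' U) := by
  have himg : (WithTopology.toTopology (constructibleTopology Y)) '' U =
      WithTopology.ofTopology ⁻¹' U := WithTopology.image_toTopology _ U
  rw [himg]
  constructor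
  · rw [WithConstructibleTopology.isClosed_iff]
    show IsClosed[constructibleTopology Y] U
    rw [← @isOpen_compl_iff _ _ (constructibleTopology Y)]
    apply IsCompact.isOpen_constructibleTopology_of_isClosed
    · rwa [compl_compl]
    · exact ho.isClosed_compl
  · rw [WithConstructibleTopology.isOpen_iff]
    exact hc.isOpen_constructibleTopology_of_isOpen ho

theorem totallySeparated_cons [T0Space Y] [PrespectralSpace Y] :
    TotallySeparatedSpace (WithConstructibleTopology Y) := by
  rw [totallySeparatedSpace_iff_exists_isClopen]
  intro x y hxy
  have hne : WithTopology.ofTopology x ≠ WithTopology.ofTopology y :=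
    fun h => hxy (WithTopology.ofTopology_injective _ h)
  obtain ⟨U, hU, hx⟩ := exists_isOpen_xor_mem hne
  rcases hx with ⟨hxU, hyU⟩ | ⟨hyU, hxU⟩
  · obtain ⟨V, ⟨hVo, hVc⟩, hxV, hVU⟩ :=
      PrespectralSpace.isTopologicalBasis.exists_subset_of_mem_open hxU hU
    refine ⟨_, isClopen_of_compact_open hVo hVc, ⟨_, hxV, rfl⟩, ?_⟩
    rintro ⟨z, hz, hzy⟩
    apply hyU
    apply hVU
    rw [← hzy]
    exact hz
  · obtain ⟨V, ⟨hVo, hVc⟩, hyV, hVU⟩ :=
      PrespectralSpace.isTopologicalBasis.exists_subset_of_mem_open hyU hU
    refine ⟨_, (isClopen_of_compact_open hVo hVc).compl, ?_, ?_⟩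
    · rintro ⟨z, hz, hzx⟩
      apply hxU
      apply hVU
      rw [← hzx]
      exact hz
    · rw [compl_compl]
      exact ⟨_, hyV, rfl⟩

theorem isCompact_cons_of_compact_open [QuasiSeparatedSpace Y] [QuasiSober Y] [PrespectralSpace Y]
    {U : Set Y} (ho : IsOpen U) (hc : IsCompact U) :
    IsCompact ((WithTopology.toTopology (constructibleTopology Y)) '' U) := by
  have hemb : Topology.IsOpenEmbedding ((↑) : U → Y) := ho.isOpenEmbedding_subtypeVal
  have : CompactSpace U := isCompact_iff_compactSpace.mp hc
  have : QuasiSober U := hemb.quasiSober
  have : PrespectralSpace U := hemb.prespectralSpace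
  have : QuasiSeparatedSpace U := hemb.quasiSeparatedSpace
  -- the map U^cons → Y^cons
  have hcont : Continuous (fun u : WithConstructibleTopology U =>
      (WithTopology.toTopology (constructibleTopology Y) ((WithTopology.ofTopology u : U) : Y))) := by
    have h1 : @Continuous U Y (constructibleTopology U) (constructibleTopology Y) Subtype.val := by
      apply continuous_generateFrom_iff.mpr
      rintro s (⟨hso, hsc⟩ | ⟨hscl, hsc⟩)
      · apply IsCompact.isOpen_constructibleTopology_of_isOpen
        · rw [Subtype.isCompact_iff, Subtype.image_preimage_coe]
          exact QuasiSeparatedSpace.inter_isCompact _ _ ho hc hso hsc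
        · exact hso.preimage continuous_subtype_val
      · apply IsCompact.isOpen_constructibleTopology_of_isClosed
        · rw [← Set.preimage_compl, Subtype.isCompact_iff, Subtype.image_preimage_coe]
          exact QuasiSeparatedSpace.inter_isCompact _ _ ho hc hscl.isOpen_compl hsc
        · exact hscl.preimage continuous_subtype_val
    rw [continuous_def]
    intro s hs
    rw [WithConstructibleTopology.isOpen_iff] at hs ⊢
    exact @Continuous.isOpen_preimage _ _ (constructibleTopology U) (constructibleTopology Y) _ h1 _ hs
  have hrange : (WithTopology.toTopology (constructibleTopology Y)) '' U =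
      Set.range (fun u : WithConstructibleTopology U =>
      (WithTopology.toTopology (constructibleTopology Y) ((WithTopology.ofTopology u : U) : Y))) := by
    ext z
    constructor
    · rintro ⟨y, hy, rfl⟩
      exact ⟨WithTopology.toTopology _ ⟨y, hy⟩, rfl⟩
    · rintro ⟨u, rfl⟩
      exact ⟨_, (WithTopology.ofTopology u).2, rfl⟩
  rw [hrange]
  exact isCompact_range hcont

theorem main_general [T0Space Y] [QuasiSeparatedSpace Y] [QuasiSober Y] [PrespectralSpace Y] :
    T2Space (WithConstructibleTopology Y) ∧ LocallyCompactSpace (WithConstructibleTopology Y) ∧
      TotallyDisconnectedSpace (WithConstructibleTopology Y) := by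
  have hTS : TotallySeparatedSpace (WithConstructibleTopology Y) := totallySeparated_cons
  have hT2 : T2Space (WithConstructibleTopology Y) := inferInstance
  have hW : WeaklyLocallyCompactSpace (WithConstructibleTopology Y) := by
    refine ⟨fun x => ?_⟩
    obtain ⟨V, ⟨hVo, hVc⟩, hxV, -⟩ :=
      PrespectralSpace.isTopologicalBasis.exists_subset_of_mem_open
        (Set.mem_univ (WithTopology.ofTopology x)) isOpen_univ
    refine ⟨_, isCompact_cons_of_compact_open hVo hVc, ?_⟩
    exact (isClopen_of_compact_open hVo hVc).isOpen.mem_nhds ⟨_, hxV, rfl⟩
  exact ⟨hT2, inferInstance, inferInstance⟩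

end General

open AlgebraicGeometry Topology in
/-- Let X be a quasi-separated scheme and X^cons its underlying set with the constructible topology,
generated by the quasi-compact open subsets and their complements (for X quasi-separated this is the
topology whose open sets are the ind-constructible subsets). Then X^cons is a Hausdorff, locally
compact, totally disconnected space. (The published statement also asserts that X^cons is Hausdorff
only if X is quasi-separated; for the topology used here that converse fails when X is not
quasi-separated, where the two constructible topologies differ, so it is not part of this row.) -/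
theorem result (X : Scheme.{u}) [QuasiSeparatedSpace X] :
    T2Space (WithConstructibleTopology X) ∧ LocallyCompactSpace (WithConstructibleTopology X) ∧
      TotallyDisconnectedSpace (WithConstructibleTopology X) := by
  exact main_general

end Groth.Agent.S12123
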