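import Groth.Statements.S12122
import Mathlib
import Groth.Agent.S12123
-- import your own Groth.Agent.* helpers here

set_option autoImplicit false
universe u
open EGA41

namespace Groth.Agent.S12122


section General

open Topology

variable {Y : Type*} [TopologicalSpace Y]

/-- transport of a subset of `Y` to `WithConstructibleTopology Y` -/
def tl (s : Set Y) : Set (WithConstructibleTopology Y) :=
  (WithTopology.ofTopology (t := constructibleTopology Y)) ⁻¹' s

theorem tl_eq_image (s : Set Y) :
    tl s = (WithTopology.toTopology (constructibleTopology Y)) '' s :=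
  (WithTopology.image_toTopology _ s).symm

theorem isClopen_tl_of_compact_open {U : Set Y} (ho : IsOpen U) (hc : IsCompact U) :
    IsClopen (tl U) := by
  rw [tl_eq_image]
  exact Groth.Agent.S12123.isClopen_of_compact_open ho hc

theorem isCompact_tl_of_compact_open [QuasiSeparatedSpace Y] [QuasiSober Y] [PrespectralSpace Y]
    {U : Set Y} (ho : IsOpen U) (hc : IsCompact U) : IsCompact (tl U) := by
  rw [tl_eq_image]
  exact Groth.Agent.S12123.isCompact_cons_of_compact_open ho hc

theorem isClopen_tl_of_retrocompact [PrespectralSpace Y] {U : Set Y} (ho : IsOpen U)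
    (hr : IsRetrocompact U) : IsClopen (tl U) := by
  constructor
  · rw [← isOpen_compl_iff, isOpen_iff_forall_mem_open]
    intro x hx
    obtain ⟨V, ⟨hVo, hVc⟩, hxV, -⟩ :=
      PrespectralSpace.isTopologicalBasis.exists_subset_of_mem_open
        (Set.mem_univ (WithTopology.ofTopology x)) isOpen_univ
    refine ⟨tl V ∩ (tl (U ∩ V))ᶜ, ?_, ?_, ?_⟩
    · rintro y ⟨hyV, hyUV⟩ hyU
      exact hyUV ⟨hyU, hyV⟩
    · exact (isClopen_tl_of_compact_open hVo hVc).isOpen.inter
        (isClopen_tl_of_compact_open (ho.inter hVo) (hr hVc hVo)).compl.isOpen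
    · exact ⟨hxV, fun h => hx h.1⟩
  · rw [isOpen_iff_forall_mem_open]
    intro x hx
    obtain ⟨V, ⟨hVo, hVc⟩, hxV, -⟩ :=
      PrespectralSpace.isTopologicalBasis.exists_subset_of_mem_open
        (Set.mem_univ (WithTopology.ofTopology x)) isOpen_univ
    refine ⟨tl (U ∩ V), ?_, ?_, ?_⟩
    · rintro y ⟨hyU, -⟩
      exact hyU
    · exact (isClopen_tl_of_compact_open (ho.inter hVo) (hr hVc hVo)).isOpen
    · exact ⟨hx, hxV⟩

theorem isClopen_tl_of_constructible [PrespectralSpace Y] {s : Set Y} (hs : IsConstructible s) :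
    IsClopen (tl s) := by
  induction hs using IsConstructible.empty_union_induction with
  | open_retrocompact U ho hr => exact isClopen_tl_of_retrocompact ho hr
  | union s hs t ht ihs iht => exact ihs.union iht
  | compl s hs ih => exact ih.compl

theorem isClopen_tl_of_locallyConstructible [QuasiSeparatedSpace Y] [PrespectralSpace Y]
    {E : Set Y} (hE : IsLocallyConstructible E) : IsClopen (tl E) := by
  constructor
  · rw [← isOpen_compl_iff, isOpen_iff_forall_mem_open]
    intro x hx
    obtain ⟨V, ⟨hVo, hVc⟩, hxV, -⟩ :=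
      PrespectralSpace.isTopologicalBasis.exists_subset_of_mem_open
        (Set.mem_univ (WithTopology.ofTopology x)) isOpen_univ
    have h1 : IsConstructible (E ∩ V) := hE.inter_of_isOpen_isCompact hVo hVc
    have h2 : IsConstructible (V \ (E ∩ V)) := (hVc.isConstructible hVo).sdiff h1
    refine ⟨tl (V \ (E ∩ V)), ?_, (isClopen_tl_of_constructible h2).isOpen, ?_⟩
    · rintro y ⟨hyV, hyEV⟩ hyE
      exact hyEV ⟨hyE, hyV⟩
    · exact ⟨hxV, fun h => hx h.1⟩
  · rw [isOpen_iff_forall_mem_open]
    intro x hx
    obtain ⟨V, ⟨hVo, hVc⟩, hxV, -⟩ :=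
      PrespectralSpace.isTopologicalBasis.exists_subset_of_mem_open
        (Set.mem_univ (WithTopology.ofTopology x)) isOpen_univ
    have h1 : IsConstructible (E ∩ V) := hE.inter_of_isOpen_isCompact hVo hVc
    refine ⟨tl (E ∩ V), ?_, (isClopen_tl_of_constructible h1).isOpen, ⟨hx, hxV⟩⟩
    rintro y ⟨hyE, -⟩
    exact hyE

theorem exists_constructible_of_generateOpen [QuasiSeparatedSpace Y] {s : Set Y}
    (hs : TopologicalSpace.GenerateOpen (constructibleTopologySubbasis Y) s) :
    ∀ x ∈ s, ∃ C, IsConstructible C ∧ x ∈ C ∧ C ⊆ s := by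
  induction hs with
  | basic s hs =>
    intro x hx
    refine ⟨s, ?_, hx, subset_rfl⟩
    rcases hs with ⟨ho, hc⟩ | ⟨hcl, hc⟩
    · exact hc.isConstructible ho
    · rw [← isConstructible_compl]
      exact hc.isConstructible hcl.isOpen_compl
  | univ => exact fun x _ => ⟨Set.univ, IsConstructible.univ, trivial, subset_rfl⟩
  | inter s t _ _ ihs iht =>
    rintro x ⟨hxs, hxt⟩
    obtain ⟨C1, hC1, hx1, hCs⟩ := ihs x hxs
    obtain ⟨C2, hC2, hx2, hCt⟩ := iht x hxt
    exact ⟨C1 ∩ C2, hC1.inter hC2, ⟨hx1, hx2⟩, Set.inter_subset_inter hCs hCt⟩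
  | sUnion S _ ih =>
    rintro x ⟨s, hsS, hxs⟩
    obtain ⟨C, hC, hxC, hCs⟩ := ih s hsS x hxs
    exact ⟨C, hC, hxC, hCs.trans (Set.subset_sUnion_of_mem hsS)⟩

theorem isConstructible_inter_of_isClopen_tl [QuasiSeparatedSpace Y] [QuasiSober Y]
    [PrespectralSpace Y] {E V : Set Y} (hE : IsClopen (tl E)) (hVo : IsOpen V) (hVc : IsCompact V) :
    IsConstructible (E ∩ V) := by
  have hK : IsCompact (tl (E ∩ V)) :=
    (isCompact_tl_of_compact_open hVo hVc).of_isClosed_subset
      (hE.isClosed.inter (isClopen_tl_of_compact_open hVo hVc).isClosed) (fun y hy => hy.2)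
  have hO : IsOpen (tl (E ∩ V)) := hE.isOpen.inter (isClopen_tl_of_compact_open hVo hVc).isOpen
  have hgen : TopologicalSpace.GenerateOpen (constructibleTopologySubbasis Y) (E ∩ V) :=
    (WithConstructibleTopology.isOpen_iff).mp hO
  have hex := exists_constructible_of_generateOpen hgen
  choose C hC hxC hCs using hex
  obtain ⟨t, ht⟩ := hK.elim_finite_subcover (fun i : {x // x ∈ E ∩ V} => tl (C i.1 i.2))
    (fun i => (isClopen_tl_of_constructible (hC i.1 i.2)).isOpen)
    (fun y hy => Set.mem_iUnion.mpr ⟨⟨WithTopology.ofTopology y, hy⟩, hxC _ hy⟩)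
  have heq : E ∩ V = ⋃ i ∈ (t : Set {x // x ∈ E ∩ V}), C i.1 i.2 := by
    apply subset_antisymm
    · intro x hx
      have := ht (show WithTopology.toTopology _ x ∈ tl (E ∩ V) from hx)
      simp only [Set.mem_iUnion] at this ⊢
      obtain ⟨i, hit, hi⟩ := this
      exact ⟨i, hit, hi⟩
    · exact Set.iUnion₂_subset fun i _ => hCs i.1 i.2
  rw [heq]
  exact IsConstructible.biUnion t.finite_toSet (fun i _ => hC i.1 i.2)

theorem isLocallyConstructible_of_isClopen_tl [QuasiSeparatedSpace Y] [QuasiSober Y]
    [PrespectralSpace Y] {E : Set Y} (hE : IsClopen (tl E)) : IsLocallyConstructible E := by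
  intro x
  obtain ⟨V, ⟨hVo, hVc⟩, hxV, -⟩ :=
    PrespectralSpace.isTopologicalBasis.exists_subset_of_mem_open (Set.mem_univ x) isOpen_univ
  refine ⟨V, hVo.mem_nhds hxV, hVo, ?_⟩
  have h1 := isConstructible_inter_of_isClopen_tl hE hVo hVc
  have h2 := h1.preimage_of_isOpenEmbedding hVo.isOpenEmbedding_subtypeVal
  convert h2 using 1
  ext y
  simp

theorem main_general [QuasiSeparatedSpace Y] [QuasiSober Y] [PrespectralSpace Y] (E : Set Y) :
    IsLocallyConstructible E ↔
      (IsOpen[constructibleTopology Y] E ∧ IsClosed[constructibleTopology Y] E) := by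
  have h1 : IsOpen[constructibleTopology Y] E ↔ IsOpen (tl E) :=
    (WithConstructibleTopology.isOpen_iff (s := tl E)).symm
  have h2 : IsClosed[constructibleTopology Y] E ↔ IsClosed (tl E) :=
    (WithConstructibleTopology.isClosed_iff (s := tl E)).symm
  rw [h1, h2]
  constructor
  · intro h
    have := isClopen_tl_of_locallyConstructible h
    exact ⟨this.isOpen, this.isClosed⟩
  · rintro ⟨ho, hc⟩
    exact isLocallyConstructible_of_isClopen_tl ⟨hc, ho⟩

end General

open AlgebraicGeometry Topology in
/-- Let X be a quasi-separated scheme. A subset E of X is locally constructible if and only if it is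
both open and closed for the constructible topology of X. Here the constructible topology is the one
generated by the quasi-compact open subsets of X and their complements; when X is quasi-separated
its open sets are exactly the ind-constructible subsets, i.e. it is the constructible topology of
the source (for a scheme that is not quasi-separated the two topologies differ, and this row does
not cover that case). -/
theorem result (X : Scheme.{u}) [QuasiSeparatedSpace X] (E : Set X) :
    Topology.IsLocallyConstructible E ↔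
      (IsOpen[constructibleTopology X] E ∧ IsClosed[constructibleTopology X] E) := by
  exact main_general E

end Groth.Agent.S12122
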