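import Groth.Statements.S1206
import Mathlib
import Groth.Agent.S12122
-- import your own Groth.Agent.* helpers here

set_option autoImplicit false
universe u
open FlatMor

namespace Groth.Agent.S1206


theorem exists_lower_bound (A : Type u) [CommRing A] (𝒮 : Set (Ideal A))
    (hmul : ∀ I ∈ 𝒮, ∀ J ∈ 𝒮, I * J ∈ 𝒮) (I₀ : Ideal A) (h₀ : I₀ ∈ 𝒮)
    (T : Set (Ideal A)) (hT : T.Finite) (hTS : T ⊆ 𝒮) :
    ∃ K ∈ 𝒮, K ≤ I₀ ∧ ∀ I ∈ T, K ≤ I := by
  induction T, hT using Set.Finite.induction_on with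
  | empty => exact ⟨I₀, h₀, le_rfl, by simp⟩
  | @insert a T _ _ ih =>
    obtain ⟨K, hK, hK0, hKT⟩ := ih (fun x hx => hTS (Set.mem_insert_of_mem _ hx))
    refine ⟨a * K, hmul a (hTS (Set.mem_insert _ _)) K hK, (Ideal.mul_le_right (I := a) (J := K)).trans hK0, ?_⟩
    intro I hI
    rcases hI with rfl | hI
    · exact Ideal.mul_le_left (I := I) (J := K)
    · exact (Ideal.mul_le_right (I := a) (J := K)).trans (hKT I hI)

theorem pow_succ_mem (A : Type u) [CommRing A] (𝒮 : Set (Ideal A))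
    (hmul : ∀ I ∈ 𝒮, ∀ J ∈ 𝒮, I * J ∈ 𝒮) (I : Ideal A) (hI : I ∈ 𝒮) (n : ℕ) : I ^ (n + 1) ∈ 𝒮 := by
  induction n with
  | zero => simpa using hI
  | succ n ih => rw [pow_succ]; exact hmul _ ih _ hI

/-- Let A be a local domain which is not a field and 𝒮 a set of finitely generated ideals of A, closed
under products, such that the union of the closed sets V(I), I ∈ 𝒮, is exactly the set of nonzero
primes (every nonzero prime contains a member of 𝒮 and no member is zero). Then the intersection of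
all members of 𝒮 is zero. -/
theorem result (A : Type u) [CommRing A] [IsDomain A] [IsLocalRing A] (hA : ¬ IsField A)
    (𝒮 : Set (Ideal A)) (hfg : ∀ I ∈ 𝒮, I.FG) (hmul : ∀ I ∈ 𝒮, ∀ J ∈ 𝒮, I * J ∈ 𝒮)
    (hne : ∀ I ∈ 𝒮, I ≠ ⊥) (hcov : ∀ (p : Ideal A), p.IsPrime → p ≠ ⊥ → ∃ I ∈ 𝒮, I ≤ p) :
    sInf 𝒮 = ⊥ := by
  classical
  rw [eq_bot_iff]
  intro f hf
  rw [Ideal.mem_bot]
  by_contra hf0
  have hfS : ∀ I ∈ 𝒮, f ∈ I := fun I hI => (Ideal.mem_sInf.mp hf) hI
  -- an element of 𝒮 inside the maximal ideal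
  have hm : IsLocalRing.maximalIdeal A ≠ ⊥ := fun h =>
    hA (IsLocalRing.isField_iff_maximalIdeal_eq.mpr h)
  obtain ⟨I₀, hI₀, hI₀m⟩ := hcov _ (IsLocalRing.maximalIdeal.isMaximal A).isPrime hm
  -- f is not a unit
  have hfu : ¬ IsUnit f := by
    intro hu
    have : I₀ = ⊤ := Ideal.eq_top_of_isUnit_mem _ (hfS I₀ hI₀) hu
    rw [this] at hI₀m
    exact (IsLocalRing.maximalIdeal.isMaximal A).ne_top (top_le_iff.mp hI₀m)
  -- compactness in the constructible topology
  have hK : IsCompact (Groth.Agent.S12122.tl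
      (PrimeSpectrum.zeroLocus ({f} : Set A))) := by
    apply IsClosed.isCompact
    have h1 := Groth.Agent.S12122.isClopen_tl_of_compact_open
      (PrimeSpectrum.basicOpen f).isOpen (PrimeSpectrum.isCompact_basicOpen f)
    rw [PrimeSpectrum.basicOpen_eq_zeroLocus_compl] at h1
    have h2 := h1.compl.isClosed
    rwa [Groth.Agent.S12122.tl, Set.preimage_compl, compl_compl] at h2
  have hopen : ∀ I ∈ 𝒮, IsOpen (Groth.Agent.S12122.tl (PrimeSpectrum.zeroLocus (I : Set A))) := by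
    intro I hI
    obtain ⟨hc, ho⟩ := PrimeSpectrum.isCompact_isOpen_iff_ideal.mpr ⟨I, hfg I hI, rfl⟩
    have h1 := (Groth.Agent.S12122.isClopen_tl_of_compact_open ho hc).compl.isOpen
    rwa [Groth.Agent.S12122.tl, ← Set.preimage_compl, compl_compl] at h1
  have hcover : Groth.Agent.S12122.tl (PrimeSpectrum.zeroLocus ({f} : Set A)) ⊆
      ⋃ I ∈ 𝒮, Groth.Agent.S12122.tl (PrimeSpectrum.zeroLocus (I : Set A)) := by
    intro x hx
    have hx' : f ∈ (WithTopology.ofTopology x).asIdeal := by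
      simpa [Groth.Agent.S12122.tl] using hx
    have hne : (WithTopology.ofTopology x).asIdeal ≠ ⊥ := by
      intro h
      rw [h, Ideal.mem_bot] at hx'
      exact hf0 hx'
    obtain ⟨I, hI, hIx⟩ := hcov _ (WithTopology.ofTopology x).isPrime hne
    simp only [Set.mem_iUnion]
    exact ⟨I, hI, hIx⟩
  obtain ⟨T, hTS, hTfin, hTcov⟩ := hK.elim_finite_subcover_image hopen hcover
  obtain ⟨K, hKS, hK0, hKT⟩ := exists_lower_bound A 𝒮 hmul I₀ hI₀ T hTfin hTS
  -- V(f) ⊆ V(K)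
  have hVK : PrimeSpectrum.zeroLocus ((Ideal.span {f} : Ideal A) : Set A) ⊆
      PrimeSpectrum.zeroLocus (K : Set A) := by
    intro q hq
    rw [PrimeSpectrum.zeroLocus_span] at hq
    have := hTcov (show WithTopology.toTopology _ q ∈ Groth.Agent.S12122.tl _ from hq)
    simp only [Set.mem_iUnion] at this
    obtain ⟨I, hIT, hqI⟩ := this
    have hqI' : (I : Set A) ⊆ q.asIdeal := hqI
    exact fun y hy => hqI' (hKT I hIT hy)
  rw [PrimeSpectrum.zeroLocus_subset_zeroLocus_iff] at hVK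
  obtain ⟨m, hm⟩ := Ideal.exists_pow_le_of_le_radical_of_fg hVK (hfg K hKS)
  have hK1 : K ^ (m + 1) ∈ 𝒮 := pow_succ_mem A 𝒮 hmul K hKS m
  have hK1le : K ^ (m + 1) ≤ Ideal.span {f} := (Ideal.pow_le_pow_right (Nat.le_succ m)).trans hm
  have hK2 : K ^ (m + 1) * K ^ (m + 1) ∈ 𝒮 := hmul _ hK1 _ hK1
  have hff : f ∈ Ideal.span {f * f} := by
    have := Ideal.mul_mono hK1le hK1le (hfS _ hK2)
    rwa [Ideal.span_singleton_mul_span_singleton] at this
  obtain ⟨a, ha⟩ := Ideal.mem_span_singleton'.mp hff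
  apply hfu
  have h1 : f * (a * f - 1) = 0 := by linear_combination ha
  rcases mul_eq_zero.mp h1 with h | h
  · exact absurd h hf0
  · exact IsUnit.of_mul_eq_one a (by linear_combination h)

end Groth.Agent.S1206
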