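import Groth.Statements.S12071
import Mathlib.GroupTheory.Archimedean
import Mathlib.Tactic.Ring
import Mathlib.Data.ZMod.Basic

set_option autoImplicit false
open RootD

namespace Groth.Agent.S12071

/-- Let G be the group generated by two elements x, y subject to x² = y² = 1 (the infinite dihedral
group; here Mathlib's DihedralGroup 0 with x = sr 0 and y = sr 1, so that x y = r 1). Then every
normal subgroup of G containing neither x nor y is generated by an element (x y)^n with n > 0; such
a subgroup is cyclic, generated by r n. (The published statement does not exclude the trivial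
subgroup, for which no n > 0 works; this row assumes the subgroup nontrivial.) -/
theorem result (N : Subgroup (DihedralGroup 0)) [N.Normal]
    (hN : N ≠ ⊥) (hx : DihedralGroup.sr (0 : ZMod 0) ∉ N) (hy : DihedralGroup.sr (1 : ZMod 0) ∉ N) :
    ∃ n : ℕ, 0 < n ∧ N = Subgroup.zpowers (DihedralGroup.r (n : ZMod 0)) := by
  have hnorm : N.Normal := inferInstance
  have hcz : CharZero (ZMod 0) := inferInstance
  have hinj : Function.Injective ((↑) : ℤ → ZMod 0) := Int.cast_injective
  have hsr : ∀ i : ℤ, DihedralGroup.sr (i : ZMod 0) ∉ N := by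
    intro i hi
    have hconj : ∀ k : ℤ, DihedralGroup.sr ((i - k - k : ℤ) : ZMod 0) ∈ N := by
      intro k
      have := hnorm.conj_mem _ hi (DihedralGroup.r (Int.cast k : ZMod 0))
      rw [DihedralGroup.r_mul_sr, DihedralGroup.inv_r, DihedralGroup.sr_mul_r] at this
      convert this using 2
      push_cast
      ring
    obtain ⟨k, hk | hk⟩ := Int.even_or_odd' i
    · apply hx
      have := hconj k
      have e : i - k - k = 0 := by omega
      rw [e] at this
      simpa using this
    · apply hy
      have := hconj k
      have e : i - k - k = 1 := by omega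
      rw [e] at this
      simpa using this
  let H : AddSubgroup ℤ :=
    { carrier := {i | DihedralGroup.r (i : ZMod 0) ∈ N}
      zero_mem' := by
        show DihedralGroup.r ((0 : ℤ) : ZMod 0) ∈ N
        rw [Int.cast_zero, DihedralGroup.r_zero]
        exact N.one_mem
      add_mem' := by
        intro a b ha hb
        show DihedralGroup.r ((a + b : ℤ) : ZMod 0) ∈ N
        have := N.mul_mem ha hb
        rwa [DihedralGroup.r_mul_r, ← Int.cast_add] at this
      neg_mem' := by
        intro a ha
        show DihedralGroup.r ((-a : ℤ) : ZMod 0) ∈ N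
        have := N.inv_mem ha
        rwa [DihedralGroup.inv_r, ← Int.cast_neg] at this }
  have hH : ∀ i : ℤ, i ∈ H ↔ DihedralGroup.r (i : ZMod 0) ∈ N := fun i => Iff.rfl
  obtain ⟨a, ha⟩ := Int.subgroup_cyclic H
  have hmem : ∀ i : ℤ, DihedralGroup.r (i : ZMod 0) ∈ N ↔ ∃ k : ℤ, k * a = i := by
    intro i
    rw [← hH, ha, AddSubgroup.mem_closure_singleton]
    simp only [smul_eq_mul]
  have ha0 : a ≠ 0 := by
    intro h0
    apply hN
    rw [Subgroup.eq_bot_iff_forall]
    intro g hg
    cases g with
    | r i =>
      obtain ⟨j, rfl⟩ := ZMod.intCast_surjective i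
      obtain ⟨k, hk⟩ := (hmem j).1 hg
      rw [h0, mul_zero] at hk
      rw [← hk, Int.cast_zero, DihedralGroup.r_zero]
    | sr i =>
      obtain ⟨j, rfl⟩ := ZMod.intCast_surjective i
      exact absurd hg (hsr j)
  refine ⟨a.natAbs, Int.natAbs_pos.2 ha0, ?_⟩
  ext g
  rw [Subgroup.mem_zpowers_iff]
  have hpow : ∀ k : ℤ, (DihedralGroup.r ((a.natAbs : ℕ) : ZMod 0)) ^ k =
      DihedralGroup.r (((a.natAbs : ℤ) * k : ℤ) : ZMod 0) := by
    intro k
    rw [DihedralGroup.r_zpow, Int.cast_mul, Int.cast_natCast]
  cases g with
  | r i =>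
    obtain ⟨j, rfl⟩ := ZMod.intCast_surjective i
    constructor
    · intro hg
      obtain ⟨k, hk⟩ := (hmem j).1 hg
      rcases Int.natAbs_eq a with h | h
      · refine ⟨k, ?_⟩
        rw [hpow]
        congr 2
        rw [← h, mul_comm]; exact hk
      · refine ⟨-k, ?_⟩
        rw [hpow]
        congr 2
        have : ((a.natAbs : ℕ) : ℤ) = -a := by omega
        rw [this, ← hk]; ring
    · rintro ⟨k, hk⟩
      rw [hpow] at hk
      have hk' : ((a.natAbs : ℕ) : ℤ) * k = j := hinj (DihedralGroup.r.inj hk)
      rw [hmem]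
      rcases Int.natAbs_eq a with h | h
      · exact ⟨k, by rw [← hk']; rw [← h]; ring⟩
      · refine ⟨-k, ?_⟩
        have : ((a.natAbs : ℕ) : ℤ) = -a := by omega
        rw [← hk', this]; ring
  | sr i =>
    obtain ⟨j, rfl⟩ := ZMod.intCast_surjective i
    constructor
    · intro hg
      exact absurd hg (hsr j)
    · rintro ⟨k, hk⟩
      rw [hpow] at hk
      exact absurd hk (by simp)

end Groth.Agent.S12071
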