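import Groth.Statements.S12076
import Groth.Agent.Lib.Helper3.RootD4

set_option autoImplicit false
open RootD

namespace Groth.Agent.S12076

open Groth.Agent.Lib.helper3.RootDLib

lemma exists_hom_lex_inj {ι M N : Type*} [AddCommGroup M] [AddCommGroup N]
    (P : RootPairing ι ℤ M N) [Finite ι] :
    ∃ (n : ℕ) (ψ : M →+ Lex (Fin n → ℤ)),
      ∀ x ∈ Submodule.span ℤ (Set.range P.root), ψ x = 0 → x = 0 := by
  classical
  haveI : Fintype ι := Fintype.ofFinite ι
  obtain ⟨n, ⟨e⟩⟩ := Finite.exists_equiv_fin ι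
  let φ : M →+ Lex (Fin n → ℤ) :=
    { toFun := fun m => toLex (fun a => P.coroot' (e.symm a) m)
      map_zero' := by
        change toLex (fun a => P.coroot' (e.symm a) 0) = toLex (0 : Fin n → ℤ)
        congr 1
        ext a
        simp
      map_add' := by
        intro x y
        change toLex (fun a => P.coroot' (e.symm a) (x + y)) =
          toLex ((fun a => P.coroot' (e.symm a) x) + (fun a => P.coroot' (e.symm a) y))
        congr 1
        ext a
        simp }
  refine ⟨n, φ, ?_⟩
  intro x hx h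
  have h1 : ∀ i, P.coroot' i x = 0 := by
    intro i
    have h2 := congrFun (congrArg ofLex h) (e i)
    simp [φ] at h2
    exact h2
  have h2 : x ∈ LinearMap.ker P.RootForm := by
    rw [LinearMap.mem_ker]
    ext y
    rw [P.rootForm_apply_apply]
    simp [h1]
  exact (Submodule.disjoint_def.mp P.disjoint_rootSpan_ker_rootForm) x hx h2

/-- Let Δ be a system of simple roots (a base b of a root pairing P over ℤ) and Γ₀ the subgroup
generated by the roots. Then Γ₀ has a structure of totally ordered group for which the roots > 0 are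
exactly the positive roots defined by Δ and for which the height (the additive function with value 1
on each simple root) is monotone. The order is given here by its positive cone C ⊆ Γ₀: 0 ∉ C, C + C
⊆ C, and for every x ≠ 0 exactly one of x, −x lies in C (x < y meaning y − x ∈ C). -/
theorem result {ι M N : Type*} [AddCommGroup M] [AddCommGroup N]
    (P : RootPairing ι ℤ M N) [Finite ι] (b : P.Base) :
    ∃ C : Set ↥(Submodule.span ℤ (Set.range P.root)),
      0 ∉ C ∧ (∀ x ∈ C, ∀ y ∈ C, x + y ∈ C) ∧ (∀ x, x ≠ 0 → (x ∈ C ∨ -x ∈ C)) ∧ (∀ x ∈ C, -x ∉ C) ∧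
      (∀ i : ι, (⟨P.root i, Submodule.subset_span (Set.mem_range_self i)⟩ : ↥(Submodule.span ℤ (Set.range P.root))) ∈ C ↔
        b.IsPos i) ∧
      ∀ φ : ↥(Submodule.span ℤ (Set.range P.root)) →+ ℤ,
        (∀ j ∈ b.support, φ ⟨P.root j, Submodule.subset_span (Set.mem_range_self j)⟩ = 1) →
        ∀ x y : ↥(Submodule.span ℤ (Set.range P.root)), y - x ∈ C → φ x ≤ φ y := by
  classical
  haveI : Fintype ι := Fintype.ofFinite ι
  obtain ⟨n, ψ, hψ⟩ := exists_hom_lex_inj P
  let s : Set ι := ↑b.support
  let v : s → M := fun j => P.root j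
  have hli : LinearIndependent ℤ v := b.linearIndepOn_root
  have hspan : Submodule.span ℤ (Set.range v) = Submodule.span ℤ (Set.range P.root) := by
    rw [← b.span_int_root_support]
    congr 1
    ext x
    simp [v, s]
  let B : Module.Basis s ℤ (Submodule.span ℤ (Set.range v)) := Module.Basis.span hli
  let E : (Submodule.span ℤ (Set.range P.root)) ≃ₗ[ℤ] Submodule.span ℤ (Set.range v) :=
    LinearEquiv.ofEq _ _ hspan.symm
  let ht : (Submodule.span ℤ (Set.range P.root)) →ₗ[ℤ] ℤ :=
    (B.constr ℤ (fun _ => (1 : ℤ))) ∘ₗ E.toLinearMap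
  have hEB : ∀ j (hj : j ∈ b.support),
      E ⟨P.root j, Submodule.subset_span (Set.mem_range_self j)⟩ = B ⟨j, hj⟩ := by
    intro j hj
    apply Subtype.ext
    rw [Module.Basis.span_apply]
    rfl
  have hht1 : ∀ j (hj : j ∈ b.support),
      ht ⟨P.root j, Submodule.subset_span (Set.mem_range_self j)⟩ = 1 := by
    intro j hj
    simp only [ht, LinearMap.comp_apply, LinearEquiv.coe_coe]
    rw [hEB j hj, Module.Basis.constr_basis]
  have hhtroot : ∀ i : ι,
      ht ⟨P.root i, Submodule.subset_span (Set.mem_range_self i)⟩ = b.height i := by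
    intro i
    obtain ⟨f, hf0, hf1, hf2⟩ := b.exists_root_eq_sum_int i
    rw [RootPairing.Base.height_eq_sum hf2]
    have h3 : (⟨P.root i, Submodule.subset_span (Set.mem_range_self i)⟩ :
        ↥(Submodule.span ℤ (Set.range P.root))) =
        ∑ j ∈ b.support, f j • (⟨P.root j, Submodule.subset_span (Set.mem_range_self j)⟩ :
          ↥(Submodule.span ℤ (Set.range P.root))) := by
      apply Subtype.ext
      rw [Submodule.coe_sum]
      simpa using hf2
    rw [h3, map_sum]
    apply Finset.sum_congr rfl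
    intro j hj
    rw [map_smul, hht1 j hj, smul_eq_mul, mul_one]
  have hφ : ∀ φ : ↥(Submodule.span ℤ (Set.range P.root)) →+ ℤ,
      (∀ j ∈ b.support, φ ⟨P.root j, Submodule.subset_span (Set.mem_range_self j)⟩ = 1) →
      ∀ x, φ x = ht x := by
    intro φ hφ1 x
    have h4 : φ.toIntLinearMap ∘ₗ E.symm.toLinearMap = B.constr ℤ (fun _ => (1 : ℤ)) := by
      apply B.ext
      rintro ⟨j, hj⟩
      rw [Module.Basis.constr_basis, ← hEB j hj]
      simp only [LinearMap.comp_apply, LinearEquiv.coe_coe, LinearEquiv.symm_apply_apply]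
      exact hφ1 j hj
    have h5 := LinearMap.congr_fun h4 (E x)
    simp only [LinearMap.comp_apply, LinearEquiv.coe_coe, LinearEquiv.symm_apply_apply] at h5
    exact h5
  let Ψ : ↥(Submodule.span ℤ (Set.range P.root)) →+ ℤ ×ₗ Lex (Fin n → ℤ) :=
    { toFun := fun x => toLex (ht x, ψ x.1)
      map_zero' := by
        rw [map_zero, Submodule.coe_zero, map_zero]
        rfl
      map_add' := by
        intro x y
        rw [map_add, Submodule.coe_add, map_add]
        rfl }
  have hΨ0 : ∀ x, Ψ x = 0 → x = 0 := by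
    intro x hx
    have h1 := congrArg (fun z => (ofLex z).2) hx
    exact Subtype.ext (hψ x.1 x.2 h1)
  have hΨfst : ∀ x, 0 < Ψ x → 0 ≤ ht x := by
    intro x hx
    have h1 : (0 : ℤ ×ₗ Lex (Fin n → ℤ)) < toLex (ht x, ψ x.1) := hx
    rw [Prod.Lex.lt_iff] at h1
    rcases h1 with h | ⟨h, _⟩
    · exact le_of_lt h
    · exact le_of_eq h
  refine ⟨{x | 0 < Ψ x}, ?_, ?_, ?_, ?_, ?_, ?_⟩
  · intro h
    have : (0 : ℤ ×ₗ Lex (Fin n → ℤ)) < Ψ 0 := h
    rw [map_zero] at this
    exact lt_irrefl _ this
  · intro x hx y hy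
    change 0 < Ψ (x + y)
    rw [map_add]
    exact add_pos hx hy
  · intro x hx
    have hne : Ψ x ≠ 0 := fun h => hx (hΨ0 x h)
    rcases lt_or_gt_of_ne hne with h | h
    · right
      change 0 < Ψ (-x)
      rw [map_neg]
      exact neg_pos.mpr h
    · left
      exact h
  · intro x hx hnx
    have h1 : 0 < Ψ (-x) := hnx
    rw [map_neg] at h1
    exact lt_asymm hx (neg_pos.mp h1)
  · intro i
    constructor
    · intro hi
      rw [RootPairing.Base.isPos_iff', ← hhtroot i]
      exact hΨfst _ hi
    · intro hi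
      rw [RootPairing.Base.isPos_iff, ← hhtroot i] at hi
      change (0 : ℤ ×ₗ Lex (Fin n → ℤ)) < toLex (ht _, ψ _)
      rw [Prod.Lex.lt_iff]
      left
      exact hi
  · intro φ hφ1 x y hxy
    have h1 := hΨfst _ hxy
    rw [← hφ φ hφ1, map_sub] at h1
    omega

end Groth.Agent.S12076
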