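import Groth.Statements.S12081
import Mathlib

set_option autoImplicit false
universe u
open TensorProduct
open EtAlg

namespace Groth.Agent.S12081



/-- Let `B' = B ×_A A'` be a fibre square of rings with `A' → A` surjective with kernel `I`, let `J =
Ker(B' → B)`, let `D'` be a `B'`-algebra and `C' = D' ⊗_{B'} A'`. Then the ideal `I C'` is, as a
subset of `C'`, the image of the ideal `J D'` under `D' → C'`; that is, the map `J D' → I C'` is
surjective. -/
theorem result (B' B A' A : Type u) [CommRing B'] [CommRing B] [CommRing A'] [CommRing A]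
    [Algebra B' B] [Algebra B' A'] [Algebra B A] [Algebra A' A] [Algebra B' A] [IsScalarTower B' B A] [IsScalarTower B' A' A]
    (hsq : EtMil.IsFibreSquare B' B A' A)
    (D' C' : Type u) [CommRing D'] [CommRing C'] [Algebra B' D'] [Algebra A' C']
    [Algebra D' C'] [Algebra B' C'] [IsScalarTower B' A' C'] [IsScalarTower B' D' C'] [Algebra.IsPushout B' A' D' C'] :
    (algebraMap D' C') '' ((RingHom.ker (algebraMap B' B)).map (algebraMap B' D') : Set D') =
      ((RingHom.ker (algebraMap A' A)).map (algebraMap A' C') : Set C') := by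
  set J := RingHom.ker (algebraMap B' B) with hJ
  set I := RingHom.ker (algebraMap A' A) with hI
  set J' : Ideal D' := J.map (algebraMap B' D') with hJ'
  -- lifting elements of I to J
  have lift : ∀ i ∈ I, ∃ j ∈ J, algebraMap B' A' j = i := by
    intro i hi
    have h0 : algebraMap B A 0 = algebraMap A' A i := by
      rw [map_zero]; exact ((RingHom.mem_ker).mp hi).symm
    obtain ⟨j, ⟨hj1, hj2⟩, -⟩ := hsq.2 0 i h0
    exact ⟨j, (RingHom.mem_ker).mpr hj1, hj2⟩
  have comm : ∀ j : B', algebraMap A' C' (algebraMap B' A' j) = algebraMap D' C' (algebraMap B' D' j) := by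
    intro j
    rw [← IsScalarTower.algebraMap_apply, ← IsScalarTower.algebraMap_apply]
  -- key lemma
  have key : ∀ c : C', ∀ i ∈ I, ∃ x ∈ J', algebraMap D' C' x = c * algebraMap A' C' i := by
    intro c
    refine (Algebra.IsPushout.out (R := B') (S := A') (R' := D') (S' := C')).inductionOn c
      (fun c => ∀ i ∈ I, ∃ x ∈ J', algebraMap D' C' x = c * algebraMap A' C' i) ?_ ?_ ?_ ?_
    · intro i _
      exact ⟨0, J'.zero_mem, by simp⟩
    · intro d i hi
      obtain ⟨j, hj, rfl⟩ := lift i hi
      refine ⟨d * algebraMap B' D' j, J'.mul_mem_left _ (Ideal.mem_map_of_mem _ hj), ?_⟩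
      rw [map_mul, comm]
      rfl
    · intro a c ih i hi
      obtain ⟨x, hx, hxe⟩ := ih (a * i) (I.mul_mem_left a hi)
      refine ⟨x, hx, ?_⟩
      rw [hxe, map_mul, Algebra.smul_def]
      ring
    · intro c₁ c₂ ih₁ ih₂ i hi
      obtain ⟨x₁, hx₁, e₁⟩ := ih₁ i hi
      obtain ⟨x₂, hx₂, e₂⟩ := ih₂ i hi
      exact ⟨x₁ + x₂, J'.add_mem hx₁ hx₂, by rw [map_add, e₁, e₂, add_mul]⟩
  ext y
  constructor
  · rintro ⟨x, hx, rfl⟩
    have hle : J' ≤ (I.map (algebraMap A' C')).comap (algebraMap D' C') := by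
      rw [hJ', Ideal.map_le_iff_le_comap]
      intro j hj
      rw [Ideal.mem_comap, Ideal.mem_comap, ← comm]
      apply Ideal.mem_map_of_mem
      rw [hI, RingHom.mem_ker, ← IsScalarTower.algebraMap_apply,
        IsScalarTower.algebraMap_apply B' B A, (RingHom.mem_ker).mp hj, map_zero]
    exact hle hx
  · intro hy
    have hy' : y ∈ Submodule.span C' ((algebraMap A' C') '' (I : Set A')) := hy
    rw [Submodule.mem_span_set'] at hy'
    obtain ⟨n, f, g, rfl⟩ := hy'
    have hk : ∀ k : Fin n, ∃ x ∈ J', algebraMap D' C' x = f k • (g k : C') := by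
      intro k
      obtain ⟨i, hi, hgi⟩ := (g k).2
      obtain ⟨x, hx, e⟩ := key (f k) i hi
      exact ⟨x, hx, by rw [e, ← hgi, smul_eq_mul]⟩
    choose x hx hxe using hk
    refine ⟨∑ k, x k, J'.sum_mem fun k _ => hx k, ?_⟩
    rw [map_sum]
    exact Finset.sum_congr rfl fun k _ => hxe k

end Groth.Agent.S12081
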