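import Groth.Statements.S12082
import Mathlib
import Groth.Agent.Lib.Helper26.CM2
import Groth.Agent.Lib.Helper26.CMPoly2
import Groth.Agent.Lib.Helper26.CMCat3

set_option autoImplicit false
set_option linter.style.haveILetI false
universe u
open Synt

namespace Groth.Agent.S12082

theorem aux (k : Type u) [Field k] (n : ℕ)
    (I : Ideal (MvPolynomial (Fin n) k)) (q : Ideal (MvPolynomial (Fin n) k ⧸ I)) [q.IsPrime] (c : ℕ)
    (q' : Ideal (MvPolynomial (Fin n) k)) [hq'p : q'.IsPrime]
    (hq' : q' = q.comap (Ideal.Quotient.mk I))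
    (hc : (c : ℕ∞) + q.height = q'.height)
    (f : Fin c → Localization.AtPrime q')
    (hf : ∀ i, f i ∈ I.map (algebraMap (MvPolynomial (Fin n) k) (Localization.AtPrime q')))
    (hgen : Ideal.span (Set.range f) ⊔
        IsLocalRing.maximalIdeal (Localization.AtPrime q') *
          I.map (algebraMap (MvPolynomial (Fin n) k) (Localization.AtPrime q')) =
      I.map (algebraMap (MvPolynomial (Fin n) k) (Localization.AtPrime q'))) :
    RingTheory.Sequence.IsRegular (Localization.AtPrime q') (List.ofFn f) := by
  classical
  have hIq' : I ≤ q' := by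
    intro x hx
    rw [hq', Ideal.mem_comap, Ideal.Quotient.eq_zero_iff_mem.mpr hx]
    exact q.zero_mem
  have hJm : I.map (algebraMap (MvPolynomial (Fin n) k) (Localization.AtPrime q')) ≤
      IsLocalRing.maximalIdeal (Localization.AtPrime q') := by
    rw [← Localization.AtPrime.map_eq_maximalIdeal]
    exact Ideal.map_mono hIq'
  -- Nakayama: `J = span (range f)`
  have hspan_le : Ideal.span (Set.range f) ≤
      I.map (algebraMap (MvPolynomial (Fin n) k) (Localization.AtPrime q')) := by
    rw [Ideal.span_le]
    rintro _ ⟨i, rfl⟩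
    exact hf i
  have hJeq : I.map (algebraMap (MvPolynomial (Fin n) k) (Localization.AtPrime q')) =
      Ideal.span (Set.range f) := by
    refine le_antisymm ?_ hspan_le
    refine Submodule.le_of_le_smul_of_le_jacobson_bot (IsNoetherian.noetherian _)
      (I := IsLocalRing.maximalIdeal (Localization.AtPrime q')) ?_ ?_
    · rw [IsLocalRing.jacobson_eq_maximalIdeal ⊥ bot_ne_top]
    · rw [smul_eq_mul]
      exact le_of_eq hgen.symm
  have hof : Ideal.ofList (List.ofFn f) =
      I.map (algebraMap (MvPolynomial (Fin n) k) (Localization.AtPrime q')) := by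
    rw [hJeq]
    change Ideal.span {x | x ∈ List.ofFn f} = _
    congr 1
    ext x
    exact List.mem_ofFn' f x
  have hmem : ∀ x ∈ List.ofFn f, x ∈ IsLocalRing.maximalIdeal (Localization.AtPrime q') := by
    intro x hx
    obtain ⟨i, rfl⟩ := (List.mem_ofFn' f x).mp hx
    exact hJm (hf i)
  -- dimensions
  have hdimR : ringKrullDim (Localization.AtPrime q') = (q'.height : WithBot ℕ∞) :=
    IsLocalization.AtPrime.ringKrullDim_eq_height q' (Localization.AtPrime q')
  have hsub : Algebra.algebraMapSubmonoid (MvPolynomial (Fin n) k ⧸ I) q'.primeCompl =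
      q.primeCompl := by
    ext y
    constructor
    · rintro ⟨x, hx, rfl⟩
      intro hy
      apply hx
      rw [hq']
      exact hy
    · intro hy
      obtain ⟨x, rfl⟩ := Ideal.Quotient.mk_surjective y
      refine ⟨x, ?_, rfl⟩
      intro hx
      apply hy
      rw [hq'] at hx
      exact hx
  haveI : IsLocalization q.primeCompl (Localization.AtPrime q' ⧸
      I.map (algebraMap (MvPolynomial (Fin n) k) (Localization.AtPrime q'))) := by
    rw [← hsub]; infer_instance
  have hdimQ : ringKrullDim (Localization.AtPrime q' ⧸
      I.map (algebraMap (MvPolynomial (Fin n) k) (Localization.AtPrime q'))) =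
      (q.height : WithBot ℕ∞) :=
    IsLocalization.AtPrime.ringKrullDim_eq_height q (Localization.AtPrime q' ⧸
      I.map (algebraMap (MvPolynomial (Fin n) k) (Localization.AtPrime q')))
  -- `R` is Cohen–Macaulay
  haveI := Groth.Agent.Lib.helper26.CMCat.isCohenMacaulayRing_field k
  haveI hPcm : LocCoh.IsCohenMacaulayRing (MvPolynomial (Fin n) k) :=
    Groth.Agent.Lib.helper26.CMPoly.isCohenMacaulayRing_mvPolynomial k n
  have hRcm : LocCoh.IsCohenMacaulayLocalRing (Localization.AtPrime q') :=
    hPcm.isCohenMacaulayLocalRing_localization q'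
  have hMcm : LocCoh.IsCohenMacaulayModule (Localization.AtPrime q') (Localization.AtPrime q') :=
    hRcm.supportDim_eq_depth
  have hsd : Module.supportDim (Localization.AtPrime q') (Localization.AtPrime q' ⧸
        (Ideal.ofList (List.ofFn f) • ⊤ : Submodule (Localization.AtPrime q')
          (Localization.AtPrime q'))) +
      ((List.ofFn f).length : WithBot ℕ∞) =
      Module.supportDim (Localization.AtPrime q') (Localization.AtPrime q') := by
    have e : (Localization.AtPrime q' ⧸ (Ideal.ofList (List.ofFn f) • ⊤ :
        Submodule (Localization.AtPrime q') (Localization.AtPrime q'))) ≃ₗ[Localization.AtPrime q']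
        (Localization.AtPrime q' ⧸
          I.map (algebraMap (MvPolynomial (Fin n) k) (Localization.AtPrime q'))) :=
      Submodule.quotEquivOfEq _ _ (by rw [smul_eq_mul, Ideal.mul_top, hof])
    rw [Module.supportDim_eq_of_equiv e, Module.supportDim_quotient_eq_ringKrullDim,
      Module.supportDim_self_eq_ringKrullDim, hdimQ, hdimR, List.length_ofFn, ← hc, add_comm]
    push_cast
    rfl
  have hwr := Groth.Agent.Lib.helper26.Depth.isWeaklyRegular_of_supportDim_quot_ofList
    (List.ofFn f) (Localization.AtPrime q') hMcm hmem hsd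
  refine ⟨hwr, ?_⟩
  rw [smul_eq_mul, Ideal.mul_top, hof]
  intro htop
  have h1 := hJm
  rw [← htop] at h1
  exact (IsLocalRing.maximalIdeal.isMaximal (Localization.AtPrime q')).ne_top (top_le_iff.mp h1)

/-- Let `S = k[x_1, …, x_n]/I` over a field `k`, `q` a prime of `S` with preimage `q'` in the polynomial
ring, `c` the natural number with `c + ht(q) = ht(q')`, and `J` the extension of `I` to the local
ring `R = k[x_1, …, x_n]_{q'}`. Any `c` elements of `J` whose images generate `J / q' J` form a
regular sequence in `R`. -/
theorem result (k : Type u) [Field k] (n : ℕ)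
    (I : Ideal (MvPolynomial (Fin n) k)) (q : Ideal (MvPolynomial (Fin n) k ⧸ I)) [q.IsPrime] (c : ℕ)
    (hc : (c : ℕ∞) + q.height = (q.comap (Ideal.Quotient.mk I)).height)
    (f : Fin c → Localization.AtPrime (q.comap (Ideal.Quotient.mk I)))
    (hf : ∀ i, f i ∈ I.map (algebraMap _ (Localization.AtPrime (q.comap (Ideal.Quotient.mk I)))))
    (hgen : Ideal.span (Set.range f) ⊔
        IsLocalRing.maximalIdeal (Localization.AtPrime (q.comap (Ideal.Quotient.mk I))) *
          I.map (algebraMap _ (Localization.AtPrime (q.comap (Ideal.Quotient.mk I)))) =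
      I.map (algebraMap _ (Localization.AtPrime (q.comap (Ideal.Quotient.mk I))))) :
    RingTheory.Sequence.IsRegular (Localization.AtPrime (q.comap (Ideal.Quotient.mk I))) (List.ofFn f) := by
  exact aux k n I q c (q.comap (Ideal.Quotient.mk I)) rfl hc f hf hgen

end Groth.Agent.S12082
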