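import Groth.Statements.S12091
import Mathlib

set_option autoImplicit false
universe u
open TensorProduct MvPolynomial
open FlatMor

namespace Groth.Agent.S12091

open TensorProduct MvPolynomial

section lin
variable {A : Type u} [CommRing A] {m : ℕ}

/-- the linear form attached to a vector -/
noncomputable def linF (v : Fin m → A) : MvPolynomial (Fin m) A := ∑ j, C (v j) * X j

lemma linF_add (v w : Fin m → A) : linF (v + w) = linF v + linF w := by
  unfold linF
  rw [← Finset.sum_add_distrib]
  refine Finset.sum_congr rfl fun j _ => ?_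
  rw [Pi.add_apply, C_add, add_mul]

lemma linF_smul (a : A) (v : Fin m → A) : linF (a • v) = a • linF v := by
  unfold linF
  rw [Finset.smul_sum]
  refine Finset.sum_congr rfl fun j _ => ?_
  rw [Pi.smul_apply, smul_eq_mul, C_mul, mul_assoc, MvPolynomial.smul_eq_C_mul]

noncomputable def linL : (Fin m → A) →ₗ[A] MvPolynomial (Fin m) A where
  toFun := linF
  map_add' := linF_add
  map_smul' a v := linF_smul a v

lemma linF_single (j : Fin m) : linF (Pi.single j (1 : A)) = X j := by
  unfold linF
  rw [Finset.sum_eq_single j]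
  · rw [Pi.single_eq_same, C_1, one_mul]
  · intro i _ hij
    rw [Pi.single_eq_of_ne hij, C_0, zero_mul]
  · intro h
    exact absurd (Finset.mem_univ j) h

end lin

section deriv
variable {A : Type u} [CommRing A] {C' : Type u} [CommRing C'] [Algebra A C'] {m : ℕ}
  [Algebra (MvPolynomial (Fin m) A) C'] [IsScalarTower A (MvPolynomial (Fin m) A) C']
  {K' : Type u} [AddCommGroup K'] [Module A K']

lemma deriv_mul_zero (D : Derivation A (MvPolynomial (Fin m) A) (C' ⊗[A] K'))
    (p q : MvPolynomial (Fin m) A)
    (hp : algebraMap (MvPolynomial (Fin m) A) C' p = 0)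
    (hq : algebraMap (MvPolynomial (Fin m) A) C' q = 0) : D (p * q) = 0 := by
  rw [D.leibniz, ← algebraMap_smul C' p, ← algebraMap_smul C' q, hp, hq, zero_smul, zero_smul,
    add_zero]

/-- values of the derivation on the variables -/
noncomputable def fD (κ : (Fin m → A) →ₗ[A] K') : Fin m → C' ⊗[A] K' :=
  fun j => (1 : C') ⊗ₜ[A] κ (fun i => if j = i then 1 else 0)

lemma D_exists (κ : (Fin m → A) →ₗ[A] K') :
    ∃ D : MvPolynomial (Fin m) A → C' ⊗[A] K',
      D 0 = 0 ∧ (∀ p q, D (p + q) = D p + D q) ∧
      (∀ p ∈ (RingHom.ker (algebraMap (MvPolynomial (Fin m) A) C')) ^ 2, D p = 0) ∧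
      (∀ r v, algebraMap (MvPolynomial (Fin m) A) C' (linF v) = 0 →
        D (r * linF v) = algebraMap (MvPolynomial (Fin m) A) C' r ⊗ₜ[A] κ v) := by
  have hlin : ∀ v, MvPolynomial.mkDerivation A (fD (C' := C') κ) (linF v) = (1 : C') ⊗ₜ[A] κ v := by
    intro v
    have h1 : MvPolynomial.mkDerivation A (fD (C' := C') κ) (linF v) =
        ∑ j, (1 : C') ⊗ₜ[A] (v j • κ (fun i => if j = i then 1 else 0)) := by
      unfold linF
      rw [map_sum]
      refine Finset.sum_congr rfl fun j _ => ?_
      rw [← MvPolynomial.smul_eq_C_mul, Derivation.map_smul, MvPolynomial.mkDerivation_X,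
        TensorProduct.tmul_smul]
      rfl
    rw [h1, ← TensorProduct.tmul_sum, ← LinearMap.pi_apply_eq_sum_univ]
  refine ⟨MvPolynomial.mkDerivation A (fD (C' := C') κ), map_zero _, fun p q => map_add _ p q,
    ?_, ?_⟩
  · intro p hp
    rw [pow_two] at hp
    refine Submodule.mul_induction_on hp
      (fun a ha b hb => deriv_mul_zero _ a b (RingHom.mem_ker.1 ha) (RingHom.mem_ker.1 hb))
      (fun a b ha hb => by rw [map_add, ha, hb, add_zero])
  · intro r v hv
    rw [Derivation.leibniz, hlin, ← algebraMap_smul C' (linF v), hv, zero_smul, add_zero,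
      ← algebraMap_smul C' r, TensorProduct.smul_tmul', smul_eq_mul, mul_one]

end deriv

section main
variable {A : Type u} [CommRing A] {M : Type u} [AddCommGroup M] [Module A M] {m : ℕ}
  (x : Fin m → M) (hx : Function.Surjective (Fintype.linearCombination A x))
  (G : Algebra.Generators A (SymmetricAlgebra A M) (Fin m))
  (hG : ∀ j, G.val j = SymmetricAlgebra.ι A M (x j))

include hG in
lemma alpha_linF (v : Fin m → A) :
    algebraMap G.Ring (SymmetricAlgebra A M) (linF v) =
      SymmetricAlgebra.ι A M (Fintype.linearCombination A x v) := by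
  rw [G.algebraMap_apply, Fintype.linearCombination_apply, map_sum]
  unfold linF
  rw [map_sum]
  refine Finset.sum_congr rfl fun j _ => ?_
  rw [map_mul, aeval_C, aeval_X, hG, map_smul, Algebra.smul_def]

include hG in
lemma linF_mem_ker (k : LinearMap.ker (Fintype.linearCombination A x)) :
    linF (k : Fin m → A) ∈ G.toExtension.ker := by
  refine RingHom.mem_ker.2 ?_
  show algebraMap G.Ring (SymmetricAlgebra A M) (linF (k : Fin m → A)) = 0
  rw [alpha_linF x G hG, LinearMap.mem_ker.1 k.2, map_zero]

/-- the `A`-linear map `K → J/J²`. -/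
noncomputable def f0 :
    LinearMap.ker (Fintype.linearCombination A x) →ₗ[A] G.toExtension.Cotangent where
  toFun k := Algebra.Extension.Cotangent.mk ⟨linF (k : Fin m → A), linF_mem_ker x G hG k⟩
  map_add' k k' := by
    rw [← map_add]
    exact congrArg _ (Subtype.ext (linF_add _ _))
  map_smul' a k := by
    have h1 := (Algebra.Extension.Cotangent.mk (P := G.toExtension)).map_smul
      (algebraMap A G.toExtension.Ring a) ⟨linF (k : Fin m → A), linF_mem_ker x G hG k⟩
    rw [algebraMap_smul, algebraMap_smul] at h1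
    rw [RingHom.id_apply, ← h1]
    exact congrArg _ (Subtype.ext (linF_smul a _))

/-- ideal generated by the linear forms of relations -/
noncomputable def J0 : Ideal (MvPolynomial (Fin m) A) :=
  Ideal.span (Set.range fun k : LinearMap.ker (Fintype.linearCombination A x) =>
    linF (k : Fin m → A))

include hx hG in
lemma ker_le_J0 {p : MvPolynomial (Fin m) A} (hp : p ∈ G.toExtension.ker) : p ∈ J0 x := by
  have hψ : LinearMap.ker (Fintype.linearCombination A x) ≤
      LinearMap.ker ((Ideal.Quotient.mkₐ A (J0 x)).toLinearMap ∘ₗ linL) := by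
    intro k hk
    rw [LinearMap.mem_ker]
    show Ideal.Quotient.mk (J0 x) (linF k) = 0
    exact Ideal.Quotient.eq_zero_iff_mem.2 (Ideal.subset_span ⟨⟨k, hk⟩, rfl⟩)
  obtain ⟨φ, hφ⟩ : ∃ φ : M →ₗ[A] (MvPolynomial (Fin m) A ⧸ J0 x),
      ∀ v, φ (Fintype.linearCombination A x v) = Ideal.Quotient.mk (J0 x) (linF v) := by
    refine ⟨((LinearMap.ker (Fintype.linearCombination A x)).liftQ _ hψ) ∘ₗ
      ((Fintype.linearCombination A x).quotKerEquivOfSurjective hx).symm.toLinearMap, ?_⟩
    intro v
    show (LinearMap.ker (Fintype.linearCombination A x)).liftQ _ hψ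
      (((Fintype.linearCombination A x).quotKerEquivOfSurjective hx).symm
        (Fintype.linearCombination A x v)) = _
    rw [LinearMap.quotKerEquivOfSurjective_symm_apply]
    rfl
  have hβ : (SymmetricAlgebra.lift φ).comp (IsScalarTower.toAlgHom A G.Ring (SymmetricAlgebra A M)) =
      Ideal.Quotient.mkₐ A (J0 x) := by
    apply MvPolynomial.algHom_ext
    intro j
    show SymmetricAlgebra.lift φ (algebraMap G.Ring (SymmetricAlgebra A M) (X j)) =
      Ideal.Quotient.mk (J0 x) (X j)
    have e1 : x j = Fintype.linearCombination A x (Pi.single j 1) := by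
      rw [Fintype.linearCombination_apply_single, one_smul]
    rw [G.algebraMap_apply, aeval_X, hG, SymmetricAlgebra.lift_ι_apply, e1, hφ, linF_single]
  have h1 : Ideal.Quotient.mk (J0 x) p =
      SymmetricAlgebra.lift φ (algebraMap G.Ring (SymmetricAlgebra A M) p) :=
    (AlgHom.congr_fun hβ p).symm
  have h2 : algebraMap G.Ring (SymmetricAlgebra A M) p = 0 := RingHom.mem_ker.1 hp
  rw [h2, map_zero] at h1
  exact Ideal.Quotient.eq_zero_iff_mem.1 h1

include hx in
lemma e_surj :
    Function.Surjective ((f0 x G hG).liftBaseChange (SymmetricAlgebra A M)) := by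
  intro c
  obtain ⟨⟨p, hp⟩, rfl⟩ := Algebra.Extension.Cotangent.mk_surjective c
  have hp0 : p ∈ J0 x := ker_le_J0 x hx G hG hp
  have key : ∀ q (hq : q ∈ J0 x), ∃ t, ∃ hq' : q ∈ G.toExtension.ker,
      (f0 x G hG).liftBaseChange (SymmetricAlgebra A M) t =
        Algebra.Extension.Cotangent.mk ⟨q, hq'⟩ := by
    intro q hq
    refine Submodule.span_induction (p := fun (q : MvPolynomial (Fin m) A) _ =>
      ∃ t, ∃ hq' : q ∈ G.toExtension.ker,
      (f0 x G hG).liftBaseChange (SymmetricAlgebra A M) t =
        Algebra.Extension.Cotangent.mk ⟨q, hq'⟩) ?_ ?_ ?_ ?_ hq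
    · rintro _ ⟨k, rfl⟩
      exact ⟨1 ⊗ₜ k, linF_mem_ker x G hG k, LinearMap.liftBaseChange_one_tmul _ _ k⟩
    · refine ⟨0, Submodule.zero_mem _, ?_⟩
      rw [map_zero]
      exact (map_zero (Algebra.Extension.Cotangent.mk (P := G.toExtension))).symm
    · rintro q q' _ _ ⟨t, hq, ht⟩ ⟨t', hq', ht'⟩
      refine ⟨t + t', Submodule.add_mem _ hq hq', ?_⟩
      rw [map_add, ht, ht']
      exact (map_add _ _ _).symm
    · rintro r q _ ⟨t, hq, ht⟩
      refine ⟨algebraMap G.Ring (SymmetricAlgebra A M) r • t, Ideal.mul_mem_left _ r hq, ?_⟩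
      rw [map_smul, ht, algebraMap_smul]
      exact ((Algebra.Extension.Cotangent.mk (P := G.toExtension)).map_smul r ⟨q, hq⟩).symm
  obtain ⟨t, hq', ht⟩ := key p hp0
  exact ⟨t, ht⟩

include hx in
lemma e_inj [Module.Projective A M] :
    Function.Injective ((f0 x G hG).liftBaseChange (SymmetricAlgebra A M)) := by
  letI iAlg : Algebra (MvPolynomial (Fin m) A) (SymmetricAlgebra A M) := G.algebra
  haveI iST : IsScalarTower A (MvPolynomial (Fin m) A) (SymmetricAlgebra A M) :=
    inferInstanceAs (IsScalarTower A G.Ring (SymmetricAlgebra A M))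
  obtain ⟨s, hs⟩ := Module.projective_lifting_property (Fintype.linearCombination A x)
    LinearMap.id hx
  have hs' : ∀ y, Fintype.linearCombination A x (s y) = y := fun y => LinearMap.congr_fun hs y
  obtain ⟨κ, hκ⟩ : ∃ κ : (Fin m → A) →ₗ[A] LinearMap.ker (Fintype.linearCombination A x),
      ∀ k : LinearMap.ker (Fintype.linearCombination A x), κ (k : Fin m → A) = k := by
    refine ⟨LinearMap.codRestrict _ (LinearMap.id - s ∘ₗ Fintype.linearCombination A x)
      (fun v => ?_), ?_⟩
    · rw [LinearMap.mem_ker, LinearMap.sub_apply, map_sub, LinearMap.id_apply,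
        LinearMap.comp_apply, hs', sub_self]
    · intro k
      apply Subtype.ext
      show (k : Fin m → A) - s (Fintype.linearCombination A x k) = k
      rw [LinearMap.mem_ker.1 k.2, map_zero, sub_zero]
  obtain ⟨D, hD0, hDadd, hDsq, hDlin⟩ := D_exists (C' := SymmetricAlgebra A M) κ
  have key : ∀ t : SymmetricAlgebra A M ⊗[A] LinearMap.ker (Fintype.linearCombination A x),
      ∃ p : MvPolynomial (Fin m) A, ∃ hp : p ∈ G.toExtension.ker,
        (f0 x G hG).liftBaseChange (SymmetricAlgebra A M) t =
          Algebra.Extension.Cotangent.mk ⟨p, hp⟩ ∧ D p = t := by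
    intro t
    induction t using TensorProduct.induction_on with
    | zero =>
      refine ⟨0, Submodule.zero_mem _, ?_, hD0⟩
      rw [map_zero]
      exact (map_zero (Algebra.Extension.Cotangent.mk (P := G.toExtension))).symm
    | tmul c k =>
      obtain ⟨r, rfl⟩ := G.algebraMap_surjective c
      have hk := linF_mem_ker x G hG k
      refine ⟨r * linF (k : Fin m → A), Ideal.mul_mem_left _ r hk, ?_, ?_⟩
      · rw [LinearMap.liftBaseChange_tmul, algebraMap_smul]
        exact ((Algebra.Extension.Cotangent.mk (P := G.toExtension)).map_smul r ⟨_, hk⟩).symm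
      · have h0 : algebraMap (MvPolynomial (Fin m) A) (SymmetricAlgebra A M)
            (linF (k : Fin m → A)) = 0 := RingHom.mem_ker.1 hk
        rw [hDlin r _ h0, hκ]
    | add t t' ht ht' =>
      obtain ⟨p, hp, h1, h2⟩ := ht
      obtain ⟨p', hp', h1', h2'⟩ := ht'
      refine ⟨p + p', Submodule.add_mem _ hp hp', ?_, ?_⟩
      · rw [map_add, h1, h1']
        exact (map_add _ _ _).symm
      · exact (hDadd p p').trans (congrArg₂ (· + ·) h2 h2')
  refine (injective_iff_map_eq_zero _).2 fun t ht => ?_
  obtain ⟨p, hp, h1, h2⟩ := key t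
  rw [h1] at ht
  have h3 : p ∈ G.toExtension.ker ^ 2 :=
    (Algebra.Extension.Cotangent.mk_eq_zero_iff (P := G.toExtension) ⟨p, hp⟩).1 ht
  rw [← h2]
  exact hDsq p h3

end main


/-- Let `x_1, …, x_m` generate the `A`-module `M`, let `K ⊆ A^m` be the module of relations, `C =
Sym_A(M)` and `α : A[y_1, …, y_m] → C` the presentation with `y_j ↦ x_j`, with kernel `J`. Then the
`C`-linear map `C ⊗_A K → J/J²` sending `1 ⊗ k` to the class of `Σ_j k_j y_j` is surjective, and it
is bijective when `M` is a projective `A`-module (so that then `J/J² ≅ K ⊗_A C` and the naive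
cotangent complex of `α` is `K ⊗_A C → ⊕_j C dy_j`). (The published statement asserts `J/J² ≅ K ⊗_A
C` for every `M`. For `A = ℤ`, `M = (ℤ/2)²`, `m = 2` and the two unit vectors, `K = 2ℤ²` and the
element `y_2 ⊗ (2, 0) - y_1 ⊗ (0, 2)` of `C ⊗_A K` is non-zero but maps to the class of `y_2 · 2y_1
- y_1 · 2y_2 = 0`; in degree `2` the graded piece of `J/J²` has `8` elements and that of `K ⊗_A C`
has `16`. The published degree-by-degree computation does show that `J` is generated by the linear
forms coming from `K`, which is the surjectivity, and it is valid as written when `0 → K → A^m → M →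
0` splits, which is the projective case.) -/
theorem result (A : Type u) [CommRing A] (M : Type u)
    [AddCommGroup M] [Module A M] (m : ℕ) (x : Fin m → M)
    (hx : Function.Surjective (Fintype.linearCombination A x))
    (G : Algebra.Generators A (SymmetricAlgebra A M) (Fin m))
    (hG : ∀ j, G.val j = SymmetricAlgebra.ι A M (x j)) :
    ∃ e : SymmetricAlgebra A M ⊗[A] (LinearMap.ker (Fintype.linearCombination A x)) →ₗ[SymmetricAlgebra A M]
        G.toExtension.Cotangent,
      (∀ (k : LinearMap.ker (Fintype.linearCombination A x))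
        (hk : (∑ j, C ((k : Fin m → A) j) * X j : MvPolynomial (Fin m) A) ∈ G.toExtension.ker),
        e (1 ⊗ₜ k) = Algebra.Extension.Cotangent.mk ⟨_, hk⟩) ∧
      Function.Surjective e ∧ (Module.Projective A M → Function.Bijective e) := by
  classical
  refine ⟨(f0 x G hG).liftBaseChange (SymmetricAlgebra A M), ?_, e_surj x hx G hG, ?_⟩
  · intro k hk
    rw [LinearMap.liftBaseChange_one_tmul]
    rfl
  · intro hproj
    exact ⟨e_inj x hx G hG, e_surj x hx G hG⟩


end Groth.Agent.S12091
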