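import Groth.Statements.S12092
import Mathlib
import Groth.Agent.Lib.Helper13.TorLow3
import Groth.Agent.Lib.Helper23.ExtSc2
-- import your own Groth.Agent.* helpers here

set_option autoImplicit false
universe u
open CategoryTheory
attribute [local instance] HasDerivedCategory.standard
open DRing

namespace Groth.Agent.S12092


open Groth.Agent.Lib.helper13.KFlat Groth.Agent.Lib.helper13.LTenCx
  Groth.Agent.Lib.helper23.TA Groth.Agent.Lib.helper13.ExtKFlat Groth.Agent.Lib.helper13.TorLow
  HomologicalComplex

/-- localization at a prime is flat, in `RingHom.Flat` form -/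
lemma flat_atPrime {R : Type u} [CommRing R] (p : Ideal R) [p.IsPrime] :
    (algebraMap R (Localization.AtPrime p)).Flat := by
  rw [RingHom.flat_algebraMap_iff]
  exact IsLocalization.flat (Localization.AtPrime p) p.primeCompl

/-- a module all of whose localizations at maximal ideals vanish is zero (extension of scalars
form) -/
lemma subsingleton_of_forall_maximal {R : Type u} [CommRing R] (M : ModuleCat.{u} R)
    (h : ∀ m : {m : Ideal R // m.IsMaximal},
      Subsingleton ((ModuleCat.extendScalars.{u, u, u}
        (algebraMap R (@Localization.AtPrime R _ m.1 (@Ideal.IsMaximal.isPrime' _ _ m.1 m.2)))).obj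
          M)) :
    Subsingleton M := by
  haveI : ∀ (P : Ideal R) [P.IsMaximal], IsLocalizedModule P.primeCompl
      (TensorProduct.mk R (Localization.AtPrime P) M 1) := fun P _ =>
    (isLocalizedModule_iff_isBaseChange P.primeCompl (Localization.AtPrime P) _).mpr
      (TensorProduct.isBaseChange R M (Localization.AtPrime P))
  refine Module.subsingleton_of_localization_maximal (R := R) (M := M)
    (fun P _ => TensorProduct R (Localization.AtPrime P) M)
    (fun P _ => TensorProduct.mk R (Localization.AtPrime P) M 1) ?_
  intro P hP
  exact (Groth.Agent.Lib.helper23.ExtSc.subsingleton_extend_iff (A := R)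
      (B := Localization.AtPrime P) M).1 (h ⟨P, hP⟩)

/-- exactness of a complex is reflected by restriction of scalars -/
lemma exactAt_res_iff {R S : Type u} [CommRing R] [CommRing S] (f : R →+* S) (M : DRing.Cx S)
    (i : ℤ) : ((resCx f).obj M).ExactAt i ↔ M.ExactAt i := by
  rw [exactAt_iff_isZero_homology, exactAt_iff_isZero_homology]
  exact isZero_homology_map_iff (ModuleCat.restrictScalars.{u} f) M i

/-- extension of scalars along a flat ring map preserves quasi-isomorphisms -/
lemma quasiIso_extCx_map {R S : Type u} [CommRing R] [CommRing S] (f : R →+* S) (hf : f.Flat)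
    {X Y : DRing.Cx R} (g : X ⟶ Y) [QuasiIso g] : QuasiIso ((extCx f).map g) := by
  haveI := Groth.Agent.Lib.helper23.ExtSc.preservesFiniteLimits_extendScalars f hf
  haveI := Groth.Agent.Lib.helper23.ExtSc.preservesFiniteColimits_extendScalars f
  infer_instance


/-- (3) ⇒ (1): let `A → B` be a ring map and `K•` a complex of `B`-modules. Suppose that for every
maximal ideal `m ⊆ B`, with `p` its inverse image in `A`, the localization `K•_m`, viewed as a
complex of `A_p`-modules, has tor amplitude in `[a, b]`. Then `K•`, regarded over `A` by restriction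
of scalars, has tor amplitude in `[a, b]`. (Tor amplitude in the frozen sense: isomorphic in the
derived category to a complex of flat modules vanishing outside `[a, b]`.) -/
theorem result (A B : Type u) [CommRing A] [CommRing B]
    [Algebra A B] (K : DRing.Cx B) (a b : ℤ)
    (h3 : ∀ (m : Ideal B) [m.IsMaximal],
      DRing.HasTorAmplitudeIn (Localization.AtPrime (m.comap (algebraMap A B))) a b
        (DRing.toD ((DRing.restrictCx (Localization.localRingHom (m.comap (algebraMap A B)) m (algebraMap A B) rfl)).obj
          (((ModuleCat.extendScalars (algebraMap B (Localization.AtPrime m))).mapHomologicalComplex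
            (ComplexShape.up ℤ)).obj K)))) :
    DRing.HasTorAmplitudeIn A a b (DRing.toD ((DRing.restrictCx (algebraMap A B)).obj K)) := by
  classical
  -- the family of localizations of `B` at its maximal ideals
  let ι := {m : Ideal B // m.IsMaximal}
  let Bm : ι → Type u := fun m =>
    @Localization.AtPrime B _ m.1 (@Ideal.IsMaximal.isPrime' _ _ m.1 m.2)
  let l : ∀ m : ι, B →+* Bm m := fun m =>
    algebraMap B (@Localization.AtPrime B _ m.1 (@Ideal.IsMaximal.isPrime' _ _ m.1 m.2))
  have hflat : ∀ m : ι, (l m).Flat := fun m => by
    haveI : m.1.IsMaximal := m.2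
    exact flat_atPrime m.1
  have hzero : ∀ M : ModuleCat.{u} B,
      (∀ m : ι, Subsingleton ((ModuleCat.extendScalars.{u, u, u} (l m)).obj M)) →
        Subsingleton M := fun M hM => subsingleton_of_forall_maximal M hM
  change DRing.HasTorAmplitudeIn A a b (DRing.toD ((resCx (algebraMap A B)).obj K))
  refine hasTorAmplitudeIn_of_exactAt_tensor _ a b ?_ ?_
  · intro i hi
    rw [exactAt_res_iff]
    refine exactAt_of_exactAt_extend_family l hflat hzero K i (fun m => ?_)
    haveI : m.1.IsMaximal := m.2
    have h := exactAt_of_hasTorAmplitudeIn _ a b (h3 m.1) i (Or.inr hi)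
    exact (exactAt_res_iff _ _ i).1 h
  · intro N F f hF hf j hj
    haveI : QuasiIso f := hf
    rw [exactAt_res_tensor_iff]
    refine exactAt_of_exactAt_extend_family l hflat hzero _ j (fun m => ?_)
    haveI : m.1.IsMaximal := m.2
    let p : Ideal A := m.1.comap (algebraMap A B)
    let α : A →+* Localization.AtPrime p := algebraMap A (Localization.AtPrime p)
    let ψ : Localization.AtPrime p →+* Localization.AtPrime m.1 :=
      Localization.localRingHom p m.1 (algebraMap A B) rfl
    have hsq : (l m).comp (algebraMap A B) = ψ.comp α := by
      ext x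
      exact (Localization.localRingHom_to_map p m.1 (algebraMap A B) rfl x).symm
    have hα : α.Flat := flat_atPrime p
    refine exactAt_of_iso (extSquareIso (algebraMap A B) α (l m) ψ hsq K F).symm j ?_
    rw [← exactAt_res_tensor_iff ψ]
    haveI : QuasiIso ((extCx α).map f) := quasiIso_extCx_map α hα f
    exact exactAt_tensor_of_hasTorAmplitudeIn _ a b (h3 m.1) ((extCx α).obj F)
      ((extCx α).obj ((CochainComplex.singleFunctor (ModuleCat.{u} A) 0).obj N))
      (isKFlatR_extCx α F hF) ((extCx α).map f)
      (fun q hq => (ModuleCat.extendScalars.{u, u, u} α).map_isZero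
        (HomologicalComplex.isZero_single_obj_X (ComplexShape.up ℤ) 0 N q hq)) j hj

end Groth.Agent.S12092
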