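import Groth.Statements.S12094
import Mathlib
import Groth.Agent.Lib.Helper23.DTwoTerm5
-- import your own Groth.Agent.* helpers here

set_option autoImplicit false
universe u
open CategoryTheory
attribute [local instance] HasDerivedCategory.standard
open DRing

namespace Groth.Agent.S12094

/-- (1) ⇔ (2): let `I ⊆ R` be an ideal and `K ∈ D(R)` with `H^i(K) = 0` for `i ∉ {-1, 0}`. Then some
power `I^c` annihilates `Ext¹_R(K, N) = Hom_{D(R)}(K, N[1])` for every `R`-module `N` if and only
if, for some `c`, (a) `I^c` annihilates `H^{-1}(K)` and (b) `H^0(K)` is `I^c`-projective, i.e. `I^c`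
annihilates `Ext¹_R(H^0(K), N)` for every `R`-module `N`. -/
theorem result {R : Type u} [CommRing R] (I : Ideal R) (K : Dual.D R)
    (hK : ∀ i : ℤ, i ≠ -1 → i ≠ 0 → Subsingleton (Dual.HD R K i)) :
    (∃ c : ℕ, ∀ (N : Type u) [AddCommGroup N] [Module R N] (a : R), a ∈ I ^ c →
        ∀ ξ : K ⟶ (Dual.inD R N)⟦(1 : ℤ)⟧, a • ξ = 0) ↔
      ∃ c : ℕ, (∀ a : R, a ∈ I ^ c → ∀ x : Dual.HD R K (-1), a • x = 0) ∧
        ∀ (N : Type u) [AddCommGroup N] [Module R N] (a : R), a ∈ I ^ c →
          ∀ ξ : Dual.inD R (Dual.HD R K 0) ⟶ (Dual.inD R N)⟦(1 : ℤ)⟧, a • ξ = 0 := by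
  constructor
  · rintro ⟨c, hc⟩
    refine ⟨c, ?_, ?_⟩
    · intro a ha x
      exact Groth.Agent.Lib.helper23.DTwoTerm.smul_homology_eq_zero K hK a
        (fun N ξ => hc N a ha ξ) x
    · intro N _ _ a ha ξ
      obtain ⟨ρ, hρ⟩ := Groth.Agent.Lib.helper23.DTwoTerm.exists_rho K hK
      have hM : ∀ i : ℤ, i ≠ 0 → Limits.IsZero
          ((DerivedCategory.homologyFunctor (ModuleCat.{u} R) i).obj
            ((DerivedCategory.singleFunctor (ModuleCat.{u} R) 0).obj
              ((DerivedCategory.homologyFunctor (ModuleCat.{u} R) 0).obj K))) := by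
        intro i hi
        rcases lt_or_gt_of_ne hi with h | h
        · exact DerivedCategory.isZero_of_isGE _ 0 i h
        · exact DerivedCategory.isZero_of_isLE _ 0 i h
      refine Groth.Agent.Lib.helper23.DTwoTerm.smul_ext_eq_zero ρ hK ?_ hρ ?_ (ModuleCat.of R N) a
        (fun ξ' => hc N a ha ξ') ξ
      · intro i _ h0
        rw [← ModuleCat.isZero_iff_subsingleton]
        exact hM i h0
      · exact (hM (-1) (by decide)).epi _
  · rintro ⟨c, h1, h2⟩
    refine ⟨c + c, ?_⟩
    intro N _ _ a ha ξ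
    rw [pow_add] at ha
    refine Submodule.mul_induction_on ha ?_ ?_
    · intro x hx y hy
      exact Groth.Agent.Lib.helper23.DTwoTerm.mul_smul_ext_eq_zero K hK x y (h1 x hx)
        (ModuleCat.of R N) (fun η => h2 N y hy η) ξ
    · intro x y hx hy
      rw [add_smul, hx, hy, add_zero]

end Groth.Agent.S12094
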