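import Groth.Statements.S12096
import Mathlib
-- import your own Groth.Agent.* helpers here

set_option autoImplicit false
universe u
open BlowUp

namespace Groth.Agent.S12096

/-- Néron's blowup is compatible with localization. For a ring `A`, an ideal `I`, elements `π, a ∈ A`,
`A' = A[I/π] ⊆ A_π` the affine blowup algebra and `(A_a)' = A_a[I A_a/π]` that of the localization,
the canonical map `A' → (A_a)'` (the restriction of `A_π → (A_a)_π`, given here as a datum with that
compatibility) identifies `(A_a)'` with the localization `A'_a`. In Néron's situation (`I` the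
inverse image of the maximal ideal of `Λ`, `π` a uniformizer, `a ∉ I`) this reads: the Néron blowup
of `A_a` is `A'_a`; the identity holds for arbitrary `A, I, π, a`. -/
theorem result (A : Type u) [CommRing A] (I : Ideal A) (π a : A) (hπ : π ∈ I)
    (ψ : BlowUp.affineAlgebra A I π →+*
      BlowUp.affineAlgebra (Localization.Away a) (I.map (algebraMap A (Localization.Away a))) (algebraMap A (Localization.Away a) π))
    (hψ : ∀ x : BlowUp.affineAlgebra A I π,
      ((ψ x : BlowUp.affineAlgebra (Localization.Away a) (I.map (algebraMap A (Localization.Away a))) (algebraMap A (Localization.Away a) π)) :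
          Localization.Away (algebraMap A (Localization.Away a) π)) =
        Localization.awayMap (algebraMap A (Localization.Away a)) π (x : Localization.Away π)) :
    letI := ψ.toAlgebra
    IsLocalization.Away (algebraMap A (BlowUp.affineAlgebra A I π) a)
      (BlowUp.affineAlgebra (Localization.Away a) (I.map (algebraMap A (Localization.Away a))) (algebraMap A (Localization.Away a) π)) := by
  classical
  letI := ψ.toAlgebra
  have hφalg : ∀ b : A, Localization.awayMap (algebraMap A (Localization.Away a)) π
      (algebraMap A (Localization.Away π) b) =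
      algebraMap (Localization.Away a) (Localization.Away (algebraMap A (Localization.Away a) π))
        (algebraMap A (Localization.Away a) b) := by
    intro b
    simp [Localization.awayMap, IsLocalization.Away.map, IsLocalization.map_eq]
  have hφmk : ∀ (b : A) (n : ℕ), Localization.awayMap (algebraMap A (Localization.Away a)) π
      (IsLocalization.mk' (Localization.Away π) b (⟨π ^ n, n, rfl⟩ : Submonoid.powers π)) =
      IsLocalization.mk' (Localization.Away (algebraMap A (Localization.Away a) π))
        (algebraMap A (Localization.Away a) b)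
        (⟨algebraMap A (Localization.Away a) π ^ n, n, rfl⟩ :
          Submonoid.powers (algebraMap A (Localization.Away a) π)) := by
    intro b n
    simp [Localization.awayMap, IsLocalization.Away.map, IsLocalization.map_mk']
  have halg : ∀ x, algebraMap (BlowUp.affineAlgebra A I π)
      (BlowUp.affineAlgebra (Localization.Away a) (I.map (algebraMap A (Localization.Away a)))
        (algebraMap A (Localization.Away a) π)) x = ψ x := fun x => rfl
  rw [IsLocalization.Away, isLocalization_iff]
  refine ⟨?_, ?_, ?_⟩
  · -- units
    rintro ⟨_, n, rfl⟩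
    rw [halg]
    simp only [map_pow]
    apply IsUnit.pow
    have h1 : ψ (algebraMap A (BlowUp.affineAlgebra A I π) a) =
        algebraMap (Localization.Away a) _ (algebraMap A (Localization.Away a) a) := by
      apply Subtype.ext
      rw [hψ]
      exact hφalg a
    rw [h1]
    exact (IsLocalization.Away.algebraMap_isUnit a).map _
  · -- surjectivity
    have hsurj : ∀ z ∈ BlowUp.affineAlgebra (Localization.Away a)
        (I.map (algebraMap A (Localization.Away a))) (algebraMap A (Localization.Away a) π),
        ∃ (n : ℕ), ∃ x ∈ BlowUp.affineAlgebra A I π,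
          z * Localization.awayMap (algebraMap A (Localization.Away a)) π
            (algebraMap A (Localization.Away π) a) ^ n =
          Localization.awayMap (algebraMap A (Localization.Away a)) π x := by
      intro z hz
      unfold BlowUp.affineAlgebra at hz
      induction hz using Algebra.adjoin_induction with
      | mem z hz =>
        obtain ⟨y, hy, rfl⟩ := hz
        obtain ⟨⟨⟨i, hi⟩, ⟨_, n, rfl⟩⟩, hyi⟩ :=
          (IsLocalization.mem_map_algebraMap_iff (Submonoid.powers a) (Localization.Away a)).mp hy
        simp only at hyi
        refine ⟨n, IsLocalization.mk' (Localization.Away π) i ⟨π, Submonoid.mem_powers π⟩,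
          Algebra.subset_adjoin ⟨i, hi, rfl⟩, ?_⟩
        rw [hφalg]
        simp only [Localization.awayMap, IsLocalization.Away.map, IsLocalization.map_mk']
        rw [← map_pow, ← map_pow, mul_comm, IsLocalization.mul_mk'_eq_mk'_of_mul, mul_comm, hyi]
      | algebraMap r =>
        obtain ⟨r', ⟨_, n, rfl⟩, hr⟩ := IsLocalization.exists_mk'_eq (Submonoid.powers a) r
        refine ⟨n, algebraMap A _ r', Subalgebra.algebraMap_mem _ r', ?_⟩
        rw [hφalg, hφalg, ← map_pow, ← map_mul, ← hr, ← map_pow]
        congr 1
        exact IsLocalization.mk'_spec _ r' (⟨a ^ n, n, rfl⟩ : Submonoid.powers a)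
      | add y z _ _ hy hz =>
        obtain ⟨n1, x1, hx1, h1⟩ := hy
        obtain ⟨n2, x2, hx2, h2⟩ := hz
        refine ⟨n1 + n2, algebraMap A _ a ^ n2 * x1 + algebraMap A _ a ^ n1 * x2,
          add_mem (mul_mem (pow_mem (Subalgebra.algebraMap_mem _ a) _) hx1)
            (mul_mem (pow_mem (Subalgebra.algebraMap_mem _ a) _) hx2), ?_⟩
        rw [map_add, map_mul, map_mul, ← h1, ← h2, map_pow, map_pow]
        ring
      | mul y z _ _ hy hz =>
        obtain ⟨n1, x1, hx1, h1⟩ := hy
        obtain ⟨n2, x2, hx2, h2⟩ := hz
        refine ⟨n1 + n2, x1 * x2, mul_mem hx1 hx2, ?_⟩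
        rw [map_mul, ← h1, ← h2]
        ring
    intro z
    obtain ⟨n, x, hx, hxz⟩ := hsurj z.1 z.2
    refine ⟨(⟨x, hx⟩, ⟨_, n, rfl⟩), Subtype.ext ?_⟩
    rw [halg, halg, hψ]
    simp only [map_pow, Subalgebra.coe_mul, Subalgebra.coe_pow]
    rw [hψ]
    exact hxz
  · -- injectivity up to powers of a
    have hker : ∀ d : Localization.Away π,
        Localization.awayMap (algebraMap A (Localization.Away a)) π d = 0 →
        ∃ n : ℕ, algebraMap A (Localization.Away π) a ^ n * d = 0 := by
      intro d hd
      obtain ⟨b, ⟨_, k, rfl⟩, rfl⟩ := IsLocalization.exists_mk'_eq (Submonoid.powers π) d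
      rw [hφmk, IsLocalization.mk'_eq_zero_iff] at hd
      obtain ⟨⟨_, m, rfl⟩, hm⟩ := hd
      simp only at hm
      rw [← map_pow, ← map_mul, IsLocalization.map_eq_zero_iff (Submonoid.powers a)] at hm
      obtain ⟨⟨_, n, rfl⟩, hn⟩ := hm
      simp only at hn
      refine ⟨n, ?_⟩
      rw [← map_pow, IsLocalization.mul_mk'_eq_mk'_of_mul, IsLocalization.mk'_eq_zero_iff]
      exact ⟨⟨π ^ m, m, rfl⟩, by simp only; rw [← hn]; ring⟩
    intro x y hxy
    rw [halg, halg] at hxy
    have h1 : Localization.awayMap (algebraMap A (Localization.Away a)) π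
        ((x : Localization.Away π) - (y : Localization.Away π)) = 0 := by
      rw [map_sub, ← hψ, ← hψ, hxy, sub_self]
    obtain ⟨n, hn⟩ := hker _ h1
    refine ⟨⟨_, n, rfl⟩, Subtype.ext ?_⟩
    simp only [Subalgebra.coe_mul, Subalgebra.coe_pow, Subalgebra.coe_algebraMap]
    rw [mul_sub] at hn
    exact sub_eq_zero.mp hn

end Groth.Agent.S12096
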