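import Groth.Statements.S12097
import Mathlib
-- import your own Groth.Agent.* helpers here

set_option autoImplicit false
universe u
open BlowUp

namespace Groth.Agent.S12097

/-- Néron's blowup is compatible with closed immersions. For a surjective ring map `B → A` with kernel
`J`, an ideal `I ⊆ B` containing `π`, and the affine blowup algebras `B' = B[I/π] ⊆ B_π`, `A' =
A[IA/π] ⊆ A_π`, the canonical map `B' → A'` (the restriction of `B_π → A_π`, given as a datum with
that compatibility) is surjective with kernel the elements `x` such that `π^n x ∈ J B'` for some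
`n`: `A'` is the quotient of `B'/JB'` by its `π`-power torsion. In Néron's situation (`I` the
inverse image of the maximal ideal of `Λ`, `π` a uniformizer) this is the printed functoriality; the
identity holds for any surjection. -/
theorem result (B A : Type u) [CommRing B] [CommRing A] [Algebra B A]
    (hq : Function.Surjective (algebraMap B A)) (I : Ideal B) (π : B) (hπ : π ∈ I)
    (ψ : BlowUp.affineAlgebra B I π →+* BlowUp.affineAlgebra A (I.map (algebraMap B A)) (algebraMap B A π))
    (hψ : ∀ x : BlowUp.affineAlgebra B I π,
      ((ψ x : BlowUp.affineAlgebra A (I.map (algebraMap B A)) (algebraMap B A π)) : Localization.Away (algebraMap B A π)) =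
        Localization.awayMap (algebraMap B A) π (x : Localization.Away π)) :
    Function.Surjective ψ ∧
      ∀ x : BlowUp.affineAlgebra B I π, x ∈ RingHom.ker ψ ↔
        ∃ n : ℕ, algebraMap B (BlowUp.affineAlgebra B I π) π ^ n * x ∈
          (RingHom.ker (algebraMap B A)).map (algebraMap B (BlowUp.affineAlgebra B I π)) := by
  classical
  -- abbreviations via facts
  have hφalg : ∀ b : B, Localization.awayMap (algebraMap B A) π (algebraMap B (Localization.Away π) b) =
      algebraMap A (Localization.Away (algebraMap B A π)) (algebraMap B A b) := by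
    intro b
    simp [Localization.awayMap, IsLocalization.Away.map, IsLocalization.map_eq]
  have hφmk : ∀ (b : B) (n : ℕ), Localization.awayMap (algebraMap B A) π
      (IsLocalization.mk' (Localization.Away π) b (⟨π ^ n, n, rfl⟩ : Submonoid.powers π)) =
      IsLocalization.mk' (Localization.Away (algebraMap B A π)) (algebraMap B A b)
        (⟨algebraMap B A π ^ n, n, rfl⟩ : Submonoid.powers (algebraMap B A π)) := by
    intro b n
    simp [Localization.awayMap, IsLocalization.Away.map, IsLocalization.map_mk']
  have hval0 : ∀ x : BlowUp.affineAlgebra B I π, ψ x = 0 ↔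
      Localization.awayMap (algebraMap B A) π (x : Localization.Away π) = 0 := by
    intro x
    rw [← hψ x]
    constructor
    · intro h; rw [h]; rfl
    · intro h; exact Subtype.ext h
  refine ⟨?_, ?_⟩
  · -- surjectivity
    have hsurj : ∀ y ∈ BlowUp.affineAlgebra A (I.map (algebraMap B A)) (algebraMap B A π),
        ∃ x ∈ BlowUp.affineAlgebra B I π, Localization.awayMap (algebraMap B A) π x = y := by
      intro y hy
      unfold BlowUp.affineAlgebra at hy
      induction hy using Algebra.adjoin_induction with
      | mem y hy =>
        obtain ⟨a, ha, rfl⟩ := hy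
        obtain ⟨b, hb, rfl⟩ := (Ideal.mem_map_iff_of_surjective _ hq).mp ha
        refine ⟨IsLocalization.mk' (Localization.Away π) b ⟨π, Submonoid.mem_powers π⟩,
          Algebra.subset_adjoin ⟨b, hb, rfl⟩, ?_⟩
        simp [Localization.awayMap, IsLocalization.Away.map, IsLocalization.map_mk']
      | algebraMap a =>
        obtain ⟨b, rfl⟩ := hq a
        exact ⟨algebraMap B _ b, Subalgebra.algebraMap_mem _ b, hφalg b⟩
      | add y z _ _ hy hz =>
        obtain ⟨x1, hx1, rfl⟩ := hy
        obtain ⟨x2, hx2, rfl⟩ := hz
        exact ⟨x1 + x2, add_mem hx1 hx2, map_add _ _ _⟩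
      | mul y z _ _ hy hz =>
        obtain ⟨x1, hx1, rfl⟩ := hy
        obtain ⟨x2, hx2, rfl⟩ := hz
        exact ⟨x1 * x2, mul_mem hx1 hx2, map_mul _ _ _⟩
    intro y
    obtain ⟨x, hx, hxy⟩ := hsurj y.1 y.2
    refine ⟨⟨x, hx⟩, Subtype.ext ?_⟩
    rw [hψ]
    exact hxy
  · intro x
    rw [RingHom.mem_ker, hval0]
    constructor
    · intro h0
      obtain ⟨b, ⟨_, n, rfl⟩, hx⟩ := IsLocalization.exists_mk'_eq (Submonoid.powers π)
        (x : Localization.Away π)
      rw [← hx, hφmk, IsLocalization.mk'_eq_zero_iff] at h0
      obtain ⟨⟨_, k, rfl⟩, hk⟩ := h0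
      simp only at hk
      refine ⟨k + n, ?_⟩
      have hmem : π ^ k * b ∈ RingHom.ker (algebraMap B A) := by
        rw [RingHom.mem_ker, map_mul, map_pow]
        exact hk
      have := Ideal.mem_map_of_mem (algebraMap B (BlowUp.affineAlgebra B I π)) hmem
      convert this using 1
      apply Subtype.ext
      simp only [Subalgebra.coe_mul, Subalgebra.coe_pow, Subalgebra.coe_algebraMap, ← hx]
      rw [map_mul, map_pow, pow_add, mul_assoc]
      congr 1
      rw [← map_pow]
      exact IsLocalization.mk'_spec' _ b (⟨π ^ n, n, rfl⟩ : Submonoid.powers π)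
    · rintro ⟨n, hn⟩
      -- the composite ring hom B' → A_π̄
      have hle : (RingHom.ker (algebraMap B A)).map (algebraMap B (BlowUp.affineAlgebra B I π)) ≤
          RingHom.ker ((Localization.awayMap (algebraMap B A) π).comp
            (BlowUp.affineAlgebra B I π).val.toRingHom) := by
        rw [Ideal.map_le_iff_le_comap]
        intro j hj
        rw [Ideal.mem_comap, RingHom.mem_ker, RingHom.comp_apply]
        have : ((BlowUp.affineAlgebra B I π).val.toRingHom
            (algebraMap B (BlowUp.affineAlgebra B I π) j)) =
            algebraMap B (Localization.Away π) j := rfl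
        rw [this, hφalg, (RingHom.mem_ker).mp hj, map_zero]
      have h1 := hle hn
      rw [RingHom.mem_ker, RingHom.comp_apply] at h1
      have h2 : ((BlowUp.affineAlgebra B I π).val.toRingHom
          (algebraMap B (BlowUp.affineAlgebra B I π) π ^ n * x)) =
          algebraMap B (Localization.Away π) π ^ n * (x : Localization.Away π) := rfl
      rw [h2, map_mul, map_pow, hφalg] at h1
      have hu : IsUnit (algebraMap A (Localization.Away (algebraMap B A π)) (algebraMap B A π)) :=
        IsLocalization.Away.algebraMap_isUnit _
      exact (hu.pow n).mul_right_eq_zero.mp h1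

end Groth.Agent.S12097
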