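import Groth.Statements.S12098
import Mathlib
import Groth.Agent.Lib.Helper13.BiTriv1
import Groth.Agent.Lib.Helper13.BiTriv3
import Groth.Agent.Lib.Helper13.K0Dev6
import Groth.Agent.Lib.Helper14.KProjLift
-- import your own Groth.Agent.* helpers here

set_option autoImplicit false
universe u
open CategoryTheory CategoryTheory.Limits
attribute [local instance] HasDerivedCategory.standard
open DRing

namespace Groth.Agent.S12098

/-- Let `p ⊆ R` be a prime and `M•`, `N•` bounded complexes whose terms are finite projective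
`R`-modules and which are isomorphic in `D(R)`. Then for some `f ∉ p` the localized complexes `M•_f`
and `N•_f` become isomorphic once a finite direct sum of trivial complexes is added to each: `M•_f ⊕
P•` and `N•_f ⊕ Q•` are isomorphic as complexes, with `P•`, `Q•` finite direct sums of copies of `0
→ R_f = R_f → 0` (placed in arbitrary degrees), expressed here as: bounded, with finite free terms
and free boundary modules, and with null-homotopic identity. -/
theorem result (R : Type u) [CommRing R] (p : Ideal R) [p.IsPrime]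
    (M N : DRing.Cx R) (a b : ℤ) (hM : DRing.VanishesOutside M a b) (hN : DRing.VanishesOutside N a b)
    (hMp : DRing.TermwiseFiniteProjective M) (hNp : DRing.TermwiseFiniteProjective N)
    (h : Nonempty (DRing.toD M ≅ DRing.toD N)) :
    ∃ f : R, f ∉ p ∧ ∃ P Q : DRing.Cx (Localization.Away f),
      ((∃ a' b' : ℤ, DRing.VanishesOutside P a' b') ∧ DRing.TermwiseFiniteFree P ∧
          (∀ i : ℤ, Module.Free (Localization.Away f) (LinearMap.range (P.d i (i + 1)).hom)) ∧ Nonempty (Homotopy (𝟙 P) 0)) ∧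
      ((∃ a' b' : ℤ, DRing.VanishesOutside Q a' b') ∧ DRing.TermwiseFiniteFree Q ∧
          (∀ i : ℤ, Module.Free (Localization.Away f) (LinearMap.range (Q.d i (i + 1)).hom)) ∧ Nonempty (Homotopy (𝟙 Q) 0)) ∧
      Nonempty ((((ModuleCat.extendScalars (algebraMap R (Localization.Away f))).mapHomologicalComplex (ComplexShape.up ℤ)).obj M) ⊞ P ≅ (((ModuleCat.extendScalars (algebraMap R (Localization.Away f))).mapHomologicalComplex (ComplexShape.up ℤ)).obj N) ⊞ Q) := by
  classical
  obtain ⟨e⟩ := h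
  have sM : Groth.Agent.Lib.helper13.K0Dev.StrP M a b := ⟨hM, hMp⟩
  have sN : Groth.Agent.Lib.helper13.K0Dev.StrP N a b := ⟨hN, hNp⟩
  haveI := sM.isKProjective
  obtain ⟨α, hα⟩ := Groth.Agent.Lib.Helper14.KProjLift.Q_map_surjective_of_isKProjective M N e.hom
  haveI : IsIso (DerivedCategory.Q.map α) := by rw [hα]; infer_instance
  have hqi : QuasiIso α := (DerivedCategory.isIso_Q_map_iff_quasiIso (φ := α)).1 inferInstance
  have hac := (Groth.Agent.Lib.helper13.RGam.quasiIso_iff_acyclic_mappingCone α).1 hqi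
  have sZ₁ := Groth.Agent.Lib.helper13.K0Dev.strP_cone α sM sN
  have sZ₂ := Groth.Agent.Lib.helper13.K0Dev.strP_cone (𝟙 M) sM sM
  haveI := sZ₁.isKProjective
  obtain ⟨c₁⟩ := CochainComplex.IsKProjective.nonempty_homotopy_zero
    (𝟙 (CochainComplex.mappingCone α)) hac
  have c₂ := Groth.Agent.Lib.helper13.BiTriv.homotopyConeId M
  obtain ⟨ε⟩ := Groth.Agent.Lib.helper13.BiTriv.nonempty_biprod_cone_iso α c₁
  obtain ⟨f₁, hf₁, h₁⟩ := Groth.Agent.Lib.helper13.BiTriv.exists_free_away_cx p
    (CochainComplex.mappingCone α) (a - 1) b sZ₁.1 sZ₁.2 c₁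
  obtain ⟨f₂, hf₂, h₂⟩ := Groth.Agent.Lib.helper13.BiTriv.exists_free_away_cx p
    (CochainComplex.mappingCone (𝟙 M)) (a - 1) b sZ₂.1 sZ₂.2 c₂
  have hfp : f₁ * f₂ ∉ p := fun h => by
    rcases Ideal.IsPrime.mem_or_mem inferInstance h with h | h
    · exact hf₁ h
    · exact hf₂ h
  obtain ⟨hX₁, hB₁⟩ := h₁ (f₁ * f₂) (dvd_mul_right f₁ f₂)
  obtain ⟨hX₂, hB₂⟩ := h₂ (f₁ * f₂) (dvd_mul_left f₂ f₁)
  haveI : (ModuleCat.extendScalars.{u, u, u}
      (algebraMap R (Localization.Away (f₁ * f₂)))).Additive :=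
    (ModuleCat.extendRestrictScalarsAdj.{u, u, u}
      (algebraMap R (Localization.Away (f₁ * f₂)))).left_adjoint_additive
  haveI := preservesBinaryBiproducts_of_preservesBiproducts
    ((ModuleCat.extendScalars.{u, u, u}
      (algebraMap R (Localization.Away (f₁ * f₂)))).mapHomologicalComplex (ComplexShape.up ℤ))
  refine ⟨f₁ * f₂, hfp,
    ((ModuleCat.extendScalars (algebraMap R (Localization.Away (f₁ * f₂)))).mapHomologicalComplex
      (ComplexShape.up ℤ)).obj (CochainComplex.mappingCone α),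
    ((ModuleCat.extendScalars (algebraMap R (Localization.Away (f₁ * f₂)))).mapHomologicalComplex
      (ComplexShape.up ℤ)).obj (CochainComplex.mappingCone (𝟙 M)),
    Groth.Agent.Lib.helper13.BiTriv.trivial_extend _ (a - 1) b sZ₁.1 sZ₁.2 c₁ hX₁ hB₁,
    Groth.Agent.Lib.helper13.BiTriv.trivial_extend _ (a - 1) b sZ₂.1 sZ₂.2 c₂ hX₂ hB₂, ⟨?_⟩⟩
  exact (Functor.mapBiprod _ M (CochainComplex.mappingCone α)).symm ≪≫
    Functor.mapIso _ ε ≪≫ Functor.mapBiprod _ N (CochainComplex.mappingCone (𝟙 M))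

end Groth.Agent.S12098
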