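import Groth.Statements.S12099
import Mathlib
-- import your own Groth.Agent.* helpers here

set_option autoImplicit false
universe v u
open CategoryTheory CategoryTheory.Limits
open PCoh

namespace Groth.Agent.S12099

/-- Punctual site: let C be an abelian category and C₀ a strictly full additive subcategory,
quasi-liftable in C. For an exact sequence F → G → H → 0 with F of C₀-finite type and G precoherent
relative to C₀ (every morphism from a C₀-object into G has kernel of C₀-finite type), H is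
precoherent relative to C₀. -/
theorem result {C : Type u} [Category.{v} C] [Abelian C]
    (P : ObjectProperty C) [P.IsClosedUnderIsomorphisms] [P.ContainsZero] (hsum : ∀ X Y : C, P X → P Y → P (X ⨯ Y))
    (hql : PCoh.IsQuasiLiftable P)
    (S : ShortComplex C) (hS : S.Exact) (hg : Epi S.g)
    (hF : PCoh.IsOfFiniteType P S.X₁) (hG : ∀ (E : C) (u : E ⟶ S.X₂), P E → PCoh.IsOfFiniteType P (kernel u)) :
    ∀ (E : C) (u : E ⟶ S.X₃), P E → PCoh.IsOfFiniteType P (kernel u) := by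
  intro E u hE
  have := hg
  -- Step 1-2: lift along the pullback of g
  obtain ⟨F', v, hF', hv⟩ := hql (pullback u S.g) E (pullback.fst u S.g) inferInstance hE
  obtain ⟨ρ, w, hρ, hρw⟩ : ∃ (ρ : F' ⟶ E) (w : F' ⟶ S.X₂), Epi ρ ∧ ρ ≫ u = w ≫ S.g :=
    ⟨v ≫ pullback.fst u S.g, v ≫ pullback.snd u S.g, hv, by simp [pullback.condition]⟩
  -- Step 3
  obtain ⟨E₁, π₁, hE₁, hπ₁⟩ := hF
  -- Step 4-5
  have hQ : P (F' ⨯ E₁) := hsum _ _ hF' hE₁
  obtain ⟨φ, hφ⟩ : ∃ φ : F' ⨯ E₁ ⟶ S.X₂, φ = prod.fst ≫ w + prod.snd ≫ π₁ ≫ S.f := ⟨_, rfl⟩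
  obtain ⟨EK, πK, hEK, hπK⟩ := hG (F' ⨯ E₁) φ hQ
  -- Step 6
  have hφg : φ ≫ S.g = prod.fst ≫ ρ ≫ u := by
    rw [hφ, Preadditive.add_comp]
    simp only [Category.assoc, S.zero, comp_zero, add_zero, hρw]
  have hκ : (kernel.ι φ ≫ prod.fst ≫ ρ) ≫ u = 0 := by
    rw [Category.assoc, Category.assoc, ← hφg, ← Category.assoc, kernel.condition, zero_comp]
  refine ⟨EK, πK ≫ kernel.lift u _ hκ, hEK, ?_⟩
  have : Epi (kernel.lift u _ hκ) := by
    rw [epi_iff_surjective_up_to_refinements]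
    intro A y
    have he : (y ≫ kernel.ι u) ≫ u = 0 := by rw [Category.assoc, kernel.condition, comp_zero]
    obtain ⟨A₁, p₁, hp₁, x, hx⟩ := surjective_up_to_refinements_of_epi ρ (y ≫ kernel.ι u)
    have hxw : (x ≫ w) ≫ S.g = 0 := by
      rw [Category.assoc, ← hρw, ← Category.assoc, ← hx, Category.assoc, he, comp_zero]
    obtain ⟨A₂, p₂, hp₂, x₁, hx₁⟩ := hS.exact_up_to_refinements (x ≫ w) hxw
    obtain ⟨A₃, p₃, hp₃, z, hz⟩ := surjective_up_to_refinements_of_epi π₁ x₁
    have hq : prod.lift (p₃ ≫ p₂ ≫ x) (-z) ≫ φ = 0 := by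
      rw [hφ, Preadditive.comp_add, ← Category.assoc, prod.lift_fst, ← Category.assoc (prod.lift _ _),
        prod.lift_snd, Preadditive.neg_comp, ← Category.assoc z, ← hz]
      simp only [Category.assoc]
      rw [hx₁]
      simp
    refine ⟨A₃, p₃ ≫ p₂ ≫ p₁, inferInstance, kernel.lift φ _ hq, ?_⟩
    rw [← cancel_mono (kernel.ι u)]
    simp only [Category.assoc, kernel.lift_ι, kernel.lift_ι_assoc, prod.lift_fst_assoc]
    rw [hx]
  exact epi_comp _ _

end Groth.Agent.S12099
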