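import Groth.Statements.S1210
import Groth.Agent.Lib.Helper26.RGFlat4
import Groth.Agent.Lib.Helper3.FlatAtLib2
import Groth.Agent.Lib.Helper3.FpLoc3

set_option linter.style.haveILetI false

set_option autoImplicit false
universe u
open FlatMor

namespace Groth.Agent.S1210

open TensorProduct in
/-- Ring form, X = Spec S and S = Spec R affine: let S be a finitely presented R-algebra, N a finite
S-module and q a prime of S over p with N_q flat over R. Then there is an étale R-algebra R' with a
prime p' over p having the same residue field such that, writing A for the local ring of R' at p',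
S_A for the base change of S to A and N_A for that of N: there is an element g of S_A, outside every
prime of S_A lying over both q and the maximal ideal of A (there is exactly one such prime), with
the localization of N_A at g finitely presented over (S_A)_g and flat over A. The base change is
stated for any model of the tensor product. -/
theorem result {R S : Type u} [CommRing R] [CommRing S] [Algebra R S] [Algebra.FinitePresentation R S]
    (N : Type u) [AddCommGroup N] [Module S N] [Module R N] [IsScalarTower R S N] [Module.Finite S N]
    (p : Ideal R) [p.IsPrime] (q : Ideal S) [q.IsPrime] [q.LiesOver p] (hflat : FlatCA.FlatAt R q N) :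
    ∃ (R' : Type u) (_ : CommRing R') (_ : Algebra R R') (p' : Ideal R') (_ : p'.IsPrime), FlatCA.IsEtaleNhd R R' p p' ∧
      ∀ (SA NA : Type u) [CommRing SA] [Algebra R SA] [Algebra S SA] [Algebra (Localization.AtPrime p') SA]
        [IsScalarTower R S SA] [IsScalarTower R (Localization.AtPrime p') SA]
        [Algebra.IsPushout R S (Localization.AtPrime p') SA]
        [AddCommGroup NA] [Module SA NA] [Module S NA] [IsScalarTower S SA NA]
        [Module (Localization.AtPrime p') NA] [IsScalarTower (Localization.AtPrime p') SA NA]
        (f : N →ₗ[S] NA), IsBaseChange SA f →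
        ∃ g : SA, (∀ (Q : Ideal SA) [Q.IsPrime], Q.LiesOver q → Q.LiesOver (IsLocalRing.maximalIdeal (Localization.AtPrime p')) → g ∉ Q) ∧
          Module.FinitePresentation (Localization.Away g) (LocalizedModule (Submonoid.powers g) NA) ∧
          Module.Flat (Localization.AtPrime p') (LocalizedModule (Submonoid.powers g) NA) := by
  obtain ⟨R', S', _, _, algRR', algSS', algR'S', algRS', twRR'S', twRSS', p', q', hp', hq', hEtR,
    hEtS, hq'p', hcore⟩ := Groth.Agent.Lib.helper26.RGFlat.core N p q hflat
  refine ⟨R', inferInstance, algRR', p', hp', hEtR, ?_⟩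
  intro SA NA _ _ _ _ _ _ _ _ _ _ _ _ _ f hf
  obtain ⟨C, _, algSAC, algAC, twASAC, algSC, twSSAC, hEtC, hfp, hfree, -, g, hg1, hg2⟩ :=
    Groth.Agent.Lib.helper26.RGFlat.exists_open_data N p q p' q' hEtR hEtS hcore SA NA f hf
  haveI := hEtC
  haveI : Module.Flat SA C := inferInstance
  refine ⟨g, fun Q hQ hQq hQm => @hg1 Q hQ hQq hQm, ?_, ?_⟩
  · -- finite presentation by faithfully flat descent along `SA_g → C_g`
    have hu : ∀ t : Submonoid.powers g, IsUnit
        (((algebraMap C (Localization (Submonoid.powers (algebraMap SA C g)))).comp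
          (algebraMap SA C)) t) := by
      rintro ⟨t, n, rfl⟩
      change IsUnit (algebraMap C (Localization (Submonoid.powers (algebraMap SA C g)))
        (algebraMap SA C (g ^ n)))
      rw [map_pow]
      exact IsLocalization.map_units (Localization (Submonoid.powers (algebraMap SA C g)))
        (⟨algebraMap SA C g ^ n, n, rfl⟩ : Submonoid.powers (algebraMap SA C g))
    have hff := Groth.Agent.Lib.helper3.FpLoc.bc_faithfullyFlat (A := SA) (B := C)
      (Submonoid.powers g) (Submonoid.powers (algebraMap SA C g)) hu (by
        intro P hP hdisj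
        have hgP : g ∉ P := fun h =>
          (Set.disjoint_left.mp hdisj) (Submonoid.mem_powers g) h
        obtain ⟨Q', hQ'prime, hQ'P⟩ := @hg2 P hP hgP
        refine ⟨Q', hQ'prime, ?_, ?_⟩
        · rw [Set.disjoint_left]
          rintro x ⟨n, rfl⟩ hx
          have h1 : algebraMap SA C g ∈ Q' := hQ'prime.mem_of_pow_mem n hx
          apply hgP
          rw [← hQ'P]
          exact h1
        · exact hQ'P)
    haveI := hfp
    exact Groth.Agent.Lib.helper3.FpLoc.fp_bc_down (A := SA) (B := C)
      (TensorProduct.mk SA C NA 1) (TensorProduct.isBaseChange SA NA C)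
      (Submonoid.powers g) (Submonoid.powers (algebraMap SA C g)) hu hff inferInstance
  · rw [Groth.Agent.Lib.helper3.FlatAtLib.flat_away_iff]
    intro P hP hgP
    obtain ⟨Q', hQ'prime, hQ'P⟩ := @hg2 P hP hgP
    haveI := hQ'prime
    haveI : Q'.LiesOver P := ⟨hQ'P.symm⟩
    rw [Groth.Agent.Lib.helper3.FlatAtLib.flatAt_iff_of_isBaseChange (A := Localization.AtPrime p')
      P Q' (TensorProduct.mk SA C NA 1) (TensorProduct.isBaseChange SA NA C)]
    haveI := hfree
    haveI : Module.Flat (Localization.AtPrime p') (C ⊗[SA] NA) := inferInstance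
    rw [Groth.Agent.Lib.helper3.FlatAtLib.flatAt_iff_forall_eq_zero]
    intro P₁ Q₁ _ _ _ _ u hu x hx
    have hinj : Function.Injective (u.lTensor (C ⊗[SA] NA)) :=
      Module.Flat.lTensor_preserves_injective_linearMap u hu
    have hx0 : x = 0 := hinj (hx.trans (map_zero _).symm)
    refine ⟨1, fun h1 => hQ'prime.ne_top ((Ideal.eq_top_iff_one _).mpr h1), ?_⟩
    rw [hx0, smul_zero]

end Groth.Agent.S1210
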