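import Groth.Statements.S12108
import Mathlib
import Groth.Agent.Lib.Helper21.ToposKit
import Groth.Agent.Lib.Helper5.SheafCoprodVK
-- import your own Groth.Agent.* helpers here

set_option autoImplicit false
open CategoryTheory CategoryTheory.Limits
universe u
open SGA4

namespace Groth.Agent.S12108

section helpers

open Opposite

variable {C : Type u} [SmallCategory C] (J : GrothendieckTopology C)

/-- morphisms from the sheafified representable to a sheaf are sections -/
noncomputable def Φ (Z : C) (F : Sheaf J (Type u)) :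
    ((presheafToSheaf J (Type u)).obj (yoneda.obj Z) ⟶ F) ≃ F.obj.obj (op Z) :=
  ((sheafificationAdjunction J (Type u)).homEquiv (yoneda.obj Z) F).trans yonedaEquiv

lemma Φ_nat {Z Z' : C} (h : Z' ⟶ Z) (F : Sheaf J (Type u))
    (g : (presheafToSheaf J (Type u)).obj (yoneda.obj Z) ⟶ F) :
    Φ J Z' F ((presheafToSheaf J (Type u)).map (yoneda.map h) ≫ g) = F.obj.map h.op (Φ J Z F g) := by
  unfold Φ
  simp only [Equiv.trans_apply]
  rw [Adjunction.homEquiv_naturality_left]
  exact (yonedaEquiv_naturality _ _).symm

/-- the presheaf `Z ↦ (⊥ ∈ J Z)` -/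
def emptyPsh : Cᵒᵖ ⥤ Type u where
  obj Z := ULift.{u} (PLift ((⊥ : Sieve Z.unop) ∈ J Z.unop))
  map {Z W} f := ↾fun x => ⟨⟨by
    have := J.pullback_stable f.unop x.down.down
    simpa using this⟩⟩
  map_id _ := by ext; exact Subsingleton.elim _ _
  map_comp _ _ := by ext; exact Subsingleton.elim _ _

instance (Z : Cᵒᵖ) : Subsingleton ((emptyPsh J).obj Z) :=
  inferInstanceAs (Subsingleton (ULift.{u} (PLift ((⊥ : Sieve Z.unop) ∈ J Z.unop))))

lemma emptyPsh_isSheaf : Presieve.IsSheaf J (emptyPsh J) := by
  intro Z S hS x hx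
  refine ⟨⟨⟨J.transitive hS ⊥ (fun V f hf => ?_)⟩⟩, fun _ _ _ => Subsingleton.elim _ _,
    fun _ _ => Subsingleton.elim _ _⟩
  have := (x f hf).down.down
  simpa using this

lemma bot_mem_of_isInitial (I : Sheaf J (Type u)) (hI : IsInitial I) (Z : C)
    (x : I.obj.obj (op Z)) : (⊥ : Sieve Z) ∈ J Z := by
  let E : Sheaf J (Type u) := ⟨emptyPsh J, (isSheaf_iff_isSheaf_of_type _ _).2 (emptyPsh_isSheaf J)⟩
  exact ((hI.to E).hom.app (op Z) x).down.down

lemma exists_section_psh {A B X : Cᵒᵖ ⥤ Type u} (a : A ⟶ X) (b : B ⟶ X) (Z : Cᵒᵖ)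
    (y : A.obj Z) (z : B.obj Z) (h : a.app Z y = b.app Z z) :
    ∃ t : (pullback a b).obj Z, (pullback.fst a b).app Z t = y ∧ (pullback.snd a b).app Z t = z := by
  have h1 : IsPullback ((pullback.fst a b).app Z) ((pullback.snd a b).app Z) (a.app Z) (b.app Z) :=
    (IsPullback.of_hasPullback a b).map ((evaluation _ _).obj Z)
  exact Limits.Types.exists_of_isPullback h1 y z h

lemma existsUnique_glue {X : C} {ι : Type u} (Y : ι → C) (s : ∀ i, Y i ⟶ X)
    (hcov : Sieve.ofArrows Y s ∈ J X)
    (hdiag : ∀ i, IsIso ((presheafToSheaf J (Type u)).map (pullback.diagonal (yoneda.map (s i)))))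
    (hdisj : ∀ i j, i ≠ j → Nonempty (IsInitial ((presheafToSheaf J (Type u)).obj
        (pullback (yoneda.map (s i)) (yoneda.map (s j))))))
    (F : Sheaf J (Type u)) (x : ∀ i, F.obj.obj (op (Y i))) :
    ∃! e : F.obj.obj (op X), ∀ i, F.obj.map (s i).op e = x i := by
  have hF : Presieve.IsSheaf J F.obj := (isSheaf_iff_isSheaf_of_type _ _).1 F.property
  have h1 : Presieve.IsSheafFor F.obj (Presieve.ofArrows Y s) :=
    (Presieve.isSheafFor_iff_generate _).2 (hF _ hcov)
  rw [Presieve.isSheafFor_arrows_iff] at h1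
  apply h1
  intro i j Z gi gj comm
  obtain ⟨t, ht1, ht2⟩ := exists_section_psh (yoneda.map (s i)) (yoneda.map (s j)) (op Z) gi gj comm
  by_cases hij : i = j
  · subst hij
    -- the diagonal is locally surjective
    have hls : Presheaf.IsLocallySurjective J (pullback.diagonal (yoneda.map (s i))) := by
      rw [← Presheaf.isLocallySurjective_presheafToSheaf_map_iff]
      haveI := hdiag i
      infer_instance
    have hmem := Presheaf.imageSieve_mem J (pullback.diagonal (yoneda.map (s i))) t
    refine ((hF _ hmem).isSeparatedFor).ext ?_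
    rintro W r ⟨w, hw⟩
    have e1 : w = r ≫ gi := by
      have := congrArg ((pullback.fst (yoneda.map (s i)) (yoneda.map (s i))).app (op W)) hw
      rw [← comp_apply, ← NatTrans.comp_app, pullback.diagonal_fst] at this
      rw [NatTrans.naturality_apply, ht1] at this
      exact this
    have e2 : w = r ≫ gj := by
      have := congrArg ((pullback.snd (yoneda.map (s i)) (yoneda.map (s i))).app (op W)) hw
      rw [← comp_apply, ← NatTrans.comp_app, pullback.diagonal_snd] at this
      rw [NatTrans.naturality_apply, ht2] at this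
      exact this
    have e3 : r ≫ gi = r ≫ gj := e1.symm.trans e2
    show F.obj.map r.op (F.obj.map gi.op (x i)) = F.obj.map r.op (F.obj.map gj.op (x i))
    rw [← comp_apply, ← comp_apply, ← Functor.map_comp, ← Functor.map_comp, ← op_comp, ← op_comp, e3]
  · obtain ⟨hI⟩ := hdisj i j hij
    have hZ : (⊥ : Sieve Z) ∈ J Z :=
      bot_mem_of_isInitial J _ hI Z
        ((toSheafify J (pullback (yoneda.map (s i)) (yoneda.map (s j)))).app (op Z) t)
    refine ((hF _ hZ).isSeparatedFor).ext ?_
    intro W f hf
    exact hf.elim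

lemma toSheafify_map_apply {P Q : Cᵒᵖ ⥤ Type u} (φ : P ⟶ Q) (Z : Cᵒᵖ) (t : P.obj Z) :
    ((presheafToSheaf J (Type u)).map φ).hom.app Z ((toSheafify J P).app Z t) =
      (toSheafify J Q).app Z (φ.app Z t) := by
  have := congrArg (fun ψ => ψ.app Z t) (toSheafify_naturality J φ)
  exact this.symm

open Groth.Agent.Lib.helper21 in
lemma covering_of_isColimit {X : C} {ι : Type u} (Y : ι → C) (s : ∀ i, Y i ⟶ X)
    (hc : IsColimit (Cofan.mk ((presheafToSheaf J (Type u)).obj (yoneda.obj X))
      (fun i => (presheafToSheaf J (Type u)).map (yoneda.map (s i))))) :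
    Sieve.ofArrows Y s ∈ J X := by
  have hje : ToposKit.JE (fun i => (presheafToSheaf J (Type u)).map (yoneda.map (s i))) := by
    intro Z a b hab
    exact Cofan.IsColimit.hom_ext hc _ _ hab
  have hjls := hje.jls
  obtain ⟨S, hS, hS'⟩ := hjls X ((toSheafify J (yoneda.obj X)).app (op X) (𝟙 X))
  refine J.transitive hS _ ?_
  intro V f hf
  obtain ⟨i, y, hy⟩ := hS' f hf
  have hT := Presheaf.imageSieve_mem J (toSheafify J (yoneda.obj (Y i))) y
  refine J.transitive hT _ ?_
  rintro W g ⟨t, ht⟩
  have h0 : ((presheafToSheaf J (Type u)).obj (yoneda.obj X)).obj.map f.op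
      ((toSheafify J (yoneda.obj X)).app (op X) (𝟙 X)) =
      (toSheafify J (yoneda.obj X)).app (op V) f := by
    have := (NatTrans.naturality_apply (toSheafify J (yoneda.obj X)) f.op (𝟙 X)).symm
    refine this.trans ?_
    congr 1
    exact Category.comp_id f
  have key : (toSheafify J (yoneda.obj X)).app (op W) (t ≫ s i) =
      (toSheafify J (yoneda.obj X)).app (op W) (g ≫ f) := by
    have e1 := toSheafify_map_apply J (yoneda.map (s i)) (op W) t
    have e2 : (toSheafify J (yoneda.obj X)).app (op W) ((yoneda.map (s i)).app (op W) t) =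
        (toSheafify J (yoneda.obj X)).app (op W) (t ≫ s i) := rfl
    rw [← e2, ← e1, ht]
    have e3 := NatTrans.naturality_apply ((presheafToSheaf J (Type u)).map (yoneda.map (s i))).hom
      g.op y
    refine e3.trans ?_
    rw [hy, h0]
    have := (NatTrans.naturality_apply (toSheafify J (yoneda.obj X)) g.op f).symm
    exact this
  have hR : Presheaf.equalizerSieve (F := yoneda.obj X) (X := op W) (t ≫ s i) (g ≫ f) ∈ J W :=
    Presheaf.equalizerSieve_mem J (toSheafify J (yoneda.obj X)) (X := op W) _ _ key
  refine J.superset_covering ?_ hR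
  intro W' r hr
  have hr' : r ≫ t ≫ s i = r ≫ g ≫ f := hr
  show Sieve.ofArrows Y s ((r ≫ g) ≫ f)
  rw [Category.assoc, ← hr', ← Category.assoc]
  exact Sieve.downward_closed _ (Sieve.ofArrows_mk Y s i) _

lemma isIso_map_diagonal {P Q : Cᵒᵖ ⥤ Type u} (f : P ⟶ Q)
    [Mono ((presheafToSheaf J (Type u)).map f)] :
    IsIso ((presheafToSheaf J (Type u)).map (pullback.diagonal f)) := by
  have e : (presheafToSheaf J (Type u)).map (pullback.diagonal f) ≫
      (PreservesPullback.iso (presheafToSheaf J (Type u)) f f).hom =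
      pullback.diagonal ((presheafToSheaf J (Type u)).map f) := by
    apply pullback.hom_ext
    · rw [Category.assoc, PreservesPullback.iso_hom_fst, ← Functor.map_comp, pullback.diagonal_fst,
        CategoryTheory.Functor.map_id, pullback.diagonal_fst]
    · rw [Category.assoc, PreservesPullback.iso_hom_snd, ← Functor.map_comp, pullback.diagonal_snd,
        CategoryTheory.Functor.map_id, pullback.diagonal_snd]
  have h1 : IsIso (pullback.diagonal ((presheafToSheaf J (Type u)).map f)) :=
    (pullback.isIso_diagonal_iff _).2 inferInstance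
  have h2 : IsIso ((presheafToSheaf J (Type u)).map (pullback.diagonal f) ≫
      (PreservesPullback.iso (presheafToSheaf J (Type u)) f f).hom) := by
    rw [e]; exact h1
  exact IsIso.of_isIso_comp_right _ (PreservesPullback.iso (presheafToSheaf J (Type u)) f f).hom

lemma isInitial_map_pullback {P P' Q : Cᵒᵖ ⥤ Type u} (f : P ⟶ Q) (g : P' ⟶ Q)
    (h : IsPullback (initial.to _) (initial.to _) ((presheafToSheaf J (Type u)).map f)
      ((presheafToSheaf J (Type u)).map g)) :
    Nonempty (IsInitial ((presheafToSheaf J (Type u)).obj (pullback f g))) :=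
  ⟨IsInitial.ofIso initialIsInitial
    (h.isoPullback ≪≫ (PreservesPullback.iso (presheafToSheaf J (Type u)) f g).symm)⟩

end helpers

/-- Let `(C, J)` be a small site, `X` an object and `s i : Y i ⟶ X` a family of morphisms indexed by a
small type. The following are equivalent: (i) the family is covering, for every `i` the diagonal of
presheaves `h_{Y i} ⟶ h_{Y i} ×_{h_X} h_{Y i}` becomes an isomorphism under the associated-sheaf
functor, and for all `i ≠ j` the sheaf associated to the presheaf `h_{Y i} ×_{h_X} h_{Y j}` is an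
initial object; (ii) the associated sheaf of `X`, with the maps induced by the `s i`, is a coproduct
of the associated sheaves of the `Y i` in sheaves of sets. -/
theorem result
    {C : Type u} [SmallCategory C] (J : GrothendieckTopology C) {X : C} {ι : Type u}
    (Y : ι → C) (s : ∀ i, Y i ⟶ X) :
    (Sieve.ofArrows Y s ∈ J X ∧
      (∀ i, IsIso ((presheafToSheaf J (Type u)).map (pullback.diagonal (yoneda.map (s i))))) ∧
      (∀ i j, i ≠ j → Nonempty (IsInitial ((presheafToSheaf J (Type u)).obj
        (pullback (yoneda.map (s i)) (yoneda.map (s j))))))) ↔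
    Nonempty (IsColimit (Cofan.mk ((presheafToSheaf J (Type u)).obj (yoneda.obj X))
      (fun i => (presheafToSheaf J (Type u)).map (yoneda.map (s i))))) := by
  constructor
  · rintro ⟨hcov, hdiag, hdisj⟩
    refine ⟨Limits.mkCofanColimit _
      (fun t => (Φ J X t.pt).symm
        (existsUnique_glue J Y s hcov hdiag hdisj t.pt (fun i => Φ J (Y i) t.pt (t.inj i))).choose)
      ?_ ?_⟩
    · intro t i
      have hsp := (existsUnique_glue J Y s hcov hdiag hdisj t.pt
        (fun i => Φ J (Y i) t.pt (t.inj i))).choose_spec.1 i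
      apply (Φ J (Y i) t.pt).injective
      have := Φ_nat J (s i) t.pt ((Φ J X t.pt).symm
        (existsUnique_glue J Y s hcov hdiag hdisj t.pt (fun i => Φ J (Y i) t.pt (t.inj i))).choose)
      rw [Equiv.apply_symm_apply] at this
      exact this.trans hsp
    · intro t m hm
      have hsp := (existsUnique_glue J Y s hcov hdiag hdisj t.pt
        (fun i => Φ J (Y i) t.pt (t.inj i))).choose_spec.2
      rw [Equiv.eq_symm_apply]
      apply hsp
      intro i
      rw [← Φ_nat J (s i) t.pt m]
      congr 1
      exact hm i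
  · rintro ⟨hc⟩
    have vK := Groth.Agent.Lib.helper5.SheafVK.isVanKampenColimit_discrete_sheaf J _ hc
    refine ⟨covering_of_isColimit J Y s hc, ?_, ?_⟩
    · intro i
      haveI : Mono ((presheafToSheaf J (Type u)).map (yoneda.map (s i))) :=
        mono_of_cofan_isVanKampen vK ⟨i⟩
      exact isIso_map_diagonal J (yoneda.map (s i))
    · intro i j hij
      exact isInitial_map_pullback J (yoneda.map (s i)) (yoneda.map (s j))
        (isPullback_initial_to_of_cofan_isVanKampen vK ⟨i⟩ ⟨j⟩ (by simpa using hij))

end Groth.Agent.S12108
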