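import Groth.Statements.S12109
import Groth.Agent.Lib.Helper14.Lan4

set_option autoImplicit false
open CategoryTheory CategoryTheory.Limits
universe u
open SGA4

namespace Groth.Agent.S12109

/-- Let `u : C ⥤ C'` be a functor between small categories and `u_!` the left Kan extension functor on
presheaves of sets, whose restriction to ind-representable presheaves is the induced functor `Ind C
⥤ Ind C'`. Then `Ind(u)` is an equivalence — `u_!` is bijective on morphisms between
ind-representable presheaves on `C` and every ind-representable presheaf on `C'` is isomorphic to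
`u_! F` for some ind-representable `F` — if and only if `u` is full and faithful and every object of
`C'` is a retract (direct factor) of an object `u X`. -/
theorem result
    {C : Type u} [SmallCategory C] {C' : Type u} [SmallCategory C'] (u : C ⥤ C') :
    ((∀ (F G : Cᵒᵖ ⥤ Type u), IsIndObject F → IsIndObject G →
        Function.Bijective (fun φ : F ⟶ G => (u.op.lan : (Cᵒᵖ ⥤ Type u) ⥤ (C'ᵒᵖ ⥤ Type u)).map φ)) ∧
      (∀ G' : C'ᵒᵖ ⥤ Type u, IsIndObject G' →
        ∃ F : Cᵒᵖ ⥤ Type u, IsIndObject F ∧
          Nonempty ((u.op.lan : (Cᵒᵖ ⥤ Type u) ⥤ (C'ᵒᵖ ⥤ Type u)).obj F ≅ G'))) ↔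
    ((u.Full ∧ u.Faithful) ∧
      ∀ X' : C', ∃ (X : C) (i : X' ⟶ u.obj X) (r : u.obj X ⟶ X'), i ≫ r = 𝟙 X') := by
  constructor
  · rintro ⟨hbij, hess⟩
    have hff : u.Full ∧ u.Faithful := by
      constructor
      · constructor
        intro X X' g
        exact Groth.Agent.Lib.Helper14.Lan.exists_map_eq_of_surjective u
          (hbij _ _ (isIndObject_yoneda X) (isIndObject_yoneda X')).2 g
      · constructor
        intro X X' f f' hff
        have := Groth.Agent.Lib.Helper14.Lan.lan_map_yoneda_eq_of_map_eq u f f' hff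
        exact yoneda.map_injective
          ((hbij _ _ (isIndObject_yoneda X) (isIndObject_yoneda X')).1 this)
    refine ⟨hff, fun X' => ?_⟩
    obtain ⟨F, hF, ⟨e⟩⟩ := hess (yoneda.obj X') (isIndObject_yoneda X')
    exact Groth.Agent.Lib.Helper14.Lan.exists_retract_of_iso u hF X' e
  · rintro ⟨⟨hfull, hfaith⟩, hr⟩
    refine ⟨?_, ?_⟩
    · intro F G _ _
      haveI : IsIso (u.op.lanAdjunction (Type u)).unit := inferInstance
      have hff := (u.op.lanAdjunction (Type u)).fullyFaithfulLOfIsIsoUnit
      exact ⟨fun a b hab => hff.map_injective hab, fun ψ => hff.map_surjective ψ⟩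
    · intro G' hG'
      refine ⟨u.op ⋙ G', Groth.Agent.Lib.Helper14.Lan.isIndObject_restrict u hG' hr, ?_⟩
      haveI := Groth.Agent.Lib.Helper14.Lan.isIso_counit u hr G'
      exact ⟨asIso ((u.op.lanAdjunction (Type u)).counit.app G')⟩

end Groth.Agent.S12109
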