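import Groth.Statements.S1211
import Groth.Agent.Lib.Helper26.RGFlat4
import Groth.Agent.Lib.Helper3.FlatAtLib2

set_option linter.style.haveILetI false

set_option autoImplicit false
universe u
open FlatMor

namespace Groth.Agent.S1211

open TensorProduct in
/-- Ring form, X = Spec S and S = Spec R affine: let S be a finite type R-algebra, N a finite S-module
and q a prime of S over p with N_q flat over R. Then there is an étale R-algebra R' with a prime p'
over p having the same residue field such that, writing A for the local ring of R' at p', S_A and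
N_A for the base changes: some element g of S_A outside every prime over both q and the maximal
ideal of A has the localization of N_A at g flat over A. -/
theorem result {R S : Type u} [CommRing R] [CommRing S] [Algebra R S] [Algebra.FiniteType R S]
    (N : Type u) [AddCommGroup N] [Module S N] [Module R N] [IsScalarTower R S N] [Module.Finite S N]
    (p : Ideal R) [p.IsPrime] (q : Ideal S) [q.IsPrime] [q.LiesOver p] (hflat : FlatCA.FlatAt R q N) :
    ∃ (R' : Type u) (_ : CommRing R') (_ : Algebra R R') (p' : Ideal R') (_ : p'.IsPrime), FlatCA.IsEtaleNhd R R' p p' ∧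
      ∀ (SA NA : Type u) [CommRing SA] [Algebra R SA] [Algebra S SA] [Algebra (Localization.AtPrime p') SA]
        [IsScalarTower R S SA] [IsScalarTower R (Localization.AtPrime p') SA]
        [Algebra.IsPushout R S (Localization.AtPrime p') SA]
        [AddCommGroup NA] [Module SA NA] [Module S NA] [IsScalarTower S SA NA]
        [Module (Localization.AtPrime p') NA] [IsScalarTower (Localization.AtPrime p') SA NA]
        (f : N →ₗ[S] NA), IsBaseChange SA f →
        ∃ g : SA, (∀ (Q : Ideal SA) [Q.IsPrime], Q.LiesOver q → Q.LiesOver (IsLocalRing.maximalIdeal (Localization.AtPrime p')) → g ∉ Q) ∧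
          Module.Flat (Localization.AtPrime p') (LocalizedModule (Submonoid.powers g) NA) := by
  obtain ⟨R', S', _, _, algRR', algSS', algR'S', algRS', twRR'S', twRSS', p', q', hp', hq', hEtR,
    hEtS, hq'p', hcore⟩ := Groth.Agent.Lib.helper26.RGFlat.core N p q hflat
  refine ⟨R', inferInstance, algRR', p', hp', hEtR, ?_⟩
  intro SA NA _ _ _ _ _ _ _ _ _ _ _ _ _ f hf
  obtain ⟨C, _, algSAC, algAC, twASAC, algSC, twSSAC, hEtC, hfp, hfree, -, g, hg1, hg2⟩ :=
    Groth.Agent.Lib.helper26.RGFlat.exists_open_data N p q p' q' hEtR hEtS hcore SA NA f hf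
  refine ⟨g, fun Q hQ hQq hQm => @hg1 Q hQ hQq hQm, ?_⟩
  rw [Groth.Agent.Lib.helper3.FlatAtLib.flat_away_iff]
  intro P hP hgP
  obtain ⟨Q', hQ'prime, hQ'P⟩ := @hg2 P hP hgP
  haveI := hQ'prime
  haveI : Q'.LiesOver P := ⟨hQ'P.symm⟩
  haveI := hEtC
  haveI : Module.Flat SA C := inferInstance
  rw [Groth.Agent.Lib.helper3.FlatAtLib.flatAt_iff_of_isBaseChange (A := Localization.AtPrime p')
    P Q' (TensorProduct.mk SA C NA 1) (TensorProduct.isBaseChange SA NA C)]
  haveI := hfree
  haveI : Module.Flat (Localization.AtPrime p') (C ⊗[SA] NA) := inferInstance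
  rw [Groth.Agent.Lib.helper3.FlatAtLib.flatAt_iff_forall_eq_zero]
  intro P₁ Q₁ _ _ _ _ u hu x hx
  have hinj : Function.Injective (u.lTensor (C ⊗[SA] NA)) :=
    Module.Flat.lTensor_preserves_injective_linearMap u hu
  have hx0 : x = 0 := hinj (hx.trans (map_zero _).symm)
  refine ⟨1, fun h1 => hQ'prime.ne_top ((Ideal.eq_top_iff_one _).mpr h1), ?_⟩
  rw [hx0, smul_zero]

end Groth.Agent.S1211
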