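import Groth.Statements.S12112
import Groth.Agent.Lib.Helper20.PushMumford

set_option autoImplicit false
universe u
open CategoryTheory CategoryTheory.Limits AlgebraicGeometry
open Pic13

namespace Groth.Agent.S12112

/-- Let k be an algebraically closed field, i : X ⟶ P^n_k a closed k-immersion, O_X(1) = i^*O(1), and F,
G coherent O_X-modules with a short exact sequence 0 → F(-1) → F → G → 0 and G m-regular. Then (i)
H^q(X, F(n')) = 0 for q ≥ 2 and n' ≥ m - q; (ii) h^1(F(n' - 1)) ≥ h^1(F(n')) for n' ≥ m - 1, h^1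
being the dimension over k; (iii) H^1(X, F(n')) = 0 for n' ≥ (m - 1) + h^1(F(m - 1)); in particular
F is (m + h^1(F(m - 1)))-regular. (The published statement takes F(-1) → F given by a section of
O_X(1); the printed argument uses only the short exact sequence and its twists, so any short exact
sequence of this shape is allowed here.) -/
theorem result (k : Type u) [Field k] [IsAlgClosed k] (n : ℕ) (X : Scheme.{u})
    [X.Over (Spec (CommRingCat.of k))] (i : X ⟶ CohB1.ProjSpace n k) [IsClosedImmersion i]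
    (hi : i ≫ CohB1.ProjSpace.toSpec n k = X ↘ Spec (CommRingCat.of k))
    (F G : X.Modules) (hF : Coh.IsCoh F) (hG : Coh.IsCoh G)
    (f : Pic13.twistOn k i F (-1) ⟶ F) (g : F ⟶ G) (hfg : f ≫ g = 0) (hS : (ShortComplex.mk f g hfg).ShortExact)
    (m : ℤ) (hGm : Pic13.IsMRegular k i G m) :
    (∀ (q : ℕ) (n' : ℤ), 2 ≤ q → m - q ≤ n' → Subsingleton (Coh.HH X (Pic13.twistOn k i F n') q)) ∧
    (∀ n' : ℤ, m - 1 ≤ n' →
      Module.finrank k (Coh.HH X (Pic13.twistOn k i F n') 1) ≤ Module.finrank k (Coh.HH X (Pic13.twistOn k i F (n' - 1)) 1)) ∧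
    (∀ n' : ℤ, (m - 1) + (Module.finrank k (Coh.HH X (Pic13.twistOn k i F (m - 1)) 1) : ℤ) ≤ n' →
      Subsingleton (Coh.HH X (Pic13.twistOn k i F n') 1)) ∧
    Pic13.IsMRegular k i F (m + Module.finrank k (Coh.HH X (Pic13.twistOn k i F (m - 1)) 1)) := by
  have hqF : F.IsQuasicoherent := hF.1
  have hF' := Groth.Agent.Lib.Lead.ProjectiveCoh.isCoh_push i hF
  obtain ⟨ι', hm, hreg⟩ :=
    Groth.Agent.Lib.helper20.PushMumford.exists_push_data i hF hG f g hfg hS hGm
  have fr := fun (d : ℤ) (q : ℕ) => Groth.Agent.Lib.helper20.PushReg.finrank_twist i hi F d q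
  have ss := fun (d : ℤ) (q : ℕ) =>
    Groth.Agent.Lib.helper20.PushReg.subsingleton_twist_iff (k := k) i F d q
  refine ⟨fun q n' hq hn' =>
      (ss n' q).2 (Groth.Agent.Lib.helper20.MumfordLemma.part1 ι' hF' hreg q n' hq hn'),
    fun n' hn' => ?_, fun n' hn' => ?_, ?_⟩
  · rw [fr, fr]
    exact Groth.Agent.Lib.helper20.MumfordLemma.part2 ι' hF' hreg n' hn'
  · rw [fr] at hn'
    exact (ss n' 1).2 (Groth.Agent.Lib.helper20.MumfordLemma.part3 ι' hF' hreg n' hn')
  · have h4 := Groth.Agent.Lib.helper20.MumfordLemma.part4 ι' hF' hreg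
    rw [fr]
    exact Groth.Agent.Lib.helper20.PushReg.regular_of_push i hF h4

end Groth.Agent.S12112
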