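import Groth.Statements.S12113
import Groth.Agent.Lib.Helper4.BiDesc
import Groth.Agent.Lib.Helper4.ExtRigid

set_option autoImplicit false
universe u
open CategoryTheory CategoryTheory.Limits MonoidalCategory CartesianMonoidalCategory MonObj AlgebraicGeometry
open SGA7

namespace Groth.Agent.S12113

/-- Group schemes, fppf site: over a base scheme S, let P and G be S-group schemes with G commutative,
and let u : G → E, v : E → P and u' : G → E', v' : E' → P be homomorphisms forming sequences 1 → G →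
E → P → 1 and 1 → G → E' → P → 1 exact for the fppf topology. Suppose every morphism of S-schemes P
×_S P → G trivial on P × e_P and on e_P × P is trivial. Let f : E → E' be a morphism of S-schemes
over P (f ≫ v' = v) and under G (u ≫ f = u'), preserving the unit section, and compatible with left
and right translations by G: for all points g of G and x of E with values in any S-scheme, f(u(g) x)
= u'(g) f(x) and f(x u(g)) = f(x) u'(g). Then f is a homomorphism of S-group schemes: such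
extensions have no non-multiplicative morphisms of their underlying rigidified bitorsors. (The
published statement is for sheaves of groups on an arbitrary topos and phrased as full faithfulness
of the functor from extensions to rigidified bitorsors; this row is the case of representable
sheaves on the fppf site of S, with G commutative so that the defect of multiplicativity descends to
P ×_S P as in the printed argument. Morphisms to a group scheme form a group; trivial means equal to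
its unit.) -/
theorem result (S : Scheme.{u})
    (P G E E' : Over S) [GrpObj P] [GrpObj G] [GrpObj E] [GrpObj E'] [IsCommMonObj G]
    (u : G ⟶ E) (v : E ⟶ P) (hex : NonAbH1.IsExactSeq Scheme.fppfPrecoverage u v)
    (u' : G ⟶ E') (v' : E' ⟶ P) (hex' : NonAbH1.IsExactSeq Scheme.fppfPrecoverage u' v')
    (hPP : ∀ c : P ⊗ P ⟶ G, lift (𝟙 P) (toUnit P ≫ η[P]) ≫ c = 1 → lift (toUnit P ≫ η[P]) (𝟙 P) ≫ c = 1 → c = 1)
    (f : E ⟶ E') (hv : f ≫ v' = v) (hu : u ≫ f = u') (h1 : η[E] ≫ f = η[E'])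
    (hl : ∀ (T : Over S) (g : T ⟶ G) (x : T ⟶ E), ((g ≫ u) * x) ≫ f = (g ≫ u') * (x ≫ f))
    (hr : ∀ (T : Over S) (g : T ⟶ G) (x : T ⟶ E), (x * (g ≫ u)) ≫ f = (x ≫ f) * (g ≫ u')) :
    IsMonHom f := by
  obtain ⟨iu, iv, huv, hpb, hloc⟩ := id hex
  obtain ⟨iu', iv', huv', hpb', hloc'⟩ := hex'
  have hlocq : NonAbH1.IsLocallyTrivialFor Scheme.fpqcPrecoverage (Over.mk v.left : Over P.left) :=
    Groth.Agent.Lib.Helper4.QuotSectionSch.isLocallyTrivialFor_mono Scheme.fppfPrecoverage_le_fpqcPrecoverage _ hloc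
  have hinj' : ∀ {T : Over S} (g₁ g₂ : T ⟶ G), g₁ ≫ u' = g₂ ≫ u' → g₁ = g₂ := fun g₁ g₂ h =>
    Groth.Agent.Lib.Helper4.ExactH1.u_inj_pt u' v' huv' hpb' g₁ g₂ h
  have hf1 : ∀ {T : Over S}, (1 : T ⟶ E) ≫ f = 1 := by
    intro T
    rw [Hom.one_def, Category.assoc, h1, ← Hom.one_def]
  -- the defect of multiplicativity
  obtain ⟨κ, hκ⟩ := Groth.Agent.Lib.Helper4.CentralExt.exists_factor u' v' huv' hpb'
    (((fst E E * snd E E) ≫ f) * ((fst E E ≫ f) * (snd E E ≫ f))⁻¹) (by
    rw [MonObj.mul_comp _ _ v', GrpObj.inv_comp, MonObj.mul_comp _ _ v', Category.assoc, Category.assoc,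
      Category.assoc, hv, MonObj.mul_comp (fst E E) (snd E E) v, mul_inv_cancel])
  have hκp : ∀ {T : Over S} (x y : T ⟶ E), (lift x y ≫ κ) ≫ u' = ((x * y) ≫ f) * ((x ≫ f) * (y ≫ f))⁻¹ := by
    intro T x y
    rw [Category.assoc, hκ, MonObj.comp_mul, GrpObj.comp_inv, MonObj.comp_mul, ← Category.assoc, MonObj.comp_mul,
      ← Category.assoc, ← Category.assoc, lift_fst, lift_snd]
  have hconj : ∀ {T : Over S} (g k : T ⟶ G), (g ≫ u') * (k ≫ u') * (g ≫ u')⁻¹ = k ≫ u' := by
    intro T g k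
    rw [← GrpObj.inv_comp, ← MonObj.mul_comp, ← MonObj.mul_comp, _root_.mul_comm g, mul_inv_cancel_right]
  have hκL : ∀ {T : Over S} (x y : T ⟶ E) (g : T ⟶ G), lift ((g ≫ u) * x) y ≫ κ = lift x y ≫ κ := by
    intro T x y g
    apply hinj'
    rw [hκp, _root_.mul_assoc, hl, hl]
    calc (g ≫ u') * ((x * y) ≫ f) * ((g ≫ u') * (x ≫ f) * (y ≫ f))⁻¹
        = (g ≫ u') * (((x * y) ≫ f) * ((x ≫ f) * (y ≫ f))⁻¹) * (g ≫ u')⁻¹ := by group
      _ = (g ≫ u') * ((lift x y ≫ κ) ≫ u') * (g ≫ u')⁻¹ := by rw [hκp]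
      _ = (lift x y ≫ κ) ≫ u' := hconj g _
  have hκl : ∀ {T : Over S} (x y : T ⟶ E) (g : T ⟶ G), lift (x * (g ≫ u)) y ≫ κ = lift x y ≫ κ := by
    intro T x y g
    obtain ⟨g'', hg''⟩ := Groth.Agent.Lib.Helper4.CentralExt.exists_of_comp_eq_one u v huv hpb
      (x * (g ≫ u) * x⁻¹) (by
        rw [MonObj.mul_comp, MonObj.mul_comp, GrpObj.inv_comp, Category.assoc, huv, MonObj.comp_one, _root_.mul_one,
          mul_inv_cancel])
    have e : x * (g ≫ u) = (g'' ≫ u) * x := by rw [hg'']; group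
    rw [e, hκL]
  have hκr : ∀ {T : Over S} (x y : T ⟶ E) (g : T ⟶ G), lift x (y * (g ≫ u)) ≫ κ = lift x y ≫ κ := by
    intro T x y g
    apply hinj'
    rw [hκp, hκp, ← _root_.mul_assoc, hr, hr]
    group
  obtain ⟨κb, hκb⟩ := Groth.Agent.Lib.Helper4.BiDesc.exists_biDesc u v hex κ hκl hκr
  have hepi : Epi v := Groth.Agent.Lib.Helper4.TorsorDesc.epi_of_isLocallyTrivialFor v hlocq
  have honeP : (toUnit P ≫ η[P] : P ⟶ P) = 1 := (Hom.one_def).symm
  have hax1 : lift (𝟙 P) (1 : P ⟶ P) ≫ κb = 1 := by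
    rw [← cancel_epi v, MonObj.comp_one, ← Category.assoc, comp_lift, Category.comp_id, MonObj.comp_one]
    have e : lift v (1 : E ⟶ P) = lift (𝟙 E) (1 : E ⟶ E) ≫ (v ▷ E) ≫ (P ◁ v) := by
      rw [lift_whiskerRight_assoc, lift_whiskerLeft, Category.id_comp, MonObj.one_comp]
    rw [e, Category.assoc, Category.assoc, hκb]
    apply hinj'
    rw [hκp, hf1, MonObj.one_comp, _root_.mul_one, _root_.mul_one, mul_inv_cancel]
  have hax2 : lift (1 : P ⟶ P) (𝟙 P) ≫ κb = 1 := by
    rw [← cancel_epi v, MonObj.comp_one, ← Category.assoc, comp_lift, Category.comp_id, MonObj.comp_one]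
    have e : lift (1 : E ⟶ P) v = lift (1 : E ⟶ E) (𝟙 E) ≫ (v ▷ E) ≫ (P ◁ v) := by
      rw [lift_whiskerRight_assoc, lift_whiskerLeft, Category.id_comp, MonObj.one_comp]
    rw [e, Category.assoc, Category.assoc, hκb]
    apply hinj'
    rw [hκp, hf1, MonObj.one_comp, _root_.one_mul, _root_.one_mul, mul_inv_cancel]
  have hκb1 : κb = 1 := hPP κb (by rw [honeP]; exact hax1) (by rw [honeP]; exact hax2)
  have hκ1 : κ = 1 := by rw [← hκb, hκb1, MonObj.comp_one, MonObj.comp_one]
  have key := hκp (fst E E) (snd E E)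
  rw [hκ1, MonObj.comp_one, MonObj.one_comp] at key
  exact Groth.Agent.Lib.Helper4.ExtRigid.isMonHom_of_mul f (mul_inv_eq_one.1 key.symm)

end Groth.Agent.S12113
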