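import Groth.Statements.S1213
import Mathlib

set_option autoImplicit false
universe u
open scoped Classical
open FlatMor

namespace Groth.Agent.S1213

open TensorProduct IsLocalRing

theorem key {R S : Type u} [CommRing R] [IsLocalRing R] [CommRing S] [Algebra R S]
    (N : Type u) [AddCommGroup N] [Module S N] [Module R N] [IsScalarTower R S N]
    (P : Submodule R N) (hP : P.FG) (π : N →ₗ[R] P) (hπ : ∀ p : P, π p = p)
    (M : Type u) [AddCommGroup M] [Module R M]
    (b : S) (hb : b ∈ (maximalIdeal R).map (algebraMap R S))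
    (w : P ⊗[R] M) (hw : (1 - b) • (LinearMap.rTensor M P.subtype w) = 0) : w = 0 := by
  have hfinP : Module.Finite R P := Module.Finite.iff_fg.mpr hP
  have hb' : ∀ n : N, π (b • n) ∈ (maximalIdeal R) • (⊤ : Submodule R P) := by
    refine Submodule.span_induction
      (p := fun b _ => ∀ n : N, π (b • n) ∈ (maximalIdeal R) • (⊤ : Submodule R P))
      ?_ ?_ ?_ ?_ hb
    · rintro _ ⟨r, hr, rfl⟩ n
      rw [algebraMap_smul, map_smul]
      exact Submodule.smul_mem_smul hr trivial
    · intro n; rw [zero_smul, map_zero]; exact Submodule.zero_mem _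
    · intro x y _ _ hx hy n
      rw [add_smul, map_add]; exact Submodule.add_mem _ (hx n) (hy n)
    · intro t x _ hx n
      rw [smul_eq_mul, mul_comm, mul_smul]
      exact hx _
  let g : N →ₗ[R] N :=
    { toFun := fun n => (1 - b) • n
      map_add' := fun x y => smul_add _ _ _
      map_smul' := fun r x => smul_comm _ _ _ }
  let f' : P →ₗ[R] P := π ∘ₗ g ∘ₗ P.subtype
  have hf'p : ∀ p : P, f' p = p - π (b • (p : N)) := by
    intro p
    show π ((1 - b) • (p : N)) = _
    rw [sub_smul, one_smul, map_sub, hπ]
  have hsurj : Function.Surjective f' := by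
    rw [← LinearMap.range_eq_top, eq_top_iff]
    apply Submodule.le_of_le_smul_of_le_jacobson_bot (I := maximalIdeal R)
      (Module.Finite.fg_top)
      (IsLocalRing.maximalIdeal_le_jacobson ⊥)
    intro p _
    have : p = f' p + π (b • (p : N)) := by rw [hf'p]; abel
    rw [this]
    exact Submodule.add_mem _ (Submodule.mem_sup_left ⟨p, rfl⟩)
      (Submodule.mem_sup_right (hb' _))
  have hinj : Function.Injective f' := OrzechProperty.injective_of_surjective_endomorphism f' hsurj
  let e : P ≃ₗ[R] P := LinearEquiv.ofBijective f' ⟨hinj, hsurj⟩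
  have hrt : ∀ w : P ⊗[R] M, LinearMap.rTensor M π ((1 - b) • (LinearMap.rTensor M P.subtype w)) =
      LinearEquiv.rTensor M e w := by
    intro w
    induction w using TensorProduct.induction_on with
    | zero => simp
    | tmul x y =>
      rw [LinearMap.rTensor_tmul, TensorProduct.smul_tmul', LinearMap.rTensor_tmul]
      rfl
    | add x y hx hy => rw [map_add, smul_add, map_add, hx, hy, map_add]
  apply (LinearEquiv.rTensor M e).injective
  rw [← hrt, hw, map_zero, map_zero]

theorem exists_lift {R : Type u} [CommRing R]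
    (N : Type u) [AddCommGroup N] [Module R N]
    (ι : Type u) (F : ι → Submodule R N) (hF : iSup F = ⊤)
    (M : Type u) [AddCommGroup M] [Module R M] (z : N ⊗[R] M) :
    ∃ (J : Finset ι) (w : (⨆ i ∈ (J : Set ι), F i : Submodule R N) ⊗[R] M),
      LinearMap.rTensor M (Submodule.subtype _) w = z := by
  induction z using TensorProduct.induction_on with
  | zero => exact ⟨∅, 0, map_zero _⟩
  | tmul n m =>
    have hn : n ∈ iSup F := by rw [hF]; trivial
    obtain ⟨J, hJ⟩ := Submodule.exists_finset_of_mem_iSup F hn
    refine ⟨J, (⟨n, ?_⟩ : (⨆ i ∈ (J : Set ι), F i : Submodule R N)) ⊗ₜ m, ?_⟩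
    · simpa only [Finset.mem_coe] using hJ
    · rw [LinearMap.rTensor_tmul]; rfl
  | add x y hx hy =>
    obtain ⟨J1, w1, h1⟩ := hx
    obtain ⟨J2, w2, h2⟩ := hy
    have le1 : (⨆ i ∈ (J1 : Set ι), F i : Submodule R N) ≤
        ⨆ i ∈ ((J1 ∪ J2 : Finset ι) : Set ι), F i :=
      biSup_mono (fun i hi => by
        rw [Finset.mem_coe] at hi ⊢; exact Finset.mem_union_left _ hi)
    have le2 : (⨆ i ∈ (J2 : Set ι), F i : Submodule R N) ≤
        ⨆ i ∈ ((J1 ∪ J2 : Finset ι) : Set ι), F i :=
      biSup_mono (fun i hi => by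
        rw [Finset.mem_coe] at hi ⊢; exact Finset.mem_union_right _ hi)
    refine ⟨J1 ∪ J2, LinearMap.rTensor M (Submodule.inclusion le1) w1 +
      LinearMap.rTensor M (Submodule.inclusion le2) w2, ?_⟩
    rw [map_add, ← LinearMap.rTensor_comp_apply, ← LinearMap.rTensor_comp_apply,
      Submodule.subtype_comp_inclusion, Submodule.subtype_comp_inclusion, h1, h2]

open TensorProduct IsLocalRing in
/-- Let R be a local ring, S an R-algebra and N an S-module which, as an R-module, is an internal direct
sum of finite R-submodules. Then for every R-module M and every prime q of S which is the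
annihilator of an element of the S-module N ⊗_R M we have q + 𝔪_R S ≠ S. -/
theorem result {R S : Type u} [CommRing R] [IsLocalRing R] [CommRing S] [Algebra R S]
    (N : Type u) [AddCommGroup N] [Module S N] [Module R N] [IsScalarTower R S N]
    (ι : Type u) (F : ι → Submodule R N) (hF : DirectSum.IsInternal F) (hfin : ∀ i, Module.Finite R (F i))
    (M : Type u) [AddCommGroup M] [Module R M]
    (q : Ideal S) [q.IsPrime] (hq : q ∈ FlatCA.ass S (N ⊗[R] M)) :
    q ⊔ (maximalIdeal R).map (algebraMap R S) ≠ ⊤ := by
  intro htop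
  obtain ⟨hprime, z, hz⟩ := hq
  have h1 : (1 : S) ∈ q ⊔ (maximalIdeal R).map (algebraMap R S) := by rw [htop]; trivial
  obtain ⟨a, ha, b, hb, hab⟩ := Submodule.mem_sup.mp h1
  have haz : a • z = 0 := by
    rw [hz] at ha
    exact (Submodule.mem_annihilator_span_singleton _ _).mp ha
  have ha' : a = 1 - b := by rw [← hab]; ring
  have hind : iSupIndep F := hF.submodule_iSupIndep
  have htopF : iSup F = ⊤ := hF.submodule_iSup_eq_top
  obtain ⟨J, w, hw⟩ := exists_lift N ι F htopF M z
  have hcompl : IsCompl (⨆ i ∈ (J : Set ι), F i) (⨆ i ∈ ((J : Set ι)ᶜ), F i) := by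
    constructor
    · exact hind.disjoint_biSup_biSup' disjoint_compl_right J.finite_toSet
    · rw [codisjoint_iff, ← iSup_union, Set.union_compl_self, iSup_univ, htopF]
  have hPfg : (⨆ i ∈ (J : Set ι), F i).FG := by
    have := Submodule.fg_biSup J F (fun i _ => Module.Finite.iff_fg.mp (hfin i))
    simpa only [Finset.mem_coe] using this
  have hz0 : z = 0 := by
    have hw0 : w = 0 := by
      apply key N _ hPfg (Submodule.projectionOnto _ _ hcompl)
        (fun p => Submodule.projectionOnto_apply_left hcompl p) M b hb w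
      rw [hw, ← ha', haz]
    rw [← hw, hw0, map_zero]
  rw [hz0] at hz
  have : q = ⊤ := by
    rw [hz]
    simp [Submodule.annihilator_bot]
  exact hprime.ne_top this

end Groth.Agent.S1213
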