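import Groth.Statements.S4710
import Mathlib
import Groth.Agent.Lib.Helper22.N2Loc

set_option autoImplicit false
universe u
open EGA4

namespace Groth.Agent.S4710

/-- Last assertion, case of rings of fractions: if A is a Noetherian ring all of whose quotient domains
are Japanese (a Nagata ring), then so is every ring of fractions S⁻¹A. -/
theorem result (A : Type u) [CommRing A] (hA : CAlg.IsNagata A) (S : Submonoid A) :
    CAlg.IsNagata (Localization S) := by
  obtain ⟨hN, hq⟩ := hA
  refine ⟨IsLocalization.isNoetherianRing S (Localization S) hN, ?_⟩
  intro q hqp
  have hq' : q = (q.comap (algebraMap A (Localization S))).map (algebraMap A (Localization S)) :=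
    (IsLocalization.map_comap S (Localization S) q).symm
  have hpp0 : (q.comap (algebraMap A (Localization S))).IsPrime := Ideal.comap_isPrime _ q
  generalize q.comap (algebraMap A (Localization S)) = p at hq' hpp0
  subst hq'
  exact Groth.Agent.Lib.helper22.isN2_of_isLocalization (hq p)
    (Algebra.algebraMapSubmonoid (A ⧸ p) S) _

end Groth.Agent.S4710
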