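import Groth.Statements.S12125
import Groth.Agent.Lib.Helper24.NagataCrit
import Groth.Agent.Lib.Helper13.PIns3
import Groth.Agent.S4710
import Groth.Agent.S4562

set_option autoImplicit false
universe u
open EGA4

namespace Groth.Agent.S12125

/-- Let A be a Noetherian ring. Then every quotient of A by a prime ideal is N-2 (i.e. A is a Nagata
ring) if and only if (1) for every maximal ideal m of A every quotient of A_m by a prime ideal is
N-2, and (2) for every prime p of A, writing B = A/p with fraction field K, for every finite purely
inseparable field extension K' of K and every sub-B-algebra B' of K' which is a finite B-module and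
has K' as its fraction field, there is a nonzero element f of B' such that B'_f is an integrally
closed domain. -/
theorem result (A : Type u) [CommRing A] [IsNoetherianRing A] :
    CAlg.IsNagata A ↔
      ((∀ (m : Ideal A) [m.IsMaximal] (P : Ideal (Localization.AtPrime m)) [P.IsPrime],
          CAlg.IsN2 (Localization.AtPrime m ⧸ P)) ∧
        ∀ (p : Ideal A) [p.IsPrime] (K' : Type u) [Field K'] [Algebra (A ⧸ p) K']
          [Algebra (FractionRing (A ⧸ p)) K'] [IsScalarTower (A ⧸ p) (FractionRing (A ⧸ p)) K']
          [FiniteDimensional (FractionRing (A ⧸ p)) K'] [IsPurelyInseparable (FractionRing (A ⧸ p)) K']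
          (B' : Subalgebra (A ⧸ p) K'), Module.Finite (A ⧸ p) B' → IsFractionRing B' K' →
            ∃ f : B', f ≠ 0 ∧ IsIntegrallyClosed (Localization.Away f)) := by
  constructor
  · intro hA
    refine ⟨fun m _ P _ => ?_, fun p _ K' _ _ _ _ hfd hpi B' hB'fin hB'frac => ?_⟩
    · exact (Groth.Agent.S4710.result A hA m.primeCompl).2 P
    · haveI : Module.Finite (A ⧸ p) B' := hB'fin
      have hinjK : Function.Injective (algebraMap (A ⧸ p) K') := by
        rw [IsScalarTower.algebraMap_eq (A ⧸ p) (FractionRing (A ⧸ p)) K']
        exact (algebraMap (FractionRing (A ⧸ p)) K').injective.comp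
          (IsFractionRing.injective (A ⧸ p) (FractionRing (A ⧸ p)))
      haveI : FaithfulSMul (A ⧸ p) B' := by
        rw [faithfulSMul_iff_algebraMap_injective]
        intro x y hxy
        apply hinjK
        exact congrArg (fun z : B' => (z : K')) hxy
      have hN1 : Module.Finite B' (integralClosure B' (FractionRing B')) :=
        Groth.Agent.Lib.helper13.PIns.finite_integralClosure_of_finite_injective (hA.2 p)
          (FractionRing B') (FractionRing B')
      obtain ⟨f, hf0, hf⟩ :=
        Groth.Agent.Lib.helper13.PIns.exists_away_isIntegrallyClosed_of_isN1 hN1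
      exact ⟨f, hf0, hf (Localization.Away f)⟩
  · rintro ⟨h1, h2⟩
    refine ⟨inferInstance, fun p _ => ?_⟩
    apply Groth.Agent.S4562.result
    intro K' _ _ _ _ hfd hpi
    haveI := hfd
    haveI := hpi
    obtain ⟨B', hB'fin, hB'frac⟩ :=
      Groth.Agent.Lib.Helper24.AnUnram.exists_finite_subalgebra (A ⧸ p) (FractionRing (A ⧸ p)) K'
    obtain ⟨f, hf0, hfn⟩ := h2 p K' B' hB'fin hB'frac
    haveI := hB'fin
    haveI := hB'frac
    haveI : IsNoetherianRing B' := IsNoetherianRing.of_finite (A ⧸ p) B'
    have hpow := Groth.Agent.Lib.Helper24.NagataCrit.hpow_of_isIntegrallyClosed_away K' f hf0 hfn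
    have hfinB' : Module.Finite B' (integralClosure (↥B') K') :=
      Groth.Agent.Lib.Helper24.LocGlobN1.finite_integralClosure_of_local_bounds K' f hf0 hpow
        (fun m' _ => Groth.Agent.Lib.Helper24.NagataCrit.exists_local_bound_of_quotient A p h1 K'
          B' f hpow m')
    haveI : Module.Finite (A ⧸ p) (integralClosure (↥B') K') := Module.Finite.trans B' _
    haveI : IsNoetherian (A ⧸ p) (integralClosure (↥B') K') :=
      isNoetherian_of_isNoetherianRing_of_finite (A ⧸ p) _
    let g : integralClosure (A ⧸ p) K' →ₗ[A ⧸ p] integralClosure (↥B') K' :=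
      { toFun := fun x => ⟨x.1, x.2.tower_top⟩
        map_add' := fun x y => rfl
        map_smul' := fun a x => rfl }
    exact Module.Finite.of_injective g
      (fun x y hxy => Subtype.ext (congrArg (fun z : integralClosure (↥B') K' => (z : K')) hxy))

end Groth.Agent.S12125
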