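import Groth.Statements.S12127
import Mathlib
import Groth.Agent.Lib.Helper23.QCons
-- import your own Groth.Agent.* helpers here

set_option autoImplicit false
universe u
open EGA43

namespace Groth.Agent.S12127

/-- Let f : X → Y be a quasi-homeomorphism, i.e. a continuous map such that U ↦ f⁻¹(U) is a bijection
from the open subsets of Y onto the open subsets of X. Call a subset quasi-constructible when it is
a finite union of locally closed subsets, and locally quasi-constructible when every point of the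
space has an open neighbourhood V whose intersection with it is quasi-constructible in V. Then Z ↦
f⁻¹(Z) induces a bijection from the quasi-constructible subsets of Y onto those of X, and from the
locally quasi-constructible subsets of Y onto those of X. -/
theorem result {X Y : Type u}
    [TopologicalSpace X] [TopologicalSpace Y] (f : X → Y) (hf : Continuous f)
    (hq : Function.Bijective (fun U : TopologicalSpace.Opens Y =>
      (⟨f ⁻¹' (U : Set Y), U.isOpen.preimage hf⟩ : TopologicalSpace.Opens X))) :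
    Set.BijOn (fun Z : Set Y => f ⁻¹' Z)
        {Z : Set Y | ∃ T : Set (Set Y), T.Finite ∧ (∀ t ∈ T, IsLocallyClosed t) ∧ Z = ⋃₀ T}
        {Z : Set X | ∃ T : Set (Set X), T.Finite ∧ (∀ t ∈ T, IsLocallyClosed t) ∧ Z = ⋃₀ T} ∧
      Set.BijOn (fun Z : Set Y => f ⁻¹' Z)
        {Z : Set Y | ∀ y : Y, ∃ V : Set Y, IsOpen V ∧ y ∈ V ∧
          ∃ T : Set (Set V), T.Finite ∧ (∀ t ∈ T, IsLocallyClosed t) ∧ (Subtype.val ⁻¹' Z : Set V) = ⋃₀ T}
        {Z : Set X | ∀ x : X, ∃ V : Set X, IsOpen V ∧ x ∈ V ∧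
          ∃ T : Set (Set V), T.Finite ∧ (∀ t ∈ T, IsLocallyClosed t) ∧ (Subtype.val ⁻¹' Z : Set V) = ⋃₀ T} := by
  have hq' := (Groth.Agent.Lib.helper17.QH.bijective_opens_iff f hf).mp hq
  refine ⟨⟨?_, ?_, ?_⟩, ⟨?_, ?_, ?_⟩⟩
  · intro Z hZ
    exact Groth.Agent.Lib.helper23.QCons.QC.preimage hf hZ
  · intro Z₁ h₁ Z₂ h₂ e
    exact le_antisymm
      (Groth.Agent.Lib.helper23.QCons.QC.subset_of_preimage_subset hq' h₁ h₂ (le_of_eq e))
      (Groth.Agent.Lib.helper23.QCons.QC.subset_of_preimage_subset hq' h₂ h₁ (le_of_eq e.symm))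
  · intro Z' hZ'
    obtain ⟨Z, hZ, e⟩ := Groth.Agent.Lib.helper23.QCons.QC.surj hq' hZ'
    exact ⟨Z, hZ, e⟩
  · intro Z hZ
    exact Groth.Agent.Lib.helper23.QCons.LQC.preimage hf hZ
  · intro Z₁ h₁ Z₂ h₂ e
    exact le_antisymm
      (Groth.Agent.Lib.helper23.QCons.LQC.subset_of_preimage_subset hq' h₁ h₂ (le_of_eq e))
      (Groth.Agent.Lib.helper23.QCons.LQC.subset_of_preimage_subset hq' h₂ h₁ (le_of_eq e.symm))
  · intro Z' hZ'
    obtain ⟨Z, hZ, e⟩ := Groth.Agent.Lib.helper23.QCons.LQC.surj hq' hZ'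
    exact ⟨Z, hZ, e⟩

end Groth.Agent.S12127
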