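import Groth.Statements.S12129
import Mathlib.AlgebraicGeometry.Stalk
import Mathlib.AlgebraicGeometry.Morphisms.Preimmersion
import Mathlib.AlgebraicGeometry.Morphisms.QuasiCompact
import Mathlib.AlgebraicGeometry.Properties
import Mathlib.RingTheory.KrullDimension.Basic
import Mathlib.Order.KrullDimension

set_option autoImplicit false
universe u
open EGA2

namespace Groth.Agent.S12129

open AlgebraicGeometry CategoryTheory in
/-- Specialization among the primes of the local ring at `x` is specialization of their images. -/
theorem fromSpecStalk_specializes_iff (X : Scheme.{u}) (x : X)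
    (p q : PrimeSpectrum (X.presheaf.stalk x)) :
    (X.fromSpecStalk x).base p ⤳ (X.fromSpecStalk x).base q ↔ p ≤ q := by
  rw [PrimeSpectrum.le_iff_specializes]
  exact (X.fromSpecStalk x).isEmbedding.isInducing.specializes_iff

open AlgebraicGeometry CategoryTheory in
theorem fromSpecStalk_eq_iff (X : Scheme.{u}) (x : X)
    (p : PrimeSpectrum (X.presheaf.stalk x)) :
    (X.fromSpecStalk x).base p = x ↔ p = IsLocalRing.closedPoint (X.presheaf.stalk x) := by
  constructor
  · intro h
    apply (X.fromSpecStalk x).isEmbedding.injective
    rw [h]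
    exact (Scheme.fromSpecStalk_closedPoint (x := x)).symm
  · rintro rfl
    exact Scheme.fromSpecStalk_closedPoint

open AlgebraicGeometry CategoryTheory in
theorem exists_fromSpecStalk_eq (X : Scheme.{u}) {x y : X} (h : y ⤳ x) :
    ∃ p : PrimeSpectrum (X.presheaf.stalk x), (X.fromSpecStalk x).base p = y := by
  have : y ∈ Set.range (X.fromSpecStalk x).base := by
    rw [Scheme.range_fromSpecStalk]
    exact h
  exact this

open AlgebraicGeometry CategoryTheory in
/-- The local ring at `x` has dimension at least one iff `x` has a proper generization. -/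
theorem one_le_dim_stalk_iff (X : Scheme.{u}) (x : X) :
    1 ≤ ringKrullDim (X.presheaf.stalk x) ↔ ∃ y : X, y ⤳ x ∧ y ≠ x := by
  rw [ringKrullDim, Order.one_le_krullDim_iff]
  constructor
  · rintro ⟨p, q, hpq⟩
    refine ⟨(X.fromSpecStalk x).base p, ?_, ?_⟩
    · have : (X.fromSpecStalk x).base p ∈ Set.range (X.fromSpecStalk x).base := ⟨p, rfl⟩
      rw [Scheme.range_fromSpecStalk] at this
      exact this
    · intro h
      rw [fromSpecStalk_eq_iff] at h
      have hq : q ≤ IsLocalRing.closedPoint (X.presheaf.stalk x) :=
        (PrimeSpectrum.le_iff_specializes _ _).mpr (IsLocalRing.specializes_closedPoint q)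
      exact absurd (h ▸ hpq) (not_lt_of_ge hq)
  · rintro ⟨y, hy, hne⟩
    obtain ⟨p, rfl⟩ := exists_fromSpecStalk_eq X hy
    refine ⟨p, IsLocalRing.closedPoint (X.presheaf.stalk x), lt_of_le_of_ne ?_ ?_⟩
    · exact (PrimeSpectrum.le_iff_specializes _ _).mpr (IsLocalRing.specializes_closedPoint p)
    · intro h
      exact hne ((fromSpecStalk_eq_iff X x p).mpr h)

open AlgebraicGeometry CategoryTheory in
/-- The local ring at `x` has dimension at most one iff every generization of `x` which has a
proper generization is `x` itself. -/
theorem dim_stalk_le_one_iff (X : Scheme.{u}) (x : X) :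
    ringKrullDim (X.presheaf.stalk x) ≤ 1 ↔
      ∀ y0 y1 : X, y0 ⤳ y1 → y1 ⤳ x → y0 ≠ y1 → y1 = x := by
  rw [ringKrullDim, Order.krullDim_le_one_iff]
  constructor
  · intro h y0 y1 h01 h1x hne
    obtain ⟨p1, rfl⟩ := exists_fromSpecStalk_eq X h1x
    obtain ⟨p0, rfl⟩ := exists_fromSpecStalk_eq X (h01.trans h1x)
    rw [fromSpecStalk_specializes_iff] at h01
    rw [fromSpecStalk_eq_iff]
    rcases h p1 with hmin | hmax
    · exfalso
      have : p1 ≤ p0 := hmin h01
      exact hne (congrArg _ (le_antisymm h01 this))
    · have hle : p1 ≤ IsLocalRing.closedPoint (X.presheaf.stalk x) :=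
        (PrimeSpectrum.le_iff_specializes _ _).mpr (IsLocalRing.specializes_closedPoint p1)
      exact le_antisymm hle (hmax hle)
  · intro h p
    by_cases hmin : IsMin p
    · exact Or.inl hmin
    · right
      rw [not_isMin_iff] at hmin
      obtain ⟨p0, hp0⟩ := hmin
      have h1 : (X.fromSpecStalk x).base p0 ⤳ (X.fromSpecStalk x).base p :=
        (fromSpecStalk_specializes_iff X x p0 p).mpr hp0.le
      have h2 : (X.fromSpecStalk x).base p ⤳ x := by
        have : (X.fromSpecStalk x).base p ∈ Set.range (X.fromSpecStalk x).base := ⟨p, rfl⟩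
        rw [Scheme.range_fromSpecStalk] at this
        exact this
      have h3 : (X.fromSpecStalk x).base p0 ≠ (X.fromSpecStalk x).base p := by
        intro heq
        exact hp0.ne ((X.fromSpecStalk x).isEmbedding.injective heq)
      have := h _ _ h1 h2 h3
      rw [fromSpecStalk_eq_iff] at this
      rw [this]
      intro q hq
      exact (PrimeSpectrum.le_iff_specializes _ _).mpr (IsLocalRing.specializes_closedPoint q)

/-- In a quasi-sober space, an irreducible closed set which is not an irreducible component has a
generic point with a proper generization. -/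
theorem exists_proper_generization {X : Type u} [TopologicalSpace X] [QuasiSober X]
    {F : Set X} (hirr : IsIrreducible F) (hnot : F ∉ irreducibleComponents X)
    {η : X} (hη : IsGenericPoint η F) : ∃ ξ : X, ξ ⤳ η ∧ ξ ≠ η := by
  have : ∃ t, IsIrreducible t ∧ F ⊆ t ∧ ¬ t ⊆ F := by
    by_contra hcon
    push Not at hcon
    exact hnot ⟨hirr, fun t ht hFt => hcon t ht hFt⟩
  obtain ⟨t, ht, hFt, htF⟩ := this
  obtain ⟨ξ, hξ⟩ := QuasiSober.sober ht.closure isClosed_closure
  refine ⟨ξ, hξ.specializes (subset_closure (hFt hη.mem)), ?_⟩
  rintro rfl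
  apply htF
  rw [← hη.def, hξ.def]
  exact subset_closure

/-- The closure of a point with a proper generization is not an irreducible component. -/
theorem closure_not_mem_irreducibleComponents {X : Type u} [TopologicalSpace X] [T0Space X]
    {ξ η : X} (h : ξ ⤳ η) (hne : ξ ≠ η) :
    closure ({η} : Set X) ∉ irreducibleComponents X := by
  intro hmax
  have hsub : closure ({η} : Set X) ⊆ closure {ξ} :=
    closure_minimal (Set.singleton_subset_iff.mpr (specializes_iff_mem_closure.mp h))
      isClosed_closure
  have := hmax.2 (isIrreducible_singleton.closure) hsub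
  have hηξ : η ⤳ ξ := specializes_iff_mem_closure.mpr (this (subset_closure rfl))
  exact hne (h.antisymm hηξ).eq

open AlgebraicGeometry CategoryTheory in
/-- Let X be a scheme of finite type over a field k. Then the local ring of X at every closed point has
dimension one if and only if the irreducible closed subsets of X other than its irreducible
components are exactly the (singletons of) closed points of X — that is, every irreducible closed
subset which is not an irreducible component is a closed point, and no closed point is by itself an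
irreducible component. -/
theorem result (k : Type u) [Field k] (X : Scheme.{u})
    [X.Over (Spec (CommRingCat.of k))] [LocallyOfFiniteType (X ↘ (Spec (CommRingCat.of k)))]
    [QuasiCompact (X ↘ (Spec (CommRingCat.of k)))] :
    (∀ x : X, IsClosed ({x} : Set X) → ringKrullDim (X.presheaf.stalk x) = 1) ↔
      ((∀ F : Set X, IsClosed F → IsIrreducible F → F ∉ irreducibleComponents (X : Type u) →
          ∃ x : X, IsClosed ({x} : Set X) ∧ F = {x}) ∧
        ∀ x : X, IsClosed ({x} : Set X) → ({x} : Set X) ∉ irreducibleComponents (X : Type u)) := by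
  have : CompactSpace X :=
    QuasiCompact.compactSpace_of_compactSpace (X ↘ (Spec (CommRingCat.of k)))
  constructor
  · intro H
    refine ⟨fun F hFcl hFirr hFnot => ?_, fun x hx => ?_⟩
    · obtain ⟨η, hη⟩ := QuasiSober.sober hFirr hFcl
      obtain ⟨ξ, hξη, hne⟩ := exists_proper_generization hFirr hFnot hη
      obtain ⟨x, hxF, hxcl⟩ := hFcl.exists_closed_singleton hFirr.nonempty
      have hηx : η ⤳ x := hη.specializes hxF
      have hdim : ringKrullDim (X.presheaf.stalk x) ≤ 1 := (H x hxcl).le
      have hηeq : η = x := (dim_stalk_le_one_iff X x).mp hdim ξ η hξη hηx hne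
      refine ⟨x, hxcl, ?_⟩
      rw [← hη.def, hηeq, hxcl.closure_eq]
    · have hdim : 1 ≤ ringKrullDim (X.presheaf.stalk x) := (H x hx).ge
      obtain ⟨y, hy, hne⟩ := (one_le_dim_stalk_iff X x).mp hdim
      have := closure_not_mem_irreducibleComponents hy hne
      rwa [hx.closure_eq] at this
  · rintro ⟨Ha, Hb⟩ x hx
    apply le_antisymm
    · rw [dim_stalk_le_one_iff]
      intro y0 y1 h01 h1x hne
      have hnot := closure_not_mem_irreducibleComponents h01 hne
      obtain ⟨z, hz, hFz⟩ := Ha _ isClosed_closure isIrreducible_singleton.closure hnot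
      have h1 : y1 ∈ ({z} : Set X) := hFz ▸ subset_closure rfl
      have h2 : x ∈ ({z} : Set X) := hFz ▸ specializes_iff_mem_closure.mp h1x
      rw [Set.mem_singleton_iff] at h1 h2
      rw [h1, h2]
    · rw [one_le_dim_stalk_iff]
      have hgen : IsGenericPoint x ({x} : Set X) := hx.closure_eq
      obtain ⟨ξ, hξ, hne⟩ := exists_proper_generization isIrreducible_singleton (Hb x hx) hgen
      exact ⟨ξ, hξ, hne⟩

end Groth.Agent.S12129
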