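import Groth.Statements.S12132
import Groth.Agent.Lib.Helper26.Chi3


set_option autoImplicit false
universe u
open AssSch

namespace Groth.Agent.S12132


open Groth.Agent.Lib.helper26.HS Groth.Agent.Lib.helper26.Chi Pointwise

section aux
set_option linter.unusedSectionVars false

variable {B : Type u} [CommRing B] [IsNoetherianRing B] [IsLocalRing B] (t : B)

theorem one_le_cst (ht : t ∈ IsLocalRing.maximalIdeal B) (p : PrimeSpectrum B) : 1 ≤ cst t p := by
  rw [Order.one_le_iff_ne_zero]
  unfold cst
  rw [Ne, Module.length_eq_zero_iff, Submodule.Quotient.subsingleton_iff]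
  intro h
  have hle : p.asIdeal ⊔ Ideal.span {t} ≤ IsLocalRing.maximalIdeal B :=
    sup_le (IsLocalRing.le_maximalIdeal p.2.ne_top)
      ((Ideal.span_singleton_le_iff_mem _).2 ht)
  rw [h] at hle
  exact (IsLocalRing.maximalIdeal.isMaximal B).ne_top (top_le_iff.1 hle)

theorem cst_eq_one_iff (p : PrimeSpectrum B) :
    cst t p = 1 ↔ Ideal.map (Ideal.Quotient.mk p.asIdeal) (IsLocalRing.maximalIdeal B) =
      Ideal.span {Ideal.Quotient.mk p.asIdeal t} := by
  have hpm : p.asIdeal ≤ IsLocalRing.maximalIdeal B := IsLocalRing.le_maximalIdeal p.2.ne_top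
  have h1 : cst t p = 1 ↔ p.asIdeal ⊔ Ideal.span {t} = IsLocalRing.maximalIdeal B := by
    unfold cst
    rw [Module.length_eq_one_iff, isSimpleModule_iff_isCoatom, ← Ideal.isMaximal_def]
    constructor
    · intro h
      exact IsLocalRing.eq_maximalIdeal h
    · intro h
      rw [h]
      exact IsLocalRing.maximalIdeal.isMaximal B
  rw [h1]
  have hsurj : Function.Surjective (Ideal.Quotient.mk p.asIdeal) := Ideal.Quotient.mk_surjective
  constructor
  · intro h
    rw [← h, Ideal.map_sup, Ideal.map_span, Set.image_singleton, Ideal.map_quotient_self,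
      bot_sup_eq]
  · intro h
    have h2 := congrArg (Ideal.comap (Ideal.Quotient.mk p.asIdeal)) h
    rw [← Set.image_singleton, ← Ideal.map_span, Ideal.comap_map_of_surjective _ hsurj,
      Ideal.comap_map_of_surjective _ hsurj, ← RingHom.ker_eq_comap_bot, Ideal.mk_ker,
      sup_eq_left.2 hpm] at h2
    rw [h2, sup_comm]

theorem length_K_eq_zero_iff {M : Type u} [AddCommGroup M] [Module B M] :
    Module.length B (K t M) = 0 ↔ IsSMulRegular M t := by
  rw [Module.length_eq_zero_iff, Submodule.subsingleton_iff_eq_bot, LinearMap.ker_eq_bot]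
  rfl

end aux

/-- Arithmetic core: `∑ l = k₀ + ∑ l * k` with `l, k ≥ 1` forces `k₀ = 0` and all `k = 1`. -/
theorem nat_core {T : Type*} [Fintype T] (l k : T → ℕ) (k₀ : ℕ) (hl : ∀ j, 1 ≤ l j)
    (hk : ∀ j, 1 ≤ k j) (h : ∑ j, l j = k₀ + ∑ j, l j * k j) : k₀ = 0 ∧ ∀ j, k j = 1 := by
  have hle : ∀ j ∈ Finset.univ, l j ≤ l j * k j := fun j _ => Nat.le_mul_of_pos_right _ (hk j)
  have hsum : ∑ j, l j ≤ ∑ j, l j * k j := Finset.sum_le_sum hle
  have h0 : k₀ = 0 := by omega
  refine ⟨h0, fun j => ?_⟩
  have heq : ∑ j, l j = ∑ j, l j * k j := by omega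
  have := (Finset.sum_eq_sum_iff_of_le hle).1 heq j (Finset.mem_univ j)
  have hlj := hl j
  have : l j * 1 = l j * k j := by rw [mul_one]; exact this
  exact (Nat.eq_of_mul_eq_mul_left (by omega) this).symm


/-- Let B be a Noetherian local ring (the local ring of X at the generic point z of an irreducible
component Z of the support of F/tF), t an element of its maximal ideal, and M a finite B-module (the
stalk F_z) such that the support of M has positive dimension (Z is not an irreducible component of
Supp F) and M/tM has finite length (z is a maximal point of Supp(F/tF)). Then the length of M/tM is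
at least the sum, over the primes p of B minimal over the annihilator of M (the generic points of
the irreducible components of Supp F through z), of the lengths of the B_p-modules M_p; and the two
are equal if and only if t is a non-zero-divisor on M and for every such p the image of t generates
the maximal ideal of B/p (so that B/p is a discrete valuation ring with uniformizer t). -/
theorem result {B : Type u} [CommRing B] [IsNoetherianRing B]
    [IsLocalRing B] (t : B) (ht : t ∈ IsLocalRing.maximalIdeal B)
    (M : Type u) [AddCommGroup M] [Module B M] [Module.Finite B M]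
    (hdim : 0 < Module.supportDim B M)
    (hfin : Module.length B (M ⧸ (Ideal.span {t} • (⊤ : Submodule B M))) ≠ ⊤) :
    (∑ᶠ p : (Module.annihilator B M).minimalPrimes,
        haveI : p.1.IsPrime := p.2.1.1
        Module.length (Localization.AtPrime p.1) (LocalizedModule p.1.primeCompl M)) ≤
      Module.length B (M ⧸ (Ideal.span {t} • (⊤ : Submodule B M))) ∧
    ((∑ᶠ p : (Module.annihilator B M).minimalPrimes,
        haveI : p.1.IsPrime := p.2.1.1
        Module.length (Localization.AtPrime p.1) (LocalizedModule p.1.primeCompl M)) =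
      Module.length B (M ⧸ (Ideal.span {t} • (⊤ : Submodule B M))) ↔
    IsSMulRegular M t ∧
      ∀ p : (Module.annihilator B M).minimalPrimes,
        Ideal.map (Ideal.Quotient.mk p.1) (IsLocalRing.maximalIdeal B) =
          Ideal.span {Ideal.Quotient.mk p.1 t}) := by
  classical
  have hFL : FL t M := by
    rw [fl_iff]
    unfold C
    rwa [range_lsmul_eq_span_smul_top]
  have hmain := main t ht M inferInstance hFL
  have h1 : Module.length B (M ⧸ (Ideal.span {t} • (⊤ : Submodule B M))) =
      Module.length B (C t M) := by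
    unfold C
    rw [range_lsmul_eq_span_smul_top]
  have hfinT : (Module.annihilator B M).minimalPrimes.Finite :=
    Ideal.finite_minimalPrimes_of_isNoetherianRing B _
  have : Fintype (Module.annihilator B M).minimalPrimes := hfinT.fintype
  let ι : (Module.annihilator B M).minimalPrimes → PrimeSpectrum B := fun j => ⟨j.1, j.2.1.1⟩
  have hι : Function.Injective ι := by
    intro j j' h
    apply Subtype.ext
    exact congrArg PrimeSpectrum.asIdeal h
  have hsupp : ∀ j, ι j ∈ Module.support B M := fun j =>
    Module.mem_support_iff_of_finite.mpr j.2.1.2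
  -- (F2)
  have hF2 : ∀ j, t ∉ (ι j).asIdeal := by
    intro j htj
    have hmax := hFL (ι j) (hsupp j) htj
    have hjm : (ι j).asIdeal = IsLocalRing.maximalIdeal B := IsLocalRing.eq_maximalIdeal hmax
    have h0 : Module.supportDim B M ≤ 0 := by
      unfold Module.supportDim
      rw [Order.krullDim_nonpos_iff_forall_isMax]
      intro x y hxy
      have hx : x.1.asIdeal = IsLocalRing.maximalIdeal B := by
        refine le_antisymm (IsLocalRing.le_maximalIdeal x.1.2.ne_top) ?_
        rw [← hjm]
        have hxj : x.1.asIdeal ≤ (ι j).asIdeal := by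
          rw [hjm]
          exact IsLocalRing.le_maximalIdeal x.1.2.ne_top
        exact j.2.2 ⟨x.1.2, Module.mem_support_iff_of_finite.mp x.2⟩ hxj
      show y.1.asIdeal ≤ x.1.asIdeal
      rw [hx]
      exact IsLocalRing.le_maximalIdeal y.1.2.ne_top
    exact absurd hdim (not_lt.2 h0)
  -- (F3)
  have hL0 : ∀ j, locLen M (ι j) ≠ 0 := fun j h => (locLen_eq_zero_iff.1 h) (hsupp j)
  have hLtop : ∀ j, locLen M (ι j) ≠ ⊤ := fun j => hFL.locLen_ne_top t ht (hF2 j)
  -- (F4)
  have hsig : sig t M = ∑ j, locLen M (ι j) * cst t (ι j) := by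
    unfold sig
    have hfun : (fun P : PrimeSpectrum B => if t ∉ P.asIdeal then locLen M P * cst t P else 0) =
        Set.indicator (Set.range ι) (fun P => locLen M P * cst t P) := by
      funext P
      by_cases hP : P ∈ Set.range ι
      · rw [Set.indicator_of_mem hP]
        obtain ⟨j, rfl⟩ := hP
        rw [if_pos (hF2 j)]
      · rw [Set.indicator_of_notMem hP]
        by_cases htP : t ∉ P.asIdeal
        · rw [if_pos htP]
          have : locLen M P = 0 := by
            rw [locLen_eq_zero_iff]
            intro hPs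
            apply hP
            obtain ⟨r, hrm, hr⟩ :=
              Ideal.exists_minimalPrimes_le (Module.mem_support_iff_of_finite.mp hPs)
            have hrs : (⟨r, hrm.1.1⟩ : PrimeSpectrum B) ∈ Module.support B M :=
              Module.mem_support_iff_of_finite.mpr hrm.1.2
            have := hFL.eq_of_le t ht hrs htP hr
            exact ⟨⟨r, hrm⟩, this⟩
          rw [this, zero_mul]
        · rw [if_neg htP]
    rw [hfun, ← finsum_mem_def, finsum_mem_range hι, finsum_eq_sum_of_fintype]
  -- (F5)
  have hLHS : (∑ᶠ p : (Module.annihilator B M).minimalPrimes,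
        haveI : p.1.IsPrime := p.2.1.1
        Module.length (Localization.AtPrime p.1) (LocalizedModule p.1.primeCompl M)) =
      ∑ j, locLen M (ι j) := by
    rw [finsum_eq_sum_of_fintype]
    rfl
  rw [hLHS, h1, hmain, hsig]
  have hterm : ∀ j ∈ Finset.univ, locLen M (ι j) ≤ locLen M (ι j) * cst t (ι j) := by
    intro j _
    calc locLen M (ι j) = locLen M (ι j) * 1 := (mul_one _).symm
      _ ≤ locLen M (ι j) * cst t (ι j) := by gcongr; exact one_le_cst t ht (ι j)
  have hpart1 : ∑ j, locLen M (ι j) ≤
      Module.length B (K t M) + ∑ j, locLen M (ι j) * cst t (ι j) :=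
    (Finset.sum_le_sum hterm).trans le_add_self
  refine ⟨hpart1, ?_⟩
  -- finiteness of everything
  have hCtop : Module.length B (K t M) + ∑ j, locLen M (ι j) * cst t (ι j) ≠ ⊤ := by
    rw [← hsig, ← hmain, ← h1]
    exact hfin
  have hKtop : Module.length B (K t M) ≠ ⊤ := fun h => hCtop (by rw [h, top_add])
  have hStop : ∑ j, locLen M (ι j) * cst t (ι j) ≠ ⊤ := fun h => hCtop (by rw [h, add_top])
  have hctop : ∀ j, cst t (ι j) ≠ ⊤ := by
    intro j hj
    apply hStop
    apply top_le_iff.1
    calc (⊤ : ℕ∞) = locLen M (ι j) * ⊤ := (ENat.mul_top (hL0 j)).symm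
      _ = locLen M (ι j) * cst t (ι j) := by rw [hj]
      _ ≤ ∑ j, locLen M (ι j) * cst t (ι j) :=
        Finset.single_le_sum (f := fun j => locLen M (ι j) * cst t (ι j))
          (fun _ _ => zero_le) (Finset.mem_univ j)
  constructor
  · intro heq
    -- move to ℕ
    have hl : ∀ j, ((locLen M (ι j)).toNat : ℕ∞) = locLen M (ι j) :=
      fun j => ENat.natCast_toNat (hLtop j)
    have hk : ∀ j, ((cst t (ι j)).toNat : ℕ∞) = cst t (ι j) := fun j => ENat.natCast_toNat (hctop j)
    have hk0 : ((Module.length B (K t M)).toNat : ℕ∞) = Module.length B (K t M) :=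
      ENat.natCast_toNat hKtop
    have heqN : ∑ j, (locLen M (ι j)).toNat =
        (Module.length B (K t M)).toNat + ∑ j, (locLen M (ι j)).toNat * (cst t (ι j)).toNat := by
      have : ((∑ j, (locLen M (ι j)).toNat : ℕ) : ℕ∞) =
          (((Module.length B (K t M)).toNat +
            ∑ j, (locLen M (ι j)).toNat * (cst t (ι j)).toNat : ℕ) : ℕ∞) := by
        push_cast
        simp only [hl, hk, hk0]
        exact heq
      exact_mod_cast this
    have hl1 : ∀ j, 1 ≤ (locLen M (ι j)).toNat := by
      intro j
      have : (1 : ℕ∞) ≤ ((locLen M (ι j)).toNat : ℕ∞) := by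
        rw [hl j, Order.one_le_iff_ne_zero]
        exact hL0 j
      exact_mod_cast this
    have hk1 : ∀ j, 1 ≤ (cst t (ι j)).toNat := by
      intro j
      have : (1 : ℕ∞) ≤ ((cst t (ι j)).toNat : ℕ∞) := by
        rw [hk j]
        exact one_le_cst t ht (ι j)
      exact_mod_cast this
    obtain ⟨hz, hone⟩ := nat_core _ _ _ hl1 hk1 heqN
    constructor
    · rw [← length_K_eq_zero_iff, ← hk0, hz]
      rfl
    · intro j
      have : cst t (ι j) = 1 := by
        rw [← hk j, hone j]
        rfl
      exact (cst_eq_one_iff t (ι j)).1 this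
  · rintro ⟨hreg, hall⟩
    rw [(length_K_eq_zero_iff t).2 hreg, zero_add]
    refine Finset.sum_congr rfl (fun j _ => ?_)
    rw [(cst_eq_one_iff t (ι j)).2 (hall j), mul_one]


end Groth.Agent.S12132
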