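import Groth.Statements.S12133
import Groth.Agent.Lib.Helper12.GradedVeronese

set_option autoImplicit false
universe u
open EGA2

namespace Groth.Agent.S12133


open CategoryTheory AlgebraicGeometry Opposite in
theorem key {Y : Scheme.{u}} (𝒮 : RelProj.QCGrAlg Y) (V : Y.Opens) (hV : IsAffineOpen V)
    (hft : (𝒮.str.app (op V)).hom.FiniteType) :
    ∃ (s : Finset (𝒮.presheaf.obj (op V))) (dx : s → ℕ),
      Algebra.adjoin (𝒮.deg V hV 0) (Set.range (Subtype.val : s → 𝒮.presheaf.obj (op V))) = ⊤ ∧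
      (∀ x : s, (x : 𝒮.presheaf.obj (op V)) ∈ 𝒮.deg V hV (dx x)) ∧ ∀ x : s, 0 < dx x := by
  classical
  letI : Algebra Γ(Y, V) (𝒮.presheaf.obj (op V)) := (𝒮.str.app (op V)).hom.toAlgebra
  letI : Algebra Γ(Y, V) (𝒮.deg V hV 0) := (𝒮.strZero V hV).hom.toAlgebra
  haveI : IsScalarTower Γ(Y, V) (𝒮.deg V hV 0) (𝒮.presheaf.obj (op V)) :=
    IsScalarTower.of_algebraMap_eq (fun r => rfl)
  haveI : Algebra.FiniteType Γ(Y, V) (𝒮.presheaf.obj (op V)) := hft
  haveI : Algebra.FiniteType (𝒮.deg V hV 0) (𝒮.presheaf.obj (op V)) :=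
    Algebra.FiniteType.of_restrictScalars_finiteType Γ(Y, V) (𝒮.deg V hV 0) (𝒮.presheaf.obj (op V))
  obtain ⟨s, hs, hs'⟩ :=
    GradedAlgebra.exists_finset_adjoin_eq_top_and_homogeneous_ne_zero (𝒮.deg V hV)
  choose dx hdx hxd using Subtype.forall'.mp hs'
  exact ⟨s, dx, by simpa using hs, hxd, fun x => Nat.pos_of_ne_zero (hdx x)⟩

open CategoryTheory AlgebraicGeometry Opposite in
/-- Let Y be a scheme, 𝒮 a quasi-coherent positively graded O_Y-algebra, and (U_i) a finite cover of Y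
by affine open sets such that each graded ring 𝒮(U_i) is an algebra of finite type over O_Y(U_i).
Then there is an integer d > 0 such that for every i: 𝒮(U_i)_{nd} = (𝒮(U_i)_d)^n for all n > 0 (as
additive subgroups of the ring 𝒮(U_i); that is, 𝒮^{(d)} is generated by 𝒮_d), and 𝒮(U_i)_d is a
finitely generated module over the degree-zero subring 𝒮(U_i)_0. (The published statement says 𝒮_d
is an O_Y-module of finite type; its proof gives finite generation over 𝒮_0, which is what is stated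
here — for 𝒮 = O_Y[x][T] with x of degree 0 and T of degree 1 over an affine Y, 𝒮 is of finite type
but 𝒮_1 = O_Y[x] T is not a finitely generated O_Y-module.) -/
theorem result {Y : Scheme.{u}} (𝒮 : RelProj.QCGrAlg Y)
    {ι : Type u} [Finite ι] (U : ι → Y.Opens) (hU : ∀ i, IsAffineOpen (U i)) (hcov : ⨆ i, U i = ⊤)
    (hft : ∀ i, (𝒮.str.app (op (U i))).hom.FiniteType) :
    ∃ d : ℕ, 0 < d ∧ ∀ i,
      (∀ n : ℕ, 0 < n →
        AddSubgroup.toIntSubmodule (𝒮.deg (U i) (hU i) (n * d)) =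
          AddSubgroup.toIntSubmodule (𝒮.deg (U i) (hU i) d) ^ n) ∧
      ∃ T : Finset (𝒮.presheaf.obj (op (U i))),
        (↑T : Set (𝒮.presheaf.obj (op (U i)))) ⊆ (𝒮.deg (U i) (hU i) d : Set (𝒮.presheaf.obj (op (U i)))) ∧
        AddSubgroup.toIntSubmodule (𝒮.deg (U i) (hU i) d) =
          AddSubgroup.toIntSubmodule (𝒮.deg (U i) (hU i) 0) *
            Submodule.span ℤ (↑T : Set (𝒮.presheaf.obj (op (U i)))) := by
  classical
  choose s dx hadj hmem hpos using fun i => key 𝒮 (U i) (hU i) (hft i)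
  haveI := Fintype.ofFinite ι
  let q : ℕ := ∏ i, ∏ x : s i, dx i x
  let m : ℕ := ∑ i, Fintype.card (s i) + 1
  have hq : 0 < q := Finset.prod_pos fun i _ => Finset.prod_pos fun x _ => hpos i x
  have hdiv : ∀ i (x : s i), dx i x ∣ q := fun i x =>
    (Finset.dvd_prod_of_mem (fun x : s i => dx i x) (Finset.mem_univ x)).trans
      (Finset.dvd_prod_of_mem (fun i => ∏ x : s i, dx i x) (Finset.mem_univ i))
  have hm : ∀ i, Fintype.card (s i) < m := fun i => by
    have : Fintype.card (s i) ≤ ∑ i, Fintype.card (s i) :=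
      Finset.single_le_sum (f := fun i => Fintype.card (s i)) (fun _ _ => Nat.zero_le _)
        (Finset.mem_univ i)
    omega
  refine ⟨m * q, Nat.mul_pos (by omega) hq, fun i => ?_⟩
  exact Groth.Agent.Lib.helper12.GradedVeronese.veronese (𝒮.deg (U i) (hU i))
    (Subtype.val : s i → 𝒮.presheaf.obj (op (U i))) (dx i) (hadj i) (hmem i) (hpos i) q hq
    (hdiv i) m (hm i)

end Groth.Agent.S12133
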