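import Groth.Statements.S12135
import Groth.Agent.Lib.Helper9.SpectralQC
import Mathlib.AlgebraicGeometry.Properties

set_option autoImplicit false
universe u
open EGA41

namespace Groth.Agent.S12135

open AlgebraicGeometry Topology in
/-- Let f : X → Y be a morphism of schemes with X and Y quasi-separated, and let X^cons, Y^cons denote
the underlying sets with the constructible topology (generated by the quasi-compact open subsets and
their complements; for quasi-separated schemes the open sets are exactly the ind-constructible
subsets). Then f is quasi-compact if and only if the map X^cons → Y^cons underlying f is proper
(continuous and universally closed). (The published statement is for arbitrary schemes with the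
ind-constructible topology; this row covers the quasi-separated case, where that topology is the one
used here.) -/
theorem result {X Y : Scheme.{u}} [QuasiSeparatedSpace X]
    [QuasiSeparatedSpace Y] (f : X ⟶ Y) :
    QuasiCompact f ↔ @IsProperMap X Y (constructibleTopology X) (constructibleTopology Y) f := by
  constructor
  · intro hf
    exact Groth.Agent.Lib.helper9.isProperMap_constructibleTopology_of_isCompact_preimage
      f.continuous hf.isCompact_preimage
  · intro hf
    exact ⟨fun V hVo hVc =>
      Groth.Agent.Lib.helper9.isCompact_preimage_of_isProperMap_constructibleTopology hf hVo hVc⟩

end Groth.Agent.S12135
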