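import Groth.Statements.S12138
import Groth.Agent.Lib.Helper11.CechBC
import Groth.Agent.Lib.Helper11.GCM6
import Groth.Agent.Lib.Helper11.NegCxRows
import Groth.Agent.S12120

set_option autoImplicit false
universe u
attribute [local instance] HasDerivedCategory.standard
open Coherent

namespace Groth.Agent.S12138

open AlgebraicGeometry CategoryTheory in
/-- For a complex reduced to one sheaf and affine bases. Let A be a Noetherian ring, X a proper A-scheme
with structure morphism f, F a coherent O_X-module flat over Spec A, and T^p(M) = H^p(X, f^*(M~) ⊗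
F) for A-modules M. Let A' be any commutative A-algebra, X' an A'-scheme with a morphism g' : X' → X
making X' the fibre product X ×_{Spec A} Spec A', F' = g'^* F, and T'^p(M') = H^p(X', f'^*(M'~) ⊗
F') for A'-modules M'. If T^p takes surjections to surjections (resp. injections to injections),
then T'^p does the same. (The converse when Spec A' → Spec A is faithfully flat is a separate
statement; the published statement is for an arbitrary base change of schemes and reduces to this
affine case.) -/
theorem result (A A' : Type u) [CommRing A] [IsNoetherianRing A]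
    [CommRing A'] [Algebra A A'] (X X' : Scheme.{u}) [X.Over (Spec (CommRingCat.of A))]
    [X'.Over (Spec (CommRingCat.of A'))] [IsProper (X ↘ Spec (CommRingCat.of A))] (g' : X' ⟶ X)
    (hsq : IsPullback g' (X' ↘ Spec (CommRingCat.of A')) (X ↘ Spec (CommRingCat.of A))
      (Spec.map (CommRingCat.ofHom (algebraMap A A'))))
    (F : X.Modules) (hF : Coh.IsCoh F) (hfl : FlatMod.IsFlatOver (X ↘ Spec (CommRingCat.of A)) F) (p : ℕ) :
    ((CohIII.tensorAFunctor A F ⋙ CohIII.HAb X p).PreservesEpimorphisms →
        (CohIII.tensorAFunctor A' ((Scheme.Modules.pullback g').obj F) ⋙ CohIII.HAb X' p).PreservesEpimorphisms) ∧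
      ((CohIII.tensorAFunctor A F ⋙ CohIII.HAb X p).PreservesMonomorphisms →
        (CohIII.tensorAFunctor A' ((Scheme.Modules.pullback g').obj F) ⋙ CohIII.HAb X' p).PreservesMonomorphisms) := by
  classical
  have hFq : F.IsQuasicoherent := hF.1
  have : CompactSpace X :=
    QuasiCompact.compactSpace_of_compactSpace (X ↘ Spec (CommRingCat.of A))
  have hd := Groth.Agent.Lib.helper21.GCCech.affine_inf_of_isSeparated (X ↘ Spec (CommRingCat.of A))
  obtain ⟨ι, hfin, U, hUa, hcov⟩ := Groth.Agent.Lib.helper21.GCCech.exists_finite_affine_cover X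
  have hU : ∀ (n : ℕ) (a : Fin (n + 1) → ι), IsAffineOpen (∏ᶜ (U ∘ a) : X.Opens) :=
    fun n a => Groth.Agent.Lib.Lead.CechLoc.isAffineOpen_prod U
      (Groth.Agent.Lib.helper21.GCCech.isAffineOpen_biInf hd U hUa) n a
  have hFq' : ((Scheme.Modules.pullback g').obj F).IsQuasicoherent :=
    Groth.Agent.Lib.helper21.GCCech.qcoh_pull (X ↘ Spec (CommRingCat.of A))
      (X' ↘ Spec (CommRingCat.of A')) g' hsq F
  have hU' : ∀ (n : ℕ) (a : Fin (n + 1) → ι),
      IsAffineOpen (∏ᶜ (Groth.Agent.Lib.helper11.CechPush.preU g' U ∘ a) : X'.Opens) := by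
    intro n a
    have : IsAffineHom g' := Groth.Agent.Lib.helper21.GCCech.isAffineHom_g'
      (X ↘ Spec (CommRingCat.of A)) (X' ↘ Spec (CommRingCat.of A')) g' hsq
    rw [← Groth.Agent.Lib.helper11.CechPush.preimage_prod]
    exact (hU n a).preimage g'
  have hcov' : iSup (Groth.Agent.Lib.helper11.CechPush.preU g' U) = ⊤ := by
    rw [← Scheme.Hom.preimage_iSup, hcov]
    rfl
  have hKfl := Groth.Agent.Lib.helper21.GCCech.flat_cechMod (X ↘ Spec (CommRingCat.of A)) F U hfl hU
  have Φ := Groth.Agent.Lib.helper11.GCM.cechNatIso A F U hU hcov p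
  have Φ' := Groth.Agent.Lib.helper11.GCM.cechNatIso A' ((Scheme.Modules.pullback g').obj F)
    (Groth.Agent.Lib.helper11.CechPush.preU g' U) hU' hcov' p
  have Ψ := Groth.Agent.Lib.helper11.CechBC.cechModBCIso (X ↘ Spec (CommRingCat.of A))
    (X' ↘ Spec (CommRingCat.of A')) g' hsq F U hU
  have Θ := Groth.Agent.Lib.helper11.GCM.TFunIsoOfQuasiIso Ψ.hom (fun M => by
    have : IsIso (((MonoidalCategory.tensorRight M).mapHomologicalComplex
        (ComplexShape.up ℤ)).map Ψ.hom) := Functor.map_isIso _ _
    exact quasiIso_of_isIso _) (p : ℤ)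
  have hneg : ∀ i, Module.Flat A ((Groth.Agent.Lib.helper11.NegCx.neg
      (Groth.Agent.Lib.helper21.GCCech.cechMod (X ↘ Spec (CommRingCat.of A)) F U)).X i) :=
    fun i => hKfl (-i)
  obtain ⟨hE, hMo⟩ := Groth.Agent.S12120.result _ hneg A' (-(p : ℤ))
  have N1 := Groth.Agent.Lib.helper11.NegCx.TFunIso'
    (Groth.Agent.Lib.helper21.GCCech.cechMod (X ↘ Spec (CommRingCat.of A)) F U) (p : ℤ)
  have N2 := Groth.Agent.Lib.helper11.NegCx.TFunIso'
    (CohIII.bcCx (algebraMap A A')
      (Groth.Agent.Lib.helper21.GCCech.cechMod (X ↘ Spec (CommRingCat.of A)) F U)) (p : ℤ)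
  constructor
  · intro h0
    have h1 : (CohIII.TFun (Groth.Agent.Lib.helper21.GCCech.cechMod
        (X ↘ Spec (CommRingCat.of A)) F U) (p : ℤ) ⋙
        forget₂ (ModuleCat.{u} A) AddCommGrpCat.{u}).PreservesEpimorphisms :=
      Functor.PreservesEpimorphisms.of_iso Φ.symm
    have h2 := Functor.preservesEpimorphisms_of_preserves_of_reflects
      (CohIII.TFun (Groth.Agent.Lib.helper21.GCCech.cechMod
        (X ↘ Spec (CommRingCat.of A)) F U) (p : ℤ)) (forget₂ (ModuleCat.{u} A) AddCommGrpCat.{u})
    have h3 := Functor.PreservesEpimorphisms.of_iso N1.symm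
    have h4 := hE h3
    rw [Groth.Agent.Lib.helper11.NegCx.bcCx_neg] at h4
    have h5 := Functor.PreservesEpimorphisms.of_iso N2
    have h6 := Functor.PreservesEpimorphisms.of_iso Θ
    have h7 : (CohIII.TFun (Groth.Agent.Lib.helper21.GCCech.cechMod
        (X' ↘ Spec (CommRingCat.of A')) ((Scheme.Modules.pullback g').obj F)
        (Groth.Agent.Lib.helper11.CechPush.preU g' U)) (p : ℤ) ⋙
        forget₂ (ModuleCat.{u} A') AddCommGrpCat.{u}).PreservesEpimorphisms := inferInstance
    exact Functor.PreservesEpimorphisms.of_iso Φ'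
  · intro h0
    have h1 : (CohIII.TFun (Groth.Agent.Lib.helper21.GCCech.cechMod
        (X ↘ Spec (CommRingCat.of A)) F U) (p : ℤ) ⋙
        forget₂ (ModuleCat.{u} A) AddCommGrpCat.{u}).PreservesMonomorphisms :=
      Functor.PreservesMonomorphisms.of_iso Φ.symm
    have h2 := Functor.preservesMonomorphisms_of_preserves_of_reflects
      (CohIII.TFun (Groth.Agent.Lib.helper21.GCCech.cechMod
        (X ↘ Spec (CommRingCat.of A)) F U) (p : ℤ)) (forget₂ (ModuleCat.{u} A) AddCommGrpCat.{u})
    have h3 := Functor.PreservesMonomorphisms.of_iso N1.symm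
    have h4 := hMo h3
    rw [Groth.Agent.Lib.helper11.NegCx.bcCx_neg] at h4
    have h5 := Functor.PreservesMonomorphisms.of_iso N2
    have h6 := Functor.PreservesMonomorphisms.of_iso Θ
    have h7 : (CohIII.TFun (Groth.Agent.Lib.helper21.GCCech.cechMod
        (X' ↘ Spec (CommRingCat.of A')) ((Scheme.Modules.pullback g').obj F)
        (Groth.Agent.Lib.helper11.CechPush.preU g' U)) (p : ℤ) ⋙
        forget₂ (ModuleCat.{u} A') AddCommGrpCat.{u}).PreservesMonomorphisms := inferInstance
    exact Functor.PreservesMonomorphisms.of_iso Φ'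

end Groth.Agent.S12138
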