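import Groth.Statements.S1214
import Mathlib

set_option autoImplicit false
universe u
open FlatMor

namespace Groth.Agent.S1214

open TensorProduct

section
variable {R S : Type u} [CommRing R] [CommRing S] [Algebra R S] (I : Ideal R)
    (N : Type u) [AddCommGroup N] [Module S N] [Module R N] [IsScalarTower R S N]

theorem smul_mem_of_mem_map (k : ℕ) (s : S) (hs : s ∈ (I ^ k).map (algebraMap R S)) (n : N) :
    s • n ∈ (I ^ k • ⊤ : Submodule R N) := by
  revert n
  refine Submodule.span_induction (p := fun s _ => ∀ n : N, s • n ∈ (I ^ k • ⊤ : Submodule R N))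
    ?_ ?_ ?_ ?_ hs
  · rintro _ ⟨r, hr, rfl⟩ n
    rw [algebraMap_smul]
    exact Submodule.smul_mem_smul hr trivial
  · intro n; rw [zero_smul]; exact Submodule.zero_mem _
  · intro x y _ _ hx hy n
    rw [add_smul]; exact Submodule.add_mem _ (hx n) (hy n)
  · intro t x _ hx n
    rw [smul_eq_mul, mul_comm, mul_smul]
    exact hx _

theorem smul_mem_smul_top (k : ℕ) (s : S) (x : N) (hx : x ∈ (I ^ k • ⊤ : Submodule R N)) :
    s • x ∈ (I ^ k • ⊤ : Submodule R N) := by
  refine Submodule.smul_induction_on hx ?_ ?_
  · intro r hr y _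
    rw [smul_comm]
    exact Submodule.smul_mem_smul hr trivial
  · intro x y hx hy
    rw [smul_add]; exact Submodule.add_mem _ hx hy

theorem pow_smul_mem (b : S) (hb : b ∈ I.map (algebraMap R S)) (k : ℕ) (n : N) :
    b ^ k • n ∈ (I ^ k • ⊤ : Submodule R N) := by
  apply smul_mem_of_mem_map
  rw [Ideal.map_pow]
  exact Ideal.pow_mem_pow hb k

variable [IsAdicComplete I N]

theorem one_sub_smul_injective (b : S) (hb : b ∈ I.map (algebraMap R S)) (x : N)
    (hx : (1 - b) • x = 0) : x = 0 := by
  have h1 : b • x = x := by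
    rw [sub_smul, one_smul, sub_eq_zero] at hx
    exact hx.symm
  have h2 : ∀ k : ℕ, b ^ k • x = x := by
    intro k
    induction k with
    | zero => simp
    | succ k ih => rw [pow_succ, mul_smul, h1, ih]
  apply IsHausdorff.haus (I := I) inferInstance
  intro k
  rw [SModEq.sub_mem, sub_zero, ← h2 k]
  exact pow_smul_mem I N b hb k x

theorem one_sub_smul_surjective (b : S) (hb : b ∈ I.map (algebraMap R S)) (n : N) :
    ∃ L : N, (1 - b) • L = n := by
  set s : ℕ → N := fun k => (∑ j ∈ Finset.range k, b ^ j) • n with hs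
  have hcauchy : ∀ {m k : ℕ}, m ≤ k → s m ≡ s k [SMOD (I ^ m • ⊤ : Submodule R N)] := by
    intro m k hmk
    rw [SModEq.comm, SModEq.sub_mem] -- s k - s m
    have : s k - s m = ∑ j ∈ Finset.Ico m k, b ^ j • n := by
      simp only [hs]
      rw [← sub_smul, ← Finset.sum_Ico_eq_sub _ hmk, Finset.sum_smul]
    rw [this]
    apply Submodule.sum_mem
    intro j hj
    exact Submodule.smul_mono_left (Ideal.pow_le_pow_right (Finset.mem_Ico.mp hj).1)
      (pow_smul_mem I N b hb j n)
  obtain ⟨L, hL⟩ := IsPrecomplete.prec (I := I) inferInstance hcauchy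
  refine ⟨L, ?_⟩
  rw [← sub_eq_zero]
  apply IsHausdorff.haus (I := I) inferInstance
  intro k
  rw [SModEq.sub_mem, sub_zero]
  have h1 : (1 - b) • s k = n - b ^ k • n := by
    simp only [hs]
    rw [← mul_smul, mul_comm, geom_sum_mul_neg, sub_smul, one_smul]
  have h2 : (1 - b) • L - n = (1 - b) • (L - s k) - b ^ k • n := by
    rw [smul_sub, h1]; abel
  rw [h2]
  apply Submodule.sub_mem
  · apply smul_mem_smul_top
    have := hL k
    rw [SModEq.comm, SModEq.sub_mem] at this
    exact this
  · exact pow_smul_mem I N b hb k n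

end

open TensorProduct in
/-- Let R → S be a ring map, I an ideal of R and N an S-module which is I-adically complete. Then for
every R-module M and every prime q of S which is the annihilator of an element of the S-module N ⊗_R
M we have q + IS ≠ S. -/
theorem result {R S : Type u} [CommRing R] [CommRing S] [Algebra R S] (I : Ideal R)
    (N : Type u) [AddCommGroup N] [Module S N] [Module R N] [IsScalarTower R S N] [IsAdicComplete I N]
    (M : Type u) [AddCommGroup M] [Module R M]
    (q : Ideal S) [q.IsPrime] (hq : q ∈ FlatCA.ass S (N ⊗[R] M)) :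
    q ⊔ I.map (algebraMap R S) ≠ ⊤ := by
  intro htop
  obtain ⟨hprime, z, hz⟩ := hq
  have h1 : (1 : S) ∈ q ⊔ I.map (algebraMap R S) := by rw [htop]; trivial
  obtain ⟨a, ha, b, hb, hab⟩ := Submodule.mem_sup.mp h1
  have haz : a • z = 0 := by
    rw [hz] at ha
    exact (Submodule.mem_annihilator_span_singleton _ _).mp ha
  have ha' : a = 1 - b := by rw [← hab]; ring
  let f : N →ₗ[R] N :=
    { toFun := fun n => (1 - b) • n
      map_add' := fun x y => smul_add _ _ _
      map_smul' := fun r x => smul_comm _ _ _ }
  have hf : Function.Bijective f :=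
    ⟨fun x y hxy => by
      have : (1 - b) • (x - y) = 0 := by
        rw [smul_sub, sub_eq_zero]; exact hxy
      exact sub_eq_zero.mp (one_sub_smul_injective I N b hb _ this),
     fun n => one_sub_smul_surjective I N b hb n⟩
  let e : N ≃ₗ[R] N := LinearEquiv.ofBijective f hf
  have hrt : ∀ w : N ⊗[R] M, (1 - b) • w = LinearEquiv.rTensor M e w := by
    intro w
    induction w using TensorProduct.induction_on with
    | zero => simp
    | tmul x y => rw [TensorProduct.smul_tmul']; rfl
    | add x y hx hy => rw [smul_add, hx, hy, map_add]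
  have hz0 : z = 0 := by
    apply (LinearEquiv.rTensor M e).injective
    rw [← hrt, ← ha', haz, map_zero]
  rw [hz0] at hz
  have : q = ⊤ := by
    rw [hz]
    simp [Submodule.annihilator_bot]
  exact hprime.ne_top this

end Groth.Agent.S1214
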