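import Groth.Statements.S12147
-- import your own Groth.Agent.* helpers here

set_option autoImplicit false
set_option backward.isDefEq.respectTransparency false
universe u
open CategoryTheory CategoryTheory.Limits AlgebraicGeometry TopologicalSpace Opposite
open scoped HomogeneousIdeal
noncomputable section
open EGA2

namespace Groth.Agent.S12147


theorem aux {Y X : Scheme.{u}} (q : X ⟶ Y) (𝒮 : RelProj.QCGrAlg Y) (𝒮L : RelProj.QCGrAlg X)
    (u : RelProj.QGrHom q 𝒮 𝒮L) (𝒯 : RelProj.QCGrAlg Y) (v : 𝒯.toQCAlg ⟶ 𝒮.toQCAlg) (hv : RelProj.IsGradedHom v)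
    (u' : RelProj.QGrHom q 𝒯 𝒮L) (hu' : ∀ U : Y.Opens, u'.app U = v.hom.app (op U) ≫ u.app U)
    (U : Y.Opens) (hU : IsAffineOpen U) (U' : X.Opens) (hU' : IsAffineOpen U') (hle : U' ≤ q ⁻¹ᵁ U)
    (y : Proj (𝒮L.deg U' hU')) (hy : y ∈ RelCone.domOpen (u'.gradedAt U hU U' hU' hle)) :
    y ∈ RelCone.domOpen (u.gradedAt U hU U' hU' hle) := by
  classical
  obtain ⟨f, hf, hfy⟩ := (RelCone.mem_domOpen _ _).mp hy
  refine (RelCone.mem_domOpen _ _).mpr ⟨RelProj.gradedHomAt v hv U hU f, ?_, ?_⟩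
  · -- graded homs preserve the irrelevant ideal
    have hf' : f ∈ (𝒯.deg U hU)₊ := hf
    change RelProj.gradedHomAt v hv U hU f ∈ (𝒮.deg U hU)₊
    rw [HomogeneousIdeal.mem_irrelevant_iff] at hf' ⊢
    rw [GradedRing.proj_apply] at hf' ⊢
    rw [← GradedRingHom.map_directSumDecompose, hf', map_zero]
  · intro hmem
    apply hfy
    have e : (u'.gradedAt U hU U' hU' hle) f =
        (u.gradedAt U hU U' hU' hle) (RelProj.gradedHomAt v hv U hU f) := by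
      rw [RelProj.QGrHom.gradedAt_apply, RelProj.QGrHom.gradedAt_apply,
        RelSpec.QHom.appLE_eq, RelSpec.QHom.appLE_eq, hu' U]
      rfl
    rw [e]
    exact hmem


/-- Let q : X → Y be a morphism, L an invertible O_X-module with 𝒮L = ⊕ L^{⊗n} (whose Proj, with its
charts, is X), v : 𝒯 → 𝒮 a graded homomorphism of quasi-coherent positively graded O_Y-algebras, ψ♭
= u : 𝒮 → q_*𝒮L a graded q-morphism and ψ'♭ = u' its composite with v. Then the open of definition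
G(ψ') of r_{L,ψ'} is contained in the open of definition G(ψ) of r_{L,ψ}; in particular, if r_{L,ψ'}
is everywhere defined then so is r_{L,ψ}. -/
theorem result {Y X P PL : Scheme.{u}} (q : X ⟶ Y)
    (L : X.Modules) (hL : PicF.IsInvertible L) (hLq : Coh.IsQCoh L)
    (𝒮 : RelProj.QCGrAlg Y) (𝒮L : RelProj.QCGrAlg X) (j : L ⟶ 𝒮L.toModule) (hj : RelProj.IsGrSymAlg L 𝒮L j)
    (u : RelProj.QGrHom q 𝒮 𝒮L)
    (p : P ⟶ Y) (chart : ∀ (U : Y.Opens) (hU : IsAffineOpen U), (((p ⁻¹ᵁ U : P.Opens) : Scheme.{u}) ≅ Proj (𝒮.deg U hU)))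
    (hP : RelProj.IsRelProj 𝒮 p chart)
    (pL : PL ⟶ X) (chartL : ∀ (U : X.Opens) (hU : IsAffineOpen U), (((pL ⁻¹ᵁ U : PL.Opens) : Scheme.{u}) ≅ Proj (𝒮L.deg U hU)))
    (hPL : RelProj.IsRelProj 𝒮L pL chartL)
    (𝒯 : RelProj.QCGrAlg Y) (v : 𝒯.toQCAlg ⟶ 𝒮.toQCAlg) (hv : RelProj.IsGradedHom v)
    (u' : RelProj.QGrHom q 𝒯 𝒮L) (hu' : ∀ U : Y.Opens, u'.app U = v.hom.app (op U) ≫ u.app U) :
    RelProj.domQ u' pL chartL ≤ RelProj.domQ u pL chartL := by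
  intro x hx
  obtain ⟨V, hx'⟩ := Opens.mem_iSup.mp hx
  obtain ⟨y, hy, rfl⟩ := hx'
  exact Opens.mem_iSup.mpr ⟨V, y, aux q 𝒮 𝒮L u 𝒯 v hv u' hu' _ _ _ _ _ y hy, rfl⟩


end Groth.Agent.S12147
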