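import Groth.Statements.S12165
import Groth.Agent.Lib.Lead.RelProjQ
-- import your own Groth.Agent.* helpers here

set_option autoImplicit false
set_option backward.isDefEq.respectTransparency false
universe u
open CategoryTheory CategoryTheory.Limits AlgebraicGeometry TopologicalSpace Opposite
open scoped HomogeneousIdeal
noncomputable section
open EGA2

namespace Groth.Agent.S12165

/-- Let φ : 𝒜 → ℬ be a (TN)-surjective graded homomorphism of quasi-coherent positively graded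
O_Y-algebras (φ : 𝒜_k → ℬ_k surjective for all large k, on sections over affine opens), PA =
Proj(𝒜), PB = Proj(ℬ) with their charts. Then Proj(φ) is defined on all of PB and is a closed
immersion PB → PA. -/
theorem result {Y PA PB : Scheme.{u}} (𝒜 ℬ : RelProj.QCGrAlg Y)
    (φ : 𝒜.toQCAlg ⟶ ℬ.toQCAlg) (hφ : RelProj.IsGradedHom φ)
    (hTN : ∃ n : ℕ, ∀ k, n ≤ k → ∀ (U : Y.Opens) (hU : IsAffineOpen U), ∀ y ∈ ℬ.deg U hU k,
      ∃ x ∈ 𝒜.deg U hU k, (φ.hom.app (op U)).hom x = y)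
    (pA : PA ⟶ Y) (chartA : ∀ (U : Y.Opens) (hU : IsAffineOpen U), (((pA ⁻¹ᵁ U : PA.Opens) : Scheme.{u}) ≅ Proj (𝒜.deg U hU)))
    (hA : RelProj.IsRelProj 𝒜 pA chartA)
    (pB : PB ⟶ Y) (chartB : ∀ (U : Y.Opens) (hU : IsAffineOpen U), (((pB ⁻¹ᵁ U : PB.Opens) : Scheme.{u}) ≅ Proj (ℬ.deg U hU)))
    (hB : RelProj.IsRelProj ℬ pB chartB) :
    RelProj.domQ (RelProj.QGrHom.ofHom φ hφ) pB chartB = ⊤ ∧
      ∀ h : PB ⟶ PA, RelProj.IsProjQMap (RelProj.QGrHom.ofHom φ hφ) pA chartA pB chartB h →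
        IsClosedImmersion h := by
  have hc := Groth.Agent.Lib.Lead.RelProjQ.covers_of_tn φ hφ hTN
  refine ⟨Groth.Agent.Lib.Lead.RelProjQ.domQ_eq_top φ hφ hc, ?_⟩
  intro h hh
  refine Groth.Agent.Lib.Lead.RelProjQ.of_forall_affine φ hφ hc h hh @IsClosedImmersion hA hB ?_
  intro U hU
  refine Groth.Agent.Lib.Lead.ProjChart.of_forall_away @IsClosedImmersion
    (Groth.Agent.Lib.Lead.RelProjQ.isChartMap_gU φ hφ hc h hh U hU) (hc U hU) ?_
  intro i hi s hs
  refine IsClosedImmersion.spec_of_surjective _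
    (Groth.Agent.Lib.Lead.ProjChart.away_map_surjective_of_tnSurj _ ?_ hi s hs)
  obtain ⟨n, hn⟩ := hTN
  refine ⟨n, fun k hk b hb => ?_⟩
  obtain ⟨a, ha, hab⟩ := hn k hk U hU b hb
  exact ⟨a, ha, by rw [Groth.Agent.Lib.Lead.RelProjQ.psi_apply]; exact hab⟩


end Groth.Agent.S12165
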