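import Groth.Statements.S1215
import Groth.Agent.Lib.Helper26.MLRG3
import Groth.Agent.Lib.Helper26.LocSpan

set_option linter.style.haveILetI false

set_option autoImplicit false
universe u
open FlatMor

namespace Groth.Agent.S1215

/-- Let A → B be a local homomorphism of local rings which is essentially of finite type, with A
henselian, and N a finite B-module flat over A. Then N is a Mittag-Leffler A-module. (The source
moreover writes N as a filtered colimit of free A-modules with transition maps injective modulo 𝔪_A;
only the Mittag-Leffler conclusion is stated here.) -/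
theorem result {A B : Type u} [CommRing A] [HenselianLocalRing A] [CommRing B] [IsLocalRing B] [Algebra A B]
    [IsLocalHom (algebraMap A B)] [Algebra.EssFiniteType A B]
    (N : Type u) [AddCommGroup N] [Module B N] [Module A N] [IsScalarTower A B N] [Module.Finite B N] [Module.Flat A N] :
    CAlg.IsMittagLeffler A N := by
  classical
  let B₀ : Subalgebra A B := Algebra.EssFiniteType.subalgebra A B
  let q : Ideal B₀ := (IsLocalRing.maximalIdeal B).comap (algebraMap B₀ B)
  haveI hqprime : q.IsPrime := Ideal.comap_isPrime _ _
  have hT : Algebra.EssFiniteType.submonoid A B = q.primeCompl := by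
    ext b
    show IsUnit (algebraMap B₀ B b) ↔ b ∉ q
    rw [Ideal.mem_comap, IsLocalRing.notMem_maximalIdeal]
  haveI hloc : IsLocalization q.primeCompl B := hT ▸ Algebra.EssFiniteType.isLocalization A B
  haveI hlies : q.LiesOver (IsLocalRing.maximalIdeal A) := by
    refine ⟨?_⟩
    show IsLocalRing.maximalIdeal A = (q.comap (algebraMap A B₀))
    rw [Ideal.comap_comap, ← IsScalarTower.algebraMap_eq,
      IsLocalRing.maximalIdeal_comap (algebraMap A B)]
  obtain ⟨s, hs⟩ := (Module.finite_def.mp (inferInstance : Module.Finite B N))
  let N₁ : Submodule B₀ N := Submodule.span B₀ (s : Set N)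
  haveI : Module.Finite B₀ N₁ := Module.Finite.span_of_finite B₀ (Finset.finite_toSet s)
  haveI : IsLocalizedModule q.primeCompl N₁.subtype :=
    Groth.Agent.Lib.helper26.LocSpan.isLocalizedModule_span_subtype q.primeCompl (s : Set N) hs
  have hflat : FlatCA.FlatAt A q N₁ :=
    Groth.Agent.Lib.helper26.RGContent.flatAt_of_flat_localized q.primeCompl N₁.subtype q
      (Set.disjoint_left.mpr fun b hb hb' => hb' hb)
  exact Groth.Agent.Lib.helper26.MLRG.isMittagLeffler_of_flatAt N₁ q hflat N₁.subtype

end Groth.Agent.S1215
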