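import Groth.Statements.S12151
import Groth.Agent.Lib.Helper28.RLpsiImm2
-- import your own Groth.Agent.* helpers here

set_option autoImplicit false
universe u
open CategoryTheory CategoryTheory.Limits AlgebraicGeometry TopologicalSpace Opposite
open scoped HomogeneousIdeal
noncomputable section
open EGA2

namespace Groth.Agent.S12151

/-- Let q : X → Y be a morphism with Y affine, L an invertible O_X-module with 𝒮L = ⊕ L^{⊗n} (whose Proj
is X), 𝒮 a quasi-coherent positively graded O_Y-algebra with S = Γ(Y, 𝒮), ψ♭ = u : 𝒮 → q_*𝒮L a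
graded q-morphism and r = r_{L,ψ} : G(ψ) → P = Proj(𝒮). For a family s_a ∈ S_{n_a} (n_a > 0) put f_a
= ψ♭(s_a) ∈ Γ(X, L^{⊗n_a}) and let X_{f_a} be the open where f_a does not vanish; conditions: (i)
the X_{f_a} cover X; (ii) the X_{f_a} are affine; (iii) every function t on X_{f_a} is of the form
ψ♭(s') f_a^{-m} with m > 0 and s' ∈ S_{m n_a} (that is, t f_a^m = ψ♭(s') in 𝒮L(X_{f_a})); (iv) for
every m > 0 and s' ∈ S_{m n_a} with ψ♭(s')|X_{f_a} = 0 there is k > 0 with s_a^k s' = 0. Then r is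
everywhere defined and an open immersion if and only if there is a family (s_a) satisfying (i),
(ii), (iii) and (iv). -/
theorem result {Y X P PL : Scheme.{u}} (q : X ⟶ Y)
    (L : X.Modules) (hL : PicF.IsInvertible L) (hLq : Coh.IsQCoh L)
    (𝒮 : RelProj.QCGrAlg Y) (𝒮L : RelProj.QCGrAlg X) (j : L ⟶ 𝒮L.toModule) (hj : RelProj.IsGrSymAlg L 𝒮L j)
    (u : RelProj.QGrHom q 𝒮 𝒮L)
    (p : P ⟶ Y) (chart : ∀ (U : Y.Opens) (hU : IsAffineOpen U), (((p ⁻¹ᵁ U : P.Opens) : Scheme.{u}) ≅ Proj (𝒮.deg U hU)))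
    (hP : RelProj.IsRelProj 𝒮 p chart)
    (pL : PL ⟶ X) (chartL : ∀ (U : X.Opens) (hU : IsAffineOpen U), (((pL ⁻¹ᵁ U : PL.Opens) : Scheme.{u}) ≅ Proj (𝒮L.deg U hU)))
    (hPL : RelProj.IsRelProj 𝒮L pL chartL)
    (r : ((RelProj.domQ u pL chartL : PL.Opens) : Scheme.{u}) ⟶ P)
    (hr : RelProj.IsProjQMapOn u p chart pL chartL (RelProj.domQ u pL chartL) r)
    (hY : IsAffineOpen (⊤ : Y.Opens)) :
    (RelProj.domQ u pL chartL = ⊤ ∧ IsOpenImmersion r) ↔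
      ∃ (ι : Type u) (n : ι → ℕ) (s : ι → 𝒮.presheaf.obj (op ⊤)) (XT : ι → X.Opens),
        (∀ a, 0 < n a ∧ s a ∈ 𝒮.deg ⊤ hY (n a)) ∧
        (∀ a, XT a = (⨆ V : {V : X.affineOpens //
          ((𝒮L.deg V.1 V.2 (n a) : AddSubgroup (𝒮L.presheaf.obj (op (V.1 : X.Opens)))) : Set (𝒮L.presheaf.obj (op (V.1 : X.Opens)))) ⊆
            (Ideal.span {(u.appLE ⊤ (V.1 : X.Opens) (le_top.trans (Scheme.Hom.preimage_top q).ge)).hom (s a)} : Set (𝒮L.presheaf.obj (op (V.1 : X.Opens))))},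
          (V.1.1 : X.Opens))) ∧
        (⨆ a, XT a) = ⊤ ∧ (∀ a, IsAffineOpen (XT a)) ∧
        (∀ (a : ι) (t : X.presheaf.obj (op (XT a))), ∃ (m : ℕ) (_ : 0 < m) (s' : 𝒮.presheaf.obj (op ⊤)) (_ : s' ∈ 𝒮.deg ⊤ hY (m * n a)),
            (𝒮L.str.app (op (XT a))).hom t * ((u.appLE ⊤ (XT a) (le_top.trans (Scheme.Hom.preimage_top q).ge)).hom (s a)) ^ m =
              (u.appLE ⊤ (XT a) (le_top.trans (Scheme.Hom.preimage_top q).ge)).hom s') ∧
        (∀ (a : ι) (m : ℕ), 0 < m → ∀ s' ∈ 𝒮.deg ⊤ hY (m * n a),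
            (u.appLE ⊤ (XT a) (le_top.trans (Scheme.Hom.preimage_top q).ge)).hom s' = 0 → ∃ (k : ℕ), 0 < k ∧ (s a) ^ k * s' = 0) := by
  have hLq' : L.IsQuasicoherent := hLq
  have hr₀ := (Groth.Agent.Lib.helper28.ProjQComp.isProjQMapOn_iff u r).mp hr
  have hiso : IsIso pL :=
    Groth.Agent.Lib.helper28.SymLineProj.isIso_of_isInvertible L 𝒮L j hj pL chartL hPL hL
  constructor
  · rintro ⟨htop, himm⟩
    have hex : ∀ x' : ((RelProj.domQ u pL chartL : PL.Opens) : Scheme.{u}),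
        ∃ (d : ℕ) (hd : 0 < d) (s : 𝒮.presheaf.obj (op ⊤)) (hs : s ∈ 𝒮.deg ⊤ hY d),
          r x' ∈ (Proj.awayι (𝒮.deg ⊤ hY) s hs hd ≫ RelProj.emb p chart ⊤ hY).opensRange ∧
          (Proj.awayι (𝒮.deg ⊤ hY) s hs hd ≫ RelProj.emb p chart ⊤ hY).opensRange ≤
            r.opensRange := fun x' =>
      Groth.Agent.Lib.helper28.RLpsi.exists_basic hY r.opensRange (r x') ⟨x', rfl⟩
    choose d hd s hs hmem hle using hex
    refine ⟨((RelProj.domQ u pL chartL : PL.Opens) : Scheme.{u}), d, s,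
      fun a => Groth.Agent.Lib.helper28.RLpsi.XT 𝒮L u (d a) (s a), fun a => ⟨hd a, hs a⟩,
      fun a => rfl, ?_, ?_, ?_, ?_⟩
    · rw [← top_le_iff]
      intro x _
      obtain ⟨z, rfl⟩ := pL.surjective x
      have hz : z ∈ RelProj.domQ u pL chartL := by rw [htop]; trivial
      exact Opens.mem_iSup.mpr ⟨⟨z, hz⟩,
        Groth.Agent.Lib.helper28.RLpsi.mem_XT_of_mem_preimage L 𝒮L j hj u hL hP hPL r hr₀ hY
          (hd _) (s _) (hs _) ⟨z, hz⟩ (hmem ⟨z, hz⟩)⟩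
    · intro a
      exact (Groth.Agent.Lib.helper28.RLpsi.affine_bijective_of_isOpenImmersion L 𝒮L j hj u hL hP
        hPL r hr₀ hY (hd a) (s a) (hs a) (hle a)).1
    · intro a t
      obtain ⟨hXT, hbij⟩ := Groth.Agent.Lib.helper28.RLpsi.affine_bijective_of_isOpenImmersion L 𝒮L
        j hj u hL hP hPL r hr₀ hY (hd a) (s a) (hs a) (hle a)
      exact (Groth.Agent.Lib.helper28.RLpsi.surjective_awayMap_iff L 𝒮L j hj u hL hP hPL r hr₀ hY
        (hd a) (s a) (hs a) hXT).mp hbij.2 t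
    · intro a m hm s' hs' h0
      obtain ⟨hXT, hbij⟩ := Groth.Agent.Lib.helper28.RLpsi.affine_bijective_of_isOpenImmersion L 𝒮L
        j hj u hL hP hPL r hr₀ hY (hd a) (s a) (hs a) (hle a)
      exact (Groth.Agent.Lib.helper28.RLpsi.injective_awayMap_iff (u.gradedAt ⊤ hY
        (Groth.Agent.Lib.helper28.RLpsi.XT 𝒮L u (d a) (s a)) hXT
        (le_top.trans (Scheme.Hom.preimage_top q).ge)) (s a) (hs a)).mp hbij.1 m hm s' hs' h0
  · rintro ⟨ι, n, s, XT', hns, hXT', hcov, haff, h3, h4⟩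
    obtain rfl : XT' = fun a => Groth.Agent.Lib.helper28.RLpsi.XT 𝒮L u (n a) (s a) := funext hXT'
    exact ⟨Groth.Agent.Lib.helper28.RLpsi.domQ_eq_top_of_cover L 𝒮L j hj u hL hPL hY n s hns hcov,
      Groth.Agent.Lib.helper28.RLpsi.isOpenImmersion_of_family L 𝒮L j hj u hL hP hPL r hr₀ hY n s
        hns hcov haff h3 h4⟩

end Groth.Agent.S12151
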