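import Groth.Statements.S12163
-- import your own Groth.Agent.* helpers here

set_option autoImplicit false
set_option backward.isDefEq.respectTransparency false
universe u
open CategoryTheory CategoryTheory.Limits AlgebraicGeometry TopologicalSpace Opposite
open scoped HomogeneousIdeal
noncomputable section
open EGA2

namespace Groth.Agent.S12163


theorem gradedAt_ofHom_apply {Y : Scheme.{u}} {𝒜 ℬ : RelProj.QCGrAlg Y}
    (φ : 𝒜.toQCAlg ⟶ ℬ.toQCAlg) (hφ : RelProj.IsGradedHom φ) (U : Y.Opens) (hU : IsAffineOpen U)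
    (hle : U ≤ (𝟙 Y) ⁻¹ᵁ U) (f : 𝒜.presheaf.obj (op U)) :
    (RelProj.QGrHom.ofHom φ hφ).gradedAt U hU U hU hle f = RelProj.gradedHomAt φ hφ U hU f := by
  rw [RelProj.QGrHom.gradedAt_apply]
  change (ℬ.presheaf.map (homOfLE hle).op).hom ((φ.hom.app (op U)).hom f) = (φ.hom.app (op U)).hom f
  have e : ℬ.presheaf.map (homOfLE hle).op = 𝟙 (ℬ.presheaf.obj (op U)) := ℬ.presheaf.map_id (op U)
  rw [e]
  rfl

theorem mem_domQ_of {Y PB : Scheme.{u}} {𝒜 ℬ : RelProj.QCGrAlg Y}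
    (φ : 𝒜.toQCAlg ⟶ ℬ.toQCAlg) (hφ : RelProj.IsGradedHom φ)
    (pB : PB ⟶ Y) (chartB : ∀ (U : Y.Opens) (hU : IsAffineOpen U), (((pB ⁻¹ᵁ U : PB.Opens) : Scheme.{u}) ≅ Proj (ℬ.deg U hU)))
    (U : Y.Opens) (hU : IsAffineOpen U) (x : PB) (hx : x ∈ pB ⁻¹ᵁ U)
    (f : 𝒜.presheaf.obj (op U)) (hf : f ∈ ((𝒜.deg U hU)₊).toIdeal)
    (hfx : RelProj.gradedHomAt φ hφ U hU f ∉ ((chartB U hU).hom.base ⟨x, hx⟩).asHomogeneousIdeal) :
    x ∈ RelProj.domQ (RelProj.QGrHom.ofHom φ hφ) pB chartB := by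
  have hle : U ≤ (𝟙 Y) ⁻¹ᵁ U := le_rfl
  refine Opens.mem_iSup.mpr ⟨⟨(⟨U, hU⟩, ⟨U, hU⟩), hle⟩, ?_⟩
  refine ⟨(chartB U hU).hom.base ⟨x, hx⟩, ?_, ?_⟩
  · refine (RelCone.mem_domOpen _ _).mpr ⟨f, hf, ?_⟩
    rw [gradedAt_ofHom_apply]
    exact hfx
  · change ((chartB U hU).hom ≫ RelProj.emb pB chartB U hU).base ⟨x, hx⟩ = x
    rw [RelProj.emb, Iso.hom_inv_id_assoc]
    rfl


/-- Let φ : 𝒜 → ℬ be a graded homomorphism of quasi-coherent positively graded O_Y-algebras and PB =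
Proj(ℬ) with its charts. If every point of Y has an affine neighbourhood U over which the irrelevant
ideal of ℬ(U) is contained in the ideal generated by φ(𝒜(U)_+), then the open of definition G(φ) of
Proj(φ) is all of PB. (The published condition asks 𝒮_+ to be generated by the image as a module
over the functions on U; generation as an ideal, used here, is implied by it.) -/
theorem result {Y PB : Scheme.{u}} (𝒜 ℬ : RelProj.QCGrAlg Y)
    (φ : 𝒜.toQCAlg ⟶ ℬ.toQCAlg) (hφ : RelProj.IsGradedHom φ)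
    (pB : PB ⟶ Y) (chartB : ∀ (U : Y.Opens) (hU : IsAffineOpen U), (((pB ⁻¹ᵁ U : PB.Opens) : Scheme.{u}) ≅ Proj (ℬ.deg U hU)))
    (hB : RelProj.IsRelProj ℬ pB chartB)
    (hcov : ∀ y : Y, ∃ (U : Y.Opens) (hU : IsAffineOpen U), y ∈ U ∧
      (ℬ.deg U hU)₊ ≤ ((𝒜.deg U hU)₊).map (RelProj.gradedHomAt φ hφ U hU)) :
    RelProj.domQ (RelProj.QGrHom.ofHom φ hφ) pB chartB = ⊤ := by
  classical
  refine top_le_iff.mp fun x _ => ?_
  obtain ⟨U, hU, hxU, hirr⟩ := hcov (pB.base x)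
  have hx : x ∈ pB ⁻¹ᵁ U := hxU
  by_contra hcon
  have hall : ∀ f ∈ ((𝒜.deg U hU)₊).toIdeal,
      RelProj.gradedHomAt φ hφ U hU f ∈ ((chartB U hU).hom.base ⟨x, hx⟩).asHomogeneousIdeal := by
    intro f hf
    by_contra hfx
    exact hcon (mem_domQ_of φ hφ pB chartB U hU x hx f hf hfx)
  apply ((chartB U hU).hom.base ⟨x, hx⟩).not_irrelevant_le
  intro b hb
  have hb' : b ∈ (((𝒜.deg U hU)₊).map (RelProj.gradedHomAt φ hφ U hU)).toIdeal := hirr hb
  rw [HomogeneousIdeal.toIdeal_map] at hb'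
  have hle : Ideal.map (RelProj.gradedHomAt φ hφ U hU) ((𝒜.deg U hU)₊).toIdeal ≤
      ((chartB U hU).hom.base ⟨x, hx⟩).asHomogeneousIdeal.toIdeal := by
    rw [Ideal.map_le_iff_le_comap]
    intro f hf
    exact hall f hf
  exact hle hb'


end Groth.Agent.S12163
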