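import Groth.Statements.S12164
import Groth.Agent.Lib.Helper28.SymBaseChange
import Groth.Agent.Lib.Helper28.RelSpecBC
import Groth.Agent.Lib.Helper28.SymLocal
import Groth.Agent.Lib.Helper16.QCohPullback
import Groth.Agent.Lib.Helper2.ModSec
-- import your own Groth.Agent.* helpers here

set_option autoImplicit false
universe u
open CategoryTheory CategoryTheory.Limits AlgebraicGeometry TopologicalSpace Opposite
open scoped HomogeneousIdeal
noncomputable section
open EGA2

namespace Groth.Agent.S12164

/-- Let g : S' → S be a morphism, E a quasi-coherent O_S-module, A = Sym(E) and B = Sym(g^*E) the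
symmetric algebras (given by their universal properties among quasi-coherent algebras, with
structure maps j : E → A and j' : g^*E → B), u : A → g_*B the g-morphism of algebras extending the
adjunction unit E → g_*g^*E followed by g_*(j'), and h = Spec(u) : V(g^*E) = Spec(B) → V(E) =
Spec(A). Then h identifies V(g^*E) with the base change V(E) ×_S S'. -/
theorem result {S S' : Scheme.{u}} (g : S' ⟶ S)
    (E : S.Modules) (hE : Coh.IsQCoh E) (A : RelSpec.QCAlg S) (j : E ⟶ A.toModule) (hA : RelSpec.IsSymAlg E A j)
    (B : RelSpec.QCAlg S') (j' : (Scheme.Modules.pullback g).obj E ⟶ B.toModule)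
    (hB : RelSpec.IsSymAlg ((Scheme.Modules.pullback g).obj E) B j')
    (u : RelSpec.QHom g A B)
    (hu : ∀ (U : S.Opens) (x : Γ(E, U)),
      (u.app U).hom ((j.app U) x) =
        (j'.app (g ⁻¹ᵁ U)) (((Scheme.Modules.pullbackPushforwardAdjunction g).unit.app E).app U x))
    (h : B.spec ⟶ A.spec) (hh : RelSpec.IsSpecQMap u h) :
    IsPullback h B.π A.π g := by
  have hEq : E.IsQuasicoherent := hE
  have hE'q : ((Scheme.Modules.pullback g).obj E).IsQuasicoherent :=
    Groth.Agent.Lib.helper16.QCohPullback.isQuasicoherent_pullback g E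
  refine Groth.Agent.Lib.helper28.RelSpecBC.isPullback_of_isQBaseChange g A B u ?_ h hh
  intro U hU U' hU' hle
  have ha := Groth.Agent.Lib.helper28.SymAlg.liftU_bijective E A j hA ⟨U, hU⟩
  have hb := Groth.Agent.Lib.helper28.SymAlg.liftU_bijective ((Scheme.Modules.pullback g).obj E)
    B j' hB ⟨U', hU'⟩
  have hρ := Groth.Agent.Lib.helper8.PullbackUnit.isBC_ρ g hU hU' hle E
  have hpo := Groth.Agent.Lib.helper28.SymBaseChange.isPushout_symMap (g.appLE U U' hle).hom
    (Groth.Agent.Lib.helper8.PullbackUnit.ρ g hle E) hρ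
  let e₃ : CommRingCat.of (SymmetricAlgebra Γ(S, U) Γ(E, U)) ≅ A.presheaf.obj (op U) :=
    (RingEquiv.ofBijective (Groth.Agent.Lib.helper28.SymAlg.liftU E A j U) ha).toCommRingCatIso
  let e₄ : CommRingCat.of (SymmetricAlgebra Γ(S', U') Γ((Scheme.Modules.pullback g).obj E, U')) ≅
      B.presheaf.obj (op U') :=
    (RingEquiv.ofBijective
      (Groth.Agent.Lib.helper28.SymAlg.liftU ((Scheme.Modules.pullback g).obj E) B j' U')
      hb).toCommRingCatIso
  refine IsPushout.of_iso hpo (Iso.refl _) (Iso.refl _) e₃ e₄ ?_ ?_ ?_ ?_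
  · rw [Iso.refl_hom, Iso.refl_hom, Category.comp_id, Category.id_comp]
    rfl
  · rw [Iso.refl_hom, Category.id_comp]
    ext r
    exact Groth.Agent.Lib.helper28.SymAlg.liftU_algebraMap E A j U r
  · rw [Iso.refl_hom, Category.id_comp]
    ext r
    exact Groth.Agent.Lib.helper28.SymAlg.liftU_algebraMap _ B j' U' r
  · have key : (Groth.Agent.Lib.helper28.SymAlg.liftU ((Scheme.Modules.pullback g).obj E)
          B j' U').comp
        (Groth.Agent.Lib.helper28.SymLoc.symMap (g.appLE U U' hle).hom
          (Groth.Agent.Lib.helper8.PullbackUnit.ρ g hle E) hρ.map_smul) =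
        (u.appLE U U' hle).hom.comp (Groth.Agent.Lib.helper28.SymAlg.liftU E A j U) := by
      refine Groth.Agent.Lib.helper28.SymLoc.ringHom_ext _ _ (fun r => ?_) (fun x => ?_)
      · rw [RingHom.comp_apply, RingHom.comp_apply,
          Groth.Agent.Lib.helper28.SymLoc.symMap_algebraMap,
          Groth.Agent.Lib.helper28.SymAlg.liftU_algebraMap,
          Groth.Agent.Lib.helper28.SymAlg.liftU_algebraMap]
        exact (congrArg (fun f => f.hom r) (u.str_appLE U U' hle)).symm
      · rw [RingHom.comp_apply, RingHom.comp_apply,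
          Groth.Agent.Lib.helper28.SymLoc.symMap_ι,
          Groth.Agent.Lib.helper28.SymAlg.liftU_ι,
          Groth.Agent.Lib.helper28.SymAlg.liftU_ι]
        change _ = (B.presheaf.map (homOfLE hle).op).hom ((u.app U).hom ((j.app U) x))
        rw [hu U x]
        exact (Groth.Agent.Lib.helper2.ModSec.map_app_apply j' (homOfLE hle) _).symm
    ext x
    exact congrArg (fun f => f x) key

end Groth.Agent.S12164
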