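import Groth.Statements.S12166
import Groth.Agent.Lib.Lead.RelProjQ
-- import your own Groth.Agent.* helpers here

set_option autoImplicit false
set_option backward.isDefEq.respectTransparency false
universe u
open CategoryTheory CategoryTheory.Limits AlgebraicGeometry TopologicalSpace Opposite
open scoped HomogeneousIdeal
noncomputable section
open EGA2

namespace Groth.Agent.S12166

/-- Let φ : 𝒜 → ℬ be a graded homomorphism of quasi-coherent positively graded O_Y-algebras which is a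
(TN)-isomorphism (φ : 𝒜_k → ℬ_k bijective for all large k, on sections over affine opens), PA =
Proj(𝒜), PB = Proj(ℬ) with their charts. Then Proj(φ) is defined on all of PB and is an isomorphism
PB → PA. -/
theorem result {Y PA PB : Scheme.{u}} (𝒜 ℬ : RelProj.QCGrAlg Y)
    (φ : 𝒜.toQCAlg ⟶ ℬ.toQCAlg) (hφ : RelProj.IsGradedHom φ)
    (hTN : ∃ n : ℕ, ∀ k, n ≤ k → ∀ (U : Y.Opens) (hU : IsAffineOpen U),
      (∀ x ∈ 𝒜.deg U hU k, (φ.hom.app (op U)).hom x = 0 → x = 0) ∧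
        ∀ y ∈ ℬ.deg U hU k, ∃ x ∈ 𝒜.deg U hU k, (φ.hom.app (op U)).hom x = y)
    (pA : PA ⟶ Y) (chartA : ∀ (U : Y.Opens) (hU : IsAffineOpen U), (((pA ⁻¹ᵁ U : PA.Opens) : Scheme.{u}) ≅ Proj (𝒜.deg U hU)))
    (hA : RelProj.IsRelProj 𝒜 pA chartA)
    (pB : PB ⟶ Y) (chartB : ∀ (U : Y.Opens) (hU : IsAffineOpen U), (((pB ⁻¹ᵁ U : PB.Opens) : Scheme.{u}) ≅ Proj (ℬ.deg U hU)))
    (hB : RelProj.IsRelProj ℬ pB chartB) :
    RelProj.domQ (RelProj.QGrHom.ofHom φ hφ) pB chartB = ⊤ ∧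
      ∀ h : PB ⟶ PA, RelProj.IsProjQMap (RelProj.QGrHom.ofHom φ hφ) pA chartA pB chartB h → IsIso h := by
  have hTNs : ∃ n : ℕ, ∀ k, n ≤ k → ∀ (U : Y.Opens) (hU : IsAffineOpen U), ∀ y ∈ ℬ.deg U hU k,
      ∃ x ∈ 𝒜.deg U hU k, (φ.hom.app (op U)).hom x = y := by
    obtain ⟨n, hn⟩ := hTN
    exact ⟨n, fun k hk U hU => (hn k hk U hU).2⟩
  have hc := Groth.Agent.Lib.Lead.RelProjQ.covers_of_tn φ hφ hTNs
  refine ⟨Groth.Agent.Lib.Lead.RelProjQ.domQ_eq_top φ hφ hc, ?_⟩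
  intro h hh
  refine Groth.Agent.Lib.Lead.RelProjQ.of_forall_affine φ hφ hc h hh
    (MorphismProperty.isomorphisms Scheme) hA hB ?_
  intro U hU
  refine Groth.Agent.Lib.Lead.ProjChart.of_forall_away (MorphismProperty.isomorphisms Scheme)
    (Groth.Agent.Lib.Lead.RelProjQ.isChartMap_gU φ hφ hc h hh U hU) (hc U hU) ?_
  intro i hi s hs
  have hsurj : Function.Surjective (HomogeneousLocalization.Away.map
      (Groth.Agent.Lib.Lead.RelProjQ.psi φ hφ U hU) s) := by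
    refine Groth.Agent.Lib.Lead.ProjChart.away_map_surjective_of_tnSurj _ ?_ hi s hs
    obtain ⟨n, hn⟩ := hTNs
    refine ⟨n, fun k hk b hb => ?_⟩
    obtain ⟨a, ha, hab⟩ := hn k hk U hU b hb
    exact ⟨a, ha, by rw [Groth.Agent.Lib.Lead.RelProjQ.psi_apply]; exact hab⟩
  have hinj : Function.Injective (HomogeneousLocalization.Away.map
      (Groth.Agent.Lib.Lead.RelProjQ.psi φ hφ U hU) s) := by
    refine Groth.Agent.Lib.Lead.ProjChart.away_map_injective_of_tnInj _ ?_ hi s hs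
    obtain ⟨n, hn⟩ := hTN
    refine ⟨n, fun k hk a ha h0 => ?_⟩
    refine (hn k hk U hU).1 a ha ?_
    rw [Groth.Agent.Lib.Lead.RelProjQ.psi_apply] at h0
    exact h0
  have : IsIso (CommRingCat.ofHom (HomogeneousLocalization.Away.map
      (Groth.Agent.Lib.Lead.RelProjQ.psi φ hφ U hU) s)) := by
    rw [ConcreteCategory.isIso_iff_bijective]
    exact ⟨hinj, hsurj⟩
  change IsIso (Spec.map _)
  infer_instance


end Groth.Agent.S12166
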