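import Groth.Statements.S1218
import Groth.Agent.Lib.Helper26.PureCov4
import Groth.Agent.Lib.Helper26.PureCov5
import Groth.Agent.Lib.Helper26.FibCov9
import Groth.Agent.Lib.Helper26.Purity9
import Groth.Agent.Lib.Helper26.RGFlat5
import Groth.Agent.Lib.Helper26.GeomIrrNbhd9
import Groth.Agent.Lib.Helper3.BijRes1
import Groth.Agent.S9005
import Groth.Agent.S1217

set_option linter.style.haveILetI false

set_option autoImplicit false
universe u
open FlatMor

namespace Groth.Agent.S1218

/-- Ring form, X = Spec B affine: let B be a finite type A-algebra, N a finite B-module and p a prime of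
A such that N is flat over A at every prime of B lying over p. If N is pure along the fibre over p
then N is universally pure along the fibre over p. -/
theorem result {A B : Type u} [CommRing A] [CommRing B] [Algebra A B] [Algebra.FiniteType A B]
    (N : Type u) [AddCommGroup N] [Module B N] [Module A N] [IsScalarTower A B N] [Module.Finite B N] (p : Ideal A) [p.IsPrime]
    (hflat : ∀ (q : Ideal B) [q.IsPrime], q.LiesOver p → FlatCA.FlatAt A q N)
    (hpure : FlatCA.IsPureAlong A B N p) : FlatCA.IsUnivPureAlong A B N p := by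
  classical
  obtain ⟨R'', cR'', aRR'', p'', hp'', hEt, hall⟩ :=
    Groth.Agent.Lib.helper26.FibCov.exists_cover_free_pi N p hflat
  obtain ⟨etR'', hlo, hκ⟩ := id hEt
  haveI := etR''
  haveI := hlo
  -- the base change to `R''`
  obtain ⟨S'', _, algAS'', algBS'', algR''S'', tw1, tw2, hpo⟩ :=
    Groth.Agent.Lib.helper26.RGFlat.exists_pushout_model A B R''
  haveI := hpo
  let f'' : N →ₗ[B] TensorProduct B S'' N := TensorProduct.mk B S'' N 1
  have hf'' : IsBaseChange S'' f'' := TensorProduct.isBaseChange B N S''
  haveI : Module.Flat A (Localization.AtPrime p'') := Module.Flat.trans A R'' _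
  refine (Groth.Agent.S1217.result N p R'' S'' (TensorProduct B S'' N) f'' hf'' p'').2 ?_
  have hpure'' : FlatCA.IsPureAlong R'' S'' (TensorProduct B S'' N) p'' :=
    Groth.Agent.Lib.helper26.Purity.isPureAlong_baseChange_of_quasiFiniteAt N p R'' S''
      (TensorProduct B S'' N) f'' hf'' p'' hpure
  haveI hpos : Algebra.IsPushout A R'' B S'' := Algebra.IsPushout.symm hpo
  haveI : Algebra.FiniteType R'' S'' :=
    Algebra.FiniteType.equiv inferInstance (Algebra.IsPushout.equiv A R'' B S'')
  -- the base change to the local ring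
  obtain ⟨SA, _, algR''SA, algS''SA, algΛSA, tw3, tw4, hpo2⟩ :=
    Groth.Agent.Lib.helper26.RGFlat.exists_pushout_model R'' S'' (Localization.AtPrime p'')
  haveI := hpo2
  let fA : TensorProduct B S'' N →ₗ[S''] TensorProduct S'' SA (TensorProduct B S'' N) :=
    TensorProduct.mk S'' SA (TensorProduct B S'' N) 1
  have hfA : IsBaseChange SA fA := TensorProduct.isBaseChange S'' (TensorProduct B S'' N) SA
  haveI : Module.Flat R''
      (Localization.AtPrime (IsLocalRing.maximalIdeal (Localization.AtPrime p''))) :=
    Module.Flat.trans R'' (Localization.AtPrime p'') _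
  refine (Groth.Agent.S1217.result (TensorProduct B S'' N) p'' (Localization.AtPrime p'') SA
    (TensorProduct S'' SA (TensorProduct B S'' N)) fA hfA
    (IsLocalRing.maximalIdeal (Localization.AtPrime p''))).2 ?_
  -- `SA` over `A` and `B`
  letI algASA : Algebra A SA := ((algebraMap R'' SA).comp (algebraMap A R'')).toAlgebra
  haveI twAR''SA : IsScalarTower A R'' SA := IsScalarTower.of_algebraMap_eq fun _ => rfl
  letI algBSA : Algebra B SA := ((algebraMap S'' SA).comp (algebraMap B S'')).toAlgebra
  haveI twBS''SA : IsScalarTower B S'' SA := IsScalarTower.of_algebraMap_eq fun _ => rfl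
  haveI twAS''SA : IsScalarTower A S'' SA := IsScalarTower.of_algebraMap_eq fun a => by
    show algebraMap R'' SA (algebraMap A R'' a) = algebraMap S'' SA (algebraMap A S'' a)
    rw [IsScalarTower.algebraMap_apply R'' S'' SA, ← IsScalarTower.algebraMap_apply A R'' S'']
  haveI twABSA : IsScalarTower A B SA := IsScalarTower.of_algebraMap_eq fun a => by
    show algebraMap A SA a = algebraMap S'' SA (algebraMap B S'' (algebraMap A B a))
    rw [← IsScalarTower.algebraMap_apply A B S'', ← IsScalarTower.algebraMap_apply A S'' SA]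
  haveI twAΛSA : IsScalarTower A (Localization.AtPrime p'') SA :=
    IsScalarTower.of_algebraMap_eq fun a => by
      show algebraMap R'' SA (algebraMap A R'' a) =
        algebraMap (Localization.AtPrime p'') SA (algebraMap A (Localization.AtPrime p'') a)
      rw [IsScalarTower.algebraMap_apply R'' (Localization.AtPrime p'') SA,
        ← IsScalarTower.algebraMap_apply A R'' (Localization.AtPrime p'')]
  have hpoΛ : Algebra.IsPushout A (Localization.AtPrime p'') B SA :=
    (Algebra.IsPushout.comp_iff A R'' B S'' (T := Localization.AtPrime p'') (T' := SA)).2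
      (Algebra.IsPushout.symm hpo2)
  haveI := hpoΛ
  haveI hpoΛ' : Algebra.IsPushout A B (Localization.AtPrime p'') SA := Algebra.IsPushout.symm hpoΛ
  have hfTot : IsBaseChange SA ((fA.restrictScalars B).comp f'') := IsBaseChange.comp hf'' hfA
  obtain ⟨C, cC, aSAC, aΛC, twΛSAC, aBC, twBSAC, hEtC, hcov, hfp, hfree⟩ :=
    hall SA (TensorProduct S'' SA (TensorProduct B S'' N)) ((fA.restrictScalars B).comp f'') hfTot
  haveI := hEtC
  haveI := hfp
  haveI := hfree
  haveI : Algebra.FiniteType (Localization.AtPrime p'') SA :=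
    Algebra.FiniteType.equiv inferInstance
      (Algebra.IsPushout.equiv A (Localization.AtPrime p'') B SA)
  haveI : Algebra.FiniteType (Localization.AtPrime p'') C :=
    Algebra.FiniteType.trans (S := SA) inferInstance inferInstance
  have hUC : FlatCA.IsUnivPure (Localization.AtPrime p'') C
      (TensorProduct SA C (TensorProduct S'' SA (TensorProduct B S'' N))) :=
    Groth.Agent.S9005.result _
  -- residue fields
  haveI h𝔪p : (IsLocalRing.maximalIdeal (Localization.AtPrime p'')).LiesOver p :=
    Ideal.LiesOver.trans _ p'' p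
  have hκ₂ : Function.Bijective (Ideal.ResidueField.mapₐ p''
      (IsLocalRing.maximalIdeal (Localization.AtPrime p''))
      (Algebra.ofId R'' (Localization.AtPrime p'')) (Ideal.LiesOver.over)) :=
    (RingHom.surjectiveOnStalks_of_isLocalization p''.primeCompl
      (Localization.AtPrime p'')).residueFieldMap_bijective p'' _ _
  have hκΛ := Groth.Agent.Lib.helper26.GeomIrr.bijective_mapₐ_comp p p''
    (IsLocalRing.maximalIdeal (Localization.AtPrime p'')) hκ hκ₂
  -- an impurity
  intro A₃ B₃ N₃ _ _ _ _ _ _ _ _ _ _ _ _ _ _ f₃ t' t _ _ P _ himp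
  obtain ⟨hpush, hbc, hle, htp, hPt', hass, hno⟩ := id himp
  haveI := hpush
  haveI := htp
  haveI := hPt'
  haveI : (t'.under (Localization.AtPrime p'')).IsPrime := Ideal.comap_isPrime _ _
  haveI : t'.LiesOver (t'.under (Localization.AtPrime p'')) := ⟨rfl⟩
  have hassQ := Groth.Agent.Lib.helper26.Purity.fiberIdeal_comap_mem_associatedPrimes
    (TensorProduct S'' SA (TensorProduct B S'' N)) A₃ B₃ N₃ f₃ hbc
    (t'.under (Localization.AtPrime p'')) t' P hass
  haveI : (P.comap (algebraMap SA B₃)).IsPrime := Ideal.comap_isPrime _ _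
  haveI hQs' : (P.comap (algebraMap SA B₃)).LiesOver (t'.under (Localization.AtPrime p'')) := by
    constructor
    rw [hPt'.over, Ideal.under_def, Ideal.under_def, Ideal.under_def, Ideal.comap_comap,
      Ideal.comap_comap, ← IsScalarTower.algebraMap_eq, ← IsScalarTower.algebraMap_eq]
  obtain ⟨Q', hQ', hQQ', hQ'𝔪⟩ :=
    Groth.Agent.Lib.helper26.PureCov.exists_prime_ge_liesOver_maximalIdeal (R := R'') (S := S'')
      (TensorProduct B S'' N) p'' SA (TensorProduct S'' SA (TensorProduct B S'' N)) fA hfA hpure''
      (t'.under (Localization.AtPrime p'')) (P.comap (algebraMap SA B₃)) hassQ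
  haveI := hQ'
  haveI : (Q'.comap (algebraMap B SA)).IsPrime := Ideal.comap_isPrime _ _
  have hqp : (Q'.comap (algebraMap B SA)).LiesOver p := by
    constructor
    rw [h𝔪p.over, hQ'𝔪.over, Ideal.under_def, Ideal.under_def, Ideal.under_def,
      Ideal.comap_comap, Ideal.comap_comap, ← IsScalarTower.algebraMap_eq,
      ← IsScalarTower.algebraMap_eq]
  obtain ⟨x', hx', hx'q, hx'𝔪⟩ := hcov (Q'.comap (algebraMap B SA)) hqp
  haveI := hx'
  haveI : (x'.comap (algebraMap SA C)).IsPrime := Ideal.comap_isPrime _ _
  have heq : x'.comap (algebraMap SA C) = Q' := by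
    apply Groth.Agent.Lib.helper3.BijRes.eq_of_under_eq p
      (IsLocalRing.maximalIdeal (Localization.AtPrime p'')) hκΛ.2 B SA
    · rw [Ideal.under_def, Ideal.comap_comap, ← IsScalarTower.algebraMap_eq]
      exact hx'𝔪.over.symm
    · exact hQ'𝔪.over.symm
    · rw [Ideal.under_def, Ideal.under_def, Ideal.comap_comap, ← IsScalarTower.algebraMap_eq]
      exact hx'q
  haveI : x'.LiesOver Q' := ⟨heq.symm⟩
  obtain ⟨x, hxle, hxprime, hxover⟩ :=
    Ideal.exists_ideal_le_liesOver_of_le (p := P.comap (algebraMap SA B₃)) (q := Q') x' hQQ'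
  haveI := hxprime
  exact Groth.Agent.Lib.helper26.PureCov.not_univPure_cover_of_isImpurity
    (TensorProduct S'' SA (TensorProduct B S'' N))
    (IsLocalRing.maximalIdeal (Localization.AtPrime p'')) C
    (TensorProduct SA C (TensorProduct S'' SA (TensorProduct B S'' N)))
    (TensorProduct.mk SA C (TensorProduct S'' SA (TensorProduct B S'' N)) 1)
    A₃ B₃ N₃ f₃ t' t P
    (TensorProduct.isBaseChange SA (TensorProduct S'' SA (TensorProduct B S'' N)) C) himp x
    hxover.over.symm (hUC (IsLocalRing.maximalIdeal (Localization.AtPrime p'')))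

end Groth.Agent.S1218
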