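import Groth.Statements.S8392
import Mathlib
import Groth.Agent.Lib.Helper15.MultGa
import Groth.Agent.Lib.Helper15.HopfDict

set_option autoImplicit false
universe u
open CategoryTheory MonoidalCategory CartesianMonoidalCategory MonObj GrpObj AlgebraicGeometry
open SGA3x

namespace Groth.Agent.S8392

/-- Let H be an S-group scheme of multiplicative type. Then every homomorphism of S-groups H → 𝔾_a is
trivial. (Stated for H of multiplicative type and of finite type, the class of multiplicative groups
available here; the published statement allows any group of multiplicative type.) -/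
theorem result (S : Scheme.{u}) (H : Over S) [GrpObj H] (hH : SGA3x.IsMultTypeFT H)
    (u : H ⟶ Red.Ga S) [IsMonHom u] : u = 1 := by
  obtain ⟨S', f, hflat, hsurj, _, hloc⟩ := hH
  choose U hU M instM _ hε using hloc
  -- the function of `u`
  have hx := Groth.Agent.Lib.helper15.MultGa.isAddFn_gaFn u
  -- vanishing after each base change
  have key : ∀ s' : S', (Limits.pullback.fst H.hom ((U s').ι ≫ f)).appTop (Red.gaFn u) = 0 := by
    intro s'
    obtain ⟨ε⟩ := hε s'
    obtain ⟨e, he1, he2⟩ := Groth.Agent.Lib.helper15.HopfDict.exists_iso_of_grpIso ε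
    have h1 := Groth.Agent.Lib.helper15.MultGa.isAddFn_bc ((U s').ι ≫ f) hx
    have h2 := Groth.Agent.Lib.helper15.MultGa.isAddFn_comp e.inv h1
    have h3 := Groth.Agent.Lib.helper15.MultGa.eq_zero_of_isAdditiveFn h2
    have h4 : e.hom.left.appTop (e.inv.left.appTop
        ((Limits.pullback.fst H.hom ((U s').ι ≫ f)).appTop (Red.gaFn u))) =
        (Limits.pullback.fst H.hom ((U s').ι ≫ f)).appTop (Red.gaFn u) := by
      rw [← Groth.Agent.Lib.helper15.MultGa.appTop_comp_over, e.hom_inv_id]
      simp
    rw [← h4, h3, map_zero]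
  apply Over.OverMorphism.ext
  have hfl : ∀ s' : S', Flat (Limits.pullback.fst H.hom ((U s').ι ≫ f)) := fun s' => inferInstance
  refine Groth.Agent.Lib.helper15.MultGa.hom_ext_of_flat_family
    (fun s' : S' => Limits.pullback.fst H.hom ((U s').ι ≫ f)) ?_ _ _ ?_
  · rw [Set.eq_univ_iff_forall]
    intro h
    obtain ⟨s', hs'⟩ := hsurj.surj (H.hom h)
    have h5 : ((U s').ι ≫ f) ⟨s', hU s'⟩ = H.hom h := by
      rw [← hs']
      rfl
    obtain ⟨w, hw, -⟩ := Scheme.Pullback.exists_preimage_pullback (f := H.hom)
      (g := (U s').ι ≫ f) h ⟨s', hU s'⟩ h5.symm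
    exact Set.mem_iUnion.2 ⟨s', w, hw⟩
  · intro s'
    exact Groth.Agent.Lib.helper15.MultGa.fst_comp_eq_of_appTop_eq_zero _ u (key s')

end Groth.Agent.S8392
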