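import Groth.Statements.S12195
import Groth.Agent.Lib.Helper5.AlgSpInf5

set_option autoImplicit false
universe u
open CategoryTheory CategoryTheory.Limits AlgebraicGeometry
open AlgSp

namespace Groth.Agent.S12195

open Groth.Agent.Lib.helper5 in
theorem main {S : Scheme.{u}} {F G H : AlgSp.Sp S} (a : F ⟶ G)
    (b : G ⟶ H) (ha : AlgSp.RepWith @Etale a) (ha' : AlgSp.RepWith @Surjective a)
    (hab : AlgSp.IsFormallySmoothMor (a ≫ b)) (D : Thk S)
    (top : (AlgSp.yon S).obj D.ptT ⟶ G) (bot : (AlgSp.yon S).obj D.ptT' ⟶ H)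
    (hcomm : top ≫ b = (AlgSp.yon S).map D.j ≫ bot) (t : ↥D.ptT'.left) :
    ∃ (U' : Over S) (g : U' ⟶ D.ptT') (l : (AlgSp.yon S).obj U' ⟶ G),
      IsAffine U'.left ∧ Etale g.left ∧ (∃ u : ↥U'.left, g.left u = t) ∧
        l ≫ b = (AlgSp.yon S).map g ≫ bot ∧
          ∀ (V : Over S) (p : V ⟶ D.ptT) (q : V ⟶ U'), p ≫ D.j = q ≫ g →
            (AlgSp.yon S).map q ≫ l = (AlgSp.yon S).map p ≫ top := by
  classical
  obtain ⟨W, p, fst, psq⟩ := ha.rep top
  have hpe : Etale p.left := ha.2 top fst p psq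
  have hps : Surjective p.left := ha'.2 top fst p psq
  obtain ⟨y, rfl⟩ := D.isFirstOrderThickening.1.2.surj t
  obtain ⟨w₀, rfl⟩ := hps.surj y
  obtain ⟨T'w, Tw, c, tw, ι, hAff, hce, hw, hFO, hpb⟩ := exists_etale_lift_nhd D p hpe w₀
  have hsq : ι ≫ p ≫ D.j = tw ≫ c := by
    ext
    simpa using hpb.w
  obtain ⟨l, hl1, hl2⟩ := liftExists_of_affine hab tw hAff hFO
    ((AlgSp.yon S).map ι ≫ fst) ((AlgSp.yon S).map c ≫ bot) (by
      rw [Category.assoc, ← Category.assoc fst, psq.w, Category.assoc, hcomm,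
        ← Category.assoc, ← Category.assoc, ← Category.assoc, ← Functor.map_comp,
        ← Functor.map_comp, Category.assoc, hsq, Functor.map_comp, Category.assoc])
  refine ⟨T'w, c, l ≫ a, hAff, hce, ?_, ?_, ?_⟩
  · obtain ⟨z, hz⟩ := hw
    refine ⟨tw.left z, ?_⟩
    have := congrArg (fun k => k z) hpb.w
    simp only [Scheme.Hom.comp_apply] at this
    rw [← this, hz]
  · rw [Category.assoc, hl2]
  · intro V u v huv
    obtain ⟨σ, hσ1, hσ2⟩ := hpb.exists_lift u.left v.left (by
      rw [← Over.comp_left, huv, Over.comp_left])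
    let σ' : V ⟶ Tw := Over.homMk σ (by
      rw [← Over.w tw, ← Category.assoc, hσ2, Over.w])
    have e1 : σ' ≫ tw = v := by
      ext
      exact hσ2
    have e2 : σ' ≫ ι ≫ p = u := by
      ext
      simpa [σ'] using hσ1
    calc (AlgSp.yon S).map v ≫ l ≫ a
        = (AlgSp.yon S).map σ' ≫ ((AlgSp.yon S).map tw ≫ l) ≫ a := by
          rw [← e1, Functor.map_comp, Category.assoc, Category.assoc]
      _ = (AlgSp.yon S).map σ' ≫ (AlgSp.yon S).map ι ≫ fst ≫ a := by
          rw [hl1, Category.assoc]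
      _ = (AlgSp.yon S).map σ' ≫ (AlgSp.yon S).map ι ≫ (AlgSp.yon S).map p ≫ top := by
          rw [psq.w]
      _ = (AlgSp.yon S).map u ≫ top := by
          rw [← e2, Functor.map_comp, Functor.map_comp, Category.assoc, Category.assoc]

/-- Let a : F ⟶ G be a representable, surjective and etale morphism of fppf sheaves on (Sch/S) and b : G
⟶ H a morphism such that a ≫ b is formally smooth. Consider a solid infinitesimal lifting square for
b: a square-zero thickening T = Spec (A/I) ⊂ T' = Spec A of affine schemes over S, a morphism T ⟶ G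
and a morphism T' ⟶ H making the square commute. Then for every point t of T' there exist an affine
scheme U', an etale morphism U' ⟶ T' whose image contains t, and a morphism U' ⟶ G lying over T' ⟶ H
whose restriction to T ×_{T'} U' agrees with the given T ⟶ G (stated for every scheme V mapping
compatibly to T and U'). (The published statement is for transformations of arbitrary presheaves of
sets on (Sch/S)_fppf; this row takes fppf sheaves, the case of algebraic spaces.) -/
theorem result {S : Scheme.{u}} {F G H : AlgSp.Sp S} (a : F ⟶ G)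
    (b : G ⟶ H) (ha : AlgSp.RepWith @Etale a) (ha' : AlgSp.RepWith @Surjective a)
    (hab : AlgSp.IsFormallySmoothMor (a ≫ b)) (sq : AlgSp.InfSq b) (t : ↥sq.ptT'.left) :
    ∃ (U' : Over S) (g : U' ⟶ sq.ptT') (l : (AlgSp.yon S).obj U' ⟶ G),
      IsAffine U'.left ∧ Etale g.left ∧ (∃ u : ↥U'.left, g.left u = t) ∧
        l ≫ b = (AlgSp.yon S).map g ≫ sq.bot ∧
          ∀ (V : Over S) (p : V ⟶ sq.ptT) (q : V ⟶ U'), p ≫ sq.j = q ≫ g →
            (AlgSp.yon S).map q ≫ l = (AlgSp.yon S).map p ≫ sq.top := by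
  exact main a b ha ha' hab (Groth.Agent.Lib.helper5.Thk.ofSq sq) sq.top sq.bot sq.comm t

end Groth.Agent.S12195
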