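import Groth.Statements.S1220
import Groth.Agent.Lib.Helper26.PureProj7
import Groth.Agent.S9005
import Groth.Agent.S1217

set_option linter.style.haveILetI false

set_option autoImplicit false
universe u
open FlatMor

namespace Groth.Agent.S1220

/-- Ring form, X = Spec B affine: let B be a finitely presented A-algebra and N a finitely presented
B-module flat over A. Then the set of points p of Spec A such that N is pure along the fibre over p
is open. -/
theorem result {A B : Type u} [CommRing A] [CommRing B] [Algebra A B] [Algebra.FinitePresentation A B]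
    (N : Type u) [AddCommGroup N] [Module B N] [Module A N] [IsScalarTower A B N] [Module.FinitePresentation B N] [Module.Flat A N] :
    IsOpen {p : PrimeSpectrum A | FlatCA.IsPureAlong A B N p.asIdeal} := by
  classical
  rw [isOpen_iff_forall_mem_open]
  intro p hp
  obtain ⟨A'', _, _, p'', _, hEt, hproj⟩ :=
    Groth.Agent.Lib.helper26.PureProj.exists_etaleNhd_projective_of_pureAlong N p.asIdeal hp
  obtain ⟨etA'', hlo, -⟩ := id hEt
  haveI := etA''
  haveI := hproj
  refine ⟨Set.range (PrimeSpectrum.comap (algebraMap A A'')), ?_,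
    (PrimeSpectrum.isOpenMap_comap_of_hasGoingDown_of_finitePresentation).isOpen_range,
    ⟨⟨p'', inferInstance⟩, PrimeSpectrum.ext hlo.over.symm⟩⟩
  rintro _ ⟨p₂, rfl⟩
  obtain ⟨BA, _, algABA, algBBA, algA''BA, tw1, tw2, hpo⟩ :=
    Groth.Agent.Lib.helper26.RGFlat.exists_pushout_model A B A''
  haveI := hpo
  haveI hpos : Algebra.IsPushout A A'' B BA := Algebra.IsPushout.symm hpo
  haveI : Algebra.FiniteType A'' BA :=
    Algebra.FiniteType.equiv inferInstance (Algebra.IsPushout.equiv A A'' B BA)
  let fA : N →ₗ[B] TensorProduct B BA N := TensorProduct.mk B BA N 1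
  have hfA : IsBaseChange BA fA := TensorProduct.isBaseChange B N BA
  haveI : Module.Projective A'' (TensorProduct B BA N) :=
    Module.Projective.of_equiv (Algebra.IsPushout.cancelBaseChange A A'' B BA N).symm
  have hU : FlatCA.IsUnivPure A'' BA (TensorProduct B BA N) :=
    Groth.Agent.S9005.result (TensorProduct B BA N)
  have hP : FlatCA.IsPureAlong A'' BA (TensorProduct B BA N) p₂.asIdeal := by
    intro A' B' N' _ _ _ _ _ _ _ _ _ _ _ _ _ _ f t' t _ _ P _ _
    exact hU p₂.asIdeal A' B' N' f t' t P
  haveI : p₂.asIdeal.LiesOver (PrimeSpectrum.comap (algebraMap A A'') p₂).asIdeal := ⟨rfl⟩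
  haveI : Module.Flat A (Localization.AtPrime p₂.asIdeal) :=
    Module.Flat.trans A A'' _
  exact (Groth.Agent.S1217.result N (PrimeSpectrum.comap (algebraMap A A'') p₂).asIdeal A'' BA
    (TensorProduct B BA N) fA hfA p₂.asIdeal).1 hP

end Groth.Agent.S1220
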