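import Groth.Statements.S12205
import Groth.Agent.Lib.Helper7.TorPres
import Groth.Agent.Lib.Helper7.GlueFlat

set_option autoImplicit false
universe u
open CategoryTheory
open scoped TensorProduct
open CAlg

namespace Groth.Agent.S12205


open Groth.Agent.Lib.helper7

/-- Let I be an ideal of a commutative ring R and M an R-module such that M/IM is flat over R/I and
Tor_1^R(R/I, M) = 0. Then Tor_1^R(N, M) = 0 for every R-module N annihilated by I^m for some m ≥ 0.
Here Tor_1^R(N, M) is the first left derived functor of N ⊗_R − evaluated at M. -/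
theorem result (R : Type u) [CommRing R] (I : Ideal R) (M : Type u)
    [AddCommGroup M] [Module R M] [Module.Flat (R ⧸ I) ((R ⧸ I) ⊗[R] M)]
    (h : Limits.IsZero (((CategoryTheory.Tor (ModuleCat.{u} R) 1).obj (ModuleCat.of R (R ⧸ I))).obj (ModuleCat.of R M)))
    (N : Type u) [AddCommGroup N] [Module R N] (m : ℕ) (hN : ∀ a : R, a ∈ I ^ m → ∀ x : N, a • x = 0) :
    Limits.IsZero (((CategoryTheory.Tor (ModuleCat.{u} R) 1).obj (ModuleCat.of R N)).obj (ModuleCat.of R M)) := by
  classical
  -- a free presentation of `M`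
  obtain ⟨π, hπdef⟩ : ∃ π : (M →₀ R) →ₗ[R] M, π = Finsupp.linearCombination R id := ⟨_, rfl⟩
  have hπ : Function.Surjective π := by
    intro x
    exact ⟨Finsupp.single x 1, by rw [hπdef]; simp⟩
  obtain ⟨K, _, _, j, hjinj, hex⟩ : ∃ (K : Type u) (_ : AddCommGroup K) (_ : Module R K)
      (j : K →ₗ[R] (M →₀ R)), Function.Injective j ∧ Function.Exact j π :=
    ⟨LinearMap.ker π, inferInstance, inferInstance, (LinearMap.ker π).subtype,
      Submodule.subtype_injective _, LinearMap.exact_subtype_ker_map π⟩
  have hj : Function.Injective (LinearMap.lTensor (R ⧸ I) j) :=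
    (TorPres.isZero_iff_of_exact (R ⧸ I) M j π hjinj hex hπ).1 h
  apply (TorPres.isZero_iff_of_exact N M j π hjinj hex hπ).2
  -- step 1: modules killed by `I`
  have step1 : ∀ (N : Type u) [AddCommGroup N] [Module R N], (∀ a ∈ I, ∀ x : N, a • x = 0) →
      Function.Injective (LinearMap.lTensor N j) := by
    intro N _ _ hN
    have hT : Module.IsTorsionBySet R N (I : Set R) := fun x a => hN a.1 a.2 x
    letI : Module (R ⧸ I) N := Module.IsTorsionBySet.module hT
    haveI : IsScalarTower R (R ⧸ I) N := Module.IsTorsionBySet.isScalarTower hT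
    refine GlueFlat.lTensor_injective_of_flat_baseChange (R ⧸ I) N j π hex hπ ?_
    rw [LinearMap.baseChange_eq_ltensor]
    exact hj
  -- induction
  have main : ∀ (m : ℕ) (N : Type u) [AddCommGroup N] [Module R N],
      (∀ a ∈ I ^ m, ∀ x : N, a • x = 0) →
      Function.Injective (LinearMap.lTensor N j) := by
    intro m
    induction m with
    | zero =>
      intro N _ _ hN
      have h0 : ∀ x : N, x = 0 := fun x => by simpa using hN 1 (by simp) x
      intro a b _
      have hz : ∀ z : N ⊗[R] K, z = 0 := by
        intro z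
        induction z using TensorProduct.induction_on with
        | zero => rfl
        | tmul x k => rw [h0 x, TensorProduct.zero_tmul]
        | add x y hx hy => rw [hx, hy, add_zero]
      rw [hz a, hz b]
    | succ m ih =>
      intro N _ _ hN
      obtain ⟨N₁, hN₁⟩ : ∃ N₁ : Submodule R N, N₁ = (I ^ m) • (⊤ : Submodule R N) := ⟨_, rfl⟩
      have hk1 : ∀ a ∈ I, ∀ x : N₁, a • x = 0 := by
        intro a ha x
        apply Subtype.ext
        rw [Submodule.coe_smul, Submodule.coe_zero]
        have hx : (x : N) ∈ (I ^ m) • (⊤ : Submodule R N) := hN₁ ▸ x.2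
        refine Submodule.smul_induction_on hx ?_ ?_
        · intro b hb y _
          rw [smul_smul]
          exact hN _ (by rw [pow_succ']; exact Ideal.mul_mem_mul ha hb) y
        · intro y z hy hz
          rw [smul_add, hy, hz, add_zero]
      have hk3 : ∀ a ∈ I ^ m, ∀ x : N ⧸ N₁, a • x = 0 := by
        intro a ha x
        obtain ⟨y, rfl⟩ := Submodule.Quotient.mk_surjective _ x
        rw [← Submodule.Quotient.mk_smul, Submodule.Quotient.mk_eq_zero, hN₁]
        exact Submodule.smul_mem_smul ha trivial
      obtain ⟨T, _, _, a, b, hab, hb, ha, h1⟩ : ∃ (T : Type u) (_ : AddCommGroup T) (_ : Module R T)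
          (a : T →ₗ[R] N) (b : N →ₗ[R] N ⧸ N₁), Function.Exact a b ∧ Function.Surjective b ∧
          Function.Injective a ∧ Function.Injective (LinearMap.lTensor T j) :=
        ⟨N₁, inferInstance, inferInstance, N₁.subtype, N₁.mkQ, LinearMap.exact_subtype_mkQ N₁,
          Submodule.mkQ_surjective N₁, Submodule.subtype_injective N₁, step1 N₁ hk1⟩
      exact GlueFlat.lTensor_injective_of_ses a b hab hb ha j h1 (ih (N ⧸ N₁) hk3)
  exact main m N (fun a ha x => hN a ha x)

end Groth.Agent.S12205
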