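import Groth.Statements.S12206
import Mathlib
-- import your own Groth.Agent.* helpers here

set_option autoImplicit false
universe u
open CAlg

namespace Groth.Agent.S12206

/-- Let φ : N → M be a linear map from a finite R-module N to a coherent R-module M, where coherent
means finitely generated with every finitely generated submodule finitely presented. Then the kernel
of φ is finitely generated, and the image of φ and the cokernel M/φ(N) are coherent. -/
theorem result (R : Type u) [CommRing R] {N M : Type u}
    [AddCommGroup N] [Module R N] [AddCommGroup M] [Module R M] [Module.Finite R N]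
    (hM : Module.Finite R M ∧ ∀ P : Submodule R M, P.FG → Module.FinitePresentation R P)
    (φ : N →ₗ[R] M) :
    (LinearMap.ker φ).FG ∧
    (Module.Finite R (LinearMap.range φ) ∧
      ∀ P : Submodule R (LinearMap.range φ), P.FG → Module.FinitePresentation R P) ∧
    (Module.Finite R (M ⧸ LinearMap.range φ) ∧
      ∀ P : Submodule R (M ⧸ LinearMap.range φ), P.FG → Module.FinitePresentation R P) := by
  obtain ⟨hMfin, hMcoh⟩ := hM
  set Q := LinearMap.range φ with hQ
  have hQfin : Module.Finite R Q := Module.Finite.range φ
  have hQfg : Q.FG := Module.Finite.iff_fg.1 hQfin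
  have hQfp : Module.FinitePresentation R Q := hMcoh Q hQfg
  refine ⟨?_, ⟨hQfin, ?_⟩, ⟨inferInstance, ?_⟩⟩
  · have := Module.FinitePresentation.fg_ker φ.rangeRestrict φ.surjective_rangeRestrict
    rwa [LinearMap.ker_rangeRestrict] at this
  · intro P hP
    have hP' : (P.map Q.subtype).FG := hP.map _
    have := hMcoh _ hP'
    exact Module.FinitePresentation.of_equiv
      (Submodule.equivMapOfInjective Q.subtype (Submodule.subtype_injective _) P).symm
  · intro P hP
    set P' : Submodule R M := P.comap Q.mkQ with hP'def
    have hQP' : Q ≤ P' := by
      intro x hx
      rw [hP'def, Submodule.mem_comap, Submodule.mkQ_apply, (Submodule.Quotient.mk_eq_zero Q).2 hx]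
      exact P.zero_mem
    have hP'fg : P'.FG := by
      apply Submodule.fg_of_fg_map_of_fg_inf_ker Q.mkQ
      · rw [hP'def, Submodule.map_comap_eq_of_surjective (Submodule.mkQ_surjective Q)]
        exact hP
      · rw [Submodule.ker_mkQ, inf_eq_right.2 hQP']
        exact hQfg
    have hP'fp : Module.FinitePresentation R P' := hMcoh P' hP'fg
    let l : P' →ₗ[R] P := Q.mkQ.restrict (p := P') (q := P) (fun x hx => hx)
    have hl : Function.Surjective l := by
      rintro ⟨y, hy⟩
      obtain ⟨x, rfl⟩ := Submodule.mkQ_surjective Q y
      exact ⟨⟨x, hy⟩, rfl⟩
    have hker : (LinearMap.ker l).FG := by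
      have h1 : LinearMap.ker l = Q.comap P'.subtype := by
        ext x
        rw [LinearMap.mem_ker, Submodule.mem_comap]
        constructor
        · intro h
          have := congrArg Subtype.val h
          simpa [l, LinearMap.restrict_apply] using this
        · intro h
          apply Subtype.ext
          simpa [l, LinearMap.restrict_apply] using h
      rw [h1]
      have : Module.Finite R (Q.comap P'.subtype) :=
        Module.Finite.equiv (Submodule.comapSubtypeEquivOfLe hQP').symm
      exact Module.Finite.iff_fg.1 this
    exact Module.finitePresentation_of_surjective l hl hker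

end Groth.Agent.S12206
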