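import Groth.Statements.S12207
import Mathlib.Algebra.Module.FinitePresentation

set_option autoImplicit false
universe u
open CAlg

namespace Groth.Agent.S12207

/-- Let φ : N → M be a linear map between coherent R-modules (finitely generated, every finitely
generated submodule finitely presented). Then the kernel of φ and the cokernel M/φ(N) are coherent
R-modules. -/
theorem result (R : Type u) [CommRing R] {N M : Type u}
    [AddCommGroup N] [Module R N] [AddCommGroup M] [Module R M]
    (hN : Module.Finite R N ∧ ∀ P : Submodule R N, P.FG → Module.FinitePresentation R P)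
    (hM : Module.Finite R M ∧ ∀ P : Submodule R M, P.FG → Module.FinitePresentation R P)
    (φ : N →ₗ[R] M) :
    (Module.Finite R (LinearMap.ker φ) ∧
      ∀ P : Submodule R (LinearMap.ker φ), P.FG → Module.FinitePresentation R P) ∧
    (Module.Finite R (M ⧸ LinearMap.range φ) ∧
      ∀ P : Submodule R (M ⧸ LinearMap.range φ), P.FG → Module.FinitePresentation R P) := by
  obtain ⟨hNfin, hNcoh⟩ := hN
  obtain ⟨hMfin, hMcoh⟩ := hM
  have hrangeFG : (LinearMap.range φ).FG := by
    rw [LinearMap.range_eq_map]
    exact Submodule.FG.map _ Module.Finite.fg_top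
  have hrangeFP : Module.FinitePresentation R (LinearMap.range φ) := hMcoh _ hrangeFG
  constructor
  · have hkerFG : (LinearMap.ker φ).FG := by
      have := Module.FinitePresentation.fg_ker φ.rangeRestrict φ.surjective_rangeRestrict
      rwa [LinearMap.ker_rangeRestrict] at this
    refine ⟨Module.Finite.iff_fg.mpr hkerFG, ?_⟩
    intro P hP
    let e := Submodule.equivMapOfInjective (LinearMap.ker φ).subtype
      (Submodule.injective_subtype _) P
    have : Module.FinitePresentation R (P.map (LinearMap.ker φ).subtype) := hNcoh _ (hP.map _)
    exact Module.FinitePresentation.of_equiv e.symm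
  · refine ⟨inferInstance, ?_⟩
    intro P hP
    have hS : (P.comap (LinearMap.range φ).mkQ).FG := by
      apply Submodule.fg_of_fg_map_of_fg_inf_ker (LinearMap.range φ).mkQ
      · rw [Submodule.map_comap_eq_of_surjective (Submodule.mkQ_surjective _)]
        exact hP
      · have : P.comap (LinearMap.range φ).mkQ ⊓ LinearMap.ker (LinearMap.range φ).mkQ =
            LinearMap.range φ := by
          rw [Submodule.ker_mkQ]
          apply inf_eq_right.mpr
          intro x hx
          change (LinearMap.range φ).mkQ x ∈ P
          rw [Submodule.mkQ_apply, (Submodule.Quotient.mk_eq_zero _).mpr hx]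
          exact zero_mem _
        rw [this]
        exact hrangeFG
    have hSfp : Module.FinitePresentation R (P.comap (LinearMap.range φ).mkQ) := hMcoh _ hS
    let l : (P.comap (LinearMap.range φ).mkQ) →ₗ[R] P :=
      (LinearMap.range φ).mkQ.restrict (p := P.comap (LinearMap.range φ).mkQ) (q := P)
        (fun x hx => hx)
    have hl : Function.Surjective l := by
      rintro ⟨y, hy⟩
      obtain ⟨x, rfl⟩ := Submodule.mkQ_surjective (LinearMap.range φ) y
      exact ⟨⟨x, hy⟩, rfl⟩
    have hle : LinearMap.range φ ≤ P.comap (LinearMap.range φ).mkQ := by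
      intro x hx
      change (LinearMap.range φ).mkQ x ∈ P
      rw [Submodule.mkQ_apply, (Submodule.Quotient.mk_eq_zero _).mpr hx]
      exact zero_mem _
    have hker : (LinearMap.ker l).FG := by
      have hk : LinearMap.ker l =
          (LinearMap.range φ).comap (P.comap (LinearMap.range φ).mkQ).subtype := by
        ext ⟨x, hx⟩
        rw [LinearMap.mem_ker, Submodule.mem_comap, Submodule.subtype_apply]
        rw [Subtype.ext_iff, Submodule.coe_zero]
        change (LinearMap.range φ).mkQ x = 0 ↔ _
        rw [Submodule.mkQ_apply, Submodule.Quotient.mk_eq_zero]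
      rw [hk, ← Module.Finite.iff_fg]
      have hfin : Module.Finite R (LinearMap.range φ) := Module.Finite.iff_fg.mpr hrangeFG
      exact Module.Finite.equiv (Submodule.comapSubtypeEquivOfLe hle).symm
    exact Module.finitePresentation_of_surjective l hl hker

end Groth.Agent.S12207
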