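import Groth.Statements.S12208
import Mathlib
import Groth.Agent.S5763

set_option autoImplicit false
universe u
open CAlg

namespace Groth.Agent.S12208

open private NoetherNormalization.hom2 NoetherNormalization.hom2_isIntegral NoetherNormalization.hom1 NoetherNormalization.eqv1 NoetherNormalization.eqv2 NoetherNormalization.T from Mathlib.RingTheory.NoetherNormalization

open MvPolynomial

theorem hom2_X {k : Type*} [Field k] {n : ℕ} (f : MvPolynomial (Fin (n + 1)) k)
    (I : Ideal (MvPolynomial (Fin (n + 1)) k)) (j : Fin n) :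
    NoetherNormalization.hom2 f I (X j) =
      Ideal.Quotient.mk I (X j.succ + (-1 : k) • X 0 ^ ((2 + f.totalDegree) ^ (j.succ : Fin (n+1)).1)) := by
  unfold NoetherNormalization.hom2
  simp only [AlgHom.coe_comp, Function.comp_apply, AlgHom.coe_restrictScalars']
  have h1 : (Algebra.ofId (MvPolynomial (Fin n) k) (Polynomial (MvPolynomial (Fin n) k))) (X j) =
      MvPolynomial.finSuccEquiv k n (X j.succ) := by
    rw [MvPolynomial.finSuccEquiv_X_succ]; rfl
  rw [h1, Ideal.Quotient.mkₐ_eq_mk]
  erw [Ideal.quotientEquivAlg_mk]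
  refine (congrArg (fun q => Ideal.Quotient.mk I ((NoetherNormalization.T f).symm q))
    ((MvPolynomial.finSuccEquiv k n).symm_apply_apply (X j.succ))).trans ?_
  simp only [AlgEquiv.ofAlgHom_symm_apply]
  simp [Fin.succ_ne_zero]

/-- integer-coefficient polynomials -/
def IsInt {k : Type*} [Field k] {n : ℕ} (p : MvPolynomial (Fin n) k) : Prop :=
  p ∈ Set.range (MvPolynomial.map (Int.castRingHom k) : MvPolynomial (Fin n) ℤ → MvPolynomial (Fin n) k)

theorem isInt_aeval {k : Type*} [Field k] {n d : ℕ} (z : Fin d → MvPolynomial (Fin n) k)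
    (hz : ∀ j, IsInt (z j)) (p : MvPolynomial (Fin d) k) (hp : IsInt p) : IsInt (aeval z p) := by
  obtain ⟨p', rfl⟩ := hp
  choose z' hz' using hz
  refine ⟨bind₁ z' p', ?_⟩
  rw [MvPolynomial.map_bind₁, aeval_eq_bind₁]
  have : (fun i => (MvPolynomial.map (Int.castRingHom k)) (z' i)) = z := funext hz'
  rw [this]

theorem base_case (k : Type*) [Field k] (n : ℕ) (I : Ideal (MvPolynomial (Fin n) k)) (hI : I = ⊥) :
    ∃ (r : ℕ) (y : Fin r → MvPolynomial (Fin n) k), (∀ i, IsInt (y i)) ∧
      Function.Injective ((Ideal.Quotient.mkₐ k I).comp (MvPolynomial.aeval y)) ∧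
      ((Ideal.Quotient.mkₐ k I).comp (MvPolynomial.aeval y)).toRingHom.IsIntegral := by
  refine ⟨n, X, fun i => ⟨X i, by simp⟩, ?_, ?_⟩
  · have bij : Function.Bijective (Ideal.Quotient.mkₐ k I) :=
      (Ideal.Quotient.mk_bijective_iff_eq_bot I).mpr hI
    intro a b hab
    simp only [AlgHom.coe_comp, Function.comp_apply, aeval_X_left, AlgHom.coe_id, id_eq] at hab
    exact bij.1 hab
  · apply RingHom.isIntegral_of_surjective
    intro x
    obtain ⟨p, rfl⟩ := Ideal.Quotient.mk_surjective x
    exact ⟨p, by simp⟩

theorem exists_int_y (k : Type*) [Field k] : ∀ (n : ℕ) (I : Ideal (MvPolynomial (Fin n) k)), I ≠ ⊤ →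
    ∃ (r : ℕ) (y : Fin r → MvPolynomial (Fin n) k), (∀ i, IsInt (y i)) ∧
      Function.Injective ((Ideal.Quotient.mkₐ k I).comp (MvPolynomial.aeval y)) ∧
      ((Ideal.Quotient.mkₐ k I).comp (MvPolynomial.aeval y)).toRingHom.IsIntegral := by
  intro n
  induction n with
  | zero =>
    intro I hI
    apply base_case
    rw [eq_bot_iff]
    intro p hp
    by_contra hne
    rw [Ideal.mem_bot] at hne
    have eq := eq_C_of_isEmpty p
    have ne : coeff 0 p ≠ 0 := fun h => hne (by rw [eq, h, map_zero])
    apply hI
    rw [Ideal.eq_top_iff_one]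
    have : (1 : MvPolynomial (Fin 0) k) = C (coeff 0 p)⁻¹ * p := by
      rw [eq, coeff_C, if_pos rfl, ← map_mul, inv_mul_cancel₀ (by rwa [eq, coeff_C, if_pos rfl] at ne), map_one]
    rw [this]
    exact Ideal.mul_mem_left _ _ hp
  | succ d hd =>
    intro I hI
    by_cases eqi : I = ⊥
    · exact base_case k _ I eqi
    · obtain ⟨f, fi, fne⟩ := Submodule.exists_mem_ne_zero_of_ne_bot eqi
      have := Ideal.Quotient.nontrivial_iff.mpr hI
      obtain ⟨r, y', hy'int, injg, intg⟩ := hd (RingHom.ker (NoetherNormalization.hom2 f I))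
        (RingHom.ker_ne_top _)
      let z : Fin d → MvPolynomial (Fin (d + 1)) k := fun j =>
        X j.succ + (-1 : k) • X 0 ^ ((2 + f.totalDegree) ^ (j.succ : Fin (d + 1)).1)
      have hz : ∀ j, IsInt (z j) := fun j =>
        ⟨X j.succ - X 0 ^ ((2 + f.totalDegree) ^ (j.succ : Fin (d + 1)).1), by simp [z, sub_eq_add_neg]⟩
      have hhom2 : NoetherNormalization.hom2 f I = (Ideal.Quotient.mkₐ k I).comp (aeval z) := by
        apply MvPolynomial.algHom_ext
        intro j
        rw [hom2_X]
        simp [z]
      refine ⟨r, fun i => aeval z (y' i), fun i => isInt_aeval z hz _ (hy'int i), ?_, ?_⟩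
      all_goals
        have hcomp : (Ideal.Quotient.mkₐ k I).comp (aeval fun i => aeval z (y' i)) =
            (NoetherNormalization.hom2 f I).comp (aeval y') := by
          apply MvPolynomial.algHom_ext
          intro i
          rw [hhom2]
          simp
      · rw [hcomp]
        intro a b hab
        apply injg
        simp only [AlgHom.coe_comp, Function.comp_apply] at hab ⊢
        apply Ideal.kerLiftAlg_injective (NoetherNormalization.hom2 f I)
        simp only [Ideal.Quotient.mkₐ_eq_mk, Ideal.kerLiftAlg_mk]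
        exact hab
      · rw [hcomp]
        have comp : (Ideal.kerLiftAlg (NoetherNormalization.hom2 f I)).comp
            (Ideal.Quotient.mkₐ k <| RingHom.ker <| NoetherNormalization.hom2 f I) =
              (NoetherNormalization.hom2 f I) :=
          AlgHom.ext fun a => by
            simp only [AlgHom.coe_comp, Ideal.Quotient.mkₐ_eq_mk, Function.comp_apply, Ideal.kerLiftAlg_mk]
        have h1 : (Ideal.kerLiftAlg (NoetherNormalization.hom2 f I)).toRingHom.IsIntegral :=
          (comp ▸ NoetherNormalization.hom2_isIntegral f I fne fi).tower_top _ _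
        have h2 := intg.trans _ _ h1
        have h3 : ((NoetherNormalization.hom2 f I).comp (aeval y')).toRingHom =
            (Ideal.kerLiftAlg (NoetherNormalization.hom2 f I)).toRingHom.comp
              ((Ideal.Quotient.mkₐ k (RingHom.ker (NoetherNormalization.hom2 f I))).comp
                (aeval y')).toRingHom := by
          refine RingHom.ext fun p => ?_
          simp only [AlgHom.toRingHom_eq_coe, RingHom.coe_coe, AlgHom.coe_comp, Function.comp_apply,
            RingHom.coe_comp, Ideal.Quotient.mkₐ_eq_mk, Ideal.kerLiftAlg_mk]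
        rw [h3]
        exact h2


/-- Let k be a field and S = k[x_1, …, x_n]/I with I a proper ideal. Then there exist r ≥ 0 and elements
y_1, …, y_r of k[x_1, …, x_n] lying in the subring generated by x_1, …, x_n (polynomials with
integer coefficients) such that the k-algebra map from the polynomial ring k[t_1, …, t_r] to S
sending t_i to the class of y_i is injective and finite; and for any r ≥ 0 and any y_1, …, y_r in
k[x_1, …, x_n] (with or without the integer-coefficient condition) for which that map is injective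
and finite, r is the Krull dimension of S. -/
theorem result (k : Type u) [Field k] (n : ℕ) (I : Ideal (MvPolynomial (Fin n) k))
    (hI : I ≠ ⊤) :
    (∃ (r : ℕ) (y : Fin r → MvPolynomial (Fin n) k),
      (∀ i, y i ∈ Set.range (MvPolynomial.map (Int.castRingHom k) : MvPolynomial (Fin n) ℤ → MvPolynomial (Fin n) k)) ∧
      Function.Injective ((Ideal.Quotient.mkₐ k I).comp (MvPolynomial.aeval y)) ∧
      ((Ideal.Quotient.mkₐ k I).comp (MvPolynomial.aeval y)).toRingHom.Finite) ∧
    ∀ (r : ℕ) (y : Fin r → MvPolynomial (Fin n) k),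
      Function.Injective ((Ideal.Quotient.mkₐ k I).comp (MvPolynomial.aeval y)) →
      ((Ideal.Quotient.mkₐ k I).comp (MvPolynomial.aeval y)).toRingHom.Finite →
      ringKrullDim (MvPolynomial (Fin n) k ⧸ I) = r := by
  constructor
  · obtain ⟨r, y, hyint, hinj, hint⟩ := exists_int_y k n I hI
    refine ⟨r, y, hyint, hinj, ?_⟩
    have fin : Algebra.FiniteType k (MvPolynomial (Fin n) k ⧸ I) := inferInstance
    have h : algebraMap k (MvPolynomial (Fin n) k ⧸ I) =
        ((Ideal.Quotient.mkₐ k I).comp (MvPolynomial.aeval y)).toRingHom.comp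
          (algebraMap k (MvPolynomial (Fin r) k)) := by
      ext c
      simp only [AlgHom.toRingHom_eq_coe, RingHom.coe_comp, RingHom.coe_coe, Function.comp_apply,
        AlgHom.commutes]
    exact hint.to_finite (h ▸ RingHom.finiteType_algebraMap.mpr fin).of_comp_finiteType
  · intro r y hinj hfin
    let alg : Algebra (MvPolynomial (Fin r) k) (MvPolynomial (Fin n) k ⧸ I) :=
      ((Ideal.Quotient.mkₐ k I).comp (MvPolynomial.aeval y)).toRingHom.toAlgebra
    have hmf : Module.Finite (MvPolynomial (Fin r) k) (MvPolynomial (Fin n) k ⧸ I) := hfin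
    have hint : Algebra.IsIntegral (MvPolynomial (Fin r) k) (MvPolynomial (Fin n) k ⧸ I) :=
      inferInstance
    have h := (Groth.Agent.S5763.result (MvPolynomial (Fin r) k) (MvPolynomial (Fin n) k ⧸ I)).2 hinj
    rw [h, MvPolynomial.ringKrullDim_of_isNoetherianRing, ringKrullDim_eq_zero_of_field]
    simp

end Groth.Agent.S12208
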