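import Groth.Statements.S12209
import Mathlib.RingTheory.Flat.EquationalCriterion
import Mathlib.Algebra.Colimit.Ring

set_option autoImplicit false
universe u
open CAlg

namespace Groth.Agent.S12209

/-- Let (R_i) be a system of commutative rings over a nonempty directed preorder, with colimit R, and
let M be an R-module which is flat as an R_i-module for every i (the R_i-module structure being
restriction of scalars along R_i → R). Then M is flat as an R-module. -/
theorem result {ι : Type u} [Preorder ι] [Nonempty ι] [IsDirectedOrder ι]
    (G : ι → Type u) [∀ i, CommRing (G i)] (f : ∀ i j, i ≤ j → G i →+* G j)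
    [DirectedSystem G fun i j h => f i j h]
    (M : Type u) [AddCommGroup M] [Module (Ring.DirectLimit G fun i j h => f i j h) M]
    (hflat : ∀ i, letI : Module (G i) M := Module.compHom M (Ring.DirectLimit.of G (fun i j h => f i j h) i);
      Module.Flat (G i) M) :
    Module.Flat (Ring.DirectLimit G fun i j h => f i j h) M := by
  apply Module.Flat.of_forall_isTrivialRelation
  intro l r x hrx
  have h1 : ∀ k : Fin l, ∃ i, ∃ g : G i,
      Ring.DirectLimit.of G (fun i j h => f i j h) i g = r k :=
    fun k => Ring.DirectLimit.exists_of (r k)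
  choose ik gk hgk using h1
  obtain ⟨i, hi⟩ := Finite.exists_le ik
  have hg' : ∀ k, Ring.DirectLimit.of G (fun i j h => f i j h) i (f (ik k) i (hi k) (gk k)) = r k :=
    fun k => by rw [Ring.DirectLimit.of_f, hgk]
  letI inst : Module (G i) M :=
    Module.compHom M (Ring.DirectLimit.of G (fun i j h => f i j h) i)
  have hfl : Module.Flat (G i) M := hflat i
  have hsum : ∑ k, (f (ik k) i (hi k) (gk k)) • x k = 0 := by
    rw [← hrx]
    refine Finset.sum_congr rfl fun k _ => ?_
    change (Ring.DirectLimit.of G (fun i j h => f i j h) i (f (ik k) i (hi k) (gk k))) • x k = _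
    rw [hg']
  obtain ⟨m, a, y, hxy, ha⟩ := Module.Flat.isTrivialRelation_of_sum_smul_eq_zero hsum
  refine ⟨m, fun k j => Ring.DirectLimit.of G (fun i j h => f i j h) i (a k j), y, ?_, ?_⟩
  · intro k
    rw [hxy k]
    rfl
  · intro j
    have := congrArg (Ring.DirectLimit.of G (fun i j h => f i j h) i) (ha j)
    rw [map_sum, map_zero] at this
    rw [← this]
    refine Finset.sum_congr rfl fun k _ => ?_
    rw [map_mul, hg']

end Groth.Agent.S12209
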