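import Groth.Statements.S12216
import Mathlib
import Groth.Agent.Lib.Helper12.CSA2

set_option autoImplicit false
universe u v w
open scoped TensorProduct
open Curves

namespace Groth.Agent.S12216

section helpers
open Groth.Agent.Lib.helper12.CSA

theorem isCentral_of_algEquiv' {K : Type*} [Field K] {B : Type*} {C : Type*} [Ring B] [Ring C]
    [Algebra K B] [Algebra K C] (e : B ≃ₐ[K] C) [Algebra.IsCentral K C] : Algebra.IsCentral K B := by
  refine ⟨fun z hz => ?_⟩
  rw [Subalgebra.mem_center_iff] at hz
  have h1 : e z ∈ Subalgebra.center K C := by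
    rw [Subalgebra.mem_center_iff]
    intro c
    have := congrArg e (hz (e.symm c))
    simpa using this
  obtain ⟨r, hr⟩ := Algebra.mem_bot.mp (Algebra.IsCentral.out h1)
  exact Algebra.mem_bot.mpr ⟨r, e.injective (by rw [← hr, e.commutes])⟩

theorem main (k : Type u) [Field k] (A : Type v) [Ring A] [Algebra k A] :
    (Algebra.IsCentral k A ∧ IsSimpleRing A ∧ FiniteDimensional k A) ↔
      Curves.Splits k A (AlgebraicClosure k) := by
  constructor
  · rintro ⟨h1, h2, h3⟩
    have := isCentral_baseChange k (AlgebraicClosure k) A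
    have : IsSimpleRing (AlgebraicClosure k ⊗[k] A) := Groth.Agent.S0190.main k _ A
    obtain ⟨n, hn, ⟨e⟩⟩ := IsSimpleRing.exists_algEquiv_matrix_of_isAlgClosed (AlgebraicClosure k)
      (AlgebraicClosure k ⊗[k] A)
    exact ⟨n, hn.out, ⟨e⟩⟩
  · rintro ⟨n, hn, ⟨e⟩⟩
    have : NeZero n := ⟨hn⟩
    have : Algebra.IsCentral (AlgebraicClosure k) (AlgebraicClosure k ⊗[k] A) :=
      isCentral_of_algEquiv' e
    have : IsSimpleRing (AlgebraicClosure k ⊗[k] A) :=
      IsSimpleRing.of_ringEquiv e.symm.toRingEquiv inferInstance
    have : FiniteDimensional (AlgebraicClosure k) (AlgebraicClosure k ⊗[k] A) :=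
      Module.Finite.equiv e.symm.toLinearEquiv
    exact ⟨isCentral_of_baseChange k (AlgebraicClosure k) A,
      isSimpleRing_of_baseChange k (AlgebraicClosure k) A,
      finiteDimensional_of_baseChange k (AlgebraicClosure k) A⟩
end helpers

/-- (1) ⇔ (3): a K-algebra A is finite central simple over the field K (finite-dimensional, with centre
K and no non-trivial two-sided ideals) if and only if, for an algebraic closure K̄ of K, the
K̄-algebra K̄ ⊗_K A is isomorphic to a matrix algebra Mat(d × d, K̄) for some d ≥ 1. -/
theorem result (K : Type u) [Field K] (A : Type v) [Ring A] [Algebra K A] :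
    (Algebra.IsCentral K A ∧ IsSimpleRing A ∧ FiniteDimensional K A) ↔
      Curves.Splits K A (AlgebraicClosure K) := by
  exact main K A

end Groth.Agent.S12216
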