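import Groth.Statements.S12228
import Mathlib
-- import your own Groth.Agent.* helpers here

set_option autoImplicit false
universe w v u
open CategoryTheory CategoryTheory.Limits
open CohDer

namespace Groth.Agent.S12228

section helpers

open CategoryTheory Limits DerivedCategory Pretriangulated

variable {A : Type u} [Category.{v} A] [Abelian A]

theorem acyclic_truncLE (C : CochainComplex A ℤ) (hC : C.Acyclic) (n : ℤ) : (C.truncLE n).Acyclic := by
  have : C.IsLE n := by
    rw [CochainComplex.isLE_iff]; intro i _; exact hC i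
  intro i
  rw [exactAt_iff_of_quasiIsoAt (C.ιTruncLE n) i]
  exact hC i

theorem acyclic_truncGE (C : CochainComplex A ℤ) (hC : C.Acyclic) (n : ℤ) : (C.truncGE n).Acyclic := by
  have : C.IsGE n := by
    rw [CochainComplex.isGE_iff]; intro i _; exact hC i
  intro i
  rw [← exactAt_iff_of_quasiIsoAt (C.πTruncGE n) i]
  exact hC i

theorem isStrictlyLE_mappingCone {K L : CochainComplex A ℤ} (f : K ⟶ L)
    (n₁ n₂ n : ℤ) [K.IsStrictlyLE n₁] [L.IsStrictlyLE n₂] (hn₁ : n₁ ≤ n + 1)
    (hn₂ : n₂ ≤ n) :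
    (CochainComplex.mappingCone f).IsStrictlyLE n := by
  rw [CochainComplex.isStrictlyLE_iff]
  intro i hi
  simp only [CochainComplex.mappingCone.isZero_X_iff]
  exact ⟨K.isZero_of_isStrictlyLE n₁ _ (by lia), L.isZero_of_isStrictlyLE n₂ _ (by lia)⟩

variable [HasDerivedCategory.{w} A]

theorem part2 (K L : CochainComplex A ℤ) (a b a' b' : ℤ) [K.IsStrictlyGE a] [K.IsStrictlyLE b]
    [L.IsStrictlyGE a'] [L.IsStrictlyLE b']
    (f₁ f₂ : (HomotopyCategory.quotient _ _).obj K ⟶ (HomotopyCategory.quotient _ _).obj L)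
    (h : DerivedCategory.Qh.map f₁ = DerivedCategory.Qh.map f₂) :
    ∃ (L' : HomotopyCategory A (ComplexShape.up ℤ)) (m n : ℤ) (_ : CochainComplex.IsStrictlyGE L'.as m)
      (_ : CochainComplex.IsStrictlyLE L'.as n) (t : (HomotopyCategory.quotient _ _).obj L ⟶ L'),
        HomotopyCategory.quasiIso A (ComplexShape.up ℤ) t ∧ f₁ ≫ t = f₂ ≫ t := by
  rw [MorphismProperty.map_eq_iff_postcomp Qh (HomotopyCategory.quasiIso A (ComplexShape.up ℤ))] at h
  obtain ⟨Z, t₀, ht₀, heq⟩ := h
  rw [HomotopyCategory.quasiIso_eq_trW_subcategoryAcyclic, ObjectProperty.trW_iff'] at ht₀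
  obtain ⟨C, c, δ, hT, hC⟩ := ht₀
  have hd : (f₁ - f₂) ≫ t₀ = 0 := by rw [Preadditive.sub_comp, heq, sub_self]
  obtain ⟨e, he⟩ := Triangle.coyoneda_exact₂ _ hT (f₁ - f₂) hd
  obtain ⟨(C : CochainComplex A ℤ), rfl⟩ := HomotopyCategory.quotient_obj_surjective C
  obtain ⟨(e : K ⟶ C), rfl⟩ := (HomotopyCategory.quotient _ _).map_surjective e
  obtain ⟨(c : C ⟶ L), rfl⟩ := (HomotopyCategory.quotient _ _).map_surjective c
  rw [HomotopyCategory.quotient_obj_mem_subcategoryAcyclic_iff_acyclic] at hC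
  replace he : f₁ - f₂ = (HomotopyCategory.quotient _ _).map e ≫ (HomotopyCategory.quotient _ _).map c := he
  -- truncate
  let e₁ : K ⟶ C.truncLE b := inv (K.ιTruncLE b) ≫ CochainComplex.truncLEMap e b
  have he₁ : e₁ ≫ C.ιTruncLE b = e := by
    simp [e₁]
  let c₁ : C.truncLE b ⟶ L := C.ιTruncLE b ≫ c
  let C₂ := (C.truncLE b).truncGE a'
  let c₂ : C₂ ⟶ L := CochainComplex.truncGEMap c₁ a' ≫ inv (L.πTruncGE a')
  have hc₂ : (C.truncLE b).πTruncGE a' ≫ c₂ = c₁ := by
    simp [c₂]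
  have hC₂ : C₂.Acyclic := acyclic_truncGE _ (acyclic_truncLE C hC b) a'
  have hC₂GE : C₂.IsStrictlyGE a' := inferInstance
  have hC₂LE : C₂.IsStrictlyLE b := inferInstance
  have hcone := HomotopyCategory.mappingCone_triangleh_distinguished c₂
  refine ⟨(HomotopyCategory.quotient _ _).obj (CochainComplex.mappingCone c₂), a' - 1, max b b',
    CochainComplex.isStrictlyGE_mappingCone c₂ a' a' (a' - 1),
    isStrictlyLE_mappingCone c₂ b b' (max b b') (by lia) (by lia),
    (HomotopyCategory.quotient _ _).map (CochainComplex.mappingCone.inr c₂), ?_, ?_⟩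
  · rw [HomotopyCategory.quasiIso_eq_trW_subcategoryAcyclic]
    refine ((HomotopyCategory.subcategoryAcyclic A).trW_iff_of_distinguished' _ hcone).2 ?_
    exact (HomotopyCategory.quotient_obj_mem_subcategoryAcyclic_iff_acyclic _).2 hC₂
  · rw [← sub_eq_zero, ← Preadditive.sub_comp, he]
    have h0 : (HomotopyCategory.quotient _ _).map c₂ ≫
        (HomotopyCategory.quotient _ _).map (CochainComplex.mappingCone.inr c₂) = 0 :=
      comp_distTriang_mor_zero₁₂ _ hcone
    have h1 : e ≫ c = (e₁ ≫ (C.truncLE b).πTruncGE a') ≫ c₂ := by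
      rw [Category.assoc, hc₂, ← he₁, Category.assoc]
    rw [← Functor.map_comp, h1, Functor.map_comp, Category.assoc, h0, comp_zero]


theorem part1 (K L : CochainComplex A ℤ) (a b a' b' : ℤ) [K.IsStrictlyGE a] [K.IsStrictlyLE b]
    [L.IsStrictlyGE a'] [L.IsStrictlyLE b']
    (φ : DerivedCategory.Qh.obj ((HomotopyCategory.quotient _ _).obj K) ⟶
      DerivedCategory.Qh.obj ((HomotopyCategory.quotient _ _).obj L)) :
    ∃ (L' : HomotopyCategory A (ComplexShape.up ℤ)) (m n : ℤ) (_ : CochainComplex.IsStrictlyGE L'.as m)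
      (_ : CochainComplex.IsStrictlyLE L'.as n) (f : (HomotopyCategory.quotient _ _).obj K ⟶ L')
      (t : (HomotopyCategory.quotient _ _).obj L ⟶ L'),
        HomotopyCategory.quasiIso A (ComplexShape.up ℤ) t ∧
          φ ≫ DerivedCategory.Qh.map t = DerivedCategory.Qh.map f := by
  have h1 : K.IsStrictlyLE (max b b') := K.isStrictlyLE_of_le b _ (le_max_left _ _)
  have h2 : L.IsStrictlyLE (max b b') := L.isStrictlyLE_of_le b' _ (le_max_right _ _)
  obtain ⟨Y', hY'GE, hY'LE, g, s, hs, hφ⟩ :=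
    left_fac_of_isStrictlyLE_of_isStrictlyGE (X := K) (Y := L) a' (max b b') φ
  refine ⟨(HomotopyCategory.quotient _ _).obj Y', a', max b b', hY'GE, hY'LE,
    (HomotopyCategory.quotient _ _).map g, (HomotopyCategory.quotient _ _).map s, ?_, ?_⟩
  · rw [HomotopyCategory.quotient_map_mem_quasiIso_iff]
    rwa [isIso_Q_map_iff_quasiIso] at hs
  · rw [hφ]
    change (Q.map g ≫ inv (Q.map s)) ≫ Q.map s = Q.map g
    simp

theorem main12228 (K L : HomotopyCategory A (ComplexShape.up ℤ)) (a b a' b' : ℤ) [CochainComplex.IsStrictlyGE K.as a] [CochainComplex.IsStrictlyLE K.as b]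
    [CochainComplex.IsStrictlyGE L.as a'] [CochainComplex.IsStrictlyLE L.as b'] :
    (∀ φ : DerivedCategory.Qh.obj K ⟶ DerivedCategory.Qh.obj L,
      ∃ (L' : HomotopyCategory A (ComplexShape.up ℤ)) (m n : ℤ) (_ : CochainComplex.IsStrictlyGE L'.as m) (_ : CochainComplex.IsStrictlyLE L'.as n) (f : K ⟶ L') (t : L ⟶ L'),
        HomotopyCategory.quasiIso A (ComplexShape.up ℤ) t ∧ φ ≫ DerivedCategory.Qh.map t = DerivedCategory.Qh.map f) ∧
    (∀ f₁ f₂ : K ⟶ L, DerivedCategory.Qh.map f₁ = DerivedCategory.Qh.map f₂ →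
      ∃ (L' : HomotopyCategory A (ComplexShape.up ℤ)) (m n : ℤ) (_ : CochainComplex.IsStrictlyGE L'.as m) (_ : CochainComplex.IsStrictlyLE L'.as n) (t : L ⟶ L'),
        HomotopyCategory.quasiIso A (ComplexShape.up ℤ) t ∧ f₁ ≫ t = f₂ ≫ t) :=
  ⟨fun φ => part1 K.as L.as a b a' b' φ, fun f₁ f₂ h => part2 K.as L.as a b a' b' f₁ f₂ h⟩

end helpers

/-- Full faithfulness of Kᵇ(A)[Qis⁻¹] → Dᵇ(A), written in terms of roofs. Let A be an abelian category
and K, L bounded complexes (zero outside a finite range of degrees), viewed in the homotopy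
category. Then every morphism Qh(K) → Qh(L) in the derived category is Qh(f) ≫ Qh(t)⁻¹ for some map
f : K → L' and quasi-isomorphism t : L → L' of K(A) with L' again bounded; and two maps f₁, f₂ : K →
L of K(A) become equal in D(A) only if f₁ ≫ t = f₂ ≫ t for some quasi-isomorphism t : L → L' with L'
bounded. -/
theorem result {A : Type u} [Category.{v} A] [Abelian A] [HasDerivedCategory.{w} A]
    (K L : HomotopyCategory A (ComplexShape.up ℤ)) (a b a' b' : ℤ) [CochainComplex.IsStrictlyGE K.as a] [CochainComplex.IsStrictlyLE K.as b]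
    [CochainComplex.IsStrictlyGE L.as a'] [CochainComplex.IsStrictlyLE L.as b'] :
    (∀ φ : DerivedCategory.Qh.obj K ⟶ DerivedCategory.Qh.obj L,
      ∃ (L' : HomotopyCategory A (ComplexShape.up ℤ)) (m n : ℤ) (_ : CochainComplex.IsStrictlyGE L'.as m) (_ : CochainComplex.IsStrictlyLE L'.as n) (f : K ⟶ L') (t : L ⟶ L'),
        HomotopyCategory.quasiIso A (ComplexShape.up ℤ) t ∧ φ ≫ DerivedCategory.Qh.map t = DerivedCategory.Qh.map f) ∧
    (∀ f₁ f₂ : K ⟶ L, DerivedCategory.Qh.map f₁ = DerivedCategory.Qh.map f₂ →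
      ∃ (L' : HomotopyCategory A (ComplexShape.up ℤ)) (m n : ℤ) (_ : CochainComplex.IsStrictlyGE L'.as m) (_ : CochainComplex.IsStrictlyLE L'.as n) (t : L ⟶ L'),
        HomotopyCategory.quasiIso A (ComplexShape.up ℤ) t ∧ f₁ ≫ t = f₂ ≫ t) := by
  exact main12228 K L a b a' b'

end Groth.Agent.S12228
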