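import Groth.Statements.S12229
import Mathlib.Algebra.Homology.DerivedCategory.ShortExact
import Mathlib.CategoryTheory.Abelian.Exact
-- import your own Groth.Agent.* helpers here

set_option autoImplicit false
set_option linter.style.haveILetI false
universe w w' v v' u u'
open CategoryTheory CategoryTheory.Limits
open CohDer

namespace Groth.Agent.S12229


section Helpers

/-- In an abelian category: `kernelSubobject g = imageSubobject f` implies `f ≫ g = 0`. -/
theorem comp_eq_zero_of_kernel_eq_image {A : Type*} [Category A] [Abelian A] {X Y Z : A}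
    (f : X ⟶ Y) (g : Y ⟶ Z) (h : kernelSubobject g = imageSubobject f) : f ≫ g = 0 := by
  have h1 : (imageSubobject f).arrow ≫ g = 0 := by
    rw [← Subobject.ofLE_arrow (le_of_eq h.symm), Category.assoc, kernelSubobject_arrow_comp,
      comp_zero]
  rw [← imageSubobject_arrow_comp f, Category.assoc, h1, comp_zero]

theorem shortExact_of_kernel_eq_image {A : Type*} [Category A] [Abelian A] {X Y Z : A}
    (f : X ⟶ Y) (g : Y ⟶ Z) [Mono f] [Epi g] (h : kernelSubobject g = imageSubobject f) :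
    (ShortComplex.mk f g (comp_eq_zero_of_kernel_eq_image f g h)).ShortExact := by
  refine ShortComplex.ShortExact.mk' ?_ inferInstance inferInstance
  rw [ShortComplex.exact_iff_image_eq_kernel]
  exact h.symm


/-- Transport of a long exact sequence along isomorphisms. -/
theorem transport_exact {A : Type*} [Category A] [Abelian A]
    {A₁ A₂ A₃ A₁' A₂' B₁ B₂ B₃ B₁' B₂' : A}
    (a : A₁ ⟶ A₂) (b : A₂ ⟶ A₃) (a' : A₁' ⟶ A₂')
    (b₁ : B₁ ⟶ B₂) (b₂ : B₂ ⟶ B₃) (d : B₃ ⟶ B₁') (b₁' : B₁' ⟶ B₂')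
    (w₁ : b₁ ≫ b₂ = 0) (w₂ : b₂ ≫ d = 0) (w₃ : d ≫ b₁' = 0)
    (h₁ : (ShortComplex.mk b₁ b₂ w₁).Exact) (h₂ : (ShortComplex.mk b₂ d w₂).Exact)
    (h₃ : (ShortComplex.mk d b₁' w₃).Exact)
    (t₁ : A₁ ≅ B₁) (t₂ : A₂ ≅ B₂) (t₃ : A₃ ≅ B₃) (t₁' : A₁' ≅ B₁') (t₂' : A₂' ≅ B₂')
    (c₁ : a ≫ t₂.hom = t₁.hom ≫ b₁) (c₂ : b ≫ t₃.hom = t₂.hom ≫ b₂)
    (c₁' : a' ≫ t₂'.hom = t₁'.hom ≫ b₁') :
    kernelSubobject b = imageSubobject a ∧
      ∃ δ : A₃ ⟶ A₁', kernelSubobject δ = imageSubobject b ∧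
        kernelSubobject a' = imageSubobject δ := by
  have wa : a ≫ b = 0 := by
    rw [← cancel_mono t₃.hom, Category.assoc, c₂, ← Category.assoc, c₁, Category.assoc, w₁,
      comp_zero, zero_comp]
  have wb : b ≫ (t₃.hom ≫ d ≫ t₁'.inv) = 0 := by
    rw [← Category.assoc, c₂, Category.assoc, ← Category.assoc b₂, w₂, zero_comp, comp_zero]
  have wd : (t₃.hom ≫ d ≫ t₁'.inv) ≫ a' = 0 := by
    rw [← cancel_mono t₂'.hom, Category.assoc, Category.assoc, Category.assoc, c₁',
      t₁'.inv_hom_id_assoc, w₃, comp_zero, zero_comp]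
  have e₁ : ShortComplex.mk a b wa ≅ ShortComplex.mk b₁ b₂ w₁ :=
    ShortComplex.isoMk t₁ t₂ t₃ c₁.symm c₂.symm
  have e₂ : ShortComplex.mk b (t₃.hom ≫ d ≫ t₁'.inv) wb ≅ ShortComplex.mk b₂ d w₂ :=
    ShortComplex.isoMk t₂ t₃ t₁' c₂.symm (by simp)
  have e₃ : ShortComplex.mk (t₃.hom ≫ d ≫ t₁'.inv) a' wd ≅ ShortComplex.mk d b₁' w₃ :=
    ShortComplex.isoMk t₃ t₁' t₂' (by simp) c₁'.symm
  have x₁ := (ShortComplex.exact_iff_of_iso e₁).2 h₁
  have x₂ := (ShortComplex.exact_iff_of_iso e₂).2 h₂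
  have x₃ := (ShortComplex.exact_iff_of_iso e₃).2 h₃
  rw [ShortComplex.exact_iff_image_eq_kernel] at x₁ x₂ x₃
  exact ⟨x₁.symm, _, x₂.symm, x₃.symm⟩

end Helpers

/-- Let F : C → D be a left exact functor between abelian categories with C having enough injectives,
and let 0 → X₁ → X₂ → X₃ → 0 be a short exact sequence of bounded below complexes of C (maps f, g
with f a monomorphism, g an epimorphism and ker g = im f, degreewise). Then there is a long exact
cohomology sequence … → H^i(RF X₁) → H^i(RF X₂) → H^i(RF X₃) → H^{i+1}(RF X₁) → …: for every i the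
induced sequence is exact at H^i(RF X₂), and there is a connecting morphism H^i(RF X₃) → H^{i+1}(RF
X₁) with exactness at H^i(RF X₃) and at H^{i+1}(RF X₁). Here RF is the right derived functor on the
bounded below derived category and H^i is computed in D(D); exactness is expressed as equality of
kernel and image subobjects. Existence of such a connecting morphism only; the canonical one coming
from the distinguished triangle of the short exact sequence is not named. -/
theorem result {C : Type u} [Category.{v} C] [Abelian C] [HasDerivedCategory.{w} C]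
    [EnoughInjectives C] {D : Type u'} [Category.{v'} D] [Abelian D] [HasDerivedCategory.{w'} D]
    (F : C ⥤ D) [F.Additive] [PreservesFiniteLimits F]
    {X₁ X₂ X₃ : CochainComplex.Plus C} (f : X₁ ⟶ X₂) (g : X₂ ⟶ X₃)
    (hf : Mono ((CochainComplex.Plus.ι C).map f)) (hg : Epi ((CochainComplex.Plus.ι C).map g))
    (hex : kernelSubobject ((CochainComplex.Plus.ι C).map g) = imageSubobject ((CochainComplex.Plus.ι C).map f))
    (i : ℤ) :
    let Φ := HomotopyCategory.Plus.quotient C ⋙ DerivedCategory.Plus.Qh ⋙ F.rightDerivedFunctorPlus ⋙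
      DerivedCategory.Plus.ι ⋙ DerivedCategory.homologyFunctor D i
    let Ψ := HomotopyCategory.Plus.quotient C ⋙ DerivedCategory.Plus.Qh ⋙ F.rightDerivedFunctorPlus ⋙
      DerivedCategory.Plus.ι ⋙ DerivedCategory.homologyFunctor D (i + 1)
    kernelSubobject (Φ.map g) = imageSubobject (Φ.map f) ∧
      ∃ δ : Φ.obj X₃ ⟶ Ψ.obj X₁,
        kernelSubobject δ = imageSubobject (Φ.map g) ∧ kernelSubobject (Ψ.map f) = imageSubobject δ := by
  intro Φ Ψ
  -- notation
  let quot := HomotopyCategory.Plus.quotient C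
  let Qp : HomotopyCategory.Plus C ⥤ DerivedCategory.Plus C := DerivedCategory.Plus.Qh
  let ιp : DerivedCategory.Plus C ⥤ DerivedCategory C := DerivedCategory.Plus.ι
  let J := (InjectiveObject.ι C).mapHomotopyCategoryPlus
  -- the short exact sequence and its triangle
  haveI := hf
  haveI := hg
  let S : ShortComplex (CochainComplex C ℤ) :=
    ShortComplex.mk ((CochainComplex.Plus.ι C).map f) ((CochainComplex.Plus.ι C).map g)
      (comp_eq_zero_of_kernel_eq_image _ _ hex)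
  have hS : S.ShortExact := shortExact_of_kernel_eq_image _ _ hex
  let e : ∀ X : CochainComplex.Plus C, ιp.obj (Qp.obj (quot.obj X)) ≅ DerivedCategory.Q.obj X.obj :=
    fun X => (DerivedCategory.quotientCompQhIso C).app X.obj
  have he : ∀ {X Y : CochainComplex.Plus C} (u : X ⟶ Y),
      ιp.map (Qp.map (quot.map u)) ≫ (e Y).hom = (e X).hom ≫ DerivedCategory.Q.map u.hom :=
    fun u => (DerivedCategory.quotientCompQhIso C).hom.naturality u.hom
  have hTX : Pretriangulated.Triangle.mk (ιp.map (Qp.map (quot.map f))) (ιp.map (Qp.map (quot.map g)))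
      ((e X₃).hom ≫ DerivedCategory.triangleOfSESδ hS ≫
        (shiftFunctor (DerivedCategory C) (1 : ℤ)).map (e X₁).inv) ∈
      Pretriangulated.distinguishedTriangles := by
    refine Pretriangulated.isomorphic_distinguished _
      (DerivedCategory.triangleOfSES_distinguished hS) _ ?_
    refine Pretriangulated.Triangle.isoMk _ _ (e X₁) (e X₂) (e X₃) ?_ ?_ ?_
    · exact he f
    · exact he g
    · show ((e X₃).hom ≫ DerivedCategory.triangleOfSESδ hS ≫
          (shiftFunctor (DerivedCategory C) (1 : ℤ)).map (e X₁).inv) ≫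
          (shiftFunctor (DerivedCategory C) (1 : ℤ)).map (e X₁).hom =
          (e X₃).hom ≫ DerivedCategory.triangleOfSESδ hS
      simp only [Category.assoc, ← Functor.map_comp, Iso.inv_hom_id, CategoryTheory.Functor.map_id,
        Category.comp_id]
  -- arrow resolution of `quot f` by bounded below complexes of injectives
  obtain ⟨r⟩ : Nonempty ((HomotopyCategory.Plus.localizerMorphism C).arrow.RightResolution
    (Arrow.mk (quot.map f))) := inferInstance
  let Y₁ := r.X₁.left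
  let Y₂ := r.X₁.right
  let φ : Y₁ ⟶ Y₂ := r.X₁.hom
  let α₁ : quot.obj X₁ ⟶ J.obj Y₁ := r.w.left
  let α₂ : quot.obj X₂ ⟶ J.obj Y₂ := r.w.right
  have hα : α₁ ≫ J.map φ = quot.map f ≫ α₂ := r.w.w
  have i₁ : IsIso (Qp.map α₁) :=
    Localization.inverts Qp (HomotopyCategory.Plus.quasiIso C) _ r.hw.1
  have i₂ : IsIso (Qp.map α₂) :=
    Localization.inverts Qp (HomotopyCategory.Plus.quasiIso C) _ r.hw.2
  obtain ⟨Y₃, ψ, χ, hTY⟩ := Pretriangulated.distinguished_cocone_triangle φ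
  have hTI := (Qp ⋙ ιp).map_distinguished _ (J.map_distinguished _ hTY)
  -- isomorphism of triangles in `D(C)`
  have j₁ : IsIso (ιp.map (Qp.map α₁)) := Functor.map_isIso ιp (Qp.map α₁)
  have j₂ : IsIso (ιp.map (Qp.map α₂)) := Functor.map_isIso ιp (Qp.map α₂)
  let E := Pretriangulated.isoTriangleOfIso₁₂ _ _ hTX hTI
    (@asIso _ _ _ _ (ιp.map (Qp.map α₁)) j₁) (@asIso _ _ _ _ (ιp.map (Qp.map α₂)) j₂)
    (by
      show ιp.map (Qp.map (quot.map f)) ≫ ιp.map (Qp.map α₂) =
        ιp.map (Qp.map α₁) ≫ ιp.map (Qp.map (J.map φ))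
      rw [← Functor.map_comp, ← Functor.map_comp, ← Functor.map_comp, ← Functor.map_comp, hα])
  let ε₃ : Qp.obj (quot.obj X₃) ≅ Qp.obj (J.obj Y₃) :=
    ιp.preimageIso (Pretriangulated.Triangle.π₃.mapIso E)
  have hε₃ : Qp.map (quot.map g) ≫ ε₃.hom = Qp.map α₂ ≫ Qp.map (J.map ψ) := by
    apply ιp.map_injective
    have h1 := E.hom.comm₂
    have h2 : ιp.map ε₃.hom = E.hom.hom₃ := by
      show ιp.map (ιp.preimageIso (Pretriangulated.Triangle.π₃.mapIso E)).hom = _
      rw [Functor.preimageIso_hom, Functor.map_preimage]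
      rfl
    have h3 : E.hom.hom₂ = ιp.map (Qp.map α₂) := rfl
    rw [Functor.map_comp, Functor.map_comp, h2]
    rw [h3] at h1
    exact h1
  -- the unit of the derived functor
  let RF := F.rightDerivedFunctorPlus
  let G : HomotopyCategory.Plus C ⥤ DerivedCategory.Plus D :=
    F.mapHomotopyCategoryPlus ⋙ DerivedCategory.Plus.Qh
  let η : G ⟶ Qp ⋙ RF := F.rightDerivedFunctorPlusUnit
  have k₁ : IsIso (η.app (J.obj Y₁)) := inferInstance
  have k₂ : IsIso (η.app (J.obj Y₂)) := inferInstance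
  have k₃ : IsIso (η.app (J.obj Y₃)) := inferInstance
  have R1 : RF.map (Qp.map (quot.map f)) ≫ RF.map (Qp.map α₂) ≫ inv (η.app (J.obj Y₂)) =
      (RF.map (Qp.map α₁) ≫ inv (η.app (J.obj Y₁))) ≫ G.map (J.map φ) := by
    rw [← cancel_mono (η.app (J.obj Y₂))]
    have hn := η.naturality (J.map φ)
    simp only [Category.assoc, IsIso.inv_hom_id, Category.comp_id]
    rw [hn, IsIso.inv_hom_id_assoc]
    show RF.map (Qp.map (quot.map f)) ≫ RF.map (Qp.map α₂) =
      RF.map (Qp.map α₁) ≫ RF.map (Qp.map (J.map φ))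
    rw [← Functor.map_comp, ← Functor.map_comp, ← Functor.map_comp, ← Functor.map_comp, hα]
  have R2 : RF.map (Qp.map (quot.map g)) ≫ RF.map ε₃.hom ≫ inv (η.app (J.obj Y₃)) =
      (RF.map (Qp.map α₂) ≫ inv (η.app (J.obj Y₂))) ≫ G.map (J.map ψ) := by
    rw [← cancel_mono (η.app (J.obj Y₃))]
    have hn := η.naturality (J.map ψ)
    simp only [Category.assoc, IsIso.inv_hom_id, Category.comp_id]
    rw [hn, IsIso.inv_hom_id_assoc]
    show RF.map (Qp.map (quot.map g)) ≫ RF.map ε₃.hom =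
      RF.map (Qp.map α₂) ≫ RF.map (Qp.map (J.map ψ))
    rw [← Functor.map_comp, ← Functor.map_comp, hε₃]
  -- the distinguished triangle in `D(D)` and its long exact sequence
  let ιp' : DerivedCategory.Plus D ⥤ DerivedCategory D := DerivedCategory.Plus.ι
  have hT := (G ⋙ ιp').map_distinguished _ (J.map_distinguished _ hTY)
  let T := (G ⋙ ιp').mapTriangle.obj (J.mapTriangle.obj (Pretriangulated.Triangle.mk φ ψ χ))
  let Hn : ℤ → DerivedCategory.Plus D ⥤ D := fun n => ιp' ⋙ DerivedCategory.homologyFunctor D n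
  let θ₁ : RF.obj (Qp.obj (quot.obj X₁)) ≅ G.obj (J.obj Y₁) :=
    RF.mapIso (@asIso _ _ _ _ (Qp.map α₁) i₁) ≪≫ (@asIso _ _ _ _ (η.app (J.obj Y₁)) k₁).symm
  let θ₂ : RF.obj (Qp.obj (quot.obj X₂)) ≅ G.obj (J.obj Y₂) :=
    RF.mapIso (@asIso _ _ _ _ (Qp.map α₂) i₂) ≪≫ (@asIso _ _ _ _ (η.app (J.obj Y₂)) k₂).symm
  let θ₃ : RF.obj (Qp.obj (quot.obj X₃)) ≅ G.obj (J.obj Y₃) :=
    RF.mapIso ε₃ ≪≫ (@asIso _ _ _ _ (η.app (J.obj Y₃)) k₃).symm
  have R1' : RF.map (Qp.map (quot.map f)) ≫ θ₂.hom = θ₁.hom ≫ G.map (J.map φ) := R1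
  have R2' : RF.map (Qp.map (quot.map g)) ≫ θ₃.hom = θ₂.hom ≫ G.map (J.map ψ) := R2
  refine transport_exact (Φ.map f) (Φ.map g) (Ψ.map f)
    ((DerivedCategory.homologyFunctor D i).map T.mor₁)
    ((DerivedCategory.homologyFunctor D i).map T.mor₂)
    (DerivedCategory.HomologySequence.δ T i (i + 1) rfl)
    ((DerivedCategory.homologyFunctor D (i + 1)).map T.mor₁)
    _ _ _ (DerivedCategory.HomologySequence.exact₂ T hT i)
    (DerivedCategory.HomologySequence.exact₃ T hT i (i + 1) rfl)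
    (DerivedCategory.HomologySequence.exact₁ T hT i (i + 1) rfl)
    ((Hn i).mapIso θ₁) ((Hn i).mapIso θ₂) ((Hn i).mapIso θ₃)
    ((Hn (i + 1)).mapIso θ₁) ((Hn (i + 1)).mapIso θ₂) ?_ ?_ ?_
  · show (Hn i).map (RF.map (Qp.map (quot.map f))) ≫ (Hn i).map θ₂.hom =
      (Hn i).map θ₁.hom ≫ (Hn i).map (G.map (J.map φ))
    rw [← Functor.map_comp, ← Functor.map_comp, R1']
  · show (Hn i).map (RF.map (Qp.map (quot.map g))) ≫ (Hn i).map θ₃.hom =
      (Hn i).map θ₂.hom ≫ (Hn i).map (G.map (J.map ψ))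
    rw [← Functor.map_comp, ← Functor.map_comp, R2']
  · show (Hn (i + 1)).map (RF.map (Qp.map (quot.map f))) ≫ (Hn (i + 1)).map θ₂.hom =
      (Hn (i + 1)).map θ₁.hom ≫ (Hn (i + 1)).map (G.map (J.map φ))
    rw [← Functor.map_comp, ← Functor.map_comp, R1']

end Groth.Agent.S12229
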