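import Groth.Statements.S1223
import Groth.Agent.Lib.Helper26.Purity2

set_option autoImplicit false
universe u
open FlatMor

namespace Groth.Agent.S1223

/-- Ring form, X = Spec B affine: a finite type, flat A-algebra B with geometrically integral fibres is
universally pure relative to Spec A. -/
theorem result {A B : Type u} [CommRing A] [CommRing B] [Algebra A B] [Algebra.FiniteType A B] [Module.Flat A B]
    (h : FlatCA.GeomIntegralFibres A B) : FlatCA.IsUnivPure A B B := by
  exact Groth.Agent.Lib.helper26.Purity.isUnivPure_of_flat_geomIntegralFibres h

end Groth.Agent.S1223
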