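import Groth.Statements.S12230
import Mathlib

set_option autoImplicit false
universe v u
open CategoryTheory
open FibCat

namespace Groth.Agent.S12230

set_option backward.isDefEq.respectTransparency false
set_option backward.isDefEq.respectTransparency.types false

section Construction

variable {C : Type u} [Category.{v} C] {𝒳 𝒴 : BasedCategory.{v, max u v} C} (F : 𝒳 ⥤ᵇ 𝒴)

/-- two base morphisms lifted by the same morphism agree -/
theorem lift_unique {𝒵 : Type*} [Category 𝒵] (p : 𝒵 ⥤ C) {R S : C} (f f' : R ⟶ S) {a b : 𝒵} (φ : a ⟶ b)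
    [p.IsHomLift f φ] [p.IsHomLift f' φ] : f = f' := by
  have h1 := IsHomLift.fac p f φ
  have h2 := IsHomLift.fac p f' φ
  rw [h1, h2]

/-- objects of `𝒳'`: a vertical morphism `y ⟶ F x` -/
structure Obj where
  /-- the object of `𝒳` -/
  x : 𝒳.obj
  /-- the object of `𝒴` -/
  y : 𝒴.obj
  /-- the vertical morphism -/
  f : y ⟶ F.toFunctor.obj x
  /-- verticality -/
  hf : 𝒴.p.IsHomLift (𝟙 (𝒳.p.obj x)) f

attribute [instance] Obj.hf

/-- morphisms of `𝒳'` -/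
@[ext]
structure Hom (A B : Obj F) where
  /-- the component in `𝒳` -/
  a : A.x ⟶ B.x
  /-- the component in `𝒴` -/
  b : A.y ⟶ B.y
  /-- compatibility -/
  w : A.f ≫ F.toFunctor.map a = b ≫ B.f

instance : Category.{v} (Obj F) where
  Hom A B := Hom F A B
  id A := ⟨𝟙 _, 𝟙 _, by simp⟩
  comp m n := ⟨m.a ≫ n.a, m.b ≫ n.b, by
    rw [F.toFunctor.map_comp, ← Category.assoc, m.w, Category.assoc, n.w, Category.assoc]⟩
  id_comp m := by apply Hom.ext <;> simp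
  comp_id m := by apply Hom.ext <;> simp
  assoc m n k := by apply Hom.ext <;> simp

@[simp] theorem id_a (A : Obj F) : (𝟙 A : A ⟶ A).a = 𝟙 A.x := rfl
@[simp] theorem id_b (A : Obj F) : (𝟙 A : A ⟶ A).b = 𝟙 A.y := rfl
@[simp] theorem comp_a {A B D : Obj F} (m : A ⟶ B) (n : B ⟶ D) : (m ≫ n).a = m.a ≫ n.a := rfl
@[simp] theorem comp_b {A B D : Obj F} (m : A ⟶ B) (n : B ⟶ D) : (m ≫ n).b = m.b ≫ n.b := rfl

theorem hom_ext' {A B : Obj F} {m n : A ⟶ B} (h1 : m.a = n.a) (h2 : m.b = n.b) : m = n :=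
  Hom.ext h1 h2

/-- `w : 𝒳' ⟶ 𝒳` -/
def wFun : Obj F ⥤ 𝒳.obj where
  obj A := A.x
  map m := m.a

/-- `v : 𝒳' ⟶ 𝒴` -/
def vFun : Obj F ⥤ 𝒴.obj where
  obj A := A.y
  map m := m.b

theorem obj_y_proj (A : Obj F) : 𝒴.p.obj A.y = 𝒳.p.obj A.x :=
  IsHomLift.domain_eq 𝒴.p (𝟙 (𝒳.p.obj A.x)) A.f

/-- the `𝒴`-component of a morphism lies over the image of its `𝒳`-component -/
instance hom_b_isHomLift {A B : Obj F} (m : A ⟶ B) : 𝒴.p.IsHomLift (𝒳.p.map m.a) m.b := by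
  have h1 : 𝒴.p.IsHomLift (𝒳.p.map m.a) (F.toFunctor.map m.a) := inferInstance
  have h2 : 𝒴.p.IsHomLift (𝟙 _ ≫ 𝒳.p.map m.a) (A.f ≫ F.toFunctor.map m.a) := inferInstance
  rw [m.w, Category.id_comp] at h2
  have hA := obj_y_proj F A
  have hB := obj_y_proj F B
  have e1 := IsHomLift.fac' 𝒴.p (𝒳.p.map m.a) (m.b ≫ B.f)
  have e2 := IsHomLift.fac' 𝒴.p (𝟙 (𝒳.p.obj B.x)) B.f
  apply IsHomLift.of_fac' 𝒴.p _ _ hA hB
  rw [𝒴.p.map_comp, e2] at e1
  simp only [Category.id_comp, ← Category.assoc] at e1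
  rw [cancel_mono] at e1
  rw [← cancel_mono (eqToHom hB)]
  simp only [Category.assoc, eqToHom_trans, eqToHom_refl, Category.comp_id]
  exact e1

/-- the based category `𝒳'` -/
def X' : BasedCategory.{v, max u v} C where
  obj := Obj F
  p := wFun F ⋙ 𝒳.p

/-- `w` as a functor over `C` -/
def wB : X' F ⥤ᵇ 𝒳 where
  toFunctor := wFun F
  w := rfl

/-- `v` as a functor over `C` -/
def vB : X' F ⥤ᵇ 𝒴 where
  toFunctor := vFun F
  w := by
    refine CategoryTheory.Functor.ext (fun (A : Obj F) => obj_y_proj F A) (fun (A B : Obj F) (m : A ⟶ B) => ?_)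
    exact IsHomLift.fac' 𝒴.p (𝒳.p.map m.a) m.b

/-- `u : 𝒳 ⟶ 𝒳'` -/
def uFun : 𝒳.obj ⥤ Obj F where
  obj x := ⟨x, F.toFunctor.obj x, 𝟙 _, IsHomLift.id (F.w_obj x)⟩
  map a := ⟨a, F.toFunctor.map a, by simp⟩

/-- `u` as a functor over `C` -/
def uB : 𝒳 ⥤ᵇ X' F where
  toFunctor := uFun F
  w := rfl

theorem uB_comp_vB : BasedFunctor.comp (uB F) (vB F) = F := rfl

end Construction

section Cartesian

variable {C : Type u} [Category.{v} C] {𝒳 𝒴 : BasedCategory.{v, max u v} C} (F : 𝒳 ⥤ᵇ 𝒴)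

theorem isHomLift_iff {A B : Obj F} {R S : C} (f : R ⟶ S) (m : A ⟶ B) :
    (X' F).p.IsHomLift f m ↔ 𝒳.p.IsHomLift f m.a := by
  constructor
  · intro h
    exact IsHomLift.of_fac' 𝒳.p f m.a (IsHomLift.domain_eq (X' F).p f m)
      (IsHomLift.codomain_eq (X' F).p f m) (IsHomLift.fac' (X' F).p f m)
  · intro h
    exact IsHomLift.of_fac' (X' F).p f m (IsHomLift.domain_eq 𝒳.p f m.a)
      (IsHomLift.codomain_eq 𝒳.p f m.a) (IsHomLift.fac' 𝒳.p f m.a)

theorem isHomLift_b {A B : Obj F} {R S : C} (f : R ⟶ S) (m : A ⟶ B) (h : 𝒳.p.IsHomLift f m.a) :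
    𝒴.p.IsHomLift f m.b := by
  have hR : 𝒳.p.obj A.x = R := IsHomLift.domain_eq 𝒳.p f m.a
  have hS : 𝒳.p.obj B.x = S := IsHomLift.codomain_eq 𝒳.p f m.a
  subst hR hS
  have e := lift_unique 𝒳.p f (𝒳.p.map m.a) m.a
  rw [e]
  infer_instance

variable (hF : FibCat.PreservesStronglyCartesian F)
include hF

theorem sc_univ {A B A'' : Obj F} (f : 𝒳.p.obj A.x ⟶ 𝒳.p.obj B.x) (m : A ⟶ B)
    (ha : 𝒳.p.IsStronglyCartesian f m.a) (hb : 𝒴.p.IsStronglyCartesian f m.b)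
    (g : 𝒳.p.obj A''.x ⟶ 𝒳.p.obj A.x) (m'' : A'' ⟶ B) (h1 : 𝒳.p.IsHomLift (g ≫ f) m''.a) :
    ∃! χ : A'' ⟶ A, 𝒳.p.IsHomLift g χ.a ∧ χ ≫ m = m'' := by
  have hFa : 𝒴.p.IsStronglyCartesian f (F.toFunctor.map m.a) := hF f m.a ha
  have h2 : 𝒴.p.IsHomLift (g ≫ f) m''.b := isHomLift_b F _ m'' h1
  let α : A''.x ⟶ A.x := Functor.IsStronglyCartesian.map 𝒳.p f m.a (rfl : g ≫ f = g ≫ f) m''.a
  let β : A''.y ⟶ A.y := Functor.IsStronglyCartesian.map 𝒴.p f m.b (rfl : g ≫ f = g ≫ f) m''.b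
  have hα : 𝒳.p.IsHomLift g α := inferInstance
  have hβ : 𝒴.p.IsHomLift g β := inferInstance
  have hαf : α ≫ m.a = m''.a := Functor.IsStronglyCartesian.fac 𝒳.p f m.a rfl m''.a
  have hβf : β ≫ m.b = m''.b := Functor.IsStronglyCartesian.fac 𝒴.p f m.b rfl m''.b
  have hw : A''.f ≫ F.toFunctor.map α = β ≫ A.f := by
    have i0 : 𝒴.p.IsHomLift g (F.toFunctor.map α) := inferInstance
    have i1 : 𝒴.p.IsHomLift g (A''.f ≫ F.toFunctor.map α) := inferInstance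
    have i2 : 𝒴.p.IsHomLift g (β ≫ A.f) := inferInstance
    apply Functor.IsStronglyCartesian.ext 𝒴.p f (F.toFunctor.map m.a) g
    rw [Category.assoc, ← F.toFunctor.map_comp, hαf, m''.w, Category.assoc, m.w, ← Category.assoc, hβf]
  refine ⟨⟨α, β, hw⟩, ⟨hα, hom_ext' F hαf hβf⟩, ?_⟩
  rintro χ ⟨hχ1, hχ2⟩
  have hχa : χ.a ≫ m.a = m''.a := congrArg Hom.a hχ2
  have hχb : χ.b ≫ m.b = m''.b := congrArg Hom.b hχ2
  have hχb' : 𝒴.p.IsHomLift g χ.b := isHomLift_b F g χ hχ1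
  apply hom_ext' F
  · exact Functor.IsStronglyCartesian.map_uniq 𝒳.p f m.a rfl m''.a χ.a hχa
  · exact Functor.IsStronglyCartesian.map_uniq 𝒴.p f m.b rfl m''.b χ.b hχb

theorem sc_of_components {A B : Obj F} {R S : C} (f : R ⟶ S) (m : A ⟶ B)
    (ha : 𝒳.p.IsStronglyCartesian f m.a) (hb : 𝒴.p.IsStronglyCartesian f m.b) :
    (X' F).p.IsStronglyCartesian f m := by
  have hR : 𝒳.p.obj A.x = R := IsHomLift.domain_eq 𝒳.p f m.a
  have hS : 𝒳.p.obj B.x = S := IsHomLift.codomain_eq 𝒳.p f m.a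
  subst hR hS
  have hlift : (X' F).p.IsHomLift f m := (isHomLift_iff F f m).2 inferInstance
  refine { toIsHomLift := hlift, universal_property' := ?_ }
  intro A'' g m'' hm''
  obtain ⟨χ, ⟨h1, h2⟩, h3⟩ := sc_univ F hF f m ha hb g m'' ((isHomLift_iff F _ m'').1 hm'')
  exact ⟨χ, ⟨(isHomLift_iff F g χ).2 h1, h2⟩,
    fun χ' ⟨h1', h2'⟩ => h3 χ' ⟨(isHomLift_iff F g χ').1 h1', h2'⟩⟩

theorem exists_sc_lift [𝒳.p.IsFibered] [𝒴.p.IsFibered] (B : Obj F) {R : C} (f : R ⟶ 𝒳.p.obj B.x) :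
    ∃ (A : Obj F) (m : A ⟶ B), 𝒳.p.IsStronglyCartesian f m.a ∧ 𝒴.p.IsStronglyCartesian f m.b := by
  obtain ⟨x', a, ha⟩ := IsPreFibered.exists_isCartesian 𝒳.p (rfl : 𝒳.p.obj B.x = _) f
  obtain ⟨y', b, hb⟩ := IsPreFibered.exists_isCartesian 𝒴.p (obj_y_proj F B) f
  have ha' : 𝒳.p.IsStronglyCartesian f a := inferInstance
  have hb' : 𝒴.p.IsStronglyCartesian f b := inferInstance
  have hFa : 𝒴.p.IsStronglyCartesian f (F.toFunctor.map a) := hF f a ha'
  have hR : 𝒳.p.obj x' = R := IsHomLift.domain_eq 𝒳.p f a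
  subst hR
  have i1 : 𝒴.p.IsHomLift f (b ≫ B.f) := inferInstance
  let f' : y' ⟶ F.toFunctor.obj x' :=
    Functor.IsStronglyCartesian.map 𝒴.p f (F.toFunctor.map a) (show f = 𝟙 _ ≫ f by simp) (b ≫ B.f)
  have hf' : 𝒴.p.IsHomLift (𝟙 (𝒳.p.obj x')) f' := inferInstance
  have hfac : f' ≫ F.toFunctor.map a = b ≫ B.f :=
    Functor.IsStronglyCartesian.fac 𝒴.p f (F.toFunctor.map a) (show f = 𝟙 _ ≫ f by simp) (b ≫ B.f)
  exact ⟨⟨x', y', f', hf'⟩, ⟨a, b, hfac⟩, ha', hb'⟩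

theorem components_of_sc [𝒳.p.IsFibered] [𝒴.p.IsFibered] {A B : Obj F} {R S : C} (f : R ⟶ S)
    (m : A ⟶ B) (hm : (X' F).p.IsStronglyCartesian f m) :
    𝒳.p.IsStronglyCartesian f m.a ∧ 𝒴.p.IsStronglyCartesian f m.b := by
  have hS : 𝒳.p.obj B.x = S := IsHomLift.codomain_eq (X' F).p f m
  subst hS
  obtain ⟨A₀, m₀, ha₀, hb₀⟩ := exists_sc_lift F hF B f
  have hm₀ : (X' F).p.IsStronglyCartesian f m₀ := sc_of_components F hF f m₀ ha₀ hb₀
  let θ : A ≅ A₀ := Functor.IsCartesian.domainUniqueUpToIso (X' F).p f m₀ m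
  have hθ : θ.hom ≫ m₀ = m := Functor.IsCartesian.fac (X' F).p f m₀ m
  have hθl : (X' F).p.IsHomLift (𝟙 R) θ.hom := inferInstance
  have h1 : 𝒳.p.IsHomLift (𝟙 R) θ.hom.a := (isHomLift_iff F _ _).1 hθl
  have h2 : 𝒴.p.IsHomLift (𝟙 R) θ.hom.b := isHomLift_b F _ _ h1
  have i1 : IsIso θ.hom.a := (inferInstance : IsIso ((wFun F).map θ.hom))
  have i2 : IsIso θ.hom.b := (inferInstance : IsIso ((vFun F).map θ.hom))
  have e1 : m.a = θ.hom.a ≫ m₀.a := by rw [← hθ]; rfl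
  have e2 : m.b = θ.hom.b ≫ m₀.b := by rw [← hθ]; rfl
  constructor
  · rw [e1]
    have : 𝒳.p.IsStronglyCartesian (𝟙 R ≫ f) (θ.hom.a ≫ m₀.a) := inferInstance
    simpa using this
  · rw [e2]
    have : 𝒴.p.IsStronglyCartesian (𝟙 R ≫ f) (θ.hom.b ≫ m₀.b) := inferInstance
    simpa using this

end Cartesian

section VFibered

variable {C : Type u} [Category.{v} C] {𝒳 𝒴 : BasedCategory.{v, max u v} C} (F : 𝒳 ⥤ᵇ 𝒴)
  (hF : FibCat.PreservesStronglyCartesian F)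
include hF

theorem exists_v_sc_lift' [𝒳.p.IsFibered] (B : Obj F) {y' : 𝒴.obj} (g : y' ⟶ B.y) {R : C}
    (f : R ⟶ 𝒳.p.obj B.x) (hg : 𝒴.p.IsHomLift f g) :
    ∃ (A : Obj F) (m : A ⟶ B), (vFun F).IsStronglyCartesian g m := by
  obtain ⟨x', a, ha⟩ := IsPreFibered.exists_isCartesian 𝒳.p (rfl : 𝒳.p.obj B.x = _) f
  have ha' : 𝒳.p.IsStronglyCartesian f a := inferInstance
  have hFa : 𝒴.p.IsStronglyCartesian f (F.toFunctor.map a) := hF f a ha'
  have hR : 𝒳.p.obj x' = R := IsHomLift.domain_eq 𝒳.p f a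
  subst hR
  have i1 : 𝒴.p.IsHomLift f (g ≫ B.f) := inferInstance
  let f' : y' ⟶ F.toFunctor.obj x' :=
    Functor.IsStronglyCartesian.map 𝒴.p f (F.toFunctor.map a) (show f = 𝟙 _ ≫ f by simp) (g ≫ B.f)
  have hf' : 𝒴.p.IsHomLift (𝟙 (𝒳.p.obj x')) f' := inferInstance
  have hfac : f' ≫ F.toFunctor.map a = g ≫ B.f :=
    Functor.IsStronglyCartesian.fac 𝒴.p f (F.toFunctor.map a) (show f = 𝟙 _ ≫ f by simp) (g ≫ B.f)
  let A : Obj F := ⟨x', y', f', hf'⟩
  let m : A ⟶ B := ⟨a, g, hfac⟩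
  refine ⟨A, m, ?_⟩
  have hlift : (vFun F).IsHomLift g m := (inferInstance : (vFun F).IsHomLift ((vFun F).map m) m)
  refine { toIsHomLift := hlift, universal_property' := ?_ }
  intro A'' β₀ m'' hm''
  obtain ⟨β, hββ⟩ : ∃ β : A''.y ⟶ y', β = β₀ := ⟨β₀, rfl⟩
  have hb'' : m''.b = β ≫ g := by
    have := IsHomLift.fac' (vFun F) (β₀ ≫ g) m''
    rw [hββ]
    simp only [eqToHom_refl, Category.id_comp, Category.comp_id] at this
    exact this
  have hA'' := obj_y_proj F A''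
  have hy' : 𝒴.p.obj y' = 𝒳.p.obj x' := IsHomLift.domain_eq 𝒴.p f g
  let h : 𝒳.p.obj A''.x ⟶ 𝒳.p.obj x' := eqToHom hA''.symm ≫ 𝒴.p.map β ≫ eqToHom hy'
  have hβ : 𝒴.p.IsHomLift h β := IsHomLift.of_fac 𝒴.p h β hA'' hy' rfl
  have ha'' : 𝒳.p.IsHomLift (h ≫ f) m''.a := by
    have j1 : 𝒴.p.IsHomLift (𝒳.p.map m''.a) (A''.f ≫ F.toFunctor.map m''.a) := inferInstance
    have j2 : 𝒴.p.IsHomLift (h ≫ f) (β ≫ g ≫ B.f) := inferInstance
    have e : A''.f ≫ F.toFunctor.map m''.a = β ≫ g ≫ B.f := by rw [m''.w, hb'', Category.assoc]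
    rw [e] at j1
    have e2 : 𝒳.p.map m''.a = h ≫ f := lift_unique 𝒴.p _ _ (β ≫ g ≫ B.f)
    rw [← e2]; infer_instance
  let α : A''.x ⟶ x' := Functor.IsStronglyCartesian.map 𝒳.p f a (rfl : h ≫ f = h ≫ f) m''.a
  have hα : 𝒳.p.IsHomLift h α := inferInstance
  have hαf : α ≫ a = m''.a := Functor.IsStronglyCartesian.fac 𝒳.p f a rfl m''.a
  have hw : A''.f ≫ F.toFunctor.map α = β ≫ f' := by
    have k0 : 𝒴.p.IsHomLift h (F.toFunctor.map α) := inferInstance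
    have k1 : 𝒴.p.IsHomLift h (A''.f ≫ F.toFunctor.map α) := inferInstance
    have k2 : 𝒴.p.IsHomLift h (β ≫ f') := inferInstance
    apply Functor.IsStronglyCartesian.ext 𝒴.p f (F.toFunctor.map a) h
    rw [Category.assoc, ← F.toFunctor.map_comp, hαf, m''.w, hb'', Category.assoc, Category.assoc, hfac]
  let χ : A'' ⟶ A := ⟨α, β, hw⟩
  refine ⟨χ, ⟨?_, hom_ext' F hαf hb''.symm⟩, ?_⟩
  · rw [← hββ]
    exact (inferInstance : (vFun F).IsHomLift ((vFun F).map χ) χ)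
  · rintro χ' ⟨hχ1, hχ2⟩
    have hχb : χ'.b = β := by
      have := IsHomLift.fac' (vFun F) β₀ χ'
      rw [hββ]
      simp only [eqToHom_refl, Category.id_comp, Category.comp_id] at this
      exact this
    have hχa : χ'.a ≫ a = m''.a := congrArg Hom.a hχ2
    have hχl : 𝒳.p.IsHomLift h χ'.a := by
      have j1 : 𝒴.p.IsHomLift (𝒳.p.map χ'.a) (A''.f ≫ F.toFunctor.map χ'.a) := inferInstance
      have j2 : 𝒴.p.IsHomLift h (β ≫ f') := inferInstance
      have e : A''.f ≫ F.toFunctor.map χ'.a = β ≫ f' := by rw [χ'.w, hχb]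
      rw [e] at j1
      have e2 : 𝒳.p.map χ'.a = h := lift_unique 𝒴.p _ _ (β ≫ f')
      rw [← e2]; infer_instance
    apply hom_ext' F
    · exact Functor.IsStronglyCartesian.map_uniq 𝒳.p f a rfl m''.a χ'.a hχa
    · exact hχb

theorem vFun_isFibered [𝒳.p.IsFibered] : (vFun F).IsFibered :=
  Functor.IsFibered.of_exists_isStronglyCartesian (fun B y' g => by
    have hB := obj_y_proj F B
    exact exists_v_sc_lift' F hF B g (𝒴.p.map g ≫ eqToHom hB) inferInstance)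

end VFibered

/-- Let C be a category and F : 𝒳 → 𝒴 a 1-morphism of fibred categories over C. Then there are a fibred
category 𝒳' over C and 1-morphisms of fibred categories u : 𝒳 → 𝒳', v : 𝒳' → 𝒴, w : 𝒳' → 𝒳 over C
with F = v ∘ u such that u is fully faithful with w as its left adjoint, and v : 𝒳' → 𝒴 makes 𝒳' a
fibred category over 𝒴. (Stated for 𝒳, 𝒴 whose morphisms live in the universe of the morphisms of C
and whose objects live one universe level up, the size of categories of C-data; the adjunction w ⊣ u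
is of the underlying functors.) -/
theorem result {C : Type u} [Category.{v} C]
    {𝒳 𝒴 : BasedCategory.{v, max u v} C} [𝒳.p.IsFibered] [𝒴.p.IsFibered]
    (F : 𝒳 ⥤ᵇ 𝒴) (hF : FibCat.PreservesStronglyCartesian F) :
    ∃ (𝒳' : BasedCategory.{v, max u v} C) (u : 𝒳 ⥤ᵇ 𝒳') (v : 𝒳' ⥤ᵇ 𝒴) (w : 𝒳' ⥤ᵇ 𝒳),
      𝒳'.p.IsFibered ∧ FibCat.PreservesStronglyCartesian u ∧ FibCat.PreservesStronglyCartesian v ∧
        FibCat.PreservesStronglyCartesian w ∧ BasedFunctor.comp u v = F ∧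
        u.toFunctor.Full ∧ u.toFunctor.Faithful ∧ Nonempty (w.toFunctor ⊣ u.toFunctor) ∧
        v.toFunctor.IsFibered := by
  refine ⟨X' F, uB F, vB F, wB F, ?_, ?_, ?_, ?_, rfl, ?_, ?_, ?_, ?_⟩
  · exact Functor.IsFibered.of_exists_isStronglyCartesian (fun B R f => by
      obtain ⟨A, m, ha, hb⟩ := exists_sc_lift F hF B f
      exact ⟨A, m, sc_of_components F hF f m ha hb⟩)
  · intro R S f a b φ hφ
    exact sc_of_components F hF f ((uFun F).map φ) hφ (hF f φ hφ)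
  · intro R S f A B m hm
    exact (components_of_sc F hF f m hm).2
  · intro R S f A B m hm
    exact (components_of_sc F hF f m hm).1
  · constructor
    intro x x' m
    refine ⟨m.a, hom_ext' F rfl ?_⟩
    have := m.w
    change 𝟙 _ ≫ F.toFunctor.map m.a = m.b ≫ 𝟙 _ at this
    rw [Category.id_comp, Category.comp_id] at this
    exact this
  · constructor
    intro x x' a a' h
    exact congrArg Hom.a h
  · refine ⟨Adjunction.mkOfHomEquiv
      { homEquiv := fun A x' =>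
          { toFun := fun a => ⟨a, A.f ≫ F.toFunctor.map a, by
              change A.f ≫ F.toFunctor.map a = (A.f ≫ F.toFunctor.map a) ≫ 𝟙 _
              rw [Category.comp_id]⟩
            invFun := fun m => m.a
            left_inv := fun a => rfl
            right_inv := fun m => hom_ext' F rfl (by
              have := m.w
              change A.f ≫ F.toFunctor.map m.a = m.b ≫ 𝟙 _ at this
              rw [Category.comp_id] at this
              exact this) }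
        homEquiv_naturality_left_symm := fun f g => rfl
        homEquiv_naturality_right := fun f g => hom_ext' F rfl (by
          change _ ≫ F.toFunctor.map (f ≫ g) = (_ ≫ F.toFunctor.map f) ≫ F.toFunctor.map g
          rw [F.toFunctor.map_comp, Category.assoc]) }⟩
  · exact vFun_isFibered F hF

end Groth.Agent.S12230
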