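import Groth.Statements.S12231
import Groth.Agent.Lib.Helper3.OneStep4

set_option autoImplicit false
universe u
open TensorProduct
open FlatMor

namespace Groth.Agent.S12231

open Groth.Agent.Lib.helper3 TensorProduct
set_option linter.style.haveILetI false

/-- All schemes are affine here, as in the ambient rendering of a one-step dévissage. Let R → S be a
ring map of finite type, N a finite S-module, p a prime of R and (C, D, G, n) a one-step dévissage
of N/S/R over p — C a finitely presented quotient of S with a finite C-module G identified with N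
over S, D an R-algebra smooth of relative dimension n with geometrically irreducible fibres and a
finite map D → C over R, n the dimension of the support of the fibre module of N over p. Let R → R'
be a ring map, p' a prime of R' over p, and let S', C', D' be the base changes of S, C, D to R'
(pushout squares, with the R'-algebra maps S' → C' ← D' induced from S → C ← D) and N' = N ⊗_S S',
G' = G ⊗_C C' (base-change maps f, g). Then (C', D', G', n) is a one-step dévissage of N'/S'/R' over
p'. -/
theorem result
    (R S : Type u) [CommRing R] [CommRing S] [Algebra R S] [Algebra.FiniteType R S]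
    (N : Type u) [AddCommGroup N] [Module S N] [Module R N] [IsScalarTower R S N] [Module.Finite S N]
    (p : Ideal R) [p.IsPrime]
    (C D G : Type u) [CommRing C] [CommRing D] [Algebra S C] [Algebra R C] [IsScalarTower R S C]
    [Algebra R D] [Algebra D C] [IsScalarTower R D C] [AddCommGroup G] [Module C G] [Module S G]
    [IsScalarTower S C G] (n : ℕ)
    (h : FlatCA.IsOneStepDevissage R S N p C D G n)
    (R' : Type u) [CommRing R'] [Algebra R R'] (p' : Ideal R') [p'.IsPrime] [p'.LiesOver p]
    (S' C' D' : Type u) [CommRing S'] [CommRing C'] [CommRing D']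
    [Algebra R' S'] [Algebra R S'] [Algebra S S'] [IsScalarTower R R' S'] [IsScalarTower R S S']
    [Algebra.IsPushout R R' S S']
    [Algebra R' C'] [Algebra R C'] [Algebra C C'] [IsScalarTower R R' C'] [IsScalarTower R C C']
    [Algebra.IsPushout R R' C C']
    [Algebra R' D'] [Algebra R D'] [Algebra D D'] [IsScalarTower R R' D'] [IsScalarTower R D D']
    [Algebra.IsPushout R R' D D']
    [Algebra S' C'] [IsScalarTower R' S' C'] [Algebra S C'] [IsScalarTower S S' C'] [IsScalarTower S C C']
    [Algebra D' C'] [IsScalarTower R' D' C'] [Algebra D C'] [IsScalarTower D D' C'] [IsScalarTower D C C']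
    (N' : Type u) [AddCommGroup N'] [Module S' N'] [Module R' N'] [IsScalarTower R' S' N']
    [Module S N'] [IsScalarTower S S' N'] (f : N →ₗ[S] N') (hf : IsBaseChange S' f)
    (G' : Type u) [AddCommGroup G'] [Module C' G'] [Module S' G'] [IsScalarTower S' C' G']
    [Module C G'] [IsScalarTower C C' G'] (g : G →ₗ[C] G') (hg : IsBaseChange C' g) :
    FlatCA.IsOneStepDevissage R' S' N' p' C' D' G' n := by
  classical
  obtain ⟨⟨e⟩, hsurj, hfp, hfinDC, hfinCG, hsm, hgi, hdim⟩ := h
  haveI := hfp
  haveI := hfinDC
  haveI := hfinCG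
  haveI hRS : Algebra.IsPushout R S R' S' := Algebra.IsPushout.symm inferInstance
  haveI hRD : Algebra.IsPushout R D R' D' := Algebra.IsPushout.symm inferInstance
  haveI : IsScalarTower R S' C' := IsScalarTower.of_algebraMap_eq (fun r => by
    rw [IsScalarTower.algebraMap_apply R R' C', IsScalarTower.algebraMap_apply R' S' C',
      ← IsScalarTower.algebraMap_apply R R' S'])
  haveI : IsScalarTower R D' C' := IsScalarTower.of_algebraMap_eq (fun r => by
    rw [IsScalarTower.algebraMap_apply R R' C', IsScalarTower.algebraMap_apply R' D' C',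
      ← IsScalarTower.algebraMap_apply R R' D'])
  have hSC : Algebra.IsPushout S C S' C' :=
    (Algebra.IsPushout.comp_iff R S R' S').mp (Algebra.IsPushout.symm inferInstance)
  have hDC : Algebra.IsPushout D C D' C' :=
    (Algebra.IsPushout.comp_iff R D R' D').mp (Algebra.IsPushout.symm inferInstance)
  haveI hSC' : Algebra.IsPushout S S' C C' := hSC.symm
  haveI hDC' : Algebra.IsPushout D D' C C' := hDC.symm
  refine ⟨?_, ?_, ?_, ?_, ?_, ?_, ?_, ?_⟩
  · -- N' ≃ G'
    let e1 : S' ⊗[S] N ≃ₗ[S'] N' := hf.equiv
    let e2 : S' ⊗[S] N ≃ₗ[S'] S' ⊗[S] G :=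
      TensorProduct.AlgebraTensorModule.congr (LinearEquiv.refl S' S') e
    let e3 : C' ⊗[C] G ≃ₗ[S'] S' ⊗[S] G := Algebra.IsPushout.cancelBaseChange S S' C C' G
    let e4 : C' ⊗[C] G ≃ₗ[C'] G' := hg.equiv
    exact ⟨e1.symm ≪≫ₗ e2 ≪≫ₗ e3.symm ≪≫ₗ (e4.restrictScalars S')⟩
  · -- surjective
    intro c'
    have hbc : IsBaseChange C (IsScalarTower.toAlgHom S S' C').toLinearMap := hSC.out
    refine hbc.inductionOn c' (motive := fun c' => c' ∈ Set.range (algebraMap S' C')) ?_ ?_ ?_ ?_
    · exact ⟨0, map_zero _⟩
    · intro s'
      exact ⟨s', rfl⟩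
    · rintro c x ⟨s0, rfl⟩
      obtain ⟨s, rfl⟩ := hsurj c
      refine ⟨algebraMap S S' s * s0, ?_⟩
      rw [map_mul, Algebra.smul_def, ← IsScalarTower.algebraMap_apply S C C',
        IsScalarTower.algebraMap_apply S S' C']
    · rintro x y ⟨a, rfl⟩ ⟨b, rfl⟩
      exact ⟨a + b, map_add _ _ _⟩
  · exact Algebra.FinitePresentation.equiv (Algebra.IsPushout.equiv S S' C C')
  · exact Module.Finite.equiv (Algebra.IsPushout.equiv D D' C C').toLinearEquiv
  · exact Module.Finite.equiv hg.equiv
  · have hpo := CommRingCat.isPushout_of_isPushout R R' D D'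
    have hpb := AlgebraicGeometry.isPullback_SpecMap_of_isPushout _ _ _ _ hpo
    haveI := AlgebraicGeometry.smoothOfRelativeDimension_isStableUnderBaseChange n
    exact CategoryTheory.MorphismProperty.of_isPullback hpb.flip hsm
  · have hpo := CommRingCat.isPushout_of_isPushout R R' D D'
    have hpb := AlgebraicGeometry.isPullback_SpecMap_of_isPushout _ _ _ _ hpo
    exact CategoryTheory.MorphismProperty.of_isPullback hpb.flip hgi
  · exact (OneStep.supportDim_fiberMod_baseChange p p' f hf).trans hdim

end Groth.Agent.S12231
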