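import Groth.Statements.S12232
import Groth.Agent.Lib.Helper25.DerAdjK
import Groth.Agent.Lib.Helper25.KInjMain

set_option autoImplicit false
universe w w' v u
open CategoryTheory CategoryTheory.Limits
open CohDer

namespace Groth.Agent.S12232

/-- Let C be a Grothendieck abelian category, U a generator, R = End(U)ᵒᵖ, G = Hom(U, −) : C → Mod_R and
F : Mod_R → C its left adjoint, which is exact and makes G fully faithful (Gabriel–Popescu). Then on
derived categories F : D(Mod_R) → D(C) (induced by the exact functor F) is left adjoint to the total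
right derived functor RG : D(C) → D(Mod_R), RG is fully faithful, and F ∘ RG ≅ id. Existence of the
adjunction and of the isomorphism is asserted (the derived unit/counit are not named); the existence
of RG and the exactness and additivity of F are carried as instance hypotheses, all of which hold. -/
theorem result {C : Type u} [Category.{v} C] [Abelian C]
    [IsGrothendieckAbelian.{v} C] [HasDerivedCategory.{w} C] (U : C) (hU : IsSeparator U)
    [HasDerivedCategory.{w'} (ModuleCat.{v} (End U)ᵐᵒᵖ)]
    [(IsGrothendieckAbelian.tensorObj U).Additive] [PreservesFiniteLimits (IsGrothendieckAbelian.tensorObj U)]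
    [PreservesFiniteColimits (IsGrothendieckAbelian.tensorObj U)]
    [((preadditiveCoyonedaObj U).mapHomotopyCategory (ComplexShape.up ℤ) ⋙ DerivedCategory.Qh).HasRightDerivedFunctor
      (HomotopyCategory.quasiIso C (ComplexShape.up ℤ))] :
    let RG := ((preadditiveCoyonedaObj U).mapHomotopyCategory (ComplexShape.up ℤ) ⋙ DerivedCategory.Qh).totalRightDerived
      DerivedCategory.Qh (HomotopyCategory.quasiIso C (ComplexShape.up ℤ))
    let LF := (IsGrothendieckAbelian.tensorObj U).mapDerivedCategory
    Nonempty (LF ⊣ RG) ∧ RG.Full ∧ RG.Faithful ∧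
      Nonempty (RG ⋙ LF ≅ 𝟭 (DerivedCategory C)) := by
  intro RG LF
  have hKinj : ∀ K : CochainComplex C ℤ, ∃ (I : CochainComplex C ℤ) (f : K ⟶ I),
      I.IsKInjective ∧ QuasiIso f := fun K => by
    obtain ⟨I, f, hI, hf, -, -⟩ := Groth.Agent.Lib.Helper25.KInjMain.exists_kInjective_resolution K
    exact ⟨I, f, hI, hf⟩
  let adj₀ := IsGrothendieckAbelian.tensorObjPreadditiveCoyonedaObjAdjunction U
  let β := ((preadditiveCoyonedaObj U).mapHomotopyCategory (ComplexShape.up ℤ) ⋙
    DerivedCategory.Qh).totalRightDerivedUnit DerivedCategory.Qh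
      (HomotopyCategory.quasiIso C (ComplexShape.up ℤ))
  obtain ⟨adj', hadj'⟩ := Groth.Agent.Lib.Helper25.DerAdjK.exists_adjunction hKinj adj₀ RG β
  haveI : (preadditiveCoyonedaObj U).Full := IsGrothendieckAbelian.GabrielPopescu.full U hU
  haveI : (preadditiveCoyonedaObj U).Faithful :=
    (isSeparator_iff_faithful_preadditiveCoyonedaObj U).1 hU
  haveI : IsIso adj₀.counit := inferInstance
  obtain ⟨r, e, hr, hrI⟩ := Groth.Agent.Lib.Helper25.DerAdjK.exists_fibrant hKinj
  haveI : IsIso adj'.counit := by
    rw [NatTrans.isIso_iff_isIso_app]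
    intro Y
    rw [NatTrans.isIso_app_iff_of_iso adj'.counit (e Y).symm]
    obtain ⟨I, hI, hIr⟩ := hrI Y
    rw [hIr]
    haveI := hI
    haveI : IsIso (β.app ((HomotopyCategory.quotient C (ComplexShape.up ℤ)).obj I)) :=
      Groth.Agent.Lib.Helper25.DerAdjK.isIso_unit_of_isKInjective hKinj RG β I
    have h := hadj' ((HomotopyCategory.quotient C (ComplexShape.up ℤ)).obj I)
    haveI : IsIso (Groth.Agent.Lib.Helper25.DerAdjK.counitCx adj₀ (ComplexShape.up ℤ) I) := by
      haveI : ∀ n, IsIso ((Groth.Agent.Lib.Helper25.DerAdjK.counitCx adj₀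
          (ComplexShape.up ℤ) I).f n) := fun n => by
        change IsIso (adj₀.counit.app (I.X n))
        infer_instance
      exact HomologicalComplex.Hom.isIso_of_components _
    rw [Groth.Agent.Lib.Helper25.DerAdjK.adjK_counit_app] at h
    haveI h1 : IsIso ((HomotopyCategory.quotient C (ComplexShape.up ℤ)).map
        (Groth.Agent.Lib.Helper25.DerAdjK.counitCx adj₀ (ComplexShape.up ℤ) I)) := inferInstance
    haveI h2 : IsIso (DerivedCategory.Qh.map ((HomotopyCategory.quotient C (ComplexShape.up ℤ)).map
        (Groth.Agent.Lib.Helper25.DerAdjK.counitCx adj₀ (ComplexShape.up ℤ) I))) := inferInstance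
    haveI h3 : IsIso ((IsGrothendieckAbelian.tensorObj U).mapDerivedCategoryFactorsh.hom.app
        (((preadditiveCoyonedaObj U).mapHomotopyCategory (ComplexShape.up ℤ)).obj
          ((HomotopyCategory.quotient C (ComplexShape.up ℤ)).obj I))) := inferInstance
    haveI h4 : IsIso (LF.map (β.app ((HomotopyCategory.quotient C (ComplexShape.up ℤ)).obj I)) ≫
        adj'.counit.app (DerivedCategory.Qh.obj
          ((HomotopyCategory.quotient C (ComplexShape.up ℤ)).obj I))) := by
      rw [h]
      exact IsIso.comp_isIso' h3 h2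
    exact IsIso.of_isIso_comp_left
      (LF.map (β.app ((HomotopyCategory.quotient C (ComplexShape.up ℤ)).obj I))) _
  exact ⟨⟨adj'⟩, adj'.fullyFaithfulROfIsIsoCounit.full, adj'.fullyFaithfulROfIsIsoCounit.faithful,
    ⟨asIso adj'.counit⟩⟩

end Groth.Agent.S12232
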