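import Groth.Statements.S12233
import Groth.Agent.Lib.Helper3.TorBC3
import Groth.Agent.S0391

set_option autoImplicit false
set_option linter.style.haveILetI false
universe u
open scoped TensorProduct
open CAlg

namespace Groth.Agent.S12233

/-- Let R → S, R → R', S → S' and R' → S' be local homomorphisms of Noetherian local rings forming a
commutative square, I ⊊ R an ideal, M a finite S-module, I' = IR' and M' = M ⊗_S S' (given through a
base-change map f : M → M'). Assume (1) S' is a localization of S ⊗_R R' via the induced map, (2)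
M/IM is flat over R/I, and (3) the map Tor_1^R(M, R/I) → Tor_1^{R'}(M', R'/I') is zero — with
Tor_1(−, R/I) computed as the kernel of I ⊗_R M → M, this says that every element of that kernel
goes to zero under the natural map I ⊗_R M → I' ⊗_{R'} M'. Then M' is flat over R'. -/
theorem result
    (R S R' S' : Type u) [CommRing R] [CommRing S] [CommRing R'] [CommRing S']
    [IsLocalRing R] [IsLocalRing S] [IsLocalRing R'] [IsLocalRing S']
    [IsNoetherianRing R] [IsNoetherianRing S] [IsNoetherianRing R'] [IsNoetherianRing S']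
    [Algebra R S] [Algebra R R'] [Algebra S S'] [Algebra R' S'] [Algebra R S']
    [IsScalarTower R S S'] [IsScalarTower R R' S']
    [IsLocalHom (algebraMap R S)] [IsLocalHom (algebraMap R R')] [IsLocalHom (algebraMap S S')]
    [IsLocalHom (algebraMap R' S')]
    (I : Ideal R) (hI : I ≠ ⊤) (M : Type u) [AddCommGroup M] [Module S M] [Module R M] [IsScalarTower R S M]
    [Module.Finite S M]
    (M' : Type u) [AddCommGroup M'] [Module S' M'] [Module R' M'] [IsScalarTower R' S' M']
    [Module S M'] [IsScalarTower S S' M'] [Module R M'] [IsScalarTower R R' M'] [IsScalarTower R S M']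
    (f : M →ₗ[S] M') (hf : IsBaseChange S' f)
    (h1 : ∃ W : Submonoid (S ⊗[R] R'),
      letI : Algebra (S ⊗[R] R') S' :=
        (Algebra.TensorProduct.lift (IsScalarTower.toAlgHom R S S') (IsScalarTower.toAlgHom R R' S')
          (fun s r => Commute.all _ _)).toRingHom.toAlgebra;
      IsLocalization W S')
    (h2 : Module.Flat (R ⧸ I) ((R ⧸ I) ⊗[R] M))
    (h3 : ∀ x : ↥I ⊗[R] M, (Submodule.subtype I).rTensor M x = 0 →
      (TensorProduct.mapOfCompatibleSMul R' R R ↥(I.map (algebraMap R R')) M')
        ((TensorProduct.map (Algebra.idealMap R' I) (f.restrictScalars R)) x) = 0) :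
    Module.Flat R' M' := by
  classical
  obtain ⟨W, hW⟩ := h1
  letI algR'T : Algebra R' (S ⊗[R] R') := Algebra.TensorProduct.rightAlgebra
  letI algTS' : Algebra (S ⊗[R] R') S' :=
    (Algebra.TensorProduct.lift (IsScalarTower.toAlgHom R S S') (IsScalarTower.toAlgHom R R' S')
      (fun s r => Commute.all _ _)).toRingHom.toAlgebra
  haveI hloc : IsLocalization W S' := hW
  have halg : ∀ (s : S) (r' : R'), algebraMap (S ⊗[R] R') S' (s ⊗ₜ[R] r') =
      algebraMap S S' s * algebraMap R' S' r' := by
    intro s r'
    change (Algebra.TensorProduct.lift (IsScalarTower.toAlgHom R S S')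
      (IsScalarTower.toAlgHom R R' S') (fun s r => Commute.all _ _)) (s ⊗ₜ[R] r') = _
    rw [Algebra.TensorProduct.lift_tmul]
    rfl
  letI modTM' : Module (S ⊗[R] R') M' := Module.compHom M' (algebraMap (S ⊗[R] R') S')
  haveI : IsScalarTower (S ⊗[R] R') S' M' := IsScalarTower.of_algebraMap_smul (fun t m => rfl)
  haveI : IsScalarTower R' (S ⊗[R] R') M' := by
    apply IsScalarTower.of_algebraMap_smul
    intro r' m
    change algebraMap (S ⊗[R] R') S' (algebraMap R' (S ⊗[R] R') r') • m = r' • m
    have : algebraMap R' (S ⊗[R] R') r' = (1 : S) ⊗ₜ[R] r' := rfl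
    rw [this, halg, map_one, one_mul, algebraMap_smul]
  haveI : IsScalarTower S (S ⊗[R] R') M' := by
    apply IsScalarTower.of_algebraMap_smul
    intro s m
    change algebraMap (S ⊗[R] R') S' (algebraMap S (S ⊗[R] R') s) • m = s • m
    have : algebraMap S (S ⊗[R] R') s = s ⊗ₜ[R] (1 : R') := rfl
    rw [this, halg, map_one, mul_one, algebraMap_smul]
  haveI : IsScalarTower S (S ⊗[R] R') S' := by
    apply IsScalarTower.of_algebraMap_eq
    intro s
    have : algebraMap S (S ⊗[R] R') s = s ⊗ₜ[R] (1 : R') := rfl
    rw [this, halg, map_one, mul_one]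
  -- the intermediate module
  let g₀ : M →ₗ[S] (S ⊗[R] R') ⊗[S] M := TensorProduct.mk S (S ⊗[R] R') M 1
  have hg₀ : IsBaseChange (S ⊗[R] R') g₀ := TensorProduct.isBaseChange S M (S ⊗[R] R')
  let h : (S ⊗[R] R') ⊗[S] M →ₗ[S ⊗[R] R'] M' := hg₀.lift f
  have hhg : ∀ m, h (g₀ m) = f m := fun m => hg₀.lift_eq f m
  have hh : IsBaseChange S' h := by
    apply IsBaseChange.of_comp hg₀
    have : (h.restrictScalars S) ∘ₗ g₀ = f := LinearMap.ext hhg
    rw [this]
    exact hf
  haveI : IsLocalizedModule W h := (isLocalizedModule_iff_isBaseChange W S' h).2 hh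
  let g : M →ₗ[R] (S ⊗[R] R') ⊗[S] M := g₀.restrictScalars R
  have hg : IsBaseChange R' g := by
    apply IsBaseChange.of_equiv (Algebra.IsPushout.cancelBaseChange R R' S (S ⊗[R] R') M).symm
    intro m
    rw [Algebra.IsPushout.cancelBaseChange_symm_tmul, map_one]
    rfl
  haveI := h2
  have hcore := Groth.Agent.Lib.helper3.TorBC.core I W g hg h (by
    intro x hx
    have hfg : ((h.restrictScalars R').restrictScalars R) ∘ₗ g = f.restrictScalars R :=
      LinearMap.ext hhg
    rw [hfg]
    exact h3 x hx)
  have hI' : I.map (algebraMap R R') ≠ ⊤ := by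
    intro htop
    have h1 : I.map (algebraMap R R') ≤ IsLocalRing.maximalIdeal R' :=
      le_trans (Ideal.map_mono (IsLocalRing.le_maximalIdeal hI))
        (IsLocalRing.map_maximalIdeal_le (algebraMap R R'))
    rw [htop] at h1
    exact (IsLocalRing.maximalIdeal.isMaximal R').ne_top (top_le_iff.1 h1)
  haveI : Module.Finite S' M' := by
    exact Module.Finite.equiv hf.equiv
  exact Groth.Agent.S0391.result (R := R') (S := S') (M := M') (I.map (algebraMap R R')) hI'
    hcore.1 hcore.2

end Groth.Agent.S12233
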