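import Groth.Statements.S12238
import Groth.Agent.Lib.Helper1.BigPushEpi
import Groth.Agent.S0161

set_option autoImplicit false
open CategoryTheory CategoryTheory.Limits AlgebraicGeometry Opposite
universe u
open BigSite

namespace Groth.Agent.S12238

/-- `R^0 f_big,* ≅ f_big,*` -/
noncomputable def rpushBigZeroIso {T S : Scheme.{u}} (f : T ⟶ S) :
    BigSite.RpushBig Scheme.etalePrecoverage f 0 ≅
      BigSite.pushBig Scheme.etalePrecoverage f AddCommGrpCat.{u + 1} := by
  have : PreservesFiniteLimits (BigSite.pushBig Scheme.etalePrecoverage f AddCommGrpCat.{u + 1}) := by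
    have h : PreservesLimitsOfSize.{0, 0}
        (BigSite.pushBig Scheme.etalePrecoverage f AddCommGrpCat.{u + 1}) :=
      (BigSite.bigAdj Scheme.etalePrecoverage f AddCommGrpCat.{u + 1}).rightAdjoint_preservesLimits
    exact PreservesLimitsOfSize.preservesFiniteLimits _
  exact (BigSite.pushBig Scheme.etalePrecoverage f AddCommGrpCat.{u + 1}).rightDerivedZeroIsoSelf

theorem main {T S : Scheme.{u}} (f : T ⟶ S) [IsFinite f]
    (F : EtCoh.Ab T) (q : ℕ) :
    Nonempty ((BigSite.piEtPull Scheme.etalePrecoverage S).obj ((EtCoh.Rpush f q).obj F) ≅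
      (BigSite.RpushBig Scheme.etalePrecoverage f q).obj ((BigSite.piEtPull Scheme.etalePrecoverage T).obj F)) := by
  rcases Nat.eq_zero_or_pos q with rfl | hq
  · have := Groth.Agent.H1.BigSmallBC.isIso_theta f F
    exact ⟨(BigSite.piEtPull Scheme.etalePrecoverage S).mapIso
        ((Groth.Agent.S0161.rpushZeroIso f).app F) ≪≫
      asIso (Groth.Agent.H1.BigSmallBC.theta f F) ≪≫ ((rpushBigZeroIso f).app _).symm⟩
  · have h1 := Groth.Agent.Lib.helper5.FinitePush.isZero_Rpush_of_isFinite f F q hq
    have h2 := Groth.Agent.H1.BigPushEpi.isZero_RpushBig f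
      ((BigSite.piEtPull Scheme.etalePrecoverage T).obj F) q hq
    have : (BigSite.piEtPull Scheme.etalePrecoverage S).Additive :=
      (BigSite.piEtAdj Scheme.etalePrecoverage S).left_adjoint_additive
    exact ⟨((BigSite.piEtPull Scheme.etalePrecoverage S).map_isZero h1).iso h2⟩

/-- Let f : T → S be a finite morphism of schemes and F an arbitrary abelian sheaf on the small étale
site of T. Then for every q the abelian sheaves π_S⁻¹(R^q f_small,* F) and R^q f_big,*(π_T⁻¹ F) on
the big étale site of S are isomorphic, where π⁻¹ denotes pullback from the small to the big étale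
site. Existence of an isomorphism only; this is what the comparison π_S⁻¹ Rf_small,* K = Rf_big,*
π_T⁻¹ K, valid for every complex K when f is finite, gives on cohomology sheaves for K = F placed in
degree 0. -/
theorem result {T S : Scheme.{u}} (f : T ⟶ S) [IsFinite f]
    (F : EtCoh.Ab T) (q : ℕ) :
    Nonempty ((BigSite.piEtPull Scheme.etalePrecoverage S).obj ((EtCoh.Rpush f q).obj F) ≅
      (BigSite.RpushBig Scheme.etalePrecoverage f q).obj ((BigSite.piEtPull Scheme.etalePrecoverage T).obj F)) := by
  exact main f F q

end Groth.Agent.S12238
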