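import Groth.Statements.S1224
import Groth.Agent.Lib.Helper26.Purity1

set_option autoImplicit false
universe u
open FlatMor

namespace Groth.Agent.S1224

/-- Ring form, X = Spec B affine, where proper support means finite support: let B be a finite type
A-algebra and N a finite B-module such that B modulo the annihilator of N is finite over A. Then N
is universally pure relative to Spec A. -/
theorem result {A B : Type u} [CommRing A] [CommRing B] [Algebra A B] [Algebra.FiniteType A B]
    (N : Type u) [AddCommGroup N] [Module B N] [Module A N] [IsScalarTower A B N] [Module.Finite B N]
    [Module.Finite A (B ⧸ Module.annihilator B N)] : FlatCA.IsUnivPure A B N := by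
  haveI : Algebra.IsIntegral A (B ⧸ Module.annihilator B N) := inferInstance
  exact Groth.Agent.Lib.helper26.Purity.isUnivPure_of_support_integral N

end Groth.Agent.S1224
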