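import Groth.Statements.S12243
import Groth.Agent.Lib.Helper3.CDevBC5

set_option autoImplicit false
universe u
open FlatMor

namespace Groth.Agent.S12243

open Groth.Agent.Lib.helper3 TensorProduct
set_option linter.style.haveILetI false
attribute [local instance] Algebra.TensorProduct.rightAlgebra

open TensorProduct in
/-- All schemes are affine; the base-changed complete dévissage is asserted to exist with its pieces
pinned as base changes. Let R → S be of finite type, N a finite S-module, p a prime of R and 𝒟 a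
complete dévissage of N/S/R over p in the prelude's algebraic form (rings A_i, smooth R-algebras B_i
with pB_i prime and geometrically irreducible fibres, finite A_i-modules M_i with N ≅ M_0, maps α_i
from finite free B_i-modules, bijective on the fibre at pB_i, whose cokernels are the next modules,
the last one surjective; steps indexed by i below the length). Let R → R' be a ring map, p' a prime
of R' over p, S' the base change of S and N' = N ⊗_S S'. Then N'/S'/R' has a complete dévissage 𝒟'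
over p' of the same length and the same ranks whose pieces are base changes of those of 𝒟: for the
steps i below the length there are algebra structures making A'_i and B'_i the base changes of A_i
and B_i along R → R', compatibly with B_i → A_i, with B_i → A_{i+1}, with S → A_0 and with S' →
A'_0, and A_i-linear base-change maps M_i → M'_i (M'_i ≅ M_i ⊗_{A_i} A'_i) carrying N ≅ M_0 to N' ≅
M'_0 and the image of α_i onto a generating set of the image of α'_i. (The published statement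
base-changes all the data functorially; here the identifications of cokernels inside 𝒟' are not
required to be the base-changed ones.) -/
theorem result
    (R S : Type u) [CommRing R] [CommRing S] [Algebra R S] [Algebra.FiniteType R S]
    (N : Type u) [AddCommGroup N] [Module S N] [Module.Finite S N]
    (p : Ideal R) [p.IsPrime] (𝒟 : FlatCA.CompleteDevissage R S N p)
    (R' : Type u) [CommRing R'] [Algebra R R'] (p' : Ideal R') [p'.IsPrime] [p'.LiesOver p]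
    (S' : Type u) [CommRing S'] [Algebra R' S'] [Algebra R S'] [Algebra S S'] [IsScalarTower R R' S']
    [IsScalarTower R S S'] [Algebra.IsPushout R R' S S']
    (N' : Type u) [AddCommGroup N'] [Module S' N'] [Module S N'] [IsScalarTower S S' N']
    (f : N →ₗ[S] N') (hf : IsBaseChange S' f) :
    ∃ (𝒟' : FlatCA.CompleteDevissage R' S' N' p')
      (aA : ∀ i : Fin 𝒟.n, Algebra (𝒟.A i) (𝒟'.A i)) (rA : ∀ i : Fin 𝒟.n, Algebra R (𝒟'.A i))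
      (_t1 : ∀ i : Fin 𝒟.n, IsScalarTower R (R') (𝒟'.A i)) (_t2 : ∀ i : Fin 𝒟.n, IsScalarTower R (𝒟.A i) (𝒟'.A i))
      (aB : ∀ i : Fin 𝒟.n, Algebra (𝒟.B i) (𝒟'.B i)) (rB : ∀ i : Fin 𝒟.n, Algebra R (𝒟'.B i))
      (_t3 : ∀ i : Fin 𝒟.n, IsScalarTower R (R') (𝒟'.B i)) (_t4 : ∀ i : Fin 𝒟.n, IsScalarTower R (𝒟.B i) (𝒟'.B i))
      (bA : ∀ i : Fin 𝒟.n, Algebra (𝒟.B i) (𝒟'.A i)) (_t5 : ∀ i : Fin 𝒟.n, IsScalarTower (𝒟.B i) (𝒟.A i) (𝒟'.A i))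
      (_t6 : ∀ i : Fin 𝒟.n, IsScalarTower (𝒟.B i) (𝒟'.B i) (𝒟'.A i))
      (bA' : ∀ i : Fin 𝒟.n, Algebra (𝒟.B i) (𝒟'.A (i + 1)))
      (_t7 : ∀ i : Fin 𝒟.n, IsScalarTower (𝒟.B i) (𝒟'.B i) (𝒟'.A (i + 1)))
      (sA : Algebra S (𝒟'.A 0)) (_t8 : IsScalarTower S (S') (𝒟'.A 0))
      (mA : ∀ i : Fin 𝒟.n, Module (𝒟.A i) (𝒟'.M i)) (_t9 : ∀ i : Fin 𝒟.n, IsScalarTower (𝒟.A i) (𝒟'.A i) (𝒟'.M i))
      (gM : ∀ i : Fin 𝒟.n, 𝒟.M i →ₗ[𝒟.A i] 𝒟'.M i),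
      𝒟'.n = 𝒟.n ∧ 𝒟'.r = 𝒟.r ∧
      (letI := aA ⟨0, 𝒟.pos⟩; IsScalarTower S (𝒟.A 0) (𝒟'.A 0)) ∧
      (∀ x : N, 𝒟'.isoN (f x) = gM ⟨0, 𝒟.pos⟩ (𝒟.isoN x)) ∧
      (∀ (i : Fin 𝒟.n) (h : (i : ℕ) + 1 < 𝒟.n),
        letI := aA ⟨i + 1, h⟩; IsScalarTower (𝒟.B i) (𝒟.A (i + 1)) (𝒟'.A (i + 1))) ∧
      ∀ i : Fin 𝒟.n,
        Algebra.IsPushout R R' (𝒟.A i) (𝒟'.A i) ∧ Algebra.IsPushout R R' (𝒟.B i) (𝒟'.B i) ∧
        IsBaseChange (𝒟'.A i) (gM i) ∧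
        LinearMap.range (𝒟'.α i) =
          Submodule.span (𝒟'.B i) ((gM i) '' (LinearMap.range (𝒟.α i) : Set (𝒟.M i))) := by
  classical
  have hρ : ∀ (i : Fin 𝒟.n) (x : (CDevBC.BCFam.preDev 𝒟 R' S' N' f hf p').B i),
      (CDevBC.BCFam.preDev 𝒟 R' S' N' f hf p').ρ i (((CDevBC.BCFam.preDev 𝒟 R' S' N' f hf p').ρe i.2).symm x) = x := fun i x => ((CDevBC.BCFam.preDev 𝒟 R' S' N' f hf p').ρe i.2).apply_symm_apply x
  refine ⟨(CDevBC.BCFam.preDev 𝒟 R' S' N' f hf p').toDev,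
    fun i => (Algebra.TensorProduct.rightAlgebra : Algebra (𝒟.A i) (R' ⊗[R] 𝒟.A i)),
    fun i => (Algebra.TensorProduct.leftAlgebra : Algebra R (R' ⊗[R] 𝒟.A i)),
    fun i => (TensorProduct.isScalarTower_left : IsScalarTower R R' (R' ⊗[R] 𝒟.A i)),
    fun i => (Algebra.TensorProduct.right_isScalarTower : IsScalarTower R (𝒟.A i) (R' ⊗[R] 𝒟.A i)),
    fun i => (RingHom.comp (((CDevBC.BCFam.preDev 𝒟 R' S' N' f hf p').ρe i.2).symm : (CDevBC.BCFam.preDev 𝒟 R' S' N' f hf p').B i →+* (CDevBC.BCFam.preDev 𝒟 R' S' N' f hf p').BB i)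
      (algebraMap (𝒟.B i) (R' ⊗[R] 𝒟.B i))).toAlgebra,
    fun i => ((algebraMap R' ((CDevBC.BCFam.preDev 𝒟 R' S' N' f hf p').BB i)).comp (algebraMap R R')).toAlgebra,
    fun i => ?_, fun i => ?_,
    fun i => CDevBC.BCFam.instAlgBA 𝒟 R' i,
    fun i => CDevBC.BCFam.instTowerBAA 𝒟 R' i,
    fun i => ?_,
    fun i => CDevBC.BCFam.instAlgBA' 𝒟 R' i,
    fun i => ?_,
    CDevBC.BCFam.instAlgSA 𝒟 R',
    CDevBC.BCFam.instTowerSS'A 𝒟 R' S',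
    fun i => CDevBC.BCFam.instModA0MM 𝒟 R' i,
    fun i => CDevBC.BCFam.instTowerAAMM 𝒟 R' i,
    fun i => CDevBC.BCFam.g 𝒟 R' i,
    rfl, rfl, CDevBC.BCFam.instTowerSAA 𝒟 R',
    fun x => CDevBC.BCFam.isoN'_apply 𝒟 R' S' N' f hf x,
    fun i h => CDevBC.BCFam.instTowerBAA' 𝒟 R' i, fun i => ⟨?_, ?_, ?_, ?_⟩⟩
  · -- t3
    exact @IsScalarTower.of_algebraMap_eq R R' ((CDevBC.BCFam.preDev 𝒟 R' S' N' f hf p').BB i) _ _ _ _ _
      (((algebraMap R' ((CDevBC.BCFam.preDev 𝒟 R' S' N' f hf p').BB i)).comp (algebraMap R R')).toAlgebra) (fun _ => rfl)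
  · -- t4
    letI : Algebra (𝒟.B i) ((CDevBC.BCFam.preDev 𝒟 R' S' N' f hf p').toDev.B i) := (RingHom.comp (((CDevBC.BCFam.preDev 𝒟 R' S' N' f hf p').ρe i.2).symm : (CDevBC.BCFam.preDev 𝒟 R' S' N' f hf p').B i →+* (CDevBC.BCFam.preDev 𝒟 R' S' N' f hf p').BB i)
      (algebraMap (𝒟.B i) (R' ⊗[R] 𝒟.B i))).toAlgebra
    letI : Algebra R ((CDevBC.BCFam.preDev 𝒟 R' S' N' f hf p').toDev.B i) := ((algebraMap R' ((CDevBC.BCFam.preDev 𝒟 R' S' N' f hf p').BB i)).comp (algebraMap R R')).toAlgebra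
    refine IsScalarTower.of_algebraMap_eq fun r => ?_
    show algebraMap R' ((CDevBC.BCFam.preDev 𝒟 R' S' N' f hf p').BB i) (algebraMap R R' r) = ((CDevBC.BCFam.preDev 𝒟 R' S' N' f hf p').ρe i.2).symm
      (algebraMap (𝒟.B i) (R' ⊗[R] 𝒟.B i) (algebraMap R (𝒟.B i) r))
    rw [← IsScalarTower.algebraMap_apply R (𝒟.B i) (R' ⊗[R] 𝒟.B i),
      IsScalarTower.algebraMap_apply R R' (R' ⊗[R] 𝒟.B i)]
    exact (((CDevBC.BCFam.preDev 𝒟 R' S' N' f hf p').ρe i.2).symm.commutes _).symm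
  · -- t6
    letI : Algebra (𝒟.B i) ((CDevBC.BCFam.preDev 𝒟 R' S' N' f hf p').toDev.B i) := (RingHom.comp (((CDevBC.BCFam.preDev 𝒟 R' S' N' f hf p').ρe i.2).symm : (CDevBC.BCFam.preDev 𝒟 R' S' N' f hf p').B i →+* (CDevBC.BCFam.preDev 𝒟 R' S' N' f hf p').BB i)
      (algebraMap (𝒟.B i) (R' ⊗[R] 𝒟.B i))).toAlgebra
    letI : Algebra (𝒟.B i) ((CDevBC.BCFam.preDev 𝒟 R' S' N' f hf p').toDev.A i) := CDevBC.BCFam.instAlgBA 𝒟 R' i
    refine IsScalarTower.of_algebraMap_eq fun b => ?_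
    show algebraMap (R' ⊗[R] 𝒟.B i) (R' ⊗[R] 𝒟.A i) (algebraMap (𝒟.B i) (R' ⊗[R] 𝒟.B i) b) =
      algebraMap (R' ⊗[R] 𝒟.B i) (R' ⊗[R] 𝒟.A i)
        ((CDevBC.BCFam.preDev 𝒟 R' S' N' f hf p').ρ i (((CDevBC.BCFam.preDev 𝒟 R' S' N' f hf p').ρe i.2).symm (algebraMap (𝒟.B i) (R' ⊗[R] 𝒟.B i) b)))
    rw [hρ]
  · -- t7
    letI : Algebra (𝒟.B i) ((CDevBC.BCFam.preDev 𝒟 R' S' N' f hf p').toDev.B i) := (RingHom.comp (((CDevBC.BCFam.preDev 𝒟 R' S' N' f hf p').ρe i.2).symm : (CDevBC.BCFam.preDev 𝒟 R' S' N' f hf p').B i →+* (CDevBC.BCFam.preDev 𝒟 R' S' N' f hf p').BB i)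
      (algebraMap (𝒟.B i) (R' ⊗[R] 𝒟.B i))).toAlgebra
    letI : Algebra (𝒟.B i) ((CDevBC.BCFam.preDev 𝒟 R' S' N' f hf p').toDev.A (i + 1)) := CDevBC.BCFam.instAlgBA' 𝒟 R' i
    refine IsScalarTower.of_algebraMap_eq fun b => ?_
    show algebraMap (R' ⊗[R] 𝒟.B i) (R' ⊗[R] 𝒟.A (i + 1))
        (algebraMap (𝒟.B i) (R' ⊗[R] 𝒟.B i) b) =
      algebraMap (R' ⊗[R] 𝒟.B i) (R' ⊗[R] 𝒟.A (i + 1))
        ((CDevBC.BCFam.preDev 𝒟 R' S' N' f hf p').ρ i (((CDevBC.BCFam.preDev 𝒟 R' S' N' f hf p').ρe i.2).symm (algebraMap (𝒟.B i) (R' ⊗[R] 𝒟.B i) b)))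
    rw [hρ]
  · exact (TensorProduct.isPushout : Algebra.IsPushout R R' (𝒟.A i) (R' ⊗[R] 𝒟.A i))
  · letI : Algebra (𝒟.B i) ((CDevBC.BCFam.preDev 𝒟 R' S' N' f hf p').toDev.B i) := (RingHom.comp (((CDevBC.BCFam.preDev 𝒟 R' S' N' f hf p').ρe i.2).symm : (CDevBC.BCFam.preDev 𝒟 R' S' N' f hf p').B i →+* (CDevBC.BCFam.preDev 𝒟 R' S' N' f hf p').BB i)
      (algebraMap (𝒟.B i) (R' ⊗[R] 𝒟.B i))).toAlgebra
    letI : Algebra R ((CDevBC.BCFam.preDev 𝒟 R' S' N' f hf p').toDev.B i) := ((algebraMap R' ((CDevBC.BCFam.preDev 𝒟 R' S' N' f hf p').BB i)).comp (algebraMap R R')).toAlgebra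
    haveI : IsScalarTower R R' ((CDevBC.BCFam.preDev 𝒟 R' S' N' f hf p').toDev.B i) := IsScalarTower.of_algebraMap_eq (fun _ => rfl)
    haveI : IsScalarTower R (𝒟.B i) ((CDevBC.BCFam.preDev 𝒟 R' S' N' f hf p').toDev.B i) := by
      refine IsScalarTower.of_algebraMap_eq fun r => ?_
      show algebraMap R' ((CDevBC.BCFam.preDev 𝒟 R' S' N' f hf p').BB i) (algebraMap R R' r) = ((CDevBC.BCFam.preDev 𝒟 R' S' N' f hf p').ρe i.2).symm
        (algebraMap (𝒟.B i) (R' ⊗[R] 𝒟.B i) (algebraMap R (𝒟.B i) r))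
      rw [← IsScalarTower.algebraMap_apply R (𝒟.B i) (R' ⊗[R] 𝒟.B i),
        IsScalarTower.algebraMap_apply R R' (R' ⊗[R] 𝒟.B i)]
      exact (((CDevBC.BCFam.preDev 𝒟 R' S' N' f hf p').ρe i.2).symm.commutes _).symm
    exact Algebra.IsPushout.of_equiv
      (h := (TensorProduct.isPushout : Algebra.IsPushout R R' (𝒟.B i) (R' ⊗[R] 𝒟.B i)))
      (((CDevBC.BCFam.preDev 𝒟 R' S' N' f hf p').ρe i.2).symm : (R' ⊗[R] 𝒟.B i) ≃ₐ[R'] (CDevBC.BCFam.preDev 𝒟 R' S' N' f hf p').toDev.B i) rfl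
  · exact CDevBC.BCFam.isBaseChange_g 𝒟 R' i
  · apply SetLike.coe_injective
    have h1 := (CDevBC.BCFam.preDev 𝒟 R' S' N' f hf p').coe_range_α' i.2
    have h2 := congrArg (fun U : Submodule (R' ⊗[R] 𝒟.B i) (CDevBC.BCFam.MM 𝒟 R' i) =>
      (U : Set (CDevBC.BCFam.MM 𝒟 R' i))) (CDevBC.BCFam.range_α' 𝒟 R' i)
    have h3 := (CDevBC.BCFam.preDev 𝒟 R' S' N' f hf p').coe_span_BB i.2 ((CDevBC.BCFam.g 𝒟 R' i : 𝒟.M i → CDevBC.BCFam.MM 𝒟 R' i) ''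
      (LinearMap.range (𝒟.α i) : Set (𝒟.M i)))
    exact h1.trans (h2.trans h3.symm)

end Groth.Agent.S12243
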