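import Groth.Statements.S12245
import Groth.Agent.Lib.Helper26.GeomIrrNbhd17
import Groth.Agent.Lib.Helper26.DevEt4
import Groth.Agent.Lib.Helper26.DevEt5
import Groth.Agent.Lib.Helper3.Shrink4

set_option linter.style.haveILetI false

set_option autoImplicit false
universe u
open FlatMor

namespace Groth.Agent.S12245

open TensorProduct AlgebraicGeometry in
/-- All schemes are affine. Let R → S be of finite type, N a finite S-module, p ⊆ R and q ⊆ S primes
with q over p, and (C, D, G, n; z, y) a one-step dévissage of N/S/R at q (one-step dévissage over p;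
z a prime of C over q and over the prime y of D, unique over y; κ(y)/κ(p) purely transcendental;
local dimension of the fibre support at q equal to n). Let (R, p) → (R', p') and (D, y) → (D', y')
be elementary étale ring maps at those primes (étale, prime over prime, trivial residue field
extension) with D' an R'-algebra compatibly with D and R, and y' over p'. Then there are: an
elementary étale ring map (R', p') → (R'', p''); an R''-algebra D'' which is an affine open of the
base change of D' to R'' (an open immersion on spectra out of a pushout T of D' along R' → R''),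
compatibly with D' and R'', with a prime y'' over y' and over p''; the base change C'' of C along D
→ D'' with a prime z'' over z and y'' and the base change G'' of G to C''; an elementary étale ring
map (S, q) → (S'', q'') with S'' an R''-algebra compatibly with R → S and a surjection S'' → C''
compatible with S → C and with D'' → C'' over R'', z'' lying over q''; and the base change N'' of N
to S'' — such that (C'', D'', G'', n; z'', y'') is a one-step dévissage of N''/S''/R'' at q''
(including the four pointed conditions). -/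
theorem result
    (R S : Type u) [CommRing R] [CommRing S] [Algebra R S] [Algebra.FiniteType R S]
    (N : Type u) [AddCommGroup N] [Module S N] [Module R N] [IsScalarTower R S N] [Module.Finite S N]
    (p : Ideal R) [p.IsPrime] (q : Ideal S) [q.IsPrime] [q.LiesOver p]
    (C D G : Type u) [CommRing C] [CommRing D] [Algebra S C] [Algebra R C] [IsScalarTower R S C]
    [Algebra R D] [Algebra D C] [IsScalarTower R D C] [AddCommGroup G] [Module C G] [Module S G]
    [IsScalarTower S C G] (n : ℕ)
    (h : FlatCA.IsOneStepDevissage R S N p C D G n)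
    (z : Ideal C) [z.IsPrime] (y : Ideal D) [y.IsPrime] [z.LiesOver q] [z.LiesOver y] [y.LiesOver p]
    (h1 : ∃ (ξ : PrimeSpectrum (p.Fiber S)) (hξ : ξ ∈ Module.support (p.Fiber S) (FlatCA.fiberMod p S N)),
      ξ.asIdeal = FlatCA.fiberIdeal p q ∧
      FlatMor.localDim (Module.support (p.Fiber S) (FlatCA.fiberMod p S N)) ⟨ξ, hξ⟩ = n)
    (h3 : ∀ (z₁ : Ideal C) [z₁.IsPrime], z₁.LiesOver y → z₁ = z)
    (h4 : FlatCA.PurelyTranscendental p y)
    (R' : Type u) [CommRing R'] [Algebra R R'] (p' : Ideal R') [p'.IsPrime] (hR' : FlatCA.IsEtaleNhd R R' p p')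
    (D' : Type u) [CommRing D'] [Algebra D D'] [Algebra R' D'] [Algebra R D'] [IsScalarTower R R' D']
    [IsScalarTower R D D'] (y' : Ideal D') [y'.IsPrime] (hD' : FlatCA.IsEtaleNhd D D' y y') [y'.LiesOver p'] :
    ∃ (R'' : Type u) (_ : CommRing R'') (_ : Algebra R' R'') (_ : Algebra R R'') (_ : IsScalarTower R R' R'')
      (p'' : Ideal R'') (_ : p''.IsPrime),
      FlatCA.IsEtaleNhd R' R'' p' p'' ∧
    ∃ (T : Type u) (_ : CommRing T) (_ : Algebra R' T) (_ : Algebra R'' T) (_ : Algebra D' T)
      (_ : IsScalarTower R' R'' T) (_ : IsScalarTower R' D' T),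
      Algebra.IsPushout R' R'' D' T ∧
    ∃ (D'' : Type u) (_ : CommRing D'') (_ : Algebra T D'') (_ : Algebra D' D'') (_ : Algebra R'' D'')
      (_ : Algebra D D'') (_ : Algebra R D'') (_ : IsScalarTower D' T D'') (_ : IsScalarTower R'' T D'')
      (_ : IsScalarTower D D' D'') (_ : IsScalarTower R R'' D'') (_ : IsScalarTower R D D'')
      (y'' : Ideal D'') (_ : y''.IsPrime) (_ : y''.LiesOver y') (_ : y''.LiesOver p''),
      IsOpenImmersion (Spec.map (CommRingCat.ofHom (algebraMap T D''))) ∧
    ∃ (C'' : Type u) (_ : CommRing C'') (_ : Algebra C C'') (_ : Algebra D'' C'') (_ : Algebra D C'')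
      (_ : Algebra R'' C'') (_ : IsScalarTower D D'' C'') (_ : IsScalarTower D C C'') (_ : IsScalarTower R'' D'' C'')
      (z'' : Ideal C'') (_ : z''.IsPrime) (_ : z''.LiesOver z) (_ : z''.LiesOver y''),
      Algebra.IsPushout D D'' C C'' ∧
    ∃ (G'' : Type u) (_ : AddCommGroup G'') (_ : Module C'' G'') (_ : Module C G'') (_ : IsScalarTower C C'' G'')
      (gG : G →ₗ[C] G''), IsBaseChange C'' gG ∧
    ∃ (S'' : Type u) (_ : CommRing S'') (_ : Algebra S S'') (_ : Algebra R'' S'') (_ : Algebra R S'')
      (_ : IsScalarTower R S S'') (_ : IsScalarTower R R'' S'') (q'' : Ideal S'') (_ : q''.IsPrime)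
      (_ : Algebra S'' C'') (_ : Algebra S C'') (_ : IsScalarTower S S'' C'') (_ : IsScalarTower S C C'')
      (_ : IsScalarTower R'' S'' C'') (_ : Module S'' G'') (_ : IsScalarTower S'' C'' G''),
      FlatCA.IsEtaleNhd S S'' q q'' ∧ z''.LiesOver q'' ∧
    ∃ (N'' : Type u) (_ : AddCommGroup N'') (_ : Module S'' N'') (_ : Module S N'') (_ : IsScalarTower S S'' N'')
      (_ : Module R'' N'') (_ : IsScalarTower R'' S'' N'') (gN : N →ₗ[S] N''), IsBaseChange S'' gN ∧
      FlatCA.IsOneStepDevissage R'' S'' N'' p'' C'' D'' G'' n ∧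
      (∃ (ξ : PrimeSpectrum (p''.Fiber S'')) (hξ : ξ ∈ Module.support (p''.Fiber S'') (FlatCA.fiberMod p'' S'' N'')),
        ξ.asIdeal = FlatCA.fiberIdeal p'' q'' ∧
        FlatMor.localDim (Module.support (p''.Fiber S'') (FlatCA.fiberMod p'' S'' N'')) ⟨ξ, hξ⟩ = n) ∧
      (∀ (z₂ : Ideal C'') [z₂.IsPrime], z₂.LiesOver y'' → z₂ = z'') ∧
      FlatCA.PurelyTranscendental p'' y'' := by
  classical
  have hsm0 : FlatCA.SmoothRelDim n R D := h.2.2.2.2.2.1
  obtain ⟨etR', hp'p, hbijR'⟩ := hR'
  obtain ⟨etD', hy'y, hbijD'⟩ := hD'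
  haveI := etR'
  haveI := etD'
  haveI := hp'p
  haveI := hy'y
  -- smoothness and pure transcendence for `(R', p') → (D', y')`
  have hsm' : FlatCA.SmoothRelDim n R' D' :=
    Groth.Agent.Lib.helper26.DevEt.smoothRelDim_of_etale_etale n hsm0
  have hPT' : FlatCA.PurelyTranscendental p' y' :=
    Groth.Agent.Lib.helper3.Shrink.purelyTranscendental_of_bijective p p' D D' y y' hbijR'.2 hbijD' h4
  -- stage I
  obtain ⟨R'', cR'', algR'R'', p'', hp''prime, T, cT, algR'T, algR''T, algD'T, twR'R''T, twR'D'T,
    D'', cD'', algTD'', algR''D'', algD'D'', algR'D'', twD'TD'', twR''TD'', twR'R''D'', twR'D'D'',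
    y'', hy''prime, hy''p'', hpo, hopen, hEtR, hEtD, hsm'', hgi'', hPT''⟩ :=
    Groth.Agent.Lib.helper26.GeomIrr.concl2_of_smooth p' D' n hsm' y' hPT'
  letI := cR''
  letI := algR'R''
  haveI := hp''prime
  letI := cT
  letI := algR'T
  letI := algR''T
  letI := algD'T
  haveI := twR'R''T
  haveI := twR'D'T
  letI := cD''
  letI := algTD''
  letI := algR''D''
  letI := algD'D''
  letI := algR'D''
  haveI := twD'TD''
  haveI := twR''TD''
  haveI := twR'R''D''
  haveI := twR'D'D''
  haveI := hy''prime
  haveI := hy''p''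
  obtain ⟨etR'', hp''p', hbijR''⟩ := hEtR
  obtain ⟨etD'', hy''y', hbijD''⟩ := hEtD
  haveI := etR''
  haveI := etD''
  haveI := hp''p'
  haveI := hy''y'
  -- composite structures
  letI algRR'' : Algebra R R'' := ((algebraMap R' R'').comp (algebraMap R R')).toAlgebra
  haveI twRR'R'' : IsScalarTower R R' R'' := IsScalarTower.of_algebraMap_eq fun _ => rfl
  letI algDD'' : Algebra D D'' := ((algebraMap D' D'').comp (algebraMap D D')).toAlgebra
  haveI twDD'D'' : IsScalarTower D D' D'' := IsScalarTower.of_algebraMap_eq fun _ => rfl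
  letI algRD'' : Algebra R D'' := ((algebraMap R' D'').comp (algebraMap R R')).toAlgebra
  haveI twRR'D'' : IsScalarTower R R' D'' := IsScalarTower.of_algebraMap_eq fun _ => rfl
  haveI twRR''D'' : IsScalarTower R R'' D'' :=
    IsScalarTower.of_algebraMap_eq (R := R) (S := R'') (A := D'') fun r => by
      rw [IsScalarTower.algebraMap_apply R R' D'', IsScalarTower.algebraMap_apply R' R'' D'',
        ← IsScalarTower.algebraMap_apply R R' R'']
  haveI twRDD'' : IsScalarTower R D D'' :=
    IsScalarTower.of_algebraMap_eq (R := R) (S := D) (A := D'') fun r => by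
      rw [IsScalarTower.algebraMap_apply R R' D'', IsScalarTower.algebraMap_apply R' D' D'',
        ← IsScalarTower.algebraMap_apply R R' D', IsScalarTower.algebraMap_apply R D D',
        ← IsScalarTower.algebraMap_apply D D' D'']
  haveI hp''p : p''.LiesOver p := Ideal.LiesOver.trans p'' p' p
  haveI hy''y : y''.LiesOver y := Ideal.LiesOver.trans y'' y' y
  haveI : Algebra.Etale R R'' := Algebra.Etale.comp R R' R''
  haveI : Algebra.Etale D D'' := Algebra.Etale.comp D D' D''
  have hbR : Function.Bijective (Ideal.ResidueField.mapₐ p p'' (Algebra.ofId R R'') hp''p.over) :=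
    Groth.Agent.Lib.helper26.GeomIrr.bijective_mapₐ_comp p p' p'' hbijR' hbijR''
  have hbD : Function.Bijective (Ideal.ResidueField.mapₐ y y'' (Algebra.ofId D D'') hy''y.over) :=
    Groth.Agent.Lib.helper26.GeomIrr.bijective_mapₐ_comp y y' y'' hbijD' hbijD''
  have hcore := Groth.Agent.Lib.helper26.DevEt.exists_etale_localization_core R S N p q C D G n h z y
    h1 h3 R'' p'' ⟨inferInstance, hp''p, hbR⟩ D'' y'' ⟨inferInstance, hy''y, hbD⟩ hsm'' hgi'' hPT''
  exact ⟨R'', cR'', algR'R'', algRR'', twRR'R'', p'', hp''prime, ⟨etR'', hp''p', hbijR''⟩,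
    T, cT, algR'T, algR''T, algD'T, twR'R''T, twR'D'T, hpo,
    D'', cD'', algTD'', algD'D'', algR''D'', algDD'', algRD'', twD'TD'', twR''TD'', twDD'D'',
    twRR''D'', twRDD'', y'', hy''prime, hy''y', hy''p'', hopen, hcore⟩

end Groth.Agent.S12245
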