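import Groth.Statements.S12249
import Mathlib

set_option autoImplicit false
universe u v
open CategoryTheory
open Deform

namespace Groth.Agent.S12249

section helpers
variable {k : Type u} [Field k]
variable {R : Type u} [CommRing R] [Algebra k R] (res : R →ₐ[k] k)

/-- the algebra map `r ↦ res r + ℓ(r) ε` attached to a "derivation" `ℓ` -/
noncomputable def mkHom (ℓ : R →ₗ[k] k) (h1 : ℓ 1 = 0)
    (hmul : ∀ r s : R, ℓ (r * s) = res r * ℓ s + res s * ℓ r) : R →ₐ[k] DualNumber k where
  toFun r := (res r, ℓ r)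
  map_one' := TrivSqZeroExt.ext (map_one res) h1
  map_mul' r s := TrivSqZeroExt.ext (map_mul res r s) (by
    show ℓ (r * s) = res r • ℓ s + MulOpposite.op (res s) • ℓ r
    rw [hmul, smul_eq_mul, MulOpposite.smul_eq_mul_unop, MulOpposite.unop_op, mul_comm (ℓ r)])
  map_zero' := TrivSqZeroExt.ext (map_zero res) (map_zero ℓ)
  map_add' r s := TrivSqZeroExt.ext (map_add res r s) (map_add ℓ r s)
  commutes' c := TrivSqZeroExt.ext (by
      show res (algebraMap k R c) = c
      rw [AlgHom.commutes]; rfl) (by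
      show ℓ (algebraMap k R c) = 0
      rw [Algebra.algebraMap_eq_smul_one, map_smul, h1, smul_zero])


theorem fst_mkHom (ℓ : R →ₗ[k] k) (h1 : ℓ 1 = 0)
    (hmul : ∀ r s : R, ℓ (r * s) = res r * ℓ s + res s * ℓ r) (r : R) :
    (mkHom res ℓ h1 hmul r).fst = res r := rfl

theorem snd_mkHom (ℓ : R →ₗ[k] k) (h1 : ℓ 1 = 0)
    (hmul : ∀ r s : R, ℓ (r * s) = res r * ℓ s + res s * ℓ r) (r : R) :
    (mkHom res ℓ h1 hmul r).snd = ℓ r := rfl

/-- a functional vanishing on `k·1 + m²` is a derivation -/
theorem deriv_of_vanish [IsLocalRing R] (hres : ∀ a : R, a ∈ IsLocalRing.maximalIdeal R ↔ res a = 0)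
    (ℓ : R →ₗ[k] k) (h1 : ℓ 1 = 0)
    (hsq : ∀ w ∈ IsLocalRing.maximalIdeal R ^ 2, ℓ w = 0) (r s : R) :
    ℓ (r * s) = res r * ℓ s + res s * ℓ r := by
  have hc : ∀ c : k, ℓ (algebraMap k R c) = 0 := by
    intro c
    rw [Algebra.algebraMap_eq_smul_one, map_smul, h1, smul_zero]
  have hresalg : ∀ c : k, res (algebraMap k R c) = c := fun c => by
    rw [AlgHom.commutes]; rfl
  set a := algebraMap k R (res r) with ha
  set b := algebraMap k R (res s) with hb
  have hm : r - a ∈ IsLocalRing.maximalIdeal R := by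
    rw [hres, map_sub, ha, hresalg, sub_self]
  have hm' : s - b ∈ IsLocalRing.maximalIdeal R := by
    rw [hres, map_sub, hb, hresalg, sub_self]
  have hmm : (r - a) * (s - b) ∈ IsLocalRing.maximalIdeal R ^ 2 := by
    rw [pow_two]; exact Ideal.mul_mem_mul hm hm'
  have hexp : r * s = a * b + a * (s - b) + b * (r - a) + (r - a) * (s - b) := by ring
  rw [hexp, map_add, map_add, map_add, hsq _ hmm, add_zero]
  have e1 : ℓ (a * b) = 0 := by rw [ha, hb, ← map_mul]; exact hc _
  have e2 : ℓ (a * (s - b)) = res r * ℓ s := by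
    rw [ha, ← Algebra.smul_def, map_smul, map_sub, hb, hc, sub_zero, smul_eq_mul]
  have e3 : ℓ (b * (r - a)) = res s * ℓ r := by
    rw [hb, ← Algebra.smul_def, map_smul, map_sub, ha, hc, sub_zero, smul_eq_mul]
  rw [e1, e2, e3, zero_add]

/-- if the maximal ideal is nonzero there is a nonzero tangent vector -/
theorem exists_tangent [IsLocalRing R] [IsNoetherianRing R]
    (hres : ∀ a : R, a ∈ IsLocalRing.maximalIdeal R ↔ res a = 0)
    (hne : IsLocalRing.maximalIdeal R ≠ ⊥) :
    ∃ φ : R →ₐ[k] DualNumber k, (∀ r, (φ r).fst = res r) ∧ ∃ x, (φ x).snd ≠ 0 := by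
  have hresalg : ∀ c : k, res (algebraMap k R c) = c := fun c => by
    rw [AlgHom.commutes]; rfl
  -- Nakayama
  obtain ⟨x, hxm, hxsq⟩ : ∃ x ∈ IsLocalRing.maximalIdeal R, x ∉ IsLocalRing.maximalIdeal R ^ 2 := by
    by_contra hcon
    simp only [not_exists, not_and, not_not] at hcon
    apply hne
    have hle : IsLocalRing.maximalIdeal R ≤
        IsLocalRing.maximalIdeal R • IsLocalRing.maximalIdeal R := by
      intro y hy
      have := hcon y hy
      rwa [pow_two] at this
    exact Submodule.eq_bot_of_le_smul_of_le_jacobson_bot (IsLocalRing.maximalIdeal R)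
      (IsLocalRing.maximalIdeal R) (IsNoetherian.noetherian _) hle
      (IsLocalRing.maximalIdeal_le_jacobson ⊥)
  let W : Submodule k R := Submodule.span k {(1 : R)} ⊔
    (IsLocalRing.maximalIdeal R ^ 2).restrictScalars k
  have hxW : x ∉ W := by
    intro hx
    obtain ⟨y, hy, w, hw, hyw⟩ := Submodule.mem_sup.1 hx
    obtain ⟨c, rfl⟩ := Submodule.mem_span_singleton.1 hy
    have hw' : w ∈ IsLocalRing.maximalIdeal R ^ 2 := hw
    have hwm : w ∈ IsLocalRing.maximalIdeal R := Ideal.pow_le_self two_ne_zero hw'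
    have h0 := congrArg res hyw
    rw [map_add, (hres w).1 hwm, (hres x).1 hxm, add_zero, map_smul, map_one, smul_eq_mul,
      mul_one] at h0
    rw [h0, zero_smul, zero_add] at hyw
    exact hxsq (hyw ▸ hw')
  obtain ⟨ℓ, hℓx, hℓW⟩ := Submodule.exists_le_ker_of_notMem hxW
  have h1 : ℓ 1 = 0 := hℓW (Submodule.mem_sup_left (Submodule.subset_span rfl))
  have hsq : ∀ w ∈ IsLocalRing.maximalIdeal R ^ 2, ℓ w = 0 :=
    fun w hw => hℓW (Submodule.mem_sup_right hw)
  refine ⟨mkHom res ℓ h1 (deriv_of_vanish res hres ℓ h1 hsq), fun r => rfl, x, hℓx⟩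

end helpers


/-- Let k be an algebraically closed field and F a set-valued functor on local Artinian k-algebras with
residue field k such that F(k) is a single point. If F has a semiuniversal formal element and its
tangent space F(k[ε]) is reduced to one element, then F(A) consists of exactly one element for every
A: F is the constant one-point functor h_k. -/
theorem result
    {k : Type u} [Field k] [IsAlgClosed k]
    (F : ArtFun.Art k k ⥤ Type v) (h0 : ArtFun.H0 F) (hF : ArtFun.HasHull F)
    (ht : Subsingleton (ArtFun.TangentSpace F)) (A : ArtFun.Art k k) :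
    Nonempty (F.obj A) ∧ Subsingleton (F.obj A) := by
  obtain ⟨⟨R, ξ, hmini⟩⟩ := hF
  obtain ⟨hver, hbij⟩ := hmini
  have hresalg : ∀ c : k, R.res (algebraMap k R.carrier c) = c := fun c => by
    rw [AlgHom.commutes]; rfl
  have hmemmax : ∀ a : R.carrier, a ∈ IsLocalRing.maximalIdeal R.carrier ↔ R.res a = 0 := by
    intro a
    have hmax : (RingHom.ker (R.res : R.carrier →+* k)).IsMaximal :=
      RingHom.ker_isMaximal_of_surjective (R.res : R.carrier →+* k) R.res_surjective
    rw [← IsLocalRing.eq_maximalIdeal hmax, RingHom.mem_ker]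
    rfl
  -- the tangent space of R is a subsingleton
  have htR : Subsingleton (ArtFun.HomSet R.carrier R.res (ArtFun.Art.dual k k)) := by
    constructor
    intro a b
    apply hbij.1
    exact ht.elim _ _
  -- hence the maximal ideal of R vanishes
  have hm : IsLocalRing.maximalIdeal R.carrier = ⊥ := by
    by_contra hne
    obtain ⟨φ, hφ1, x, hx⟩ := exists_tangent R.res hmemmax hne
    let φ₀ : R.carrier →ₐ[k] DualNumber k := mkHom R.res 0 rfl (by intro r s; simp)
    let a : ArtFun.HomSet R.carrier R.res (ArtFun.Art.dual k k) :=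
      ⟨φ, AlgHom.ext fun r => hφ1 r⟩
    let b : ArtFun.HomSet R.carrier R.res (ArtFun.Art.dual k k) :=
      ⟨φ₀, AlgHom.ext fun r => rfl⟩
    have hab : a = b := htR.elim a b
    have h1 : φ x = φ₀ x := congrArg (fun ψ => ψ.1 x) hab
    apply hx
    rw [h1]
    rfl
  -- so every element of R is a scalar
  have hscal : ∀ r : R.carrier, r = algebraMap k R.carrier (R.res r) := by
    intro r
    have h1 : r - algebraMap k R.carrier (R.res r) ∈ IsLocalRing.maximalIdeal R.carrier := by
      rw [hmemmax, map_sub, hresalg, sub_self]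
    rw [hm, Ideal.mem_bot, sub_eq_zero] at h1
    exact h1
  have hsub : Subsingleton (ArtFun.HomSet R.carrier R.res A) := by
    constructor
    intro φ ψ
    apply Subtype.ext
    apply AlgHom.ext
    intro r
    rw [hscal r, AlgHom.commutes, AlgHom.commutes]
  -- versality gives surjectivity of ξ on A
  have hsurj : Function.Surjective (ξ.app A) := by
    intro y
    let φ₀ : ArtFun.HomSet R.carrier R.res (ArtFun.Art.base k k) := ⟨R.res, AlgHom.id_comp _⟩
    have hsubF : Subsingleton (F.obj (ArtFun.Art.base k k)) := h0.2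
    obtain ⟨ψ, -, hψ⟩ := hver (ArtFun.Art.toBase A) A.res_surjective φ₀ y (Subsingleton.elim _ _)
    exact ⟨ψ, hψ⟩
  constructor
  · have hresA : ∀ c : k, A.res (algebraMap k A c) = c := fun c => by
      rw [AlgHom.commutes]; rfl
    exact ⟨ξ.app A ⟨(Algebra.ofId k A).comp R.res, AlgHom.ext fun r => hresA (R.res r)⟩⟩
  · constructor
    intro y y'
    obtain ⟨ψ, rfl⟩ := hsurj y
    obtain ⟨ψ', rfl⟩ := hsurj y'
    rw [hsub.elim ψ ψ']

end Groth.Agent.S12249
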