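import Groth.Statements.S1225
import Groth.Agent.Lib.Helper26.RelAss1
import Groth.Agent.Lib.Helper26.WeakAssRG4
import Groth.Agent.Lib.Helper26.Purity4
import Groth.Agent.Lib.Helper26.FibCov1

set_option linter.style.haveILetI false

set_option autoImplicit false
universe u
open FlatMor

namespace Groth.Agent.S1225

open IsLocalRing in
/-- Ring form, X = Spec B affine: let A be a local ring, B a finite type A-algebra and N a finite
B-module which is flat over A and pure along the closed fibre. Then a B-linear map φ from N to any
B-module is injective if and only if its localization at q is injective for every prime q of B over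
𝔪_A whose extension to the closed fibre ring is an associated prime of the closed fibre module. -/
theorem result {A B : Type u} [CommRing A] [IsLocalRing A] [CommRing B] [Algebra A B] [Algebra.FiniteType A B]
    (N : Type u) [AddCommGroup N] [Module B N] [Module A N] [IsScalarTower A B N] [Module.Finite B N] [Module.Flat A N]
    (hpure : FlatCA.IsPureAlong A B N (maximalIdeal A))
    (N' : Type u) [AddCommGroup N'] [Module B N'] (φ : N →ₗ[B] N') :
    Function.Injective φ ↔ ∀ (q : Ideal B) [q.IsPrime], q.LiesOver (maximalIdeal A) →
      FlatCA.fiberIdeal (maximalIdeal A) q ∈ associatedPrimes ((maximalIdeal A).Fiber B) (FlatCA.fiberMod (maximalIdeal A) B N) →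
      Function.Injective (LocalizedModule.map q.primeCompl φ) := by
  constructor
  · intro hφ q _ _ _
    exact LocalizedModule.map_injective _ φ hφ
  · intro h
    rw [injective_iff_map_eq_zero]
    intro x hx
    by_contra hx0
    set I : Ideal B := (Submodule.span B {x}).annihilator with hI
    have hItop : I ≠ ⊤ := by
      intro htop
      apply hx0
      have : (1 : B) ∈ I := by rw [htop]; exact Submodule.mem_top
      have h1 := (Submodule.mem_annihilator_span_singleton _ _).mp this
      rwa [one_smul] at h1
    obtain ⟨q', hq'min⟩ := Ideal.nonempty_minimalPrimes hItop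
    haveI hq'prime : q'.IsPrime := hq'min.1.1
    have hIq' : I ≤ q' := hq'min.1.2
    have hW : q' ∈ FlatCA.weakAss B N := ⟨x, hq'min⟩
    have hW' := (Groth.Agent.Lib.Helper24.WeakAssBC.mem_weakAss_iff q' N).mp hW
    -- transport to `N ⊗ A`
    let e : TensorProduct A N A ≃ₗ[B] N := TensorProduct.AlgebraTensorModule.rid A B N
    have hW'' : Groth.Agent.Lib.Helper24.WeakAssBC.W B q' (TensorProduct A N A) := by
      obtain ⟨y, h1, h2⟩ := hW'
      refine ⟨e.symm y, ?_, ?_⟩
      · intro s hs h0
        apply h1 s hs
        have := congrArg e h0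
        rwa [map_smul, LinearEquiv.apply_symm_apply, map_zero] at this
      · intro b hb
        obtain ⟨s, hs, n, hn⟩ := h2 b hb
        refine ⟨s, hs, n, ?_⟩
        rw [← map_smul, hn, map_zero]
    set p' := q'.comap (algebraMap A B) with hp'
    haveI : p'.IsPrime := Ideal.comap_isPrime _ _
    haveI : q'.LiesOver p' := ⟨rfl⟩
    have hass := Groth.Agent.Lib.helper26.WeakAssRG.ass_fibre_of_W N q' A
      (Groth.Agent.Lib.helper26.FibCov.flatAt_of_flat N q') hW''
    -- purity
    obtain ⟨t, ht, hq't, htm⟩ : ∃ t : Ideal B, t.IsPrime ∧ q' ≤ t ∧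
        t.LiesOver (maximalIdeal A) := by
      by_contra hno
      apply hpure A B N LinearMap.id p' (maximalIdeal A) q'
        (Groth.Agent.Lib.helper26.Purity.isEtaleNhd_self A (maximalIdeal A))
      refine ⟨inferInstance, ?_, IsLocalRing.le_maximalIdeal (Ideal.IsPrime.ne_top inferInstance),
        ⟨(Ideal.comap_id _).symm⟩, inferInstance, hass, ?_⟩
      · exact IsBaseChange.of_equiv (TensorProduct.lid B N) fun x => by simp
      · intro P' _ hle hlo
        exact hno ⟨P', inferInstance, hle, hlo⟩
    haveI := ht
    haveI := htm
    obtain ⟨q, hq, hq'q, -, hqm, hqass⟩ :=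
      Groth.Agent.Lib.helper26.RelAss.exists_ass_specialization N (maximalIdeal A) t
        (Groth.Agent.Lib.helper26.FibCov.flatAt_of_flat N t) p' q' hq't hass
    haveI := hq
    have hinj := h q hqm hqass
    have h0 : LocalizedModule.mk x (1 : q.primeCompl) = 0 := by
      apply hinj
      rw [LocalizedModule.map_mk, hx, map_zero, LocalizedModule.zero_mk]
    obtain ⟨⟨s, hs⟩, hsx⟩ :=
      (Groth.Agent.Lib.helper3.UnivInjGlobal.mk_eq_zero_iff q.primeCompl x 1).mp h0
    apply hs
    apply hq'q
    apply hIq'
    exact (Submodule.mem_annihilator_span_singleton _ _).mpr hsx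

end Groth.Agent.S1225
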