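import Groth.Statements.S12252
import Mathlib
import Groth.Agent.S12250

set_option autoImplicit false
universe u v
open CategoryTheory
open Deform

namespace Groth.Agent.S12252

section helpers
open ArtFun

variable {Λ : Type u} {k : Type u} [CommRing Λ] [Field k] [Algebra Λ k]

/-- two algebra maps into a complete ring agreeing modulo all powers of the maximal ideal are equal -/
theorem algHom_ext_trunc {A : Type u} [CommRing A] [Algebra Λ A] (S : ArtFun.CRing Λ k)
    (f g : A →ₐ[Λ] S.carrier)
    (H : ∀ n, (S.truncHom n).1.comp f = (S.truncHom n).1.comp g) : f = g := by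
  have := S.isAdicComplete
  apply IsAdicComplete.algHom_ext (IsLocalRing.maximalIdeal S.carrier)
  intro n
  cases n with
  | zero =>
    apply AlgHom.ext
    intro x
    have hsub : Subsingleton (S.carrier ⧸ IsLocalRing.maximalIdeal S.carrier ^ 0) := by
      rw [pow_zero]
      exact Ideal.Quotient.subsingleton_iff.2 Ideal.one_eq_top
    exact Subsingleton.elim _ _
  | succ n => exact H n

variable {F : ArtFun.Art Λ k ⥤ Type v}

/-- the comparison map between two prorepresenting rings -/
theorem exists_map (injF : ∀ S : ArtFun.CRing Λ k,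
      Function.Injective (fun ξ : ArtFun.Family S.carrier S.res F => ξ.toFormalElt))
    (P Q : ArtFun.ProRep F) :
    ∃ (g : P.ring.carrier →ₐ[Λ] Q.ring.carrier) (hg : Q.ring.res.comp g = P.ring.res),
      P.family.along g hg = Q.family := by
  set R := P.ring with hR
  set S := Q.ring with hS
  have := S.isAdicComplete
  -- the compatible system of maps
  have hex : ∀ n : ℕ, ∃ gn : ArtFun.HomSet R.carrier R.res (S.trunc n),
      P.family.app _ gn = Q.family.app _ (S.truncHom n) := fun n =>
    (P.universal (S.trunc n)).2 _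
  choose gn hgn using hex
  have hcompat : ∀ {m n : ℕ} (h : m ≤ n),
      ArtFun.HomSet.map (Groth.Agent.S12250.trLE S h) (gn n) = gn m := by
    intro m n h
    apply (P.universal (S.trunc m)).1
    rw [P.family.natural, hgn, hgn, ← Q.family.natural, Groth.Agent.S12250.map_trLE]
  let gnA : (n : ℕ) → R.carrier →ₐ[Λ] S.carrier ⧸ IsLocalRing.maximalIdeal S.carrier ^ (n + 1) :=
    fun n => (gn n).1
  have htr : ∀ {m n : ℕ} (hle : m ≤ n)
      (z : S.carrier ⧸ IsLocalRing.maximalIdeal S.carrier ^ (n + 1)),
      (Groth.Agent.S12250.trLE S hle).toAlgHom z =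
        Ideal.Quotient.factorₐ Λ (Ideal.pow_le_pow_right (Nat.succ_le_succ hle)) z := by
    intro m n hle z
    obtain ⟨y, rfl⟩ := Ideal.Quotient.mk_surjective z
    rfl
  have hcompatA : ∀ {m n : ℕ} (hle : m ≤ n) (x : R.carrier),
      Ideal.Quotient.factorₐ Λ (Ideal.pow_le_pow_right (Nat.succ_le_succ hle)) (gnA n x) = gnA m x := by
    intro m n hle x
    rw [← htr hle]
    exact congrArg (fun ψ => ψ.1 x) (hcompat hle)
  let f : (n : ℕ) → R.carrier →ₐ[Λ] S.carrier ⧸ IsLocalRing.maximalIdeal S.carrier ^ n := fun n =>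
    (Ideal.Quotient.factorₐ Λ (Ideal.pow_le_pow_right (Nat.le_succ n))).comp (gnA n)
  have hf : ∀ {m n : ℕ} (hle : m ≤ n),
      (Ideal.Quotient.factorₐ Λ (Ideal.pow_le_pow_right hle)).comp (f n) = f m := by
    intro m n hle
    apply AlgHom.ext
    intro x
    show Ideal.Quotient.factorₐ Λ (Ideal.pow_le_pow_right hle)
        (Ideal.Quotient.factorₐ Λ (Ideal.pow_le_pow_right (Nat.le_succ n)) (gnA n x)) =
      Ideal.Quotient.factorₐ Λ (Ideal.pow_le_pow_right (Nat.le_succ m)) (gnA m x)
    rw [← hcompatA hle x]
    obtain ⟨y, hy⟩ := Ideal.Quotient.mk_surjective (gnA n x)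
    rw [← hy]
    rfl
  let g : R.carrier →ₐ[Λ] S.carrier := IsAdicComplete.liftAlgHom (IsLocalRing.maximalIdeal S.carrier) f hf
  have hgmk : ∀ (n : ℕ) (x : R.carrier),
      (S.truncHom n).1 (g x) = (gn n).1 x := by
    intro n x
    have h1 : (Ideal.Quotient.mk (IsLocalRing.maximalIdeal S.carrier ^ (n + 1)) (g x)) = f (n + 1) x :=
      IsAdicComplete.mk_liftAlgHom (IsLocalRing.maximalIdeal S.carrier) f hf (n + 1) x
    show Ideal.Quotient.mk (IsLocalRing.maximalIdeal S.carrier ^ (n + 1)) (g x) = gnA n x
    rw [h1, ← hcompatA (Nat.le_succ n) x]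
    show Ideal.Quotient.factorₐ Λ (Ideal.pow_le_pow_right (Nat.le_succ (n + 1))) (gnA (n + 1) x) = _
    obtain ⟨y, hy⟩ := Ideal.Quotient.mk_surjective (gnA (n + 1) x)
    rw [← hy]
  have hg : S.res.comp g = R.res := by
    apply AlgHom.ext
    intro x
    have h1 : (S.trunc 0).res ((S.truncHom 0).1 (g x)) = S.res (g x) := rfl
    have h2 : (S.trunc 0).res ((gn 0).1 x) = R.res x := congrArg (fun ψ => ψ x) (gn 0).2
    show S.res (g x) = R.res x
    rw [← h1, hgmk, h2]
  refine ⟨g, hg, ?_⟩
  apply injF S
  apply ArtFun.FormalElt.ext'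
  intro n
  show P.family.app _ ⟨(S.truncHom n).1.comp g, _⟩ = Q.family.app _ (S.truncHom n)
  rw [← hgn n]
  congr 1
  apply Subtype.ext
  apply AlgHom.ext
  intro x
  exact hgmk n x

/-- an endomorphism of a prorepresenting ring preserving the universal family is the identity -/
theorem endo_eq_id (P : ArtFun.ProRep F) (h : P.ring.carrier →ₐ[Λ] P.ring.carrier)
    (hh : P.ring.res.comp h = P.ring.res) (hfam : P.family.along h hh = P.family) :
    h = AlgHom.id Λ P.ring.carrier := by
  apply algHom_ext_trunc P.ring
  intro n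
  have h1 : (P.family.along h hh).app _ (P.ring.truncHom n) = P.family.app _ (P.ring.truncHom n) := by
    rw [hfam]
  have h2 := (P.universal (P.ring.trunc n)).1 h1
  have h3 := congrArg Subtype.val h2
  exact h3

/-- two maps transporting the universal family to the same family agree -/
theorem map_unique (P Q : ArtFun.ProRep F) (g g' : P.ring.carrier →ₐ[Λ] Q.ring.carrier)
    (hg : Q.ring.res.comp g = P.ring.res) (hg' : Q.ring.res.comp g' = P.ring.res)
    (h : P.family.along g hg = P.family.along g' hg') : g = g' := by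
  apply algHom_ext_trunc Q.ring
  intro n
  have h1 : (P.family.along g hg).app _ (Q.ring.truncHom n) =
      (P.family.along g' hg').app _ (Q.ring.truncHom n) := by rw [h]
  have h2 := (P.universal (Q.ring.trunc n)).1 h1
  exact congrArg Subtype.val h2

end helpers


/-- Let k be an algebraically closed field, Λ a complete local Noetherian k-algebra with residue field k
and F a set-valued functor on local Artinian Λ-algebras with residue field k. If (R, u) and (S, v)
both prorepresent F (complete local Noetherian Λ-algebras with residue field k carrying universal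
families), then there is a unique isomorphism of Λ-algebras R ≅ S, compatible with the augmentations
to k, along which the universal family of R is transported to that of S. -/
theorem result
    {k Λ : Type u} [Field k] [IsAlgClosed k] [CommRing Λ] [IsLocalRing Λ] [IsNoetherianRing Λ]
    [IsAdicComplete (IsLocalRing.maximalIdeal Λ) Λ] [Algebra k Λ] [Algebra Λ k] [IsScalarTower k Λ k]
    {F : ArtFun.Art Λ k ⥤ Type v} (P Q : ArtFun.ProRep F) :
    ∃! e : P.ring.carrier ≃ₐ[Λ] Q.ring.carrier,
      ∃ he : Q.ring.res.comp e.toAlgHom = P.ring.res, P.family.along e.toAlgHom he = Q.family := by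
  have injF : ∀ S : ArtFun.CRing Λ k,
      Function.Injective (fun ξ : ArtFun.Family S.carrier S.res F => ξ.toFormalElt) :=
    fun S => (Groth.Agent.S12250.result S F).1
  obtain ⟨g, hg, hgfam⟩ := exists_map injF P Q
  obtain ⟨g', hg', hgfam'⟩ := exists_map injF Q P
  have hcomp1 : P.ring.res.comp (g'.comp g) = P.ring.res := by
    rw [← AlgHom.comp_assoc, hg', hg]
  have hcomp2 : Q.ring.res.comp (g.comp g') = Q.ring.res := by
    rw [← AlgHom.comp_assoc, hg, hg']
  have h1 : g'.comp g = AlgHom.id Λ P.ring.carrier := by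
    apply endo_eq_id P _ hcomp1
    have : P.family.along (g'.comp g) hcomp1 = (P.family.along g hg).along g' hg' := rfl
    rw [this, hgfam, hgfam']
  have h2 : g.comp g' = AlgHom.id Λ Q.ring.carrier := by
    apply endo_eq_id Q _ hcomp2
    have : Q.family.along (g.comp g') hcomp2 = (Q.family.along g' hg').along g hg := rfl
    rw [this, hgfam', hgfam]
  refine ⟨AlgEquiv.ofAlgHom g g' h2 h1, ⟨hg, hgfam⟩, ?_⟩
  rintro e' ⟨he', hfam'⟩
  apply AlgEquiv.ext
  intro x
  have := map_unique P Q e'.toAlgHom g he' hg (hfam'.trans hgfam.symm)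
  exact congrArg (fun ψ => ψ x) this

end Groth.Agent.S12252
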