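import Groth.Statements.S12256
import Groth.Agent.LibNode29e
-- import your own Groth.Agent.* helpers here

set_option autoImplicit false
universe u
open CategoryTheory CategoryTheory.Limits AlgebraicGeometry
open Deform

namespace Groth.Agent.S12256

/-- Let k be an algebraically closed field and C = Spec k[x, y]/(xy) the union of the two coordinate
axes in the affine plane. Then the local moduli functor Def_C, of isomorphism classes of
deformations of C over local Artinian k-algebras with residue field k, is not prorepresentable by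
any complete local Noetherian k-algebra with residue field k. -/
theorem result
    {k : Type u} [Field k] [IsAlgClosed k] :
    ¬ ArtFun.IsProrepresentable (ArtFun.defFunctor (Λ := k)
      (Spec (CommRingCat.of (MvPolynomial (Fin 2) k ⧸
        Ideal.span {(MvPolynomial.X 0 * MvPolynomial.X 1 : MvPolynomial (Fin 2) k)})))
      (Spec.map (CommRingCat.ofHom (algebraMap k (MvPolynomial (Fin 2) k ⧸
        Ideal.span {(MvPolynomial.X 0 * MvPolynomial.X 1 : MvPolynomial (Fin 2) k)}))))) := by
  classical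
  rintro ⟨⟨R, fam, huniv⟩⟩
  -- Step 1: two distinct tangent vectors
  have hε : (ArtFun.Art.dual k k).res (DualNumber.eps : DualNumber k) = 0 := by
    change (DualNumber.eps : DualNumber k).fst = 0
    exact DualNumber.fst_eps
  have h0 : (ArtFun.Art.dual k k).res (0 : DualNumber k) = 0 := map_zero _
  have hne : (Groth.Agent.LibNode29.nodeFam (ArtFun.Art.dual k k) (DualNumber.eps : DualNumber k) hε).cl ≠
      (Groth.Agent.LibNode29.nodeFam (ArtFun.Art.dual k k) (0 : DualNumber k) h0).cl := by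
    intro h
    obtain ⟨θ⟩ := Quotient.exact h
    obtain ⟨a, b, ha, hb, hab⟩ := Groth.Agent.LibNode29.exists_mul_of_iso h0 θ
    have h1 : a * b = 0 := Groth.Agent.LibNode29.dual_mul_eq_zero a b ha hb
    rw [h1] at hab
    have h2 : (DualNumber.eps : DualNumber k).snd = (0 : DualNumber k).snd := congrArg TrivSqZeroExt.snd hab
    rw [DualNumber.snd_eps, TrivSqZeroExt.snd_zero] at h2
    exact one_ne_zero h2
  obtain ⟨φ₁, h1⟩ := (huniv (ArtFun.Art.dual k k)).2
    (Groth.Agent.LibNode29.nodeFam (ArtFun.Art.dual k k) (DualNumber.eps : DualNumber k) hε).cl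
  obtain ⟨φ₂, h2⟩ := (huniv (ArtFun.Art.dual k k)).2
    (Groth.Agent.LibNode29.nodeFam (ArtFun.Art.dual k k) (0 : DualNumber k) h0).cl
  have hφ : φ₁ ≠ φ₂ := fun h => hne (by rw [← h1, ← h2, h])
  -- Step 2: two distinct lifts in `h_R`
  obtain ⟨ψ', hψ'⟩ := (huniv (Groth.Agent.LibNode29.A3 k)).2
    (Groth.Agent.LibNode29.nodeFam (Groth.Agent.LibNode29.A3 k) (Groth.Agent.LibNode29.t3 k)
      (Groth.Agent.LibNode29.res_t3 k)).cl
  obtain ⟨ψ'', hne'', hmap⟩ := Groth.Agent.LibNode29.exists_ne_lift R.res φ₁ φ₂ hφ (Groth.Agent.LibNode29.p32 k)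
    (Groth.Agent.LibNode29.t3 k ^ 2) (Groth.Agent.LibNode29.t3_sq_ne_zero k) (Groth.Agent.LibNode29.p32_t3_sq k)
    (Groth.Agent.LibNode29.res_t3_sq k) (Groth.Agent.LibNode29.t3_ann k) ψ'
  -- Step 3: the two lifts give isomorphic deformations
  obtain ⟨η, hη⟩ := Quotient.exists_rep (fam.app (Groth.Agent.LibNode29.A3 k) ψ'')
  have hbc : (ArtFun.defFunctor (Λ := k) _ _).map (Groth.Agent.LibNode29.p32 k)
      (fam.app (Groth.Agent.LibNode29.A3 k) ψ'') =
      (ArtFun.defFunctor (Λ := k) _ _).map (Groth.Agent.LibNode29.p32 k)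
      (fam.app (Groth.Agent.LibNode29.A3 k) ψ') := by
    rw [← fam.natural, ← fam.natural, hmap]
  rw [← hη, hψ'] at hbc
  obtain ⟨θ⟩ := Quotient.exact hbc
  obtain ⟨e⟩ := Groth.Agent.LibNode29.iso_of_baseChange_iso (Groth.Agent.LibNode29.t3 k)
    (Groth.Agent.LibNode29.res_t3 k) (Groth.Agent.LibNode29.t3_ann k) (Groth.Agent.LibNode29.p32 k)
    (Groth.Agent.LibNode29.p32_surjective k) (Groth.Agent.LibNode29.ker_p32 k) η θ
  apply hne''
  apply (huniv (Groth.Agent.LibNode29.A3 k)).1
  rw [← hη, hψ']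
  exact Quotient.sound ⟨e⟩

end Groth.Agent.S12256
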