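import Groth.Statements.S12257
import Mathlib

set_option autoImplicit false
universe u v
open CategoryTheory CategoryTheory.Limits
open Deform

namespace Groth.Agent.S12257

/-- Let k be an algebraically closed field, Λ a complete local Noetherian k-algebra with residue field
k, and F, G, H set-valued functors on local Artinian Λ-algebras with residue field k, each with
one-point value at k. If F → G is a smooth morphism of functors and H → G is any morphism, then the
second projection F ×_G H → H of the fibre product of functors is smooth. -/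
theorem result
    {k Λ : Type u} [Field k] [IsAlgClosed k] [CommRing Λ] [IsLocalRing Λ] [IsNoetherianRing Λ]
    [IsAdicComplete (IsLocalRing.maximalIdeal Λ) Λ] [Algebra k Λ] [Algebra Λ k] [IsScalarTower k Λ k]
    {F G H : ArtFun.Art Λ k ⥤ Type v} (η : F ⟶ G) (θ : H ⟶ G)
    (hF : ArtFun.H0 F) (hG : ArtFun.H0 G) (hH : ArtFun.H0 H) (hη : ArtFun.IsSmooth η) :
    ArtFun.IsSmooth (pullback.snd η θ) := by
  intro B A μ hμ
  rintro ⟨⟨p, h⟩, hph⟩
  have hpb : ∀ X : ArtFun.Art Λ k, IsPullback ((pullback.fst η θ).app X) ((pullback.snd η θ).app X)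
      (η.app X) (θ.app X) := fun X =>
    (IsPullback.of_hasPullback η θ).map ((evaluation (ArtFun.Art Λ k) (Type v)).obj X)
  have hph' : (pullback.snd η θ).app A p = H.map μ h := hph
  -- the element of F(A) ×_{G(A)} G(B)
  have hcomp : η.app A ((pullback.fst η θ).app A p) = G.map μ (θ.app B h) := by
    have h1 : η.app A ((pullback.fst η θ).app A p) = θ.app A ((pullback.snd η θ).app A p) :=
      ConcreteCategory.congr_hom (hpb A).w p
    have h2 := NatTrans.naturality_apply θ μ h
    calc η.app A ((pullback.fst η θ).app A p) = θ.app A ((pullback.snd η θ).app A p) := h1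
      _ = θ.app A (H.map μ h) := by rw [hph']
      _ = G.map μ (θ.app B h) := h2
  obtain ⟨x', hx'⟩ := hη μ hμ ⟨((pullback.fst η θ).app A p, θ.app B h), hcomp⟩
  have hx'1 : F.map μ x' = (pullback.fst η θ).app A p := congrArg (fun t => t.1.1) hx'
  have hx'2 : η.app B x' = θ.app B h := congrArg (fun t => t.1.2) hx'
  obtain ⟨p', hp'1, hp'2⟩ := Limits.Types.exists_of_isPullback (hpb B) x' h hx'2
  refine ⟨p', ?_⟩
  apply Subtype.ext
  apply Prod.ext
  · show (pullback η θ).map μ p' = p
    apply Limits.Types.ext_of_isPullback (hpb A)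
    · have := NatTrans.naturality_apply (pullback.fst η θ) μ p'
      rw [this, hp'1, hx'1]
    · have := NatTrans.naturality_apply (pullback.snd η θ) μ p'
      rw [this, hp'2, hph']
  · exact hp'2

end Groth.Agent.S12257
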