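import Groth.Statements.S12269
import Groth.Agent.LibT2Ext29b
import Groth.Agent.Lib.Helper10.ExtShift
-- import your own Groth.Agent.* helpers here

set_option autoImplicit false
universe u
open CategoryTheory
open Deform

namespace Groth.Agent.S12269

/-- Let k be an algebraically closed field and B₀ a reduced k-algebra given with a finite presentation P
= k[X_i]/I (finitely many variables and relations); let T² = T²(B₀/k, B₀) be the second cotangent
module computed from P and I/I² the conormal module of the presentation. Then T² and Ext¹_{B₀}(I/I²,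
B₀) are isomorphic B₀-modules (existence of a B₀-linear isomorphism; the published one is induced by
the chosen presentation). (The published statement allows the quotient of any smooth k-algebra; this
row takes a polynomial presentation.) -/
theorem result
    {k : Type u} [Field k] [IsAlgClosed k] (B₀ : Type u) [CommRing B₀] [Algebra k B₀] {ι σ : Type u} [Finite ι] [Finite σ]
    (P : Algebra.Presentation k B₀ ι σ) [IsReduced B₀] :
    Nonempty (CotT.T2 P B₀ ≃ₗ[B₀]
      Abelian.Ext (ModuleCat.of B₀ P.toExtension.Cotangent) (ModuleCat.of B₀ B₀) 1) := by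
  haveI : IsRegularRing P.toExtension.Ring := inferInstanceAs (IsRegularRing (MvPolynomial ι k))
  -- the short exact sequence `0 → range d₂ → L₁ → I/I² → 0`
  have hexact : Function.Exact (LinearMap.range (CotT.d2 P)).subtype (CotT.toCot P) := by
    intro y
    constructor
    · intro hy
      have := Groth.Agent.LibCotT29.ker_toCot_le P (LinearMap.mem_ker.mpr hy)
      exact ⟨⟨y, this⟩, rfl⟩
    · rintro ⟨⟨_, ⟨z, rfl⟩⟩, rfl⟩
      exact LinearMap.congr_fun (CotT.toCot_comp_d2 P) z
  haveI : Module.Free B₀ (CotT.L1 P) := Module.Free.of_basis (CotT.L1basis P)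
  obtain ⟨ψ, hψ1, hψ2⟩ := Groth.Agent.Lib.helper10.ExtShift.one_modules B₀
    (K := LinearMap.range (CotT.d2 P)) (F := CotT.L1 P) (M := P.toExtension.Cotangent) B₀
    (LinearMap.range (CotT.d2 P)).subtype (CotT.toCot P) (Submodule.subtype_injective _) hexact
    (Groth.Agent.LibCotT29.toCot_surjective P)
  -- restriction along `d₂ : L₂ ↠ range d₂`
  have hsurj : Function.Surjective (CotT.d2 P).rangeRestrict := LinearMap.surjective_rangeRestrict _
  have hbij : Function.Bijective (LinearMap.lcomp B₀ B₀ (CotT.d2 P).rangeRestrict) := by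
    constructor
    · intro χ χ' h
      refine LinearMap.ext fun y => ?_
      obtain ⟨z, rfl⟩ := hsurj y
      exact LinearMap.congr_fun h z
    · intro φ
      have hker : LinearMap.ker (CotT.d2 P) ≤ LinearMap.ker φ := fun z hz =>
        LinearMap.mem_ker.mpr
          (Groth.Agent.LibCotT29.apply_eq_zero_of_d2_eq_zero P φ z (LinearMap.mem_ker.mp hz))
      refine ⟨(Submodule.liftQ _ φ hker) ∘ₗ (CotT.d2 P).quotKerEquivRange.symm.toLinearMap, ?_⟩
      refine LinearMap.ext fun z => ?_
      change Submodule.liftQ _ φ hker ((CotT.d2 P).quotKerEquivRange.symm ((CotT.d2 P).rangeRestrict z)) = φ z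
      have h1 : (CotT.d2 P).quotKerEquivRange.symm ((CotT.d2 P).rangeRestrict z) =
          (LinearMap.ker (CotT.d2 P)).mkQ z :=
        LinearMap.quotKerEquivRange_symm_apply_image (CotT.d2 P) z (LinearMap.mem_range_self _ z)
      rw [h1]
      rfl
  obtain ⟨e⟩ := Groth.Agent.Lib.helper10.ExtShift.cokerEquiv
    (LinearMap.lcomp B₀ B₀ (LinearMap.range (CotT.d2 P)).subtype) ψ
    (CotT.d2Star P B₀) (LinearMap.range (CotT.d2Star P B₀)).mkQ
    hψ1 hψ2
    (by
      intro φ
      rw [Submodule.mkQ_apply, Submodule.Quotient.mk_eq_zero]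
      rfl)
    (Submodule.mkQ_surjective _)
    (LinearEquiv.refl B₀ (CotT.L1 P →ₗ[B₀] B₀))
    (LinearEquiv.ofBijective _ hbij)
    (by
      refine LinearMap.ext fun χ => LinearMap.ext fun z => ?_
      rfl)
  exact ⟨e.symm⟩

end Groth.Agent.S12269
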