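import Groth.Statements.S1227
import Mathlib

set_option autoImplicit false
universe u
open FlatMor

namespace Groth.Agent.S1227

open TensorProduct

open TensorProduct in
/-- Let u be a surjective linear map from a projective A-module M to an A-module N. Then there is an
ideal I of A such that for every A-algebra B, the base change u ⊗ 1 from B ⊗ M to B ⊗ N is bijective
if and only if the image of I in B is zero. -/
theorem result {A : Type u} [CommRing A] {M N : Type u} [AddCommGroup M] [Module A M] [Module.Projective A M]
    [AddCommGroup N] [Module A N] (u : M →ₗ[A] N) (hu : Function.Surjective u) :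
    ∃ I : Ideal A, ∀ (B : Type u) [CommRing B] [Algebra A B],
      Function.Bijective (u.baseChange B) ↔ I.map (algebraMap A B) = ⊥ := by
  classical
  obtain ⟨s, hs⟩ := Module.projective_def'.mp (inferInstance : Module.Projective A M)
  let K := LinearMap.ker u
  let I : Ideal A := Ideal.span {a | ∃ k ∈ K, ∃ m : M, a = s k m}
  refine ⟨I, fun B _ _ => ?_⟩
  have hsurj : Function.Surjective (u.baseChange B) := by
    rw [LinearMap.baseChange_eq_ltensor]; exact LinearMap.lTensor_surjective B hu
  have hex : Function.Exact (K.subtype.lTensor B) (u.lTensor B) :=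
    lTensor_exact B (LinearMap.exact_subtype_ker_map u) hu
  have key : ∀ k : M, ((1 : B) ⊗ₜ[A] k = 0) ↔ ∀ m, algebraMap A B (s k m) = 0 := by
    intro k
    have hinj : Function.Injective (s.lTensor B) := by
      apply Function.LeftInverse.injective (g := (Finsupp.linearCombination A id).lTensor B)
      intro x
      rw [← LinearMap.comp_apply, ← LinearMap.lTensor_comp, hs, LinearMap.lTensor_id]; rfl
    have he : Function.Injective (TensorProduct.finsuppScalarRight A B B M) :=
      (TensorProduct.finsuppScalarRight A B B M).injective
    constructor
    · intro h m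
      have h1 : (TensorProduct.finsuppScalarRight A B B M) (s.lTensor B ((1:B) ⊗ₜ k)) m = 0 := by
        rw [h, map_zero, map_zero]; rfl
      rw [LinearMap.lTensor_tmul, finsuppScalarRight_apply_tmul_apply] at h1
      rwa [Algebra.smul_def, mul_one] at h1
    · intro h
      apply hinj
      rw [map_zero]
      apply he
      rw [map_zero]
      ext m
      rw [LinearMap.lTensor_tmul, finsuppScalarRight_apply_tmul_apply, Algebra.smul_def, mul_one, h]
      rfl
  constructor
  · intro hbij
    rw [Ideal.map_eq_bot_iff_le_ker, Ideal.span_le]
    rintro a ⟨k, hk, m, rfl⟩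
    have h1 : (1 : B) ⊗ₜ[A] k = 0 := by
      apply hbij.1
      rw [map_zero, LinearMap.baseChange_tmul, (LinearMap.mem_ker.mp hk), TensorProduct.tmul_zero]
    exact (key k).mp h1 m
  · intro hI
    refine ⟨?_, hsurj⟩
    have hzero : ∀ y : B ⊗[A] K, (K.subtype.lTensor B) y = 0 := by
      intro y
      induction y using TensorProduct.induction_on with
      | zero => simp
      | tmul b k =>
        rw [LinearMap.lTensor_tmul]
        have h2 : ∀ m, algebraMap A B (s k.1 m) = 0 := by
          intro m
          have hmem : s k.1 m ∈ I := Ideal.subset_span ⟨k.1, k.2, m, rfl⟩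
          have := Ideal.mem_map_of_mem (algebraMap A B) hmem
          rw [hI] at this
          exact this
        have h3 := (key k.1).mpr h2
        have h4 : b ⊗ₜ[A] (K.subtype k) = b • ((1 : B) ⊗ₜ[A] k.1) := by
          rw [TensorProduct.smul_tmul', smul_eq_mul, mul_one]; rfl
        rw [h4, h3, smul_zero]
      | add x y hx hy => rw [map_add, hx, hy, add_zero]
    rw [← LinearMap.ker_eq_bot, LinearMap.ker_eq_bot']
    intro x hx
    have hx' : (u.lTensor B) x = 0 := by
      have := congrFun (LinearMap.baseChange_eq_ltensor (A := B) (f := u)) x
      rw [← this]; exact hx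
    obtain ⟨y, rfl⟩ := (hex x).mp hx'
    exact hzero y

end Groth.Agent.S1227
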