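import Groth.Statements.S12279
import Groth.Agent.Lib.Helper11.Thick6

set_option autoImplicit false
universe u
open CategoryTheory CategoryTheory.Limits AlgebraicGeometry
open scoped TensorProduct
attribute [local instance] HasDerivedCategory.standard
open DefT

namespace Groth.Agent.S12279

/-- Let k be a field and X₀ a k-scheme; let C' → C be a surjection of local Artinian k-algebras with
residue field k whose kernel J is annihilated by the maximal ideal of C', X' a deformation of X₀
over C' (a scheme flat over Spec C' with a morphism from X₀ identifying X₀ with the closed fibre)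
and X = X' ×_{Spec C'} Spec C its base change. Let F be a finite locally free O_X-module, F₀ its
restriction to X₀ and End F₀ = Hom_{O_{X₀}}(F₀, F₀) its sheaf of endomorphisms (the sheaf Hom,
assumed to exist as the right adjoint of tensoring with F₀). If H^1(X₀, End F₀) = 0, then any two
finite locally free O_{X'}-modules F' and F'' whose restrictions to X are both isomorphic to F are
isomorphic. (The published statement says that the set of extensions of F over X', when non-empty,
is a torsor under H^1(X₀, End F₀ ⊗ J), for deformations over arbitrary local Artin rings; this row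
states the consequence when H^1(X₀, End F₀) = 0, over local Artinian k-algebras, and compares the
extensions only as O_{X'}-modules.) -/
theorem result
    {k : Type u} [Field k] (X₀ : Scheme.{u}) (x : X₀ ⟶ Spec (CommRingCat.of k))
    {C' C : ArtFun.Art k k} (p : C' ⟶ C) (hp : ArtFun.Art.IsSemismallExt p)
    (X' : ArtFun.DefSch X₀ x C')
    (F : (X'.baseChange p).total.Modules) (hF : FlatMod.IsFinLocFree F)
    [DCoh.HasSheafHom ((Scheme.Modules.pullback (X'.baseChange p).i).obj F)]
    (h1 : Subsingleton (Coh.HH X₀ ((DCoh.sheafHom ((Scheme.Modules.pullback (X'.baseChange p).i).obj F)).obj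
        ((Scheme.Modules.pullback (X'.baseChange p).i).obj F)) 1))
    (F' F'' : X'.total.Modules) (hF' : FlatMod.IsFinLocFree F') (hF'' : FlatMod.IsFinLocFree F'')
    (e' : Nonempty ((Scheme.Modules.pullback (pullback.fst X'.f (ArtFun.Art.specMap p))).obj F' ≅ F))
    (e'' : Nonempty ((Scheme.Modules.pullback (pullback.fst X'.f (ArtFun.Art.specMap p))).obj F'' ≅ F)) :
    Nonempty (F' ≅ F'') := by
  obtain ⟨e'⟩ := e'
  obtain ⟨e''⟩ := e''
  letI algC : Algebra C' C := p.toAlgHom.toRingHom.toAlgebra
  letI algk : Algebra C' k := C'.res.toRingHom.toAlgebra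
  haveI : Flat X'.f := X'.flat
  have h₀ : IsPullback X'.i x X'.f (Spec.map (CommRingCat.ofHom (algebraMap C' k))) :=
    X'.isPullback
  have h₁ : IsPullback (pullback.fst X'.f (ArtFun.Art.specMap p))
      (pullback.snd X'.f (ArtFun.Art.specMap p)) X'.f
      (Spec.map (CommRingCat.ofHom (algebraMap C' C))) := IsPullback.of_hasPullback _ _
  have hs₀ : Function.Surjective (algebraMap C' k) := C'.res_surjective
  have hk₀ : RingHom.ker (algebraMap C' k) = IsLocalRing.maximalIdeal C' := by
    ext a
    rw [RingHom.mem_ker, ArtFun.Art.mem_maximalIdeal_iff]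
    rfl
  have hs₁ : Function.Surjective (algebraMap C' C) := hp.1
  have hk₁ : RingHom.ker (algebraMap C' C) ≤ IsLocalRing.maximalIdeal C' := by
    intro a ha
    rw [ArtFun.Art.mem_maximalIdeal_iff, ← ArtFun.Art.res_app p a]
    have : p a = 0 := ha
    rw [this, map_zero]
  -- the restrictions to the closed fibre
  have hi : (X'.baseChange p).i ≫ pullback.fst X'.f (ArtFun.Art.specMap p) = X'.i :=
    ArtFun.DefSch.baseChange_i_fst X' p
  let eM' : (Scheme.Modules.pullback (X'.baseChange p).i).obj F ≅
      (Scheme.Modules.pullback X'.i).obj F' :=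
    (Scheme.Modules.pullback (X'.baseChange p).i).mapIso e'.symm ≪≫
      (Scheme.Modules.pullbackComp (X'.baseChange p).i
        (pullback.fst X'.f (ArtFun.Art.specMap p))).app F' ≪≫
      (Scheme.Modules.pullbackCongr hi).app F'
  let eM'' : (Scheme.Modules.pullback (X'.baseChange p).i).obj F ≅
      (Scheme.Modules.pullback X'.i).obj F'' :=
    (Scheme.Modules.pullback (X'.baseChange p).i).mapIso e''.symm ≪≫
      (Scheme.Modules.pullbackComp (X'.baseChange p).i
        (pullback.fst X'.f (ArtFun.Art.specMap p))).app F'' ≪≫
      (Scheme.Modules.pullbackCongr hi).app F''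
  have hv := Groth.Agent.Lib.helper11.FibLift.subsingleton_HH_pullback X'.i hF' F'' _ _ eM' eM'' 1 h1
  have hv' := Groth.Agent.Lib.helper11.FibLift.subsingleton_HH_pullback X'.i hF'' F' _ _ eM'' eM' 1 h1
  exact Groth.Agent.Lib.helper11.Thick.nonempty_iso_of_pullback_iso_artinian X'.f x X'.i h₀ hs₀ hk₀
    (pullback.snd X'.f (ArtFun.Art.specMap p)) (pullback.fst X'.f (ArtFun.Art.specMap p)) h₁ hs₁ hk₁
    F' F'' hF' hF'' hv hv' (e' ≪≫ e''.symm)

end Groth.Agent.S12279
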