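import Groth.Statements.S12284
import Mathlib

set_option autoImplicit false
universe u w m
open scoped TensorProduct
open DefT

namespace Groth.Agent.S12284

open CotT

section generic

variable {B : Type u} [CommRing B]
variable {M' M M'' : Type m} [AddCommGroup M'] [Module B M'] [AddCommGroup M] [Module B M]
  [AddCommGroup M''] [Module B M'']

/-- Left exactness of `Hom(L, -)`: a map killed by `g` factors through `f`. -/
theorem exists_factor (f : M' →ₗ[B] M) (g : M →ₗ[B] M'') (hf : Function.Injective f)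
    (hfg : Function.Exact f g) {L : Type*} [AddCommGroup L] [Module B L]
    (φ : L →ₗ[B] M) (hφ : g ∘ₗ φ = 0) : ∃ φ' : L →ₗ[B] M', f ∘ₗ φ' = φ := by
  have hmem : ∀ x, φ x ∈ LinearMap.range f := fun x =>
    (hfg (φ x)).mp (LinearMap.congr_fun hφ x)
  refine ⟨(LinearEquiv.ofInjective f hf).symm.toLinearMap ∘ₗ φ.codRestrict _ hmem, ?_⟩
  ext x
  simp only [LinearMap.coe_comp, LinearEquiv.coe_coe, Function.comp_apply]
  rw [LinearEquiv.ofInjective_symm_apply]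
  rfl

theorem comp_injective (f : M' →ₗ[B] M) (hf : Function.Injective f)
    {L : Type*} [AddCommGroup L] [Module B L] {a b : L →ₗ[B] M'} (h : f ∘ₗ a = f ∘ₗ b) : a = b := by
  ext x
  exact hf (LinearMap.congr_fun h x)

/-- The maps `L → M` killed by `g`. -/
abbrev K (g : M →ₗ[B] M'') (L : Type*) [AddCommGroup L] [Module B L] : Submodule B (L →ₗ[B] M) :=
  LinearMap.ker (LinearMap.llcomp B L M M'' g)

theorem mem_K (g : M →ₗ[B] M'') {L : Type*} [AddCommGroup L] [Module B L] (φ : L →ₗ[B] M) :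
    φ ∈ K g L ↔ g ∘ₗ φ = 0 := by
  rw [LinearMap.mem_ker]; rfl

/-- `Hom(L, M') ≃ {φ : L → M | g ∘ φ = 0}`. -/
noncomputable def homEquiv (f : M' →ₗ[B] M) (g : M →ₗ[B] M'') (hf : Function.Injective f)
    (hfg : Function.Exact f g) (L : Type*) [AddCommGroup L] [Module B L] :
    (L →ₗ[B] M') ≃ₗ[B] K g L :=
  LinearEquiv.ofBijective
    (LinearMap.codRestrict (K g L) (LinearMap.llcomp B L M' M f) (fun φ' => by
      rw [mem_K]
      change g ∘ₗ (f ∘ₗ φ') = 0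
      rw [← LinearMap.comp_assoc, hfg.linearMap_comp_eq_zero, LinearMap.zero_comp]))
    ⟨fun a b h => comp_injective f hf (congrArg Subtype.val h), fun φ => by
      obtain ⟨φ', hφ'⟩ := exists_factor f g hf hfg φ.1 ((mem_K g φ.1).mp φ.2)
      exact ⟨φ', Subtype.ext hφ'⟩⟩

theorem comp_homEquiv_symm (f : M' →ₗ[B] M) (g : M →ₗ[B] M'') (hf : Function.Injective f)
    (hfg : Function.Exact f g) (L : Type*) [AddCommGroup L] [Module B L] (φ : K g L) :
    f ∘ₗ ((homEquiv f g hf hfg L).symm φ) = φ.1 := by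
  have := (homEquiv f g hf hfg L).apply_symm_apply φ
  exact congrArg Subtype.val this

/-- Descend a linear map along a surjection. -/
theorem exists_desc {Z X Y : Type*} [AddCommGroup Z] [Module B Z] [AddCommGroup X] [Module B X]
    [AddCommGroup Y] [Module B Y] (π : Z →ₗ[B] X) (hπ : Function.Surjective π) (δ' : Z →ₗ[B] Y)
    (h : LinearMap.ker π ≤ LinearMap.ker δ') : ∃ δ : X →ₗ[B] Y, ∀ z, δ (π z) = δ' z := by
  let e := LinearMap.quotKerEquivOfSurjective π hπ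
  refine ⟨(Submodule.liftQ _ δ' h) ∘ₗ e.symm.toLinearMap, fun z => ?_⟩
  have : e.symm (π z) = Submodule.Quotient.mk z := by
    rw [LinearEquiv.symm_apply_eq]
    rfl
  simp only [LinearMap.coe_comp, LinearEquiv.coe_coe, Function.comp_apply]
  rw [this, Submodule.liftQ_apply]

end generic

section cx

variable {B : Type u} [CommRing B]
variable {L0 L1 L2 : Type*} [AddCommGroup L0] [Module B L0] [AddCommGroup L1] [Module B L1]
  [AddCommGroup L2] [Module B L2] (d1 : L1 →ₗ[B] L0) (d2 : L2 →ₗ[B] L1)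

/-- generic `T0` -/
abbrev gT0 (N : Type m) [AddCommGroup N] [Module B N] : Submodule B (L0 →ₗ[B] N) :=
  LinearMap.ker (LinearMap.lcomp B N d1)

/-- generic cocycles -/
abbrev gZ1 (N : Type m) [AddCommGroup N] [Module B N] : Submodule B (L1 →ₗ[B] N) :=
  LinearMap.ker (LinearMap.lcomp B N d2)

/-- generic coboundaries -/
abbrev gB1 (N : Type m) [AddCommGroup N] [Module B N] : Submodule B (gZ1 d2 N) :=
  (LinearMap.range (LinearMap.lcomp B N d1)).comap (gZ1 d2 N).subtype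

/-- generic `T1` -/
abbrev gT1 (N : Type m) [AddCommGroup N] [Module B N] : Type _ := gZ1 d2 N ⧸ gB1 d1 d2 N

/-- generic `T2` -/
abbrev gT2 (N : Type m) [AddCommGroup N] [Module B N] : Type _ :=
  (L2 →ₗ[B] N) ⧸ LinearMap.range (LinearMap.lcomp B N d2)

variable {N N' : Type m} [AddCommGroup N] [Module B N] [AddCommGroup N'] [Module B N']

theorem mem_gT0 (φ : L0 →ₗ[B] N) : φ ∈ gT0 d1 N ↔ φ ∘ₗ d1 = 0 := by
  rw [LinearMap.mem_ker, LinearMap.lcomp_apply']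

theorem mem_gZ1 (c : L1 →ₗ[B] N) : c ∈ gZ1 d2 N ↔ c ∘ₗ d2 = 0 := by
  rw [LinearMap.mem_ker, LinearMap.lcomp_apply']

/-- generic `T0map` -/
def gT0map (g : N →ₗ[B] N') : gT0 d1 N →ₗ[B] gT0 d1 N' :=
  (LinearMap.llcomp B L0 N N' g).restrict (p := gT0 d1 N) (q := gT0 d1 N') (fun φ hφ => by
      rw [mem_gT0] at hφ ⊢
      change (g ∘ₗ φ) ∘ₗ d1 = 0
      rw [LinearMap.comp_assoc, hφ, LinearMap.comp_zero])

/-- generic `cocycles1Map` -/
def gZ1map (g : N →ₗ[B] N') : gZ1 d2 N →ₗ[B] gZ1 d2 N' :=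
  (LinearMap.llcomp B L1 N N' g).restrict (p := gZ1 d2 N) (q := gZ1 d2 N') (fun φ hφ => by
      rw [mem_gZ1] at hφ ⊢
      change (g ∘ₗ φ) ∘ₗ d2 = 0
      rw [LinearMap.comp_assoc, hφ, LinearMap.comp_zero])

/-- generic `T1map` -/
def gT1map (g : N →ₗ[B] N') : gT1 d1 d2 N →ₗ[B] gT1 d1 d2 N' :=
  Submodule.mapQ (gB1 d1 d2 N) (gB1 d1 d2 N') (gZ1map d2 g) (by
    rintro φ ⟨ψ, hψ⟩
    refine ⟨g ∘ₗ ψ, ?_⟩
    change (g ∘ₗ ψ) ∘ₗ d1 = g ∘ₗ (φ : L1 →ₗ[B] N)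
    rw [LinearMap.comp_assoc]
    exact congrArg (fun t => g ∘ₗ t) hψ)

/-- generic `T2map` -/
def gT2map (g : N →ₗ[B] N') : gT2 d2 N →ₗ[B] gT2 d2 N' :=
  Submodule.mapQ _ _ (LinearMap.llcomp B L2 N N' g) (by
    rintro _ ⟨ψ, rfl⟩
    exact ⟨g ∘ₗ ψ, by rw [LinearMap.lcomp_apply', LinearMap.comp_assoc]; rfl⟩)

theorem gT1_mk_eq_zero (c : gZ1 d2 N) :
    (Submodule.Quotient.mk c : gT1 d1 d2 N) = 0 ↔ ∃ ψ : L0 →ₗ[B] N, ψ ∘ₗ d1 = c.1 := by
  rw [Submodule.Quotient.mk_eq_zero]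
  rfl

theorem gT2_mk_eq_zero (φ : L2 →ₗ[B] N) :
    (Submodule.Quotient.mk φ : gT2 d2 N) = 0 ↔ ∃ ψ : L1 →ₗ[B] N, ψ ∘ₗ d2 = φ := by
  rw [Submodule.Quotient.mk_eq_zero]
  rfl

theorem gT1_mk_eq_mk (c c₂ : gZ1 d2 N) :
    (Submodule.Quotient.mk c : gT1 d1 d2 N) = Submodule.Quotient.mk c₂ ↔
      ∃ ψ : L0 →ₗ[B] N, ψ ∘ₗ d1 = c.1 - c₂.1 := by
  rw [Submodule.Quotient.eq (gB1 d1 d2 N)]
  rfl

theorem gT2_mk_eq_mk (φ φ₂ : L2 →ₗ[B] N) :
    (Submodule.Quotient.mk φ : gT2 d2 N) = Submodule.Quotient.mk φ₂ ↔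
      ∃ ψ : L1 →ₗ[B] N, ψ ∘ₗ d2 = φ - φ₂ := by
  rw [Submodule.Quotient.eq (LinearMap.range (LinearMap.lcomp B N d2))]
  rfl

theorem gT1map_mk (g : N →ₗ[B] N') (c : gZ1 d2 N) :
    gT1map d1 d2 g (Submodule.Quotient.mk c) = Submodule.Quotient.mk (gZ1map d2 g c) := rfl

theorem gZ1map_val (g : N →ₗ[B] N') (c : gZ1 d2 N) : (gZ1map d2 g c).1 = g ∘ₗ c.1 := rfl

theorem gT2map_mk (g : N →ₗ[B] N') (φ : L2 →ₗ[B] N) :
    gT2map d2 g (Submodule.Quotient.mk φ) = Submodule.Quotient.mk (g ∘ₗ φ) := rfl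

theorem gT0map_val (g : N →ₗ[B] N') (x : gT0 d1 N) : (gT0map d1 g x).1 = g ∘ₗ x.1 := rfl

section partA

variable {M' M M'' : Type m} [AddCommGroup M'] [Module B M'] [AddCommGroup M] [Module B M]
  [AddCommGroup M''] [Module B M'']
variable (f : M' →ₗ[B] M) (g : M →ₗ[B] M'')

theorem T0_inj (hf : Function.Injective f) : Function.Injective (gT0map d1 f) := by
  intro x y h
  apply Subtype.ext
  apply comp_injective f hf
  exact congrArg Subtype.val h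

theorem T0_exact (hf : Function.Injective f) (hfg : Function.Exact f g) :
    Function.Exact (gT0map d1 f) (gT0map d1 g) := by
  intro x
  constructor
  · intro hx
    have hx' : g ∘ₗ x.1 = 0 := congrArg Subtype.val hx
    obtain ⟨φ', hφ'⟩ := exists_factor f g hf hfg x.1 hx'
    have hmem : φ' ∈ gT0 d1 M' := by
      rw [mem_gT0]
      apply comp_injective f hf
      rw [← LinearMap.comp_assoc, hφ', LinearMap.comp_zero]
      exact (mem_gT0 d1 x.1).mp x.2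
    exact ⟨⟨φ', hmem⟩, Subtype.ext hφ'⟩
  · rintro ⟨y, rfl⟩
    apply Subtype.ext
    change g ∘ₗ (f ∘ₗ y.1) = 0
    rw [← LinearMap.comp_assoc, hfg.linearMap_comp_eq_zero, LinearMap.zero_comp]

theorem T1_exact [Module.Projective B L0] (h12 : d1 ∘ₗ d2 = 0) (hf : Function.Injective f)
    (hg : Function.Surjective g)
    (hfg : Function.Exact f g) : Function.Exact (gT1map d1 d2 f) (gT1map d1 d2 g) := by
  intro x
  constructor
  · intro hx
    obtain ⟨c, rfl⟩ := Submodule.Quotient.mk_surjective _ x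
    rw [gT1map_mk, gT1_mk_eq_zero] at hx
    obtain ⟨ψ, hψ⟩ := hx
    rw [gZ1map_val] at hψ
    obtain ⟨ψ', hψ'⟩ := Module.projective_lifting_property g ψ hg
    have hk : g ∘ₗ (c.1 - ψ' ∘ₗ d1) = 0 := by
      rw [LinearMap.comp_sub, ← LinearMap.comp_assoc, hψ', hψ, sub_self]
    obtain ⟨c', hc'⟩ := exists_factor f g hf hfg _ hk
    have hmem : c' ∈ gZ1 d2 M' := by
      rw [mem_gZ1]
      apply comp_injective f hf
      rw [← LinearMap.comp_assoc, hc', LinearMap.comp_zero, LinearMap.sub_comp,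
        (mem_gZ1 d2 c.1).mp c.2, LinearMap.comp_assoc, h12, LinearMap.comp_zero,
        sub_zero]
    refine ⟨Submodule.Quotient.mk ⟨c', hmem⟩, ?_⟩
    rw [gT1map_mk, gT1_mk_eq_mk]
    refine ⟨-ψ', ?_⟩
    change (-ψ') ∘ₗ d1 = f ∘ₗ c' - c.1
    rw [hc', LinearMap.neg_comp]
    abel
  · rintro ⟨y, rfl⟩
    obtain ⟨c', rfl⟩ := Submodule.Quotient.mk_surjective _ y
    rw [gT1map_mk, gT1map_mk, gT1_mk_eq_zero]
    refine ⟨0, ?_⟩
    rw [LinearMap.zero_comp, gZ1map_val, gZ1map_val, ← LinearMap.comp_assoc,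
      hfg.linearMap_comp_eq_zero, LinearMap.zero_comp]

theorem T2_exact [Module.Projective B L1] (hf : Function.Injective f)
    (hg : Function.Surjective g)
    (hfg : Function.Exact f g) : Function.Exact (gT2map d2 f) (gT2map d2 g) := by
  intro x
  constructor
  · intro hx
    obtain ⟨φ, rfl⟩ := Submodule.Quotient.mk_surjective _ x
    rw [gT2map_mk, gT2_mk_eq_zero] at hx
    obtain ⟨ψ, hψ⟩ := hx
    obtain ⟨ψ', hψ'⟩ := Module.projective_lifting_property g ψ hg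
    have hk : g ∘ₗ (φ - ψ' ∘ₗ d2) = 0 := by
      rw [LinearMap.comp_sub, ← LinearMap.comp_assoc, hψ', hψ, sub_self]
    obtain ⟨φ', hφ'⟩ := exists_factor f g hf hfg _ hk
    refine ⟨Submodule.Quotient.mk φ', ?_⟩
    rw [gT2map_mk, gT2_mk_eq_mk]
    refine ⟨-ψ', ?_⟩
    rw [hφ', LinearMap.neg_comp]
    abel
  · rintro ⟨y, rfl⟩
    obtain ⟨φ', rfl⟩ := Submodule.Quotient.mk_surjective _ y
    rw [gT2map_mk, gT2map_mk, gT2_mk_eq_zero]
    refine ⟨0, ?_⟩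
    rw [LinearMap.zero_comp, ← LinearMap.comp_assoc, hfg.linearMap_comp_eq_zero,
      LinearMap.zero_comp]

end partA

section partB

variable {M' M M'' : Type m} [AddCommGroup M'] [Module B M'] [AddCommGroup M] [Module B M]
  [AddCommGroup M''] [Module B M'']
variable (f : M' →ₗ[B] M) (g : M →ₗ[B] M'')

theorem exists_delta0 [Module.Projective B L0] (h12 : d1 ∘ₗ d2 = 0) (hf : Function.Injective f)
    (hg : Function.Surjective g) (hfg : Function.Exact f g) :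
    ∃ δ₀ : gT0 d1 M'' →ₗ[B] gT1 d1 d2 M', ∀ (φ : L0 →ₗ[B] M) (h : g ∘ₗ φ ∈ gT0 d1 M'')
      (c' : gZ1 d2 M') (_ : f ∘ₗ c'.1 = φ ∘ₗ d1), δ₀ ⟨g ∘ₗ φ, h⟩ = Submodule.Quotient.mk c' := by
  let Z : Submodule B (L0 →ₗ[B] M) :=
    Submodule.comap (LinearMap.llcomp B L0 M M'' g) (gT0 d1 M'')
  let π : Z →ₗ[B] gT0 d1 M'' :=
    LinearMap.codRestrict _ ((LinearMap.llcomp B L0 M M'' g) ∘ₗ Z.subtype) (fun z => z.2)
  have hπ : Function.Surjective π := by
    rintro ⟨φ, hφ⟩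
    obtain ⟨φ', hφ'⟩ := Module.projective_lifting_property g φ hg
    have hmem : φ' ∈ Z := by
      change g ∘ₗ φ' ∈ gT0 d1 M''
      rw [hφ']; exact hφ
    exact ⟨⟨φ', hmem⟩, Subtype.ext hφ'⟩
  let a : Z →ₗ[B] K g L1 :=
    LinearMap.codRestrict _ ((LinearMap.lcomp B M d1) ∘ₗ Z.subtype) (fun z => by
      rw [mem_K]
      change g ∘ₗ (z.1 ∘ₗ d1) = 0
      rw [← LinearMap.comp_assoc]
      exact (mem_gT0 d1 _).mp z.2)
  let b : Z →ₗ[B] (L1 →ₗ[B] M') := (homEquiv f g hf hfg L1).symm.toLinearMap ∘ₗ a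
  have hb : ∀ z, f ∘ₗ b z = z.1 ∘ₗ d1 := fun z => comp_homEquiv_symm f g hf hfg L1 (a z)
  let c : Z →ₗ[B] gZ1 d2 M' := LinearMap.codRestrict _ b (fun z => by
    rw [mem_gZ1]
    apply comp_injective f hf
    rw [← LinearMap.comp_assoc, hb, LinearMap.comp_assoc, h12, LinearMap.comp_zero,
      LinearMap.comp_zero])
  let δ' : Z →ₗ[B] gT1 d1 d2 M' := (gB1 d1 d2 M').mkQ ∘ₗ c
  have hker : LinearMap.ker π ≤ LinearMap.ker δ' := by
    intro z hz
    have hz' : g ∘ₗ z.1 = 0 := congrArg Subtype.val hz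
    obtain ⟨χ, hχ⟩ := exists_factor f g hf hfg z.1 hz'
    rw [LinearMap.mem_ker]
    change (Submodule.Quotient.mk (c z) : gT1 d1 d2 M') = 0
    rw [gT1_mk_eq_zero]
    refine ⟨χ, ?_⟩
    apply comp_injective f hf
    rw [← LinearMap.comp_assoc, hχ]
    exact (hb z).symm
  obtain ⟨δ, hδ⟩ := exists_desc π hπ δ' hker
  refine ⟨δ, fun φ h c' hc' => ?_⟩
  have hπz : (⟨g ∘ₗ φ, h⟩ : gT0 d1 M'') = π ⟨φ, h⟩ := rfl
  rw [hπz, hδ]
  change (Submodule.Quotient.mk (c ⟨φ, h⟩) : gT1 d1 d2 M') = Submodule.Quotient.mk c'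
  congr 1
  apply Subtype.ext
  apply comp_injective f hf
  rw [hc']
  exact hb ⟨φ, h⟩

theorem exists_delta1 [Module.Projective B L0] [Module.Projective B L1] (h12 : d1 ∘ₗ d2 = 0)
    (hf : Function.Injective f) (hg : Function.Surjective g) (hfg : Function.Exact f g) :
    ∃ δ₁ : gT1 d1 d2 M'' →ₗ[B] gT2 d2 M', ∀ (c : L1 →ₗ[B] M) (h : g ∘ₗ c ∈ gZ1 d2 M'')
      (φ' : L2 →ₗ[B] M') (_ : f ∘ₗ φ' = c ∘ₗ d2),
      δ₁ (Submodule.Quotient.mk ⟨g ∘ₗ c, h⟩) = Submodule.Quotient.mk φ' := by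
  let Z : Submodule B (L1 →ₗ[B] M) :=
    Submodule.comap (LinearMap.llcomp B L1 M M'' g) (gZ1 d2 M'')
  let π₀ : Z →ₗ[B] gZ1 d2 M'' :=
    LinearMap.codRestrict _ ((LinearMap.llcomp B L1 M M'' g) ∘ₗ Z.subtype) (fun z => z.2)
  let π : Z →ₗ[B] gT1 d1 d2 M'' := (gB1 d1 d2 M'').mkQ ∘ₗ π₀
  have hπ : Function.Surjective π := by
    intro x
    obtain ⟨⟨c'', hc''⟩, rfl⟩ := Submodule.Quotient.mk_surjective _ x
    obtain ⟨c, hc⟩ := Module.projective_lifting_property g c'' hg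
    have hmem : c ∈ Z := by
      change g ∘ₗ c ∈ gZ1 d2 M''
      rw [hc]; exact hc''
    refine ⟨⟨c, hmem⟩, ?_⟩
    change (Submodule.Quotient.mk (π₀ ⟨c, hmem⟩) : gT1 d1 d2 M'') = Submodule.Quotient.mk _
    congr 1
    exact Subtype.ext hc
  let a : Z →ₗ[B] K g L2 :=
    LinearMap.codRestrict _ ((LinearMap.lcomp B M d2) ∘ₗ Z.subtype) (fun z => by
      rw [mem_K]
      change g ∘ₗ (z.1 ∘ₗ d2) = 0
      rw [← LinearMap.comp_assoc]
      exact (mem_gZ1 d2 _).mp z.2)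
  let b : Z →ₗ[B] (L2 →ₗ[B] M') := (homEquiv f g hf hfg L2).symm.toLinearMap ∘ₗ a
  have hb : ∀ z, f ∘ₗ b z = z.1 ∘ₗ d2 := fun z => comp_homEquiv_symm f g hf hfg L2 (a z)
  let δ' : Z →ₗ[B] gT2 d2 M' := (LinearMap.range (LinearMap.lcomp B M' d2)).mkQ ∘ₗ b
  have hker : LinearMap.ker π ≤ LinearMap.ker δ' := by
    intro z hz
    rw [LinearMap.mem_ker] at hz
    change (Submodule.Quotient.mk (π₀ z) : gT1 d1 d2 M'') = 0 at hz
    rw [gT1_mk_eq_zero] at hz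
    obtain ⟨ψ₂, hψ₂⟩ := hz
    have hψ₃ : ψ₂ ∘ₗ d1 = g ∘ₗ z.1 := hψ₂
    obtain ⟨ψ, hψ⟩ := Module.projective_lifting_property g ψ₂ hg
    have hk : g ∘ₗ (z.1 - ψ ∘ₗ d1) = 0 := by
      rw [LinearMap.comp_sub, ← LinearMap.comp_assoc, hψ, hψ₃, sub_self]
    obtain ⟨e, he⟩ := exists_factor f g hf hfg _ hk
    rw [LinearMap.mem_ker]
    change (Submodule.Quotient.mk (b z) : gT2 d2 M') = 0
    rw [gT2_mk_eq_zero]
    refine ⟨e, ?_⟩
    apply comp_injective f hf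
    rw [← LinearMap.comp_assoc, he, hb, LinearMap.sub_comp, LinearMap.comp_assoc, h12,
      LinearMap.comp_zero, sub_zero]
  obtain ⟨δ, hδ⟩ := exists_desc π hπ δ' hker
  refine ⟨δ, fun c h φ' hφ' => ?_⟩
  have hπz : (Submodule.Quotient.mk ⟨g ∘ₗ c, h⟩ : gT1 d1 d2 M'') = π ⟨c, h⟩ := rfl
  rw [hπz, hδ]
  change (Submodule.Quotient.mk (b ⟨c, h⟩) : gT2 d2 M') = Submodule.Quotient.mk φ'
  congr 1
  apply comp_injective f hf
  rw [hφ']
  exact hb ⟨c, h⟩

end partB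

section partC

variable {M' M M'' : Type m} [AddCommGroup M'] [Module B M'] [AddCommGroup M] [Module B M]
  [AddCommGroup M''] [Module B M'']
variable (f : M' →ₗ[B] M) (g : M →ₗ[B] M'')

/-- a lift `φ` of a `T0`-element of `M''` gives a cocycle with values in `M'`. -/
theorem exists_cocycle0 (h12 : d1 ∘ₗ d2 = 0) (hf : Function.Injective f)
    (hfg : Function.Exact f g) (φ : L0 →ₗ[B] M) (h : g ∘ₗ φ ∈ gT0 d1 M'') :
    ∃ c' : gZ1 d2 M', f ∘ₗ c'.1 = φ ∘ₗ d1 := by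
  have hk : g ∘ₗ (φ ∘ₗ d1) = 0 := by
    rw [← LinearMap.comp_assoc]
    exact (mem_gT0 d1 _).mp h
  obtain ⟨c', hc'⟩ := exists_factor f g hf hfg _ hk
  have hmem : c' ∈ gZ1 d2 M' := by
    rw [mem_gZ1]
    apply comp_injective f hf
    rw [← LinearMap.comp_assoc, hc', LinearMap.comp_assoc, h12, LinearMap.comp_zero,
      LinearMap.comp_zero]
  exact ⟨⟨c', hmem⟩, hc'⟩

theorem exists_factor1 (hf : Function.Injective f)
    (hfg : Function.Exact f g) (c : L1 →ₗ[B] M) (h : g ∘ₗ c ∈ gZ1 d2 M'') :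
    ∃ φ' : L2 →ₗ[B] M', f ∘ₗ φ' = c ∘ₗ d2 := by
  have hk : g ∘ₗ (c ∘ₗ d2) = 0 := by
    rw [← LinearMap.comp_assoc]
    exact (mem_gZ1 d2 _).mp h
  exact exists_factor f g hf hfg _ hk

theorem nine_term [Module.Projective B L0] [Module.Projective B L1] (h12 : d1 ∘ₗ d2 = 0)
    (hf : Function.Injective f) (hg : Function.Surjective g) (hfg : Function.Exact f g) :
    ∃ (δ₀ : gT0 d1 M'' →ₗ[B] gT1 d1 d2 M') (δ₁ : gT1 d1 d2 M'' →ₗ[B] gT2 d2 M'),
        Function.Exact (gT0map d1 g) δ₀ ∧ Function.Exact δ₀ (gT1map d1 d2 f) ∧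
        Function.Exact (gT1map d1 d2 g) δ₁ ∧ Function.Exact δ₁ (gT2map d2 f) := by
  obtain ⟨δ₀, h₀⟩ := exists_delta0 d1 d2 f g h12 hf hg hfg
  obtain ⟨δ₁, h₁⟩ := exists_delta1 d1 d2 f g h12 hf hg hfg
  have hgf : g ∘ₗ f = 0 := hfg.linearMap_comp_eq_zero
  refine ⟨δ₀, δ₁, ?_, ?_, ?_, ?_⟩
  · -- exactness at T0(M'')
    intro x
    constructor
    · intro hx
      obtain ⟨φ, hφ⟩ := Module.projective_lifting_property g x.1 hg
      have h : g ∘ₗ φ ∈ gT0 d1 M'' := by rw [hφ]; exact x.2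
      obtain ⟨c', hc'⟩ := exists_cocycle0 d1 d2 f g h12 hf hfg φ h
      have hx' : x = ⟨g ∘ₗ φ, h⟩ := Subtype.ext hφ.symm
      rw [hx', h₀ φ h c' hc', gT1_mk_eq_zero] at hx
      obtain ⟨χ, hχ⟩ := hx
      have hmem : φ - f ∘ₗ χ ∈ gT0 d1 M := by
        rw [mem_gT0, LinearMap.sub_comp, LinearMap.comp_assoc, hχ, hc', sub_self]
      refine ⟨⟨φ - f ∘ₗ χ, hmem⟩, ?_⟩
      apply Subtype.ext
      change g ∘ₗ (φ - f ∘ₗ χ) = x.1
      rw [LinearMap.comp_sub, ← LinearMap.comp_assoc, hgf, LinearMap.zero_comp, sub_zero, hφ]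
    · rintro ⟨y, rfl⟩
      have h : g ∘ₗ y.1 ∈ gT0 d1 M'' := (gT0map d1 g y).2
      have h0 : f ∘ₗ (0 : gZ1 d2 M').1 = y.1 ∘ₗ d1 := by
        rw [(mem_gT0 d1 y.1).mp y.2]
        exact LinearMap.comp_zero f
      have := h₀ y.1 h 0 h0
      rw [Submodule.Quotient.mk_zero] at this
      exact this
  · -- exactness at T1(M')
    intro y
    constructor
    · intro hy
      obtain ⟨c', rfl⟩ := Submodule.Quotient.mk_surjective _ y
      rw [gT1map_mk, gT1_mk_eq_zero] at hy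
      obtain ⟨φ, hφ⟩ := hy
      rw [gZ1map_val] at hφ
      have h : g ∘ₗ φ ∈ gT0 d1 M'' := by
        rw [mem_gT0, LinearMap.comp_assoc, hφ, ← LinearMap.comp_assoc, hgf, LinearMap.zero_comp]
      exact ⟨⟨g ∘ₗ φ, h⟩, h₀ φ h c' hφ.symm⟩
    · rintro ⟨x, rfl⟩
      obtain ⟨φ, hφ⟩ := Module.projective_lifting_property g x.1 hg
      have h : g ∘ₗ φ ∈ gT0 d1 M'' := by rw [hφ]; exact x.2
      obtain ⟨c', hc'⟩ := exists_cocycle0 d1 d2 f g h12 hf hfg φ h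
      have hx' : x = ⟨g ∘ₗ φ, h⟩ := Subtype.ext hφ.symm
      rw [hx', h₀ φ h c' hc', gT1map_mk, gT1_mk_eq_zero]
      exact ⟨φ, hc'.symm⟩
  · -- exactness at T1(M'')
    intro x
    constructor
    · intro hx
      obtain ⟨c₂, rfl⟩ := Submodule.Quotient.mk_surjective _ x
      obtain ⟨c, hc⟩ := Module.projective_lifting_property g c₂.1 hg
      have h : g ∘ₗ c ∈ gZ1 d2 M'' := by rw [hc]; exact c₂.2
      obtain ⟨φ', hφ'⟩ := exists_factor1 d2 f g hf hfg c h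
      have hc₂ : c₂ = ⟨g ∘ₗ c, h⟩ := Subtype.ext hc.symm
      rw [hc₂, h₁ c h φ' hφ', gT2_mk_eq_zero] at hx
      obtain ⟨e, he⟩ := hx
      have hmem : c - f ∘ₗ e ∈ gZ1 d2 M := by
        rw [mem_gZ1, LinearMap.sub_comp, LinearMap.comp_assoc, he, hφ', sub_self]
      refine ⟨Submodule.Quotient.mk ⟨c - f ∘ₗ e, hmem⟩, ?_⟩
      rw [gT1map_mk]
      congr 1
      apply Subtype.ext
      change g ∘ₗ (c - f ∘ₗ e) = c₂.1
      rw [LinearMap.comp_sub, ← LinearMap.comp_assoc, hgf, LinearMap.zero_comp, sub_zero, hc]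
    · rintro ⟨y, rfl⟩
      obtain ⟨c, rfl⟩ := Submodule.Quotient.mk_surjective _ y
      have h : g ∘ₗ c.1 ∈ gZ1 d2 M'' := (gZ1map d2 g c).2
      have h0 : f ∘ₗ (0 : L2 →ₗ[B] M') = c.1 ∘ₗ d2 := by
        rw [(mem_gZ1 d2 c.1).mp c.2]
        exact LinearMap.comp_zero f
      have := h₁ c.1 h 0 h0
      rw [Submodule.Quotient.mk_zero] at this
      exact this
  · -- exactness at T2(M')
    intro y
    constructor
    · intro hy
      obtain ⟨φ', rfl⟩ := Submodule.Quotient.mk_surjective _ y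
      rw [gT2map_mk, gT2_mk_eq_zero] at hy
      obtain ⟨c, hc⟩ := hy
      have h : g ∘ₗ c ∈ gZ1 d2 M'' := by
        rw [mem_gZ1, LinearMap.comp_assoc, hc, ← LinearMap.comp_assoc, hgf, LinearMap.zero_comp]
      exact ⟨Submodule.Quotient.mk ⟨g ∘ₗ c, h⟩, h₁ c h φ' hc.symm⟩
    · rintro ⟨x, rfl⟩
      obtain ⟨c₂, rfl⟩ := Submodule.Quotient.mk_surjective _ x
      obtain ⟨c, hc⟩ := Module.projective_lifting_property g c₂.1 hg
      have h : g ∘ₗ c ∈ gZ1 d2 M'' := by rw [hc]; exact c₂.2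
      obtain ⟨φ', hφ'⟩ := exists_factor1 d2 f g hf hfg c h
      have hc₂ : c₂ = ⟨g ∘ₗ c, h⟩ := Subtype.ext hc.symm
      rw [hc₂, h₁ c h φ' hφ', gT2map_mk, gT2_mk_eq_zero]
      exact ⟨c, hφ'.symm⟩

end partC

end cx

/-- Let A → B be a ring homomorphism, P a presentation of B over A with cotangent complex L₂ → L₁ → L₀,
and 0 → M' → M → M'' → 0 a short exact sequence of B-modules (f : M' → M injective, g : M → M''
surjective, image of f = kernel of g). Write T^i(N) for the i-th cohomology of Hom_B(L•, N) and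
T^i(f), T^i(g) for the maps induced by composition. Then T^0(f) is injective, the sequences T^i(M')
→ T^i(M) → T^i(M'') are exact for i = 0, 1, 2, and there are B-linear connecting maps δ₀ : T^0(M'')
→ T^1(M') and δ₁ : T^1(M'') → T^2(M') such that the nine-term sequence 0 → T^0(M') → T^0(M) →
T^0(M'') → T^1(M') → T^1(M) → T^1(M'') → T^2(M') → T^2(M) → T^2(M'') is exact. (The connecting maps
are asserted to exist with this exactness; the text does not single them out otherwise.) -/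
theorem result
    (A B : Type u) [CommRing A] [CommRing B] [Algebra A B] (ι σ : Type w)
    (P : Algebra.Presentation A B ι σ)
    (M' M M'' : Type m) [AddCommGroup M'] [Module B M'] [AddCommGroup M] [Module B M] [AddCommGroup M''] [Module B M'']
    (f : M' →ₗ[B] M) (g : M →ₗ[B] M'') (hf : Function.Injective f) (hg : Function.Surjective g)
    (hfg : Function.Exact f g) :
    Function.Injective (CotT.T0map P f) ∧ Function.Exact (CotT.T0map P f) (CotT.T0map P g) ∧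
      Function.Exact (CotT.T1map P f) (CotT.T1map P g) ∧ Function.Exact (CotT.T2map P f) (CotT.T2map P g) ∧
      ∃ (δ₀ : CotT.T0 P M'' →ₗ[B] CotT.T1 P M') (δ₁ : CotT.T1 P M'' →ₗ[B] CotT.T2 P M'),
        Function.Exact (CotT.T0map P g) δ₀ ∧ Function.Exact δ₀ (CotT.T1map P f) ∧
        Function.Exact (CotT.T1map P g) δ₁ ∧ Function.Exact δ₁ (CotT.T2map P f) := by
  have : Module.Free B (CotT.L1 P) := Module.Free.of_basis (CotT.L1basis P)
  refine ⟨T0_inj (CotT.d1 P) f hf, T0_exact (CotT.d1 P) f g hf hfg,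
    T1_exact (CotT.d1 P) (CotT.d2 P) f g (CotT.d1_comp_d2 P) hf hg hfg,
    T2_exact (CotT.d2 P) f g hf hg hfg,
    nine_term (CotT.d1 P) (CotT.d2 P) f g (CotT.d1_comp_d2 P) hf hg hfg⟩

end Groth.Agent.S12284
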