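import Groth.Statements.S12286
import Mathlib

set_option autoImplicit false
universe u w m
open scoped TensorProduct
open DefT

namespace Groth.Agent.S12286

set_option backward.isDefEq.respectTransparency false in
theorem aux
    (A B : Type u) [CommRing A] [CommRing B] [Algebra A B] (ι σ : Type w) (P : Algebra.Presentation A B ι σ)
    (M : Type m) [AddCommGroup M] [Module B M] [Module A M] [IsScalarTower A B M] :
    Function.Bijective (CotT.derToT0 P M) := by
  constructor
  · rw [injective_iff_map_eq_zero]
    intro D hD
    have hD' : CotT.derLift P M D = 0 := congrArg Subtype.val hD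
    ext b
    obtain ⟨r, rfl⟩ := P.toExtension.algebraMap_surjective b
    have := CotT.derLift_tmul_D P M D 1 r
    rw [hD', one_smul] at this
    simpa using this.symm
  · rintro ⟨φ, hφ⟩
    rw [LinearMap.mem_ker, CotT.d1Star_apply] at hφ
    have surj := P.toExtension.algebraMap_surjective
    let E : P.toExtension.Ring → M := fun r =>
      φ ((1 : B) ⊗ₜ[P.toExtension.Ring] KaehlerDifferential.D A P.toExtension.Ring r)
    have hEj : ∀ f : CotT.relMod P, E (CotT.jmap P f) = 0 := by
      intro f
      have := congrArg (fun ψ => ψ ((1 : B) ⊗ₜ f)) hφ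
      simpa [CotT.d1_tmul] using this
    have hEadd : ∀ r r', E (r + r') = E r + E r' := by
      intro r r'
      simp only [E]
      rw [map_add, TensorProduct.tmul_add, map_add]
    have hEker : ∀ r, algebraMap P.toExtension.Ring B r = 0 → E r = 0 := by
      intro r hr
      have hr' : r ∈ P.ker := hr
      rw [← CotT.range_jmap] at hr'
      obtain ⟨f, rfl⟩ := hr'
      exact hEj f
    have hEmul : ∀ r r', E (r * r') = algebraMap P.toExtension.Ring B r • E r' +
        algebraMap P.toExtension.Ring B r' • E r := by
      intro r r'
      simp only [E]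
      rw [Derivation.leibniz, TensorProduct.tmul_add, map_add, TensorProduct.tmul_smul,
        TensorProduct.tmul_smul, ← algebraMap_smul B r, ← algebraMap_smul B r', map_smul, map_smul]
    have hEalg : ∀ a : A, E (algebraMap A P.toExtension.Ring a) = 0 := by
      intro a
      simp only [E]
      rw [Derivation.map_algebraMap, TensorProduct.tmul_zero, map_zero]
    have hE' : ∀ r r', algebraMap P.toExtension.Ring B r = algebraMap P.toExtension.Ring B r' →
        E r = E r' := by
      intro r r' h
      have h1 := hEker (r - r') (by rw [map_sub, h, sub_self])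
      have h2 := hEadd (r - r') r'
      rw [sub_add_cancel, h1, zero_add] at h2
      exact h2
    let s : B → P.toExtension.Ring := Function.surjInv surj
    have hs : ∀ b, algebraMap P.toExtension.Ring B (s b) = b := Function.surjInv_eq surj
    let D₀ : B → M := fun b => E (s b)
    have hD₀ : ∀ r, D₀ (algebraMap P.toExtension.Ring B r) = E r := fun r => hE' _ _ (hs _)
    let Dlin : B →ₗ[A] M :=
      { toFun := D₀
        map_add' := fun b b' => by
          obtain ⟨r, rfl⟩ := surj b
          obtain ⟨r', rfl⟩ := surj b'
          rw [← map_add, hD₀, hD₀, hD₀, hEadd]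
        map_smul' := fun a b => by
          obtain ⟨r, rfl⟩ := surj b
          have h1 : a • algebraMap P.toExtension.Ring B r =
              algebraMap P.toExtension.Ring B (algebraMap A P.toExtension.Ring a * r) := by
            rw [map_mul, ← IsScalarTower.algebraMap_apply, Algebra.smul_def]
          rw [RingHom.id_apply, h1, hD₀, hD₀, hEmul, hEalg, smul_zero, add_zero,
            ← IsScalarTower.algebraMap_apply, algebraMap_smul] }
    have hDlin : ∀ b, Dlin b = D₀ b := fun b => rfl
    let D : Derivation A B M := Derivation.mk' Dlin (fun b b' => by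
      obtain ⟨r, rfl⟩ := surj b
      obtain ⟨r', rfl⟩ := surj b'
      rw [hDlin, hDlin, hDlin, ← map_mul, hD₀, hD₀, hD₀, hEmul])
    refine ⟨D, Subtype.ext ((P.cotangentSpaceBasis).ext fun i => ?_)⟩
    rw [CotT.derToT0_apply, CotT.derLift_basis]
    have h1 : P.val i = algebraMap P.toExtension.Ring B (MvPolynomial.X i) := by
      rw [CotT.algebraMap_toExtension, MvPolynomial.aeval_X]
    change D₀ (P.val i) = φ (P.cotangentSpaceBasis i)
    rw [h1, hD₀, Algebra.Generators.cotangentSpaceBasis_apply]
    rfl

/-- Let A → B be a ring homomorphism, P a presentation of B over A and M a B-module. The canonical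
B-linear map from the A-derivations Der_A(B, M) = Hom_B(Ω_{B/A}, M) to T^0(B/A, M) (the kernel of
Hom_B(L₀, M) → Hom_B(L₁, M), L₀ = B ⊗_R Ω_{R/A}), sending a derivation D to b ⊗ dr ↦ b·D(r̄), is
bijective. -/
theorem result
    (A B : Type u) [CommRing A] [CommRing B] [Algebra A B] (ι σ : Type w) (P : Algebra.Presentation A B ι σ)
    (M : Type m) [AddCommGroup M] [Module B M] [Module A M] [IsScalarTower A B M] :
    Function.Bijective (CotT.derToT0 P M) := by
  exact aux A B ι σ P M

end Groth.Agent.S12286
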