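import Groth.Statements.S12287
import Groth.Agent.LibCotT29d
import Groth.Agent.LibCotT29e
-- import your own Groth.Agent.* helpers here

set_option autoImplicit false
universe u w m
open scoped TensorProduct
open DefT

namespace Groth.Agent.S12287

open CotT

/-- the presentation of a polynomial algebra with no relations -/
noncomputable def polyPres (A B : Type u) [CommRing A] [CommRing B] [Algebra A B] (κ : Type u)
    (e : MvPolynomial κ A ≃ₐ[A] B) : Algebra.Presentation A B κ PEmpty.{u+1} where
  __ := Algebra.Generators.ofSurjective (fun i => e (MvPolynomial.X i)) (by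
    have : (MvPolynomial.aeval (R := A) fun i => e (MvPolynomial.X i)) = e.toAlgHom := by
      apply MvPolynomial.algHom_ext
      intro i
      simp
    rw [this]
    exact e.surjective)
  relation := PEmpty.elim
  span_range_relation_eq_ker := by
    have hker : ∀ x : MvPolynomial κ A, MvPolynomial.aeval (R := A) (fun i => e (MvPolynomial.X i)) x = 0 → x = 0 := by
      intro x hx
      have : (MvPolynomial.aeval (R := A) fun i => e (MvPolynomial.X i)) = e.toAlgHom := by
        apply MvPolynomial.algHom_ext
        intro i
        simp
      rw [this] at hx
      exact (map_eq_zero_iff e e.injective).mp hx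
    apply le_antisymm
    · rw [Ideal.span_le]
      rintro _ ⟨i, -⟩
      exact i.elim
    · intro x hx
      have hx' : MvPolynomial.aeval (R := A) (fun i => e (MvPolynomial.X i)) x = 0 := by
        rw [Algebra.Generators.ker_eq_ker_aeval_val] at hx
        exact hx
      rw [hker x hx']
      exact Ideal.zero_mem _


/-- Let B be an A-algebra that is isomorphic over A to a polynomial ring A[x_j] in some set of
variables. Then for every B-module M the modules T^1(B/A, M) and T^2(B/A, M), computed from the
choice-free presentation of B over A (every element of B a variable, every element of the kernel a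
relation), are zero. -/
theorem result
    (A B : Type u) [CommRing A] [CommRing B] [Algebra A B] (κ : Type u) (e : MvPolynomial κ A ≃ₐ[A] B)
    (M : Type u) [AddCommGroup M] [Module B M] :
    Subsingleton (CotT.T1 (CotT.canon A B) M) ∧ Subsingleton (CotT.T2 (CotT.canon A B) M) := by
  let P₀ := polyPres A B κ e
  have hF : Subsingleton (relMod P₀) := by
    refine ⟨fun a b => ?_⟩
    ext s
    exact s.elim
  have hL1 : Subsingleton (L1 P₀) := by
    refine ⟨fun a b => ?_⟩
    have h0 : ∀ z : L1 P₀, z = 0 := by
      intro z
      induction z using TensorProduct.induction_on with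
      | zero => rfl
      | add x y hx hy => rw [hx, hy, add_zero]
      | tmul b f => rw [Subsingleton.elim f 0, TensorProduct.tmul_zero]
    rw [h0 a, h0 b]
  have hL2 : Subsingleton (L2 P₀) := by
    refine ⟨fun a b => ?_⟩
    have h0 : ∀ z : L2 P₀, z = 0 := by
      intro z
      induction z using Submodule.Quotient.induction_on with
      | H z =>
        induction z using TensorProduct.induction_on with
        | zero => rfl
        | add x y hx hy => rw [Submodule.Quotient.mk_add, hx, hy, add_zero]
        | tmul b q =>
          have : q = 0 := Subtype.ext (Subsingleton.elim _ _)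
          rw [this, TensorProduct.tmul_zero, Submodule.Quotient.mk_zero]
    rw [h0 a, h0 b]
  have hT1 : Subsingleton (T1 P₀ M) := by
    have : Subsingleton (L1 P₀ →ₗ[B] M) := ⟨fun f g => LinearMap.ext fun x => by
      rw [Subsingleton.elim x 0, map_zero, map_zero]⟩
    have : Subsingleton (cocycles1 P₀ M) := inferInstance
    exact inferInstance
  have hT2 : Subsingleton (T2 P₀ M) := by
    have : Subsingleton (L2 P₀ →ₗ[B] M) := ⟨fun f g => LinearMap.ext fun x => by
      rw [Subsingleton.elim x 0, map_zero, map_zero]⟩
    exact inferInstance
  obtain ⟨e1⟩ := Groth.Agent.LibCotT29.nonempty_T1_equiv (CotT.canon A B) P₀ M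
  obtain ⟨e2⟩ := Groth.Agent.LibCotT29.nonempty_T2_equiv (CotT.canon A B) P₀ M
  exact ⟨e1.toEquiv.subsingleton, e2.toEquiv.subsingleton⟩

end Groth.Agent.S12287
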