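import Groth.Statements.S1229
import Groth.Agent.Lib.Helper3.UFlat12

set_option autoImplicit false
universe u
open FlatMor

namespace Groth.Agent.S1229

open IsLocalRing in
/-- Let A be a henselian local ring, A → B a local homomorphism of local rings which is essentially of
finite type, and M a finite B-module. Then some ideal I of A has the following property: for any
local ring A' with a local structure map from A, writing B', M' for the base changes of B, M to A'
(any models), M' is flat over A' at all primes of B' lying above both maximal ideals exactly when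
IA' = 0. If A → B is essentially of finite presentation and M is finitely presented over B then I is
finitely generated. -/
theorem result {A B : Type u} [CommRing A] [HenselianLocalRing A] [CommRing B] [IsLocalRing B] [Algebra A B]
    [IsLocalHom (algebraMap A B)] [Algebra.EssFiniteType A B]
    (M : Type u) [AddCommGroup M] [Module B M] [Module A M] [IsScalarTower A B M] [Module.Finite B M] :
    ∃ I : Ideal A,
      (∀ (A' B' M' : Type u) [CommRing A'] [IsLocalRing A'] [Algebra A A'] [IsLocalHom (algebraMap A A')]
        [CommRing B'] [Algebra B B'] [Algebra A' B'] [Algebra A B'] [IsScalarTower A B B'] [IsScalarTower A A' B']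
        [Algebra.IsPushout A B A' B']
        [AddCommGroup M'] [Module B' M'] [Module B M'] [IsScalarTower B B' M'] [Module A' M'] [IsScalarTower A' B' M']
        (f : M →ₗ[B] M'), IsBaseChange B' f →
        ((∀ (q : Ideal B') [q.IsPrime], (maximalIdeal A').map (algebraMap A' B') ⊔ (maximalIdeal B).map (algebraMap B B') ≤ q →
            FlatCA.FlatAt A' q M') ↔ I.map (algebraMap A A') = ⊥)) ∧
      (FlatCA.EssFinitePresentation A B → Module.FinitePresentation B M → I.FG) := by
  classical
  -- step 1: reduce to the existence of a flattening ideal in the sense of `UFlat.Flattens`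
  suffices h : ∃ I : Ideal A, Groth.Agent.Lib.helper3.UFlat.Flattens A B (maximalIdeal B) M I ∧
      (FlatCA.EssFinitePresentation A B → Module.FinitePresentation B M → I.FG) by
    obtain ⟨I, hI, hIfg⟩ := h
    refine ⟨I, ?_, hIfg⟩
    intro A' B' M' _ _ _ _ _ _ _ _ _ _ _ _ _ _ _ _ _ f hf
    rw [← hI A' B' M' f hf]
    constructor
    · intro h0 Q _ hQB hQA
      apply h0 Q
      rw [sup_le_iff, Ideal.map_le_iff_le_comap, Ideal.map_le_iff_le_comap]
      refine ⟨?_, ?_⟩
      · have := hQA.over
        rw [Ideal.under_def] at this
        exact this.le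
      · have := hQB.over
        rw [Ideal.under_def] at this
        exact this.le
    · intro h0 q _ hq
      rw [sup_le_iff, Ideal.map_le_iff_le_comap, Ideal.map_le_iff_le_comap] at hq
      refine h0 q ⟨?_⟩ ⟨?_⟩
      · rw [Ideal.under_def]
        exact ((maximalIdeal.isMaximal B).eq_of_le (Ideal.comap_isPrime _ q).ne_top hq.2)
      · rw [Ideal.under_def]
        exact ((maximalIdeal.isMaximal A').eq_of_le (Ideal.comap_isPrime _ q).ne_top hq.1)
  -- step 2: choose a model
  by_cases hfp : FlatCA.EssFinitePresentation A B
  · obtain ⟨S₀, _, _, _, _, T, hS₀, hloc⟩ := hfp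
    have := hS₀
    have := hloc
    obtain ⟨I, hI, hIfg⟩ :=
      Groth.Agent.Lib.helper3.UFlat.exists_flattens_of_isLocalization (A := A) (B := B) S₀ T M
    exact ⟨I, hI, fun _ h2 => hIfg hS₀ h2⟩
  · obtain ⟨I, hI, -⟩ :=
      Groth.Agent.Lib.helper3.UFlat.exists_flattens_of_isLocalization (A := A) (B := B)
        (Algebra.EssFiniteType.subalgebra A B) (Algebra.EssFiniteType.submonoid A B) M
    exact ⟨I, hI, fun h1 _ => absurd h1 hfp⟩

end Groth.Agent.S1229
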