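import Groth.Statements.S12291
import Groth.Agent.S12288
import Groth.Agent.LibT2CI29a
import Groth.Agent.LibT2CI29c
import Groth.Agent.Lib.Helper17.CIField6
-- import your own Groth.Agent.* helpers here

set_option autoImplicit false
universe u w m
open scoped TensorProduct
open DefT

namespace Groth.Agent.S12291

/-- Let k be an algebraically closed field and A a regular local k-algebra with residue field k such
that T^1(A/k, N) = 0 and T^2(A/k, N) = 0 for all A-modules N; let I be a proper ideal of A and B =
A/I. Then B is cut out of A as a local complete intersection — meaning I is generated by some list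
of r elements with r + dim B = dim A, i.e. by dim A − dim B elements — exactly when T^2(B/k, M)
vanishes for each B-module M. The T^i are computed from the choice-free presentations. (The
published statement assumes only that A is a regular local k-algebra with residue field k; its proof
uses the vanishing of T^1(A/k, −) and T^2(A/k, −), which holds when A is essentially of finite type
over k and which this row carries as a hypothesis.) -/
theorem result
    (k A : Type u) [Field k] [IsAlgClosed k] [CommRing A] [IsRegularLocalRing A] [Algebra k A]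
    (hres : Function.Surjective (algebraMap k (IsLocalRing.ResidueField A)))
    (hT : ∀ (N : Type u) [AddCommGroup N] [Module A N],
      Subsingleton (CotT.T1 (CotT.canon k A) N) ∧ Subsingleton (CotT.T2 (CotT.canon k A) N))
    (I : Ideal A) (hI : I ≠ ⊤) :
    (∃ rs : List A, Ideal.ofList rs = I ∧ (rs.length : WithBot ℕ∞) + ringKrullDim (A ⧸ I) = ringKrullDim A) ↔
      ∀ (M : Type u) [AddCommGroup M] [Module (A ⧸ I) M], Subsingleton (CotT.T2 (CotT.canon k (A ⧸ I)) M) := by
  haveI : Nontrivial (A ⧸ I) := Ideal.Quotient.nontrivial_iff.mpr hI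
  have hs : Function.Surjective (algebraMap A (A ⧸ I)) := Ideal.Quotient.mk_surjective
  have hker : RingHom.ker (algebraMap A (A ⧸ I)) = I := Ideal.mk_ker
  have hred : ∀ (M : Type u) [AddCommGroup M] [Module (A ⧸ I) M],
      Subsingleton (CotT.T2 (CotT.canon k (A ⧸ I)) M) ↔
        Subsingleton (CotT.T2 (CotT.canon A (A ⧸ I)) M) := by
    intro M _ _
    letI : Module A M := Module.compHom M (algebraMap A (A ⧸ I))
    haveI : IsScalarTower A (A ⧸ I) M := IsScalarTower.of_compHom A (A ⧸ I) M
    exact Groth.Agent.LibT2CI29.subsingleton_T2_iff k A (A ⧸ I) M (hT M).1 (hT M).2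
  constructor
  · rintro ⟨rs, hrs, hdim⟩ M _ _
    rw [hred]
    have hmem : ∀ x ∈ rs, x ∈ IsLocalRing.maximalIdeal A := fun x hx =>
      IsLocalRing.le_maximalIdeal hI (hrs ▸ Ideal.subset_span hx)
    have hreg := Groth.Agent.Lib.helper17.CIField.isRegular_of_dim_quot A rs hmem (by
      rw [hrs, add_comm]
      exact hdim)
    exact Groth.Agent.S12288.result A (A ⧸ I) hs rs hreg (by rw [hker, hrs]) M
  · intro h
    have hT2 : ∀ (M : Type u) [AddCommGroup M] [Module (A ⧸ I) M],
        Subsingleton (CotT.T2 (CotT.canon A (A ⧸ I)) M) := fun M _ _ => (hred M).mp (h M)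
    obtain ⟨n, f, hf, hmin⟩ :=
      Groth.Agent.LibT2CI29.exists_minimal_generators I (IsNoetherian.noetherian I)
    have hH := Groth.Agent.LibT2CI29.H1Z_of_subsingleton_T2 A (A ⧸ I) hs f (by rw [hker, hf]) hmin hT2
    have hjac : ∀ i, f i ∈ (⊥ : Ideal A).jacobson := by
      intro i
      rw [IsLocalRing.jacobson_eq_maximalIdeal ⊥ bot_ne_top]
      exact IsLocalRing.le_maximalIdeal hI (hf ▸ Ideal.subset_span ⟨i, rfl⟩)
    have hw := Groth.Agent.Lib.helper11.KoszulH1.isWeaklyRegular_of_H1Z n f
      (fun i => Groth.Agent.Lib.helper11.KoszulH1.nak_of_jacobson (M := A) (f i) (hjac i)) hH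
    have hofList : Ideal.ofList (List.ofFn f) = I := by
      rw [← hf]
      unfold Ideal.ofList
      congr 1
      ext x
      simp [List.mem_ofFn]
    have hreg : RingTheory.Sequence.IsRegular A (List.ofFn f) := ⟨hw, by
      rw [smul_eq_mul, Ideal.mul_top, hofList]
      exact fun h => hI h.symm⟩
    refine ⟨List.ofFn f, hofList, ?_⟩
    have := ringKrullDim_add_length_eq_ringKrullDim_of_isRegular (List.ofFn f) hreg
    rw [hofList, add_comm] at this
    exact this

end Groth.Agent.S12291
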