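import Groth.Statements.S12293
import Groth.Agent.LibDefDual29d
import Groth.Agent.S12292
-- import your own Groth.Agent.* helpers here

set_option autoImplicit false
universe u w m
open CategoryTheory CategoryTheory.Limits AlgebraicGeometry
open scoped TensorProduct
open DefT

namespace Groth.Agent.S12293

/-- Let k be a field and B a k-algebra. The set of isomorphism classes of deformations of X = Spec B
over the dual numbers D = k[ε] (schemes flat over Spec D with a morphism from X identifying X with
the fibre over the closed point, up to isomorphism over Spec D and under X) is in bijection with the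
B-module T^1(B/k, B), computed from the choice-free presentation of B over k. (The published
statement calls the correspondence natural; this row asserts the existence of a bijection.) -/
theorem result
    (k B : Type u) [Field k] [CommRing B] [Algebra k B] :
    Nonempty ((ArtFun.defFunctor (Λ := k) (Spec (CommRingCat.of B)) (Spec.map (CommRingCat.ofHom (algebraMap k B)))).obj
        (ArtFun.Art.dual k k) ≃ CotT.T1 (CotT.canon k B) B) := by
  classical
  obtain ⟨e, -⟩ := Groth.Agent.S12292.result k B B
  -- the map on representatives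
  let F : ArtFun.DefSch (Spec (CommRingCat.of B)) (Spec.map (CommRingCat.ofHom (algebraMap k B)))
      (ArtFun.Art.dual k k) → Exal.Ext k B B :=
    fun ξ => (@Groth.Agent.LibDefDual29.datumOf k B _ _ _ ξ.total ξ.f ξ.flat ξ.i ξ.isPullback).toExt
  have hF : ∀ ξ ξ' : ArtFun.DefSch (Spec (CommRingCat.of B)) (Spec.map (CommRingCat.ofHom (algebraMap k B)))
      (ArtFun.Art.dual k k), Nonempty (ξ.Iso ξ') ↔ Nonempty (Exal.Ext.Equiv (F ξ) (F ξ')) := by
    intro ξ ξ'
    constructor
    · rintro ⟨θ⟩
      exact Groth.Agent.LibDefDual29.Datum.toExt_equiv_of_iso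
        (@Groth.Agent.LibDefDual29.datum_iso_of_iso k B _ _ _ ξ.total ξ'.total ξ.f ξ.flat ξ.i ξ.isPullback
          ξ'.f ξ'.flat ξ'.i ξ'.isPullback θ.iso θ.hom_f θ.i_hom)
    · intro h
      have h1 := Groth.Agent.LibDefDual29.Datum.iso_of_toExt_equiv h
      obtain ⟨θ, hθ1, hθ2⟩ := @Groth.Agent.LibDefDual29.iso_of_datum_iso k B _ _ _ ξ.total ξ'.total ξ.f ξ.flat
        ξ.i ξ.isPullback ξ'.f ξ'.flat ξ'.i ξ'.isPullback h1
      exact ⟨⟨θ, hθ1, hθ2⟩⟩
  let Φ : (ArtFun.defFunctor (Λ := k) (Spec (CommRingCat.of B))
      (Spec.map (CommRingCat.ofHom (algebraMap k B)))).obj (ArtFun.Art.dual k k) → Exal.Exalcom k B B :=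
    Quotient.lift (fun ξ => (F ξ).cl) (fun ξ ξ' h => Quotient.sound ((hF ξ ξ').mp h))
  have hΦ : Function.Bijective Φ := by
    constructor
    · intro q q'
      induction q using Quotient.inductionOn with
      | h ξ =>
        induction q' using Quotient.inductionOn with
        | h ξ' =>
          intro h
          have h1 : Nonempty (Exal.Ext.Equiv (F ξ) (F ξ')) := Quotient.exact h
          exact Quotient.sound ((hF ξ ξ').mpr h1)
    · intro c
      induction c using Quotient.inductionOn with
      | h X =>
        obtain ⟨X', g, hflat, i, hsq, hiso⟩ :=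
          Groth.Agent.LibDefDual29.exists_def_of_datum (Groth.Agent.LibDefDual29.Datum.ofExt X)
        let ξ : ArtFun.DefSch (Spec (CommRingCat.of B)) (Spec.map (CommRingCat.ofHom (algebraMap k B)))
            (ArtFun.Art.dual k k) :=
          { total := X', f := g, flat := hflat, i := i, isPullback := hsq }
        refine ⟨Quotient.mk _ ξ, ?_⟩
        obtain ⟨e1⟩ := Groth.Agent.LibDefDual29.Datum.toExt_equiv_of_iso hiso
        obtain ⟨e2⟩ := Groth.Agent.LibDefDual29.Datum.ofExt_toExt_equiv X
        exact Quotient.sound ⟨e1.trans e2⟩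
  exact ⟨(Equiv.ofBijective Φ hΦ).trans e⟩

end Groth.Agent.S12293
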