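import Groth.Statements.S12295
import Groth.Agent.LibCotT29d
-- import your own Groth.Agent.* helpers here

set_option autoImplicit false
universe u w m
open scoped TensorProduct
open DefT

namespace Groth.Agent.S12295

open CotT Groth.Agent.LibCotT29


/-- Let k be a commutative ring, B a k-algebra and P a presentation of B over k with polynomial ring R =
k[x_i] (any set of variables), so that B = R/I; let P' be a presentation of B over R with no
polynomial variables (R itself mapping onto B, with chosen generators of I), and M a B-module. Then
T^2(B/R, M), computed from P', and T^2(B/k, M), computed from P, are isomorphic B-modules.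
(Existence of a B-linear isomorphism only; the published statement has finitely many variables over
a field and notes that any base ring works.) -/
theorem result
    (k B : Type u) [CommRing k] [CommRing B] [Algebra k B] (ι σ ι' σ' : Type w)
    (P : Algebra.Presentation k B ι σ) [IsEmpty ι']
    (P' : Algebra.Presentation P.toExtension.Ring B ι' σ')
    (M : Type m) [AddCommGroup M] [Module B M] :
    Nonempty (CotT.T2 P' M ≃ₗ[B] CotT.T2 P M) := by
  let e : MvPolynomial ι' P.toExtension.Ring ≃+* P.toExtension.Ring :=
    MvPolynomial.isEmptyRingEquiv P.toExtension.Ring ι'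
  have heC : ∀ r, e (MvPolynomial.C r) = r := by
    intro r
    rw [← MvPolynomial.isEmptyRingEquiv_symm_apply P.toExtension.Ring ι' r]
    exact e.apply_symm_apply _
  have hCe : ∀ x, MvPolynomial.C (e x) = x := by
    intro x
    rw [← MvPolynomial.isEmptyRingEquiv_symm_apply P.toExtension.Ring ι' (e x)]
    exact e.symm_apply_apply x
  have halg : ∀ r : P.toExtension.Ring,
      algebraMap P'.toExtension.Ring B (MvPolynomial.C r) = algebraMap P.toExtension.Ring B r := by
    intro r
    rw [CotT.algebraMap_toExtension, MvPolynomial.aeval_C]
  obtain ⟨g, hg⟩ := exists_GHom (P := P) (P' := P')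
    (MvPolynomial.C : P.toExtension.Ring →+* MvPolynomial ι' P.toExtension.Ring) halg
  obtain ⟨g', hg'⟩ := exists_GHom (P := P') (P' := P) (e : MvPolynomial ι' P.toExtension.Ring →+* P.toExtension.Ring)
    (fun x => by
      have := halg (e x)
      rw [hCe] at this
      exact this.symm)
  refine ⟨(T2equivOfGHom g g' M (fun x => ?_) (fun x => ?_)).symm⟩
  · rw [GHom.T2pull_eq_of_eq (g'.comp g) (GHom.id P) ?_ M, GHom.id_T2pull]
    apply RingHom.ext
    intro r
    change g'.τ (g.τ r) = r
    rw [hg, hg']
    exact heC r
  · rw [GHom.T2pull_eq_of_eq (g.comp g') (GHom.id P') ?_ M, GHom.id_T2pull]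
    apply RingHom.ext
    intro x
    change g.τ (g'.τ x) = x
    rw [hg, hg']
    exact hCe x

end Groth.Agent.S12295
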