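import Groth.Statements.S12297
import Groth.Agent.S12290
import Groth.Agent.LibT2Loc29c
-- import your own Groth.Agent.* helpers here

set_option autoImplicit false
universe u w m
open scoped TensorProduct
open DefT

namespace Groth.Agent.S12297

/-- Let k be an algebraically closed field, B a finitely generated k-algebra, m a maximal ideal of B and
B_m the localization, a local k-algebra with residue field k. Then B_m is a regular local ring if
and only if T^1(B_m/k, M) = 0 for all B_m-modules M, and in that case T^2(B_m/k, M) = 0 for all M as
well; the T^i are computed from the choice-free presentation of B_m over k. (The published statement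
is for a local k-algebra with residue field k, k algebraically closed, proved by localization from
the finitely generated case; this row states it for the localizations of finitely generated
k-algebras at maximal ideals, the case that proof covers.) -/
theorem result
    (k B : Type u) [Field k] [IsAlgClosed k] [CommRing B] [Algebra k B] [Algebra.FiniteType k B]
    (m : Ideal B) [m.IsMaximal] :
    (IsRegularLocalRing (Localization.AtPrime m) ↔
      ∀ (M : Type u) [AddCommGroup M] [Module (Localization.AtPrime m) M],
        Subsingleton (CotT.T1 (CotT.canon k (Localization.AtPrime m)) M)) ∧
    (IsRegularLocalRing (Localization.AtPrime m) →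
      ∀ (M : Type u) [AddCommGroup M] [Module (Localization.AtPrime m) M],
        Subsingleton (CotT.T2 (CotT.canon k (Localization.AtPrime m)) M)) := by
  have hgr : Algebra.IsGeometricallyReduced k m.ResidueField :=
    Groth.Agent.Lib.helper3.GeomRed.isGeometricallyReduced_of_perfectField k _
  have hfp : Algebra.FinitePresentation k B :=
    Algebra.FinitePresentation.of_finiteType.mp inferInstance
  have hsm : Algebra.IsSmoothAt k m ↔ IsRegularLocalRing (Localization.AtPrime m) :=
    Groth.Agent.S9442.result k B m
  refine ⟨?_, ?_⟩
  · rw [Groth.Agent.S12290.T1_canon_subsingleton_iff]
    exact hsm.symm
  · intro hreg M _ _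
    haveI : Algebra.IsSmoothAt k m := hsm.mpr hreg
    obtain ⟨f, hf, hsmooth⟩ := Algebra.IsSmoothAt.exists_notMem_smooth k m
    have hle : Submonoid.powers f ≤ m.primeCompl := Submonoid.powers_le.mpr hf
    letI : Algebra (Localization.Away f) (Localization.AtPrime m) :=
      IsLocalization.localizationAlgebraOfSubmonoidLe (Localization.Away f) (Localization.AtPrime m)
        (Submonoid.powers f) m.primeCompl hle
    haveI : IsScalarTower B (Localization.Away f) (Localization.AtPrime m) :=
      IsLocalization.localization_isScalarTower_of_submonoid_le (Localization.Away f)
        (Localization.AtPrime m) _ _ hle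
    haveI : IsLocalization (m.primeCompl.map (algebraMap B (Localization.Away f)))
        (Localization.AtPrime m) :=
      IsLocalization.isLocalization_of_submonoid_le (Localization.Away f) (Localization.AtPrime m) _ _ hle
    haveI : IsScalarTower k (Localization.Away f) (Localization.AtPrime m) :=
      IsScalarTower.of_algebraMap_eq' (by
        rw [IsScalarTower.algebraMap_eq k B (Localization.AtPrime m),
          IsScalarTower.algebraMap_eq k B (Localization.Away f), ← RingHom.comp_assoc,
          ← IsScalarTower.algebraMap_eq B (Localization.Away f) (Localization.AtPrime m)])
    haveI : Algebra.FinitePresentation k (Localization.Away f) := hsmooth.finitePresentation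
    haveI : Algebra.FiniteType k (Localization.Away f) := inferInstance
    have hregf : ∀ (p : Ideal (Localization.Away f)) [p.IsPrime],
        IsRegularLocalRing (Localization.AtPrime p) :=
      (Groth.Agent.S12290.formallySmooth_iff_regular k (Localization.Away f)).mp hsmooth.formallySmooth
    letI : Module (Localization.Away f) M :=
      Module.compHom M (algebraMap (Localization.Away f) (Localization.AtPrime m))
    haveI : IsScalarTower (Localization.Away f) (Localization.AtPrime m) M :=
      IsScalarTower.of_compHom (Localization.Away f) (Localization.AtPrime m) M
    exact Groth.Agent.LibT2Loc29.subsingleton_T2_of_isLocalization_of_subsingleton k (Localization.Away f)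
      (Localization.AtPrime m) (m.primeCompl.map (algebraMap B (Localization.Away f)))
      (Groth.Agent.S12290.T2_subsingleton_of_regular k (Localization.Away f) hregf M)

end Groth.Agent.S12297
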