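import Groth.Statements.S12299
import Mathlib

set_option autoImplicit false
universe u v
open CategoryTheory
open ArtFun

namespace Groth.Agent.S12299

open ArtFun.Art

section lemmas

variable {k : Type u} [Field k]

/-- A `k`-linear functional on `T` killing `1` gives a map to the dual numbers, when `m_T² = 0`. -/
noncomputable def mkHom (T : ArtFun.Art k k)
    (hsq : ∀ a b : T, T.res a = 0 → T.res b = 0 → a * b = 0)
    (l : T →ₗ[k] k) (hl : l 1 = 0) : T ⟶ ArtFun.Art.dual k k :=
  have hmul : ∀ x y : T, l (x * y) = T.res x * l y + l x * T.res y := by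
    intro x y
    have h0 : (x - algebraMap k T (T.res x)) * (y - algebraMap k T (T.res y)) = 0 :=
      hsq _ _ (by rw [map_sub, AlgHom.commutes]; exact sub_self _)
        (by rw [map_sub, AlgHom.commutes]; exact sub_self _)
    have h1 : x * y = T.res x • y + T.res y • x - (T.res x * T.res y) • (1 : T) := by
      rw [Algebra.smul_def, Algebra.smul_def, Algebra.smul_def, map_mul]
      linear_combination h0
    rw [h1, map_sub, map_add, map_smul, map_smul, map_smul, hl, smul_eq_mul, smul_eq_mul,
      smul_eq_mul]
    ring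
  ⟨{ toFun := fun x => ((T.res x, l x) : TrivSqZeroExt k k)
     map_one' := TrivSqZeroExt.ext (map_one T.res) hl
     map_mul' := fun x y => TrivSqZeroExt.ext (map_mul T.res x y) (by
        change l (x * y) = T.res x • l y + MulOpposite.op (T.res y) • l x
        rw [hmul]; rfl)
     map_zero' := TrivSqZeroExt.ext (map_zero T.res) (map_zero l)
     map_add' := fun x y => TrivSqZeroExt.ext (map_add T.res x y) (map_add l x y)
     commutes' := fun c => TrivSqZeroExt.ext (T.res.commutes c) (by
        change l (algebraMap k T c) = 0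
        rw [Algebra.algebraMap_eq_smul_one, map_smul, hl, smul_zero]) },
   AlgHom.ext fun _ => rfl⟩

theorem mkHom_snd (T : ArtFun.Art k k)
    (hsq : ∀ a b : T, T.res a = 0 → T.res b = 0 → a * b = 0)
    (l : T →ₗ[k] k) (hl : l 1 = 0) (x : T) :
    TrivSqZeroExt.snd ((mkHom T hsq l hl) x) = l x := rfl

theorem exists_hom_dual_ne (T : ArtFun.Art k k)
    (hsq : ∀ a b : T, T.res a = 0 → T.res b = 0 → a * b = 0) (x y : T) (hxy : x ≠ y) :
    ∃ p : T ⟶ ArtFun.Art.dual k k, p x ≠ p y := by
  by_cases hres : T.res x = T.res y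
  · -- v = x - y is a nonzero element of the maximal ideal
    have hv : T.res (x - y) = 0 := by rw [map_sub, hres, sub_self]
    have hv0 : x - y ≠ 0 := sub_ne_zero.mpr hxy
    have hnot : x - y ∉ Submodule.span k {(1 : T)} := by
      intro hmem
      obtain ⟨c, hc⟩ := Submodule.mem_span_singleton.mp hmem
      have : c = 0 := by
        have := congrArg T.res hc
        rw [hv, map_smul, map_one, smul_eq_mul, mul_one] at this
        exact this
      rw [this, zero_smul] at hc
      exact hv0 hc.symm
    have hmk : (Submodule.span k {(1 : T)}).mkQ (x - y) ≠ 0 := by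
      rw [Ne, Submodule.mkQ_apply, Submodule.Quotient.mk_eq_zero]
      exact hnot
    obtain ⟨φ, hφ⟩ := Module.Projective.exists_dual_ne_zero k hmk
    refine ⟨mkHom T hsq (φ ∘ₗ (Submodule.span k {(1 : T)}).mkQ) ?_, ?_⟩
    · rw [LinearMap.comp_apply, Submodule.mkQ_apply,
        (Submodule.Quotient.mk_eq_zero _).mpr (Submodule.mem_span_singleton_self _), map_zero]
    · intro hp
      have := congrArg TrivSqZeroExt.snd hp
      rw [mkHom_snd, mkHom_snd] at this
      apply hφ
      rw [map_sub, map_sub, sub_eq_zero]
      exact this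
  · refine ⟨mkHom T hsq 0 rfl, fun hp => hres ?_⟩
    have := congrArg (ArtFun.Art.dual k k).res hp
    rwa [ArtFun.Art.res_app, ArtFun.Art.res_app] at this

end lemmas

/-- Let k be an algebraically closed field, F a set-valued functor on local Artinian k-algebras with
residue field k, and (R, ξ) a miniversal family for F, with R a complete local Noetherian k-algebra
with residue field k: the morphism h_R → F has the lifting property along surjections and is
bijective on the dual numbers. Let S be a complete local Noetherian k-algebra with residue field k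
and g₁, g₂ : R → S two k-algebra maps compatible with the augmentations along which ξ induces the
same formal family over S (the same compatible sequence in the F(S/m^(n+1))). Then g₁ and g₂ induce
the same map R → S/m_S², so the map R/m_R² → S/m_S² attached to a formal family over S is well
defined. (Coefficient rings are taken Noetherian here.) -/
theorem result
    {k : Type u} [Field k] [IsAlgClosed k] {F : ArtFun.Art k k ⥤ Type v}
    (R : ArtFun.CRing k k) (ξ : ArtFun.Family R.carrier R.res F) (hξ : ArtFun.IsMiniversal ξ)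
    (S : ArtFun.CRing k k) (g₁ g₂ : R.carrier →ₐ[k] S.carrier)
    (hg₁ : S.res.comp g₁ = R.res) (hg₂ : S.res.comp g₂ = R.res)
    (h : (ξ.along g₁ hg₁).toFormalElt = (ξ.along g₂ hg₂).toFormalElt) :
    (S.truncHom 1).1.comp g₁ = (S.truncHom 1).1.comp g₂ := by
  let α₁ : ArtFun.HomSet R.carrier R.res (S.trunc 1) := ⟨(S.truncHom 1).1.comp g₁, by
        rw [← AlgHom.comp_assoc, (S.truncHom 1).2, hg₁]⟩
  let α₂ : ArtFun.HomSet R.carrier R.res (S.trunc 1) := ⟨(S.truncHom 1).1.comp g₂, by
        rw [← AlgHom.comp_assoc, (S.truncHom 1).2, hg₂]⟩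
  have h1 : ξ.app (S.trunc 1) α₁ = ξ.app (S.trunc 1) α₂ :=
    congrArg (fun u => u.elt 1) h
  have hsq : ∀ a b : S.trunc 1, (S.trunc 1).res a = 0 → (S.trunc 1).res b = 0 → a * b = 0 := by
    intro a b ha hb
    obtain ⟨a', rfl⟩ := Ideal.Quotient.mk_surjective a
    obtain ⟨b', rfl⟩ := Ideal.Quotient.mk_surjective b
    have ha' : a' ∈ IsLocalRing.maximalIdeal S.carrier := (S.mem_maximalIdeal_iff a').2 ha
    have hb' : b' ∈ IsLocalRing.maximalIdeal S.carrier := (S.mem_maximalIdeal_iff b').2 hb
    show (Ideal.Quotient.mk (S.mpow 1) a' * Ideal.Quotient.mk (S.mpow 1) b' :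
      S.carrier ⧸ S.mpow 1) = 0
    rw [← map_mul, Ideal.Quotient.eq_zero_iff_mem]
    change a' * b' ∈ IsLocalRing.maximalIdeal S.carrier ^ (1 + 1)
    rw [pow_succ, pow_one]
    exact Ideal.mul_mem_mul ha' hb'
  apply AlgHom.ext
  intro r
  by_contra hne
  obtain ⟨p, hp⟩ := exists_hom_dual_ne (S.trunc 1) hsq (α₁.1 r) (α₂.1 r) hne
  apply hp
  have h2 : ξ.app _ (ArtFun.HomSet.map p α₁) = ξ.app _ (ArtFun.HomSet.map p α₂) := by
    rw [ξ.natural, ξ.natural, h1]
  have h3 := hξ.2.1 h2
  exact congrArg (fun u : ArtFun.HomSet R.carrier R.res (ArtFun.Art.dual k k) => u.1 r) h3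

end Groth.Agent.S12299
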