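import Groth.Statements.S12301
import Groth.Agent.LibCR29d
-- import your own Groth.Agent.* helpers here

set_option autoImplicit false
universe u v
open CategoryTheory
open ArtFun

namespace Groth.Agent.S12301
open Groth.Agent.LibCR29


/-- Let k be an algebraically closed field, f : F₁ → F₂ a morphism of set-valued functors on local
Artinian k-algebras with residue field k, (R₁, ξ₁) a family for F₁ and (R₂, ξ₂) a versal family for
F₂, where R₁, R₂ are complete local Noetherian k-algebras with residue field k and versal is meant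
in the strong sense: h_{R₂} → F₂ is surjective on every object and has the lifting property along
surjections. Then there is a k-algebra map φ : R₂ → R₁, compatible with the augmentations, such that
for every local Artinian A and every u : R₁ → A the element of F₂(A) given by ξ₂ at u ∘ φ equals the
image under f of the element of F₁(A) given by ξ₁ at u; in other words composition with φ, h_{R₁} →
h_{R₂}, covers f. (The published statement assumes (R₁, ξ₁) versal as well; this row asks nothing of
ξ₁, which is all the argument uses, and takes the coefficient rings Noetherian.) -/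
theorem result
    {k : Type u} [Field k] [IsAlgClosed k] {F₁ F₂ : ArtFun.Art k k ⥤ Type v} (f : F₁ ⟶ F₂)
    (R₁ : ArtFun.CRing k k) (ξ₁ : ArtFun.Family R₁.carrier R₁.res F₁)
    (R₂ : ArtFun.CRing k k) (ξ₂ : ArtFun.Family R₂.carrier R₂.res F₂) (hξ₂ : ArtFun.IsVersal ξ₂)
    (hsurj : ∀ A : ArtFun.Art k k, Function.Surjective (ξ₂.app A)) :
    ∃ (φ : R₂.carrier →ₐ[k] R₁.carrier) (hφ : R₁.res.comp φ = R₂.res),
      ∀ (A : ArtFun.Art k k) (u : ArtFun.HomSet R₁.carrier R₁.res A),
        (ξ₂.along φ hφ).app A u = f.app A (ξ₁.app A u) := by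
  let η : ∀ n, F₂.obj (R₁.trunc n) := fun n => f.app _ (ξ₁.app _ (R₁.truncHom n))
  have hη : ∀ n, F₂.map (R₁.truncMap n) (η (n + 1)) = η n := by
    intro n
    change F₂.map (R₁.truncMap n) (f.app _ (ξ₁.app _ (R₁.truncHom (n + 1)))) = _
    rw [← NatTrans.naturality_apply f, ← ξ₁.natural, CRing.truncMap_truncHom]
  have h00 : ∃ g : HomSet R₂.carrier R₂.res (R₁.trunc 0), ξ₂.app _ g = η 0 := hsurj _ _
  have hstep : ∀ n (g : {g : HomSet R₂.carrier R₂.res (R₁.trunc n) // ξ₂.app _ g = η n}),
      ∃ g' : {g' : HomSet R₂.carrier R₂.res (R₁.trunc (n + 1)) // ξ₂.app _ g' = η (n + 1)},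
        HomSet.map (R₁.truncMap n) g'.1 = g.1 := by
    intro n g
    have hsurj' : Function.Surjective (R₁.truncMap n) := fun x => by
      obtain ⟨a, rfl⟩ := Ideal.Quotient.mk_surjective x
      exact ⟨Ideal.Quotient.mk _ a, rfl⟩
    obtain ⟨ψ, h1, h2⟩ := hξ₂ (R₁.truncMap n) hsurj' g.1 (η (n + 1)) (by rw [hη, g.2])
    exact ⟨⟨ψ, h2⟩, h1⟩
  choose next hnext using hstep
  let seq : ∀ n, {g : HomSet R₂.carrier R₂.res (R₁.trunc n) // ξ₂.app _ g = η n} := fun n =>
    Nat.rec ⟨h00.choose, h00.choose_spec⟩ (fun n x => next n x) n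
  have hseq : ∀ n, HomSet.map (R₁.truncMap n) (seq (n + 1)).1 = (seq n).1 := fun n =>
    hnext n (seq n)
  obtain ⟨G, hG⟩ := exists_algHom_of_compat R₁ (fun n => (seq n).1.1)
    (fun n => congrArg Subtype.val (hseq n))
  have hGres : R₁.res.comp G = R₂.res := by
    rw [res_comp_of_truncHom, hG 0]; exact (seq 0).1.2
  refine ⟨G, hGres, ?_⟩
  intro A u
  obtain ⟨n, ū, hu⟩ := exists_factor_trunc R₁ A u
  change ξ₂.app A ⟨u.1.comp G, _⟩ = _
  have h1 : (⟨u.1.comp G, by rw [← AlgHom.comp_assoc, u.2, hGres]⟩ :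
      HomSet R₂.carrier R₂.res A) = HomSet.map ū (seq n).1 := by
    apply Subtype.ext
    change u.1.comp G = ū.toAlgHom.comp (seq n).1.1
    rw [← hG n, ← AlgHom.comp_assoc, ← hu]
    rfl
  rw [h1, ξ₂.natural, (seq n).2]
  change F₂.map ū (f.app _ (ξ₁.app _ (R₁.truncHom n))) = _
  rw [← NatTrans.naturality_apply f, ← ξ₁.natural, hu]

end Groth.Agent.S12301
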