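import Groth.Statements.S12302
-- import your own Groth.Agent.* helpers here

set_option autoImplicit false
universe u v
open CategoryTheory
open ArtFun

namespace Groth.Agent.S12302

open ArtFun.Art

section lemmas

variable {Λ : Type u} {k : Type u} [CommRing Λ] [Field k] [Algebra Λ k]
variable {R : Type u} [CommRing R] [Algebra Λ R] {resR : R →ₐ[Λ] k}

/-- A compatible pair of points of `h_R` gives a point of `h_R` of the fibre product. -/
theorem exists_lift_fibreProd {B A A' A'' : ArtFun.Art Λ k} {p' : B ⟶ A'} {p'' : B ⟶ A''}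
    {f' : A' ⟶ A} {f'' : A'' ⟶ A} (h : IsFibreProd p' p'' f' f'')
    (φ' : ArtFun.HomSet R resR A') (φ'' : ArtFun.HomSet R resR A'')
    (hc : ArtFun.HomSet.map f' φ' = ArtFun.HomSet.map f'' φ'') :
    ∃ χ : ArtFun.HomSet R resR B, ArtFun.HomSet.map p' χ = φ' ∧ ArtFun.HomSet.map p'' χ = φ'' := by
  have hc' : ∀ r : R, f' (φ'.1 r) = f'' (φ''.1 r) := fun r =>
    congrArg (fun u : ArtFun.HomSet R resR A => u.1 r) hc
  choose b hb' hb'' using fun r : R => h.surj (φ'.1 r) (φ''.1 r) (hc' r)
  let χ₀ : R →ₐ[Λ] B :=
    { toFun := b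
      map_one' := h.inj _ _ (by rw [hb', map_one]; exact (map_one p'.toAlgHom).symm)
        (by rw [hb'', map_one]; exact (map_one p''.toAlgHom).symm)
      map_mul' := fun x y => h.inj _ _
        (by rw [hb', map_mul]; exact ((map_mul p'.toAlgHom _ _).trans (by rw [hb', hb'])).symm)
        (by rw [hb'', map_mul]; exact ((map_mul p''.toAlgHom _ _).trans (by rw [hb'', hb''])).symm)
      map_zero' := h.inj _ _ (by rw [hb', map_zero]; exact (map_zero p'.toAlgHom).symm)
        (by rw [hb'', map_zero]; exact (map_zero p''.toAlgHom).symm)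
      map_add' := fun x y => h.inj _ _
        (by rw [hb', map_add]; exact ((map_add p'.toAlgHom _ _).trans (by rw [hb', hb'])).symm)
        (by rw [hb'', map_add]; exact ((map_add p''.toAlgHom _ _).trans (by rw [hb'', hb''])).symm)
      commutes' := fun c => h.inj _ _
        (by rw [hb', AlgHom.commutes]; exact (AlgHom.commutes p'.toAlgHom c).symm)
        (by rw [hb'', AlgHom.commutes]; exact (AlgHom.commutes p''.toAlgHom c).symm) }
  have h1 : p'.toAlgHom.comp χ₀ = φ'.1 := AlgHom.ext fun r => hb' r
  have h2 : p''.toAlgHom.comp χ₀ = φ''.1 := AlgHom.ext fun r => hb'' r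
  refine ⟨⟨χ₀, ?_⟩, Subtype.ext h1, Subtype.ext h2⟩
  rw [← p'.res_comp, AlgHom.comp_assoc, h1, φ'.2]

end lemmas

/-- Let k be an algebraically closed field, F a set-valued functor on local Artinian k-algebras with
residue field k, and ξ : h_R → F a versal family in the strong sense, over an augmented k-algebra R:
ξ is surjective on every object and has the lifting property along surjections. Then F(k) has
exactly one element, and for every fibre-product square B = A' ×_A A'' in which A'' → A is
surjective, the comparison map F(B) → F(A') ×_{F(A)} F(A'') is surjective. (The published form of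
the second assertion allows arbitrary maps A' → A, A'' → A; for the functor of principal ideals
inside the maximal ideal, which has such a versal family over k[[x]], surjectivity fails for the two
maps k[s]/(s⁴) → k[x,y]/(x,y)³ ← k[t]/(t⁴) sending s to x and t to x + xy, and the published
argument lifts along one of the two maps, so that map is taken surjective here. The published
statement also takes R complete local, which the argument does not use.) -/
theorem result
    {k : Type u} [Field k] [IsAlgClosed k] {F : ArtFun.Art k k ⥤ Type v}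
    {R : Type u} [CommRing R] [Algebra k R] {resR : R →ₐ[k] k}
    (ξ : ArtFun.Family R resR F) (hξ : ArtFun.IsVersal ξ)
    (hsurj : ∀ A : ArtFun.Art k k, Function.Surjective (ξ.app A)) :
    ArtFun.H0 F ∧ ArtFun.S1 F := by
  refine ⟨⟨⟨ξ.app _ ⟨resR, AlgHom.id_comp _⟩⟩, ⟨fun x y => ?_⟩⟩, ?_⟩
  · obtain ⟨φ₁, rfl⟩ := hsurj _ x
    obtain ⟨φ₂, rfl⟩ := hsurj _ y
    have e : φ₁ = φ₂ := Subtype.ext (AlgHom.ext fun r => by
      have h1 : φ₁.1 r = resR r := congrArg (fun g : R →ₐ[k] k => g r) φ₁.2
      have h2 : φ₂.1 r = resR r := congrArg (fun g : R →ₐ[k] k => g r) φ₂.2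
      exact h1.trans h2.symm)
    rw [e]
  · intro B A A' A'' p' p'' f' f'' h hf'' x
    obtain ⟨⟨x', x''⟩, hx⟩ := x
    obtain ⟨φ', rfl⟩ := hsurj _ x'
    change F.map f' (ξ.app A' φ') = F.map f'' x'' at hx
    rw [← ξ.natural] at hx
    obtain ⟨ψ, hψ₁, rfl⟩ := hξ f'' hf'' (ArtFun.HomSet.map f' φ') x'' hx.symm
    obtain ⟨χ, hχ₁, hχ₂⟩ := exists_lift_fibreProd h φ' ψ hψ₁.symm
    refine ⟨ξ.app B χ, ?_⟩
    apply ArtFun.FibProd.ext
    · change F.map p' (ξ.app B χ) = ξ.app A' φ'
      rw [← ξ.natural, hχ₁]
    · change F.map p'' (ξ.app B χ) = ξ.app A'' ψ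
      rw [← ξ.natural, hχ₂]

end Groth.Agent.S12302
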