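import Groth.Statements.S12303
import Groth.Agent.S12302

set_option autoImplicit false
universe u v
open CategoryTheory
open ArtFun

namespace Groth.Agent.S12303

/-- Let k be an algebraically closed field, F a set-valued functor on local Artinian k-algebras with
residue field k, and ξ : h_R → F a miniversal family in the strong sense, over an augmented
k-algebra R: ξ is surjective on every object, has the lifting property along surjections, and is
bijective on the dual numbers k[ε]. Then for every object A and every fibre-product square B = A ×_k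
k[ε] over k, the comparison map F(B) → F(A) ×_{F(k)} F(k[ε]) is bijective. (The published statement
takes R complete local, which the argument does not use.) -/
theorem result
    {k : Type u} [Field k] [IsAlgClosed k] {F : ArtFun.Art k k ⥤ Type v}
    {R : Type u} [CommRing R] [Algebra k R] {resR : R →ₐ[k] k}
    (ξ : ArtFun.Family R resR F) (hξ : ArtFun.IsMiniversal ξ)
    (hsurj : ∀ A : ArtFun.Art k k, Function.Surjective (ξ.app A)) :
    ArtFun.Heps F := by
  intro B A' p' p'' h
  have hS1 := (Groth.Agent.S12302.result ξ hξ.1 hsurj).2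
  have hsurj'' : Function.Surjective (ArtFun.Art.toBase (ArtFun.Art.dual k k)) :=
    (ArtFun.Art.dual k k).res_surjective
  refine ⟨?_, hS1 p' p'' _ _ h hsurj''⟩
  -- injectivity
  have hp' : Function.Surjective p' := by
    intro a
    obtain ⟨d, hd⟩ := hsurj'' (ArtFun.Art.toBase A' a)
    obtain ⟨b, hb, -⟩ := h.surj a d hd.symm
    exact ⟨b, hb⟩
  intro z₁ z₂ hz
  have hz₁ : F.map p' z₁ = F.map p' z₂ := congrArg (fun t => t.1.1) hz
  have hz₂ : F.map p'' z₁ = F.map p'' z₂ := congrArg (fun t => t.1.2) hz
  obtain ⟨χ₁, rfl⟩ := hsurj _ z₁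
  rw [← ξ.natural] at hz₁
  obtain ⟨χ₂, hχ, rfl⟩ := hξ.1 p' hp' (ArtFun.HomSet.map p' χ₁) z₂ hz₁.symm
  rw [← ξ.natural, ← ξ.natural] at hz₂
  have hχ'' : ArtFun.HomSet.map p'' χ₁ = ArtFun.HomSet.map p'' χ₂ := hξ.2.1 hz₂
  have : χ₁ = χ₂ := by
    apply Subtype.ext
    apply AlgHom.ext
    intro r
    apply h.inj
    · exact (congrArg (fun u : ArtFun.HomSet R resR A' => u.1 r) hχ).symm
    · exact congrArg (fun u : ArtFun.HomSet R resR (ArtFun.Art.dual k k) => u.1 r) hχ''
  rw [this]

end Groth.Agent.S12303
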