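import Groth.Statements.S12304
import Groth.Agent.Lib.Helper4.ArtFunLocal

set_option autoImplicit false
universe u
open CategoryTheory CategoryTheory.Limits AlgebraicGeometry
open ArtFun

namespace Groth.Agent.S12304

/-- Let k be an algebraically closed field, M a locally Noetherian k-scheme and x₀ : Spec k → M a
k-rational point. For a local Artinian k-algebra A with residue field k consider the k-morphisms
Spec A → M whose restriction along the closed point Spec k → Spec A is x₀ (the local functor of M at
x₀, a morphism A → B acting by composition with Spec B → Spec A). This functor is pro-representable: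
there are a complete local Noetherian k-algebra R with residue field k and bijections, natural in A,
between the augmentation-compatible k-algebra maps R → A and these morphisms. (The published
statement is phrased for the fine moduli scheme M of a moduli problem, whose local functor at the
point of a given object is this one; M is taken locally Noetherian here so that the coefficient ring
is Noetherian.) -/
theorem result
    {k : Type u} [Field k] [IsAlgClosed k] (M : Scheme.{u}) (m : M ⟶ Spec (CommRingCat.of k))
    [IsLocallyNoetherian M] (x₀ : Spec (CommRingCat.of k) ⟶ M) (hx₀ : x₀ ≫ m = 𝟙 _) :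
    ∃ (R : ArtFun.CRing k k)
      (e : ∀ A : ArtFun.Art k k, ArtFun.HomSet R.carrier R.res A ≃
        {g : ArtFun.Art.spec A ⟶ M // g ≫ m = ArtFun.Art.specMap (ArtFun.Art.ofBase A) ∧ ArtFun.Art.specRes A ≫ g = x₀}),
      ∀ (A B : ArtFun.Art k k) (h : A ⟶ B) (φ : ArtFun.HomSet R.carrier R.res A),
        ((e B) (ArtFun.HomSet.map h φ)).1 = ArtFun.Art.specMap h ≫ ((e A) φ).1 := by
  classical
  let x : M := x₀.base (Groth.Agent.Lib.helper4.ArtFunLocal.pt k)
  obtain ⟨U, hU, hxU, -⟩ := TopologicalSpace.Opens.isBasis_iff_nbhd.1 (Scheme.isBasis_affineOpens M)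
    (show x ∈ (⊤ : M.Opens) from trivial)
  have hU' : IsAffineOpen U := hU
  have : IsNoetherianRing Γ(M, U) := IsLocallyNoetherian.component_noetherian ⟨U, hU⟩
  let j : Spec (CommRingCat.of Γ(M, U)) ⟶ M := hU'.fromSpec
  have : IsOpenImmersion j := inferInstanceAs (IsOpenImmersion hU'.fromSpec)
  have hrange : Set.range j.base = U := hU'.range_fromSpec
  let ρ₀ : CommRingCat.of k ⟶ CommRingCat.of Γ(M, U) := Spec.preimage (j ≫ m)
  have hρ₀ : Spec.map ρ₀ = j ≫ m := Spec.map_preimage _
  letI : Algebra k Γ(M, U) := ρ₀.hom.toAlgebra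
  have hj : j ≫ m = Spec.map (CommRingCat.ofHom (algebraMap k Γ(M, U))) := hρ₀.symm
  have hr : Set.range x₀.base ⊆ Set.range j.base := by
    rintro _ ⟨p, rfl⟩
    rw [hrange]
    have hss : Subsingleton (PrimeSpectrum k) := inferInstance
    have hp : p = Groth.Agent.Lib.helper4.ArtFunLocal.pt k := hss.elim _ _
    rw [hp]
    exact hxU
  let l₀ : Spec (CommRingCat.of k) ⟶ Spec (CommRingCat.of Γ(M, U)) := IsOpenImmersion.lift j x₀ hr
  have hl₀ : l₀ ≫ j = x₀ := IsOpenImmersion.lift_fac j x₀ hr
  let ε₀ : CommRingCat.of Γ(M, U) ⟶ CommRingCat.of k := Spec.preimage l₀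
  have hε₀ : Spec.map ε₀ = l₀ := Spec.map_preimage _
  have c1 : ρ₀ ≫ ε₀ = 𝟙 _ := by
    apply Spec.map_injective
    rw [Spec.map_comp, hε₀, hρ₀, ← Category.assoc, hl₀, hx₀, Spec.map_id]
  let ε : Γ(M, U) →ₐ[k] k :=
    { ε₀.hom with
      commutes' := fun c => congrArg (fun f => f.hom c) c1 }
  have hε : Spec.map (CommRingCat.ofHom ε.toRingHom) ≫ j = x₀ := by
    change Spec.map ε₀ ≫ j = x₀
    rw [hε₀, hl₀]
  exact Groth.Agent.Lib.helper4.ArtFunLocal.main M m x₀ Γ(M, U) j hj ε hε

end Groth.Agent.S12304
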