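import Groth.Statements.S12305
import Groth.Agent.LibCotT29e
import Groth.Agent.LibLoc29e
import Mathlib.RingTheory.Smooth.Locus
-- import your own Groth.Agent.* helpers here

set_option autoImplicit false
universe u
open CotT

namespace Groth.Agent.S12305

open Groth.Agent.LibCotT29 Groth.Agent.LibLoc29e

section

variable {A B : Type u} [CommRing A] [CommRing B] [Algebra A B]

/-- step D: uniform annihilation of `CoT1` by `s` iff `s • id` factors through the cotangent
complex -/
theorem coT1_uniform_iff (E : Algebra.Extension.{u} A B) [Module.Finite B E.Cotangent] (s : B) :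
    (∀ (M : Type u) [AddCommGroup M] [Module B M] [Module.Finite B M],
      ∀ x : CoT1 E M, s • x = 0) ↔
    ∃ ψ : E.CotangentSpace →ₗ[B] E.Cotangent, ∀ x, ψ (E.cotangentComplex x) = s • x := by
  constructor
  · intro h
    have h1 := h E.Cotangent (Submodule.Quotient.mk LinearMap.id)
    rw [← Submodule.Quotient.mk_smul, Submodule.Quotient.mk_eq_zero] at h1
    obtain ⟨ψ, hψ⟩ := h1
    refine ⟨ψ, fun x => ?_⟩
    have := LinearMap.congr_fun hψ x
    simpa using this
  · rintro ⟨ψ, hψ⟩ M _ _ _ x
    obtain ⟨χ, rfl⟩ := Submodule.Quotient.mk_surjective _ x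
    rw [← Submodule.Quotient.mk_smul, Submodule.Quotient.mk_eq_zero]
    refine ⟨χ ∘ₗ ψ, ?_⟩
    ext y
    simp [hψ]

end


/-- Let k be an algebraically closed field, A a finitely generated k-algebra which is a domain, smooth
over k and of Krull dimension one (the coordinate ring of a nonsingular affine curve T), t ∈ A an
element generating a maximal ideal (a point 0 of T), and B a finitely generated flat A-algebra (an
affine flat family X = Spec B over T). Then the following are equivalent: (i) B is smooth over A at
every prime of B not containing t, that is, every fibre of X over a point of T other than 0 is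
smooth; (ii) there is an integer n₀ such that t^(n₀) annihilates the cotangent module T¹(B/A, M),
computed from the choice-free presentation of B over A, for every finitely generated B-module M. -/
theorem result
    {k : Type u} [Field k] [IsAlgClosed k] (A B : Type u) [CommRing A] [CommRing B] [IsDomain A]
    [Algebra k A] [Algebra.FiniteType k A] [Algebra.Smooth k A] (hdim : ringKrullDim A = 1)
    (t : A) (ht : (Ideal.span {t}).IsMaximal)
    [Algebra A B] [Algebra.FiniteType A B] [Module.Flat A B] :
    (∀ q : PrimeSpectrum B, algebraMap A B t ∉ q.asIdeal → q ∈ Algebra.smoothLocus A B) ↔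
    ∃ n₀ : ℕ, ∀ (M : Type u) [AddCommGroup M] [Module B M] [Module.Finite B M],
      ∀ x : CotT.T1 (CotT.canon A B) M, (algebraMap A B t) ^ n₀ • x = 0 := by
  have hA : IsNoetherianRing A := Algebra.FiniteType.isNoetherianRing k A
  have hfp : Algebra.FinitePresentation A B := Algebra.FinitePresentation.of_finiteType.mp inferInstance
  set t' : B := algebraMap A B t with ht'
  set S : Submonoid B := Submonoid.powers t' with hS
  let P := Algebra.Presentation.ofFinitePresentation A B
  let E : Algebra.Extension.{u} A B := P.toExtension
  have hNfin : Module.Finite B E.Cotangent := Algebra.Extension.Cotangent.finite P.fg_ker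
  have hLfree : Module.Free B E.CotangentSpace := Module.Free.of_basis P.cotangentSpaceBasis
  have hLfin : Module.Finite B E.CotangentSpace := Module.Finite.of_basis P.cotangentSpaceBasis
  have hLfp : Module.FinitePresentation B E.CotangentSpace :=
    Module.finitePresentation_of_projective B _
  -- step A
  have stepA : (∀ q : PrimeSpectrum B, t' ∉ q.asIdeal → q ∈ Algebra.smoothLocus A B) ↔
      Algebra.FormallySmooth A (Localization.Away t') := by
    rw [← Algebra.basicOpen_subset_smoothLocus_iff]
    rfl
  -- step B
  have stepB : Algebra.FormallySmooth A (Localization.Away t') ↔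
      (∀ x : E.Cotangent, E.cotangentComplex x = 0 → ∃ k : ℕ, t' ^ k • x = 0) ∧
      Module.Projective (Localization S) (LocalizedModule S Ω[B⁄A]) := by
    rw [Algebra.formallySmooth_iff, and_comm]
    refine and_congr ?_ ?_
    · have e1 := IsLocalizedModule.iso S (Algebra.H1Cotangent.map A A B (Localization.Away t'))
      rw [← e1.subsingleton_congr, LocalizedModule.subsingleton_iff]
      constructor
      · intro h x hx
        obtain ⟨r, ⟨k, rfl⟩, hr⟩ := h (P.equivH1Cotangent ⟨x, hx⟩)
        refine ⟨k, ?_⟩
        rw [← map_smul, LinearEquiv.map_eq_zero_iff] at hr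
        exact congrArg Subtype.val hr
      · intro h m
        obtain ⟨⟨x, hx⟩, rfl⟩ := P.equivH1Cotangent.surjective m
        obtain ⟨k, hk⟩ := h x hx
        refine ⟨t' ^ k, ⟨k, rfl⟩, ?_⟩
        rw [← map_smul, LinearEquiv.map_eq_zero_iff]
        exact Subtype.ext hk
    · have e2 := IsLocalizedModule.iso S
        (KaehlerDifferential.map A A B (Localization.Away t'))
      have e3 := e2.extendScalarsOfIsLocalization S (Localization.Away t')
      exact ⟨fun _ ↦ .of_equiv e3.symm, fun _ ↦ .of_equiv e3⟩
  -- step C
  have stepC : ((∀ x : E.Cotangent, E.cotangentComplex x = 0 → ∃ k : ℕ, t' ^ k • x = 0) ∧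
      Module.Projective (Localization S) (LocalizedModule S Ω[B⁄A])) ↔
      ∃ (n : ℕ) (ψ : E.CotangentSpace →ₗ[B] E.Cotangent),
        ∀ x, ψ (E.cotangentComplex x) = t' ^ n • x := by
    constructor
    · rintro ⟨h1, h2⟩
      exact psi_of_proj t' E.cotangentComplex E.toKaehler E.exact_cotangentComplex_toKaehler
        E.toKaehler_surjective h1 h2
    · rintro ⟨n, ψ, hψ⟩
      exact ⟨torsion_of_psi t' E.cotangentComplex n ψ hψ,
        proj_of_psi t' E.cotangentComplex E.toKaehler E.exact_cotangentComplex_toKaehler
          E.toKaehler_surjective n ψ hψ⟩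
  rw [stepA, stepB, stepC]
  refine exists_congr fun n => ?_
  rw [← coT1_uniform_iff E (t' ^ n)]
  have eqv : ∀ (M : Type u) [AddCommGroup M] [Module B M],
      CotT.T1 (CotT.canon A B) M ≃ₗ[B] CoT1 E M := fun M _ _ =>
    (T1equivCoT1 (CotT.canon A B) M).trans
      (CoT1.equiv M ((CotT.canon A B).defaultHom P.toGenerators).toExtensionHom
        (P.defaultHom (CotT.canon A B).toGenerators).toExtensionHom)
  constructor
  · intro h M _ _ _ x
    have := h M ((eqv M) x)
    rw [← map_smul, LinearEquiv.map_eq_zero_iff] at this
    exact this
  · intro h M _ _ _ x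
    have := h M ((eqv M).symm x)
    rw [← map_smul, LinearEquiv.map_eq_zero_iff] at this
    exact this

end Groth.Agent.S12305
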