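import Groth.Statements.S12308
import Groth.Agent.LibHull29m
-- import your own Groth.Agent.* helpers here

set_option autoImplicit false
universe u
open CategoryTheory AlgebraicGeometry
open SGA7

namespace Groth.Agent.S12308

/-- Suppose Λ is a Noetherian local ring, complete for its maximal ideal, whose residue field is k (so
the map Λ → k is surjective), and work with functors on local Artinian Λ-algebras having residue
field k. Take X₀ to be an affine scheme of finite type over k, together with an open subscheme U ⊆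
X₀ that is smooth over k and has finite complement (thus X₀ fails to be smooth at only finitely many
points). Under these assumptions the deformation functor of X₀, which sends A to isomorphism classes
of schemes flat over Spec A whose closed fibre is X₀, has a hull; equivalently, there is a
miniversal family defined over a complete local Noetherian Λ-algebra with residue field k. -/
theorem result (Λ k : Type u) [CommRing Λ] [IsLocalRing Λ] [IsNoetherianRing Λ]
    [IsAdicComplete (IsLocalRing.maximalIdeal Λ) Λ] [Field k] [Algebra Λ k]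
    (hk : Function.Surjective (algebraMap Λ k))
    (X : Scheme.{u}) [IsAffine X] (x : X ⟶ Spec (CommRingCat.of k)) [LocallyOfFiniteType x]
    (U : X.Opens) (hU : Smooth (U.ι ≫ x)) (hfin : ((U : Set X)ᶜ).Finite) :
    ArtFun.HasHull (ArtFun.defFunctor (Λ := Λ) X x) := by
  haveI : LocallyOfFinitePresentation x := inferInstance
  -- the ring of global functions
  letI alg : Algebra k Γ(X, ⊤) := (Groth.Agent.LibAffDef29.toΓ x).hom.toAlgebra
  let θ : X ≅ Spec (CommRingCat.of Γ(X, ⊤)) := X.isoSpec
  let x' : Spec (CommRingCat.of Γ(X, ⊤)) ⟶ Spec (CommRingCat.of k) :=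
    Spec.map (CommRingCat.ofHom (algebraMap k Γ(X, ⊤)))
  have hθ : θ.hom ≫ x' = x := (Groth.Agent.LibAffDef29.eq_isoSpec_hom_comp x).symm
  have hθ' : θ.symm.hom ≫ x = x' := by
    rw [Iso.symm_hom, ← hθ, Iso.inv_hom_id_assoc]
  have hθ'' : θ.inv ≫ x = x' := hθ'
  -- finite presentation
  haveI : LocallyOfFiniteType x' := by
    rw [← hθ'']
    infer_instance
  have hft : (algebraMap k Γ(X, ⊤)).FiniteType :=
    (HasRingHomProperty.Spec_iff (P := @LocallyOfFiniteType)).mp (inferInstance : LocallyOfFiniteType x')
  haveI : Algebra.FiniteType k Γ(X, ⊤) := hft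
  haveI : Algebra.FinitePresentation k Γ(X, ⊤) := Algebra.FinitePresentation.of_finiteType.mp inferInstance
  -- the smooth locus
  have hUs : U ≤ x.smoothLocus := by
    intro y hy
    have h1 := Scheme.Hom.preimage_smoothLocus_eq U.ι x
    haveI : Smooth (U.ι ≫ x) := hU
    rw [Scheme.Hom.smoothLocus_eq_top (U.ι ≫ x)] at h1
    have h2 : (⟨y, hy⟩ : U) ∈ U.ι ⁻¹ᵁ x.smoothLocus := by
      rw [h1]
      trivial
    exact h2
  have hsm : ∀ p : PrimeSpectrum Γ(X, ⊤), θ.inv p ∈ U → p ∈ Algebra.smoothLocus k Γ(X, ⊤) := by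
    intro p hp
    have h1 := Scheme.Hom.preimage_smoothLocus_eq θ.inv x
    have h2 : p ∈ θ.inv ⁻¹ᵁ x.smoothLocus := hUs hp
    rw [h1] at h2
    have h3 : ((θ.inv ≫ x).stalkMap p).hom.FormallySmooth := h2
    have h4 : (x'.stalkMap p).hom.FormallySmooth := hθ'' ▸ h3
    exact (Groth.Agent.LibHull29.formallySmooth_stalkMap_Spec_iff p).mp h4
  have hfin' : (Algebra.smoothLocus k Γ(X, ⊤))ᶜ.Finite := by
    have hinj : Function.Injective (fun p : PrimeSpectrum Γ(X, ⊤) => θ.inv p) := by
      intro p q hpq
      have h5 : θ.hom (θ.inv p) = θ.hom (θ.inv q) := congrArg (fun y => θ.hom y) hpq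
      have h6 : ∀ r : ↥(Spec (CommRingCat.of Γ(X, ⊤))), θ.hom (θ.inv r) = r := fun r => by
        rw [← Scheme.Hom.comp_apply, Iso.inv_hom_id]
        rfl
      exact (h6 p).symm.trans (h5.trans (h6 q))
    refine Set.Finite.subset (hfin.preimage (hinj.injOn)) ?_
    intro p hp
    rw [Set.mem_preimage, Set.mem_compl_iff]
    intro hpU
    exact hp (hsm p hpU)
  have hull := Groth.Agent.LibHull29.hasHull_DefF (Λ := Λ) (k := k) (B₀ := Γ(X, ⊤)) hk hfin'
  exact Groth.Agent.LibHull29.hasHull_of_bijective
    (Groth.Agent.LibHull29.defTransport (Λ := Λ) x' x θ.symm hθ')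
    (Groth.Agent.LibHull29.defTransport_bijective x' x θ.symm hθ') hull

end Groth.Agent.S12308
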