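import Groth.Statements.S12314
import Mathlib

set_option autoImplicit false
universe u
open CategoryTheory CategoryTheory.Limits AlgebraicGeometry MonObj
open SGA7

namespace Groth.Agent.S12314

section
variable {S : Scheme.{u}} {A : Over S} [GrpObj A] [IsCommMonObj A] {l : ℕ} {T : Over S}

theorem comp_id_pow (x : T ⟶ A) (n : ℕ) : x ≫ (𝟙 A) ^ n = x ^ n := by
  rw [MonObj.comp_pow, Category.comp_id]

theorem compat_iter (z : AbDual.TateMod A l T) (m a : ℕ) :
    (l ^ a) • (z : ℕ → Additive (T ⟶ A)) (m + a) = (z : ℕ → Additive (T ⟶ A)) m := by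
  induction a with
  | zero => simp
  | succ a ih =>
    rw [pow_succ, mul_smul, ← add_assoc, AbDual.TateMod.compat, ih]

theorem eq_zero_of_nsmul (hl : l.Prime) (n : ℕ) (hn : 0 < n) (z : AbDual.TateMod A l T)
    (h : n • z = 0) : z = 0 := by
  apply AbDual.TateMod.ext
  intro m
  have hcomp : ∀ j, n • (z : ℕ → Additive (T ⟶ A)) j = 0 := by
    intro j
    have := congrArg (fun w : AbDual.TateMod A l T => (w : ℕ → Additive (T ⟶ A)) j) h
    simpa using this
  have h1 : addOrderOf ((z : ℕ → Additive (T ⟶ A)) (m + n)) ∣ n :=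
    addOrderOf_dvd_of_nsmul_eq_zero (hcomp _)
  have h2 : addOrderOf ((z : ℕ → Additive (T ⟶ A)) (m + n)) ∣ l ^ (m + n) :=
    addOrderOf_dvd_of_nsmul_eq_zero (z.torsion _)
  obtain ⟨b, hb, hb'⟩ := (Nat.dvd_prime_pow hl).1 h2
  have hbn : b < n := by
    have : l ^ b ≤ n := Nat.le_of_dvd hn (hb' ▸ h1)
    have h3 : b < l ^ b := Nat.lt_pow_self hl.one_lt
    omega
  have h4 : (l ^ n) • (z : ℕ → Additive (T ⟶ A)) (m + n) = 0 := by
    apply addOrderOf_dvd_iff_nsmul_eq_zero.1
    rw [hb']
    exact pow_dvd_pow l hbn.le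
  rw [← compat_iter z m n, h4]
  rfl

end

/-- Let R be a henselian discrete valuation ring with fraction field K and residue field k, Ω a
separable closure of K, W a valuation subring of Ω lying over R, A and C abelian varieties over K
(proper, geometrically integral commutative group schemes), and u : C → A an isogeny, in the form:
there are a homomorphism v : A → C and an integer n > 0 with v ∘ u = n and u ∘ v = n. Let ℓ be a
prime invertible in k and consider the ℓ-adic Tate modules of the Ω-points of C and A; call an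
element fixed when all its components are fixed by the inertia group at W (for such ℓ the fixed part
is the inertia invariants). Then T_ℓ(u) maps the fixed part of T_ℓ(C) into the fixed part of T_ℓ(A)
and induces an isogeny between them: T_ℓ(u) is injective, and n times every fixed element of T_ℓ(A)
is the image of a fixed element of T_ℓ(C). (The case of a prime equal to the residue characteristic,
where the fixed part is defined through the Néron model, is not stated.) -/
theorem result (R K Ω : Type u) [CommRing R] [IsDomain R] [IsDiscreteValuationRing R] [HenselianLocalRing R]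
    [Field K] [Algebra R K] [IsFractionRing R K] [Field Ω] [Algebra K Ω] [IsSepClosure K Ω]
    (W : ValuationSubring Ω) (hW : SGA7.LiesOver K R W)
    (A C : Over (Spec (CommRingCat.of K))) [GrpObj A] [IsCommMonObj A] [IsProper A.hom] [GeometricallyIntegral A.hom]
    [GrpObj C] [IsCommMonObj C] [IsProper C.hom] [GeometricallyIntegral C.hom]
    (u : C ⟶ A) [IsMonHom u] (v : A ⟶ C) [IsMonHom v] (n : ℕ) (hn : 0 < n)
    (huv : u ≫ v = (𝟙 C) ^ n) (hvu : v ≫ u = (𝟙 A) ^ n)
    (l : ℕ) (hl : l.Prime) (hlp : (l : IsLocalRing.ResidueField R) ≠ 0) :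
    (∀ z : AbDual.TateMod C l (SGA7.pt Ω),
      (∀ (τ : Ω ≃ₐ[K] Ω) (m : ℕ), SGA7.IsInertia W τ →
        SGA7.galAct τ (AbDual.TateMod.component C l (SGA7.pt Ω) m z).toMul =
          (AbDual.TateMod.component C l (SGA7.pt Ω) m z).toMul) →
      (∀ (τ : Ω ≃ₐ[K] Ω) (m : ℕ), SGA7.IsInertia W τ →
        SGA7.galAct τ (AbDual.TateMod.component A l (SGA7.pt Ω) m (AbDual.tateMap u z)).toMul =
          (AbDual.TateMod.component A l (SGA7.pt Ω) m (AbDual.tateMap u z)).toMul)) ∧
    (∀ z : AbDual.TateMod C l (SGA7.pt Ω), AbDual.tateMap (l := l) (T := SGA7.pt Ω) u z = 0 → z = 0) ∧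
    (∀ y : AbDual.TateMod A l (SGA7.pt Ω),
      (∀ (τ : Ω ≃ₐ[K] Ω) (m : ℕ), SGA7.IsInertia W τ →
        SGA7.galAct τ (AbDual.TateMod.component A l (SGA7.pt Ω) m y).toMul =
          (AbDual.TateMod.component A l (SGA7.pt Ω) m y).toMul) →
      ∃ z : AbDual.TateMod C l (SGA7.pt Ω),
        (∀ (τ : Ω ≃ₐ[K] Ω) (m : ℕ), SGA7.IsInertia W τ →
        SGA7.galAct τ (AbDual.TateMod.component C l (SGA7.pt Ω) m z).toMul =
          (AbDual.TateMod.component C l (SGA7.pt Ω) m z).toMul) ∧
        AbDual.tateMap (l := l) (T := SGA7.pt Ω) u z = n • y) := by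
  have key : ∀ (B D : Over (Spec (CommRingCat.of K))) [GrpObj B] [IsCommMonObj B] [GrpObj D] [IsCommMonObj D]
      (w : B ⟶ D) [IsMonHom w] (z : AbDual.TateMod B l (SGA7.pt Ω)),
      (∀ (τ : Ω ≃ₐ[K] Ω) (m : ℕ), SGA7.IsInertia W τ →
        SGA7.galAct τ (AbDual.TateMod.component B l (SGA7.pt Ω) m z).toMul =
          (AbDual.TateMod.component B l (SGA7.pt Ω) m z).toMul) →
      (∀ (τ : Ω ≃ₐ[K] Ω) (m : ℕ), SGA7.IsInertia W τ →
        SGA7.galAct τ (AbDual.TateMod.component D l (SGA7.pt Ω) m (AbDual.tateMap w z)).toMul =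
          (AbDual.TateMod.component D l (SGA7.pt Ω) m (AbDual.tateMap w z)).toMul) := by
    intro B D _ _ _ _ w _ z hz τ m hτ
    rw [AbDual.tateMap_component]
    have := hz τ m hτ
    unfold SGA7.galAct at this ⊢
    rw [← Category.assoc, this]
  have comp_eq : ∀ (B D : Over (Spec (CommRingCat.of K))) [GrpObj B] [IsCommMonObj B] [GrpObj D] [IsCommMonObj D]
      (w : B ⟶ D) [IsMonHom w] (w' : D ⟶ B) [IsMonHom w'] (hw : w ≫ w' = (𝟙 B) ^ n)
      (z : AbDual.TateMod B l (SGA7.pt Ω)),
      AbDual.tateMap (l := l) (T := SGA7.pt Ω) w' (AbDual.tateMap (l := l) (T := SGA7.pt Ω) w z) = n • z := by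
    intro B D _ _ _ _ w _ w' _ hw z
    apply AbDual.TateMod.ext
    intro m
    change Additive.ofMul (((AbDual.TateMod.component B l (SGA7.pt Ω) m z).toMul ≫ w) ≫ w') = _
    rw [Category.assoc, hw, comp_id_pow]
    rfl
  refine ⟨fun z hz => key C A u z hz, ?_, ?_⟩
  · intro z hz
    have h1 := comp_eq C A u v huv z
    rw [hz, map_zero] at h1
    exact eq_zero_of_nsmul hl n hn z h1.symm
  · intro y hy
    exact ⟨AbDual.tateMap v y, key A C v y hy, comp_eq A C v u hvu y⟩

end Groth.Agent.S12314
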