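import Groth.Statements.S12716
import Groth.Agent.S12714
import Mathlib

set_option autoImplicit false
universe u v
open CategoryTheory
open ArtFun

namespace Groth.Agent.S12716

/-- Let f : R → S be a morphism of complete local Noetherian Λ-algebras with residue field k (Λ
Noetherian, Λ → k finite). If the restriction map Der_Λ(S, k) → Der_Λ(R, k) is injective — two
Λ-derivations S → k that agree after composing with f are equal — then f is surjective. -/
theorem result {Λ : Type u} {k : Type u} [CommRing Λ] [Field k] [Algebra Λ k]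
    [IsNoetherianRing Λ] [Module.Finite Λ k]
    (R : ArtFun.CRing Λ k)
    (S : Type u) [CommRing S] [Algebra Λ S] [IsLocalRing S] [IsNoetherianRing S]
    [IsAdicComplete (IsLocalRing.maximalIdeal S) S] [Algebra S k] [IsScalarTower Λ S k]
    (hres : Function.Surjective (algebraMap S k))
    (f : R.carrier →ₐ[Λ] S) (hf : (IsScalarTower.toAlgHom Λ S k).comp f = R.res)
    (hinj : ∀ D₁ D₂ : Derivation Λ S k, (∀ r : R.carrier, D₁ (f r) = D₂ (f r)) → D₁ = D₂) :
    Function.Surjective f := by
  classical
  have hmem : ∀ s : S, s ∈ IsLocalRing.maximalIdeal S ↔ algebraMap S k s = 0 := by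
    intro s
    have hmax : (RingHom.ker (algebraMap S k)).IsMaximal :=
      RingHom.ker_isMaximal_of_surjective _ hres
    rw [← IsLocalRing.eq_maximalIdeal hmax, RingHom.mem_ker]
  have hfres : ∀ r, algebraMap S k (f r) = R.res r := fun r =>
    congrArg (fun g : R.carrier →ₐ[Λ] k => g r) hf
  let S' : ArtFun.CRing Λ k :=
    { carrier := S, res := IsScalarTower.toAlgHom Λ S k, res_surjective := hres,
      isAdicComplete := inferInstance }
  have hTFAE := Groth.Agent.S12714.result R S' f hf
  apply (hTFAE.out 2 0).mp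
  show Ideal.map (algebraMap Λ S) (RingHom.ker (algebraMap Λ k)) ⊔
      Ideal.map f (IsLocalRing.maximalIdeal R.carrier) ⊔ IsLocalRing.maximalIdeal S ^ 2 =
      IsLocalRing.maximalIdeal S
  set mS := IsLocalRing.maximalIdeal S with hmS
  set I : Ideal S := Ideal.map (algebraMap Λ S) (RingHom.ker (algebraMap Λ k)) ⊔
      Ideal.map f (IsLocalRing.maximalIdeal R.carrier) ⊔ mS ^ 2 with hI
  have hfm : Ideal.map f (IsLocalRing.maximalIdeal R.carrier) ≤ mS := by
    rw [Ideal.map_le_iff_le_comap]
    intro r hr
    rw [Ideal.mem_comap, hmem]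
    show algebraMap S k (f r) = 0
    rw [hfres]
    exact (Groth.Agent.S12714.mem_max_iff R r).1 hr
  have hI_le : I ≤ mS := by
    refine sup_le (sup_le ?_ hfm) (Ideal.pow_le_self two_ne_zero)
    rw [Ideal.map_le_iff_le_comap]
    intro c hc
    rw [Ideal.mem_comap, hmem, ← IsScalarTower.algebraMap_apply]
    exact hc
  have hfI : Ideal.map f (IsLocalRing.maximalIdeal R.carrier) ≤ I :=
    le_sup_of_le_left le_sup_right
  have hsqI : mS ^ 2 ≤ I := le_sup_right
  by_contra hne
  -- the subspace of the cotangent space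
  let p : Submodule (IsLocalRing.ResidueField S) mS.Cotangent :=
    { carrier := {y | ∃ x : mS, (x : S) ∈ I ∧ mS.toCotangent x = y}
      zero_mem' := ⟨0, I.zero_mem, map_zero _⟩
      add_mem' := by
        rintro _ _ ⟨x, hx, rfl⟩ ⟨x', hx', rfl⟩
        exact ⟨x + x', I.add_mem hx hx', map_add _ _ _⟩
      smul_mem' := by
        rintro c _ ⟨x, hx, rfl⟩
        obtain ⟨a, rfl⟩ := IsLocalRing.residue_surjective c
        refine ⟨a • x, I.mul_mem_left a hx, ?_⟩
        rw [map_smul]
        rfl }
  have hp : p < ⊤ := by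
    rw [lt_top_iff_ne_top]
    intro htop
    apply hne
    apply le_antisymm hI_le
    intro x hx
    have h1 : mS.toCotangent ⟨x, hx⟩ ∈ p := by rw [htop]; exact Submodule.mem_top
    obtain ⟨y, hyI, hy⟩ := h1
    rw [Ideal.toCotangent_eq] at hy
    have h2 : x = (y : S) - ((y : S) - x) := by ring
    rw [h2]
    exact I.sub_mem hyI (hsqI hy)
  obtain ⟨φ, hφ0, hφp⟩ := Submodule.exists_le_ker_of_lt_top p hp
  haveI : IsLocalHom (algebraMap S k) := by
    refine ⟨fun s hs => ?_⟩
    by_contra hns
    have h1 : s ∈ mS := (IsLocalRing.mem_maximalIdeal s).2 hns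
    rw [hmem] at h1
    rw [h1] at hs
    exact not_isUnit_zero hs
  let ι : IsLocalRing.ResidueField S →+* k := IsLocalRing.ResidueField.lift (algebraMap S k)
  let lam : mS → k := fun x => ι (φ (mS.toCotangent x))
  have lam_add : ∀ x y, lam (x + y) = lam x + lam y := fun x y => by
    show ι (φ (mS.toCotangent (x + y))) = _
    rw [map_add, map_add, map_add]
  have lam_smul : ∀ (a : S) (x : mS), lam (a • x) = algebraMap S k a * lam x := fun a x => by
    show ι (φ (mS.toCotangent (a • x))) = _
    have h1 : mS.toCotangent (a • x) = (IsLocalRing.residue S a) • mS.toCotangent x := by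
      rw [map_smul]; rfl
    rw [h1, map_smul, smul_eq_mul, map_mul]
    rfl
  have lam_I : ∀ x : mS, (x : S) ∈ I → lam x = 0 := fun x hx => by
    have h1 : mS.toCotangent x ∈ p := ⟨x, hx, rfl⟩
    have h2 := hφp h1
    rw [LinearMap.mem_ker] at h2
    show ι (φ (mS.toCotangent x)) = 0
    rw [h2, map_zero]
  have lam_zero : lam 0 = 0 := lam_I 0 I.zero_mem
  have lam_congr : ∀ x y : mS, (x : S) - y ∈ I → lam x = lam y := fun x y hxy => by
    have h1 : x = (x - y) + y := by abel
    rw [h1, lam_add, lam_I (x - y) hxy, zero_add]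
  have hsub : ∀ (s : S) (r : R.carrier), R.res r = algebraMap S k s → s - f r ∈ mS := by
    intro s r hr
    rw [hmem, map_sub, hfres, hr, sub_self]
  let rOf : S → R.carrier := fun s => Function.surjInv R.res_surjective (algebraMap S k s)
  have hrOf : ∀ s, R.res (rOf s) = algebraMap S k s := fun s =>
    Function.surjInv_eq R.res_surjective _
  let D₀ : S → k := fun s => lam ⟨s - f (rOf s), hsub s _ (hrOf s)⟩
  have key : ∀ (s : S) (r : R.carrier) (hr : R.res r = algebraMap S k s),
      D₀ s = lam ⟨s - f r, hsub s r hr⟩ := by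
    intro s r hr
    apply lam_congr
    show (s - f (rOf s)) - (s - f r) ∈ I
    have h1 : (s - f (rOf s)) - (s - f r) = f (r - rOf s) := by rw [map_sub]; ring
    rw [h1]
    apply hfI
    apply Ideal.mem_map_of_mem
    rw [Groth.Agent.S12714.mem_max_iff, map_sub, hr, hrOf, sub_self]
  have D_add : ∀ s s', D₀ (s + s') = D₀ s + D₀ s' := by
    intro s s'
    rw [key (s + s') (rOf s + rOf s') (by rw [map_add, map_add, hrOf, hrOf]), ← lam_add]
    congr 1
    apply Subtype.ext
    show s + s' - f (rOf s + rOf s') = (s - f (rOf s)) + (s' - f (rOf s'))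
    rw [map_add]; ring
  have D_alg : ∀ c : Λ, D₀ (algebraMap Λ S c) = 0 := by
    intro c
    rw [key (algebraMap Λ S c) (algebraMap Λ R.carrier c)
      (by rw [AlgHom.commutes, ← IsScalarTower.algebraMap_apply])]
    have : (⟨algebraMap Λ S c - f (algebraMap Λ R.carrier c), hsub _ _
      (by rw [AlgHom.commutes, ← IsScalarTower.algebraMap_apply])⟩ : mS) = 0 := by
      apply Subtype.ext
      show algebraMap Λ S c - f (algebraMap Λ R.carrier c) = 0
      rw [AlgHom.commutes, sub_self]
    rw [this, lam_zero]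
  have D_mul : ∀ s s', D₀ (s * s') = algebraMap S k s * D₀ s' + algebraMap S k s' * D₀ s := by
    intro s s'
    rw [key (s * s') (rOf s * rOf s') (by rw [map_mul, map_mul, hrOf, hrOf])]
    have h1 : (⟨s * s' - f (rOf s * rOf s'), hsub _ _ (by rw [map_mul, map_mul, hrOf, hrOf])⟩ : mS) =
        s • (⟨s' - f (rOf s'), hsub s' _ (hrOf s')⟩ : mS) +
        (f (rOf s')) • (⟨s - f (rOf s), hsub s _ (hrOf s)⟩ : mS) := by
      apply Subtype.ext
      show s * s' - f (rOf s * rOf s') = s * (s' - f (rOf s')) + f (rOf s') * (s - f (rOf s))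
      rw [map_mul]; ring
    rw [h1, lam_add, lam_smul, lam_smul, hfres, hrOf]
  let D : Derivation Λ S k := Derivation.mk'
    { toFun := D₀
      map_add' := D_add
      map_smul' := fun c s => by
        rw [Algebra.smul_def, D_mul, D_alg, mul_zero, add_zero, ← IsScalarTower.algebraMap_apply,
          RingHom.id_apply, Algebra.smul_def] }
    (fun s s' => by
      show D₀ (s * s') = s • D₀ s' + s' • D₀ s
      rw [D_mul, Algebra.smul_def, Algebra.smul_def])
  have hD0 : D = 0 := by
    apply hinj D 0
    intro r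
    show D₀ (f r) = 0
    rw [key (f r) r (hfres r).symm]
    have : (⟨f r - f r, hsub _ _ (hfres r).symm⟩ : mS) = 0 := Subtype.ext (sub_self _)
    rw [this, lam_zero]
  apply hφ0
  apply LinearMap.ext
  intro y
  obtain ⟨x, rfl⟩ := mS.toCotangent_surjective y
  have h1 : D₀ x = lam x := by
    rw [key (x : S) 0 (by rw [map_zero]; exact ((hmem _).1 x.2).symm)]
    congr 1
    apply Subtype.ext
    show (x : S) - f 0 = x
    rw [map_zero, sub_zero]
  have h2 : D₀ x = 0 := by
    have := congrArg (fun E : Derivation Λ S k => E (x : S)) hD0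
    exact this
  rw [h1] at h2
  have h3 : ι (φ (mS.toCotangent x)) = 0 := h2
  rw [LinearMap.zero_apply]
  exact (map_eq_zero ι).1 h3

end Groth.Agent.S12716
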