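import Groth.Statements.S12315
import Groth.Agent.S12716
import Groth.Agent.S12731
import Groth.Agent.S12758
import Mathlib

set_option autoImplicit false
universe u v
open CategoryTheory
open SGA7

namespace Groth.Agent.S12315

/-- Let Λ be a complete Noetherian local ring with residue field k (the map Λ → k surjective), and
consider functors on the category of local Artinian Λ-algebras with residue field k. Let F be such a
functor, R a complete local Noetherian Λ-algebra with residue field k, and ξ a family of F over R (a
morphism h_R → F) which is injective on k[ε]: distinct augmented Λ-algebra maps R → k[ε] give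
distinct elements of F(k[ε]). Then every endomorphism of the pair (R, ξ), that is every Λ-algebra
map α : R → R compatible with the augmentation such that transporting ξ along α gives back ξ, is an
automorphism of R. (The published statement is for formal objects of a cofibred groupoid; this row
is the case of a set-valued functor.) -/
theorem result (Λ k : Type u) [CommRing Λ] [IsLocalRing Λ] [IsNoetherianRing Λ]
    [IsAdicComplete (IsLocalRing.maximalIdeal Λ) Λ] [Field k] [Algebra Λ k]
    (hk : Function.Surjective (algebraMap Λ k))
    (F : ArtFun.Art Λ k ⥤ Type v) (R : ArtFun.CRing Λ k) (ξ : ArtFun.Family R.carrier R.res F)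
    (hinj : Function.Injective (ξ.app (ArtFun.Art.dual Λ k)))
    (α : R.carrier →ₐ[Λ] R.carrier) (hα : R.res.comp α = R.res) (hξ : ξ.along α hα = ξ) :
    Function.Bijective α := by
  classical
  haveI : Module.Finite Λ k := Module.Finite.of_surjective (Algebra.linearMap Λ k) hk
  letI : Algebra R.carrier k := R.res.toRingHom.toAlgebra
  have halg : ∀ r : R.carrier, algebraMap R.carrier k r = R.res r := fun r => rfl
  haveI : IsScalarTower Λ R.carrier k :=
    IsScalarTower.of_algebraMap_eq (fun r => (R.res.commutes r).symm)
  haveI := R.isAdicComplete
  have hres : (IsScalarTower.toAlgHom Λ R.carrier k) = R.res := AlgHom.ext fun r => rfl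
  let θ : Derivation Λ R.carrier k → ArtFun.HomSet R.carrier R.res (ArtFun.Art.dual Λ k) :=
    fun D => ⟨Groth.Agent.S12731.thetaHom R.res halg D, AlgHom.ext fun r => rfl⟩
  have hfix : ∀ (D : Derivation Λ R.carrier k) (r : R.carrier), D (α r) = D r := by
    intro D r
    have h1 : (ξ.along α hα).app _ (θ D) = ξ.app _ (θ D) := by rw [hξ]
    have h2 : (⟨(θ D).1.comp α, by rw [← AlgHom.comp_assoc, (θ D).2, hα]⟩ :
        ArtFun.HomSet R.carrier R.res (ArtFun.Art.dual Λ k)) = θ D := hinj h1
    have h3 := congrArg (fun φ : ArtFun.HomSet R.carrier R.res (ArtFun.Art.dual Λ k) =>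
      TrivSqZeroExt.snd (show TrivSqZeroExt k k from φ.1 r)) h2
    exact h3
  have hsurj : Function.Surjective α := by
    refine Groth.Agent.S12716.result R R.carrier R.res_surjective α (by rw [hres]; exact hα) ?_
    intro D₁ D₂ hD
    ext r
    rw [← hfix D₁ r, ← hfix D₂ r]
    exact hD r
  exact ⟨Groth.Agent.S12758.injective_of_surjective_endo (α : R.carrier →+* R.carrier) hsurj, hsurj⟩

end Groth.Agent.S12315
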