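import Groth.Statements.S12316
import Groth.Agent.Lib.Helper17.ArtAct
import Mathlib

set_option autoImplicit false
universe u v
open CategoryTheory
open SGA7

namespace Groth.Agent.S12316
open Groth.Agent.Lib.helper17.ArtAct

/-- Suppose Λ is a Noetherian local ring, complete for its maximal ideal, whose residue field is k (so Λ
→ k is surjective), and work with functors defined on the category of local Artinian Λ-algebras
having residue field k. Take morphisms φ : F → G and ψ : G → H of such functors. Assume that each of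
F(k), G(k), H(k) consists of a single point; that for G the comparison map on fibre products A₁ ×_A
A₂ is surjective as soon as A₂ → A is surjective, and is bijective for products of the form A' ×_k
k[ε]; that for H the comparison map is bijective on every fibre product A₁ ×_A A₂ with A₂ → A
surjective; and that the induced map on tangent spaces G(k[ε]) → H(k[ε]) coming from ψ is injective.
Under these assumptions, φ ≫ ψ is smooth if and only if both φ and ψ are smooth. (The published
statement is for functors of cofibred groupoids with G semi-homogeneous and H homogeneous; this row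
is the case of set-valued functors.) -/
theorem result (Λ k : Type u) [CommRing Λ] [IsLocalRing Λ] [IsNoetherianRing Λ]
    [IsAdicComplete (IsLocalRing.maximalIdeal Λ) Λ] [Field k] [Algebra Λ k]
    (hk : Function.Surjective (algebraMap Λ k))
    {F G H : ArtFun.Art Λ k ⥤ Type v} (φ : F ⟶ G) (ψ : G ⟶ H)
    (hF : ArtFun.H0 F) (hG : ArtFun.H0 G ∧ ArtFun.S1 G ∧ ArtFun.Heps G) (hH0 : ArtFun.H0 H)
    (hH : ∀ ⦃B A A' A'' : ArtFun.Art Λ k⦄ (p' : B ⟶ A') (p'' : B ⟶ A'') (f' : A' ⟶ A) (f'' : A'' ⟶ A)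
      (h : ArtFun.Art.IsFibreProd p' p'' f' f''), Function.Surjective f'' → Function.Bijective (ArtFun.cmp H h))
    (hψ : Function.Injective (ArtFun.TangentSpace.map ψ)) :
    ArtFun.IsSmooth (φ ≫ ψ) ↔ (ArtFun.IsSmooth φ ∧ ArtFun.IsSmooth ψ) := by
  classical
  haveI : Module.Finite Λ k := Module.Finite.of_surjective (Algebra.linearMap Λ k) hk
  obtain ⟨hG0, hG1, hG2⟩ := hG
  haveI : Subsingleton (F.obj (ArtFun.Art.base Λ k)) := hF.2
  haveI : Subsingleton (G.obj (ArtFun.Art.base Λ k)) := hG0.2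
  haveI : Subsingleton (H.obj (ArtFun.Art.base Λ k)) := hH0.2
  have hcomp : ∀ (C : ArtFun.Art Λ k) (w : F.obj C), (φ ≫ ψ).app C w = ψ.app C (φ.app C w) :=
    fun C w => rfl
  constructor
  · intro hs
    have core : ∀ ⦃B A : ArtFun.Art Λ k⦄ (μ : B ⟶ A), Function.Surjective μ →
        ∀ g₁ g₂ : G.obj B, G.map μ g₁ = G.map μ g₂ → ψ.app B g₁ = ψ.app B g₂ → g₁ = g₂ := by
      intro B A μ hμ
      refine Groth.Agent.S12707.result
        (fun A B μ => ∀ g₁ g₂ : G.obj B, G.map μ g₁ = G.map μ g₂ → ψ.app B g₁ = ψ.app B g₂ → g₁ = g₂)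
        ?_ ?_ ?_ μ hμ
      · intro A B e he g₁ g₂ h1 _
        have h2 := congrArg (G.map (inv e)) h1
        rwa [← map_comp_apply, ← map_comp_apply, IsIso.hom_inv_id, map_id_apply, map_id_apply] at h2
      · intro A B μ hμ g₁ g₂ h1 h2
        obtain ⟨Q, q1, q2, σ, s, hQ, hσ, hs1, hs2, hs3⟩ := exists_sigma μ hμ
        obtain ⟨z, hz1, hz2⟩ := exists_of_cmp_surjective hσ (hG1 q1 σ μ μ hσ hμ.1) g₁ g₂ h1
        have hqz : ψ.app Q z = H.map s (ψ.app B g₁) := by
          apply eq_of_cmp_injective hσ (hH q1 σ μ μ hσ hμ.1).1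
          · rw [← NatTrans.naturality_apply ψ q1 z, hz1, ← map_comp_apply, hs1, map_id_apply]
          · rw [← NatTrans.naturality_apply ψ σ z, hz2, ← map_comp_apply, hs2, map_id_apply, h2]
        have hv : G.map q2 z = G.map q2 (G.map s g₁) := by
          apply hψ
          show ψ.app _ (G.map q2 z) = ψ.app _ (G.map q2 (G.map s g₁))
          rw [NatTrans.naturality_apply ψ q2 z, hqz, NatTrans.naturality_apply ψ q2 (G.map s g₁),
            NatTrans.naturality_apply ψ s g₁]
        have hz : z = G.map s g₁ := by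
          apply eq_of_cmp_injective hQ (hG2 q1 q2 hQ).1
          · rw [hz1, ← map_comp_apply, hs1, map_id_apply]
          · exact hv
        rw [← hz2, hz, ← map_comp_apply, hs2, map_id_apply]
      · intro A B C p r hp hr g₁ g₂ h1 h2
        have h3 : G.map p g₁ = G.map p g₂ := by
          apply hr
          · rw [← map_comp_apply, ← map_comp_apply]; exact h1
          · rw [NatTrans.naturality_apply ψ p g₁, NatTrans.naturality_apply ψ p g₂, h2]
        exact hp g₁ g₂ h3 h2
    have hψinj : ∀ A : ArtFun.Art Λ k, Function.Injective (ψ.app A) := fun A g₁ g₂ h =>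
      core (ArtFun.Art.toBase A) A.res_surjective g₁ g₂ (Subsingleton.elim _ _) h
    have hψφsurj : ∀ A : ArtFun.Art Λ k, ∀ h' : H.obj A, ∃ z : F.obj A, ψ.app A (φ.app A z) = h' := by
      intro A h'
      obtain ⟨pt⟩ := hF.1
      obtain ⟨z, hz⟩ := hs (ArtFun.Art.toBase A) A.res_surjective ⟨(pt, h'), Subsingleton.elim _ _⟩
      exact ⟨z, congrArg (fun t => t.1.2) hz⟩
    constructor
    · intro B A μ hμ
      rintro ⟨⟨x, g'⟩, hxg⟩
      have hxg' : φ.app A x = G.map μ g' := hxg
      obtain ⟨z, hz⟩ := hs μ hμ ⟨(x, ψ.app B g'), by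
        show (φ ≫ ψ).app A x = H.map μ (ψ.app B g')
        rw [hcomp, hxg', NatTrans.naturality_apply ψ μ g']⟩
      have hz1 : F.map μ z = x := congrArg (fun t => t.1.1) hz
      have hz2 : ψ.app B (φ.app B z) = ψ.app B g' := congrArg (fun t => t.1.2) hz
      exact ⟨z, Subtype.ext (Prod.ext hz1 (hψinj B hz2))⟩
    · intro B A μ hμ
      rintro ⟨⟨g, h'⟩, hgh⟩
      have hgh' : ψ.app A g = H.map μ h' := hgh
      obtain ⟨z, hz⟩ := hψφsurj B h'
      refine ⟨φ.app B z, Subtype.ext (Prod.ext ?_ hz)⟩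
      show G.map μ (φ.app B z) = g
      apply hψinj A
      rw [NatTrans.naturality_apply ψ μ (φ.app B z), hz, hgh']
  · rintro ⟨hsφ, hsψ⟩
    intro B A μ hμ
    rintro ⟨⟨x, h'⟩, hxh⟩
    have hxh' : ψ.app A (φ.app A x) = H.map μ h' := hxh
    obtain ⟨g', hg'⟩ := hsψ μ hμ ⟨(φ.app A x, h'), hxh'⟩
    have hg'1 : G.map μ g' = φ.app A x := congrArg (fun t => t.1.1) hg'
    have hg'2 : ψ.app B g' = h' := congrArg (fun t => t.1.2) hg'
    obtain ⟨z, hz⟩ := hsφ μ hμ ⟨(x, g'), hg'1.symm⟩
    have hz1 : F.map μ z = x := congrArg (fun t => t.1.1) hz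
    have hz2 : φ.app B z = g' := congrArg (fun t => t.1.2) hz
    refine ⟨z, Subtype.ext (Prod.ext hz1 ?_)⟩
    show (φ ≫ ψ).app B z = h'
    rw [hcomp, hz2, hg'2]

end Groth.Agent.S12316
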