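import Groth.Statements.S12321
import Groth.Agent.Lib.Helper17.MinCover
import Groth.Agent.Lib.Helper17.SchlD
import Groth.Agent.Lib.Helper17.ArtAct

set_option autoImplicit false
universe u v
open CategoryTheory
open SGA7

namespace Groth.Agent.S12321
open Groth.Agent.Lib.helper17.ArtAct

/-- Suppose Λ is a Noetherian local ring that is complete, and k is its residue field, so the map Λ → k
is surjective. We look at functors on the category of local Artinian Λ-algebras whose residue field
is k. Take such a functor F for which F(k) is a single point, the comparison map F(A₁ ×_A A₂) →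
F(A₁) ×_{F(A)} F(A₂) is surjective whenever A₂ → A is surjective, and this map is bijective for A'
×_k k[ε]. Call an element a ∈ F(R) versal for small prolongations of the base point when, for each
object R₀ whose augmentation R₀ → k is a small extension and each b ∈ F(R₀), some morphism R → R₀
sends a to b. Assume a ∈ F(R) has this property. Then one can find an object R', a morphism q : R' →
R and an element a' ∈ F(R') whose image is a, satisfying the following. First, q is surjective and
the maximal ideal annihilates its kernel. Second, q induces an isomorphism m_{R'}/(m_{R'}² + m_Λ R')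
→ m_R/(m_R² + m_Λ R) between relative cotangent spaces (only injectivity is stated; surjectivity
comes for free). Third, a' is versal for small prolongations of a: given any small extension π₁ : R₁
→ R and any a₁ ∈ F(R₁) with image a, there is f : R' → R₁ satisfying f ≫ π₁ = q and sending a' to
a₁. (The published statement concerns semi-homogeneous cofibred groupoids; this row treats the case
of set-valued functors.) -/
theorem result (Λ k : Type u) [CommRing Λ] [IsLocalRing Λ] [IsNoetherianRing Λ]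
    [IsAdicComplete (IsLocalRing.maximalIdeal Λ) Λ] [Field k] [Algebra Λ k]
    (hk : Function.Surjective (algebraMap Λ k))
    (F : ArtFun.Art Λ k ⥤ Type v) (hF : ArtFun.H0 F ∧ ArtFun.S1 F ∧ ArtFun.Heps F)
    (R : ArtFun.Art Λ k) (a : F.obj R)
    (hvers : ∀ (R₀ : ArtFun.Art Λ k), ArtFun.Art.IsSmallExt (ArtFun.Art.toBase R₀) →
      ∀ b : F.obj R₀, ∃ φ : R ⟶ R₀, F.map φ a = b) :
    ∃ (R' : ArtFun.Art Λ k) (q : R' ⟶ R) (a' : F.obj R'), F.map q a' = a ∧
      ArtFun.Art.IsSemismallExt q ∧
      (∀ x' : R', x' ∈ IsLocalRing.maximalIdeal (R' : Type u) →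
        q x' ∈ (IsLocalRing.maximalIdeal (R : Type u)) ^ 2 ⊔ (IsLocalRing.maximalIdeal Λ).map (algebraMap Λ R) →
        x' ∈ (IsLocalRing.maximalIdeal (R' : Type u)) ^ 2 ⊔ (IsLocalRing.maximalIdeal Λ).map (algebraMap Λ R')) ∧
      ∀ (R₁ : ArtFun.Art Λ k) (π₁ : R₁ ⟶ R), ArtFun.Art.IsSmallExt π₁ →
        ∀ a₁ : F.obj R₁, F.map π₁ a₁ = a → ∃ f : R' ⟶ R₁, f ≫ π₁ = q ∧ F.map f a' = a₁ := by
  classical
  obtain ⟨h0, h1, h2⟩ := hF
  haveI : Module.Finite Λ k := Module.Finite.of_surjective (Algebra.linearMap Λ k) hk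
  haveI : Subsingleton (F.obj (ArtFun.Art.base Λ k)) := h0.2
  obtain ⟨S, π, hS, hπs, hπK⟩ := Groth.Agent.Lib.helper17.MinCover.exists_minimal_cover hk R
  obtain ⟨st', ⟨⟨q, hq1, hq2⟩, hmin⟩, hker⟩ :=
    Groth.Agent.Lib.helper17.Schl.exists_next' S F h1 ⟨R, π, hπs, a⟩
  change ArtFun.HomSet.map q st'.π = π at hq1
  change F.map q st'.ξ = a at hq2
  change IsLocalRing.maximalIdeal S.carrier * RingHom.ker π.1 ≤ RingHom.ker st'.π.1 at hker
  have hq' : ∀ s, q (st'.π.1 s) = π.1 s := fun s =>
    congrArg (fun f : ArtFun.HomSet S.carrier S.res R => f.1 s) hq1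
  refine ⟨st'.R, q, st'.ξ, hq2, ⟨?_, ?_⟩, ?_, ?_⟩
  · -- surjective
    intro r
    obtain ⟨s, rfl⟩ := hπs r
    exact ⟨st'.π.1 s, hq' s⟩
  · -- kernel killed by the maximal ideal
    rw [← le_bot_iff, Ideal.mul_le]
    intro b hb c hc
    obtain ⟨s, rfl⟩ := st'.surj b
    obtain ⟨t, rfl⟩ := st'.surj c
    have hs : s ∈ IsLocalRing.maximalIdeal S.carrier :=
      (Groth.Agent.Lib.helper17.Schl.homSet_mem_max st'.π s).1 hb
    have ht : t ∈ RingHom.ker π.1 := by
      rw [RingHom.mem_ker, ← hq']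
      exact hc
    rw [Ideal.mem_bot, ← map_mul]
    exact hker (Ideal.mul_mem_mul hs ht)
  · -- the relative cotangent condition
    intro x' hx' hqx'
    obtain ⟨s, rfl⟩ := st'.surj x'
    have hs : s ∈ IsLocalRing.maximalIdeal S.carrier :=
      (Groth.Agent.Lib.helper17.Schl.homSet_mem_max st'.π s).1 hx'
    rw [hq'] at hqx'
    -- `T_R = π(T_S)`
    have hmapm : Ideal.map π.1.toRingHom (IsLocalRing.maximalIdeal S.carrier) =
        IsLocalRing.maximalIdeal (R : Type u) :=
      IsLocalRing.map_maximalIdeal_of_surjective π.1.toRingHom hπs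
    have hTR : (IsLocalRing.maximalIdeal (R : Type u)) ^ 2 ⊔
        (IsLocalRing.maximalIdeal Λ).map (algebraMap Λ R) =
        Ideal.map π.1.toRingHom ((IsLocalRing.maximalIdeal S.carrier) ^ 2 ⊔
          (IsLocalRing.maximalIdeal Λ).map (algebraMap Λ S.carrier)) := by
      rw [Ideal.map_sup, Ideal.map_pow, hmapm, Ideal.map_map]
      have h2 : π.1.toRingHom.comp (algebraMap Λ S.carrier) = algebraMap Λ R := by
        ext l; exact π.1.commutes l
      rw [h2]
    rw [hTR] at hqx'
    obtain ⟨t, ht, hts⟩ := (Ideal.mem_map_iff_of_surjective π.1.toRingHom hπs).1 hqx'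
    have hsT : s ∈ (IsLocalRing.maximalIdeal S.carrier) ^ 2 ⊔
        (IsLocalRing.maximalIdeal Λ).map (algebraMap Λ S.carrier) := by
      have h3 : s - t ∈ RingHom.ker π.1 := by
        rw [RingHom.mem_ker, map_sub, sub_eq_zero]
        exact hts.symm
      have h4 := hπK h3
      have : s = (s - t) + t := by ring
      rw [this]
      exact Ideal.add_mem _ h4 ht
    have hmapm' : Ideal.map st'.π.1.toRingHom (IsLocalRing.maximalIdeal S.carrier) =
        IsLocalRing.maximalIdeal (st'.R : Type u) :=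
      IsLocalRing.map_maximalIdeal_of_surjective st'.π.1.toRingHom st'.surj
    have h5 : st'.π.1.toRingHom s ∈ Ideal.map st'.π.1.toRingHom
        ((IsLocalRing.maximalIdeal S.carrier) ^ 2 ⊔
          (IsLocalRing.maximalIdeal Λ).map (algebraMap Λ S.carrier)) :=
      Ideal.mem_map_of_mem _ hsT
    rw [Ideal.map_sup, Ideal.map_pow, hmapm', Ideal.map_map] at h5
    have h6 : st'.π.1.toRingHom.comp (algebraMap Λ S.carrier) = algebraMap Λ st'.R := by
      ext l; exact st'.π.1.commutes l
    rw [h6] at h5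
    exact h5
  · -- versality for small prolongations of `a`
    intro R₁ π₁ hπ₁ a₁ ha₁
    -- first find some `f₀` over `q`
    have hf₀ : ∃ f₀ : st'.R ⟶ R₁, f₀ ≫ π₁ = q := by
      obtain ⟨w₀, hw₀⟩ := hS π₁ hπ₁.1 π
      have hw₀' : ArtFun.HomSet.map π₁ w₀ = π := hw₀
      have hw₀'' : ∀ s, π₁ (w₀.1 s) = π.1 s := fun s =>
        congrArg (fun f : ArtFun.HomSet S.carrier S.res R => f.1 s) hw₀'
      by_cases hws : Function.Surjective w₀.1
      · have hmK : IsLocalRing.maximalIdeal S.carrier * RingHom.ker π.1 ≤ RingHom.ker w₀.1 := by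
          rw [Ideal.mul_le]
          intro s hs t ht
          rw [RingHom.mem_ker, map_mul]
          have h3 : w₀.1 s * w₀.1 t ∈
              IsLocalRing.maximalIdeal (R₁ : Type u) * RingHom.ker π₁.toAlgHom := by
            apply Ideal.mul_mem_mul ((Groth.Agent.Lib.helper17.Schl.homSet_mem_max w₀ s).2 hs)
            rw [RingHom.mem_ker]
            have : π₁ (w₀.1 t) = 0 := by rw [hw₀'']; exact ht
            exact this
          rw [hπ₁.2.2.2] at h3
          exact h3
        have hle := hmin R₁ w₀ hws hmK π₁ hw₀' a₁ ha₁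
        obtain ⟨f₀, hf₀⟩ := Groth.Agent.Lib.helper17.Schl.exists_fac st'.π st'.surj w₀ hle
        refine ⟨f₀, Groth.Agent.Lib.helper17.Schl.fac_unique st'.π st'.surj _ _ ?_⟩
        rw [Groth.Agent.Lib.helper17.Schl.hmap_comp, hf₀, hw₀', hq1]
      · obtain ⟨n, hn⟩ := Groth.Agent.S12250.exists_mpow_le_ker S R₁ w₀
        let g : S.trunc n ⟶ R₁ := Groth.Agent.S12250.fac S w₀ n hn
        have hg : ArtFun.HomSet.map g (S.truncHom n) = w₀ := Groth.Agent.S12250.map_fac S w₀ n hn
        have hg' : ∀ s, g ((S.truncHom n).1 s) = w₀.1 s := fun s =>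
          congrArg (fun f : ArtFun.HomSet S.carrier S.res R₁ => f.1 s) hg
        have hgns : ¬ Function.Surjective g := by
          intro hgs
          apply hws
          intro b
          obtain ⟨x, rfl⟩ := hgs b
          obtain ⟨s, rfl⟩ := Ideal.Quotient.mk_surjective x
          exact ⟨s, (hg' s).symm⟩
        have hgp : Function.Surjective (g ≫ π₁) := by
          intro r
          obtain ⟨s, rfl⟩ := hπs r
          refine ⟨(S.truncHom n).1 s, ?_⟩
          change π₁ (g ((S.truncHom n).1 s)) = _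
          rw [hg', hw₀'']
        obtain ⟨sec, hsec⟩ := (Groth.Agent.S12713.result π₁ hπ₁).1 ⟨S.trunc n, g, hgp, hgns⟩
        exact ⟨q ≫ sec, by rw [Category.assoc, hsec, Category.comp_id]⟩
    obtain ⟨f₀, hf₀⟩ := hf₀
    -- adjust by a tangent vector
    obtain ⟨Q, q1, q2, σ, s, hQ, hσ, hs1, hs2, hs3⟩ := exists_sigma π₁ hπ₁
    obtain ⟨z, hz1, hz2⟩ := exists_of_cmp_surjective hσ (h1 q1 σ π₁ π₁ hσ hπ₁.1)
      (F.map f₀ st'.ξ) a₁ (by rw [← map_comp_apply, hf₀, hq2, ha₁])
    obtain ⟨φ, hφ⟩ := hvers (ArtFun.Art.dual Λ k) isSmallExt_toBase_dual (F.map q2 z)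
    obtain ⟨l, hl1, hl2⟩ := Groth.Agent.S12727.exists_lift_hom hQ f₀ (q ≫ φ)
      (by rw [ArtFun.Art.eq_toBase (f₀ ≫ _), ArtFun.Art.eq_toBase ((q ≫ φ) ≫ _)])
    have hz' : F.map l st'.ξ = z := by
      apply eq_of_cmp_injective hQ (h2 q1 q2 hQ).1
      · rw [← map_comp_apply, hl1, hz1]
      · rw [← map_comp_apply, hl2, map_comp_apply, hq2, hφ]
    refine ⟨l ≫ σ, ?_, ?_⟩
    · rw [Category.assoc, ← hσ.w, ← Category.assoc, hl1, hf₀]
    · rw [map_comp_apply, hz', hz2]

end Groth.Agent.S12321
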