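import Groth.Statements.S15131
import Groth.Agent.Lib.Helper17.ArtAct
import Mathlib

set_option autoImplicit false
universe u v
open CategoryTheory
open ArtFun

namespace Groth.Agent.S15131
open Groth.Agent.Lib.helper17.ArtAct

/-- Let k be a field and F a functor on local Artinian k-algebras with residue field k with F(k) a
single point, satisfying (H1) (the comparison map of A₁ ×_A A₂ is surjective when A₂ → A is a small
extension) and (H2) (it is bijective when A = k and A₂ = k[ε]). If the tangent space F(k[ε]) is a
single point then F is the one-point functor: every F(A) has exactly one element. (The converse is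
clear.) -/
theorem result
    {k : Type u} [Field k] (F : ArtFun.Art k k ⥤ Type v)
    (h0 : ArtFun.H0 F) (h1 : ArtFun.Hbar F) (h2 : ArtFun.Heps F)
    (ht : Subsingleton (ArtFun.TangentSpace F)) (A : ArtFun.Art k k) :
    Nonempty (F.obj A) ∧ Subsingleton (F.obj A) := by
  classical
  haveI : Subsingleton (F.obj (ArtFun.Art.dual k k)) := ht
  constructor
  · obtain ⟨pt⟩ := h0.1
    let ob : ArtFun.Art.base k k ⟶ A := ⟨Algebra.ofId k A, AlgHom.ext fun c => A.res.commutes c⟩
    exact ⟨F.map ob pt⟩
  · have key : Subsingleton (F.obj (ArtFun.Art.base k k)) → Subsingleton (F.obj A) := by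
      refine Groth.Agent.S12707.result
        (fun A B μ => Subsingleton (F.obj A) → Subsingleton (F.obj B)) ?_ ?_ ?_
        (ArtFun.Art.toBase A) A.res_surjective
      · intro A B e he hA
        constructor
        intro y₁ y₂
        have h1 : F.map e y₁ = F.map e y₂ := Subsingleton.elim _ _
        have h2 := congrArg (F.map (inv e)) h1
        rwa [← map_comp_apply, ← map_comp_apply, IsIso.hom_inv_id, map_id_apply, map_id_apply] at h2
      · intro A B μ hμ hA
        constructor
        intro y₁ y₂
        have hμy : F.map μ y₁ = F.map μ y₂ := Subsingleton.elim _ _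
        obtain ⟨Q, q1, q2, σ, s, hQ, hσ, hs1, hs2, hs3⟩ := exists_sigma μ hμ
        obtain ⟨z, hz1, hz2⟩ := exists_of_cmp_surjective hσ (h1 q1 σ μ μ hσ hμ) y₁ y₂ hμy
        have hz : z = F.map s y₁ := by
          apply eq_of_cmp_injective hQ (h2 q1 q2 hQ).1
          · rw [hz1, ← map_comp_apply, hs1, map_id_apply]
          · exact Subsingleton.elim _ _
        rw [← hz2, hz, ← map_comp_apply, hs2, map_id_apply]
      · intro A B C p q hp hq hA
        exact hp (hq hA)
    exact key h0.2

end Groth.Agent.S15131
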