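import Groth.Statements.S1238
import Groth.Agent.Lib.Helper26.WeakAssFin3

set_option linter.style.haveILetI false

set_option autoImplicit false
universe u
open FlatMor

namespace Groth.Agent.S1238

/-- Ring form, X = Spec S, S = Spec R affine: let R be a ring with finitely many weakly associated
primes and S a finite type R-algebra. Then the set of primes q of S with S_q flat over R is open in
Spec S, and every such q has a basic open neighbourhood D(g) with S_g flat and of finite
presentation over R. -/
theorem result {R S : Type u} [CommRing R] [CommRing S] [Algebra R S] [Algebra.FiniteType R S]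
    (hR : (FlatCA.weakAss R R).Finite) :
    IsOpen {q : PrimeSpectrum S | Module.Flat R (Localization.AtPrime q.asIdeal)} ∧
    ∀ (q : Ideal S) [q.IsPrime], Module.Flat R (Localization.AtPrime q) → ∃ g : S, g ∉ q ∧
      Algebra.FinitePresentation R (Localization.Away g) ∧ Module.Flat R (Localization.Away g) := by
  refine ⟨?_, fun q _ hq =>
    Groth.Agent.Lib.helper26.WeakAssFin.exists_fp_flat_away_alg hR q hq⟩
  rw [isOpen_iff_forall_mem_open]
  intro q hq
  obtain ⟨g, hgq, -, hflatg⟩ :=
    Groth.Agent.Lib.helper26.WeakAssFin.exists_fp_flat_away_alg hR q.asIdeal hq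
  refine ⟨PrimeSpectrum.basicOpen g, ?_, (PrimeSpectrum.basicOpen g).isOpen, hgq⟩
  intro q₂ hq₂
  have hflatg' : Module.Flat R (LocalizedModule (Submonoid.powers g) S) := hflatg
  exact (Groth.Agent.Lib.helper3.FlatAtLib.flat_away_iff (R := R) (N := S) g).mp hflatg'
    q₂.asIdeal hq₂

end Groth.Agent.S1238
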