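import Groth.Statements.S1241
import Groth.Agent.Lib.Helper26.FibCov10
import Groth.Agent.Lib.Helper26.RGProj1
import Groth.Agent.S1202

set_option linter.style.haveILetI false

set_option autoImplicit false
universe u
open FlatMor

namespace Groth.Agent.S1241

open TensorProduct in
/-- Ring form, X = Spec S and S = Spec R affine: let S be a finitely presented R-algebra, N a finitely
presented S-module and p a prime of R such that N_q is flat over R for every prime q of S over p.
Then there are an étale R-algebra R' with a prime p' over p having the same residue field, and an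
étale S-algebra S' with a compatible R'-algebra structure, such that every prime of S over p is the
contraction of a prime of S' and S' ⊗_S N is a projective R'-module. -/
theorem result {R S : Type u} [CommRing R] [CommRing S] [Algebra R S] [Algebra.FinitePresentation R S]
    (N : Type u) [AddCommGroup N] [Module S N] [Module R N] [IsScalarTower R S N] [Module.FinitePresentation S N]
    (p : Ideal R) [p.IsPrime] (hflat : ∀ (q : Ideal S) [q.IsPrime], q.LiesOver p → FlatCA.FlatAt R q N) :
    ∃ (R' S' : Type u) (_ : CommRing R') (_ : CommRing S') (_ : Algebra R R') (_ : Algebra S S') (_ : Algebra R' S')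
      (_ : Algebra R S') (_ : IsScalarTower R R' S') (_ : IsScalarTower R S S')
      (p' : Ideal R') (_ : p'.IsPrime),
      FlatCA.IsEtaleNhd R R' p p' ∧ Algebra.Etale S S' ∧
      (∀ (q : Ideal S) [q.IsPrime], q.LiesOver p → ∃ q' : Ideal S', q'.IsPrime ∧ q'.comap (algebraMap S S') = q) ∧
      Module.Projective R' (RestrictScalars R' S' (S' ⊗[S] N)) := by
  classical
  have hlocal : ∀ q : {q : PrimeSpectrum S // q.asIdeal.LiesOver p},
      Groth.Agent.Lib.helper26.RGProj.ProjConcl R S N p q.1.asIdeal := fun q => by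
    haveI := q.2
    exact Groth.Agent.S1202.result N p q.1.asIdeal (hflat q.1.asIdeal q.2)
  unfold Groth.Agent.Lib.helper26.RGProj.ProjConcl at hlocal
  choose R' S' cR' cS' aRR' aSS' aR'S' aRS' tw1 tw2 p' q' hp' hq' hEtR hEtS hq'p' hproj
    using hlocal
  have hUex : ∀ q : {q : PrimeSpectrum S // q.asIdeal.LiesOver p},
      ∃ U : Set (PrimeSpectrum S), IsOpen U ∧ q.1 ∈ U ∧
        ∀ (q₂ : Ideal S) [hq₂ : q₂.IsPrime], q₂.LiesOver p →
          (⟨q₂, hq₂⟩ : PrimeSpectrum S) ∈ U →
          ∃ (y : Ideal (S' q)) (_ : y.IsPrime), y.LiesOver q₂ ∧ y.LiesOver (p' q) := fun q => by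
    haveI := hq'p' q
    exact Groth.Agent.Lib.helper26.FibCov.exists_open_hit p q.1.asIdeal (p' q) (q' q) (hEtR q)
      (hEtS q)
  choose U hUopen hUmem hUhit using hUex
  let U' : PrimeSpectrum S → Set (PrimeSpectrum S) := fun q =>
    if h : q.asIdeal.LiesOver p then U ⟨q, h⟩ else Set.univ
  obtain ⟨T, hTover, hTcover⟩ := Groth.Agent.Lib.helper26.FibCov.exists_finite_subcover p U'
    (fun q hq => by
      simp only [U', dif_pos hq]
      exact ⟨hUopen _, hUmem _⟩)
  let j : ↥T → {q : PrimeSpectrum S // q.asIdeal.LiesOver p} :=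
    fun t => ⟨t.1, hTover t.1 t.2⟩
  obtain ⟨R'', cR'', aRR'', p'', hp'', hEt'', hφ⟩ :=
    Groth.Agent.Lib.helper26.FibCov.exists_common_refinement p (fun t : ↥T => R' (j t))
      (fun t => p' (j t)) (fun t => hEtR (j t)) Finset.univ
  choose φ hφc using (fun t : ↥T => hφ t (Finset.mem_univ t))
  have hW := fun t : ↥T =>
    haveI : Algebra.Etale S (S' (j t)) := (hEtS (j t)).1
    Groth.Agent.Lib.helper26.FibCov.exists_refined_projective N p (p' (j t)) (hEtR (j t))
      (hproj (j t)) R'' p'' hEt'' (φ t) (hφc t)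
  choose W cW aR''W aSW aRW twRR''W twRSW hW using hW
  haveI : ∀ t, Algebra.Etale S (W t) := fun t => (hW t).1
  refine ⟨R'', ∀ t, W t, cR'', inferInstance, aRR'', inferInstance, inferInstance, inferInstance,
    inferInstance, inferInstance, p'', hp'', hEt'', inferInstance, ?_, ?_⟩
  · intro q hq hqp
    obtain ⟨q₀, hq₀T, hq₀⟩ := hTcover ⟨q, hq⟩ hqp
    have hq₀p := hTover q₀ hq₀T
    simp only [U', dif_pos hq₀p] at hq₀
    obtain ⟨y, hy, hyq, hyp'⟩ := hUhit ⟨q₀, hq₀p⟩ q hqp hq₀
    obtain ⟨x, hxprime, hx⟩ := (hW ⟨q₀, hq₀T⟩).2.1 y hyp'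
    refine ⟨x.comap (Pi.evalRingHom W ⟨q₀, hq₀T⟩), Ideal.comap_isPrime _ _, ?_⟩
    have h1 : (x.comap (Pi.evalRingHom W ⟨q₀, hq₀T⟩)).comap (algebraMap S (∀ t, W t)) =
        x.comap (algebraMap S (W ⟨q₀, hq₀T⟩)) := Ideal.ext fun s => Iff.rfl
    rw [h1, hx]
    exact hyq.over.symm
  · exact Groth.Agent.Lib.helper26.FibCov.projective_pi_tensor N W fun t => (hW t).2.2

end Groth.Agent.S1241
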