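import Groth.Statements.S12417
import Mathlib

set_option autoImplicit false
universe u
open CategoryTheory AlgebraicGeometry
open Props

namespace Groth.Agent.S12417

lemma exists_fin_affine_cover {X : Scheme.{u}} (U : X.Opens) (hU : IsCompact (U : Set X)) :
    ∃ (n : ℕ) (V : Fin n → X.Opens), (∀ i, IsAffineOpen (V i)) ∧ ⨆ i, V i = U := by
  obtain ⟨s, hs, hU'⟩ := isCompact_iff_finite_and_eq_biUnion_affineOpens.mp hU
  let e := hs.toFinset.equivFin
  refine ⟨hs.toFinset.card, fun i => ((e.symm i).1 : X.affineOpens).1,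
    fun i => ((e.symm i).1 : X.affineOpens).2, ?_⟩
  rw [hU']
  apply le_antisymm
  · refine iSup_le (fun i => ?_)
    have hmem : ((e.symm i).1 : X.affineOpens) ∈ s := hs.mem_toFinset.mp (e.symm i).2
    exact le_iSup₂_of_le ((e.symm i).1 : X.affineOpens) hmem le_rfl
  · refine iSup₂_le (fun W hW => ?_)
    refine le_iSup_of_le (e ⟨W, hs.mem_toFinset.mpr hW⟩) ?_
    show (W : X.Opens) ≤ ((e.symm (e ⟨W, hs.mem_toFinset.mpr hW⟩)).1 : X.affineOpens).1
    rw [Equiv.symm_apply_apply]

/-- Let X be a quasi-compact quasi-separated scheme and P a property of opens of X such that (a) P holds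
for every affine open, and (b) whenever a quasi-compact open U has a finite affine open covering U =
V_1 ∪ … ∪ V_n with P holding for every intersection V_i ∩ V_j, P holds for U. Then P holds for every
quasi-compact open of X. -/
theorem result (X : Scheme.{u}) [CompactSpace X] [QuasiSeparatedSpace X]
    (P : X.Opens → Prop) (ha : ∀ U : X.Opens, IsAffineOpen U → P U)
    (hb : ∀ (U : X.Opens) (n : ℕ) (V : Fin n → X.Opens), IsCompact (U : Set X) →
      (∀ i, IsAffineOpen (V i)) → ⨆ i, V i = U → (∀ i j, P (V i ⊓ V j)) → P U)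
    (U : X.Opens) (hU : IsCompact (U : Set X)) : P U := by
  obtain ⟨n, V, hV, hVU⟩ := exists_fin_affine_cover U hU
  refine hb U n V hU hV hVU (fun i j => ?_)
  have hc : IsCompact ((V i ⊓ V j : X.Opens) : Set X) :=
    QuasiSeparatedSpace.inter_isCompact _ _ (V i).isOpen (hV i).isCompact (V j).isOpen
      (hV j).isCompact
  obtain ⟨m, W, hW, hWU⟩ := exists_fin_affine_cover (V i ⊓ V j) hc
  refine hb _ m W hc hW hWU (fun l l' => ha _ ?_)
  have hle : ∀ l, W l ≤ V i := fun l => (le_iSup W l).trans (hWU.le.trans inf_le_left)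
  have haff : IsAffineHom (Limits.pullback.diagonal (𝟙 X)) := inferInstance
  exact (isAffineHom_diagonal_iff (f := 𝟙 X)).mp haff (V i) (hV i) (W l) (hle l) (W l') (hle l')
    (hW l) (hW l')

end Groth.Agent.S12417
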