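import Groth.Statements.S12418
import Mathlib
-- import your own Groth.Agent.* helpers here

set_option autoImplicit false
universe u
open CAlg

namespace Groth.Agent.S12418

lemma mem_colon_iff {R : Type u} [CommRing R] (b x r : R) :
    r ∈ Submodule.colon (Ideal.span {b}) ((Ideal.span ({x} : Set R) : Ideal R) : Set R) ↔
      r * x ∈ Ideal.span {b} := by
  rw [Submodule.mem_colon]
  constructor
  · intro h
    exact h x (Ideal.subset_span rfl)
  · intro h y hy
    obtain ⟨c, rfl⟩ := Ideal.mem_span_singleton'.1 hy
    rw [smul_eq_mul]
    have : r * (c * x) = c * (r * x) := by ring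
    rw [this]
    exact Ideal.mul_mem_left _ _ h

/-- Let R be a Noetherian ring and b ∈ R; for x outside the ideal (b) put I_x = ((b) : x), the ideal of
r with r x ∈ (b). If s ∉ (b) and I_s is maximal among the I_x (x ∉ (b)), then I_s is prime. -/
theorem result {R : Type u} [CommRing R] [IsNoetherianRing R]
    (b s : R) (hs : s ∉ Ideal.span {b})
    (hmax : ∀ x : R, x ∉ Ideal.span {b} →
      Submodule.colon (Ideal.span {b}) (Ideal.span {s}) ≤ Submodule.colon (Ideal.span {b}) (Ideal.span {x}) →
      Submodule.colon (Ideal.span {b}) (Ideal.span {x}) = Submodule.colon (Ideal.span {b}) (Ideal.span {s})) :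
    (Submodule.colon (Ideal.span {b}) (Ideal.span ({s} : Set R))).IsPrime := by
  refine ⟨?_, ?_⟩
  · intro htop
    have : (1 : R) ∈ Submodule.colon (Ideal.span {b}) ((Ideal.span ({s} : Set R) : Ideal R) : Set R) := by
      rw [htop]; trivial
    rw [mem_colon_iff, one_mul] at this
    exact hs this
  · intro r t hrt
    rw [mem_colon_iff] at hrt
    by_cases ht : t ∈ Submodule.colon (Ideal.span {b}) ((Ideal.span ({s} : Set R) : Ideal R) : Set R)
    · exact Or.inr ht
    · left
      have hts : t * s ∉ Ideal.span {b} := by rwa [mem_colon_iff] at ht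
      have hle : Submodule.colon (Ideal.span {b}) ((Ideal.span ({s} : Set R) : Ideal R) : Set R) ≤
          Submodule.colon (Ideal.span {b}) ((Ideal.span ({t * s} : Set R) : Ideal R) : Set R) := by
        intro a ha
        rw [mem_colon_iff] at ha ⊢
        have : a * (t * s) = t * (a * s) := by ring
        rw [this]
        exact Ideal.mul_mem_left _ _ ha
      have heq := hmax (t * s) hts hle
      rw [← heq, mem_colon_iff]
      have : r * (t * s) = r * t * s := by ring
      rw [this]
      exact hrt

end Groth.Agent.S12418
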