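import Groth.Statements.S12419
import Mathlib
import Groth.Agent.S4852

set_option autoImplicit false
universe u
open TensorProduct
open CAlg

namespace Groth.Agent.S12419

open Function Groth.Agent.Lib.helper8.LocalFlat
section
variable {A : Type u} [CommRing A] (X : Type u) [AddCommGroup X] [Module A X]

/-- (T1) -/
theorem flat_quot_of_le {𝔞 𝔠 : Ideal A} (h : 𝔞 ≤ 𝔠)
    [Module.Flat (A ⧸ 𝔞) ((A ⧸ 𝔞) ⊗[A] X)] : Module.Flat (A ⧸ 𝔠) ((A ⧸ 𝔠) ⊗[A] X) := by
  letI : Algebra (A ⧸ 𝔞) (A ⧸ 𝔠) := (Ideal.Quotient.factor h).toAlgebra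
  haveI : IsScalarTower A (A ⧸ 𝔞) (A ⧸ 𝔠) := IsScalarTower.of_algebraMap_eq (fun x => rfl)
  exact Module.Flat.of_linearEquiv
    (AlgebraTensorModule.cancelBaseChange A (A ⧸ 𝔞) (A ⧸ 𝔠) (A ⧸ 𝔠) X).symm

/-- (T2) -/
theorem flat_quot_comap (A' : Type u) [CommRing A'] [Algebra A A'] (𝔟 : Ideal A')
    [Module.Flat A' (A' ⊗[A] X)] :
    Module.Flat (A' ⧸ 𝔟) ((A' ⧸ 𝔟) ⊗[A ⧸ 𝔟.comap (algebraMap A A')]
      ((A ⧸ 𝔟.comap (algebraMap A A')) ⊗[A] X)) := by
  haveI : IsScalarTower A (A ⧸ 𝔟.comap (algebraMap A A')) (A' ⧸ 𝔟) :=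
    IsScalarTower.of_algebraMap_eq (fun x => rfl)
  let e2 := AlgebraTensorModule.cancelBaseChange A (A ⧸ 𝔟.comap (algebraMap A A'))
    (A' ⧸ 𝔟) (A' ⧸ 𝔟) X
  let e3 := AlgebraTensorModule.cancelBaseChange A A' (A' ⧸ 𝔟) (A' ⧸ 𝔟) X
  exact Module.Flat.of_linearEquiv (e2 ≪≫ₗ e3.symm)

end




/-- Let A → B be a local homomorphism of Noetherian local rings, m the maximal ideal of A, and φ : A →
A' a ring homomorphism to a semi-local Noetherian ring A' with Jacobson radical r', such that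
φ⁻¹(r') = m and such that every power m^n contains φ⁻¹(r'^N) for some N. Then B is flat over A if
and only if A' ⊗_A B is flat over A'. (Given φ⁻¹(r') = m, the condition on powers says that the
m-adic topology of A is induced by the r'-adic topology of A', equivalently that the induced
homomorphism of adic completions is injective, which is how the published statement phrases this
hypothesis.) -/
theorem result (A B A' : Type u) [CommRing A] [CommRing B]
    [CommRing A'] [IsNoetherianRing A] [IsLocalRing A] [IsNoetherianRing B] [IsLocalRing B]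
    [Algebra A B] [IsLocalHom (algebraMap A B)] [IsNoetherianRing A'] [Finite (MaximalSpectrum A')]
    [Algebra A A']
    (hrad : (Ideal.jacobson (⊥ : Ideal A')).comap (algebraMap A A') = IsLocalRing.maximalIdeal A)
    (htop : ∀ n : ℕ, ∃ N : ℕ,
      ((Ideal.jacobson (⊥ : Ideal A')) ^ N).comap (algebraMap A A') ≤ (IsLocalRing.maximalIdeal A) ^ n) :
    Module.Flat A B ↔ Module.Flat A' (A' ⊗[A] B) := by
  constructor
  · intro h; infer_instance
  · intro h
    have hI : (IsLocalRing.maximalIdeal A).map (algebraMap A B) ≤ Ideal.jacobson ⊥ := by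
      rw [IsLocalRing.jacobson_eq_maximalIdeal ⊥ bot_ne_top]
      exact IsLocalRing.map_maximalIdeal_le (algebraMap A B)
    apply flat_of_forall_flat_quotient_pow (R := A) (S := B) (M := B)
      (IsLocalRing.maximalIdeal A) hI
    intro k hk
    obtain ⟨N, hN⟩ := htop k
    have h𝔞k : ((Ideal.jacobson (⊥ : Ideal A')) ^ (N + 1)).comap (algebraMap A A') ≤
        IsLocalRing.maximalIdeal A ^ k :=
      (Ideal.comap_mono (Ideal.pow_le_pow_right (Nat.le_succ N))).trans hN
    have h𝔞m : ((Ideal.jacobson (⊥ : Ideal A')) ^ (N + 1)).comap (algebraMap A A') ≤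
        IsLocalRing.maximalIdeal A := by
      rw [← hrad]; exact Ideal.comap_mono (Ideal.pow_le_self (Nat.succ_ne_zero N))
    have hmN : IsLocalRing.maximalIdeal A ^ (N + 1) ≤
        ((Ideal.jacobson (⊥ : Ideal A')) ^ (N + 1)).comap (algebraMap A A') := by
      rw [← Ideal.map_le_iff_le_comap, Ideal.map_pow]
      exact Ideal.pow_right_mono (by rw [Ideal.map_le_iff_le_comap, hrad]) _
    haveI : Nontrivial (A ⧸ ((Ideal.jacobson (⊥ : Ideal A')) ^ (N + 1)).comap (algebraMap A A')) :=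
      Ideal.Quotient.nontrivial_iff.mpr
        (ne_top_of_le_ne_top (IsLocalRing.maximalIdeal.isMaximal A).ne_top h𝔞m)
    haveI : IsLocalRing (A ⧸ ((Ideal.jacobson (⊥ : Ideal A')) ^ (N + 1)).comap (algebraMap A A')) :=
      IsLocalRing.of_surjective' (Ideal.Quotient.mk _) Ideal.Quotient.mk_surjective
    have hnil : IsNilpotent
        (Ring.jacobson (A ⧸ ((Ideal.jacobson (⊥ : Ideal A')) ^ (N + 1)).comap (algebraMap A A'))) := by
      rw [IsLocalRing.ringJacobson_eq_maximalIdeal]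
      refine ⟨N + 1, ?_⟩
      have h1 : IsLocalRing.maximalIdeal
          (A ⧸ ((Ideal.jacobson (⊥ : Ideal A')) ^ (N + 1)).comap (algebraMap A A')) ≤
          (IsLocalRing.maximalIdeal A).map (Ideal.Quotient.mk _) := by
        intro y hy
        obtain ⟨x, rfl⟩ := Ideal.Quotient.mk_surjective y
        apply Ideal.mem_map_of_mem
        rw [IsLocalRing.mem_maximalIdeal, mem_nonunits_iff] at hy ⊢
        exact fun hx => hy (hx.map _)
      rw [Ideal.zero_eq_bot, eq_bot_iff]
      refine (Ideal.pow_right_mono h1 _).trans ?_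
      rw [← Ideal.map_pow]
      refine (Ideal.map_mono hmN).trans ?_
      rw [Ideal.map_quotient_self]
    haveI : Module.Flat (A' ⧸ (Ideal.jacobson (⊥ : Ideal A')) ^ (N + 1))
        ((A' ⧸ (Ideal.jacobson (⊥ : Ideal A')) ^ (N + 1))
          ⊗[A ⧸ ((Ideal.jacobson (⊥ : Ideal A')) ^ (N + 1)).comap (algebraMap A A')]
          ((A ⧸ ((Ideal.jacobson (⊥ : Ideal A')) ^ (N + 1)).comap (algebraMap A A')) ⊗[A] B)) :=
      flat_quot_comap B A' _
    have hflat1 : Module.Flat (A ⧸ ((Ideal.jacobson (⊥ : Ideal A')) ^ (N + 1)).comap (algebraMap A A'))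
        ((A ⧸ ((Ideal.jacobson (⊥ : Ideal A')) ^ (N + 1)).comap (algebraMap A A')) ⊗[A] B) :=
      (Groth.Agent.S4852.result
        (A := A ⧸ ((Ideal.jacobson (⊥ : Ideal A')) ^ (N + 1)).comap (algebraMap A A')) hnil
        (ι := PUnit.{u+1}) (fun _ => A' ⧸ (Ideal.jacobson (⊥ : Ideal A')) ^ (N + 1))
        (fun a ha => Ideal.algebraMap_quotient_injective ((ha PUnit.unit).trans (map_zero _).symm))
        ((A ⧸ ((Ideal.jacobson (⊥ : Ideal A')) ^ (N + 1)).comap (algebraMap A A')) ⊗[A] B)).mpr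
        (fun _ => inferInstance)
    haveI := hflat1
    exact flat_quot_of_le B h𝔞k

end Groth.Agent.S12419
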