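import Groth.Statements.S1242
import Groth.Agent.Lib.Helper26.RGFlat4

set_option linter.style.haveILetI false

set_option autoImplicit false
universe u
open FlatMor

namespace Groth.Agent.S1242

open TensorProduct in
/-- Ring form, X = Spec S and S = Spec R affine: let S be a finitely presented R-algebra, N a finite
S-module and q a prime of S over p with N_q flat over R. Then there is an étale R-algebra R' with a
prime p' over p having the same residue field such that, writing A for the local ring of R' at p'
and S_A, N_A for the base changes (any models): there is an étale S_A-algebra C, finitely presented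
over A, with a prime over q whose residue field equals that of q, such that C ⊗ N_A is a finitely
presented C-module and a free A-module. -/
theorem result {R S : Type u} [CommRing R] [CommRing S] [Algebra R S] [Algebra.FinitePresentation R S]
    (N : Type u) [AddCommGroup N] [Module S N] [Module R N] [IsScalarTower R S N] [Module.Finite S N]
    (p : Ideal R) [p.IsPrime] (q : Ideal S) [q.IsPrime] [q.LiesOver p] (hflat : FlatCA.FlatAt R q N) :
    ∃ (R' : Type u) (_ : CommRing R') (_ : Algebra R R') (p' : Ideal R') (_ : p'.IsPrime), FlatCA.IsEtaleNhd R R' p p' ∧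
      ∀ (SA NA : Type u) [CommRing SA] [Algebra R SA] [Algebra S SA] [Algebra (Localization.AtPrime p') SA]
        [IsScalarTower R S SA] [IsScalarTower R (Localization.AtPrime p') SA]
        [Algebra.IsPushout R S (Localization.AtPrime p') SA]
        [AddCommGroup NA] [Module SA NA] [Module S NA] [IsScalarTower S SA NA]
        (f : N →ₗ[S] NA), IsBaseChange SA f →
        ∃ (C : Type u) (_ : CommRing C) (_ : Algebra SA C) (_ : Algebra (Localization.AtPrime p') C)
          (_ : IsScalarTower (Localization.AtPrime p') SA C) (_ : Algebra S C) (_ : IsScalarTower S SA C)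
          (x' : Ideal C) (_ : x'.IsPrime) (hx : x'.LiesOver q),
          Algebra.Etale SA C ∧ Algebra.FinitePresentation (Localization.AtPrime p') C ∧
          Function.Bijective (Ideal.ResidueField.mapₐ q x' (Algebra.ofId S C) hx.over) ∧
          Module.FinitePresentation C (C ⊗[SA] NA) ∧
          Module.Free (Localization.AtPrime p') (RestrictScalars (Localization.AtPrime p') C (C ⊗[SA] NA)) := by
  haveI : Algebra.FiniteType R S := inferInstance
  obtain ⟨R', S', _, _, algRR', algSS', algR'S', algRS', twRR'S', twRSS', p', q', hp', hq', hEtR,
    hEtS, hq'p', hcore⟩ := Groth.Agent.Lib.helper26.RGFlat.core N p q hflat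
  refine ⟨R', inferInstance, algRR', p', hp', hEtR, ?_⟩
  intro SA NA _ _ _ _ _ _ _ _ _ _ _ f hf
  obtain ⟨C, _, algSAC, algAC, twASAC, algSC, twSSAC, hEtC, hfp, hfree,
    ⟨x', hx'prime, hx'q, hx'𝔪, hb⟩, -⟩ :=
    Groth.Agent.Lib.helper26.RGFlat.exists_open_data N p q p' q' hEtR hEtS hcore SA NA f hf
  haveI := hEtC
  haveI : Algebra.IsPushout R (Localization.AtPrime p') S SA := Algebra.IsPushout.symm inferInstance
  haveI : Algebra.FinitePresentation (Localization.AtPrime p') SA :=
    Algebra.FinitePresentation.equiv (Algebra.IsPushout.equiv R (Localization.AtPrime p') S SA)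
  haveI : Algebra.FinitePresentation SA C := inferInstance
  have hfpC : Algebra.FinitePresentation (Localization.AtPrime p') C :=
    Algebra.FinitePresentation.trans (Localization.AtPrime p') SA C
  refine ⟨C, inferInstance, algSAC, algAC, twASAC, algSC, twSSAC, x', hx'prime, hx'q, hEtC, hfpC,
    hb, hfp, ?_⟩
  let e : (C ⊗[SA] NA) ≃ₗ[Localization.AtPrime p']
      RestrictScalars (Localization.AtPrime p') C (C ⊗[SA] NA) :=
    { (RestrictScalars.addEquiv (Localization.AtPrime p') C (C ⊗[SA] NA)).symm with
      map_smul' := fun a x => by
        show (RestrictScalars.addEquiv (Localization.AtPrime p') C (C ⊗[SA] NA)).symm (a • x) =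
          a • (RestrictScalars.addEquiv (Localization.AtPrime p') C (C ⊗[SA] NA)).symm x
        rw [RestrictScalars.smul_def, AddEquiv.apply_symm_apply, algebraMap_smul] }
  exact Module.Free.of_equiv e

end Groth.Agent.S1242
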