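import Groth.Statements.S12421
import Mathlib

set_option autoImplicit false
universe u
open TensorProduct
open Desc

namespace Groth.Agent.S12421

section
variable (R B : Type u) [CommRing R] [CommRing B] [Algebra R B]

/-- multiplication of the first two factors: `b ⊗ (a ⊗ n) ↦ (b a) ⊗ n` -/
noncomputable def contr (N : Type u) [AddCommGroup N] [Module R N] : B ⊗[R] (B ⊗[R] N) →ₗ[R] B ⊗[R] N :=
  (LinearMap.mul' R B).rTensor N ∘ₗ (TensorProduct.assoc R B B N).symm.toLinearMap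

@[simp] theorem contr_tmul (N : Type u) [AddCommGroup N] [Module R N] (b a : B) (n : N) :
    contr R B N (b ⊗ₜ (a ⊗ₜ n)) = (b * a) ⊗ₜ n := by
  simp [contr]

/-- `b ⊗ (m ⊗ (r ⊗ n)) ↦ (b r) ⊗ (m ⊗ n)` -/
noncomputable def hh (M N : Type u) [AddCommGroup M] [Module R M] [AddCommGroup N] [Module R N] :
    B ⊗[R] (M ⊗[R] (B ⊗[R] N)) →ₗ[R] B ⊗[R] (M ⊗[R] N) :=
  contr R B (M ⊗[R] N) ∘ₗ LinearMap.lTensor B (TensorProduct.leftComm R M B N).toLinearMap

@[simp] theorem hh_tmul (M N : Type u) [AddCommGroup M] [Module R M] [AddCommGroup N] [Module R N]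
    (b r : B) (m : M) (n : N) :
    hh R B M N (b ⊗ₜ (m ⊗ₜ (r ⊗ₜ n))) = (b * r) ⊗ₜ (m ⊗ₜ n) := by
  simp [hh]

end


/-- Let R → R' be faithfully flat and M an R-module. With δ¹ : M ⊗ R' → M ⊗ (R' ⊗ R'), m ⊗ r ↦ m ⊗ (1 ⊗
r) − m ⊗ (r ⊗ 1), and δ² : M ⊗ (R' ⊗ R') → M ⊗ (R' ⊗ (R' ⊗ R')), m ⊗ x ↦ m ⊗ (1 ⊗ x) − m ⊗ (ins₁ x)
+ m ⊗ (ins₂ x), where ins₁ (r₁ ⊗ r₂) = r₁ ⊗ (1 ⊗ r₂) and ins₂ (r₁ ⊗ r₂) = r₁ ⊗ (r₂ ⊗ 1), the
sequence M ⊗ R' → M ⊗ R'^{⊗2} → M ⊗ R'^{⊗3} is exact: the kernel of δ² is the image of δ¹. (The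
published statement asserts exactness of the whole complex; this row states exactness at M ⊗ R′ ⊗ R′
only.) -/
theorem result (R R' : Type u) [CommRing R] [CommRing R'] [Algebra R R']
    [Module.FaithfullyFlat R R'] (M : Type u) [AddCommGroup M] [Module R M] :
    Function.Exact
      (LinearMap.lTensor M (Algebra.TensorProduct.includeRight : R' →ₐ[R] R' ⊗[R] R').toLinearMap -
        LinearMap.lTensor M
          (Algebra.TensorProduct.includeLeft : R' →ₐ[R] R' ⊗[R] R').toLinearMap)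
      (LinearMap.lTensor M
          (Algebra.TensorProduct.includeRight : R' ⊗[R] R' →ₐ[R] R' ⊗[R] (R' ⊗[R] R')).toLinearMap -
        LinearMap.lTensor M
          (Algebra.TensorProduct.map (AlgHom.id R R')
            (Algebra.TensorProduct.includeRight : R' →ₐ[R] R' ⊗[R] R')).toLinearMap +
        LinearMap.lTensor M
          (Algebra.TensorProduct.map (AlgHom.id R R')
            (Algebra.TensorProduct.includeLeft : R' →ₐ[R] R' ⊗[R] R')).toLinearMap) := by
  set d1 : M ⊗[R] R' →ₗ[R] M ⊗[R] (R' ⊗[R] R') :=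
    LinearMap.lTensor M (Algebra.TensorProduct.includeRight : R' →ₐ[R] R' ⊗[R] R').toLinearMap -
        LinearMap.lTensor M
          (Algebra.TensorProduct.includeLeft : R' →ₐ[R] R' ⊗[R] R').toLinearMap with hd1
  set d2 : M ⊗[R] (R' ⊗[R] R') →ₗ[R] M ⊗[R] (R' ⊗[R] (R' ⊗[R] R')) :=
    LinearMap.lTensor M
          (Algebra.TensorProduct.includeRight : R' ⊗[R] R' →ₐ[R] R' ⊗[R] (R' ⊗[R] R')).toLinearMap -
        LinearMap.lTensor M
          (Algebra.TensorProduct.map (AlgHom.id R R')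
            (Algebra.TensorProduct.includeRight : R' →ₐ[R] R' ⊗[R] R')).toLinearMap +
        LinearMap.lTensor M
          (Algebra.TensorProduct.map (AlgHom.id R R')
            (Algebra.TensorProduct.includeLeft : R' →ₐ[R] R' ⊗[R] R')).toLinearMap with hd2
  have hcomp : d2 ∘ₗ d1 = 0 := by
    ext m r
    simp [hd1, hd2]
  have hhom : hh R R' M (R' ⊗[R] R') ∘ₗ d2.lTensor R' + d1.lTensor R' ∘ₗ hh R R' M R' =
      LinearMap.id := by
    ext b m r₀ r₁
    simp [hd1, hd2]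
  have hex : Function.Exact (d1.lTensor R') (d2.lTensor R') := by
    intro y
    constructor
    · intro hy
      have := congrArg (fun f => f y) hhom
      simp only [LinearMap.add_apply, LinearMap.comp_apply, hy, map_zero, zero_add,
        LinearMap.id_apply] at this
      exact ⟨hh R R' M R' y, this⟩
    · rintro ⟨z, rfl⟩
      rw [← LinearMap.comp_apply, ← LinearMap.lTensor_comp, hcomp, LinearMap.lTensor_zero,
        LinearMap.zero_apply]
  exact Module.FaithfullyFlat.lTensor_reflects_exact R R' d1 d2 hex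

end Groth.Agent.S12421
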