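import Groth.Statements.S12423
import Mathlib
import Groth.Agent.S5022
import Groth.Agent.Lib.Helper17.ConormalRev
import Groth.Agent.Lib.Helper17.ConormalRank
import Groth.Agent.Lib.Helper17.RegSmoothSch
import Groth.Agent.Lib.Helper3.IrredDim
import Groth.Agent.Lib.Helper5.FlatLocalDimAdd
import Groth.Agent.Lib.Helper7.OmegaPush

set_option autoImplicit false
universe u
open CategoryTheory CategoryTheory.Limits AlgebraicGeometry
open NonsingVar

namespace Groth.Agent.S12423

open Groth.Agent.Lib.helper7 Groth.Agent.Lib.helper16.FLF Groth.Agent.Lib.helper17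

/-- over a locally Noetherian base, locally of finite type implies locally of finite presentation -/
theorem lfp_of_noeth {X Y : Scheme.{u}} (F : Y ⟶ X)
    [IsLocallyNoetherian X] [LocallyOfFiniteType F] : LocallyOfFinitePresentation F := by
  rw [HasRingHomProperty.iff_appLE (P := @LocallyOfFinitePresentation)]
  intro U V e
  have := IsLocallyNoetherian.component_noetherian U
  exact RingHom.FinitePresentation.of_finiteType.mp (F.finiteType_appLE U.2 V.2 e)

/-- over a perfect field: all local rings regular iff smooth -/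
theorem smooth_iff_regular (k : Type u) [Field k] [PerfectField k] {X : Scheme.{u}}
    (f : X ⟶ Spec (CommRingCat.of k)) [LocallyOfFinitePresentation f] :
    Smooth f ↔ ∀ x : X, IsRegularLocalRing (X.presheaf.stalk x) := by
  rw [← Scheme.Hom.smoothLocus_eq_top_iff]
  constructor
  · intro h x
    rw [← RegSmooth.mem_smoothLocus_iff_isRegularLocalRing_of_perfectField f x, h]
    trivial
  · intro h
    rw [← top_le_iff]
    rintro x -
    exact (RegSmooth.mem_smoothLocus_iff_isRegularLocalRing_of_perfectField f x).mpr (h x)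

/-- a monomorphism of modules is injective on sections -/
theorem app_injective_of_mono {X : Scheme.{u}} {F G : X.Modules} (φ : F ⟶ G) [Mono φ]
    (V : X.Opens) : Function.Injective (φ.app V).hom :=
  (KerSections.sections_leftExact (ShortComplex.mk φ (cokernel.π φ) (cokernel.condition φ))
    (ShortComplex.exact_of_g_is_cokernel _ (cokernelIsCokernel φ)) V).1

section Pair

variable {X Y Z : Scheme.{u}} (f : X ⟶ Z) (i : Y ⟶ X) [IsClosedImmersion i]
  {ΩX : X.Modules} (dX : OmegaSh.Der f ΩX) (hX : OmegaSh.IsUniversal dX)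
  {ΩY : Y.Modules} (dY : OmegaSh.Der (i ≫ f) ΩY) (hY : OmegaSh.IsUniversal dY)
  (φ : Omega.conormal i ⟶ (Scheme.Modules.pullback i).obj ΩX) (hφ : OmegaSh.IsConormalDiff i dX φ)

include hX hY hφ in
/-- `X/Z` smooth, `Ω_{Y/Z}` finite locally free and `C_{Y/X} → i^*Ω_{X/Z}` mono: then `Y/Z` is smooth
at every point. -/
theorem mem_smoothLocus_of_mono [Smooth f] [LocallyOfFinitePresentation (i ≫ f)]
    (hfree : FlatMod.IsFinLocFree ΩY) [Mono φ] (y : Y) : y ∈ (i ≫ f).smoothLocus := by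
  rw [Scheme.Hom.mem_smoothLocus]
  obtain ⟨t, ht⟩ := OmegaSeq2.chartJ_cover f i y
  have eUW : i ⁻¹ᵁ t.1.1.1 ≤ (i ≫ f) ⁻¹ᵁ t.1.2.1 := fun _ hx => t.2.1 hx
  have hfs := ConormalRev.chart_formallySmooth f i dX hX dY hY φ hφ t.1.1.2 t.2.2.1 t.2.2.2
    t.1.2.2 t.2.1 ((f.smooth_appLE t.1.2.2 t.1.1.2 t.2.1).formallySmooth)
    (app_injective_of_mono φ _) (projective_sections_of_isFinLocFree ΩY hfree t.2.2.1).2
  rw [formallySmooth_stalkMap_iff t.1.2.1 t.1.2.2 (i ⁻¹ᵁ t.1.1.1) t.2.2.1 eUW ht]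
  have hfp := (i ≫ f).finitePresentation_appLE t.1.2.2 t.2.2.1 eUW
  algebraize [((i ≫ f).appLE t.1.2.1 (i ⁻¹ᵁ t.1.1.1) eUW).hom]
  haveI : Algebra.FormallySmooth Γ(Z, t.1.2.1) Γ(Y, i ⁻¹ᵁ t.1.1.1) := hfs
  have h := (Algebra.smoothLocus_eq_univ_iff (R := Γ(Z, t.1.2.1))
    (A := Γ(Y, i ⁻¹ᵁ t.1.1.1))).mpr inferInstance
  rw [h]
  trivial

include hX hφ in
/-- for `Y/Z` smooth the conormal map is a monomorphism -/
theorem mono_of_smooth [Smooth (i ≫ f)] : Mono φ := by
  haveI : ΩX.IsQuasicoherent := OmegaQCoh.isQuasicoherent_of_isUniversal f dX hX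
  haveI : ((Scheme.Modules.pullback i).obj ΩX).IsQuasicoherent :=
    Groth.Agent.Lib.helper16.QCohPullback.isQuasicoherent_pullback i ΩX
  haveI : (Omega.conormal i).IsQuasicoherent := OmegaAffine.conormal_qcoh i
  exact KerSections.mono_of_injective_cover φ (fun t : OmegaSeq2.ChartJ f i => i ⁻¹ᵁ t.1.1.1)
    (fun t => t.2.2.1) (OmegaSeq2.chartJ_cover f i)
    (fun t => OmegaFS.chart_conormal_injective f i dX hX φ hφ t.1.1.2 t.2.2.1 t.2.2.2 t.1.2.2 t.2.1
      (((i ≫ f).smooth_appLE t.1.2.2 t.2.2.1 (fun _ hx => t.2.1 hx)).formallySmooth))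

end Pair

/-- smooth with constant fibre dimension `n`: `Ω` is finite locally free of rank `n` -/
theorem isFinLocFreeOfRank_omega {X Z : Scheme.{u}} (f : X ⟶ Z) [Smooth f] {Ω' : X.Modules}
    (d : OmegaSh.Der f Ω') (hd : OmegaSh.IsUniversal d) (n : ℕ)
    (hn : ∀ x : X, FlatMor.fibreDimAt f x = (n : WithBot ℕ∞)) :
    FlatMod.IsFinLocFreeOfRank n Ω' := by
  intro x
  obtain ⟨-, U, m, hxU, hiso, hm⟩ := Groth.Agent.S5022.fwd f Ω' d hd x
    (by rw [Scheme.Hom.smoothLocus_eq_top]; trivial)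
  have hmn : m = n := by
    have := hm.symm.trans (hn x)
    exact_mod_cast this
  subst hmn
  exact ⟨U, hxU, hiso⟩

/-- local fibre dimension of an irreducible scheme locally of finite type over a field -/
theorem fibreDimAt_eq (k : Type u) [Field k] (X : Scheme.{u}) [X.Over (Spec (CommRingCat.of k))]
    [LocallyOfFiniteType (X ↘ Spec (CommRingCat.of k))] [IrreducibleSpace X] (n : ℕ)
    (hn : topologicalKrullDim X = (n : WithBot ℕ∞)) (x : X) :
    FlatMor.fibreDimAt (X ↘ Spec (CommRingCat.of k)) x = (n : WithBot ℕ∞) := by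
  rw [Groth.Agent.Lib.helper5.FieldBC.fibreDimAt_toSpec_field k]
  obtain ⟨d, hd, hloc⟩ := Groth.Agent.Lib.helper3.IrredDim.exists_dim_eq_localDim_of_irreducible k X
  rw [hloc x, ← hd, hn]

set_option backward.isDefEq.respectTransparency.types false in
/-- Let k be an algebraically closed field, X a nonsingular variety over k (integral, separated and of
finite type over k, all local rings regular) of dimension n, i : Y → X an irreducible closed
subscheme of dimension q with ideal sheaf I, (Ω_X, d_X) and (Ω_Y, d_Y) sheaves of differentials of X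
and Y over k (universal derivations), and φ : I/I² → i^*Ω_X the canonical map from the conormal
sheaf (class of a local section s of I ↦ pullback of d_X s). Then Y is nonsingular if and only if
(1) Ω_Y is locally free and (2) φ is a monomorphism (the conormal sequence 0 → I/I² → i^*Ω_X → Ω_Y →
0 is exact on the left too). Moreover in that case I/I² is locally free of rank n − q, the
codimension of Y. (The clause that I is then locally generated by n − q sections is not restated.) -/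
theorem result (k : Type u) [Field k]
    [IsAlgClosed k] (n q : ℕ)
    (X : Scheme.{u}) [X.Over (Spec (CommRingCat.of k))] [IsIntegral X] [IsSeparated (X ↘ (Spec (CommRingCat.of k)))]
    [LocallyOfFiniteType (X ↘ (Spec (CommRingCat.of k)))] [QuasiCompact (X ↘ (Spec (CommRingCat.of k)))]
    (hreg : ∀ x : ↥X, IsRegularLocalRing ↑(X.presheaf.stalk x))
    (hn : topologicalKrullDim ↥X = (n : WithBot ℕ∞))
    (Y : Scheme.{u}) (i : Y ⟶ X) [IsClosedImmersion i] [IrreducibleSpace ↥Y]
    (hq : topologicalKrullDim ↥Y = (q : WithBot ℕ∞))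
    (ΩX : X.Modules) (dX : OmegaSh.Der (X ↘ (Spec (CommRingCat.of k))) ΩX) (hX : OmegaSh.IsUniversal dX)
    (ΩY : Y.Modules) (dY : OmegaSh.Der (i ≫ (X ↘ (Spec (CommRingCat.of k)))) ΩY) (hY : OmegaSh.IsUniversal dY)
    (φ : Omega.conormal i ⟶ (Scheme.Modules.pullback i).obj ΩX) (hφ : OmegaSh.IsConormalDiff i dX φ) :
    ((∀ y : ↥Y, IsRegularLocalRing ↑(Y.presheaf.stalk y)) ↔ (FlatMod.IsFinLocFree ΩY ∧ Mono φ)) ∧
      ((∀ y : ↥Y, IsRegularLocalRing ↑(Y.presheaf.stalk y)) →
        FlatMod.IsFinLocFreeOfRank (n - q) (Omega.conormal i)) := by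
  haveI : IsLocallyNoetherian X :=
    LocallyOfFiniteType.isLocallyNoetherian (X ↘ Spec (CommRingCat.of k))
  haveI : LocallyOfFinitePresentation (X ↘ Spec (CommRingCat.of k)) :=
    lfp_of_noeth (X ↘ Spec (CommRingCat.of k))
  haveI : LocallyOfFiniteType (i ≫ (X ↘ Spec (CommRingCat.of k))) := inferInstance
  haveI : LocallyOfFinitePresentation (i ≫ (X ↘ Spec (CommRingCat.of k))) :=
    lfp_of_noeth (i ≫ (X ↘ Spec (CommRingCat.of k)))
  haveI : Smooth (X ↘ Spec (CommRingCat.of k)) :=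
    (smooth_iff_regular k (X ↘ Spec (CommRingCat.of k))).mpr hreg
  have hsm : (∀ y : ↥Y, IsRegularLocalRing ↑(Y.presheaf.stalk y)) ↔
      Smooth (i ≫ (X ↘ Spec (CommRingCat.of k))) :=
    (smooth_iff_regular k (i ≫ (X ↘ Spec (CommRingCat.of k)))).symm
  have hA : (∀ y : ↥Y, IsRegularLocalRing ↑(Y.presheaf.stalk y)) →
      FlatMod.IsFinLocFree ΩY ∧ Mono φ := by
    intro h
    haveI : Smooth (i ≫ (X ↘ Spec (CommRingCat.of k))) := hsm.mp h
    refine ⟨?_, mono_of_smooth (X ↘ Spec (CommRingCat.of k)) i dX hX φ hφ⟩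
    intro y
    obtain ⟨-, U, m, hyU, hiso, -⟩ := Groth.Agent.S5022.fwd
      (i ≫ (X ↘ Spec (CommRingCat.of k))) ΩY dY hY y
      (by rw [Scheme.Hom.smoothLocus_eq_top]; trivial)
    exact ⟨U, m, hyU, hiso⟩
  refine ⟨⟨hA, ?_⟩, ?_⟩
  · rintro ⟨hfree, hmono⟩
    haveI := hmono
    rw [hsm, ← Scheme.Hom.smoothLocus_eq_top_iff, ← top_le_iff]
    rintro y -
    exact mem_smoothLocus_of_mono (X ↘ Spec (CommRingCat.of k)) i dX hX dY hY φ hφ hfree y
  · intro h
    haveI : Smooth (i ≫ (X ↘ Spec (CommRingCat.of k))) := hsm.mp h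
    have hΩX : FlatMod.IsFinLocFreeOfRank n ΩX :=
      isFinLocFreeOfRank_omega (X ↘ Spec (CommRingCat.of k)) dX hX n
        (fun x => fibreDimAt_eq k X n hn x)
    letI : Y.Over (Spec (CommRingCat.of k)) := ⟨i ≫ (X ↘ Spec (CommRingCat.of k))⟩
    haveI : LocallyOfFiniteType (Y ↘ Spec (CommRingCat.of k)) :=
      (inferInstance : LocallyOfFiniteType (i ≫ (X ↘ Spec (CommRingCat.of k))))
    have hΩY : FlatMod.IsFinLocFreeOfRank q ΩY :=
      isFinLocFreeOfRank_omega (i ≫ (X ↘ Spec (CommRingCat.of k))) dY hY q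
        (fun y => fibreDimAt_eq k Y q hq y)
    obtain ⟨c, hc, -⟩ := OmegaPush.existsUnique_isDiffCompat (X ↘ Spec (CommRingCat.of k))
      (i ≫ (X ↘ Spec (CommRingCat.of k))) i (𝟙 _) (Category.comp_id _) dX dY hX
    obtain ⟨hCfree, hrank⟩ := ConormalRank.isFinLocFree_conormal_and_rank
      (X ↘ Spec (CommRingCat.of k)) i dX hX dY hY φ hφ c hc
      (isFinLocFree_of_isFinLocFreeOfRank hΩX) (isFinLocFree_of_isFinLocFreeOfRank hΩY)
    rw [isFinLocFreeOfRank_iff_finrank_stalk _ hCfree]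
    intro y
    have h1 := hrank y
    rw [finrank_stalk_of_isFinLocFreeOfRank ΩX hΩX, finrank_stalk_of_isFinLocFreeOfRank ΩY hΩY] at h1
    omega

end Groth.Agent.S12423
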