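import Groth.Statements.S12431
import Groth.Agent.Lib.Lead.ExtUnique
-- import your own Groth.Agent.* helpers here

set_option autoImplicit false
set_option backward.isDefEq.respectTransparency false
universe u
open CategoryTheory CategoryTheory.Limits AlgebraicGeometry
open Curves

namespace Groth.Agent.S12431

open Groth.Agent.Lib.Lead.ModTensor in
/-- a normalized indecomposable rank-two bundle of degree zero on a genus one curve is a non-split self-extension of
the structure sheaf -/
theorem key (k : Type u) [Field k] [IsAlgClosed k] (C : Scheme.{u}) [C.Over (Spec (CommRingCat.of k))]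
    [IsIntegral C] [IsProper (C ↘ (Spec (CommRingCat.of k)))] (hdimC : topologicalKrullDim C = 1)
    (hP : Groth.Agent.Lib.Lead.VBCurve.PIDStalks C) (hg : Curv2.genus k C = 1)
    (E : C.Modules) (hE : FlatMod.IsFinLocFreeOfRank 2 E)
    (hE0 : Nontrivial (Coh.HH C E 0))
    (hEneg : ∀ M : C.Modules, PicF.IsInvertible M → Curv2.deg k C M 1 < 0 → Subsingleton (Coh.HH C (CohB1.tensorMod E M) 0))
    (hEind : ∀ L₁ L₂ : C.Modules, PicF.IsInvertible L₁ → PicF.IsInvertible L₂ → IsEmpty (E ≅ L₁ ⊞ L₂))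
    (hEdeg : Curv2.deg k C E 2 = 0) :
    ∃ (S : ShortComplex C.Modules), S.ShortExact ∧ Nonempty (S.X₁ ≅ Coh.structureModule C) ∧
      Nonempty (S.X₃ ≅ Coh.structureModule C) ∧ ¬ IsSplitEpi S.g ∧ S.X₂ = E := by
  classical
  have hd := hdimC.le
  have h0 := Groth.Agent.Lib.helper9.CurveVanish.finrank_H0_structureModule_eq_one k C
  have hO := Groth.Agent.Lib.helper11.InvMod.isInvertible_structureModule C
  obtain ⟨s, hs⟩ := Groth.Agent.Lib.Lead.CurveSec.exists_hom_ne_zero_of_nontrivial E hE0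
  obtain ⟨hm, t, hrk, ht, hdeg⟩ :=
    Groth.Agent.Lib.Lead.VBCurve.cokernel_section_of_normalized k C hP hd hE hEneg s hs
  have ht1 : t = 1 := by omega
  subst ht1
  have := hm
  have hq := (Groth.Agent.Lib.helper16.FLF.isInvertible_iff_isFinLocFreeOfRank_one (cokernel s)).mpr ht
  have hS := Groth.Agent.Lib.Lead.VBCurve.shortExact_cokernel C s
  have hns : ¬ IsSplitEpi (cokernel.π s) := by
    rintro ⟨⟨σ, hσ⟩⟩
    have spl : (ShortComplex.mk s (cokernel.π s) (cokernel.condition s)).Splitting :=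
      ShortComplex.Splitting.ofExactOfSection _ hS.exact σ hσ hS.mono_f
    exact (hEind _ _ hO hq).false spl.isoBinaryBiproduct
  have hdq : Curv2.deg k C (cokernel s) 1 = 0 := by rw [← hdeg, hEdeg]
  -- the quotient is trivial
  obtain ⟨L', hL', hinv, hinv'⟩ := Groth.Agent.Lib.helper12.InvDual.exists_inverse hq
  have hH1 : Nontrivial (Coh.HH C (CohB1.tensorMod L' (Coh.structureModule C)) 1) := by
    rw [← not_subsingleton_iff_nontrivial]
    intro h1
    exact hns (Groth.Agent.Lib.Lead.VBCurve.isSplitEpi_of_subsingleton_H1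
      (ShortComplex.mk s (cokernel.π s) (cokernel.condition s)) hS L' hinv' h1)
  have hA : PicF.IsInvertible (CohB1.tensorMod L' (Coh.structureModule C)) :=
    Groth.Agent.Lib.helper12.TensorInv.isInvertible_tensorMod hL' hO
  have hdA := Groth.Agent.Lib.Lead.VBCurve.deg_inverse_tensor k C hd hq hL' hinv' hO
  rw [Groth.Agent.Lib.Lead.CurveEuler.deg_structureModule k C, hdq, sub_zero] at hdA
  have hAc := Groth.Agent.Lib.Lead.CurveInv.isCoh_of_isInvertible C hA
  have hrr := Groth.Agent.Lib.Lead.CurveEuler.riemann_roch' k C hd h0 _ hAc.1 1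
  rw [hdA, hg] at hrr
  haveI := Groth.Agent.Lib.Lead.ProperEuler.finite_HH k C _ hAc 1
  have hpos : 0 < Module.finrank k (Coh.HH C (CohB1.tensorMod L' (Coh.structureModule C)) 1) :=
    Module.finrank_pos
  have hpos0 : 0 < Module.finrank k (Coh.HH C (CohB1.tensorMod L' (Coh.structureModule C)) 0) := by
    have : (Module.finrank k (Coh.HH C (CohB1.tensorMod L' (Coh.structureModule C)) 0) : ℤ) =
        (Module.finrank k (Coh.HH C (CohB1.tensorMod L' (Coh.structureModule C)) 1) : ℤ) := by
      push_cast at hrr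
      linarith
    omega
  obtain ⟨σ, hσ⟩ := Groth.Agent.Lib.Lead.CurveSec.exists_hom_ne_zero_of_finrank_pos k C _ hpos0
  haveI := Groth.Agent.Lib.Lead.VBCurve.isIso_of_isInvertible_of_deg_eq k C hP hd hO hA σ hσ
    (by rw [Groth.Agent.Lib.Lead.CurveEuler.deg_structureModule k C, hdA])
  -- `L' ≅ O`, hence `coker s ≅ O`
  have eL' : L' ≅ Coh.structureModule C := (rightUnitor L').symm ≪≫ (asIso σ).symm
  obtain ⟨ε⟩ := hinv
  have eq : cokernel s ≅ Coh.structureModule C :=
    (rightUnitor (cokernel s)).symm ≪≫ tensorIso (Iso.refl _) eL'.symm ≪≫ ε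
  exact ⟨ShortComplex.mk s (cokernel.π s) (cokernel.condition s), hS, ⟨Iso.refl _⟩, ⟨eq⟩, hns, rfl⟩


/-- Uniqueness, e = 0 case: let C be an elliptic curve over an algebraically closed field k — integral,
proper over k, of dimension one, all local rings regular, of genus 1 — and let E and E′ be locally
free O_C-modules of rank 2 which are normalized (H^0(C, E) ≠ 0 while H^0(C, E ⊗ M) = 0 for every
invertible M of negative degree; likewise for E′), indecomposable (not isomorphic to a direct sum of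
two invertible modules) and of degree 0, where deg E = χ(E) − 2χ(O_C). Then E and E′ are isomorphic:
there is exactly one elliptic ruled surface with invariant e = 0 and indecomposable E. -/
theorem result (k : Type u) [Field k] [IsAlgClosed k] (C : Scheme.{u}) [C.Over (Spec (CommRingCat.of k))]
    [IsIntegral C] [IsProper (C ↘ (Spec (CommRingCat.of k)))] (hdimC : topologicalKrullDim C = 1)
    (hregC : ∀ x : C, IsRegularLocalRing (C.presheaf.stalk x)) (hg : Curv2.genus k C = 1)
    (E : C.Modules) (hE : FlatMod.IsFinLocFreeOfRank 2 E)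
    (hE0 : Nontrivial (Coh.HH C E 0))
    (hEneg : ∀ M : C.Modules, PicF.IsInvertible M → Curv2.deg k C M 1 < 0 → Subsingleton (Coh.HH C (CohB1.tensorMod E M) 0))
    (hEind : ∀ L₁ L₂ : C.Modules, PicF.IsInvertible L₁ → PicF.IsInvertible L₂ → IsEmpty (E ≅ L₁ ⊞ L₂))
    (hEdeg : Curv2.deg k C E 2 = 0)
    (E' : C.Modules) (hE' : FlatMod.IsFinLocFreeOfRank 2 E')
    (hE'0 : Nontrivial (Coh.HH C E' 0))
    (hE'neg : ∀ M : C.Modules, PicF.IsInvertible M → Curv2.deg k C M 1 < 0 → Subsingleton (Coh.HH C (CohB1.tensorMod E' M) 0))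
    (hE'ind : ∀ L₁ L₂ : C.Modules, PicF.IsInvertible L₁ → PicF.IsInvertible L₂ → IsEmpty (E' ≅ L₁ ⊞ L₂))
    (hE'deg : Curv2.deg k C E' 2 = 0) :
    Nonempty (E ≅ E') := by
  classical
  have hP := Groth.Agent.Lib.Lead.VBCurve.pidStalks_of_regular hregC hdimC.le
  have hO := Groth.Agent.Lib.helper11.InvMod.isInvertible_structureModule C
  obtain ⟨S, hS, ⟨a⟩, ⟨e⟩, hns, rfl⟩ := key k C hdimC hP hg E hE hE0 hEneg hEind hEdeg
  obtain ⟨S', hS', ⟨a'⟩, ⟨e'⟩, hns', rfl⟩ := key k C hdimC hP hg E' hE' hE'0 hE'neg hE'ind hE'deg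
  exact Groth.Agent.Lib.Lead.ExtUnique.nonempty_iso_of_not_isSplitEpi k
    (fun f hf => Groth.Agent.Lib.Lead.VBCurve.isIso_of_isInvertible_of_deg_eq k C hP hdimC.le hO hO f hf rfl)
    (A := Coh.structureModule C) hg S S' hS hS' a a' e e' hns hns'


end Groth.Agent.S12431
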