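import Groth.Statements.S12443
import Mathlib.CategoryTheory.Adjunction.Unique
import Mathlib.CategoryTheory.Sites.Continuous
import Mathlib.Topology.Sheaves.SheafCondition.Sites
-- import your own Groth.Agent.* helpers here

set_option autoImplicit false
universe u
open CategoryTheory TopologicalSpace
open ShSp

namespace Groth.Agent.S12443

theorem unit_iso {U X : TopCat.{u}} (j : U ⟶ X) (hj : Topology.IsOpenEmbedding j) (V : Opens U) :
    IsIso (hj.isOpenMap.adjunction.unit.app V) := by
  refine ⟨⟨homOfLE ?_, Subsingleton.elim _ _, Subsingleton.elim _ _⟩⟩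
  rintro x ⟨y, hy, hxy⟩
  have : y = x := hj.injective hxy
  exact this ▸ hy

theorem counit_iso {U X : TopCat.{u}} (j : U ⟶ X) (hj : Topology.IsOpenEmbedding j)
    (F : U.Sheaf (Type u)) :
    haveI := Topology.IsOpenEmbedding.functor_isContinuous hj
    IsIso ((Adjunction.sheafPushforwardContinuous (E := Type u) hj.isOpenMap.adjunction
      (Opens.grothendieckTopology U) (Opens.grothendieckTopology X)).counit.app F) := by
  have := Topology.IsOpenEmbedding.functor_isContinuous hj
  have : IsIso ((sheafToPresheaf _ _).map
      ((Adjunction.sheafPushforwardContinuous (E := Type u) hj.isOpenMap.adjunction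
      (Opens.grothendieckTopology U) (Opens.grothendieckTopology X)).counit.app F)) := by
    apply (config := { allowSynthFailures := true }) NatIso.isIso_of_isIso_app
    intro V
    change IsIso (((Adjunction.sheafPushforwardContinuous (E := Type u) hj.isOpenMap.adjunction
      (Opens.grothendieckTopology U) (Opens.grothendieckTopology X)).counit.app F).hom.app V)
    rw [Adjunction.sheafPushforwardContinuous_counit_app_hom_app]
    have h1 := unit_iso j hj V.unop
    have h2 : IsIso (hj.isOpenMap.adjunction.unit.app V.unop).op := isIso_op _
    exact Functor.map_isIso F.obj _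
  exact isIso_of_reflects_iso _ (sheafToPresheaf _ _)

theorem main {U X : TopCat.{u}} (j : U ⟶ X) (hj : Topology.IsOpenEmbedding j)
    (F : U.Sheaf (Type u)) :
    IsIso ((TopCat.Sheaf.pullbackPushforwardAdjunction (Type u) j).counit.app F) := by
  have := Topology.IsOpenEmbedding.functor_isContinuous hj
  have h2 := counit_iso j hj F
  have h3 := Adjunction.leftAdjointUniq_hom_app_counit
    (TopCat.Sheaf.pullbackPushforwardAdjunction (Type u) j)
    (Adjunction.sheafPushforwardContinuous (E := Type u) hj.isOpenMap.adjunction
      (Opens.grothendieckTopology U) (Opens.grothendieckTopology X)) F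
  rw [← h3]
  exact IsIso.comp_isIso' inferInstance h2

/-- Let j : U → X be the inclusion of an open subset (an open embedding) and F a sheaf of sets on U.
Then the counit j⁻¹ j_* F → F is an isomorphism, i.e. j⁻¹ j_* is the identity on sheaves on U. -/
theorem result {U X : TopCat.{u}} (j : U ⟶ X) (hj : Topology.IsOpenEmbedding j)
    (F : U.Sheaf (Type u)) :
    IsIso ((TopCat.Sheaf.pullbackPushforwardAdjunction (Type u) j).counit.app F) := main j hj F


end Groth.Agent.S12443
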