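import Groth.Statements.S12444
import Mathlib
import Groth.Agent.Lib.Helper16.IrrSub

set_option autoImplicit false
universe u
open PtTop

namespace Groth.Agent.S12444

open Groth.Agent.Lib.helper16.IrrSub Groth.Agent.Lib.helper16.PosetCat

theorem result' (X : Type u) [TopologicalSpace X] :
    (PtTop.IsCatenarySpace X ↔
      ∀ x : X, ∃ U : TopologicalSpace.Opens X, x ∈ U ∧ PtTop.IsCatenarySpace U) ∧
    (PtTop.IsCatenarySpace X → ∀ S : Set X, IsLocallyClosed S → PtTop.IsCatenarySpace S) := by
  refine ⟨⟨fun h x => ⟨⊤, trivial, ?_⟩, fun h => ?_⟩, fun h S hS => ?_⟩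
  · exact isCat_of_isLocallyClosed (X := X) h (S := ((⊤ : TopologicalSpace.Opens X) : Set X))
      (TopologicalSpace.Opens.isOpen _).isLocallyClosed
  · apply isCat_of_open_cover
    intro x
    obtain ⟨U, hxU, hU⟩ := h x
    exact ⟨(U : Set X), U.isOpen, hxU, hU⟩
  · exact isCat_of_isLocallyClosed h hS



/-- A topological space X is catenary if and only if it has an open covering by catenary subspaces
(here: every point has a catenary open neighbourhood); and if X is catenary then so is every locally
closed subspace of X. -/
theorem result (X : Type u) [TopologicalSpace X] :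
    (PtTop.IsCatenarySpace X ↔
      ∀ x : X, ∃ U : TopologicalSpace.Opens X, x ∈ U ∧ PtTop.IsCatenarySpace U) ∧
    (PtTop.IsCatenarySpace X → ∀ S : Set X, IsLocallyClosed S → PtTop.IsCatenarySpace S) := by
  exact Groth.Agent.S12444.result' X

end Groth.Agent.S12444
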