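import Groth.Statements.S12445
import Mathlib
import Groth.Agent.Lib.Helper16.CatSch

set_option autoImplicit false
universe u
open CategoryTheory AlgebraicGeometry
open Props

namespace Groth.Agent.S12445

open Groth.Agent.Lib.helper16.IrrSub Groth.Agent.Lib.helper16.PosetCat Groth.Agent.Lib.helper16.CatSch

theorem result' (S : Scheme.{u}) :
    (PtTop.IsCatenarySpace S ↔ ∀ U : S.affineOpens, CAlg.IsCatenary Γ(S, U)) ∧
    (PtTop.IsCatenarySpace S ↔
      ∀ s : S, ∃ U : S.affineOpens, s ∈ (U : S.Opens) ∧ CAlg.IsCatenary Γ(S, U)) := by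
  have h1 : PtTop.IsCatenarySpace S → ∀ U : S.affineOpens, CAlg.IsCatenary Γ(S, U) := by
    intro h U
    rw [← isCatenarySpace_affineOpen_iff U.2]
    exact isCat_of_isLocallyClosed (X := S) h (S := ((U : S.Opens) : Set S))
      (U : S.Opens).isOpen.isLocallyClosed
  have h2 : (∀ U : S.affineOpens, CAlg.IsCatenary Γ(S, U)) →
      ∀ s : S, ∃ U : S.affineOpens, s ∈ (U : S.Opens) ∧ CAlg.IsCatenary Γ(S, U) := by
    intro h s
    obtain ⟨U, hU, hsU, -⟩ := exists_isAffineOpen_mem_and_subset (X := S) (x := s) (U := ⊤) trivial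
    exact ⟨⟨U, hU⟩, hsU, h ⟨U, hU⟩⟩
  have h3 : (∀ s : S, ∃ U : S.affineOpens, s ∈ (U : S.Opens) ∧ CAlg.IsCatenary Γ(S, U)) →
      PtTop.IsCatenarySpace S := by
    intro h
    apply isCat_of_open_cover
    intro x
    obtain ⟨U, hxU, hU⟩ := h x
    exact ⟨((U : S.Opens) : Set S), (U : S.Opens).isOpen, hxU,
      (isCatenarySpace_affineOpen_iff U.2).mpr hU⟩
  exact ⟨⟨h1, fun h => h3 (h2 h)⟩, ⟨fun h => h2 (h1 h), h3⟩⟩



/-- (1) ⇔ (3) ⇔ (4): for a scheme S, the underlying topological space of S is catenary if and only if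
the coordinate ring of every affine open of S is a catenary ring, if and only if S is covered by
affine opens with catenary coordinate rings. (Clause (2), openness of catenarity, and the final
assertion on locally closed subschemes are the topological statement for open coverings and locally
closed subspaces.) -/
theorem result (S : Scheme.{u}) :
    (PtTop.IsCatenarySpace S ↔ ∀ U : S.affineOpens, CAlg.IsCatenary Γ(S, U)) ∧
    (PtTop.IsCatenarySpace S ↔
      ∀ s : S, ∃ U : S.affineOpens, s ∈ (U : S.Opens) ∧ CAlg.IsCatenary Γ(S, U)) := by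
  exact Groth.Agent.S12445.result' S

end Groth.Agent.S12445
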