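import Groth.Statements.S12446
import Mathlib
import Groth.Agent.Lib.Helper16.CatSch
import Groth.Agent.S0552
import Groth.Agent.S9124

set_option autoImplicit false
universe u
open CategoryTheory AlgebraicGeometry
open Props

namespace Groth.Agent.S12446

open Groth.Agent.Lib.helper16.IrrSub Groth.Agent.Lib.helper16.PosetCat Groth.Agent.Lib.helper16.CatSch

theorem isCatenary_ringEquiv {R R' : Type u} [CommRing R] [CommRing R'] (e : R ≃+* R') :
    CAlg.IsCatenary R ↔ CAlg.IsCatenary R' := by
  rw [← isCatenarySpace_primeSpectrum_iff, ← isCatenarySpace_primeSpectrum_iff]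
  exact isCatenarySpace_homeomorph (PrimeSpectrum.homeomorphOfRingEquiv e)

theorem result' (X : Scheme.{u}) :
    PtTop.IsCatenarySpace X ↔ ∀ x : X, CAlg.IsCatenary (X.presheaf.stalk x) := by
  constructor
  · intro h x
    obtain ⟨U, hU, hxU, -⟩ := exists_isAffineOpen_mem_and_subset (X := X) (x := x) (U := ⊤) trivial
    have hA : CAlg.IsCatenary Γ(X, U) := by
      rw [← isCatenarySpace_affineOpen_iff hU]
      exact isCat_of_isLocallyClosed (X := X) h (S := (U : Set X)) U.isOpen.isLocallyClosed
    letI := X.presheaf.algebra_section_stalk (⟨x, hxU⟩ : U)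
    haveI := hU.isLocalization_stalk ⟨x, hxU⟩
    exact Groth.Agent.S9124.result Γ(X, U) (hU.primeIdealOf ⟨x, hxU⟩).asIdeal.primeCompl
      (X.presheaf.stalk x) hA
  · intro h
    apply isCat_of_open_cover
    intro x
    obtain ⟨U, hU, hxU, -⟩ := exists_isAffineOpen_mem_and_subset (X := X) (x := x) (U := ⊤) trivial
    refine ⟨(U : Set X), U.isOpen, hxU, (isCatenarySpace_affineOpen_iff hU).mpr ?_⟩
    rw [Groth.Agent.S0552.result]
    intro m hm
    let y : PrimeSpectrum Γ(X, U) := ⟨m, hm.isPrime⟩
    let z : ↥U := hU.isoSpec.inv y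
    have hzy : hU.primeIdealOf z = y := by
      simp only [IsAffineOpen.primeIdealOf, z]
      rw [← Scheme.Hom.comp_apply, Iso.inv_hom_id]
      rfl
    letI := X.presheaf.algebra_section_stalk z
    haveI : IsLocalization.AtPrime (X.presheaf.stalk z.1) m := by
      have := hU.isLocalization_stalk z
      rwa [hzy] at this
    let e : X.presheaf.stalk z.1 ≃+* Localization.AtPrime m :=
      (IsLocalization.algEquiv m.primeCompl (X.presheaf.stalk z.1) (Localization.AtPrime m)).toRingEquiv
    exact (isCatenary_ringEquiv e).mp (h z.1)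



/-- For a scheme X, the underlying topological space of X is catenary if and only if for every point x
the local ring O_{X,x} is a catenary ring. -/
theorem result (X : Scheme.{u}) :
    PtTop.IsCatenarySpace X ↔ ∀ x : X, CAlg.IsCatenary (X.presheaf.stalk x) := by
  exact Groth.Agent.S12446.result' X

end Groth.Agent.S12446
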