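import Groth.Statements.S12447
import Mathlib
import Groth.Agent.Lib.Helper16.DimFun

set_option autoImplicit false
universe u
open CategoryTheory AlgebraicGeometry
open Props

namespace Groth.Agent.S12447

open Groth.Agent.Lib.helper16.IrrSub Groth.Agent.Lib.helper16.PosetCat Groth.Agent.Lib.helper16.CatSch
  Groth.Agent.Lib.helper16.DimFun

theorem backward (S : Scheme.{u})
    (h : ∀ s : S, ∃ U : S.Opens, s ∈ U ∧ ∃ δ : U → ℤ, PtTop.IsDimensionFunction δ) :
    PtTop.IsCatenarySpace S := by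
  apply isCat_of_open_cover
  intro x
  obtain ⟨U, hxU, δ, hδ⟩ := h x
  haveI : QuasiSober ↥U := U.isOpen.isOpenEmbedding_subtypeVal.quasiSober
  exact ⟨(U : Set S), U.isOpen, hxU,
    (Groth.Agent.Lib.helper16.SoberRank.isCat_and_cd δ hδ).1⟩

theorem forward (S : Scheme.{u}) [IsLocallyNoetherian S] (h : PtTop.IsCatenarySpace S) (s : S) :
    ∃ U : S.Opens, s ∈ U ∧ ∃ δ : U → ℤ, PtTop.IsDimensionFunction δ := by
  obtain ⟨U, hU, hsU, -⟩ := exists_isAffineOpen_mem_and_subset (X := S) (x := s) (U := ⊤) trivial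
  haveI : IsNoetherianRing Γ(S, U) := IsLocallyNoetherian.component_noetherian ⟨U, hU⟩
  have hA : CAlg.IsCatenary Γ(S, U) := by
    rw [← isCatenarySpace_affineOpen_iff hU]
    exact isCat_of_isLocallyClosed (X := S) h (S := (U : Set S)) U.isOpen.isLocallyClosed
  let hh : ↥U ≃ₜ PrimeSpectrum Γ(S, U) := hU.isoSpec.hom.homeomorph
  obtain ⟨V, hV, hsV, δ, hδ⟩ := exists_dimensionFunction_primeSpectrum hA (hh ⟨s, hsU⟩)
  let Wset : Set S := {x | ∃ hx : x ∈ U, hh ⟨x, hx⟩ ∈ V}
  have hWeq : Wset = Subtype.val '' (hh ⁻¹' V) := by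
    ext x
    constructor
    · rintro ⟨hx, hxV⟩; exact ⟨⟨x, hx⟩, hxV, rfl⟩
    · rintro ⟨⟨y, hy⟩, hyV, rfl⟩; exact ⟨hy, hyV⟩
  have hWopen : IsOpen Wset := by
    rw [hWeq]
    exact U.isOpen.isOpenMap_subtype_val _ (hV.preimage hh.continuous)
  let W : S.Opens := ⟨Wset, hWopen⟩
  refine ⟨W, ⟨hsU, hsV⟩, ?_⟩
  let g : ↥W ≃ ↥V :=
    { toFun := fun w => ⟨hh ⟨w.1, w.2.choose⟩, w.2.choose_spec⟩
      invFun := fun v => ⟨(hh.symm v.1).1, ⟨(hh.symm v.1).2, by simp [v.2]⟩⟩
      left_inv := fun w => by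
        apply Subtype.ext
        simp
      right_inv := fun v => by
        apply Subtype.ext
        simp }
  have hg : ∀ a b : ↥W, g a ⤳ g b ↔ a ⤳ b := by
    intro a b
    rw [← Topology.IsInducing.subtypeVal.specializes_iff (x := g a) (y := g b)]
    show hh ⟨a.1, a.2.choose⟩ ⤳ hh ⟨b.1, b.2.choose⟩ ↔ _
    rw [hh.isInducing.specializes_iff,
      ← Topology.IsInducing.subtypeVal.specializes_iff (x := (⟨a.1, a.2.choose⟩ : ↥U)),
      ← Topology.IsInducing.subtypeVal.specializes_iff (x := a) (y := b)]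
  exact ⟨δ ∘ g, isDimensionFunction_comp g hg δ hδ⟩

theorem result' (S : Scheme.{u}) [IsLocallyNoetherian S] :
    PtTop.IsCatenarySpace S ↔
      ∀ s : S, ∃ U : S.Opens, s ∈ U ∧ ∃ δ : U → ℤ, PtTop.IsDimensionFunction δ :=
  ⟨fun h s => forward S h s, backward S⟩



/-- Let S be a locally Noetherian scheme. Then the underlying topological space of S is catenary if and
only if locally in the Zariski topology there is a dimension function, i.e. every point has an open
neighbourhood U carrying a function δ : U → ℤ which strictly decreases along nontrivial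
specializations and drops by exactly one along immediate specializations. -/
theorem result (S : Scheme.{u}) [IsLocallyNoetherian S] :
    PtTop.IsCatenarySpace S ↔
      ∀ s : S, ∃ U : S.Opens, s ∈ U ∧ ∃ δ : U → ℤ, PtTop.IsDimensionFunction δ := by
  exact Groth.Agent.S12447.result' S

end Groth.Agent.S12447
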