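import Groth.Statements.S1245
import Groth.Agent.Lib.Helper26.Purity15

set_option autoImplicit false
set_option linter.style.haveILetI false
universe u
open FlatMor

namespace Groth.Agent.S1245

/-- Ring form, X = Spec B affine, base change rings affine: let B be a finite type A-algebra, N a finite
B-module and p a prime of A. If there is an impurity of N above p, then there is one whose base
change A → A' is of finite presentation and whose point t is a closed point of the fibre of Spec A'
over p (the extension of t to the fibre ring is maximal). -/
theorem result {A B : Type u} [CommRing A] [CommRing B] [Algebra A B] [Algebra.FiniteType A B]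
    (N : Type u) [AddCommGroup N] [Module B N] [Module.Finite B N] (p : Ideal A) [p.IsPrime]
    (h : FlatCA.HasImpurity A B N p (fun _ _ _ _ => True)) :
    FlatCA.HasImpurity A B N p (fun A' _ _ t => Algebra.FinitePresentation A A' ∧ (FlatCA.fiberIdeal p t).IsMaximal) := by
  classical
  obtain ⟨A', B', N', _, _, _, _, _, _, _, _, _, _, _, _, _, _, f, t', t, _, _, P, _, himp, -⟩ := h
  obtain ⟨A₁, B₁, N₁, _, _, _, _, _, _, _, _, _, _, _, _, _, _, f₁, t₁', t₁, _, _, P₁, _, himp₁,
    hfp⟩ := Groth.Agent.Lib.helper26.Purity.exists_isImpurity_finitePresentation N p A' B' N' f t' t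
      P himp
  haveI := hfp
  haveI : Algebra.FiniteType A A₁ := inferInstance
  obtain ⟨t₂, ht₂, himp₂, hmax⟩ :=
    Groth.Agent.Lib.helper26.Purity.exists_isImpurity_isMaximal_fiberIdeal N p A₁ B₁ N₁ f₁ t₁' t₁ P₁
      himp₁
  exact ⟨A₁, B₁, N₁, inferInstance, inferInstance, inferInstance, inferInstance,
    inferInstance, inferInstance, inferInstance, inferInstance, inferInstance, inferInstance,
    inferInstance, inferInstance, inferInstance, inferInstance, f₁, t₁', t₂, inferInstance,
    ht₂, P₁, inferInstance, himp₂, hfp, hmax⟩

end Groth.Agent.S1245
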