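import Groth.Statements.S12450
import Mathlib

set_option autoImplicit false
universe u
open CategoryTheory CategoryTheory.Limits
open ModSite

namespace Groth.Agent.S12450

/-- For a small ringed site (C, O) the forgetful functor Mod(O) → Ab(C) commutes with colimits, i.e.
preserves all small colimits. (Existence of limits and colimits in Mod(O) and commutation of the
forgetful functor with limits hold by construction; exactness of filtered colimits is a separate
statement.) -/
theorem result {C : Type u} [SmallCategory C] {J : GrothendieckTopology C}
    (O : Sheaf J CommRingCat.{u}) :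
    PreservesColimitsOfSize.{u, u} (SheafOfModules.toSheaf.{u} (ModSite.ringSh O) : ModSite.Mod O ⥤ Sheaf J AddCommGrpCat.{u}) := by
  refine ⟨fun {K} _ => ⟨fun {F} => ?_⟩⟩
  let R := ModSite.ringSh O
  let L := PresheafOfModules.sheafification.{u} (𝟙 R.obj)
  let adj := PresheafOfModules.sheafificationAdjunction.{u} (𝟙 R.obj)
  let e : F ≅ (F ⋙ SheafOfModules.forget R) ⋙ L :=
    Functor.isoWhiskerLeft F (asIso adj.counit).symm
  let H := F ⋙ SheafOfModules.forget R
  have hL : PreservesColimit H L := by
    haveI := adj.leftAdjoint_preservesColimits
    infer_instance
  have hLG : PreservesColimit H (L ⋙ SheafOfModules.toSheaf R) := by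
    have : PreservesColimit H
        (PresheafOfModules.toPresheaf R.obj ⋙ presheafToSheaf J AddCommGrpCat.{u}) := by
      infer_instance
    exact preservesColimit_of_natIso H
      (PresheafOfModules.sheafificationCompToSheaf.{u} (𝟙 R.obj)).symm
  have h1 : PreservesColimit (H ⋙ L) (SheafOfModules.toSheaf R) := by
    refine preservesColimit_of_preserves_colimit_cocone
      (isColimitOfPreserves L (colimit.isColimit H)) ?_
    exact IsColimit.ofIsoColimit
      (isColimitOfPreserves (L ⋙ SheafOfModules.toSheaf R) (colimit.isColimit H))
      (Cocone.ext (Iso.refl _) (fun j => by simp))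
  exact preservesColimit_of_iso_diagram _ e.symm

end Groth.Agent.S12450
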