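import Groth.Statements.S12452
import Mathlib


set_option autoImplicit false
universe u
open CategoryTheory TopologicalSpace Opposite
open ShSp

namespace Groth.Agent.S12452

set_option linter.style.haveILetI false

theorem cover_basis {X : TopCat.{u}} {BX : Set (Opens X)} (hBX : Opens.IsBasis BX) (W : Opens X) :
    W ≤ ⨆ i : {U : BX // (U : Opens X) ≤ W}, ((i.1 : BX) : Opens X) := by
  intro x hx
  obtain ⟨U', hU'B, hxU', hU'W⟩ := (Opens.isBasis_iff_nbhd.mp hBX) hx
  exact Opens.mem_iSup.mpr ⟨⟨⟨U', hU'B⟩, hU'W⟩, hxU'⟩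

section
variable {X Y : TopCat.{u}} (f : X ⟶ Y) (F : X.Sheaf (Type u)) (G : Y.Sheaf (Type u))
    {BX : Set (Opens X)} (hBX : Opens.IsBasis BX) {BY : Set (Opens Y)} (hBY : Opens.IsBasis BY)
    (φ : ∀ (V : BY) (U : BX), (U : Opens X) ≤ (Opens.map f).obj V →
      (G.presheaf.obj (op (V : Opens Y)) → F.presheaf.obj (op (U : Opens X))))
    (hφ : ∀ (V V' : BY) (U U' : BX) (hUV : (U : Opens X) ≤ (Opens.map f).obj V)
      (hU'V' : (U' : Opens X) ≤ (Opens.map f).obj V') (hV : (V' : Opens Y) ≤ V) (hU : (U' : Opens X) ≤ U)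
      (s : G.presheaf.obj (op (V : Opens Y))),
      F.presheaf.map (homOfLE hU).op (φ V U hUV s) = φ V' U' hU'V' (G.presheaf.map (homOfLE hV).op s))

include hBX hφ in
theorem glue (V : BY) (s : G.presheaf.obj (op (V : Opens Y))) :
    ∃! t : F.presheaf.obj (op ((Opens.map f).obj V)),
      ∀ (U : BX) (hUV : (U : Opens X) ≤ (Opens.map f).obj V),
        F.presheaf.map (homOfLE hUV).op t = φ V U hUV s := by
  have hmapid : ∀ (W : Opens Y) (h : W ≤ W) (s : G.presheaf.obj (op W)),
      G.presheaf.map (homOfLE h).op s = s := by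
    intro W h s
    have : (homOfLE h).op = 𝟙 (op W) := Subsingleton.elim _ _
    rw [this, G.presheaf.map_id]; rfl
  have key := TopCat.Sheaf.existsUnique_gluing' F
    (fun i : {U : BX // (U : Opens X) ≤ (Opens.map f).obj V} => ((i.1 : BX) : Opens X))
    ((Opens.map f).obj V) (fun i => homOfLE i.2) (cover_basis hBX _)
    (fun i => φ V i.1 i.2 s) ?_
  · obtain ⟨t, ht, htu⟩ := key
    refine ⟨t, fun U hUV => ht ⟨U, hUV⟩, fun t' ht' => htu t' fun i => ht' i.1 i.2⟩
  · intro i j
    refine TopCat.Sheaf.eq_of_locally_eq' F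
      (fun k : {U : BX // (U : Opens X) ≤ (i.1 : Opens X) ⊓ (j.1 : Opens X)} =>
        ((k.1 : BX) : Opens X)) _ (fun k => homOfLE k.2) (cover_basis hBX _) _ _ ?_
    intro k
    have h1 := hφ V V i.1 k.1 i.2 (k.2.trans (inf_le_left.trans i.2)) le_rfl
      (k.2.trans inf_le_left) s
    have h2 := hφ V V j.1 k.1 j.2 (k.2.trans (inf_le_left.trans i.2)) le_rfl
      (k.2.trans inf_le_right) s
    rw [hmapid] at h1 h2
    change (F.presheaf.map _ ≫ F.presheaf.map _) _ = (F.presheaf.map _ ≫ F.presheaf.map _) _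
    rw [← F.presheaf.map_comp, ← F.presheaf.map_comp]
    exact h1.trans h2.symm

include hBX hBY hφ in
theorem main :
    ∃! ψ : G ⟶ (TopCat.Sheaf.pushforward (Type u) f).obj F,
      ∀ (V : BY) (U : BX) (hUV : (U : Opens X) ≤ (Opens.map f).obj V) (s : G.presheaf.obj (op (V : Opens Y))),
        F.presheaf.map (homOfLE hUV).op (ψ.1.app (op (V : Opens Y)) s) = φ V U hUV s := by
  classical
  have hmapid : ∀ (W : Opens Y) (h : W ≤ W) (s : G.presheaf.obj (op W)),
      G.presheaf.map (homOfLE h).op s = s := by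
    intro W h s
    have : (homOfLE h).op = 𝟙 (op W) := Subsingleton.elim _ _
    rw [this, G.presheaf.map_id]; rfl
  have hFmapid : ∀ (W : Opens X) (h : W ≤ W) (s : F.presheaf.obj (op W)),
      F.presheaf.map (homOfLE h).op s = s := by
    intro W h s
    have : (homOfLE h).op = 𝟙 (op W) := Subsingleton.elim _ _
    rw [this, F.presheaf.map_id]; rfl
  let F' : Y.Sheaf (Type u) := (TopCat.Sheaf.pushforward (Type u) f).obj F
  let B : BY → Opens Y := Subtype.val
  have hB : Opens.IsBasis (Set.range B) := by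
    have : Set.range B = BY := Subtype.range_coe
    rw [this]; exact hBY
  -- the maps on the basis
  let ψ0 : ∀ V : BY, G.presheaf.obj (op (V : Opens Y)) → F.presheaf.obj (op ((Opens.map f).obj V)) :=
    fun V s => (glue f F G hBX φ hφ V s).choose
  have ψ0_spec : ∀ (V : BY) (s : G.presheaf.obj (op (V : Opens Y))) (U : BX)
      (hUV : (U : Opens X) ≤ (Opens.map f).obj V),
      F.presheaf.map (homOfLE hUV).op (ψ0 V s) = φ V U hUV s :=
    fun V s => (glue f F G hBX φ hφ V s).choose_spec.1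
  have ψ0_uniq : ∀ (V : BY) (s : G.presheaf.obj (op (V : Opens Y)))
      (t : F.presheaf.obj (op ((Opens.map f).obj V))),
      (∀ (U : BX) (hUV : (U : Opens X) ≤ (Opens.map f).obj V),
        F.presheaf.map (homOfLE hUV).op t = φ V U hUV s) → t = ψ0 V s :=
    fun V s t ht => (glue f F G hBX φ hφ V s).choose_spec.2 t ht
  have ψ0_nat : ∀ (V V' : BY) (hV : (V' : Opens Y) ≤ V) (s : G.presheaf.obj (op (V : Opens Y))),
      F.presheaf.map (homOfLE ((Opens.map f).monotone hV)).op (ψ0 V s) =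
        ψ0 V' (G.presheaf.map (homOfLE hV).op s) := by
    intro V V' hV s
    apply ψ0_uniq
    intro U hUV
    have h1 := hφ V V' U U (hUV.trans ((Opens.map f).monotone hV)) hUV hV le_rfl s
    rw [hFmapid] at h1
    rw [← h1, ← ψ0_spec V s U (hUV.trans ((Opens.map f).monotone hV))]
    change (F.presheaf.map _ ≫ F.presheaf.map _) _ = _
    rw [← F.presheaf.map_comp]
    rfl
  let α : (inducedFunctor B).op ⋙ G.presheaf ⟶ (inducedFunctor B).op ⋙ F'.1 :=
    { app := fun i => TypeCat.ofHom (ψ0 i.unop)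
      naturality := by
        intro i j g
        ext s
        exact (ψ0_nat i.unop j.unop (leOfHom g.unop.hom) s).symm }
  let ψ1 : G.presheaf ⟶ F'.1 := TopCat.Sheaf.restrictHomEquivHom G.presheaf F' hB α
  have hψ1 : ∀ V : BY, ψ1.app (op (V : Opens Y)) = TypeCat.ofHom (ψ0 V) := fun V =>
    TopCat.Sheaf.extend_hom_app G.presheaf F' hB α V
  refine ⟨ObjectProperty.homMk ψ1, ?_, ?_⟩
  · intro V U hUV s
    change F.presheaf.map (homOfLE hUV).op (ψ1.app (op (V : Opens Y)) s) = _
    rw [hψ1]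
    exact ψ0_spec V s U hUV
  · intro ψ' hψ'
    have : ψ'.1 = ψ1 := by
      apply TopCat.Sheaf.hom_ext G.presheaf F' hB
      intro V
      rw [hψ1]
      ext s
      exact ψ0_uniq V s _ (fun U hUV => hψ' V U hUV s)
    exact ObjectProperty.hom_ext _ this

end



/-- For sheaves of sets, let f : X → Y be a continuous map, F a sheaf of sets on X, G a sheaf of sets on
Y, and B_X, B_Y bases for the topologies of X and Y. Suppose given, for every V in B_Y and U in B_X
with U ⊆ f⁻¹V, a map φ_V^U : G(V) → F(U), compatibly with restrictions. Then there is exactly one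
morphism of sheaves ψ : G → f_*F (an f-map G → F) such that G(V) → F(f⁻¹V) → F(U) equals φ_V^U for
every such pair. -/
theorem result {X Y : TopCat.{u}} (f : X ⟶ Y) (F : X.Sheaf (Type u)) (G : Y.Sheaf (Type u))
    {BX : Set (Opens X)} (hBX : Opens.IsBasis BX) {BY : Set (Opens Y)} (hBY : Opens.IsBasis BY)
    (φ : ∀ (V : BY) (U : BX), (U : Opens X) ≤ (Opens.map f).obj V →
      (G.presheaf.obj (op (V : Opens Y)) → F.presheaf.obj (op (U : Opens X))))
    (hφ : ∀ (V V' : BY) (U U' : BX) (hUV : (U : Opens X) ≤ (Opens.map f).obj V)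
      (hU'V' : (U' : Opens X) ≤ (Opens.map f).obj V') (hV : (V' : Opens Y) ≤ V) (hU : (U' : Opens X) ≤ U)
      (s : G.presheaf.obj (op (V : Opens Y))),
      F.presheaf.map (homOfLE hU).op (φ V U hUV s) = φ V' U' hU'V' (G.presheaf.map (homOfLE hV).op s)) :
    ∃! ψ : G ⟶ (TopCat.Sheaf.pushforward (Type u) f).obj F,
      ∀ (V : BY) (U : BX) (hUV : (U : Opens X) ≤ (Opens.map f).obj V) (s : G.presheaf.obj (op (V : Opens Y))),
        F.presheaf.map (homOfLE hUV).op (ψ.1.app (op (V : Opens Y)) s) = φ V U hUV s := by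
  exact main f F G hBX hBY φ hφ

end Groth.Agent.S12452
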