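import Groth.Statements.S12459
import Mathlib
import Groth.Agent.Lib.Helper16.CatSch
import Groth.Agent.S12446
import Groth.Agent.S9126

set_option autoImplicit false
universe u
open CategoryTheory AlgebraicGeometry
open Props

namespace Groth.Agent.S12459

open Groth.Agent.Lib.helper16.IrrSub Groth.Agent.Lib.helper16.PosetCat Groth.Agent.Lib.helper16.CatSch

theorem backward (S : Scheme.{u})
    (h : ∀ s : S, CAlg.IsUniversallyCatenary (S.presheaf.stalk s))
    (X : Scheme.{u}) (f : X ⟶ S) [LocallyOfFiniteType f] : PtTop.IsCatenarySpace X := by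
  rw [Groth.Agent.S12446.result X]
  intro x
  letI : Algebra (S.presheaf.stalk (f x)) (X.presheaf.stalk x) := (f.stalkMap x).hom.toAlgebra
  haveI : Algebra.EssFiniteType (S.presheaf.stalk (f x)) (X.presheaf.stalk x) :=
    LocallyOfFiniteType.stalkMap f x
  have hUC := Groth.Agent.S9126.result (S.presheaf.stalk (f x)) (X.presheaf.stalk x) (h (f x))
  exact hUC.2 (X.presheaf.stalk x) inferInstance

theorem forward (S : Scheme.{u}) [IsLocallyNoetherian S]
    (h : ∀ (X : Scheme.{u}) (f : X ⟶ S), LocallyOfFiniteType f → PtTop.IsCatenarySpace X) (s : S) :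
    CAlg.IsUniversallyCatenary (S.presheaf.stalk s) := by
  obtain ⟨U, hU, hsU, -⟩ := exists_isAffineOpen_mem_and_subset (X := S) (x := s) (U := ⊤) trivial
  haveI : IsNoetherianRing Γ(S, U) := IsLocallyNoetherian.component_noetherian ⟨U, hU⟩
  have hA : CAlg.IsUniversallyCatenary Γ(S, U) := by
    refine ⟨inferInstance, fun B _ _ hB => ?_⟩
    rw [← isCatenarySpace_primeSpectrum_iff]
    let f : Spec (CommRingCat.of B) ⟶ S :=
      Spec.map (CommRingCat.ofHom (algebraMap Γ(S, U) B)) ≫ hU.fromSpec
    haveI : LocallyOfFiniteType (Spec.map (CommRingCat.ofHom (algebraMap Γ(S, U) B))) := by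
      rw [HasRingHomProperty.Spec_iff (P := @LocallyOfFiniteType)]
      exact RingHom.finiteType_algebraMap.mpr hB
    exact h (Spec (CommRingCat.of B)) f inferInstance
  letI := S.presheaf.algebra_section_stalk (⟨s, hsU⟩ : U)
  haveI := hU.isLocalization_stalk ⟨s, hsU⟩
  haveI : Algebra.EssFiniteType Γ(S, U) (S.presheaf.stalk s) :=
    Algebra.EssFiniteType.of_isLocalization _ (hU.primeIdealOf ⟨s, hsU⟩).asIdeal.primeCompl
  exact Groth.Agent.S9126.result Γ(S, U) (S.presheaf.stalk s) hA

theorem result' (S : Scheme.{u}) [IsLocallyNoetherian S] :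
    (∀ (X : Scheme.{u}) (f : X ⟶ S), LocallyOfFiniteType f → PtTop.IsCatenarySpace X) ↔
      ∀ s : S, CAlg.IsUniversallyCatenary (S.presheaf.stalk s) :=
  ⟨fun h s => forward S h s, fun h X f hf => by haveI := hf; exact backward S h X f⟩



/-- For a locally Noetherian scheme S, the scheme S is universally catenary — every scheme X locally of
finite type over S has catenary underlying topological space — if and only if all local rings
O_{S,s} are universally catenary rings. (Schemes X over S are taken in the universe of S.) -/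
theorem result (S : Scheme.{u}) [IsLocallyNoetherian S] :
    (∀ (X : Scheme.{u}) (f : X ⟶ S), LocallyOfFiniteType f → PtTop.IsCatenarySpace X) ↔
      ∀ s : S, CAlg.IsUniversallyCatenary (S.presheaf.stalk s) := by
  exact Groth.Agent.S12459.result' S

end Groth.Agent.S12459
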