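import Groth.Statements.S12460
import Mathlib

set_option autoImplicit false
universe u
open CategoryTheory AlgebraicGeometry
open Props

namespace Groth.Agent.S12460

theorem reg_iff {Y : Scheme.{u}} {V : Y.Opens} (hV : IsAffineOpen V) (y : V) :
    IsRegularLocalRing (Y.presheaf.stalk y.1) ↔ hV.primeIdealOf y ∈ EGA4.regLocus Γ(Y, V) := by
  letI := TopCat.Presheaf.algebra_section_stalk Y.presheaf y
  haveI := hV.isLocalization_stalk y
  let e : Y.presheaf.stalk y.1 ≃ₐ[Γ(Y, V)] Localization.AtPrime (hV.primeIdealOf y).asIdeal :=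
    IsLocalization.algEquiv (hV.primeIdealOf y).asIdeal.primeCompl _ _
  constructor
  · intro h
    exact IsRegularLocalRing.of_ringEquiv e.toRingEquiv
  · intro h
    haveI : IsRegularLocalRing (Localization.AtPrime (hV.primeIdealOf y).asIdeal) := h
    exact IsRegularLocalRing.of_ringEquiv e.symm.toRingEquiv

theorem reg_open_on {Y : Scheme.{u}} {V : Y.Opens} (hV : IsAffineOpen V)
    (h : IsOpen (EGA4.regLocus Γ(Y, V))) :
    IsOpen ({y : Y | IsRegularLocalRing (Y.presheaf.stalk y)} ∩ (V : Set Y)) := by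
  have h1 : IsOpen ((fun y : V => hV.primeIdealOf y) ⁻¹' EGA4.regLocus Γ(Y, V)) :=
    h.preimage hV.isoSpec.hom.continuous
  have h2 := h1.trans V.2
  convert h2 using 1
  ext y
  constructor
  · rintro ⟨hy, hyV⟩
    exact ⟨⟨y, hyV⟩, (reg_iff hV ⟨y, hyV⟩).mp hy, rfl⟩
  · rintro ⟨⟨y', hy'⟩, hmem, rfl⟩
    exact ⟨(reg_iff hV ⟨y', hy'⟩).mpr hmem, hy'⟩

theorem reg_spec_iff (S : Type u) [CommRing S] (p : PrimeSpectrum S) :
    IsRegularLocalRing ((Spec (CommRingCat.of S)).presheaf.stalk p) ↔ p ∈ EGA4.regLocus S := by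
  letI : Algebra S ((Spec (CommRingCat.of S)).presheaf.stalk p) :=
    StructureSheaf.stalkAlgebra (R := S) p
  haveI : IsLocalization.AtPrime ((Spec (CommRingCat.of S)).presheaf.stalk p) p.asIdeal :=
    StructureSheaf.IsLocalization.to_stalk (R := S) p
  let e : (Spec (CommRingCat.of S)).presheaf.stalk p ≃ₐ[S] Localization.AtPrime p.asIdeal :=
    IsLocalization.algEquiv p.asIdeal.primeCompl _ _
  constructor
  · intro h
    exact IsRegularLocalRing.of_ringEquiv e.toRingEquiv
  · intro h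
    haveI : IsRegularLocalRing (Localization.AtPrime p.asIdeal) := h
    exact IsRegularLocalRing.of_ringEquiv e.symm.toRingEquiv

/-- (1) ⇔ (3) ⇔ (4): let X be a locally Noetherian scheme. Then X is J-2 — for every morphism Y → X
locally of finite type the set of points y with O_{Y,y} a regular local ring is open in Y — if and
only if for every affine open U of X the ring Γ(X, U) is J-2 (every finite type algebra over it has
open regular locus), if and only if every point of X lies in such an affine open. (Schemes Y over X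
are taken in the universe of X.) -/
theorem result (X : Scheme.{u}) [IsLocallyNoetherian X] :
    ((∀ (Y : Scheme.{u}) (g : Y ⟶ X), LocallyOfFiniteType g →
        IsOpen {y : Y | IsRegularLocalRing (Y.presheaf.stalk y)}) ↔
      ∀ U : X.affineOpens, EGA4.IsJ2 Γ(X, U)) ∧
    ((∀ (Y : Scheme.{u}) (g : Y ⟶ X), LocallyOfFiniteType g →
        IsOpen {y : Y | IsRegularLocalRing (Y.presheaf.stalk y)}) ↔
      ∀ x : X, ∃ U : X.affineOpens, x ∈ (U : X.Opens) ∧ EGA4.IsJ2 Γ(X, U)) := by
  have h13 : (∀ (Y : Scheme.{u}) (g : Y ⟶ X), LocallyOfFiniteType g →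
        IsOpen {y : Y | IsRegularLocalRing (Y.presheaf.stalk y)}) →
      ∀ U : X.affineOpens, EGA4.IsJ2 Γ(X, U) := by
    intro H U S _ _ hS
    have hft : (algebraMap Γ(X, U) S).FiniteType := by
      rw [RingHom.finiteType_algebraMap]; exact hS
    have hl1 : LocallyOfFiniteType (Spec.map (CommRingCat.ofHom (algebraMap Γ(X, U) S))) :=
      (HasRingHomProperty.Spec_iff (P := @LocallyOfFiniteType)).mpr hft
    have := H (Spec (CommRingCat.of S))
      (Spec.map (CommRingCat.ofHom (algebraMap Γ(X, U) S)) ≫ U.2.fromSpec) inferInstance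
    have heq : EGA4.regLocus S = {y : Spec (CommRingCat.of S) |
        IsRegularLocalRing ((Spec (CommRingCat.of S)).presheaf.stalk y)} := by
      ext p
      exact (reg_spec_iff S p).symm
    rw [heq]
    exact this
  have h34 : (∀ U : X.affineOpens, EGA4.IsJ2 Γ(X, U)) →
      ∀ x : X, ∃ U : X.affineOpens, x ∈ (U : X.Opens) ∧ EGA4.IsJ2 Γ(X, U) := by
    intro H x
    obtain ⟨W, hW1, hW2, -⟩ :=
      exists_isAffineOpen_mem_and_subset (TopologicalSpace.Opens.mem_top x)
    exact ⟨⟨W, hW1⟩, hW2, H ⟨W, hW1⟩⟩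
  have h41 : (∀ x : X, ∃ U : X.affineOpens, x ∈ (U : X.Opens) ∧ EGA4.IsJ2 Γ(X, U)) →
      ∀ (Y : Scheme.{u}) (g : Y ⟶ X), LocallyOfFiniteType g →
        IsOpen {y : Y | IsRegularLocalRing (Y.presheaf.stalk y)} := by
    intro H Y g hg
    rw [isOpen_iff_forall_mem_open]
    intro y hy
    obtain ⟨U, hxU, hJ⟩ := H (g y)
    obtain ⟨V, hV1, hV2, hV3⟩ :=
      exists_isAffineOpen_mem_and_subset (U := g ⁻¹ᵁ (U : X.Opens)) (x := y) hxU
    have hft : (g.appLE U V hV3).hom.FiniteType :=
      HasRingHomProperty.appLE (P := @LocallyOfFiniteType) g hg U ⟨V, hV1⟩ hV3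
    algebraize [(g.appLE U V hV3).hom]
    have hopen : IsOpen (EGA4.regLocus Γ(Y, V)) := hJ Γ(Y, V) inferInstance
    exact ⟨_, Set.inter_subset_left, reg_open_on hV1 hopen, hy, hV2⟩
  exact ⟨⟨h13, fun h => h41 (h34 h)⟩, ⟨fun h => h34 (h13 h), h41⟩⟩

end Groth.Agent.S12460
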