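import Groth.Statements.S12462
import Groth.Agent.Lib.Helper9.SpectralHochster

set_option autoImplicit false
universe u
open CategoryTheory CategoryTheory.Limits
open SpecSp

namespace Groth.Agent.S12462

/-- A spectral space is a directed inverse limit of finite sober topological spaces. Precisely: for X
spectral there exist a nonempty directed preordered index set J, a functor from the opposite of J to
topological spaces whose values are finite sober (T0, every irreducible closed subset has a generic
point) spaces, and a limit cone of it whose vertex is isomorphic to X. -/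
theorem result (X : Type u) [TopologicalSpace X] [SpectralSpace X] :
    ∃ (J : Type u) (_ : Preorder J) (_ : Nonempty J) (_ : IsDirected J (· ≤ ·)) (F : Jᵒᵖ ⥤ TopCat.{u})
      (c : Cone F), Nonempty (IsLimit c) ∧
        (∀ j : Jᵒᵖ, Finite (F.obj j) ∧ T0Space (F.obj j) ∧ QuasiSober (F.obj j)) ∧
        Nonempty (c.pt ≅ TopCat.of X) := by
  classical
  refine ⟨Finset (Groth.Agent.Lib.helper9.CO X), inferInstance, ⟨∅⟩,
    ⟨fun S T => ⟨S ∪ T, Finset.subset_union_left, Finset.subset_union_right⟩⟩,
    Groth.Agent.Lib.helper9.finQuot (X := X),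
    TopCat.limitCone.{u, u} (Groth.Agent.Lib.helper9.finQuot (X := X)),
    ⟨TopCat.limitConeIsLimit.{u, u} _⟩, ?_, ?_⟩
  · intro S
    haveI : Finite ↥(Set.range (Groth.Agent.Lib.helper9.memMap (X := X) S.unop)) :=
      (Groth.Agent.Lib.helper9.finite_range_memMap S.unop).to_subtype
    refine ⟨this, ?_, ?_⟩
    · exact inferInstanceAs
        (T0Space ↥(Set.range (Groth.Agent.Lib.helper9.memMap (X := X) S.unop)))
    · exact Groth.Agent.Lib.helper9.quasiSober_of_finite
        ↥(Set.range (Groth.Agent.Lib.helper9.memMap (X := X) S.unop))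
  · exact ⟨(TopCat.isoOfHomeo (Groth.Agent.Lib.helper9.homeoLim (X := X))).symm⟩

end Groth.Agent.S12462
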