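import Groth.Statements.S12463
import Mathlib
import Groth.Agent.Lib.Helper17.Wedge

set_option autoImplicit false
set_option linter.style.haveILetI false
universe u
open Variety

namespace Groth.Agent.S12463

/-- Let (A, m) be a strictly henselian reduced Nagata local ring of dimension one with δ-invariant equal
to the number of geometric branches minus one, and A' the integral closure of A in its total ring of
fractions. Then A is a wedge of discrete valuation rings: for every maximal ideal m' of A' the
localization A'_{m'} is a discrete valuation ring whose residue field is the image of A, and A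
consists exactly of the elements of A' congruent to an element of A modulo every maximal ideal of A'
(the displayed inclusion; the reverse inclusion is trivial). (The inequality δ ≥ branches − 1 of the
published statement holds for every reduced Nagata local ring of dimension one and is not restated.) -/
theorem result (A : Type u) [CommRing A] [HenselianLocalRing A]
    [IsSepClosed (IsLocalRing.ResidueField A)] [IsReduced A] (hN : CAlg.IsNagata A) (hdim : ringKrullDim A = 1)
    (heq : Curv2.deltaInv A + 1 = Brnch.numGeomBranches A) :
    (∀ m' : MaximalSpectrum ↥(integralClosure A (FractionRing A)),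
        (∃ _ : IsDomain (Localization.AtPrime m'.asIdeal), IsDiscreteValuationRing (Localization.AtPrime m'.asIdeal)) ∧
        Function.Surjective (⇑(IsLocalRing.residue (Localization.AtPrime m'.asIdeal)) ∘
          ⇑(algebraMap ↥(integralClosure A (FractionRing A)) (Localization.AtPrime m'.asIdeal)) ∘
          ⇑(algebraMap A ↥(integralClosure A (FractionRing A))))) ∧
    ∀ a' : ↥(integralClosure A (FractionRing A)),
      (∃ a : A, ∀ m' : MaximalSpectrum ↥(integralClosure A (FractionRing A)),
          a' - algebraMap A _ a ∈ m'.asIdeal) →
      a' ∈ (algebraMap A ↥(integralClosure A (FractionRing A))).range := by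
  classical
  haveI hnoeth : IsNoetherianRing A := hN.1
  haveI hfin : Module.Finite A (integralClosure A (FractionRing A)) := by
    apply Groth.Agent.Lib.helper26.TotalFrac.finite_integralClosure
    intro p hp
    have hpr : p.IsPrime := hp.1.1
    exact hN.2 p (FractionRing (A ⧸ p)) inferInstance
  haveI : Finite (MaximalSpectrum (integralClosure A (FractionRing A))) :=
    Groth.Agent.Lib.helper16.IntegralFree.finite_maximalSpectrum_of_finite A _
  haveI : Fintype (MaximalSpectrum (integralClosure A (FractionRing A))) := Fintype.ofFinite _
  have hfinmin : (minimalPrimes A).Finite := minimalPrimes.finite_of_isNoetherianRing A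
  have hover : ∀ (i : MaximalSpectrum (integralClosure A (FractionRing A))),
      ∀ a ∈ IsLocalRing.maximalIdeal A,
        algebraMap A (integralClosure A (FractionRing A)) a ∈ i.asIdeal := by
    intro i a ha
    haveI := i.isMaximal
    have hcomap : i.asIdeal.comap (algebraMap A (integralClosure A (FractionRing A))) =
        IsLocalRing.maximalIdeal A :=
      IsLocalRing.eq_maximalIdeal (Ideal.isMaximal_comap_of_isIntegral_of_isMaximal i.asIdeal)
    rw [← hcomap] at ha
    exact ha
  obtain ⟨-, h2⟩ := Groth.Agent.Lib.helper17.Wedge.card_le_length_add_one
    (fun i : MaximalSpectrum (integralClosure A (FractionRing A)) => i.asIdeal)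
    (fun i => i.isMaximal) (fun i j h => MaximalSpectrum.ext h) hover
  have hge : Module.length A (↥(integralClosure A (FractionRing A)) ⧸
      LinearMap.range (Algebra.linearMap A ↥(integralClosure A (FractionRing A)))) + 1 ≤
      (Fintype.card (MaximalSpectrum (integralClosure A (FractionRing A))) : ℕ∞) := by
    have h3 := Groth.Agent.Lib.helper17.Wedge.numGeomBranches_le_card' A hfinmin
    rw [← heq, ENat.card_eq_coe_fintype_card] at h3
    exact h3
  obtain ⟨hs, hw⟩ := h2 hge
  refine ⟨fun m' => ⟨?_, ?_⟩, hw⟩
  · haveI := m'.isMaximal
    exact Groth.Agent.Lib.helper17.Wedge.isDVR_atPrime_integralClosure A hdim m'.asIdeal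
  · haveI := m'.isMaximal
    intro y
    let e := IsLocalization.AtPrime.equivQuotMaximalIdeal m'.asIdeal
      (Localization.AtPrime m'.asIdeal)
    obtain ⟨a, ha⟩ := hs m' (e.symm y)
    refine ⟨a, ?_⟩
    have h4 : e ((Ideal.Quotient.mk m'.asIdeal).comp
        (algebraMap A (integralClosure A (FractionRing A))) a) = y := by
      rw [ha, RingEquiv.apply_symm_apply]
    rw [← h4]
    rfl

end Groth.Agent.S12463
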