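import Groth.Statements.S12464
-- import your own Groth.Agent.* helpers here

set_option autoImplicit false
universe v' u' u
open CategoryTheory AlgebraicGeometry
open BigSite

namespace Groth.Agent.S12464


set_option linter.unusedSimpArgs false in
open CategoryTheory.Limits in
/-- Beck–Chevalley isomorphism of functors `Over S' ⥤ Over T` for a cartesian square. -/
noncomputable def bcIso {S T S' T' : Scheme.{u}} (f : T ⟶ S) (g : S' ⟶ S) (g' : T' ⟶ T) (f' : T' ⟶ S')
    (hsq : IsPullback g' f' f g) :
    Over.map g ⋙ Over.pullback f ≅ Over.pullback f' ⋙ Over.map g' :=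
  NatIso.ofComponents
    (fun U => Over.isoMk
      { hom := pullback.lift (pullback.fst _ _)
          (hsq.lift (pullback.snd _ _) (pullback.fst _ _ ≫ U.hom) (by
            have := pullback.condition (f := (U.hom ≫ g)) (g := f)
            simpa using this.symm)) (by simp)
        inv := pullback.lift (pullback.fst _ _) (pullback.snd _ _ ≫ g') (by
            have := pullback.condition (f := U.hom) (g := f')
            simp only [Over.map_obj_hom, Category.assoc]
            rw [reassoc_of% this, hsq.w])
        hom_inv_id := by
          apply pullback.hom_ext <;>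
            simp [pullback.lift_fst, pullback.lift_fst_assoc, pullback.lift_snd,
              pullback.lift_snd_assoc]
        inv_hom_id := by
          apply pullback.hom_ext
          · simp [pullback.lift_fst, pullback.lift_fst_assoc, pullback.lift_snd,
              pullback.lift_snd_assoc]
          · apply hsq.hom_ext
            · simp [pullback.lift_fst, pullback.lift_fst_assoc, pullback.lift_snd,
                pullback.lift_snd_assoc]
            · simp [pullback.lift_fst, pullback.lift_fst_assoc, pullback.lift_snd,
                pullback.lift_snd_assoc, pullback.condition] }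
      (by simp [pullback.lift_fst, pullback.lift_fst_assoc, pullback.lift_snd,
                pullback.lift_snd_assoc]))
    (by
      intro U V m
      ext
      apply pullback.hom_ext
      · simp [pullback.lift_fst, pullback.lift_fst_assoc, pullback.lift_snd,
                pullback.lift_snd_assoc]
      · apply hsq.hom_ext
        · simp [pullback.lift_fst, pullback.lift_fst_assoc, pullback.lift_snd,
                pullback.lift_snd_assoc]
        · simp [pullback.lift_fst, pullback.lift_fst_assoc, pullback.lift_snd,
                pullback.lift_snd_assoc, pullback.condition])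


/-- The base change isomorphism for an arbitrary precoverage. -/
noncomputable def bcSheafIso (K : Precoverage Scheme.{u}) {S T S' T' : Scheme.{u}} (f : T ⟶ S) (g : S' ⟶ S)
    (g' : T' ⟶ T) (f' : T' ⟶ S') (hsq : IsPullback g' f' f g)
    (A : Type u') [Category.{v'} A] :
    BigSite.pushBig K f A ⋙ BigSite.pullBig K g A ≅
        BigSite.pullBig K g' A ⋙ BigSite.pushBig K f' A :=
  letI : (Over.map g ⋙ Over.pullback f).IsContinuous (QuotSh.J K S') (QuotSh.J K T) :=
    Functor.isContinuous_comp (Over.map g) (Over.pullback f) (QuotSh.J K S') (QuotSh.J K S)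
      (QuotSh.J K T)
  (Functor.sheafPushforwardContinuousComp' (F := Over.map g) (G := Over.pullback f)
      (Iso.refl _) A (QuotSh.J K S') (QuotSh.J K S) (QuotSh.J K T)) ≪≫
    (Functor.sheafPushforwardContinuousComp' (F := Over.pullback f') (G := Over.map g')
      (bcIso f g g' f' hsq).symm A (QuotSh.J K S') (QuotSh.J K T') (QuotSh.J K T)).symm

/-- Let g' : T' → T, f' : T' → S', f : T → S, g : S' → S be a cartesian square of schemes. Then g_big⁻¹
∘ f_big,* ≅ f'_big,* ∘ g'_big⁻¹ as functors from sheaves on Sch/T to sheaves on Sch/S', both for the
big Zariski sites and for the big étale sites. (Existence of natural isomorphisms; the published one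
sends both sides to U' ↦ F(U' ×_{S'} T').) -/
theorem result {S T S' T' : Scheme.{u}} (f : T ⟶ S) (g : S' ⟶ S) (g' : T' ⟶ T) (f' : T' ⟶ S') (hsq : IsPullback g' f' f g)
    (A : Type u') [Category.{v'} A] :
    Nonempty (BigSite.pushBig Scheme.zariskiPrecoverage f A ⋙ BigSite.pullBig Scheme.zariskiPrecoverage g A ≅
        BigSite.pullBig Scheme.zariskiPrecoverage g' A ⋙ BigSite.pushBig Scheme.zariskiPrecoverage f' A) ∧
      Nonempty (BigSite.pushBig Scheme.etalePrecoverage f A ⋙ BigSite.pullBig Scheme.etalePrecoverage g A ≅
        BigSite.pullBig Scheme.etalePrecoverage g' A ⋙ BigSite.pushBig Scheme.etalePrecoverage f' A) := by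
  exact ⟨⟨bcSheafIso _ f g g' f' hsq A⟩, ⟨bcSheafIso _ f g g' f' hsq A⟩⟩

end Groth.Agent.S12464
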