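import Groth.Statements.S12469
import Groth.Agent.Lib.Helper28.SegreMain
import Groth.Agent.Lib.Helper28.VAmpleIso
import Groth.Agent.Lib.Lead.ModTensor
import Groth.Agent.Lib.Helper25.PullTensorIso
import Groth.Agent.Lib.Helper12.InvDual2
import Groth.Agent.Lib.Helper12.TensorPowAdd
import Groth.Agent.Lib.Helper11.InvMod
-- import your own Groth.Agent.* helpers here

set_option autoImplicit false
universe u
open CategoryTheory CategoryTheory.Limits AlgebraicGeometry TopologicalSpace Opposite
open scoped HomogeneousIdeal
open EGA2

namespace Groth.Agent.S12469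

/-- Let q : X → Y be a morphism of schemes, L an invertible O_X-module and K an invertible O_Y-module.
Then L is very ample relative to q (isomorphic to the inverse image of O(1) along a Y-immersion of X
into the projective bundle P(E) of a quasi-coherent O_Y-module E) if and only if L ⊗ q^*K is. -/
theorem result {X Y : Scheme.{u}} (q : X ⟶ Y) (L : X.Modules)
    (hL : PicF.IsInvertible L) (K : Y.Modules) (hK : PicF.IsInvertible K) :
    RelProj.IsRelVeryAmple q L ↔
      RelProj.IsRelVeryAmple q (CohB1.tensorMod L ((Scheme.Modules.pullback q).obj K)) := by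
  have hKq : K.IsQuasicoherent :=
    Groth.Agent.Lib.helper12.AmpleBasis.isQuasicoherent_of_isInvertible hK
  have hqK : PicF.IsInvertible ((Scheme.Modules.pullback q).obj K) :=
    Groth.Agent.Lib.helper11.InvMod.isInvertible_pullback q hK
  constructor
  · intro hva
    exact Groth.Agent.Lib.helper28.SegreMain.isRelVeryAmple_tensor_of_epi q L
      ((Scheme.Modules.pullback q).obj K) hL hqK hva K (𝟙 _) inferInstance
  · intro hva
    obtain ⟨K', hK', ⟨e⟩, -⟩ := Groth.Agent.Lib.helper12.InvDual.exists_inverse hK
    have hK'q : K'.IsQuasicoherent :=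
      Groth.Agent.Lib.helper12.AmpleBasis.isQuasicoherent_of_isInvertible hK'
    have hqK' : PicF.IsInvertible ((Scheme.Modules.pullback q).obj K') :=
      Groth.Agent.Lib.helper11.InvMod.isInvertible_pullback q hK'
    have h1 := Groth.Agent.Lib.helper28.SegreMain.isRelVeryAmple_tensor_of_epi q
      (CohB1.tensorMod L ((Scheme.Modules.pullback q).obj K))
      ((Scheme.Modules.pullback q).obj K')
      (Groth.Agent.Lib.helper12.TensorInv.isInvertible_tensorMod hL hqK) hqK' hva K' (𝟙 _)
      inferInstance
    refine Groth.Agent.Lib.helper28.VAmpleIso.isRelVeryAmple_of_iso ?_ h1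
    exact Groth.Agent.Lib.helper12.TensorPowAdd.assocMod L _ _ ≪≫
      Groth.Agent.Lib.Lead.ModTensor.tensorIso (Iso.refl L)
        ((Groth.Agent.Lib.Helper25.PullTensorIso.pullTensorIso q K K').symm ≪≫
          (Scheme.Modules.pullback q).mapIso e ≪≫
          Groth.Agent.Lib.helper11.InvMod.pullbackUnitIso q) ≪≫
      Groth.Agent.Lib.Lead.ModTensor.rightUnitor L

end Groth.Agent.S12469
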