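import Groth.Statements.S12472
import Groth.Agent.Lib.Helper28.CanonIso
import Groth.Agent.Lib.Helper28.SymGradedExists
import Groth.Agent.Lib.Helper28.RelProjExists
import Groth.Agent.Lib.Helper28.RelTwistExists
import Groth.Agent.Lib.Helper12.AmpleBasis
-- import your own Groth.Agent.* helpers here

set_option autoImplicit false
universe u
open CategoryTheory CategoryTheory.Limits AlgebraicGeometry TopologicalSpace Opposite
open scoped HomogeneousIdeal
open EGA2

namespace Groth.Agent.S12472

/-- Let Y be a scheme and L an invertible O_Y-module. Then L is very ample relative to the identity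
morphism of Y: there are a quasi-coherent O_Y-module E and a Y-immersion i of Y into the projective
bundle P(E) with L isomorphic to i^*O_{P(E)}(1). -/
theorem result (Y : Scheme.{u}) (L : Y.Modules) (hL : PicF.IsInvertible L) :
    RelProj.IsRelVeryAmple (𝟙 Y) L := by
  have hqc : L.IsQuasicoherent :=
    Groth.Agent.Lib.helper12.AmpleBasis.isQuasicoherent_of_isInvertible hL
  obtain ⟨𝒮, j, hj⟩ := Groth.Agent.Lib.helper28.SymGradedExists.exists_isGrSymAlg L
  obtain ⟨P, p, chart, hP⟩ := Groth.Agent.Lib.helper28.RelProjExists.exists_relProj 𝒮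
  obtain ⟨O1, lam, hO1⟩ :=
    Groth.Agent.Lib.helper28.RelTwistExists.exists_isRelTwist 𝒮 p chart hP 1
  have hiso : IsIso p :=
    Groth.Agent.Lib.helper28.SymLineProj.isIso_of_isInvertible L 𝒮 j hj p chart hP hL
  obtain ⟨φ, hφ⟩ := Groth.Agent.Lib.helper28.RelTwistCanon.exists_canon_hom lam hP hO1
    (d := 1) (by simp) L j hj.2
  have hφiso : IsIso φ :=
    Groth.Agent.Lib.helper28.CanonIso.isIso_canon L 𝒮 j hj p chart lam hO1 hL φ hφ
  refine ⟨L, hqc, 𝒮, j, hj, P, p, chart, hP, O1, lam, hO1, inv p, inferInstance,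
    IsIso.inv_hom_id p, ⟨?_⟩⟩
  exact asIso φ ≪≫ ((Groth.Agent.Lib.helper28.CanonIso.pullbackInvIso p).app O1).symm

end Groth.Agent.S12472
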