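import Groth.Statements.S12473
import Groth.Agent.Lib.Helper28.CompSegFinal
import Groth.Agent.Lib.Helper28.CompSegReduce
import Groth.Agent.Lib.Helper28.CompSegStep
import Groth.Agent.Lib.Helper12.PullTensor
-- import your own Groth.Agent.* helpers here

set_option autoImplicit false
universe u
open CategoryTheory CategoryTheory.Limits AlgebraicGeometry TopologicalSpace Opposite
open scoped HomogeneousIdeal
open EGA2

namespace Groth.Agent.S12473

/-- `(L ⊗ f^*(K^n)) ⊗ f^*K ≅ L ⊗ f^*(K^{n+1})`. -/
noncomputable def stepIso {X Y : Scheme.{u}} (f : X ⟶ Y) (L : X.Modules) (K : Y.Modules)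
    (hK : PicF.IsInvertible K) (n : ℕ) :
    CohB1.tensorMod (CohB1.tensorMod L ((Scheme.Modules.pullback f).obj (CohB1.tensorPow K n)))
      ((Scheme.Modules.pullback f).obj K) ≅
    CohB1.tensorMod L ((Scheme.Modules.pullback f).obj (CohB1.tensorPow K (n + 1))) :=
  Groth.Agent.Lib.helper12.TensorPowAdd.assocMod L _ _ ≪≫
    Groth.Agent.Lib.Lead.ModTensor.tensorIso (Iso.refl L)
      (Groth.Agent.Lib.helper12.PullTensor.pullTensorIso f (CohB1.tensorPow K n) K hK).symm

/-- The case of an affine base `Z`: composite Segre (`exists_veryAmple_pow`) gives one level `k`,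
and the step lemma (EGA II 4.4.8) climbs from `n` to `n + 1`. -/
theorem affine_case {X Y Z : Scheme.{u}} [IsAffine Z] (f : X ⟶ Y) [QuasiCompact f]
    [LocallyOfFiniteType f] (g : Y ⟶ Z) [QuasiCompact g] (L : X.Modules)
    (hL : PicF.IsInvertible L) (hLva : RelProj.IsRelVeryAmple f L) (K : Y.Modules)
    (hK : PicF.IsInvertible K) (hKva : RelProj.IsRelVeryAmple g K) :
    ∃ n₀ : ℕ, 0 < n₀ ∧ ∀ n : ℕ, n₀ ≤ n → RelProj.IsRelVeryAmple (f ≫ g)
      (CohB1.tensorMod L ((Scheme.Modules.pullback f).obj (CohB1.tensorPow K n))) := by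
  obtain ⟨k, hk, hva⟩ :=
    Groth.Agent.Lib.helper28.CompSeg.exists_veryAmple_pow f g L hL hLva K hK hKva
  refine ⟨k, hk, fun n hn => ?_⟩
  induction n, hn using Nat.le_induction with
  | base => exact hva
  | succ n hn ih =>
    have hM : PicF.IsInvertible
        (CohB1.tensorMod L ((Scheme.Modules.pullback f).obj (CohB1.tensorPow K n))) :=
      Groth.Agent.Lib.helper12.TensorInv.isInvertible_tensorMod hL
        (Groth.Agent.Lib.helper11.InvMod.isInvertible_pullback f
          (Groth.Agent.Lib.helper12.TensorInv.isInvertible_tensorPow hK n))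
    have h1 := Groth.Agent.Lib.helper28.CompSeg.isRelVeryAmple_tensor_pullback f g _ hM ih K hK hKva
    exact Groth.Agent.Lib.helper28.VAmpleIso.isRelVeryAmple_of_iso (stepIso f L K hK n) h1

/-- Let Z be a quasi-compact scheme, f : X → Y a morphism of finite type, g : Y → Z a quasi-compact
morphism, L an invertible O_X-module which is very ample relative to f and K an invertible
O_Y-module which is very ample relative to g (each isomorphic to the inverse image of O(1) along an
immersion, over the base, into the projective bundle of a quasi-coherent module on the base). Then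
there is an integer n₀ > 0 such that for every n ≥ n₀ the module L ⊗ f^*(K^{⊗n}) is very ample
relative to the composite X → Y → Z. -/
theorem result {X Y Z : Scheme.{u}} [CompactSpace Z] (f : X ⟶ Y)
    [QuasiCompact f] [LocallyOfFiniteType f] (g : Y ⟶ Z) [QuasiCompact g]
    (L : X.Modules) (hL : PicF.IsInvertible L) (hLva : RelProj.IsRelVeryAmple f L)
    (K : Y.Modules) (hK : PicF.IsInvertible K) (hKva : RelProj.IsRelVeryAmple g K) :
    ∃ n₀ : ℕ, 0 < n₀ ∧ ∀ n : ℕ, n₀ ≤ n →
      RelProj.IsRelVeryAmple (f ≫ g)
        (CohB1.tensorMod L ((Scheme.Modules.pullback f).obj (CohB1.tensorPow K n))) :=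
  Groth.Agent.Lib.helper28.CompSeg.reduce_to_affine
    (fun f _ _ g _ L hL hLva K hK hKva => affine_case f g L hL hLva K hK hKva)
    f g L hL hLva K hK hKva

end Groth.Agent.S12473
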