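import Groth.Statements.S12477
import Groth.Agent.Lib.Helper28.ProjBundleQuot2
import Groth.Agent.Lib.Helper28.ProjBundleSum
import Groth.Agent.Lib.Helper28.ModCoprod
import Groth.Agent.Lib.Helper7.QCohProd
-- import your own Groth.Agent.* helpers here

set_option autoImplicit false
universe u
open CategoryTheory CategoryTheory.Limits AlgebraicGeometry TopologicalSpace Opposite
open scoped HomogeneousIdeal
open EGA2

namespace Groth.Agent.S12477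

open Groth.Agent.Lib.helper28 in
theorem coprod_aux {X X' Y : Scheme.{u}} (f'' : X ⨿ X' ⟶ Y) (L'' : (X ⨿ X').Modules)
    (h₁ : RelProj.IsRelVeryAmple (coprod.inl ≫ f'')
      ((Scheme.Modules.pullback (coprod.inl : X ⟶ X ⨿ X')).obj L''))
    (h₂ : RelProj.IsRelVeryAmple (coprod.inr ≫ f'')
      ((Scheme.Modules.pullback (coprod.inr : X' ⟶ X ⨿ X')).obj L'')) :
    RelProj.IsRelVeryAmple f'' L'' := by
  obtain ⟨E₁, hE₁, 𝒮₁, j₁, hj₁, P₁, p₁, chart₁, hP₁, O₁, lam₁, hO₁, i₁, hi₁, hip₁, ⟨e₁⟩⟩ := h₁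
  obtain ⟨E₂, hE₂, 𝒮₂, j₂, hj₂, P₂, p₂, chart₂, hP₂, O₂, lam₂, hO₂, i₂, hi₂, hip₂, ⟨e₂⟩⟩ := h₂
  have hq₁ : E₁.IsQuasicoherent := hE₁
  have hq₂ : E₂.IsQuasicoherent := hE₂
  have hq : (E₁ ⊞ E₂).IsQuasicoherent :=
    Groth.Agent.Lib.helper7.QCohProd.isQuasicoherent_biprod E₁ E₂ hq₁ hq₂
  have hA := SymAlg.isSymAlg (E₁ ⊞ E₂)
  obtain ⟨P, p, chart, hP⟩ := RelProjExists.exists_relProj
    (SymGradedExists.grAlg (E₁ ⊞ E₂) _ _ hA)
  obtain ⟨O1, lam, hO1⟩ := RelTwistExists.exists_isRelTwist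
    (SymGradedExists.grAlg (E₁ ⊞ E₂) _ _ hA) p chart hP 1
  have hT := SymGradedExists.isGrSymAlg (E₁ ⊞ E₂) _ _ hA
  have h𝒮₁ := ProjBundleQuot.isGenDegOne_of_isGrSymAlg E₁ 𝒮₁ j₁ hj₁
  have h𝒮₂ := ProjBundleQuot.isGenDegOne_of_isGrSymAlg E₂ 𝒮₂ j₂ hj₂
  obtain ⟨π₁, hπ₁, hgr₁, hirr₁, g₁, hg₁, hcl₁, hover₁, ⟨t₁⟩⟩ :=
    ProjBundleQuot.exists_relProjMap_pullback_iso 𝒮₁ h𝒮₁ (E₁ ⊞ E₂) _ _ hA (biprod.fst ≫ j₁)
      (fun U hU x => hj₁.2 U hU _) (fun U hU s hs => by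
        obtain ⟨y, hy⟩ := ProjBundleQuot.exists_of_mem_deg_one E₁ 𝒮₁ j₁ hj₁ U hU s hs
        refine ⟨(biprod.inl : E₁ ⟶ E₁ ⊞ E₂).app U y, ?_⟩
        have h : (biprod.inl : E₁ ⟶ E₁ ⊞ E₂) ≫ biprod.fst ≫ j₁ = j₁ := by
          rw [biprod.inl_fst_assoc]
        exact (congrArg (fun k : E₁ ⟶ 𝒮₁.toModule => (k.app U).hom y) h).trans hy)
      p₁ chart₁ hP₁ O₁ lam₁ hO₁ p chart hP O1 lam hO1
  obtain ⟨π₂, hπ₂, hgr₂, hirr₂, g₂, hg₂, hcl₂, hover₂, ⟨t₂⟩⟩ :=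
    ProjBundleQuot.exists_relProjMap_pullback_iso 𝒮₂ h𝒮₂ (E₁ ⊞ E₂) _ _ hA (biprod.snd ≫ j₂)
      (fun U hU x => hj₂.2 U hU _) (fun U hU s hs => by
        obtain ⟨y, hy⟩ := ProjBundleQuot.exists_of_mem_deg_one E₂ 𝒮₂ j₂ hj₂ U hU s hs
        refine ⟨(biprod.inr : E₂ ⟶ E₁ ⊞ E₂).app U y, ?_⟩
        have h : (biprod.inr : E₂ ⟶ E₁ ⊞ E₂) ≫ biprod.snd ≫ j₂ = j₂ := by
          rw [biprod.inr_snd_assoc]
        exact (congrArg (fun k : E₂ ⟶ 𝒮₂.toModule => (k.app U).hom y) h).trans hy)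
      p₂ chart₂ hP₂ O₂ lam₂ hO₂ p chart hP O1 lam hO1
  have hcl : IsClosedImmersion (coprod.desc g₁ g₂) :=
    ProjBundleSum.isClosedImmersion_coprodDesc E₁ E₂ 𝒮₁ 𝒮₂
      (SymGradedExists.grAlg (E₁ ⊞ E₂) _ _ hA) j₁ hj₁ j₂ hj₂ _ hT π₁ hgr₁ hπ₁ π₂ hgr₂ hπ₂
      hirr₁ hirr₂ p p₁ p₂ chart chart₁ chart₂ hP hP₁ hP₂ g₁ hg₁ g₂ hg₂
  have him : IsImmersion (coprod.map i₁ i₂) :=
    IsZariskiLocalAtTarget.coprodMap (P := @IsImmersion) i₁ i₂ hi₁ hi₂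
  have hinl : coprod.inl ≫ (coprod.map i₁ i₂ ≫ coprod.desc g₁ g₂) = i₁ ≫ g₁ := by
    rw [coprod.inl_map_assoc, coprod.inl_desc]
  have hinr : coprod.inr ≫ (coprod.map i₁ i₂ ≫ coprod.desc g₁ g₂) = i₂ ≫ g₂ := by
    rw [coprod.inr_map_assoc, coprod.inr_desc]
  have hi''p : (coprod.map i₁ i₂ ≫ coprod.desc g₁ g₂) ≫ p = f'' := by
    apply coprod.hom_ext
    · rw [← Category.assoc, hinl, Category.assoc, hover₁, hip₁]
    · rw [← Category.assoc, hinr, Category.assoc, hover₂, hip₂]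
  refine ⟨E₁ ⊞ E₂, hq, SymGradedExists.grAlg (E₁ ⊞ E₂) _ _ hA, _, hT, P, p, chart, hP, O1, lam,
    hO1, coprod.map i₁ i₂ ≫ coprod.desc g₁ g₂, inferInstance, hi''p, ?_⟩
  refine ModCoprod.nonempty_iso_of_pullback L''
    ((Scheme.Modules.pullback (coprod.map i₁ i₂ ≫ coprod.desc g₁ g₂)).obj O1) ?_ ?_
  · exact e₁ ≪≫ (Scheme.Modules.pullback i₁).mapIso t₁.symm ≪≫
      (Scheme.Modules.pullbackComp i₁ g₁).app O1 ≪≫
      (Scheme.Modules.pullbackCongr hinl.symm).app O1 ≪≫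
      ((Scheme.Modules.pullbackComp coprod.inl (coprod.map i₁ i₂ ≫ coprod.desc g₁ g₂)).app O1).symm
  · exact e₂ ≪≫ (Scheme.Modules.pullback i₂).mapIso t₂.symm ≪≫
      (Scheme.Modules.pullbackComp i₂ g₂).app O1 ≪≫
      (Scheme.Modules.pullbackCongr hinr.symm).app O1 ≪≫
      ((Scheme.Modules.pullbackComp coprod.inr (coprod.map i₁ i₂ ≫ coprod.desc g₁ g₂)).app O1).symm

/-- Let X and X' be schemes with disjoint union X ⨿ X', let f'' : X ⨿ X' → Y be a morphism (given by a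
morphism f on X and a morphism f' on X') and L'' an invertible module on X ⨿ X' (given by an
invertible O_X-module L and an invertible O_{X'}-module L'). Then L'' is very ample relative to f''
(isomorphic to the inverse image of O(1) along a Y-immersion of X into the projective bundle P(E) of
a quasi-coherent O_Y-module E) if and only if L, the inverse image of L'' on X, is very ample
relative to f and L', the inverse image of L'' on X', is very ample relative to f'. -/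
theorem result {X X' Y : Scheme.{u}} (f'' : X ⨿ X' ⟶ Y) (L'' : (X ⨿ X').Modules)
    (hL'' : PicF.IsInvertible L'') :
    RelProj.IsRelVeryAmple f'' L'' ↔
      RelProj.IsRelVeryAmple (coprod.inl ≫ f'') ((Scheme.Modules.pullback (coprod.inl : X ⟶ X ⨿ X')).obj L'') ∧
        RelProj.IsRelVeryAmple (coprod.inr ≫ f'') ((Scheme.Modules.pullback (coprod.inr : X' ⟶ X ⨿ X')).obj L'') := by
  constructor
  · rintro ⟨E, hE, 𝒮, j, hj, P, p, chart, hP, O1, lam, hO1, i, hi, hip, ⟨e⟩⟩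
    refine ⟨⟨E, hE, 𝒮, j, hj, P, p, chart, hP, O1, lam, hO1, coprod.inl ≫ i, inferInstance,
      by rw [Category.assoc, hip], ⟨?_⟩⟩, ⟨E, hE, 𝒮, j, hj, P, p, chart, hP, O1, lam, hO1,
      coprod.inr ≫ i, inferInstance, by rw [Category.assoc, hip], ⟨?_⟩⟩⟩
    · exact (Scheme.Modules.pullback coprod.inl).mapIso e ≪≫
        (Scheme.Modules.pullbackComp coprod.inl i).app O1
    · exact (Scheme.Modules.pullback coprod.inr).mapIso e ≪≫
        (Scheme.Modules.pullbackComp coprod.inr i).app O1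
  · rintro ⟨h₁, h₂⟩
    exact coprod_aux f'' L'' h₁ h₂

end Groth.Agent.S12477
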