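import Groth.Statements.S12479
import Groth.Agent.Lib.Helper28.VAmpleSec2
import Groth.Agent.Lib.Helper28.VAmpleSec3
import Groth.Agent.Lib.Helper12.AmpleSep
-- import your own Groth.Agent.* helpers here

set_option autoImplicit false
universe u
open CategoryTheory CategoryTheory.Limits AlgebraicGeometry TopologicalSpace Opposite
open scoped HomogeneousIdeal
open EGA2

namespace Groth.Agent.S12479

/-- Let Y be a quasi-compact scheme, f : X → Y a morphism of finite type, L an invertible O_X-module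
which is ample relative to f and L' an invertible O_X-module. Then there is an integer n₀ such that
for every n ≥ n₀ the module L^{⊗n} ⊗ L' is very ample relative to f (isomorphic to the inverse image
of O(1) along a Y-immersion of X into the projective bundle P(E) of a quasi-coherent O_Y-module E). -/
theorem result {X Y : Scheme.{u}} [CompactSpace Y] (f : X ⟶ Y)
    [QuasiCompact f] [LocallyOfFiniteType f] (L L' : X.Modules) (hL : PicF.IsInvertible L) (hL' : PicF.IsInvertible L')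
    (h : RelAmple.IsRelAmple f L) :
    ∃ n₀ : ℕ, ∀ n : ℕ, n₀ ≤ n → RelProj.IsRelVeryAmple f (CohB1.tensorMod (CohB1.tensorPow L n) L') := by
  have hsep : IsSeparated f := Groth.Agent.Lib.helper12.AmpleSep.isSeparated_of_isRelAmple f h
  have hXc : CompactSpace X := QuasiCompact.compactSpace_of_compactSpace f
  have hloc : ∀ x : X, ∃ (U : Y.Opens) (_ : IsAffineOpen U) (Z : X.Opens) (hZU : Z ≤ f ⁻¹ᵁ U),
      x ∈ Z ∧ IsAffineOpen Z ∧ ∃ n₀ : ℕ, ∀ n, n₀ ≤ n →
      ∃ (σ : (CohB1.tensorMod (CohB1.tensorPow L n) L').val.obj (op (f ⁻¹ᵁ U)))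
        (T : Set Γ(X, Z)),
        Z = Groth.Agent.Lib.helper28.SymLineExtend.WT (f ⁻¹ᵁ U) σ ∧
        (letI := (f.appLE U Z hZU).hom.toAlgebra; Algebra.adjoin Γ(Y, U) T = ⊤) ∧
        ∀ c ∈ T, ∃ τ : (CohB1.tensorMod (CohB1.tensorPow L n) L').val.obj (op (f ⁻¹ᵁ U)),
          Groth.Agent.Lib.helper12.TwistExtend.res (CohB1.tensorMod (CohB1.tensorPow L n) L') hZU τ =
            (c • (Groth.Agent.Lib.helper12.TwistExtend.res
              (CohB1.tensorMod (CohB1.tensorPow L n) L') hZU σ :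
              Γ(CohB1.tensorMod (CohB1.tensorPow L n) L', Z)) :
              Γ(CohB1.tensorMod (CohB1.tensorPow L n) L', Z)) := by
    intro x
    obtain ⟨U, hU, hxU, -⟩ := (Opens.isBasis_iff_nbhd.mp Y.isBasis_affineOpens)
      (show f x ∈ (⊤ : Y.Opens) from trivial)
    obtain ⟨Z, hZU, hxZ, hZaff, n₀, hn₀⟩ :=
      Groth.Agent.Lib.helper28.VAmpleSec.exists_sections_of_isAmple f L L' hL' U hU
        (h.2 ⟨U, hU⟩) x hxU
    exact ⟨U, hU, Z, hZU, hxZ, hZaff, n₀, hn₀⟩
  choose U hU Z hZU hxZ hZaff n₀ hn₀ using hloc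
  obtain ⟨F, hF⟩ := isCompact_univ.elim_finite_subcover
    (fun x => ((Z x : X.Opens) : Set X)) (fun x => (Z x).isOpen)
    (fun x _ => Set.mem_iUnion.mpr ⟨x, hxZ x⟩)
  refine ⟨F.sup n₀, fun n hn => ?_⟩
  have hM : PicF.IsInvertible (CohB1.tensorMod (CohB1.tensorPow L n) L') :=
    Groth.Agent.Lib.helper12.TensorInv.isInvertible_tensorMod
      (Groth.Agent.Lib.helper12.TensorInv.isInvertible_tensorPow hL n) hL'
  refine Groth.Agent.Lib.helper28.VAmpleSec.isRelVeryAmple_of_sections f _ hM fun y => ?_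
  obtain ⟨x, hx⟩ := Set.mem_iUnion.mp (hF (Set.mem_univ y))
  obtain ⟨hxF, hy⟩ := Set.mem_iUnion.mp hx
  obtain ⟨σ, T, hZeq, hT, hτ⟩ := hn₀ x n ((Finset.le_sup hxF).trans hn)
  exact ⟨U x, hU x, σ, Z x, hZeq, hZU x, T, hy, hZaff x, hT, hτ⟩

end Groth.Agent.S12479
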