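import Groth.Statements.S12480
import Mathlib
import Groth.Agent.Lib.Helper28.VAmpleSec2
import Groth.Agent.Lib.Helper28.SymLineSec
-- import your own Groth.Agent.* helpers here

set_option autoImplicit false
universe u
open CategoryTheory CategoryTheory.Limits AlgebraicGeometry TopologicalSpace Opposite
open scoped HomogeneousIdeal
open EGA2

namespace Groth.Agent.S12480

/-- Let X be a quasi-affine scheme and L an invertible O_X-module. Then L is very ample relative to the
canonical morphism u : X → Spec Γ(X, O_X): there are a quasi-coherent module E on that spectrum and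
an immersion i of X into the projective bundle P(E), compatible with u, with L isomorphic to
i^*O_{P(E)}(1). (The published statement adds that L is then ample; that assertion is stated
separately.) -/
theorem result (X : Scheme.{u}) [X.IsQuasiAffine] (L : X.Modules)
    (hL : PicF.IsInvertible L) : RelProj.IsRelVeryAmple X.toSpecΓ L := by
  have hqc : QuasiCompact X.toSpecΓ := inferInstance
  have hqs : QuasiSeparated X.toSpecΓ := inferInstance
  refine Groth.Agent.Lib.helper28.VAmpleSec.isRelVeryAmple_of_sections X.toSpecΓ L hL fun x => ?_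
  obtain ⟨V₀, hxV₀, hV₀⟩ := hL x
  obtain ⟨_, ⟨a, rfl⟩, hya, haV⟩ := (Opens.isBasis_iff_nbhd.mp PrimeSpectrum.isBasis_basic_opens)
    (show X.toSpecΓ x ∈ (X.toSpecΓ ''ᵁ V₀ : (Spec Γ(X, ⊤)).Opens) from ⟨x, hxV₀, rfl⟩)
  have hU : IsAffineOpen (X := Spec Γ(X, ⊤)) (PrimeSpectrum.basicOpen a) :=
    IsAffineOpen.Spec_basicOpen a
  have hUle : (show (Spec Γ(X, ⊤)).Opens from PrimeSpectrum.basicOpen a) ≤
      X.toSpecΓ.opensRange := by
    intro y hy
    obtain ⟨v, -, hv⟩ := haV hy
    exact ⟨v, hv⟩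
  have hWV₀ : X.toSpecΓ ⁻¹ᵁ (show (Spec Γ(X, ⊤)).Opens from PrimeSpectrum.basicOpen a) ≤ V₀ := by
    intro w hw
    obtain ⟨v, hvV, hv⟩ := haV hw
    have : v = w := X.toSpecΓ.isOpenEmbedding.injective hv
    rw [← this]
    exact hvV
  have hWaff := hU.preimage_of_isOpenImmersion X.toSpecΓ hUle
  obtain ⟨e⟩ := Groth.Agent.Lib.helper11.InvMod.IsTrivOn.of_le hWV₀ hV₀
  obtain ⟨σ, hσ⟩ := Groth.Agent.Lib.helper28.SymLineSec.exists_secHom_eq L
    (X.toSpecΓ ⁻¹ᵁ (show (Spec Γ(X, ⊤)).Opens from PrimeSpectrum.basicOpen a)) e.inv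
  have hgl : CohB1.genLocus _ (Groth.Agent.Lib.helper28.SymLineGenLocus.secHom L
      (X.toSpecΓ ⁻¹ᵁ (show (Spec Γ(X, ⊤)).Opens from PrimeSpectrum.basicOpen a)) σ) = ⊤ := by
    rw [Groth.Agent.Lib.helper11.IsoLocus.genLocus_eq_top_iff, hσ]
    infer_instance
  refine ⟨PrimeSpectrum.basicOpen a, hU, σ, _, ?_, le_rfl, ∅, hya, hWaff, ?_, ?_⟩
  · unfold Groth.Agent.Lib.helper28.SymLineExtend.WT
    rw [hgl]
    exact (Scheme.Opens.ι_image_top _).symm
  · let _ := (X.toSpecΓ.appLE (show (Spec Γ(X, ⊤)).Opens from PrimeSpectrum.basicOpen a)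
      (X.toSpecΓ ⁻¹ᵁ (show (Spec Γ(X, ⊤)).Opens from PrimeSpectrum.basicOpen a)) le_rfl).hom.toAlgebra
    rw [Algebra.adjoin_empty]
    refine (Algebra.surjective_algebraMap_iff.mp ?_).symm
    have hiso : IsIso (X.toSpecΓ.app
        (show (Spec Γ(X, ⊤)).Opens from PrimeSpectrum.basicOpen a)) :=
      X.toSpecΓ.isIso_app _ hUle
    have hbij := (ConcreteCategory.isIso_iff_bijective _).mp hiso
    have heq : X.toSpecΓ.appLE (show (Spec Γ(X, ⊤)).Opens from PrimeSpectrum.basicOpen a)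
        (X.toSpecΓ ⁻¹ᵁ (show (Spec Γ(X, ⊤)).Opens from PrimeSpectrum.basicOpen a)) le_rfl =
        X.toSpecΓ.app (show (Spec Γ(X, ⊤)).Opens from PrimeSpectrum.basicOpen a) :=
      Scheme.Hom.appLE_eq_app _
    change Function.Surjective (X.toSpecΓ.appLE _ _ le_rfl).hom
    rw [heq]
    exact hbij.2
  · intro c hc
    exact absurd hc (Set.notMem_empty c)

end Groth.Agent.S12480
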