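import Groth.Statements.S12482
import Mathlib.Algebra.BigOperators.Fin
import Mathlib.LinearAlgebra.Basis.Basic
import Mathlib.LinearAlgebra.LinearIndependent.Lemmas
import Mathlib.Tactic.Ring
import Mathlib.Tactic.LinearCombination
-- import your own Groth.Agent.* helpers here

set_option autoImplicit false
universe u
open Dual

namespace Groth.Agent.S12482


open RingTheory.Sequence in
theorem ofList_ofFn {A : Type*} [CommRing A] {p : ℕ} (x : Fin p → A) :
    Ideal.ofList (List.ofFn x) = Ideal.span (Set.range x) := by
  unfold Ideal.ofList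
  congr 1
  ext r
  simp [List.mem_ofFn]

open RingTheory.Sequence in
/-- Relations among a weakly regular sequence have coefficients in the ideal. -/
theorem key (A : Type u) [CommRing A] : ∀ (p : ℕ) (x : Fin p → A),
    IsWeaklyRegular A (List.ofFn x) → ∀ c : Fin p → A, ∑ i, c i * x i = 0 →
      ∀ i, c i ∈ Ideal.span (Set.range x) := by
  intro p
  induction p with
  | zero => intro x _ c _ i; exact i.elim0
  | succ p ih =>
    intro x hreg c hc
    set x' : Fin p → A := fun i => x i.castSucc with hx'
    set r : A := x (Fin.last p) with hr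
    have hlist : List.ofFn x = List.ofFn x' ++ [r] := by
      rw [List.ofFn_succ', List.concat_eq_append]
    rw [hlist, isWeaklyRegular_append_iff, isWeaklyRegular_singleton_iff, ofList_ofFn] at hreg
    obtain ⟨hreg', hlast⟩ := hreg
    set J' : Ideal A := Ideal.span (Set.range x') with hJ'
    have hJ'le : J' ≤ Ideal.span (Set.range x) := by
      apply Ideal.span_mono
      rintro _ ⟨i, rfl⟩
      exact ⟨i.castSucc, rfl⟩
    have hrJ : r ∈ Ideal.span (Set.range x) := Ideal.subset_span ⟨Fin.last p, rfl⟩
    -- regularity of r modulo J'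
    have hregr : ∀ a : A, r * a ∈ J' → a ∈ J' := by
      intro a ha
      have h0 : r • (Submodule.Quotient.mk a : A ⧸ (J' • ⊤ : Submodule A A)) =
          r • (Submodule.Quotient.mk 0 : A ⧸ (J' • ⊤ : Submodule A A)) := by
        rw [← Submodule.Quotient.mk_smul, ← Submodule.Quotient.mk_smul, smul_zero,
          Submodule.Quotient.mk_zero, Submodule.Quotient.mk_eq_zero, smul_eq_mul, Ideal.mul_top]
        exact ha
      have h1 := hlast h0
      rw [Submodule.Quotient.mk_zero, Submodule.Quotient.mk_eq_zero, smul_eq_mul,
        Ideal.mul_top] at h1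
      exact h1
    rw [Fin.sum_univ_castSucc] at hc
    have hclast : c (Fin.last p) ∈ J' := by
      apply hregr
      have : r * c (Fin.last p) = -∑ i : Fin p, c i.castSucc * x' i := by
        linear_combination hc
      rw [this]
      apply neg_mem
      apply Ideal.sum_mem
      intro i _
      exact Ideal.mul_mem_left _ _ (Ideal.subset_span ⟨i, rfl⟩)
    obtain ⟨d, hd⟩ := (Ideal.mem_span_range_iff_exists_fun).mp hclast
    have hsum : ∑ i : Fin p, (c i.castSucc + d i * r) * x' i = 0 := by
      have : ∑ i : Fin p, (c i.castSucc + d i * r) * x' i =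
          ∑ i : Fin p, c i.castSucc * x' i + r * ∑ i : Fin p, d i * x' i := by
        rw [Finset.mul_sum, ← Finset.sum_add_distrib]
        apply Finset.sum_congr rfl
        intro i _
        ring
      rw [this, hd]
      linear_combination hc
    have hih := ih x' hreg' _ hsum
    intro i
    refine Fin.lastCases ?_ (fun j => ?_) i
    · exact hJ'le hclast
    · have h1 : c j.castSucc + d j * r ∈ Ideal.span (Set.range x) := hJ'le (hih j)
      have h2 : d j * r ∈ Ideal.span (Set.range x) := Ideal.mul_mem_left _ _ hrJ
      have : c j.castSucc = (c j.castSucc + d j * r) - d j * r := by ring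
      rw [this]
      exact Ideal.sub_mem _ h1 h2

/-- Let `A` be a commutative ring, `x_1, …, x_p` a sequence of elements of `A` such that each `x_i` is a
non-zero-divisor on `A/(x_1, …, x_{i-1})`, and `J` the ideal generated by the `x_i`. Then `J/J²` is
a free `(A/J)`-module with basis the classes of the `x_i`: there is a basis of `J/J²` over `A/J`,
indexed by `1, …, p`, whose `i`-th vector is the class of `x_i`. (The other assertions of the
published statement, on the Koszul complex and on Ext and Tor against `A/J`, are stated separately.) -/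
theorem result (A : Type u) [CommRing A] (p : ℕ) (x : Fin p → A)
    (hreg : RingTheory.Sequence.IsWeaklyRegular A (List.ofFn x)) :
    ∃ b : Module.Basis (Fin p) (A ⧸ Ideal.span (Set.range x)) (Ideal.span (Set.range x)).Cotangent,
      ∀ i, b i = (Ideal.span (Set.range x)).toCotangent ⟨x i, Ideal.subset_span (Set.mem_range_self i)⟩ := by
  classical
  set J : Ideal A := Ideal.span (Set.range x) with hJ
  let xJ : Fin p → J := fun i => ⟨x i, Ideal.subset_span (Set.mem_range_self i)⟩
  let v : Fin p → J.Cotangent := fun i => J.toCotangent (xJ i)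
  -- scalar compatibility
  have hsmul : ∀ (a : A) (m : J.Cotangent), (Ideal.Quotient.mk J a) • m = a • m := by
    intro a m
    exact algebraMap_smul (A ⧸ J) a m
  have hli : LinearIndependent (A ⧸ J) v := by
    rw [Fintype.linearIndependent_iff]
    intro g hg
    choose a ha using fun i => Ideal.Quotient.mk_surjective (g i)
    have h1 : J.toCotangent (∑ i, a i • xJ i) = 0 := by
      rw [map_sum, ← hg]
      apply Finset.sum_congr rfl
      intro i _
      rw [map_smul, ← ha i, hsmul]
    rw [Ideal.toCotangent_eq_zero, pow_two] at h1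
    have h2 : ((∑ i, a i • xJ i : J) : A) = ∑ i, a i * x i := by
      rw [Submodule.coe_sum]
      apply Finset.sum_congr rfl
      intro i _
      rfl
    rw [h2] at h1
    have h3 : J * J = J • Submodule.span A (Set.range x) := rfl
    rw [h3, Submodule.mem_ideal_smul_span_iff_exists_sum] at h1
    obtain ⟨b, hb, hbsum⟩ := h1
    rw [Finsupp.sum_fintype _ _ (fun i => by simp)] at hbsum
    have h4 : ∑ i, (a i - b i) * x i = 0 := by
      simp only [sub_mul, Finset.sum_sub_distrib]
      rw [sub_eq_zero, ← hbsum]
      rfl
    have h5 := key A p x hreg _ h4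
    intro i
    rw [← ha i, Ideal.Quotient.eq_zero_iff_mem]
    have : a i = (a i - b i) + b i := by ring
    rw [this]
    exact Ideal.add_mem _ (h5 i) (hb i)
  have hsp : ⊤ ≤ Submodule.span (A ⧸ J) (Set.range v) := by
    rintro m -
    obtain ⟨⟨y, hy⟩, rfl⟩ := J.toCotangent_surjective m
    obtain ⟨c, hc⟩ := (Ideal.mem_span_range_iff_exists_fun).mp hy
    have : J.toCotangent ⟨y, hy⟩ = ∑ i, (Ideal.Quotient.mk J (c i)) • v i := by
      have h1 : (⟨y, hy⟩ : J) = ∑ i, c i • xJ i := by
        apply Subtype.ext
        rw [Submodule.coe_sum]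
        exact hc.symm
      rw [h1, map_sum]
      apply Finset.sum_congr rfl
      intro i _
      rw [map_smul, hsmul]
    rw [this]
    apply Submodule.sum_mem
    intro i _
    exact Submodule.smul_mem _ _ (Submodule.subset_span ⟨i, rfl⟩)
  refine ⟨Module.Basis.mk hli hsp, fun i => ?_⟩
  rw [Module.Basis.mk_apply]

end Groth.Agent.S12482
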