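import Groth.Statements.S12483
import Mathlib
import Groth.Agent.S15520
import Groth.Agent.Lib.Helper21.ExtLocFree
import Groth.Agent.Lib.Helper21.ModGroth
-- import your own Groth.Agent.* helpers here

set_option autoImplicit false
universe u
open CategoryTheory CategoryTheory.Limits AlgebraicGeometry
open Coherent

namespace Groth.Agent.S12483

/-- Let `X` be a scheme, `A` an `O_X`-module which is finite locally free (every point has an open
neighbourhood over which `A` is isomorphic to some `O^n`) and for which the internal Hom functor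
`Hom_{O_X}(A, -)` exists (right adjoint of `A ⊗ -`), `B` any `O_X`-module and `p ≥ 0`. Then
`Ext^p_{O_X}(X; A, B)`, the Ext group computed in the category of `O_X`-modules, is isomorphic to
`H^p(X, Hom_{O_X}(A, B))`. (Existence of an isomorphism of abelian groups only; the published
isomorphisms are canonical, the edge maps of the local-to-global spectral sequence for Ext. The
published statement is for an arbitrary ringed space; this row is the case of a scheme.) -/
theorem result (X : Scheme.{u}) [HasExt.{u} X.Modules]
    (A B : X.Modules) (hA : FlatMod.IsFinLocFree A) [DCoh.HasSheafHom A] (p : ℕ) :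
    Nonempty (Abelian.Ext A B p ≃+ Coh.HH X ((DCoh.sheafHom A).obj B) p) := by
  have h1 : HasExt.{u} (ModSite.Mod X.sheaf) := ‹HasExt.{u} X.Modules›
  haveI : EnoughInjectives (ModSite.Mod X.sheaf) :=
    Groth.Agent.Lib.Helper21.ModGroth.enoughInjectives_mod (ModSite.ringSh X.sheaf)
  let A' : ModSite.Mod X.sheaf := A
  let B' : ModSite.Mod X.sheaf := B
  haveI h2 : ModSite.HasSheafHom A' := Groth.Agent.Lib.helper21.ExtShDelta.hasSheafHom X.sheaf A'
  have hM : ∀ G : ModSite.Mod X.sheaf, IsZero ((ModSite.extSh A' 1).obj G) := fun G =>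
    Groth.Agent.S15520.isZero_extSh_of_finLocFree X A G hA 1 le_rfl
  obtain ⟨e1⟩ := @Groth.Agent.Lib.helper21.ExtLocFree.ext_equiv_HC _ _ _ X.sheaf A' B' h2 _ h1 hM p
  -- compare the two internal homs
  let e : DCoh.sheafHom A ≅ ModSite.sheafHom A' :=
    conjugateIsoEquiv (DCoh.sheafHomAdj A) (ModSite.sheafHomAdj A')
      (Groth.Agent.Lib.Helper21.TensorMon.braidIso X.sheaf A').symm
  let e2 := (Abelian.extFunctorObj
    ((constantSheaf (Opens.grothendieckTopology X) AddCommGrpCat.{u}).obj (AddCommGrpCat.of (ULift ℤ))) p).mapIso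
    ((SheafOfModules.toSheaf X.ringCatSheaf).mapIso (e.app B))
  exact ⟨e1.addCommGroupIsoToAddEquiv.trans e2.symm.addCommGroupIsoToAddEquiv⟩

end Groth.Agent.S12483
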