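import Groth.Statements.S12485
import Groth.Agent.Lib.Helper28.VeryAmpleGen
import Groth.Agent.Lib.Helper16.QCAlg1
-- import your own Groth.Agent.* helpers here

set_option autoImplicit false
universe u
open CategoryTheory CategoryTheory.Limits AlgebraicGeometry TopologicalSpace Opposite
open scoped HomogeneousIdeal
open EGA2

namespace Groth.Agent.S12485

/-- Let q : X → Y be a morphism of schemes and L an invertible O_X-module. Suppose there are a
quasi-coherent graded O_Y-algebra 𝒮 generated by its degree-one part, its relative homogeneous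
spectrum p : P = Proj(𝒮) → Y (given with its charts over affine opens) with twisting sheaf O_P(1)
(given with its chart identifications), and an immersion i : X → P with i ≫ p = q such that L is
isomorphic to i^*O_P(1). Then L is very ample relative to q: there are a quasi-coherent O_Y-module E
and a Y-immersion of X into the projective bundle P(E) along which O_{P(E)}(1) pulls back to a
module isomorphic to L. -/
theorem result {X Y P : Scheme.{u}} (q : X ⟶ Y) (L : X.Modules)
    (hL : PicF.IsInvertible L) (𝒮 : RelProj.QCGrAlg Y) (h𝒮 : 𝒮.IsGenDegOne) (p : P ⟶ Y)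
    (chart : ∀ (U : Y.Opens) (hU : IsAffineOpen U), ((p ⁻¹ᵁ U : P.Opens) : Scheme.{u}) ≅ Proj (𝒮.deg U hU))
    (hP : RelProj.IsRelProj 𝒮 p chart) (O1 : P.Modules)
    (lam : ∀ (U : Y.Opens) (hU : IsAffineOpen U),
      O1 ⟶ (Scheme.Modules.pushforward (RelProj.emb p chart U hU)).obj (GrTwist.twist (𝒮.deg U hU) 1))
    (hO1 : RelProj.IsRelTwist 𝒮 p chart 1 O1 lam) (i : X ⟶ P) [IsImmersion i] (hi : i ≫ p = q)
    (e : L ≅ (Scheme.Modules.pullback i).obj O1) : RelProj.IsRelVeryAmple q L := by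
  have hqc : 𝒮.toModule.IsQuasicoherent :=
    Groth.Agent.Lib.helper16.QCAlg.isQuasicoherent_toModule 𝒮.toQCAlg
  obtain ⟨π, hπ⟩ := Groth.Agent.Lib.helper28.DegProj.exists_degProj 𝒮 1
  have hπmem : ∀ (U : Y.Opens) (hU : IsAffineOpen U) (x : Γ(𝒮.toModule, U)),
      (π.app U) x ∈ 𝒮.deg U hU 1 := by
    intro U hU x
    have h0 := hπ U hU x
    have h2 : ((DirectSum.decompose (𝒮.deg U hU) (x : 𝒮.presheaf.obj (op U)) 1 :
        𝒮.deg U hU 1) : 𝒮.presheaf.obj (op U)) ∈ 𝒮.deg U hU 1 := SetLike.coe_mem _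
    exact h0.symm ▸ h2
  have hπsame : ∀ (U : Y.Opens) (hU : IsAffineOpen U) (s : 𝒮.presheaf.obj (op U)),
      s ∈ 𝒮.deg U hU 1 → ∃ x : Γ(𝒮.toModule, U), (π.app U) x = s := by
    intro U hU s hs
    exact ⟨s, (hπ U hU s).trans (DirectSum.decompose_of_mem_same (𝒮.deg U hU) hs)⟩
  exact Groth.Agent.Lib.helper28.VeryAmpleGen.isRelVeryAmple_of_symAlg q L 𝒮 h𝒮 𝒮.toModule
    (Groth.Agent.Lib.helper28.SymAlg.symAlg 𝒮.toModule)
    (Groth.Agent.Lib.helper28.SymAlg.j 𝒮.toModule)
    (Groth.Agent.Lib.helper28.SymAlg.isSymAlg 𝒮.toModule) π hπmem hπsame p chart hP O1 lam hO1 i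
    hi e

end Groth.Agent.S12485
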