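import Groth.Statements.S12491
import Mathlib
import Groth.Agent.Lib.Helper26.ProjDimRegular
import Groth.Agent.S0564

set_option autoImplicit false
universe u
open VBPn

namespace Groth.Agent.S12491

open CategoryTheory

/-- kernel of a surjection from a projective module: projective dimension drops by one -/
lemma pd_ker {B : Type u} [CommRing B] {F Q : Type u} [AddCommGroup F] [Module B F]
    [AddCommGroup Q] [Module B Q] [Module.Projective B F] (g : F →ₗ[B] Q)
    (hg : Function.Surjective g) (n : ℕ)
    (h : HasProjectiveDimensionLE (ModuleCat.of B Q) (n + 1)) :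
    HasProjectiveDimensionLE (ModuleCat.of B (LinearMap.ker g)) n := by
  let T := g.shortComplexKer
  have T_exact := LinearMap.shortExact_shortComplexKer hg
  have proj : Projective T.X₂ := by
    show Projective (ModuleCat.of B F)
    rw [← IsProjective.iff_projective]
    infer_instance
  exact (T_exact.hasProjectiveDimensionLT_X₃_iff n proj).mp h

/-- syzygy chain: `0 → L 0 → L 1 → ⋯ → L (m+1)` exact with `L 1, …, L (m+1)` projective and the
last cokernel of projective dimension `≤ m + 1` forces `L 0` projective. -/
theorem chain {B : Type u} [CommRing B] (m : ℕ) (L : ℕ → Type u) [∀ i, AddCommGroup (L i)]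
    [∀ i, Module B (L i)] (e : ∀ i, L i →ₗ[B] L (i + 1))
    (hproj : ∀ i, 1 ≤ i → i ≤ m + 1 → Module.Projective B (L i))
    (hinj : Function.Injective (e 0))
    (hex : ∀ i, i + 1 < m + 1 → LinearMap.range (e i) = LinearMap.ker (e (i + 1)))
    (hpd : HasProjectiveDimensionLE (ModuleCat.of B (L (m + 1) ⧸ LinearMap.range (e m))) (m + 1)) :
    Module.Projective B (L 0) := by
  -- downward induction
  have key : ∀ i (hi : i ≤ m),
      HasProjectiveDimensionLE (ModuleCat.of B (L (i + 1) ⧸ LinearMap.range (e i))) (i + 1) := by
    intro i hi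
    induction hi using Nat.decreasingInduction with
    | self => exact hpd
    | of_succ i hi ih =>
      have : Module.Projective B (L (i + 1 + 1)) := hproj _ (by omega) (by omega)
      have h1 := pd_ker (LinearMap.range (e (i + 1))).mkQ (Submodule.mkQ_surjective _) (i + 1) ih
      -- ker mkQ = range (e (i+1)) ≅ L (i+1) / ker (e (i+1)) = L (i+1) / range (e i)
      have E1 : LinearMap.ker (LinearMap.range (e (i + 1))).mkQ ≃ₗ[B] LinearMap.range (e (i + 1)) :=
        LinearEquiv.ofEq _ _ (Submodule.ker_mkQ _)
      have E2 : (L (i + 1) ⧸ LinearMap.ker (e (i + 1))) ≃ₗ[B] LinearMap.range (e (i + 1)) :=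
        LinearMap.quotKerEquivRange (e (i + 1))
      have E3 : (L (i + 1) ⧸ LinearMap.range (e i)) ≃ₗ[B] (L (i + 1) ⧸ LinearMap.ker (e (i + 1))) :=
        Submodule.quotEquivOfEq _ _ (hex i (by omega))
      exact ModuleCat.hasProjectiveDimensionLE_of_linearEquiv
        (M := ModuleCat.of B (LinearMap.ker (LinearMap.range (e (i + 1))).mkQ))
        (N := ModuleCat.of B (L (i + 1) ⧸ LinearMap.range (e i)))
        (E1.trans (E2.symm.trans E3.symm)) (i + 1)
  have h0 := key 0 (Nat.zero_le m)
  have : Module.Projective B (L (0 + 1)) := hproj _ (by omega) (by omega)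
  have h1 := pd_ker (LinearMap.range (e 0)).mkQ (Submodule.mkQ_surjective _) 0 h0
  have E1 : LinearMap.ker (LinearMap.range (e 0)).mkQ ≃ₗ[B] LinearMap.range (e 0) :=
    LinearEquiv.ofEq _ _ (Submodule.ker_mkQ _)
  have E2 : L 0 ≃ₗ[B] LinearMap.range (e 0) := LinearEquiv.ofInjective (e 0) hinj
  have h2 : HasProjectiveDimensionLE (ModuleCat.of B (L 0)) 0 :=
    ModuleCat.hasProjectiveDimensionLE_of_linearEquiv
      (M := ModuleCat.of B (LinearMap.ker (LinearMap.range (e 0)).mkQ))
      (N := ModuleCat.of B (L 0)) (E1.trans E2.symm) 0
  simp only [HasProjectiveDimensionLE, zero_add] at h2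
  rw [← projective_iff_hasProjectiveDimensionLT_one, ← IsProjective.iff_projective] at h2
  exact h2

/-- Let A be a regular local ring, k ≥ 0, and N_0, N_1, … A-modules with N_0 finitely generated and N_1,
…, N_k finitely generated and free, with linear maps d_i : N_i → N_{i+1} such that d_0 is injective
and the sequence 0 → N_0 → N_1 → ⋯ → N_k is exact. Then for every prime ideal p of A of height at
most k the localization of N_0 at p is a free module over A_p. The published statement is for a
coherent analytic sheaf on a complex manifold that is locally a k-th syzygy sheaf and says its set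
of non-free stalks has codimension greater than k; this row is the statement at one stalk, over any
regular local ring. -/
theorem result (A : Type u) [CommRing A] [IsRegularLocalRing A]
    (k : ℕ) (N : ℕ → Type u) [∀ i, AddCommGroup (N i)] [∀ i, Module A (N i)] [Module.Finite A (N 0)]
    (hfree : ∀ i, 1 ≤ i → i ≤ k → Module.Free A (N i) ∧ Module.Finite A (N i))
    (d : ∀ i, N i →ₗ[A] N (i + 1)) (hinj : Function.Injective (d 0))
    (hex : ∀ i, i + 1 < k → LinearMap.range (d i) = LinearMap.ker (d (i + 1)))
    (p : Ideal A) [p.IsPrime] (hp : p.height ≤ k) :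
    Module.Free (Localization.AtPrime p) (LocalizedModule p.primeCompl (N 0)) := by
  set B := Localization.AtPrime p with hB
  have hreg : IsRegularLocalRing B := Groth.Agent.S0564.result A p
  -- dimension bound
  have hdim : ringKrullDim B = p.height := IsLocalization.AtPrime.ringKrullDim_eq_height p B
  obtain ⟨h, hh⟩ : ∃ h : ℕ, (IsLocalRing.maximalIdeal B).spanFinrank = h := ⟨_, rfl⟩
  have hhk : h ≤ k := by
    have h1 : ((IsLocalRing.maximalIdeal B).spanFinrank : WithBot ℕ∞) = ringKrullDim B :=
      hreg.spanFinrank_maximalIdeal
    rw [hh, hdim] at h1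
    have h2 : ((h : ℕ∞) : WithBot ℕ∞) = (p.height : WithBot ℕ∞) := by exact_mod_cast h1
    have h3 : (h : ℕ∞) = p.height := WithBot.coe_injective h2
    have h4 : (h : ℕ∞) ≤ (k : ℕ∞) := h3 ▸ hp
    exact_mod_cast h4
  have pdall : ∀ (M : Type u) [AddCommGroup M] [Module B M] [Module.Finite B M],
      HasProjectiveDimensionLE (ModuleCat.of B M) k := by
    intro M _ _ _
    have := Groth.Agent.Lib.helper26.PDReg.hasProjectiveDimensionLE_of_isRegularLocalRing h B hh M
    exact hasProjectiveDimensionLT_of_ge _ (h + 1) (k + 1) (by omega)
  -- localized modules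
  let S := p.primeCompl
  let L : ℕ → Type u := fun i => LocalizedModule S (N i)
  let e : ∀ i, L i →ₗ[B] L (i + 1) := fun i => LocalizedModule.map S (d i)
  have hfin0 : Module.Finite B (L 0) := Module.Finite.of_isLocalizedModule S (LocalizedModule.mkLinearMap S (N 0))
  have hproj : Module.Projective B (L 0) := by
    rcases Nat.eq_zero_or_pos k with hk0 | hkpos
    · -- k = 0
      have h2 := pdall (L 0)
      rw [hk0] at h2
      simp only [HasProjectiveDimensionLE, zero_add] at h2
      rw [← projective_iff_hasProjectiveDimensionLT_one, ← IsProjective.iff_projective] at h2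
      exact h2
    · obtain ⟨m, rfl⟩ : ∃ m, k = m + 1 := ⟨k - 1, by omega⟩
      refine chain m L e ?_ ?_ ?_ ?_
      · intro i h1 h2
        obtain ⟨hf, hfin⟩ := hfree i h1 h2
        have : Module.Free B (L i) :=
          Module.free_of_isLocalizedModule S (LocalizedModule.mkLinearMap S (N i))
        infer_instance
      · exact LocalizedModule.map_injective S (d 0) hinj
      · intro i hi
        have hexact : Function.Exact (d i) (d (i + 1)) :=
          (LinearMap.exact_iff.mpr (hex i hi).symm)
        have hloc : Function.Exact (e i) (e (i + 1)) := LocalizedModule.map_exact S _ _ hexact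
        exact (LinearMap.exact_iff.mp hloc).symm
      · obtain ⟨hf, hfin⟩ := hfree (m + 1) (by omega) le_rfl
        have : Module.Finite B (L (m + 1)) :=
          Module.Finite.of_isLocalizedModule S (LocalizedModule.mkLinearMap S (N (m + 1)))
        exact pdall _
  have : Module.Flat B (L 0) := inferInstance
  exact Module.free_of_flat_of_isLocalRing

end Groth.Agent.S12491
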