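import Groth.Statements.S1250
import Groth.Agent.Lib.Helper3.ElemDev1

set_option autoImplicit false
universe u
open FlatMor

namespace Groth.Agent.S1250

/-- Given an elementary dévissage E of N at q over p in dimension n, the following are equivalent: N_q
is flat over R; G_z is flat over R'; G_y (G viewed as a D-module) is flat over R'. Also equivalent
to each other: N becomes flat over R on some basic open D(g) ∋ q of Spec S; G becomes flat over R'
on some basic open of Spec C containing z; G as a D-module becomes flat over R' on some basic open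
of Spec D containing y. -/
theorem result {R S : Type u} [CommRing R] [CommRing S] [Algebra R S] [Algebra.FiniteType R S]
    (N : Type u) [AddCommGroup N] [Module S N] [Module R N] [IsScalarTower R S N] [Module.Finite S N]
    (p : Ideal R) [p.IsPrime] (q : Ideal S) [q.IsPrime] [q.LiesOver p] (n : ℕ) (E : FlatCA.ElemDevissage R S N p q n) :
    [FlatCA.FlatAt R q N, FlatCA.FlatAt E.R' E.z E.G, FlatCA.FlatAt E.R' E.y E.G].TFAE ∧
    [∃ g : S, g ∉ q ∧ Module.Flat R (LocalizedModule (Submonoid.powers g) N),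
     ∃ g : E.C, g ∉ E.z ∧ Module.Flat E.R' (LocalizedModule (Submonoid.powers g) E.G),
     ∃ g : E.D, g ∉ E.y ∧ Module.Flat E.R' (LocalizedModule (Submonoid.powers g) E.G)].TFAE := by
  classical
  obtain ⟨hetR, hpover, -⟩ := E.etaleR
  obtain ⟨hetS, hqover, -⟩ := E.etaleS
  haveI := hetR
  haveI := hetS
  haveI := hpover
  haveI := hqover
  haveI : Module.Flat S E.S' := inferInstance
  haveI tR'S'G : IsScalarTower E.R' E.S' E.G := IsScalarTower.of_algebraMap_smul (fun r x => by
    rw [← algebraMap_smul E.C (algebraMap E.R' E.S' r) x,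
      ← IsScalarTower.algebraMap_apply E.R' E.S' E.C, algebraMap_smul])
  haveI := E.finiteDC
  haveI : Algebra.IsIntegral E.D E.C := inferInstance
  haveI : Algebra.IsIntegral E.S' E.C := Algebra.isIntegral_of_surjective E.surjC
  have chain : ∀ (Pq : Ideal S) [Pq.IsPrime] (Q' : Ideal E.S') [Q'.IsPrime] [Q'.LiesOver Pq]
      (Z : Ideal E.C) [Z.IsPrime] [Z.LiesOver Q'],
      FlatCA.FlatAt R Pq N ↔ FlatCA.FlatAt E.R' Z E.G := fun Pq _ Q' _ _ Z _ _ =>
    (Groth.Agent.Lib.helper3.ElemDev.chain₁ E.f E.isBaseChange E.iso Pq Q').trans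
      (Groth.Agent.Lib.helper3.ElemDev.chain₂ Q' E.surjC Z)
  have h23 : FlatCA.FlatAt E.R' E.z E.G ↔ FlatCA.FlatAt E.R' E.y E.G := by
    rw [Groth.Agent.Lib.helper3.FlatAtLib.flatAt_iff_forall_liesOver (A := E.R') (B := E.D)
      (C := E.C) E.y E.G]
    constructor
    · intro h Z' _ hZ'
      exact Groth.Agent.Lib.helper3.ElemDev.flatAt_of_eq (E.uniq Z' hZ').symm h
    · intro h
      exact h E.z inferInstance
  refine ⟨?_, ?_⟩
  · tfae_have 1 ↔ 2 := chain q E.q' E.z
    tfae_have 2 ↔ 3 := h23
    tfae_finish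
  · tfae_have 1 → 2 := by
      rintro ⟨g, hg, hflat⟩
      refine ⟨algebraMap E.S' E.C (algebraMap S E.S' g), ?_, ?_⟩
      · intro hmem
        apply hg
        rw [Ideal.LiesOver.over (p := q) (P := E.q'), Ideal.under_def, Ideal.mem_comap,
          Ideal.LiesOver.over (p := E.q') (P := E.z), Ideal.under_def, Ideal.mem_comap]
        exact hmem
      · rw [Groth.Agent.Lib.helper3.FlatAtLib.flat_away_iff] at hflat ⊢
        intro Z _ hZ
        let Q' : Ideal E.S' := Z.comap (algebraMap E.S' E.C)
        haveI : Q'.IsPrime := Ideal.comap_isPrime _ _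
        let Pq : Ideal S := Q'.comap (algebraMap S E.S')
        haveI : Pq.IsPrime := Ideal.comap_isPrime _ _
        haveI : Z.LiesOver Q' := ⟨rfl⟩
        haveI : Q'.LiesOver Pq := ⟨rfl⟩
        exact (chain Pq Q' Z).mp (hflat Pq (fun h => hZ h))
    tfae_have 2 → 1 := by
      rintro ⟨g', hg', hflat⟩
      obtain ⟨g₁, rfl⟩ := E.surjC g'
      rw [Groth.Agent.Lib.helper3.FlatAtLib.flat_away_iff] at hflat
      haveI : Algebra.HasGoingDown S E.S' := inferInstance
      haveI : Algebra.FinitePresentation S E.S' := inferInstance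
      have hopen := PrimeSpectrum.isOpenMap_comap_of_hasGoingDown_of_finitePresentation
        (R := S) (S := E.S') _ (PrimeSpectrum.basicOpen g₁).isOpen
      have hg₁q' : g₁ ∉ E.q' := by
        intro hmem
        apply hg'
        have := hmem
        rw [Ideal.LiesOver.over (p := E.q') (P := E.z), Ideal.under_def, Ideal.mem_comap] at this
        exact this
      have hq_mem : (⟨q, inferInstance⟩ : PrimeSpectrum S) ∈
          PrimeSpectrum.comap (algebraMap S E.S') '' (PrimeSpectrum.basicOpen g₁ : Set _) :=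
        ⟨⟨E.q', inferInstance⟩, hg₁q', PrimeSpectrum.ext (hqover.over).symm⟩
      obtain ⟨_, ⟨g, rfl⟩, hqg, hsub⟩ :=
        PrimeSpectrum.isTopologicalBasis_basic_opens.exists_subset_of_mem_open hq_mem hopen
      refine ⟨g, hqg, ?_⟩
      rw [Groth.Agent.Lib.helper3.FlatAtLib.flat_away_iff]
      intro Pq _ hPq
      obtain ⟨Q'pt, hQ'g₁, hQ'eq⟩ := hsub (show (⟨Pq, inferInstance⟩ : PrimeSpectrum S) ∈
        (PrimeSpectrum.basicOpen g : Set _) from hPq)
      haveI : Q'pt.asIdeal.LiesOver Pq := ⟨(congrArg PrimeSpectrum.asIdeal hQ'eq).symm⟩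
      rw [Groth.Agent.Lib.helper3.ElemDev.chain₁ (R := R) (R' := E.R') E.f E.isBaseChange E.iso Pq Q'pt.asIdeal]
      apply Groth.Agent.Lib.helper3.FlatAtLib.flatAt_of_forall_liesOver (A := E.R') (B := E.S')
        (C := E.C) Q'pt.asIdeal E.G
      intro Z _ hZ
      apply hflat Z
      intro hmem
      apply hQ'g₁
      show g₁ ∈ Q'pt.asIdeal
      rw [hZ.over]
      exact hmem
    tfae_have 3 → 2 := by
      rintro ⟨g'', hg'', hflat⟩
      refine ⟨algebraMap E.D E.C g'', ?_, ?_⟩
      · intro hmem
        apply hg''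
        rw [Ideal.LiesOver.over (p := E.y) (P := E.z), Ideal.under_def, Ideal.mem_comap]
        exact hmem
      · rw [Groth.Agent.Lib.helper3.FlatAtLib.flat_away_iff] at hflat ⊢
        intro Z _ hZ
        let Y : Ideal E.D := Z.comap (algebraMap E.D E.C)
        haveI : Y.IsPrime := Ideal.comap_isPrime _ _
        haveI : Z.LiesOver Y := ⟨rfl⟩
        exact Groth.Agent.Lib.helper3.FlatAtLib.flatAt_of_flatAt_under (A := E.R') (B := E.D)
          (C := E.C) Y E.G Z (hflat Y (fun h => hZ h))
    tfae_have 2 → 3 := by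
      rintro ⟨g', hg', hflat⟩
      rw [Groth.Agent.Lib.helper3.FlatAtLib.flat_away_iff] at hflat
      have hint : (algebraMap E.D E.C).IsIntegral := algebraMap_isIntegral_iff.mpr inferInstance
      have hclosed := PrimeSpectrum.isClosedMap_comap_of_isIntegral (algebraMap E.D E.C) hint
        _ (PrimeSpectrum.isClosed_zeroLocus ({g'} : Set E.C))
      have hy_mem : (⟨E.y, inferInstance⟩ : PrimeSpectrum E.D) ∈
          (PrimeSpectrum.comap (algebraMap E.D E.C) '' PrimeSpectrum.zeroLocus ({g'} : Set E.C))ᶜ := by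
        rintro ⟨Zpt, hZg, hZy⟩
        have hover : Zpt.asIdeal.LiesOver E.y := ⟨(congrArg PrimeSpectrum.asIdeal hZy).symm⟩
        have := E.uniq Zpt.asIdeal hover
        apply hg'
        rw [← this]
        exact hZg (Set.mem_singleton g')
      obtain ⟨_, ⟨g'', rfl⟩, hyg, hsub⟩ :=
        PrimeSpectrum.isTopologicalBasis_basic_opens.exists_subset_of_mem_open hy_mem
          hclosed.isOpen_compl
      refine ⟨g'', hyg, ?_⟩
      rw [Groth.Agent.Lib.helper3.FlatAtLib.flat_away_iff]
      intro Y _ hY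
      apply Groth.Agent.Lib.helper3.FlatAtLib.flatAt_of_forall_liesOver (A := E.R') (B := E.D)
        (C := E.C) Y E.G
      intro Z _ hZ
      apply hflat Z
      intro hmem
      have h1 : (⟨Y, inferInstance⟩ : PrimeSpectrum E.D) ∈
          (PrimeSpectrum.comap (algebraMap E.D E.C) '' PrimeSpectrum.zeroLocus ({g'} : Set E.C))ᶜ :=
        hsub (show (⟨Y, inferInstance⟩ : PrimeSpectrum E.D) ∈
          (PrimeSpectrum.basicOpen g'' : Set _) from hY)
      apply h1
      refine ⟨⟨Z, inferInstance⟩, ?_, PrimeSpectrum.ext hZ.over.symm⟩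
      intro x hx
      rw [Set.mem_singleton_iff] at hx
      subst hx
      exact hmem
    tfae_finish

end Groth.Agent.S1250
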