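import Groth.Statements.S1251
import Groth.Agent.Lib.Helper3.FpLoc5

set_option autoImplicit false
universe u
open FlatMor

namespace Groth.Agent.S1251

open Groth.Agent.Lib.helper3 Groth.Agent.Lib.helper3.FpLoc TensorProduct
set_option linter.style.haveILetI false

/-- Given an elementary dévissage E of N at q over p in dimension n, with S of finite presentation over
R: the finite map D → C is of finite presentation; the following are equivalent: N_q is a finitely
presented S_q-module; G_z is a finitely presented C_z-module; G_y is a finitely presented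
D_y-module. Also equivalent to each other: N is finitely presented on some basic open of Spec S
containing q; G is finitely presented on some basic open of Spec C containing z; G as a D-module is
finitely presented on some basic open of Spec D containing y. -/
theorem result {R S : Type u} [CommRing R] [CommRing S] [Algebra R S] [Algebra.FinitePresentation R S]
    (N : Type u) [AddCommGroup N] [Module S N] [Module R N] [IsScalarTower R S N] [Module.Finite S N]
    (p : Ideal R) [p.IsPrime] (q : Ideal S) [q.IsPrime] [q.LiesOver p] (n : ℕ) (E : FlatCA.ElemDevissage R S N p q n) :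
    Algebra.FinitePresentation E.D E.C ∧
    [Module.FinitePresentation (Localization.AtPrime q) (LocalizedModule q.primeCompl N),
     Module.FinitePresentation (Localization.AtPrime E.z) (LocalizedModule E.z.primeCompl E.G),
     Module.FinitePresentation (Localization.AtPrime E.y) (LocalizedModule E.y.primeCompl E.G)].TFAE ∧
    [∃ g : S, g ∉ q ∧ Module.FinitePresentation (Localization.Away g) (LocalizedModule (Submonoid.powers g) N),
     ∃ g : E.C, g ∉ E.z ∧ Module.FinitePresentation (Localization.Away g) (LocalizedModule (Submonoid.powers g) E.G),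
     ∃ g : E.D, g ∉ E.y ∧ Module.FinitePresentation (Localization.Away g) (LocalizedModule (Submonoid.powers g) E.G)].TFAE := by
  classical
  obtain ⟨hetR, hpover, -⟩ := E.etaleR
  obtain ⟨hetS, hqover, -⟩ := E.etaleS
  haveI := hetR
  haveI := hetS
  haveI := hpover
  haveI := hqover
  haveI : Module.Flat S E.S' := inferInstance
  haveI := E.finiteDC
  haveI := E.fpC
  haveI : Algebra.IsIntegral E.D E.C := inferInstance
  -- (0) `C` is finitely presented over `D`
  haveI smD : Algebra.Smooth E.R' E.D := by
    haveI : AlgebraicGeometry.SmoothOfRelativeDimension n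
        (AlgebraicGeometry.Spec.map (CommRingCat.ofHom (algebraMap E.R' E.D))) := E.smooth
    have h1 : AlgebraicGeometry.Smooth
        (AlgebraicGeometry.Spec.map (CommRingCat.ofHom (algebraMap E.R' E.D))) :=
      AlgebraicGeometry.SmoothOfRelativeDimension.smooth n _
    have h2 := (AlgebraicGeometry.HasRingHomProperty.Spec_iff
      (P := @AlgebraicGeometry.Smooth)).mp h1
    exact RingHom.smooth_algebraMap.mp h2
  haveI fpDC : Algebra.FinitePresentation E.D E.C := by
    haveI : Algebra.FinitePresentation S E.S' := inferInstance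
    haveI : Algebra.FinitePresentation R E.S' := Algebra.FinitePresentation.trans R S E.S'
    haveI : Algebra.FinitePresentation R E.R' := inferInstance
    haveI : Algebra.FinitePresentation E.R' E.S' :=
      Algebra.FinitePresentation.of_restrict_scalars_finitePresentation R E.R' E.S'
    haveI : Algebra.FinitePresentation E.R' E.C := Algebra.FinitePresentation.trans E.R' E.S' E.C
    haveI : Algebra.FinitePresentation E.R' E.D := inferInstance
    exact Algebra.FinitePresentation.of_restrict_scalars_finitePresentation E.R' E.D E.C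
  haveI finS'C : Module.Finite E.S' E.C :=
    Module.Finite.of_surjective (Algebra.linearMap E.S' E.C) E.surjC
  haveI fpS'C : Module.FinitePresentation E.S' E.C :=
    Module.FinitePresentation.of_finite_of_finitePresentation _ _
  haveI fpDCm : Module.FinitePresentation E.D E.C :=
    Module.FinitePresentation.of_finite_of_finitePresentation _ _
  have hZq' : ∀ x : E.C, x ∉ E.z →
      ∃ m : E.C, m * x ∈ Algebra.algebraMapSubmonoid E.C E.q'.primeCompl := by
    intro x hx
    obtain ⟨s, rfl⟩ := E.surjC x
    refine ⟨1, s, ?_, by simp⟩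
    intro hs
    apply hx
    have hover : E.q' = E.z.comap (algebraMap E.S' E.C) :=
      Ideal.LiesOver.over (p := E.q') (P := E.z)
    have hs' : s ∈ E.q' := hs
    rw [hover] at hs'
    exact hs'
  have hZy : ∀ x : E.C, x ∉ E.z →
      ∃ m : E.C, m * x ∈ Algebra.algebraMapSubmonoid E.C E.y.primeCompl := by
    intro x hx
    by_contra hcon
    push Not at hcon
    have hIP : (Ideal.span {x}).comap (algebraMap E.D E.C) ≤ E.y := by
      intro d hd
      by_contra hdy
      obtain ⟨m, hm⟩ := Ideal.mem_span_singleton'.mp (Ideal.mem_comap.mp hd)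
      exact hcon m ⟨d, hdy, hm.symm⟩
    obtain ⟨Q, hQI, hQp, hQy⟩ :=
      Ideal.exists_ideal_over_prime_of_isIntegral E.y (Ideal.span {x}) hIP
    have hQz := E.uniq Q ⟨hQy.symm⟩
    exact hx (hQz ▸ hQI (Ideal.mem_span_singleton_self x))
  refine ⟨fpDC, ?_, ?_⟩
  · have h12 : Module.FinitePresentation (Localization.AtPrime q) (LocalizedModule q.primeCompl N) ↔
        Module.FinitePresentation (Localization.AtPrime E.z)
          (LocalizedModule E.z.primeCompl E.G) := by
      constructor
      · intro h
        have h1 := fp_prime_bc_up E.f E.isBaseChange q E.q' h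
        have h2 := (fp_congr E.q'.primeCompl E.iso).mp h1
        exact fp_prime_up E.G E.q' E.z hZq' h2
      · intro h
        have h2 := fp_prime_down E.G E.q' E.z hZq' h
        have h1 := (fp_congr E.q'.primeCompl E.iso).mpr h2
        exact fp_prime_bc_down E.f E.isBaseChange q E.q' h1
    have h23 : Module.FinitePresentation (Localization.AtPrime E.z)
          (LocalizedModule E.z.primeCompl E.G) ↔
        Module.FinitePresentation (Localization.AtPrime E.y)
          (LocalizedModule E.y.primeCompl E.G) :=
      ⟨fun h => fp_prime_down E.G E.y E.z hZy h, fun h => fp_prime_up E.G E.y E.z hZy h⟩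
    tfae_have 1 ↔ 2 := h12
    tfae_have 2 ↔ 3 := h23
    tfae_finish
  · tfae_have 1 → 2 := by
      rintro ⟨g, hg, hfp⟩
      refine ⟨algebraMap E.S' E.C (algebraMap S E.S' g), ?_, ?_⟩
      · intro hmem
        apply hg
        rw [Ideal.LiesOver.over (p := q) (P := E.q'), Ideal.under_def, Ideal.mem_comap,
          Ideal.LiesOver.over (p := E.q') (P := E.z), Ideal.under_def, Ideal.mem_comap]
        exact hmem
      · have h1 := fp_away_bc_up E.f E.isBaseChange g hfp
        have h2 := (fp_congr (Submonoid.powers (algebraMap S E.S' g)) E.iso).mp h1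
        exact fp_away_up E.G (algebraMap S E.S' g) h2
    tfae_have 2 → 1 := by
      rintro ⟨g', hg', hfp⟩
      obtain ⟨g₁, rfl⟩ := E.surjC g'
      have h2 := fp_away_down E.G g₁ hfp
      have h1 := (fp_congr (Submonoid.powers g₁) E.iso).mpr h2
      haveI : Algebra.HasGoingDown S E.S' := inferInstance
      haveI : Algebra.FinitePresentation S E.S' := inferInstance
      have hopen := PrimeSpectrum.isOpenMap_comap_of_hasGoingDown_of_finitePresentation
        (R := S) (S := E.S') _ (PrimeSpectrum.basicOpen g₁).isOpen
      have hg₁q' : g₁ ∉ E.q' := by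
        intro hmem
        apply hg'
        have := hmem
        rw [Ideal.LiesOver.over (p := E.q') (P := E.z), Ideal.under_def, Ideal.mem_comap] at this
        exact this
      have hq_mem : (⟨q, inferInstance⟩ : PrimeSpectrum S) ∈
          PrimeSpectrum.comap (algebraMap S E.S') '' (PrimeSpectrum.basicOpen g₁ : Set _) :=
        ⟨⟨E.q', inferInstance⟩, hg₁q', PrimeSpectrum.ext (hqover.over).symm⟩
      obtain ⟨_, ⟨g, rfl⟩, hqg, hsub⟩ :=
        PrimeSpectrum.isTopologicalBasis_basic_opens.exists_subset_of_mem_open hq_mem hopen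
      refine ⟨g, hqg, ?_⟩
      have h3 := fp_away_mul (M := E.N') g₁ (algebraMap S E.S' g) h1
      refine fp_away_bc_down E.f E.isBaseChange g (g₁ * algebraMap S E.S' g)
        (Dvd.intro_left _ rfl) ?_ h3
      intro P hP hgP
      obtain ⟨Q'pt, hQ'g₁, hQ'eq⟩ := hsub (show (⟨P, hP⟩ : PrimeSpectrum S) ∈
        (PrimeSpectrum.basicOpen g : Set _) from hgP)
      have hQP : Q'pt.asIdeal.comap (algebraMap S E.S') = P :=
        congrArg PrimeSpectrum.asIdeal hQ'eq
      refine ⟨Q'pt.asIdeal, Q'pt.isPrime, ?_, hQP⟩
      intro hmem
      rcases Q'pt.isPrime.mem_or_mem hmem with h | h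
      · exact hQ'g₁ h
      · apply hgP
        rw [← hQP]
        exact h
    tfae_have 3 → 2 := by
      rintro ⟨g'', hg'', hfp⟩
      refine ⟨algebraMap E.D E.C g'', ?_, fp_away_up E.G g'' hfp⟩
      intro hmem
      apply hg''
      rw [Ideal.LiesOver.over (p := E.y) (P := E.z), Ideal.under_def, Ideal.mem_comap]
      exact hmem
    tfae_have 2 → 3 := by
      rintro ⟨g', hg', hfp⟩
      have hint : (algebraMap E.D E.C).IsIntegral := algebraMap_isIntegral_iff.mpr inferInstance
      have hclosed := PrimeSpectrum.isClosedMap_comap_of_isIntegral (algebraMap E.D E.C) hint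
        _ (PrimeSpectrum.isClosed_zeroLocus ({g'} : Set E.C))
      have hy_mem : (⟨E.y, inferInstance⟩ : PrimeSpectrum E.D) ∈
          (PrimeSpectrum.comap (algebraMap E.D E.C) '' PrimeSpectrum.zeroLocus ({g'} : Set E.C))ᶜ := by
        rintro ⟨Zpt, hZg, hZy⟩
        have hover : Zpt.asIdeal.LiesOver E.y := ⟨(congrArg PrimeSpectrum.asIdeal hZy).symm⟩
        have := E.uniq Zpt.asIdeal hover
        apply hg'
        rw [← this]
        exact hZg (Set.mem_singleton g')
      obtain ⟨_, ⟨g'', rfl⟩, hyg, hsub⟩ :=
        PrimeSpectrum.isTopologicalBasis_basic_opens.exists_subset_of_mem_open hy_mem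
          hclosed.isOpen_compl
      refine ⟨g'', hyg, ?_⟩
      apply fp_away_down (B := E.C) E.G g''
      have h3 := fp_away_mul (M := E.G) g' (algebraMap E.D E.C g'') hfp
      have hrad : algebraMap E.D E.C g'' ∈ (Ideal.span {g'} : Ideal E.C).radical := by
        rw [Ideal.radical_eq_sInf, Ideal.mem_sInf]
        rintro J ⟨hJle, hJp⟩
        by_contra hnot
        have h1 : (⟨J.comap (algebraMap E.D E.C), Ideal.comap_isPrime _ _⟩ : PrimeSpectrum E.D) ∈
            (PrimeSpectrum.comap (algebraMap E.D E.C) ''
              PrimeSpectrum.zeroLocus ({g'} : Set E.C))ᶜ :=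
          hsub (show (⟨J.comap (algebraMap E.D E.C), Ideal.comap_isPrime _ _⟩ :
            PrimeSpectrum E.D) ∈ (PrimeSpectrum.basicOpen g'' : Set _) from hnot)
        apply h1
        refine ⟨⟨J, hJp⟩, ?_, rfl⟩
        intro x hx
        rw [Set.mem_singleton_iff] at hx
        subst hx
        exact hJle (Ideal.mem_span_singleton_self _)
      obtain ⟨n, hn⟩ := hrad
      obtain ⟨m, hm⟩ := Ideal.mem_span_singleton'.mp hn
      refine (fp_iff_of_sat (Submonoid.powers (g' * algebraMap E.D E.C g''))
        (Submonoid.powers (algebraMap E.D E.C g'')) ?_ ?_).mp h3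
      · rintro _ ⟨k, rfl⟩
        refine ⟨m ^ k, n * k + k, ?_⟩
        show algebraMap E.D E.C g'' ^ (n * k + k) = m ^ k * (g' * algebraMap E.D E.C g'') ^ k
        rw [mul_pow, ← mul_assoc, ← mul_pow, hm, ← pow_mul, ← pow_add]
      · rintro _ ⟨k, rfl⟩
        exact ⟨g' ^ k, k, by simp only [mul_pow]⟩
    tfae_finish

end Groth.Agent.S1251
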