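import Groth.Statements.S12515
import Mathlib
-- import your own Groth.Agent.* helpers here

set_option autoImplicit false
open FunFld

namespace Groth.Agent.S12515


open Polynomial in
theorem exists_sq_mul_squarefree (k : Type*) [Field k] :
    ∀ (n : ℕ) (g : k[X]), g ≠ 0 → g.natDegree ≤ n → ∃ s f : k[X], s ≠ 0 ∧ Squarefree f ∧ g = s ^ 2 * f := by
  intro n
  induction n with
  | zero =>
    intro g hg hdeg
    refine ⟨1, g, one_ne_zero, ?_, by ring⟩
    have : IsUnit g := by
      rw [Polynomial.isUnit_iff]
      refine ⟨g.coeff 0, ?_, ?_⟩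
      · rw [isUnit_iff_ne_zero]
        intro h0
        apply hg
        rw [eq_C_of_natDegree_le_zero hdeg, h0, C_0]
      · exact (eq_C_of_natDegree_le_zero hdeg).symm
    exact this.squarefree
  | succ n ih =>
    intro g hg hdeg
    by_cases hsq : Squarefree g
    · exact ⟨1, g, one_ne_zero, hsq, by ring⟩
    · rw [Squarefree] at hsq
      push Not at hsq
      obtain ⟨d, ⟨g', hg'⟩, hd⟩ := hsq
      have hd0 : d ≠ 0 := by
        rintro rfl
        apply hg; rw [hg']; ring
      have hg'0 : g' ≠ 0 := by
        rintro rfl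
        apply hg; rw [hg']; ring
      have hdd : 1 ≤ d.natDegree := by
        by_contra h
        push Not at h
        apply hd
        rw [Polynomial.isUnit_iff]
        have h' : d.natDegree ≤ 0 := by omega
        refine ⟨d.coeff 0, ?_, (eq_C_of_natDegree_le_zero h').symm⟩
        rw [isUnit_iff_ne_zero]
        intro h0
        apply hd0
        rw [eq_C_of_natDegree_le_zero h', h0, C_0]
      have hdeg' : g'.natDegree ≤ n := by
        have := congrArg natDegree hg'
        rw [natDegree_mul (mul_ne_zero hd0 hd0) hg'0, natDegree_mul hd0 hd0] at this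
        omega
      obtain ⟨s, f, hs, hf, hsf⟩ := ih g' hg'0 hdeg'
      exact ⟨d * s, f, mul_ne_zero hd0 hs, hf, by rw [hg', hsf]; ring⟩

open Polynomial in
theorem main (k K : Type*) [Field k] [Field K] (h2 : ringChar k ≠ 2)
    [Algebra (RatFunc k) K] (hdeg : Module.finrank (RatFunc k) K = 2) :
    ∃ (y : K) (f : Polynomial k), Squarefree f ∧
      y ^ 2 = algebraMap (RatFunc k) K (algebraMap (Polynomial k) (RatFunc k) f) ∧
      IntermediateField.adjoin (RatFunc k) ({y} : Set K) = ⊤ := by
  have hfd : FiniteDimensional (RatFunc k) K := Module.finite_of_finrank_pos (by rw [hdeg]; norm_num)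
  have hsimple : IsSimpleOrder (IntermediateField (RatFunc k) K) :=
    IntermediateField.isSimpleOrder_of_finrank_prime (RatFunc k) K (by rw [hdeg]; exact Nat.prime_two)
  have h2F : (2 : (RatFunc k)) ≠ 0 := by
    have : (2 : k) ≠ 0 := Ring.two_ne_zero h2
    intro h
    apply this
    have h' : algebraMap k (RatFunc k) 2 = 0 := by rw [map_ofNat]; exact h
    exact (map_eq_zero _).mp h'
  -- adjoin is top iff not in range
  have htop : ∀ z : K, z ∉ Set.range (algebraMap (RatFunc k) K) → IntermediateField.adjoin (RatFunc k) ({z} : Set K) = ⊤ := by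
    intro z hz
    rcases eq_bot_or_eq_top (IntermediateField.adjoin (RatFunc k) ({z} : Set K)) with h | h
    · exfalso
      apply hz
      rw [IntermediateField.adjoin_simple_eq_bot_iff, IntermediateField.mem_bot] at h
      exact h
    · exact h
  -- pick z not in (RatFunc k)
  have hex : ∃ z : K, z ∉ Set.range (algebraMap (RatFunc k) K) := by
    by_contra hcon
    push Not at hcon
    have : (⊥ : IntermediateField (RatFunc k) K) = ⊤ := by
      rw [eq_top_iff]
      intro x _
      rw [IntermediateField.mem_bot]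
      exact hcon x
    have h1 := IntermediateField.finrank_bot (F := RatFunc k) (E := K)
    rw [this, IntermediateField.finrank_top', hdeg] at h1
    omega
  obtain ⟨z, hz⟩ := hex
  have hzint : IsIntegral (RatFunc k) z := Algebra.IsIntegral.isIntegral z
  set p := minpoly (RatFunc k) z with hp
  have hpdeg : p.natDegree = 2 := by
    rw [← IntermediateField.adjoin.finrank hzint, htop z hz, IntermediateField.finrank_top', hdeg]
  have hmonic : p.Monic := minpoly.monic hzint
  set b := p.coeff 1 with hb
  set c := p.coeff 0 with hc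
  have hc2 : p.coeff 2 = 1 := by
    have := hmonic.coeff_natDegree
    rwa [hpdeg] at this
  have heq : algebraMap (RatFunc k) K c + algebraMap (RatFunc k) K b * z + z ^ 2 = 0 := by
    have h0 : aeval z p = 0 := minpoly.aeval (RatFunc k) z
    rw [aeval_eq_sum_range, hpdeg] at h0
    simp only [Finset.sum_range_succ, Finset.range_one, Finset.sum_singleton, pow_zero, pow_one,
      hc2, Algebra.smul_def, mul_one] at h0
    rw [← h0, map_one, one_mul]
  -- complete the square
  set d : (RatFunc k) := b ^ 2 / 4 - c with hd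
  set y₁ : K := z + algebraMap (RatFunc k) K (b / 2) with hy₁
  have h2K : (2 : K) ≠ 0 := by
    intro h
    apply h2F
    have h' : algebraMap (RatFunc k) K 2 = 0 := by rw [map_ofNat]; exact h
    exact (map_eq_zero _).mp h'
  have hy₁sq : y₁ ^ 2 = algebraMap (RatFunc k) K d := by
    rw [hy₁, hd, map_sub, map_div₀, map_div₀, map_pow]
    have h4 : algebraMap (RatFunc k) K 4 = 4 := map_ofNat _ 4
    have h2' : algebraMap (RatFunc k) K 2 = 2 := map_ofNat _ 2
    rw [h4, h2']
    have h4K : (4 : K) ≠ 0 := by
      have : (4 : K) = 2 * 2 := by norm_num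
      rw [this]; exact mul_ne_zero h2K h2K
    field_simp
    linear_combination 16 * heq
  have hy₁ : y₁ ∉ Set.range (algebraMap (RatFunc k) K) := by
    rintro ⟨w, hw⟩
    apply hz
    refine ⟨w - b / 2, ?_⟩
    rw [map_sub, hw, hy₁]; ring
  have hd0 : d ≠ 0 := by
    intro h0
    rw [h0, map_zero] at hy₁sq
    apply hy₁
    exact ⟨0, by rw [map_zero]; exact (pow_eq_zero_iff (two_ne_zero)).mp hy₁sq |>.symm⟩
  -- numerator and denominator
  set N := d.num with hN
  set D := d.denom with hD
  have hD0 : D ≠ 0 := RatFunc.denom_ne_zero d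
  have hN0 : N ≠ 0 := by
    intro h
    apply hd0
    rw [← RatFunc.num_div_denom d, ← hN, h, map_zero, zero_div]
  have hdeq : d = algebraMap k[X] (RatFunc k) N / algebraMap k[X] (RatFunc k) D := (RatFunc.num_div_denom d).symm
  obtain ⟨s, f, hs, hf, hsf⟩ := exists_sq_mul_squarefree k (N * D).natDegree (N * D)
    (mul_ne_zero hN0 hD0) le_rfl
  have hDF : algebraMap k[X] (RatFunc k) D ≠ 0 := by
    rwa [Ne, map_eq_zero_iff _ (IsFractionRing.injective k[X] (RatFunc k))]
  have hsF : algebraMap k[X] (RatFunc k) s ≠ 0 := by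
    rwa [Ne, map_eq_zero_iff _ (IsFractionRing.injective k[X] (RatFunc k))]
  set u : (RatFunc k) := algebraMap k[X] (RatFunc k) D / algebraMap k[X] (RatFunc k) s with hu
  have hu0 : u ≠ 0 := div_ne_zero hDF hsF
  have huK : algebraMap (RatFunc k) K u ≠ 0 := by rwa [Ne, map_eq_zero]
  refine ⟨algebraMap (RatFunc k) K u * y₁, f, hf, ?_, ?_⟩
  · rw [mul_pow, hy₁sq, ← map_pow, ← map_mul]
    congr 1
    have h3 : algebraMap k[X] (RatFunc k) (N * D) = algebraMap k[X] (RatFunc k) (s ^ 2 * f) := by rw [hsf]
    rw [map_mul, map_mul, map_pow] at h3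
    rw [hu, hdeq]
    field_simp
    linear_combination h3
  · apply htop
    rintro ⟨w, hw⟩
    apply hy₁
    refine ⟨w / u, ?_⟩
    rw [map_div₀, hw, mul_div_cancel_left₀ _ huK]


/-- If `char k ≠ 2` and `K` has degree `2` over the rational function field `k(x)`, then `K = k(x)(y)`
for some `y` with `y² = f(x)`, `f` a squarefree polynomial over `k`. -/
theorem result (k K : Type*) [Field k] [Field K] (h2 : ringChar k ≠ 2)
    [Algebra (RatFunc k) K] (hdeg : Module.finrank (RatFunc k) K = 2) :
    ∃ (y : K) (f : Polynomial k), Squarefree f ∧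
      y ^ 2 = algebraMap (RatFunc k) K (algebraMap (Polynomial k) (RatFunc k) f) ∧
      IntermediateField.adjoin (RatFunc k) ({y} : Set K) = ⊤ := by
  exact main k K h2 hdeg

end Groth.Agent.S12515
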