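import Groth.Statements.S12517
import Mathlib
-- import your own Groth.Agent.* helpers here

set_option autoImplicit false
open FunFld

namespace Groth.Agent.S12517


open Polynomial in
theorem main (F K : Type*) [Field F] [Field K] [CharP F 2]
    [Algebra F K] (hdeg : Module.finrank F K = 2)
    [Algebra.IsSeparable F K] :
    ∃ (y : K) (f : F), y ^ 2 + y = algebraMap F K f ∧
      IntermediateField.adjoin F ({y} : Set K) = ⊤ := by
  have hfd : FiniteDimensional F K := Module.finite_of_finrank_pos (by rw [hdeg]; norm_num)
  obtain ⟨α, hα⟩ := Field.exists_primitive_element F K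
  have hint : IsIntegral F α := Algebra.IsIntegral.isIntegral α
  set p := minpoly F α with hp
  have hpdeg : p.natDegree = 2 := by
    rw [← IntermediateField.adjoin.finrank hint, hα, IntermediateField.finrank_top', hdeg]
  have hmonic : p.Monic := minpoly.monic hint
  have hsep : p.Separable := Algebra.IsSeparable.isSeparable F α
  set b := p.coeff 1 with hb
  set c := p.coeff 0 with hc
  have hc2 : p.coeff 2 = 1 := by
    have := hmonic.coeff_natDegree
    rwa [hpdeg] at this
  have heq : algebraMap F K c + algebraMap F K b * α + α ^ 2 = 0 := by
    have h0 : aeval α p = 0 := minpoly.aeval F α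
    rw [aeval_eq_sum_range, hpdeg] at h0
    simp only [Finset.sum_range_succ, Finset.range_one, Finset.sum_singleton, pow_zero, pow_one,
      hc2, one_smul, Algebra.smul_def, mul_one] at h0
    rw [← h0, map_one, one_mul]
  have hb0 : b ≠ 0 := by
    intro hb0
    have hder : derivative p = 0 := by
      ext n
      rw [coeff_derivative, coeff_zero]
      rcases n with _ | _ | n
      · simp [← hb, hb0]
      · rw [show (1 : ℕ) + 1 = 2 from rfl, hc2]
        have : ((2 : ℕ) : F) = 0 := CharP.cast_eq_zero F 2
        push_cast at this ⊢
        rw [one_mul, one_add_one_eq_two, this]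
      · rw [coeff_eq_zero_of_natDegree_lt (by rw [hpdeg]; omega), zero_mul]
    have := hsep
    rw [Polynomial.separable_def, hder, isCoprime_zero_right] at this
    have := natDegree_eq_zero_of_isUnit this
    omega
  have hbK : algebraMap F K b ≠ 0 := by
    rwa [Ne, map_eq_zero]
  refine ⟨α / algebraMap F K b, -c / b ^ 2, ?_, ?_⟩
  · rw [map_div₀, map_neg, map_pow]
    field_simp
    linear_combination heq
  · rw [eq_top_iff, ← hα, IntermediateField.adjoin_le_iff]
    intro x hx
    rw [Set.mem_singleton_iff] at hx
    rw [hx]
    have h1 : α / algebraMap F K b ∈ IntermediateField.adjoin F ({α / algebraMap F K b} : Set K) :=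
      IntermediateField.mem_adjoin_simple_self F _
    have h2 := (IntermediateField.adjoin F ({α / algebraMap F K b} : Set K)).smul_mem h1 (x := b)
    rwa [Algebra.smul_def, mul_div_cancel₀ _ hbK] at h2


/-- If `k` is perfect of characteristic `2` and `K` is a separable extension of degree `2` of the
rational function field `k(x)`, then `K = k(x)(y)` for some `y` with `y² + y = f(x)`, `f ∈ k(x)`.
The correspondence between such extensions and cosets of `{a² + a}` in `k(x)` is not stated. -/
theorem result (k K : Type*) [Field k] [Field K] [PerfectField k]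
    (h2 : ringChar k = 2) [Algebra (RatFunc k) K] (hdeg : Module.finrank (RatFunc k) K = 2)
    [Algebra.IsSeparable (RatFunc k) K] :
    ∃ (y : K) (f : RatFunc k), y ^ 2 + y = algebraMap (RatFunc k) K f ∧
      IntermediateField.adjoin (RatFunc k) ({y} : Set K) = ⊤ := by
  haveI : CharP k 2 := ringChar.of_eq h2
  haveI : CharP (RatFunc k) 2 := charP_of_injective_algebraMap (algebraMap k (RatFunc k)).injective 2
  exact main (RatFunc k) K hdeg

end Groth.Agent.S12517
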