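import Groth.Statements.S12524
import Mathlib

set_option autoImplicit false
universe u v
open CAlg

namespace Groth.Agent.S12524

open IsLocalRing

section adic
variable {K : Type u} {A : Type v} [Field K] [CommRing A] [Algebra K A]

theorem exists_limit (I : Ideal A) [IsAdicComplete I A] (s : ℕ → A)
    (hs : ∀ m n : ℕ, m ≤ n → s n - s m ∈ I ^ m) :
    ∃ L : A, ∀ n, L - s n ∈ I ^ n := by
  obtain ⟨L, hL⟩ := IsPrecomplete.prec (inferInstance : IsPrecomplete I A) (f := s)
    (by
      intro m n hmn
      rw [SModEq.sub_mem, smul_eq_mul, Ideal.mul_top]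
      have h1 : -(s n - s m) ∈ I ^ m := neg_mem (hs m n hmn)
      rw [neg_sub] at h1
      exact h1)
  refine ⟨L, fun n => ?_⟩
  have h2 := hL n
  rw [SModEq.sub_mem, smul_eq_mul, Ideal.mul_top] at h2
  have h3 : -(s n - L) ∈ I ^ n := neg_mem h2
  rw [neg_sub] at h3
  exact h3

theorem eq_of_forall_sub_mem (I : Ideal A) [IsAdicComplete I A] {a b : A}
    (h : ∀ n, a - b ∈ I ^ n) : a = b := by
  have h0 : a - b = 0 := by
    apply IsHausdorff.haus (inferInstance : IsHausdorff I A)
    intro n
    rw [SModEq.sub_mem, smul_eq_mul, Ideal.mul_top, sub_zero]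
    exact h n
  exact sub_eq_zero.mp h0

theorem lemA (I : Ideal A) (x : A) (hx : x ∈ I) (n : ℕ) (P Q : Polynomial K)
    (h : ∀ d, d < n → P.coeff d = Q.coeff d) :
    Polynomial.aeval x P - Polynomial.aeval x Q ∈ I ^ n := by
  have hdvd : (Polynomial.X : Polynomial K) ^ n ∣ P - Q := by
    rw [Polynomial.X_pow_dvd_iff]
    intro d hd
    rw [Polynomial.coeff_sub, h d hd, sub_self]
  obtain ⟨R, hR⟩ := hdvd
  rw [← map_sub, hR, map_mul, map_pow, Polynomial.aeval_X]
  exact Ideal.mul_mem_right _ _ (Ideal.pow_mem_pow hx n)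

noncomputable def sq (x : A) (g : PowerSeries K) (n : ℕ) : A :=
  Polynomial.aeval x (PowerSeries.trunc n g)

theorem sq_cauchy (I : Ideal A) (x : A) (hx : x ∈ I) (g : PowerSeries K) (m n : ℕ) (hmn : m ≤ n) :
    sq x g n - sq x g m ∈ I ^ m := by
  apply lemA I x hx
  intro d hd
  rw [PowerSeries.coeff_trunc, PowerSeries.coeff_trunc, if_pos hd, if_pos (lt_of_lt_of_le hd hmn)]

theorem exists_phi0 (I : Ideal A) [IsAdicComplete I A] (x : A) (hx : x ∈ I) (g : PowerSeries K) :
    ∃ L : A, ∀ n, L - sq x g n ∈ I ^ n :=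
  exists_limit I (fun n => sq x g n) (fun m n hmn => sq_cauchy I x hx g m n hmn)

noncomputable def phi0 (I : Ideal A) [IsAdicComplete I A] (x : A) (hx : x ∈ I)
    (g : PowerSeries K) : A :=
  Classical.choose (exists_phi0 I x hx g)

theorem phi0_spec (I : Ideal A) [IsAdicComplete I A] (x : A) (hx : x ∈ I)
    (g : PowerSeries K) (n : ℕ) : phi0 I x hx g - sq x g n ∈ I ^ n :=
  Classical.choose_spec (exists_phi0 I x hx g) n

theorem phi0_eq (I : Ideal A) [IsAdicComplete I A] (x : A) (hx : x ∈ I)
    (g : PowerSeries K) (L : A) (h : ∀ n, L - sq x g n ∈ I ^ n) : phi0 I x hx g = L := by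
  apply eq_of_forall_sub_mem I
  intro n
  have h1 := phi0_spec I x hx g n
  have h2 := h n
  have h3 : phi0 I x hx g - L = (phi0 I x hx g - sq x g n) - (L - sq x g n) := by ring
  rw [h3]
  exact sub_mem h1 h2

/-- Uniqueness via polynomial approximations. -/
theorem phi0_eq_of_poly (I : Ideal A) [IsAdicComplete I A] (x : A) (hx : x ∈ I)
    (g : PowerSeries K) (L : A)
    (h : ∀ n, ∃ P : Polynomial K, (∀ d, d < n → P.coeff d = PowerSeries.coeff d g) ∧
      L - Polynomial.aeval x P ∈ I ^ n) : phi0 I x hx g = L := by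
  apply phi0_eq
  intro n
  obtain ⟨P, hP, hL⟩ := h n
  have h1 : Polynomial.aeval x P - sq x g n ∈ I ^ n := by
    apply lemA I x hx
    intro d hd
    rw [PowerSeries.coeff_trunc, if_pos hd, hP d hd]
  have h3 : L - sq x g n = (L - Polynomial.aeval x P) + (Polynomial.aeval x P - sq x g n) := by
    ring
  rw [h3]
  exact add_mem hL h1

theorem phi0_coe (I : Ideal A) [IsAdicComplete I A] (x : A) (hx : x ∈ I)
    (P : Polynomial K) : phi0 I x hx (P : PowerSeries K) = Polynomial.aeval x P := by
  apply phi0_eq_of_poly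
  intro n
  refine ⟨P, fun d _ => (Polynomial.coeff_coe P d).symm, ?_⟩
  rw [sub_self]
  exact zero_mem _

theorem phi0_add (I : Ideal A) [IsAdicComplete I A] (x : A) (hx : x ∈ I)
    (g h : PowerSeries K) : phi0 I x hx (g + h) = phi0 I x hx g + phi0 I x hx h := by
  apply phi0_eq_of_poly
  intro n
  refine ⟨PowerSeries.trunc n g + PowerSeries.trunc n h, fun d hd => ?_, ?_⟩
  · rw [Polynomial.coeff_add, PowerSeries.coeff_trunc, PowerSeries.coeff_trunc, if_pos hd, if_pos hd, map_add]
  · rw [map_add]
    have h1 := phi0_spec I x hx g n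
    have h2 := phi0_spec I x hx h n
    have h3 : phi0 I x hx g + phi0 I x hx h -
        (Polynomial.aeval x (PowerSeries.trunc n g) + Polynomial.aeval x (PowerSeries.trunc n h)) =
        (phi0 I x hx g - sq x g n) + (phi0 I x hx h - sq x h n) := by
      unfold sq; ring
    rw [h3]
    exact add_mem h1 h2

theorem phi0_mul (I : Ideal A) [IsAdicComplete I A] (x : A) (hx : x ∈ I)
    (g h : PowerSeries K) : phi0 I x hx (g * h) = phi0 I x hx g * phi0 I x hx h := by
  apply phi0_eq_of_poly
  intro n
  refine ⟨PowerSeries.trunc n g * PowerSeries.trunc n h, fun d hd => ?_, ?_⟩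
  · rw [← Polynomial.coeff_coe, Polynomial.coe_mul,
      ← PowerSeries.coeff_mul_eq_coeff_trunc_mul_trunc g h hd]
  · rw [map_mul]
    have h1 := phi0_spec I x hx g n
    have h2 := phi0_spec I x hx h n
    have h3 : phi0 I x hx g * phi0 I x hx h -
        (Polynomial.aeval x (PowerSeries.trunc n g) * Polynomial.aeval x (PowerSeries.trunc n h)) =
        (phi0 I x hx g - sq x g n) * phi0 I x hx h + sq x g n * (phi0 I x hx h - sq x h n) := by
      unfold sq; ring
    rw [h3]
    exact add_mem (Ideal.mul_mem_right _ _ h1) (Ideal.mul_mem_left _ _ h2)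

noncomputable def phi (I : Ideal A) [IsAdicComplete I A] (x : A) (hx : x ∈ I) :
    PowerSeries K →ₐ[K] A where
  toFun := phi0 I x hx
  map_one' := by
    rw [← Polynomial.coe_one, phi0_coe, map_one]
  map_mul' := phi0_mul I x hx
  map_zero' := by
    rw [← Polynomial.coe_zero, phi0_coe, map_zero]
  map_add' := phi0_add I x hx
  commutes' := by
    intro r
    have hC : algebraMap K (PowerSeries K) r = ((Polynomial.C r : Polynomial K) : PowerSeries K) := by
      rw [Polynomial.coe_C]
      rfl
    rw [hC, phi0_coe, Polynomial.aeval_C]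

theorem phi_apply (I : Ideal A) [IsAdicComplete I A] (x : A) (hx : x ∈ I) (g : PowerSeries K) :
    phi I x hx g = phi0 I x hx g := rfl

theorem phi_X (I : Ideal A) [IsAdicComplete I A] (x : A) (hx : x ∈ I) :
    phi (K := K) I x hx PowerSeries.X = x := by
  rw [phi_apply, ← Polynomial.coe_X, phi0_coe, Polynomial.aeval_X]

theorem phi_spec (I : Ideal A) [IsAdicComplete I A] (x : A) (hx : x ∈ I) (f : PowerSeries K) (n : ℕ) :
    phi I x hx f - (Finset.range n).sum (fun i => algebraMap K A (PowerSeries.coeff i f) * x ^ i) ∈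
      I ^ n := by
  have h1 := phi0_spec I x hx f n
  have h2 : sq x f n =
      (Finset.range n).sum (fun i => algebraMap K A (PowerSeries.coeff i f) * x ^ i) := by
    unfold sq
    rw [Polynomial.aeval_def, PowerSeries.eval₂_trunc_eq_sum_range]
  rw [phi_apply, ← h2]
  exact h1

end adic



open IsLocalRing in
/-- Let `A` be a complete discrete valuation ring with maximal ideal `m`, containing a field `K` such
that `K → A → A/m` is bijective (a coefficient field), and let `x` be any generator of `m`. Then the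
`K`-algebra map `K[X] → A`, `X ↦ x`, extends to a bijective `K`-algebra map `φ : K⟦X⟧ → A`,
characterised by `φ(∑ aᵢ Xⁱ) ≡ ∑_{i<n} aᵢ xⁱ (mod mⁿ)` for every `n`. -/
theorem result (K : Type u) (A : Type v) [Field K]
    [CommRing A] [IsDomain A] [IsDiscreteValuationRing A] [Algebra K A]
    [IsAdicComplete (maximalIdeal A) A]
    (hK : Function.Bijective ((residue A).comp (algebraMap K A)))
    (x : A) (hx : maximalIdeal A = Ideal.span {x}) :
    ∃ φ : PowerSeries K →ₐ[K] A, φ PowerSeries.X = x ∧ Function.Bijective φ ∧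
      ∀ (f : PowerSeries K) (n : ℕ),
        φ f - (Finset.range n).sum (fun i => algebraMap K A (PowerSeries.coeff i f) * x ^ i) ∈
          maximalIdeal A ^ n := by
  have hxI : x ∈ maximalIdeal A := by
    rw [hx]; exact Ideal.mem_span_singleton_self x
  have hx0 : x ≠ 0 := by
    intro h0
    apply IsDiscreteValuationRing.not_a_field A
    rw [hx, h0]
    exact Ideal.span_singleton_eq_bot.mpr rfl
  have huniq : ∀ a b : A, (∀ n, a - b ∈ maximalIdeal A ^ n) → a = b :=
    fun a b h => eq_of_forall_sub_mem (maximalIdeal A) h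
  obtain ⟨φ, hφX, hspec⟩ : ∃ φ : PowerSeries K →ₐ[K] A, φ PowerSeries.X = x ∧
      ∀ (f : PowerSeries K) (n : ℕ),
        φ f - (Finset.range n).sum (fun i => algebraMap K A (PowerSeries.coeff i f) * x ^ i) ∈
          maximalIdeal A ^ n :=
    ⟨phi (maximalIdeal A) x hxI, phi_X (maximalIdeal A) x hxI, phi_spec (maximalIdeal A) x hxI⟩
  refine ⟨φ, hφX, ⟨?_, ?_⟩, hspec⟩
  · -- injective
    rw [injective_iff_map_eq_zero]
    intro g hg
    by_contra hne
    have hex : ∃ k, PowerSeries.coeff k g ≠ 0 :=
      PowerSeries.exists_coeff_ne_zero_iff_ne_zero.mpr hne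
    classical
    obtain ⟨k, hk, hmin⟩ : ∃ k, PowerSeries.coeff k g ≠ 0 ∧ ∀ i < k, PowerSeries.coeff i g = 0 :=
      ⟨Nat.find hex, Nat.find_spec hex, fun i hi => not_not.mp (Nat.find_min hex hi)⟩
    have hs := hspec g (k+1)
    have hsum0 : (Finset.range k).sum
        (fun i => algebraMap K A (PowerSeries.coeff i g) * x ^ i) = 0 :=
      Finset.sum_eq_zero (fun i hi => by
        rw [hmin i (Finset.mem_range.mp hi), map_zero, zero_mul])
    rw [hg, Finset.sum_range_succ, hsum0, zero_add, zero_sub,
      Ideal.neg_mem_iff, hx, Ideal.span_singleton_pow, Ideal.mem_span_singleton'] at hs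
    obtain ⟨z, hz⟩ := hs
    have h1 : algebraMap K A (PowerSeries.coeff k g) = z * x := by
      have hxk : x ^ k ≠ 0 := pow_ne_zero k hx0
      apply mul_right_cancel₀ hxk
      rw [← hz]; ring
    have h2 : algebraMap K A (PowerSeries.coeff k g) ∈ maximalIdeal A := by
      rw [hx, h1]; exact Ideal.mul_mem_left _ _ (Ideal.mem_span_singleton_self x)
    have h3 : (residue A).comp (algebraMap K A) (PowerSeries.coeff k g) = 0 := by
      rw [RingHom.comp_apply]; exact (residue_eq_zero_iff _).mpr h2
    have h4 := hK.1 (h3.trans (map_zero _).symm)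
    exact hk h4
  · -- surjective
    intro a
    obtain ⟨κ, hκ⟩ : ∃ κ : A → K, ∀ b, residue A (algebraMap K A (κ b)) = residue A b :=
      ⟨fun b => Function.surjInv hK.2 (residue A b), fun b => Function.surjInv_eq hK.2 (residue A b)⟩
    have hstep : ∀ b : A, ∃ z : A, b = algebraMap K A (κ b) + x * z := by
      intro b
      have hmem : b - algebraMap K A (κ b) ∈ maximalIdeal A := by
        rw [← residue_eq_zero_iff, map_sub, hκ b, sub_self]
      rw [hx, Ideal.mem_span_singleton'] at hmem
      obtain ⟨z, hz⟩ := hmem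
      exact ⟨z, by rw [mul_comm x z, hz]; ring⟩
    choose δ hδ using hstep
    obtain ⟨b, hb0, hbs⟩ : ∃ b : ℕ → A, b 0 = a ∧ ∀ n, b (n+1) = δ (b n) :=
      ⟨fun n => Nat.rec a (fun _ y => δ y) n, rfl, fun _ => rfl⟩
    have hsum : ∀ n, a = (Finset.range n).sum (fun i => algebraMap K A (κ (b i)) * x ^ i)
        + x ^ n * b n := by
      intro n
      induction n with
      | zero => rw [Finset.sum_range_zero, pow_zero, one_mul, zero_add, hb0]
      | succ n ih =>
        rw [Finset.sum_range_succ, hbs n]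
        linear_combination ih + x ^ n * hδ (b n)
    refine ⟨PowerSeries.mk (fun i => κ (b i)), ?_⟩
    apply huniq
    intro n
    have h1 := hspec (PowerSeries.mk (fun i => κ (b i))) n
    have h2 : (Finset.range n).sum
        (fun i => algebraMap K A (PowerSeries.coeff i (PowerSeries.mk (fun i => κ (b i)))) * x ^ i)
        = (Finset.range n).sum (fun i => algebraMap K A (κ (b i)) * x ^ i) := by
      apply Finset.sum_congr rfl
      intro i _
      rw [PowerSeries.coeff_mk]
    rw [h2] at h1
    have h3 : x ^ n * b n ∈ maximalIdeal A ^ n :=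
      Ideal.mul_mem_right _ _ (Ideal.pow_mem_pow hxI n)
    have h4 : φ (PowerSeries.mk (fun i => κ (b i))) - a =
        (φ (PowerSeries.mk (fun i => κ (b i))) -
          (Finset.range n).sum (fun i => algebraMap K A (κ (b i)) * x ^ i)) - x ^ n * b n := by
      have := hsum n
      linear_combination (-1 : A) * this
    rw [h4]
    exact sub_mem h1 h3


end Groth.Agent.S12524
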