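import Groth.Statements.S12526
import Groth.Agent.Lib.Helper10.FunFld61
open Groth.Agent.Lib.helper10

set_option autoImplicit false
universe u v
open FunFld

namespace Groth.Agent.S12526

/-- Let `K/k` be a geometric function field of one variable, `P` a place of `K`, `k'/k` finite and `K' =
k' ⊗_k K`; let `R` be the integral closure of `O_P` in `K'` and `R̃ = k' ⊗_k O_P = O_P[k']`. Then
`R/R̃` is finite-dimensional over `k`, and `R̃` contains a nonzero ideal of `R`. -/
theorem result (k k' : Type u) (K K' : Type v) [Field k] [Field k'] [Field K] [Field K']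
    [Algebra k k'] [FiniteDimensional k k'] [Algebra k K] [Algebra K K'] [Algebra k' K'] [Algebra k K']
    [IsScalarTower k k' K'] [IsScalarTower k K K']
    (h : Function.Bijective (Algebra.TensorProduct.productMap
      (IsScalarTower.toAlgHom k k' K') (IsScalarTower.toAlgHom k K K')))
    (hK : FunFld.IsFunctionField k K) (hg : FunFld.IsGeometric k K)
    (P : FunFld.Place k K) [Algebra P.O K'] [IsScalarTower P.O K K'] :
    (∃ V : Submodule k K', FiniteDimensional k V ∧ ∀ r ∈ integralClosure P.O K',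
        ∃ s ∈ Algebra.adjoin P.O (Set.range (algebraMap k' K')), r - s ∈ V) ∧
    (∃ c ∈ integralClosure P.O K', c ≠ 0 ∧ ∀ r ∈ integralClosure P.O K',
        c * r ∈ Algebra.adjoin P.O (Set.range (algebraMap k' K'))) := by
  classical
  obtain ⟨n, hn⟩ : ∃ n, Module.finrank k k' = n := ⟨_, rfl⟩
  let c : Module.Basis (Fin n) k k' := Module.finBasisOfFinrankEq k k' hn
  obtain ⟨bE, hbE⟩ := FF.exists_const_basis h c
  have : FiniteDimensional K K' := Module.Finite.of_basis bE
  have hnK : Module.finrank K K' = n := by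
    rw [Module.finrank_eq_card_basis bE, Fintype.card_fin]
  let Qs := (FF.finite_places_over' (E := K') hK P).toFinset
  have hQs : ∀ Q', Q' ∈ Qs ↔ IsOver Q' P := fun Q' => by
    simp only [Qs, Set.Finite.mem_toFinset, Set.mem_ofPred_eq]
  have hQs' : ∀ Q ∈ Qs, IsOver Q P := fun Q hQ => (hQs Q).1 hQ
  obtain ⟨y, -, -, hspan⟩ := FF.exists_local_basis hK P Qs hQs n hnK
  obtain ⟨t, ht⟩ := FF.Place.exists_uniformizer P
  have ht0 : t ≠ 0 := by
    rintro rfl
    rw [Valuation.map_zero] at ht
    exact WithZero.exp_ne_zero ht.symm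
  obtain ⟨N, hNdef⟩ : ∃ N : ℕ, N = ∑ j : Fin n, ∑ i : Fin n, (P.ord (bE.repr (y j) i)).natAbs :=
    ⟨_, rfl⟩
  have htN : P.1 (t ^ N) = WithZero.exp (-(N : ℤ)) := by
    rw [map_pow, ht, ← WithZero.exp_nsmul]
    congr 1
    rw [nsmul_eq_mul]
    ring
  have hB : ∀ j i, P.1 (t ^ N * bE.repr (y j) i) ≤ 1 := by
    intro j i
    rw [map_mul, htN]
    have h1 := FF.Place.val_le_exp_natAbs P (bE.repr (y j) i)
    have h2 : (P.ord (bE.repr (y j) i)).natAbs ≤ N := by
      rw [hNdef]
      have h3 := Finset.single_le_sum (f := fun i' : Fin n => (P.ord (bE.repr (y j) i')).natAbs)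
        (fun _ _ => Nat.zero_le _) (Finset.mem_univ i)
      have h4 := Finset.single_le_sum
        (f := fun j' : Fin n => ∑ i' : Fin n, (P.ord (bE.repr (y j') i')).natAbs)
        (fun _ _ => Nat.zero_le _) (Finset.mem_univ j)
      exact le_trans h3 h4
    calc WithZero.exp (-(N : ℤ)) * P.1 (bE.repr (y j) i)
        ≤ WithZero.exp (-(N : ℤ)) * WithZero.exp (((P.ord (bE.repr (y j) i)).natAbs : ℕ) : ℤ) :=
          mul_le_mul' le_rfl h1
      _ = WithZero.exp (-(N : ℤ) + (((P.ord (bE.repr (y j) i)).natAbs : ℕ) : ℤ)) := by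
          rw [WithZero.exp_add]
      _ ≤ 1 := by
          rw [← WithZero.exp_zero, WithZero.exp_le_exp]
          omega
  have hmemO : ∀ (a : K) (ha : P.1 a ≤ 1) (i : Fin n),
      algebraMap K K' a * bE i ∈ Algebra.adjoin P.O (Set.range (algebraMap k' K')) := by
    intro a ha i
    have e : algebraMap K K' a * bE i = (⟨a, ha⟩ : P.O) • bE i := by
      rw [Algebra.smul_def, IsScalarTower.algebraMap_apply P.O K K']
      rfl
    rw [e]
    have hmem : bE i ∈ Algebra.adjoin P.O (Set.range (algebraMap k' K')) :=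
      Algebra.subset_adjoin ⟨c i, (hbE i).symm⟩
    exact Subalgebra.smul_mem _ hmem _
  have hA : ∀ z ∈ FF.semiO Qs,
      algebraMap K K' (t ^ N) * z ∈ Algebra.adjoin P.O (Set.range (algebraMap k' K')) := by
    intro z hz
    obtain ⟨α, hα, hzα⟩ := hspan z hz
    have hyj : ∀ j, y j = ∑ i, algebraMap K K' (bE.repr (y j) i) * bE i := by
      intro j
      conv_lhs => rw [← bE.sum_repr (y j)]
      refine Finset.sum_congr rfl fun i _ => ?_
      rw [Algebra.smul_def]
    rw [hzα, Finset.mul_sum]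
    refine Subalgebra.sum_mem _ fun j _ => ?_
    rw [hyj j, Finset.mul_sum, Finset.mul_sum]
    refine Subalgebra.sum_mem _ fun i _ => ?_
    have e : algebraMap K K' (t ^ N) * (algebraMap K K' (α j) *
        (algebraMap K K' (bE.repr (y j) i) * bE i)) =
        algebraMap K K' (α j * (t ^ N * bE.repr (y j) i)) * bE i := by
      rw [map_mul, map_mul]
      ring
    rw [e]
    refine hmemO _ ?_ i
    rw [map_mul]
    exact mul_le_one' (hα j) (hB j i)
  have hint : ∀ r ∈ integralClosure P.O K', r ∈ FF.semiO Qs := fun r hr =>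
    FF.mem_semiO_of_isIntegral P Qs hQs' hr
  constructor
  · have hfd : ∀ Q ∈ Qs, FiniteDimensional k (IsLocalRing.ResidueField Q.O) := fun Q _ =>
      FF.Place.finiteDimensional_residueField' hK Q
    have hrel := (FF.relFin_semiBall Qs hfd (fun _ => 0) (fun Q => N * ramIdx Q P)).1
    obtain ⟨V, hVfd, hV⟩ := FF.exists_fd_of_relFin hrel
    refine ⟨V, hVfd, fun r hr => ?_⟩
    obtain ⟨u, hu, hru⟩ := hV r (hint r hr)
    refine ⟨u, ?_, hru⟩
    have hτ0 : algebraMap K K' (t ^ N) ≠ 0 := (_root_.map_ne_zero _).2 (pow_ne_zero _ ht0)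
    have hu' : u / algebraMap K K' (t ^ N) ∈ FF.semiO Qs := by
      rw [FF.mem_semiO]
      intro Q hQ
      have he := FF.isOverWith_ramIdx (hQs' Q hQ)
      rw [map_div₀, he (t ^ N), htN]
      have h1 := hu Q hQ
      have e1 : (WithZero.exp (-(N : ℤ)) : WithZero (Multiplicative ℤ)) ^ ramIdx Q P =
          WithZero.exp ((0 : ℤ) - ((N * ramIdx Q P : ℕ) : ℤ)) := by
        rw [← WithZero.exp_nsmul]
        congr 1
        rw [nsmul_eq_mul]
        push_cast
        ring
      rw [e1]
      exact div_le_one_of_le₀ h1 zero_le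
    have := hA _ hu'
    rwa [mul_div_cancel₀ _ hτ0] at this
  · refine ⟨algebraMap K K' (t ^ N), ?_, (_root_.map_ne_zero _).2 (pow_ne_zero _ ht0),
      fun r hr => hA r (hint r hr)⟩
    have htO : P.1 (t ^ N) ≤ 1 := by
      rw [htN, ← WithZero.exp_zero, WithZero.exp_le_exp]
      omega
    have e : algebraMap K K' (t ^ N) = algebraMap P.O K' ⟨t ^ N, htO⟩ := by
      rw [IsScalarTower.algebraMap_apply P.O K K']
      rfl
    rw [e]
    exact Subalgebra.algebraMap_mem _ _

end Groth.Agent.S12526
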