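import Groth.Statements.S12527
import Mathlib
import Groth.Agent.Lib.Helper10.CExt12

set_option autoImplicit false
universe u v
open scoped TensorProduct
open FunFld

namespace Groth.Agent.S12527

set_option linter.style.haveILetI false
set_option linter.unusedSectionVars false

open scoped TensorProduct
open FunFld Groth.Agent.Lib.helper10 Groth.Agent.Lib.helper10.CExt Groth.Agent.Lib.helper10.FF

theorem main (k : Type u) (K : Type v) [Field k] [Field K] [Algebra k K]
    (hK : FunFld.IsFunctionField k K) (hg : FunFld.IsGeometric k K) :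
    {P : FunFld.Place k K | ∃ (k' : Type u) (_ : Field k') (_ : Algebra k k'),
      FiniteDimensional k k' ∧
      integralClosure (P.O.toSubring.map
        (Algebra.TensorProduct.includeRight : K →ₐ[k] k' ⊗[k] K).toRingHom) (k' ⊗[k] K) ≠
        Algebra.adjoin (P.O.toSubring.map
          (Algebra.TensorProduct.includeRight : K →ₐ[k] k' ⊗[k] K).toRingHom)
          (Set.range (Algebra.TensorProduct.includeLeftRingHom : k' →+* k' ⊗[k] K))}.Finite := by
  classical
  obtain ⟨k₁, _, _, _, K₁, _, _, _, _, _, _, h₁, hmin⟩ := exists_min_genus hK hg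
  obtain ⟨n₁, hn₁⟩ : ∃ n, Module.finrank k k₁ = n := ⟨_, rfl⟩
  let c₁ : Module.Basis (Fin n₁) k k₁ := Module.finBasisOfFinrankEq k k₁ hn₁
  obtain ⟨b₁, hb₁⟩ := FF.exists_const_basis h₁ c₁
  haveI : FiniteDimensional K K₁ := Module.Finite.of_basis b₁
  refine (finite_not_NS h₁ hK hg c₁ b₁ hb₁).subset ?_
  rintro P ⟨k', _, _, hfd, hne⟩
  haveI := hfd
  intro hNS
  apply hne
  obtain ⟨K', _, _, _, _, _, _, h'⟩ := exists_model (k := k) (K := K) k' hg
  apply tensor_eq_of_model h' P
  obtain ⟨k₂, _, _, _, ⟨φ'⟩, ⟨φ₁⟩⟩ := exists_compositum k k' k₁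
  obtain ⟨K₂, _, _, _, _, _, _, h₂⟩ := exists_model (k := k) (K := K) k₂ hg
  have hIC₁ := integralClosure_eq_adjoin_of_NS c₁ b₁ hb₁ P hNS
  have hIC₂ := IC_ascend h₁ h₂ hK hg hmin φ₁ P hIC₁
  exact IC_descend h' h₂ hK hg φ' P hIC₂



/-- A geometric function field of one variable `K/k` has at most finitely many singular places, i.e.
places `P` for which, for some finite extension `k'/k`, the integral closure of `O_P` in `k' ⊗_k K`
is strictly larger than `k' ⊗_k O_P`. The existence of a purely inseparable finite `k'` making `k'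
⊗_k K` nonsingular is not stated. -/
theorem result (k : Type u) (K : Type v) [Field k] [Field K] [Algebra k K]
    (hK : FunFld.IsFunctionField k K) (hg : FunFld.IsGeometric k K) :
    {P : FunFld.Place k K | ∃ (k' : Type u) (_ : Field k') (_ : Algebra k k'), FiniteDimensional k k' ∧
      integralClosure (P.O.toSubring.map (Algebra.TensorProduct.includeRight : K →ₐ[k] k' ⊗[k] K).toRingHom) (k' ⊗[k] K) ≠
        Algebra.adjoin (P.O.toSubring.map (Algebra.TensorProduct.includeRight : K →ₐ[k] k' ⊗[k] K).toRingHom)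
          (Set.range (Algebra.TensorProduct.includeLeftRingHom : k' →+* k' ⊗[k] K))}.Finite := by
  exact main k K hK hg

end Groth.Agent.S12527
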