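import Groth.Statements.S12534
import Mathlib
import Groth.Agent.Lib.Helper10.CExt10

set_option autoImplicit false
universe u v
open FunFld

namespace Groth.Agent.S12534

set_option linter.style.haveILetI false
set_option linter.unusedSectionVars false

open FunFld Groth.Agent.Lib.helper10 Groth.Agent.Lib.helper10.CExt Groth.Agent.Lib.helper10.FF

theorem main (k k' k'' : Type u) (K K' K'' : Type v) [Field k] [Field k'] [Field k''] [Field K]
    [Field K'] [Field K'']
    [Algebra k k'] [Algebra k' k''] [Algebra k k''] [IsScalarTower k k' k'']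
    [FiniteDimensional k k'] [FiniteDimensional k' k'']
    [Algebra k K] [Algebra K K'] [Algebra k' K'] [Algebra k K'] [IsScalarTower k k' K']
    [IsScalarTower k K K']
    [Algebra K' K''] [Algebra k'' K''] [Algebra k' K''] [Algebra k K''] [Algebra K K'']
    [IsScalarTower k' k'' K''] [IsScalarTower k' K' K''] [IsScalarTower K K' K'']
    [IsScalarTower k K K'']
    (h1 : Function.Bijective (Algebra.TensorProduct.productMap
      (IsScalarTower.toAlgHom k k' K') (IsScalarTower.toAlgHom k K K')))
    (h2 : Function.Bijective (Algebra.TensorProduct.productMap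
      (IsScalarTower.toAlgHom k' k'' K'') (IsScalarTower.toAlgHom k' K' K'')))
    (hK : FunFld.IsFunctionField k K) (hg : FunFld.IsGeometric k K) (P : FunFld.Place k K) :
    (integralClosure (P.O.toSubring.map (algebraMap K K'')) K'' =
        Algebra.adjoin (P.O.toSubring.map (algebraMap K K'')) (Set.range (algebraMap k'' K''))) ↔
      (integralClosure (P.O.toSubring.map (algebraMap K K')) K' =
          Algebra.adjoin (P.O.toSubring.map (algebraMap K K')) (Set.range (algebraMap k' K')) ∧
        ∀ Q : FunFld.Place k K', FunFld.IsOver Q P →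
          integralClosure (Q.O.toSubring.map (algebraMap K' K'')) K'' =
            Algebra.adjoin (Q.O.toSubring.map (algebraMap K' K''))
              (Set.range (algebraMap k'' K''))) := by
  classical
  -- derived towers
  have e1 : ∀ a : k, algebraMap k K'' a = algebraMap K' K'' (algebraMap k K' a) := by
    intro a
    rw [IsScalarTower.algebraMap_apply k K K'', IsScalarTower.algebraMap_apply K K' K'',
      ← IsScalarTower.algebraMap_apply k K K']
  haveI t1 : IsScalarTower k K' K'' := IsScalarTower.of_algebraMap_eq e1
  have e2 : ∀ a : k, algebraMap k K'' a = algebraMap k' K'' (algebraMap k k' a) := by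
    intro a
    rw [e1, IsScalarTower.algebraMap_apply k k' K', ← IsScalarTower.algebraMap_apply k' K' K'']
  haveI t2 : IsScalarTower k k' K'' := IsScalarTower.of_algebraMap_eq e2
  have e3 : ∀ a : k, algebraMap k K'' a = algebraMap k'' K'' (algebraMap k k'' a) := by
    intro a
    rw [e2, IsScalarTower.algebraMap_apply k' k'' K'', ← IsScalarTower.algebraMap_apply k k' k'']
  haveI t3 : IsScalarTower k k'' K'' := IsScalarTower.of_algebraMap_eq e3
  haveI : FiniteDimensional k k'' := Module.Finite.trans k' k''
  have hK' : IsFunctionField k' K' := isFunctionField_model h1 hK hg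
  have h12 := model_comp h1 h2 hg
  obtain ⟨fd1, -⟩ := finrank_model h1
  obtain ⟨fd2, -⟩ := finrank_model h2
  obtain ⟨fd12, -⟩ := finrank_model h12
  haveI := fd1
  haveI := fd2
  haveI := fd12
  obtain ⟨n₁, hn₁⟩ : ∃ n, Module.finrank k k' = n := ⟨_, rfl⟩
  obtain ⟨n₂, hn₂⟩ : ∃ n, Module.finrank k' k'' = n := ⟨_, rfl⟩
  let c₁ : Module.Basis (Fin n₁) k k' := Module.finBasisOfFinrankEq k k' hn₁
  let c₂ : Module.Basis (Fin n₂) k' k'' := Module.finBasisOfFinrankEq k' k'' hn₂
  obtain ⟨b₁, hb₁⟩ := FF.exists_const_basis h1 c₁
  obtain ⟨b₂, hb₂⟩ := FF.exists_const_basis h2 c₂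
  haveI : Algebra.IsIntegral k k' := Algebra.IsIntegral.of_finite k k'
  haveI : Algebra.IsIntegral k k'' := Algebra.IsIntegral.of_finite k k''
  constructor
  · intro h
    have hA := integralClosure_le_adjoin_bot hK hK' c₂ b₂ hb₂ P h
    have hB := adjoin_le_integralClosure (E := K') (k' := k') P
    exact ⟨le_antisymm hA hB, fun Q hQ =>
      integralClosure_eq_adjoin_top hK hK' c₂ b₂ hb₂ P h Q hQ⟩
  · rintro ⟨h₁, h₂⟩
    have hA := integralClosure_le_adjoin_tower hK hK' c₁ b₁ hb₁ c₂ b₂ hb₂ P h₁ h₂
    have hB := adjoin_le_integralClosure (E := K'') (k' := k'') P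
    exact le_antisymm hA hB



/-- Let `K/k` be a geometric function field of one variable, `P` a place of `K`, and `k ⊆ k' ⊆ k''`
finite extensions, `K' = k' ⊗_k K`, `K'' = k'' ⊗_{k'} K'`. Then `P` is nonsingular with respect to
`k''` if and only if `P` is nonsingular with respect to `k'` and every place `Q` of `K'` above `P`
is nonsingular with respect to `k''`. Here 'nonsingular with respect to `k'`' means that the
integral closure of the valuation ring in `K'` is the ring generated over it by `k'`, both taken
inside `K'` over the image of the valuation ring. -/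
theorem result (k k' k'' : Type u) (K K' K'' : Type v) [Field k] [Field k'] [Field k''] [Field K] [Field K'] [Field K'']
    [Algebra k k'] [Algebra k' k''] [Algebra k k''] [IsScalarTower k k' k'']
    [FiniteDimensional k k'] [FiniteDimensional k' k'']
    [Algebra k K] [Algebra K K'] [Algebra k' K'] [Algebra k K'] [IsScalarTower k k' K'] [IsScalarTower k K K']
    [Algebra K' K''] [Algebra k'' K''] [Algebra k' K''] [Algebra k K''] [Algebra K K'']
    [IsScalarTower k' k'' K''] [IsScalarTower k' K' K''] [IsScalarTower K K' K''] [IsScalarTower k K K'']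
    (h1 : Function.Bijective (Algebra.TensorProduct.productMap
      (IsScalarTower.toAlgHom k k' K') (IsScalarTower.toAlgHom k K K')))
    (h2 : Function.Bijective (Algebra.TensorProduct.productMap
      (IsScalarTower.toAlgHom k' k'' K'') (IsScalarTower.toAlgHom k' K' K'')))
    (hK : FunFld.IsFunctionField k K) (hg : FunFld.IsGeometric k K) (P : FunFld.Place k K) :
    (integralClosure (P.O.toSubring.map (algebraMap K K'')) K'' =
        Algebra.adjoin (P.O.toSubring.map (algebraMap K K'')) (Set.range (algebraMap k'' K''))) ↔
      (integralClosure (P.O.toSubring.map (algebraMap K K')) K' =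
          Algebra.adjoin (P.O.toSubring.map (algebraMap K K')) (Set.range (algebraMap k' K')) ∧
        ∀ Q : FunFld.Place k K', FunFld.IsOver Q P →
          integralClosure (Q.O.toSubring.map (algebraMap K' K'')) K'' =
            Algebra.adjoin (Q.O.toSubring.map (algebraMap K' K'')) (Set.range (algebraMap k'' K''))) := by
  exact main k k' k'' K K' K'' h1 h2 hK hg P

end Groth.Agent.S12534
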