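import Groth.Statements.S12536
import Mathlib
import Groth.Agent.Lib.Helper12.DualSupp
import Groth.Agent.Lib.Helper13.CurveDual12
import Groth.Agent.Lib.Helper3.TopDim

set_option autoImplicit false
set_option linter.style.haveILetI false
universe u
open CategoryTheory CategoryTheory.Limits AlgebraicGeometry Opposite
attribute [local instance] HasDerivedCategory.standard
open Dual3

namespace Groth.Agent.S12536

open Groth.Agent.Lib.Helper20.DualDev in
/-- the statement for `X` over `Spec k` as an instance, with `dim X ≤ 1` -/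
theorem aux (k : Type u) [Field k] (X : Scheme.{u}) [X.Over (Spec (CommRingCat.of k))]
    [IsProper (X ↘ Spec (CommRingCat.of k))] (hdim : topologicalKrullDim X ≤ 1)
    [DCoh.HasRpush (X ↘ Spec (CommRingCat.of k))]
    (hf : DCoh.RpushPreservesQCoh (X ↘ Spec (CommRingCat.of k)))
    (a : DCoh.DQCoh (Spec (CommRingCat.of k)) ⥤ DCoh.DQCoh X)
    (adj : DCoh.RpushQ (X ↘ Spec (CommRingCat.of k)) hf ⊣ a)
    (O : DCoh.DQCoh (Spec (CommRingCat.of k)))
    (hO : Nonempty (O.obj ≅ DCoh.inD (Spec (CommRingCat.of k))
      (Coh.structureModule (Spec (CommRingCat.of k)))))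
    (U : X.Opens) (hU : ∀ x : X, ¬ IsClosed ({x} : Set X) → x ∈ U) (V : X.Opens) :
    Function.Injective ((DCoh.HD (a.obj O).obj (-(1 : ℤ))).presheaf.map
      (homOfLE (inf_le_left : V ⊓ U ≤ V)).op) := by
  have : DCoh.HasShriek (X ↘ Spec (CommRingCat.of k)) hf := ⟨a, ⟨adj⟩⟩
  obtain ⟨t, ht⟩ := Groth.Agent.Lib.helper13.CurveDual.exists_dualizing_pair k X hdim hf O hO
  have : IsNoetherian X :=
    { __ := LocallyOfFiniteType.isLocallyNoetherian (X ↘ Spec (CommRingCat.of k))
      __ := QuasiCompact.compactSpace_of_compactSpace (X ↘ Spec (CommRingCat.of k)) }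
  let e : a ≅ DCoh.shriek (X ↘ Spec (CommRingCat.of k)) hf :=
    adj.rightAdjointUniq (DCoh.shriekAdj (X ↘ Spec (CommRingCat.of k)) hf)
  let eω : DCoh.HD (a.obj O).obj (-(1 : ℤ)) ≅
      DCoh.dualizingMod (X ↘ Spec (CommRingCat.of k)) hf O 1 :=
    (DerivedCategory.homologyFunctor X.Modules (-(1 : ℤ))).mapIso
      ((ObjectProperty.ι _).mapIso (e.app O))
  have hq : (DCoh.dualizingMod (X ↘ Spec (CommRingCat.of k)) hf O 1).IsQuasicoherent :=
    ((DCoh.shriek (X ↘ Spec (CommRingCat.of k)) hf).obj O).property (-1)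
  have hinj := Groth.Agent.Lib.Helper12.DualSupp.injective_res_of_good k
    (DCoh.dualizingMod (X ↘ Spec (CommRingCat.of k)) hf O 1) t ht U hU V
  intro s s' hss
  have hnat := fun z => ConcreteCategory.congr_hom
    (eω.hom.mapPresheaf.naturality (homOfLE (inf_le_left : V ⊓ U ≤ V)).op) z
  have h1 : eω.hom.mapPresheaf.app (op V) s = eω.hom.mapPresheaf.app (op V) s' := by
    apply hinj
    have h2 := hnat s
    have h3 := hnat s'
    rw [ConcreteCategory.comp_apply, ConcreteCategory.comp_apply] at h2 h3
    rw [← h2, ← h3, hss]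
  have hiso : IsIso (eω.hom.mapPresheaf.app (op V)) := by
    have : IsIso eω.hom.mapPresheaf :=
      inferInstanceAs (IsIso ((Scheme.Modules.toPresheaf X).map eω.hom))
    infer_instance
  exact ((ConcreteCategory.isIso_iff_bijective _).1 hiso).1 h1

/-- the dimension of a space is bounded by the dimensions of its irreducible components
(copy of helper3's `dim_le_of_irreducibleComponents`) -/
theorem dim_le_of_irreducibleComponents {T : Type u} [TopologicalSpace T] (d : WithBot ℕ∞)
    (h : ∀ Z ∈ irreducibleComponents T, topologicalKrullDim ↥Z ≤ d) :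
    topologicalKrullDim T ≤ d := by
  unfold topologicalKrullDim
  rw [Order.krullDim_eq_iSup_height]
  apply iSup_le
  intro Z
  obtain ⟨W, hW, hZW, hmax⟩ := exists_preirreducible (Z : Set T) Z.isIrreducible.isPreirreducible
  obtain ⟨z, hz⟩ := Z.isIrreducible.nonempty
  have hWirr : IsIrreducible W := ⟨⟨z, hZW hz⟩, hW⟩
  have hWmem : W ∈ irreducibleComponents T := by
    rw [irreducibleComponents, Set.mem_ofPred_eq]
    exact ⟨hWirr, fun u hu hWu => (hmax u hu.isPreirreducible hWu).le⟩
  exact (Groth.Agent.Lib.helper3.TopDim.height_le_dim_closed Z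
    (isClosed_of_mem_irreducibleComponents W hWmem) hZW).trans (h W hWmem)


/-- Let `X` be proper and reduced over a field `k`, of pure dimension `1`, with dualizing module `ω =
H^{-1}(a(O))` (`a` right adjoint to `Rf_*` on `D_QCoh`, `O` the structure sheaf of `Spec k` in
degree `0`), and let `U ⊆ X` be an open subscheme containing every non-closed point. Then `ω →
j_*(ω|_U)` is injective: for every open `V`, restriction of sections `ω(V) → ω(V ∩ U)` is injective.
(The published statement takes `U` to be the dense open smooth locus of a generically smooth `X`;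
this row allows any open `U` containing the generic points, which is what the printed proof uses:
the kernel is supported at finitely many closed points.) -/
theorem result (k : Type u) [Field k] (X : Scheme.{u}) (f : X ⟶ Spec (CommRingCat.of k))
    [IsProper f] [IsReduced X]
    (hdim : ∀ Z ∈ irreducibleComponents X, topologicalKrullDim ↥Z = (1 : WithBot ℕ∞))
    [DCoh.HasRpush f] (hf : DCoh.RpushPreservesQCoh f)
    (a : DCoh.DQCoh (Spec (CommRingCat.of k)) ⥤ DCoh.DQCoh X) (adj : DCoh.RpushQ f hf ⊣ a)
    (O : DCoh.DQCoh (Spec (CommRingCat.of k)))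
    (hO : Nonempty (O.obj ≅ DCoh.inD (Spec (CommRingCat.of k)) (Coh.structureModule (Spec (CommRingCat.of k)))))
    (U : X.Opens) (hU : ∀ x : X, ¬ IsClosed ({x} : Set X) → x ∈ U) (V : X.Opens) :
    Function.Injective ((DCoh.HD (a.obj O).obj (-(1 : ℤ))).presheaf.map (homOfLE (inf_le_left : V ⊓ U ≤ V)).op) := by
  have hdim' : topologicalKrullDim X ≤ 1 :=
    dim_le_of_irreducibleComponents 1 (fun Z hZ => (hdim Z hZ).le)
  exact @aux k _ X ⟨f⟩ ‹_› hdim' ‹_› hf a adj O hO U hU V

end Groth.Agent.S12536
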