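import Groth.Statements.S12545
import Groth.Agent.Lib.Helper22.GmMu

set_option autoImplicit false
universe u
open TensorProduct LaurentPolynomial
open GIT

namespace Groth.Agent.S12545

/-- Let a commutative bialgebra A over a field k coact linearly on affine ι-space, let λ be a
one-parameter subgroup (a bialgebra map to the Laurent polynomial ring) and v ≠ 0 a vector; write
μ(v, λ) = m when t^m · (v moved by λ(t)) extends to the affine line with non-zero value at t = 0.
Then v moved by λ(t) has no limit as t → 0 exactly when μ(v, λ) > 0, has a limit different from the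
origin exactly when μ(v, λ) = 0, and tends to the origin exactly when μ(v, λ) < 0. -/
theorem result (k : Type u) [Field k] (A : Type u) [CommRing A] [Bialgebra k A]
    (ι : Type u) [Fintype ι] [HopfRep.Comod k A (MvPolynomial ι k)] [GLin.IsCoactAlg k A (MvPolynomial ι k)]
    (hlin : GLin.IsLinear k A ι) (lam : A →ₐc[k] k[T;T⁻¹]) (v : ι → k) (hv : v ≠ 0) :
    (¬ GLin.HasLimit k A lam (GLin.vecPt k ι v) ↔ ∃ m : ℤ, GLin.IsMu k A lam v m ∧ 0 < m) ∧
      ((GLin.HasLimit k A lam (GLin.vecPt k ι v) ∧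
          ¬ GLin.IsLimit k A lam (GLin.vecPt k ι v) (GLin.vecPt k ι (fun _ => (0 : k)))) ↔
        GLin.IsMu k A lam v 0) ∧
      (GLin.IsLimit k A lam (GLin.vecPt k ι v) (GLin.vecPt k ι (fun _ => (0 : k))) ↔
        ∃ m : ℤ, GLin.IsMu k A lam v m ∧ m < 0) := by
  have hex := Groth.Agent.Lib.helper22.GmStable.existsUnique_family
    (Groth.Agent.Lib.helper22.GmStable.orbCoord lam v)
    (Groth.Agent.Lib.helper22.GmStable.exists_orbCoord_ne_zero lam v hv)
  simp only [← Groth.Agent.Lib.helper22.GmStable.isMu_iff] at hex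
  obtain ⟨μ, hμ, -⟩ := hex
  have hμ' := (Groth.Agent.Lib.helper22.GmStable.isMu_iff lam v μ).mp hμ
  obtain ⟨hμ1, i₀, hi₀⟩ := hμ'
  refine ⟨?_, ?_, ?_⟩
  · rw [Groth.Agent.Lib.helper22.GmStable.hasLimit_iff]
    constructor
    · intro h
      push Not at h
      obtain ⟨i, n, hn, hneg⟩ := h
      refine ⟨μ, hμ, ?_⟩
      have := hμ1 i n hn
      omega
    · rintro ⟨m, hm, hpos⟩ h
      obtain ⟨-, i, hi⟩ := (Groth.Agent.Lib.helper22.GmStable.isMu_iff lam v m).mp hm
      have := h i (-m) (Finsupp.mem_support_iff.mpr hi)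
      omega
  · rw [Groth.Agent.Lib.helper22.GmStable.hasLimit_iff, Groth.Agent.Lib.helper22.GmStable.isLimit_zero_iff,
      Groth.Agent.Lib.helper22.GmStable.isMu_iff]
    constructor
    · rintro ⟨h1, h2⟩
      refine ⟨fun i n hn => by have := h1 i n hn; omega, ?_⟩
      push Not at h2
      obtain ⟨i, n, hn, hle⟩ := h2
      have h0 : n = 0 := le_antisymm hle (h1 i n hn)
      subst h0
      exact ⟨i, by rw [neg_zero]; exact Finsupp.mem_support_iff.mp hn⟩
    · rintro ⟨h1, i, hi⟩
      refine ⟨fun i n hn => by have := h1 i n hn; omega, ?_⟩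
      intro h2
      rw [neg_zero] at hi
      exact lt_irrefl _ (h2 i 0 (Finsupp.mem_support_iff.mpr hi))
  · rw [Groth.Agent.Lib.helper22.GmStable.isLimit_zero_iff]
    constructor
    · intro h
      refine ⟨μ, hμ, ?_⟩
      have := h i₀ (-μ) (Finsupp.mem_support_iff.mpr hi₀)
      omega
    · rintro ⟨m, hm, hneg⟩ i n hn
      obtain ⟨h1, -⟩ := (Groth.Agent.Lib.helper22.GmStable.isMu_iff lam v m).mp hm
      have := h1 i n hn
      omega


end Groth.Agent.S12545
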