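import Groth.Statements.S12549
import Mathlib

set_option autoImplicit false
universe u
open GIT

namespace Groth.Agent.S12549

noncomputable def xx (n g i : ℕ) : ℝ := (i : ℝ) + (if i ≤ n - g then (0 : ℝ) else (g : ℝ))

theorem xx_zero (n g : ℕ) : xx n g 0 = 0 := by
  unfold xx
  simp

theorem xx_low (n g a : ℕ) (h : a ≤ n - g) : xx n g a = a := by
  unfold xx
  rw [if_pos h, add_zero]

theorem xx_high (n g a : ℕ) (h : ¬ a ≤ n - g) : xx n g a = (a : ℝ) + g := by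
  unfold xx
  rw [if_neg h]

theorem xx_last (n g : ℕ) (hg : 1 ≤ g) (hgn : g ≤ n) : xx n g n = (n : ℝ) + g :=
  xx_high n g n (by omega)

theorem xx_strictMono (n g : ℕ) : StrictMono (xx n g) := by
  apply strictMono_nat_of_lt_succ
  intro i
  have h1 : ((i + 1 : ℕ) : ℝ) = (i : ℝ) + 1 := by push_cast; ring
  have hg0 : (0 : ℝ) ≤ g := Nat.cast_nonneg g
  by_cases h : i + 1 ≤ n - g
  · rw [xx_low n g (i + 1) h, xx_low n g i (by omega), h1]
    linarith
  · rw [xx_high n g (i + 1) h, h1]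
    by_cases h' : i ≤ n - g
    · rw [xx_low n g i h']
      linarith
    · rw [xx_high n g i h']
      linarith

theorem F_low (n g : ℕ) : ∀ a, a ≤ n - g →
    2 * ∑ i ∈ Finset.range (a + 1), xx n g i = (a : ℝ) * (a + 1) := by
  intro a
  induction a with
  | zero =>
    intro _
    simp [xx_zero]
  | succ a ih =>
    intro h
    rw [Finset.sum_range_succ, mul_add, ih (by omega), xx_low n g (a + 1) h]
    push_cast
    ring

theorem F_high (n g : ℕ) (hgn : g ≤ n) : ∀ a, n - g ≤ a →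
    2 * ∑ i ∈ Finset.range (a + 1), xx n g i =
      (a : ℝ) * (a + 1) + 2 * g * ((a : ℝ) - ((n : ℝ) - g)) := by
  intro a h
  induction a, h using Nat.le_induction with
  | base =>
    rw [F_low n g (n - g) le_rfl, Nat.cast_sub hgn]
    ring
  | succ a h ih =>
    rw [Finset.sum_range_succ, mul_add, ih, xx_high n g (a + 1) (by omega)]
    push_cast
    ring

theorem hinge (n g : ℕ) (hg : 1 ≤ g) (hn : 2 * g ≤ n) (a : ℕ) (ha1 : 1 ≤ a) (han : a ≤ n) :
    ((n : ℝ) + 1) * (xx n g a) ^ 2 <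
      2 * ((n : ℝ) + g) * ∑ i ∈ Finset.range (a + 1), (xx n g a - xx n g i) := by
  have hgn : g ≤ n := by omega
  rw [Finset.sum_sub_distrib, Finset.sum_const, Finset.card_range, nsmul_eq_mul]
  have hG : (1 : ℝ) ≤ g := by exact_mod_cast hg
  have hN : 2 * (g : ℝ) ≤ n := by exact_mod_cast hn
  have hA1 : (1 : ℝ) ≤ a := by exact_mod_cast ha1
  have hAn : (a : ℝ) ≤ n := by exact_mod_cast han
  have hc : ((a + 1 : ℕ) : ℝ) = (a : ℝ) + 1 := by push_cast; ring
  rw [hc]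
  by_cases h : a ≤ n - g
  · have hF := F_low n g a h
    rw [xx_low n g a h]
    generalize (∑ i ∈ Finset.range (a + 1), xx n g i) = F at hF ⊢
    have hF' : F = (a : ℝ) * (a + 1) / 2 := by linarith
    rw [hF']
    have h3 : 0 < (a : ℝ) * (((g : ℝ) - 1) * a + n + g) := by
      apply mul_pos (by linarith)
      have : 0 ≤ ((g : ℝ) - 1) * a := mul_nonneg (by linarith) (by linarith)
      linarith
    have key : 2 * ((n : ℝ) + g) * (((a : ℝ) + 1) * a - (a : ℝ) * (a + 1) / 2) -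
        ((n : ℝ) + 1) * (a : ℝ) ^ 2 = (a : ℝ) * (((g : ℝ) - 1) * a + n + g) := by ring
    linarith
  · have hF := F_high n g hgn a (by omega)
    rw [xx_high n g a h]
    generalize (∑ i ∈ Finset.range (a + 1), xx n g i) = F at hF ⊢
    have hF' : F = ((a : ℝ) * (a + 1) + 2 * g * ((a : ℝ) - ((n : ℝ) - g))) / 2 := by linarith
    rw [hF']
    have h1 : 2 * (g : ℝ) * g ≤ (n : ℝ) * ((n : ℝ) - g) :=
      mul_le_mul hN (by linarith) (by linarith) (by linarith)
    have h2 : 0 < (g : ℝ) * ((n : ℝ) * ((n : ℝ) - g) + n + g - 2 * g * g) := by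
      apply mul_pos (by linarith)
      linarith
    have h3 : 0 ≤ ((n : ℝ) - a) * ((n : ℝ) + g) := mul_nonneg (by linarith) (by linarith)
    have h4 : 0 ≤ ((g : ℝ) - 1) * ((n : ℝ) - a) ^ 2 := mul_nonneg (by linarith) (sq_nonneg _)
    have key : 2 * ((n : ℝ) + g) * (((a : ℝ) + 1) * ((a : ℝ) + g) -
        ((a : ℝ) * (a + 1) + 2 * g * ((a : ℝ) - ((n : ℝ) - g))) / 2) -
        ((n : ℝ) + 1) * ((a : ℝ) + g) ^ 2 =
        (g : ℝ) * ((n : ℝ) * ((n : ℝ) - g) + n + g - 2 * g * g) +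
          ((n : ℝ) - a) * ((n : ℝ) + g) + ((g : ℝ) - 1) * ((n : ℝ) - a) ^ 2 := by ring
    linarith

theorem abel_aux (D ρ : ℕ → ℝ) (hD : ∀ j, 0 ≤ D j) (hρ : Antitone ρ) (hD0 : D 0 = 0) (m : ℕ) :
    D m * (ρ m + ρ (m + 1)) ≤
      ∑ j ∈ Finset.range m, (D (j + 1) - D j) * (ρ (j + 1) + ρ j) := by
  induction m with
  | zero => simp [hD0]
  | succ m ih =>
    rw [Finset.sum_range_succ]
    have h1 : ρ (m + 1 + 1) ≤ ρ m := hρ (by omega)
    have h2 := hD (m + 1)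
    have h3 := mul_le_mul_of_nonneg_left h1 h2
    nlinarith [h3, ih]


/-- Let g ≥ 1 and n ≥ 2g, and let e_0, …, e_n be natural numbers with e_0 = 0, e_n = n + g, e_0 ≤ … ≤
e_n, e_i ≤ i for i ≤ n − g and e_i ≤ i + g for all i. Then for all real r_0 ≥ r_1 ≥ … ≥ r_n with Σ
r_i = 0, not all zero, some chain 0 = c_0 < c_1 < … < c_μ = n has Σ_j (e_(c_(j+1)) − e_(c_j)) ·
(r_(c_(j+1)) + r_(c_j)) < 0. -/
theorem result (n g : ℕ) (hg : 1 ≤ g) (hn : 2 * g ≤ n)
    (e : Fin (n + 1) → ℕ) (he0 : e 0 = 0) (hen : e (Fin.last n) = n + g) (hmono : Monotone e)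
    (hle : ∀ i : Fin (n + 1), (i : ℕ) ≤ n - g → e i ≤ (i : ℕ)) (hle' : ∀ i : Fin (n + 1), e i ≤ (i : ℕ) + g)
    (r : Fin (n + 1) → ℝ) (hanti : Antitone r) (hsum : ∑ i, r i = 0) (hr : r ≠ 0) :
    ∃ (μ : ℕ) (c : Fin (μ + 1) → Fin (n + 1)), StrictMono c ∧ c 0 = 0 ∧ c (Fin.last μ) = Fin.last n ∧
      ∑ j : Fin μ, ((e (c j.succ) : ℝ) - (e (c j.castSucc) : ℝ)) * (r (c j.succ) + r (c j.castSucc)) < 0 := by
  classical
  have hgn : g ≤ n := by omega
  have hnpos : 0 < n := by omega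
  have hmin : ∀ i : ℕ, min i n < n + 1 := fun i => Nat.lt_succ_of_le (Nat.min_le_right i n)
  obtain ⟨rr, hrr⟩ : ∃ rr : ℕ → ℝ, ∀ i, rr i = r ⟨min i n, hmin i⟩ :=
    ⟨fun i => r ⟨min i n, hmin i⟩, fun _ => rfl⟩
  obtain ⟨ee, hee⟩ : ∃ ee : ℕ → ℝ, ∀ i, ee i = (e ⟨min i n, hmin i⟩ : ℝ) :=
    ⟨fun i => (e ⟨min i n, hmin i⟩ : ℝ), fun _ => rfl⟩
  have hfin : ∀ (i : ℕ) (hi : i ≤ n),
      (⟨min i n, hmin i⟩ : Fin (n + 1)) = ⟨i, Nat.lt_succ_of_le hi⟩ :=
    fun i hi => Fin.ext (min_eq_left hi)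
  have hrr_le : ∀ (i : ℕ) (hi : i ≤ n), rr i = r ⟨i, Nat.lt_succ_of_le hi⟩ := fun i hi => by
    rw [hrr, hfin i hi]
  have hee_le : ∀ (i : ℕ) (hi : i ≤ n), ee i = (e ⟨i, Nat.lt_succ_of_le hi⟩ : ℝ) :=
    fun i hi => by rw [hee, hfin i hi]
  have hrr_anti : Antitone rr := by
    intro i j hij
    rw [hrr, hrr]
    apply hanti
    exact Fin.mk_le_mk.mpr (min_le_min_right n hij)
  have hsum' : ∑ i ∈ Finset.range (n + 1), rr i = 0 := by
    rw [← Fin.sum_univ_eq_sum_range rr (n + 1), ← hsum]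
    apply Finset.sum_congr rfl
    intro i _
    rw [hrr_le i (Nat.lt_succ_iff.mp i.2)]
  have hr0n : rr n < rr 0 := by
    by_contra hcon
    push_neg at hcon
    have hall : ∀ i, i ≤ n → rr i = rr 0 := by
      intro i hi
      apply le_antisymm (hrr_anti (Nat.zero_le i))
      exact hcon.trans (hrr_anti hi)
    have h1 : ∑ i ∈ Finset.range (n + 1), rr i = ((n : ℝ) + 1) * rr 0 := by
      rw [Finset.sum_congr rfl
        (fun i hi => hall i (Nat.lt_succ_iff.mp (Finset.mem_range.mp hi))),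
        Finset.sum_const, Finset.card_range, nsmul_eq_mul]
      push_cast
      ring
    rw [hsum'] at h1
    have h2 : rr 0 = 0 := by
      have hpos : (0 : ℝ) < (n : ℝ) + 1 := by positivity
      rcases mul_eq_zero.mp h1.symm with h | h
      · linarith
      · exact h
    apply hr
    funext i
    have h3 := hall i (Nat.lt_succ_iff.mp i.2)
    rw [hrr_le i (Nat.lt_succ_iff.mp i.2), h2] at h3
    exact h3
  obtain ⟨x, hx⟩ : ∃ x : ℕ → ℝ, x = xx n g := ⟨_, rfl⟩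
  have hxmono : StrictMono x := by
    rw [hx]
    exact xx_strictMono n g
  have hx0 : x 0 = 0 := by
    rw [hx]
    exact xx_zero n g
  have hxn : x n = (n : ℝ) + g := by
    rw [hx]
    exact xx_last n g hg hgn
  have hee_x : ∀ i, i ≤ n → ee i ≤ x i := by
    intro i hi
    rw [hee_le i hi, hx]
    by_cases h : i ≤ n - g
    · rw [xx_low n g i h]
      have h1 : e ⟨i, Nat.lt_succ_of_le hi⟩ ≤ i := hle ⟨i, Nat.lt_succ_of_le hi⟩ h
      exact_mod_cast h1
    · rw [xx_high n g i h]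
      have h1 : e ⟨i, Nat.lt_succ_of_le hi⟩ ≤ i + g := hle' ⟨i, Nat.lt_succ_of_le hi⟩
      exact_mod_cast h1
  have hee0 : ee 0 = 0 := by
    rw [hee_le 0 (Nat.zero_le n)]
    have h1 : (⟨0, Nat.lt_succ_of_le (Nat.zero_le n)⟩ : Fin (n + 1)) = 0 := rfl
    rw [h1, he0]
    simp
  have heen : ee n = (n : ℝ) + g := by
    rw [hee_le n le_rfl]
    have h1 : (⟨n, Nat.lt_succ_of_le le_rfl⟩ : Fin (n + 1)) = Fin.last n := rfl
    rw [h1, hen]
    push_cast
    ring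
  -- gift wrapping
  have hex : ∀ a, a < n → ∃ b, a < b ∧ b ≤ n ∧ ∀ i, a < i → i ≤ n →
      (rr b - rr a) / (x b - x a) ≤ (rr i - rr a) / (x i - x a) := by
    intro a ha
    have hne : (Finset.Ioc a n).Nonempty := ⟨n, Finset.mem_Ioc.mpr ⟨ha, le_rfl⟩⟩
    obtain ⟨b, hb, hbmin⟩ := Finset.exists_min_image (Finset.Ioc a n)
      (fun b => (rr b - rr a) / (x b - x a)) hne
    rw [Finset.mem_Ioc] at hb
    exact ⟨b, hb.1, hb.2, fun i hi1 hi2 => hbmin i (Finset.mem_Ioc.mpr ⟨hi1, hi2⟩)⟩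
  choose! nxt hnxt1 hnxt2 hnxt3 using hex
  obtain ⟨v, hv0, hvs⟩ : ∃ v : ℕ → ℕ, v 0 = 0 ∧
      ∀ k, v (k + 1) = if v k < n then nxt (v k) else n :=
    ⟨fun k => Nat.rec 0 (fun _ p => if p < n then nxt p else n) k, rfl, fun _ => rfl⟩
  have hvle : ∀ k, v k ≤ n := by
    intro k
    induction k with
    | zero =>
      rw [hv0]
      exact Nat.zero_le n
    | succ k ih =>
      rw [hvs]
      by_cases h : v k < n
      · rw [if_pos h]
        exact hnxt2 _ h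
      · rw [if_neg h]
  have hvlt : ∀ k, v k < n → v k < v (k + 1) := by
    intro k h
    rw [hvs, if_pos h]
    exact hnxt1 _ h
  have hvmono : Monotone v := by
    apply monotone_nat_of_le_succ
    intro k
    by_cases h : v k < n
    · exact (hvlt k h).le
    · rw [hvs, if_neg h]
      exact hvle k
  have hvge : ∀ k, k ≤ v k ∨ v k = n := by
    intro k
    induction k with
    | zero =>
      left
      exact Nat.zero_le _
    | succ k ih =>
      by_cases h : v k < n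
      · rcases ih with ih | ih
        · left
          have := hvlt k h
          omega
        · omega
      · right
        rw [hvs, if_neg h]
  have hexμ : ∃ k, v k = n := by
    refine ⟨n, ?_⟩
    rcases hvge n with h | h
    · exact le_antisymm (hvle n) h
    · exact h
  obtain ⟨μ, hμ, hμmin⟩ : ∃ μ, v μ = n ∧ ∀ k < μ, v k ≠ n :=
    ⟨Nat.find hexμ, Nat.find_spec hexμ, fun k hk => Nat.find_min hexμ hk⟩
  have hμpos : 0 < μ := by
    rcases Nat.eq_zero_or_pos μ with h | h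
    · rw [h, hv0] at hμ
      omega
    · exact h
  have hvltn : ∀ k, k < μ → v k < n := fun k hk => lt_of_le_of_ne (hvle k) (hμmin k hk)
  obtain ⟨X, hX⟩ : ∃ X : ℕ → ℝ, ∀ m, X m = x (v m) := ⟨fun m => x (v m), fun _ => rfl⟩
  obtain ⟨ρ, hρ⟩ : ∃ ρ : ℕ → ℝ, ∀ m, ρ m = rr (v m) := ⟨fun m => rr (v m), fun _ => rfl⟩
  have hX0 : X 0 = 0 := by rw [hX, hv0, hx0]
  have hXμ : X μ = (n : ℝ) + g := by rw [hX, hμ, hxn]
  have hXlt : ∀ m, m < μ → X m < X (m + 1) := by
    intro m hm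
    rw [hX, hX]
    exact hxmono (hvlt m (hvltn m hm))
  have hρanti : Antitone ρ := by
    intro i j hij
    rw [hρ, hρ]
    exact hrr_anti (hvmono hij)
  obtain ⟨σ, hσ⟩ : ∃ σ : ℕ → ℝ, ∀ m, σ m =
      if m < μ then (ρ (m + 1) - ρ m) / (X (m + 1) - X m) else 0 :=
    ⟨fun m => if m < μ then (ρ (m + 1) - ρ m) / (X (m + 1) - X m) else 0, fun _ => rfl⟩
  have hσ1 : ∀ m, m < μ → ρ (m + 1) = ρ m + σ m * (X (m + 1) - X m) := by
    intro m hm
    rw [hσ, if_pos hm, div_mul_cancel₀ _ (ne_of_gt (sub_pos.mpr (hXlt m hm)))]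
    ring
  have hσ2 : ∀ m, m < μ → ∀ i, v m < i → i ≤ n → ρ m + σ m * (x i - X m) ≤ rr i := by
    intro m hm i hi1 hi2
    have h1 := hnxt3 (v m) (hvltn m hm) i hi1 hi2
    have h2 : v (m + 1) = nxt (v m) := by rw [hvs, if_pos (hvltn m hm)]
    rw [← h2] at h1
    have hpos : 0 < x i - X m := by
      rw [hX]
      exact sub_pos.mpr (hxmono hi1)
    have h3 : σ m ≤ (rr i - ρ m) / (x i - X m) := by
      rw [hσ, if_pos hm, hρ, hρ, hX, hX]
      exact h1
    have h4 := (le_div_iff₀ hpos).mp h3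
    linarith
  have hσ3 : ∀ m, m < μ → σ m ≤ σ (m + 1) := by
    intro m hm
    by_cases h : m + 1 < μ
    · have ha := hσ2 m hm (v (m + 1 + 1))
        (lt_trans (hvlt m (hvltn m hm)) (hvlt (m + 1) (hvltn (m + 1) h))) (hvle _)
      have hb := hσ1 m hm
      have hpos : 0 < X (m + 1 + 1) - X (m + 1) := sub_pos.mpr (hXlt (m + 1) h)
      rw [hσ (m + 1), if_pos h, le_div_iff₀ hpos]
      rw [← hρ (m + 1 + 1), ← hX (m + 1 + 1)] at ha
      nlinarith [ha, hb]
    · rw [hσ (m + 1), if_neg h, hσ m, if_pos hm]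
      exact div_nonpos_of_nonpos_of_nonneg (sub_nonpos.mpr (hρanti (Nat.le_succ m)))
        (le_of_lt (sub_pos.mpr (hXlt m hm)))
  have hσ4 : σ 0 < 0 := by
    have h1 := hnxt3 (v 0) (hvltn 0 hμpos) n (by rw [hv0]; exact hnpos) le_rfl
    have h2 : v (0 + 1) = nxt (v 0) := by rw [hvs, if_pos (hvltn 0 hμpos)]
    rw [← h2] at h1
    have h3 : (rr n - rr (v 0)) / (x n - x (v 0)) < 0 := by
      rw [hv0]
      exact div_neg_of_neg_of_pos (sub_neg.mpr hr0n) (sub_pos.mpr (hxmono hnpos))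
    rw [hσ, if_pos hμpos, hρ, hρ, hX, hX]
    exact lt_of_le_of_lt h1 h3
  obtain ⟨H, hH⟩ : ∃ H : ℕ → ℝ, ∀ m, H m = ∑ i ∈ Finset.range (v m + 1), (X m - x i) :=
    ⟨fun m => ∑ i ∈ Finset.range (v m + 1), (X m - x i), fun _ => rfl⟩
  obtain ⟨ψ, hψ⟩ : ∃ ψ : ℕ → ℝ, ∀ m, ψ m =
      ((n : ℝ) + 1) * (X m) ^ 2 - 2 * ((n : ℝ) + g) * H m :=
    ⟨fun m => ((n : ℝ) + 1) * (X m) ^ 2 - 2 * ((n : ℝ) + g) * H m, fun _ => rfl⟩
  have hψ0 : ψ 0 = 0 := by
    rw [hψ, hH, hX0, hv0, zero_add, Finset.sum_range_one, hx0]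
    ring
  have hψneg : ∀ m, 1 ≤ m → m ≤ μ → ψ m < 0 := by
    intro m hm1 _
    have hv1 : 1 ≤ v m := by
      have h1 : v 0 < v (0 + 1) := hvlt 0 (hvltn 0 hμpos)
      have h2 : v (0 + 1) ≤ v m := hvmono hm1
      omega
    have h3 := hinge n g hg hn (v m) hv1 (hvle m)
    rw [← hx] at h3
    rw [hψ, hH, hX]
    linarith
  obtain ⟨B, hB⟩ : ∃ B : ℕ → ℝ, ∀ m, B m =
      ∑ i ∈ Finset.Ico (v m + 1) (v (m + 1) + 1), (x i - X m) :=
    ⟨fun m => ∑ i ∈ Finset.Ico (v m + 1) (v (m + 1) + 1), (x i - X m), fun _ => rfl⟩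
  obtain ⟨cnt, hcnt⟩ : ∃ cnt : ℕ → ℝ, ∀ m, cnt m = (v (m + 1) : ℝ) - (v m : ℝ) :=
    ⟨fun m => (v (m + 1) : ℝ) - (v m : ℝ), fun _ => rfl⟩
  obtain ⟨S, hS⟩ : ∃ S : ℕ → ℝ, ∀ m, S m =
      ρ 0 + ∑ j ∈ Finset.range m, (cnt j * ρ j + σ j * B j) :=
    ⟨fun m => ρ 0 + ∑ j ∈ Finset.range m, (cnt j * ρ j + σ j * B j), fun _ => rfl⟩
  obtain ⟨Φ, hΦ⟩ : ∃ Φ : ℕ → ℝ, ∀ m, Φ m =
      ∑ j ∈ Finset.range m, (X (j + 1) - X j) * (ρ (j + 1) + ρ j) :=
    ⟨fun m => ∑ j ∈ Finset.range m, (X (j + 1) - X j) * (ρ (j + 1) + ρ j), fun _ => rfl⟩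
  obtain ⟨W, hW⟩ : ∃ W : ℕ → ℝ, ∀ m, W m =
      ∑ k ∈ Finset.range m, (σ (k + 1) - σ k) * (-ψ (k + 1)) :=
    ⟨fun m => ∑ k ∈ Finset.range m, (σ (k + 1) - σ k) * (-ψ (k + 1)), fun _ => rfl⟩
  have hle1 : ∀ m, m < μ → v m + 1 ≤ v (m + 1) + 1 := by
    intro m hm
    have := hvlt m (hvltn m hm)
    omega
  have hcard : ∀ m, m < μ → ((v (m + 1) + 1 - (v m + 1) : ℕ) : ℝ) =
      (v (m + 1) : ℝ) - (v m : ℝ) := by
    intro m hm
    rw [Nat.cast_sub (hle1 m hm)]
    push_cast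
    ring
  have hHrec : ∀ m, m < μ →
      H (m + 1) = H m + ((v (m + 1) : ℝ) + 1) * (X (m + 1) - X m) - B m := by
    intro m hm
    rw [hH (m + 1), ← Finset.sum_range_add_sum_Ico _ (hle1 m hm), hH m, hB m]
    have e1 : ∑ i ∈ Finset.range (v m + 1), (X (m + 1) - x i) =
        ∑ i ∈ Finset.range (v m + 1), (X m - x i) +
          ((v m : ℝ) + 1) * (X (m + 1) - X m) := by
      rw [show (∑ i ∈ Finset.range (v m + 1), (X (m + 1) - x i)) =
        ∑ i ∈ Finset.range (v m + 1), ((X m - x i) + (X (m + 1) - X m)) from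
        Finset.sum_congr rfl (fun i _ => by ring)]
      rw [Finset.sum_add_distrib, Finset.sum_const, Finset.card_range, nsmul_eq_mul]
      push_cast
      ring
    have e2 : ∑ i ∈ Finset.Ico (v m + 1) (v (m + 1) + 1), (X (m + 1) - x i) =
        ((v (m + 1) : ℝ) - (v m : ℝ)) * (X (m + 1) - X m) -
          ∑ i ∈ Finset.Ico (v m + 1) (v (m + 1) + 1), (x i - X m) := by
      rw [show (∑ i ∈ Finset.Ico (v m + 1) (v (m + 1) + 1), (X (m + 1) - x i)) =
        ∑ i ∈ Finset.Ico (v m + 1) (v (m + 1) + 1), ((X (m + 1) - X m) - (x i - X m)) from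
        Finset.sum_congr rfl (fun i _ => by ring)]
      rw [Finset.sum_sub_distrib, Finset.sum_const, Nat.card_Ico, nsmul_eq_mul, hcard m hm]
    rw [e1, e2]
    ring
  have hSle : ∀ m, m ≤ μ → S m ≤ ∑ i ∈ Finset.range (v m + 1), rr i := by
    intro m
    induction m with
    | zero =>
      intro _
      rw [hS 0, Finset.sum_range_zero, add_zero, hv0, zero_add, Finset.sum_range_one, hρ 0, hv0]
    | succ m ih =>
      intro hm
      have hm' : m < μ := hm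
      rw [hS (m + 1), Finset.sum_range_succ, ← add_assoc, ← hS m,
        ← Finset.sum_range_add_sum_Ico _ (hle1 m hm')]
      have h1 := ih hm'.le
      have h2 : cnt m * ρ m + σ m * B m ≤
          ∑ i ∈ Finset.Ico (v m + 1) (v (m + 1) + 1), rr i := by
        have h3 : ∑ i ∈ Finset.Ico (v m + 1) (v (m + 1) + 1), (ρ m + σ m * (x i - X m)) ≤
            ∑ i ∈ Finset.Ico (v m + 1) (v (m + 1) + 1), rr i := by
          apply Finset.sum_le_sum
          intro i hi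
          rw [Finset.mem_Ico] at hi
          exact hσ2 m hm' i (by omega) (by have := hvle (m + 1); omega)
        rw [Finset.sum_add_distrib, Finset.sum_const, Nat.card_Ico, nsmul_eq_mul,
          ← Finset.mul_sum, hcard m hm', ← hB m, ← hcnt m] at h3
        exact h3
      linarith
  have hInv : ∀ m, m ≤ μ →
      2 * ((n : ℝ) + g) * S m - ((n : ℝ) + 1) * Φ m =
        ρ m * (2 * ((n : ℝ) + g) * ((v m : ℝ) + 1) - 2 * ((n : ℝ) + 1) * X m) +
          σ m * ψ m + W m := by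
    intro m
    induction m with
    | zero =>
      intro _
      rw [hS 0, hΦ 0, hW 0, Finset.sum_range_zero, Finset.sum_range_zero,
        Finset.sum_range_zero, hψ0, hX0, hv0]
      push_cast
      ring
    | succ m ih =>
      intro hm
      have hm' : m < μ := hm
      have ih' := ih hm'.le
      have e1 := hσ1 m hm'
      have e2 := hHrec m hm'
      have hS' : S (m + 1) = S m + (cnt m * ρ m + σ m * B m) := by
        rw [hS (m + 1), Finset.sum_range_succ, ← add_assoc, ← hS m]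
      have hΦ' : Φ (m + 1) = Φ m + (X (m + 1) - X m) * (ρ (m + 1) + ρ m) := by
        rw [hΦ (m + 1), Finset.sum_range_succ, ← hΦ m]
      have hW' : W (m + 1) = W m + (σ (m + 1) - σ m) * (-ψ (m + 1)) := by
        rw [hW (m + 1), Finset.sum_range_succ, ← hW m]
      rw [hS', hΦ', hW', hψ (m + 1), e2, e1, hcnt m]
      rw [hψ m] at ih'
      linear_combination ih'
  have hfinal : 2 * ((n : ℝ) + g) * S μ - ((n : ℝ) + 1) * Φ μ = W μ := by
    have h1 := hInv μ le_rfl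
    rw [h1, hXμ, hμ, hσ μ, if_neg (lt_irrefl μ)]
    ring
  have hSμ : S μ ≤ 0 := by
    have h1 := hSle μ le_rfl
    rw [hμ, hsum'] at h1
    exact h1
  have hterm : ∀ k ∈ Finset.range μ, 0 ≤ (σ (k + 1) - σ k) * (-ψ (k + 1)) := by
    intro k hk
    rw [Finset.mem_range] at hk
    exact mul_nonneg (sub_nonneg.mpr (hσ3 k hk))
      (le_of_lt (neg_pos.mpr (hψneg (k + 1) (by omega) hk)))
  have hWpos : 0 < W μ := by
    rw [hW μ]
    apply Finset.sum_pos' hterm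
    by_contra hno
    push_neg at hno
    have hconst : ∀ k, k ≤ μ → σ k = σ 0 := by
      intro k
      induction k with
      | zero =>
        intro _
        rfl
      | succ k ih =>
        intro hk
        have hk' : k < μ := hk
        have h1 := hno k (Finset.mem_range.mpr hk')
        have h2 := hterm k (Finset.mem_range.mpr hk')
        have h3 : (σ (k + 1) - σ k) * (-ψ (k + 1)) = 0 := le_antisymm h1 h2
        have h4 : -ψ (k + 1) ≠ 0 := ne_of_gt (neg_pos.mpr (hψneg (k + 1) (by omega) hk))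
        have h5 : σ (k + 1) - σ k = 0 := by
          rcases mul_eq_zero.mp h3 with h | h
          · exact h
          · exact absurd h h4
        rw [← ih hk'.le]
        linarith
    have h6 := hconst μ le_rfl
    rw [hσ μ, if_neg (lt_irrefl μ)] at h6
    linarith
  have hΦneg : Φ μ < 0 := by
    have hn1 : (0 : ℝ) < (n : ℝ) + 1 := by positivity
    have hng : (0 : ℝ) ≤ (n : ℝ) + g := by positivity
    have h1 := mul_nonneg hng (neg_nonneg.mpr hSμ)
    have h2 : ((n : ℝ) + 1) * Φ μ < 0 := by nlinarith [h1, hfinal, hWpos]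
    by_contra hcon
    push_neg at hcon
    have h3 := mul_nonneg hn1.le hcon
    linarith
  obtain ⟨D, hD⟩ : ∃ D : ℕ → ℝ, ∀ m, D m = X m - ee (v m) :=
    ⟨fun m => X m - ee (v m), fun _ => rfl⟩
  have hDnn : ∀ j, 0 ≤ D j := fun j => by
    rw [hD, hX]
    exact sub_nonneg.mpr (hee_x (v j) (hvle j))
  have hD0 : D 0 = 0 := by rw [hD, hX0, hv0, hee0, sub_zero]
  have hDμ : D μ = 0 := by rw [hD, hXμ, hμ, heen, sub_self]
  have hab := abel_aux D ρ hDnn hρanti hD0 μ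
  rw [hDμ, zero_mul] at hab
  have hΦe : ∑ j ∈ Finset.range μ, (ee (v (j + 1)) - ee (v j)) * (ρ (j + 1) + ρ j) ≤ Φ μ := by
    have h1 : ∑ j ∈ Finset.range μ, (D (j + 1) - D j) * (ρ (j + 1) + ρ j) =
        Φ μ - ∑ j ∈ Finset.range μ, (ee (v (j + 1)) - ee (v j)) * (ρ (j + 1) + ρ j) := by
      rw [hΦ μ, ← Finset.sum_sub_distrib]
      apply Finset.sum_congr rfl
      intro j _
      rw [hD, hD]
      ring
    linarith
  have hE : ∀ k, ee (v k) = (e ⟨v k, Nat.lt_succ_of_le (hvle k)⟩ : ℝ) :=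
    fun k => hee_le (v k) (hvle k)
  have hR : ∀ k, ρ k = r ⟨v k, Nat.lt_succ_of_le (hvle k)⟩ := fun k => by
    rw [hρ]
    exact hrr_le (v k) (hvle k)
  refine ⟨μ, fun j => ⟨v j, Nat.lt_succ_of_le (hvle j)⟩, ?_, ?_, ?_, ?_⟩
  · apply Fin.strictMono_iff_lt_succ.mpr
    intro i
    show v (i.castSucc : ℕ) < v (i.succ : ℕ)
    rw [Fin.val_castSucc, Fin.val_succ]
    exact hvlt i (hvltn i i.2)
  · apply Fin.ext
    show v ((0 : Fin (μ + 1)) : ℕ) = ((0 : Fin (n + 1)) : ℕ)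
    rw [Fin.val_zero, Fin.val_zero]
    exact hv0
  · apply Fin.ext
    show v ((Fin.last μ : Fin (μ + 1)) : ℕ) = ((Fin.last n : Fin (n + 1)) : ℕ)
    rw [Fin.val_last, Fin.val_last]
    exact hμ
  · have h := Fin.sum_univ_eq_sum_range
      (fun j => (ee (v (j + 1)) - ee (v j)) * (ρ (j + 1) + ρ j)) μ
    refine lt_of_le_of_lt (le_trans (le_of_eq ?_) hΦe) hΦneg
    rw [← h]
    apply Finset.sum_congr rfl
    intro j _
    simp only [Fin.val_succ, Fin.val_castSucc, hE, hR]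


end Groth.Agent.S12549
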