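import Groth.Statements.S1255
import Groth.Agent.S1217
import Groth.Agent.Lib.Helper26.PureCov3
import Groth.Agent.Lib.Helper26.RelAss1
import Groth.Agent.Lib.Helper26.Purity7
import Groth.Agent.Lib.Helper3.BijRes1
import Groth.Agent.Lib.Helper3.ElemDev1

set_option linter.style.haveILetI false

set_option autoImplicit false
universe u
open FlatMor

namespace Groth.Agent.S1255

/-- Ring form, all schemes affine: let B be an A-algebra of finite type, N a finite B-module and p a
prime of A such that N is flat over A at every prime of B over p. Let (A, p) → (A', p') be an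
elementary étale ring map and B' an étale B-algebra which is compatibly an A'-algebra of finite
type, with base change N' of N to B', such that N' is pure along the fibre over p' and every prime q
of B over p whose extension to the fibre ring over p is an associated prime of the fibre module of N
is the contraction of a prime of B' lying over p'. Let B_{A'} and N_{A'} be the base changes of B
and N to A' (any models), with the induced map B_{A'} → B'. Then N is pure along the fibre over p if
and only if: for every prime t' ⊆ p' of A' and every prime Q of B_{A'} over t' whose extension to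
the fibre ring over t' is an associated prime of the fibre module of N_{A'}, Q is the contraction of
a prime of B'. (The published statement asks in its covering hypothesis only that the image of Spec
B' in Spec B contain the associated primes of the fibre module of N over p, without requiring the
covering primes of B' to lie over p'. That is not enough when Spec A' has a second point over p —
with Spec A' = Spec A ⊔ Spec A and Spec B' over the other copy the "only if" fails — so the
hypothesis is stated here in the stronger form: the covering primes of B' lie over p'.) -/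
theorem result {A B : Type u} [CommRing A] [CommRing B] [Algebra A B] [Algebra.FiniteType A B]
    (N : Type u) [AddCommGroup N] [Module B N] [Module A N] [IsScalarTower A B N] [Module.Finite B N] (p : Ideal A) [p.IsPrime]
    (hflat : ∀ (q : Ideal B) [q.IsPrime], q.LiesOver p → FlatCA.FlatAt A q N)
    (A' : Type u) [CommRing A'] [Algebra A A'] (p' : Ideal A') [p'.IsPrime] (het : FlatCA.IsEtaleNhd A A' p p')
    (B' : Type u) [CommRing B'] [Algebra B B'] [Algebra A' B'] [Algebra A B'] [IsScalarTower A B B'] [IsScalarTower A A' B']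
    [Algebra.Etale B B'] [Algebra.FiniteType A' B']
    (N' : Type u) [AddCommGroup N'] [Module B' N'] [Module B N'] [IsScalarTower B B' N'] [Module A' N'] [IsScalarTower A' B' N']
    (f : N →ₗ[B] N') (hf : IsBaseChange B' f)
    (hpure : FlatCA.IsPureAlong A' B' N' p')
    (hcov : ∀ (q : Ideal B) [q.IsPrime], q.LiesOver p →
      FlatCA.fiberIdeal p q ∈ associatedPrimes (p.Fiber B) (FlatCA.fiberMod p B N) →
      ∃ q' : Ideal B', q'.IsPrime ∧ q'.comap (algebraMap B B') = q ∧ q'.comap (algebraMap A' B') = p')
    (BA NA : Type u) [CommRing BA] [Algebra B BA] [Algebra A' BA] [Algebra A BA] [IsScalarTower A B BA] [IsScalarTower A A' BA]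
    [Algebra.IsPushout A B A' BA] [Algebra BA B'] [IsScalarTower B BA B'] [IsScalarTower A' BA B']
    [AddCommGroup NA] [Module BA NA] [Module B NA] [IsScalarTower B BA NA] [Module A' NA] [IsScalarTower A' BA NA]
    (fA : N →ₗ[B] NA) (hfA : IsBaseChange BA fA) :
    FlatCA.IsPureAlong A B N p ↔
      ∀ (t' : Ideal A') [t'.IsPrime], t' ≤ p' → ∀ (Q : Ideal BA) [Q.IsPrime], Q.LiesOver t' →
        FlatCA.fiberIdeal t' Q ∈ associatedPrimes (t'.Fiber BA) (FlatCA.fiberMod t' BA NA) →
        ∃ Q' : Ideal B', Q'.IsPrime ∧ Q'.comap (algebraMap BA B') = Q := by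
  classical
  obtain ⟨etA', hp'p, hκ⟩ := het
  haveI := etA'
  haveI := hp'p
  have het' : FlatCA.IsEtaleNhd A A' p p' := ⟨etA', hp'p, hκ⟩
  -- properties of `BA`
  haveI hpushs : Algebra.IsPushout A A' B BA := Algebra.IsPushout.symm inferInstance
  haveI : Algebra.Etale B BA :=
    Algebra.Etale.of_equiv (Algebra.IsPushout.equiv A B A' BA)
  haveI : Algebra.FiniteType A' BA :=
    Algebra.FiniteType.equiv inferInstance (Algebra.IsPushout.equiv A A' B BA)
  haveI : Module.Finite BA NA := Module.Finite.equiv hfA.equiv
  haveI : Algebra.Etale BA B' := Algebra.Etale.of_restrictScalars (R := B) (A := BA) (B := B')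
  haveI : Module.Flat A (Localization.AtPrime p') := Module.Flat.trans A A' _
  -- the map `NA → N'`
  letI mBAN' : Module BA N' := Module.compHom N' (algebraMap BA B')
  haveI twBAB'N' : IsScalarTower BA B' N' := IsScalarTower.of_algebraMap_smul fun _ _ => rfl
  haveI twBBAN' : IsScalarTower B BA N' := IsScalarTower.of_algebraMap_smul fun b x => by
    show algebraMap BA B' (algebraMap B BA b) • x = b • x
    rw [← IsScalarTower.algebraMap_apply B BA B', algebraMap_smul]
  let fBA : NA →ₗ[BA] N' := hfA.lift f
  have hfBA : IsBaseChange B' fBA := by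
    apply IsBaseChange.of_comp hfA
    rw [hfA.lift_comp]
    exact hf
  constructor
  · -- purity gives the covering
    intro hpureN t' ht' hle Q hQ hQt' hass
    have h1 : ¬ FlatCA.IsImpurity A B N p A' BA NA fA t' p' Q := hpureN A' BA NA fA t' p' Q het'
    have h2 : ∃ Q₁ : Ideal BA, Q₁.IsPrime ∧ Q ≤ Q₁ ∧ Q₁.LiesOver p' := by
      by_contra hno
      push Not at hno
      exact h1 ⟨inferInstance, hfA, hle, hp'p, hQt', hass, fun P' hP' hQP' hP'p' =>
        hno P' hP' hQP' hP'p'⟩
    obtain ⟨Q₁, hQ₁, hQQ₁, hQ₁p'⟩ := h2
    haveI : (Q₁.comap (algebraMap B BA)).IsPrime := Ideal.comap_isPrime _ _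
    haveI hQ₁q₁ : Q₁.LiesOver (Q₁.comap (algebraMap B BA)) := ⟨rfl⟩
    have hq₁p : (Q₁.comap (algebraMap B BA)).LiesOver p := by
      constructor
      rw [hp'p.over, hQ₁p'.over, Ideal.under_def, Ideal.under_def, Ideal.under_def,
        Ideal.comap_comap, Ideal.comap_comap, ← IsScalarTower.algebraMap_eq,
        ← IsScalarTower.algebraMap_eq]
    have hfl : FlatCA.FlatAt A' Q₁ NA :=
      (Groth.Agent.Lib.helper3.ElemDev.chain₁ (R := A) (R' := A') fA hfA
        (LinearEquiv.refl BA NA) (Q₁.comap (algebraMap B BA)) Q₁).mp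
        (hflat (Q₁.comap (algebraMap B BA)) hq₁p)
    obtain ⟨Q₂, hQ₂, hQQ₂, hQ₂Q₁, hQ₂p', hass₂⟩ :=
      Groth.Agent.Lib.helper26.RelAss.exists_ass_specialization NA p' Q₁ hfl t' Q hQQ₁ hass
    have hass₂' := Groth.Agent.Lib.helper26.Purity.fiberIdeal_comap_mem_associatedPrimes N A' BA NA
      fA hfA p p' Q₂ hass₂
    haveI : (Q₂.comap (algebraMap B BA)).IsPrime := Ideal.comap_isPrime _ _
    have hq₂p : (Q₂.comap (algebraMap B BA)).LiesOver p := by
      constructor
      rw [hp'p.over, hQ₂p'.over, Ideal.under_def, Ideal.under_def, Ideal.under_def,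
        Ideal.comap_comap, Ideal.comap_comap, ← IsScalarTower.algebraMap_eq,
        ← IsScalarTower.algebraMap_eq]
    obtain ⟨q', hq', hq'q₂, hq'p'⟩ := hcov (Q₂.comap (algebraMap B BA)) hq₂p hass₂'
    haveI := hq'
    haveI : (q'.comap (algebraMap BA B')).IsPrime := Ideal.comap_isPrime _ _
    have heq : q'.comap (algebraMap BA B') = Q₂ := by
      apply Groth.Agent.Lib.helper3.BijRes.eq_of_under_eq p p' hκ.2 B BA
      · rw [Ideal.under_def, Ideal.comap_comap, ← IsScalarTower.algebraMap_eq]
        exact hq'p'
      · exact hQ₂p'.over.symm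
      · rw [Ideal.under_def, Ideal.under_def, Ideal.comap_comap, ← IsScalarTower.algebraMap_eq]
        exact hq'q₂
    haveI : q'.LiesOver Q₂ := ⟨heq.symm⟩
    obtain ⟨Q', hQ'le, hQ'prime, hQ'over⟩ :=
      Ideal.exists_ideal_le_liesOver_of_le (p := Q) (q := Q₂) q' hQQ₂
    exact ⟨Q', hQ'prime, hQ'over.over.symm⟩
  · -- the covering gives purity
    intro H
    have hpureA : FlatCA.IsPureAlong A' BA NA p' := by
      intro A₃ B₃ N₃ _ _ _ _ _ _ _ _ _ _ _ _ _ _ f₃ t₃' t₃ _ _ P₃ _ het₃ himp
      obtain ⟨hpush, hbc, hle, htp, hPt', hass, hno⟩ := id himp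
      haveI := hpush
      haveI := htp
      haveI := hPt'
      haveI : (t₃'.under A').IsPrime := Ideal.comap_isPrime _ _
      haveI : t₃'.LiesOver (t₃'.under A') := ⟨rfl⟩
      have hassQ := Groth.Agent.Lib.helper26.Purity.fiberIdeal_comap_mem_associatedPrimes NA A₃ B₃
        N₃ f₃ hbc (t₃'.under A') t₃' P₃ hass
      haveI : (P₃.comap (algebraMap BA B₃)).IsPrime := Ideal.comap_isPrime _ _
      have hlo : (P₃.comap (algebraMap BA B₃)).LiesOver (t₃'.under A') := by
        constructor
        rw [hPt'.over, Ideal.under_def, Ideal.under_def, Ideal.under_def, Ideal.comap_comap,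
          Ideal.comap_comap, ← IsScalarTower.algebraMap_eq, ← IsScalarTower.algebraMap_eq]
      have hle' : t₃'.under A' ≤ p' := by
        rw [htp.over]
        exact Ideal.comap_mono hle
      obtain ⟨Q', hQ'prime, hQ'⟩ := H (t₃'.under A') hle' (P₃.comap (algebraMap BA B₃)) hlo hassQ
      haveI := hQ'prime
      exact Groth.Agent.Lib.helper26.PureCov.not_pure_cover_of_isImpurity NA p' B' N' fBA A₃ B₃ N₃
        f₃ t₃' t₃ P₃ hfBA himp Q' hQ' het₃ hpure
    exact (Groth.Agent.S1217.result N p A' BA NA fA hfA p').1 hpureA

end Groth.Agent.S1255
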