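import Groth.Statements.S12550
import Mathlib
-- import your own Groth.Agent.* helpers here

set_option autoImplicit false
universe u
open GIT

namespace Groth.Agent.S12550

/-- Let V be a finite-dimensional vector space over a field K and x_0, …, x_m non-zero vectors, a
configuration of m + 1 points of the projective space P(V). If for every subspace L with 0 ≠ L ≠ V
the number of indices i with x_i ∈ L, multiplied by dim V, is less than dim L · (m + 1) (the
configuration is stable), then no two proper subspaces L', L'' with L' ∩ L'' = 0 contain between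
them all the x_i. -/
theorem result (K : Type u) [Field K]
    (V : Type u) [AddCommGroup V] [Module K V] [FiniteDimensional K V]
    (m : ℕ) (x : Fin (m + 1) → V) (hx : ∀ i, x i ≠ 0)
    (hst : ∀ L : Submodule K V, L ≠ ⊥ → L ≠ ⊤ →
      Set.ncard {i : Fin (m + 1) | x i ∈ L} * Module.finrank K V < Module.finrank K L * (m + 1)) :
    ¬ ∃ L' L'' : Submodule K V, L' ≠ ⊤ ∧ L'' ≠ ⊤ ∧ Disjoint L' L'' ∧ ∀ i, x i ∈ L' ∨ x i ∈ L'' := by
  rintro ⟨L', L'', hL', hL'', hdisj, hcov⟩
  set n' := Set.ncard {i : Fin (m + 1) | x i ∈ L'} with hn'
  set n'' := Set.ncard {i : Fin (m + 1) | x i ∈ L''} with hn''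
  have hsum : m + 1 ≤ n' + n'' := by
    have hu : {i : Fin (m + 1) | x i ∈ L'} ∪ {i : Fin (m + 1) | x i ∈ L''} = Set.univ := by
      ext i
      simp only [Set.mem_union, Set.mem_setOf_eq, Set.mem_univ, iff_true]
      exact hcov i
    have h1 := Set.ncard_union_le {i : Fin (m + 1) | x i ∈ L'} {i : Fin (m + 1) | x i ∈ L''}
    rw [hu, Set.ncard_univ, Nat.card_fin] at h1
    exact h1
  have hdim : Module.finrank K L' + Module.finrank K L'' ≤ Module.finrank K V :=
    Submodule.finrank_add_finrank_le_of_disjoint hdisj
  have hn'le : n' ≤ m + 1 := by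
    have := Set.ncard_le_ncard (Set.subset_univ {i : Fin (m + 1) | x i ∈ L'})
    rwa [Set.ncard_univ, Nat.card_fin] at this
  have hn''le : n'' ≤ m + 1 := by
    have := Set.ncard_le_ncard (Set.subset_univ {i : Fin (m + 1) | x i ∈ L''})
    rwa [Set.ncard_univ, Nat.card_fin] at this
  by_cases h1 : L' = ⊥
  · -- all points in L''
    have hall : ∀ i, x i ∈ L'' := by
      intro i
      rcases hcov i with h | h
      · rw [h1, Submodule.mem_bot] at h
        exact absurd h (hx i)
      · exact h
    have hne : L'' ≠ ⊥ := by
      intro h
      have := hall 0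
      rw [h, Submodule.mem_bot] at this
      exact hx 0 this
    have hcount : n'' = m + 1 := by
      have : {i : Fin (m + 1) | x i ∈ L''} = Set.univ := by
        ext i; simp [hall i]
      rw [hn'', this, Set.ncard_univ, Nat.card_fin]
    have := hst L'' hne hL''
    rw [← hn'', hcount] at this
    have hlt : Module.finrank K L'' ≤ Module.finrank K V := Submodule.finrank_le L''
    nlinarith
  · by_cases h2 : L'' = ⊥
    · have hall : ∀ i, x i ∈ L' := by
        intro i
        rcases hcov i with h | h
        · exact h
        · rw [h2, Submodule.mem_bot] at h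
          exact absurd h (hx i)
      have hcount : n' = m + 1 := by
        have : {i : Fin (m + 1) | x i ∈ L'} = Set.univ := by
          ext i; simp [hall i]
        rw [hn', this, Set.ncard_univ, Nat.card_fin]
      have := hst L' h1 hL'
      rw [← hn', hcount] at this
      have hlt : Module.finrank K L' ≤ Module.finrank K V := Submodule.finrank_le L'
      nlinarith
    · have e1 := hst L' h1 hL'
      have e2 := hst L'' h2 hL''
      rw [← hn'] at e1
      rw [← hn''] at e2
      nlinarith

end Groth.Agent.S12550
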