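import Groth.Statements.S12552
import Mathlib

set_option autoImplicit false
universe u
open GIT

namespace Groth.Agent.S12552

open scoped BigOperators

namespace RH

section Abstract

variable {α : Type*} [DecidableEq α] {k : ℕ}

/-- total coloured rank -/
def rho (r : Finset α → ℕ) (A : α → Finset (Fin k)) (J : Finset α) : ℕ :=
  ∑ t : Fin k, r (J.filter (fun e => t ∈ A e))

structure IsRank (r : Finset α → ℕ) : Prop where
  mono : ∀ {A B : Finset α}, A ⊆ B → r A ≤ r B
  submod : ∀ A B : Finset α, r (A ∪ B) + r (A ∩ B) ≤ r A + r B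
  le_card : ∀ A : Finset α, r A ≤ A.card

theorem IsRank.empty {r : Finset α → ℕ} (hr : IsRank r) : r ∅ = 0 :=
  Nat.le_zero.mp ((hr.le_card ∅).trans (by simp))

theorem reduce_step {r : Finset α → ℕ} (hr : IsRank r) (A : α → Finset (Fin k))
    (hC : ∀ J, J.card ≤ rho r A J) (e0 : α) (s s' : Fin k) (hne : s ≠ s') :
    (∀ J, J.card ≤ rho r (Function.update A e0 ((A e0).erase s)) J) ∨
    (∀ J, J.card ≤ rho r (Function.update A e0 ((A e0).erase s')) J) := by
  by_contra hcon
  rw [not_or, not_forall, not_forall] at hcon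
  obtain ⟨⟨J₁, h₁⟩, ⟨J₂, h₂⟩⟩ := hcon
  rw [not_le] at h₁ h₂
  have mem_of : ∀ (B : Finset (Fin k)) (J : Finset α),
      rho r (Function.update A e0 B) J < J.card → e0 ∈ J := by
    intro B J hlt
    by_contra hn
    have : rho r (Function.update A e0 B) J = rho r A J := by
      unfold rho
      refine Finset.sum_congr rfl fun t _ => congrArg r (Finset.filter_congr fun e he => ?_)
      rw [Function.update_of_ne (ne_of_mem_of_not_mem he hn)]
    rw [this] at hlt
    exact absurd (hC J) (not_le.mpr hlt)
  have he1 : e0 ∈ J₁ := mem_of _ _ h₁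
  have he2 : e0 ∈ J₂ := mem_of _ _ h₂
  have key : rho r A (J₁ ∪ J₂) + rho r A ((J₁ ∩ J₂).erase e0) ≤
      rho r (Function.update A e0 ((A e0).erase s)) J₁ +
        rho r (Function.update A e0 ((A e0).erase s')) J₂ := by
    unfold rho
    rw [← Finset.sum_add_distrib, ← Finset.sum_add_distrib]
    refine Finset.sum_le_sum fun t _ => ?_
    refine le_trans (Nat.add_le_add (hr.mono ?_) (hr.mono ?_)) (hr.submod _ _)
    · intro e he
      rw [Finset.mem_filter, Finset.mem_union] at he
      rw [Finset.mem_union, Finset.mem_filter, Finset.mem_filter]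
      obtain ⟨hJ, ht⟩ := he
      by_cases hee : e = e0
      · rw [hee] at ht ⊢
        by_cases hts : t = s
        · right
          refine ⟨he2, ?_⟩
          rw [Function.update_self, Finset.mem_erase]
          exact ⟨fun h => hne (hts.symm.trans h), ht⟩
        · left
          refine ⟨he1, ?_⟩
          rw [Function.update_self, Finset.mem_erase]
          exact ⟨hts, ht⟩
      · rcases hJ with hJ | hJ
        · left; exact ⟨hJ, by rw [Function.update_of_ne hee]; exact ht⟩
        · right; exact ⟨hJ, by rw [Function.update_of_ne hee]; exact ht⟩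
    · intro e he
      rw [Finset.mem_filter, Finset.mem_erase, Finset.mem_inter] at he
      obtain ⟨⟨hee, hJ1, hJ2⟩, ht⟩ := he
      rw [Finset.mem_inter, Finset.mem_filter, Finset.mem_filter, Function.update_of_ne hee,
        Function.update_of_ne hee]
      exact ⟨⟨hJ1, ht⟩, ⟨hJ2, ht⟩⟩
  have c1 := hC (J₁ ∪ J₂)
  have c2 := hC ((J₁ ∩ J₂).erase e0)
  have c3 := Finset.card_union_add_card_inter J₁ J₂
  have c4 : ((J₁ ∩ J₂).erase e0).card = (J₁ ∩ J₂).card - 1 :=
    Finset.card_erase_of_mem (Finset.mem_inter.mpr ⟨he1, he2⟩)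
  have c5 : 0 < (J₁ ∩ J₂).card := Finset.card_pos.mpr ⟨e0, Finset.mem_inter.mpr ⟨he1, he2⟩⟩
  omega

theorem exists_choice {r : Finset α → ℕ} (hr : IsRank r) [Fintype α] :
    ∀ (n : ℕ) (A : α → Finset (Fin k)), (∑ e, (A e).card = n) → (∀ J, J.card ≤ rho r A J) →
      ∃ c : α → Fin k, (∀ e, c e ∈ A e) ∧ ∀ J, J.card ≤ rho r (fun e => {c e}) J := by
  intro n
  induction n using Nat.strong_induction_on with
  | _ n ih =>
    intro A hn hC
    have hne : ∀ e, (A e).Nonempty := by
      intro e
      by_contra h
      rw [Finset.not_nonempty_iff_eq_empty] at h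
      have h1 := hC {e}
      have h0 : rho r A {e} = 0 := by
        unfold rho
        apply Finset.sum_eq_zero
        intro t _
        have : ({e} : Finset α).filter (fun e' => t ∈ A e') = ∅ := by
          rw [Finset.filter_singleton, if_neg (by rw [h]; exact Finset.notMem_empty t)]
        rw [this]
        exact hr.empty
      rw [h0, Finset.card_singleton] at h1
      omega
    by_cases hall : ∀ e, (A e).card ≤ 1
    · have hcard : ∀ e, (A e).card = 1 :=
        fun e => le_antisymm (hall e) (Finset.card_pos.mpr (hne e))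
      choose c hc using fun e => Finset.card_eq_one.mp (hcard e)
      refine ⟨c, fun e => by rw [hc e]; exact Finset.mem_singleton_self _, ?_⟩
      have : A = fun e => {c e} := funext hc
      rw [← this]; exact hC
    · rw [not_forall] at hall
      obtain ⟨e0, he0⟩ := hall
      rw [not_le] at he0
      obtain ⟨s, hs, s', hs', hne'⟩ := Finset.one_lt_card.mp he0
      have hcardlt : ∀ s0 ∈ A e0,
          ∑ e, ((Function.update A e0 ((A e0).erase s0)) e).card < n := by
        intro s0 hs0
        rw [← hn]
        apply Finset.sum_lt_sum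
        · intro e _
          by_cases h : e = e0
          · rw [h, Function.update_self]; exact Finset.card_le_card (Finset.erase_subset _ _)
          · rw [Function.update_of_ne h]
        · refine ⟨e0, Finset.mem_univ _, ?_⟩
          rw [Function.update_self]
          exact Finset.card_erase_lt_of_mem hs0
      have hsub : ∀ s0, ∀ e, (Function.update A e0 ((A e0).erase s0)) e ⊆ A e := by
        intro s0 e
        by_cases h : e = e0
        · rw [h, Function.update_self]; exact Finset.erase_subset _ _
        · rw [Function.update_of_ne h]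
      rcases reduce_step hr A hC e0 s s' hne' with h1 | h2
      · obtain ⟨c, hc, hC'⟩ := ih _ (hcardlt s hs) _ rfl h1
        exact ⟨c, fun e => hsub s e (hc e), hC'⟩
      · obtain ⟨c, hc, hC'⟩ := ih _ (hcardlt s' hs') _ rfl h2
        exact ⟨c, fun e => hsub s' e (hc e), hC'⟩

theorem rado_horn {r : Finset α → ℕ} (hr : IsRank r) [Fintype α]
    (hk : ∀ J : Finset α, J.card ≤ k * r J) :
    ∃ c : α → Fin k, ∀ t, r (Finset.univ.filter (fun e => c e = t)) =
      (Finset.univ.filter (fun e => c e = t)).card := by
  have h0 : ∀ J, J.card ≤ rho r (fun _ => (Finset.univ : Finset (Fin k))) J := by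
    intro J
    unfold rho
    simp only [Finset.mem_univ, Finset.filter_true]
    rw [Finset.sum_const, Finset.card_univ, Fintype.card_fin, smul_eq_mul]
    exact hk J
  obtain ⟨c, -, hc⟩ := exists_choice hr _ _ rfl h0
  refine ⟨c, fun t => le_antisymm (hr.le_card _) ?_⟩
  have h1 := hc (Finset.univ.filter (fun e => c e = t))
  unfold rho at h1
  rw [Finset.sum_eq_single t] at h1
  · have h2 : (Finset.univ.filter (fun e => c e = t)).filter (fun e => t ∈ ({c e} : Finset (Fin k)))
        = Finset.univ.filter (fun e => c e = t) := by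
      ext e
      simp only [Finset.mem_filter, Finset.mem_univ, true_and, Finset.mem_singleton]
      constructor
      · rintro ⟨h, -⟩; exact h
      · intro h; exact ⟨h, h.symm⟩
    rw [h2] at h1
    exact h1
  · intro t' _ ht'
    have h2 : (Finset.univ.filter (fun e => c e = t)).filter
        (fun e => t' ∈ ({c e} : Finset (Fin k))) = ∅ := by
      ext e
      simp only [Finset.mem_filter, Finset.mem_univ, true_and, Finset.mem_singleton,
        Finset.notMem_empty, iff_false, not_and]
      intro h1 h2
      exact ht' (h2.trans h1)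
    rw [h2]; exact hr.empty
  · intro h; exact absurd (Finset.mem_univ _) h

end Abstract

section Lin

variable (K : Type*) [Field K] {V : Type*} [AddCommGroup V] [Module K V] [FiniteDimensional K V]

noncomputable def lrank {α : Type*} (x : α → V) (A : Finset α) : ℕ :=
  Module.finrank K (Submodule.span K (x '' (A : Set α)))

theorem isRank_lrank {α : Type*} [DecidableEq α] (x : α → V) : IsRank (lrank K x) where
  mono := fun {A B} h =>
    Submodule.finrank_mono (Submodule.span_mono (Set.image_mono (Finset.coe_subset.mpr h)))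
  submod := fun A B => by
    unfold lrank
    have h1 : Submodule.span K (x '' ((A ∪ B : Finset α) : Set α)) =
        Submodule.span K (x '' (A : Set α)) ⊔ Submodule.span K (x '' (B : Set α)) := by
      rw [Finset.coe_union, Set.image_union, Submodule.span_union]
    have h2 : Submodule.span K (x '' ((A ∩ B : Finset α) : Set α)) ≤
        Submodule.span K (x '' (A : Set α)) ⊓ Submodule.span K (x '' (B : Set α)) :=
      le_inf (Submodule.span_mono (Set.image_mono (by simp)))
        (Submodule.span_mono (Set.image_mono (by simp)))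
    rw [h1]
    exact (Nat.add_le_add_left (Submodule.finrank_mono h2) _).trans
      (le_of_eq (Submodule.finrank_sup_add_finrank_inf_eq _ _))
  le_card := fun A => by
    classical
    unfold lrank
    rw [← Finset.coe_image]
    exact (finrank_span_finset_le_card _).trans Finset.card_image_le

theorem linIndep_of_lrank_eq {α : Type*} (x : α → V) (A : Finset α)
    (h : lrank K x A = A.card) : LinearIndependent K (fun j : A => x j) := by
  rw [linearIndependent_iff_card_eq_finrank_span, Fintype.card_coe, ← h]
  unfold lrank Set.finrank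
  have : Set.range (fun j : A => x j) = x '' (A : Set α) := by
    ext v
    simp
  rw [this]

theorem decomp {ι : Type*} [Fintype ι] [DecidableEq ι] (x : ι → V) (w : ι → ℕ) (k : ℕ)
    (hsum : ∑ j, w j = k * Module.finrank K V)
    (hcond : ∀ A : Finset ι, ∑ j ∈ A, w j ≤ k * lrank K x A) :
    ∃ S : Fin k → Finset ι,
      (∀ t, (S t).card = Module.finrank K V ∧ LinearIndependent K (fun j : S t => x j)) ∧
      ∀ j, (Finset.univ.filter (fun t => j ∈ S t)).card = w j := by
  classical
  obtain ⟨x', hx'⟩ : ∃ x' : (Σ j : ι, Fin (w j)) → V, x' = fun e => x e.1 := ⟨_, rfl⟩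
  have himg : ∀ J : Finset (Σ j : ι, Fin (w j)),
      lrank K x' J = lrank K x (J.image Sigma.fst) := by
    intro J
    unfold lrank
    rw [Finset.coe_image, Set.image_image, hx']
  have hk : ∀ J : Finset (Σ j : ι, Fin (w j)), J.card ≤ k * lrank K x' J := by
    intro J
    rw [himg]
    refine le_trans ?_ (hcond _)
    have hsub : J ⊆ (J.image Sigma.fst).sigma (fun j => (Finset.univ : Finset (Fin (w j)))) := by
      intro e he
      rw [Finset.mem_sigma]
      exact ⟨Finset.mem_image_of_mem _ he, Finset.mem_univ _⟩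
    calc J.card ≤ _ := Finset.card_le_card hsub
      _ = ∑ j ∈ J.image Sigma.fst, w j := by
        rw [Finset.card_sigma]; simp
  obtain ⟨c, hc⟩ := rado_horn (isRank_lrank K x') hk
  obtain ⟨F, hF⟩ : ∃ F : Fin k → Finset (Σ j : ι, Fin (w j)),
      F = fun t => Finset.univ.filter (fun e => c e = t) := ⟨_, rfl⟩
  have hFmem : ∀ t e, e ∈ F t ↔ c e = t := by
    intro t e; rw [hF]; simp
  obtain ⟨S, hS⟩ : ∃ S : Fin k → Finset ι, S = fun t => (F t).image Sigma.fst := ⟨_, rfl⟩
  have hSt : ∀ t, S t = (F t).image Sigma.fst := fun t => by rw [hS]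
  have h1 : ∀ t, lrank K x (S t) = (F t).card := fun t => by
    rw [hSt, ← himg, hF]; exact hc t
  have h2 : ∀ t, (S t).card = (F t).card := by
    intro t
    apply le_antisymm
    · rw [hSt]; exact Finset.card_image_le
    · rw [← h1 t]; exact (isRank_lrank K x).le_card _
  have h3 : ∀ t, Set.InjOn Sigma.fst ((F t : Finset _) : Set (Σ j : ι, Fin (w j))) :=
    fun t => Finset.card_image_iff.mp (by rw [← hSt]; exact h2 t)
  have h4 : ∀ t, LinearIndependent K (fun j : S t => x j) :=
    fun t => linIndep_of_lrank_eq K x (S t) (by rw [h1, h2])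
  have h5 : ∑ t, (S t).card = k * Module.finrank K V := by
    rw [← hsum]
    simp_rw [h2]
    have := Finset.card_eq_sum_card_fiberwise
      (s := (Finset.univ : Finset (Σ j : ι, Fin (w j)))) (t := (Finset.univ : Finset (Fin k)))
      (f := c) (fun e _ => Finset.mem_univ _)
    rw [hF, ← this, Finset.card_univ, Fintype.card_sigma]
    simp
  have h6 : ∀ t, (S t).card ≤ Module.finrank K V := fun t => by
    rw [h2, ← h1]; exact Submodule.finrank_le _
  have h7 : ∀ t, (S t).card = Module.finrank K V := by
    intro t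
    by_contra hne
    have hlt : (S t).card < Module.finrank K V := lt_of_le_of_ne (h6 t) hne
    have : ∑ t, (S t).card < ∑ _t : Fin k, Module.finrank K V :=
      Finset.sum_lt_sum (fun t _ => h6 t) ⟨t, Finset.mem_univ _, hlt⟩
    rw [h5, Finset.sum_const, Finset.card_univ, Fintype.card_fin, smul_eq_mul] at this
    exact lt_irrefl _ this
  refine ⟨S, fun t => ⟨h7 t, h4 t⟩, fun j => ?_⟩
  have hinj : Function.Injective (fun a : Fin (w j) => c ⟨j, a⟩) := by
    intro a a' h
    have hm : (⟨j, a⟩ : Σ j : ι, Fin (w j)) ∈ F (c ⟨j, a⟩) := (hFmem _ _).mpr rfl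
    have hm' : (⟨j, a'⟩ : Σ j : ι, Fin (w j)) ∈ F (c ⟨j, a⟩) := (hFmem _ _).mpr h.symm
    have := h3 _ (Finset.mem_coe.mpr hm) (Finset.mem_coe.mpr hm') rfl
    simpa using this
  have hset : Finset.univ.filter (fun t => j ∈ S t) =
      (Finset.univ : Finset (Fin (w j))).image (fun a => c ⟨j, a⟩) := by
    ext t
    simp only [Finset.mem_filter, Finset.mem_univ, true_and, Finset.mem_image, hSt, hFmem]
    constructor
    · rintro ⟨⟨j', a⟩, he, rfl⟩
      exact ⟨a, he⟩
    · rintro ⟨a, ha⟩
      exact ⟨⟨j, a⟩, ha, rfl⟩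
  rw [hset, Finset.card_image_of_injective _ hinj, Finset.card_univ, Fintype.card_fin]

end Lin

theorem double_count {ι : Type*} [DecidableEq ι] (P : Multiset (Finset ι)) (C : Finset ι) :
    (P.map (fun S => (S ∩ C).card)).sum =
      ∑ j ∈ C, Multiset.card (P.filter (fun S => j ∈ S)) := by
  induction P using Multiset.induction_on with
  | empty => simp
  | cons S P ih =>
    rw [Multiset.map_cons, Multiset.sum_cons, ih]
    have : ∀ j, Multiset.card ((S ::ₘ P).filter (fun S => j ∈ S)) =
        (if j ∈ S then 1 else 0) + Multiset.card (P.filter (fun S => j ∈ S)) := by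
      intro j
      by_cases hj : j ∈ S
      · rw [Multiset.filter_cons_of_pos (p := fun S => j ∈ S) _ hj, Multiset.card_cons, if_pos hj,
          add_comm]
      · rw [Multiset.filter_cons_of_neg (p := fun S => j ∈ S) _ hj, if_neg hj, zero_add]
    simp_rw [this]
    rw [Finset.sum_add_distrib]
    congr 1
    rw [Finset.sum_boole, Finset.filter_mem_eq_inter, Finset.inter_comm]
    simp

end RH

open RH

theorem forward (K : Type*) [Field K] (V : Type*) [AddCommGroup V] [Module K V]
    [FiniteDimensional K V]
    (m : ℕ) (x : Fin (m + 1) → V) (hx : ∀ i, x i ≠ 0)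
    (hst : ∀ L : Submodule K V, L ≠ ⊥ → L ≠ ⊤ →
        Set.ncard {i : Fin (m + 1) | x i ∈ L} * Module.finrank K V <
          Module.finrank K L * (m + 1)) :
    ∃ N N₀ : ℕ, 0 < N₀ ∧ N₀ ≤ N ∧
        ∀ i : Fin (m + 1), ∃ P : Multiset (Finset (Fin (m + 1))), P ≠ 0 ∧
          (∀ S ∈ P, S.card = Module.finrank K V ∧ LinearIndependent K (fun j : S => x j)) ∧
          ∀ j : Fin (m + 1),
            Multiset.card (P.filter (fun S => j ∈ S)) = if j = i then N - N₀ else N := by
  obtain ⟨n, hndef⟩ : ∃ n, n = Module.finrank K V := ⟨_, rfl⟩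
  have hn : 0 < n := by
    rw [hndef]; exact Module.finrank_pos_iff_exists_ne_zero.mpr ⟨x 0, hx 0⟩
  obtain ⟨N, hNdef⟩ : ∃ N, N = 2 * n * n := ⟨_, rfl⟩
  have hnN : n ≤ N := by rw [hNdef]; nlinarith
  rw [← hndef]
  refine ⟨N, n, hn, hnN, fun i => ?_⟩
  obtain ⟨q, hqdef⟩ : ∃ q, q = n * (m + 1) := ⟨_, rfl⟩
  have hq : 1 ≤ q := by rw [hqdef]; exact Nat.mul_pos hn (Nat.succ_pos m)
  obtain ⟨k, hkdef⟩ : ∃ k, k = 2 * q - 1 := ⟨_, rfl⟩
  have hk1 : k + 1 = 2 * q := by omega
  have hkn : k * n + n = N * (m + 1) := by
    calc k * n + n = (k + 1) * n := by ring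
      _ = 2 * (n * (m + 1)) * n := by rw [hk1, hqdef]
      _ = N * (m + 1) := by rw [hNdef]; ring
  obtain ⟨w, hwdef⟩ : ∃ w : Fin (m + 1) → ℕ, w = fun j => if j = i then N - n else N :=
    ⟨_, rfl⟩
  have hw_le : ∀ j, w j ≤ N := by
    intro j; rw [hwdef]; dsimp only; split_ifs <;> omega
  have hsum' : ∑ j, w j + n = N * (m + 1) := by
    have h1 : ∑ j, (w j + if j = i then n else 0) = ∑ _j : Fin (m + 1), N := by
      refine Finset.sum_congr rfl fun j _ => ?_
      rw [hwdef]; dsimp only; split_ifs <;> omega
    rw [Finset.sum_add_distrib, Finset.sum_ite_eq', if_pos (Finset.mem_univ _), Finset.sum_const,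
      Finset.card_univ, Fintype.card_fin, smul_eq_mul] at h1
    rw [h1]; ring
  have hsum : ∑ j, w j = k * Module.finrank K V := by
    rw [← hndef]; omega
  have hcond : ∀ A : Finset (Fin (m + 1)), ∑ j ∈ A, w j ≤ k * lrank K x A := by
    intro A
    rcases A.eq_empty_or_nonempty with hA | hA
    · rw [hA]; simp
    obtain ⟨L, hLdef⟩ : ∃ L, L = Submodule.span K (x '' (A : Set (Fin (m + 1)))) := ⟨_, rfl⟩
    have hl : lrank K x A = Module.finrank K L := by rw [hLdef]; rfl
    by_cases hLtop : L = ⊤
    · rw [hl, hLtop, finrank_top, ← hsum]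
      exact Finset.sum_le_sum_of_subset (Finset.subset_univ A)
    · have hLbot : L ≠ ⊥ := by
        obtain ⟨j, hj⟩ := hA
        intro h
        have : x j ∈ L := by rw [hLdef]; exact Submodule.subset_span ⟨j, hj, rfl⟩
        rw [h, Submodule.mem_bot] at this
        exact hx j this
      have hs := hst L hLbot hLtop
      have hAc : A.card ≤ Set.ncard {i : Fin (m + 1) | x i ∈ L} := by
        classical
        have : {i : Fin (m + 1) | x i ∈ L} =
            ((Finset.univ.filter (fun i => x i ∈ L) : Finset (Fin (m + 1))) :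
              Set (Fin (m + 1))) := by
          ext; simp
        rw [this, Set.ncard_coe_finset]
        apply Finset.card_le_card
        intro j hj
        rw [Finset.mem_filter]
        exact ⟨Finset.mem_univ _, by rw [hLdef]; exact Submodule.subset_span ⟨j, hj, rfl⟩⟩
      rw [hl]
      obtain ⟨l, hldef⟩ : ∃ l, l = Module.finrank K L := ⟨_, rfl⟩
      rw [← hldef]
      have hln : l ≤ n := by rw [hldef, hndef]; exact Submodule.finrank_le L
      rw [← hndef, ← hldef] at hs
      have h1 : A.card * n + 1 ≤ l * (m + 1) := by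
        have := Nat.mul_le_mul_right n hAc
        omega
      have h2 : ∑ j ∈ A, w j ≤ N * A.card := by
        calc ∑ j ∈ A, w j ≤ ∑ _j ∈ A, N := Finset.sum_le_sum fun j _ => hw_le j
          _ = N * A.card := by rw [Finset.sum_const, smul_eq_mul, mul_comm]
      refine h2.trans ?_
      have e1 : N * (A.card * n + 1) ≤ N * (l * (m + 1)) := Nat.mul_le_mul_left N h1
      have e2 : (k * n + n) * l = N * (m + 1) * l := by rw [hkn]
      have e3 : n * l ≤ N := by
        calc n * l ≤ n * n := Nat.mul_le_mul_left n hln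
          _ ≤ N := by rw [hNdef]; nlinarith
      have e4 : n * (N * A.card) ≤ n * (k * l) := by nlinarith [e1, e2, e3]
      exact Nat.le_of_mul_le_mul_left e4 hn
  obtain ⟨S, hS, hcount⟩ := decomp K x w k hsum hcond
  refine ⟨(Finset.univ : Finset (Fin k)).val.map S, ?_, ?_, ?_⟩
  · intro h
    have h' := congrArg Multiset.card h
    simp at h'
    omega
  · intro S' hS'
    rw [Multiset.mem_map] at hS'
    obtain ⟨t, -, rfl⟩ := hS'
    rw [hndef]
    exact hS t
  · intro j
    rw [Multiset.filter_map, Multiset.card_map, ← Finset.filter_val, ← Finset.card_def]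
    have := hcount j
    rw [hwdef] at this
    exact this

theorem backward (K : Type*) [Field K] (V : Type*) [AddCommGroup V] [Module K V]
    [FiniteDimensional K V]
    (m : ℕ) (x : Fin (m + 1) → V) (N N₀ : ℕ) (hN₀ : 0 < N₀) (hle : N₀ ≤ N)
    (hP : ∀ i : Fin (m + 1), ∃ P : Multiset (Finset (Fin (m + 1))), P ≠ 0 ∧
          (∀ S ∈ P, S.card = Module.finrank K V ∧ LinearIndependent K (fun j : S => x j)) ∧
          ∀ j : Fin (m + 1),
            Multiset.card (P.filter (fun S => j ∈ S)) = if j = i then N - N₀ else N)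
    (L : Submodule K V) (hL0 : L ≠ ⊥) (hL1 : L ≠ ⊤) :
    Set.ncard {i : Fin (m + 1) | x i ∈ L} * Module.finrank K V <
      Module.finrank K L * (m + 1) := by
  classical
  obtain ⟨C, hCdef⟩ : ∃ C : Finset (Fin (m + 1)), C = Finset.univ.filter (fun i => x i ∈ L) :=
    ⟨_, rfl⟩
  have hCmem : ∀ j, j ∈ C ↔ x j ∈ L := by intro j; rw [hCdef]; simp
  have hncard : Set.ncard {i : Fin (m + 1) | x i ∈ L} = C.card := by
    have : {i : Fin (m + 1) | x i ∈ L} = (C : Set (Fin (m + 1))) := by
      ext j; simp [hCmem]
    rw [this, Set.ncard_coe_finset]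
  rw [hncard]
  have hbound : ∀ S : Finset (Fin (m + 1)), LinearIndependent K (fun j : S => x j) →
      (S ∩ C).card ≤ Module.finrank K L := by
    intro S hS
    let g : ↥(S ∩ C) → ↥S := fun j => ⟨j.1, (Finset.mem_inter.mp j.2).1⟩
    have hg : Function.Injective g := by
      intro a b hab
      apply Subtype.ext
      exact congrArg (fun z : ↥S => (z : Fin (m + 1))) hab
    have hli := hS.comp g hg
    have h1 := finrank_span_eq_card hli
    rw [Fintype.card_coe] at h1
    rw [← h1]
    apply Submodule.finrank_mono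
    rw [Submodule.span_le]
    rintro _ ⟨j, rfl⟩
    exact (hCmem _).mp (Finset.mem_inter.mp j.2).2
  have hex : ∃ i0, i0 ∉ C := by
    by_contra hall
    rw [not_exists] at hall
    have hall' : ∀ j, j ∈ C := fun j => not_not.mp (hall j)
    obtain ⟨P, hPne, hPS, -⟩ := hP 0
    obtain ⟨S, hSP⟩ := Multiset.exists_mem_of_ne_zero hPne
    obtain ⟨hcard, hli⟩ := hPS S hSP
    have h1 := hbound S hli
    have h2 : S ∩ C = S := by
      ext j; simp [hall' j]
    rw [h2, hcard] at h1
    exact hL1 (Submodule.eq_top_of_finrank_eq (le_antisymm (Submodule.finrank_le L) h1))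
  obtain ⟨i0, hi0⟩ := hex
  obtain ⟨P, hPne, hPS, hcnt⟩ := hP i0
  have hl : 0 < Module.finrank K L := by
    rw [Nat.pos_iff_ne_zero]; intro h; exact hL0 (Submodule.finrank_eq_zero.mp h)
  have c1 : (P.map (fun S => (S ∩ C).card)).sum = N * C.card := by
    rw [double_count]
    have hN : ∀ j ∈ C, Multiset.card (P.filter (fun S => j ∈ S)) = N := fun j hj => by
      rw [hcnt j, if_neg (fun h : j = i0 => hi0 (h ▸ hj))]
    rw [Finset.sum_congr rfl hN, Finset.sum_const, smul_eq_mul, mul_comm]
  have c2 : (P.map (fun S => (S ∩ C).card)).sum ≤ Multiset.card P * Module.finrank K L := by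
    have := Multiset.sum_le_card_nsmul (P.map (fun S => (S ∩ C).card)) (Module.finrank K L) (by
      intro y hy
      rw [Multiset.mem_map] at hy
      obtain ⟨S, hS, rfl⟩ := hy
      exact hbound S (hPS S hS).2)
    rwa [Multiset.card_map, smul_eq_mul] at this
  have c3 : (P.map (fun S => (S ∩ Finset.univ).card)).sum =
      ∑ j, (if j = i0 then N - N₀ else N) := by
    rw [double_count]
    exact Finset.sum_congr rfl (fun j _ => hcnt j)
  have c4 : (P.map (fun S => (S ∩ Finset.univ).card)).sum =
      Multiset.card P * Module.finrank K V := by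
    have : P.map (fun S => (S ∩ Finset.univ).card) = P.map (fun _ => Module.finrank K V) :=
      Multiset.map_congr rfl (fun S hS => by rw [Finset.inter_univ]; exact (hPS S hS).1)
    rw [this, Multiset.map_const', Multiset.sum_replicate, smul_eq_mul]
  have c5 : ∑ j : Fin (m + 1), (if j = i0 then N - N₀ else N) + N₀ = N * (m + 1) := by
    have h1 : ∑ j : Fin (m + 1), ((if j = i0 then N - N₀ else N) + if j = i0 then N₀ else 0) =
        ∑ _j : Fin (m + 1), N := by
      refine Finset.sum_congr rfl fun j _ => ?_
      split_ifs <;> omega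
    rw [Finset.sum_add_distrib, Finset.sum_ite_eq', if_pos (Finset.mem_univ _), Finset.sum_const,
      Finset.card_univ, Fintype.card_fin, smul_eq_mul] at h1
    rw [h1]; ring
  obtain ⟨p, hp⟩ : ∃ p, p = Multiset.card P := ⟨_, rfl⟩
  obtain ⟨n, hn⟩ : ∃ n, n = Module.finrank K V := ⟨_, rfl⟩
  obtain ⟨l, hl'⟩ : ∃ l, l = Module.finrank K L := ⟨_, rfl⟩
  obtain ⟨c, hc⟩ : ∃ c, c = C.card := ⟨_, rfl⟩
  rw [← hp, ← hl', c1, ← hc] at c2
  rw [c4, ← hp, ← hn] at c3
  rw [← c3] at c5
  rw [← hn, ← hl', ← hc]
  rw [← hl'] at hl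
  have e3 : N * (c * n) + N₀ * l ≤ N * (l * (m + 1)) := by
    calc N * (c * n) + N₀ * l = (N * c) * n + N₀ * l := by ring
      _ ≤ (p * l) * n + N₀ * l := by gcongr
      _ = (p * n + N₀) * l := by ring
      _ = N * (l * (m + 1)) := by rw [c5]; ring
  have e4 : 0 < N₀ * l := Nat.mul_pos hN₀ hl
  have e5 : N * (c * n) < N * (l * (m + 1)) := by omega
  exact Nat.lt_of_mul_lt_mul_left e5



/-- Let V be a finite-dimensional vector space over a field K and x_0, …, x_m non-zero vectors, a
configuration of m + 1 points of P(V); a set S of dim V indices with (x_j)_(j ∈ S) linearly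
independent is a determinant section non-zero at the configuration. Then the configuration is stable
(for every subspace L with 0 ≠ L ≠ V, the number of i with x_i ∈ L times dim V is less than dim L ·
(m + 1)) if and only if there are integers N ≥ N_0 > 0 such that for each index i some non-empty
finite multiset of such sets S contains every index j ≠ i exactly N times and the index i exactly N
− N_0 times (a monomial in the determinant sections, non-zero at the configuration, of multidegree
(N, …, N − N_0, …, N) with the N − N_0 in place i). -/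
theorem result (K : Type u) [Field K]
    (V : Type u) [AddCommGroup V] [Module K V] [FiniteDimensional K V]
    (m : ℕ) (x : Fin (m + 1) → V) (hx : ∀ i, x i ≠ 0) :
    (∀ L : Submodule K V, L ≠ ⊥ → L ≠ ⊤ →
        Set.ncard {i : Fin (m + 1) | x i ∈ L} * Module.finrank K V < Module.finrank K L * (m + 1)) ↔
      ∃ N N₀ : ℕ, 0 < N₀ ∧ N₀ ≤ N ∧
        ∀ i : Fin (m + 1), ∃ P : Multiset (Finset (Fin (m + 1))), P ≠ 0 ∧
          (∀ S ∈ P, S.card = Module.finrank K V ∧ LinearIndependent K (fun j : S => x j)) ∧
          ∀ j : Fin (m + 1),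
            Multiset.card (P.filter (fun S => j ∈ S)) = if j = i then N - N₀ else N := by
  exact ⟨forward K V m x hx, fun ⟨N, N₀, h0, hle, hP⟩ L hL0 hL1 =>
    backward K V m x N N₀ h0 hle hP L hL0 hL1⟩


end Groth.Agent.S12552
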