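import Groth.Statements.S12553
import Groth.Agent.Lib.Helper22.DiagMu

set_option autoImplicit false
universe u
open TensorProduct LaurentPolynomial
open GIT

namespace Groth.Agent.S12553

/-- Let k be a field and T = Spec A a diagonalizable affine group (A a commutative Hopf algebra spanned
by its group-like elements, e.g. a torus) acting linearly on affine ι-space. Then there are finitely
many characters χ_1, …, χ_N of T (group-like elements of A) such that every vector v ≠ 0 has a
non-empty set I of indices for which, for every one-parameter subgroup λ of T with λ(χ_j) = t^(e_j),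
the numerical function μ(v, λ) (the m for which t^m · (v moved by λ(t)) tends to a non-zero vector)
equals the maximum of −e_j over j ∈ I: μ is the maximum of finitely many linear functionals on
one-parameter subgroups. (The published proposition concerns a maximal torus of a reductive group
acting on a proper scheme with an ample linearised invertible sheaf; this row is the case of
projective space with the hyperplane bundle, for any diagonalizable group acting linearly, stated on
the affine cone.) -/
theorem result (k : Type u) [Field k]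
    (A : Type u) [CommRing A] [HopfAlgebra k A] (hdiag : HopfRep.IsDiagonalizable k A)
    (ι : Type u) [Fintype ι] [HopfRep.Comod k A (MvPolynomial ι k)] [GLin.IsCoactAlg k A (MvPolynomial ι k)]
    (hlin : GLin.IsLinear k A ι) :
    ∃ (N : ℕ) (χ : Fin N → A), (∀ j, IsGroupLikeElem k (χ j)) ∧
      ∀ v : ι → k, v ≠ 0 → ∃ I : Finset (Fin N), I.Nonempty ∧
        ∀ (lam : A →ₐc[k] k[T;T⁻¹]) (e : Fin N → ℤ), (∀ j, lam (χ j) = LaurentPolynomial.T (e j)) →
          ∀ m : ℤ, GLin.IsMu k A lam v m ↔ ((∀ j ∈ I, -e j ≤ m) ∧ ∃ j ∈ I, m = -e j) := by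
  classical
  have hex := fun i : ι => Groth.Agent.Lib.helper22.exists_finset_dcomp hdiag
    (MvPolynomial.X i : MvPolynomial ι k)
  choose s hs1 hs2 using hex
  let 𝒢 : Finset {a : A | IsGroupLikeElem k a} := Finset.univ.biUnion s
  let χ' : Fin 𝒢.card → {a : A | IsGroupLikeElem k a} := fun j => (𝒢.equivFin.symm j).1
  have hinj : Function.Injective χ' := fun a b h =>
    𝒢.equivFin.symm.injective (Subtype.ext h)
  have hcov : ∀ i : ι, ∀ g, g ∉ Set.range χ' →
      Groth.Agent.Lib.helper22.dcomp (MvPolynomial ι k) hdiag g (MvPolynomial.X i) = 0 := by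
    intro i g hg
    apply hs1 i g
    intro hgs
    apply hg
    have hg𝒢 : g ∈ 𝒢 := Finset.mem_biUnion.mpr ⟨i, Finset.mem_univ _, hgs⟩
    refine ⟨𝒢.equivFin ⟨g, hg𝒢⟩, ?_⟩
    simp only [χ', Equiv.symm_apply_apply]
  refine ⟨𝒢.card, fun j => (χ' j : A), fun j => (χ' j).2, ?_⟩
  intro v hv
  refine ⟨Groth.Agent.Lib.helper22.DiagMu.idx hdiag χ' v,
    Groth.Agent.Lib.helper22.DiagMu.idx_nonempty hdiag χ' hinj hcov v hv, ?_⟩
  intro lam e he m
  exact Groth.Agent.Lib.helper22.DiagMu.isMu_iff_idx hdiag hlin χ' hinj hcov v lam e he m


end Groth.Agent.S12553
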