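import Groth.Statements.S12557
import Groth.Agent.Lib.Helper22.Reynolds

set_option autoImplicit false
universe u
open TensorProduct
open GIT

namespace Groth.Agent.S12557

/-- Let k be a field, G = Spec A a linearly reductive affine group (A a commutative Hopf algebra whose
finite-dimensional comodules are all semisimple) acting on the affine scheme Spec R, R_0 ⊆ R the
ring of invariants, and (𝔄_i) a family of ideals of R each stable under the coaction. Then the sum
of the 𝔄_i meets R_0 in the sum of the intersections 𝔄_i ∩ R_0. -/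
theorem result (k : Type u) [Field k] (A : Type u) [CommRing A] [HopfAlgebra k A]
    (hG : HopfRep.IsLinearlyReductive k A)
    (R : Type u) [CommRing R] [Algebra k R] [HopfRep.Comod k A R] [GLin.IsCoactAlg k A R]
    (ι : Type u) (𝔄 : ι → Ideal R) (h𝔄 : ∀ i, HopfRep.IsSubcomod (k := k) (A := A) ((𝔄 i).restrictScalars k)) :
    (⨆ i, (𝔄 i).restrictScalars k) ⊓ Subalgebra.toSubmodule (GLin.invariants k A R) =
      ⨆ i, ((𝔄 i).restrictScalars k ⊓ Subalgebra.toSubmodule (GLin.invariants k A R)) := by
  have hss := Groth.Agent.Lib.helper22.isSemisimpleComod_of_isLinearlyReductive hG R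
  obtain ⟨E, hE⟩ := Groth.Agent.Lib.helper22.exists_isReynolds (k := k) (A := A) (V := R) hss
  apply le_antisymm
  · rintro x ⟨hx1, hx2⟩
    have key : E x ∈ ⨆ i, ((𝔄 i).restrictScalars k ⊓ Subalgebra.toSubmodule (GLin.invariants k A R)) := by
      refine Submodule.iSup_induction (fun i => (𝔄 i).restrictScalars k)
        (motive := fun z => E z ∈ ⨆ i, ((𝔄 i).restrictScalars k ⊓
          Subalgebra.toSubmodule (GLin.invariants k A R))) hx1 ?_ ?_ ?_
      · intro i z hz
        exact Submodule.mem_iSup_of_mem i
          ⟨hE.mem_of_isSubcomod hss _ (h𝔄 i) z hz, hE.mem_fixedPts z⟩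
      · rw [map_zero]; exact Submodule.zero_mem _
      · intro a b ha hb
        rw [map_add]; exact Submodule.add_mem _ ha hb
    rwa [(hE.fix x).mpr hx2] at key
  · exact iSup_le fun i => le_inf (le_iSup_of_le i inf_le_left) inf_le_right


end Groth.Agent.S12557
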