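import Groth.Statements.S1256
import Groth.Agent.Lib.Helper26.FibCovD3

set_option linter.style.haveILetI false

set_option autoImplicit false
universe u
open FlatMor

namespace Groth.Agent.S1256

open TensorProduct

/-- Ring form, X = Spec B and S = Spec A affine: let B be a finite type A-algebra, N a finite B-module
and p a prime of A. Then there is an étale A-algebra A' with a prime p' over p having the same
residue field such that, for the base changes B_{A'}, N_{A'} (any models), there are finitely many
étale B_{A'}-algebras C_i with base changes N_i of N_{A'}, each N_i/C_i/A' admitting a complete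
dévissage over p', such that every prime of B_{A'} over p' is the contraction of a prime of some
C_i. -/
theorem result {A B : Type u} [CommRing A] [CommRing B] [Algebra A B] [Algebra.FiniteType A B]
    (N : Type u) [AddCommGroup N] [Module B N] [Module.Finite B N] (p : Ideal A) [p.IsPrime] :
    ∃ (A' : Type u) (_ : CommRing A') (_ : Algebra A A') (p' : Ideal A') (_ : p'.IsPrime), FlatCA.IsEtaleNhd A A' p p' ∧
      ∀ (BA NA : Type u) [CommRing BA] [Algebra B BA] [Algebra A' BA] [Algebra A BA] [IsScalarTower A B BA] [IsScalarTower A A' BA]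
        [Algebra.IsPushout A B A' BA]
        [AddCommGroup NA] [Module BA NA] [Module B NA] [IsScalarTower B BA NA]
        (fA : N →ₗ[B] NA), IsBaseChange BA fA →
        ∃ (k : ℕ) (C : Fin k → Type u) (_ : ∀ i, CommRing (C i)) (_ : ∀ i, Algebra BA (C i)) (_ : ∀ i, Algebra A' (C i))
          (_ : ∀ i, IsScalarTower A' BA (C i))
          (Nc : Fin k → Type u) (_ : ∀ i, AddCommGroup (Nc i)) (_ : ∀ i, Module (C i) (Nc i)) (_ : ∀ i, Module BA (Nc i))
          (_ : ∀ i, IsScalarTower BA (C i) (Nc i)) (g : ∀ i, NA →ₗ[BA] Nc i),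
          (∀ i, Algebra.Etale BA (C i) ∧ IsBaseChange (C i) (g i) ∧ Nonempty (FlatCA.CompleteDevissage A' (C i) (Nc i) p')) ∧
          ∀ (Q : Ideal BA) [Q.IsPrime], Q.LiesOver p' → ∃ (i : Fin k) (Q' : Ideal (C i)), Q'.IsPrime ∧ Q'.comap (algebraMap BA (C i)) = Q := by
  letI modAN : Module A N := Module.compHom N (algebraMap A B)
  haveI twABN : IsScalarTower A B N := IsScalarTower.of_algebraMap_smul fun _ _ => rfl
  obtain ⟨A', cA', aAA', p', hp', hEt, hall⟩ :=
    Groth.Agent.Lib.helper26.FibCov.exists_cover_dev (R := A) (S := B) N p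
  refine ⟨A', cA', aAA', p', hp', hEt, ?_⟩
  intro BA NA _ _ _ _ _ _ _ _ _ _ _ fA hfA
  obtain ⟨ι, hι, C, cC, aBAC, aA'C, twC, hC, hcov⟩ := hall BA NA fA hfA
  let e : ι ≃ Fin (Nat.card ι) := Finite.equivFin ι
  refine ⟨Nat.card ι, fun i => C (e.symm i), fun i => cC (e.symm i), fun i => aBAC (e.symm i),
    fun i => aA'C (e.symm i), fun i => twC (e.symm i),
    fun i => C (e.symm i) ⊗[BA] NA, fun i => inferInstance, fun i => inferInstance,
    fun i => inferInstance, fun i => inferInstance,
    fun i => TensorProduct.mk BA (C (e.symm i)) NA 1, ?_, ?_⟩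
  · intro i
    exact ⟨(hC (e.symm i)).1, TensorProduct.isBaseChange BA NA (C (e.symm i)), (hC (e.symm i)).2⟩
  · intro Q hQ hQp'
    obtain ⟨i, hi⟩ := hcov Q hQp'
    obtain ⟨i', rfl⟩ : ∃ i', e.symm i' = i := ⟨e i, e.symm_apply_apply i⟩
    exact ⟨i', hi⟩

end Groth.Agent.S1256
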