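import Groth.Statements.S12576
import Mathlib
import Groth.Agent.Lib.Helper10.RH1
import Groth.Agent.S11003

set_option autoImplicit false
universe u v w
open FunFld

namespace Groth.Agent.S12576

set_option linter.style.haveILetI false

open Groth.Agent.Lib.helper10 Groth.Agent.Lib.helper10.Tate Groth.Agent.Lib.helper10.FF
  Groth.Agent.Lib.helper10.Hilb Groth.Agent.Lib.helper10.RH Groth.Agent.Lib.helper10.RD

theorem main (k k' : Type u) (K K' : Type v) [Field k] [Field k'] [Field K] [Field K']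
    [Algebra k k'] [Algebra k K] [Algebra K K'] [Algebra k' K'] [Algebra k K']
    [IsScalarTower k k' K'] [IsScalarTower k K K'] [FiniteDimensional k k'] [FiniteDimensional K K']
    [Algebra.IsSeparable K K']
    (hK : FunFld.IsFunctionField k K) (hg : FunFld.IsGeometric k K) (hK' : FunFld.IsFunctionField k' K')
    (F : FunFld.Place k K → Type w) [∀ P, Field (F P)] [∀ P, Algebra k (F P)]
    (φ : ∀ P, K →ₐ[k] LaurentSeries (F P)) (hφ : ∀ P, LocRes.IsExpansionAt P.1 (φ P))
    (F' : FunFld.Place k' K' → Type w) [∀ Q, Field (F' Q)] [∀ Q, Algebra k' (F' Q)]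
    (ψ : ∀ Q, K' →ₐ[k'] LaurentSeries (F' Q)) (hψ : ∀ Q, LocRes.IsExpansionAt Q.1 (ψ Q))
    (below : FunFld.Place k' K' → FunFld.Place k K) (e : FunFld.Place k' K' → ℕ)
    (he : ∀ Q (z : K), Q.1 (algebraMap K K' z) = (below Q).1 z ^ e Q)
    (x : K) (hx : ∀ P, LocRes.vDiff (φ P) 1 x ≠ 0) (hx' : ∀ Q, LocRes.vDiff (ψ Q) 1 (algebraMap K K' x) ≠ 0) :
    (Function.support fun Q => LocRes.diffExp (φ (below Q)) (ψ Q) (e Q) x).Finite ∧
    (Module.finrank k k' : ℤ) * (2 * (FunFld.genus k' K' : ℤ) - 2) =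
      (Module.finrank K K' : ℤ) * (2 * (FunFld.genus k K : ℤ) - 2) +
      (Module.finrank k k' : ℤ) * ∑ᶠ Q, LocRes.diffExp (φ (below Q)) (ψ Q) (e Q) x * (Q.deg : ℤ) := by
  classical
  haveI : ∀ P, FiniteDimensional k (F P) := fun P => finiteDimensional_of_isExpansionAt hK (hφ P)
  haveI : ∀ P, Algebra.IsSeparable k (F P) := fun P => isSeparable_of_isExpansionAt hK hg (hφ P)
  haveI : ∀ Q, FiniteDimensional k' (F' Q) := fun Q =>
    finiteDimensional_of_isExpansionAt hK' (hψ Q)
  have hΩ : Module.finrank K (Ω[K⁄k]) = 1 := Groth.Agent.S11003.result k K hK hg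
  have hΩ1 : Module.finrank K' (Ω[K'⁄k]) = 1 := finrank_kaehler_of_isSeparable (K' := K') hΩ
  have hDx' : ∀ Q, LocRes.D (F' Q) (ψ Q (algebraMap K K' x)) ≠ 0 := by
    intro Q h
    apply hx' Q
    unfold LocRes.vDiff
    rw [h, mul_zero, map_zero]
  have hDx : ∀ P, LocRes.D (F P) (φ P x) ≠ 0 := by
    intro P h
    apply hx P
    unfold LocRes.vDiff
    rw [h, mul_zero, map_zero]
  obtain ⟨Q₀⟩ := exists_place hK'
  have hΩ' : Module.finrank K' (Ω[K'⁄k']) = 1 :=
    finrank_kaehler_top hΩ1 ⟨_, kaehler_D_ne_zero_of (ψ Q₀) (hDx' Q₀)⟩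
  haveI : ∀ Q, Algebra.IsSeparable k' (F' Q) := fun Q =>
    isSeparable_of_isExpansionAt'' hΩ' (hψ Q)
  obtain ⟨W, hWc, hW⟩ := exists_canonical_eq_ordDiff F φ hφ hK hDx
  obtain ⟨W', hWc', hW'⟩ := exists_canonical_eq_ordDiff F' ψ hψ hK' hDx'
  have hdegW := (ell_canonical hK hWc).2
  have hdegW' := (ell_canonical hK' hWc').2
  obtain ⟨C, hC⟩ : ∃ C : Divisor k' K', C = upDiv (conorm K' W) := ⟨_, rfl⟩
  have hCQ : ∀ Q, C Q = e Q * W (below Q) := by
    intro Q
    rw [hC, upDiv_apply]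
    exact conorm_apply' hK W (Q := Place.down (k := k) Q) (P := below Q) (he Q)
  have hd : ∀ Q, LocRes.diffExp (φ (below Q)) (ψ Q) (e Q) x = (W' - C) Q := by
    intro Q
    rw [Finsupp.sub_apply, hCQ, hW', hW]
    rfl
  constructor
  · have : (fun Q => LocRes.diffExp (φ (below Q)) (ψ Q) (e Q) x) = fun Q => (W' - C) Q :=
      funext hd
    rw [this]
    exact (W' - C).finite_support
  · have hsum : ∑ᶠ Q, LocRes.diffExp (φ (below Q)) (ψ Q) (e Q) x * (Q.deg : ℤ) = (W' - C).deg := by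
      rw [deg_eq_finsum]
      exact finsum_congr (fun Q => by rw [hd])
    rw [hsum, deg_sub, ← hdegW', ← hdegW]
    have h1 := deg_upDiv (k' := k') (conorm K' W)
    rw [deg_conorm hK W, ← hC] at h1
    rw [mul_sub, h1]
    ring



/-- For a geometric function field of one variable `K/k` and a finite separable extension `K'` with
constant field `k'`, `[k':k] (2g_{K'} - 2) = [K':K] (2g_K - 2) + [k':k] deg 𝒟_{K'/K}`, the degree of
the different being `∑_Q d(Q|P) deg_{k'} Q`; stated, cleared of denominators, through Laurent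
expansions at every place of `K` over `k` and of `K'` over `k'` (all places separable) with the
different exponents computed on `dx`. (The published statement allows any finite extension along
which differentials pull back injectively; this row takes `K'` separable over `K`.) -/
theorem result (k k' : Type u) (K K' : Type v) [Field k] [Field k'] [Field K] [Field K']
    [Algebra k k'] [Algebra k K] [Algebra K K'] [Algebra k' K'] [Algebra k K']
    [IsScalarTower k k' K'] [IsScalarTower k K K'] [FiniteDimensional k k'] [FiniteDimensional K K']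
    [Algebra.IsSeparable K K']
    (hK : FunFld.IsFunctionField k K) (hg : FunFld.IsGeometric k K) (hK' : FunFld.IsFunctionField k' K')
    (F : FunFld.Place k K → Type w) [∀ P, Field (F P)] [∀ P, Algebra k (F P)]
    (φ : ∀ P, K →ₐ[k] LaurentSeries (F P)) (hφ : ∀ P, LocRes.IsExpansionAt P.1 (φ P))
    (F' : FunFld.Place k' K' → Type w) [∀ Q, Field (F' Q)] [∀ Q, Algebra k' (F' Q)]
    (ψ : ∀ Q, K' →ₐ[k'] LaurentSeries (F' Q)) (hψ : ∀ Q, LocRes.IsExpansionAt Q.1 (ψ Q))
    (below : FunFld.Place k' K' → FunFld.Place k K) (e : FunFld.Place k' K' → ℕ)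
    (he : ∀ Q (z : K), Q.1 (algebraMap K K' z) = (below Q).1 z ^ e Q)
    (x : K) (hx : ∀ P, LocRes.vDiff (φ P) 1 x ≠ 0) (hx' : ∀ Q, LocRes.vDiff (ψ Q) 1 (algebraMap K K' x) ≠ 0) :
    (Function.support fun Q => LocRes.diffExp (φ (below Q)) (ψ Q) (e Q) x).Finite ∧
    (Module.finrank k k' : ℤ) * (2 * (FunFld.genus k' K' : ℤ) - 2) =
      (Module.finrank K K' : ℤ) * (2 * (FunFld.genus k K : ℤ) - 2) +
      (Module.finrank k k' : ℤ) * ∑ᶠ Q, LocRes.diffExp (φ (below Q)) (ψ Q) (e Q) x * (Q.deg : ℤ) := by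
  exact main k k' K K' hK hg hK' F φ hφ F' ψ hψ below e he x hx hx'

end Groth.Agent.S12576
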