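import Groth.Statements.S12577
import Mathlib
import Groth.Agent.Lib.Helper10.Hilb3
import Groth.Agent.S11003

set_option autoImplicit false
universe u v w
open FunFld

namespace Groth.Agent.S12577

set_option linter.style.haveILetI false

open Groth.Agent.Lib.helper10 Groth.Agent.Lib.helper10.Tate Groth.Agent.Lib.helper10.FF
  Groth.Agent.Lib.helper10.Hilb

theorem main (k : Type u) (K K' : Type v) [Field k] [Field K] [Field K'] [Algebra k K] [Algebra K K'] [Algebra k K']
    [IsScalarTower k K K'] [FiniteDimensional K K'] (hK : FunFld.IsFunctionField k K) (hg : FunFld.IsGeometric k K)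
    [IsGalois K K']
    (F F' : Type w) [Field F] [Algebra k F] [Field F'] [Algebra k F']
    (P : FunFld.Place k K) (Q : FunFld.Place k K') (e : ℕ) (he : FunFld.IsOverWith Q P e)
    (φ : K →ₐ[k] LaurentSeries F) (hφ : LocRes.IsExpansionAt P.1 φ)
    (ψ : K' →ₐ[k] LaurentSeries F') (hψ : LocRes.IsExpansionAt Q.1 ψ)
    (x : K) (hx : LocRes.vDiff φ 1 x ≠ 0) (hx' : LocRes.vDiff ψ 1 (algebraMap K K' x) ≠ 0) :
    (Function.support fun i : ℕ => (Nat.card {σ : K' ≃ₐ[K] K' //
        ∀ z : K', Q.1 z ≤ 1 → Q.1 (σ z - z) ≤ WithZero.exp (-(i : ℤ))} : ℤ) - 1).Finite ∧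
    LocRes.diffExp φ ψ e x = ∑ᶠ i : ℕ, if 1 ≤ i then
      (Nat.card {σ : K' ≃ₐ[K] K' // ∀ z : K', Q.1 z ≤ 1 → Q.1 (σ z - z) ≤ WithZero.exp (-(i : ℤ))} : ℤ) - 1
      else 0 := by
  classical
  haveI : Algebra.IsSeparable K K' := IsGalois.to_isSeparable
  haveI : FiniteDimensional k F := finiteDimensional_of_isExpansionAt hK hφ
  haveI : FiniteDimensional k F' := finiteDimensional_of_isExpansionAt' hK hψ
  haveI : Algebra.IsSeparable k F := isSeparable_of_isExpansionAt hK hg hφ
  have hΩ : Module.finrank K (Ω[K⁄k]) = 1 := Groth.Agent.S11003.result k K hK hg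
  haveI : Algebra.IsSeparable k F' :=
    isSeparable_of_isExpansionAt'' (finrank_kaehler_of_isSeparable (K' := K') hΩ) hψ
  obtain ⟨τ, hτ⟩ := exists_resEquiv Q ψ hψ
  haveI : Algebra.IsSeparable k (IsLocalRing.ResidueField Q.O) :=
    AlgEquiv.Algebra.isSeparable τ.symm
  letI : Algebra P.O K' := ((algebraMap K K').comp (algebraMap P.O K)).toAlgebra
  haveI : IsScalarTower P.O K K' := IsScalarTower.of_algebraMap_eq fun _ => rfl
  have hQP : IsOver Q P := ⟨e, he⟩
  obtain ⟨y, hy, hyi, hloc⟩ := exists_monogenic hK hQP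
  have hord := ord_derivative_eq_of_fraction hK he hφ hψ hx hx' hy hyi hloc
  rw [← hord]
  have hσy : ∀ σ : K' ≃ₐ[K] K', Q.1 (σ y) ≤ 1 := fun σ =>
    val_le_one_of_isIntegral P (hyi.map ((σ : K' →ₐ[K] K').restrictScalars P.O)) hQP
  have hy1 : Q.1 y ≤ 1 := val_le_one_of_isIntegral P hyi hQP
  apply ord_derivative_eq_finsum Q hy hσy
  intro i hi σ
  constructor
  · intro h
    exact h y hy1
  · intro h z hz
    exact val_apply_sub_le_of_generator hQP hy1 hloc σ (exp_neg_lt_one hi) h hz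



/-- For a place `Q` of a finite Galois extension `K'` of a geometric function field of one variable
`K/k`, lying over `P` with ramification index `e`, both places with Laurent expansions over `k` in
local parameters (separable places), the different exponent is `d(Q|P) = ∑_{i ≥ 1} (|G_i| - 1)`,
where `G_i` is the `i`-th ramification group (automorphisms moving every element of `O_Q` by
something of valuation at least `i`); `d(Q|P)` is computed on `dx`. -/
theorem result (k : Type u) (K K' : Type v) [Field k] [Field K] [Field K'] [Algebra k K] [Algebra K K'] [Algebra k K']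
    [IsScalarTower k K K'] [FiniteDimensional K K'] (hK : FunFld.IsFunctionField k K) (hg : FunFld.IsGeometric k K)
    [IsGalois K K']
    (F F' : Type w) [Field F] [Algebra k F] [Field F'] [Algebra k F']
    (P : FunFld.Place k K) (Q : FunFld.Place k K') (e : ℕ) (he : FunFld.IsOverWith Q P e)
    (φ : K →ₐ[k] LaurentSeries F) (hφ : LocRes.IsExpansionAt P.1 φ)
    (ψ : K' →ₐ[k] LaurentSeries F') (hψ : LocRes.IsExpansionAt Q.1 ψ)
    (x : K) (hx : LocRes.vDiff φ 1 x ≠ 0) (hx' : LocRes.vDiff ψ 1 (algebraMap K K' x) ≠ 0) :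
    (Function.support fun i : ℕ => (Nat.card {σ : K' ≃ₐ[K] K' //
        ∀ z : K', Q.1 z ≤ 1 → Q.1 (σ z - z) ≤ WithZero.exp (-(i : ℤ))} : ℤ) - 1).Finite ∧
    LocRes.diffExp φ ψ e x = ∑ᶠ i : ℕ, if 1 ≤ i then
      (Nat.card {σ : K' ≃ₐ[K] K' // ∀ z : K', Q.1 z ≤ 1 → Q.1 (σ z - z) ≤ WithZero.exp (-(i : ℤ))} : ℤ) - 1
      else 0 := by
  exact main k K K' hK hg F F' P Q e he φ hφ ψ hψ x hx hx'

end Groth.Agent.S12577
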