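import Groth.Statements.S12580
import Mathlib
import Groth.Agent.Lib.Helper10.FunFld13
-- import your own Groth.Agent.* helpers here

set_option autoImplicit false
universe u v w
open FunFld

namespace Groth.Agent.S12580

open LaurentSeries in
theorem resExp_eq_zero {k : Type*} {K : Type*} {F : Type*} [Field k] [Field K] [Algebra k K]
    [Field F] [Algebra k F] (φ : K →ₐ[k] LaurentSeries F) (u v : K)
    (hu : Valued.v (φ u) ≤ 1) (hv : Valued.v (φ v) ≤ 1) : LocRes.resExp φ u v = 0 := by
  obtain ⟨U, hU⟩ := (LaurentSeries.val_le_one_iff_eq_coe F (φ u)).mp hu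
  obtain ⟨V, hV⟩ := (LaurentSeries.val_le_one_iff_eq_coe F (φ v)).mp hv
  rw [LocRes.resExp, ← hU, ← hV, LocRes.D_coe, ← map_mul, LocRes.res_apply,
    PowerSeries.coeff_coe]
  simp


/-- In a function field of one variable `K/k`, `Res_P(u dv) = 0` when `u, v ∈ O_P` (already before the
trace), and for a repartition `α` and `v ∈ K`, `Res_P(α_P dv) = 0` for almost all `P`; residues read
through Laurent expansions over `k` at every place. -/
theorem result (k : Type u) (K : Type v) [Field k] [Field K] [Algebra k K] (hK : FunFld.IsFunctionField k K)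
    (F : FunFld.Place k K → Type w) [∀ P, Field (F P)] [∀ P, Algebra k (F P)] [∀ P, FiniteDimensional k (F P)]
    (φ : ∀ P, K →ₐ[k] LaurentSeries (F P)) (hφ : ∀ P, LocRes.IsExpansionAt P.1 (φ P)) :
    (∀ (P : FunFld.Place k K) (u v : K), P.1 u ≤ 1 → P.1 v ≤ 1 → LocRes.resExp (φ P) u v = 0) ∧
    ∀ (a : FunFld.Place k K → K), a ∈ FunFld.adele k K → ∀ v : K,
      {P : FunFld.Place k K | LocRes.resExp (φ P) (a P) v ≠ 0}.Finite := by
  refine ⟨fun P u v hu hv => ?_, fun a ha v => ?_⟩
  · apply resExp_eq_zero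
    · rw [(hφ P).1]; exact hu
    · rw [(hφ P).1]; exact hv
  · have h1 := (Groth.Agent.Lib.helper10.FF.mem_adele_iff a).mp ha
    have h2 := Groth.Agent.Lib.helper10.FF.poles_finite hK v
    apply (h1.union h2).subset
    intro P hP
    simp only [Set.mem_ofPred_eq] at hP
    by_contra hcon
    simp only [Set.mem_union, Set.mem_ofPred_eq, not_or, not_not, not_lt] at hcon
    apply hP
    apply resExp_eq_zero
    · rw [(hφ P).1]; exact hcon.1
    · rw [(hφ P).1]; exact hcon.2

end Groth.Agent.S12580
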