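import Groth.Statements.S12589
import Groth.Agent.Lib.Helper10.FunFld56
open Groth.Agent.Lib.helper10

set_option autoImplicit false
universe u v
open FunFld

namespace Groth.Agent.S12589

/-- If a place `P` of a geometric function field of one variable `K/k` is nonsingular with respect to
the finite extension `k'/k` (the integral closure of `O_P` in `K' = k' ⊗_k K` is `O_P[k']`) and `Q`
is a place of `K'` above `P`, then `F_Q = k' F_P`. -/
theorem result (k k' : Type u) (K K' : Type v) [Field k] [Field k'] [Field K] [Field K']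
    [Algebra k k'] [FiniteDimensional k k'] [Algebra k K] [Algebra K K'] [Algebra k' K'] [Algebra k K']
    [IsScalarTower k k' K'] [IsScalarTower k K K']
    (h : Function.Bijective (Algebra.TensorProduct.productMap
      (IsScalarTower.toAlgHom k k' K') (IsScalarTower.toAlgHom k K K')))
    (hK : FunFld.IsFunctionField k K) (hg : FunFld.IsGeometric k K)
    (P : FunFld.Place k K) [Algebra P.O K'] [IsScalarTower P.O K K']
    (hns : (integralClosure P.O K').toSubring = (Algebra.adjoin P.O (Set.range (algebraMap k' K'))).toSubring)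
    (Q : FunFld.Place k K') [P.1.HasExtension Q.1] (hk' : ∀ c : k', Q.1 (algebraMap k' K' c) ≤ 1) :
    Algebra.adjoin (IsLocalRing.ResidueField P.O)
      (Set.range fun c : k' => IsLocalRing.residue Q.O ⟨algebraMap k' K' c, hk' c⟩) = ⊤ := by
  classical
  obtain ⟨n, hn⟩ : ∃ n, Module.finrank k k' = n := ⟨_, rfl⟩
  let c : Module.Basis (Fin n) k k' := Module.finBasisOfFinrankEq k k' hn
  obtain ⟨bE, hbE⟩ := FF.exists_const_basis h c
  have : FiniteDimensional K K' := Module.Finite.of_basis bE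
  have hQP : IsOver Q P := FF.isOver_of_hasExtension hK Q P
  let Qs := (FF.finite_places_over' (E := K') hK P).toFinset
  have hQs : ∀ Q', Q' ∈ Qs ↔ IsOver Q' P := fun Q' => by
    simp only [Qs, Set.Finite.mem_toFinset, Set.mem_ofPred_eq]
  have hQmem : Q ∈ Qs := (hQs Q).2 hQP
  have hexp : (WithZero.exp (-((1 : ℕ) : ℤ)) : WithZero (Multiplicative ℤ)) < 1 := by
    rw [← WithZero.exp_zero, WithZero.exp_lt_exp]
    norm_num
  rw [eq_top_iff]
  intro x _
  obtain ⟨z, rfl⟩ := IsLocalRing.residue_surjective x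
  obtain ⟨z', hz'⟩ := FF.weak_approx Qs (fun Q' => if Q' = Q then (z : K') else 0) 1
  have hz'Q : Q.1 (z' - z) ≤ WithZero.exp (-((1 : ℕ) : ℤ)) := by
    have := hz' Q hQmem
    rwa [if_pos rfl] at this
  have hz'O : z' ∈ FF.semiO Qs := by
    rw [FF.mem_semiO]
    intro Q' hQ'
    have h1 := hz' Q' hQ'
    by_cases hQQ : Q' = Q
    · subst hQQ
      rw [if_pos rfl] at h1
      have e : z' = (z' - z) + z := by ring
      rw [e]
      exact (Valuation.map_add _ _ _).trans (max_le (h1.trans hexp.le) z.2)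
    · rw [if_neg hQQ, sub_zero] at h1
      exact h1.trans hexp.le
  have hint : IsIntegral P.O z' := FF.isIntegral_of_mem_semiO hK P Qs hQs hz'O
  have hadj : z' ∈ Algebra.adjoin P.O (Set.range (algebraMap k' K')) := by
    have h1 : z' ∈ (integralClosure P.O K').toSubring := hint
    rw [hns] at h1
    exact h1
  have key : ∀ w ∈ Algebra.adjoin P.O (Set.range (algebraMap k' K')), ∃ hw : Q.1 w ≤ 1,
      IsLocalRing.residue Q.O ⟨w, hw⟩ ∈ Algebra.adjoin (IsLocalRing.ResidueField P.O)
        (Set.range fun c : k' => IsLocalRing.residue Q.O ⟨algebraMap k' K' c, hk' c⟩) := by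
    intro w hw
    induction hw using Algebra.adjoin_induction with
    | mem w hw =>
      obtain ⟨c, rfl⟩ := hw
      exact ⟨hk' c, Algebra.subset_adjoin ⟨c, rfl⟩⟩
    | algebraMap r =>
      have hr : Q.1 (algebraMap P.O K' r) ≤ 1 := by
        rw [IsScalarTower.algebraMap_apply P.O K K']
        exact (algebraMap P.O Q.O r).2
      refine ⟨hr, ?_⟩
      have e : IsLocalRing.residue Q.O ⟨algebraMap P.O K' r, hr⟩ =
          algebraMap (IsLocalRing.ResidueField P.O) (IsLocalRing.ResidueField Q.O)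
            (IsLocalRing.residue P.O r) := by
        rw [Valuation.HasExtension.algebraMap_residue_eq_residue_algebraMap]
        congr 1
        apply Subtype.ext
        rw [Valuation.HasExtension.coe_algebraMap_valuationSubring_eq]
        exact IsScalarTower.algebraMap_apply P.O K K' r
      rw [e]
      exact Subalgebra.algebraMap_mem _ _
    | add w₁ w₂ _ _ h₁ h₂ =>
      obtain ⟨hw₁, h₁⟩ := h₁
      obtain ⟨hw₂, h₂⟩ := h₂
      refine ⟨(Valuation.map_add _ _ _).trans (max_le hw₁ hw₂), ?_⟩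
      have e : (⟨w₁ + w₂, (Valuation.map_add _ _ _).trans (max_le hw₁ hw₂)⟩ : Q.O) =
          ⟨w₁, hw₁⟩ + ⟨w₂, hw₂⟩ := rfl
      rw [e, map_add]
      exact Subalgebra.add_mem _ h₁ h₂
    | mul w₁ w₂ _ _ h₁ h₂ =>
      obtain ⟨hw₁, h₁⟩ := h₁
      obtain ⟨hw₂, h₂⟩ := h₂
      have hm : Q.1 (w₁ * w₂) ≤ 1 := by
        rw [map_mul]
        exact mul_le_one' hw₁ hw₂
      refine ⟨hm, ?_⟩
      have e : (⟨w₁ * w₂, hm⟩ : Q.O) = ⟨w₁, hw₁⟩ * ⟨w₂, hw₂⟩ := rfl
      rw [e, map_mul]
      exact Subalgebra.mul_mem _ h₁ h₂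
  obtain ⟨hw, hres⟩ := key z' hadj
  have e : IsLocalRing.residue Q.O z = IsLocalRing.residue Q.O ⟨z', hw⟩ := by
    rw [← sub_eq_zero, ← map_sub, FF.Place.residue_eq_zero_iff]
    show Q.1 ((z : K') - z') < 1
    rw [← Valuation.map_neg, neg_sub]
    exact lt_of_le_of_lt hz'Q hexp
  rw [e]
  exact hres

end Groth.Agent.S12589
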