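import Groth.Statements.S1259
import Groth.Agent.Lib.Helper26.FibCov9

set_option linter.style.haveILetI false

set_option autoImplicit false
universe u
open FlatMor

namespace Groth.Agent.S1259

open TensorProduct IsLocalRing in
/-- Ring form, X = Spec S and S = Spec R affine: let S be a finite type R-algebra, N a finite S-module
and p a prime of R such that N_q is flat over R for every prime q of S over p. Then there is an
étale R-algebra R' with a prime p' over p having the same residue field such that, writing A for the
local ring of R' at p' and S_A, N_A for the base changes: there is an étale S_A-algebra C such that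
every prime of S over p is the contraction of a prime of C over the maximal ideal of A, and C ⊗ N_A
is a free A-module. -/
theorem result {R S : Type u} [CommRing R] [CommRing S] [Algebra R S] [Algebra.FiniteType R S]
    (N : Type u) [AddCommGroup N] [Module S N] [Module R N] [IsScalarTower R S N] [Module.Finite S N]
    (p : Ideal R) [p.IsPrime] (hflat : ∀ (q : Ideal S) [q.IsPrime], q.LiesOver p → FlatCA.FlatAt R q N) :
    ∃ (R' : Type u) (_ : CommRing R') (_ : Algebra R R') (p' : Ideal R') (_ : p'.IsPrime), FlatCA.IsEtaleNhd R R' p p' ∧
      ∀ (SA NA : Type u) [CommRing SA] [Algebra R SA] [Algebra S SA] [Algebra (Localization.AtPrime p') SA]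
        [IsScalarTower R S SA] [IsScalarTower R (Localization.AtPrime p') SA]
        [Algebra.IsPushout R S (Localization.AtPrime p') SA]
        [AddCommGroup NA] [Module SA NA] [Module S NA] [IsScalarTower S SA NA]
        (f : N →ₗ[S] NA), IsBaseChange SA f →
        ∃ (C : Type u) (_ : CommRing C) (_ : Algebra SA C) (_ : Algebra (Localization.AtPrime p') C)
          (_ : IsScalarTower (Localization.AtPrime p') SA C) (_ : Algebra S C) (_ : IsScalarTower S SA C),
          Algebra.Etale SA C ∧
          (∀ (q : Ideal S) [q.IsPrime], q.LiesOver p → ∃ x' : Ideal C, x'.IsPrime ∧ x'.comap (algebraMap S C) = q ∧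
            x'.LiesOver (maximalIdeal (Localization.AtPrime p'))) ∧
          Module.Free (Localization.AtPrime p') (RestrictScalars (Localization.AtPrime p') C (C ⊗[SA] NA)) := by
  obtain ⟨R', cR', aRR', p', hp', hEt, hall⟩ :=
    Groth.Agent.Lib.helper26.FibCov.exists_cover_free_pi N p hflat
  refine ⟨R', cR', aRR', p', hp', hEt, ?_⟩
  intro SA NA _ _ _ _ _ _ _ _ _ _ _ f hf
  obtain ⟨C, cC, aSAC, aAC, twASAC, aSC, twSSAC, hEtC, hcov, hfp, hfree⟩ := hall SA NA f hf
  refine ⟨C, cC, aSAC, aAC, twASAC, aSC, twSSAC, hEtC, hcov, ?_⟩
  let e : (C ⊗[SA] NA) ≃ₗ[Localization.AtPrime p']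
      RestrictScalars (Localization.AtPrime p') C (C ⊗[SA] NA) :=
    { (RestrictScalars.addEquiv (Localization.AtPrime p') C (C ⊗[SA] NA)).symm with
      map_smul' := fun a x => by
        show (RestrictScalars.addEquiv (Localization.AtPrime p') C (C ⊗[SA] NA)).symm (a • x) =
          a • (RestrictScalars.addEquiv (Localization.AtPrime p') C (C ⊗[SA] NA)).symm x
        rw [RestrictScalars.smul_def, AddEquiv.apply_symm_apply, algebraMap_smul] }
  haveI := hfree
  exact Module.Free.of_equiv e

end Groth.Agent.S1259
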