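import Groth.Statements.S12591
import Mathlib
import Groth.Agent.Lib.Helper10.CExt6

set_option autoImplicit false
universe u v
open FunFld

namespace Groth.Agent.S12591

set_option linter.style.haveILetI false
set_option linter.unusedSectionVars false
open Groth.Agent.Lib.helper10 CExt FF FunFld Polynomial

theorem main (k : Type u) (K : Type v) [Field k] [Field K] [Algebra k K]
    (hK : IsFunctionField k K) (hg : IsGeometric k K) (P : Place k K) :
    ∃ (k' : Type u) (_ : Field k') (_ : Algebra k k'), FiniteDimensional k k' ∧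
      ∀ (K' : Type v) [Field K'] [Algebra K K'] [Algebra k' K'] [Algebra k K']
        [IsScalarTower k k' K'] [IsScalarTower k K K'],
        Function.Bijective (Algebra.TensorProduct.productMap
          (IsScalarTower.toAlgHom k k' K') (IsScalarTower.toAlgHom k K K')) →
        ∀ Q : Place k' K', P.1.HasExtension Q.1 → Q.deg = 1 := by
  classical
  obtain ⟨k₁, _, _, _, K₁, _, _, _, _, _, _, h₁, hmin⟩ := exists_min_genus hK hg
  have hK₁ := isFunctionField_model h₁ hK hg
  obtain ⟨hfinK₁, -⟩ := finrank_model h₁
  haveI := hfinK₁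
  have hfin := finite_places_over' (E := K₁) hK P
  have hpoly : ∀ P₁ : Place k₁ K₁, ∃ g : k₁[X], g ≠ 0 ∧
      ∀ (L : Type u) [Field L] [Algebra k₁ L], (g.map (algebraMap k₁ L)).Splits →
        ∀ α : IsLocalRing.ResidueField P₁.O, ((minpoly k₁ α).map (algebraMap k₁ L)).Splits := by
    intro P₁
    have hfd := Place.finiteDimensional_residueField hK₁ P₁
    haveI hfd' : @Module.Finite k₁ (IsLocalRing.ResidueField P₁.O) _ _
        (Place.algRes P₁).toModule := hfd
    exact exists_splitting_poly k₁ (IsLocalRing.ResidueField P₁.O)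
  choose g hg0 hgs using hpoly
  haveI : Algebra.IsAlgebraic k k₁ := Algebra.IsAlgebraic.of_finite k k₁
  obtain ⟨f, hf⟩ : ∃ f : k₁[X], f = ∏ P₁' ∈ hfin.toFinset, g (Place.up (k₁ := k₁) P₁') :=
    ⟨_, rfl⟩
  have hf0 : f ≠ 0 := by
    rw [hf]
    exact Finset.prod_ne_zero_iff.mpr fun P₁' _ => hg0 _
  haveI : FiniteDimensional k₁ f.SplittingField :=
    Polynomial.IsSplittingField.finiteDimensional f.SplittingField f
  haveI : FiniteDimensional k f.SplittingField := Module.Finite.trans k₁ f.SplittingField
  refine ⟨f.SplittingField, inferInstance, inferInstance, inferInstance, ?_⟩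
  intro K' _ _ _ _ _ _ hbij Q hext
  obtain ⟨ψ, hψ₁, hψ₂⟩ := exists_modelMap (K₂ := K') h₁
    (IsScalarTower.toAlgHom k k₁ f.SplittingField)
  letI : Algebra K₁ K' := ψ.toRingHom.toAlgebra
  letI : Algebra k₁ K' :=
    ((algebraMap f.SplittingField K').comp (algebraMap k₁ f.SplittingField)).toAlgebra
  haveI : IsScalarTower K K₁ K' := IsScalarTower.of_algebraMap_eq (fun x => (hψ₂ x).symm)
  haveI : IsScalarTower k₁ K₁ K' := IsScalarTower.of_algebraMap_eq (fun c => (hψ₁ c).symm)
  haveI : IsScalarTower k₁ f.SplittingField K' := IsScalarTower.of_algebraMap_eq (fun _ => rfl)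
  haveI : IsScalarTower k k₁ K' := IsScalarTower.of_algebraMap_eq (fun c => by
    rw [IsScalarTower.algebraMap_apply k f.SplittingField K',
      IsScalarTower.algebraMap_apply k k₁ f.SplittingField]
    rfl)
  have h₁₂ := model_tower h₁ hbij hg
  obtain ⟨hfinK', -⟩ := finrank_model h₁₂
  haveI := hfinK'
  obtain ⟨hfinKK', -⟩ := finrank_model hbij
  haveI := hfinKK'
  obtain ⟨n, hn⟩ : ∃ n, Module.finrank k₁ f.SplittingField = n := ⟨_, rfl⟩
  let c : Module.Basis (Fin n) k₁ f.SplittingField :=
    Module.finBasisOfFinrankEq k₁ f.SplittingField hn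
  obtain ⟨bE, hbE⟩ := FF.exists_const_basis h₁₂ c
  have hNS : ∀ P₁ : Place k₁ K₁, NS bE P₁ := NS_of_isMinGenus h₁ hbij hK hg hmin c bE hbE
  obtain ⟨P₁, e₁, he₁⟩ := exists_place_under hK₁ (Place.down (k := k₁) Q)
  have hP₁' : IsOver (Place.down (k := k) P₁) P := by
    obtain ⟨P'', e'', he''⟩ := exists_place_under hK (Place.down (k := k) P₁)
    haveI : P.1.HasExtension (Place.down (k := k) Q).1 := hext
    obtain ⟨e, he⟩ := isOver_of_hasExtension hK (Place.down (k := k) Q) P
    have h1 : IsOverWith (Place.down (k := k) Q) (Place.down (k := k) P₁) e₁ := he₁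
    have htrans := isOverWith_trans (M := K₁) h1 he''
    have hPP := isOverWith_unique_place he htrans
    rw [hPP]
    exact ⟨e'', he''⟩
  have hmem : Place.down (k := k) P₁ ∈ hfin.toFinset := (Set.Finite.mem_toFinset hfin).2 hP₁'
  have hup : Place.up (k₁ := k₁) (Place.down (k := k) P₁) = P₁ := Place.up_down P₁
  have hfs : (f.map (algebraMap k₁ f.SplittingField)).Splits := Polynomial.SplittingField.splits f
  have hgs' : ((g P₁).map (algebraMap k₁ f.SplittingField)).Splits := by
    refine hfs.of_dvd (Polynomial.map_ne_zero hf0) (Polynomial.map_dvd _ ?_)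
    rw [hf]
    conv_lhs => rw [← hup]
    exact Finset.dvd_prod_of_mem (fun P₁' => g (Place.up (k₁ := k₁) P₁')) hmem
  have hsplit := hgs P₁ f.SplittingField hgs'
  exact deg_eq_one_of_NS hK₁ c bE hbE P₁ (hNS P₁) Q ⟨e₁, he₁⟩ hsplit



/-- Every place `P` of a geometric function field of one variable `K/k` has a splitting field of finite
degree over `k`: a finite extension `k'` such that every place of `k' ⊗_k K` above `P` has degree
one over `k'`. (The finiteness of the set of singular places and the existence of a purely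
inseparable `k'` making `k' ⊗_k K` nonsingular are not stated here.) -/
theorem result (k : Type u) (K : Type v) [Field k] [Field K] [Algebra k K]
    (hK : FunFld.IsFunctionField k K) (hg : FunFld.IsGeometric k K) (P : FunFld.Place k K) :
    ∃ (k' : Type u) (_ : Field k') (_ : Algebra k k'), FiniteDimensional k k' ∧
      ∀ (K' : Type v) [Field K'] [Algebra K K'] [Algebra k' K'] [Algebra k K']
        [IsScalarTower k k' K'] [IsScalarTower k K K'],
        Function.Bijective (Algebra.TensorProduct.productMap
          (IsScalarTower.toAlgHom k k' K') (IsScalarTower.toAlgHom k K K')) →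
        ∀ Q : FunFld.Place k' K', P.1.HasExtension Q.1 → Q.deg = 1 := by
  exact main k K hK hg P

end Groth.Agent.S12591
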