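import Groth.Statements.S12593
import Mathlib
import Groth.Agent.Lib.Helper10.FunFld38

set_option autoImplicit false
universe u v
open FunFld

namespace Groth.Agent.S12593

set_option linter.style.haveILetI false

open Groth.Agent.Lib.helper10 Groth.Agent.Lib.helper10.FF
open Polynomial FunFld IntermediateField

section A

variable {k kbar : Type u} {K Kbar : Type v} [Field k] [Field kbar] [Field K] [Field Kbar]
    [Algebra k kbar] [Algebra k K] [Algebra K Kbar] [Algebra kbar Kbar] [Algebra k Kbar]
    [IsScalarTower k kbar Kbar] [IsScalarTower k K Kbar]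

/-- The constant extension to an algebraically closed field is a function field. -/
theorem isFunctionField_bar [IsAlgClosed kbar] [Algebra.IsAlgebraic k kbar]
    (h : Function.Surjective (Algebra.TensorProduct.productMap
      (IsScalarTower.toAlgHom k kbar Kbar) (IsScalarTower.toAlgHom k K Kbar)))
    (hK : IsFunctionField k K) : IsFunctionField kbar Kbar := by
  classical
  obtain ⟨⟨x, hx, hfin⟩, -⟩ := hK
  refine ⟨⟨algebraMap K Kbar x, ?_, ?_⟩, ?_⟩
  · intro halg
    have h1 : IsAlgebraic k (algebraMap K Kbar x) := halg.restrictScalars k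
    exact hx ((isAlgebraic_algebraMap_iff (algebraMap K Kbar).injective).mp h1)
  · haveI : Module.Finite k⟮x⟯ K := hfin
    obtain ⟨s, hs⟩ := (Module.Finite.fg_top : (⊤ : Submodule k⟮x⟯ K).FG)
    have hr : ∀ r ∈ k⟮x⟯, algebraMap K Kbar r ∈ kbar⟮algebraMap K Kbar x⟯ := by
      intro r hr
      induction hr using IntermediateField.adjoin_induction with
      | mem y hy =>
        rw [Set.mem_singleton_iff.mp hy]
        exact mem_adjoin_simple_self _ _
      | algebraMap c =>
        rw [← IsScalarTower.algebraMap_apply k K Kbar, IsScalarTower.algebraMap_apply k kbar Kbar]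
        exact IntermediateField.algebraMap_mem _ _
      | add a b _ _ ha hb => rw [map_add]; exact add_mem ha hb
      | inv a _ ha => rw [map_inv₀]; exact inv_mem ha
      | mul a b _ _ ha hb => rw [map_mul]; exact mul_mem ha hb
    have hspan : Submodule.span kbar⟮algebraMap K Kbar x⟯
        ((algebraMap K Kbar) '' (s : Set K)) = ⊤ := by
      rw [eq_top_iff]
      rintro z -
      obtain ⟨w, rfl⟩ := h z
      induction w using TensorProduct.induction_on with
      | zero => rw [map_zero]; exact zero_mem _
      | add a b ha hb => rw [map_add]; exact add_mem ha hb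
      | tmul c y =>
        rw [Algebra.TensorProduct.productMap_apply_tmul]
        have hy : y ∈ Submodule.span k⟮x⟯ (s : Set K) := by rw [hs]; trivial
        induction hy using Submodule.span_induction with
        | mem b hb =>
          have : (IsScalarTower.toAlgHom k kbar Kbar) c * (IsScalarTower.toAlgHom k K Kbar) b =
              (⟨algebraMap kbar Kbar c, IntermediateField.algebraMap_mem _ c⟩ :
                kbar⟮algebraMap K Kbar x⟯) • algebraMap K Kbar b := rfl
          rw [this]
          exact Submodule.smul_mem _ _ (Submodule.subset_span ⟨b, hb, rfl⟩)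
        | zero => rw [map_zero, mul_zero]; exact zero_mem _
        | add a b _ _ ha hb => rw [map_add, mul_add]; exact add_mem ha hb
        | smul r a _ ha =>
          have : (IsScalarTower.toAlgHom k kbar Kbar) c *
              (IsScalarTower.toAlgHom k K Kbar) (r • a) =
              (⟨algebraMap K Kbar r.1, hr r.1 r.2⟩ : kbar⟮algebraMap K Kbar x⟯) •
                ((IsScalarTower.toAlgHom k kbar Kbar) c * (IsScalarTower.toAlgHom k K Kbar) a) := by
            show algebraMap kbar Kbar c * algebraMap K Kbar (r • a) =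
              algebraMap K Kbar r.1 * (algebraMap kbar Kbar c * algebraMap K Kbar a)
            rw [show r • a = (r : K) * a from rfl, map_mul]
            ring
          rw [this]
          exact Submodule.smul_mem _ _ ha
    exact Module.Finite.of_fg_top ⟨s.image (algebraMap K Kbar), by rw [Finset.coe_image]; exact hspan⟩
  · intro y hy
    have hint : IsIntegral kbar y := hy.isIntegral
    have hdeg := IsAlgClosed.degree_eq_one_of_irreducible kbar (minpoly.irreducible hint)
    exact minpoly.mem_range_of_degree_eq_one kbar y hdeg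

/-- Every element of the constant extension is defined over a finite extension of `k`. -/
theorem exists_finite_defined [Algebra.IsAlgebraic k kbar]
    (h : Function.Surjective (Algebra.TensorProduct.productMap
      (IsScalarTower.toAlgHom k kbar Kbar) (IsScalarTower.toAlgHom k K Kbar))) (z : Kbar) :
    ∃ k' : IntermediateField k kbar, FiniteDimensional k k' ∧
      z ∈ Algebra.adjoin K (Set.range fun c : k' => algebraMap kbar Kbar c) := by
  obtain ⟨w, rfl⟩ := h z
  induction w using TensorProduct.induction_on with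
  | zero => exact ⟨⊥, inferInstance, by rw [map_zero]; exact zero_mem _⟩
  | tmul c y =>
    refine ⟨k⟮c⟯, ?_, ?_⟩
    · exact IntermediateField.adjoin.finiteDimensional
        (Algebra.IsAlgebraic.isAlgebraic (R := k) c).isIntegral
    · rw [Algebra.TensorProduct.productMap_apply_tmul]
      refine mul_mem (Algebra.subset_adjoin ⟨⟨c, mem_adjoin_simple_self k c⟩, rfl⟩) ?_
      exact Subalgebra.algebraMap_mem _ y
  | add a b ha hb =>
    obtain ⟨k₁, h1, ha⟩ := ha
    obtain ⟨k₂, h2, hb⟩ := hb
    haveI := h1
    haveI := h2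
    refine ⟨k₁ ⊔ k₂, IntermediateField.finiteDimensional_sup k₁ k₂, ?_⟩
    rw [map_add]
    refine add_mem (Algebra.adjoin_mono ?_ ha) (Algebra.adjoin_mono ?_ hb)
    · rintro _ ⟨c, rfl⟩
      exact ⟨⟨c.1, (le_sup_left : k₁ ≤ k₁ ⊔ k₂) c.2⟩, rfl⟩
    · rintro _ ⟨c, rfl⟩
      exact ⟨⟨c.1, (le_sup_right : k₂ ≤ k₁ ⊔ k₂) c.2⟩, rfl⟩

end A

theorem main (k kbar : Type u) (K Kbar : Type v) [Field k] [Field kbar] [Field K] [Field Kbar]
    [Algebra k kbar] [IsAlgClosure k kbar] [Algebra k K] [Algebra K Kbar] [Algebra kbar Kbar] [Algebra k Kbar]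
    [IsScalarTower k kbar Kbar] [IsScalarTower k K Kbar]
    (h : Function.Bijective (Algebra.TensorProduct.productMap
      (IsScalarTower.toAlgHom k kbar Kbar) (IsScalarTower.toAlgHom k K Kbar)))
    (hK : FunFld.IsFunctionField k K) (Q : FunFld.Place kbar Kbar) :
    ∃ k' : IntermediateField k kbar, FiniteDimensional k k' ∧
      (∃ z ∈ Algebra.adjoin K (Set.range fun c : k' => algebraMap kbar Kbar c), Q.1 z = WithZero.exp (-1)) ∧
      ∀ Q' : FunFld.Place kbar Kbar,
        (∃ e : ℕ, ∀ z ∈ Algebra.adjoin K (Set.range fun c : k' => algebraMap kbar Kbar c), Q'.1 z = Q.1 z ^ e) → Q' = Q := by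
  haveI : IsAlgClosed kbar := IsAlgClosure.isAlgClosed k
  haveI : Algebra.IsAlgebraic k kbar := IsAlgClosure.isAlgebraic
  have hKb : IsFunctionField kbar Kbar := isFunctionField_bar h.2 hK
  obtain ⟨x, -, hxQ, hxu⟩ := exists_unique_zero hKb Q
  obtain ⟨t, ht⟩ := Q.2.2 (WithZero.exp (-1))
  obtain ⟨k₁, h1, hx1⟩ := exists_finite_defined h.2 x
  obtain ⟨k₂, h2, ht2⟩ := exists_finite_defined h.2 t
  haveI := h1
  haveI := h2
  have hm1 : Algebra.adjoin K (Set.range fun c : k₁ => algebraMap kbar Kbar c) ≤
      Algebra.adjoin K (Set.range fun c : (k₁ ⊔ k₂ : IntermediateField k kbar) =>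
        algebraMap kbar Kbar c) := by
    apply Algebra.adjoin_mono
    rintro _ ⟨c, rfl⟩
    exact ⟨⟨c.1, (le_sup_left : k₁ ≤ k₁ ⊔ k₂) c.2⟩, rfl⟩
  have hm2 : Algebra.adjoin K (Set.range fun c : k₂ => algebraMap kbar Kbar c) ≤
      Algebra.adjoin K (Set.range fun c : (k₁ ⊔ k₂ : IntermediateField k kbar) =>
        algebraMap kbar Kbar c) := by
    apply Algebra.adjoin_mono
    rintro _ ⟨c, rfl⟩
    exact ⟨⟨c.1, (le_sup_right : k₂ ≤ k₁ ⊔ k₂) c.2⟩, rfl⟩
  refine ⟨k₁ ⊔ k₂, IntermediateField.finiteDimensional_sup k₁ k₂, ⟨t, hm2 ht2, ht⟩, ?_⟩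
  rintro Q' ⟨e, he⟩
  have he0 : e ≠ 0 := by
    intro h0
    have := he 0 (zero_mem _)
    rw [h0, map_zero, pow_zero] at this
    exact zero_ne_one this
  apply hxu
  rw [he x (hm1 hx1)]
  exact pow_lt_one' hxQ he0



/-- Every divisor of `K̄ = k̄ ⊗_k K`, for a geometric function field of one variable `K/k`, is defined
over a finite extension `k'` of `k`; stated for a single place `Q` of `K̄/k̄`: for some finite `k' ⊆
k̄`, the field `K' = k'K ⊆ K̄` contains a local parameter at `Q` and `Q` is the only place of `K̄`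
above its restriction to `K'` (so `Q` is the conorm of the point `Q ∩ K'`). -/
theorem result (k kbar : Type u) (K Kbar : Type v) [Field k] [Field kbar] [Field K] [Field Kbar]
    [Algebra k kbar] [IsAlgClosure k kbar] [Algebra k K] [Algebra K Kbar] [Algebra kbar Kbar] [Algebra k Kbar]
    [IsScalarTower k kbar Kbar] [IsScalarTower k K Kbar]
    (h : Function.Bijective (Algebra.TensorProduct.productMap
      (IsScalarTower.toAlgHom k kbar Kbar) (IsScalarTower.toAlgHom k K Kbar)))
    (hK : FunFld.IsFunctionField k K) (hg : FunFld.IsGeometric k K) (Q : FunFld.Place kbar Kbar) :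
    ∃ k' : IntermediateField k kbar, FiniteDimensional k k' ∧
      (∃ z ∈ Algebra.adjoin K (Set.range fun c : k' => algebraMap kbar Kbar c), Q.1 z = WithZero.exp (-1)) ∧
      ∀ Q' : FunFld.Place kbar Kbar,
        (∃ e : ℕ, ∀ z ∈ Algebra.adjoin K (Set.range fun c : k' => algebraMap kbar Kbar c), Q'.1 z = Q.1 z ^ e) → Q' = Q := by
  exact main k kbar K Kbar h hK Q

end Groth.Agent.S12593
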