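import Groth.Statements.S12594
import Mathlib
import Groth.Agent.Lib.Helper10.CExt8

set_option autoImplicit false
universe u v
open FunFld

namespace Groth.Agent.S12594

set_option linter.style.haveILetI false
set_option linter.unusedSectionVars false
open Groth.Agent.Lib.helper10 CExt FF FunFld Polynomial

theorem main (k : Type u) (K : Type v) [Field k] [Field K] [Algebra k K]
    (hK : IsFunctionField k K) (hg : IsGeometric k K) :
    ∃ (k' : Type u) (_ : Field k') (_ : Algebra k k'), FiniteDimensional k k' ∧ IsPurelyInseparable k k' ∧
      ∀ (K' : Type v) [Field K'] [Algebra K K'] [Algebra k' K'] [Algebra k K']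
        [IsScalarTower k k' K'] [IsScalarTower k K K'],
        Function.Bijective (Algebra.TensorProduct.productMap
          (IsScalarTower.toAlgHom k k' K') (IsScalarTower.toAlgHom k K K')) →
        ∀ (Q : Place k' K') (k'' : Type u) [Field k''] [Algebra k' k''] [FiniteDimensional k' k'']
          (K'' : Type v) [Field K''] [Algebra K' K''] [Algebra k'' K''] [Algebra k' K'']
          [IsScalarTower k' k'' K''] [IsScalarTower k' K' K''],
          Function.Bijective (Algebra.TensorProduct.productMap
            (IsScalarTower.toAlgHom k' k'' K'') (IsScalarTower.toAlgHom k' K' K'')) →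
          integralClosure (Q.O.toSubring.map (algebraMap K' K'')) K'' =
            Algebra.adjoin (Q.O.toSubring.map (algebraMap K' K'')) (Set.range (algebraMap k'' K'')) := by
  classical
  obtain ⟨k₁, _, _, _, K₁, _, _, _, _, _, _, h₁, hmin⟩ := exists_min_genus hK hg
  obtain ⟨N, _, _, _, M, hpi, hgal, ⟨φ⟩⟩ := exists_normal_pi k k₁
  refine ⟨M, inferInstance, inferInstance, inferInstance, hpi, ?_⟩
  intro K' _ _ _ _ _ _ hbij' Q k'' _ _ _ K'' _ _ _ _ _ _ hbij''
  have hK' := isFunctionField_model hbij' hK hg
  have hg' := isGeometric_model hbij' hg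
  obtain ⟨hfinK'', -⟩ := finrank_model hbij''
  haveI := hfinK''
  obtain ⟨n, hn⟩ : ∃ n, Module.finrank M k'' = n := ⟨_, rfl⟩
  let c : Module.Basis (Fin n) M k'' := Module.finBasisOfFinrankEq M k'' hn
  obtain ⟨bE, hbE⟩ := FF.exists_const_basis hbij'' c
  -- the model over N
  obtain ⟨KN, _, _, _, _, _, _, hN⟩ := exists_model (k := M) (K := K') N hg'
  haveI : Algebra.IsSeparable M N := hgal.to_isSeparable
  have e1 : genus N KN = genus M K' := genus_eq_of_isSeparable hN hK' hg'
  have e2 : genus N KN ≤ genus k₁ K₁ :=
    genus_tower_le hbij' hN hK hg h₁ φ.toRingHom (fun c => by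
      rw [← IsScalarTower.algebraMap_apply k M N]
      exact φ.commutes c)
  have e3 : genus k₁ K₁ ≤ genus k'' K'' := genus_tower_ge hbij' hbij'' hK hg hmin
  have e4 : genus k'' K'' ≤ genus M K' := genus_le hbij'' hK' hg'
  have heq : genus k'' K'' = genus M K' := le_antisymm e4 (by omega)
  exact integralClosure_eq_adjoin_of_NS c bE hbE Q
    (NS_of_genus_eq hbij'' hK' hg' c bE hbE heq Q)



/-- For a geometric function field of one variable `K/k` there is a finite purely inseparable extension
`k'/k` such that `k' ⊗_k K` is nonsingular: every place of it is nonsingular with respect to every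
finite extension `k''/k'` (the integral closure of its valuation ring in `k'' ⊗_{k'} (k' ⊗_k K)` is
generated by `k''`). -/
theorem result (k : Type u) (K : Type v) [Field k] [Field K] [Algebra k K]
    (hK : FunFld.IsFunctionField k K) (hg : FunFld.IsGeometric k K) :
    ∃ (k' : Type u) (_ : Field k') (_ : Algebra k k'), FiniteDimensional k k' ∧ IsPurelyInseparable k k' ∧
      ∀ (K' : Type v) [Field K'] [Algebra K K'] [Algebra k' K'] [Algebra k K']
        [IsScalarTower k k' K'] [IsScalarTower k K K'],
        Function.Bijective (Algebra.TensorProduct.productMap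
          (IsScalarTower.toAlgHom k k' K') (IsScalarTower.toAlgHom k K K')) →
        ∀ (Q : FunFld.Place k' K') (k'' : Type u) [Field k''] [Algebra k' k''] [FiniteDimensional k' k'']
          (K'' : Type v) [Field K''] [Algebra K' K''] [Algebra k'' K''] [Algebra k' K'']
          [IsScalarTower k' k'' K''] [IsScalarTower k' K' K''],
          Function.Bijective (Algebra.TensorProduct.productMap
            (IsScalarTower.toAlgHom k' k'' K'') (IsScalarTower.toAlgHom k' K' K'')) →
          integralClosure (Q.O.toSubring.map (algebraMap K' K'')) K'' =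
            Algebra.adjoin (Q.O.toSubring.map (algebraMap K' K'')) (Set.range (algebraMap k'' K'')) := by
  exact main k K hK hg

end Groth.Agent.S12594
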