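import Groth.Statements.S12595
import Mathlib

set_option autoImplicit false
open FunFld

namespace Groth.Agent.S12595

open FunFld

theorem tau_eq_id {k K : Type*} [Field k] [Field K] [Algebra k K] (τ : K →ₐ[k] K) (s : Set K)
    (hs : IntermediateField.adjoin k s = ⊤) (h : ∀ x ∈ s, τ x = x) : τ = AlgHom.id k K := by
  ext x
  have hx : x ∈ IntermediateField.adjoin k s := by rw [hs]; trivial
  show τ x = x
  induction hx using IntermediateField.adjoin_induction with
  | mem x hx => exact h x hx
  | algebraMap x => exact τ.commutes x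
  | add x y _ _ hx hy => rw [map_add, hx, hy]
  | inv x _ hx => rw [map_inv₀, hx]
  | mul x y _ _ hx hy => rw [map_mul, hx, hy]

theorem main {k K : Type*} [Field k] [Field K] [Algebra k K] {n : ℕ} (φ : Fin (n + 1) → K)
    (h0 : φ 0 ≠ 0)
    (hbir : IntermediateField.adjoin k (Set.range fun i => φ i / φ 0) = ⊤)
    (τ : K →ₐ[k] K) (s : K) (H : K →ₐ[k] PowerSeries K) (hH : LocRes.IsHasseFamily s H) :
    ¬ IsJump K (hcol τ H φ) 1 ↔ τ = AlgHom.id k K := by
  have hc1 : hcol τ H φ 1 = φ := by
    funext i
    show LocRes.hasseD H 0 (φ i) = φ i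
    rw [LocRes.hasseD_apply, PowerSeries.coeff_zero_eq_constantCoeff_apply, hH.2]
  have hc0 : hcol τ H φ 0 = fun i => τ (φ i) := rfl
  have himg : hcol τ H φ '' Set.Iio 1 = {fun i => τ (φ i)} := by
    ext v
    simp only [Set.mem_image, Set.mem_Iio, Nat.lt_one_iff, Set.mem_singleton_iff]
    constructor
    · rintro ⟨m, rfl, rfl⟩; rfl
    · rintro rfl; exact ⟨0, rfl, rfl⟩
  unfold IsJump
  rw [not_not, himg, hc1, Submodule.mem_span_singleton]
  constructor
  · rintro ⟨a, ha⟩
    have ha' : ∀ i, a * τ (φ i) = φ i := fun i => congrFun ha i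
    have ha0 : a ≠ 0 := by
      rintro rfl
      apply h0
      rw [← ha' 0, zero_mul]
    apply tau_eq_id τ _ hbir
    rintro _ ⟨i, rfl⟩
    show τ (φ i / φ 0) = φ i / φ 0
    rw [map_div₀]
    conv_rhs => rw [← ha' i, ← ha' 0]
    rw [mul_div_mul_left _ _ ha0]
  · rintro rfl
    exact ⟨1, by funext i; simp⟩



/-- Over an algebraically closed constant field, let `φ` be a birational projective map of the function
field `K` (the ratios `φ i / φ 0` generate `K`), `τ` a `k`-endomorphism of `K` and `H` a total Hasse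
derivative. Then the first `τ`-order of `φ` is positive — the column `φ` of `0`-th Hasse derivatives
lies in the `K`-span of the leading column `τ(φ)` — exactly when `τ` is the identity. -/
theorem result
    (k K : Type*) [Field k] [IsAlgClosed k] [Field K] [Algebra k K]
    (hK : FunFld.IsFunctionField k K) {n : ℕ} (φ : Fin (n + 1) → K) (h0 : φ 0 ≠ 0)
    (hbir : IntermediateField.adjoin k (Set.range fun i => φ i / φ 0) = ⊤)
    (τ : K →ₐ[k] K) (s : K) (H : K →ₐ[k] PowerSeries K) (hH : LocRes.IsHasseFamily s H) :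
    ¬ FunFld.IsJump K (FunFld.hcol τ H φ) 1 ↔ τ = AlgHom.id k K := by
  exact main φ h0 hbir τ s H hH

end Groth.Agent.S12595
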