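import Groth.Statements.S12602
import Mathlib
import Groth.Agent.Lib.Helper19.Jumps
import Groth.Agent.S12595

set_option autoImplicit false
open FunFld

namespace Groth.Agent.S12602

open FunFld Groth.Agent.Lib.helper19.Jumps

section
variable {K M : Type*} [Field K] [AddCommGroup M] [Module K M]

/-- jump vectors are linearly independent -/
theorem li_jumps (c : ℕ → M) (m : ℕ) : LinearIndepOn K c {j | j < m ∧ IsJump K c j} := by
  induction m with
  | zero =>
    have : {j | j < 0 ∧ IsJump K c j} = ∅ := by ext j; simp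
    rw [this]
    exact linearIndepOn_empty K c
  | succ m ih =>
    by_cases hm : IsJump K c m
    · have h2 : {j | j < m + 1 ∧ IsJump K c j} = insert m {j | j < m ∧ IsJump K c j} := by
        ext j
        simp only [Set.mem_ofPred_eq, Set.mem_insert_iff]
        constructor
        · rintro ⟨hj, hj'⟩
          rcases Nat.lt_succ_iff_lt_or_eq.mp hj with h | h
          · exact Or.inr ⟨h, hj'⟩
          · exact Or.inl h
        · rintro (rfl | ⟨hj, hj'⟩)
          · exact ⟨Nat.lt_succ_self _, hm⟩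
          · exact ⟨Nat.lt_succ_of_lt hj, hj'⟩
      rw [h2, linearIndepOn_insert (by simp)]
      refine ⟨ih, ?_⟩
      rw [← span_jumps]
      exact hm
    · have h2 : {j | j < m + 1 ∧ IsJump K c j} = {j | j < m ∧ IsJump K c j} := by
        ext j
        simp only [Set.mem_ofPred_eq]
        constructor
        · rintro ⟨hj, hj'⟩
          rcases Nat.lt_succ_iff_lt_or_eq.mp hj with h | h
          · exact ⟨h, hj'⟩
          · exact absurd (h ▸ hj') hm
        · rintro ⟨hj, hj'⟩
          exact ⟨Nat.lt_succ_of_lt hj, hj'⟩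
      rw [h2]; exact ih

end

open FunFld Groth.Agent.Lib.helper19.Jumps

section
variable {K M : Type*} [Field K] [AddCommGroup M] [Module K M] [FiniteDimensional K M]

/-- the column index function -/
def gidx {n : ℕ} (J : Fin n → ℕ) : Fin (n + 1) → ℕ := Fin.cases 0 (fun a => J a + 1)

theorem gidx_injective {n : ℕ} (J : Fin n → ℕ) (hJ : StrictMono J) : Function.Injective (gidx J) := by
  intro a b
  refine Fin.cases ?_ (fun a' => ?_) a <;> refine Fin.cases ?_ (fun b' => ?_) b
  · intro _; rfl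
  · intro h; simp [gidx] at h
  · intro h; simp [gidx] at h
  · intro h
    simp only [gidx, Fin.cases_succ, add_left_inj] at h
    rw [hJ.injective h]

/-- with `n` orders and nonzero leading column in dimension `n+1`, the columns span everything
before index `N` as soon as `N` exceeds all jumps. -/
theorem span_eq_top (c : ℕ → M) {n : ℕ} (hdim : Module.finrank K M = n + 1)
    (J : Fin n → ℕ) (hJ : IsOrders K c J) (hp : c 0 ≠ 0) (N : ℕ) (hN : ∀ l, J l + 1 < N) (hN0 : 0 < N) :
    Submodule.span K (c '' Set.Iio N) = ⊤ := by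
  have hT : ∀ a, gidx J a ∈ {j | j < N ∧ IsJump K c j} := by
    intro a
    refine Fin.cases ?_ (fun a' => ?_) a
    · refine ⟨hN0, ?_⟩
      show c 0 ∉ Submodule.span K (c '' Set.Iio 0)
      have : c '' Set.Iio 0 = ∅ := by ext x; simp
      rw [this, Submodule.span_empty, Submodule.mem_bot]
      exact hp
    · exact ⟨hN a', (hJ.2 (J a')).mp ⟨a', rfl⟩⟩
  have hli : LinearIndependent K (fun a : Fin (n + 1) => c (gidx J a)) := by
    have h1 : LinearIndependent K (fun x : {j | j < N ∧ IsJump K c j} => c x) := li_jumps c N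
    exact h1.comp (fun a => ⟨gidx J a, hT a⟩) (fun a b h => gidx_injective J hJ.1 (Subtype.ext_iff.mp h))
  have htop := hli.span_eq_top_of_card_eq_finrank' (by rw [Fintype.card_fin, hdim])
  rw [eq_top_iff, ← htop]
  apply Submodule.span_mono
  rintro _ ⟨a, rfl⟩
  exact ⟨gidx J a, (hT a).1, rfl⟩

end

open FunFld Groth.Agent.Lib.helper19.Jumps

section
variable {K M : Type*} [Field K] [AddCommGroup M] [Module K M] [FiniteDimensional K M]

theorem replace_first (c c' : ℕ → M) (q : M) {n : ℕ} (hdim : Module.finrank K M = n + 1)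
    (J : Fin n → ℕ) (hJ : IsOrders K c J) (hn : 0 < n)
    (hc'0 : c' 0 = q) (hc' : ∀ j, c' (j + 1) = c (j + 1))
    (h01 : c 1 = c 0) (hp : c 0 ≠ 0) (hq : q ≠ 0) (hpq : c 0 ∉ Submodule.span K {q}) :
    ∃ m : Fin n, ∀ j, IsJump K c' (j + 1) ↔ (j = 0 ∨ ∃ l, l ≠ m ∧ J l = j) := by
  classical
  let U : ℕ → Submodule K M := fun j => Submodule.span K (c '' Set.Ioc 0 j)
  have hU0 : U 0 = ⊥ := by simp [U]
  have hUsucc : ∀ j, U (j + 1) = U j ⊔ Submodule.span K {c (j + 1)} := by
    intro j
    have : Set.Ioc 0 (j + 1) = insert (j + 1) (Set.Ioc 0 j) := by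
      ext x; simp only [Set.mem_Ioc, Set.mem_insert_iff]; omega
    simp only [U]
    rw [this, Set.image_insert_eq, Submodule.span_insert, sup_comm]
  have hUmono : Monotone U := fun a b hab =>
    Submodule.span_mono (Set.image_mono (Set.Ioc_subset_Ioc_right hab))
  have hIio : ∀ j, Set.Iio (j + 1) = insert 0 (Set.Ioc 0 j) := by
    intro j; ext x; simp only [Set.mem_Iio, Set.mem_Ioc, Set.mem_insert_iff]; omega
  have hS : ∀ j, Submodule.span K (c '' Set.Iio (j + 1)) = Submodule.span K {c 0} ⊔ U j := by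
    intro j
    rw [hIio, Set.image_insert_eq, Submodule.span_insert]
  have hS' : ∀ j, Submodule.span K (c' '' Set.Iio (j + 1)) = Submodule.span K {q} ⊔ U j := by
    intro j
    have h2 : c' '' Set.Ioc 0 j = c '' Set.Ioc 0 j := by
      apply Set.image_congr
      intro x hx
      obtain ⟨y, rfl⟩ := Nat.exists_eq_succ_of_ne_zero hx.1.ne'
      exact hc' y
    rw [hIio, Set.image_insert_eq, Submodule.span_insert, hc'0, h2]
  have hc0U : ∀ j, 1 ≤ j → c 0 ∈ U j := by
    intro j hj
    rw [← h01]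
    exact Submodule.subset_span ⟨1, ⟨Nat.one_pos, hj⟩, rfl⟩
  have hS1 : ∀ j, 1 ≤ j → Submodule.span K (c '' Set.Iio (j + 1)) = U j := by
    intro j hj
    rw [hS, sup_eq_right, Submodule.span_singleton_le_iff_mem]
    exact hc0U j hj
  have hjump : ∀ j, 1 ≤ j → (IsJump K c (j + 1) ↔ c (j + 1) ∉ U j) := by
    intro j hj
    unfold IsJump
    rw [hS1 j hj]
  have hjump' : ∀ j, IsJump K c' (j + 1) ↔ c (j + 1) ∉ Submodule.span K {q} ⊔ U j := by
    intro j
    unfold IsJump
    rw [hS', hc']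
  -- q in some U N
  have hqU : ∃ N, q ∈ U N := by
    let last : Fin n := ⟨n - 1, by omega⟩
    refine ⟨J last + 2, ?_⟩
    rw [← hS1 _ (by omega), span_eq_top c hdim J hJ hp (J last + 2 + 1) ?_ (by omega)]
    · trivial
    · intro l
      have : J l ≤ J last := hJ.1.monotone (by
        rw [Fin.le_def]; simp only [last]; have := l.2; omega)
      omega
  let N₀ := Nat.find hqU
  have hN₀ : q ∈ U N₀ := Nat.find_spec hqU
  have hN₀min : ∀ N, N < N₀ → q ∉ U N := fun N hN => Nat.find_min hqU hN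
  have hN₀0 : N₀ ≠ 0 := by
    intro h
    rw [h, hU0, Submodule.mem_bot] at hN₀
    exact hq hN₀
  have hU1 : U 1 = Submodule.span K {c 0} := by
    rw [hUsucc, hU0, bot_sup_eq, h01]
  have hN₀1 : N₀ ≠ 1 := by
    intro h
    rw [h, hU1, Submodule.mem_span_singleton] at hN₀
    obtain ⟨a, ha⟩ := hN₀
    have ha0 : a ≠ 0 := by
      rintro rfl
      rw [zero_smul] at ha
      exact hq ha.symm
    apply hpq
    rw [Submodule.mem_span_singleton]
    exact ⟨a⁻¹, by rw [← ha, smul_smul, inv_mul_cancel₀ ha0, one_smul]⟩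
  obtain ⟨j₀, hj₀⟩ : ∃ j₀, N₀ = j₀ + 1 := Nat.exists_eq_succ_of_ne_zero hN₀0
  have hj₀1 : 1 ≤ j₀ := by omega
  have hqj₀ : q ∈ U (j₀ + 1) := hj₀ ▸ hN₀
  have hqj₀' : q ∉ U j₀ := hN₀min j₀ (by omega)
  have hj₀jump : IsJump K c (j₀ + 1) := by
    rw [hjump j₀ hj₀1]
    intro hmem
    apply hqj₀'
    have : U (j₀ + 1) = U j₀ := by
      rw [hUsucc, sup_eq_left, Submodule.span_singleton_le_iff_mem]
      exact hmem
    rw [← this]
    exact hqj₀
  obtain ⟨m, hm⟩ := (hJ.2 j₀).mpr hj₀jump
  refine ⟨m, fun j => ?_⟩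
  rw [hjump']
  rcases Nat.eq_zero_or_pos j with rfl | hjpos
  · simp only [true_or, iff_true]
    rw [hU0, sup_bot_eq, zero_add, h01]
    exact hpq
  have hRHS : (j = 0 ∨ ∃ l, l ≠ m ∧ J l = j) ↔ (c (j + 1) ∉ U j ∧ j ≠ j₀) := by
    rw [← hjump j hjpos, ← hJ.2 j]
    constructor
    · rintro (h | ⟨l, hl, rfl⟩)
      · omega
      · refine ⟨⟨l, rfl⟩, ?_⟩
        intro h
        apply hl
        apply hJ.1.injective
        rw [h, hm]
    · rintro ⟨⟨l, rfl⟩, hne⟩
      right
      exact ⟨l, fun h => hne (by rw [h, hm]), rfl⟩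
  rw [hRHS]
  rcases lt_trichotomy j j₀ with hlt | rfl | hgt
  · have hne : j ≠ j₀ := hlt.ne
    simp only [hne, ne_eq, not_false_eq_true, and_true]
    rw [not_iff_not]
    constructor
    · intro h
      obtain ⟨x, hx, w, hw, hxw⟩ := Submodule.mem_sup.mp h
      obtain ⟨a, rfl⟩ := Submodule.mem_span_singleton.mp hx
      by_cases ha : a = 0
      · rw [ha, zero_smul, zero_add] at hxw
        rw [← hxw]
        exact hw
      · exfalso
        apply hqj₀'
        have hq' : q = a⁻¹ • (c (j + 1) - w) := by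
          rw [← hxw, add_sub_cancel_right, smul_smul, inv_mul_cancel₀ ha, one_smul]
        rw [hq']
        apply Submodule.smul_mem
        apply hUmono (show j + 1 ≤ j₀ by omega)
        rw [hUsucc]
        exact sub_mem (Submodule.mem_sup_right (Submodule.mem_span_singleton_self _))
          (Submodule.mem_sup_left hw)
    · intro h
      exact Submodule.mem_sup_right h
  · simp only [ne_eq, not_true_eq_false, and_false, iff_false, not_not]
    rw [hUsucc] at hqj₀
    obtain ⟨w, hw, x, hx, hwx⟩ := Submodule.mem_sup.mp hqj₀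
    obtain ⟨a, rfl⟩ := Submodule.mem_span_singleton.mp hx
    have ha : a ≠ 0 := by
      rintro rfl
      rw [zero_smul, add_zero] at hwx
      exact hqj₀' (hwx ▸ hw)
    have : c (j + 1) = a⁻¹ • (q - w) := by
      rw [← hwx, add_sub_cancel_left, smul_smul, inv_mul_cancel₀ ha, one_smul]
    rw [this]
    apply Submodule.smul_mem
    exact sub_mem (Submodule.mem_sup_left (Submodule.mem_span_singleton_self _))
      (Submodule.mem_sup_right hw)
  · have hne : j ≠ j₀ := hgt.ne'
    simp only [hne, ne_eq, not_false_eq_true, and_true]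
    have : Submodule.span K {q} ⊔ U j = U j := by
      rw [sup_eq_right, Submodule.span_singleton_le_iff_mem]
      exact hUmono (show j₀ + 1 ≤ j by omega) hqj₀
    rw [this]

end

open FunFld Groth.Agent.Lib.helper19.Jumps

theorem main {k K : Type*} [Field k] [Field K] [Algebra k K] {n : ℕ} (hn : 0 < n)
    (φ : Fin (n + 1) → K) (h0 : φ 0 ≠ 0)
    (hbir : IntermediateField.adjoin k (Set.range fun i => φ i / φ 0) = ⊤)
    (τ : K →ₐ[k] K) (hτ : τ ≠ AlgHom.id k K) (s : K) (H : K →ₐ[k] PowerSeries K)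
    (hH : LocRes.IsHasseFamily s H)
    (J : Fin n → ℕ) (hJ : IsOrders K (hcol (AlgHom.id k K) H φ) J) :
    ∃ m : Fin n, ∀ j : ℕ,
      IsJump K (hcol τ H φ) (j + 1) ↔ (j = 0 ∨ ∃ l, l ≠ m ∧ J l = j) := by
  have hc1 : hcol (AlgHom.id k K) H φ 1 = φ := by
    funext i
    show LocRes.hasseD H 0 (φ i) = φ i
    rw [LocRes.hasseD_apply, PowerSeries.coeff_zero_eq_constantCoeff_apply, hH.2]
  have hc0 : hcol (AlgHom.id k K) H φ 0 = φ := rfl
  have hjump1 : IsJump K (hcol τ H φ) 1 := by
    by_contra h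
    exact hτ ((Groth.Agent.S12595.main φ h0 hbir τ s H hH).mp h)
  have himg : hcol τ H φ '' Set.Iio 1 = {fun i => τ (φ i)} := by
    ext v
    simp only [Set.mem_image, Set.mem_Iio, Nat.lt_one_iff, Set.mem_singleton_iff]
    constructor
    · rintro ⟨m, rfl, rfl⟩; rfl
    · rintro rfl; exact ⟨0, rfl, rfl⟩
  refine replace_first (hcol (AlgHom.id k K) H φ) (hcol τ H φ) (fun i => τ (φ i))
    (Module.finrank_fin_fun K) J hJ hn rfl (fun j => rfl) (by rw [hc1, hc0]) ?_ ?_ ?_
  · rw [hc0]
    intro h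
    exact h0 (congrFun h 0)
  · intro h
    have := congrFun h 0
    simp only [Pi.zero_apply] at this
    exact h0 ((map_eq_zero_iff τ τ.toRingHom.injective).mp this)
  · rw [hc0]
    unfold IsJump at hjump1
    rw [himg] at hjump1
    have e : hcol τ H φ 1 = φ := hc1
    rw [e] at hjump1
    exact hjump1



/-- Over an algebraically closed constant field, for a birational projective map `φ = (φ₀, …, φₙ)`, `n ≥
1`, with orders `j₁ < ⋯ < jₙ`, and `τ ≠ 1`, the `τ`-orders of `φ` are `(0, j₁, …, j_{m-1}, j_{m+1},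
…, jₙ)` for some `m`: the jump indices of `[τ(φ) | D^(0) φ | D^(1) φ | ⋯]` after the leading column
are `0` and the `jₗ` with `l ≠ m`. -/
theorem result
    (k K : Type*) [Field k] [IsAlgClosed k] [Field K] [Algebra k K]
    (hK : FunFld.IsFunctionField k K) {n : ℕ} (hn : 0 < n) (φ : Fin (n + 1) → K) (hφ : LinearIndependent k φ)
    (h0 : φ 0 ≠ 0) (hbir : IntermediateField.adjoin k (Set.range fun i => φ i / φ 0) = ⊤)
    (τ : K →ₐ[k] K) (hτ : τ ≠ AlgHom.id k K) (s : K) (H : K →ₐ[k] PowerSeries K) (hH : LocRes.IsHasseFamily s H)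
    (J : Fin n → ℕ) (hJ : FunFld.IsOrders K (FunFld.hcol (AlgHom.id k K) H φ) J) :
    ∃ m : Fin n, ∀ j : ℕ,
      FunFld.IsJump K (FunFld.hcol τ H φ) (j + 1) ↔ (j = 0 ∨ ∃ l, l ≠ m ∧ J l = j) := by
  exact main hn φ h0 hbir τ hτ s H hH J hJ

end Groth.Agent.S12602
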