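import Groth.Statements.S12607
import Mathlib
import Groth.Agent.Lib.Helper10.HasseExp3

set_option autoImplicit false
open FunFld

namespace Groth.Agent.S12607

set_option linter.style.haveILetI false
set_option linter.unusedSectionVars false
set_option linter.unusedVariables false

open Groth.Agent.Lib.helper10 Groth.Agent.Lib.helper10.HasseExp WithZero

theorem linearIndependent_of_val_injective {k K : Type*} [Field k] [Field K] [Algebra k K]
    (P : Place k K) {ι : Type*} [Fintype ι] (z : ι → K) (hz0 : ∀ i, z i ≠ 0)
    (hinj : Function.Injective (fun i => P.1 (z i))) : LinearIndependent k z := by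
  classical
  rw [Fintype.linearIndependent_iff]
  intro g hsum i
  by_contra hgi
  have hv : ∀ i, g i ≠ 0 → P.1 (g i • z i) = P.1 (z i) := by
    intro i hi
    rw [Algebra.smul_def, map_mul, FF.trivOn_of_le_one P.2.1 (g i) hi, one_mul]
  apply FF.sum_ne_zero_of_injOn P.1 Finset.univ (fun i => g i • z i) _ ⟨i, Finset.mem_univ _, ?_⟩ hsum
  · intro i _ j _ hfi hfj heq
    have hgi0 : g i ≠ 0 := by
      intro h; apply hfi; rw [h, zero_smul]
    have hgj0 : g j ≠ 0 := by
      intro h; apply hfj; rw [h, zero_smul]
    rw [hv i hgi0, hv j hgj0] at heq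
    exact hinj heq
  · exact smul_ne_zero hgi (hz0 i)

theorem evalP_eq_one_of {k K : Type*} [Field k] [Field K] [Algebra k K] (P : Place k K) {z : K}
    (hz : P.1 (z - 1) < 1) : evalP P z = 1 := by
  have hz1 : P.1 z ≤ 1 := by
    have e : z = (z - 1) + 1 := by ring
    rw [e]
    exact le_trans (Valuation.map_add _ _ _) (max_le hz.le (by rw [map_one]))
  have e : evalP P z = IsLocalRing.residue P.O ⟨z, hz1⟩ := by
    unfold evalP
    exact dif_pos hz1
  rw [e]
  have h2 : IsLocalRing.residue P.O ((⟨z, hz1⟩ : P.O) - 1) = 0 := by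
    rw [FF.Place.residue_eq_zero_iff]; exact hz
  rw [map_sub, sub_eq_zero, map_one] at h2
  exact h2

theorem main
    (k K : Type*) [Field k] [IsAlgClosed k] [Field K] [Algebra k K]
    (hK : FunFld.IsFunctionField k K) (P : FunFld.Place k K) {n : ℕ} (φ : Fin (n + 1) → K) (hφ : LinearIndependent k φ)
    (heff : (1 : K) ∈ Submodule.span k (Set.range φ)) (hnorm : ∀ i, P.1 (φ i) ≤ 1)
    (t : K) (ht : P.1 t = WithZero.exp (-1))
    (Ht : K →ₐ[k] PowerSeries K) (hHt : LocRes.IsHasseFamily t Ht)
    (J' : Fin n → ℕ) (hJ' : FunFld.IsOrders (IsLocalRing.ResidueField P.O) (FunFld.hcolAt P Ht φ) J') :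
    (∃ φ' : Fin (n + 1) → K,
      Submodule.span k (Set.range φ') = Submodule.span k (Set.range φ) ∧
      P.1 (φ' 0) = 1 ∧ FunFld.evalP P (φ' 0) = 1 ∧
      ∀ l : Fin n, P.1 (φ' l.succ) = WithZero.exp (-(J' l : ℤ)) ∧
        FunFld.evalP P (φ' l.succ / t ^ J' l) = 1) ∧
    ∀ j : ℕ, (j = 0 ∨ j ∈ Set.range J') ↔
      ∃ f ∈ Submodule.span k (Set.range φ), P.1 f = WithZero.exp (-(j : ℤ)) := by
  classical
  obtain ⟨Φ, hΦ, hΦt⟩ := exists_expansion hK P t ht
  have hjump := fun j => isJump_succ_iff hK hΦ hΦt hHt φ hnorm j
  have ht0 : t ≠ 0 := by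
    intro h
    rw [h, map_zero] at ht
    exact exp_ne_zero.symm ht
  constructor
  · -- the adapted basis
    have hex : ∀ l : Fin n, 1 ≤ J' l ∧ ∃ f ∈ Submodule.span k (Set.range φ),
        P.1 f = exp (-(J' l : ℤ)) :=
      fun l => (hjump (J' l)).mp ((hJ'.2 (J' l)).mp ⟨l, rfl⟩)
    choose h1 f hfmem hfv using hex
    have hu : ∀ l, P.1 (f l / t ^ J' l) = 1 := by
      intro l
      rw [map_div₀, map_pow, hfv, ht, ← exp_nsmul, ← exp_sub]
      simp
    have hc : ∀ l, ∃ a : k, P.1 (f l / t ^ J' l - algebraMap k K a) < 1 :=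
      fun l => FF.Place.exists_const_sub_lt hK P (hu l).le
    choose a ha using hc
    have ha0 : ∀ l, a l ≠ 0 := by
      intro l h
      have := ha l
      rw [h, map_zero, sub_zero, hu] at this
      exact lt_irrefl _ this
    refine ⟨Fin.cons 1 (fun l => (a l)⁻¹ • f l), ?_, ?_, ?_, ?_⟩
    · -- span equality by dimension
      have hle : Submodule.span k (Set.range (Fin.cons 1 (fun l => (a l)⁻¹ • f l) : Fin (n + 1) → K))
          ≤ Submodule.span k (Set.range φ) := by
        rw [Submodule.span_le]
        rintro _ ⟨i, rfl⟩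
        refine Fin.cases ?_ (fun l => ?_) i
        · simpa using heff
        · simp only [Fin.cons_succ]
          exact Submodule.smul_mem _ _ (hfmem l)
      have hvals : ∀ i : Fin (n + 1), P.1 ((Fin.cons 1 (fun l => (a l)⁻¹ • f l) : Fin (n + 1) → K) i)
          = Fin.cases (1 : WithZero (Multiplicative ℤ)) (fun l => exp (-(J' l : ℤ))) i := by
        intro i
        refine Fin.cases ?_ (fun l => ?_) i
        · simp
        · simp only [Fin.cons_succ, Fin.cases_succ]
          rw [Algebra.smul_def, map_mul, FF.trivOn_of_le_one P.2.1 _ (inv_ne_zero (ha0 l)), one_mul,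
            hfv]
      have hli : LinearIndependent k (Fin.cons 1 (fun l => (a l)⁻¹ • f l) : Fin (n + 1) → K) := by
        apply linearIndependent_of_val_injective P
        · intro i h
          have := hvals i
          rw [h, map_zero] at this
          revert this
          refine Fin.cases ?_ (fun l => ?_) i
          · simp
          · simp only [Fin.cases_succ]
            exact fun h => exp_ne_zero h.symm
        · intro i j hij
          simp only at hij
          rw [hvals, hvals] at hij
          revert hij
          refine Fin.cases ?_ (fun l => ?_) i <;> refine Fin.cases ?_ (fun l' => ?_) j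
          · intro _; rfl
          · simp only [Fin.cases_zero, Fin.cases_succ]
            intro h
            rw [← exp_zero, exp_inj] at h
            have := h1 l'
            omega
          · simp only [Fin.cases_zero, Fin.cases_succ]
            intro h
            rw [← exp_zero, exp_inj] at h
            have := h1 l
            omega
          · simp only [Fin.cases_succ]
            intro h
            rw [exp_inj] at h
            have : J' l = J' l' := by omega
            rw [hJ'.1.injective this]
      haveI : FiniteDimensional k (Submodule.span k (Set.range φ)) :=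
        FiniteDimensional.span_of_finite k (Set.finite_range φ)
      apply Submodule.eq_of_le_of_finrank_eq hle
      rw [finrank_span_eq_card hli, finrank_span_eq_card hφ]
    · simp
    · simp only [Fin.cons_zero]
      apply evalP_eq_one_of
      simp
    · intro l
      simp only [Fin.cons_succ]
      constructor
      · rw [Algebra.smul_def, map_mul, FF.trivOn_of_le_one P.2.1 _ (inv_ne_zero (ha0 l)), one_mul,
          hfv]
      · apply evalP_eq_one_of
        have e : (a l)⁻¹ • f l / t ^ J' l - 1
            = algebraMap k K (a l)⁻¹ * (f l / t ^ J' l - algebraMap k K (a l)) := by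
          rw [Algebra.smul_def, mul_sub, ← map_mul, inv_mul_cancel₀ (ha0 l), map_one]
          ring
        rw [e, map_mul, FF.trivOn_of_le_one P.2.1 _ (inv_ne_zero (ha0 l)), one_mul]
        exact ha l
  · intro j
    rcases Nat.eq_zero_or_pos j with rfl | hj
    · constructor
      · intro _
        exact ⟨1, heff, by simp⟩
      · intro _; exact Or.inl rfl
    · constructor
      · rintro (h | h)
        · omega
        · exact ((hjump j).mp ((hJ'.2 j).mp h)).2
      · intro h
        exact Or.inr ((hJ'.2 j).mpr ((hjump j).mpr ⟨hj, h⟩))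



/-- Over an algebraically closed constant field, let `φ = (φ₀, …, φₙ)` be an effective projective map
normalized at the place `P`, `t` a local parameter at `P` and `j'₁ < ⋯ < j'ₙ` the orders of `φ` at
`P`, `j'₀ = 0`. Then the span of `φ` has a basis `φ'₀, …, φ'ₙ` with `φ'ₗ = t^(j'ₗ) · (1 + higher
order terms)` at `P`; in particular `j` is one of the `j'ₗ` exactly when some function in the span
of `φ` has order `j` at `P`. -/
theorem result
    (k K : Type*) [Field k] [IsAlgClosed k] [Field K] [Algebra k K]
    (hK : FunFld.IsFunctionField k K) (P : FunFld.Place k K) {n : ℕ} (φ : Fin (n + 1) → K) (hφ : LinearIndependent k φ)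
    (heff : (1 : K) ∈ Submodule.span k (Set.range φ)) (hnorm : ∀ i, P.1 (φ i) ≤ 1)
    (t : K) (ht : P.1 t = WithZero.exp (-1))
    (Ht : K →ₐ[k] PowerSeries K) (hHt : LocRes.IsHasseFamily t Ht)
    (J' : Fin n → ℕ) (hJ' : FunFld.IsOrders (IsLocalRing.ResidueField P.O) (FunFld.hcolAt P Ht φ) J') :
    (∃ φ' : Fin (n + 1) → K,
      Submodule.span k (Set.range φ') = Submodule.span k (Set.range φ) ∧
      P.1 (φ' 0) = 1 ∧ FunFld.evalP P (φ' 0) = 1 ∧
      ∀ l : Fin n, P.1 (φ' l.succ) = WithZero.exp (-(J' l : ℤ)) ∧
        FunFld.evalP P (φ' l.succ / t ^ J' l) = 1) ∧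
    ∀ j : ℕ, (j = 0 ∨ j ∈ Set.range J') ↔
      ∃ f ∈ Submodule.span k (Set.range φ), P.1 f = WithZero.exp (-(j : ℤ)) := by
  exact main k K hK P φ hφ heff hnorm t ht Ht hHt J' hJ'

end Groth.Agent.S12607
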