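import Groth.Statements.S12608
import Mathlib
import Groth.Agent.Lib.Helper10.HasseExp9
import Groth.Agent.S12605
import Groth.Agent.S12601

set_option autoImplicit false
open FunFld

namespace Groth.Agent.S12608

set_option linter.style.haveILetI false
set_option linter.unusedSectionVars false
set_option linter.unusedVariables false

open Groth.Agent.Lib.helper10 Groth.Agent.Lib.helper10.HasseExp WithZero

theorem isFixedPt_id {k K : Type*} [Field k] [Field K] [Algebra k K] (P : FunFld.Place k K) :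
    FunFld.IsFixedPt (AlgHom.id k K) P := fun z hz => hz

theorem sum_sub_nonneg_iff {n : ℕ} (J J' : Fin n → ℕ) (hle : ∀ l, J l ≤ J' l) :
    (∑ l, ((J' l : ℤ) - J l)) = 0 ↔ ∀ l, J' l = J l := by
  constructor
  · intro h l
    have h0 : ∀ i ∈ Finset.univ, (0 : ℤ) ≤ (J' i : ℤ) - J i := by
      intro i _
      have := hle i
      omega
    have := (Finset.sum_eq_zero_iff_of_nonneg h0).mp h l (Finset.mem_univ l)
    omega
  · intro h
    apply Finset.sum_eq_zero
    intro l _
    rw [h l]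
    ring

theorem main
    (k K : Type*) [Field k] [IsAlgClosed k] [Field K] [Algebra k K]
    (hK : FunFld.IsFunctionField k K) (P : FunFld.Place k K) {n : ℕ} (φ : Fin (n + 1) → K) (hφ : LinearIndependent k φ)
    (heff : (1 : K) ∈ Submodule.span k (Set.range φ)) (hnorm : ∀ i, P.1 (φ i) ≤ 1)
    (t : K) (ht : P.1 t = WithZero.exp (-1))
    (Ht : K →ₐ[k] PowerSeries K) (hHt : LocRes.IsHasseFamily t Ht)
    (J : Fin n → ℕ) (hJ : FunFld.IsOrders K (FunFld.hcol (AlgHom.id k K) Ht φ) J)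
    (J' : Fin n → ℕ) (hJ' : FunFld.IsOrders (IsLocalRing.ResidueField P.O) (FunFld.hcolAt P Ht φ) J')
    (Φ : FunFld.Place k K → (K →ₐ[k] LaurentSeries k))
    (hΦ : ∀ P : FunFld.Place k K, LocRes.IsExpansionAt P.1 (Φ P)) :
    (∀ l, J l ≤ J' l) ∧
    ((∀ l, J' l = J l) ↔ FunFld.evalP P (FunFld.wrMat (AlgHom.id k K) Ht φ J).det ≠ 0) ∧
    ((∀ l, J' l = J l) ↔ FunFld.wDiv (AlgHom.id k K) Ht Φ t φ J P = 0) := by
  obtain ⟨φ', A, hA, hφ'A, hli, hclose, hJ'1⟩ :=
    exists_adapted hK P φ hφ heff hnorm t ht Ht hHt J' hJ'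
  have hJ1 : ∀ l, 1 ≤ J l := one_le_of_isOrders_id hHt φ J hJ
  -- Step 1: the Wronskian at `J'` is a unit at `P`, hence nonzero
  have h05' := Groth.Agent.S12605.result k K hK (AlgHom.id k K) P (isFixedPt_id P) φ hφ heff hnorm
    t ht Ht hHt J' hJ' J' hJ'.1
  have hdet' : (FunFld.wrMat (AlgHom.id k K) Ht φ J').det ≠ 0 := by
    have h1 := (h05'.2 (Or.inl fun l => hJ'1 l)).mpr (by
      rw [det_binomMat_self J' hJ'.1]; exact one_ne_zero)
    intro h0
    rw [h0, map_zero] at h1
    exact exp_ne_zero h1.symm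
  have hle : ∀ l, J l ≤ J' l :=
    Groth.Agent.S12601.result k K hK φ hφ (AlgHom.id k K) t Ht hHt J hJ J' hJ'.1 hdet'
  -- Step 2
  have h05 := Groth.Agent.S12605.result k K hK (AlgHom.id k K) P (isFixedPt_id P) φ hφ heff hnorm
    t ht Ht hHt J' hJ' J hJ.1
  set W := (FunFld.wrMat (AlgHom.id k K) Ht φ J).det with hW
  have hφ0 : ∀ i, φ i ≠ 0 := fun i => hφ.ne_zero i
  have hW0 : W ≠ 0 := by
    apply det_wrMat_ne_zero (AlgHom.id k K) Ht φ _ J hJ
    intro h0
    have := congrFun h0 0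
    exact hφ0 0 this
  have hsum0 : (0 : ℤ) ≤ ∑ l, ((J' l : ℤ) - J l) := by
    apply Finset.sum_nonneg
    intro l _
    have := hle l
    omega
  have hWle : P.1 W ≤ 1 := by
    refine le_trans h05.1 ?_
    rw [← exp_zero, exp_le_exp]
    omega
  have hkey : (∀ l, J' l = J l) ↔ P.1 W = 1 := by
    constructor
    · intro h
      have hs : (∑ l, ((J' l : ℤ) - J l)) = 0 := (sum_sub_nonneg_iff J J' hle).mpr h
      have hJJ : J' = J := funext h
      have h1 := (h05.2 (Or.inl fun l => hJ1 l)).mpr (by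
        rw [hJJ, det_binomMat_self J hJ.1]; exact one_ne_zero)
      rw [h1, hs, neg_zero, exp_zero]
    · intro h
      have h1 := h05.1
      rw [h, ← exp_zero, exp_le_exp] at h1
      have hs : (∑ l, ((J' l : ℤ) - J l)) = 0 := by omega
      exact (sum_sub_nonneg_iff J J' hle).mp hs
  refine ⟨hle, ?_, ?_⟩
  · rw [hkey, evalP_ne_zero_iff P hWle]
  · rw [hkey]
    have hunit := exists_unit_of_one_mem P φ heff hnorm
    have hm : mapDiv k φ P = 0 := mapDiv_eq_zero hK P φ hφ0 hnorm hunit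
    have hm' : mapDiv k ((AlgHom.id k K) ∘ φ) P = 0 := by
      have : ((AlgHom.id k K) ∘ φ) = φ := by funext i; rfl
      rw [this]; exact hm
    have hd : divDiff Φ 1 t P = 0 := divDiff_apply_uniformizer Φ hΦ P ht
    have hwd : FunFld.wDiv (AlgHom.id k K) Ht Φ t φ J P = P.ord W := by
      unfold FunFld.wDiv
      rw [Finsupp.add_apply, Finsupp.add_apply, Finsupp.add_apply, Finsupp.smul_apply,
        Finsupp.smul_apply, hm, hm', hd, FF.div_apply hK]
      simp [hW]
    rw [hwd]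
    unfold FunFld.Place.ord
    have hne : P.1 W ≠ 0 := (Valuation.ne_zero_iff _).mpr hW0
    constructor
    · intro h
      rw [h]
      simp
    · intro h
      have h2 : WithZero.log (P.1 W) = 0 := by omega
      rw [← WithZero.exp_log hne, h2, exp_zero]



/-- Over an algebraically closed constant field, let `φ = (φ₀, …, φₙ)` be an effective projective map
normalized at the place `P`, `t` a local parameter at `P`, `j₁, …, jₙ` the orders of `φ` and `j'₁,
…, j'ₙ` the orders of `φ` at `P`. Then `jₗ ≤ j'ₗ` for all `l`, and the following are equivalent: all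
`j'ₗ = jₗ`; the Wronskian `w_t(φ)` does not vanish at `P`; the Weierstrass divisor `W(φ)` has
coefficient `0` at `P` (the divisor of `dt` in it read through a family of Laurent expansions). -/
theorem result
    (k K : Type*) [Field k] [IsAlgClosed k] [Field K] [Algebra k K]
    (hK : FunFld.IsFunctionField k K) (P : FunFld.Place k K) {n : ℕ} (φ : Fin (n + 1) → K) (hφ : LinearIndependent k φ)
    (heff : (1 : K) ∈ Submodule.span k (Set.range φ)) (hnorm : ∀ i, P.1 (φ i) ≤ 1)
    (t : K) (ht : P.1 t = WithZero.exp (-1))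
    (Ht : K →ₐ[k] PowerSeries K) (hHt : LocRes.IsHasseFamily t Ht)
    (J : Fin n → ℕ) (hJ : FunFld.IsOrders K (FunFld.hcol (AlgHom.id k K) Ht φ) J)
    (J' : Fin n → ℕ) (hJ' : FunFld.IsOrders (IsLocalRing.ResidueField P.O) (FunFld.hcolAt P Ht φ) J')
    (Φ : FunFld.Place k K → (K →ₐ[k] LaurentSeries k))
    (hΦ : ∀ P : FunFld.Place k K, LocRes.IsExpansionAt P.1 (Φ P)) :
    (∀ l, J l ≤ J' l) ∧
    ((∀ l, J' l = J l) ↔ FunFld.evalP P (FunFld.wrMat (AlgHom.id k K) Ht φ J).det ≠ 0) ∧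
    ((∀ l, J' l = J l) ↔ FunFld.wDiv (AlgHom.id k K) Ht Φ t φ J P = 0) := by
  exact main k K hK P φ hφ heff hnorm t ht Ht hHt J hJ J' hJ' Φ hΦ

end Groth.Agent.S12608
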