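import Groth.Statements.S12610
import Mathlib
import Groth.Agent.Lib.Helper10.HasseExp17
import Groth.Agent.S12597
import Groth.Agent.S12598
import Groth.Agent.S12602
import Groth.Agent.S12608
import Groth.Agent.S12614
import Groth.Agent.S12615

set_option autoImplicit false
open FunFld

namespace Groth.Agent.S12610

set_option linter.style.haveILetI false
set_option linter.unusedSectionVars false
set_option linter.unusedVariables false

open Groth.Agent.Lib.helper10 Groth.Agent.Lib.helper10.HasseExp WithZero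

/-- Sum of the `τ`-orders versus the sum of the orders, from the description of the jumps. -/
theorem sum_orders_lt {n : ℕ} (J Jid : Fin n → ℕ) (hJ : StrictMono J) (hJid : StrictMono Jid)
    (hpos : ∀ l, 1 ≤ Jid l) (m : Fin n)
    (h : ∀ j : ℕ, j ∈ Set.range J ↔ (j = 0 ∨ ∃ l, l ≠ m ∧ Jid l = j)) :
    ∑ l, J l < ∑ l, Jid l := by
  classical
  have h1 : ∑ l, J l = ∑ x ∈ Finset.univ.image J, x :=
    (Finset.sum_image (f := fun x => x) (fun a _ b _ hab => hJ.injective hab)).symm
  have h2 : ∑ l, Jid l = ∑ x ∈ Finset.univ.image Jid, x :=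
    (Finset.sum_image (f := fun x => x) (fun a _ b _ hab => hJid.injective hab)).symm
  have himg : Finset.univ.image J = insert 0 ((Finset.univ.image Jid).erase (Jid m)) := by
    ext j
    rw [Finset.mem_image, Finset.mem_insert, Finset.mem_erase, Finset.mem_image]
    have := h j
    rw [Set.mem_range] at this
    constructor
    · rintro ⟨l, -, hl⟩
      rcases this.mp ⟨l, hl⟩ with h0 | ⟨l', hl', hl'j⟩
      · exact Or.inl h0
      · right
        refine ⟨?_, l', Finset.mem_univ _, hl'j⟩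
        rw [← hl'j]
        exact fun he => hl' (hJid.injective he)
    · rintro (h0 | ⟨hne, l', -, hl'j⟩)
      · obtain ⟨l, hl⟩ := this.mpr (Or.inl h0)
        exact ⟨l, Finset.mem_univ _, hl⟩
      · obtain ⟨l, hl⟩ := this.mpr (Or.inr ⟨l', by rintro rfl; exact hne hl'j.symm, hl'j⟩)
        exact ⟨l, Finset.mem_univ _, hl⟩
  have h0notin : (0 : ℕ) ∉ (Finset.univ.image Jid).erase (Jid m) := by
    intro hmem
    obtain ⟨l, -, hl⟩ := Finset.mem_image.mp (Finset.mem_of_mem_erase hmem)
    have := hpos l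
    omega
  have hmem : Jid m ∈ Finset.univ.image Jid := Finset.mem_image.mpr ⟨m, Finset.mem_univ _, rfl⟩
  have h3 := Finset.add_sum_erase (Finset.univ.image Jid) (fun x => x) hmem
  rw [h1, h2, himg, Finset.sum_insert h0notin, zero_add, ← h3]
  have := hpos m
  omega

theorem main
    (k K : Type*) [Field k] [IsAlgClosed k] [Field K] [Algebra k K]
    (hK : FunFld.IsFunctionField k K) {n : ℕ} (φ : Fin (n + 1) → K) (hφ : LinearIndependent k φ)
    (h0 : φ 0 ≠ 0) (hbir : IntermediateField.adjoin k (Set.range fun i => φ i / φ 0) = ⊤)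
    (τ : K →ₐ[k] K) (hτ : τ ≠ AlgHom.id k K) (P : FunFld.Place k K) (hP : FunFld.IsFixedPt τ P)
    (s : K) (H : K →ₐ[k] PowerSeries K) (hH : LocRes.IsHasseFamily s H)
    (J : Fin n → ℕ) (hJ : FunFld.IsOrders K (FunFld.hcol τ H φ) J)
    (Φ : FunFld.Place k K → (K →ₐ[k] LaurentSeries k))
    (hΦ : ∀ P : FunFld.Place k K, LocRes.IsExpansionAt P.1 (Φ P)) :
    0 < FunFld.wDiv τ H Φ s φ J P := by
  classical
  -- `n` is positive
  have hn : 0 < n := by
    by_contra hn0
    have hn' : n = 0 := by omega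
    subst hn'
    have hr : (Set.range fun i : Fin 1 => φ i / φ 0) = {1} := by
      ext x
      simp only [Set.mem_range, Set.mem_singleton_iff]
      constructor
      · rintro ⟨i, rfl⟩
        rw [Fin.eq_zero i, div_self h0]
      · rintro rfl
        exact ⟨0, div_self h0⟩
    rw [hr] at hbir
    have h1 : IntermediateField.adjoin k ({1} : Set K) = ⊥ := by
      rw [IntermediateField.adjoin_eq_bot_iff]
      rintro x rfl
      exact (⊥ : IntermediateField k K).one_mem
    rw [h1] at hbir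
    obtain ⟨x₀, hx₀, -⟩ := hK.1
    apply hx₀
    have : x₀ ∈ (⊥ : IntermediateField k K) := by rw [hbir]; trivial
    obtain ⟨c, rfl⟩ := IntermediateField.mem_bot.mp this
    exact isAlgebraic_algebraMap c
  -- a local parameter and its Hasse family
  obtain ⟨π, hπ⟩ := FF.Place.exists_uniformizer P
  obtain ⟨Hπ, hHπ⟩ := exists_isHasseFamily_uniformizer hK hH P hπ
  -- normalize `φ` at `P`
  have hφ0 : ∀ i, φ i ≠ 0 := fun i => hφ.ne_zero i
  obtain ⟨j, hj⟩ := FF.exists_argmax_gen φ P
  set y := (φ j)⁻¹ with hy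
  have hy0 : y ≠ 0 := inv_ne_zero (hφ0 j)
  set φ' : Fin (n + 1) → K := y • φ with hφ'
  have hφ'li : LinearIndependent k φ' := by
    have := hφ.map' (LinearMap.mulLeft k y) (by
      rw [LinearMap.ker_eq_bot]
      intro a b hab
      exact mul_left_cancel₀ hy0 hab)
    exact this
  have hnorm : ∀ i, P.1 (φ' i) ≤ 1 := by
    intro i
    change P.1 (y * φ i) ≤ 1
    rw [hy, map_mul, map_inv₀]
    have hne : P.1 (φ j) ≠ 0 := (Valuation.ne_zero_iff _).mpr (hφ0 j)
    rw [inv_mul_le_iff₀ (zero_lt_iff.mpr hne), mul_one]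
    exact hj i
  have heff : (1 : K) ∈ Submodule.span k (Set.range φ') := by
    apply Submodule.subset_span
    refine ⟨j, ?_⟩
    change y * φ j = 1
    rw [hy, inv_mul_cancel₀ (hφ0 j)]
  -- orders
  have h97 := Groth.Agent.S12597.result k K hK φ hφ τ s H hH y hy0
  have hJ1 : IsOrders K (hcol τ H φ') J := (h97.1 J).mpr hJ
  have h98 := Groth.Agent.S12598.result k K hK φ' hφ'li τ s H hH π Hπ hHπ
  have hJ2 : IsOrders K (hcol τ Hπ φ') J := (h98.1 J).mpr hJ1
  obtain ⟨Jid, hJid, -⟩ := exists_isOrders hK hHπ φ' hφ'li (AlgHom.id k K)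
  obtain ⟨J', hJ'⟩ := exists_isOrdersAt hK P φ' hφ'li heff hnorm π hπ Hπ hHπ
  have h08 := Groth.Agent.S12608.result k K hK P φ' hφ'li heff hnorm π hπ Hπ hHπ Jid hJid J' hJ' Φ hΦ
  have h15 := Groth.Agent.S12615.result k K hK τ P hP φ' hφ'li heff hnorm π hπ Hπ hHπ J hJ2 J' hJ'
    Φ hΦ
  -- birationality of `φ'`
  have h0' : φ' 0 ≠ 0 := mul_ne_zero hy0 h0
  have hbir' : IntermediateField.adjoin k (Set.range fun i => φ' i / φ' 0) = ⊤ := by
    have : (fun i => φ' i / φ' 0) = fun i => φ i / φ 0 := by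
      funext i
      change (y * φ i) / (y * φ 0) = φ i / φ 0
      rw [mul_div_mul_left _ _ hy0]
    rw [this]
    exact hbir
  obtain ⟨m, hm⟩ := Groth.Agent.S12602.result k K hK hn φ' hφ'li h0' hbir' τ hτ π Hπ hHπ Jid hJid
  have hm' : ∀ j : ℕ, j ∈ Set.range J ↔ (j = 0 ∨ ∃ l, l ≠ m ∧ Jid l = j) := by
    intro j
    rw [hJ2.2 j]
    exact hm j
  have hpos : ∀ l, 1 ≤ Jid l := one_le_of_isOrders_id hHπ φ' Jid hJid
  have hlt := sum_orders_lt J Jid hJ2.1 hJid.1 hpos m hm'
  -- the sum is positive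
  have hsum : (0 : ℤ) < ∑ l, ((J' l : ℤ) - J l) := by
    have h1 : ∑ l, ((J' l : ℤ) - J l) = ∑ l, ((J' l : ℤ) - Jid l) + (∑ l, (Jid l : ℤ) - ∑ l, (J l : ℤ)) := by
      simp only [Finset.sum_sub_distrib]
      ring
    rw [h1]
    have h2 : (0 : ℤ) ≤ ∑ l, ((J' l : ℤ) - Jid l) := by
      apply Finset.sum_nonneg
      intro l _
      have := h08.1 l
      omega
    have h3 : (∑ l, (J l : ℤ)) < ∑ l, (Jid l : ℤ) := by exact_mod_cast hlt
    omega
  -- transfer to the original data
  have h14 := Groth.Agent.S12614.result k K hK φ hφ τ s H hH π Hπ hHπ J hJ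
    (1 : Matrix (Fin (n + 1)) (Fin (n + 1)) k) (by rw [Matrix.det_one]; exact one_ne_zero) y hy0 φ'
    (by
      intro i
      change y * φ i = _
      congr 1
      simp [Matrix.one_apply]) Φ hΦ
  rw [← h14]
  exact lt_of_lt_of_le hsum h15.1



/-- Over an algebraically closed constant field, for a birational projective map `φ`, a `k`-endomorphism
`τ ≠ 1` and a place `P` fixed by `τ`, the place `P` is a Weierstrass point of `φ` with respect to
`τ`: the Weierstrass divisor `W(φ, τ) = [w_s(φ, τ)] + [τ(φ)] + n[φ] + j(φ, τ)[ds]` has positive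
coefficient at `P` (the divisor of `ds` read through a family of Laurent expansions). -/
theorem result
    (k K : Type*) [Field k] [IsAlgClosed k] [Field K] [Algebra k K]
    (hK : FunFld.IsFunctionField k K) {n : ℕ} (φ : Fin (n + 1) → K) (hφ : LinearIndependent k φ)
    (h0 : φ 0 ≠ 0) (hbir : IntermediateField.adjoin k (Set.range fun i => φ i / φ 0) = ⊤)
    (τ : K →ₐ[k] K) (hτ : τ ≠ AlgHom.id k K) (P : FunFld.Place k K) (hP : FunFld.IsFixedPt τ P)
    (s : K) (H : K →ₐ[k] PowerSeries K) (hH : LocRes.IsHasseFamily s H)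
    (J : Fin n → ℕ) (hJ : FunFld.IsOrders K (FunFld.hcol τ H φ) J)
    (Φ : FunFld.Place k K → (K →ₐ[k] LaurentSeries k))
    (hΦ : ∀ P : FunFld.Place k K, LocRes.IsExpansionAt P.1 (Φ P)) :
    0 < FunFld.wDiv τ H Φ s φ J P := by
  exact main k K hK φ hφ h0 hbir τ hτ P hP s H hH J hJ Φ hΦ

end Groth.Agent.S12610
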