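import Groth.Statements.S12617
import Mathlib
import Groth.Agent.Lib.Helper10.HasseExp9

set_option autoImplicit false
open FunFld

namespace Groth.Agent.S12617

set_option linter.style.haveILetI false
set_option linter.unusedSectionVars false
set_option linter.unusedVariables false

open Groth.Agent.Lib.helper10 Groth.Agent.Lib.helper10.HasseExp WithZero

/-- The subalgebra `k + m_P^2`. -/
def R2 {k K : Type*} [Field k] [Field K] [Algebra k K] (P : FunFld.Place k K) : Subalgebra k K where
  carrier := {z | ∃ c : k, P.1 (z - algebraMap k K c) ≤ exp (-2 : ℤ)}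
  mul_mem' := by
    rintro a b ⟨c, hc⟩ ⟨d, hd⟩
    refine ⟨c * d, ?_⟩
    have e : a * b - algebraMap k K (c * d) =
        (a - algebraMap k K c) * (b - algebraMap k K d) + algebraMap k K c * (b - algebraMap k K d)
          + (a - algebraMap k K c) * algebraMap k K d := by
      rw [map_mul]; ring
    have h1 : (exp (-2 : ℤ) : WithZero (Multiplicative ℤ)) ≤ 1 := by
      rw [← exp_zero, exp_le_exp]; norm_num
    rw [e]
    refine le_trans (P.1.map_add _ _) (max_le (le_trans (P.1.map_add _ _) (max_le ?_ ?_)) ?_)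
    · rw [map_mul]
      calc _ ≤ exp (-2 : ℤ) * 1 := mul_le_mul' hc (le_trans hd h1)
        _ = _ := mul_one _
    · rw [map_mul]
      calc _ ≤ 1 * exp (-2 : ℤ) := mul_le_mul' (P.2.1 c) hd
        _ = _ := one_mul _
    · rw [map_mul]
      calc _ ≤ exp (-2 : ℤ) * 1 := mul_le_mul' hc (P.2.1 d)
        _ = _ := mul_one _
  add_mem' := by
    rintro a b ⟨c, hc⟩ ⟨d, hd⟩
    refine ⟨c + d, ?_⟩
    have e : a + b - algebraMap k K (c + d) = (a - algebraMap k K c) + (b - algebraMap k K d) := by
      rw [map_add]; ring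
    rw [e]
    exact le_trans (P.1.map_add _ _) (max_le hc hd)
  algebraMap_mem' := by
    intro c
    exact ⟨c, by simp⟩

theorem main
    (k K : Type*) [Field k] [IsAlgClosed k] [Field K] [Algebra k K]
    (hK : FunFld.IsFunctionField k K) (P : FunFld.Place k K) {n : ℕ} (hn : 0 < n) (φ : Fin (n + 1) → K)
    (hφ : LinearIndependent k φ)
    (heff : (1 : K) ∈ Submodule.span k (Set.range φ)) (hnorm : ∀ i, P.1 (φ i) ≤ 1) (hns : FunFld.IsNonsingularAt φ P)
    (t : K) (ht : P.1 t = WithZero.exp (-1))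
    (Ht : K →ₐ[k] PowerSeries K) (hHt : LocRes.IsHasseFamily t Ht)
    (J' : Fin n → ℕ) (hJ' : FunFld.IsOrders (IsLocalRing.ResidueField P.O) (FunFld.hcolAt P Ht φ) J') :
    J' ⟨0, hn⟩ = 1 := by
  classical
  obtain ⟨Φ, hΦ, hΦt⟩ := exists_expansion hK P t ht
  have hjump := fun j => isJump_succ_iff hK hΦ hΦt hHt φ hnorm j
  -- every order is positive
  have hpos : ∀ l, 1 ≤ J' l := by
    intro l
    have := (hJ'.2 (J' l)).mp ⟨l, rfl⟩
    exact ((hjump _).mp this).1
  -- it suffices to find a function of order one in the span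
  suffices hex : ∃ f ∈ Submodule.span k (Set.range φ), P.1 f = exp (-((1 : ℕ) : ℤ)) by
    have h1 : IsJump (IsLocalRing.ResidueField P.O) (hcolAt P Ht φ) (1 + 1) :=
      (hjump 1).mpr ⟨le_rfl, hex⟩
    obtain ⟨l, hl⟩ := (hJ'.2 1).mpr h1
    have h2 : J' ⟨0, hn⟩ ≤ J' l := hJ'.1.monotone (Fin.mk_le_of_le_val (Nat.zero_le _))
    have h3 := hpos ⟨0, hn⟩
    omega
  by_contra hno
  push Not at hno
  -- the local parameter lies in the local ring
  have ht1 : P.1 t ≤ 1 := by
    rw [ht, ← exp_zero, exp_le_exp]; norm_num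
  obtain ⟨j, hj0, hjmax, u, hu, w, hw, hw1, htw⟩ := hns t ht1
  obtain ⟨i₀, hi₀⟩ := exists_unit_of_one_mem P φ heff hnorm
  have hj1 : P.1 (φ j) = 1 := le_antisymm (hnorm j) (le_of_eq_of_le hi₀.symm (hjmax i₀))
  -- all generators lie in `k + m^2`
  have hgen : Set.range (fun i => φ i / φ j) ⊆ (R2 P : Set K) := by
    rintro _ ⟨i, rfl⟩
    have hx1 : P.1 (φ i / φ j) ≤ 1 := by
      rw [map_div₀, hj1, div_one]
      exact hnorm i
    obtain ⟨c, hc⟩ := FF.Place.exists_const_sub_lt hK P hx1
    refine ⟨c, ?_⟩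
    have hmem : φ i - c • φ j ∈ Submodule.span k (Set.range φ) :=
      Submodule.sub_mem _ (Submodule.subset_span ⟨i, rfl⟩)
        (Submodule.smul_mem _ _ (Submodule.subset_span ⟨j, rfl⟩))
    have hval : P.1 (φ i - c • φ j) = P.1 (φ i / φ j - algebraMap k K c) := by
      have e : φ i - c • φ j = (φ i / φ j - algebraMap k K c) * φ j := by
        rw [Algebra.smul_def]
        field_simp
      rw [e, map_mul, hj1, mul_one]
    have h1 := hno _ hmem
    rw [hval] at h1
    have h2 : P.1 (φ i / φ j - algebraMap k K c) ≤ exp (-1 : ℤ) := lt_one_iff_le_exp.mp hc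
    have h3 : P.1 (φ i / φ j - algebraMap k K c) < exp (-1 : ℤ) := lt_of_le_of_ne h2 (by
      simpa using h1)
    have := FF.le_exp_pred_of_lt_exp h3
    convert this using 2
    norm_num
  have hle : Algebra.adjoin k (Set.range fun i => φ i / φ j) ≤ R2 P := Algebra.adjoin_le hgen
  obtain ⟨c, hc⟩ := hle hu
  -- `u = t w` has order one
  have hu1 : P.1 u = exp (-1 : ℤ) := by
    rw [← htw, map_mul, hw1, mul_one, ht]
  -- the constant must vanish
  have hc0 : c = 0 := by
    by_contra hc0
    have h1 : P.1 (algebraMap k K c) = 1 := FF.trivOn_of_le_one P.2.1 c hc0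
    have h2 : P.1 (u - algebraMap k K c) = 1 := by
      rw [sub_eq_add_neg]
      have : P.1 u < P.1 (-algebraMap k K c) := by
        rw [Valuation.map_neg, h1, hu1, ← exp_zero, exp_lt_exp]; norm_num
      rw [Valuation.map_add_eq_of_lt_right _ this, Valuation.map_neg, h1]
    rw [h2, ← exp_zero, exp_le_exp] at hc
    omega
  rw [hc0, map_zero, sub_zero, hu1, exp_le_exp] at hc
  omega



/-- Over an algebraically closed constant field, if the effective projective map `φ = (φ₀, …, φₙ)`, `n ≥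
1`, normalized at `P`, is nonsingular at `P`, then its first order at `P` is `1`. -/
theorem result
    (k K : Type*) [Field k] [IsAlgClosed k] [Field K] [Algebra k K]
    (hK : FunFld.IsFunctionField k K) (P : FunFld.Place k K) {n : ℕ} (hn : 0 < n) (φ : Fin (n + 1) → K)
    (hφ : LinearIndependent k φ)
    (heff : (1 : K) ∈ Submodule.span k (Set.range φ)) (hnorm : ∀ i, P.1 (φ i) ≤ 1) (hns : FunFld.IsNonsingularAt φ P)
    (t : K) (ht : P.1 t = WithZero.exp (-1))
    (Ht : K →ₐ[k] PowerSeries K) (hHt : LocRes.IsHasseFamily t Ht)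
    (J' : Fin n → ℕ) (hJ' : FunFld.IsOrders (IsLocalRing.ResidueField P.O) (FunFld.hcolAt P Ht φ) J') :
    J' ⟨0, hn⟩ = 1 := by
  exact main k K hK P hn φ hφ heff hnorm hns t ht Ht hHt J' hJ'

end Groth.Agent.S12617
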