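import Groth.Statements.S12626
import Mathlib
-- import your own Groth.Agent.* helpers here

set_option autoImplicit false
universe u v
open CAlg

namespace Groth.Agent.S12626


open W4bk4bump814p2 in
theorem delta_pow_mul (K : Type u) (A : Type v) [Field K] (p : ℕ) [Fact p.Prime] [CharP K p]
    [CommRing A] [Algebra K A] (i : ℕ) (x z : A) :
    delta K A p i (x ^ p * z) = (x ^ p ^ (i + 1)) • delta K A p i z := by
  have hp : p.Prime := Fact.out
  have hpA : (p : A) = 0 := by
    have h2 := congrArg (algebraMap K A) (CharP.cast_eq_zero K p)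
    rwa [map_natCast, map_zero] at h2
  have hD : KaehlerDifferential.D K A (x ^ p) = 0 := by
    rw [Derivation.leibniz_pow, ← Nat.cast_smul_eq_nsmul A, hpA, zero_smul]
  have hpos : 1 ≤ p ^ i := Nat.one_le_pow _ _ hp.pos
  unfold delta
  rw [Derivation.leibniz, hD, smul_zero, add_zero, smul_smul, smul_smul]
  congr 1
  rw [mul_pow, ← pow_mul]
  have e : p * (p ^ i - 1) + p = p ^ (i + 1) := by
    rw [pow_succ']
    have : p * (p ^ i - 1) + p = p * (p ^ i - 1 + 1) := by ring
    rw [this, Nat.sub_add_cancel hpos]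
  calc x ^ (p * (p ^ i - 1)) * z ^ (p ^ i - 1) * x ^ p
      = x ^ (p * (p ^ i - 1) + p) * z ^ (p ^ i - 1) := by rw [pow_add]; ring
    _ = x ^ p ^ (i + 1) * z ^ (p ^ i - 1) := by rw [e]

/-- For a perfect field `K` of characteristic `p > 0` and a commutative `K`-algebra `A`, put `δ_i(x) =
x^(p^i - 1) dx` in `Ω_{A/K}` and let the subsets `Σ^i ⊆ Ω_{A/K}` be given by `Σ^0 = {0}` and
`Σ^(i+1) = {δ_i(x) + σ | x ∈ A, σ ∈ Σ^i}`; then `Σ^i` is stable under multiplication by `p^i`-th
powers of elements of `A`: for `x ∈ A` and `ω ∈ Σ^i`, `x^(p^i) ω ∈ Σ^i`. This stability is what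
turns the rule `x · [ω] = [x^(p^i) ω]` into an `A`-module structure on the quotient `Ω_{A/K} / Σ^i`
(the row states the stability; that `x ↦ [δ_i(x)]` is then a derivation is a direct computation and
is not restated). -/
theorem result (K : Type u) (A : Type v) [Field K] [PerfectField K] (p : ℕ) [Fact p.Prime] [CharP K p]
    [CommRing A] [Algebra K A] (i : ℕ) (x : A)
    (ω : Ω[A⁄K]) (hω : ω ∈ W4bk4bump814p2.sigma K A p i) :
    (x ^ (p ^ i)) • ω ∈ W4bk4bump814p2.sigma K A p i := by
  induction i generalizing x ω with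
  | zero =>
    rw [W4bk4bump814p2.sigma_zero, Set.mem_singleton_iff] at hω ⊢
    rw [hω, smul_zero]
  | succ i ih =>
    rw [W4bk4bump814p2.mem_sigma_succ] at hω ⊢
    obtain ⟨z, hz⟩ := hω
    refine ⟨x ^ p * z, ?_⟩
    rw [delta_pow_mul, ← smul_sub]
    have := ih (x ^ p) _ hz
    rwa [← pow_mul, ← pow_succ'] at this

end Groth.Agent.S12626
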