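import Groth.Statements.S12628
import Mathlib
import Groth.Agent.Lib.Helper10.Tate11

set_option autoImplicit false
universe u v w
open FunFld

namespace Groth.Agent.S12628

set_option linter.style.haveILetI false

open Groth.Agent.Lib.helper10 Groth.Agent.Lib.helper10.Tate Groth.Agent.Lib.helper10.FF

theorem resWg_eq_mulWL {k : Type u} {K : Type v} [Field k] [Field K] [Algebra k K]
    (hK : FunFld.IsFunctionField k K)
    (F : FunFld.Place k K → Type w) [∀ P, Field (F P)] [∀ P, Algebra k (F P)] [∀ P, FiniteDimensional k (F P)]
    (φ : ∀ P, K →ₐ[k] LaurentSeries (F P)) (hφ : ∀ P, LocRes.IsExpansionAt P.1 (φ P))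
    (u v : K) : resWg F φ hφ hK u v = mulWL hK (resWg F φ hφ hK 1 v) u := by
  ext a
  rw [mulWL_apply, LinearMap.comp_apply, resWg_apply, resWg_apply]
  refine finsum_congr fun P => ?_
  rw [mulA_coe, Pi.smul_apply, smul_eq_mul, mul_one, mul_comm]

theorem main (k : Type u) (K : Type v) [Field k] [Field K] [Algebra k K]
    (hK : FunFld.IsFunctionField k K) (hg : FunFld.IsGeometric k K)
    (F : FunFld.Place k K → Type w) [∀ P, Field (F P)] [∀ P, Algebra k (F P)] [∀ P, FiniteDimensional k (F P)]
    (φ : ∀ P, K →ₐ[k] LaurentSeries (F P)) (hφ : ∀ P, LocRes.IsExpansionAt P.1 (φ P))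
    (v : K) (hv : KaehlerDifferential.D k K v ≠ 0)
    (ω : Module.Dual k (FunFld.adele k K)) (hω : FunFld.IsWeil ω) :
    ∃! u : K, ∀ a : FunFld.adele k K,
      (Function.support fun P => LocRes.locRes (φ P) ((a : FunFld.Place k K → K) P * u) v).Finite ∧
        ω a = ∑ᶠ P, LocRes.locRes (φ P) ((a : FunFld.Place k K → K) P * u) v := by
  have h0 : resWg F φ hφ hK 1 v ≠ 0 := resWg_ne_zero F φ hφ hK hg one_ne_zero hv
  have hw0 : IsWeil (resWg F φ hφ hK 1 v) := isWeil_resWg F φ hφ hK hg one_ne_zero hv
  obtain ⟨x, hx⟩ := exists_mulWL_eq hK hw0 h0 hω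
  refine ⟨x, fun a => ⟨finite_support_locRes F φ hφ hK a.2 x v, ?_⟩, ?_⟩
  · rw [← hx, ← resWg_eq_mulWL hK F φ hφ x v, resWg_apply]
  · intro y hy
    apply mulWL_injective hK h0
    rw [hx, ← resWg_eq_mulWL hK F φ hφ y v]
    ext a
    rw [(hy a).2, resWg_apply]



/-- Let `K/k` be a geometric function field of one variable all of whose places carry a Laurent
expansion over `k` in a local parameter (valuation-compatible, valuation ring onto a
finite-dimensional coefficient field, normalised — so every place is separable), and let `v ∈ K`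
have `dv ≠ 0`. Then every Weil differential — a `k`-linear form on the repartition space vanishing
on some `A(D) + K` — is of the form `a ↦ ∑_P Res_P(a_P · u dv)` for exactly one `u ∈ K`, the local
residue being the trace to `k` of the `X⁻¹`-coefficient read through the expansion; i.e. the residue
pairing maps the Kähler differentials ONTO the Weil differentials. (The published statement is over
an algebraically closed field, where every place is rational; this row is the form for any constant
field under the stated separability of all places.) -/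
theorem result (k : Type u) (K : Type v) [Field k] [Field K] [Algebra k K]
    (hK : FunFld.IsFunctionField k K) (hg : FunFld.IsGeometric k K)
    (F : FunFld.Place k K → Type w) [∀ P, Field (F P)] [∀ P, Algebra k (F P)] [∀ P, FiniteDimensional k (F P)]
    (φ : ∀ P, K →ₐ[k] LaurentSeries (F P)) (hφ : ∀ P, LocRes.IsExpansionAt P.1 (φ P))
    (v : K) (hv : KaehlerDifferential.D k K v ≠ 0)
    (ω : Module.Dual k (FunFld.adele k K)) (hω : FunFld.IsWeil ω) :
    ∃! u : K, ∀ a : FunFld.adele k K,
      (Function.support fun P => LocRes.locRes (φ P) ((a : FunFld.Place k K → K) P * u) v).Finite ∧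
        ω a = ∑ᶠ P, LocRes.locRes (φ P) ((a : FunFld.Place k K → K) P * u) v := by
  exact main k K hK hg F φ hφ v hv ω hω

end Groth.Agent.S12628
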