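import Groth.Statements.S1263
import Groth.Agent.Lib.Helper26.RGAlg2
import Groth.Agent.Lib.Helper26.DevMain7
import Groth.Agent.S1252

set_option linter.style.haveILetI false

set_option autoImplicit false
universe u
open FlatMor

namespace Groth.Agent.S1263

/-- Ring form, X = Spec S and S = Spec R affine: let S be a finite type R-algebra and q a prime of S
over p with S_q flat over R. Then there is an étale R-algebra R' with a prime p' over p having the
same residue field such that, writing A for the local ring of R' at p' and S_A for the base change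
(any model): some g ∈ S_A outside every prime over both q and the maximal ideal of A has (S_A)_g
flat and of finite presentation over A. -/
theorem result {R S : Type u} [CommRing R] [CommRing S] [Algebra R S] [Algebra.FiniteType R S]
    (p : Ideal R) [p.IsPrime] (q : Ideal S) [q.IsPrime] [q.LiesOver p] (hflat : Module.Flat R (Localization.AtPrime q)) :
    ∃ (R' : Type u) (_ : CommRing R') (_ : Algebra R R') (p' : Ideal R') (_ : p'.IsPrime), FlatCA.IsEtaleNhd R R' p p' ∧
      ∀ (SA : Type u) [CommRing SA] [Algebra R SA] [Algebra S SA] [Algebra (Localization.AtPrime p') SA]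
        [IsScalarTower R S SA] [IsScalarTower R (Localization.AtPrime p') SA]
        [Algebra.IsPushout R S (Localization.AtPrime p') SA],
        ∃ g : SA, (∀ (Q : Ideal SA) [Q.IsPrime], Q.LiesOver q → Q.LiesOver (IsLocalRing.maximalIdeal (Localization.AtPrime p')) → g ∉ Q) ∧
          Module.Flat (Localization.AtPrime p') (Localization.Away g) ∧
          Algebra.FinitePresentation (Localization.AtPrime p') (Localization.Away g) := by
  have hflatAt : FlatCA.FlatAt R q S := by
    unfold FlatCA.FlatAt
    exact Module.Flat.of_linearEquiv ((IsLocalizedModule.iso q.primeCompl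
      (Algebra.linearMap S (Localization.AtPrime q))).restrictScalars R)
  by_cases hsupp : ∃ x ∈ Module.support (p.Fiber S) (FlatCA.fiberMod p S S),
      x.asIdeal = FlatCA.fiberIdeal p q
  · obtain ⟨R', S', _, _, algRR', algSS', algR'S', algRS', twRR'S', twRSS', p', q', hp', hq', hEtR,
      hEtS, hq'p', hall⟩ := Groth.Agent.S1252.result S p q hsupp
    refine ⟨R', inferInstance, algRR', p', hp', hEtR, ?_⟩
    intro SA _ _ _ _ _ _ _
    haveI : Algebra.Etale R R' := hEtR.1
    haveI : Algebra.Etale S S' := hEtS.1
    haveI hq'q : q'.LiesOver q := hEtS.2.1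
    have hK' := hall S' (Algebra.linearMap S S') (IsBaseChange.linearMap S S')
    haveI : Algebra.FiniteType R' S' := by
      haveI : Algebra.FiniteType S S' := inferInstance
      haveI : Algebra.FiniteType R S' := Algebra.FiniteType.trans (S := S) inferInstance inferInstance
      exact Algebra.FiniteType.of_restrictScalars_finiteType R R' S'
    have hfl' : FlatCA.FlatAt R' q' S' :=
      (Groth.Agent.Lib.helper3.ElemDev.chain₁ (R := R) (R' := R') (Algebra.linearMap S S')
        (IsBaseChange.linearMap S S') (LinearEquiv.refl S' S') q q').mp hflatAt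
    obtain ⟨C, _, algSAC, algAC, twASAC, hEtC, hfpC, hflC, g, hg1, hg2⟩ :=
      Groth.Agent.Lib.helper26.RGAlg.exists_open_data_alg p q p' q' hEtR hEtS
        (fun C _ _ _ _ _ _ _ => by
          obtain ⟨h1, h2⟩ := Groth.Agent.Lib.helper26.RGAlg.core_alg_of_devissage p' q' hfl' hK' C
          haveI := h2
          exact ⟨h1, inferInstance⟩) SA
    haveI := hEtC
    haveI := hfpC
    haveI := hflC
    obtain ⟨h1, h2⟩ := Groth.Agent.Lib.helper26.RGAlg.flat_fp_away_of_cover
      (A := Localization.AtPrime p') (B := SA) (C := C) g hg2
    exact ⟨g, hg1, h1, h2⟩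
  · exfalso
    obtain ⟨g, hgann, hgq⟩ := Groth.Agent.Lib.helper26.DevMain.exists_annihilator_notMem p S q hsupp
    apply hgq
    have h0 : g = 0 := by
      have := Module.mem_annihilator.mp hgann (1 : S)
      rwa [smul_eq_mul, mul_one] at this
    rw [h0]
    exact Ideal.zero_mem q

end Groth.Agent.S1263
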