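import Groth.Statements.S12631
import Mathlib
import Groth.Agent.Lib.Helper10.Tate11

set_option autoImplicit false
universe u v w
open FunFld

namespace Groth.Agent.S12631

set_option linter.style.haveILetI false

open Groth.Agent.Lib.helper10 Groth.Agent.Lib.helper10.Tate Groth.Agent.Lib.helper10.FF

theorem main (k : Type u) (K : Type v) [Field k] [Field K] [Algebra k K]
    (hK : FunFld.IsFunctionField k K) (hg : FunFld.IsGeometric k K) (h1 : FunFld.genus k K = 1)
    (F : FunFld.Place k K → Type w) [∀ P, Field (F P)] [∀ P, Algebra k (F P)] [∀ P, FiniteDimensional k (F P)]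
    (φ : ∀ P, K →ₐ[k] LaurentSeries (F P)) (hφ : ∀ P, LocRes.IsExpansionAt P.1 (φ P))
    (v : K) (hv : KaehlerDifferential.D k K v ≠ 0) :
    (∃ u : K, u ≠ 0 ∧ ∀ P, LocRes.vDiff (φ P) u v = 1) ∧
      ∀ u u' : K, u ≠ 0 → (∀ P, LocRes.vDiff (φ P) u v = 1) → (∀ P, LocRes.vDiff (φ P) u' v = 1) →
        ∃ c : k, u' = c • u := by
  obtain ⟨W, hWc, -, hW⟩ := exists_canonical_ordDiff F φ hφ hK hg hv
  obtain ⟨hell, hdeg⟩ := ell_canonical hK hWc
  rw [h1] at hell hdeg
  have hdeg0 : W.deg = 0 := by rw [hdeg]; norm_num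
  have hmemL : ∀ y : K, (∀ P, LocRes.vDiff (φ P) y v = 1) → y ∈ L W := by
    intro y hy
    have := (vDiff_le_iff_mem_L F φ hW 0 y).1 (fun P => by
      rw [hy P, Finsupp.zero_apply, neg_zero, WithZero.exp_zero])
    rwa [sub_zero] at this
  have hfr : Module.finrank k (L W) = 1 := hell
  constructor
  · haveI : FiniteDimensional k (L W) := Module.finite_of_finrank_eq_succ hfr
    obtain ⟨⟨u, huL⟩, hu0⟩ : ∃ x : L W, x ≠ 0 := by
      by_contra hcon
      push Not at hcon
      have : Module.finrank k (L W) = 0 := by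
        rw [Module.finrank_zero_iff]
        exact ⟨fun a b => by rw [hcon a, hcon b]⟩
      omega
    have hu : u ≠ 0 := fun h => hu0 (Subtype.ext h)
    refine ⟨u, hu, fun P => ?_⟩
    have h2 := (mem_L_iff_div hK hu W).1 huL
    have h3 : W + FunFld.div k u = 0 :=
      eq_zero_of_nonneg_of_deg_eq_zero hK h2 (by rw [deg_add, hdeg0, deg_div hK, add_zero])
    have h4 := DFunLike.congr_fun h3 P
    rw [Finsupp.add_apply, div_apply hK, Finsupp.zero_apply] at h4
    rw [hW u P, Place.val_eq_exp_neg_ord P hu, ← WithZero.exp_add, ← WithZero.exp_zero]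
    congr 1
    omega
  · intro u u' hu hu1 hu'1
    have huL := hmemL u hu1
    have hu'L := hmemL u' hu'1
    have hne : (⟨u, huL⟩ : L W) ≠ 0 := fun h => hu (congrArg Subtype.val h)
    obtain ⟨c, hc⟩ := (finrank_eq_one_iff_of_nonzero' (⟨u, huL⟩ : L W) hne).1 hfr ⟨u', hu'L⟩
    exact ⟨c, (congrArg Subtype.val hc).symm⟩



/-- Let `K/k` be a geometric function field of one variable of genus one all of whose places carry a
Laurent expansion over `k` in a local parameter (so every place is separable), and `v ∈ K` with `dv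
≠ 0`. Then there is a nonzero `u ∈ K` whose differential `u dv` has divisor zero — the order of
`φ_P(u) · (φ_P v)′` is `0` at every place `P` — and such a `u` is unique up to a factor from `k`.
(The published statement concerns elliptic curves over algebraically closed fields; this row is the
form for any constant field under the stated separability of all places.) -/
theorem result (k : Type u) (K : Type v) [Field k] [Field K] [Algebra k K]
    (hK : FunFld.IsFunctionField k K) (hg : FunFld.IsGeometric k K) (h1 : FunFld.genus k K = 1)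
    (F : FunFld.Place k K → Type w) [∀ P, Field (F P)] [∀ P, Algebra k (F P)] [∀ P, FiniteDimensional k (F P)]
    (φ : ∀ P, K →ₐ[k] LaurentSeries (F P)) (hφ : ∀ P, LocRes.IsExpansionAt P.1 (φ P))
    (v : K) (hv : KaehlerDifferential.D k K v ≠ 0) :
    (∃ u : K, u ≠ 0 ∧ ∀ P, LocRes.vDiff (φ P) u v = 1) ∧
      ∀ u u' : K, u ≠ 0 → (∀ P, LocRes.vDiff (φ P) u v = 1) → (∀ P, LocRes.vDiff (φ P) u' v = 1) →
        ∃ c : k, u' = c • u := by
  exact main k K hK hg h1 F φ hφ v hv

end Groth.Agent.S12631
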