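import Groth.Statements.S1265
import Mathlib
import Groth.Agent.S4852

set_option autoImplicit false
universe u
open FlatMor

namespace Groth.Agent.S1265

open TensorProduct Function
section
variable (A : Type u) [CommRing A] [IsArtinianRing A] (N : Type u) [AddCommGroup N] [Module A N]

/-- the set of ideals over which `N` becomes flat -/
def flatSet : Set (Ideal A) := {R | Module.Flat (A ⧸ R) ((A ⧸ R) ⊗[A] N)}

theorem sInf_mem_flatSet : sInf (flatSet A N) ∈ flatSet A N := by
  show Module.Flat (A ⧸ sInf (flatSet A N)) ((A ⧸ sInf (flatSet A N)) ⊗[A] N)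
  letI : ∀ i : ↥(flatSet A N), Algebra (A ⧸ sInf (flatSet A N)) (A ⧸ i.1) :=
    fun i => (Ideal.Quotient.factor (sInf_le i.2)).toAlgebra
  haveI : ∀ i : ↥(flatSet A N), IsScalarTower A (A ⧸ sInf (flatSet A N)) (A ⧸ i.1) :=
    fun i => IsScalarTower.of_algebraMap_eq (fun x => rfl)
  have hnil : IsNilpotent (Ring.jacobson (A ⧸ sInf (flatSet A N))) := IsSemiprimaryRing.isNilpotent
  refine (Groth.Agent.S4852.result (A := A ⧸ sInf (flatSet A N)) hnil
    (ι := ↥(flatSet A N)) (fun i => A ⧸ i.1) ?_ ((A ⧸ sInf (flatSet A N)) ⊗[A] N)).mpr ?_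
  · intro a ha
    obtain ⟨x, rfl⟩ := Ideal.Quotient.mk_surjective a
    rw [Ideal.Quotient.eq_zero_iff_mem, Submodule.mem_sInf]
    intro R hR
    have := ha ⟨R, hR⟩
    rwa [← Ideal.Quotient.eq_zero_iff_mem]
  · intro i
    haveI : Module.Flat (A ⧸ i.1) ((A ⧸ i.1) ⊗[A] N) := i.2
    exact Module.Flat.of_linearEquiv
      (AlgebraTensorModule.cancelBaseChange A (A ⧸ sInf (flatSet A N)) (A ⧸ i.1) (A ⧸ i.1) N)


theorem ker_mem_flatSet (A' : Type u) [CommRing A'] [Algebra A A']
    [Module.Flat A' (A' ⊗[A] N)] : RingHom.ker (algebraMap A A') ∈ flatSet A N := by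
  show Module.Flat (A ⧸ RingHom.ker (algebraMap A A')) ((A ⧸ RingHom.ker (algebraMap A A')) ⊗[A] N)
  letI : Algebra (A ⧸ RingHom.ker (algebraMap A A')) A' :=
    (Ideal.Quotient.lift (RingHom.ker (algebraMap A A')) (algebraMap A A') (fun a ha => ha)).toAlgebra
  haveI : IsScalarTower A (A ⧸ RingHom.ker (algebraMap A A')) A' :=
    IsScalarTower.of_algebraMap_eq (fun x => rfl)
  have hnil : IsNilpotent (Ring.jacobson (A ⧸ RingHom.ker (algebraMap A A'))) :=
    IsSemiprimaryRing.isNilpotent
  refine (Groth.Agent.S4852.result (A := A ⧸ RingHom.ker (algebraMap A A')) hnil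
    (ι := PUnit.{u+1}) (fun _ => A') ?_ ((A ⧸ RingHom.ker (algebraMap A A')) ⊗[A] N)).mpr ?_
  · intro a ha
    obtain ⟨x, rfl⟩ := Ideal.Quotient.mk_surjective a
    rw [Ideal.Quotient.eq_zero_iff_mem, RingHom.mem_ker]
    exact ha PUnit.unit
  · intro _
    exact Module.Flat.of_linearEquiv
      (AlgebraTensorModule.cancelBaseChange A (A ⧸ RingHom.ker (algebraMap A A')) A' A' N)

theorem flat_of_map_eq_bot (A' : Type u) [CommRing A'] [Algebra A A']
    (h : (sInf (flatSet A N)).map (algebraMap A A') = ⊥) : Module.Flat A' (A' ⊗[A] N) := by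
  have hle : sInf (flatSet A N) ≤ RingHom.ker (algebraMap A A') := (Ideal.map_eq_bot_iff_le_ker _).mp h
  letI : Algebra (A ⧸ sInf (flatSet A N)) A' :=
    (Ideal.Quotient.lift (sInf (flatSet A N)) (algebraMap A A') (fun a ha => hle ha)).toAlgebra
  haveI : IsScalarTower A (A ⧸ sInf (flatSet A N)) A' :=
    IsScalarTower.of_algebraMap_eq (fun x => rfl)
  haveI : Module.Flat (A ⧸ sInf (flatSet A N)) ((A ⧸ sInf (flatSet A N)) ⊗[A] N) :=
    sInf_mem_flatSet A N
  exact Module.Flat.of_linearEquiv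
    (AlgebraTensorModule.cancelBaseChange A (A ⧸ sInf (flatSet A N)) A' A' N).symm

theorem core (A' : Type u) [CommRing A'] [Algebra A A'] :
    Module.Flat A' (A' ⊗[A] N) ↔ (sInf (flatSet A N)).map (algebraMap A A') = ⊥ := by
  constructor
  · intro h
    rw [Ideal.map_eq_bot_iff_le_ker]
    exact sInf_le (ker_mem_flatSet A N A')
  · exact flat_of_map_eq_bot A N A'

end




/-- Ring form, stated for X = Spec B affine: let A be an Artinian ring, B an A-algebra and N a B-module.
Then there is an ideal I of A such that for every A-algebra A', with B' = B ⊗_A A' and N' the base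
change of N (any models), N' is flat over A' if and only if IA' = 0. -/
theorem result {A B : Type u} [CommRing A] [IsArtinianRing A] [CommRing B] [Algebra A B]
    (N : Type u) [AddCommGroup N] [Module B N] [Module A N] [IsScalarTower A B N] :
    ∃ I : Ideal A, ∀ (A' B' N' : Type u) [CommRing A'] [CommRing B'] [Algebra A A'] [Algebra B B'] [Algebra A' B'] [Algebra A B']
      [IsScalarTower A B B'] [IsScalarTower A A' B'] [Algebra.IsPushout A B A' B']
      [AddCommGroup N'] [Module B' N'] [Module B N'] [IsScalarTower B B' N'] [Module A' N'] [IsScalarTower A' B' N']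
      (f : N →ₗ[B] N'), IsBaseChange B' f →
      (Module.Flat A' N' ↔ I.map (algebraMap A A') = ⊥) := by
  refine ⟨sInf (flatSet A N), ?_⟩
  intro A' B' N' _ _ _ _ _ _ _ _ _ _ _ _ _ _ _ f hbc
  haveI : Algebra.IsPushout A A' B B' := Algebra.IsPushout.symm inferInstance
  let e1 : B' ⊗[B] N ≃ₗ[A'] N' := hbc.equiv.restrictScalars A'
  let e2 : B' ⊗[B] N ≃ₗ[A'] A' ⊗[A] N := Algebra.IsPushout.cancelBaseChange A A' B B' N
  rw [← core A N A']
  constructor
  · intro h
    exact Module.Flat.of_linearEquiv (e2.symm ≪≫ₗ e1)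
  · intro h
    exact Module.Flat.of_linearEquiv (e1.symm ≪≫ₗ e2)

end Groth.Agent.S1265
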