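import Groth.Statements.S1266
import Groth.Agent.Lib.Helper26.RGContent10

set_option linter.style.haveILetI false

set_option autoImplicit false
universe u
open FlatMor

namespace Groth.Agent.S1266

open TensorProduct in
/-- Let B be a finitely presented A-algebra, T a multiplicative subset of B, and N a finitely presented
module over the localization T⁻¹B which is flat as an A-module. Let M be a flat A-module and u an
A-linear map from N to M such that u ⊗ κ(p) is injective for every prime p of A. Then u is
universally injective over A. -/
theorem result {A B : Type u} [CommRing A] [CommRing B] [Algebra A B] [Algebra.FinitePresentation A B]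
    (T : Submonoid B) (N : Type u) [AddCommGroup N] [Module (Localization T) N] [Module A N] [IsScalarTower A (Localization T) N]
    [Module.FinitePresentation (Localization T) N] [Module.Flat A N]
    (M : Type u) [AddCommGroup M] [Module A M] [Module.Flat A M] (u : N →ₗ[A] M)
    (h : ∀ (p : Ideal A) [p.IsPrime], Function.Injective (u.lTensor p.ResidueField)) :
    FlatCA.UnivInj A u := by
  classical
  letI : Module B N := Module.compHom N (algebraMap B (Localization T))
  have hsmul : ∀ (b : B) (n : N), b • n = algebraMap B (Localization T) b • n := fun _ _ => rfl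
  haveI : IsScalarTower B (Localization T) N :=
    IsScalarTower.of_algebraMap_smul fun b n => (hsmul b n).symm
  haveI : IsScalarTower A B N := IsScalarTower.of_algebraMap_smul fun a n => by
    rw [hsmul, ← IsScalarTower.algebraMap_apply, algebraMap_smul]
  haveI : Module.Finite (Localization T) N := inferInstance
  obtain ⟨s, hs⟩ := (Module.finite_def.mp (inferInstance : Module.Finite (Localization T) N))
  let N₁ : Submodule B N := Submodule.span B (s : Set N)
  haveI : Module.Finite B N₁ := Module.Finite.span_of_finite B (Finset.finite_toSet s)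
  haveI : IsLocalizedModule T N₁.subtype := by
    refine ⟨?_, ?_, ?_⟩
    · intro t
      have hu : IsUnit (algebraMap B (Localization T) t) := IsLocalization.map_units _ t
      rw [Module.End.isUnit_iff]
      constructor
      · intro n n' hnn
        have h1 : algebraMap B (Localization T) t • n = algebraMap B (Localization T) t • n' := hnn
        exact (IsUnit.smul_left_cancel hu).mp h1
      · intro n
        obtain ⟨v, hv⟩ := hu
        refine ⟨(↑v⁻¹ : Localization T) • n, ?_⟩
        show algebraMap B (Localization T) t • ((↑v⁻¹ : Localization T) • n) = n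
        rw [← hv, smul_smul, Units.mul_inv, one_smul]
    · intro y
      have hy : y ∈ Submodule.span (Localization T) (s : Set N) := hs ▸ Submodule.mem_top
      induction hy using Submodule.span_induction with
      | mem x hx => exact ⟨(⟨x, Submodule.subset_span hx⟩, 1), one_smul _ _⟩
      | zero => exact ⟨(0, 1), by simp⟩
      | add x y _ _ hx hy =>
        obtain ⟨⟨n₁, t₁⟩, h₁⟩ := hx
        obtain ⟨⟨n₂, t₂⟩, h₂⟩ := hy
        have h₁' : (t₁ : B) • x = (n₁ : N) := h₁
        have h₂' : (t₂ : B) • y = (n₂ : N) := h₂
        refine ⟨((t₂ : B) • n₁ + (t₁ : B) • n₂, t₁ * t₂), ?_⟩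
        show ((t₁ * t₂ : T) : B) • (x + y) = (((t₂ : B) • n₁ + (t₁ : B) • n₂ : N₁) : N)
        rw [Submodule.coe_add, Submodule.coe_smul, Submodule.coe_smul, ← h₁', ← h₂',
          Submonoid.coe_mul, smul_add, mul_smul, mul_smul, smul_comm (t₁ : B) (t₂ : B) x]
      | smul l x _ hx =>
        obtain ⟨⟨n₁, t₁⟩, h₁⟩ := hx
        have h₁' : (t₁ : B) • x = (n₁ : N) := h₁
        obtain ⟨b, t₀, rfl⟩ := IsLocalization.exists_mk'_eq T l
        refine ⟨(b • n₁, t₀ * t₁), ?_⟩
        show ((t₀ * t₁ : T) : B) • (IsLocalization.mk' (Localization T) b t₀ • x) =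
          ((b • n₁ : N₁) : N)
        rw [Submodule.coe_smul, ← h₁', Submonoid.coe_mul, mul_smul, hsmul (t₀ : B), hsmul (t₁ : B),
          hsmul b, smul_comm (algebraMap B (Localization T) (t₁ : B)), smul_smul,
          IsLocalization.mk'_spec', hsmul (t₁ : B) x, smul_comm]
    · intro x₁ x₂ hx
      exact ⟨1, by rw [Subtype.ext hx]⟩
  exact Groth.Agent.Lib.helper26.RGContent.univInj_main T N₁.subtype u h

end Groth.Agent.S1266
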