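import Groth.Statements.S1268
import Groth.Agent.Lib.Helper26.PureProj11
import Groth.Agent.Lib.Helper26.PureProj12
import Groth.Agent.Lib.Helper26.FibCov10
import Groth.Agent.Lib.Helper26.RGFlat5
import Groth.Agent.Lib.Helper26.DevMain2
import Groth.Agent.Lib.Helper26.GeomIrrNbhd9
import Groth.Agent.Lib.Helper3.BijRes4
import Groth.Agent.Lib.Helper3.Shrink3
import Groth.Agent.S1202

set_option linter.style.haveILetI false
set_option maxHeartbeats 3200000

set_option autoImplicit false
universe u
open FlatMor

namespace Groth.Agent.S1268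

open AlgebraicGeometry CategoryTheory TensorProduct in
/-- Ring form, X = Spec S and S = Spec R affine: let S be a finitely presented R-algebra, N a finitely
presented S-module and q a prime of S over p with N_q flat over R. Then there is an étale R-algebra
R' with a prime p' over p having the same residue field such that, for the base changes S', N' of S,
N to R' (any models), there is an S'-algebra C with Spec C → Spec S' an open immersion (an affine
open U' of X ×_S S'), containing a point lying over both q and p' (there is exactly one such point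
of X ×_S S'), such that C ⊗_{S'} N' (the sections of the pulled-back module over U') is a projective
R'-module. -/
theorem result {R S : Type u} [CommRing R] [CommRing S] [Algebra R S] [Algebra.FinitePresentation R S]
    (N : Type u) [AddCommGroup N] [Module S N] [Module R N] [IsScalarTower R S N] [Module.FinitePresentation S N]
    (p : Ideal R) [p.IsPrime] (q : Ideal S) [q.IsPrime] [q.LiesOver p] (hflat : FlatCA.FlatAt R q N) :
    ∃ (R' : Type u) (_ : CommRing R') (_ : Algebra R R') (p' : Ideal R') (_ : p'.IsPrime), FlatCA.IsEtaleNhd R R' p p' ∧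
      ∀ (S' N' : Type u) [CommRing S'] [Algebra R S'] [Algebra S S'] [Algebra R' S'] [IsScalarTower R S S'] [IsScalarTower R R' S']
        [Algebra.IsPushout R S R' S']
        [AddCommGroup N'] [Module S' N'] [Module S N'] [IsScalarTower S S' N']
        (f : N →ₗ[S] N'), IsBaseChange S' f →
        ∃ (C : Type u) (_ : CommRing C) (_ : Algebra S' C) (_ : Algebra R' C) (_ : IsScalarTower R' S' C)
          (x' : Ideal C) (_ : x'.IsPrime),
          IsOpenImmersion (Spec.map (CommRingCat.ofHom (algebraMap S' C))) ∧
          (x'.comap (algebraMap S' C)).LiesOver q ∧ (x'.comap (algebraMap S' C)).LiesOver p' ∧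
          Module.Projective R' (RestrictScalars R' C (C ⊗[S'] N')) := by
  classical
  obtain ⟨R', W, _, _, _, _, _, _, tw1, tw2, p', q'', _, _, hEtR, hEtW, hq''p', hproj⟩ :=
    Groth.Agent.S1202.result N p q hflat
  obtain ⟨etR', hp'p, hκ⟩ := id hEtR
  obtain ⟨etW, hq''q, -⟩ := id hEtW
  haveI := etR'
  haveI := hp'p
  haveI := etW
  haveI := hq''q
  haveI := hq''p'
  -- the pushout over `R'`
  obtain ⟨SA, _, algRSA, algSSA, algR'SA, tw3, tw4, hpo⟩ :=
    Groth.Agent.Lib.helper26.RGFlat.exists_pushout_model R S R'
  haveI := hpo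
  haveI hpos : Algebra.IsPushout R R' S SA := Algebra.IsPushout.symm hpo
  haveI : Algebra.Etale S SA := Algebra.Etale.of_equiv (Algebra.IsPushout.equiv R S R' SA)
  haveI : Algebra.FinitePresentation R' SA :=
    Algebra.FinitePresentation.equiv (Algebra.IsPushout.equiv R R' S SA)
  -- `W` as an `SA`-algebra
  let f₀ : S →ₐ[R] W := IsScalarTower.toAlgHom R S W
  let g₀ : R' →ₐ[R] W := IsScalarTower.toAlgHom R R' W
  have hcomm : ∀ x y, f₀ x * g₀ y = g₀ y * f₀ x := fun _ _ => mul_comm _ _
  let ψ : SA →ₐ[R] W := Algebra.pushoutDesc SA f₀ g₀ hcomm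
  letI algSAW : Algebra SA W := ψ.toRingHom.toAlgebra
  haveI twSSAW : IsScalarTower S SA W := by
    refine IsScalarTower.of_algebraMap_eq (R := S) (S := SA) (A := W) fun b => ?_
    exact (Algebra.pushoutDesc_left SA f₀ g₀ hcomm b).symm
  haveI twR'SAW : IsScalarTower R' SA W := by
    refine IsScalarTower.of_algebraMap_eq (R := R') (S := SA) (A := W) fun b => ?_
    exact (Algebra.pushoutDesc_right SA f₀ g₀ hcomm b).symm
  haveI : Algebra.Etale SA W := Algebra.Etale.of_restrictScalars (R := S) (A := SA) (B := W)
  -- projectivity of the cover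
  haveI : Module.Projective R' (W ⊗[S] N) :=
    Module.Projective.of_equiv
      (Groth.Agent.Lib.helper26.FibCov.restrictScalarsEquiv R' W (W ⊗[S] N)).symm
  haveI : Module.Projective R' (W ⊗[SA] (SA ⊗[S] N)) :=
    Module.Projective.of_equiv
      ((AlgebraTensorModule.cancelBaseChange S SA W W N).symm.restrictScalars R')
  -- the point
  haveI hQprime : (q''.comap (algebraMap SA W)).IsPrime := Ideal.comap_isPrime _ _
  obtain ⟨h, hhQ, hcov, hreg⟩ := Groth.Agent.Lib.helper26.PureProj.exists_avoiding
    (R := R') (S := SA) (W := W) (SA ⊗[S] N) p' (q''.comap (algebraMap SA W))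
    ⟨q'', inferInstance, rfl⟩
  haveI : Algebra.FinitePresentation R' W := Algebra.FinitePresentation.trans R' SA W
  obtain ⟨f, hf, hfQ⟩ := Groth.Agent.Lib.helper26.PureProj.exists_away_isSMulRegular_tensor
    (R := R') (S := W) (W ⊗[SA] (SA ⊗[S] N)) p' (algebraMap SA W h) hreg
  -- the neighbourhood
  have hprime : (p'.map (algebraMap R' (Localization.Away f))).IsPrime :=
    Groth.Agent.Lib.helper3.Shrink.isPrime_map_away f (Localization.Away f) p' hf
  haveI := hprime
  haveI hlo : (p'.map (algebraMap R' (Localization.Away f))).LiesOver p' :=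
    ⟨(Groth.Agent.Lib.helper3.Shrink.under_map_away f (Localization.Away f) p' hf).symm⟩
  have hEt₂ : FlatCA.IsEtaleNhd R' (Localization.Away f) p'
      (p'.map (algebraMap R' (Localization.Away f))) :=
    ⟨Algebra.Etale.of_isLocalizationAway f, hlo,
      Groth.Agent.Lib.helper26.GeomIrr.bijective_mapₐ_away f (Localization.Away f) p' _⟩
  have hEt₁ := Groth.Agent.Lib.helper26.DevMain.isEtaleNhd_trans p p' _ hEtR hEt₂
  refine ⟨Localization.Away f, inferInstance, inferInstance,
    p'.map (algebraMap R' (Localization.Away f)), hprime, hEt₁, ?_⟩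
  obtain ⟨-, hlo₁, hκ₁⟩ := id hEt₁
  haveI := hlo₁
  intro S' N' _ _ _ _ _ _ _ _ _ _ _ fN' hfN'
  -- `S'` over `R'` and `SA`
  letI algR'S' : Algebra R' S' :=
    ((algebraMap (Localization.Away f) S').comp (algebraMap R' (Localization.Away f))).toAlgebra
  haveI twR'R₁S' : IsScalarTower R' (Localization.Away f) S' :=
    IsScalarTower.of_algebraMap_eq fun _ => rfl
  haveI twRR'S' : IsScalarTower R R' S' := IsScalarTower.of_algebraMap_eq fun r => by
    show algebraMap R S' r = algebraMap (Localization.Away f) S'
      (algebraMap R' (Localization.Away f) (algebraMap R R' r))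
    rw [← IsScalarTower.algebraMap_apply R R' (Localization.Away f),
      ← IsScalarTower.algebraMap_apply R (Localization.Away f) S']
  let f₁ : S →ₐ[R] S' := IsScalarTower.toAlgHom R S S'
  let g₁ : R' →ₐ[R] S' := IsScalarTower.toAlgHom R R' S'
  have hcomm₁ : ∀ x y, f₁ x * g₁ y = g₁ y * f₁ x := fun _ _ => mul_comm _ _
  let ψ₁ : SA →ₐ[R] S' := Algebra.pushoutDesc SA f₁ g₁ hcomm₁
  letI algSAS' : Algebra SA S' := ψ₁.toRingHom.toAlgebra
  haveI twSSAS' : IsScalarTower S SA S' := by
    refine IsScalarTower.of_algebraMap_eq (R := S) (S := SA) (A := S') fun b => ?_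
    exact (Algebra.pushoutDesc_left SA f₁ g₁ hcomm₁ b).symm
  haveI twR'SAS' : IsScalarTower R' SA S' := by
    refine IsScalarTower.of_algebraMap_eq (R := R') (S := SA) (A := S') fun b => ?_
    exact (Algebra.pushoutDesc_right SA f₁ g₁ hcomm₁ b).symm
  haveI twRSAS' : IsScalarTower R SA S' := by
    refine IsScalarTower.of_algebraMap_eq (R := R) (S := SA) (A := S') fun r => ?_
    exact (ψ₁.commutes r).symm
  have hpoS' : Algebra.IsPushout R' SA (Localization.Away f) S' := by
    have h1 : Algebra.IsPushout R (Localization.Away f) S S' := Algebra.IsPushout.symm inferInstance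
    have h2 : Algebra.IsPushout R' (Localization.Away f) SA S' :=
      (Algebra.IsPushout.comp_iff R R' S SA (T := Localization.Away f) (T' := S')).1 h1
    exact Algebra.IsPushout.symm h2
  haveI := hpoS'
  -- the module
  letI mSAN' : Module SA N' := Module.compHom N' (algebraMap SA S')
  haveI twSAS'N' : IsScalarTower SA S' N' := IsScalarTower.of_algebraMap_smul fun _ _ => rfl
  haveI twSSAN' : IsScalarTower S SA N' := IsScalarTower.of_algebraMap_smul fun b x => by
    show algebraMap SA S' (algebraMap S SA b) • x = b • x
    rw [← IsScalarTower.algebraMap_apply S SA S', algebraMap_smul]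
  have hNA : IsBaseChange SA (TensorProduct.mk S SA N 1) := TensorProduct.isBaseChange S N SA
  let gA : SA ⊗[S] N →ₗ[SA] N' := hNA.lift fN'
  have hgA : IsBaseChange S' gA := by
    apply IsBaseChange.of_comp hNA
    rw [hNA.lift_comp]
    exact hfN'
  -- the open
  let C := Localization.Away (algebraMap SA S' h)
  -- the prime
  haveI hpoS'' : Algebra.IsPushout R (Localization.Away f) S S' :=
    Algebra.IsPushout.symm inferInstance
  obtain ⟨x, hxprime, hxp₁, hxq⟩ := Groth.Agent.Lib.helper3.BijRes.exists_prime_over p
    (p'.map (algebraMap R' (Localization.Away f))) hκ₁ S S' q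
  haveI := hxprime
  have hxSA : x.comap (algebraMap SA S') = q''.comap (algebraMap SA W) := by
    haveI : (x.comap (algebraMap SA S')).IsPrime := Ideal.comap_isPrime _ _
    apply Groth.Agent.Lib.helper3.BijRes.eq_of_under_eq p p' hκ.2 S SA
    · rw [Ideal.under_def, Ideal.comap_comap, ← IsScalarTower.algebraMap_eq,
        IsScalarTower.algebraMap_eq R' (Localization.Away f) S', ← Ideal.comap_comap]
      have h1 : Ideal.comap (algebraMap (Localization.Away f) S') x =
          p'.map (algebraMap R' (Localization.Away f)) := hxp₁.over.symm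
      rw [h1]
      exact hlo.over.symm
    · rw [Ideal.under_def, Ideal.comap_comap, ← IsScalarTower.algebraMap_eq]
      exact hq''p'.over.symm
    · rw [Ideal.under_def, Ideal.under_def, Ideal.comap_comap, Ideal.comap_comap,
        ← IsScalarTower.algebraMap_eq, ← IsScalarTower.algebraMap_eq]
      exact hxq.over.symm.trans hq''q.over
  have hh'x : algebraMap SA S' h ∉ x := by
    intro hmem
    apply hhQ
    rw [← hxSA]
    exact hmem
  have hx'prime : (x.map (algebraMap S' C)).IsPrime :=
    Groth.Agent.Lib.helper3.Shrink.isPrime_map_away (algebraMap SA S' h) C x hh'x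
  have hx'under : (x.map (algebraMap S' C)).comap (algebraMap S' C) = x :=
    Groth.Agent.Lib.helper3.Shrink.under_map_away (algebraMap SA S' h) C x hh'x
  refine ⟨C, inferInstance, inferInstance, inferInstance, inferInstance, x.map (algebraMap S' C),
    hx'prime,
    inferInstance, ?_, ?_, ?_⟩
  · rw [hx'under]
    exact hxq
  · rw [hx'under]
    exact hxp₁
  · -- projectivity
    have hP := Groth.Agent.Lib.helper26.PureProj.projective_away_localization (R := R') (S := SA)
      (W := W) (SA ⊗[S] N) h hcov f hfQ (Localization.Away f)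
    obtain ⟨e⟩ := Groth.Agent.Lib.helper26.PureProj.nonempty_transfer_equiv (R := R') (S := SA)
      (SA ⊗[S] N) h (Localization.Away f) S' N' gA hgA C
    haveI := hP
    haveI : Module.Projective (Localization.Away f) (C ⊗[S'] N') :=
      Module.Projective.of_equiv e.symm
    exact Module.Projective.of_equiv
      (Groth.Agent.Lib.helper26.FibCov.restrictScalarsEquiv (Localization.Away f) C (C ⊗[S'] N'))

end Groth.Agent.S1268
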