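import Groth.Statements.S12683
import Groth.Agent.Lib.Helper28.SymLineSTD
import Groth.Agent.S8259
-- import your own Groth.Agent.* helpers here

set_option autoImplicit false
universe u
open CategoryTheory CategoryTheory.Limits AlgebraicGeometry TopologicalSpace Opposite
open scoped HomogeneousIdeal
noncomputable section
open Variety

namespace Groth.Agent.S12683

/-- Let X be a quasi-compact scheme, L an ample invertible O_X-module with graded symmetric algebra 𝒮L =
⊕_{d≥0} L^{⊗d} (whose relative Proj PL, given with its charts, is identified with X by its structure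
morphism), f : X → Y a quasi-compact morphism to an AFFINE scheme Y, 𝒜 a quasi-coherent graded
O_Y-algebra given with a graded f-morphism u : 𝒜 → f_*𝒮L which is bijective on global sections — so
that Γ(Y, 𝒜) is the graded ring Γ(X, 𝒮L) = ⊕_d Γ(X, L^{⊗d}) and P = Proj(𝒜) (given with its charts)
is its homogeneous spectrum — and r : G(σ) → P the canonical morphism on its open of definition G(σ)
⊆ PL. Then r is everywhere defined (G(σ) is all of PL) and is a quasi-compact, scheme-theoretically
dominant open immersion. (The published statement forms the homogeneous spectrum of the graded ring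
⊕_d Γ(X, L^{⊗d}) itself, over the spectrum of Γ(X, O_X); any affine Y under X gives the same graded
ring, the same homogeneous spectrum and the same morphism. It also assumes X quasi-separated, which
already follows from ampleness, since the opens X_s are affine with affine pairwise intersections;
only quasi-compactness is assumed here.) -/
theorem result {X Y P PL : Scheme.{u}} [CompactSpace X]
    (f : X ⟶ Y) [QuasiCompact f] (hY : IsAffineOpen (⊤ : Y.Opens))
    (L : X.Modules) (hL : PicF.IsInvertible L) (hLq : Coh.IsQCoh L)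
    (𝒮L : RelProj.QCGrAlg X) (jL : L ⟶ 𝒮L.toModule) (hjL : RelProj.IsGrSymAlg L 𝒮L jL)
    (pL : PL ⟶ X) (chartL : ∀ (U : X.Opens) (hU : IsAffineOpen U), (((pL ⁻¹ᵁ U : PL.Opens) : Scheme.{u}) ≅ Proj (𝒮L.deg U hU)))
    (hPL : RelProj.IsRelProj 𝒮L pL chartL)
    (hLa : CohB1.IsAmple L)
    (𝒜 : RelProj.QCGrAlg Y) (u : RelProj.QGrHom f 𝒜 𝒮L)
    (p : P ⟶ Y) (chart : ∀ (U : Y.Opens) (hU : IsAffineOpen U), (((p ⁻¹ᵁ U : P.Opens) : Scheme.{u}) ≅ Proj (𝒜.deg U hU)))
    (hP : RelProj.IsRelProj 𝒜 p chart)
    (r : ((RelProj.domQ u pL chartL : PL.Opens) : Scheme.{u}) ⟶ P)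
    (hr : RelProj.IsProjQMapOn u p chart pL chartL (RelProj.domQ u pL chartL) r)
    (hu : Function.Bijective (u.app ⊤).hom) :
    RelProj.domQ u pL chartL = ⊤ ∧ IsOpenImmersion r ∧ QuasiCompact r ∧ IsSchemeTheoreticallyDominant r := by
  have : L.IsQuasicoherent := hLq
  have hr' := (Groth.Agent.Lib.helper28.ProjQComp.isProjQMapOn_iff u r).mp hr
  have hιiso : IsIso (f ⁻¹ᵁ (⊤ : Y.Opens)).ι := (inferInstance : IsIso X.topIso.hom)
  have hample : CohB1.IsAmple (L.restrict (f ⁻¹ᵁ (⊤ : Y.Opens)).ι) :=
    (Groth.Agent.Lib.helper12.AmpleRestrict.isAmple_restrict_iff_of_isIso _).mpr hLa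
  have htop : RelProj.domQ u pL chartL = ⊤ := by
    rw [← top_le_iff]
    intro z _
    obtain ⟨n, a, ha, t, -, hx, -⟩ := Groth.Agent.Lib.helper28.SymLineAmpleImm.exists_affine_XT
      u hjL hL ⊤ hY hu hample (pL z) trivial
    exact Groth.Agent.Lib.helper28.SymLineAmpleImm.mem_domQ_of_mem_XT u hjL ⊤ hY
      (Nat.succ_pos n) a ha z hx
  have hoi : IsOpenImmersion r := by
    refine Groth.Agent.Lib.helper28.RLpsiU.isOpenImmersion_of_local L 𝒮L jL hjL u hL hP hPL r hr'
      (fun x' => ?_)
    obtain ⟨n, a, ha, t, ht, hx, hXT⟩ := Groth.Agent.Lib.helper28.SymLineAmpleImm.exists_affine_XT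
      u hjL hL ⊤ hY hu hample (pL ((RelProj.domQ u pL chartL).ι x')) trivial
    have hcs : CompactSpace ((f ⁻¹ᵁ (⊤ : Y.Opens) : X.Opens) : Scheme.{u}) := hample.2.1
    have hqs : QuasiSeparatedSpace ((f ⁻¹ᵁ (⊤ : Y.Opens) : X.Opens) : Scheme.{u}) :=
      Groth.Agent.Lib.helper12.AmpleBasis.quasiSeparatedSpace_of_hasAffineCover hample.1 hample.2.2
    exact ⟨⊤, hY, n + 1, Nat.succ_pos n, a, ha, hx, hXT,
      Groth.Agent.Lib.helper28.SymLineLocal.bijective_awayMap u hjL hL hP hPL r hr' ⊤ hY hu
        (Nat.succ_pos n) a ha t ht hXT⟩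
  have hiso : IsIso pL :=
    Groth.Agent.Lib.helper28.SymLineProj.isIso_of_isInvertible L 𝒮L jL hjL pL chartL hPL hL
  have hqc : QuasiCompact r := by
    have hPLc : CompactSpace PL := pL.homeomorph.symm.compactSpace
    have hc : CompactSpace ↥(RelProj.domQ u pL chartL) := by
      rw [htop]
      exact isCompact_iff_compactSpace.mp isCompact_univ
    have hYa : IsAffine Y := by
      have : IsAffine ((⊤ : Y.Opens) : Scheme.{u}) := hY
      exact .of_isIso (Scheme.topIso Y).inv
    have hsep : IsSeparated p := Groth.Agent.S8259.result 𝒜 p chart hP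
    have hqs : QuasiSeparatedSpace P := quasiSeparatedSpace_of_quasiSeparated p
    exact @quasiCompact_of_compactSpace _ _ r hc hqs
  refine ⟨htop, hoi, hqc, ?_⟩
  refine Groth.Agent.Lib.helper28.SymLineSTD.isSchemeTheoreticallyDominant u r hr'
    (fun y => ⟨⊤, hY, trivial, ?_, hu.1⟩)
  exact QuasiCompact.isCompact_preimage (f := f) _ (⊤ : Y.Opens).2 hY.isCompact

end Groth.Agent.S12683
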