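import Groth.Statements.S12688
import Groth.Agent.Lib.Helper28.VeryAmpleFT2
import Groth.Agent.Lib.Helper7.QCohPushQC
import Groth.Agent.S12686
import Groth.Agent.S8259
-- import your own Groth.Agent.* helpers here

set_option autoImplicit false
universe u
open CategoryTheory CategoryTheory.Limits AlgebraicGeometry TopologicalSpace Opposite
open scoped HomogeneousIdeal
noncomputable section
open EGA2

namespace Groth.Agent.S12688

/-- Let Y be a scheme which is either quasi-compact and separated or has Noetherian underlying space, q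
: X → Y a morphism of finite type, L an invertible O_X-module with graded symmetric algebra 𝒮L =
⊕_{n≥0} L^{⊗n} (whose relative Proj PL, given with its charts, is identified with X by its structure
morphism). If L is very ample relative to q, then there are a quasi-coherent O_Y-module E of finite
type with an injective map ι : E → q_*L, its graded symmetric algebra 𝒯 = Sym(E) (structure map jE),
and the graded q-morphism u : 𝒯 → q_*𝒮L extending ι (adjoint to Sym(φ) for φ : q^*E → L the
restriction of the canonical map q^*q_*L → L), such that φ is surjective — every point of X has an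
affine neighbourhood V over which the image of a single section of E generates L — and, for the
projective bundle P(E) = Proj(𝒯) → Y (with its charts) and the induced r = r_{L,φ} : G(φ) → P(E), r
is everywhere defined (G(φ) is all of PL) and an immersion. (The published statement reads 'coherent
of finite type' for E; over an affine base whose ring is not coherent, with q the identity and L
trivial, the only possible E is O_Y itself, which is not coherent, while the published proof,
through the finite-type criterion for immersions, yields E quasi-coherent of finite type, which is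
what this row asserts.) -/
theorem result {X Y PL : Scheme.{u}}
    (hYs : (CompactSpace Y ∧ Y.IsSeparated) ∨ NoetherianSpace Y) (q : X ⟶ Y) [QuasiCompact q] [LocallyOfFiniteType q]
    (L : X.Modules) (hL : PicF.IsInvertible L) (hLq : Coh.IsQCoh L)
    (𝒮L : RelProj.QCGrAlg X) (jL : L ⟶ 𝒮L.toModule) (hjL : RelProj.IsGrSymAlg L 𝒮L jL)
    (pL : PL ⟶ X) (chartL : ∀ (U : X.Opens) (hU : IsAffineOpen U), (((pL ⁻¹ᵁ U : PL.Opens) : Scheme.{u}) ≅ Proj (𝒮L.deg U hU)))
    (hPL : RelProj.IsRelProj 𝒮L pL chartL)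
    (h : RelProj.IsRelVeryAmple q L) :
    ∃ (E : Y.Modules) (_ : Coh.IsQCoh E) (_ : CohB1.IsFT E) (ι : E ⟶ (Scheme.Modules.pushforward q).obj L)
      (_ : ∀ U : Y.Opens, Function.Injective (ι.app U))
      (𝒯 : RelProj.QCGrAlg Y) (jE : E ⟶ 𝒯.toModule) (_ : RelProj.IsGrSymAlg E 𝒯 jE)
      (u : RelProj.QGrHom q 𝒯 𝒮L)
      (_ : ∀ (U : Y.Opens) (x : Γ(E, U)), (u.app U).hom ((jE.app U) x) = (jL.app (q ⁻¹ᵁ U)) ((ι.app U) x)),
      (∀ x : X, ∃ (U : Y.Opens) (hU : IsAffineOpen U) (e : Γ(E, U)) (V : X.Opens) (hV : IsAffineOpen V)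
          (hVU : V ≤ q ⁻¹ᵁ U), x ∈ V ∧
            ((𝒮L.deg V hV 1 : AddSubgroup (𝒮L.presheaf.obj (op V))) : Set (𝒮L.presheaf.obj (op V))) ⊆
              (Ideal.span {(u.appLE U V hVU).hom ((jE.app U) e)} : Set (𝒮L.presheaf.obj (op V)))) ∧
      ∀ (P : Scheme.{u}) (p : P ⟶ Y)
          (chart : ∀ (U : Y.Opens) (hU : IsAffineOpen U), (((p ⁻¹ᵁ U : P.Opens) : Scheme.{u}) ≅ Proj (𝒯.deg U hU)))
          (_ : RelProj.IsRelProj 𝒯 p chart)
          (r : ((RelProj.domQ u pL chartL : PL.Opens) : Scheme.{u}) ⟶ P)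
          (_ : RelProj.IsProjQMapOn u p chart pL chartL (RelProj.domQ u pL chartL) r),
        RelProj.domQ u pL chartL = ⊤ ∧ IsImmersion r := by
  have hqc : CompactSpace Y ∧ QuasiSeparatedSpace Y := by
    rcases hYs with ⟨h1, h2⟩ | h
    · exact ⟨h1, inferInstance⟩
    · exact ⟨inferInstance, inferInstance⟩
  obtain ⟨hc, hqs⟩ := hqc
  have hLq' : L.IsQuasicoherent := hLq
  -- `q` is separated
  have hsep : IsSeparated q := by
    obtain ⟨F, hFq, 𝒯, jF, h𝒯, P, p, chart, hP, O1, lam, hO1, i, himm, hip, -⟩ := h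
    have : IsSeparated p := Groth.Agent.S8259.result 𝒯 p chart hP
    rw [← hip]
    infer_instance
  have hEq : ((Scheme.Modules.pushforward q).obj L).IsQuasicoherent :=
    Groth.Agent.Lib.helper7.QCohPushQC.isQuasicoherent_pushforward q L
  obtain ⟨𝒜, jA, h𝒜⟩ := Groth.Agent.Lib.helper28.SymGradedExists.exists_isGrSymAlg
    ((Scheme.Modules.pushforward q).obj L)
  obtain ⟨P, p, chart, hP⟩ := Groth.Agent.Lib.helper28.RelProjExists.exists_relProj 𝒜
  let u : RelProj.QGrHom q 𝒜 𝒮L :=
    Groth.Agent.Lib.helper28.SymPairLift.qGrHom q ((Scheme.Modules.pushforward q).obj L) 𝒜 jA h𝒜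
      L (𝟙 _) 𝒮L jL hjL.2
  have hu : ∀ (U : Y.Opens) (x : Γ((Scheme.Modules.pushforward q).obj L, U)),
      (u.app U).hom ((jA.app U) x) = (jL.app (q ⁻¹ᵁ U)) x := fun U x =>
    Groth.Agent.Lib.helper28.SymPairLift.qGrHom_j_all q ((Scheme.Modules.pushforward q).obj L) 𝒜
      jA h𝒜 L (𝟙 _) 𝒮L jL hjL.2 U x
  obtain ⟨r, hr₀, -⟩ := Groth.Agent.Lib.helper28.ProjQGlue.existsUnique_glue u (p := p)
    (chart := chart) (p' := pL) (chart' := chartL) hP hPL
  have hr : RelProj.IsProjQMapOn u p chart pL chartL (RelProj.domQ u pL chartL) r :=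
    (Groth.Agent.Lib.helper28.ProjQComp.isProjQMapOn_iff u r).mpr hr₀
  obtain ⟨htop, himm⟩ := Groth.Agent.S12686.result q L hL hLq 𝒮L jL hjL pL chartL hPL hEq 𝒜 jA
    h𝒜 u hu p chart hP r hr h
  obtain ⟨a, hdoma, himma⟩ := Groth.Agent.Lib.helper28.VeryAmpleFT.exists_ftSub q L hL 𝒮L jL hjL
    pL chartL hPL 𝒜 jA h𝒜 u p chart hP r hr htop himm
  have hgs := Groth.Agent.Lib.helper28.FTSubSym.isGrSymAlg_gsym a.E
  refine ⟨a.E, a.qc, a.ft, a.ι, ?_, Groth.Agent.Lib.helper28.FTSubSym.FTSub.alg a,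
    Groth.Agent.Lib.helper28.SymAlg.j a.E, hgs,
    Groth.Agent.Lib.helper28.VeryAmpleFT.uOf q 𝒮L 𝒜 jA h𝒜 u a, ?_, ?_, ?_⟩
  · intro U
    exact Groth.Agent.Lib.helper16.Satur.injective_app_of_mono a.ι U
  · intro U x
    change (u.app U).hom (((Groth.Agent.Lib.helper28.FTSubSym.FTSub.φ 𝒜 jA a).hom.app (op U)).hom
      (((Groth.Agent.Lib.helper28.SymAlg.j a.E).app U).hom x)) = _
    rw [Groth.Agent.Lib.helper28.FTSubSym.FTSub.φ_j_apply]
    exact hu U _
  · intro x
    exact Groth.Agent.Lib.helper28.RLpsiTwist.exists_gen_of_domQ_eq_top q L hL 𝒮L jL hjL pL chartL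
      hPL a.E (Groth.Agent.Lib.helper28.FTSubSym.FTSub.alg a) (Groth.Agent.Lib.helper28.SymAlg.j a.E)
      hgs (Groth.Agent.Lib.helper28.VeryAmpleFT.uOf q 𝒮L 𝒜 jA h𝒜 u a) hdoma x
  · intro P' p' chart' hP' r' hr'
    exact ⟨hdoma, himma P' p' chart' hP' r' hr'⟩

end Groth.Agent.S12688
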