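import Groth.Statements.S12689
import Groth.Agent.Lib.Helper28.VeryAmpleFT2
import Groth.Agent.Lib.Helper28.QHomExt
import Groth.Agent.S12153
-- import your own Groth.Agent.* helpers here

set_option autoImplicit false
universe u
open CategoryTheory CategoryTheory.Limits AlgebraicGeometry TopologicalSpace Opposite
open scoped HomogeneousIdeal
noncomputable section
open EGA2

namespace Groth.Agent.S12689

/-- Let Y be a scheme which is either quasi-compact and separated or has Noetherian underlying space, q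
: X → Y a morphism of finite type, L an invertible O_X-module with graded symmetric algebra 𝒮L =
⊕_{n≥0} L^{⊗n} (whose relative Proj PL, given with its charts, is identified with X by its structure
morphism), F a quasi-coherent O_Y-module with graded symmetric algebra 𝒯 = Sym(F) (structure map jF)
and projective bundle P = P(F) = Proj(𝒯) → Y given with its charts, u : 𝒯 → q_*𝒮L a graded
q-morphism — adjoint to Sym(φ) for the homomorphism φ : q^*F → L it determines in degree one — with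
φ surjective (every point of X has an affine neighbourhood V over which the image of a single
section of F generates L), and r = r_{L,φ} : G(φ) → P the induced morphism on its open of definition
G(φ) ⊆ PL (which is all of PL, φ being surjective). Then r is an immersion if and only if there are
a quasi-coherent O_Y-module E of finite type with an injective map ι : E → F, its graded symmetric
algebra 𝒯' = Sym(E) (structure map jE) and the graded q-morphism u' : 𝒯' → q_*𝒮L obtained from u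
through Sym(ι), such that the corresponding φ' : q^*E → L is surjective (in the same stalkwise
sense) and, for the projective bundle P(E) = Proj(𝒯') → Y (with its charts) and the induced r' =
r_{L,φ'} : G(φ') → P(E), r' is everywhere defined and an immersion. -/
theorem result {X Y P PL : Scheme.{u}}
    (hYs : (CompactSpace Y ∧ Y.IsSeparated) ∨ NoetherianSpace Y) (q : X ⟶ Y) [QuasiCompact q] [LocallyOfFiniteType q]
    (L : X.Modules) (hL : PicF.IsInvertible L) (hLq : Coh.IsQCoh L)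
    (𝒮L : RelProj.QCGrAlg X) (jL : L ⟶ 𝒮L.toModule) (hjL : RelProj.IsGrSymAlg L 𝒮L jL)
    (pL : PL ⟶ X) (chartL : ∀ (U : X.Opens) (hU : IsAffineOpen U), (((pL ⁻¹ᵁ U : PL.Opens) : Scheme.{u}) ≅ Proj (𝒮L.deg U hU)))
    (hPL : RelProj.IsRelProj 𝒮L pL chartL)
    (F : Y.Modules) (hFq : Coh.IsQCoh F) (𝒯 : RelProj.QCGrAlg Y) (jF : F ⟶ 𝒯.toModule) (h𝒯 : RelProj.IsGrSymAlg F 𝒯 jF)
    (u : RelProj.QGrHom q 𝒯 𝒮L)
    (hsurj : ∀ x : X, ∃ (U : Y.Opens) (hU : IsAffineOpen U) (e : Γ(F, U)) (V : X.Opens) (hV : IsAffineOpen V)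
        (hVU : V ≤ q ⁻¹ᵁ U), x ∈ V ∧
          ((𝒮L.deg V hV 1 : AddSubgroup (𝒮L.presheaf.obj (op V))) : Set (𝒮L.presheaf.obj (op V))) ⊆
              (Ideal.span {(u.appLE U V hVU).hom ((jF.app U) e)} : Set (𝒮L.presheaf.obj (op V))))
    (p : P ⟶ Y) (chart : ∀ (U : Y.Opens) (hU : IsAffineOpen U), (((p ⁻¹ᵁ U : P.Opens) : Scheme.{u}) ≅ Proj (𝒯.deg U hU)))
    (hP : RelProj.IsRelProj 𝒯 p chart)
    (r : ((RelProj.domQ u pL chartL : PL.Opens) : Scheme.{u}) ⟶ P)
    (hr : RelProj.IsProjQMapOn u p chart pL chartL (RelProj.domQ u pL chartL) r) :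
    IsImmersion r ↔
      ∃ (E : Y.Modules) (_ : Coh.IsQCoh E) (_ : CohB1.IsFT E) (ι : E ⟶ F) (_ : ∀ U : Y.Opens, Function.Injective (ι.app U))
        (𝒯' : RelProj.QCGrAlg Y) (jE : E ⟶ 𝒯'.toModule) (_ : RelProj.IsGrSymAlg E 𝒯' jE)
        (u' : RelProj.QGrHom q 𝒯' 𝒮L)
        (_ : ∀ (U : Y.Opens) (x : Γ(E, U)), (u'.app U).hom ((jE.app U) x) = (u.app U).hom ((jF.app U) ((ι.app U) x))),
        (∀ x : X, ∃ (U : Y.Opens) (hU : IsAffineOpen U) (e : Γ(E, U)) (V : X.Opens) (hV : IsAffineOpen V)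
            (hVU : V ≤ q ⁻¹ᵁ U), x ∈ V ∧
              ((𝒮L.deg V hV 1 : AddSubgroup (𝒮L.presheaf.obj (op V))) : Set (𝒮L.presheaf.obj (op V))) ⊆
              (Ideal.span {(u'.appLE U V hVU).hom ((jE.app U) e)} : Set (𝒮L.presheaf.obj (op V)))) ∧
        ∀ (P' : Scheme.{u}) (p' : P' ⟶ Y)
            (chart' : ∀ (U : Y.Opens) (hU : IsAffineOpen U), (((p' ⁻¹ᵁ U : P'.Opens) : Scheme.{u}) ≅ Proj (𝒯'.deg U hU)))
            (_ : RelProj.IsRelProj 𝒯' p' chart')
            (r' : ((RelProj.domQ u' pL chartL : PL.Opens) : Scheme.{u}) ⟶ P')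
            (_ : RelProj.IsProjQMapOn u' p' chart' pL chartL (RelProj.domQ u' pL chartL) r'),
          RelProj.domQ u' pL chartL = ⊤ ∧ IsImmersion r' := by
  have hqc : CompactSpace Y ∧ QuasiSeparatedSpace Y := by
    rcases hYs with ⟨h1, h2⟩ | h
    · exact ⟨h1, inferInstance⟩
    · exact ⟨inferInstance, inferInstance⟩
  obtain ⟨hc, hqs⟩ := hqc
  have hLq' : L.IsQuasicoherent := hLq
  have hFq' : F.IsQuasicoherent := hFq
  constructor
  · intro himm
    have hdom : RelProj.domQ u pL chartL = ⊤ := by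
      refine top_le_iff.mp fun z _ => ?_
      obtain ⟨U, hU, e, V, hV, hVU, hxV, hspan⟩ := hsurj (pL z)
      exact Groth.Agent.Lib.helper28.SymLineAmpleImm.mem_domQ_of_mem_XT u hjL U hU one_pos
        ((jF.app U) e) (h𝒯.2 U hU e) z (Opens.mem_iSup.mpr ⟨⟨⟨V, hV⟩, hVU, hspan⟩, hxV⟩)
    obtain ⟨a, hdoma, himma⟩ := Groth.Agent.Lib.helper28.VeryAmpleFT.exists_ftSub q L hL 𝒮L jL
      hjL pL chartL hPL 𝒯 jF h𝒯 u p chart hP r hr hdom himm
    have hgs := Groth.Agent.Lib.helper28.FTSubSym.isGrSymAlg_gsym a.E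
    refine ⟨a.E, a.qc, a.ft, a.ι, ?_, Groth.Agent.Lib.helper28.FTSubSym.FTSub.alg a,
      Groth.Agent.Lib.helper28.SymAlg.j a.E, hgs,
      Groth.Agent.Lib.helper28.VeryAmpleFT.uOf q 𝒮L 𝒯 jF h𝒯 u a, ?_, ?_, ?_⟩
    · intro U
      exact Groth.Agent.Lib.helper16.Satur.injective_app_of_mono a.ι U
    · intro U x
      change (u.app U).hom (((Groth.Agent.Lib.helper28.FTSubSym.FTSub.φ 𝒯 jF a).hom.app
        (op U)).hom (((Groth.Agent.Lib.helper28.SymAlg.j a.E).app U).hom x)) = _
      rw [Groth.Agent.Lib.helper28.FTSubSym.FTSub.φ_j_apply]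
    · intro x
      exact Groth.Agent.Lib.helper28.RLpsiTwist.exists_gen_of_domQ_eq_top q L hL 𝒮L jL hjL pL
        chartL hPL a.E (Groth.Agent.Lib.helper28.FTSubSym.FTSub.alg a)
        (Groth.Agent.Lib.helper28.SymAlg.j a.E) hgs
        (Groth.Agent.Lib.helper28.VeryAmpleFT.uOf q 𝒮L 𝒯 jF h𝒯 u a) hdoma x
    · intro P' p' chart' hP' r' hr'
      exact ⟨hdoma, himma P' p' chart' hP' r' hr'⟩
  · rintro ⟨E, hEq, hEft, ι, hinj, 𝒯', jE, h', u', hu', hsurj', hall⟩
    have hEq' : E.IsQuasicoherent := hEq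
    obtain ⟨v, hv0, -⟩ := h'.1 𝒯.toQCAlg (ι ≫ jF)
    have hval : ∀ (U : Y.Opens) (e : Γ(E, U)),
        (v.hom.app (op U)).hom ((jE.app U).hom e) = (jF.app U).hom ((ι.app U).hom e) := fun U e =>
      congrArg (fun k : E ⟶ 𝒯.toModule => (k.app U).hom e) hv0
    have hv : RelProj.IsGradedHom v :=
      Groth.Agent.Lib.helper28.ProjBundleHom.isGradedHom_of_deg_one E 𝒯' jE h' 𝒯 v
        (fun U hU m => by
          rw [hval]
          exact h𝒯.2 U hU _)
    have hu'' : ∀ U : Y.Opens, u'.app U = v.hom.app (op U) ≫ u.app U := by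
      intro U
      refine Groth.Agent.Lib.helper28.QHomExt.app_eq_of_sym E jE h'.1 u'.toQHom
        (Groth.Agent.Lib.helper28.ProjBundleHom.precomp v hv u).toQHom (fun V hV e => ?_) U
      change (u'.app V).hom ((jE.app V).hom e) =
        (u.app V).hom ((v.hom.app (op V)).hom ((jE.app V).hom e))
      rw [hval]
      exact hu' V e
    obtain ⟨P', p', chart', hP'⟩ := Groth.Agent.Lib.helper28.RelProjExists.exists_relProj 𝒯'
    obtain ⟨r', hr'₀, -⟩ := Groth.Agent.Lib.helper28.ProjQGlue.existsUnique_glue u' (p := p')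
      (chart := chart') (p' := pL) (chart' := chartL) hP' hPL
    have hr' : RelProj.IsProjQMapOn u' p' chart' pL chartL (RelProj.domQ u' pL chartL) r' :=
      (Groth.Agent.Lib.helper28.ProjQComp.isProjQMapOn_iff u' r').mpr hr'₀
    obtain ⟨hdom', himm'⟩ := hall P' p' chart' hP' r' hr'
    exact (Groth.Agent.S12153.result q L hL hLq 𝒯 𝒮L jL hjL u p chart hP pL chartL hPL r hr 𝒯' v
      hv u' hu'' p' chart' hP' r' hr' hdom' himm').2

end Groth.Agent.S12689
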