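import Groth.Statements.S1269
import Groth.Agent.Lib.Helper26.PureProj13
import Groth.Agent.Lib.Helper26.FibCov4
import Groth.Agent.Lib.Helper26.FibCov10
import Groth.Agent.Lib.Helper3.Shrink3
import Groth.Agent.S0582

set_option linter.style.haveILetI false
set_option maxHeartbeats 3200000

set_option autoImplicit false
universe u
open FlatMor

namespace Groth.Agent.S1269

open AlgebraicGeometry CategoryTheory TensorProduct in
/-- Ring form, X = Spec S and S = Spec R affine: let S be a finite type R-algebra, N a finite S-module
and q a prime of S over p with N_q flat over R. Then there is an étale R-algebra R' with a prime p'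
over p having the same residue field such that, writing A for the local ring of R' at p' and S_A,
N_A for the base changes (any models), there is an S_A-algebra C with Spec C → Spec S_A an open
immersion (an affine open U'), containing a point lying over q and over the maximal ideal of A, such
that C ⊗_{S_A} N_A is a free A-module. -/
theorem result {R S : Type u} [CommRing R] [CommRing S] [Algebra R S] [Algebra.FiniteType R S]
    (N : Type u) [AddCommGroup N] [Module S N] [Module R N] [IsScalarTower R S N] [Module.Finite S N]
    (p : Ideal R) [p.IsPrime] (q : Ideal S) [q.IsPrime] [q.LiesOver p] (hflat : FlatCA.FlatAt R q N) :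
    ∃ (R' : Type u) (_ : CommRing R') (_ : Algebra R R') (p' : Ideal R') (_ : p'.IsPrime), FlatCA.IsEtaleNhd R R' p p' ∧
      ∀ (SA NA : Type u) [CommRing SA] [Algebra R SA] [Algebra S SA] [Algebra (Localization.AtPrime p') SA]
        [IsScalarTower R S SA] [IsScalarTower R (Localization.AtPrime p') SA]
        [Algebra.IsPushout R S (Localization.AtPrime p') SA]
        [AddCommGroup NA] [Module SA NA] [Module S NA] [IsScalarTower S SA NA]
        (f : N →ₗ[S] NA), IsBaseChange SA f →
        ∃ (C : Type u) (_ : CommRing C) (_ : Algebra SA C) (_ : Algebra (Localization.AtPrime p') C)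
          (_ : IsScalarTower (Localization.AtPrime p') SA C) (x' : Ideal C) (_ : x'.IsPrime),
          IsOpenImmersion (Spec.map (CommRingCat.ofHom (algebraMap SA C))) ∧
          (x'.comap (algebraMap SA C)).LiesOver q ∧
          (x'.comap (algebraMap SA C)).LiesOver (IsLocalRing.maximalIdeal (Localization.AtPrime p')) ∧
          Module.Free (Localization.AtPrime p') (RestrictScalars (Localization.AtPrime p') C (C ⊗[SA] NA)) := by
  classical
  obtain ⟨R', S', _, _, _, _, _, _, tw1, tw2, p', q', _, _, hEtR, hEtS, hq'p', hstab⟩ :=
    Groth.Agent.Lib.helper26.FibCov.stableCore N p q hflat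
  refine ⟨R', inferInstance, inferInstance, p', inferInstance, hEtR, ?_⟩
  intro SA NA _ _ _ _ _ _ _ _ _ _ _ f hf
  obtain ⟨etR', hp'p, hκ⟩ := id hEtR
  obtain ⟨etS', hq'q, -⟩ := id hEtS
  haveI := etR'
  haveI := hp'p
  haveI := hq'p'
  haveI := hq'q
  have hid : p'.comap (AlgHom.id R R').toRingHom = p' := Ideal.comap_id p'
  obtain ⟨W, _, algSAW, algΛW, twΛSAW, algSW, twSSAW, hEtW, hfpW, hfreeW, hcovW⟩ :=
    Groth.Agent.Lib.helper26.FibCov.exists_local_cover N p q p' q' hEtR hEtS hstab R' p' hEtR
      (AlgHom.id R R') hid SA NA f hf
  haveI := hEtW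
  haveI := hfreeW
  obtain ⟨x₀, hx₀, hx₀𝔪, hx₀q⟩ := hcovW q' hq'p'
  haveI := hx₀
  -- structures over the local ring
  haveI : Algebra.IsPushout R (Localization.AtPrime p') S SA := Algebra.IsPushout.symm inferInstance
  haveI : Algebra.FiniteType (Localization.AtPrime p') SA :=
    Algebra.FiniteType.equiv inferInstance
      (Algebra.IsPushout.equiv R (Localization.AtPrime p') S SA)
  letI modΛNA : Module (Localization.AtPrime p') NA :=
    Module.compHom NA (algebraMap (Localization.AtPrime p') SA)
  haveI twΛSANA : IsScalarTower (Localization.AtPrime p') SA NA :=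
    IsScalarTower.of_algebraMap_smul fun _ _ => rfl
  haveI : Module.Finite SA NA := Module.Finite.equiv hf.equiv
  haveI : Algebra.FiniteType (Localization.AtPrime p') W :=
    Algebra.FiniteType.trans (S := SA) inferInstance inferInstance
  -- the point
  haveI hQprime : (x₀.comap (algebraMap SA W)).IsPrime := Ideal.comap_isPrime _ _
  obtain ⟨h, hhQ, hcov, hreg⟩ := Groth.Agent.Lib.helper26.PureProj.exists_avoiding_ft
    (R := Localization.AtPrime p') (S := SA) (W := W) NA
    (IsLocalRing.maximalIdeal (Localization.AtPrime p')) (x₀.comap (algebraMap SA W))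
    ⟨x₀, inferInstance, rfl⟩
  have hUR := Groth.Agent.Lib.helper26.PureProj.isSMulRegular_tensor_of_fibres_ft
    (R := Localization.AtPrime p') (S := W) (W ⊗[SA] NA) (algebraMap SA W h)
    (fun t ht => hreg t (IsLocalRing.le_maximalIdeal (Ideal.IsPrime.ne_top ht)))
  haveI : IsLocalization.Away (1 : Localization.AtPrime p') (Localization.AtPrime p') :=
    IsLocalization.away_of_isUnit_of_bijective _ isUnit_one Function.bijective_id
  have hP := Groth.Agent.Lib.helper26.PureProj.projective_away_localization_ft
    (R := Localization.AtPrime p') (S := SA) (W := W) NA h hcov 1 (fun Q' _ _ _ => hUR Q')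
    (Localization.AtPrime p')
  haveI := hP
  haveI hproj : Module.Projective (Localization.AtPrime p') (Localization.Away h ⊗[SA] NA) :=
    Module.Projective.of_equiv
      (TensorProduct.lid (Localization.AtPrime p') (Localization.Away h ⊗[SA] NA))
  -- the prime of the open
  have hx'prime : ((x₀.comap (algebraMap SA W)).map (algebraMap SA (Localization.Away h))).IsPrime :=
    Groth.Agent.Lib.helper3.Shrink.isPrime_map_away h (Localization.Away h) _ hhQ
  have hx'under : ((x₀.comap (algebraMap SA W)).map
      (algebraMap SA (Localization.Away h))).comap (algebraMap SA (Localization.Away h)) =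
      x₀.comap (algebraMap SA W) :=
    Groth.Agent.Lib.helper3.Shrink.under_map_away h (Localization.Away h) _ hhQ
  refine ⟨Localization.Away h, inferInstance, inferInstance, inferInstance, inferInstance,
    (x₀.comap (algebraMap SA W)).map (algebraMap SA (Localization.Away h)), hx'prime,
    inferInstance, ?_, ?_, ?_⟩
  · rw [hx'under]
    constructor
    rw [Ideal.under_def, Ideal.comap_comap, ← IsScalarTower.algebraMap_eq, hx₀q]
    exact hq'q.over
  · rw [hx'under]
    constructor
    rw [hx₀𝔪.over, Ideal.under_def, Ideal.under_def, Ideal.comap_comap,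
      ← IsScalarTower.algebraMap_eq]
  · haveI : Module.Free (Localization.AtPrime p') (Localization.Away h ⊗[SA] NA) :=
      Groth.Agent.S0582.result _ _
    exact Module.Free.of_equiv
      (Groth.Agent.Lib.helper26.FibCov.restrictScalarsEquiv (Localization.AtPrime p')
        (Localization.Away h) (Localization.Away h ⊗[SA] NA))

end Groth.Agent.S1269
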