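import Groth.Statements.S12691
import Groth.Agent.S12485
import Groth.Agent.Lib.Helper28.IrrOfSurj
import Groth.Agent.Lib.Helper28.ProjQOfIrr
import Groth.Agent.Lib.Helper28.RelTwistPull2
import Groth.Agent.Lib.Helper28.SymLineTwist
import Groth.Agent.Lib.Helper28.SymLineProj
import Groth.Agent.Lib.Helper28.RelTwistExists
import Groth.Agent.Lib.Helper28.ProjQGlue
import Groth.Agent.Lib.Helper28.SymGraded
-- import your own Groth.Agent.* helpers here

set_option autoImplicit false
universe u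
open CategoryTheory CategoryTheory.Limits AlgebraicGeometry TopologicalSpace Opposite
open scoped HomogeneousIdeal
noncomputable section
open Mor

namespace Groth.Agent.S12691

/-- Let f : X → Y be a quasi-compact morphism, L an invertible O_X-module with graded symmetric algebra
𝒮L = ⊕_{n≥0} L^{⊗n} (whose relative Proj PL, given with its charts, is identified with X by its
structure morphism), 𝒜 a quasi-coherent graded O_Y-algebra generated in degree one over O_Y (its
degree-zero part is the image of O_Y and degrees zero and one generate it), u : 𝒜 → f_*𝒮L a graded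
f-morphism (adjoint to a homomorphism of graded algebras ψ : f^*𝒜 → ⊕ L^{⊗n}) whose degree-one part
f^*𝒜_1 → L is surjective — every point of X has an affine neighbourhood V over which the image of a
single degree-one section of 𝒜 generates L — P = Proj(𝒜) → Y with its charts, and r = r_{L,ψ} : U(ψ)
→ P the induced morphism on its open of definition U(ψ) ⊆ PL. If r is an immersion, then L is very
ample relative to f (isomorphic to the inverse image of O(1) along a Y-immersion into the projective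
bundle of a quasi-coherent O_Y-module). -/
theorem result {X Y P PL : Scheme.{u}} (f : X ⟶ Y) [QuasiCompact f]
    (L : X.Modules) (hL : PicF.IsInvertible L) (hLq : Coh.IsQCoh L)
    (𝒮L : RelProj.QCGrAlg X) (jL : L ⟶ 𝒮L.toModule) (hjL : RelProj.IsGrSymAlg L 𝒮L jL)
    (pL : PL ⟶ X) (chartL : ∀ (U : X.Opens) (hU : IsAffineOpen U), (((pL ⁻¹ᵁ U : PL.Opens) : Scheme.{u}) ≅ Proj (𝒮L.deg U hU)))
    (hPL : RelProj.IsRelProj 𝒮L pL chartL)
    (𝒜 : RelProj.QCGrAlg Y) (h1 : 𝒜.IsGenDegOne)
    (h0 : ∀ (U : Y.Opens) (hU : IsAffineOpen U),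
      ((𝒜.deg U hU 0 : AddSubgroup (𝒜.presheaf.obj (op U))) : Set (𝒜.presheaf.obj (op U))) = Set.range (𝒜.str.app (op U)).hom)
    (u : RelProj.QGrHom f 𝒜 𝒮L)
    (hsurj : ∀ x : X, ∃ (U : Y.Opens) (hU : IsAffineOpen U) (e : 𝒜.presheaf.obj (op U)) (_ : e ∈ 𝒜.deg U hU 1)
        (V : X.Opens) (hV : IsAffineOpen V) (hVU : V ≤ f ⁻¹ᵁ U), x ∈ V ∧
          ((𝒮L.deg V hV 1 : AddSubgroup (𝒮L.presheaf.obj (op V))) : Set (𝒮L.presheaf.obj (op V))) ⊆
            (Ideal.span {(u.appLE U V hVU).hom e} : Set (𝒮L.presheaf.obj (op V))))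
    (p : P ⟶ Y) (chart : ∀ (U : Y.Opens) (hU : IsAffineOpen U), (((p ⁻¹ᵁ U : P.Opens) : Scheme.{u}) ≅ Proj (𝒜.deg U hU)))
    (hP : RelProj.IsRelProj 𝒜 p chart)
    (r : ((RelProj.domQ u pL chartL : PL.Opens) : Scheme.{u}) ⟶ P)
    (hr : RelProj.IsProjQMapOn u p chart pL chartL (RelProj.domQ u pL chartL) r)
    (himm : IsImmersion r) :
    RelProj.IsRelVeryAmple f L := by
  have hLq' : L.IsQuasicoherent := hLq
  have hgenL : ∀ (V : X.Opens) (hV : IsAffineOpen V), ((𝒮L.deg V hV)₊).toIdeal ≤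
      Ideal.span ((𝒮L.deg V hV 1 : AddSubgroup (𝒮L.presheaf.obj (op V))) :
        Set (𝒮L.presheaf.obj (op V))) := by
    intro V hV
    refine (Groth.Agent.Lib.helper28.SymGraded.irrelevant_le_span L 𝒮L jL hjL V hV).trans
      (Ideal.span_mono ?_)
    rintro _ ⟨m, rfl⟩
    exact hjL.2 V hV m
  have hirr := Groth.Agent.Lib.helper28.IrrOfSurj.irrelevant_le_map u hgenL hsurj
  obtain ⟨h, hhr, hiso, hh⟩ :=
    Groth.Agent.Lib.helper28.ProjQOfIrr.exists_isPairMap u hirr (p := p) (chart := chart) r hr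
  obtain ⟨O1, lam, hO1⟩ :=
    Groth.Agent.Lib.helper28.RelTwistExists.exists_isRelTwist 𝒜 p chart hP 1
  obtain ⟨O1L, lamL, hO1L⟩ :=
    Groth.Agent.Lib.helper28.RelTwistExists.exists_isRelTwist 𝒮L pL chartL hPL 1
  obtain ⟨e1⟩ := Groth.Agent.Lib.helper28.RelTwistPull2.nonempty_pullback_iso
    (Φ := Groth.Agent.Lib.helper28.RelProjPair.PairHom.ofQGrHom u) hirr lam lamL h1 hP hPL hO1
    hO1L hh
  obtain ⟨e2⟩ := Groth.Agent.Lib.helper28.SymLineTwist.nonempty_pullback_iso_twist_one
    L 𝒮L jL hjL pL chartL hPL O1L lamL hO1L hL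
  have := Groth.Agent.Lib.helper28.SymLineProj.isIso_of_isInvertible L 𝒮L jL hjL pL chartL hPL hL
  have hrp : r ≫ p = (RelProj.domQ u pL chartL).ι ≫ pL ≫ f :=
    Groth.Agent.Lib.helper28.ProjQGlue.glue_comp_p u hP hPL r
      (fun U hU U' hU' hle d hd a ha => hr U hU U' hU' hle d hd a ha
        (RelProj.range_awayEmb_subset_domQ u pL chartL U hU U' hU' hle hd a ha))
  have hhp : h ≫ p = pL ≫ f := by
    rw [← cancel_epi (RelProj.domQ u pL chartL).ι, ← Category.assoc, hhr, hrp]
  have himmh : IsImmersion h := by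
    have e : h = inv (RelProj.domQ u pL chartL).ι ≫ r := by
      rw [← hhr, IsIso.inv_hom_id_assoc]
    rw [e]
    infer_instance
  have : IsImmersion (inv pL ≫ h) := inferInstance
  refine Groth.Agent.S12485.result f L hL 𝒜 h1 p chart hP O1 lam hO1 (inv pL ≫ h) ?_ ?_
  · rw [Category.assoc, hhp, IsIso.inv_hom_id_assoc]
  · -- L ≅ (inv pL)^* pL^* L ≅ (inv pL)^* O1L ≅ (inv pL)^* h^* O1
    have e3 : (Scheme.Modules.pullback (inv pL)).obj ((Scheme.Modules.pullback pL).obj L) ≅ L :=
      (Scheme.Modules.pullbackComp (inv pL) pL).app L ≪≫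
        (Scheme.Modules.pullbackCongr (IsIso.inv_hom_id pL)).app L ≪≫
          (Scheme.Modules.pullbackId X).app L
    exact e3.symm ≪≫ (Scheme.Modules.pullback (inv pL)).mapIso (e2 ≪≫ e1.symm) ≪≫
      (Scheme.Modules.pullbackComp (inv pL) h).app O1

end Groth.Agent.S12691
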