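import Groth.Statements.S12692
import Groth.Agent.Lib.Helper28.ProjQAffine
import Groth.Agent.Lib.Helper28.SymLineProj
import Groth.Agent.S8259
-- import your own Groth.Agent.* helpers here

set_option autoImplicit false
universe u
open CategoryTheory CategoryTheory.Limits AlgebraicGeometry TopologicalSpace Opposite
open scoped HomogeneousIdeal
noncomputable section
open Coh

namespace Groth.Agent.S12692

/-- Let X be a quasi-compact scheme, L an invertible O_X-module with graded symmetric algebra 𝒮L =
⊕_{d≥0} L^{⊗d} (whose relative Proj PL, given with its charts, is identified with X by its structure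
morphism), f : X → Y a quasi-compact morphism to an AFFINE scheme Y, 𝒜 a quasi-coherent graded
O_Y-algebra given with a graded f-morphism u : 𝒜 → f_*𝒮L which is bijective on global sections — so
that Γ(Y, 𝒜) is the graded ring S = ⊕_d Γ(X, L^{⊗d}) and P = Proj(𝒜) (given with its charts) is
Proj(S) — and r : G(u) → P the canonical morphism on its open of definition G(u) ⊆ PL. If G(u) is
all of PL (that is, every point of X lies in an open X_s for some homogeneous s ∈ S_+), then r is
quasi-compact and has dense image. (The published statement forms the homogeneous spectrum of the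
graded ring S itself, with no base scheme; any affine Y under X gives the same graded ring, the same
homogeneous spectrum and the same morphism.) -/
theorem result {X Y P PL : Scheme.{u}} [CompactSpace X]
    (f : X ⟶ Y) [QuasiCompact f] (hY : IsAffineOpen (⊤ : Y.Opens))
    (L : X.Modules) (hL : PicF.IsInvertible L) (hLq : Coh.IsQCoh L)
    (𝒮L : RelProj.QCGrAlg X) (jL : L ⟶ 𝒮L.toModule) (hjL : RelProj.IsGrSymAlg L 𝒮L jL)
    (pL : PL ⟶ X) (chartL : ∀ (U : X.Opens) (hU : IsAffineOpen U), (((pL ⁻¹ᵁ U : PL.Opens) : Scheme.{u}) ≅ Proj (𝒮L.deg U hU)))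
    (hPL : RelProj.IsRelProj 𝒮L pL chartL)
    (𝒜 : RelProj.QCGrAlg Y) (u : RelProj.QGrHom f 𝒜 𝒮L)
    (p : P ⟶ Y) (chart : ∀ (U : Y.Opens) (hU : IsAffineOpen U), (((p ⁻¹ᵁ U : P.Opens) : Scheme.{u}) ≅ Proj (𝒜.deg U hU)))
    (hP : RelProj.IsRelProj 𝒜 p chart)
    (r : ((RelProj.domQ u pL chartL : PL.Opens) : Scheme.{u}) ⟶ P)
    (hr : RelProj.IsProjQMapOn u p chart pL chartL (RelProj.domQ u pL chartL) r)
    (hu : Function.Bijective (u.app ⊤).hom)
    (htop : RelProj.domQ u pL chartL = ⊤) :
    QuasiCompact r ∧ IsDominant r := by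
  have hLq' : L.IsQuasicoherent := hLq
  have hiso : IsIso pL :=
    Groth.Agent.Lib.helper28.SymLineProj.isIso_of_isInvertible L 𝒮L jL hjL pL chartL hPL hL
  have hr₀ := (Groth.Agent.Lib.helper28.ProjQComp.isProjQMapOn_iff u r).mp hr
  constructor
  · have hPLc : CompactSpace PL := pL.homeomorph.symm.compactSpace
    have hc : CompactSpace ↥(RelProj.domQ u pL chartL) := by
      rw [htop]
      exact isCompact_iff_compactSpace.mp isCompact_univ
    have hYa : IsAffine Y := by
      have : IsAffine ((⊤ : Y.Opens) : Scheme.{u}) := hY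
      exact .of_isIso (Scheme.topIso Y).inv
    have hsep : IsSeparated p := Groth.Agent.S8259.result 𝒜 p chart hP
    have hqs : QuasiSeparatedSpace P := quasiSeparatedSpace_of_quasiSeparated p
    exact @quasiCompact_of_compactSpace _ _ r hc hqs
  · rw [Groth.Agent.Lib.helper28.ProjQComp.isDominant_iff_of_isAffine u hP hPL r hr₀ hY]
    intro n hn s hs hloc
    have ha : IsNilpotent ((u.app ⊤).hom s) := by
      apply Groth.Agent.Lib.helper28.ProjQComp.isNilpotent_of_locally 𝒮L.toQCAlg (f ⁻¹ᵁ ⊤)
      intro x
      obtain ⟨x', rfl⟩ := pL.surjective x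
      obtain ⟨V, hV, hxV, hnil⟩ := hloc x'
      exact ⟨V, le_top.trans (Scheme.Hom.preimage_top f).ge, hxV, hnil⟩
    obtain ⟨N, hN⟩ := ha
    refine ⟨N, hu.1 ?_⟩
    rw [map_pow, hN, map_zero]

end Groth.Agent.S12692
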