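import Groth.Statements.S12709
import Mathlib
-- import your own Groth.Agent.* helpers here

set_option autoImplicit false
universe u v
open CategoryTheory
open ArtFun ArtFun.Art

namespace Groth.Agent.S12709

variable {Λ : Type u} {k : Type u} [CommRing Λ] [Field k] [Algebra Λ k]

theorem map_le_maximalIdeal {A B : ArtFun.Art Λ k} (f : A ⟶ B) :
    Ideal.map f.toAlgHom (IsLocalRing.maximalIdeal A) ≤ IsLocalRing.maximalIdeal B := by
  rw [Ideal.map_le_iff_le_comap]
  intro a ha
  rw [Ideal.mem_comap, ArtFun.Art.mem_maximalIdeal_iff]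
  change B.res (f a) = 0
  rw [ArtFun.Art.res_app, ← ArtFun.Art.mem_maximalIdeal_iff]
  exact ha

theorem mapΛ_le_map {A B : ArtFun.Art Λ k} (f : A ⟶ B) :
    Ideal.map (algebraMap Λ B) (RingHom.ker (algebraMap Λ k)) ≤
      Ideal.map f.toAlgHom (IsLocalRing.maximalIdeal A) := by
  rw [Ideal.map_le_iff_le_comap]
  intro l hl
  rw [Ideal.mem_comap]
  have h1 : algebraMap Λ B l = f.toAlgHom (algebraMap Λ A l) := (f.toAlgHom.commutes l).symm
  rw [h1]
  apply Ideal.mem_map_of_mem
  rw [ArtFun.Art.mem_maximalIdeal_iff, AlgHom.commutes]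
  exact hl

/-- the key step: if the maximal ideal of `B` is generated by the image of that of `A`, then `f` is onto -/
theorem surjective_of_map_eq {A B : ArtFun.Art Λ k} (f : A ⟶ B)
    (h : Ideal.map f.toAlgHom (IsLocalRing.maximalIdeal A) = IsLocalRing.maximalIdeal B) :
    Function.Surjective f := by
  -- B = f(A) + m_B
  have h0 : ∀ b : B, ∃ a : A, b - f a ∈ IsLocalRing.maximalIdeal B := by
    intro b
    obtain ⟨a, ha⟩ := A.res_surjective (B.res b)
    refine ⟨a, ?_⟩
    rw [ArtFun.Art.mem_maximalIdeal_iff, map_sub, ArtFun.Art.res_app, ha, sub_self]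
  have hpow : ∀ n : ℕ, Ideal.map f.toAlgHom (IsLocalRing.maximalIdeal A ^ n) =
      IsLocalRing.maximalIdeal B ^ n := by
    intro n
    rw [Ideal.map_pow, h]
  -- every element of m_B^n is f(a) modulo m_B^(n+1)
  have hstep : ∀ (n : ℕ) (c : B), c ∈ IsLocalRing.maximalIdeal B ^ n →
      ∃ a : A, c - f a ∈ IsLocalRing.maximalIdeal B ^ (n + 1) := by
    intro n c hc
    rw [← hpow n] at hc
    have key : c ∈ IsLocalRing.maximalIdeal B ^ n ∧
        ∃ a : A, c - f a ∈ IsLocalRing.maximalIdeal B ^ (n + 1) := by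
      refine Submodule.span_induction (p := fun c _ => c ∈ IsLocalRing.maximalIdeal B ^ n ∧
        ∃ a : A, c - f a ∈ IsLocalRing.maximalIdeal B ^ (n + 1)) ?_ ?_ ?_ ?_ hc
      · rintro x ⟨a, ha, rfl⟩
        refine ⟨?_, a, ?_⟩
        · rw [← hpow n]
          exact Ideal.mem_map_of_mem _ ha
        · change f a - f a ∈ _
          rw [sub_self]
          exact Ideal.zero_mem _
      · exact ⟨Ideal.zero_mem _, 0, by
          change (0 : B) - f.toAlgHom 0 ∈ _
          rw [map_zero, sub_zero]; exact Ideal.zero_mem _⟩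
      · rintro x y _ _ ⟨hx, a, ha⟩ ⟨hy, a', ha'⟩
        refine ⟨Ideal.add_mem _ hx hy, a + a', ?_⟩
        have : x + y - f (a + a') = (x - f a) + (y - f a') := by
          change x + y - f.toAlgHom (a + a') = (x - f.toAlgHom a) + (y - f.toAlgHom a')
          rw [map_add]; ring
        rw [this]
        exact Ideal.add_mem _ ha ha'
      · rintro b x _ ⟨hx, a, ha⟩
        obtain ⟨α, hα⟩ := h0 b
        refine ⟨Ideal.mul_mem_left _ _ hx, α * a, ?_⟩
        have : b • x - f (α * a) = (b - f α) * x + f α * (x - f a) := by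
          change b * x - f.toAlgHom (α * a) = (b - f.toAlgHom α) * x + f.toAlgHom α * (x - f.toAlgHom a)
          rw [map_mul]; ring
        rw [this]
        apply Ideal.add_mem
        · rw [pow_succ']
          exact Ideal.mul_mem_mul hα hx
        · exact Ideal.mul_mem_left _ _ ha
    exact key.2
  -- iterate
  have hiter : ∀ (n : ℕ) (b : B), ∃ a : A, b - f a ∈ IsLocalRing.maximalIdeal B ^ n := by
    intro n
    induction n with
    | zero =>
      intro b
      exact ⟨0, by rw [pow_zero, Ideal.one_eq_top]; trivial⟩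
    | succ n ih =>
      intro b
      obtain ⟨a, ha⟩ := ih b
      obtain ⟨a', ha'⟩ := hstep n _ ha
      refine ⟨a + a', ?_⟩
      have : b - f (a + a') = b - f a - f a' := by
        change b - f.toAlgHom (a + a') = b - f.toAlgHom a - f.toAlgHom a'
        rw [map_add]; ring
      rw [this]
      exact ha'
  obtain ⟨N, hN⟩ : ∃ N : ℕ, IsLocalRing.maximalIdeal B ^ N = ⊥ := by
    have := IsArtinianRing.isNilpotent_jacobson_bot (R := B)
    rw [IsLocalRing.jacobson_eq_maximalIdeal ⊥ bot_ne_top] at this
    exact this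
  intro b
  obtain ⟨a, ha⟩ := hiter N b
  rw [hN, Ideal.mem_bot, sub_eq_zero] at ha
  exact ⟨a, ha.symm⟩

/-- Given a morphism f : A → B in the category of Artinian local Λ-algebras with residue field k, three
conditions coincide: (1) surjectivity of f; (2) f induces an onto map from the cotangent space of A
to the cotangent space of B, which in ideal-theoretic form says f(m_A)B + m_B² = m_B; (3) the
induced map on cotangent spaces relative to Λ is surjective, written as m_Λ B + f(m_A)B + m_B² = m_B
with m_Λ the kernel of Λ → k. -/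
theorem result {Λ : Type u} {k : Type u} [CommRing Λ] [Field k] [Algebra Λ k]
    [IsNoetherianRing Λ] [Module.Finite Λ k]
    {A B : ArtFun.Art Λ k} (f : A ⟶ B) :
    List.TFAE [Function.Surjective f,
      Ideal.map f.toAlgHom (IsLocalRing.maximalIdeal A) ⊔ IsLocalRing.maximalIdeal B ^ 2 = IsLocalRing.maximalIdeal B,
      Ideal.map (algebraMap Λ B) (RingHom.ker (algebraMap Λ k)) ⊔ Ideal.map f.toAlgHom (IsLocalRing.maximalIdeal A) ⊔
        IsLocalRing.maximalIdeal B ^ 2 = IsLocalRing.maximalIdeal B] := by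
  have hle := map_le_maximalIdeal f
  have hΛ := mapΛ_le_map f
  have hsq : IsLocalRing.maximalIdeal B ^ 2 ≤ IsLocalRing.maximalIdeal B := Ideal.pow_le_self two_ne_zero
  tfae_have 1 → 2 := by
    intro hf
    apply le_antisymm (sup_le hle hsq)
    refine le_trans ?_ le_sup_left
    intro b hb
    obtain ⟨a, rfl⟩ := hf b
    apply Ideal.mem_map_of_mem
    rw [ArtFun.Art.mem_maximalIdeal_iff] at hb ⊢
    rw [← ArtFun.Art.res_app f]
    exact hb
  tfae_have 2 → 3 := by
    intro h2
    rw [sup_assoc, h2]
    exact sup_eq_right.mpr (hΛ.trans hle)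
  tfae_have 3 → 1 := by
    intro h3
    have h2 : Ideal.map f.toAlgHom (IsLocalRing.maximalIdeal A) ⊔ IsLocalRing.maximalIdeal B ^ 2 =
        IsLocalRing.maximalIdeal B := by
      have h3' := h3
      rw [sup_eq_right.mpr hΛ] at h3'
      exact h3'
    apply surjective_of_map_eq
    apply le_antisymm hle
    have hfg : (IsLocalRing.maximalIdeal B).FG := IsNoetherian.noetherian _
    apply Submodule.le_of_le_smul_of_le_jacobson_bot hfg
      (IsLocalRing.jacobson_eq_maximalIdeal ⊥ bot_ne_top).ge
    rw [Ideal.smul_eq_mul, ← pow_two, h2]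
  tfae_finish

end Groth.Agent.S12709
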