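import Groth.Statements.S12712
import Groth.Agent.S12710
import Groth.Agent.Lib.Helper24.EtaleHomLift
import Mathlib
-- import your own Groth.Agent.* helpers here

set_option autoImplicit false
universe u v
open CategoryTheory
open ArtFun ArtFun.Art

namespace Groth.Agent.S12712

section Aux

open IsLocalRing Polynomial

/-- An artinian local ring is henselian. -/
theorem henselian_of_artinian (D : Type u) [CommRing D] [IsLocalRing D] [IsArtinianRing D] :
    HenselianLocalRing D := by
  apply Groth.Agent.Lib.Helper24.EtaleHomLift.henselian_of_surjective D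
  intro E _ _ _ g
  have hnil : IsNilpotent (Ideal.map (algebraMap D D) (maximalIdeal D)) := by
    rw [Algebra.algebraMap_self, Ideal.map_id, ← IsLocalRing.jacobson_eq_maximalIdeal ⊥ bot_ne_top]
    exact IsArtinianRing.isNilpotent_jacobson_bot
  exact Algebra.FormallySmooth.exists_lift _ hnil g

variable {Λ : Type u} {k : Type u} [CommRing Λ] [Field k] [Algebra Λ k]

/-- Hensel lifting of a simple root in an object of `Art Λ k`. -/
theorem exists_root (D : ArtFun.Art Λ k) (G : Λ[X]) (hG : G.Monic) (c : k)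
    (hc : aeval c G = 0) (hc' : aeval c (derivative G) ≠ 0) :
    ∃ α : D, aeval α G = 0 ∧ D.res α = c := by
  have hD : HenselianLocalRing D.carrier := henselian_of_artinian D.carrier
  have h := ((HenselianLocalRing.TFAE D.carrier).out 0 2).1 hD
  have hφ : Function.Surjective (D.res : D →+* k) := D.res_surjective
  have hmap : ∀ P : Λ[X], (P.map (algebraMap Λ D)).eval₂ (D.res : D →+* k) c = aeval c P := by
    intro P
    rw [Polynomial.eval₂_map, Polynomial.aeval_def]
    congr 1
    exact RingHom.ext fun x => D.res.commutes x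
  obtain ⟨α, hα, hαc⟩ := h (D.res : D →+* k) hφ (G.map (algebraMap Λ D)) (hG.map _) c
    (by rw [hmap]; exact hc)
    (by rw [Polynomial.derivative_map, hmap]; exact hc')
  refine ⟨α, ?_, hαc⟩
  rw [Polynomial.IsRoot.def, Polynomial.eval_map_algebraMap] at hα
  exact hα

end Aux

/-- If k is separable over the image of Λ → k, then for any two morphisms f₁ : A₁ → A and f₂ : A₂ → A in
the category of Artinian local Λ-algebras with residue field k the set-theoretic fibre product A₁
×_A A₂ is again an object of the category. -/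
theorem result {Λ : Type u} {k : Type u} [CommRing Λ] [Field k] [Algebra Λ k]
    [IsNoetherianRing Λ] [Module.Finite Λ k]
    [Algebra.IsSeparable (↥(algebraMap Λ k).range) k]
    {A A₁ A₂ : ArtFun.Art Λ k} (f₁ : A₁ ⟶ A) (f₂ : A₂ ⟶ A) :
    ∃ (B : ArtFun.Art Λ k) (p₁ : B ⟶ A₁) (p₂ : B ⟶ A₂), ArtFun.Art.IsFibreProd p₁ p₂ f₁ f₂ := by
  classical
  haveI : IsLocalHom f₂.toAlgHom := ArtFun.Art.isLocalHom f₂
  haveI : IsLocalRing (AlgHom.pullback f₁.toAlgHom f₂.toAlgHom) :=
    AlgHom.isLocalRing_pullback f₁.toAlgHom f₂.toAlgHom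
  haveI : IsArtinianRing (AlgHom.pullback f₁.toAlgHom f₂.toAlgHom) := by
    haveI := Groth.Agent.S12710.isArtinian_obj A₁
    haveI := Groth.Agent.S12710.isArtinian_obj A₂
    have h1 : IsArtinian Λ (AlgHom.pullback f₁.toAlgHom f₂.toAlgHom) :=
      isArtinian_of_injective (AlgHom.pullback f₁.toAlgHom f₂.toAlgHom).val.toLinearMap
        Subtype.val_injective
    exact isArtinian_of_tower Λ h1
  have hres : Function.Surjective
      (A₁.res.comp (AlgHom.pullbackFst f₁.toAlgHom f₂.toAlgHom)) := by
    intro c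
    -- the minimal polynomial of `c` over the image of `Λ`
    have hint : IsIntegral (↥(algebraMap Λ k).range) c := by
      have h1 : IsIntegral Λ c := Algebra.IsIntegral.isIntegral c
      obtain ⟨P, hP, hPc⟩ := h1
      refine ⟨P.map (algebraMap Λ k).rangeRestrict, hP.map _, ?_⟩
      rw [Polynomial.eval₂_map]
      exact hPc
    have hmon := minpoly.monic hint
    have hsep : (minpoly (↥(algebraMap Λ k).range) c).Separable :=
      Algebra.IsSeparable.isSeparable _ c
    obtain ⟨G, hGg, -, hG⟩ := Polynomial.lifts_and_natDegree_eq_and_monic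
      (Polynomial.mem_lifts_of_surjective (f := (algebraMap Λ k).rangeRestrict)
        (algebraMap Λ k).rangeRestrict_surjective (minpoly (↥(algebraMap Λ k).range) c)) hmon
    have haeval : ∀ P : Polynomial Λ, Polynomial.aeval c P =
        Polynomial.aeval c (P.map (algebraMap Λ k).rangeRestrict) := by
      intro P
      rw [Polynomial.aeval_def, Polynomial.aeval_def, Polynomial.eval₂_map]
      rfl
    have hc : Polynomial.aeval c G = 0 := by
      rw [haeval, hGg]
      exact minpoly.aeval _ c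
    have hc' : Polynomial.aeval c (Polynomial.derivative G) ≠ 0 := by
      rw [haeval, ← Polynomial.derivative_map, hGg]
      exact hsep.aeval_derivative_ne_zero (minpoly.aeval _ c)
    obtain ⟨α₁, hα₁, hα₁c⟩ := exists_root A₁ G hG c hc hc'
    obtain ⟨α₂, hα₂, hα₂c⟩ := exists_root A₂ G hG c hc hc'
    have hr1 : (G.map (algebraMap Λ A)).eval (f₁.toAlgHom α₁) = 0 := by
      rw [Polynomial.eval_map_algebraMap, Polynomial.aeval_algHom_apply, hα₁, map_zero]
    have hr2 : (G.map (algebraMap Λ A)).eval (f₂.toAlgHom α₂) = 0 := by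
      rw [Polynomial.eval_map_algebraMap, Polynomial.aeval_algHom_apply, hα₂, map_zero]
    have hres1 : A.res (f₁.toAlgHom α₁) = c := by
      rw [← hα₁c]
      exact ArtFun.Art.res_app f₁ α₁
    have hres2 : A.res (f₂.toAlgHom α₂) = c := by
      rw [← hα₂c]
      exact ArtFun.Art.res_app f₂ α₂
    have hnu : ¬ IsUnit (f₁.toAlgHom α₁ - f₂.toAlgHom α₂) := by
      rw [← mem_nonunits_iff, ← IsLocalRing.mem_maximalIdeal, ArtFun.Art.mem_maximalIdeal_iff,
        map_sub, hres1, hres2, sub_self]
    have hder : IsUnit ((Polynomial.derivative (G.map (algebraMap Λ A))).eval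
        (f₁.toAlgHom α₁)) := by
      by_contra hcon
      rw [← mem_nonunits_iff, ← IsLocalRing.mem_maximalIdeal, ArtFun.Art.mem_maximalIdeal_iff,
        Polynomial.derivative_map, Polynomial.eval_map_algebraMap,
        ← Polynomial.aeval_algHom_apply, hres1] at hcon
      exact hc' hcon
    have heq : f₁.toAlgHom α₁ = f₂.toAlgHom α₂ :=
      IsLocalRing.eq_of_eval_eq_zero_of_not_isUnit_sub hr1 hr2 hnu hder
    exact ⟨⟨(α₁, α₂), heq⟩, hα₁c⟩
  let B : ArtFun.Art Λ k := ArtFun.Art.of (AlgHom.pullback f₁.toAlgHom f₂.toAlgHom)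
    (A₁.res.comp (AlgHom.pullbackFst f₁.toAlgHom f₂.toAlgHom)) hres
  let p₁ : B ⟶ A₁ := ArtFun.Art.homMk (AlgHom.pullbackFst f₁.toAlgHom f₂.toAlgHom) rfl
  let p₂ : B ⟶ A₂ := ArtFun.Art.homMk (AlgHom.pullbackSnd f₁.toAlgHom f₂.toAlgHom) (by
    apply AlgHom.ext
    intro b
    change A₂.res b.1.2 = A₁.res b.1.1
    rw [← ArtFun.Art.res_app f₂, ← ArtFun.Art.res_app f₁]
    exact congrArg A.res b.2.symm)
  refine ⟨B, p₁, p₂, ?_, ?_, ?_⟩
  · apply ArtFun.Art.hom_ext
    exact AlgHom.pullback_comm_sq f₁.toAlgHom f₂.toAlgHom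
  · intro b₁ b₂ h1 h2
    exact Subtype.ext (Prod.ext h1 h2)
  · intro a' a'' h
    exact ⟨⟨(a', a''), h⟩, rfl, rfl⟩

end Groth.Agent.S12712
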