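import Groth.Statements.S12717
import Groth.Agent.S12707
-- import your own Groth.Agent.* helpers here

set_option autoImplicit false
universe u v
open CategoryTheory
open ArtFun

namespace Groth.Agent.S12717

/-- For functors, a morphism η : F → G of functors on the category of Artinian local Λ-algebras with
residue field k is smooth (F(B) → F(A) ×_{G(A)} G(B) surjective for every surjection B → A) as soon
as this lifting condition holds for all small extensions B → A. -/
theorem result {Λ : Type u} {k : Type u} [CommRing Λ] [Field k] [Algebra Λ k]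
    [IsNoetherianRing Λ] [Module.Finite Λ k]
    {F G : ArtFun.Art Λ k ⥤ Type v} (η : F ⟶ G)
    (h : ∀ ⦃B A : ArtFun.Art Λ k⦄ (μ : B ⟶ A), ArtFun.Art.IsSmallExt μ →
      Function.Surjective (ArtFun.relCmp η μ)) :
    ArtFun.IsSmooth η := by
  intro B A μ hμ
  refine Groth.Agent.S12707.result (Λ := Λ) (k := k)
    (fun A B μ => Function.Surjective (ArtFun.relCmp η μ)) ?_ ?_ ?_ μ hμ
  · -- isomorphisms
    intro A B e he y
    obtain ⟨⟨x, w⟩, hxy⟩ := y
    refine ⟨F.map (inv e) x, ?_⟩
    apply Subtype.ext
    apply Prod.ext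
    · change F.map e (F.map (inv e) x) = x
      rw [← FunctorToTypes.map_comp_apply, IsIso.inv_hom_id, FunctorToTypes.map_id_apply]
    · change η.app B (F.map (inv e) x) = w
      have hxy' : η.app A x = G.map e w := hxy
      rw [FunctorToTypes.naturality, hxy', ← FunctorToTypes.map_comp_apply, IsIso.hom_inv_id,
        FunctorToTypes.map_id_apply]
  · intro A B p hp
    exact h p hp
  · intro A B C p q hp hq y
    obtain ⟨⟨x, w⟩, hxy⟩ := y
    have hxy' : η.app A x = G.map (p ≫ q) w := hxy
    obtain ⟨zB, hzB⟩ := hq ⟨(x, G.map p w), by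
      change η.app A x = G.map q (G.map p w)
      rw [hxy', FunctorToTypes.map_comp_apply]⟩
    have hzB1 : F.map q zB = x := congrArg (fun t => t.1.1) hzB
    have hzB2 : η.app B zB = G.map p w := congrArg (fun t => t.1.2) hzB
    obtain ⟨zC, hzC⟩ := hp ⟨(zB, w), hzB2⟩
    have hzC1 : F.map p zC = zB := congrArg (fun t => t.1.1) hzC
    have hzC2 : η.app C zC = w := congrArg (fun t => t.1.2) hzC
    refine ⟨zC, ?_⟩
    apply Subtype.ext
    apply Prod.ext
    · change F.map (p ≫ q) zC = x
      rw [FunctorToTypes.map_comp_apply, hzC1, hzB1]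
    · exact hzC2

end Groth.Agent.S12717
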