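import Groth.Statements.S12725
import Mathlib
import Groth.Agent.S12707
import Groth.Agent.S12710
import Groth.Agent.Lib.Helper22.ArtFibre
import Groth.Agent.Lib.Helper17.ArtAct

set_option autoImplicit false
universe u v
open CategoryTheory
open ArtFun

namespace Groth.Agent.S12725

open Groth.Agent.Lib.helper17.ArtAct ArtFun.Art

variable {Λ : Type u} {k : Type u} [CommRing Λ] [Field k] [Algebra Λ k]

theorem sq_zero {E : Art Λ k} (hE : IsLocalRing.maximalIdeal E ^ 2 = ⊥) (x y : E)
    (hx : x ∈ IsLocalRing.maximalIdeal E) (hy : y ∈ IsLocalRing.maximalIdeal E) : x * y = 0 := by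
  have h : x * y ∈ IsLocalRing.maximalIdeal E ^ 2 := by
    rw [pow_two]; exact Ideal.mul_mem_mul hx hy
  rw [hE] at h
  exact h

theorem exists_split {E₂ E₁ : Art Λ k} (g : E₂ ⟶ E₁) (hsm : IsSmallExt g) (σ : base Λ k ⟶ E₂)
    (hE : IsLocalRing.maximalIdeal E₂ ^ 2 = ⊥) :
    ∃ π : E₂ ⟶ dual Λ k, IsFibreProd g π (toBase E₁) (toBase (dual Λ k)) := by
  classical
  obtain ⟨t, ht0, hker, ht, htm⟩ := exists_gen g hsm
  let σr : k →+* E₂ := σ.toAlgHom.toRingHom
  letI : Algebra k E₂ := σr.toAlgebra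
  obtain ⟨f, hft⟩ := Module.Projective.exists_dual_eq_one k ht0
  have hσres : ∀ c : k, E₂.res (σr c) = c := fun c => res_app σ c
  have hsmul : ∀ (c : k) (x : E₂), c • x = σr c * x := fun c x => Algebra.smul_def c x
  have hmem : ∀ e : E₂, e - σr (E₂.res e) ∈ IsLocalRing.maximalIdeal E₂ := by
    intro e
    rw [Art.mem_maximalIdeal_iff, map_sub, hσres, sub_self]
  let lam : E₂ → k := fun e => f (e - σr (E₂.res e))
  have lam_add : ∀ e e', lam (e + e') = lam e + lam e' := by
    intro e e'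
    change f _ = f _ + f _
    rw [← map_add]
    congr 1
    rw [map_add, map_add]; ring
  have lam_mul : ∀ e e', lam (e * e') = E₂.res e * lam e' + E₂.res e' * lam e := by
    intro e e'
    have h1 : f (E₂.res e • (e' - σr (E₂.res e')) + E₂.res e' • (e - σr (E₂.res e))) =
        E₂.res e * f (e' - σr (E₂.res e')) + E₂.res e' * f (e - σr (E₂.res e)) := by
      rw [map_add, map_smul, map_smul, smul_eq_mul, smul_eq_mul]
    change f _ = _ * f _ + _ * f _
    rw [← h1]
    congr 1
    rw [hsmul, hsmul, map_mul, map_mul]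
    have h0 := sq_zero hE _ _ (hmem e) (hmem e')
    linear_combination h0
  have lam_mem : ∀ x ∈ IsLocalRing.maximalIdeal E₂, lam x = f x := by
    intro x hx
    change f _ = f x
    rw [(Art.mem_maximalIdeal_iff E₂ x).1 hx, map_zero, sub_zero]
  have lam_alg : ∀ r : Λ, lam (algebraMap Λ E₂ r) = 0 := by
    intro r
    change f _ = 0
    have h1 : E₂.res (algebraMap Λ E₂ r) = algebraMap Λ k r := E₂.res.commutes r
    have h2 : σr (algebraMap Λ k r) = algebraMap Λ E₂ r := σ.toAlgHom.commutes r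
    rw [h1, h2, sub_self, map_zero]
  have lam_one : lam 1 = 0 := by
    change f _ = 0
    rw [map_one, map_one, sub_self, map_zero]
  have lam_zero : lam 0 = 0 := by
    change f _ = 0
    rw [map_zero, map_zero, sub_self, map_zero]
  have lam_st : ∀ c : k, lam (σr c * t) = c := by
    intro c
    have hm : σr c * t ∈ IsLocalRing.maximalIdeal E₂ := Ideal.mul_mem_left _ _ htm
    rw [lam_mem _ hm, ← hsmul, map_smul, hft, smul_eq_mul, mul_one]
  let πa : E₂ →ₐ[Λ] DualNumber k :=
    { toFun := fun e => ((E₂.res e, lam e) : TrivSqZeroExt k k)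
      map_one' := TrivSqZeroExt.ext (map_one _) lam_one
      map_mul' := fun e e' => TrivSqZeroExt.ext (map_mul _ _ _) (by
        change lam (e * e') = E₂.res e • lam e' + MulOpposite.op (E₂.res e') • lam e
        rw [lam_mul, op_smul_eq_smul, smul_eq_mul, smul_eq_mul])
      map_zero' := TrivSqZeroExt.ext (map_zero _) lam_zero
      map_add' := fun e e' => TrivSqZeroExt.ext (map_add _ _ _) (lam_add e e')
      commutes' := fun r => TrivSqZeroExt.ext (by
          change E₂.res (algebraMap Λ E₂ r) = (algebraMap Λ (TrivSqZeroExt k k) r).fst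
          rw [TrivSqZeroExt.algebraMap_eq_inl', TrivSqZeroExt.fst_inl]
          exact E₂.res.commutes r) (by
          change lam (algebraMap Λ E₂ r) = (algebraMap Λ (TrivSqZeroExt k k) r).snd
          rw [TrivSqZeroExt.algebraMap_eq_inl', TrivSqZeroExt.snd_inl]
          exact lam_alg r) }
  let π : E₂ ⟶ dual Λ k := ⟨πa, AlgHom.ext fun _ => rfl⟩
  have hπfst : ∀ e : E₂, TrivSqZeroExt.fst (show TrivSqZeroExt k k from π e) = E₂.res e :=
    fun _ => rfl
  have hπsnd : ∀ e : E₂, TrivSqZeroExt.snd (show TrivSqZeroExt k k from π e) = lam e :=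
    fun _ => rfl
  have hgt : g t = 0 := by
    have : t ∈ RingHom.ker g.toAlgHom := by rw [hker]; exact Ideal.mem_span_singleton_self t
    exact this
  refine ⟨π, ?_, ?_, ?_⟩
  · rw [eq_toBase (g ≫ toBase _), eq_toBase (π ≫ toBase _)]
  · intro e e' hg hπ
    have h1 : e - e' ∈ RingHom.ker g.toAlgHom := by
      rw [RingHom.mem_ker, map_sub, sub_eq_zero]; exact hg
    rw [hker, Ideal.mem_span_singleton'] at h1
    obtain ⟨a, ha⟩ := h1
    have h2 : a * t = σr (E₂.res a) * t := by
      have := ht _ (hmem a)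
      rw [sub_mul, sub_eq_zero] at this
      exact this
    have h3 : lam e = lam e' := by
      have := congrArg (fun z => TrivSqZeroExt.snd (show TrivSqZeroExt k k from z)) hπ
      exact this
    have h4 : lam (e - e') = 0 := by
      have h5 : lam e = lam e' + lam (e - e') := by rw [← lam_add]; congr 1; ring
      rw [h3] at h5
      exact (add_eq_left.mp h5.symm)
    rw [← ha, h2, lam_st] at h4
    rw [h4, map_zero, zero_mul] at h2
    rw [h2] at ha
    exact sub_eq_zero.mp ha.symm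
  · intro e₁ d hd
    have hd' : E₁.res e₁ = TrivSqZeroExt.fst (show TrivSqZeroExt k k from d) := hd
    obtain ⟨e, he⟩ := hsm.1 e₁
    refine ⟨e + σr (TrivSqZeroExt.snd (show TrivSqZeroExt k k from d) - lam e) * t, ?_, ?_⟩
    · change g (e + _ * t) = e₁
      rw [map_add, map_mul, hgt, mul_zero, add_zero]
      exact he
    · apply TrivSqZeroExt.ext
      · change E₂.res (e + _ * t) = TrivSqZeroExt.fst (show TrivSqZeroExt k k from d)
        rw [map_add, map_mul, (Art.mem_maximalIdeal_iff E₂ t).1 htm, mul_zero, add_zero, ← hd', ← he]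
        exact (res_app g e).symm
      · change lam (e + _ * t) = TrivSqZeroExt.snd (show TrivSqZeroExt k k from d)
        rw [lam_add, lam_st]
        ring


/-- the property to be proved, as a predicate on `E`. -/
def Q (F : Art Λ k ⥤ Type v) (E : Art Λ k) : Prop :=
  ∀ ⦃B A : Art Λ k⦄ (p' : B ⟶ A) (p'' : B ⟶ E)
    (h : IsFibreProd p' p'' (toBase A) (toBase E)), Function.Bijective (cmp F h)

theorem bijective_of_isIso {A B : Art Λ k} (e : B ⟶ A) [IsIso e] : Function.Bijective e := by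
  constructor
  · intro x y hxy
    have : (e ≫ inv e) x = (e ≫ inv e) y := by
      change (inv e) (e x) = (inv e) (e y)
      rw [hxy]
    rw [IsIso.hom_inv_id] at this
    exact this
  · intro a
    refine ⟨(inv e) a, ?_⟩
    change (inv e ≫ e) a = a
    rw [IsIso.inv_hom_id]
    rfl

theorem Q_base (F : Art Λ k ⥤ Type v) : Q F (base Λ k) := by
  intro B A p' p'' h
  have hbase : toBase (base Λ k) = 𝟙 _ := (eq_toBase (𝟙 _)).symm
  have hp'bij : Function.Bijective p' := by
    constructor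
    · intro b₁ b₂ hb
      apply h.inj _ _ hb
      have h1 : (toBase A) (p' b₁) = p'' b₁ := h.w_apply b₁
      have h2 : (toBase A) (p' b₂) = p'' b₂ := h.w_apply b₂
      rw [← h1, ← h2, hb]
    · intro a
      obtain ⟨b, hb, -⟩ := h.surj a ((toBase A) a) rfl
      exact ⟨b, hb⟩
  haveI : IsIso p' := Groth.Agent.S12707.isIso_of_bijective p' hp'bij
  constructor
  · apply cmp_injective_of_forall
    intro z₁ z₂ h1 _
    have := congrArg (F.map (inv p')) h1
    rwa [← map_comp_apply, ← map_comp_apply, IsIso.hom_inv_id, map_id_apply, map_id_apply] at this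
  · apply cmp_surjective_of_exists
    intro x e hx
    refine ⟨F.map (inv p') x, ?_, ?_⟩
    · rw [← map_comp_apply, IsIso.inv_hom_id, map_id_apply]
    · rw [hbase, map_id_apply] at hx
      rw [← map_comp_apply, eq_toBase (inv p' ≫ p''), hx]

theorem Q_of_iso (F : Art Λ k ⥤ Type v) {E₂ E₁ : Art Λ k} (e : E₂ ⟶ E₁) [IsIso e]
    (hQ : Q F E₁) : Q F E₂ := by
  intro B A p' p'' h
  have hebij := bijective_of_isIso e
  have h' : IsFibreProd p' (p'' ≫ e) (toBase A) (toBase E₁) := by
    refine ⟨?_, ?_, ?_⟩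
    · rw [eq_toBase (p' ≫ toBase _), eq_toBase ((p'' ≫ e) ≫ toBase _)]
    · intro b₁ b₂ h1 h2
      exact h.inj _ _ h1 (hebij.1 h2)
    · intro a e₁ hae
      obtain ⟨e₂, rfl⟩ := hebij.2 e₁
      have : (toBase A) a = (toBase E₂) e₂ := by
        rw [hae]
        exact res_app e e₂
      obtain ⟨b, hb1, hb2⟩ := h.surj a e₂ this
      exact ⟨b, hb1, congrArg e hb2⟩
  have hbij := hQ p' (p'' ≫ e) h'
  have hFe : Function.Injective (F.map e) := by
    intro y₁ y₂ hy
    have := congrArg (F.map (inv e)) hy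
    rwa [← map_comp_apply, ← map_comp_apply, IsIso.hom_inv_id, map_id_apply, map_id_apply] at this
  constructor
  · apply cmp_injective_of_forall
    intro z₁ z₂ h1 h2
    apply eq_of_cmp_injective h' hbij.1 _ _ h1
    rw [map_comp_apply, map_comp_apply, h2]
  · apply cmp_surjective_of_exists
    intro x y hxy
    obtain ⟨z, hz1, hz2⟩ := exists_of_cmp_surjective h' hbij.2 x (F.map e y) (by
      rw [← map_comp_apply, eq_toBase (e ≫ toBase E₁)]
      exact hxy)
    refine ⟨z, hz1, hFe ?_⟩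
    rw [← map_comp_apply]
    exact hz2

theorem Q_of_small [IsNoetherianRing Λ] [Module.Finite Λ k] {F : Art Λ k ⥤ Type v} (hF : Heps F)
    {E₂ E₁ : Art Λ k} (g : E₂ ⟶ E₁) (hsm : IsSmallExt g) (σ : base Λ k ⟶ E₂)
    (hE : IsLocalRing.maximalIdeal E₂ ^ 2 = ⊥) (hQ : Q F E₁) : Q F E₂ := by
  intro B A p' p'' h
  obtain ⟨π, hπ⟩ := exists_split g hsm σ hE
  obtain ⟨B', d₁, d₂, hD⟩ := Groth.Agent.S12710.result (toBase A) (toBase E₁) E₁.res_surjective
  obtain ⟨r, hr₁, hr₂⟩ := Groth.Agent.Lib.helper22.IsFibreProd.exists_lift hD p' (p'' ≫ g)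
    (by rw [eq_toBase (p' ≫ toBase _), eq_toBase ((p'' ≫ g) ≫ toBase _)])
  have hB : IsFibreProd r (p'' ≫ π) (toBase B') (toBase (dual Λ k)) := by
    refine ⟨?_, ?_, ?_⟩
    · rw [eq_toBase (r ≫ toBase _), eq_toBase ((p'' ≫ π) ≫ toBase _)]
    · intro b b' h1 h2
      have e1 : p' b = p' b' := by
        have := congrArg d₁ h1
        change (r ≫ d₁) b = (r ≫ d₁) b' at this
        rwa [hr₁] at this
      have e2 : g (p'' b) = g (p'' b') := by
        have := congrArg d₂ h1
        change (r ≫ d₂) b = (r ≫ d₂) b' at this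
        rwa [hr₂] at this
      exact h.inj _ _ e1 (hπ.inj _ _ e2 h2)
    · intro b' d hbd
      have hbd' : B'.res b' = (dual Λ k).res d := hbd
      have a1 : A.res (d₁ b') = B'.res b' := res_app d₁ b'
      have a3 : E₁.res (d₂ b') = B'.res b' := res_app d₂ b'
      have h1 : (toBase E₁) (d₂ b') = (toBase (dual Λ k)) d := by
        change E₁.res (d₂ b') = (dual Λ k).res d
        rw [a3, hbd']
      obtain ⟨e, he1, he2⟩ := hπ.surj (d₂ b') d h1
      have a2 : E₁.res (g e) = E₂.res e := res_app g e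
      have h2 : (toBase A) (d₁ b') = (toBase E₂) e := by
        change A.res (d₁ b') = E₂.res e
        rw [a1, ← a2, he1, a3]
      obtain ⟨b, hb1, hb2⟩ := h.surj (d₁ b') e h2
      refine ⟨b, ?_, ?_⟩
      · apply hD.inj
        · change (r ≫ d₁) b = d₁ b'
          rw [hr₁]; exact hb1
        · change (r ≫ d₂) b = d₂ b'
          rw [hr₂]
          change g (p'' b) = _
          rw [hb2, he1]
      · change π (p'' b) = d
        rw [hb2, he2]
  have hBbij := hF r (p'' ≫ π) hB
  have hEbij := hF g π hπ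
  have hB'bij := hQ d₁ d₂ hD
  constructor
  · apply cmp_injective_of_forall
    intro z₁ z₂ h1 h2
    apply eq_of_cmp_injective hB hBbij.1
    · apply eq_of_cmp_injective hD hB'bij.1
      · rw [← map_comp_apply, ← map_comp_apply, hr₁]; exact h1
      · rw [← map_comp_apply, ← map_comp_apply, hr₂, map_comp_apply, map_comp_apply, h2]
    · rw [map_comp_apply, map_comp_apply, h2]
  · apply cmp_surjective_of_exists
    intro x e hxe
    obtain ⟨z', hz'1, hz'2⟩ := exists_of_cmp_surjective hD hB'bij.2 x (F.map g e) (by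
      rw [← map_comp_apply, eq_toBase (g ≫ toBase E₁)]; exact hxe)
    obtain ⟨z, hz1, hz2⟩ := exists_of_cmp_surjective hB hBbij.2 z' (F.map π e) (by
      rw [← map_comp_apply, eq_toBase (π ≫ toBase _), ← hxe, ← hz'1, ← map_comp_apply,
        eq_toBase (d₁ ≫ toBase A)])
    refine ⟨z, ?_, ?_⟩
    · rw [← hr₁, map_comp_apply, hz1, hz'1]
    · apply eq_of_cmp_injective hπ hEbij.1
      · rw [← map_comp_apply, ← hr₂, map_comp_apply, hz1, hz'2]
      · rw [← map_comp_apply]; exact hz2

/-- For functors, if F satisfies (S2) (bijectivity of F(A ×_k k[ε]) → F(A) ×_{F(k)} F(k[ε])), then for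
every object E which is a square-zero extension k ⊕ V of k by a finite-dimensional vector space —
equivalently, m_E² = 0 and the augmentation E → k has a section in the category — and every fibre
product square B = A ×_k E, the map F(B) → F(A) ×_{F(k)} F(E) is bijective. -/
theorem result {Λ : Type u} {k : Type u} [CommRing Λ] [Field k] [Algebra Λ k]
    [IsNoetherianRing Λ] [Module.Finite Λ k]
    {F : ArtFun.Art Λ k ⥤ Type v} (hF : ArtFun.Heps F)
    {E : ArtFun.Art Λ k} (hσ : Nonempty (ArtFun.Art.base Λ k ⟶ E))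
    (hE : IsLocalRing.maximalIdeal E ^ 2 = ⊥)
    ⦃B A : ArtFun.Art Λ k⦄ (p' : B ⟶ A) (p'' : B ⟶ E)
    (h : ArtFun.Art.IsFibreProd p' p'' (ArtFun.Art.toBase A) (ArtFun.Art.toBase E)) :
    Function.Bijective (ArtFun.cmp F h) := by
  obtain ⟨σ⟩ := hσ
  have key := Groth.Agent.S12707.result (Λ := Λ) (k := k)
    (fun E₁ E₂ (g : E₂ ⟶ E₁) => Function.Surjective g ∧
      (Nonempty (ArtFun.Art.base Λ k ⟶ E₂) → IsLocalRing.maximalIdeal E₂ ^ 2 = ⊥ →
        Q F E₁ → Q F E₂))
    ?_ ?_ ?_ (ArtFun.Art.toBase E) E.res_surjective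
  · exact key.2 ⟨σ⟩ hE (Q_base F) p' p'' h
  · intro E₁ E₂ e he
    exact ⟨(bijective_of_isIso e).2, fun _ _ hQ => Q_of_iso F e hQ⟩
  · intro E₁ E₂ g hsm
    exact ⟨hsm.1, fun ⟨σ⟩ hE₂ hQ => Q_of_small hF g hsm σ hE₂ hQ⟩
  · intro A' B' C p q ⟨hps, hp⟩ ⟨hqs, hq⟩
    refine ⟨hqs.comp hps, fun ⟨σ⟩ hC hQA => ?_⟩
    have hB' : IsLocalRing.maximalIdeal B' ^ 2 = ⊥ := by
      rw [eq_bot_iff, pow_two, Ideal.mul_le]
      intro x hx y hy
      obtain ⟨c, rfl⟩ := hps x
      obtain ⟨c', rfl⟩ := hps y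
      have hc : c ∈ IsLocalRing.maximalIdeal C := by
        rw [ArtFun.Art.mem_maximalIdeal_iff, ← ArtFun.Art.res_app p c]
        exact (ArtFun.Art.mem_maximalIdeal_iff B' _).1 hx
      have hc' : c' ∈ IsLocalRing.maximalIdeal C := by
        rw [ArtFun.Art.mem_maximalIdeal_iff, ← ArtFun.Art.res_app p c']
        exact (ArtFun.Art.mem_maximalIdeal_iff B' _).1 hy
      rw [Ideal.mem_bot, ← map_mul, sq_zero hC c c' hc hc', map_zero]
    exact hp ⟨σ⟩ hC (hq ⟨σ ≫ p⟩ hB' hQA)

end Groth.Agent.S12725
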