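import Groth.Statements.S12733
import Groth.Agent.Lib.Helper17.ArtAct
import Mathlib

set_option autoImplicit false
universe u v
open CategoryTheory
open ArtFun

namespace Groth.Agent.S12733
open Groth.Agent.Lib.helper17.ArtAct

/-- Let F, G be deformation functors on Artinian local Λ-algebras with residue field k (value at k a
point, and condition (RS): the comparison map for A₁ ×_A A₂ is bijective whenever A₂ → A is
surjective). A smooth morphism φ : F → G inducing a bijection on tangent spaces is an isomorphism:
every φ_A is bijective. -/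
theorem result {Λ : Type u} {k : Type u} [CommRing Λ] [Field k] [Algebra Λ k]
    [IsNoetherianRing Λ] [Module.Finite Λ k]
    {F G : ArtFun.Art Λ k ⥤ Type v}
    (hF0 : ArtFun.H0 F) (hF : (∀ ⦃B A A' A'' : ArtFun.Art Λ k⦄ (p' : B ⟶ A') (p'' : B ⟶ A'') (f' : A' ⟶ A) (f'' : A'' ⟶ A)
        (h : ArtFun.Art.IsFibreProd p' p'' f' f''), Function.Surjective f'' → Function.Bijective (ArtFun.cmp F h)))
    (hG0 : ArtFun.H0 G) (hG : (∀ ⦃B A A' A'' : ArtFun.Art Λ k⦄ (p' : B ⟶ A') (p'' : B ⟶ A'') (f' : A' ⟶ A) (f'' : A'' ⟶ A)
        (h : ArtFun.Art.IsFibreProd p' p'' f' f''), Function.Surjective f'' → Function.Bijective (ArtFun.cmp G h)))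
    (φ : F ⟶ G) (hφ : ArtFun.IsSmooth φ) (hd : Function.Bijective (ArtFun.TangentSpace.map φ))
    (A : ArtFun.Art Λ k) : Function.Bijective (φ.app A) := by
  classical
  haveI : Subsingleton (F.obj (ArtFun.Art.base Λ k)) := hF0.2
  haveI : Subsingleton (G.obj (ArtFun.Art.base Λ k)) := hG0.2
  constructor
  · have key : Function.Injective (φ.app (ArtFun.Art.base Λ k)) → Function.Injective (φ.app A) := by
      refine Groth.Agent.S12707.result
        (fun A B μ => Function.Injective (φ.app A) → Function.Injective (φ.app B)) ?_ ?_ ?_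
        (ArtFun.Art.toBase A) A.res_surjective
      · intro A B e he hA y₁ y₂ h
        have h1 : F.map e y₁ = F.map e y₂ := by
          apply hA
          rw [NatTrans.naturality_apply φ e y₁, NatTrans.naturality_apply φ e y₂, h]
        have h2 := congrArg (F.map (inv e)) h1
        rwa [← map_comp_apply, ← map_comp_apply, IsIso.hom_inv_id, map_id_apply, map_id_apply] at h2
      · intro A B μ hμ hA y₁ y₂ h
        have hμy : F.map μ y₁ = F.map μ y₂ := by
          apply hA
          rw [NatTrans.naturality_apply φ μ y₁, NatTrans.naturality_apply φ μ y₂, h]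
        obtain ⟨Q, q1, q2, σ, s, hQ, hσ, hs1, hs2, hs3⟩ := exists_sigma μ hμ
        obtain ⟨z, hz1, hz2⟩ := exists_of_cmp_surjective hσ (hF q1 σ μ μ hσ hμ.1).2 y₁ y₂ hμy
        have hφz : φ.app Q z = G.map s (φ.app B y₁) := by
          apply eq_of_cmp_injective hσ (hG q1 σ μ μ hσ hμ.1).1
          · rw [← NatTrans.naturality_apply φ q1 z, hz1, ← map_comp_apply, hs1, map_id_apply]
          · rw [← NatTrans.naturality_apply φ σ z, hz2, ← map_comp_apply, hs2, map_id_apply, h]
        have hv : F.map q2 z = F.map q2 (F.map s y₁) := by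
          apply hd.1
          show φ.app _ (F.map q2 z) = φ.app _ (F.map q2 (F.map s y₁))
          rw [NatTrans.naturality_apply φ q2 z, hφz, NatTrans.naturality_apply φ q2 (F.map s y₁),
            NatTrans.naturality_apply φ s y₁]
        have hz : z = F.map s y₁ := by
          apply eq_of_cmp_injective hQ (hF q1 q2 _ _ hQ (ArtFun.Art.dual Λ k).res_surjective).1
          · rw [hz1, ← map_comp_apply, hs1, map_id_apply]
          · exact hv
        rw [← hz2, hz, ← map_comp_apply, hs2, map_id_apply]
      · intro A B C p q hp hq hA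
        exact hp (hq hA)
    exact key (fun a b _ => Subsingleton.elim a b)
  · intro y
    obtain ⟨pt⟩ := hF0.1
    obtain ⟨z, hz⟩ := hφ (ArtFun.Art.toBase A) A.res_surjective ⟨(pt, y), Subsingleton.elim _ _⟩
    exact ⟨z, congrArg (fun t => t.1.2) hz⟩

end Groth.Agent.S12733
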