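import Groth.Statements.S12734
import Groth.Agent.Lib.Helper17.ProRepCrit
import Groth.Agent.Lib.Helper17.HullStep2

set_option autoImplicit false
universe u v
open CategoryTheory
open ArtFun

namespace Groth.Agent.S12734
open Groth.Agent.Lib.helper17.ArtAct

/-- A functor F on Artinian local Λ-algebras with residue field k is prorepresentable if and only if (a)
F(k) is a point and F satisfies (RS): F(A₁ ×_A A₂) → F(A₁) ×_{F(A)} F(A₂) is bijective whenever A₂ →
A is surjective; (b) its tangent space is finite-dimensional; and (c) the map from morphisms k →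
k[ε] of the category (the Λ-derivations of k) to the tangent space, σ ↦ F(σ)(x₀), is injective.
Condition (c) is empty when k is separable over the image of Λ in k. -/
theorem result {Λ : Type u} {k : Type u} [CommRing Λ] [Field k] [Algebra Λ k]
    [IsNoetherianRing Λ] [Module.Finite Λ k]
    (F : ArtFun.Art Λ k ⥤ Type v) [ArtFun.TangentStr F] :
    ArtFun.IsProrepresentable F ↔
      ((ArtFun.H0 F ∧ (∀ ⦃B A A' A'' : ArtFun.Art Λ k⦄ (p' : B ⟶ A') (p'' : B ⟶ A'') (f' : A' ⟶ A) (f'' : A'' ⟶ A)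
        (h : ArtFun.Art.IsFibreProd p' p'' f' f''), Function.Surjective f'' → Function.Bijective (ArtFun.cmp F h))) ∧
        ArtFun.Hfin F ∧
        ∀ x₀ : F.obj (ArtFun.Art.base Λ k),
          Function.Injective (fun σ : ArtFun.Art.base Λ k ⟶ ArtFun.Art.dual Λ k => F.map σ x₀)) := by
  classical
  constructor
  · rintro ⟨⟨R, ξ, hξ⟩⟩
    let φ₀ : ArtFun.HomSet R.carrier R.res (ArtFun.Art.base Λ k) := ⟨R.res, AlgHom.id_comp _⟩
    have h0 : ArtFun.H0 F := by
      refine ⟨⟨ξ.app _ φ₀⟩, ⟨fun a b => ?_⟩⟩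
      obtain ⟨ψa, rfl⟩ := (hξ _).2 a
      obtain ⟨ψb, rfl⟩ := (hξ _).2 b
      rw [Subsingleton.elim ψa ψb]
    have hle := Groth.Agent.Lib.helper17.ProRepCrit.isLeftExact_of_isUniversal ξ hξ
    have hhull : ArtFun.HasHull F :=
      ⟨⟨R, ξ, Groth.Agent.Lib.helper17.ProRepCrit.isVersal_of_isUniversal ξ hξ, hξ _⟩⟩
    obtain ⟨-, -, hfin⟩ := Groth.Agent.S12731.result F h0 hhull
    refine ⟨⟨h0, fun B A A' A'' p' p'' f' f'' h _ => hle p' p'' f' f'' h⟩, hfin, ?_⟩
    intro x₀ σ σ' hσ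
    have hσ' : F.map σ x₀ = F.map σ' x₀ := hσ
    obtain ⟨ψ, rfl⟩ := (hξ _).2 x₀
    rw [family_natural', family_natural'] at hσ'
    have h1 := (hξ _).1 hσ'
    have hψ : ∀ r, ψ.1 r = R.res r := fun r =>
      congrArg (fun f : R.carrier →ₐ[Λ] k => f r) ψ.2
    apply ArtFun.Art.hom_ext
    apply AlgHom.ext
    intro c
    obtain ⟨r, rfl⟩ := R.res_surjective c
    have h2 := congrArg (fun f : ArtFun.HomSet R.carrier R.res (ArtFun.Art.dual Λ k) => f.1 r) h1
    change σ (ψ.1 r) = σ' (ψ.1 r) at h2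
    rw [hψ] at h2
    exact h2
  · rintro ⟨⟨h0, hRS⟩, hfin, hc⟩
    have hS1 : ArtFun.S1 F := fun B A A' A'' p' p'' f' f'' h hf => (hRS p' p'' f' f'' h hf).2
    have h2 : ArtFun.Heps F := fun B A' p' p'' h =>
      hRS p' p'' _ _ h (ArtFun.Art.dual Λ k).res_surjective
    obtain ⟨⟨R, ξ, hver⟩⟩ := Groth.Agent.Lib.helper17.Schl.hasVersal F h0 hS1 h2 hfin
    obtain ⟨⟨R₁, ξ₁, hver₁, hinj, hsurj⟩⟩ :=
      Groth.Agent.Lib.helper17.HullStep2.hasHull_of_versal' h0 h2 hc R ξ hver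
    refine ⟨⟨R₁, ξ₁, fun A => ⟨?_, ?_⟩⟩⟩
    · exact Groth.Agent.Lib.helper17.ProRepCrit.family_injective hRS ξ₁ hinj A
    · exact Groth.Agent.S12727.surjective_app_of_isVersal h0 ξ₁ hver₁ A

end Groth.Agent.S12734
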