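import Groth.Statements.S12735
import Groth.Agent.LibCR29d
import Groth.Agent.S12716
-- import your own Groth.Agent.* helpers here

set_option autoImplicit false
universe u v
open CategoryTheory
open ArtFun

namespace Groth.Agent.S12735
open Groth.Agent.LibCR29 IsLocalRing

/-- a derivation to the residue field as a tangent vector of `h_R`. -/
def homOfDer {Λ : Type u} {k : Type u} [CommRing Λ] [Field k] [Algebra Λ k] (R : ArtFun.CRing Λ k)
    [Algebra R.carrier k] [IsScalarTower Λ R.carrier k]
    (hres : ∀ r, algebraMap R.carrier k r = R.res r) (D : Derivation Λ R.carrier k) :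
    HomSet R.carrier R.res (Art.dual Λ k) :=
  ⟨{ toFun := fun r => (R.res r, D r)
     map_one' := TrivSqZeroExt.ext (map_one R.res) (by
       change D 1 = 0
       exact D.map_one_eq_zero)
     map_mul' := fun x y => TrivSqZeroExt.ext (map_mul R.res x y) (by
       change D (x * y) = R.res x • D y + MulOpposite.op (R.res y) • D x
       rw [D.leibniz, op_smul_eq_smul, smul_eq_mul, smul_eq_mul, Algebra.smul_def,
         Algebra.smul_def, hres, hres])
     map_zero' := TrivSqZeroExt.ext (map_zero R.res) (by
       change D 0 = 0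
       exact map_zero D)
     map_add' := fun x y => TrivSqZeroExt.ext (map_add R.res x y) (by
       change D (x + y) = D x + D y
       exact map_add D x y)
     commutes' := fun r => TrivSqZeroExt.ext (by
         change R.res (algebraMap Λ R.carrier r) = (algebraMap Λ (TrivSqZeroExt k k) r).fst
         rw [TrivSqZeroExt.algebraMap_eq_inl', TrivSqZeroExt.fst_inl, R.res.commutes]) (by
         change D (algebraMap Λ R.carrier r) = (algebraMap Λ (TrivSqZeroExt k k) r).snd
         rw [TrivSqZeroExt.algebraMap_eq_inl', TrivSqZeroExt.snd_inl, D.map_algebraMap]) },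
    AlgHom.ext fun _ => rfl⟩


/-- Let U be a prorepresentable functor on Artinian local Λ-algebras with residue field k and φ : U → U
an endomorphism of functors which is bijective on the tangent space U(k[ε]). Then φ is an
isomorphism: every component is bijective. -/
theorem result {Λ : Type u} {k : Type u} [CommRing Λ] [Field k] [Algebra Λ k]
    [IsNoetherianRing Λ] [Module.Finite Λ k]
    {U : ArtFun.Art Λ k ⥤ Type v} (hU : ArtFun.IsProrepresentable U)
    (φ : U ⟶ U) (hd : Function.Bijective (ArtFun.TangentSpace.map φ)) (A : ArtFun.Art Λ k) :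
    Function.Bijective (φ.app A) := by
  obtain ⟨⟨R, ξ, hξ⟩⟩ := hU
  obtain ⟨θ, hθres, hθ⟩ := exists_endo_of_universal R ξ hξ φ
  have hsurj : Function.Surjective θ := by
    let _ : Algebra R.carrier k := R.res.toRingHom.toAlgebra
    have : IsScalarTower Λ R.carrier k :=
      IsScalarTower.of_algebraMap_eq (fun x => (R.res.commutes x).symm)
    have : IsAdicComplete (maximalIdeal R.carrier) R.carrier := R.isAdicComplete
    have hres : ∀ r, algebraMap R.carrier k r = R.res r := fun _ => rfl
    refine Groth.Agent.S12716.result R R.carrier R.res_surjective θ ?_ ?_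
    · ext r
      exact congrArg (fun f : R.carrier →ₐ[Λ] k => f r) hθres
    · intro D₁ D₂ h
      have h1 : (⟨(homOfDer R hres D₁).1.comp θ, by
            rw [← AlgHom.comp_assoc, (homOfDer R hres D₁).2, hθres]⟩ :
            HomSet R.carrier R.res (Art.dual Λ k)) =
          ⟨(homOfDer R hres D₂).1.comp θ, by
            rw [← AlgHom.comp_assoc, (homOfDer R hres D₂).2, hθres]⟩ := by
        apply Subtype.ext
        apply AlgHom.ext
        intro r
        exact TrivSqZeroExt.ext rfl (h r)
      have h2 : φ.app _ (ξ.app _ (homOfDer R hres D₁)) = φ.app _ (ξ.app _ (homOfDer R hres D₂)) := by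
        rw [hθ, hθ, h1]
      have h3 := (hξ _).1 (hd.1 h2)
      apply Derivation.ext
      intro r
      exact congrArg (fun u : HomSet R.carrier R.res (Art.dual Λ k) => (u.1 r).snd) h3
  have hinj : Function.Injective θ := injective_of_surjective_ringEnd θ.toRingHom hsurj
  let e : R.carrier ≃ₐ[Λ] R.carrier := AlgEquiv.ofBijective θ ⟨hinj, hsurj⟩
  constructor
  · intro x y hxy
    obtain ⟨u, rfl⟩ := (hξ A).2 x
    obtain ⟨v, rfl⟩ := (hξ A).2 y
    rw [hθ, hθ] at hxy
    have h1 := congrArg Subtype.val ((hξ A).1 hxy)
    have h2 : u.1 = v.1 := (AlgHom.cancel_right hsurj).1 h1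
    rw [Subtype.ext h2]
  · intro y
    obtain ⟨v, rfl⟩ := (hξ A).2 y
    have hres' : R.res.comp (e.symm : R.carrier →ₐ[Λ] R.carrier) = R.res := by
      ext r
      obtain ⟨s, rfl⟩ := hsurj r
      change R.res (e.symm (e s)) = R.res (θ s)
      rw [e.symm_apply_apply]
      exact (congrArg (fun f : R.carrier →ₐ[Λ] k => f s) hθres).symm
    refine ⟨ξ.app A ⟨v.1.comp (e.symm : R.carrier →ₐ[Λ] R.carrier), by
      rw [← AlgHom.comp_assoc, v.2, hres']⟩, ?_⟩
    rw [hθ]
    congr 1
    apply Subtype.ext
    apply AlgHom.ext
    intro r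
    change v.1 (e.symm (e r)) = v.1 r
    rw [e.symm_apply_apply]

end Groth.Agent.S12735
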