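import Groth.Statements.S12736
import Mathlib

set_option autoImplicit false
universe u v
open CategoryTheory
open ArtFun

namespace Groth.Agent.S12736

/-- For functors, let φ : F → G be a morphism of functors on Artinian local Λ-algebras with residue
field k whose values at k are points and which satisfy (S2), with the natural vector space
structures on their tangent spaces. Then the differential dφ : F(k[ε]) → G(k[ε]) is k-linear. -/
theorem result {Λ : Type u} {k : Type u} [CommRing Λ] [Field k] [Algebra Λ k]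
    [IsNoetherianRing Λ] [Module.Finite Λ k]
    {F G : ArtFun.Art Λ k ⥤ Type v} [ArtFun.TangentStr F] [ArtFun.TangentStr G]
    (hF0 : ArtFun.H0 F) (hF2 : ArtFun.Heps F) (hG0 : ArtFun.H0 G) (hG2 : ArtFun.Heps G) (φ : F ⟶ G) :
    ∃ f : ArtFun.TangentSpace F →ₗ[k] ArtFun.TangentSpace G, ⇑f = ArtFun.TangentSpace.map φ := by
  have hnat : ∀ {X Y : ArtFun.Art Λ k} (g : X ⟶ Y) (x : F.obj X),
      φ.app Y (F.map g x) = G.map g (φ.app X x) := fun g x => NatTrans.naturality_apply φ g x
  refine ⟨{ toFun := ArtFun.TangentSpace.map φ, map_add' := ?_, map_smul' := ?_ }, rfl⟩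
  · intro x y
    -- find z in F(k[ε₁, ε₂]) projecting to x and y
    obtain ⟨z, hz⟩ := (hF2 (ArtFun.Art.pr₁ : ArtFun.Art.dual2 Λ k ⟶ _) ArtFun.Art.pr₂
      ArtFun.Art.isFibreProd_dual2).2 ⟨(x, y), Subsingleton.elim (h := hF0.2) _ _⟩
    have hz1 : ArtFun.TangentSpace.mk (F.map ArtFun.Art.pr₁ z) = x := congrArg (fun t => t.1.1) hz
    have hz2 : ArtFun.TangentSpace.mk (F.map ArtFun.Art.pr₂ z) = y := congrArg (fun t => t.1.2) hz
    have hFadd : x + y = ArtFun.TangentSpace.mk (F.map ArtFun.Art.plus z) := by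
      rw [← hz1, ← hz2]
      exact ArtFun.TangentStr.add_eq (F := F) z
    have hGadd : ArtFun.TangentSpace.mk (G.map ArtFun.Art.pr₁ (φ.app _ z)) +
        ArtFun.TangentSpace.mk (G.map ArtFun.Art.pr₂ (φ.app _ z)) =
        ArtFun.TangentSpace.mk (G.map ArtFun.Art.plus (φ.app _ z)) :=
      ArtFun.TangentStr.add_eq (F := G) (φ.app _ z)
    have e1 : ArtFun.TangentSpace.map φ x = ArtFun.TangentSpace.mk (G.map ArtFun.Art.pr₁ (φ.app _ z)) := by
      rw [← hz1]; exact hnat _ z
    have e2 : ArtFun.TangentSpace.map φ y = ArtFun.TangentSpace.mk (G.map ArtFun.Art.pr₂ (φ.app _ z)) := by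
      rw [← hz2]; exact hnat _ z
    have e3 : ArtFun.TangentSpace.map φ (x + y) =
        ArtFun.TangentSpace.mk (G.map ArtFun.Art.plus (φ.app _ z)) := by
      rw [hFadd]; exact hnat _ z
    show ArtFun.TangentSpace.map φ (x + y) = ArtFun.TangentSpace.map φ x + ArtFun.TangentSpace.map φ y
    rw [e1, e2, e3, hGadd]
  · intro c x
    have h1 : c • x = ArtFun.TangentSpace.mk (F.map (ArtFun.Art.scale c) x) :=
      ArtFun.TangentStr.smul_eq (F := F) c x
    have h2 : c • ArtFun.TangentSpace.map φ x =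
        ArtFun.TangentSpace.mk (G.map (ArtFun.Art.scale c) (φ.app _ x)) :=
      ArtFun.TangentStr.smul_eq (F := G) c (φ.app _ x)
    show ArtFun.TangentSpace.map φ (c • x) = c • ArtFun.TangentSpace.map φ x
    rw [h1, h2]
    exact hnat _ x

end Groth.Agent.S12736
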