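import Groth.Statements.S12739
import Groth.Agent.Lib.Helper17.SchlA
import Groth.Agent.S12737
import Groth.Agent.S12714
import Groth.Agent.LibCR29g
-- import your own Groth.Agent.* helpers here

set_option autoImplicit false
universe u v
open CategoryTheory
open ArtFun

namespace Groth.Agent.S12739
open Groth.Agent.LibCR29 Groth.Agent.LibPS29 IsLocalRing

/-- linear algebra: `d` vectors which together with `U` and `K` span a space of dimension `≤ d`
can be corrected by elements of `K` so as to span together with `U`. -/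
theorem exists_correction {κ V : Type*} [Field κ] [AddCommGroup V] [Module κ V]
    [Module.Finite κ V] (d : ℕ) (hd : Module.finrank κ V ≤ d) (U K : Submodule κ V)
    (v : Fin d → V) (h : U ⊔ Submodule.span κ (Set.range v) ⊔ K = ⊤) :
    ∃ c : Fin d → V, (∀ i, c i ∈ K) ∧
      U ⊔ Submodule.span κ (Set.range (fun i => v i + c i)) = ⊤ := by
  classical
  let φ : (Fin d → κ) →ₗ[κ] V := Fintype.linearCombination κ v
  have hφr : LinearMap.range φ = Submodule.span κ (Set.range v) :=
    Fintype.range_linearCombination κ v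
  let T : Submodule κ V := U ⊔ LinearMap.range φ
  have hTK : T ⊔ K = ⊤ := by
    change U ⊔ LinearMap.range φ ⊔ K = ⊤
    rw [hφr]; exact h
  -- dimension count
  have h1 : Module.finrank κ (V ⧸ T) + Module.finrank κ T = Module.finrank κ V :=
    Submodule.finrank_quotient_add_finrank T
  have h2 : Module.finrank κ (LinearMap.range φ) + Module.finrank κ (LinearMap.ker φ) = d := by
    rw [LinearMap.finrank_range_add_finrank_ker, Module.finrank_fin_fun]
  have h3 : Module.finrank κ (LinearMap.range φ) ≤ Module.finrank κ T :=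
    Submodule.finrank_mono le_sup_right
  have h4 : Module.finrank κ (V ⧸ T) ≤ Module.finrank κ (LinearMap.ker φ) := by omega
  obtain ⟨ι, hι⟩ := finrank_le_iff_exists_linearMap.1 h4
  obtain ⟨hh, hhι⟩ := LinearMap.exists_leftInverse_of_injective ι (LinearMap.ker_eq_bot.2 hι)
  have hhs : Function.Surjective hh := fun y => ⟨ι y, by
    have := congrArg (fun f : (V ⧸ T) →ₗ[κ] (V ⧸ T) => f y) hhι
    exact this⟩
  -- the quotient map restricted to `K` is surjective
  let ρK : K →ₗ[κ] V ⧸ T := T.mkQ.comp K.subtype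
  have hρK : LinearMap.range ρK = ⊤ := by
    rw [LinearMap.range_comp, Submodule.range_subtype, eq_top_iff]
    intro y _
    obtain ⟨x, rfl⟩ := Submodule.mkQ_surjective T y
    have hx : x ∈ T ⊔ K := by rw [hTK]; trivial
    obtain ⟨t, ht, z, hz, rfl⟩ := Submodule.mem_sup.1 hx
    refine ⟨z, hz, ?_⟩
    have ht0 : T.mkQ t = 0 := (Submodule.Quotient.mk_eq_zero T).2 ht
    rw [map_add, ht0, zero_add]
  obtain ⟨σ, hσ⟩ := LinearMap.exists_rightInverse_of_surjective ρK hρK
  let g₀ : LinearMap.ker φ →ₗ[κ] V := K.subtype.comp (σ.comp hh)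
  obtain ⟨C, hC⟩ := Submodule.exists_isCompl (LinearMap.ker φ)
  let ψ : (Fin d → κ) →ₗ[κ] V := g₀.comp (Submodule.projectionOnto (LinearMap.ker φ) C hC)
  have hψK : ∀ x, ψ x ∈ K := fun x => Submodule.coe_mem _
  have hψker : ∀ x : LinearMap.ker φ, ψ x = g₀ x := by
    intro x
    change g₀ _ = g₀ x
    rw [Submodule.projectionOnto_apply_left]
  have hψC : ∀ x ∈ C, ψ x = 0 := by
    intro x hx
    change g₀ _ = 0
    rw [(Submodule.projectionOnto_apply_eq_zero_iff hC).2 hx, map_zero]
  have hρg : ∀ x : LinearMap.ker φ, T.mkQ (g₀ x) = hh x := by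
    intro x
    have := congrArg (fun f : (V ⧸ T) →ₗ[κ] (V ⧸ T) => f (hh x)) hσ
    exact this
  refine ⟨fun i => ψ (Pi.single i 1), fun i => hψK _, ?_⟩
  have hsum : Fintype.linearCombination κ (fun i => v i + ψ (Pi.single i 1)) = φ + ψ := by
    apply LinearMap.pi_ext'
    intro i
    apply LinearMap.ext_ring
    simp only [LinearMap.coe_comp, LinearMap.coe_single, Function.comp_apply, LinearMap.add_apply]
    rw [Fintype.linearCombination_apply_single, one_smul]
    change _ = Fintype.linearCombination κ v (Pi.single i 1) + _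
    rw [Fintype.linearCombination_apply_single, one_smul]
  rw [← Fintype.range_linearCombination, hsum, eq_top_iff]
  intro y _
  obtain ⟨n, hn⟩ := hhs (T.mkQ y)
  have h5 : y - g₀ n ∈ T := by
    rw [← Submodule.Quotient.mk_eq_zero, Submodule.Quotient.mk_sub]
    change T.mkQ y - T.mkQ (g₀ n) = 0
    rw [hρg, hn, sub_self]
  obtain ⟨u, hu, t, ⟨x₀, rfl⟩, hut⟩ := Submodule.mem_sup.1 h5
  obtain ⟨n₀, c₀, hx₀, -⟩ := Submodule.existsUnique_add_of_isCompl hC x₀
  have h6 : φ x₀ = φ c₀ := by
    rw [← hx₀, map_add]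
    have : φ (n₀ : Fin d → κ) = 0 := n₀.2
    rw [this, zero_add]
  have h7 : (φ + ψ) ((n : Fin d → κ) + c₀) = g₀ n + φ c₀ := by
    rw [LinearMap.add_apply, map_add, map_add, hψker, hψC _ c₀.2, add_zero]
    have : φ (n : Fin d → κ) = 0 := n.2
    rw [this, zero_add, add_comm]
  have h8 : y = u + (φ + ψ) ((n : Fin d → κ) + c₀) := by
    rw [h7, ← h6]
    have : y = (y - g₀ n) + g₀ n := by abel
    rw [this, ← hut]
    abel
  rw [h8]
  exact Submodule.add_mem_sup hu ⟨_, rfl⟩


section cot
variable {A : Type u} [CommRing A] [IsLocalRing A] [IsNoetherianRing A]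

/-- the image of an ideal in the cotangent space. -/
noncomputable def img (I : Ideal A) : Submodule (ResidueField A) (CotangentSpace A) :=
  Submodule.span (ResidueField A) ((maximalIdeal A).toCotangent ''
    (Submodule.comap (maximalIdeal A).subtype I : Set (maximalIdeal A)))

omit [IsNoetherianRing A] in
theorem mem_img (I : Ideal A) (x : CotangentSpace A) (hx : x ∈ img I) :
    ∃ y : maximalIdeal A, (y : A) ∈ I ∧ (maximalIdeal A).toCotangent y = x := by
  have h1 : (img I : Set (CotangentSpace A)) = Submodule.span A ((maximalIdeal A).toCotangent ''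
      (Submodule.comap (maximalIdeal A).subtype I : Set (maximalIdeal A))) :=
    Submodule.coe_span_eq_span_of_surjective (R := A) (A := ResidueField A)
      Ideal.Quotient.mk_surjective _
  have h2 : x ∈ (img I : Set (CotangentSpace A)) := hx
  rw [h1, ← Submodule.map_coe, Submodule.span_eq] at h2
  obtain ⟨y, hy, hyx⟩ := h2
  exact ⟨y, hy, hyx⟩

theorem sup_eq_iff (J K : Ideal A) (hJ : J ≤ maximalIdeal A) (hK : K ≤ maximalIdeal A) (d : ℕ)
    (b : Fin d → maximalIdeal A) :
    J ⊔ Ideal.span (Set.range fun i => (b i : A)) ⊔ K = maximalIdeal A ↔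
      img J ⊔ Submodule.span (ResidueField A)
        (Set.range fun i => (maximalIdeal A).toCotangent (b i)) ⊔ img K = ⊤ := by
  have e1 : img J ⊔ Submodule.span (ResidueField A)
        (Set.range fun i => (maximalIdeal A).toCotangent (b i)) ⊔ img K =
      Submodule.span (ResidueField A) ((maximalIdeal A).toCotangent ''
        ((Submodule.comap (maximalIdeal A).subtype J : Set (maximalIdeal A)) ∪ Set.range b ∪
          (Submodule.comap (maximalIdeal A).subtype K : Set (maximalIdeal A)))) := by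
    rw [Set.image_union, Set.image_union, Submodule.span_union, Submodule.span_union,
      ← Set.range_comp]
    rfl
  rw [e1, CotangentSpace.span_image_eq_top_iff, Submodule.span_union, Submodule.span_union,
    Submodule.span_eq, Submodule.span_eq,
    ← (Submodule.map_injective_of_injective (maximalIdeal A).injective_subtype).eq_iff,
    Submodule.map_sup, Submodule.map_sup, Submodule.map_comap_subtype, Submodule.map_comap_subtype,
    Submodule.map_span, ← Set.range_comp, Submodule.map_top, Submodule.range_subtype,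
    inf_eq_right.2 hJ, inf_eq_right.2 hK]
  rfl

theorem exists_ring_correction (d : ℕ)
    (hd : Module.finrank (ResidueField A) (CotangentSpace A) ≤ d)
    (J K : Ideal A) (hJ : J ≤ maximalIdeal A) (hK : K ≤ maximalIdeal A)
    (a : Fin d → A) (ha : ∀ i, a i ∈ maximalIdeal A)
    (h : J ⊔ Ideal.span (Set.range a) ⊔ K = maximalIdeal A) :
    ∃ c : Fin d → A, (∀ i, c i ∈ K) ∧
      J ⊔ Ideal.span (Set.range (fun i => a i + c i)) = maximalIdeal A := by
  let a' : Fin d → maximalIdeal A := fun i => ⟨a i, ha i⟩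
  have h1 := (sup_eq_iff J K hJ hK d a').1 h
  obtain ⟨cb, hcb, hcb2⟩ := exists_correction d hd (img J) (img K) _ h1
  have h2 : ∀ i, ∃ y : maximalIdeal A, (y : A) ∈ K ∧ (maximalIdeal A).toCotangent y = cb i :=
    fun i => mem_img K (cb i) (hcb i)
  choose c' hc'K hc' using h2
  refine ⟨fun i => (c' i : A), hc'K, ?_⟩
  have h3 := (sup_eq_iff J ⊥ hJ bot_le d (fun i => a' i + c' i)).2 (by
    have h4 : img (⊥ : Ideal A) = ⊥ := by
      unfold img
      rw [Submodule.span_eq_bot]
      rintro _ ⟨y, hy, rfl⟩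
      have hy0 : y = 0 := Subtype.ext hy
      rw [hy0, map_zero]
    rw [h4, sup_bot_eq, ← hcb2]
    congr 3
    funext i
    rw [map_add, hc'])
  rw [sup_bot_eq] at h3
  exact h3

end cot


section art
variable {Λ k : Type u} [CommRing Λ] [Field k] [Algebra Λ k]

/-- an Artinian object as a coefficient ring -/
noncomputable def toCRing (A : Art Λ k) : CRing Λ k :=
  { carrier := A
    isNoetherianRing := inferInstance
    res := A.res
    res_surjective := A.res_surjective
    isAdicComplete := inferInstance }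

theorem homSet_res {R : Type u} [CommRing R] [Algebra Λ R] {resR : R →ₐ[Λ] k} {A : Art Λ k}
    (p : HomSet R resR A) (x : R) : A.res (p.1 x) = resR x :=
  congrArg (fun g : R →ₐ[Λ] k => g x) p.2

theorem homSet_mem_max {R : CRing Λ k} {A : Art Λ k} (p : HomSet R.carrier R.res A)
    (x : R.carrier) : p.1 x ∈ maximalIdeal A ↔ x ∈ maximalIdeal R.carrier := by
  rw [Art.mem_maximalIdeal_iff, homSet_res, ← ArtFun.CRing.mem_maximalIdeal_iff]

theorem exists_nilp (A : Art Λ k) : ∃ N : ℕ, ∀ z ∈ maximalIdeal A, z ^ (N + 1 + 1) = 0 := by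
  obtain ⟨N, hN⟩ := (isArtinianRing_iff_isNilpotent_maximalIdeal A).1 inferInstance
  have hN : maximalIdeal A ^ N = ⊥ := hN
  refine ⟨N, fun z hz => ?_⟩
  have h1 : z ^ N ∈ maximalIdeal A ^ N := Ideal.pow_mem_pow hz N
  rw [hN, Ideal.mem_bot] at h1
  rw [pow_succ, pow_succ, h1, zero_mul, zero_mul]

/-- the inclusion of the coefficients into the power series ring -/
noncomputable def Cₐ (W : CRing Λ k) (d : ℕ) : W.carrier →ₐ[Λ] (psCRing W d).carrier :=
  { (MvPowerSeries.C : W.carrier →+* MvPowerSeries (Fin d) W.carrier) with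
    commutes' := fun l => by
      change MvPowerSeries.C (algebraMap Λ W.carrier l) =
        algebraMap Λ (MvPowerSeries (Fin d) W.carrier) l
      rw [MvPowerSeries.algebraMap_apply] }

theorem Cₐ_apply (W : CRing Λ k) (d : ℕ) (r : W.carrier) :
    Cₐ W d r = (MvPowerSeries.C r : MvPowerSeries (Fin d) W.carrier) := rfl

theorem res_Cₐ (W : CRing Λ k) (d : ℕ) : (psCRing W d).res.comp (Cₐ W d) = W.res := by
  apply AlgHom.ext
  intro r
  change W.res (MvPowerSeries.constantCoeff (MvPowerSeries.C r)) = _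
  rw [MvPowerSeries.constantCoeff_C]

theorem exists_hom (W : CRing Λ k) (d : ℕ) (A : Art Λ k) (w : HomSet W.carrier W.res A)
    (z : Fin d → A) (hz : ∀ i, z i ∈ maximalIdeal A) :
    ∃ p : HomSet (psCRing W d).carrier (psCRing W d).res A,
      (∀ r : W.carrier, p.1 (MvPowerSeries.C r : MvPowerSeries (Fin d) W.carrier) = w.1 r) ∧
        ∀ i, p.1 (MvPowerSeries.X i : MvPowerSeries (Fin d) W.carrier) = z i := by
  obtain ⟨N, hN⟩ := exists_nilp A
  have hzN : ∀ i, z i ^ (N + 1 + 1) = 0 := fun i => hN _ (hz i)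
  let _ : Algebra W.carrier A := w.1.toRingHom.toAlgebra
  have : IsScalarTower Λ W.carrier A :=
    IsScalarTower.of_algebraMap_eq (fun l => (w.1.commutes l).symm)
  let ψ' : MvPowerSeries (Fin d) W.carrier →ₐ[W.carrier] A := ev z (N + 1) hzN
  let ψ : MvPowerSeries (Fin d) W.carrier →ₐ[Λ] A := ψ'.restrictScalars Λ
  have hψX : ∀ i, ψ (MvPowerSeries.X i) = z i :=
    fun i => ev_X z (N + 1) (Nat.le_add_left 1 N) hzN i
  have hψC : ∀ r : W.carrier, ψ (MvPowerSeries.C r) = w.1 r := by
    intro r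
    have : (MvPowerSeries.C r : MvPowerSeries (Fin d) W.carrier) =
        algebraMap W.carrier (MvPowerSeries (Fin d) W.carrier) r := by
      rw [MvPowerSeries.algebraMap_apply]; rfl
    rw [this]
    exact ψ'.commutes r
  have hspan : ∀ g ∈ Ideal.span (Set.range
      (MvPowerSeries.X : Fin d → MvPowerSeries (Fin d) W.carrier)), ψ g ∈ maximalIdeal A := by
    intro g hg
    have h1 : ψ.toRingHom g ∈ (Ideal.span (Set.range
      (MvPowerSeries.X : Fin d → MvPowerSeries (Fin d) W.carrier))).map ψ.toRingHom :=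
      Ideal.mem_map_of_mem _ hg
    rw [Ideal.map_span] at h1
    refine (Ideal.span_le.2 ?_) h1
    rintro _ ⟨_, ⟨i, rfl⟩, rfl⟩
    exact (hψX i).symm ▸ hz i
  have hres : A.res.comp ψ = (psCRing W d).res := by
    apply AlgHom.ext
    intro g
    have h1 : g = MvPowerSeries.C (MvPowerSeries.constantCoeff g) +
        (g - MvPowerSeries.C (MvPowerSeries.constantCoeff g)) := by ring
    have h2 := hspan _ (sub_C_mem_span_X g)
    rw [Art.mem_maximalIdeal_iff] at h2
    rw [AlgHom.comp_apply]
    conv_lhs => rw [h1]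
    rw [map_add, map_add, h2, add_zero, hψC, homSet_res]
    rfl
  exact ⟨⟨ψ, hres⟩, hψC, hψX⟩

theorem hom_ext_ps (W : CRing Λ k) (d : ℕ) (A : Art Λ k)
    (p p' : HomSet (psCRing W d).carrier (psCRing W d).res A)
    (hC : ∀ r : W.carrier, p.1 (MvPowerSeries.C r : MvPowerSeries (Fin d) W.carrier) =
      p'.1 (MvPowerSeries.C r : MvPowerSeries (Fin d) W.carrier))
    (hX : ∀ i, p.1 (MvPowerSeries.X i : MvPowerSeries (Fin d) W.carrier) =
      p'.1 (MvPowerSeries.X i : MvPowerSeries (Fin d) W.carrier)) : p = p' := by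
  obtain ⟨N, hN⟩ := exists_nilp A
  let z : Fin d → A := fun i => p.1 (MvPowerSeries.X i : MvPowerSeries (Fin d) W.carrier)
  have hz : ∀ i, z i ∈ maximalIdeal A := by
    intro i
    rw [homSet_mem_max]
    exact X_mem_maximalIdeal_ps i
  have hzN : ∀ i, z i ^ (N + 1 + 1) = 0 := fun i => hN _ (hz i)
  let _ : Algebra W.carrier A := (p.1.comp (Cₐ W d)).toRingHom.toAlgebra
  let pW : MvPowerSeries (Fin d) W.carrier →ₐ[W.carrier] A :=
    { p.1.toRingHom with
      commutes' := fun r => by
        change p.1 (algebraMap W.carrier (MvPowerSeries (Fin d) W.carrier) r) = p.1 (Cₐ W d r)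
        rw [MvPowerSeries.algebraMap_apply]; rfl }
  let pW' : MvPowerSeries (Fin d) W.carrier →ₐ[W.carrier] A :=
    { p'.1.toRingHom with
      commutes' := fun r => by
        change p'.1 (algebraMap W.carrier (MvPowerSeries (Fin d) W.carrier) r) = p.1 (Cₐ W d r)
        rw [MvPowerSeries.algebraMap_apply, Cₐ_apply, hC]; rfl }
  have h1 : pW = ev z (N + 1) hzN :=
    algHom_eq_ev (A := W.carrier) (E := A) z (N + 1) hzN pW (fun i => rfl)
  have h2 : pW' = ev z (N + 1) hzN :=
    algHom_eq_ev (A := W.carrier) (E := A) z (N + 1) hzN pW' (fun i => (hX i).symm)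
  apply Subtype.ext
  apply AlgHom.ext
  intro s
  have := congrArg (fun g : MvPowerSeries (Fin d) W.carrier →ₐ[W.carrier] A => g s)
    (h1.trans h2.symm)
  exact this

end art


section tower
variable {Λ k : Type u} [CommRing Λ] [Field k] [Algebra Λ k]

theorem exists_surj_lift (W : CRing Λ k) (hW : IsSmoothFunctor (hR W.carrier W.res)) (d : ℕ)
    {B A : Art Λ k} (μ : B ⟶ A) (hμ : Function.Surjective μ)
    (hd : Module.finrank (ResidueField B) (CotangentSpace B) ≤ d)
    (p : HomSet (psCRing W d).carrier (psCRing W d).res A) (hp : Function.Surjective p.1) :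
    ∃ p' : HomSet (psCRing W d).carrier (psCRing W d).res B,
      HomSet.map μ p' = p ∧ Function.Surjective p'.1 := by
  let wA : HomSet W.carrier W.res A := ⟨p.1.comp (Cₐ W d), by
    rw [← AlgHom.comp_assoc, p.2, res_Cₐ]⟩
  obtain ⟨wB, hwB⟩ := hW μ hμ wA
  have hwB' : ∀ r : W.carrier, μ (wB.1 r) = p.1 (MvPowerSeries.C r) := fun r =>
    congrArg (fun g : W.carrier →ₐ[Λ] A => g r) (congrArg Subtype.val hwB)
  let z : Fin d → A := fun i => p.1 (MvPowerSeries.X i : MvPowerSeries (Fin d) W.carrier)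
  have hz : ∀ i, z i ∈ maximalIdeal A := by
    intro i
    rw [homSet_mem_max]
    exact X_mem_maximalIdeal_ps i
  have ha : ∀ i, ∃ b : B, μ b = z i := fun i => hμ _
  choose a' ha' using ha
  have ha'm : ∀ i, a' i ∈ maximalIdeal B := by
    intro i
    rw [Art.mem_maximalIdeal_iff, ← Art.res_app μ, ha', ← Art.mem_maximalIdeal_iff]
    exact hz i
  let J : Ideal B := Ideal.map wB.1.toRingHom (maximalIdeal W.carrier)
  let K : Ideal B := RingHom.ker μ.toAlgHom.toRingHom
  have hJ : J ≤ maximalIdeal B := by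
    rw [Ideal.map_le_iff_le_comap]
    intro r hr
    rw [Ideal.mem_comap]
    exact (homSet_mem_max wB r).2 hr
  have hK : K ≤ maximalIdeal B := by
    intro x hx
    have hx' : μ x = 0 := hx
    rw [Art.mem_maximalIdeal_iff, ← Art.res_app μ, hx', map_zero]
  have hsup : J ⊔ Ideal.span (Set.range a') ⊔ K = maximalIdeal B := by
    apply le_antisymm
    · refine sup_le (sup_le hJ (Ideal.span_le.2 ?_)) hK
      rintro _ ⟨i, rfl⟩
      exact ha'm i
    · intro y hy
      obtain ⟨(s : MvPowerSeries (Fin d) W.carrier), hs⟩ := hp (μ y)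
      have hsm : s ∈ maximalIdeal (MvPowerSeries (Fin d) W.carrier) := by
        refine (homSet_mem_max p s).1 ?_
        rw [hs, Art.mem_maximalIdeal_iff, Art.res_app μ, ← Art.mem_maximalIdeal_iff]
        exact hy
      have hc₀ : MvPowerSeries.constantCoeff s ∈ maximalIdeal W.carrier :=
        (mem_maximalIdeal_ps_iff s).1 hsm
      obtain ⟨t, htdef⟩ : ∃ t : MvPowerSeries (Fin d) W.carrier,
          t = s - MvPowerSeries.C (MvPowerSeries.constantCoeff s) := ⟨_, rfl⟩
      have ht : t ∈ Ideal.span (Set.range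
          (MvPowerSeries.X : Fin d → MvPowerSeries (Fin d) W.carrier)) := by
        rw [htdef]; exact sub_C_mem_span_X s
      have hst : s = MvPowerSeries.C (MvPowerSeries.constantCoeff s) + t := by
        rw [htdef]; ring
      obtain ⟨pr, hpr⟩ : ∃ pr : MvPowerSeries (Fin d) W.carrier →+* A, ∀ x, pr x = p.1 x :=
        ⟨p.1.toRingHom, fun _ => rfl⟩
      have hpt : pr t ∈
          Ideal.map μ.toAlgHom.toRingHom (Ideal.span (Set.range a')) := by
        have h1 := Ideal.mem_map_of_mem pr ht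
        rw [Ideal.map_span, ← Set.range_comp] at h1
        rw [Ideal.map_span, ← Set.range_comp]
        have h2 : (μ.toAlgHom.toRingHom ∘ a') = (pr ∘ MvPowerSeries.X) := by
          funext i
          exact (ha' i).trans (hpr _).symm
        rw [h2]
        exact h1
      obtain ⟨t', ht', ht'eq⟩ := (Ideal.mem_map_iff_of_surjective μ.toAlgHom.toRingHom hμ).1 hpt
      have hy' : y - (wB.1 (MvPowerSeries.constantCoeff s) + t') ∈ K := by
        change μ (y - (wB.1 (MvPowerSeries.constantCoeff s) + t')) = 0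
        have e1 : μ t' = p.1 t := ht'eq.trans (hpr t)
        have e2 : ∀ u v : B, μ (u - v) = μ u - μ v := fun u v => map_sub μ.toAlgHom u v
        have e3 : ∀ u v : B, μ (u + v) = μ u + μ v := fun u v => map_add μ.toAlgHom u v
        have e4 : p.1 s = p.1 (MvPowerSeries.C (MvPowerSeries.constantCoeff s)) + p.1 t := by
          conv_lhs => rw [hst]
          exact map_add p.1 _ _
        rw [e2, e3, hwB', e1, ← hs, e4, sub_self]
      have hy2 : y = (wB.1 (MvPowerSeries.constantCoeff s) + t') +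
          (y - (wB.1 (MvPowerSeries.constantCoeff s) + t')) := by ring
      rw [hy2]
      refine Ideal.add_mem _ (Ideal.add_mem _ ?_ ?_) (Ideal.mem_sup_right hy')
      · exact Ideal.mem_sup_left (Ideal.mem_sup_left (Ideal.mem_map_of_mem wB.1.toRingHom hc₀))
      · exact Ideal.mem_sup_left (Ideal.mem_sup_right ht')
  obtain ⟨c, hcK, hc⟩ := exists_ring_correction d hd J K hJ hK a' ha'm hsup
  obtain ⟨p', hp'C, hp'X⟩ := exists_hom W d B wB (fun i => a' i + c i)
    (fun i => Ideal.add_mem _ (ha'm i) (hK (hcK i)))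
  refine ⟨p', ?_, ?_⟩
  · apply hom_ext_ps
    · intro r
      change μ (p'.1 (MvPowerSeries.C r)) = _
      rw [hp'C, hwB']
    · intro i
      change μ (p'.1 (MvPowerSeries.X i)) = _
      rw [hp'X]
      have e3 : ∀ u v : B, μ (u + v) = μ u + μ v := fun u v => map_add μ.toAlgHom u v
      have hci : μ (c i) = 0 := hcK i
      rw [e3, ha', hci, add_zero]
  · apply Groth.Agent.S12714.surjective_of_map_eq (psCRing W d) (toCRing B) p'.1 p'.2
    apply le_antisymm
      (Groth.Agent.S12714.map_le_maximalIdeal (psCRing W d) (toCRing B) p'.1 p'.2)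
    change maximalIdeal B ≤ Ideal.map p'.1.toRingHom (maximalIdeal (psCRing W d).carrier)
    rw [← hc]
    refine sup_le ?_ (Ideal.span_le.2 ?_)
    · rw [Ideal.map_le_iff_le_comap]
      intro r hr
      rw [Ideal.mem_comap]
      change wB.1 r ∈ _
      rw [← hp'C]
      have hCr : (MvPowerSeries.C r : MvPowerSeries (Fin d) W.carrier) ∈
          maximalIdeal (MvPowerSeries (Fin d) W.carrier) := by
        rw [mem_maximalIdeal_ps_iff, MvPowerSeries.constantCoeff_C]
        exact hr
      exact Ideal.mem_map_of_mem p'.1.toRingHom hCr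
    · rintro _ ⟨i, rfl⟩
      change a' i + c i ∈ _
      rw [← hp'X]
      exact Ideal.mem_map_of_mem p'.1.toRingHom (X_mem_maximalIdeal_ps i)

theorem exists_tower [IsNoetherianRing Λ] [Module.Finite Λ k]
    (A : ℕ → Art Λ k) (f : ∀ n, A (n + 1) ⟶ A n) (hf : ∀ n, Function.Surjective (f n))
    (d : ℕ) (hd : ∀ n, Module.finrank (ResidueField (A n)) (CotangentSpace (A n)) ≤ d) :
    ∃ (P : CRing Λ k) (p : ∀ n, HomSet P.carrier P.res (A n)),
      (∀ n, HomSet.map (f n) (p (n + 1)) = p n) ∧ ∀ n, Function.Surjective (p n).1 := by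
  obtain ⟨W, hW⟩ := Groth.Agent.S12737.result (Λ := Λ) (k := k)
  obtain ⟨p0, -, hp0⟩ := exists_surj_lift W hW d (Art.toBase (A 0)) (A 0).res_surjective (hd 0)
    (⟨(psCRing W d).res, AlgHom.id_comp _⟩ :
      HomSet (psCRing W d).carrier (psCRing W d).res (Art.base Λ k))
    (psCRing W d).res_surjective
  have step : ∀ n (q : {p : HomSet (psCRing W d).carrier (psCRing W d).res (A n) //
      Function.Surjective p.1}),
      ∃ q' : {p : HomSet (psCRing W d).carrier (psCRing W d).res (A (n + 1)) //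
        Function.Surjective p.1}, HomSet.map (f n) q'.1 = q.1 := by
    intro n q
    obtain ⟨p', h1, h2⟩ := exists_surj_lift W hW d (f n) (hf n) (hd (n + 1)) q.1 q.2
    exact ⟨⟨p', h2⟩, h1⟩
  choose nxt hnxt using step
  let seq : ∀ n, {p : HomSet (psCRing W d).carrier (psCRing W d).res (A n) //
      Function.Surjective p.1} := fun n => Nat.rec ⟨p0, hp0⟩ (fun n q => nxt n q) n
  exact ⟨psCRing W d, fun n => (seq n).1, fun n => hnxt n (seq n), fun n => (seq n).2⟩

end tower


section main
variable {Λ k : Type u} [CommRing Λ] [Field k] [Algebra Λ k]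

open Groth.Agent.Lib.helper17 in
theorem main_of_tower (A : ℕ → Art Λ k) (f : ∀ n, A (n + 1) ⟶ A n)
    (P : CRing Λ k) (p : ∀ n, HomSet P.carrier P.res (A n))
    (hcompat : ∀ n, HomSet.map (f n) (p (n + 1)) = p n)
    (hsurj : ∀ n, Function.Surjective (p n).1) :
    ∃ (S : CRing Λ k) (π : ∀ n, HomSet S.carrier S.res (A n)),
      (∀ n, HomSet.map (f n) (π (n + 1)) = π n) ∧
      (∀ n, Function.Surjective (π n).1) ∧
      (∀ a : ∀ n, A n, (∀ n, f n (a (n + 1)) = a n) →
        ∃! s : S.carrier, ∀ n, (π n).1 s = a n) ∧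
      (∀ n, ∃ N, RingHom.ker (π N).1 ≤ maximalIdeal S.carrier ^ n) ∧
      (∀ n, ∃ N, maximalIdeal S.carrier ^ N ≤ RingHom.ker (π n).1) := by
  classical
  have hpf : ∀ n x, (p n).1 x = f n ((p (n + 1)).1 x) := by
    intro n x
    rw [← hcompat n]; rfl
  let J : ℕ → Ideal P.carrier := fun n => RingHom.ker (p n).1
  have hJmem : ∀ n x, x ∈ J n ↔ (p n).1 x = 0 := fun n x => Iff.rfl
  have hJ1 : ∀ n, J (n + 1) ≤ J n := by
    intro n x hx
    rw [hJmem] at hx ⊢
    rw [hpf, hx]
    exact map_zero (f n).toAlgHom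
  have hJ : Antitone J := antitone_nat_of_succ_le hJ1
  have hJm : ∀ n, J n ≤ maximalIdeal P.carrier := by
    intro n x hx
    rw [hJmem] at hx
    rw [← homSet_mem_max (p n), hx]
    exact zero_mem _
  obtain ⟨K, hKdef⟩ : ∃ K : Ideal P.carrier, K = ⨅ n, J n := ⟨_, rfl⟩
  have hKJ : ∀ n, K ≤ J n := fun n => hKdef ▸ iInf_le J n
  have hK : K ≤ maximalIdeal P.carrier := (hKJ 0).trans (hJm 0)
  obtain ⟨Q, q, hq, hqker, hqres⟩ := exists_quot P K hK
  have hπ : ∀ n, ∃ ψ : HomSet Q.carrier Q.res (A n), ψ.1.comp q = (p n).1 := fun n =>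
    Schl.exists_fac_ring q hq hqres (p n) (by rw [hqker]; exact hKJ n)
  choose π hπ using hπ
  have hπq : ∀ n x, (π n).1 (q x) = (p n).1 x := fun n x =>
    congrArg (fun g : P.carrier →ₐ[Λ] A n => g x) (hπ n)
  have hqK : ∀ x, q x = 0 ↔ x ∈ K := by
    intro x
    rw [← hqker]; rfl
  have hqm : ∀ x, x ∈ maximalIdeal P.carrier → q x ∈ maximalIdeal Q.carrier := by
    intro x hx
    rw [ArtFun.CRing.mem_maximalIdeal_iff] at hx ⊢
    rw [← hx, ← hqres]; rfl
  have hqpow : ∀ n x, x ∈ maximalIdeal P.carrier ^ n → q x ∈ maximalIdeal Q.carrier ^ n := by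
    intro n x hx
    have h1 : q.toRingHom x ∈ Ideal.map q.toRingHom (maximalIdeal P.carrier ^ n) :=
      Ideal.mem_map_of_mem _ hx
    rw [Ideal.map_pow] at h1
    refine Ideal.pow_right_mono ?_ n h1
    rw [Ideal.map_le_iff_le_comap]
    intro x hx
    exact hqm x hx
  have hqKm : ∀ n x, x ∈ K ⊔ maximalIdeal P.carrier ^ n → q x ∈ maximalIdeal Q.carrier ^ n := by
    intro n x hx
    obtain ⟨κ, hκ, μ, hμ, rfl⟩ := Submodule.mem_sup.1 hx
    rw [map_add, (hqK κ).2 hκ, zero_add]
    exact hqpow n μ hμ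
  have hπpow : ∀ n N s, s ∈ maximalIdeal Q.carrier ^ N →
      (π n).1 s ∈ maximalIdeal (A n) ^ N := by
    intro n N s hs
    have h1 : (π n).1.toRingHom s ∈ Ideal.map (π n).1.toRingHom (maximalIdeal Q.carrier ^ N) :=
      Ideal.mem_map_of_mem _ hs
    rw [Ideal.map_pow] at h1
    refine Ideal.pow_right_mono ?_ N h1
    rw [Ideal.map_le_iff_le_comap]
    intro x hx
    exact (homSet_mem_max (π n) x).2 hx
  have hnil : ∀ n, ∃ N, maximalIdeal (A n) ^ N = ⊥ := by
    intro n
    obtain ⟨N, hN⟩ := (isArtinianRing_iff_isNilpotent_maximalIdeal (A n)).1 inferInstance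
    exact ⟨N, hN⟩
  refine ⟨Q, π, ?_, ?_, ?_, ?_, ?_⟩
  · intro n
    apply Subtype.ext
    apply AlgHom.ext
    intro s
    obtain ⟨x, rfl⟩ := hq s
    change f n ((π (n + 1)).1 (q x)) = (π n).1 (q x)
    rw [hπq, hπq, ← hpf]
  · intro n a
    obtain ⟨x, hx⟩ := hsurj n a
    exact ⟨q x, (hπq n x).trans hx⟩
  · intro a ha
    have hdown : ∀ m n, m ≤ n → ∀ x, (p n).1 x = a n → (p m).1 x = a m := by
      intro m n hmn
      induction n, hmn using Nat.le_induction with
      | base => exact fun x hx => hx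
      | succ n hmn ih =>
        intro x hx
        apply ih
        rw [hpf, hx, ha]
    choose x hx using fun n => hsurj n (a n)
    have hxJ : ∀ m n, m ≤ n → x n - x m ∈ J m := by
      intro m n hmn
      rw [hJmem, map_sub, hdown m n hmn (x n) (hx n), hx m, sub_self]
    have hch : ∀ N, ∃ r, J r ≤ K ⊔ maximalIdeal P.carrier ^ N := fun N =>
      hKdef ▸ Schl.chevalley P J hJ N
    choose r hr using hch
    let R : ℕ → ℕ := fun N => Nat.rec (max (r 0) 0) (fun N prev => max prev (max (r (N + 1)) (N + 1))) N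
    have hRs : ∀ N, R (N + 1) = max (R N) (max (r (N + 1)) (N + 1)) := fun N => rfl
    have hR_mono : Monotone R := monotone_nat_of_le_succ (fun N => by rw [hRs]; exact le_max_left _ _)
    have hR_ge : ∀ N, r N ≤ R N ∧ N ≤ R N := by
      intro N
      cases N with
      | zero => exact ⟨le_max_left _ _, Nat.zero_le _⟩
      | succ N =>
        rw [hRs]
        exact ⟨(le_max_left _ _).trans (le_max_right _ _),
          (le_max_right _ _).trans (le_max_right _ _)⟩
    have hRJ : ∀ N, J (R N) ≤ K ⊔ maximalIdeal P.carrier ^ N := fun N =>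
      (hJ (hR_ge N).1).trans (hr N)
    let y : ℕ → Q.carrier := fun N => q (x (R N))
    have hy : ∀ {M N : ℕ}, M ≤ N →
        y M ≡ y N [SMOD (maximalIdeal Q.carrier ^ M • ⊤ : Submodule Q.carrier Q.carrier)] := by
      intro M N hMN
      rw [SModEq.sub_mem, smul_eq_mul, Ideal.mul_top]
      have h1 : y M - y N = -(q (x (R N) - x (R M))) := by
        change q (x (R M)) - q (x (R N)) = _
        rw [map_sub]; ring
      rw [h1]
      exact neg_mem (hqKm M _ (hRJ M (hxJ _ _ (hR_mono hMN))))
    obtain ⟨L, hL⟩ := Q.isAdicComplete.toIsPrecomplete.prec hy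
    have hL' : ∀ N, y N - L ∈ maximalIdeal Q.carrier ^ N := by
      intro N
      have := hL N
      rw [SModEq.sub_mem, smul_eq_mul, Ideal.mul_top] at this
      exact this
    have hLa : ∀ n, (π n).1 L = a n := by
      intro n
      obtain ⟨N₀, hN₀⟩ := hnil n
      have h1 : (π n).1 (y (max N₀ n) - L) = 0 := by
        have h2 := hπpow n N₀ _ (Ideal.pow_le_pow_right (le_max_left N₀ n) (hL' (max N₀ n)))
        rw [hN₀] at h2
        exact h2
      have h3 : (π n).1 (y (max N₀ n)) = a n := by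
        change (π n).1 (q (x (R (max N₀ n)))) = a n
        rw [hπq]
        exact hdown n _ ((le_max_right N₀ n).trans (hR_ge _).2) _ (hx _)
      rw [map_sub, h3, sub_eq_zero] at h1
      exact h1.symm
    refine ⟨L, hLa, ?_⟩
    intro s' hs'
    obtain ⟨x₁, rfl⟩ := hq s'
    obtain ⟨x₂, hx₂⟩ := hq L
    rw [← hx₂, ← sub_eq_zero, ← map_sub, hqK, hKdef, Ideal.mem_iInf]
    intro n
    rw [hJmem, map_sub, ← hπq, ← hπq, hs', hx₂, hLa, sub_self]
  · intro n
    obtain ⟨N, hN⟩ := Schl.chevalley P J hJ n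
    refine ⟨N, ?_⟩
    intro s hs
    obtain ⟨x, rfl⟩ := hq s
    have hs' : (π N).1 (q x) = 0 := hs
    rw [hπq] at hs'
    apply hqKm n x
    rw [hKdef]
    exact hN hs'
  · intro n
    obtain ⟨N, hN⟩ := hnil n
    refine ⟨N, ?_⟩
    intro s hs
    have h1 := hπpow n N s hs
    rw [hN] at h1
    exact h1

end main


/-- Let … → A₃ → A₂ → A₁ be surjective morphisms of Artinian local Λ-algebras with residue field k (Λ
Noetherian, Λ → k finite) with dim_k m_{A_n}/m_{A_n}² bounded. Then lim A_n is a complete local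
Noetherian Λ-algebra with residue field k: some such S carries compatible surjective
augmentation-preserving maps S → A_n identifying S with the set of compatible sequences, and the
kernels of S → A_n define the m_S-adic topology on S. -/
theorem result {Λ : Type u} {k : Type u} [CommRing Λ] [Field k] [Algebra Λ k]
    [IsNoetherianRing Λ] [Module.Finite Λ k]
    (A : ℕ → ArtFun.Art Λ k) (f : ∀ n, A (n + 1) ⟶ A n) (hf : ∀ n, Function.Surjective (f n))
    (d : ℕ) (hd : ∀ n, Module.finrank (IsLocalRing.ResidueField (A n)) (IsLocalRing.CotangentSpace (A n)) ≤ d) :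
    ∃ (S : ArtFun.CRing Λ k) (π : ∀ n, ArtFun.HomSet S.carrier S.res (A n)),
      (∀ n, ArtFun.HomSet.map (f n) (π (n + 1)) = π n) ∧
      (∀ n, Function.Surjective (π n).1) ∧
      (∀ a : ∀ n, A n, (∀ n, f n (a (n + 1)) = a n) → ∃! s : S.carrier, ∀ n, (π n).1 s = a n) ∧
      (∀ n, ∃ N, RingHom.ker (π N).1 ≤ IsLocalRing.maximalIdeal S.carrier ^ n) ∧
      (∀ n, ∃ N, IsLocalRing.maximalIdeal S.carrier ^ N ≤ RingHom.ker (π n).1) := by
  obtain ⟨P, p, hcompat, hsurj⟩ := exists_tower A f hf d hd
  exact main_of_tower A f P p hcompat hsurj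

end Groth.Agent.S12739
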