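import Groth.Statements.S12741
import Groth.Agent.LibCR29b
-- import your own Groth.Agent.* helpers here

set_option autoImplicit false
universe u v
open CategoryTheory
open ArtFun ArtFun.CRing

namespace Groth.Agent.S12741
open Groth.Agent.LibCR29 TensorProduct


/-- The category of complete local Noetherian Λ-algebras with residue field k (Λ Noetherian, Λ → k
finite; morphisms the Λ-algebra maps compatible with the augmentations) admits coproducts of pairs:
for objects R and S there is an object P with morphisms from R and S through which every pair of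
morphisms R → T ← S factors by a unique morphism P → T. -/
theorem result {Λ : Type u} {k : Type u} [CommRing Λ] [Field k] [Algebra Λ k]
    [IsNoetherianRing Λ] [Module.Finite Λ k]
    (R S : ArtFun.CRing Λ k) :
    ∃ (P : ArtFun.CRing Λ k) (i₁ : R.carrier →ₐ[Λ] P.carrier) (i₂ : S.carrier →ₐ[Λ] P.carrier),
      P.res.comp i₁ = R.res ∧ P.res.comp i₂ = S.res ∧
      ∀ (T : ArtFun.CRing Λ k) (g₁ : R.carrier →ₐ[Λ] T.carrier) (g₂ : S.carrier →ₐ[Λ] T.carrier),
        T.res.comp g₁ = R.res → T.res.comp g₂ = S.res →
          ∃! h : P.carrier →ₐ[Λ] T.carrier, T.res.comp h = P.res ∧ h.comp i₁ = g₁ ∧ h.comp i₂ = g₂ := by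
  have hsurj : Function.Surjective (Algebra.TensorProduct.productMap R.res S.res) := by
    intro c
    obtain ⟨a, ha⟩ := R.res_surjective c
    exact ⟨a ⊗ₜ[Λ] 1, by rw [Algebra.TensorProduct.productMap_apply_tmul, ha, map_one, mul_one]⟩
  obtain ⟨P, ι, hι, -, hUP⟩ := exists_compl (R.carrier ⊗[Λ] S.carrier)
    (Algebra.TensorProduct.productMap R.res S.res) hsurj (ker_productMap_fg R S)
  refine ⟨P, ι.comp Algebra.TensorProduct.includeLeft, ι.comp Algebra.TensorProduct.includeRight,
    ?_, ?_, ?_⟩
  · rw [← AlgHom.comp_assoc, hι]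
    ext a
    simp
  · rw [← AlgHom.comp_assoc, hι]
    ext a
    simp
  · intro T g₁ g₂ hg₁ hg₂
    have hg : T.res.comp (Algebra.TensorProduct.productMap g₁ g₂) =
        Algebra.TensorProduct.productMap R.res S.res := by
      apply Algebra.TensorProduct.ext
      · ext a
        have := congrArg (fun f : R.carrier →ₐ[Λ] k => f a) hg₁
        simpa using this
      · ext b
        have := congrArg (fun f : S.carrier →ₐ[Λ] k => f b) hg₂
        simpa using this
    obtain ⟨h, ⟨hh1, hh2⟩, huniq⟩ := hUP T (Algebra.TensorProduct.productMap g₁ g₂) hg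
    refine ⟨h, ⟨hh1, ?_, ?_⟩, ?_⟩
    · rw [← AlgHom.comp_assoc, hh2]
      ext a
      simp
    · rw [← AlgHom.comp_assoc, hh2]
      ext b
      simp
    · rintro h' ⟨h'1, h'2, h'3⟩
      apply huniq
      refine ⟨h'1, ?_⟩
      apply Algebra.TensorProduct.ext
      · ext a
        have := congrArg (fun f : R.carrier →ₐ[Λ] T.carrier => f a) h'2
        simpa using this
      · ext b
        have := congrArg (fun f : S.carrier →ₐ[Λ] T.carrier => f b) h'3
        simpa using this

end Groth.Agent.S12741
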