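import Groth.Statements.S12740
import Groth.Agent.S12741
-- import your own Groth.Agent.* helpers here

set_option autoImplicit false
universe u v
open CategoryTheory
open ArtFun ArtFun.CRing

namespace Groth.Agent.S12740
open Groth.Agent.LibCR29


/-- The category of complete local Noetherian Λ-algebras with residue field k (Λ Noetherian, Λ → k
finite; morphisms the Λ-algebra maps compatible with the augmentations) admits pushouts: for R → S₁
and R → S₂ there is an object P with morphisms from S₁ and S₂ agreeing on R, through which every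
compatible pair S₁ → T ← S₂ agreeing on R factors by a unique morphism P → T. -/
theorem result {Λ : Type u} {k : Type u} [CommRing Λ] [Field k] [Algebra Λ k]
    [IsNoetherianRing Λ] [Module.Finite Λ k]
    (R S₁ S₂ : ArtFun.CRing Λ k)
    (f₁ : R.carrier →ₐ[Λ] S₁.carrier) (hf₁ : S₁.res.comp f₁ = R.res)
    (f₂ : R.carrier →ₐ[Λ] S₂.carrier) (hf₂ : S₂.res.comp f₂ = R.res) :
    ∃ (P : ArtFun.CRing Λ k) (i₁ : S₁.carrier →ₐ[Λ] P.carrier) (i₂ : S₂.carrier →ₐ[Λ] P.carrier),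
      P.res.comp i₁ = S₁.res ∧ P.res.comp i₂ = S₂.res ∧ i₁.comp f₁ = i₂.comp f₂ ∧
      ∀ (T : ArtFun.CRing Λ k) (g₁ : S₁.carrier →ₐ[Λ] T.carrier) (g₂ : S₂.carrier →ₐ[Λ] T.carrier),
        T.res.comp g₁ = S₁.res → T.res.comp g₂ = S₂.res → g₁.comp f₁ = g₂.comp f₂ →
          ∃! h : P.carrier →ₐ[Λ] T.carrier, T.res.comp h = P.res ∧ h.comp i₁ = g₁ ∧ h.comp i₂ = g₂ := by
  obtain ⟨P₀, i₁, i₂, hi₁, hi₂, hUP⟩ := Groth.Agent.S12741.result S₁ S₂
  let K : Ideal P₀.carrier := Ideal.span (Set.range fun r : R.carrier => i₁ (f₁ r) - i₂ (f₂ r))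
  have happ : ∀ {A B C : Type u} [CommRing A] [CommRing B] [CommRing C] [Algebra Λ A]
      [Algebra Λ B] [Algebra Λ C] {p : B →ₐ[Λ] C} {q : A →ₐ[Λ] B} {s : A →ₐ[Λ] C},
      p.comp q = s → ∀ a, p (q a) = s a := by
    intro A B C _ _ _ _ _ _ p q s h a
    rw [← h]; rfl
  have hK : K ≤ IsLocalRing.maximalIdeal P₀.carrier := by
    rw [Ideal.span_le]
    rintro _ ⟨r, rfl⟩
    change _ ∈ IsLocalRing.maximalIdeal P₀.carrier
    rw [CRing.mem_maximalIdeal_iff, map_sub, happ hi₁, happ hi₂, happ hf₁, happ hf₂, sub_self]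
  obtain ⟨Q, π, hπ, hker, hres⟩ := exists_quot P₀ K hK
  refine ⟨Q, π.comp i₁, π.comp i₂, ?_, ?_, ?_, ?_⟩
  · rw [← AlgHom.comp_assoc, hres, hi₁]
  · rw [← AlgHom.comp_assoc, hres, hi₂]
  · ext r
    change π (i₁ (f₁ r)) = π (i₂ (f₂ r))
    rw [← sub_eq_zero, ← map_sub, ← RingHom.mem_ker, hker]
    exact Ideal.subset_span ⟨r, rfl⟩
  · intro T g₁ g₂ hg₁ hg₂ hgf
    obtain ⟨h₀, ⟨h₀1, h₀2, h₀3⟩, huniq⟩ := hUP T g₁ g₂ hg₁ hg₂
    have hkill : RingHom.ker π.toRingHom ≤ RingHom.ker h₀.toRingHom := by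
      change RingHom.ker π ≤ RingHom.ker h₀
      rw [hker, Ideal.span_le]
      rintro _ ⟨r, rfl⟩
      change _ ∈ RingHom.ker h₀
      rw [RingHom.mem_ker, map_sub, happ h₀2, happ h₀3, happ hgf, AlgHom.comp_apply, sub_self]
    obtain ⟨h, hdef⟩ : ∃ h, h = AlgHom.liftOfSurjective π hπ h₀ hkill := ⟨_, rfl⟩
    have hcomp : h.comp π = h₀ := by rw [hdef]; exact AlgHom.liftOfSurjective_comp _ _ _ _
    refine ⟨h, ⟨?_, ?_, ?_⟩, ?_⟩
    · rw [← AlgHom.cancel_right hπ, AlgHom.comp_assoc, hcomp, h₀1, hres]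
    · rw [← AlgHom.comp_assoc, hcomp, h₀2]
    · rw [← AlgHom.comp_assoc, hcomp, h₀3]
    · rintro h' ⟨h'1, h'2, h'3⟩
      rw [← AlgHom.cancel_right hπ, hcomp]
      apply huniq
      refine ⟨?_, ?_, ?_⟩
      · rw [← AlgHom.comp_assoc, h'1, hres]
      · rw [AlgHom.comp_assoc, h'2]
      · rw [AlgHom.comp_assoc, h'3]

end Groth.Agent.S12740
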