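import Groth.Statements.S12742
import Groth.Agent.Lib.Helper17.ArtAct
import Mathlib

set_option autoImplicit false
universe u v
open CategoryTheory
open ArtFun

namespace Groth.Agent.S12742
open Groth.Agent.Lib.helper17.ArtAct

/-- For functors, a morphism f : F → G of deformation functors on Artinian local Λ-algebras with residue
field k (values at k a point, condition (RS) for both) is smooth if and only if (1) it is surjective
on tangent spaces and (2) for every small extension A' → A and every x ∈ F(A) whose image in G(A)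
lifts to G(A'), x lifts to F(A'). -/
theorem result {Λ : Type u} {k : Type u} [CommRing Λ] [Field k] [Algebra Λ k]
    [IsNoetherianRing Λ] [Module.Finite Λ k]
    {F G : ArtFun.Art Λ k ⥤ Type v}
    (hF0 : ArtFun.H0 F) (hF : (∀ ⦃B A A' A'' : ArtFun.Art Λ k⦄ (p' : B ⟶ A') (p'' : B ⟶ A'') (f' : A' ⟶ A) (f'' : A'' ⟶ A)
        (h : ArtFun.Art.IsFibreProd p' p'' f' f''), Function.Surjective f'' → Function.Bijective (ArtFun.cmp F h)))
    (hG0 : ArtFun.H0 G) (hG : (∀ ⦃B A A' A'' : ArtFun.Art Λ k⦄ (p' : B ⟶ A') (p'' : B ⟶ A'') (f' : A' ⟶ A) (f'' : A'' ⟶ A)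
        (h : ArtFun.Art.IsFibreProd p' p'' f' f''), Function.Surjective f'' → Function.Bijective (ArtFun.cmp G h)))
    (f : F ⟶ G) :
    ArtFun.IsSmooth f ↔
      (Function.Surjective (ArtFun.TangentSpace.map f) ∧
        ∀ ⦃A' A : ArtFun.Art Λ k⦄ (μ : A' ⟶ A), ArtFun.Art.IsSmallExt μ → ∀ x : F.obj A,
          (∃ y' : G.obj A', G.map μ y' = f.app A x) → ∃ x' : F.obj A', F.map μ x' = x) := by
  classical
  haveI : Subsingleton (F.obj (ArtFun.Art.base Λ k)) := hF0.2
  haveI : Subsingleton (G.obj (ArtFun.Art.base Λ k)) := hG0.2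
  constructor
  · intro hs
    refine ⟨?_, ?_⟩
    · intro w
      obtain ⟨pt⟩ := hF0.1
      obtain ⟨z, hz⟩ := hs (ArtFun.Art.toBase (ArtFun.Art.dual Λ k))
        (ArtFun.Art.dual Λ k).res_surjective ⟨(pt, w), Subsingleton.elim _ _⟩
      exact ⟨z, congrArg (fun t => t.1.2) hz⟩
    · intro A' A μ hμ x ⟨y', hy'⟩
      obtain ⟨z, hz⟩ := hs μ hμ.1 ⟨(x, y'), hy'.symm⟩
      exact ⟨z, congrArg (fun t => t.1.1) hz⟩
  · rintro ⟨htan, hlift⟩
    intro B A μ hμ
    have key : ∀ (x : F.obj A) (y : G.obj B), f.app A x = G.map μ y →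
        ∃ z : F.obj B, F.map μ z = x ∧ f.app B z = y := by
      refine Groth.Agent.S12707.result
        (fun A B μ => ∀ (x : F.obj A) (y : G.obj B), f.app A x = G.map μ y →
          ∃ z : F.obj B, F.map μ z = x ∧ f.app B z = y) ?_ ?_ ?_ μ hμ
      · intro A B e he x y hxy
        refine ⟨F.map (inv e) x, ?_, ?_⟩
        · rw [← map_comp_apply, IsIso.inv_hom_id, map_id_apply]
        · rw [NatTrans.naturality_apply f (inv e) x, hxy, ← map_comp_apply, IsIso.hom_inv_id,
            map_id_apply]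
      · intro A B μ hμ x y hxy
        obtain ⟨x', hx'⟩ := hlift μ hμ x ⟨y, hxy.symm⟩
        obtain ⟨Q, q1, q2, σ, s, hQ, hσ, hs1, hs2, hs3⟩ := exists_sigma μ hμ
        have h1 : G.map μ (f.app B x') = G.map μ y := by
          rw [← NatTrans.naturality_apply f μ x', hx', hxy]
        obtain ⟨z, hz1, hz2⟩ := exists_of_cmp_surjective hσ (hG q1 σ μ μ hσ hμ.1).2 (f.app B x') y h1
        obtain ⟨v, hv⟩ := htan (G.map q2 z)
        have hv' : f.app (ArtFun.Art.dual Λ k) v = G.map q2 z := hv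
        obtain ⟨z', hz'1, hz'2⟩ := exists_of_cmp_surjective hQ
          (hF q1 q2 _ _ hQ (ArtFun.Art.dual Λ k).res_surjective).2 x' v (Subsingleton.elim _ _)
        have hfz : f.app Q z' = z := by
          apply eq_of_cmp_injective hQ (hG q1 q2 _ _ hQ (ArtFun.Art.dual Λ k).res_surjective).1
          · rw [← NatTrans.naturality_apply f q1 z', hz'1, hz1]
          · rw [← NatTrans.naturality_apply f q2 z', hz'2, hv']
        refine ⟨F.map σ z', ?_, ?_⟩
        · rw [← map_comp_apply, ← hσ.w, map_comp_apply, hz'1, hx']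
        · rw [NatTrans.naturality_apply f σ z', hfz, hz2]
      · intro A B C p q hp hq x y hxy
        obtain ⟨xB, hxB1, hxB2⟩ := hq x (G.map p y) (by rw [← map_comp_apply]; exact hxy)
        obtain ⟨z, hz1, hz2⟩ := hp xB y hxB2
        refine ⟨z, ?_, hz2⟩
        rw [map_comp_apply, hz1, hxB1]
    rintro ⟨⟨x, y⟩, hxy⟩
    obtain ⟨z, hz1, hz2⟩ := key x y hxy
    exact ⟨z, Subtype.ext (Prod.ext hz1 hz2)⟩

end Groth.Agent.S12742
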