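import Groth.Statements.S12744
import Mathlib

set_option autoImplicit false
universe u v
open CategoryTheory
open ArtFun

namespace Groth.Agent.S12744

/-- For functors, if η : F → G is a smooth morphism of functors on Artinian local Λ-algebras with
residue field k and F(k) → G(k) is surjective, then for every complete local Noetherian R with
residue field k the induced map on formal elements over R (compatible systems of elements over the
truncations R/m^(n+1)) is surjective. -/
theorem result {Λ : Type u} {k : Type u} [CommRing Λ] [Field k] [Algebra Λ k]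
    [IsNoetherianRing Λ] [Module.Finite Λ k]
    {F G : ArtFun.Art Λ k ⥤ Type v} (η : F ⟶ G) (hη : ArtFun.IsSmooth η)
    (h0 : Function.Surjective (η.app (ArtFun.Art.base Λ k))) (R : ArtFun.CRing Λ k) :
    Function.Surjective (fun u : ArtFun.FormalElt F R => u.map η) := by
  intro v
  have hnat : ∀ {X Y : ArtFun.Art Λ k} (g : X ⟶ Y) (x : F.obj X),
      η.app Y (F.map g x) = G.map g (η.app X x) := fun g x => NatTrans.naturality_apply η g x
  -- the base step
  have hbase : ∃ x : F.obj (R.trunc 0), η.app _ x = v.elt 0 := by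
    obtain ⟨x₀, hx₀⟩ := h0 (G.map (ArtFun.Art.toBase (R.trunc 0)) (v.elt 0))
    obtain ⟨x, hx⟩ := hη (ArtFun.Art.toBase (R.trunc 0)) (R.trunc 0).res_surjective
      ⟨(x₀, v.elt 0), hx₀⟩
    exact ⟨x, congrArg (fun t => t.1.2) hx⟩
  -- the inductive step
  have hstep : ∀ (n : ℕ) (x : F.obj (R.trunc n)), η.app _ x = v.elt n →
      ∃ x' : F.obj (R.trunc (n + 1)), η.app _ x' = v.elt (n + 1) ∧ F.map (R.truncMap n) x' = x := by
    intro n x hx
    have hsurj : Function.Surjective (R.truncMap n) := by
      intro a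
      obtain ⟨r, rfl⟩ := Ideal.Quotient.mk_surjective a
      exact ⟨Ideal.Quotient.mk _ r, rfl⟩
    obtain ⟨x', hx'⟩ := hη (R.truncMap n) hsurj ⟨(x, v.elt (n + 1)), by rw [hx, v.compat]⟩
    exact ⟨x', congrArg (fun t => t.1.2) hx', congrArg (fun t => t.1.1) hx'⟩
  -- build the sequence
  let seq : ∀ n : ℕ, {x : F.obj (R.trunc n) // η.app _ x = v.elt n} := fun n =>
    Nat.rec (motive := fun n => {x : F.obj (R.trunc n) // η.app _ x = v.elt n})
      ⟨hbase.choose, hbase.choose_spec⟩
      (fun n prev => ⟨(hstep n prev.1 prev.2).choose, (hstep n prev.1 prev.2).choose_spec.1⟩) n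
  have hseq : ∀ n, F.map (R.truncMap n) (seq (n + 1)).1 = (seq n).1 := fun n =>
    (hstep n (seq n).1 (seq n).2).choose_spec.2
  refine ⟨⟨fun n => (seq n).1, hseq⟩, ?_⟩
  apply ArtFun.FormalElt.ext'
  intro n
  exact (seq n).2

end Groth.Agent.S12744
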