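import Groth.Statements.S12746
import Mathlib

set_option autoImplicit false
universe u v
open CategoryTheory
open ArtFun

namespace Groth.Agent.S12746

/-- For functors, if F, G, H are functors on Artinian local Λ-algebras with residue field k satisfying
(RS) and f : H → F, g : G → F are morphisms, then the fibre product functor H ×_F G satisfies (RS). -/
theorem result {Λ : Type u} {k : Type u} [CommRing Λ] [Field k] [Algebra Λ k]
    [IsNoetherianRing Λ] [Module.Finite Λ k]
    {F G H : ArtFun.Art Λ k ⥤ Type v} (f : H ⟶ F) (g : G ⟶ F)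
    (hF : (∀ ⦃B A A' A'' : ArtFun.Art Λ k⦄ (p' : B ⟶ A') (p'' : B ⟶ A'') (f' : A' ⟶ A) (f'' : A'' ⟶ A)
        (h : ArtFun.Art.IsFibreProd p' p'' f' f''), Function.Surjective f'' → Function.Bijective (ArtFun.cmp F h))) (hG : (∀ ⦃B A A' A'' : ArtFun.Art Λ k⦄ (p' : B ⟶ A') (p'' : B ⟶ A'') (f' : A' ⟶ A) (f'' : A'' ⟶ A)
        (h : ArtFun.Art.IsFibreProd p' p'' f' f''), Function.Surjective f'' → Function.Bijective (ArtFun.cmp G h))) (hH : (∀ ⦃B A A' A'' : ArtFun.Art Λ k⦄ (p' : B ⟶ A') (p'' : B ⟶ A'') (f' : A' ⟶ A) (f'' : A'' ⟶ A)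
        (h : ArtFun.Art.IsFibreProd p' p'' f' f''), Function.Surjective f'' → Function.Bijective (ArtFun.cmp H h))) :
    (∀ ⦃B A A' A'' : ArtFun.Art Λ k⦄ (p' : B ⟶ A') (p'' : B ⟶ A'') (f' : A' ⟶ A) (f'' : A'' ⟶ A)
        (h : ArtFun.Art.IsFibreProd p' p'' f' f''), Function.Surjective f'' → Function.Bijective (ArtFun.cmp (CategoryTheory.Limits.pullback f g) h)) := by
  intro B A A' A'' p' p'' f' f'' h hf''
  have hpb : ∀ X : ArtFun.Art Λ k, CategoryTheory.IsPullback
      ((CategoryTheory.Limits.pullback.fst f g).app X) ((CategoryTheory.Limits.pullback.snd f g).app X)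
      (f.app X) (g.app X) := fun X =>
    (CategoryTheory.IsPullback.of_hasPullback f g).map
      ((CategoryTheory.evaluation (ArtFun.Art Λ k) (Type v)).obj X)
  have hfst : ∀ {X Y : ArtFun.Art Λ k} (m : X ⟶ Y) (z : (CategoryTheory.Limits.pullback f g).obj X),
      (CategoryTheory.Limits.pullback.fst f g).app Y ((CategoryTheory.Limits.pullback f g).map m z) =
        H.map m ((CategoryTheory.Limits.pullback.fst f g).app X z) := fun m z =>
    NatTrans.naturality_apply (CategoryTheory.Limits.pullback.fst f g) m z
  have hsnd : ∀ {X Y : ArtFun.Art Λ k} (m : X ⟶ Y) (z : (CategoryTheory.Limits.pullback f g).obj X),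
      (CategoryTheory.Limits.pullback.snd f g).app Y ((CategoryTheory.Limits.pullback f g).map m z) =
        G.map m ((CategoryTheory.Limits.pullback.snd f g).app X z) := fun m z =>
    NatTrans.naturality_apply (CategoryTheory.Limits.pullback.snd f g) m z
  have hfnat : ∀ {X Y : ArtFun.Art Λ k} (m : X ⟶ Y) (a : H.obj X),
      f.app Y (H.map m a) = F.map m (f.app X a) := fun m a => NatTrans.naturality_apply f m a
  have hgnat : ∀ {X Y : ArtFun.Art Λ k} (m : X ⟶ Y) (b : G.obj X),
      g.app Y (G.map m b) = F.map m (g.app X b) := fun m b => NatTrans.naturality_apply g m b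
  constructor
  · intro z₁ z₂ hz
    have hz' : (CategoryTheory.Limits.pullback f g).map p' z₁ = (CategoryTheory.Limits.pullback f g).map p' z₂ :=
      congrArg (fun t => t.1.1) hz
    have hz'' : (CategoryTheory.Limits.pullback f g).map p'' z₁ = (CategoryTheory.Limits.pullback f g).map p'' z₂ :=
      congrArg (fun t => t.1.2) hz
    apply CategoryTheory.Limits.Types.ext_of_isPullback (hpb B)
    · apply (hH p' p'' f' f'' h hf'').1
      apply Subtype.ext
      apply Prod.ext
      · show H.map p' _ = H.map p' _
        rw [← hfst, ← hfst, hz']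
      · show H.map p'' _ = H.map p'' _
        rw [← hfst, ← hfst, hz'']
    · apply (hG p' p'' f' f'' h hf'').1
      apply Subtype.ext
      apply Prod.ext
      · show G.map p' _ = G.map p' _
        rw [← hsnd, ← hsnd, hz']
      · show G.map p'' _ = G.map p'' _
        rw [← hsnd, ← hsnd, hz'']
  · rintro ⟨⟨w', w''⟩, hw⟩
    have hw' : (CategoryTheory.Limits.pullback f g).map f' w' = (CategoryTheory.Limits.pullback f g).map f'' w'' := hw
    obtain ⟨a, ha⟩ := (hH p' p'' f' f'' h hf'').2
      ⟨((CategoryTheory.Limits.pullback.fst f g).app A' w', (CategoryTheory.Limits.pullback.fst f g).app A'' w''), by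
        show H.map f' _ = H.map f'' _
        rw [← hfst, ← hfst, hw']⟩
    obtain ⟨b, hb⟩ := (hG p' p'' f' f'' h hf'').2
      ⟨((CategoryTheory.Limits.pullback.snd f g).app A' w', (CategoryTheory.Limits.pullback.snd f g).app A'' w''), by
        show G.map f' _ = G.map f'' _
        rw [← hsnd, ← hsnd, hw']⟩
    have ha' : H.map p' a = (CategoryTheory.Limits.pullback.fst f g).app A' w' := congrArg (fun t => t.1.1) ha
    have ha'' : H.map p'' a = (CategoryTheory.Limits.pullback.fst f g).app A'' w'' := congrArg (fun t => t.1.2) ha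
    have hb' : G.map p' b = (CategoryTheory.Limits.pullback.snd f g).app A' w' := congrArg (fun t => t.1.1) hb
    have hb'' : G.map p'' b = (CategoryTheory.Limits.pullback.snd f g).app A'' w'' := congrArg (fun t => t.1.2) hb
    have hsq : ∀ (X : ArtFun.Art Λ k) (w : (CategoryTheory.Limits.pullback f g).obj X),
        f.app X ((CategoryTheory.Limits.pullback.fst f g).app X w) =
          g.app X ((CategoryTheory.Limits.pullback.snd f g).app X w) := fun X w =>
      ConcreteCategory.congr_hom (hpb X).w w
    have hab : f.app B a = g.app B b := by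
      apply (hF p' p'' f' f'' h hf'').1
      apply Subtype.ext
      apply Prod.ext
      · show F.map p' _ = F.map p' _
        rw [← hfnat, ← hgnat, ha', hb', hsq]
      · show F.map p'' _ = F.map p'' _
        rw [← hfnat, ← hgnat, ha'', hb'', hsq]
    obtain ⟨z, hz1, hz2⟩ := CategoryTheory.Limits.Types.exists_of_isPullback (hpb B) a b hab
    refine ⟨z, ?_⟩
    apply Subtype.ext
    apply Prod.ext
    · show (CategoryTheory.Limits.pullback f g).map p' z = w'
      apply CategoryTheory.Limits.Types.ext_of_isPullback (hpb A')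
      · rw [hfst, hz1, ha']
      · rw [hsnd, hz2, hb']
    · show (CategoryTheory.Limits.pullback f g).map p'' z = w''
      apply CategoryTheory.Limits.Types.ext_of_isPullback (hpb A'')
      · rw [hfst, hz1, ha'']
      · rw [hsnd, hz2, hb'']

end Groth.Agent.S12746
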