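import Groth.Statements.S12747
import Groth.Agent.Lib.Helper17.ArtAct
import Mathlib

set_option autoImplicit false
universe u v
open CategoryTheory
open ArtFun

namespace Groth.Agent.S12747
open Groth.Agent.Lib.helper17.ArtAct

/-- For functors, let H₁ → G, H₂ → G and q : G → F be morphisms of functors on Artinian local Λ-algebras
with residue field k where F and G are deformation functors (value at k a point, condition (RS)) and
q is injective on tangent spaces. Then the induced morphism H₁ ×_G H₂ → H₁ ×_F H₂ is smooth. (The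
published statement also assumes that infinitesimal automorphisms of G map onto those of F; for
functors that condition is empty.) -/
theorem result {Λ : Type u} {k : Type u} [CommRing Λ] [Field k] [Algebra Λ k]
    [IsNoetherianRing Λ] [Module.Finite Λ k]
    {F G H₁ H₂ : ArtFun.Art Λ k ⥤ Type v} (p₁ : H₁ ⟶ G) (p₂ : H₂ ⟶ G) (q : G ⟶ F)
    (hF0 : ArtFun.H0 F) (hF : (∀ ⦃B A A' A'' : ArtFun.Art Λ k⦄ (p' : B ⟶ A') (p'' : B ⟶ A'') (f' : A' ⟶ A) (f'' : A'' ⟶ A)
        (h : ArtFun.Art.IsFibreProd p' p'' f' f''), Function.Surjective f'' → Function.Bijective (ArtFun.cmp F h)))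
    (hG0 : ArtFun.H0 G) (hG : (∀ ⦃B A A' A'' : ArtFun.Art Λ k⦄ (p' : B ⟶ A') (p'' : B ⟶ A'') (f' : A' ⟶ A) (f'' : A'' ⟶ A)
        (h : ArtFun.Art.IsFibreProd p' p'' f' f''), Function.Surjective f'' → Function.Bijective (ArtFun.cmp G h)))
    (hq : Function.Injective (ArtFun.TangentSpace.map q)) :
    ArtFun.IsSmooth (CategoryTheory.Limits.pullback.map p₁ p₂ (p₁ ≫ q) (p₂ ≫ q) (𝟙 H₁) (𝟙 H₂) q
      (CategoryTheory.Category.id_comp _).symm (CategoryTheory.Category.id_comp _).symm) := by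
  classical
  haveI : Subsingleton (F.obj (ArtFun.Art.base Λ k)) := hF0.2
  haveI : Subsingleton (G.obj (ArtFun.Art.base Λ k)) := hG0.2
  have core : ∀ ⦃B A : ArtFun.Art Λ k⦄ (μ : B ⟶ A), Function.Surjective μ →
      ∀ g₁ g₂ : G.obj B, G.map μ g₁ = G.map μ g₂ → q.app B g₁ = q.app B g₂ → g₁ = g₂ := by
    intro B A μ hμ
    refine Groth.Agent.S12707.result
      (fun A B μ => ∀ g₁ g₂ : G.obj B, G.map μ g₁ = G.map μ g₂ → q.app B g₁ = q.app B g₂ → g₁ = g₂)
      ?_ ?_ ?_ μ hμ
    · intro A B e he g₁ g₂ h1 _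
      have h2 := congrArg (G.map (inv e)) h1
      rwa [← map_comp_apply, ← map_comp_apply, IsIso.hom_inv_id, map_id_apply, map_id_apply] at h2
    · intro A B μ hμ g₁ g₂ h1 h2
      obtain ⟨Q, q1, q2, σ, s, hQ, hσ, hs1, hs2, hs3⟩ := exists_sigma μ hμ
      obtain ⟨z, hz1, hz2⟩ := exists_of_cmp_surjective hσ (hG q1 σ μ μ hσ hμ.1).2 g₁ g₂ h1
      have hqz : q.app Q z = F.map s (q.app B g₁) := by
        apply eq_of_cmp_injective hσ (hF q1 σ μ μ hσ hμ.1).1
        · rw [← NatTrans.naturality_apply q q1 z, hz1, ← map_comp_apply, hs1, map_id_apply]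
        · rw [← NatTrans.naturality_apply q σ z, hz2, ← map_comp_apply, hs2, map_id_apply, h2]
      have hv : G.map q2 z = G.map q2 (G.map s g₁) := by
        apply hq
        show q.app _ (G.map q2 z) = q.app _ (G.map q2 (G.map s g₁))
        rw [NatTrans.naturality_apply q q2 z, hqz, NatTrans.naturality_apply q q2 (G.map s g₁),
          NatTrans.naturality_apply q s g₁]
      have hz : z = G.map s g₁ := by
        apply eq_of_cmp_injective hQ (hG q1 q2 _ _ hQ (ArtFun.Art.dual Λ k).res_surjective).1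
        · rw [hz1, ← map_comp_apply, hs1, map_id_apply]
        · exact hv
      rw [← hz2, hz, ← map_comp_apply, hs2, map_id_apply]
    · intro A B C p r hp hr g₁ g₂ h1 h2
      have h3 : G.map p g₁ = G.map p g₂ := by
        apply hr
        · rw [← map_comp_apply, ← map_comp_apply]; exact h1
        · rw [NatTrans.naturality_apply q p g₁, NatTrans.naturality_apply q p g₂, h2]
      exact hp g₁ g₂ h3 h2
  intro B A μ hμ
  rintro ⟨⟨x, y⟩, hxy⟩
  have hXpb : ∀ A : ArtFun.Art Λ k, IsPullback ((Limits.pullback.fst p₁ p₂).app A)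
      ((Limits.pullback.snd p₁ p₂).app A) (p₁.app A) (p₂.app A) := fun A =>
    (IsPullback.of_hasPullback p₁ p₂).map ((evaluation _ _).obj A)
  have hYpb : ∀ A : ArtFun.Art Λ k, IsPullback ((Limits.pullback.fst (p₁ ≫ q) (p₂ ≫ q)).app A)
      ((Limits.pullback.snd (p₁ ≫ q) (p₂ ≫ q)).app A) ((p₁ ≫ q).app A) ((p₂ ≫ q).app A) := fun A =>
    (IsPullback.of_hasPullback (p₁ ≫ q) (p₂ ≫ q)).map ((evaluation _ _).obj A)
  set m := Limits.pullback.map p₁ p₂ (p₁ ≫ q) (p₂ ≫ q) (𝟙 H₁) (𝟙 H₂) q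
      (Category.id_comp _).symm (Category.id_comp _).symm with hm
  have hm1 : ∀ (C : ArtFun.Art Λ k) (w : (Limits.pullback p₁ p₂).obj C),
      (Limits.pullback.fst (p₁ ≫ q) (p₂ ≫ q)).app C (m.app C w) =
        (Limits.pullback.fst p₁ p₂).app C w := by
    intro C w
    have h1 : m ≫ Limits.pullback.fst (p₁ ≫ q) (p₂ ≫ q) = Limits.pullback.fst p₁ p₂ ≫ 𝟙 H₁ :=
      Limits.pullback.lift_fst _ _ _
    rw [Category.comp_id] at h1
    exact congrArg (fun t : Limits.pullback p₁ p₂ ⟶ H₁ => t.app C w) h1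
  have hm2 : ∀ (C : ArtFun.Art Λ k) (w : (Limits.pullback p₁ p₂).obj C),
      (Limits.pullback.snd (p₁ ≫ q) (p₂ ≫ q)).app C (m.app C w) =
        (Limits.pullback.snd p₁ p₂).app C w := by
    intro C w
    have h1 : m ≫ Limits.pullback.snd (p₁ ≫ q) (p₂ ≫ q) = Limits.pullback.snd p₁ p₂ ≫ 𝟙 H₂ :=
      Limits.pullback.lift_snd _ _ _
    rw [Category.comp_id] at h1
    exact congrArg (fun t : Limits.pullback p₁ p₂ ⟶ H₂ => t.app C w) h1
  have hxy' : m.app A x = (Limits.pullback (p₁ ≫ q) (p₂ ≫ q)).map μ y := hxy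
  set h₁ := (Limits.pullback.fst (p₁ ≫ q) (p₂ ≫ q)).app B y with hh₁
  set h₂ := (Limits.pullback.snd (p₁ ≫ q) (p₂ ≫ q)).app B y with hh₂
  have hcondY : q.app B (p₁.app B h₁) = q.app B (p₂.app B h₂) := by
    have := congrArg (fun t : Limits.pullback (p₁ ≫ q) (p₂ ≫ q) ⟶ F => t.app B y)
      (Limits.pullback.condition (f := p₁ ≫ q) (g := p₂ ≫ q))
    exact this
  have hcondX : p₁.app A ((Limits.pullback.fst p₁ p₂).app A x) =
      p₂.app A ((Limits.pullback.snd p₁ p₂).app A x) := by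
    have := congrArg (fun t : Limits.pullback p₁ p₂ ⟶ G => t.app A x)
      (Limits.pullback.condition (f := p₁) (g := p₂))
    exact this
  have hH1 : H₁.map μ h₁ = (Limits.pullback.fst p₁ p₂).app A x := by
    rw [← hm1 A x, hxy', hh₁]
    exact (NatTrans.naturality_apply (Limits.pullback.fst (p₁ ≫ q) (p₂ ≫ q)) μ y).symm
  have hH2 : H₂.map μ h₂ = (Limits.pullback.snd p₁ p₂).app A x := by
    rw [← hm2 A x, hxy', hh₂]
    exact (NatTrans.naturality_apply (Limits.pullback.snd (p₁ ≫ q) (p₂ ≫ q)) μ y).symm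
  have hg : p₁.app B h₁ = p₂.app B h₂ := by
    apply core μ hμ _ _ _ hcondY
    rw [← NatTrans.naturality_apply p₁ μ h₁, ← NatTrans.naturality_apply p₂ μ h₂, hH1, hH2, hcondX]
  obtain ⟨z, hz1, hz2⟩ := Limits.Types.exists_of_isPullback (hXpb B) h₁ h₂ hg
  refine ⟨z, ?_⟩
  apply Subtype.ext
  apply Prod.ext
  · show (Limits.pullback p₁ p₂).map μ z = x
    apply Limits.Types.ext_of_isPullback (hXpb A)
    · rw [NatTrans.naturality_apply (Limits.pullback.fst p₁ p₂) μ z, hz1, hH1]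
    · rw [NatTrans.naturality_apply (Limits.pullback.snd p₁ p₂) μ z, hz2, hH2]
  · show m.app B z = y
    apply Limits.Types.ext_of_isPullback (hYpb B)
    · rw [hm1, hz1]
    · rw [hm2, hz2]

end Groth.Agent.S12747
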