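import Groth.Statements.S12748
import Groth.Agent.LibCR29f
import Groth.Agent.S12714
-- import your own Groth.Agent.* helpers here

set_option autoImplicit false
universe u v
open CategoryTheory
open ArtFun ArtFun.CRing

namespace Groth.Agent.S12748
open Groth.Agent.LibCR29 IsLocalRing


/-- Let R' → R be a morphism of complete local Noetherian Λ-algebras with residue field k with an
R'-algebra retraction ρ : R → R', so that R = R' ⊕ I for the ideal I = ker ρ; let x₁, …, x_r ∈ I map
to a basis of I/m_R I and let φ : R'[[X₁, …, X_r]] → R be an R'-algebra map sending X_i to x_i. If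
for all large n the induced map R'[[X]]/m^n → R/m_R^n has a left inverse — a Λ-algebra map g_n : R →
R'[[X]]/m^n with g_n ∘ φ equal to the quotient map — then φ is an isomorphism. -/
theorem result {Λ : Type u} {k : Type u} [CommRing Λ] [Field k] [Algebra Λ k]
    [IsNoetherianRing Λ] [Module.Finite Λ k]
    (R' R : ArtFun.CRing Λ k) [Algebra R'.carrier R.carrier] [IsScalarTower Λ R'.carrier R.carrier]
    (hc : R.res.comp (IsScalarTower.toAlgHom Λ R'.carrier R.carrier) = R'.res)
    (ρ : R.carrier →ₐ[R'.carrier] R'.carrier)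
    (r : ℕ) (x : Fin r → R.carrier) (hxI : ∀ i, ρ (x i) = 0)
    (hspan : Ideal.span (Set.range x) ⊔ IsLocalRing.maximalIdeal R.carrier * RingHom.ker ρ = RingHom.ker ρ)
    (hli : ∀ c : Fin r → R.carrier, (∑ i, c i * x i) ∈ IsLocalRing.maximalIdeal R.carrier * RingHom.ker ρ →
      ∀ i, c i ∈ IsLocalRing.maximalIdeal R.carrier)
    (φ : MvPowerSeries (Fin r) R'.carrier →ₐ[R'.carrier] R.carrier) (hφ : ∀ i, φ (MvPowerSeries.X i) = x i)
    (hinv : ∃ N : ℕ, ∀ n, N ≤ n →
      ∃ g : R.carrier →ₐ[Λ] (MvPowerSeries (Fin r) R'.carrier ⧸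
          IsLocalRing.maximalIdeal (MvPowerSeries (Fin r) R'.carrier) ^ n),
        ∀ s, g (φ s) = Ideal.Quotient.mk _ s) :
    Function.Bijective φ := by
  -- `ker ρ` lies in the maximal ideal
  have hkerle : RingHom.ker ρ ≤ maximalIdeal R.carrier := by
    apply IsLocalRing.le_maximalIdeal
    intro h
    have h1 : (1 : R.carrier) ∈ RingHom.ker ρ := by rw [h]; trivial
    rw [RingHom.mem_ker, map_one] at h1
    exact one_ne_zero h1
  have hρι : ∀ a : R'.carrier, ρ (algebraMap R'.carrier R.carrier a) = a := fun a => by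
    rw [ρ.commutes]; rfl
  -- `ρ` maps the maximal ideal into the maximal ideal
  have hρloc : ∀ t ∈ maximalIdeal R.carrier, ρ t ∈ maximalIdeal R'.carrier := by
    intro t ht
    rw [IsLocalRing.mem_maximalIdeal] at ht ⊢
    intro hu
    apply ht
    have h1 : t - algebraMap R'.carrier R.carrier (ρ t) ∈ maximalIdeal R.carrier := by
      apply hkerle
      rw [RingHom.mem_ker, map_sub, hρι, sub_self]
    have h2 : IsUnit (algebraMap R'.carrier R.carrier (ρ t)) := hu.map _
    have h3 : t = algebraMap R'.carrier R.carrier (ρ t) +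
        (t - algebraMap R'.carrier R.carrier (ρ t)) := by ring
    rw [h3]
    by_contra h4
    have h5 := Ideal.sub_mem _ ((IsLocalRing.mem_maximalIdeal _).2 h4) h1
    rw [add_sub_cancel_right] at h5
    exact (IsLocalRing.mem_maximalIdeal _).1 h5 h2
  let P := psCRing R' r
  let φ' : P.carrier →ₐ[Λ] R.carrier := φ.restrictScalars Λ
  have hxm : ∀ i, x i ∈ maximalIdeal R.carrier := fun i => hkerle (by
    rw [RingHom.mem_ker]; exact hxI i)
  have hφ'pt : ∀ s : MvPowerSeries (Fin r) R'.carrier,
      R.res (φ s) = R'.res (MvPowerSeries.constantCoeff s) := by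
    intro s
    have h1 : s = MvPowerSeries.C (MvPowerSeries.constantCoeff s) +
        (s - MvPowerSeries.C (MvPowerSeries.constantCoeff s)) := by ring
    have h2 : φ (s - MvPowerSeries.C (MvPowerSeries.constantCoeff s)) ∈
        maximalIdeal R.carrier := by
      have h3 := Ideal.mem_map_of_mem φ.toRingHom (sub_C_mem_span_X s)
      rw [Ideal.map_span] at h3
      refine (Ideal.span_le.2 ?_) h3
      rintro _ ⟨_, ⟨i, rfl⟩, rfl⟩
      change φ (MvPowerSeries.X i) ∈ maximalIdeal R.carrier
      rw [hφ]; exact hxm i
    rw [CRing.mem_maximalIdeal_iff] at h2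
    conv_lhs => rw [h1, map_add, map_add, h2, add_zero]
    have h4 : φ (MvPowerSeries.C (MvPowerSeries.constantCoeff s)) =
        algebraMap R'.carrier R.carrier (MvPowerSeries.constantCoeff s) := by
      rw [← φ.commutes]; rfl
    rw [h4]
    exact congrArg (fun f : R'.carrier →ₐ[Λ] k => f (MvPowerSeries.constantCoeff s)) hc
  have hφ' : R.res.comp φ' = P.res := AlgHom.ext hφ'pt
  constructor
  · -- injectivity from the left inverses
    obtain ⟨N, hN⟩ := hinv
    rw [injective_iff_map_eq_zero]
    intro s hs
    have hmem : ∀ n, s ∈ maximalIdeal (MvPowerSeries (Fin r) R'.carrier) ^ n := by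
      intro n
      obtain ⟨g, hg⟩ := hN (max n N) (le_max_right _ _)
      have h1 := hg s
      rw [hs, map_zero] at h1
      have h2 := Ideal.Quotient.eq_zero_iff_mem.1 h1.symm
      exact Ideal.pow_le_pow_right (le_max_left _ _) h2
    have hkrull : (⨅ n : ℕ, maximalIdeal (MvPowerSeries (Fin r) R'.carrier) ^ n) = ⊥ :=
      Ideal.iInf_pow_eq_bot_of_isLocalRing _ (Ideal.IsMaximal.ne_top inferInstance)
    have : s ∈ (⨅ n : ℕ, maximalIdeal (MvPowerSeries (Fin r) R'.carrier) ^ n) := by
      rw [Ideal.mem_iInf]; exact hmem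
    rw [hkrull, Ideal.mem_bot] at this
    exact this
  · -- surjectivity from the cotangent criterion
    have htfae := Groth.Agent.S12714.result P R φ' hφ'
    have h12 := (htfae.out 0 1).2 ?_
    · exact h12
    · apply le_antisymm
      · refine sup_le ?_ (Ideal.pow_le_self (by norm_num))
        rw [Ideal.map_le_iff_le_comap]
        intro s hs
        rw [Ideal.mem_comap, CRing.mem_maximalIdeal_iff]
        have := congrArg (fun f : P.carrier →ₐ[Λ] k => f s) hφ'
        simp only [AlgHom.comp_apply] at this
        rw [this, ← CRing.mem_maximalIdeal_iff]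
        exact hs
      · intro t ht
        have h1 : t = algebraMap R'.carrier R.carrier (ρ t) +
            (t - algebraMap R'.carrier R.carrier (ρ t)) := by ring
        rw [h1]
        refine Ideal.add_mem _ (Ideal.mem_sup_left ?_) ?_
        · have h2 : algebraMap R'.carrier R.carrier (ρ t) = φ' (MvPowerSeries.C (ρ t)) := by
            change _ = φ (MvPowerSeries.C (ρ t))
            rw [← φ.commutes]; rfl
          rw [h2]
          apply Ideal.mem_map_of_mem
          change MvPowerSeries.C (ρ t) ∈ maximalIdeal (MvPowerSeries (Fin r) R'.carrier)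
          rw [mem_maximalIdeal_ps_iff, MvPowerSeries.constantCoeff_C]
          exact hρloc t ht
        · have h3 : t - algebraMap R'.carrier R.carrier (ρ t) ∈ RingHom.ker ρ := by
            rw [RingHom.mem_ker, map_sub, hρι, sub_self]
          rw [← hspan] at h3
          obtain ⟨a, ha, b, hb, hab⟩ := Submodule.mem_sup.1 h3
          rw [← hab]
          refine Ideal.add_mem _ (Ideal.mem_sup_left ?_) (Ideal.mem_sup_right ?_)
          · refine (Ideal.span_le.2 ?_) ha
            rintro _ ⟨i, rfl⟩
            rw [← hφ i]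
            apply Ideal.mem_map_of_mem
            exact X_mem_maximalIdeal_ps i
          · rw [pow_two]
            exact Ideal.mul_mono_right hkerle hb

end Groth.Agent.S12748
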