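import Groth.Statements.S12750
import Groth.Agent.S12709
import Groth.Agent.S12710
-- import your own Groth.Agent.* helpers here

set_option autoImplicit false
universe u v
open CategoryTheory
open ArtFun ArtFun.Art

namespace Groth.Agent.S12750
open IsLocalRing

/-- a morphism into `B` is surjective iff it is so after the quotient by `m_Λ B + m_B²`. -/
theorem surjective_iff_comp {Λ : Type u} {k : Type u} [CommRing Λ] [Field k] [Algebra Λ k]
    [IsNoetherianRing Λ] [Module.Finite Λ k]
    {B B' C : ArtFun.Art Λ k} (qB : B ⟶ B')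
    (hkB : RingHom.ker qB.toAlgHom = Ideal.map (algebraMap Λ B) (RingHom.ker (algebraMap Λ k)) ⊔
      IsLocalRing.maximalIdeal B ^ 2) (g : C ⟶ B) (h : Function.Surjective (g ≫ qB)) :
    Function.Surjective g := by
  have htfae := Groth.Agent.S12709.result g
  refine (htfae.out 0 2).2 ?_
  apply le_antisymm
  · refine sup_le (sup_le ?_ ?_) (Ideal.pow_le_self two_ne_zero)
    · rw [Ideal.map_le_iff_le_comap]
      intro l hl
      rw [Ideal.mem_comap, Art.mem_maximalIdeal_iff, AlgHom.commutes]
      exact hl
    · rw [Ideal.map_le_iff_le_comap]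
      intro c hc
      rw [Ideal.mem_comap, Art.mem_maximalIdeal_iff]
      rw [Art.res_app g]
      exact (Art.mem_maximalIdeal_iff C c).1 hc
  · intro b hb
    obtain ⟨c, hc⟩ := h (qB b)
    have hc' : qB (g c) = qB b := hc
    have hcm : c ∈ maximalIdeal C := by
      rw [Art.mem_maximalIdeal_iff, ← Art.res_app g, ← Art.res_app qB]
      rw [hc', Art.res_app qB]
      exact (Art.mem_maximalIdeal_iff B b).1 hb
    have hker : b - g c ∈ RingHom.ker qB.toAlgHom := by
      rw [RingHom.mem_ker, map_sub, sub_eq_zero]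
      exact hc'.symm
    rw [hkB] at hker
    have e : b = (b - g c) + g c := by ring
    rw [e]
    obtain ⟨u, hu, v, hv, huv⟩ := Submodule.mem_sup.1 hker
    rw [← huv]
    have h1 : u ∈ Ideal.map (algebraMap Λ B) (RingHom.ker (algebraMap Λ k)) ⊔
        Ideal.map g.toAlgHom (maximalIdeal C) ⊔ maximalIdeal B ^ 2 :=
      Ideal.mem_sup_left (Ideal.mem_sup_left hu)
    have h2 : v ∈ Ideal.map (algebraMap Λ B) (RingHom.ker (algebraMap Λ k)) ⊔
        Ideal.map g.toAlgHom (maximalIdeal C) ⊔ maximalIdeal B ^ 2 := Ideal.mem_sup_right hv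
    have h3 : g c ∈ Ideal.map (algebraMap Λ B) (RingHom.ker (algebraMap Λ k)) ⊔
        Ideal.map g.toAlgHom (maximalIdeal C) ⊔ maximalIdeal B ^ 2 :=
      Ideal.mem_sup_left (Ideal.mem_sup_right (Ideal.mem_map_of_mem g.toAlgHom hcm))
    exact Ideal.add_mem _ (Ideal.add_mem _ h1 h2) h3


/-- (1) ⇔ (3): let f : B → A be a morphism in the category of Artinian local Λ-algebras with residue
field k, and let q_B : B → B', q_A : A → A' be the quotients by m_Λ B + m_B² and m_Λ A + m_A² (m_Λ
the kernel of Λ → k), realised as surjective morphisms with these kernels, with f' : B' → A' the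
induced morphism. Then f is an essential surjection — surjective, and every morphism g into B whose
composite with f is surjective is itself surjective — if and only if f' is. (The intermediate
equivalence with the map B/m_B² → A/m_A² is the special case Λ-structure trivialised and follows by
applying this one twice.) -/
theorem result {Λ : Type u} {k : Type u} [CommRing Λ] [Field k] [Algebra Λ k]
    [IsNoetherianRing Λ] [Module.Finite Λ k]
    {A B A' B' : ArtFun.Art Λ k} (f : B ⟶ A)
    (qB : B ⟶ B') (hqB : Function.Surjective qB)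
    (hkB : RingHom.ker qB.toAlgHom = Ideal.map (algebraMap Λ B) (RingHom.ker (algebraMap Λ k)) ⊔ IsLocalRing.maximalIdeal B ^ 2)
    (qA : A ⟶ A') (hqA : Function.Surjective qA)
    (hkA : RingHom.ker qA.toAlgHom = Ideal.map (algebraMap Λ A) (RingHom.ker (algebraMap Λ k)) ⊔ IsLocalRing.maximalIdeal A ^ 2)
    (f' : B' ⟶ A') (hf' : qB ≫ f' = f ≫ qA) :
    (Function.Surjective f ∧ ∀ (C : ArtFun.Art Λ k) (g : C ⟶ B), Function.Surjective (g ≫ f) → Function.Surjective g) ↔ (Function.Surjective f' ∧ ∀ (C : ArtFun.Art Λ k) (g : C ⟶ B'), Function.Surjective (g ≫ f') → Function.Surjective g) := by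
  have hcomp : ∀ {X Y Z : Art Λ k} (a : X ⟶ Y) (b : Y ⟶ Z), Function.Surjective a →
      Function.Surjective b → Function.Surjective (a ≫ b) := fun a b ha hb => hb.comp ha
  have hof : ∀ {X Y Z : Art Λ k} (a : X ⟶ Y) (b : Y ⟶ Z), Function.Surjective (a ≫ b) →
      Function.Surjective b := fun a b h => Function.Surjective.of_comp (g := a) h
  constructor
  · rintro ⟨hf, hess⟩
    have hf's : Function.Surjective f' := by
      apply hof qB f'
      rw [hf']
      exact hcomp f qA hf hqA
    refine ⟨hf's, ?_⟩
    intro C g' hg'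
    obtain ⟨Q, p₁, p₂, hQ⟩ := Groth.Agent.S12710.result g' qB hqB
    have hp₁ : Function.Surjective p₁ := by
      intro c
      obtain ⟨b, hb⟩ := hqB (g' c)
      obtain ⟨q, hq1, -⟩ := hQ.surj c b hb.symm
      exact ⟨q, hq1⟩
    have h1 : Function.Surjective ((p₂ ≫ f) ≫ qA) := by
      rw [Category.assoc, ← hf', ← Category.assoc, ← hQ.w, Category.assoc]
      exact hcomp p₁ (g' ≫ f') hp₁ hg'
    have h2 : Function.Surjective (p₂ ≫ f) := surjective_iff_comp qA hkA (p₂ ≫ f) h1
    have h3 : Function.Surjective p₂ := hess Q p₂ h2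
    have h4 : Function.Surjective (p₁ ≫ g') := by
      rw [hQ.w]
      exact hcomp p₂ qB h3 hqB
    exact hof p₁ g' h4
  · rintro ⟨hf's, hess⟩
    have hfs : Function.Surjective f := by
      apply surjective_iff_comp qA hkA f
      rw [← hf']
      exact hcomp qB f' hqB hf's
    refine ⟨hfs, ?_⟩
    intro C g hg
    apply surjective_iff_comp qB hkB g
    apply hess C (g ≫ qB)
    rw [Category.assoc, hf', ← Category.assoc]
    exact hcomp (g ≫ f) qA hg hqA

end Groth.Agent.S12750
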