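import Groth.Statements.S12751
import Mathlib

set_option autoImplicit false
universe u v
open CategoryTheory
open scoped TensorProduct
open ArtFun ArtFun.Art

namespace Groth.Agent.S12751

open CategoryTheory
open scoped TensorProduct
open ArtFun ArtFun.Art

/-- nilpotent Nakayama for modules -/
lemma eq_top_of_nilpotent {R M : Type*} [CommRing R] [AddCommGroup M] [Module R M]
    (I : Ideal R) (N : Submodule R M) (h : ⊤ ≤ N ⊔ I • (⊤ : Submodule R M)) (r : ℕ)
    (hr : I ^ r = ⊥) : N = ⊤ := by
  have key : ∀ k : ℕ, (⊤ : Submodule R M) ≤ N ⊔ I ^ k • (⊤ : Submodule R M) := by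
    intro k
    induction k with
    | zero => simp
    | succ k ih =>
      refine ih.trans (sup_le le_sup_left ?_)
      calc I ^ k • (⊤ : Submodule R M) ≤ I ^ k • (N ⊔ I • (⊤ : Submodule R M)) :=
            Submodule.smul_mono le_rfl h
        _ = I ^ k • N ⊔ I ^ k • I • (⊤ : Submodule R M) := Submodule.smul_sup _ _ _
        _ ≤ N ⊔ I ^ (k + 1) • (⊤ : Submodule R M) := by
            refine sup_le_sup Submodule.smul_le_right ?_
            rw [← mul_smul, ← pow_succ]
  have := key r
  rw [hr, Submodule.bot_smul, sup_bot_eq] at this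
  exact top_le_iff.mp this

/-- nilpotent Nakayama for ideals: `J ≤ N ⊔ J²`, `J` nilpotent imply `J ≤ N` -/
lemma le_of_le_sup_sq {R : Type*} [CommRing R] (J N : Ideal R)
    (h : J ≤ N ⊔ J ^ 2) (m : ℕ) (hm : J ^ m = ⊥) : J ≤ N := by
  have key : ∀ k : ℕ, J ≤ N ⊔ J ^ (k + 1) := by
    intro k
    induction k with
    | zero => simp
    | succ k ih =>
      refine ih.trans (sup_le le_sup_left ?_)
      calc J ^ (k + 1) = J ^ k * J := pow_succ J k
        _ ≤ J ^ k * (N ⊔ J ^ 2) := Ideal.mul_mono_right h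
        _ = J ^ k * N ⊔ J ^ k * J ^ 2 := Ideal.mul_sup _ _ _
        _ ≤ N ⊔ J ^ (k + 1 + 1) := by
          refine sup_le_sup Ideal.mul_le_right ?_
          rw [← pow_add]
  rcases Nat.eq_zero_or_pos m with rfl | hpos
  · have : (⊤ : Ideal R) = ⊥ := by simpa using hm
    intro x _
    have hx0 : x ∈ (⊥ : Ideal R) := this ▸ Submodule.mem_top
    rw [Ideal.mem_bot.mp hx0]; exact N.zero_mem
  · have := key (m - 1)
    rwa [Nat.sub_add_cancel hpos, hm, sup_bot_eq] at this

section core
variable {A B k : Type u} [CommRing A] [CommRing B] [Field k] [IsLocalRing A] [IsLocalRing B]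
  [Algebra B A] [Algebra A k] [Algebra B k] [IsScalarTower B A k]

omit [IsLocalRing B] [Algebra B A] [Algebra B k] [IsScalarTower B A k] in
lemma ker_eq (hA : Function.Surjective (algebraMap A k)) :
    RingHom.ker (algebraMap A k) = IsLocalRing.maximalIdeal A :=
  IsLocalRing.eq_maximalIdeal (RingHom.ker_isMaximal_of_surjective _ hA)

/-- step 1 and 2: the differentials vanish -/
lemma kaehler_subsingleton (hA : Function.Surjective (algebraMap A k))
    (r : ℕ) (nA : IsLocalRing.maximalIdeal A ^ r = ⊥)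
    (h : Subsingleton (k ⊗[A] Ω[A⁄B])) : Subsingleton (Ω[A⁄B]) := by
  have hex : Function.Exact ((IsLocalRing.maximalIdeal A).subtype : _ →ₗ[A] A)
      (Algebra.linearMap A k) := by
    intro a
    rw [Algebra.linearMap_apply, ← RingHom.mem_ker, ker_eq hA]
    simp
  have hex' := rTensor_exact (Ω[A⁄B]) hex hA
  have hmem : ∀ t : (IsLocalRing.maximalIdeal A) ⊗[A] Ω[A⁄B],
      TensorProduct.lid A (Ω[A⁄B])
        ((LinearMap.rTensor (Ω[A⁄B]) (IsLocalRing.maximalIdeal A).subtype) t)
        ∈ (IsLocalRing.maximalIdeal A) • (⊤ : Submodule A (Ω[A⁄B])) := by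
    intro t
    induction t using TensorProduct.induction_on with
    | zero => simp
    | add t s ht hs =>
      simp only [map_add]
      exact Submodule.add_mem _ ht hs
    | tmul m y =>
      simp only [LinearMap.rTensor_tmul, Submodule.subtype_apply, TensorProduct.lid_tmul]
      exact Submodule.smul_mem_smul m.2 Submodule.mem_top
  have h1 : (⊤ : Submodule A (Ω[A⁄B])) ≤ ⊥ ⊔ (IsLocalRing.maximalIdeal A) • ⊤ := by
    intro x _
    rw [bot_sup_eq]
    have hx : (LinearMap.rTensor (Ω[A⁄B]) (Algebra.linearMap A k)) ((1 : A) ⊗ₜ x) = 0 :=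
      Subsingleton.elim _ _
    obtain ⟨t, ht⟩ := (hex' _).mp hx
    have hx2 : x = TensorProduct.lid A (Ω[A⁄B])
        ((LinearMap.rTensor (Ω[A⁄B]) (IsLocalRing.maximalIdeal A).subtype) t) := by
      rw [ht]; simp
    rw [hx2]
    exact hmem t
  have := eq_top_of_nilpotent _ (⊥ : Submodule A (Ω[A⁄B])) h1 r nA
  exact (Submodule.subsingleton_iff A).mp (subsingleton_of_bot_eq_top this)

lemma surjective_of_subsingleton (hA : Function.Surjective (algebraMap A k))
    (hB : Function.Surjective (algebraMap B k))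
    (rA : ℕ) (nA : IsLocalRing.maximalIdeal A ^ rA = ⊥)
    (rB : ℕ) (nB : IsLocalRing.maximalIdeal B ^ rB = ⊥)
    (h : Subsingleton (k ⊗[A] Ω[A⁄B])) : Function.Surjective (algebraMap B A) := by
  have hΩ := kaehler_subsingleton hA rA nA h
  have hunr : Algebra.FormallyUnramified B A := ⟨hΩ⟩
  have hkA := ker_eq (A := A) (k := k) hA
  have hkB := ker_eq (A := B) (k := k) hB
  let mBA : Ideal A := (IsLocalRing.maximalIdeal B).map (algebraMap B A)
  let I : Ideal A := mBA ⊔ (IsLocalRing.maximalIdeal A) ^ 2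
  have hmBA : mBA ≤ IsLocalRing.maximalIdeal A := by
    rw [Ideal.map_le_iff_le_comap]
    intro b hb
    rw [Ideal.mem_comap, ← hkA, RingHom.mem_ker, ← IsScalarTower.algebraMap_apply,
      ← RingHom.mem_ker, hkB]
    exact hb
  have hI : I ≤ IsLocalRing.maximalIdeal A :=
    sup_le hmBA (Ideal.pow_le_self (by norm_num))
  -- σ : k →+* A ⧸ I
  have hker : RingHom.ker (algebraMap B k) ≤ RingHom.ker (algebraMap B (A ⧸ I)) := by
    rw [hkB]
    intro b hb
    rw [RingHom.mem_ker, IsScalarTower.algebraMap_apply B A (A ⧸ I), Ideal.Quotient.algebraMap_eq,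
      Ideal.Quotient.eq_zero_iff_mem]
    exact Ideal.mem_sup_left (Ideal.mem_map_of_mem _ hb)
  let σ : k →+* A ⧸ I := RingHom.liftOfSurjective (algebraMap B k) hB ⟨algebraMap B (A ⧸ I), hker⟩
  have hσ : ∀ b, σ (algebraMap B k b) = algebraMap B (A ⧸ I) b :=
    fun b => RingHom.liftOfSurjective_comp_apply (algebraMap B k) hB ⟨_, hker⟩ b
  let g₁ : A →ₐ[B] A ⧸ I := Ideal.Quotient.mkₐ B I
  let g₂ : A →ₐ[B] A ⧸ I :=
    { toRingHom := σ.comp (algebraMap A k)
      commutes' := fun b => by
        simp only [RingHom.toMonoidHom_eq_coe, OneHom.toFun_eq_coe, MonoidHom.toOneHom_coe,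
          MonoidHom.coe_coe, RingHom.coe_comp, Function.comp_apply]
        rw [← IsScalarTower.algebraMap_apply, hσ] }
  let τ : A ⧸ I →+* k := Ideal.Quotient.lift I (algebraMap A k) (fun a ha => by
    have := hI ha
    rwa [← hkA, RingHom.mem_ker] at this)
  have hτσ : ∀ c : k, τ (σ c) = c := by
    intro c
    obtain ⟨b, rfl⟩ := hB c
    rw [hσ, IsScalarTower.algebraMap_apply B A (A ⧸ I), Ideal.Quotient.algebraMap_eq]
    simp only [τ, Ideal.Quotient.lift_mk]
    rw [← IsScalarTower.algebraMap_apply]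
  have hg : g₁ = g₂ := by
    refine Algebra.FormallyUnramified.ext' τ ⟨2, ?_⟩ g₁ g₂ ?_
    · rw [Ideal.zero_eq_bot, eq_bot_iff, pow_two, Ideal.mul_le]
      intro x hx y hy
      obtain ⟨a, rfl⟩ := Ideal.Quotient.mk_surjective x
      obtain ⟨a', rfl⟩ := Ideal.Quotient.mk_surjective y
      have ha : a ∈ IsLocalRing.maximalIdeal A := by
        rw [← hkA, RingHom.mem_ker]; simpa [τ] using hx
      have ha' : a' ∈ IsLocalRing.maximalIdeal A := by
        rw [← hkA, RingHom.mem_ker]; simpa [τ] using hy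
      rw [Ideal.mem_bot, ← map_mul, Ideal.Quotient.eq_zero_iff_mem]
      exact Ideal.mem_sup_right (by rw [pow_two]; exact Ideal.mul_mem_mul ha ha')
    · intro a
      change τ (Ideal.Quotient.mk I a) = τ (σ (algebraMap A k a))
      rw [hτσ]
      simp [τ]
  have hm : IsLocalRing.maximalIdeal A ≤ mBA := by
    refine le_of_le_sup_sq _ _ ?_ rA nA
    intro a ha
    have h1 : g₁ a = g₂ a := by rw [hg]
    have h2 : g₂ a = 0 := by
      change σ (algebraMap A k a) = 0
      rw [← hkA, RingHom.mem_ker] at ha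
      rw [ha, map_zero]
    rw [h2] at h1
    exact Ideal.Quotient.eq_zero_iff_mem.mp h1
  -- surjectivity
  have htop : LinearMap.range (Algebra.linearMap B A) = ⊤ := by
    refine eq_top_of_nilpotent (IsLocalRing.maximalIdeal B) _ ?_ rB nB
    intro a _
    obtain ⟨b, hb⟩ := hB (algebraMap A k a)
    have hmem : a - algebraMap B A b ∈ IsLocalRing.maximalIdeal A := by
      rw [← hkA, RingHom.mem_ker, map_sub, ← IsScalarTower.algebraMap_apply, hb, sub_self]
    have hmem2 : a - algebraMap B A b ∈ (IsLocalRing.maximalIdeal B) • (⊤ : Submodule B A) := by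
      rw [Ideal.smul_top_eq_map]
      exact hm hmem
    have : a = algebraMap B A b + (a - algebraMap B A b) := by ring
    rw [this]
    exact Submodule.add_mem _ (Submodule.mem_sup_left ⟨b, rfl⟩) (Submodule.mem_sup_right hmem2)
  intro a
  have : a ∈ LinearMap.range (Algebra.linearMap B A) := htop ▸ Submodule.mem_top
  obtain ⟨b, hb⟩ := this
  exact ⟨b, hb⟩

end core

lemma nilp (R : Type u) [CommRing R] [IsLocalRing R] [IsArtinianRing R] :
    ∃ r : ℕ, IsLocalRing.maximalIdeal R ^ r = ⊥ := by
  have h := IsArtinianRing.isNilpotent_jacobson_bot (R := R)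
  rw [IsLocalRing.jacobson_eq_maximalIdeal ⊥ bot_ne_top] at h
  obtain ⟨r, hr⟩ := h
  exact ⟨r, by rw [hr, Ideal.zero_eq_bot]⟩

/-- A morphism f : B → A in the category of Artinian local Λ-algebras with residue field k is surjective
if and only if Ω_{B/Λ} ⊗_B k → Ω_{A/Λ} ⊗_A k is surjective; by right exactness of the sequence
Ω_{B/Λ} ⊗_B A → Ω_{A/Λ} → Ω_{A/B} → 0 this surjectivity is the vanishing of Ω_{A/B} ⊗_A k, which is
how it is written here (A a B-algebra through f, k an A-module through the augmentation). -/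
theorem result {Λ : Type u} {k : Type u} [CommRing Λ] [Field k] [Algebra Λ k]
    [IsNoetherianRing Λ] [Module.Finite Λ k]
    {A B : ArtFun.Art Λ k} (f : B ⟶ A) :
    letI : Algebra B A := f.toAlgHom.toRingHom.toAlgebra
    letI : Algebra A k := A.res.toRingHom.toAlgebra
    Function.Surjective f ↔ Subsingleton (k ⊗[A] Ω[A⁄B]) := by
  letI : Algebra B A := f.toAlgHom.toRingHom.toAlgebra
  letI : Algebra A k := A.res.toRingHom.toAlgebra
  letI : Algebra B k := B.res.toRingHom.toAlgebra
  haveI : IsScalarTower B A k := IsScalarTower.of_algebraMap_eq (fun b => (res_app f b).symm)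
  constructor
  · intro hf
    have : Subsingleton (Ω[A⁄B]) := KaehlerDifferential.subsingleton_of_surjective B A hf
    infer_instance
  · intro h
    obtain ⟨rA, nA⟩ := nilp A
    obtain ⟨rB, nB⟩ := nilp B
    exact surjective_of_subsingleton (A := A) (B := B) (k := k) A.res_surjective B.res_surjective
      rA nA rB nB h

end Groth.Agent.S12751
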