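import Groth.Statements.S12752
import Mathlib
import Groth.Agent.S12708
import Groth.Agent.S12709
import Groth.Agent.S12710
import Groth.Agent.S12751

set_option autoImplicit false
universe u v
open CategoryTheory
open scoped TensorProduct
open ArtFun ArtFun.Art

namespace Groth.Agent.S12752

open TensorProduct

section ldim

variable {Λ B k : Type u} [CommRing Λ] [CommRing B] [Field k] [Algebra Λ B] [Algebra B k]
  [Algebra Λ k] [IsScalarTower Λ B k]

/-- the comparison between functionals on `k ⊗ Ω` and derivations to `k`. -/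
noncomputable def dualEquivDer (hB : Function.Surjective (algebraMap B k)) :
    (k ⊗[B] Ω[B⁄Λ] →ₗ[k] k) ≃ₗ[k] Derivation Λ B k :=
  (LinearMap.liftBaseChangeEquiv k).symm.trans
    ((KaehlerDifferential.linearMapEquivDerivation Λ B).extendScalarsOfSurjective hB)

lemma dualEquivDer_apply (hB : Function.Surjective (algebraMap B k))
    (φ : k ⊗[B] Ω[B⁄Λ] →ₗ[k] k) (b : B) :
    dualEquivDer hB φ b = φ (1 ⊗ₜ KaehlerDifferential.D Λ B b) := rfl

/-- the dimension of `k ⊗ Ω` is the dimension of the space of derivations to `k`. -/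
theorem finrank_tensor_kaehler (hB : Function.Surjective (algebraMap B k))
    [Module.Finite B Ω[B⁄Λ]] :
    Module.finrank k (k ⊗[B] Ω[B⁄Λ]) = Module.finrank k (Derivation Λ B k) := by
  rw [← Subspace.dual_finrank_eq]
  exact (dualEquivDer hB).finrank_eq

lemma finite_der (hB : Function.Surjective (algebraMap B k)) [Module.Finite B Ω[B⁄Λ]] :
    Module.Finite k (Derivation Λ B k) :=
  Module.Finite.equiv (dualEquivDer (Λ := Λ) hB)

end ldim

section pull

variable {Λ A B k : Type u} [CommRing Λ] [CommRing A] [CommRing B] [Field k]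
  [Algebra Λ A] [Algebra Λ B] [Algebra A k] [Algebra B k] [Algebra Λ k]
  [IsScalarTower Λ A k] [IsScalarTower Λ B k]

/-- pull back derivations along an algebra map compatible with the maps to `k`. -/
noncomputable def pullDer (f : B →ₐ[Λ] A) (hfk : ∀ b, algebraMap A k (f b) = algebraMap B k b) :
    Derivation Λ A k →ₗ[k] Derivation Λ B k where
  toFun D :=
    { toLinearMap := D.toLinearMap.comp f.toLinearMap
      map_one_eq_zero' := by
        change D (f 1) = 0
        rw [map_one, Derivation.map_one_eq_zero]
      leibniz' := fun b b' => by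
        change D (f (b * b')) = b • D (f b') + b' • D (f b)
        rw [map_mul, Derivation.leibniz, Algebra.smul_def, Algebra.smul_def, Algebra.smul_def,
          Algebra.smul_def, hfk, hfk] }
  map_add' D D' := by
    ext b
    rfl
  map_smul' c D := by
    ext b
    rfl

lemma pullDer_apply (f : B →ₐ[Λ] A) (hfk : ∀ b, algebraMap A k (f b) = algebraMap B k b)
    (D : Derivation Λ A k) (b : B) : pullDer f hfk D b = D (f b) := rfl

lemma pullDer_injective (f : B →ₐ[Λ] A) (hfk : ∀ b, algebraMap A k (f b) = algebraMap B k b)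
    (hf : Function.Surjective f) : Function.Injective (pullDer f hfk) := by
  intro D D' h
  ext a
  obtain ⟨b, rfl⟩ := hf a
  exact congrArg (fun E : Derivation Λ B k => E b) h

/-- a derivation killing the kernel of a surjection descends. -/
lemma exists_pullDer_eq (f : B →ₐ[Λ] A) (hfk : ∀ b, algebraMap A k (f b) = algebraMap B k b)
    (hf : Function.Surjective f) (D : Derivation Λ B k) (hD : ∀ x, f x = 0 → D x = 0) :
    ∃ D' : Derivation Λ A k, pullDer f hfk D' = D := by
  have hD' : ∀ b b', f b = f b' → D b = D b' := by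
    intro b b' h
    have := hD (b - b') (by rw [map_sub, h, sub_self])
    rw [map_sub, sub_eq_zero] at this
    exact this
  let s := Function.surjInv hf
  have hs : ∀ a, f (s a) = a := Function.surjInv_eq hf
  let D' : Derivation Λ A k :=
    { toLinearMap :=
        { toFun := fun a => D (s a)
          map_add' := fun a a' => by
            rw [← map_add]
            exact hD' _ _ (by rw [hs, map_add, hs, hs])
          map_smul' := fun l a => by
            rw [RingHom.id_apply, ← D.map_smul]
            exact hD' _ _ (by rw [hs, map_smul, hs]) }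
      map_one_eq_zero' := by
        change D (s 1) = 0
        rw [hD' (s 1) 1 (by rw [hs, map_one]), Derivation.map_one_eq_zero]
      leibniz' := fun a a' => by
        change D (s (a * a')) = a • D (s a') + a' • D (s a)
        rw [hD' (s (a * a')) (s a * s a') (by rw [hs, map_mul, hs, hs]), Derivation.leibniz,
          Algebra.smul_def, Algebra.smul_def, Algebra.smul_def, Algebra.smul_def, ← hfk, ← hfk,
          hs, hs] }
  refine ⟨D', ?_⟩
  ext b
  change D (s (f b)) = D b
  exact hD' _ _ (hs _)

end pull



section nonzero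

variable {C B k : Type u} [CommRing C] [CommRing B] [Field k] [Algebra C B] [Algebra B k]
  [Algebra C k] [IsScalarTower C B k]

lemma exists_der_ne_zero (hB : Function.Surjective (algebraMap B k))
    (h : ¬ Subsingleton (k ⊗[B] Ω[B⁄C])) : ∃ D : Derivation C B k, D ≠ 0 := by
  rw [not_subsingleton_iff_nontrivial] at h
  obtain ⟨v, hv⟩ := exists_ne (0 : k ⊗[B] Ω[B⁄C])
  have h1 : ¬ ∀ φ : Module.Dual k (k ⊗[B] Ω[B⁄C]), φ v = 0 := fun hφ =>
    hv ((Module.forall_dual_apply_eq_zero_iff k v).1 hφ)
  push Not at h1
  obtain ⟨φ, hφ⟩ := h1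
  refine ⟨dualEquivDer hB φ, fun h0 => hφ ?_⟩
  have : φ = 0 := (dualEquivDer (Λ := C) hB).injective (by rw [h0, map_zero])
  rw [this]
  rfl

end nonzero

section art

open ArtFun ArtFun.Art CategoryTheory IsLocalRing

variable {Λ : Type u} {k : Type u} [CommRing Λ] [Field k] [Algebra Λ k]
  [IsNoetherianRing Λ] [Module.Finite Λ k]

/-- every object of `Art Λ k` is a finite `Λ`-module. -/
theorem finite_obj (A : ArtFun.Art Λ k) : Module.Finite Λ A := by
  letI : Algebra A k := A.res.toRingHom.toAlgebra
  haveI : IsScalarTower Λ A k := IsScalarTower.of_algebraMap_eq (fun x => (A.res.commutes x).symm)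
  have hres : Function.Surjective (algebraMap A k) := A.res_surjective
  have h := Groth.Agent.S12708.result (Λ := Λ) (k := k) A hres A
  haveI := Groth.Agent.S12710.isArtinian_base (Λ := Λ) (k := k)
  have h1 : Module.length Λ k ≠ ⊤ := Module.length_ne_top
  have h2 : Module.length A A ≠ ⊤ := Module.length_ne_top
  have h3 : Module.length Λ A ≠ ⊤ := by
    rw [← h]
    exact WithTop.mul_ne_top h1 h2
  haveI := (isFiniteLength_iff_isNoetherian_isArtinian.mp (Module.length_ne_top_iff.mp h3)).1
  infer_instance

theorem der_kills_ker_of_essential {A B : ArtFun.Art Λ k} (f : B ⟶ A)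
    (hf : Function.Surjective f)
    (hess : ∀ (C : ArtFun.Art Λ k) (g : C ⟶ B),
      Function.Surjective (g ≫ f) → Function.Surjective g) :
    letI : Algebra B k := B.res.toRingHom.toAlgebra
    ∀ (D : Derivation Λ B k) (x : B), f x = 0 → D x = 0 := by
  letI : Algebra B k := B.res.toRingHom.toAlgebra
  intro D x hx
  by_contra hDx
  have hsmul : ∀ (b : B) (c : k), b • c = B.res b * c := fun b c => rfl
  have hresx : B.res x = 0 := by rw [← Art.res_app f, hx, map_zero]
  let C₀ : Subalgebra Λ B :=
    { carrier := {b | D b = 0}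
      mul_mem' := fun {a b} ha hb => by
        change D (a * b) = 0
        rw [D.leibniz, ha, hb, smul_zero, smul_zero, add_zero]
      one_mem' := D.map_one_eq_zero
      add_mem' := fun {a b} ha hb => by
        change D (a + b) = 0
        rw [map_add, ha, hb, add_zero]
      zero_mem' := map_zero D
      algebraMap_mem' := fun l => D.map_algebraMap l }
  have hmem : ∀ b : B, b ∈ C₀ ↔ D b = 0 := fun b => Iff.rfl
  -- correcting an element by a multiple of `x`
  have hcorr : ∀ b : B, ∃ y : B, b - y * x ∈ C₀ := by
    intro b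
    obtain ⟨y, hy⟩ := B.res_surjective (D b / D x)
    refine ⟨y, ?_⟩
    rw [hmem, map_sub, D.leibniz, hsmul, hsmul, hy, hresx, zero_mul, add_zero,
      div_mul_cancel₀ _ hDx, sub_self]
  haveI : Nontrivial C₀ := ⟨⟨0, 1, fun h => zero_ne_one (congrArg Subtype.val h)⟩⟩
  obtain ⟨r, hr⟩ : ∃ r : ℕ, maximalIdeal B ^ r = ⊥ := by
    have h := IsArtinianRing.isNilpotent_jacobson_bot (R := B)
    rw [IsLocalRing.jacobson_eq_maximalIdeal ⊥ bot_ne_top] at h
    obtain ⟨r, hr⟩ := h
    exact ⟨r, by rw [hr, Ideal.zero_eq_bot]⟩
  haveI : IsLocalRing C₀ := by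
    refine IsLocalRing.of_isUnit_or_isUnit_one_sub_self fun c => ?_
    by_cases h : B.res (c : B) = 0
    · right
      apply IsNilpotent.isUnit_one_sub
      refine ⟨r, Subtype.ext ?_⟩
      have h1 : (c : B) ^ r ∈ maximalIdeal B ^ r :=
        Ideal.pow_mem_pow ((Art.mem_maximalIdeal_iff B _).2 h) r
      rw [hr, Ideal.mem_bot] at h1
      exact h1
    · left
      have hu : IsUnit (c : B) := by
        by_contra hnu
        exact h ((Art.mem_maximalIdeal_iff B _).1 hnu)
      obtain ⟨b, hb⟩ := hu.exists_right_inv
      have hDb : D b = 0 := by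
        have h1 : D ((c : B) * b) = 0 := by rw [hb, D.map_one_eq_zero]
        rw [D.leibniz, (hmem _).1 c.2, smul_zero, add_zero, hsmul] at h1
        exact (mul_eq_zero.1 h1).resolve_left h
      exact IsUnit.of_mul_eq_one ⟨b, hDb⟩ (Subtype.ext hb)
  haveI : IsArtinianRing C₀ := by
    haveI := Groth.Agent.S12710.isArtinian_obj B
    have h1 : IsArtinian Λ C₀ :=
      isArtinian_of_injective C₀.val.toLinearMap Subtype.val_injective
    exact isArtinian_of_tower Λ h1
  have hsurj : Function.Surjective (B.res.comp C₀.val) := by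
    intro c
    obtain ⟨b₀, hb₀⟩ := B.res_surjective c
    obtain ⟨y, hy⟩ := hcorr b₀
    refine ⟨⟨_, hy⟩, ?_⟩
    change B.res (b₀ - y * x) = c
    rw [map_sub, map_mul, hresx, mul_zero, sub_zero, hb₀]
  let C : ArtFun.Art Λ k := ArtFun.Art.of C₀ (B.res.comp C₀.val) hsurj
  let g : C ⟶ B := ArtFun.Art.homMk C₀.val rfl
  have hgf : Function.Surjective (g ≫ f) := by
    intro a
    obtain ⟨b, rfl⟩ := hf a
    obtain ⟨y, hy⟩ := hcorr b
    refine ⟨⟨_, hy⟩, ?_⟩
    change f.toAlgHom (b - y * x) = f.toAlgHom b
    rw [map_sub, map_mul]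
    change f.toAlgHom b - f.toAlgHom y * f x = f.toAlgHom b
    rw [hx, mul_zero, sub_zero]
  obtain ⟨c, hc⟩ := hess C g hgf x
  apply hDx
  let c' : C₀ := c
  have hcx : (c' : B) = x := hc
  rw [← hcx]
  exact (hmem _).1 c'.2

end art

/-- (a) ⇔ (c): a morphism f : B → A in the category of Artinian local Λ-algebras with residue field k is
an essential surjection (surjective, and any morphism g into B with g followed by f surjective is
surjective) if and only if the map Ω_{B/Λ} ⊗_B k → Ω_{A/Λ} ⊗_A k is an isomorphism of k-vector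
spaces. These spaces are finite-dimensional, so the isomorphism condition is written as: the map is
surjective (that is, Ω_{A/B} ⊗_A k = 0) and the two spaces have equal dimension. -/
theorem result {Λ : Type u} {k : Type u} [CommRing Λ] [Field k] [Algebra Λ k]
    [IsNoetherianRing Λ] [Module.Finite Λ k]
    {A B : ArtFun.Art Λ k} (f : B ⟶ A) :
    letI : Algebra B A := f.toAlgHom.toRingHom.toAlgebra
    letI : Algebra A k := A.res.toRingHom.toAlgebra
    letI : Algebra B k := B.res.toRingHom.toAlgebra
    (Function.Surjective f ∧ ∀ (C : ArtFun.Art Λ k) (g : C ⟶ B), Function.Surjective (g ≫ f) → Function.Surjective g) ↔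
      (Subsingleton (k ⊗[A] Ω[A⁄B]) ∧
        Module.finrank k (k ⊗[B] Ω[B⁄Λ]) = Module.finrank k (k ⊗[A] Ω[A⁄Λ])) := by
  letI : Algebra B A := f.toAlgHom.toRingHom.toAlgebra
  letI : Algebra A k := A.res.toRingHom.toAlgebra
  letI : Algebra B k := B.res.toRingHom.toAlgebra
  haveI : IsScalarTower Λ A k := IsScalarTower.of_algebraMap_eq (fun x => (A.res.commutes x).symm)
  haveI : IsScalarTower Λ B k := IsScalarTower.of_algebraMap_eq (fun x => (B.res.commutes x).symm)
  haveI := finite_obj A
  haveI := finite_obj B
  have hfk : ∀ b, algebraMap A k (f.toAlgHom b) = algebraMap B k b := fun b => ArtFun.Art.res_app f b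
  have hA : Function.Surjective (algebraMap A k) := A.res_surjective
  have hB : Function.Surjective (algebraMap B k) := B.res_surjective
  have hdimA := finrank_tensor_kaehler (Λ := Λ) hA
  have hdimB := finrank_tensor_kaehler (Λ := Λ) hB
  haveI := finite_der (Λ := Λ) hA
  haveI := finite_der (Λ := Λ) hB
  constructor
  · rintro ⟨hf, hess⟩
    refine ⟨(Groth.Agent.S12751.result f).1 hf, ?_⟩
    rw [hdimB, hdimA]
    have hkill := der_kills_ker_of_essential f hf hess
    have hsurj : Function.Surjective (pullDer f.toAlgHom hfk) := fun D =>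
      exists_pullDer_eq f.toAlgHom hfk hf D (hkill D)
    exact (LinearEquiv.ofBijective _ ⟨pullDer_injective f.toAlgHom hfk hf, hsurj⟩).finrank_eq.symm
  · rintro ⟨h1, h2⟩
    have hf : Function.Surjective f := (Groth.Agent.S12751.result f).2 h1
    refine ⟨hf, fun C g hgf => ?_⟩
    rw [hdimB, hdimA] at h2
    have hsurj : Function.Surjective (pullDer f.toAlgHom hfk) :=
      (LinearMap.injective_iff_surjective_of_finrank_eq_finrank h2.symm).1
        (pullDer_injective f.toAlgHom hfk hf)
    have hkill : ∀ (D : Derivation Λ B k) (x : B), f x = 0 → D x = 0 := by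
      intro D x hx
      obtain ⟨D', rfl⟩ := hsurj D
      rw [pullDer_apply]
      change D' (f x) = 0
      rw [hx, map_zero]
    by_contra hg
    letI : Algebra C B := g.toAlgHom.toRingHom.toAlgebra
    letI : Algebra C k := C.res.toRingHom.toAlgebra
    haveI : IsScalarTower C B k :=
      IsScalarTower.of_algebraMap_eq (fun c => (ArtFun.Art.res_app g c).symm)
    haveI : IsScalarTower Λ C B :=
      IsScalarTower.of_algebraMap_eq (fun l => (g.toAlgHom.commutes l).symm)
    haveI : IsScalarTower Λ C k :=
      IsScalarTower.of_algebraMap_eq (fun l => (C.res.commutes l).symm)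
    have hns : ¬ Subsingleton (k ⊗[B] Ω[B⁄C]) := fun h => hg ((Groth.Agent.S12751.result g).2 h)
    obtain ⟨D, hD⟩ := exists_der_ne_zero hB hns
    apply hD
    ext b
    obtain ⟨c, hc⟩ := hgf (f b)
    have hc' : f (g c) = f b := hc
    have h3 : (D.restrictScalars Λ) (b - g c) = 0 :=
      hkill (D.restrictScalars Λ) (b - g c) (by
        change f.toAlgHom (b - g c) = 0
        rw [map_sub]
        change f b - f (g c) = 0
        rw [hc', sub_self])
    rw [Derivation.restrictScalars_apply, map_sub, sub_eq_zero] at h3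
    rw [h3]
    change D (algebraMap C B c) = 0
    exact D.map_algebraMap c

end Groth.Agent.S12752
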