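import Groth.Statements.S12753
import Mathlib
import Groth.Agent.S12709
import Groth.Agent.S12710

set_option autoImplicit false
universe u v
open CategoryTheory
open ArtFun ArtFun.Art

namespace Groth.Agent.S12753

open IsLocalRing

section coeff

variable {Λ : Type u} {k : Type u} [CommRing Λ] [Field k] [Algebra Λ k]
  [IsNoetherianRing Λ] [Module.Finite Λ k]

/-- a coefficient field for objects killed by `m_Λ`, in the separable case. -/
theorem exists_section [Algebra.IsSeparable (↥(algebraMap Λ k).range) k]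
    (D : ArtFun.Art Λ k) (hD : ∀ l ∈ RingHom.ker (algebraMap Λ k), algebraMap Λ D l = 0) :
    ∃ σ : k →ₐ[Λ] D, ∀ c, D.res (σ c) = c := by
  haveI : Algebra.IsIntegral Λ k := Algebra.IsIntegral.of_finite Λ k
  have hmax : (RingHom.ker (algebraMap Λ k)).IsMaximal :=
    Ideal.isMaximal_comap_of_isIntegral_of_isMaximal (R := Λ) (S := k) (⊥ : Ideal k)
  letI : Field (Λ ⧸ RingHom.ker (algebraMap Λ k)) := Ideal.Quotient.field _
  letI : Algebra (Λ ⧸ RingHom.ker (algebraMap Λ k)) k :=
    (RingHom.kerLift (algebraMap Λ k)).toAlgebra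
  haveI : IsScalarTower Λ (Λ ⧸ RingHom.ker (algebraMap Λ k)) k :=
    IsScalarTower.of_algebraMap_eq (fun x => rfl)
  letI : Algebra (Λ ⧸ RingHom.ker (algebraMap Λ k)) D :=
    (Ideal.Quotient.lift (RingHom.ker (algebraMap Λ k)) (algebraMap Λ D) hD).toAlgebra
  haveI : IsScalarTower Λ (Λ ⧸ RingHom.ker (algebraMap Λ k)) D :=
    IsScalarTower.of_algebraMap_eq (fun x => rfl)
  -- separability over the quotient field
  haveI hsep : Algebra.IsSeparable (Λ ⧸ RingHom.ker (algebraMap Λ k)) k := by
    refine ⟨fun x => ?_⟩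
    have hint : IsIntegral (↥(algebraMap Λ k).range) x := by
      obtain ⟨P, hP, hPc⟩ := Algebra.IsIntegral.isIntegral (R := Λ) x
      refine ⟨P.map (algebraMap Λ k).rangeRestrict, hP.map _, ?_⟩
      rw [Polynomial.eval₂_map]
      exact hPc
    have hs : (minpoly (↥(algebraMap Λ k).range) x).Separable :=
      Algebra.IsSeparable.isSeparable _ x
    let e : (↥(algebraMap Λ k).range) →+* (Λ ⧸ RingHom.ker (algebraMap Λ k)) :=
      (RingHom.quotientKerEquivRange (algebraMap Λ k)).symm.toRingHom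
    have he : ∀ y : ↥(algebraMap Λ k).range,
        algebraMap (Λ ⧸ RingHom.ker (algebraMap Λ k)) k (e y) = (y : k) := by
      intro y
      obtain ⟨l, hl⟩ := (algebraMap Λ k).rangeRestrict_surjective y
      have h1 : e y = Ideal.Quotient.mk _ l := by
        change (RingHom.quotientKerEquivRange (algebraMap Λ k)).symm y = _
        rw [RingEquiv.symm_apply_eq, ← hl]
        rfl
      rw [h1, ← hl]
      rfl
    have hq : Polynomial.aeval x ((minpoly (↥(algebraMap Λ k).range) x).map e) = 0 := by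
      rw [Polynomial.aeval_def, Polynomial.eval₂_map]
      have h2 : (algebraMap (Λ ⧸ RingHom.ker (algebraMap Λ k)) k).comp e =
          algebraMap (↥(algebraMap Λ k).range) k := RingHom.ext he
      rw [h2, ← Polynomial.aeval_def]
      exact minpoly.aeval _ x
    exact (hs.map (f := e)).of_dvd (minpoly.dvd _ x hq)
  haveI : Algebra.FormallyEtale (Λ ⧸ RingHom.ker (algebraMap Λ k)) k :=
    Algebra.FormallyEtale.of_isSeparable (Λ ⧸ RingHom.ker (algebraMap Λ k)) k
  -- the residue map as an algebra map over the quotient field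
  let r : D →ₐ[Λ ⧸ RingHom.ker (algebraMap Λ k)] k :=
    { (D.res : D →+* k) with
      commutes' := fun y => by
        obtain ⟨l, rfl⟩ := Ideal.Quotient.mk_surjective y
        change D.res (algebraMap Λ D l) = algebraMap Λ k l
        exact D.res.commutes l }
  have hr : Function.Surjective r := D.res_surjective
  have hnil : IsNilpotent (RingHom.ker (r : D →+* k)) := by
    have h1 : RingHom.ker (r : D →+* k) = maximalIdeal D := by
      ext d
      rw [RingHom.mem_ker, ArtFun.Art.mem_maximalIdeal_iff]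
      rfl
    rw [h1, ← IsLocalRing.jacobson_eq_maximalIdeal ⊥ bot_ne_top]
    exact IsArtinianRing.isNilpotent_jacobson_bot
  let σ₀ := Algebra.FormallySmooth.liftOfSurjective (AlgHom.id (Λ ⧸ RingHom.ker (algebraMap Λ k)) k) r hr hnil
  refine ⟨σ₀.restrictScalars Λ, fun c => ?_⟩
  exact Algebra.FormallySmooth.liftOfSurjective_apply (AlgHom.id _ k) r hr hnil c

end coeff

section main

open ArtFun ArtFun.Art CategoryTheory

variable {Λ : Type u} {k : Type u} [CommRing Λ] [Field k] [Algebra Λ k]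
  [IsNoetherianRing Λ] [Module.Finite Λ k]

theorem essential_of_cotangent {A B : ArtFun.Art Λ k} (f : B ⟶ A)
    (h1 : Ideal.map (algebraMap Λ A) (RingHom.ker (algebraMap Λ k)) ⊔
      Ideal.map f.toAlgHom (maximalIdeal B) ⊔ maximalIdeal A ^ 2 = maximalIdeal A)
    (h2 : ∀ b ∈ maximalIdeal B, f b ∈ Ideal.map (algebraMap Λ A) (RingHom.ker (algebraMap Λ k)) ⊔
        maximalIdeal A ^ 2 →
      b ∈ Ideal.map (algebraMap Λ B) (RingHom.ker (algebraMap Λ k)) ⊔ maximalIdeal B ^ 2) :
    Function.Surjective f ∧ ∀ (C : ArtFun.Art Λ k) (g : C ⟶ B),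
      Function.Surjective (g ≫ f) → Function.Surjective g := by
  have hf : Function.Surjective f := ((Groth.Agent.S12709.result f).out 0 2).2 h1
  refine ⟨hf, fun C g hgf => ?_⟩
  have h3 := ((Groth.Agent.S12709.result (g ≫ f)).out 0 2).1 hgf
  refine ((Groth.Agent.S12709.result g).out 0 2).2 (le_antisymm ?_ ?_)
  · refine sup_le (sup_le ?_ (Groth.Agent.S12709.map_le_maximalIdeal g))
      (Ideal.pow_le_self two_ne_zero)
    exact (Groth.Agent.S12709.mapΛ_le_map g).trans (Groth.Agent.S12709.map_le_maximalIdeal g)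
  · intro b hb
    have hfb : f b ∈ maximalIdeal A := by
      rw [Art.mem_maximalIdeal_iff, Art.res_app, ← Art.mem_maximalIdeal_iff]
      exact hb
    rw [← h3] at hfb
    obtain ⟨uv, huv, w, hw, h4⟩ := Submodule.mem_sup.1 hfb
    obtain ⟨u, hu, v, hv, h5⟩ := Submodule.mem_sup.1 huv
    obtain ⟨c, hc, hcv⟩ := (Ideal.mem_map_iff_of_surjective (g ≫ f).toAlgHom hgf).1 hv
    have hcv' : f (g c) = v := hcv
    have hgc : g c ∈ maximalIdeal B := by
      rw [Art.mem_maximalIdeal_iff, Art.res_app, ← Art.mem_maximalIdeal_iff]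
      exact hc
    have h6 : f (b - g c) ∈ Ideal.map (algebraMap Λ A) (RingHom.ker (algebraMap Λ k)) ⊔
        maximalIdeal A ^ 2 := by
      have : f (b - g c) = u + w := by
        change f.toAlgHom (b - g c) = u + w
        rw [map_sub]
        change f b - f (g c) = u + w
        rw [hcv', ← h4, ← h5]
        ring
      rw [this]
      exact Ideal.add_mem _ (Ideal.mem_sup_left hu) (Ideal.mem_sup_right hw)
    have h8 := h2 _ (Ideal.sub_mem _ hb hgc) h6
    have e : b = (b - g c) + g c := by ring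
    rw [e]
    refine Ideal.add_mem _ ?_ (Ideal.mem_sup_left (Ideal.mem_sup_right (Ideal.mem_map_of_mem _ hc)))
    obtain ⟨x, hx, y, hy, hxy⟩ := Submodule.mem_sup.1 h8
    rw [← hxy]
    exact Ideal.add_mem _ (Ideal.mem_sup_left (Ideal.mem_sup_left hx)) (Ideal.mem_sup_right hy)


theorem injective_of_essential [Algebra.IsSeparable (↥(algebraMap Λ k).range) k]
    {A B : ArtFun.Art Λ k} (f : B ⟶ A) (hf : Function.Surjective f)
    (hess : ∀ (C : ArtFun.Art Λ k) (g : C ⟶ B), Function.Surjective (g ≫ f) → Function.Surjective g)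
    (b : B) (hb : b ∈ maximalIdeal B)
    (hfb : f b ∈ Ideal.map (algebraMap Λ A) (RingHom.ker (algebraMap Λ k)) ⊔ maximalIdeal A ^ 2) :
    b ∈ Ideal.map (algebraMap Λ B) (RingHom.ker (algebraMap Λ k)) ⊔ maximalIdeal B ^ 2 := by
  by_contra hbN
  obtain ⟨N, hN⟩ : ∃ N : Ideal B, N = Ideal.map (algebraMap Λ B) (RingHom.ker (algebraMap Λ k)) ⊔
      maximalIdeal B ^ 2 := ⟨_, rfl⟩
  rw [← hN] at hbN
  have hNm : N ≤ maximalIdeal B := by
    rw [hN]
    refine sup_le ?_ (Ideal.pow_le_self two_ne_zero)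
    rw [Ideal.map_le_iff_le_comap]
    intro l hl
    rw [Ideal.mem_comap, Art.mem_maximalIdeal_iff, AlgHom.commutes]
    exact hl
  -- a maximal ideal `I` between `N` and `m_B` not containing `b`
  have hne : ({J : Ideal B | N ≤ J ∧ J ≤ maximalIdeal B ∧ b ∉ J} : Set (Ideal B)).Nonempty :=
    ⟨N, le_rfl, hNm, hbN⟩
  obtain ⟨I, ⟨hNI, hIm, hbI⟩, hImax⟩ :=
    (set_has_maximal_iff_noetherian (R := B) (M := B)).2 inferInstance _ hne
  have hIb : I ⊔ Ideal.span {b} = maximalIdeal B := by
    apply le_antisymm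
    · exact sup_le hIm ((Ideal.span_singleton_le_iff_mem _).2 hb)
    · intro x hx
      by_contra hxn
      have hxI : x ∉ I := fun h => hxn (Ideal.mem_sup_left h)
      have hlt : I < I ⊔ Ideal.span {x} := by
        refine lt_of_le_of_ne le_sup_left (fun h => hxI ?_)
        rw [h]
        exact Ideal.mem_sup_right (Ideal.mem_span_singleton_self x)
      have hJ : ¬ (N ≤ I ⊔ Ideal.span {x} ∧ I ⊔ Ideal.span {x} ≤ maximalIdeal B ∧
          b ∉ I ⊔ Ideal.span {x}) := fun h => hImax _ h hlt
      have hbJ : b ∈ I ⊔ Ideal.span {x} := by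
        by_contra hbJ
        exact hJ ⟨hNI.trans le_sup_left,
          sup_le hIm ((Ideal.span_singleton_le_iff_mem _).2 hx), hbJ⟩
      obtain ⟨i, hi, z, hz, hiz⟩ := Submodule.mem_sup.1 hbJ
      obtain ⟨y, rfl⟩ := Ideal.mem_span_singleton'.1 hz
      by_cases hy : y ∈ maximalIdeal B
      · apply hbI
        rw [← hiz]
        refine Ideal.add_mem _ hi (hNI ?_)
        rw [hN]
        refine Ideal.mem_sup_right ?_
        rw [pow_two]
        exact Ideal.mul_mem_mul hy hx
      · have hyu : IsUnit y := by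
          by_contra h
          exact hy h
        obtain ⟨y', hy'⟩ := hyu.exists_left_inv
        apply hxn
        have : x = y' * (b - i) := by
          rw [← hiz]
          have : y' * (i + y * x - i) = (y' * y) * x := by ring
          rw [this, hy', one_mul]
        rw [this]
        exact Ideal.mul_mem_left _ _ (Ideal.sub_mem _ (Ideal.mem_sup_right
          (Ideal.mem_span_singleton_self b)) (Ideal.mem_sup_left hi))
  -- the quotient object
  have hItop : I ≠ ⊤ := fun h => (maximalIdeal.isMaximal B).ne_top (top_le_iff.1 (h ▸ hIm))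
  haveI : Nontrivial (B ⧸ I) := Ideal.Quotient.nontrivial_iff.2 hItop
  haveI : IsLocalRing (B ⧸ I) :=
    IsLocalRing.of_surjective' (Ideal.Quotient.mk I) Ideal.Quotient.mk_surjective
  have hresI : ∀ a ∈ I, B.res a = 0 := fun a ha => (Art.mem_maximalIdeal_iff B a).1 (hIm ha)
  let D : ArtFun.Art Λ k := ArtFun.Art.of (B ⧸ I) (Ideal.Quotient.liftₐ I B.res hresI) (fun c => by
    obtain ⟨a, ha⟩ := B.res_surjective c
    exact ⟨Ideal.Quotient.mk I a, ha⟩)
  let q : B ⟶ D := ArtFun.Art.homMk (Ideal.Quotient.mkₐ Λ I) (Ideal.Quotient.liftₐ_comp I B.res hresI)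
  have hq : Function.Surjective q := Ideal.Quotient.mk_surjective
  have hqz : ∀ x : B, q x = 0 ↔ x ∈ I := fun x => Ideal.Quotient.eq_zero_iff_mem
  have hD : ∀ l ∈ RingHom.ker (algebraMap Λ k), algebraMap Λ D l = 0 := by
    intro l hl
    have h1 : algebraMap Λ D l = q (algebraMap Λ B l) := (q.toAlgHom.commutes l).symm
    rw [h1, hqz]
    apply hNI
    rw [hN]
    exact Ideal.mem_sup_left (Ideal.mem_map_of_mem _ hl)
  obtain ⟨σ, hσ⟩ := exists_section D hD
  let σ' : ArtFun.Art.base Λ k ⟶ D := ArtFun.Art.homMk σ (AlgHom.ext hσ)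
  obtain ⟨C, p₁, p₂, hfp⟩ := Groth.Agent.S12710.result σ' q hq
  -- `p₂` is not surjective
  have hp₂ : ¬ Function.Surjective p₂ := by
    intro hsurj
    obtain ⟨c, hc⟩ := hsurj b
    have h1 : σ' (p₁ c) = q (p₂ c) := hfp.w_apply c
    have h2 : D.res (σ' (p₁ c)) = 0 := by
      rw [h1, Art.res_app, hc, ← Art.mem_maximalIdeal_iff]
      exact hb
    have h3 : p₁ c = (0 : k) := by
      rw [← hσ (p₁ c)]
      exact h2
    have h4 : q b = 0 := by
      rw [← hc, ← h1]
      change σ (p₁ c) = 0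
      rw [h3, map_zero]
    exact hbI ((hqz b).1 h4)
  -- but `p₂ ≫ f` is
  apply hp₂
  apply hess C p₂
  refine ((Groth.Agent.S12709.result (p₂ ≫ f)).out 0 2).2 (le_antisymm ?_ ?_)
  · refine sup_le (sup_le ?_ (Groth.Agent.S12709.map_le_maximalIdeal (p₂ ≫ f)))
      (Ideal.pow_le_self two_ne_zero)
    exact (Groth.Agent.S12709.mapΛ_le_map (p₂ ≫ f)).trans
      (Groth.Agent.S12709.map_le_maximalIdeal (p₂ ≫ f))
  · intro a ha
    obtain ⟨b', rfl⟩ := hf a
    have hb' : b' ∈ maximalIdeal B := by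
      rw [Art.mem_maximalIdeal_iff, ← Art.res_app f, ← Art.mem_maximalIdeal_iff]
      exact ha
    rw [← hIb] at hb'
    obtain ⟨i, hi, z, hz, hiz⟩ := Submodule.mem_sup.1 hb'
    obtain ⟨y, rfl⟩ := Ideal.mem_span_singleton'.1 hz
    obtain ⟨c, hc1, hc2⟩ := hfp.surj (0 : k) i (by
      change σ 0 = q i
      rw [map_zero, eq_comm, hqz]
      exact hi)
    have hcm : c ∈ maximalIdeal C := by
      rw [Art.mem_maximalIdeal_iff, ← Art.res_app p₂, hc2, ← Art.mem_maximalIdeal_iff]
      exact hIm hi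
    have e : f b' = f (p₂ c) + f y * f b := by
      rw [← hiz, hc2]
      change f.toAlgHom (i + y * b) = f.toAlgHom i + f.toAlgHom y * f.toAlgHom b
      rw [map_add, map_mul]
    rw [e]
    refine Ideal.add_mem _ (Ideal.mem_sup_left (Ideal.mem_sup_right
      (Ideal.mem_map_of_mem (p₂ ≫ f).toAlgHom hcm))) ?_
    obtain ⟨x, hx, w, hw, hxw⟩ := Submodule.mem_sup.1 hfb
    rw [← hxw, mul_add]
    exact Ideal.add_mem _ (Ideal.mem_sup_left (Ideal.mem_sup_left (Ideal.mul_mem_left _ _ hx)))
      (Ideal.mem_sup_right (Ideal.mul_mem_left _ _ hw))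

end main

/-- Suppose k is separable over the image of Λ → k. A morphism f : B → A in the category of Artinian
local Λ-algebras with residue field k is an essential surjection (surjective, and any morphism g
into B with g followed by f surjective is surjective) if and only if the map of cotangent spaces
relative to Λ, m_B/(m_Λ B + m_B²) → m_A/(m_Λ A + m_A²), is an isomorphism; surjectivity and
injectivity are written out in terms of ideals, m_Λ being the kernel of Λ → k. -/
theorem result {Λ : Type u} {k : Type u} [CommRing Λ] [Field k] [Algebra Λ k]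
    [IsNoetherianRing Λ] [Module.Finite Λ k]
    [Algebra.IsSeparable (↥(algebraMap Λ k).range) k]
    {A B : ArtFun.Art Λ k} (f : B ⟶ A) :
    (Function.Surjective f ∧ ∀ (C : ArtFun.Art Λ k) (g : C ⟶ B), Function.Surjective (g ≫ f) → Function.Surjective g) ↔
      (Ideal.map (algebraMap Λ A) (RingHom.ker (algebraMap Λ k)) ⊔ Ideal.map f.toAlgHom (IsLocalRing.maximalIdeal B) ⊔ IsLocalRing.maximalIdeal A ^ 2 =
          IsLocalRing.maximalIdeal A ∧
        ∀ b ∈ IsLocalRing.maximalIdeal B, f b ∈ Ideal.map (algebraMap Λ A) (RingHom.ker (algebraMap Λ k)) ⊔ IsLocalRing.maximalIdeal A ^ 2 →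
          b ∈ Ideal.map (algebraMap Λ B) (RingHom.ker (algebraMap Λ k)) ⊔ IsLocalRing.maximalIdeal B ^ 2) := by
  constructor
  · rintro ⟨hf, hess⟩
    exact ⟨((Groth.Agent.S12709.result f).out 0 2).1 hf,
      fun b hb hfb => injective_of_essential f hf hess b hb hfb⟩
  · rintro ⟨h1, h2⟩
    exact essential_of_cotangent f h1 h2

end Groth.Agent.S12753
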