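import Groth.Statements.S12754
import Mathlib

set_option autoImplicit false
universe u
open CategoryTheory
open ArtFun

namespace Groth.Agent.S12754

open CategoryTheory TensorProduct

section
variable (K : Type u) [Field K]

lemma hom_add' {V W : FGModuleCat.{u} K} (f g : V ⟶ W) : (f + g).hom = f.hom + g.hom := rfl
lemma hom_smul' {V W : FGModuleCat.{u} K} (c : K) (f : V ⟶ W) : (c • f).hom = c • f.hom := rfl
lemma hom_sum' {V W : FGModuleCat.{u} K} {ι : Type*} (s : Finset ι) (f : ι → (V ⟶ W)) :
    (∑ i ∈ s, f i).hom = ∑ i ∈ s, (f i).hom := by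
  classical
  induction s using Finset.induction_on with
  | empty => rfl
  | insert a s ha ih => rw [Finset.sum_insert ha, Finset.sum_insert ha, hom_add', ih]

variable (L : FGModuleCat.{u} K ⥤ ModuleCat.{u} K) [L.Additive] [Functor.Linear K L]

/-- the morphism `K → V`, `1 ↦ v` -/
noncomputable def fv (V : FGModuleCat.{u} K) (v : V) : FGModuleCat.of K K ⟶ V :=
  ObjectProperty.homMk (ModuleCat.ofHom (LinearMap.toSpanSingleton K V v))

@[simp] lemma fv_apply (V : FGModuleCat.{u} K) (v : V) (c : K) :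
    (fv K V v).hom.hom c = c • v := rfl

lemma fv_add (V : FGModuleCat.{u} K) (v w : V) : fv K V (v + w) = fv K V v + fv K V w := by
  ext
  change (1 : K) • (v + w) = (1 : K) • v + (1 : K) • w
  simp

lemma fv_smul (V : FGModuleCat.{u} K) (c : K) (v : V) : fv K V (c • v) = c • fv K V v := by
  ext
  change (1 : K) • (c • v) = c • ((1 : K) • v)
  simp

lemma fv_comp {V W : FGModuleCat.{u} K} (g : V ⟶ W) (v : V) :
    fv K V v ≫ g = fv K W (g.hom.hom v) := by
  ext
  change g.hom.hom ((1 : K) • v) = (1 : K) • g.hom.hom v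
  simp

/-- the comparison map `L(K) ⊗ V → L(V)` -/
noncomputable def eta (V : FGModuleCat.{u} K) :
    (L.obj (FGModuleCat.of K K)) ⊗[K] V →ₗ[K] L.obj V :=
  TensorProduct.lift (LinearMap.mk₂ K (fun x v => (L.map (fv K V v)).hom x)
    (fun x y v => map_add _ x y)
    (fun c x v => map_smul _ c x)
    (fun x v w => by rw [fv_add, Functor.map_add]; rfl)
    (fun c x v => by rw [fv_smul, Functor.map_smul]; rfl))

@[simp] lemma eta_tmul (V : FGModuleCat.{u} K) (x : L.obj (FGModuleCat.of K K)) (v : V) :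
    eta K L V (x ⊗ₜ v) = (L.map (fv K V v)).hom x := rfl

variable {K}

/-- coordinate projections -/
noncomputable def pr (V : FGModuleCat.{u} K) {n : ℕ} (b : Module.Basis (Fin n) K V) (i : Fin n) :
    V ⟶ FGModuleCat.of K K :=
  ObjectProperty.homMk (ModuleCat.ofHom (b.coord i))

lemma sum_pr_fv (V : FGModuleCat.{u} K) {n : ℕ} (b : Module.Basis (Fin n) K V) :
    ∑ i, pr V b i ≫ fv K V (b i) = 𝟙 V := by
  ext v
  rw [hom_sum', ModuleCat.hom_sum, LinearMap.sum_apply]
  change ∑ i, (b.coord i v) • b i = v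
  exact b.sum_repr v

lemma fv_pr (V : FGModuleCat.{u} K) {n : ℕ} (b : Module.Basis (Fin n) K V) (i : Fin n) (v : V) :
    fv K V v ≫ pr V b i = (b.coord i v) • 𝟙 (FGModuleCat.of K K) := by
  ext
  change b.coord i ((1 : K) • v) = (b.coord i v) • (1 : K)
  simp

lemma map_comp_apply {V W U : FGModuleCat.{u} K} (f : V ⟶ W) (g : W ⟶ U) (y : L.obj V) :
    (L.map g).hom ((L.map f).hom y) = (L.map (f ≫ g)).hom y := by
  rw [L.map_comp]; rfl

/-- the inverse map -/
noncomputable def theta (V : FGModuleCat.{u} K) {n : ℕ} (b : Module.Basis (Fin n) K V) :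
    L.obj V →ₗ[K] (L.obj (FGModuleCat.of K K)) ⊗[K] V :=
  ∑ i, ((TensorProduct.mk K (L.obj (FGModuleCat.of K K)) V).flip (b i)) ∘ₗ (L.map (pr V b i)).hom

lemma theta_apply (V : FGModuleCat.{u} K) {n : ℕ} (b : Module.Basis (Fin n) K V) (y : L.obj V) :
    theta L V b y = ∑ i, ((L.map (pr V b i)).hom y) ⊗ₜ[K] (b i) := by
  simp [theta, LinearMap.sum_apply]

lemma eta_theta (V : FGModuleCat.{u} K) {n : ℕ} (b : Module.Basis (Fin n) K V) (y : L.obj V) :
    eta K L V (theta L V b y) = y := by
  rw [theta_apply, map_sum]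
  simp only [eta_tmul, map_comp_apply]
  have : ∑ i, (L.map (pr V b i ≫ fv K V (b i))).hom y
      = (L.map (∑ i, pr V b i ≫ fv K V (b i))).hom y := by
    rw [Functor.map_sum, ModuleCat.hom_sum, LinearMap.sum_apply]
  rw [this, sum_pr_fv, L.map_id]
  rfl

lemma theta_eta (V : FGModuleCat.{u} K) {n : ℕ} (b : Module.Basis (Fin n) K V)
    (t : (L.obj (FGModuleCat.of K K)) ⊗[K] V) :
    theta L V b (eta K L V t) = t := by
  induction t using TensorProduct.induction_on with
  | zero => simp
  | add s t hs ht => rw [map_add, map_add, hs, ht]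
  | tmul x v =>
    rw [eta_tmul, theta_apply]
    simp only [map_comp_apply, fv_pr, Functor.map_smul, L.map_id]
    have : ∀ i, (ModuleCat.Hom.hom ((b.coord i) v • 𝟙 (L.obj (FGModuleCat.of K K)))) x
        = (b.coord i v) • x := fun i => rfl
    simp only [this, TensorProduct.smul_tmul]
    rw [← TensorProduct.tmul_sum]
    congr 1
    exact b.sum_repr v

/-- the componentwise equivalence -/
noncomputable def equivV (V : FGModuleCat.{u} K) :
    ((L.obj (FGModuleCat.of K K)) ⊗[K] V) ≃ₗ[K] L.obj V :=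
  LinearEquiv.ofLinearMap (eta K L V) (theta L V (Module.finBasis K V))
    (LinearMap.ext (eta_theta L V _)) (LinearMap.ext (theta_eta L V _))

end

/-- A K-linear functor L from finite-dimensional K-vector spaces to K-vector spaces (K a field) is
isomorphic to the functor V ↦ L(K) ⊗_K V. (Existence of an isomorphism of functors, which is how the
published statement reads; the natural choice sends x ⊗ v to L(f_v)(x) with f_v : K → V, 1 ↦ v.) -/
theorem result (K : Type u) [Field K]
    (L : FGModuleCat.{u} K ⥤ ModuleCat.{u} K) [L.Additive] [Functor.Linear K L] :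
    Nonempty (L ≅ (ModuleCat.isFG.{u} K).ι ⋙ MonoidalCategory.tensorLeft (L.obj (FGModuleCat.of K K))) := by
  refine ⟨(NatIso.ofComponents (fun V => (equivV L V).toModuleIso) ?_).symm⟩
  intro V W g
  apply ModuleCat.hom_ext
  apply TensorProduct.ext'
  intro x v
  change eta K L W (x ⊗ₜ (g.hom.hom v)) = (L.map g).hom (eta K L V (x ⊗ₜ v))
  rw [eta_tmul, eta_tmul, map_comp_apply, fv_comp]

end Groth.Agent.S12754
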