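import Groth.Statements.S12757
import Groth.Agent.Lib.Helper17.ArtAct
import Groth.Agent.S12716
import Groth.Agent.S12731
import Groth.Agent.S12250
import Mathlib

set_option autoImplicit false
universe u v
open CategoryTheory
open ArtFun

namespace Groth.Agent.S12757
open Groth.Agent.Lib.helper17.ArtAct

/-- For functors, let F be a functor on Artinian local Λ-algebras with residue field k with F(k) a
point. A versal family of F over a complete local Noetherian R with residue field k which is
bijective on tangent spaces (a hull; bijectivity implies bijectivity on orbits of the derivations of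
k) is minimal: every morphism of coefficient rings R' → R along which some formal element over R'
pushes forward to the formal element of the family is surjective. -/
theorem result {Λ : Type u} {k : Type u} [CommRing Λ] [Field k] [Algebra Λ k]
    [IsNoetherianRing Λ] [Module.Finite Λ k]
    {F : ArtFun.Art Λ k ⥤ Type v} (h0 : ArtFun.H0 F) (P : ArtFun.Hull F) :
    P.family.IsMinimalVersal := by
  classical
  obtain ⟨R, ξ, ⟨hver, hbij⟩⟩ := P
  show ξ.IsMinimalVersal
  refine ⟨hver, ?_⟩
  intro R' u f hf hpush
  letI : Algebra R.carrier k := R.res.toRingHom.toAlgebra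
  have halg : ∀ r : R.carrier, algebraMap R.carrier k r = R.res r := fun r => rfl
  haveI : IsScalarTower Λ R.carrier k :=
    IsScalarTower.of_algebraMap_eq (fun r => (R.res.commutes r).symm)
  haveI := R.isAdicComplete
  have hres : (IsScalarTower.toAlgHom Λ R.carrier k) = R.res := AlgHom.ext fun r => rfl
  refine Groth.Agent.S12716.result R' R.carrier R.res_surjective f (by rw [hres]; exact hf) ?_
  intro D₁ D₂ hD
  -- the two tangent vectors
  let θ : Derivation Λ R.carrier k → ArtFun.HomSet R.carrier R.res (ArtFun.Art.dual Λ k) :=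
    fun D => ⟨Groth.Agent.S12731.thetaHom R.res halg D, AlgHom.ext fun r => rfl⟩
  have hθ : θ D₁ = θ D₂ := by
    apply hbij.1
    obtain ⟨n₁, hn₁⟩ := Groth.Agent.S12250.exists_mpow_le_ker R (ArtFun.Art.dual Λ k) (θ D₁)
    obtain ⟨n₂, hn₂⟩ := Groth.Agent.S12250.exists_mpow_le_ker R (ArtFun.Art.dual Λ k) (θ D₂)
    have hle : ∀ {a b : ℕ}, a ≤ b → ArtFun.CRing.mpow R b ≤ ArtFun.CRing.mpow R a := fun h =>
      Ideal.pow_le_pow_right (Nat.succ_le_succ h)
    have hm₁ : ArtFun.CRing.mpow R (max n₁ n₂) ≤ RingHom.ker ((θ D₁).1 : R.carrier →+* (ArtFun.Art.dual Λ k)) :=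
      (hle (le_max_left _ _)).trans hn₁
    have hm₂ : ArtFun.CRing.mpow R (max n₁ n₂) ≤ RingHom.ker ((θ D₂).1 : R.carrier →+* (ArtFun.Art.dual Λ k)) :=
      (hle (le_max_right _ _)).trans hn₂
    set n := max n₁ n₂
    have e₁ : ξ.app _ (θ D₁) = F.map (ArtFun.CRing.truncMapOfHom f hf n ≫
        Groth.Agent.S12250.fac R (θ D₁) n hm₁) (u.elt n) := by
      rw [map_comp_apply]
      have : F.map (ArtFun.CRing.truncMapOfHom f hf n) (u.elt n) = ξ.toFormalElt.elt n := by
        rw [← hpush]; rfl
      rw [this]
      show _ = F.map _ (ξ.app _ (R.truncHom n))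
      rw [family_natural', Groth.Agent.S12250.map_fac]
    have e₂ : ξ.app _ (θ D₂) = F.map (ArtFun.CRing.truncMapOfHom f hf n ≫
        Groth.Agent.S12250.fac R (θ D₂) n hm₂) (u.elt n) := by
      rw [map_comp_apply]
      have : F.map (ArtFun.CRing.truncMapOfHom f hf n) (u.elt n) = ξ.toFormalElt.elt n := by
        rw [← hpush]; rfl
      rw [this]
      show _ = F.map _ (ξ.app _ (R.truncHom n))
      rw [family_natural', Groth.Agent.S12250.map_fac]
    have e₃ : ArtFun.CRing.truncMapOfHom f hf n ≫ Groth.Agent.S12250.fac R (θ D₁) n hm₁ =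
        ArtFun.CRing.truncMapOfHom f hf n ≫ Groth.Agent.S12250.fac R (θ D₂) n hm₂ := by
      apply ArtFun.Art.hom_ext
      apply AlgHom.ext
      intro x
      obtain ⟨a, rfl⟩ := Ideal.Quotient.mk_surjective x
      show (θ D₁).1 (f a) = (θ D₂).1 (f a)
      exact TrivSqZeroExt.ext rfl (hD a)
    rw [e₁, e₂, e₃]
  ext r
  have := congrArg (fun φ : ArtFun.HomSet R.carrier R.res (ArtFun.Art.dual Λ k) =>
    TrivSqZeroExt.snd (show TrivSqZeroExt k k from φ.1 r)) hθ
  exact this

end Groth.Agent.S12757
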