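import Groth.Statements.S1276
import Mathlib
import Groth.Agent.Lib.Helper2.SuppAlg

set_option autoImplicit false
universe u
open FlatMor

namespace Groth.Agent.S1276

attribute [local instance] Algebra.TensorProduct.rightAlgebra

/-- Let B be a finite type A-algebra, N a finite B-module and p a prime of A. Then there is a finitely
generated ideal J of B annihilating N (so N is a module on the finitely presented closed subscheme
V(J) of Spec B) such that a point of the fibre Spec(κ(p) ⊗ B) lies in V(J) if and only if it lies in
the support of the fibre module of N. -/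
theorem result {A B : Type u} [CommRing A] [CommRing B] [Algebra A B] [Algebra.FiniteType A B]
    (N : Type u) [AddCommGroup N] [Module B N] [Module A N] [IsScalarTower A B N] [Module.Finite B N] (p : Ideal A) [p.IsPrime] :
    ∃ J : Ideal B, J.FG ∧ J ≤ Module.annihilator B N ∧
      ∀ x : PrimeSpectrum (p.Fiber B), FlatCA.fiberIdeal p J ≤ x.asIdeal ↔ x ∈ Module.support (p.Fiber B) (FlatCA.fiberMod p B N) := by
  classical
  have : Algebra.FiniteType p.ResidueField (p.Fiber B) := inferInstance
  have hN : IsNoetherianRing (p.Fiber B) := Algebra.FiniteType.isNoetherianRing p.ResidueField _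
  set ι := (Algebra.TensorProduct.includeRight (R := A) (A := p.ResidueField) (B := B)).toRingHom
    with hι
  have halg : algebraMap B (p.Fiber B) = ι := rfl
  set I := Module.annihilator B N with hI
  have hfg : (Ideal.map ι I).FG := (isNoetherianRing_iff_ideal_fg _).mp hN _
  have hfg' : (Submodule.span (p.Fiber B) (ι '' (I : Set B))).FG := hfg
  rw [Submodule.fg_span_iff_fg_span_finset_subset] at hfg'
  obtain ⟨T, hT, hTspan⟩ := hfg'
  obtain ⟨U, hU, hUT⟩ := Finset.subset_set_image_iff.mp hT
  refine ⟨Ideal.span (U : Set B), ⟨U, rfl⟩, Ideal.span_le.mpr hU, ?_⟩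
  have hmap : FlatCA.fiberIdeal p (Ideal.span (U : Set B)) = Ideal.map ι I := by
    unfold FlatCA.fiberIdeal
    rw [Ideal.map_span]
    have h1 : (ι '' (U : Set B)) = (T : Set (p.Fiber B)) := by
      rw [← hUT, Finset.coe_image]
    show Ideal.span (ι '' (U : Set B)) = Ideal.map ι I
    rw [h1]
    exact hTspan.symm
  intro x
  rw [hmap]
  have hsupp := Groth.Agent.Lib.helper2.SuppAlg.support_baseChange (A := B) (A' := p.Fiber B) N
  have hx : x ∈ Module.support (p.Fiber B) (FlatCA.fiberMod p B N) ↔
      PrimeSpectrum.comap (algebraMap B (p.Fiber B)) x ∈ Module.support B N := by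
    change x ∈ Module.support (p.Fiber B) (TensorProduct B (p.Fiber B) N) ↔ _
    rw [hsupp]
    rfl
  rw [hx, Module.mem_support_iff_of_finite, Ideal.map_le_iff_le_comap, halg]
  rfl

end Groth.Agent.S1276
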