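import Groth.Statements.S12777
import Mathlib
import Groth.Agent.Lib.Helper4.PshRep

set_option autoImplicit false
open CategoryTheory AlgebraicGeometry
universe u
open AlgSt

namespace Groth.Agent.S12777
open Groth.Agent.Lib.helper4.PshDict Groth.Agent.Lib.helper4.PshRep Stk

/-- For presheaves of sets `F`, `G` on `(Sch/S)`, let `a : F ⟶ G` be a morphism between them. Then `a`
is representable by algebraic spaces (as a map of presheaves: every `h_U ×_G F` is an algebraic
space) if and only if the associated 1-morphism of categories fibred in sets is representable by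
algebraic spaces. -/
theorem result {S : Scheme.{u}} {F G : AlgSp.PSp S} (a : F ⟶ G) :
    AlgSp.RepBySp a ↔ AlgSt.RepByAlgSp1 (Stk.ofPshMap a) := by
  constructor
  · intro h U y
    let ξ : (AlgSp.pyon S).obj U ⟶ G := yonMap.{u + 1} (secOf y (Over.mk (𝟙 U)))
    have sq : IsPullback (Limits.pullback.fst a ξ) (Limits.pullback.snd a ξ) a ξ := IsPullback.of_hasPullback a ξ
    obtain ⟨hs, hA⟩ := h ξ _ _ sq
    obtain ⟨F', e, he, -⟩ := (rep_iff a y ξ ⊤ (isoYon y) sq).2 ⟨hs, hA, trivial⟩
    exact ⟨F', e, he⟩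
  · intro h U ξ F' fst snd sq
    obtain ⟨F'', e, he⟩ := h U (BasedFunctor.comp (toYon.{u + 1} U) (ofPshMap ξ))
    obtain ⟨hs, hA, -⟩ := (rep_iff a (BasedFunctor.comp (toYon.{u + 1} U) (ofPshMap ξ)) ξ ⊤ (Iso.refl _) sq).1
      ⟨F'', e, he, trivial⟩
    exact ⟨hs, hA⟩

end Groth.Agent.S12777
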