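import Groth.Statements.S1278
import Groth.Agent.Lib.Helper3.FlatAbove2

set_option autoImplicit false
universe u
open FlatMor

namespace Groth.Agent.S1278

open IsLocalRing in
/-- Let A be a local ring and B → C a finite local homomorphism of local A-algebras (A → B local), and N
a C-module, viewed also as a B-module. For every local homomorphism of local rings A → A', with base
changes B', C' of B, C and base changes M' (of N over B') and N' (of N over C'): M' is flat over A'
at every prime of B' containing 𝔪_{A'}B' + 𝔪_B B' if and only if N' is flat over A' at every prime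
of C' containing 𝔪_{A'}C' + 𝔪_C C'. -/
theorem result {A B C : Type u} [CommRing A] [IsLocalRing A] [CommRing B] [IsLocalRing B] [CommRing C] [IsLocalRing C]
    [Algebra A B] [IsLocalHom (algebraMap A B)] [Algebra B C] [IsLocalHom (algebraMap B C)] [Algebra A C] [IsScalarTower A B C] [Module.Finite B C]
    (N : Type u) [AddCommGroup N] [Module C N] [Module B N] [IsScalarTower B C N]
    (A' : Type u) [CommRing A'] [IsLocalRing A'] [Algebra A A'] [IsLocalHom (algebraMap A A')]
    (B' M' : Type u) [CommRing B'] [Algebra B B'] [Algebra A' B'] [Algebra A B'] [IsScalarTower A B B'] [IsScalarTower A A' B']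
        [Algebra.IsPushout A B A' B']
        [AddCommGroup M'] [Module B' M'] [Module B M'] [IsScalarTower B B' M'] [Module A' M'] [IsScalarTower A' B' M']
        (fB : N →ₗ[B] M') (hfB : IsBaseChange B' fB)
    (C' N' : Type u) [CommRing C'] [Algebra C C'] [Algebra A' C'] [Algebra A C'] [IsScalarTower A C C'] [IsScalarTower A A' C']
        [Algebra.IsPushout A C A' C']
        [AddCommGroup N'] [Module C' N'] [Module C N'] [IsScalarTower C C' N'] [Module A' N'] [IsScalarTower A' C' N']
        (fC : N →ₗ[C] N') (hfC : IsBaseChange C' fC) :
    FlatCA.FlatAboveClosedPoints B A' B' M' ↔ FlatCA.FlatAboveClosedPoints C A' C' N' := by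
  obtain ⟨a1, a2, t1, t2, t3, po⟩ :=
    Groth.Agent.Lib.helper3.FlatAbove.exists_algebra A B C A' B' C'
  letI := a1
  letI := a2
  haveI := t1
  haveI := t2
  haveI := t3
  haveI := po
  haveI : Algebra.IsIntegral B C := inferInstance
  haveI : Algebra.IsIntegral B' C' := Algebra.IsPushout.isIntegral (R := B) (S := C) (A := B') (SA := C')
  letI : Module B' N' := Module.compHom N' (algebraMap B' C')
  haveI : IsScalarTower B' C' N' := IsScalarTower.of_algebraMap_smul (fun r x => rfl)
  haveI : IsScalarTower A' B' N' := IsScalarTower.of_algebraMap_smul (fun r x => by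
    rw [← algebraMap_smul C' (algebraMap A' B' r) x, ← IsScalarTower.algebraMap_apply A' B' C',
      algebraMap_smul])
  obtain ⟨e⟩ := Groth.Agent.Lib.helper3.FlatAbove.nonempty_linearEquiv fB hfB fC hfC
  exact Groth.Agent.Lib.helper3.FlatAbove.finite_clean M' N' e

end Groth.Agent.S1278
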