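import Groth.Statements.S12781
import Mathlib
import Groth.Agent.Lib.Helper4.AlgStDescentFam

set_option autoImplicit false
open CategoryTheory AlgebraicGeometry
universe u
open AlgSt

namespace Groth.Agent.S12781

/-- Let `𝒳`, `𝒴`, `𝒵` be fibred in groupoids over `(Sch/S)`, `P` a property of morphisms of algebraic
spaces stable under base change and fppf local on the base, `f : 𝒳 ⟶ 𝒴` representable by algebraic
spaces and `g : 𝒵 ⟶ 𝒴` a 1-morphism such that for every scheme `U` and every `y : (Sch/U) ⟶ 𝒴` there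
is an fppf covering sieve of `U` on whose members `V ⟶ U` the restriction of `y` is 2-isomorphic to
`g ∘ z` for some `z : (Sch/V) ⟶ 𝒵`. If the base change `𝒵 ×_𝒴 𝒳 ⟶ 𝒵` has `P`, then `f` has `P`.
(Stability under base change is asked for every pullback square of fppf sheaves whose four corners
are algebraic spaces.) -/
theorem result {S : Scheme.{u}} {𝒳 𝒴 𝒵 : AlgSt.Cat S}
    (h𝒳 : FibCat.IsFibGrpd 𝒳.p) (h𝒴 : FibCat.IsFibGrpd 𝒴.p) (h𝒵 : FibCat.IsFibGrpd 𝒵.p)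
    (P : MorphismProperty (AlgSp.Sp S))
    (hPb : ∀ ⦃X₁ Y₁ X₂ Y₂ : AlgSp.Sp S⦄, AlgSp.IsAlgSpace X₁ → AlgSp.IsAlgSpace Y₁ → AlgSp.IsAlgSpace X₂ →
      AlgSp.IsAlgSpace Y₂ → ∀ (a : X₁ ⟶ Y₁) (b : Y₂ ⟶ Y₁) (a' : X₂ ⟶ Y₂) (b' : X₂ ⟶ X₁),
      IsPullback b' a' a b → P a → P a')
    (hP : AlgSp.IsLocalOnBase AlgSp.IsFppfCover P)
    (f : 𝒳 ⥤ᵇ 𝒴) (hf : AlgSt.RepByAlgSp1 f) (g : 𝒵 ⥤ᵇ 𝒴)
    (hg : ∀ (U : Over S) (y : FibCat.overCat U ⥤ᵇ 𝒴), ∃ R ∈ (QuotSh.J Scheme.fppfPrecoverage S) U,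
      ∀ ⦃V : Over S⦄ (h : V ⟶ U), R.arrows h →
        ∃ z : FibCat.overCat V ⥤ᵇ 𝒵, Nonempty (BasedFunctor.comp z g ≅ BasedFunctor.comp (AlgSt.overMap h) y))
    (h' : AlgSt.RepByAlgSpWith P (FibCat.fpFst g f)) :
    AlgSt.RepByAlgSpWith P f := by
  intro U y
  obtain ⟨X, eX, heX⟩ := hf U y
  refine ⟨X, eX, heX, ?_⟩
  obtain ⟨R, hR, hz⟩ := hg U y
  apply Groth.Agent.Lib.helper4.AlgStDescentFam.descent_sieve P hP f y X eX heX R hR
  intro V h hh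
  obtain ⟨z, ⟨i⟩⟩ := hz h hh
  have h1 := h' V z
  have h2 := (Groth.Agent.Lib.helper4.AlgStRep.repData_transfer P
    (Groth.Agent.Lib.helper4.FibPaste.pasteL z g f)
    (Groth.Agent.Lib.helper4.FibPaste.pasteL_isEquivOver z g f)
    (FibCat.fpFst z (FibCat.fpFst g f)) (FibCat.fpFst (BasedFunctor.comp z g) f)
    (Iso.refl _)).mp h1
  exact (Groth.Agent.Lib.helper4.AlgStRep.repData_transfer P
    (Groth.Agent.Lib.helper4.FibPaste.fpMap (BasedFunctor.comp z g) (BasedFunctor.comp (AlgSt.overMap h) y) f f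
      (BasedFunctor.id _) (BasedFunctor.id _) i (Iso.refl _))
    (Groth.Agent.Lib.helper4.FibPaste.fpMap_isEquivOver _ _ _ _ _ _ _ _
      (Groth.Agent.Lib.helper4.FibSwap.isEquivOver_id' _) (Groth.Agent.Lib.helper4.FibSwap.isEquivOver_id' _))
    (FibCat.fpFst (BasedFunctor.comp z g) f) (FibCat.fpFst (BasedFunctor.comp (AlgSt.overMap h) y) f)
    (Iso.refl _)).mp h2

end Groth.Agent.S12781
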