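import Groth.Statements.S12782
import Groth.Agent.Lib.Helper4.AlgStRep

set_option autoImplicit false
open CategoryTheory AlgebraicGeometry
universe u
open AlgSt

namespace Groth.Agent.S12782

/-- Consider a 2-commutative square of 1-morphisms of categories fibred in groupoids over `(Sch/S)` with
vertical arrows `f' : 𝒳' ⟶ 𝒴'`, `f : 𝒳 ⟶ 𝒴` and horizontal arrows equivalences over `(Sch/S)`. Then
`f` is representable by algebraic spaces with property `P` if and only if `f'` is. (The published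
statement assumes `P` stable under base change and fppf local on the base; this row holds for every
property `P`.) -/
theorem result {S : Scheme.{u}} {𝒳 𝒴 𝒳' 𝒴' : AlgSt.Cat S}
    (h𝒳 : FibCat.IsFibGrpd 𝒳.p) (h𝒴 : FibCat.IsFibGrpd 𝒴.p) (h𝒳' : FibCat.IsFibGrpd 𝒳'.p) (h𝒴' : FibCat.IsFibGrpd 𝒴'.p)
    (P : MorphismProperty (AlgSp.Sp S)) (f : 𝒳 ⥤ᵇ 𝒴) (f' : 𝒳' ⥤ᵇ 𝒴') (a : 𝒳' ⥤ᵇ 𝒳) (b : 𝒴' ⥤ᵇ 𝒴)
    (ha : FibCat.IsEquivOver a) (hb : FibCat.IsEquivOver b) (e : BasedFunctor.comp f' b ≅ BasedFunctor.comp a f) :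
    AlgSt.RepByAlgSpWith P f ↔ AlgSt.RepByAlgSpWith P f' := by
  constructor
  · intro hf U y'
    exact (Groth.Agent.Lib.helper4.AlgStRep.repData_transfer P
      (Groth.Agent.Lib.helper4.FibPaste.fpMap y' (BasedFunctor.comp y' b) f' f a b (Iso.refl _) e)
      (Groth.Agent.Lib.helper4.FibPaste.fpMap_isEquivOver y' (BasedFunctor.comp y' b) f' f a b
        (Iso.refl _) e ha hb)
      (FibCat.fpFst y' f') (FibCat.fpFst (BasedFunctor.comp y' b) f)
      (Iso.refl _)).mpr (hf U (BasedFunctor.comp y' b))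
  · intro hf' U y
    obtain ⟨binv, ⟨α⟩, ⟨β⟩⟩ := hb
    have hb' : FibCat.IsEquivOver b := ⟨binv, ⟨α⟩, ⟨β⟩⟩
    exact (Groth.Agent.Lib.helper4.AlgStRep.repData_transfer P
      (Groth.Agent.Lib.helper4.FibPaste.fpMap (BasedFunctor.comp y binv) y f' f a b
        (Groth.Agent.Lib.helper4.FibPaste.whiskerLeftIso y β) e)
      (Groth.Agent.Lib.helper4.FibPaste.fpMap_isEquivOver (BasedFunctor.comp y binv) y f' f a b
        (Groth.Agent.Lib.helper4.FibPaste.whiskerLeftIso y β) e ha hb')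
      (FibCat.fpFst (BasedFunctor.comp y binv) f') (FibCat.fpFst y f)
      (Iso.refl _)).mp (hf' U (BasedFunctor.comp y binv))

end Groth.Agent.S12782
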