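import Groth.Statements.S12784
import Groth.Agent.Lib.Helper4.FibPaste

set_option autoImplicit false
open CategoryTheory CategoryTheory.Limits
universe v u
open FibCat

namespace Groth.Agent.S12784

/-- Consider a 2-commutative square of functors over `C` with vertical arrows `f' : 𝒳' ⟶ 𝒴'`, `f : 𝒳 ⟶
𝒴` and horizontal arrows equivalences over `C`. Then `f` is a representable 1-morphism if and only
if `f'` is. (The published statement is for categories fibred in groupoids over schemes over a base;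
this row is stated for categories over any base category.) -/
theorem result {C : Type u} [Category.{v} C] {𝒳 𝒴 𝒳' 𝒴' : BasedCategory.{v, max u v} C}
    (f : 𝒳 ⥤ᵇ 𝒴) (f' : 𝒳' ⥤ᵇ 𝒴') (a : 𝒳' ⥤ᵇ 𝒳) (b : 𝒴' ⥤ᵇ 𝒴)
    (ha : FibCat.IsEquivOver a) (hb : FibCat.IsEquivOver b) (e : BasedFunctor.comp f' b ≅ BasedFunctor.comp a f) :
    FibCat.IsRepresentable1 f ↔ FibCat.IsRepresentable1 f' := by
  constructor
  · intro hf U G'
    exact Groth.Agent.Lib.helper4.FibPaste.isRepresentable_of_isEquivOver _
      (Groth.Agent.Lib.helper4.FibPaste.fpMap_isEquivOver G' (BasedFunctor.comp G' b) f' f a b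
        (Iso.refl _) e ha hb) (hf U (BasedFunctor.comp G' b))
  · intro hf' U G
    obtain ⟨binv, ⟨α⟩, ⟨β⟩⟩ := hb
    have hb' : FibCat.IsEquivOver b := ⟨binv, ⟨α⟩, ⟨β⟩⟩
    exact Groth.Agent.Lib.helper4.FibPaste.isRepresentable_of_isEquivOver' _
      (Groth.Agent.Lib.helper4.FibPaste.fpMap_isEquivOver (BasedFunctor.comp G binv) G f' f a b
        (Groth.Agent.Lib.helper4.FibPaste.whiskerLeftIso G β) e ha hb')
      (hf' U (BasedFunctor.comp G binv))

end Groth.Agent.S12784
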