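import Groth.Statements.S12788
import Mathlib
import Groth.Agent.Lib.Helper4.AlgStSetoid

set_option autoImplicit false
open CategoryTheory AlgebraicGeometry
universe u
open AlgSt

namespace Groth.Agent.S12788
open Groth.Agent.Lib.helper4.AlgStSetoid

/-- (3) ⇔ (7): for `𝒳` fibred in groupoids over `(Sch/S)`, every 1-morphism `(Sch/U) ⟶ 𝒳` from a scheme
is representable by algebraic spaces if and only if every 1-morphism `𝒰 ⟶ 𝒳` from a category fibred
in groupoids representable by an algebraic space is representable by algebraic spaces. (The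
categories `𝒰` range over categories over `(Sch/S)` with objects and morphisms in the universes of
the slice categories `(Sch/U)`.) -/
theorem result {S : Scheme.{u}} {𝒳 : AlgSt.Cat S} (h𝒳 : FibCat.IsFibGrpd 𝒳.p) :
    (∀ (U : Over S) (x : FibCat.overCat U ⥤ᵇ 𝒳), AlgSt.RepByAlgSp1 x) ↔
      ∀ (𝒰 : AlgSt.Cat S), FibCat.IsFibGrpd 𝒰.p → AlgSt.RepByAlgSp 𝒰 → ∀ (x : 𝒰 ⥤ᵇ 𝒳), AlgSt.RepByAlgSp1 x := by
  constructor
  · intro h 𝒰 h𝒰 hU x V y
    have := repByAlgSp_fp h𝒳 h𝒰 (Groth.Agent.FibOver.isFibGrpd_overCat V) hU (thin_overCat V) x y (h V y)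
    exact repByAlgSp_of_isEquivOver (Groth.Agent.Lib.helper4.FibSwap.fpSwap x y)
      (Groth.Agent.Lib.helper4.FibSwap.fpSwap_isEquivOver x y) this
  · intro h U x
    exact h (FibCat.overCat U) (Groth.Agent.FibOver.isFibGrpd_overCat U) (repByAlgSp_overCat U) x

end Groth.Agent.S12788
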