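import Groth.Statements.S1279
import Groth.Agent.Lib.Helper16.FTIdeal
import Groth.Agent.Lib.Helper16.BlowUpGlue

set_option autoImplicit false
universe u
open FlatMor

namespace Groth.Agent.S1279


section helpers
open CategoryTheory CategoryTheory.Limits AlgebraicGeometry TopologicalSpace Topology
open Groth.Agent.Lib.helper16.FTIdeal Groth.Agent.Lib.helper16.BlowSep

/-- constructible sets in a compact quasi-separated space with a basis of compact opens are compact -/
theorem isCompact_of_isConstructible {Y : Type*} [TopologicalSpace Y] [CompactSpace Y]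
    [QuasiSeparatedSpace Y] {ι : Type*} [Nonempty ι] (b : ι → Set Y)
    (basis : IsTopologicalBasis (Set.range b)) (hb : ∀ i, IsCompact (b i))
    (s : Set Y) (hs : IsConstructible s) : IsCompact s := by
  induction s, hs using IsConstructible.induction_of_isTopologicalBasis b basis hb with
  | sdiff i t ht => exact (hb i).diff (isOpen_biUnion fun j _ => basis.isOpen ⟨j, rfl⟩)
  | union s hs t ht hs' ht' => exact hs'.union ht'

theorem isCompact_of_isConstructible_scheme (Y : Scheme.{u}) [CompactSpace Y] [QuasiSeparatedSpace Y]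
    (s : Set Y) (hs : IsConstructible s) : IsCompact s := by
  haveI : Nonempty Y.affineOpens := ⟨⟨⊥, isAffineOpen_bot Y⟩⟩
  refine isCompact_of_isConstructible (fun V : Y.affineOpens => (V.1 : Set Y)) ?_
    (fun V => V.2.isCompact) s hs
  have := Y.isBasis_affineOpens
  rw [Opens.IsBasis, Set.image_eq_range] at this
  exact this

theorem main {X : Scheme.{u}} [CompactSpace X] [QuasiSeparatedSpace X]
    (U : X.Opens) (hU : IsCompact (U : Set X)) (T₁ T₂ : Set U)
    (h₁ : IsClosed T₁) (h₂ : IsClosed T₂) (c₁ : IsConstructible T₁) (c₂ : IsConstructible T₂) (hd : Disjoint T₁ T₂) :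
    ∃ (𝓘 : X.IdealSheafData) (X' : Scheme.{u}) (b : X' ⟶ X), BlowUp.IsBlowUp b 𝓘 ∧ BlowUp.IsAdmissibleFor U 𝓘 ∧
      Disjoint (closure (b.base ⁻¹' (Subtype.val '' T₁))) (closure (b.base ⁻¹' (Subtype.val '' T₂))) := by
  haveI : CompactSpace U := isCompact_iff_compactSpace.mp hU
  haveI : QuasiSeparatedSpace U := U.isOpenEmbedding.quasiSeparatedSpace
  -- f.t. ideals with support `U^c ∪ T_i`
  have key : ∀ (T : Set U), IsClosed T → IsConstructible T →
      ∃ 𝓙 : X.IdealSheafData, BlowUp.IsFiniteTypeIdeal 𝓙 ∧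
        ∀ x : X, x ∈ U → (x ∈ 𝓙.support ↔ x ∈ Subtype.val '' T) := by
    intro T hT cT
    have hc : IsCompact (Tᶜ : Set U) :=
      isCompact_of_isConstructible_scheme (U : Scheme.{u}) (Tᶜ : Set U) cT.compl
    let O : X.Opens := ⟨Subtype.val '' (Tᶜ : Set U), U.2.isOpenMap_subtype_val _ hT.isOpen_compl⟩
    obtain ⟨𝓙, hft, hs⟩ := exists_ft_ideal_support O (hc.image continuous_subtype_val)
    refine ⟨𝓙, hft, fun x hx => ?_⟩
    show x ∈ (𝓙.support : Set X) ↔ _
    rw [hs]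
    constructor
    · intro h
      by_contra h'
      exact h ⟨⟨x, hx⟩, fun hT' => h' ⟨⟨x, hx⟩, hT', rfl⟩, rfl⟩
    · rintro ⟨y, hy, rfl⟩ ⟨y', hy', he⟩
      exact hy' (Subtype.ext he ▸ hy)
  obtain ⟨𝓙₁, hft₁, hs₁⟩ := key T₁ h₁ c₁
  obtain ⟨𝓙₂, hft₂, hs₂⟩ := key T₂ h₂ c₂
  have hoff : ∀ x : X, x ∈ U → x ∉ (𝓙₁ ⊔ 𝓙₂).support := by
    intro x hx h
    rw [Scheme.IdealSheafData.support_sup] at h
    obtain ⟨y₁, hy₁, e₁⟩ := (hs₁ x hx).mp h.1
    obtain ⟨y₂, hy₂, e₂⟩ := (hs₂ x hx).mp h.2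
    have : y₁ = y₂ := Subtype.ext (e₁.trans e₂.symm)
    exact Set.disjoint_left.mp hd hy₁ (this ▸ hy₂)
  obtain ⟨X', b, hb⟩ := Groth.Agent.Lib.helper16.BlowUpGlue.exists_isBlowUp X (𝓙₁ ⊔ 𝓙₂)
  refine ⟨𝓙₁ ⊔ 𝓙₂, X', b, hb, ⟨?_, ?_⟩, ?_⟩
  · intro T
    rw [Scheme.IdealSheafData.ideal_sup, Pi.sup_apply]
    exact Submodule.FG.sup (hft₁ T) (hft₂ T)
  · exact Set.disjoint_left.mpr fun x hx hxU => hoff x hxU hx
  · have hsep := sep b (𝟙 X) b (𝟙 X') (by rw [Category.comp_id, Category.id_comp])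
      (𝓙₁ ⊔ 𝓙₂) 𝓙₁ 𝓙₂ hb.1 le_sup_left (by
        rw [Scheme.IdealSheafData.comap_id, Scheme.IdealSheafData.comap_id])
      (b.base ⁻¹' (Subtype.val '' T₁))
      (fun y hy => by
        obtain ⟨t, ht, e⟩ := hy
        exact (hs₁ _ (e ▸ t.2)).mpr ⟨t, ht, e⟩)
      (fun y hy => by
        obtain ⟨t, ht, e⟩ := hy
        exact hoff _ (e ▸ t.2))
      (b.base ⁻¹' (Subtype.val '' T₂))
      (fun y hy => by
        obtain ⟨t, ht, e⟩ := hy
        exact (hs₂ _ (e ▸ t.2)).mpr ⟨t, ht, e⟩)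
      (fun y hy => by
        obtain ⟨t, ht, e⟩ := hy
        exact hoff _ (e ▸ t.2))
    rw [Set.disjoint_iff_inter_eq_empty]
    exact hsep

end helpers



open AlgebraicGeometry CategoryTheory Limits Topology in
/-- Let X be a quasi-compact and quasi-separated scheme, U ⊆ X a quasi-compact open, and T₁, T₂ ⊆ U
disjoint subsets which are closed and constructible in U. Then there is a U-admissible blow-up b :
X' → X such that the closures in X' of the preimages of T₁ and T₂ are disjoint. (Part (1), about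
strict transforms of closed subschemes, is not stated.) -/
theorem result {X : Scheme.{u}} [CompactSpace X] [QuasiSeparatedSpace X]
    (U : X.Opens) (hU : IsCompact (U : Set X)) (T₁ T₂ : Set U)
    (h₁ : IsClosed T₁) (h₂ : IsClosed T₂) (c₁ : IsConstructible T₁) (c₂ : IsConstructible T₂) (hd : Disjoint T₁ T₂) :
    ∃ (𝓘 : X.IdealSheafData) (X' : Scheme.{u}) (b : X' ⟶ X), BlowUp.IsBlowUp b 𝓘 ∧ BlowUp.IsAdmissibleFor U 𝓘 ∧
      Disjoint (closure (b.base ⁻¹' (Subtype.val '' T₁))) (closure (b.base ⁻¹' (Subtype.val '' T₂))) := by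
  exact main U hU T₁ T₂ h₁ h₂ c₁ c₂ hd

end Groth.Agent.S1279
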