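import Groth.Statements.S12790
import Groth.Agent.Lib.Helper4.FibProd

set_option autoImplicit false
open CategoryTheory CategoryTheory.Limits
universe v u
open FibCat

namespace Groth.Agent.S12790

/-- For representable 1-morphisms `f₁ : 𝒳₁ ⟶ 𝒴₁`, `f₂ : 𝒳₂ ⟶ 𝒴₂` of categories over `C`, the product `f₁
× f₂ : 𝒳₁ × 𝒳₂ ⟶ 𝒴₁ × 𝒴₂` (products over `C`; the functor induced on 2-fibre products, for any
choice of the 2-isomorphism `e` filling the square) is a representable 1-morphism. (The published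
statement is for categories fibred in groupoids over schemes over a base; this row is stated for
categories over any base category.) -/
theorem result {C : Type u} [Category.{v} C] {𝒳₁ 𝒳₂ 𝒴₁ 𝒴₂ : BasedCategory.{v, max u v} C}
    (f₁ : 𝒳₁ ⥤ᵇ 𝒴₁) (f₂ : 𝒳₂ ⥤ᵇ 𝒴₂) (hf₁ : FibCat.IsRepresentable1 f₁) (hf₂ : FibCat.IsRepresentable1 f₂)
    (e : BasedFunctor.comp (BasedFunctor.comp (FibCat.fpFst (FibCat.toSelf 𝒳₁) (FibCat.toSelf 𝒳₂)) f₁) (FibCat.toSelf 𝒴₁) ≅ BasedFunctor.comp (BasedFunctor.comp (FibCat.fpSnd (FibCat.toSelf 𝒳₁) (FibCat.toSelf 𝒳₂)) f₂) (FibCat.toSelf 𝒴₂)) :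
    FibCat.IsRepresentable1 (FibCat.fpLift (BasedFunctor.comp (FibCat.fpFst (FibCat.toSelf 𝒳₁) (FibCat.toSelf 𝒳₂)) f₁) (BasedFunctor.comp (FibCat.fpSnd (FibCat.toSelf 𝒳₁) (FibCat.toSelf 𝒳₂)) f₂) e) := by
  intro U G
  obtain ⟨V₁, E₁, hE₁⟩ := hf₁ U (BasedFunctor.comp G (Groth.Agent.Lib.helper4.FibProd.prFst 𝒴₁ 𝒴₂))
  obtain ⟨E₁i, ⟨α⟩, ⟨β⟩⟩ := hE₁
  have hE₁i : FibCat.IsEquivOver E₁i := Groth.Agent.Lib.helper4.FibPaste.isEquivOver_symm α β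
  have h2 := hf₂ V₁ (BasedFunctor.comp E₁i (BasedFunctor.comp
    (FibCat.fpFst (BasedFunctor.comp G (Groth.Agent.Lib.helper4.FibProd.prFst 𝒴₁ 𝒴₂)) f₁)
    (BasedFunctor.comp G (Groth.Agent.Lib.helper4.FibProd.prSnd 𝒴₁ 𝒴₂))))
  have h3 := Groth.Agent.Lib.helper4.FibPaste.isRepresentable_of_isEquivOver' _
    (Groth.Agent.Lib.helper4.FibPaste.fpPrecomp_isEquivOver E₁i (BasedFunctor.comp
      (FibCat.fpFst (BasedFunctor.comp G (Groth.Agent.Lib.helper4.FibProd.prFst 𝒴₁ 𝒴₂)) f₁)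
      (BasedFunctor.comp G (Groth.Agent.Lib.helper4.FibProd.prSnd 𝒴₁ 𝒴₂))) f₂ hE₁i) h2
  exact Groth.Agent.Lib.helper4.FibPaste.isRepresentable_of_isEquivOver
    (Groth.Agent.Lib.helper4.FibProd.stepB f₁ f₂ e G)
    (Groth.Agent.Lib.helper4.FibProd.stepB_isEquivOver f₁ f₂ e G) h3

end Groth.Agent.S12790
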