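import Groth.Statements.S12798
import Mathlib
import Groth.Agent.Lib.Helper4.GerbFF

set_option autoImplicit false
open CategoryTheory
universe w v u
open Stk

namespace Groth.Agent.S12798
open Groth.Agent.Lib.helper4.Descent Groth.Agent.Lib.helper4.GerbLocal Groth.Agent.Lib.helper4.GerbFF

/-- Let `𝒮₁`, `𝒮₂`, `𝒯₁` be stacks in groupoids over `C` for the topology `J`, and `F : 𝒮₂ ⟶ 𝒮₁`, `G :
𝒯₁ ⟶ 𝒮₁` functors over `C` such that every object of `𝒮₁` is locally in the essential image of `F`.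
If the first projection `𝒮₂ ×_{𝒮₁} 𝒯₁ ⟶ 𝒮₂` of the 2-fibre product over `C` is faithful, then `G` is
faithful. (The published statement is for any 2-cartesian square of stacks in groupoids; this row is
the case of the explicit 2-fibre product, to which the general case reduces because faithfulness is
invariant under equivalence.) -/
theorem result {C : Type u} [Category.{v} C] (J : GrothendieckTopology C) {𝒮₁ 𝒮₂ 𝒯₁ : BasedCategory.{v, max u v} C}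
    (h₁ : Stk.IsStack J 𝒮₁) (h₂ : Stk.IsStack J 𝒮₂) (h₃ : Stk.IsStack J 𝒯₁) (F : 𝒮₂ ⥤ᵇ 𝒮₁) (G : 𝒯₁ ⥤ᵇ 𝒮₁)
    (hF : ∀ y : 𝒮₁.obj, ∃ R ∈ J (𝒮₁.p.obj y), ∀ ⦃V : C⦄ (f : V ⟶ 𝒮₁.p.obj y), R f →
      ∃ (x : 𝒮₂.obj) (φ : F.obj x ⟶ y), 𝒮₁.p.IsHomLift f φ)
    (hG' : (FibCat.fpFst F G).toFunctor.Faithful) : G.toFunctor.Faithful := by
  classical
  have hfg₁ : FibCat.IsFibGrpd 𝒮₁.p := h₁.1
  have hfg₃ : FibCat.IsFibGrpd 𝒯₁.p := h₃.1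
  constructor
  intro t t' b₁ b₂ h12
  have h12' : G.map b₁ = G.map b₂ := h12
  have hbase := map_base_eq G b₁ b₂ h12'
  have hb₁ : 𝒯₁.p.IsHomLift (𝒯₁.p.map b₂) b₁ := by rw [← hbase]; infer_instance
  obtain ⟨R', hR', hloc⟩ := hF (G.obj t')
  have e' : 𝒮₁.p.obj (G.obj t') = 𝒯₁.p.obj t' := G.w_obj t'
  apply sepJ J hfg₃ (faithful_of_isStack J h₃) b₁ b₂ (𝒯₁.p.map b₂)
    ((R'.pullback (eqToHom e'.symm)).pullback (𝒯₁.p.map b₂)) (J.pullback_stable _ (J.pullback_stable _ hR'))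
  intro V f hf
  obtain ⟨x', φ', hφ'⟩ := hloc _ hf
  obtain ⟨tf, τ, hτ⟩ := hfg₃.exists_lift (x := t) f
  obtain ⟨t'f, τ', hτ'⟩ := hfg₃.exists_lift (x := t') (f ≫ 𝒯₁.p.map b₂)
  refine ⟨tf, τ, hτ, ?_⟩
  obtain ⟨β₁, hβ₁, hβ₁fac⟩ := exists_factor hfg₃ (f ≫ 𝒯₁.p.map b₂) τ' (𝟙 V) (f ≫ 𝒯₁.p.map b₂) (by simp) (τ ≫ b₁)
  obtain ⟨β₂, hβ₂, hβ₂fac⟩ := exists_factor hfg₃ (f ≫ 𝒯₁.p.map b₂) τ' (𝟙 V) (f ≫ 𝒯₁.p.map b₂) (by simp) (τ ≫ b₂)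
  suffices hβ : β₁ = β₂ by rw [← hβ₁fac, ← hβ₂fac, hβ]
  have hGβ : G.map β₁ = G.map β₂ := by
    have h1 : 𝒮₁.p.IsHomLift (𝟙 V) (G.map β₁) := inferInstance
    have h2 : 𝒮₁.p.IsHomLift (𝟙 V) (G.map β₂) := inferInstance
    apply cancel_right hfg₁ (G.map τ') (𝟙 V)
    rw [← G.toFunctor.map_comp, ← G.toFunctor.map_comp, hβ₁fac, hβ₂fac, G.toFunctor.map_comp,
      G.toFunctor.map_comp, h12]
  have hφ'' : 𝒮₁.p.IsHomLift (f ≫ 𝒯₁.p.map b₂) φ' :=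
    (IsHomLift.lift_comp_eqToHom_iff 𝒮₁.p (f ≫ 𝒯₁.p.map b₂) φ' e'.symm).1 hφ'
  have hGτ' : 𝒮₁.p.IsHomLift (f ≫ 𝒯₁.p.map b₂) (G.map τ') := inferInstance
  obtain ⟨θ, hθ, hθfac⟩ := exists_factor hfg₁ (f ≫ 𝒯₁.p.map b₂) (G.map τ') (𝟙 V) (f ≫ 𝒯₁.p.map b₂) (by simp) φ'
  have hθiso : IsIso θ := isIso_of_lift hfg₁ (𝟙 V) θ
  have hGβ₁ : 𝒮₁.p.IsHomLift (𝟙 V) (G.map β₁) := inferInstance
  have hGβiso : IsIso (G.map β₁) := isIso_of_lift hfg₁ (𝟙 V) (G.map β₁)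
  have hx'V : 𝒮₂.p.obj x' = V := (F.w_obj x').symm.trans (IsHomLift.domain_eq 𝒮₁.p (𝟙 V) θ)
  have hA : 𝒮₁.p.IsHomLift (𝟙 (𝒮₂.p.obj x')) (θ ≫ inv (G.map β₁)) := by
    have h1 : 𝒮₁.p.IsHomLift (𝟙 V) (inv (G.map β₁)) := inferInstance
    have h2 : 𝒮₁.p.IsHomLift (𝟙 V ≫ 𝟙 V) (θ ≫ inv (G.map β₁)) := inferInstance
    rw [Category.id_comp] at h2
    exact Groth.Agent.FibEquiv.isHomLift_of_eq 𝒮₁.p hx'V.symm _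
  have hB : 𝒮₁.p.IsHomLift (𝟙 (𝒮₂.p.obj x')) θ := Groth.Agent.FibEquiv.isHomLift_of_eq 𝒮₁.p hx'V.symm _
  let A : (FibCat.fp F G).obj := ⟨⟨x', tf, asIso θ ≪≫ (asIso (G.map β₁)).symm⟩, hA⟩
  let B : (FibCat.fp F G).obj := ⟨⟨x', t'f, asIso θ⟩, hB⟩
  let m₁ : A ⟶ B := ObjectProperty.homMk ⟨𝟙 x', β₁, by simp [A, B]⟩
  let m₂ : A ⟶ B := ObjectProperty.homMk ⟨𝟙 x', β₂, by
    change F.map (𝟙 x') ≫ θ = (θ ≫ inv (G.map β₁)) ≫ G.map β₂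
    rw [← hGβ]; simp⟩
  have hm : m₁ = m₂ := hG'.map_injective rfl
  exact congrArg (fun m => m.hom.snd) hm

end Groth.Agent.S12798
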