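import Groth.Statements.S6401
import Mathlib
import Groth.Agent.FibFp
-- import your own Groth.Agent.* helpers here

set_option autoImplicit false
set_option backward.isDefEq.respectTransparency false
set_option backward.isDefEq.respectTransparency.types false
open CategoryTheory
universe v u
open FibCat

namespace Groth.Agent.S6401

/-- For categories `𝒳, 𝒴, 𝒮` fibred in groupoids over `C` and functors `F : 𝒳 ⟶ 𝒮`, `G : 𝒴 ⟶ 𝒮` over
`C`, the 2-fibre product `𝒳 ×_𝒮 𝒴` over `C` is fibred in groupoids over `C`. -/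
theorem result {C : Type u} [Category.{v} C] {𝒳 𝒴 𝒮 : BasedCategory.{v, max u v} C} (F : 𝒳 ⥤ᵇ 𝒮) (G : 𝒴 ⥤ᵇ 𝒮) (h𝒳 : FibCat.IsFibGrpd 𝒳.p) (h𝒴 : FibCat.IsFibGrpd 𝒴.p) (h𝒮 : FibCat.IsFibGrpd 𝒮.p) :
    FibCat.IsFibGrpd (FibCat.fp F G).p := by
  have h𝒳f : 𝒳.p.IsFibered := Groth.Agent.FibFiberwise.isFibered_of_isFibGrpd 𝒳.p h𝒳
  have h𝒴f : 𝒴.p.IsFibered := Groth.Agent.FibFiberwise.isFibered_of_isFibGrpd 𝒴.p h𝒴
  have hF : ∀ {R S : C} (f : R ⟶ S) {a b : 𝒳.obj} (φ : a ⟶ b),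
      𝒳.p.IsStronglyCartesian f φ → 𝒮.p.IsStronglyCartesian f (F.toFunctor.map φ) := by
    intro R S f a b φ h
    exact Groth.Agent.FibFiberwise.isStronglyCartesian_of_isHomLift 𝒮.p _ (h𝒮.isStronglyCartesian _) f
  have hG : ∀ {R S : C} (f : R ⟶ S) {a b : 𝒴.obj} (φ : a ⟶ b),
      𝒴.p.IsStronglyCartesian f φ → 𝒮.p.IsStronglyCartesian f (G.toFunctor.map φ) := by
    intro R S f a b φ h
    exact Groth.Agent.FibFiberwise.isStronglyCartesian_of_isHomLift 𝒮.p _ (h𝒮.isStronglyCartesian _) f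
  refine ⟨?_, ?_⟩
  · intro t V f₀
    obtain ⟨f, hf⟩ : ∃ f : V ⟶ 𝒳.p.obj t.obj.fst, f = f₀ := ⟨f₀, rfl⟩
    subst hf
    obtain ⟨t', m, hm⟩ := Groth.Agent.FibFp.exists_lift F G hF hG t f
    exact ⟨t', m, inferInstance⟩
  · intro t' t m
    have h1 : 𝒳.p.IsStronglyCartesian (𝒳.p.map m.hom.fst) m.hom.fst := h𝒳.isStronglyCartesian _
    have hl : 𝒴.p.IsHomLift (𝒳.p.map m.hom.fst) m.hom.snd := FibCat.fp_isHomLift_snd F G m
    have h2 : 𝒴.p.IsStronglyCartesian (𝒳.p.map m.hom.fst) m.hom.snd :=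
      Groth.Agent.FibFiberwise.isStronglyCartesian_of_isHomLift 𝒴.p _ (h𝒴.isStronglyCartesian _) _
    have h3 : 𝒮.p.IsStronglyCartesian (𝒳.p.map m.hom.fst) (G.toFunctor.map m.hom.snd) :=
      Groth.Agent.FibFiberwise.isStronglyCartesian_of_isHomLift 𝒮.p _ (h𝒮.isStronglyCartesian _) _
    exact Groth.Agent.FibFp.isStronglyCartesian_of_components F G (𝒳.p.map m.hom.fst) m h1 h2 h3

end Groth.Agent.S6401
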