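import Groth.Statements.S12800
import Mathlib
import Groth.Agent.FibFp
import Groth.Agent.S6401
-- import your own Groth.Agent.* helpers here

set_option autoImplicit false
set_option backward.isDefEq.respectTransparency false
set_option backward.isDefEq.respectTransparency.types false
open CategoryTheory
universe v u
open FibCat

namespace Groth.Agent.S12800

/-- For categories `𝒮`, `𝒯` fibred in groupoids over `C`, a category `ℛ` fibred in setoids over `C`, a
functor `f : 𝒯 ⟶ 𝒮` over `C` with faithful underlying functor and a functor `g : ℛ ⟶ 𝒮` over `C`,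
the 2-fibre product `𝒯 ×_𝒮 ℛ` over `C` is fibred in setoids. (The published statement takes stacks
in groupoids over a site and concludes a stack in setoids; the stack property of the 2-fibre product
is the separate result on 2-fibre products of stacks in groupoids, and the setoid property stated
here needs no topology.) -/
theorem result {C : Type u} [Category.{v} C] {𝒮 𝒯 ℛ : BasedCategory.{v, max u v} C}
    (h𝒮 : FibCat.IsFibGrpd 𝒮.p) (h𝒯 : FibCat.IsFibGrpd 𝒯.p) (hℛ : FibCat.IsFibSetoid ℛ.p) (f : 𝒯 ⥤ᵇ 𝒮) [f.toFunctor.Faithful] (g : ℛ ⥤ᵇ 𝒮) :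
    FibCat.IsFibSetoid (FibCat.fp f g).p := by
  classical
  refine ⟨Groth.Agent.S6401.result f g h𝒯 hℛ.1 h𝒮, ?_⟩
  intro U
  refine fun a b => ⟨fun m m' => ?_⟩
  apply Functor.Fiber.hom_ext
  have hm : (FibCat.fp f g).p.IsHomLift (𝟙 U) (Functor.Fiber.fiberInclusion.map m) := inferInstance
  have hm' : (FibCat.fp f g).p.IsHomLift (𝟙 U) (Functor.Fiber.fiberInclusion.map m') := inferInstance
  generalize (Functor.Fiber.fiberInclusion.map m) = n at hm
  generalize (Functor.Fiber.fiberInclusion.map m') = n' at hm'
  have h2 : ℛ.p.IsHomLift (𝟙 U) n.hom.snd := Groth.Agent.FibFp.lift_from_snd f g _ n hm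
  have h2' : ℛ.p.IsHomLift (𝟙 U) n'.hom.snd := Groth.Agent.FibFp.lift_from_snd f g _ n' hm'
  have hthin := hℛ.2 U
  have hsnd : n.hom.snd = n'.hom.snd := by
    have := Subsingleton.elim (Functor.Fiber.homMk ℛ.p U n.hom.snd) (Functor.Fiber.homMk ℛ.p U n'.hom.snd)
    exact congrArg (fun k => Functor.Fiber.fiberInclusion.map k) this
  have hfst : n.hom.fst = n'.hom.fst := by
    apply f.toFunctor.map_injective
    have w := n.hom.w
    have w' := n'.hom.w
    rw [hsnd] at w
    rw [← cancel_mono (Functor.Fiber.fiberInclusion.obj b).obj.iso.hom, w, w']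
  apply ObjectProperty.hom_ext
  apply Limits.CategoricalPullback.hom_ext
  · exact hfst
  · exact hsnd

end Groth.Agent.S12800
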