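import Groth.Statements.S12802
import Mathlib
import Groth.Agent.S12801
-- import your own Groth.Agent.* helpers here

set_option autoImplicit false
open CategoryTheory
universe v u
open Stk

namespace Groth.Agent.S12802

section helpers
universe w v₃ u₃ v₂ u₂
section
variable {C : Type u} [Category.{v} C] {𝒳 : Type u₂} [Category.{v₂} 𝒳] {𝒴 : Type u₃}
  [Category.{v₃} 𝒴] (F : 𝒳 ⥤ 𝒴) (q : 𝒴 ⥤ C)

theorem isHomLift_map_of_comp {R S : C} {a b : 𝒳} (u : R ⟶ S) (h : a ⟶ b)
    [(F ⋙ q).IsHomLift u h] : q.IsHomLift u (F.map h) := by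
  subst_hom_lift (F ⋙ q) u h
  exact (inferInstance : q.IsHomLift (q.map (F.map h)) (F.map h))

theorem isStronglyCartesian_of_isHomLift (hq : FibCat.IsFibGrpd q) {R S : C} {a b : 𝒴}
    (u : R ⟶ S) (φ : a ⟶ b) [q.IsHomLift u φ] : q.IsStronglyCartesian u φ := by
  subst_hom_lift q u φ
  exact hq.isStronglyCartesian φ

theorem coverPreserving (hq : FibCat.IsFibGrpd q) (hp : FibCat.IsFibGrpd (F ⋙ q))
    (J : GrothendieckTopology C) :
    CoverPreserving ((F ⋙ q).restrictedTopology J) (q.restrictedTopology J) F := by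
  refine ⟨fun {x S} hS => ?_⟩
  rw [Groth.Agent.S12801.result q hq J, ← Sieve.functorPushforward_comp]
  exact (Groth.Agent.S12801.result (F ⋙ q) hp J S).mp hS

theorem isCocontinuous (hq : FibCat.IsFibGrpd q) (hp : FibCat.IsFibGrpd (F ⋙ q))
    (J : GrothendieckTopology C) :
    F.IsCocontinuous ((F ⋙ q).restrictedTopology J) (q.restrictedTopology J) := by
  refine ⟨fun {x S} hS => ?_⟩
  rw [Groth.Agent.S12801.result q hq J] at hS
  rw [Groth.Agent.S12801.result (F ⋙ q) hp J]
  refine J.superset_covering ?_ hS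
  rintro V g ⟨w, d, c, hd, rfl⟩
  -- lift g under p
  obtain ⟨z, h, hh⟩ := hp.exists_lift (x := x) (c ≫ q.map d)
  have hFh : q.IsHomLift (c ≫ q.map d) (F.map h) := isHomLift_map_of_comp F q _ h
  obtain ⟨w', c', hc'⟩ := hq.exists_lift c
  have hd' : q.IsHomLift (c ≫ q.map d) (c' ≫ d) := inferInstance
  have hsc : q.IsStronglyCartesian (c ≫ q.map d) (c' ≫ d) :=
    isStronglyCartesian_of_isHomLift q hq _ _
  let χ : F.obj z ⟶ w' := Functor.IsStronglyCartesian.map q (c ≫ q.map d) (c' ≫ d)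
    (g := 𝟙 V) (Category.id_comp _).symm (F.map h)
  have hχ : χ ≫ c' ≫ d = F.map h :=
    Functor.IsStronglyCartesian.fac q (c ≫ q.map d) (c' ≫ d) (Category.id_comp _).symm (F.map h)
  refine ⟨z, h, eqToHom (IsHomLift.domain_eq (F ⋙ q) (c ≫ q.map d) h).symm, ?_, ?_⟩
  · change S (F.map h)
    rw [← hχ, ← Category.assoc]
    exact S.downward_closed hd _
  · have := IsHomLift.fac (F ⋙ q) (c ≫ q.map d) h
    simpa using this

theorem compatiblePreserving (hq : FibCat.IsFibGrpd q) (hp : FibCat.IsFibGrpd (F ⋙ q))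
    (J : GrothendieckTopology C) :
    CompatiblePreserving.{w} (q.restrictedTopology J) F := by
  refine ⟨fun ℱ Z T x hx Y₁ Y₂ X f₁ f₂ g₁ g₂ hg₁ hg₂ e => ?_⟩
  -- the common morphism and its base
  obtain ⟨W, h, hh⟩ := hp.exists_lift (x := Z) (q.map (f₁ ≫ F.map g₁))
  have hFh : q.IsHomLift (q.map (f₁ ≫ F.map g₁)) (F.map h) := isHomLift_map_of_comp F q _ h
  have hsc : q.IsStronglyCartesian (q.map (f₁ ≫ F.map g₁)) (F.map h) :=
    isStronglyCartesian_of_isHomLift q hq _ _
  let θ : X ⟶ F.obj W := Functor.IsStronglyCartesian.map q (q.map (f₁ ≫ F.map g₁)) (F.map h)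
    (g := 𝟙 _) (Category.id_comp _).symm (f₁ ≫ F.map g₁)
  have hθ : θ ≫ F.map h = f₁ ≫ F.map g₁ :=
    Functor.IsStronglyCartesian.fac q _ (F.map h) (Category.id_comp _).symm (f₁ ≫ F.map g₁)
  have hθl : q.IsHomLift (𝟙 (q.obj X)) θ :=
    Functor.IsStronglyCartesian.map_isHomLift q _ (F.map h) (Category.id_comp _).symm _
  -- the lifts k₁ k₂
  have hsc₁ := hp.isStronglyCartesian g₁
  have hsc₂ := hp.isStronglyCartesian g₂
  have e₁ : q.map (f₁ ≫ F.map g₁) = q.map f₁ ≫ (F ⋙ q).map g₁ := by simp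
  have e₂ : q.map (f₁ ≫ F.map g₁) = q.map f₂ ≫ (F ⋙ q).map g₂ := by rw [e]; simp
  let k₁ : W ⟶ Y₁ := Functor.IsStronglyCartesian.map (F ⋙ q) ((F ⋙ q).map g₁) g₁ e₁ h
  let k₂ : W ⟶ Y₂ := Functor.IsStronglyCartesian.map (F ⋙ q) ((F ⋙ q).map g₂) g₂ e₂ h
  have hk₁ : k₁ ≫ g₁ = h := Functor.IsStronglyCartesian.fac (F ⋙ q) _ g₁ e₁ h
  have hk₂ : k₂ ≫ g₂ = h := Functor.IsStronglyCartesian.fac (F ⋙ q) _ g₂ e₂ h
  have hk₁l : (F ⋙ q).IsHomLift (q.map f₁) k₁ :=
    Functor.IsStronglyCartesian.map_isHomLift (F ⋙ q) _ g₁ e₁ h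
  have hk₂l : (F ⋙ q).IsHomLift (q.map f₂) k₂ :=
    Functor.IsStronglyCartesian.map_isHomLift (F ⋙ q) _ g₂ e₂ h
  have hFk₁ : q.IsHomLift (q.map f₁) (F.map k₁) := isHomLift_map_of_comp F q _ k₁
  have hFk₂ : q.IsHomLift (q.map f₂) (F.map k₂) := isHomLift_map_of_comp F q _ k₂
  -- θ ≫ F k_i = f_i
  have hq₁ := hq.isStronglyCartesian (F.map g₁)
  have hq₂ := hq.isStronglyCartesian (F.map g₂)
  have hf₁ : θ ≫ F.map k₁ = f₁ := by
    apply Functor.IsStronglyCartesian.ext q (q.map (F.map g₁)) (F.map g₁) (q.map f₁)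
    rw [Category.assoc, ← F.map_comp, hk₁, hθ]
  have hf₂ : θ ≫ F.map k₂ = f₂ := by
    apply Functor.IsStronglyCartesian.ext q (q.map (F.map g₂)) (F.map g₂) (q.map f₂)
    rw [Category.assoc, ← F.map_comp, hk₂, hθ, e]
  have hcomp := hx k₁ k₂ hg₁ hg₂ (hk₁.trans hk₂.symm)
  rw [← hf₁, ← hf₂]
  simp only [op_comp, Functor.map_comp, types_comp_apply]
  congr 1

theorem general (hq : FibCat.IsFibGrpd q) (hp : FibCat.IsFibGrpd (F ⋙ q))
    (J : GrothendieckTopology C) :
    CoverPreserving ((F ⋙ q).restrictedTopology J) (q.restrictedTopology J) F ∧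
      F.IsCocontinuous ((F ⋙ q).restrictedTopology J) (q.restrictedTopology J) ∧
      F.IsContinuous ((F ⋙ q).restrictedTopology J) (q.restrictedTopology J) :=
  ⟨coverPreserving F q hq hp J, isCocontinuous F q hq hp J,
    Functor.isContinuous_of_coverPreserving (compatiblePreserving F q hq hp J)
      (coverPreserving F q hq hp J)⟩

end

theorem main {C : Type u} [Category.{v} C] (J : GrothendieckTopology C)
    {𝒳 𝒴 : BasedCategory.{v, max u v} C}
    (h𝒳 : FibCat.IsFibGrpd 𝒳.p) (h𝒴 : FibCat.IsFibGrpd 𝒴.p) (F : 𝒳 ⥤ᵇ 𝒴) :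
    CoverPreserving (𝒳.p.restrictedTopology J) (𝒴.p.restrictedTopology J) F.toFunctor ∧
      F.toFunctor.IsCocontinuous (𝒳.p.restrictedTopology J) (𝒴.p.restrictedTopology J) ∧
      F.toFunctor.IsContinuous (𝒳.p.restrictedTopology J) (𝒴.p.restrictedTopology J) := by
  have hw := F.w
  have h𝒳' : FibCat.IsFibGrpd (F.toFunctor ⋙ 𝒴.p) := by rw [hw]; exact h𝒳
  have := general F.toFunctor 𝒴.p h𝒴 h𝒳' J
  rw [hw] at this
  exact this
end helpers

/-- Let `F : 𝒳 ⟶ 𝒴` be a functor over `C` between categories fibred in groupoids over `C` and endow `𝒳`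
and `𝒴` with the topologies inherited from the topology `J` on `C` (generated by the sieves whose
image in `C` covers). Then `F` maps covering sieves to families generating covering sieves, lifts
coverings (it is cocontinuous), and precomposition with `F` sends sheaves of types on `𝒴` to sheaves
on `𝒳` (it is continuous). (The published statement is for a 1-morphism of fibred categories with
the inherited topologies; this row is the case of categories fibred in groupoids, and the published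
statement phrases continuity through the fibre products of covering families and deduces a morphism
of topoi whose inverse image is precomposition with `F`, which is not stated here.) -/
theorem result {C : Type u} [Category.{v} C] (J : GrothendieckTopology C) {𝒳 𝒴 : BasedCategory.{v, max u v} C}
    (h𝒳 : FibCat.IsFibGrpd 𝒳.p) (h𝒴 : FibCat.IsFibGrpd 𝒴.p) (F : 𝒳 ⥤ᵇ 𝒴) :
    CoverPreserving (𝒳.p.restrictedTopology J) (𝒴.p.restrictedTopology J) F.toFunctor ∧
      F.toFunctor.IsCocontinuous (𝒳.p.restrictedTopology J) (𝒴.p.restrictedTopology J) ∧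
      F.toFunctor.IsContinuous (𝒳.p.restrictedTopology J) (𝒴.p.restrictedTopology J) := by
  exact main J h𝒳 h𝒴 F

end Groth.Agent.S12802
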