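import Groth.Statements.S12803
import Mathlib
import Groth.Agent.S12801
-- import your own Groth.Agent.* helpers here

set_option autoImplicit false
open CategoryTheory
universe v₂ u₂ v u
open Stk

namespace Groth.Agent.S12803

section helpers
section
variable {C : Type u} [Category.{v} C] {𝒳 : Type u₂} [Category.{v₂} 𝒳] (p : 𝒳 ⥤ C)

theorem post_faithful (hp : FibCat.IsFibGrpd p) (x : 𝒳) :
    (Over.post p : Over x ⥤ Over (p.obj x)).Faithful where
  map_injective {a b} f g h := by
    ext
    have h1 : p.map f.left = p.map g.left := congrArg CommaMorphism.left h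
    have := hp.isStronglyCartesian b.hom
    have hg : p.IsHomLift (p.map f.left) g.left := by rw [h1]; infer_instance
    apply Functor.IsStronglyCartesian.ext p (p.map b.hom) b.hom (p.map f.left)
    rw [Over.w f, Over.w g]

theorem post_full (hp : FibCat.IsFibGrpd p) (x : 𝒳) :
    (Over.post p : Over x ⥤ Over (p.obj x)).Full where
  map_surjective {a b} g := by
    have := hp.isStronglyCartesian b.hom
    have e : p.map a.hom = g.left ≫ p.map b.hom := (Over.w g).symm
    let χ : a.left ⟶ b.left := Functor.IsStronglyCartesian.map p (p.map b.hom) b.hom e a.hom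
    have hχ : χ ≫ b.hom = a.hom := Functor.IsStronglyCartesian.fac p (p.map b.hom) b.hom e a.hom
    have hχl : p.IsHomLift g.left χ :=
      Functor.IsStronglyCartesian.map_isHomLift p (p.map b.hom) b.hom e a.hom
    refine ⟨Over.homMk χ hχ, ?_⟩
    ext
    exact (IsHomLift.eq_of_isHomLift p g.left χ).symm

theorem post_essSurj (hp : FibCat.IsFibGrpd p) (x : 𝒳) :
    (Over.post p : Over x ⥤ Over (p.obj x)).EssSurj where
  mem_essImage b := by
    obtain ⟨y, φ, hφ⟩ := hp.exists_lift b.hom
    refine ⟨Over.mk φ, ⟨Over.isoMk (eqToIso (IsHomLift.domain_eq p b.hom φ)) ?_⟩⟩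
    have := IsHomLift.fac' p b.hom φ
    change eqToHom (IsHomLift.domain_eq p b.hom φ) ≫ b.hom = p.map φ
    rw [this]
    simp

theorem sieve_eq (x : 𝒳) (a : Over x) (S : Sieve a) :
    (Sieve.overEquiv a S).functorPushforward p =
      Sieve.overEquiv ((Over.post p).obj a) (S.functorPushforward (Over.post p)) := by
  ext V g
  rw [Sieve.overEquiv_iff]
  constructor
  · rintro ⟨z, k, c, hk, rfl⟩
    rw [Sieve.overEquiv_iff] at hk
    refine ⟨Over.mk (k ≫ a.hom), Over.homMk k, Over.homMk c (by
      change c ≫ p.map (k ≫ a.hom) = (c ≫ p.map k) ≫ p.map a.hom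
      simp), hk, ?_⟩
    ext
    rfl
  · rintro ⟨b, m, c', hm, e⟩
    refine ⟨b.left, m.left, c'.left, ?_, ?_⟩
    · have : S = (Sieve.overEquiv a).symm (Sieve.overEquiv a S) := by simp
      rw [this, Sieve.overEquiv_symm_iff] at hm
      exact hm
    · have := congrArg CommaMorphism.left e
      exact this

theorem main (hp : FibCat.IsFibGrpd p) (J : GrothendieckTopology C) (x : 𝒳) :
    (Over.post p : Over x ⥤ Over (p.obj x)).IsEquivalence ∧
      ∀ (a : Over x) (S : Sieve a), S ∈ (p.restrictedTopology J).over x a ↔
        S.functorPushforward (Over.post p) ∈ (J.over (p.obj x)) ((Over.post p).obj a) := by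
  constructor
  · have := post_faithful p hp x
    have := post_full p hp x
    have := post_essSurj p hp x
    exact { }
  · intro a S
    rw [GrothendieckTopology.mem_over_iff, GrothendieckTopology.mem_over_iff,
      Groth.Agent.S12801.result p hp J, sieve_eq]
    rfl
end
end helpers

/-- Let `p : 𝒳 ⥤ C` make `𝒳` fibred in groupoids over `C`, let `J` be a topology on `C` and `x` an
object of `𝒳`. The functor `𝒳/x ⥤ C/p(x)` induced by `p` is an equivalence of categories, and it
identifies the localisation at `x` of the topology on `𝒳` inherited from `J` with the localisation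
of `J` at `p x`: a sieve on an object of `𝒳/x` covers if and only if its image covers. -/
theorem result {C : Type u} [Category.{v} C] {𝒳 : Type u₂} [Category.{v₂} 𝒳] (p : 𝒳 ⥤ C)
    (hp : FibCat.IsFibGrpd p) (J : GrothendieckTopology C) (x : 𝒳) :
    (Over.post p : Over x ⥤ Over (p.obj x)).IsEquivalence ∧
      ∀ (a : Over x) (S : Sieve a), S ∈ (p.restrictedTopology J).over x a ↔
        S.functorPushforward (Over.post p) ∈ (J.over (p.obj x)) ((Over.post p).obj a) := by
  exact main p hp J x

end Groth.Agent.S12803
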