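import Groth.Statements.S12806
import Mathlib
import Groth.Agent.FibFpProj
-- import your own Groth.Agent.* helpers here

set_option autoImplicit false
set_option backward.isDefEq.respectTransparency false
set_option backward.isDefEq.respectTransparency.types false
open CategoryTheory
universe v u
open FibCat

namespace Groth.Agent.S12806

/-- Let `𝒮` be fibred in groupoids over `C`, `U` an object of `C` and `x, y : C/U ⟶ 𝒮` two functors over
`C` (objects over `U` in 2-Yoneda form), with `e` the 2-isomorphism identifying their composites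
with the structure functor. Then the 2-fibre product over `C` of `(x, y) : C/U ⟶ 𝒮 ×_C 𝒮` with the
diagonal `𝒮 ⟶ 𝒮 ×_C 𝒮` is fibred in setoids over `C/U` through its first projection. (The published
statement is for a fibred category with `x`, `y` the functors given by chosen pullbacks; this row is
the case of a category fibred in groupoids, where every functor over `C` out of `C/U` is of that
kind.) -/
theorem result {C : Type u} [Category.{v} C] {𝒮 : BasedCategory.{v, max u v} C} (h𝒮 : FibCat.IsFibGrpd 𝒮.p)
    (U : C) (x y : FibCat.overCat U ⥤ᵇ 𝒮)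
    (e : BasedFunctor.comp x (FibCat.toSelf 𝒮) ≅ BasedFunctor.comp y (FibCat.toSelf 𝒮)) :
    FibCat.IsFibSetoid (FibCat.fpFst (FibCat.fpLift x y e) (FibCat.diag (FibCat.toSelf 𝒮))).toFunctor := by
  have := Groth.Agent.FibFpProj.diag_faithful (FibCat.toSelf 𝒮)
  refine ⟨Groth.Agent.FibFpProj.isFibGrpd_fpFst (FibCat.fpLift x y e) (FibCat.diag (FibCat.toSelf 𝒮))
    (Groth.Agent.FibOver.isFibGrpd_overCat U) h𝒮
    (Groth.Agent.FibFpProj.isFibGrpd_fp (FibCat.toSelf 𝒮) (FibCat.toSelf 𝒮) h𝒮 h𝒮
      Groth.Agent.FibFpProj.isFibGrpd_selfOver), ?_⟩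
  intro a
  exact Groth.Agent.FibFpProj.thin_fiber_fpFst (FibCat.fpLift x y e) (FibCat.diag (FibCat.toSelf 𝒮)) a

end Groth.Agent.S12806
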