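import Groth.Statements.S12807
import Mathlib
import Groth.Agent.FibFp
-- import your own Groth.Agent.* helpers here

set_option autoImplicit false
set_option backward.isDefEq.respectTransparency false
set_option backward.isDefEq.respectTransparency.types false
open CategoryTheory CategoryTheory.Limits
universe v₃ u₃ v₂ u₂ v u
open FibCat

namespace Groth.Agent.S12807

/-- Let `u : C ⥤ D` be a functor and `𝒮` a category over `D` whose structure functor is a fibred
category. Then the 2-fibre product `C ×_D 𝒮` of `u` and the structure functor (triples `(U, y, u U ≅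
p y)`), with its first projection, is a fibred category over `C`. (The published statement uses the
strict fibre product, pairs with `u U = p y`; for `𝒮` fibred over `D` it is equivalent over `C` to
the 2-fibre product used here.) -/
theorem result {C : Type u} [Category.{v} C] {D : Type u₂} [Category.{v₂} D] (u : C ⥤ D)
    (𝒮 : BasedCategory.{v₃, u₃} D) [𝒮.p.IsFibered] :
    (CategoricalPullback.π₁ u 𝒮.p).IsFibered := by
  classical
  apply Functor.IsFibered.of_exists_isStronglyCartesian
  intro t R f
  obtain ⟨y, φ, hφ⟩ := Functor.IsPreFibered.exists_isCartesian' (p := 𝒮.p) (u.map f ≫ t.iso.hom)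
  have hφs : 𝒮.p.IsStronglyCartesian (u.map f ≫ t.iso.hom) φ := by
    have := hφ
    infer_instance
  have hy : 𝒮.p.obj y = u.obj R := IsHomLift.domain_eq 𝒮.p (u.map f ≫ t.iso.hom) φ
  have hfac : 𝒮.p.map φ = eqToHom hy ≫ u.map f ≫ t.iso.hom := by
    have := IsHomLift.fac' 𝒮.p (u.map f ≫ t.iso.hom) φ
    simpa using this
  let t' : CategoricalPullback u 𝒮.p := ⟨R, y, eqToIso hy.symm⟩
  let m : t' ⟶ t := ⟨f, φ, by simp [t', hfac]⟩
  refine ⟨t', m, ?_⟩
  refine { toIsHomLift := ?_, universal_property' := ?_ }
  · exact IsHomLift.of_fac' _ f m rfl rfl (by simp [m])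
  · intro t'' g₀ ψ hψ
    have hψ1 : ψ.fst = g₀ ≫ f := by
      have := IsHomLift.fac' (CategoricalPullback.π₁ u 𝒮.p) (g₀ ≫ f) ψ
      simpa using this
    have hψ2 : 𝒮.p.IsHomLift ((t''.iso.inv ≫ u.map g₀) ≫ (u.map f ≫ t.iso.hom)) ψ.snd := by
      apply IsHomLift.of_fac' _ _ _ rfl rfl
      have := ψ.w
      rw [hψ1] at this
      simp only [eqToHom_refl, Category.comp_id, Category.id_comp, Category.assoc]
      rw [← u.map_comp_assoc, this]
      simp
    obtain ⟨β, ⟨hβ1, hβ2⟩, hβu⟩ :=
      Functor.IsStronglyCartesian.universal_property (p := 𝒮.p) (f := u.map f ≫ t.iso.hom) (φ := φ)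
        (t''.iso.inv ≫ u.map g₀) _ rfl ψ.snd
    have hβfac : 𝒮.p.map β = (t''.iso.inv ≫ u.map g₀) ≫ eqToHom hy.symm := by
      have := IsHomLift.fac' 𝒮.p (t''.iso.inv ≫ u.map g₀) β
      simpa using this
    let χ : t'' ⟶ t' := ⟨g₀, β, by simp [t', hβfac]⟩
    refine ⟨χ, ⟨?_, ?_⟩, ?_⟩
    · exact IsHomLift.of_fac' _ g₀ χ rfl rfl (by simp [χ])
    · apply CategoricalPullback.hom_ext
      · simp [χ, m, hψ1]
      · simp [χ, m, hβ2]
    · rintro χ' ⟨h1, h2⟩
      have hχ'1 : χ'.fst = g₀ := by
        have := IsHomLift.fac' (CategoricalPullback.π₁ u 𝒮.p) g₀ χ'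
        simpa using this
      apply CategoricalPullback.hom_ext
      · simp [χ, hχ'1]
      · apply hβu
        refine ⟨?_, ?_⟩
        · apply IsHomLift.of_fac' _ _ _ rfl hy
          have := χ'.w
          simp only [t', eqToIso.hom] at this
          rw [hχ'1] at this
          simp only [Category.assoc, eqToHom_refl, Category.id_comp]
          rw [← cancel_epi t''.iso.hom, ← this]
          simp
        · have := congrArg CategoricalPullback.Hom.snd h2
          simpa [m] using this

end Groth.Agent.S12807
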