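import Groth.Statements.S12816
import Mathlib
import Groth.Agent.StkLib
import Groth.Agent.S6397
-- import your own Groth.Agent.* helpers here

set_option autoImplicit false
set_option backward.isDefEq.respectTransparency false
set_option backward.isDefEq.respectTransparency.types false
open CategoryTheory
universe v u
open Stk

namespace Groth.Agent.S12816

/-- Let `𝒳`, `𝒴` be fibred in groupoids over `C` and `F : 𝒳 ⟶ 𝒴` a functor over `C`. Then the underlying
functor of `F` is fully faithful if and only if, for every object `U` of `C`, postcomposition with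
`F` is a fully faithful functor from the category of functors `C/U ⟶ 𝒳` over `C` to that of functors
`C/U ⟶ 𝒴` over `C`; under the 2-Yoneda lemma the latter says that `F` induces bijections between
morphisms of pullbacks `x|_V ⟶ y|_V` and `F(x)|_V ⟶ F(y)|_V` for all objects `x, y` over `U` and all
`V ⟶ U`, that is, isomorphisms of the presheaves of morphisms. (The published statement is for
stacks over a site, not necessarily in groupoids; the stack property plays no role and is not
assumed here, and this row treats categories fibred in groupoids.) -/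
theorem result {C : Type u} [Category.{v} C] {𝒳 𝒴 : BasedCategory.{v, max u v} C}
    (h𝒳 : FibCat.IsFibGrpd 𝒳.p) (h𝒴 : FibCat.IsFibGrpd 𝒴.p) (F : 𝒳 ⟶ 𝒴) :
    (F.toFunctor.Full ∧ F.toFunctor.Faithful) ↔
      ∀ U : C, (Bicategory.postcomp (FibCat.overCat U) F).Full ∧ (Bicategory.postcomp (FibCat.overCat U) F).Faithful := by
  classical
  have key : ∀ U : C, ((Bicategory.postcomp (FibCat.overCat U) F).Full ∧ (Bicategory.postcomp (FibCat.overCat U) F).Faithful) ↔
      ((FibCat.fiberFunctor F U).Full ∧ (FibCat.fiberFunctor F U).Faithful) := by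
    intro U
    have h1 : (FibCat.evalAtId 𝒳 U).IsEquivalence := Groth.Agent.FibYoneda.evalAtId_isEquivalence_of_isFibGrpd h𝒳 U
    have h2 : (FibCat.evalAtId 𝒴 U).IsEquivalence := Groth.Agent.FibYoneda.evalAtId_isEquivalence_of_isFibGrpd h𝒴 U
    let e : Bicategory.postcomp (FibCat.overCat U) F ⋙ FibCat.evalAtId 𝒴 U ≅
        FibCat.evalAtId 𝒳 U ⋙ FibCat.fiberFunctor F U :=
      NatIso.ofComponents (fun H => Iso.refl _) (by
        intro H H' γ
        apply Functor.Fiber.hom_ext
        simp
        rfl)
    constructor
    · rintro ⟨hfu, hfa⟩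
      have h3 : (Bicategory.postcomp (FibCat.overCat U) F ⋙ FibCat.evalAtId 𝒴 U).Full := inferInstance
      have h4 : (Bicategory.postcomp (FibCat.overCat U) F ⋙ FibCat.evalAtId 𝒴 U).Faithful := inferInstance
      exact Groth.Agent.StkLib.full_faithful_of_comp_equiv (FibCat.evalAtId 𝒳 U) _
        ⟨Functor.Full.of_iso e, Functor.Faithful.of_iso e⟩
    · rintro ⟨hfu, hfa⟩
      have h3 : (FibCat.evalAtId 𝒳 U ⋙ FibCat.fiberFunctor F U).Full := inferInstance
      have h4 : (FibCat.evalAtId 𝒳 U ⋙ FibCat.fiberFunctor F U).Faithful := inferInstance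
      have h5 : (Bicategory.postcomp (FibCat.overCat U) F ⋙ FibCat.evalAtId 𝒴 U).Full := Functor.Full.of_iso e.symm
      have h6 : (Bicategory.postcomp (FibCat.overCat U) F ⋙ FibCat.evalAtId 𝒴 U).Faithful :=
        Functor.Faithful.of_iso e.symm
      exact ⟨Functor.Full.of_comp_faithful _ (FibCat.evalAtId 𝒴 U), Functor.Faithful.of_comp _ (FibCat.evalAtId 𝒴 U)⟩
  rw [Groth.Agent.S6397.result F h𝒳 h𝒴]
  exact forall_congr' fun U => (key U).symm

end Groth.Agent.S12816
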