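import Groth.Statements.S12831
import Mathlib
import Groth.Agent.Lib.Helper4.AlgStUnivInj

set_option autoImplicit false
universe u
open CategoryTheory AlgebraicGeometry
open AlgSt

namespace Groth.Agent.S12831

/-- (1) ⇔ (2): a morphism `f : 𝒳 ⟶ 𝒴` of algebraic stacks over `S` is universally injective (every base
change to an algebraic stack is injective on points) if and only if its diagonal `𝒳 ⟶ 𝒳 ×_𝒴 𝒳` is
surjective on points. -/
theorem result {S : Scheme.{u}} {𝒳 𝒴 : AlgSt.Cat S}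
    (h𝒳 : AlgSt.IsAlgStack Scheme.fppfPrecoverage 𝒳) (h𝒴 : AlgSt.IsAlgStack Scheme.fppfPrecoverage 𝒴) (f : 𝒳 ⥤ᵇ 𝒴) :
    AlgSt.IsUnivInjective Scheme.fppfPrecoverage f ↔ AlgSt.IsSurjective (FibCat.diag f) := by
  exact ⟨Groth.Agent.Lib.helper4.AlgStUnivInj.isSurjective_diag_of_isUnivInjective h𝒳 h𝒴 f,
    Groth.Agent.Lib.helper4.AlgStUnivInj.isUnivInjective_of_isSurjective_diag h𝒳 h𝒴 f⟩

end Groth.Agent.S12831
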