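import Groth.Statements.S12848
import Groth.Agent.S12774
import Groth.Agent.S12818

set_option autoImplicit false
open CategoryTheory AlgebraicGeometry
universe u
open AlgSt

namespace Groth.Agent.S12848

/-- A monomorphism `f : 𝒳 ⟶ 𝒴` of algebraic stacks over `S` induces an injective map `|𝒳| → |𝒴|` on
points. -/
theorem result {S : Scheme.{u}} {𝒳 𝒴 : AlgSt.Cat S}
    (h𝒳 : AlgSt.IsAlgStack Scheme.fppfPrecoverage 𝒳) (h𝒴 : AlgSt.IsAlgStack Scheme.fppfPrecoverage 𝒴) (f : 𝒳 ⥤ᵇ 𝒴) (hf : AlgSt.IsMono f) :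
    Function.Injective (AlgSt.Points.map f) := by
  have hX : FibCat.IsFibGrpd 𝒳.p := h𝒳.isStack.1
  have hY : FibCat.IsFibGrpd 𝒴.p := h𝒴.isStack.1
  obtain ⟨hfull, hfaith⟩ := Groth.Agent.S12774.result hX hY f hf
  intro z z' h
  obtain ⟨p, rfl⟩ := AlgSt.Points.mk_surjective z
  obtain ⟨q, rfl⟩ := AlgSt.Points.mk_surjective z'
  have hrel : AlgSt.FPt.Rel (p.map f) (q.map f) := by
    have h' := Quot.eqvGen_exact h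
    exact (Groth.Agent.S12817.result 𝒴 hY).eqvGen_iff.mp h'
  obtain ⟨r, α₀, β₀, -⟩ := hrel
  obtain ⟨α, -⟩ : ∃ α : r.obj ⟶ f.obj p.obj, α = α₀ := ⟨α₀, rfl⟩
  obtain ⟨β, -⟩ : ∃ β : r.obj ⟶ f.obj q.obj, β = β₀ := ⟨β₀, rfl⟩
  have ha : 𝒴.p.IsHomLift (𝒴.p.map α ≫ eqToHom (f.w_obj p.obj)) α := inferInstance
  have hb : 𝒴.p.IsHomLift (𝒴.p.map β ≫ eqToHom (f.w_obj q.obj)) β := inferInstance
  obtain ⟨p', φ, hφ⟩ := hX.exists_lift (𝒴.p.map α ≫ eqToHom (f.w_obj p.obj))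
  obtain ⟨q', ψ, hψ⟩ := hX.exists_lift (𝒴.p.map β ≫ eqToHom (f.w_obj q.obj))
  have hfφ : 𝒴.p.IsHomLift (𝒴.p.map α ≫ eqToHom (f.w_obj p.obj)) (f.map φ) := inferInstance
  have hfψ : 𝒴.p.IsHomLift (𝒴.p.map β ≫ eqToHom (f.w_obj q.obj)) (f.map ψ) := inferInstance
  obtain ⟨ι₁, -⟩ := Groth.Agent.S12818.exists_iso_of_lifts 𝒴.p
    (𝒴.p.map α ≫ eqToHom (f.w_obj p.obj)) (f.map φ) α
  obtain ⟨ι₂, -⟩ := Groth.Agent.S12818.exists_iso_of_lifts 𝒴.p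
    (𝒴.p.map β ≫ eqToHom (f.w_obj q.obj)) β (f.map ψ)
  have hp' : 𝒳.p.obj p' = 𝒴.p.obj r.obj :=
    CategoryTheory.IsHomLift.domain_eq 𝒳.p (𝒴.p.map α ≫ eqToHom (f.w_obj p.obj)) φ
  let m : p' ⟶ q' := f.toFunctor.preimage (ι₁.hom ≫ ι₂.hom)
  let r' : AlgSt.FPt 𝒳 := { K := r.K, str := r.str, obj := p', lies := hp'.trans r.lies }
  exact AlgSt.Points.sound ⟨r', (φ : p' ⟶ p.obj), (m ≫ ψ : p' ⟶ q.obj), trivial⟩

end Groth.Agent.S12848
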