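import Groth.Statements.S12851
import Mathlib
import Groth.Agent.Lib.Helper4.AlgStSource

set_option autoImplicit false
open CategoryTheory AlgebraicGeometry
universe u
open AlgSt

namespace Groth.Agent.S12851
open Groth.Agent.Lib.helper4.AlgStSource Groth.Agent.Lib.helper4.AlgStCoreA Groth.Agent.Lib.helper4.PshRep

/-- Let `P` be a property of morphisms of algebraic spaces over `S` which is stable under base change,
fppf local on the base and local on the source in the fppf topology; let `x : 𝒳 ⟶ 𝒴` and `y : 𝒴 ⟶ 𝒵`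
be 1-morphisms of algebraic stacks over `S` representable by algebraic spaces with `x` surjective
and flat and locally of finite presentation. If `y ∘ x` has `P` then `y` has `P`. (Stability under
base change is asked for every pullback square of fppf sheaves whose four corners are algebraic
spaces.) -/
theorem result {S : Scheme.{u}} {𝒳 𝒴 𝒵 : AlgSt.Cat S}
    (h𝒳 : AlgSt.IsAlgStack Scheme.fppfPrecoverage 𝒳) (h𝒴 : AlgSt.IsAlgStack Scheme.fppfPrecoverage 𝒴) (h𝒵 : AlgSt.IsAlgStack Scheme.fppfPrecoverage 𝒵)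
    (P : MorphismProperty (AlgSp.Sp S))
    (hPb : ∀ ⦃X₁ Y₁ X₂ Y₂ : AlgSp.Sp S⦄, AlgSp.IsAlgSpace X₁ → AlgSp.IsAlgSpace Y₁ → AlgSp.IsAlgSpace X₂ →
      AlgSp.IsAlgSpace Y₂ → ∀ (a : X₁ ⟶ Y₁) (b : Y₂ ⟶ Y₁) (a' : X₂ ⟶ Y₂) (b' : X₂ ⟶ X₁),
      IsPullback b' a' a b → P a → P a')
    (hP : AlgSp.IsLocalOnBase AlgSp.IsFppfCover P) (hP' : AlgSp.IsLocalOnSource AlgSp.IsFppfCover P)
    (x : 𝒳 ⥤ᵇ 𝒴) (y : 𝒴 ⥤ᵇ 𝒵) (hy : AlgSt.RepByAlgSp1 y)
    (hx₁ : AlgSt.RepByAlgSpWith (AlgSp.LocP @Flat) x)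
    (hx₂ : AlgSt.RepByAlgSpWith (AlgSp.LocP @LocallyOfFinitePresentation) x)
    (hx₃ : AlgSt.RepByAlgSpWith AlgSp.IsSurjectiveMor x)
    (h : AlgSt.RepByAlgSpWith P (BasedFunctor.comp x y)) : AlgSt.RepByAlgSpWith P y := by
  have hQ : IsoInv P := isoInv_of_baseChange P hPb
  have i1 : IsoInv (fun _ _ f => AlgSp.LocP (S := S) @Flat f ∧ AlgSp.LocP @LocallyOfFinitePresentation f) :=
    isoInv_and (Q₁ := AlgSp.LocP @Flat) (Q₂ := AlgSp.LocP @LocallyOfFinitePresentation) (isoInv_locP _) (isoInv_locP _)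
  have l1 : AlgSp.IsLocalOnBase AlgSp.IsFppfCover
      (fun _ _ f => AlgSp.LocP (S := S) @Flat f ∧ AlgSp.LocP @LocallyOfFinitePresentation f) :=
    isLocalOnBase_and (Q₁ := AlgSp.LocP @Flat) (Q₂ := AlgSp.LocP @LocallyOfFinitePresentation)
      (isLocalOnBase_fppf_of_fpqc (Groth.Agent.S10530.result S))
      (isLocalOnBase_fppf_of_fpqc (Groth.Agent.S10527.result S))
  have r1 : AlgSt.RepByAlgSpWith
      (fun _ _ f => AlgSp.LocP (S := S) @Flat f ∧ AlgSp.LocP @LocallyOfFinitePresentation f) x :=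
    repByAlgSpWith_and x (Q₁ := AlgSp.LocP @Flat) (Q₂ := AlgSp.LocP @LocallyOfFinitePresentation)
      (isoInv_locP _) hx₁ hx₂
  exact of_comp_cover h𝒳.isStack.1 h𝒴.isStack.1 P hQ AlgSp.IsFppfCover hP'
    (fun _ _ f => (AlgSp.LocP @Flat f ∧ AlgSp.LocP @LocallyOfFinitePresentation f) ∧ AlgSp.IsSurjectiveMor f)
    (isoInv_and (Q₁ := fun _ _ f => AlgSp.LocP (S := S) @Flat f ∧ AlgSp.LocP @LocallyOfFinitePresentation f)
      (Q₂ := AlgSp.IsSurjectiveMor) i1 isoInv_isSurjectiveMor)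
    (isLocalOnBase_and (Q₁ := fun _ _ f => AlgSp.LocP (S := S) @Flat f ∧ AlgSp.LocP @LocallyOfFinitePresentation f)
      (Q₂ := AlgSp.IsSurjectiveMor) l1 isLocalOnBase_isSurjectiveMor)
    (fun s hs => ⟨fun _ => hs.1, fun pt => ⟨PUnit.unit, hs.2 pt⟩⟩)
    x y hy (repByAlgSpWith_and x
      (Q₁ := fun _ _ f => AlgSp.LocP (S := S) @Flat f ∧ AlgSp.LocP @LocallyOfFinitePresentation f)
      (Q₂ := AlgSp.IsSurjectiveMor) isoInv_isSurjectiveMor r1 hx₃) h

end Groth.Agent.S12851
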