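import Groth.Statements.S12860
import Mathlib
import Groth.Agent.Lib.Helper4.AlgStOpenSub6

set_option autoImplicit false
open CategoryTheory AlgebraicGeometry
universe u
open AlgSt

namespace Groth.Agent.S12860

/-- Let `𝒳` be an algebraic stack over `S`, `U` an algebraic space with a surjective smooth `u : U ⟶ 𝒳`,
and `j : V ⟶ U` an open immersion of algebraic spaces. Then there are an algebraic stack `𝒴`, an
open immersion `i : 𝒴 ⟶ 𝒳` and a surjective smooth `g : V ⟶ 𝒴` such that `i ∘ g` is 2-isomorphic to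
`u ∘ j` (the compatibility is part of the published proof, which constructs `𝒴` as the image of
`V`). -/
theorem result {S : Scheme.{u}} {𝒳 : AlgSt.Cat S}
    (h𝒳 : AlgSt.IsAlgStack Scheme.fppfPrecoverage 𝒳) (U : AlgSp.Space S) (u : AlgSt.ofSp U.obj ⥤ᵇ 𝒳)
    (hu₁ : AlgSt.RepByAlgSpWith (AlgSp.LocP @Smooth) u) (hu₂ : AlgSt.RepByAlgSpWith AlgSp.IsSurjectiveMor u)
    (V : AlgSp.Space S) (j : V ⟶ U) (hj : AlgSp.RepWith @IsOpenImmersion j.hom) :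
    ∃ (𝒴 : AlgSt.Cat S) (i : 𝒴 ⥤ᵇ 𝒳) (g : AlgSt.ofSp V.obj ⥤ᵇ 𝒴),
      AlgSt.IsAlgStack Scheme.fppfPrecoverage 𝒴 ∧ AlgSt.IsOpenImm i ∧
        AlgSt.RepByAlgSpWith (AlgSp.LocP @Smooth) g ∧ AlgSt.RepByAlgSpWith AlgSp.IsSurjectiveMor g ∧
          Nonempty (BasedFunctor.comp g i ≅ BasedFunctor.comp (AlgSt.ofSpMap j.hom) u) := by
  have hX := h𝒳.isStack.1
  have hVf : FibCat.IsFibGrpd (AlgSt.ofSp V.obj).p := Stk.isFibGrpd_ofPsh _
  have hUf : FibCat.IsFibGrpd (AlgSt.ofSp U.obj).p := Stk.isFibGrpd_ofPsh _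
  have hje : AlgSp.RepWith @Etale j.hom :=
    Groth.Agent.S10194.repWith_mono (fun X Y f hf => by
      have : IsOpenImmersion f := hf
      exact inferInstanceAs (Etale f)) hj
  have hjs : AlgSt.RepByAlgSpWith (AlgSp.LocP @Smooth) (AlgSt.ofSpMap j.hom) :=
    Groth.Agent.Lib.helper4.PshRep.repByAlgSpWith_of_repBySpWith _ j.hom.hom
      (Groth.Agent.Lib.helper4.AlgStDM.repBySpWith_locP_smooth j.hom hje)
  have hw : AlgSt.RepByAlgSpWith (AlgSp.LocP @Smooth) (BasedFunctor.comp (AlgSt.ofSpMap j.hom) u) :=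
    Groth.Agent.Lib.helper4.AlgStSmLoc.smooth_comp hVf hUf hX _ _ hjs hu₁
  obtain ⟨T, g, hT, -, hg, hgs, hcomp⟩ :=
    Groth.Agent.Lib.helper4.AlgStOpenSub.exists_image_of_smooth h𝒳 V _ hw
  exact ⟨AlgSt.fullSub 𝒳 (Groth.Agent.Lib.helper4.AlgStOpenSub.QT T),
    AlgSt.subIncl 𝒳 (Groth.Agent.Lib.helper4.AlgStOpenSub.QT T), g,
    Groth.Agent.Lib.helper4.AlgStOpenSub.isAlgStack_fullSub_QT h𝒳 T hT,
    Groth.Agent.Lib.helper4.AlgStOpenSub.isOpenImm_subIncl_QT h𝒳 T hT, hg, hgs, ⟨eqToIso hcomp⟩⟩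

end Groth.Agent.S12860
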