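import Groth.Statements.S12870
import Mathlib
import Groth.Agent.S12780
import Groth.Agent.S10547

set_option autoImplicit false
open CategoryTheory AlgebraicGeometry
universe u
open AlgSt

namespace Groth.Agent.S12870

/-- The composite of two immersions `f : 𝒳 ⟶ 𝒴`, `g : 𝒴 ⟶ 𝒵` of algebraic stacks over `S` is again one. -/
theorem result {S : Scheme.{u}} {𝒳 𝒴 𝒵 : AlgSt.Cat S}
    (h𝒳 : AlgSt.IsAlgStack Scheme.fppfPrecoverage 𝒳) (h𝒴 : AlgSt.IsAlgStack Scheme.fppfPrecoverage 𝒴) (h𝒵 : AlgSt.IsAlgStack Scheme.fppfPrecoverage 𝒵)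
    (f : 𝒳 ⥤ᵇ 𝒴) (g : 𝒴 ⥤ᵇ 𝒵) (hf : AlgSt.IsImm f) (hg : AlgSt.IsImm g) :
    AlgSt.IsImm (BasedFunctor.comp f g) := by
  have hmul : (AlgSp.RepWith (S := S) @IsImmersion).IsMultiplicative := AlgSp.repWith_isMultiplicative _
  exact Groth.Agent.S12780.result h𝒳.isStack.1 h𝒴.isStack.1 h𝒵.isStack.1 (AlgSp.RepWith @IsImmersion)
    (fun X₁ Y₁ X₂ Y₂ _ _ _ _ a b a' b' sq ha =>
      (MorphismProperty.relative_isStableUnderBaseChange _).of_isPullback sq ha)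
    (fun X Y Z _ _ _ a b ha hb => (AlgSp.RepWith (S := S) @IsImmersion).comp_mem _ _ ha hb)
    (Groth.Agent.S10547.result S) f g hf hg

end Groth.Agent.S12870
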