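import Groth.Statements.S12886
import Mathlib
import Groth.Agent.Lib.Helper21.ExtStalk
import Groth.Agent.Lib.Helper26.Depth1
-- import your own Groth.Agent.* helpers here

set_option autoImplicit false
universe u
open CategoryTheory CategoryTheory.Limits TopologicalSpace AlgebraicGeometry
open Coherent

namespace Groth.Agent.S12886

/-- Let X be a locally Noetherian scheme, Y a closed subset with open complement U, F a coherent
O_X-module and n a natural number. If some coherent O_X-module G has support equal to Y and ℰxt^i(G,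
F) = 0 for all i < n, then the depth of F_x over O_{X,x} is at least n for every point x of Y. (The
converse holds with G = O_Y. Internal Hom of every O_X-module and injective resolutions of
O_X-modules are the stated instance hypotheses, both true.) -/
theorem result (X : Scheme.{u}) [IsLocallyNoetherian X]
    (U : X.Opens) (F : X.Modules) (hF : Coh.IsCoh F) (n : ℕ)
    [∀ M : X.Modules, ModSite.HasSheafHom (O := X.sheaf) M] [HasInjectiveResolutions (ModSite.Mod X.sheaf)]
    (h : ∃ G : X.Modules, Coh.IsCoh G ∧ CohB1.support G = (U : Set X)ᶜ ∧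
      ∀ i : ℕ, i < n → IsZero ((ModSite.extSh (O := X.sheaf) G i).obj F))
    (x : X) (hx : x ∉ (U : Set X)) :
    (n : ℕ∞) ≤ LocCoh.depth (X.presheaf.stalk x) (F.presheaf.stalk x) := by
  classical
  obtain ⟨G, hG, hsupp, hvan⟩ := h
  haveI : Module.Finite (X.presheaf.stalk x) (G.presheaf.stalk x) :=
    Groth.Agent.Lib.helper16.CohStalk.finite_stalk_of_isCoh G hG x
  haveI : Module.Finite (X.presheaf.stalk x) (F.presheaf.stalk x) :=
    Groth.Agent.Lib.helper16.CohStalk.finite_stalk_of_isCoh F hF x
  -- x lies in the support of G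
  have hxG : ¬ Subsingleton (G.presheaf.stalk x) := by
    have : x ∈ CohB1.support G := by rw [hsupp]; exact hx
    exact this
  -- vanishing of Ext over the local ring
  have hext : ∀ i < n, Subsingleton (Abelian.Ext.{u}
      (ModuleCat.of (X.presheaf.stalk x) (G.presheaf.stalk x))
      (ModuleCat.of (X.presheaf.stalk x) (F.presheaf.stalk x)) i) := fun i hi =>
    (Groth.Agent.Lib.helper21.ExtStalk.isZero_extSh_iff G F hG hF.1 i).1 (hvan i hi) x
  let I : Ideal (X.presheaf.stalk x) := Module.annihilator (X.presheaf.stalk x) (G.presheaf.stalk x)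
  have hN : Module.support (X.presheaf.stalk x)
      (ModuleCat.of (X.presheaf.stalk x) (G.presheaf.stalk x)) = PrimeSpectrum.zeroLocus I :=
    Module.support_eq_zeroLocus
  have h1 : (n : ℕ∞) ≤ LocCoh.idealDepth I (F.presheaf.stalk x) :=
    (Groth.Agent.Lib.helper26.Depth.le_idealDepth_iff_ext_of_support_eq I (F.presheaf.stalk x)
      (ModuleCat.of (X.presheaf.stalk x) (G.presheaf.stalk x)) hN n).2 hext
  have hI : I ≤ IsLocalRing.maximalIdeal (X.presheaf.stalk x) := by
    refine IsLocalRing.le_maximalIdeal ?_
    intro htop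
    apply hxG
    have h1 : (1 : X.presheaf.stalk x) ∈ I := htop ▸ Submodule.mem_top
    refine ⟨fun a b => ?_⟩
    have ha := Module.mem_annihilator.1 h1 a
    have hb := Module.mem_annihilator.1 h1 b
    rw [one_smul] at ha hb
    rw [ha, hb]
  -- monotonicity of the depth in the ideal
  refine h1.trans ?_
  unfold LocCoh.depth
  set J := IsLocalRing.maximalIdeal (X.presheaf.stalk x) with hJdef
  by_cases hJ : J • (⊤ : Submodule (X.presheaf.stalk x) (F.presheaf.stalk x)) = ⊤
  · rw [Groth.Agent.Lib.helper26.Depth.idealDepth_eq_top_of_smul_top_eq_top J _ hJ]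
    exact le_top
  have hI' : I • (⊤ : Submodule (X.presheaf.stalk x) (F.presheaf.stalk x)) ≠ ⊤ := fun h =>
    hJ (top_le_iff.1 (h.symm.le.trans (Submodule.smul_mono hI le_rfl)))
  rw [Groth.Agent.Lib.helper26.Depth.idealDepth_eq_iSup I _ hI',
    Groth.Agent.Lib.helper26.Depth.idealDepth_eq_iSup J _ hJ]
  exact iSup₂_mono' fun rs h => ⟨rs, ⟨h.1, fun r hr => hI (h.2 r hr)⟩, le_rfl⟩

end Groth.Agent.S12886
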