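import Groth.Statements.S12885
import Mathlib
import Groth.Agent.Lib.Helper21.DepthExt
import Groth.Agent.Lib.Helper8.DevK0
import Groth.Agent.Lib.Helper8.PushSupp
import Groth.Agent.S12886
-- import your own Groth.Agent.* helpers here

set_option autoImplicit false
universe u
open CategoryTheory CategoryTheory.Limits TopologicalSpace AlgebraicGeometry
open Coherent

namespace Groth.Agent.S12885

/-- Let X be a locally Noetherian scheme, Y a closed subset with open complement U, F a coherent
O_X-module and n a natural number. Then the depth of the stalk F_x over O_{X,x} is at least n for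
every point x of Y if and only if for every coherent O_X-module G with support contained in Y the
local Ext sheaves ℰxt^i(G, F) vanish for all i < n. (Internal Hom of every O_X-module and injective
resolutions of O_X-modules are the stated instance hypotheses, both true.) -/
theorem result (X : Scheme.{u}) [IsLocallyNoetherian X]
    (U : X.Opens) (F : X.Modules) (hF : Coh.IsCoh F) (n : ℕ)
    [∀ M : X.Modules, ModSite.HasSheafHom (O := X.sheaf) M] [HasInjectiveResolutions (ModSite.Mod X.sheaf)] :
    (∀ x : X, x ∉ (U : Set X) → (n : ℕ∞) ≤ LocCoh.depth (X.presheaf.stalk x) (F.presheaf.stalk x)) ↔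
      ∀ G : X.Modules, Coh.IsCoh G → (∀ x ∈ CohB1.support G, x ∉ (U : Set X)) →
        ∀ i : ℕ, i < n → IsZero ((ModSite.extSh (O := X.sheaf) G i).obj F) := by
  classical
  constructor
  · intro H G hG hsupp i hi
    exact Groth.Agent.Lib.helper21.DepthExt.isZero_extSh_of_depth F G hF hG n
      (fun y hy => H y (hsupp y hy)) i hi
  · intro H x hx
    let C : Closeds X := ⟨(U : Set X)ᶜ, U.2.isClosed_compl⟩
    let ι := (Scheme.IdealSheafData.vanishingIdeal C).subschemeι
    have hrange : Set.range ι = (U : Set X)ᶜ := by
      rw [Scheme.IdealSheafData.range_subschemeι,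
        Scheme.IdealSheafData.coe_support_vanishingIdeal]
      rfl
    have hcoh : Coh.IsCoh (Groth.Agent.Lib.helper8.Dev.OC C) :=
      Groth.Agent.Lib.helper8.Dev.isCoh_OC C
    have hsupp : CohB1.support (Groth.Agent.Lib.helper8.Dev.OC C) = (U : Set X)ᶜ := by
      refine subset_antisymm ?_ ?_
      · rw [← hrange]
        exact Groth.Agent.Lib.helper8.SchemeSupport.support_subset_range_of_iso _ ι _ (Iso.refl _)
      · rw [← hrange]
        exact Groth.Agent.Lib.helper8.StalkLen.range_subset_support_push_structure ι
    exact Groth.Agent.S12886.result X U F hF n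
      ⟨Groth.Agent.Lib.helper8.Dev.OC C, hcoh, hsupp,
        fun i hi => H _ hcoh (fun y hy => by rw [hsupp] at hy; exact hy) i hi⟩ x hx

end Groth.Agent.S12885
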