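import Groth.Statements.S12889
import Mathlib
import Groth.Agent.Lib.Helper21.SuppZ3
import Groth.Agent.Lib.Helper27.PshSS
-- import your own Groth.Agent.* helpers here

set_option autoImplicit false
universe u
open CategoryTheory CategoryTheory.Limits
open ModSite

namespace Groth.Agent.S12889

/-- On a small ringed site (C, J, O) with O commutative, let U be an object with Z the closed complement
of the open it generates, and M an O-module. There is an E₂ spectral sequence of abelian groups with
E₂^{p,q} ≅ H^p(C, ℋ^q_Z(M)) for p, q ≥ 0 (and 0 otherwise), bounded, abutting with finite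
filtrations to H^n_Z(M) (n ≥ 0; 0 for n < 0); here ℋ^q_Z are the right derived functors of sections
with support on O-modules, H^p(C, -) is the cohomology of the site with values in the underlying
abelian sheaf, and H^n_Z(M) are the Ext groups out of ℤ/ℤ_U into the underlying abelian sheaf.
(Existence only: the E₂ identifications and the abutment are some isomorphisms. The direct image
along the localisation at U and injective resolutions of O-modules are the stated instance
hypotheses, both true.) -/
theorem result {C : Type u} [SmallCategory C] {J : GrothendieckTopology C}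
    (O : Sheaf J CommRingCat.{u}) (U : C) (M : ModSite.Mod O)
    [ModSite.HasPushOver O U] [HasInjectiveResolutions (ModSite.Mod O)] :
    ∃ (E : E₂CohomologicalSpectralSequence AddCommGrpCat.{u})
      (a : SpSeq.Abutment E (fun n : ℤ =>
        if 0 ≤ n then AddCommGrpCat.of (ModSite.HZ U M n.toNat) else AddCommGrpCat.of PUnit.{u + 1})),
      (∀ n : ℤ, a.IsFinite n) ∧ SpSeq.IsBounded E ∧
      ∀ p q : ℤ, Nonempty ((E.page 2 le_rfl).X (p, q) ≅
        (if 0 ≤ p ∧ 0 ≤ q then AddCommGrpCat.of (ModSite.HC O ((ModSite.HZsh O U q.toNat).obj M) p.toNat)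
          else AddCommGrpCat.of PUnit.{u + 1})) := by
  classical
  haveI : EnoughInjectives (ModSite.Mod O) :=
    Groth.Agent.Lib.helper27.SSGroth.enoughInjectives_of_hasInjectiveResolutions _
  haveI : HasExt.{u} (ModSite.Mod O) := hasExt_of_enoughInjectives.{u} _
  haveI hlim : PreservesFiniteLimits (ModSite.sectOn O U) := by
    haveI := (Groth.Agent.Lib.helper21.SuppAdj.adj O U).rightAdjoint_preservesLimits
    exact PreservesLimitsOfSize.preservesFiniteLimits.{u, u} _
  let T : ModSite.Mod O ⥤ ModSite.Mod O := ModSite.sectOn O U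
  let S : ModSite.Mod O ⥤ AddCommGrpCat.{u} := Groth.Agent.Lib.helper21.HomAcyc.Γ
  haveI : PreservesFiniteLimits (T ⋙ S) := comp_preservesFiniteLimits _ _
  refine Groth.Agent.Lib.helper27.SSGroth.grothendieck_ss_nat T S ?_ M
    (fun n => AddCommGrpCat.of (ModSite.HZ U M n)) ?_
    (fun p q => AddCommGrpCat.of (ModSite.HC O ((ModSite.HZsh O U q).obj M) p)) ?_ _ _
    (AddCommGrpCat.isZero_of_subsingleton _) (AddCommGrpCat.isZero_of_subsingleton _)
  · intro Q hQ q hq
    obtain ⟨j, rfl⟩ : ∃ j, q = j + 1 := ⟨q - 1, by omega⟩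
    haveI := hQ
    haveI : Injective (T.obj Q) := Groth.Agent.Lib.helper21.SuppAdj.injective_sectOn O U Q
    exact S.isZero_rightDerived_obj_injective_succ j (T.obj Q)
  · intro k
    obtain ⟨e1⟩ := Groth.Agent.Lib.helper21.SuppZ.ext_quotOn_iso_HZ U M k
    obtain ⟨e2⟩ := Groth.Agent.Lib.helper27.ExtCoy.rightDerived_iso_ext (T ⋙ S)
      ((ModSite.quotOn O U).obj (ModSite.unit O))
      (Groth.Agent.Lib.helper27.ExtCoy.adjCoyIso (Groth.Agent.Lib.helper21.SuppAdj.adj O U)
        (ModSite.unit O)).symm k M
    exact ⟨e1.symm ≪≫ e2⟩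
  · intro k l
    exact Groth.Agent.Lib.helper21.HomAcyc.rightDerived_Γ_iso ((ModSite.HZsh O U l).obj M) k

end Groth.Agent.S12889
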