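import Groth.Statements.S12890
import Mathlib
import Groth.Agent.Lib.Helper21.SubTerm
import Groth.Agent.Lib.Helper21.DerivedComm
import Groth.Agent.Lib.Helper27.FunLES
import Groth.Agent.Lib.Helper27.DeltaFPre
import Groth.Agent.Lib.Helper27.SSGroth2
-- import your own Groth.Agent.* helpers here

set_option autoImplicit false
universe u
open CategoryTheory CategoryTheory.Limits
open ModSite

namespace Groth.Agent.S12890

/-- On a small ringed site (C, J, O) with O commutative, let U be a subterminal object (every object has
at most one morphism to U), Z its closed complement and j_{U*} the direct image of modules along the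
localisation C/U → C. Then ℋ^1_Z is isomorphic to the cokernel of the unit M → j_{U*}(M|_U) (so that
0 → ℋ^0_Z(M) → M → j_{U*}(M|_U) → ℋ^1_Z(M) → 0 is exact), and for every q ≥ 1 the functor ℋ^{q+1}_Z
is isomorphic to M ↦ R^q j_{U*}(M|_U). (Existence of isomorphisms of functors only. The direct image
j_{U*} with its additivity and injective resolutions of modules on C and on C/U are the stated
instance hypotheses, all true.) -/
theorem result {C : Type u} [SmallCategory C] {J : GrothendieckTopology C}
    (O : Sheaf J CommRingCat.{u}) (U : C)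
    (hU : ∀ V : C, Subsingleton (V ⟶ U)) [ModSite.HasPushOver O U] [(ModSite.pushOver O U).Additive]
    [HasInjectiveResolutions (ModSite.Mod O)] [HasInjectiveResolutions (ModSite.Mod (O.over U))] :
    Nonempty (ModSite.HZsh O U 1 ≅ cokernel (ModSite.restrPushOverAdj O U).unit) ∧
      ∀ q : ℕ, 1 ≤ q →
        Nonempty (ModSite.HZsh O U (q + 1) ≅ ModSite.restr O U ⋙ (ModSite.pushOver O U).rightDerived q) := by
  classical
  haveI : EnoughInjectives (ModSite.Mod O) :=
    Groth.Agent.Lib.helper27.SSGroth.enoughInjectives_of_hasInjectiveResolutions _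
  let E : ModSite.Mod O ⥤ ModSite.Mod (O.over U) := ModSite.restr O U
  let G : ModSite.Mod (O.over U) ⥤ ModSite.Mod O := ModSite.pushOver O U
  let adj : E ⊣ G := ModSite.restrPushOverAdj O U
  haveI : E.Additive := ⟨rfl⟩
  haveI : G.Additive := inferInstanceAs (ModSite.pushOver O U).Additive
  haveI : PreservesFiniteLimits E := inferInstanceAs (PreservesFiniteLimits (ModSite.restr O U))
  haveI : PreservesFiniteColimits E := by
    haveI : PreservesColimitsOfSize.{0, 0} E := adj.leftAdjoint_preservesColimits
    infer_instance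
  haveI : PreservesFiniteLimits G := by
    haveI : PreservesLimitsOfSize.{0, 0} G := adj.rightAdjoint_preservesLimits
    infer_instance
  haveI : PreservesFiniteLimits (E ⋙ G) := comp_preservesFiniteLimits _ _
  haveI : (E ⋙ G).Additive := inferInstance
  let ι : ModSite.sectOn O U ⟶ 𝟭 (ModSite.Mod O) := ModSite.sectOnι O U
  let η : 𝟭 (ModSite.Mod O) ⟶ E ⋙ G := adj.unit
  have w : ι ≫ η = 0 := by
    apply NatTrans.ext
    funext M
    exact kernel.condition (adj.unit.app M)
  have hex : ∀ (I : ModSite.Mod O), Injective I →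
      (ShortComplex.mk (ι.app I) (η.app I) (by rw [← NatTrans.comp_app, w]; rfl)).ShortExact := by
    intro I hI
    haveI := hI
    have h1 : Mono (ι.app I) := inferInstanceAs (Mono (kernel.ι (adj.unit.app I)))
    have h2 : Epi (η.app I) :=
      Groth.Agent.Lib.helper21.SubTerm.epi_restrPushOverAdj_unit O hU I
    refine ShortComplex.ShortExact.mk' ?_ h1 h2
    exact ShortComplex.exact_of_f_is_kernel _ (kernelIsKernel (adj.unit.app I))
  have hid : ∀ (n : ℕ) (X : ModSite.Mod O),
      IsZero (((𝟭 (ModSite.Mod O)).rightDerived (n + 1)).obj X) := fun n X =>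
    Groth.Agent.Lib.Helper21.DerivedComm.isZero_rightDerived_of_exact _ n X
  refine ⟨?_, ?_⟩
  · refine ⟨(cokernel.mapIso η (NatTrans.rightDerived η 0)
      (asIso (𝟭 (ModSite.Mod O)).toRightDerivedZero)
      (asIso (E ⋙ G).toRightDerivedZero)
      (Groth.Agent.Lib.helper27.FunLES.toRightDerivedZero_naturality η) ≪≫
      Groth.Agent.Lib.helper27.FunLES.cokernelIso ι η w hex (hid 0)).symm⟩
  · intro q hq
    obtain ⟨n, rfl⟩ : ∃ n, q = n + 1 := ⟨q - 1, by omega⟩
    have e1 : (E ⋙ G).rightDerived (n + 1) ≅ ModSite.HZsh O U (n + 2) :=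
      Groth.Agent.Lib.helper27.FunLES.δIso ι η w hex (n + 1) (hid n) (hid (n + 1))
    haveI : PreservesFiniteLimits (ModSite.extZero O U) :=
      Groth.Agent.Lib.Helper21.ExtZeroS.preservesFiniteLimits_extZero O U
    haveI : (ModSite.extZero O U).PreservesMonomorphisms := inferInstance
    obtain ⟨e2⟩ := Groth.Agent.Lib.helper27.DeltaFPre.rightDerived_comp_exact_iso E G (by
      intro I hI k
      haveI := hI
      haveI : Injective (E.obj I) := Injective.injective_of_adjoint (ModSite.extZeroAdj O U) I
      exact G.isZero_rightDerived_obj_injective_succ k (E.obj I)) (n + 1)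
    exact ⟨e1.symm ≪≫ e2⟩

end Groth.Agent.S12890
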