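import Groth.Statements.S12898
import Mathlib
import Groth.Agent.Lib.Helper13.DerAdjL
import Groth.Agent.Lib.Helper13.RKF1
-- import your own Groth.Agent.* helpers here

set_option autoImplicit false
universe u
open CategoryTheory CategoryTheory.Limits
attribute [local instance] HasDerivedCategory.standard
open DRing

namespace Groth.Agent.S12898

/-- Let φ : R → A be a map of commutative rings. The derived base change functor D(R) → D(A), E ↦ E
⊗^L_R A (the total left derived functor of extension of scalars, whose existence is the stated
instance hypothesis, true), is left adjoint to the restriction functor D(A) → D(R). (Existence of an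
adjunction only.) -/
theorem result {R A : Type u} [CommRing R] [CommRing A] (φ : R →+* A)
    [DRing.HasLBaseChange φ] :
    Nonempty (DRing.LBaseChange φ ⊣ DRing.restrictD φ) := by
  obtain ⟨adj, -⟩ := Groth.Agent.Lib.helper13.DerAdjL.nonempty_adjunction_of_adapted
    (ModuleCat.extendRestrictScalarsAdj.{u, u, u} φ)
    (fun K : DRing.Cx R => Groth.Agent.Lib.helper13.KFlat.IsKFlatR K)
    ⟨(HomologicalComplex.zero : DRing.Cx R), HomologicalComplex.isZero_zero, Groth.Agent.Lib.helper13.RKF.isKFlatR_of_isZero _ HomologicalComplex.isZero_zero⟩
    Groth.Agent.Lib.helper13.RKF.isKFlatR_shift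
    (fun f h h' => Groth.Agent.Lib.helper13.RKF.isKFlatR_mappingCone f h h')
    Groth.Agent.Lib.helper13.RKF.exists_res
    (fun f hE hE' hf => Groth.Agent.Lib.helper13.RKF.quasiIso_extendScalars_map φ hE hE' f)
    (DRing.LBaseChange φ)
    ((DRing.baseChangeKh φ).totalLeftDerivedCounit DerivedCategory.Qh
      (HomotopyCategory.quasiIso (ModuleCat.{u} R) (ComplexShape.up ℤ)))
  exact ⟨adj⟩

end Groth.Agent.S12898
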