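import Groth.Statements.S12903
import Groth.Agent.Lib.Helper16.LocPrincipal
import Groth.Agent.Lib.Helper16.FittStrictSheaf3

set_option autoImplicit false
universe u
open CategoryTheory CategoryTheory.Limits AlgebraicGeometry Opposite
open Coherent

namespace Groth.Agent.S12903


open Scheme.Modules Groth.Agent.Lib.helper16.LocPrincipal Groth.Agent.Lib.helper16.FittStrictSheaf
  Groth.Agent.Lib.helper16.QCohAss

theorem mem_range_iff {U X : Scheme.{u}} (j : U ⟶ X) [IsOpenImmersion j]
    (F : X.Modules) (V : X.Opens) (s : Γ(F, V)) :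
    s ∈ Set.range ((((CxOX.gammaZι j).app F).val.app (op V)).hom) ↔
      F.presheaf.map (homOfLE (j.image_preimage_le V)).op s = 0 := by
  constructor
  · rintro ⟨t, rfl⟩
    have h0 : ((restrictAdjunction j).unit.app F).app V
        ((kernel.ι ((restrictAdjunction j).unit.app F)).app V t) = 0 :=
      congrArg (fun φ => (Hom.app φ V) t)
        (kernel.condition ((restrictAdjunction j).unit.app F))
    exact h0
  · intro h
    have h0 : ((restrictAdjunction j).unit.app F).app V s = 0 := h
    obtain ⟨t, ht⟩ := exists_section_kernel _ V s h0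
    exact ⟨t, ht⟩

theorem main {U X : Scheme.{u}} (j : U ⟶ X) [IsOpenImmersion j]
    (F : X.Modules) [F.IsQuasicoherent] (V : X.Opens) (hV : IsAffineOpen V)
    (I : Ideal Γ(X, V)) (hI : I.FG)
    (hZ : ∀ x : X, x ∈ V → (x ∉ Set.range j.base ↔ ∀ f ∈ I, x ∉ X.basicOpen f))
    (s : Γ(F, V)) :
    F.presheaf.map (homOfLE (j.image_preimage_le V)).op s = 0 ↔
      ∃ n : ℕ, ∀ a ∈ I ^ n, a • s = 0 := by
  constructor
  · intro h
    have hrad : I ≤ ((Submodule.span Γ(X, V) {s}).annihilator).radical := by
      intro a ha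
      have hle : X.basicOpen a ≤ j ''ᵁ (j ⁻¹ᵁ V) := by
        intro x hxa
        have hxV : x ∈ V := X.basicOpen_le a hxa
        rw [Scheme.Hom.image_preimage_eq_opensRange_inf]
        refine ⟨?_, hxV⟩
        by_contra hx
        exact (hZ x hxV).mp hx a ha hxa
      have h1 : F.presheaf.map (homOfLE (X.basicOpen_le a)).op s = 0 := by
        have := (congrArg (F.presheaf.map (homOfLE hle).op) h).trans (map_zero _)
        rw [← ConcreteCategory.comp_apply, ← Functor.map_comp] at this
        exact this
      obtain ⟨n, hn⟩ := Groth.Agent.Lib.helper7.exists_pow_smul_eq_zero_of_isAffineOpen hV F a s h1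
      exact ⟨n, (Submodule.mem_annihilator_span_singleton _ _).mpr hn⟩
    obtain ⟨k, hk⟩ := Ideal.exists_pow_le_of_le_radical_of_fg hrad hI
    exact ⟨k, fun a ha => (Submodule.mem_annihilator_span_singleton _ _).mp (hk ha)⟩
  · rintro ⟨n, hn⟩
    apply section_eq_zero_of_germ_eq_zero
    intro x hxW
    have hxW' := hxW
    rw [Scheme.Hom.image_preimage_eq_opensRange_inf] at hxW'
    have hxV : x ∈ V := hxW'.2
    have h1 : ¬ ∀ f ∈ I, x ∉ X.basicOpen f := fun h => (hZ x hxV).mpr h hxW'.1
    push Not at h1
    obtain ⟨a, ha, hxa⟩ := h1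
    have h2 := hn _ (Ideal.pow_mem_pow ha n)
    have hg := congrArg (F.presheaf.germ V x hxV).hom h2
    rw [germ_smul', map_zero, map_pow] at hg
    have hu : IsUnit ((X.presheaf.germ V x hxV).hom a) := isUnit_germ_of_mem_basicOpen x hxV a hxa
    have h3 := (hu.pow n).smul_eq_zero.mp hg
    rw [TopCat.Presheaf.germ_res_apply]
    exact h3



/-- Let X be a scheme, j : U → X a quasi-compact open immersion with closed complement Z, F a
quasi-coherent O_X-module, V an affine open of X and I a finitely generated ideal of Γ(V, O_X)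
cutting out Z ∩ V (a point of V lies outside U if and only if it lies in no basic open X_f with f ∈
I). Then a section s of F over V belongs to the subsheaf Γ_Z(F) of sections supported in Z (the
kernel of F → j_*(F|_U)) if and only if I^n s = 0 for some n. -/
theorem result {U X : Scheme.{u}} (j : U ⟶ X) [IsOpenImmersion j] [QuasiCompact j]
    (F : X.Modules) (hF : Coh.IsQCoh F) (V : X.Opens) (hV : IsAffineOpen V)
    (I : Ideal (X.ringCatSheaf.obj.obj (op V))) (hI : I.FG)
    (hZ : ∀ x : X, x ∈ V → (x ∉ Set.range j.base ↔ ∀ f ∈ I, x ∉ X.basicOpen (f : Γ(X, V))))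
    (s : F.val.obj (op V)) :
    s ∈ Set.range ((((CxOX.gammaZι j).app F).val.app (op V)).hom) ↔ ∃ n : ℕ, ∀ a ∈ I ^ n, a • s = 0 := by
  haveI : F.IsQuasicoherent := hF
  exact (mem_range_iff j F V s).trans (main j F V hV I hI hZ s)

end Groth.Agent.S12903
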