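import Groth.Statements.S2329
import Groth.Agent.Lib.Helper11.SerreGG
import Groth.Agent.Lib.Helper12.GlobGen
import Groth.Agent.Lib.Helper12.AmpleQAff

set_option autoImplicit false
universe u
open CategoryTheory CategoryTheory.Limits AlgebraicGeometry
open EGA2

namespace Groth.Agent.S2329


open Opposite TopologicalSpace MonoidalCategory
open Groth.Agent.Lib.helper11.SerreGG Groth.Agent.Lib.helper12.TensorInv
open Groth.Agent.Lib.helper12.AmpleBasis Groth.Agent.Lib.helper12.AmplePow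
open Groth.Agent.Lib.helper12.AmpleQAff Groth.Agent.Lib.helper12.GlobGen
open Groth.Agent.Lib.helper12.TensorPowAdd

theorem isGloballyGenerated_of_iso {X : Scheme.{u}} {M N : X.Modules} (e : M ≅ N)
    (h : Curv2.IsGloballyGenerated M) : Curv2.IsGloballyGenerated N := by
  obtain ⟨ι, p, hp⟩ := h
  exact ⟨ι, p ≫ e.hom, epi_comp _ _⟩

theorem isCoh_of_isInvertible {X : Scheme.{u}} {L : X.Modules} (hL : PicF.IsInvertible L) :
    Coh.IsCoh L :=
  ⟨isQuasicoherent_of_isInvertible hL,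
    Groth.Agent.Lib.helper16.FLF.isFiniteType_of_isFinLocFree _
      (Groth.Agent.Lib.helper16.FLF.isFinLocFree_of_isInvertible hL)⟩

theorem main (X : Scheme.{u}) [CompactSpace X] [X.IsSeparated] (L L' : X.Modules)
    (hL : CohB1.IsAmple L) (hL' : PicF.IsInvertible L') :
    ∃ n₀ : ℕ, 0 < n₀ ∧ ∀ n, n₀ ≤ n →
      CohB1.IsAmple (CohB1.tensorMod (CohB1.tensorPow L n) L') ∧
        Curv2.IsGloballyGenerated (CohB1.tensorMod (CohB1.tensorPow L n) L') := by
  have hqs : QuasiSeparatedSpace X := inferInstance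
  obtain ⟨n₁, h₁⟩ := exists_isGloballyGenerated_twist hL L' (isCoh_of_isInvertible hL')
  have hgg : ∀ n, n₁ ≤ n →
      Curv2.IsGloballyGenerated (CohB1.tensorMod (CohB1.tensorPow L n) L') := fun n hn =>
    isGloballyGenerated_of_iso (Groth.Agent.Lib.Lead.ModTensor.braid _ _) (h₁ n hn)
  refine ⟨n₁ + 1, Nat.succ_pos _, fun n hn => ⟨?_, hgg n (by omega)⟩⟩
  obtain ⟨j, rfl⟩ : ∃ j, n = (j + 1) + n₁ := ⟨n - n₁ - 1, by omega⟩
  have hM : PicF.IsInvertible (CohB1.tensorMod (CohB1.tensorPow L n₁) L') :=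
    isInvertible_tensorMod (isInvertible_tensorPow hL.1 n₁) hL'
  have hpg := pg_of_isGloballyGenerated hM (hgg n₁ le_rfl)
  have hLk : CohB1.IsAmple (CohB1.tensorPow L (j + 1)) :=
    (isAmple_tensorPow_iff hL.1 (j + 1) (Nat.succ_pos j)).mp hL
  have hamp := isAmple_tensorMod_of_cover hLk hM fun x => by
    obtain ⟨t, ht⟩ := hpg x
    exact ⟨0, SecTwist.powHom t 1, by rw [genLocus_powHom hM t 0]; exact ht⟩
  exact isAmple_of_iso ((assocMod _ _ _).symm ≪≫
    PicGrp.tensorModIso (tensorPowAdd L (j + 1) n₁) (Iso.refl L')) hamp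


/-- Let X be a quasi-compact separated scheme, L an ample invertible module and L' an invertible module.
Then there is n₀ > 0 such that L^{⊗n} ⊗ L' is ample and globally generated for every n ≥ n₀. -/
theorem result (X : Scheme.{u}) [CompactSpace X] [X.IsSeparated] (L L' : X.Modules) (hL : CohB1.IsAmple L) (hL' : PicF.IsInvertible L') :
    ∃ n₀ : ℕ, 0 < n₀ ∧ ∀ n, n₀ ≤ n →
      CohB1.IsAmple (CohB1.tensorMod (CohB1.tensorPow L n) L') ∧ Curv2.IsGloballyGenerated (CohB1.tensorMod (CohB1.tensorPow L n) L') := by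
  exact main X L L' hL hL'

end Groth.Agent.S2329
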