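import Groth.Statements.S12905
import Groth.Agent.S0047
import Groth.Agent.S2329
import Groth.Agent.Lib.Helper20.TwistEquivPn
import Groth.Agent.Lib.Helper20.DimZeroClosed
import Groth.Agent.Lib.Helper7.CohKer
import Groth.Agent.Lib.Helper2.TensorSupp
import Groth.Agent.Lib.Helper8.DevMaster
import Groth.Agent.Lib.Helper19.ProjSpaceProper

set_option autoImplicit false
universe u
open CategoryTheory CategoryTheory.Limits AlgebraicGeometry
open Variety

namespace Groth.Agent.S12905

/-- Let k be a field and φ : F' → F a monomorphism of coherent modules on P^n_k whose cokernel has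
support of Krull dimension at most zero (a finite set of closed points, possibly empty). If F' is
m-regular then F is m-regular. (The published statement is the case of an ideal sheaf contained in
the ideal sheaf of a curve with quotient supported at finitely many points, phrased as an inequality
of regularities; the argument gives the form stated here.) -/
theorem result (k : Type u) [Field k] (n : ℕ)
    (F' F : (CohB1.ProjSpace n k).Modules) (hF' : Coh.IsCoh F') (hF : Coh.IsCoh F) (φ : F' ⟶ F) [Mono φ]
    (hsupp : topologicalKrullDim (CohB1.support (cokernel φ)) ≤ 0) (m : ℤ)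
    (h : Curv2.IsMRegular k n F' m) : Curv2.IsMRegular k n F m := by
  intro i hi1 hin
  have hS : (ShortComplex.mk φ (cokernel.π φ) (cokernel.condition φ)).ShortExact :=
    ShortComplex.ShortExact.mk' (ShortComplex.exact_cokernel φ) inferInstance inferInstance
  have hT := Groth.Agent.Lib.Helper20.TwistEquivPn.shortExact_twistSC n k (m - i) hS
  refine Groth.Agent.Lib.Helper18.HH.subsingleton_X₂ hT i (h i hi1 hin) ?_
  -- `H^i(Q ⊗ O(m - i)) = 0` since the support is zero-dimensional
  have hLN : IsLocallyNoetherian (CohB1.ProjSpace n k) :=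
    LocallyOfFiniteType.isLocallyNoetherian (CohB1.ProjSpace.toSpec n k)
  have hQ : Coh.IsCoh (cokernel φ) := Groth.Agent.Lib.helper7.CohKer.isCoh_cokernel hF' hF φ
  have hO : Coh.IsCoh (Twist.twistProjSpace n k (m - i)) :=
    Groth.Agent.S2329.isCoh_of_isInvertible (Groth.Agent.Lib.helper28.TwistPn.isInvertible n k (m - i))
  have hQq : (cokernel φ).IsQuasicoherent := hQ.1
  have hOq : (Twist.twistProjSpace n k (m - i)).IsQuasicoherent := hO.1
  have hQd : Coh.IsCoh (CohB1.tensorMod (cokernel φ) (Twist.twistProjSpace n k (m - i))) :=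
    ⟨Groth.Agent.Lib.helper2.TensorQCoh.isQuasicoherent_tensorMod _ _,
      Groth.Agent.Lib.helper2.TensorQCoh.isFiniteType_tensorMod _ _ hQ.2 hO.2⟩
  refine Groth.Agent.S0047.result _ _ hQd ?_ i (by omega)
  intro x hx
  rw [Groth.Agent.Lib.helper2.TensorSupp.support_tensorMod _ _ hQ.2 hO.2] at hx
  exact Groth.Agent.Lib.Helper20.DimZeroClosed.isClosed_singleton_of_dim_le_zero
    (CohB1.support (cokernel φ)) (Groth.Agent.Lib.helper8.Dev.isClosed_support_of_isCoh _ hQ)
    hsupp x hx.1

end Groth.Agent.S12905
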