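import Groth.Statements.S12910
import Groth.Agent.Lib.Helper20.GLP

set_option autoImplicit false
universe u
open CategoryTheory CategoryTheory.Limits AlgebraicGeometry
open Variety

namespace Groth.Agent.S12910

/-- Let k be a field, d an integer, and E a bounded chain complex ⋯ → E_2 → E_1 → E_0 of coherent
modules on P^n_k (E_s = 0 for s large) such that E_s is (d + s)-regular for every s and, for every i
> 0, the homology sheaf H_i(E) has support of Krull dimension at most 1. Then the cokernel of E_1 →
E_0 is d-regular and the image of E_1 → E_0 is (d + 1)-regular. -/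
theorem result (k : Type u) [Field k] (n : ℕ)
    (E : ChainComplex ((CohB1.ProjSpace n k).Modules) ℕ) (t : ℕ) (hbdd : ∀ s : ℕ, t < s → IsZero (E.X s))
    (hcoh : ∀ s : ℕ, Coh.IsCoh (E.X s)) (d : ℤ)
    (hreg : ∀ s : ℕ, Curv2.IsMRegular k n (E.X s) (d + s))
    (hsupp : ∀ i : ℕ, 0 < i → topologicalKrullDim (CohB1.support (E.homology i)) ≤ 1) :
    Curv2.IsMRegular k n (cokernel (E.d 1 0)) d ∧
      Curv2.IsMRegular k n (Abelian.image (E.d 1 0)) (d + 1) := by
  have key := Groth.Agent.Lib.helper20.GLP.image_vanish E t hbdd hcoh d hreg hsupp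
  constructor
  · intro j hj1 _
    have hT := Groth.Agent.Lib.Helper20.TwistEquivPn.shortExact_twistSC n k (d - j)
      (Groth.Agent.Lib.helper20.GLP.shortExact_image_cokernel (E.d 1 0))
    refine Groth.Agent.Lib.Helper18.HH.subsingleton_X₃ hT j ?_ ?_
    · have h := Groth.Agent.Lib.helper20.CMReg.vanish_of_regular (hcoh 0) (hreg 0)
        (d + ((0 : ℕ) : ℤ)) le_rfl j hj1
      have e : d + ((0 : ℕ) : ℤ) - j = d - j := by push_cast; ring
      rw [e] at h
      exact h
    · exact key 0 (j + 1) (by omega) (d - j) (by push_cast; ring)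
  · intro j hj1 _
    exact key 0 j hj1 (d + 1 - j) (by push_cast; ring)

end Groth.Agent.S12910
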