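import Groth.Statements.S12915
import Mathlib

set_option autoImplicit false
universe u
open CAlgX

namespace Groth.Agent.S12915

attribute [local instance] MvPolynomial.gradedAlgebra

theorem finrank_hom (k : Type u) [Field k] (r t : ℕ) :
    Module.finrank k (MvPolynomial.homogeneousSubmodule (Fin (r + 1)) k t) =
      Nat.choose (t + r) r := by
  classical
  have hspan : MvPolynomial.homogeneousSubmodule (Fin (r + 1)) k t =
      Submodule.span k (Set.range (fun d : {d : Fin (r + 1) →₀ ℕ // d.degree = t} =>
        MvPolynomial.monomial d.1 (1 : k))) := by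
    apply le_antisymm
    · intro p hp
      rw [MvPolynomial.mem_homogeneousSubmodule] at hp
      rw [p.as_sum]
      apply Submodule.sum_mem
      intro d hd
      have hdeg : d.degree = t := by
        by_contra hcon
        exact (MvPolynomial.mem_support_iff.mp hd) (hp.coeff_eq_zero hcon)
      have h1 : MvPolynomial.monomial d (MvPolynomial.coeff d p) =
          (MvPolynomial.coeff d p) • MvPolynomial.monomial d (1 : k) := by
        rw [MvPolynomial.smul_monomial, smul_eq_mul, mul_one]
      rw [h1]
      exact Submodule.smul_mem _ _ (Submodule.subset_span ⟨⟨d, hdeg⟩, rfl⟩)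
    · rw [Submodule.span_le]
      rintro _ ⟨d, rfl⟩
      exact (MvPolynomial.mem_homogeneousSubmodule _ _).mpr
        (MvPolynomial.isHomogeneous_monomial _ d.2)
  have hli : LinearIndependent k (fun d : {d : Fin (r + 1) →₀ ℕ // d.degree = t} =>
        MvPolynomial.monomial d.1 (1 : k)) := by
    have h := (MvPolynomial.basisMonomials (Fin (r + 1)) k).linearIndependent.comp
      (Subtype.val : {d : Fin (r + 1) →₀ ℕ // d.degree = t} → _) Subtype.val_injective
    rw [MvPolynomial.coe_basisMonomials] at h
    exact h
  have hmem : ∀ d : Fin (r + 1) →₀ ℕ,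
      d ∈ (Finset.univ : Finset (Fin (r + 1))).finsuppAntidiag t ↔ d.degree = t := by
    intro d
    rw [Finset.mem_finsuppAntidiag, Finsupp.degree_eq_sum]
    exact ⟨fun h => h.1, fun h => ⟨h, Finset.subset_univ _⟩⟩
  haveI : Fintype {d : Fin (r + 1) →₀ ℕ // d.degree = t} := Fintype.subtype _ hmem
  rw [hspan, finrank_span_eq_card hli, Fintype.card_of_subtype _ hmem,
    Finset.card_finsuppAntidiag_nat_eq_choose, Finset.card_univ, Fintype.card_fin]
  have h2 : r + 1 + t - 1 = t + r := by omega
  rw [h2, Nat.choose_symm_add]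

theorem main (k : Type u) [Field k] (r m : ℕ)
    (f : MvPolynomial (Fin (r + 1)) k) (hf : f.IsHomogeneous m) (hf0 : f ≠ 0) (j : ℕ) :
    Module.finrank k
        (Submodule.map ((Ideal.Quotient.mkₐ k (Ideal.span {f})).toLinearMap)
          (MvPolynomial.homogeneousSubmodule (Fin (r + 1)) k (m + j))) =
      Nat.choose (m + j + r) r - Nat.choose (m + j + r - m) r := by
  classical
  obtain ⟨π, hπ⟩ : ∃ π : MvPolynomial (Fin (r + 1)) k →ₗ[k]
      (MvPolynomial (Fin (r + 1)) k ⧸ Ideal.span {f}),
      π = (Ideal.Quotient.mkₐ k (Ideal.span {f})).toLinearMap := ⟨_, rfl⟩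
  rw [← hπ]
  have hπz : ∀ x, π x = 0 ↔ x ∈ Ideal.span {f} := by
    intro x; rw [hπ]; exact Ideal.Quotient.eq_zero_iff_mem
  haveI hfin : Module.Finite k (MvPolynomial.homogeneousSubmodule (Fin (r + 1)) k (m + j)) :=
    Module.Finite.iff_fg.mpr (MvPolynomial.homogeneousSubmodule_fg _ _ _)
  obtain ⟨ψ, hψ⟩ : ∃ ψ, ψ =
      π.domRestrict (MvPolynomial.homogeneousSubmodule (Fin (r + 1)) k (m + j)) := ⟨_, rfl⟩
  have hmapmem : ∀ c : MvPolynomial.homogeneousSubmodule (Fin (r + 1)) k j,
      ((LinearMap.mulLeft k f).comp (Submodule.subtype _)) c ∈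
        MvPolynomial.homogeneousSubmodule (Fin (r + 1)) k (m + j) := by
    intro c
    have hc : (c.1).IsHomogeneous j := c.2
    show (f * c.1).IsHomogeneous (m + j)
    exact hf.mul hc
  obtain ⟨φ, hφ⟩ : ∃ φ, φ = LinearMap.codRestrict
      (MvPolynomial.homogeneousSubmodule (Fin (r + 1)) k (m + j))
      ((LinearMap.mulLeft k f).comp
        (Submodule.subtype (MvPolynomial.homogeneousSubmodule (Fin (r + 1)) k j)))
      hmapmem := ⟨_, rfl⟩
  have hφv : ∀ c, ((φ c : MvPolynomial.homogeneousSubmodule (Fin (r + 1)) k (m + j)) :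
      MvPolynomial (Fin (r + 1)) k) = f * c.1 := by
    intro c; rw [hφ]; rfl
  have hφinj : Function.Injective φ := by
    intro a b hab
    apply Subtype.ext
    have h2 := congrArg Subtype.val hab
    rw [hφv a, hφv b] at h2
    exact mul_left_cancel₀ hf0 h2
  have hex : LinearMap.ker ψ = LinearMap.range φ := by
    ext x
    rw [LinearMap.mem_ker, LinearMap.mem_range, hψ, LinearMap.domRestrict_apply, hπz]
    constructor
    · intro hx
      obtain ⟨h, hh⟩ := Ideal.mem_span_singleton'.mp hx
      have hdec := DirectSum.coe_decompose_mul_add_of_left_mem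
        (MvPolynomial.homogeneousSubmodule (Fin (r + 1)) k) (i := m) (j := j) (a := f) (b := h) hf
      refine ⟨DirectSum.decompose (MvPolynomial.homogeneousSubmodule (Fin (r + 1)) k) h j, ?_⟩
      apply Subtype.ext
      rw [hφv, ← hdec, mul_comm f h, hh, DirectSum.decompose_of_mem_same _ x.2]
    · rintro ⟨c, rfl⟩
      rw [hφv]
      exact Ideal.mul_mem_right _ _ (Ideal.mem_span_singleton_self f)
  have h1 := LinearMap.finrank_range_add_finrank_ker ψ
  rw [hex, LinearMap.finrank_range_of_inj hφinj, hψ, LinearMap.range_domRestrict, finrank_hom,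
    finrank_hom] at h1
  have h2 : m + j + r - m = j + r := by omega
  rw [h2]
  omega


/-- Let k be a field, S = k[x_0, …, x_r], and f a nonzero homogeneous polynomial of degree m. For every
t ≥ m the image in S/(f) of the homogeneous polynomials of degree t is a k-vector space of dimension
C(t + r, r) - C(t + r - m, r). (The published clause states that the hypersurface f = 0 in P^r has
degree m; its proof computes exactly this Hilbert function, whose polynomial has leading term m
t^(r-1)/(r-1)!, and that computation is what is stated here.) -/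
theorem result (k : Type u) [Field k] (r m : ℕ)
    (f : MvPolynomial (Fin (r + 1)) k) (hf : f.IsHomogeneous m) (hf0 : f ≠ 0) (t : ℕ) (ht : m ≤ t) :
    Module.finrank k
        (Submodule.map ((Ideal.Quotient.mkₐ k (Ideal.span {f})).toLinearMap)
          (MvPolynomial.homogeneousSubmodule (Fin (r + 1)) k t)) =
      Nat.choose (t + r) r - Nat.choose (t + r - m) r := by
  obtain ⟨j, rfl⟩ := Nat.exists_eq_add_of_le ht
  exact main k r m f hf hf0 j


end Groth.Agent.S12915
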