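import Groth.Statements.S12916
import Groth.Agent.Lib.Helper20.FinLenAss

set_option autoImplicit false
universe u
open CAlgX

namespace Groth.Agent.S12916

/-- a prime ideal of a polynomial ring over a field containing all the variables is maximal -/
lemma isMaximal_of_X_mem {k : Type u} [Field k] {σ : Type*} (P : Ideal (MvPolynomial σ k))
    (hP : P.IsPrime) (hX : ∀ i, (MvPolynomial.X i : MvPolynomial σ k) ∈ P) : P.IsMaximal := by
  have key : ∀ p : MvPolynomial σ k, p - MvPolynomial.C (MvPolynomial.constantCoeff p) ∈ P := by
    intro p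
    induction p using MvPolynomial.induction_on with
    | C a => simp
    | add p q hp hq =>
      have : p + q - MvPolynomial.C (MvPolynomial.constantCoeff (p + q)) =
          (p - MvPolynomial.C (MvPolynomial.constantCoeff p)) +
            (q - MvPolynomial.C (MvPolynomial.constantCoeff q)) := by
        rw [map_add, map_add]; ring
      rw [this]
      exact P.add_mem hp hq
    | mul_X p i _ =>
      have : MvPolynomial.constantCoeff (p * MvPolynomial.X i) = 0 := by simp
      rw [this, map_zero, sub_zero]
      exact P.mul_mem_left _ (hX i)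
  have hker : P = RingHom.ker (MvPolynomial.constantCoeff (R := k) (σ := σ)) := by
    apply le_antisymm
    · intro p hp
      rw [RingHom.mem_ker]
      by_contra hne
      apply hP.ne_top
      rw [Ideal.eq_top_iff_one]
      have h1 : MvPolynomial.C (MvPolynomial.constantCoeff p) ∈ P := by
        have := P.sub_mem hp (key p)
        simpa using this
      have h2 : (MvPolynomial.C (MvPolynomial.constantCoeff p)⁻¹ : MvPolynomial σ k) *
          MvPolynomial.C (MvPolynomial.constantCoeff p) = 1 := by
        rw [← map_mul, inv_mul_cancel₀ hne, map_one]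
      rw [← h2]
      exact P.mul_mem_left _ h1
    · intro p hp
      rw [RingHom.mem_ker] at hp
      have := key p
      rwa [hp, map_zero, sub_zero] at this
  rw [hker]
  exact RingHom.ker_isMaximal_of_surjective _ (fun a => ⟨MvPolynomial.C a, by simp⟩)

/-- Let k be an infinite field, S = k[x_0, …, x_r], M a finitely generated S-module and d a natural
number. Then some nonzero homogeneous polynomial f of degree d is quasi-regular on M: the submodule
(0 :_M f) of elements of M annihilated by f has finite length. (The published statement assumes M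
graded; this row assumes only that M is finitely generated.) -/
theorem result (k : Type u) [Field k] [Infinite k] (r d : ℕ)
    (M : Type u) [AddCommGroup M] [Module (MvPolynomial (Fin (r + 1)) k) M] [Module.Finite (MvPolynomial (Fin (r + 1)) k) M] :
    ∃ f : MvPolynomial (Fin (r + 1)) k, f.IsHomogeneous d ∧ f ≠ 0 ∧
      IsFiniteLength (MvPolynomial (Fin (r + 1)) k) ↥(Submodule.torsionBy (MvPolynomial (Fin (r + 1)) k) M f) := by
  classical
  have hfin : (associatedPrimes (MvPolynomial (Fin (r + 1)) k) M).Finite :=
    associatedPrimes.finite _ M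
  let T : Finset (Ideal (MvPolynomial (Fin (r + 1)) k)) :=
    hfin.toFinset.filter (fun P => ¬ P.IsMaximal)
  let V : Submodule k (MvPolynomial (Fin (r + 1)) k) :=
    MvPolynomial.homogeneousSubmodule (Fin (r + 1)) k d
  let W : Ideal (MvPolynomial (Fin (r + 1)) k) → Submodule k V := fun P =>
    (P.restrictScalars k).comap V.subtype
  let s : Finset (Submodule k V) := insert ⊥ (T.image W)
  have hXd : ∀ i : Fin (r + 1), (MvPolynomial.X i ^ d : MvPolynomial (Fin (r + 1)) k) ∈ V := by
    intro i
    rw [MvPolynomial.mem_homogeneousSubmodule]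
    have := (MvPolynomial.isHomogeneous_X k i).pow d
    rwa [one_mul] at this
  have hs : ⊤ ∉ s := by
    intro htop
    rcases Finset.mem_insert.mp htop with h | h
    · -- `V` is nonzero
      have h1 : (⟨MvPolynomial.X 0 ^ d, hXd 0⟩ : V) ∈ (⊤ : Submodule k V) := trivial
      rw [h, Submodule.mem_bot] at h1
      have h2 : (MvPolynomial.X 0 ^ d : MvPolynomial (Fin (r + 1)) k) = 0 :=
        congrArg Subtype.val h1
      exact pow_ne_zero d (MvPolynomial.X_ne_zero 0) h2
    · obtain ⟨P, hPT, hP⟩ := Finset.mem_image.mp h
      have hPass : P ∈ associatedPrimes (MvPolynomial (Fin (r + 1)) k) M :=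
        hfin.mem_toFinset.mp (Finset.mem_filter.mp hPT).1
      have hPnm : ¬ P.IsMaximal := (Finset.mem_filter.mp hPT).2
      have hPp : P.IsPrime := hPass.isPrime
      apply hPnm
      apply isMaximal_of_X_mem P hPp
      intro i
      have h1 : (⟨MvPolynomial.X i ^ d, hXd i⟩ : V) ∈ W P := by rw [hP]; trivial
      have h2 : (MvPolynomial.X i ^ d : MvPolynomial (Fin (r + 1)) k) ∈ P := h1
      exact hPp.mem_of_pow_mem d h2
  obtain ⟨f, hf⟩ : ∃ f : V, f ∉ ⋃ p ∈ s, (p : Set V) := by
    by_contra hcon
    push Not at hcon
    exact Subspace.biUnion_ne_univ_of_top_notMem hs (Set.eq_univ_of_forall hcon)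
  have hf' : ∀ p ∈ s, f ∉ p := by
    intro p hp hfp
    exact hf (Set.mem_biUnion hp hfp)
  have hfne : f.1 ≠ 0 := by
    intro h0
    apply hf' ⊥ (Finset.mem_insert_self _ _)
    rw [Submodule.mem_bot]
    exact Subtype.ext h0
  refine ⟨f.1, (MvPolynomial.mem_homogeneousSubmodule _ _).mp f.2, hfne, ?_⟩
  apply Groth.Agent.Lib.helper20.FinLenAss.isFiniteLength_of_associatedPrimes_isMaximal
  intro P hP
  -- `P` is an associated prime of `M` containing `f`
  have hPM : P ∈ associatedPrimes (MvPolynomial (Fin (r + 1)) k) M :=
    associatedPrimes.subset_of_injective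
      (f := (Submodule.torsionBy (MvPolynomial (Fin (r + 1)) k) M f.1).subtype)
      (Submodule.subtype_injective _) hP
  by_contra hPnm
  have hPT : P ∈ T := Finset.mem_filter.mpr ⟨hfin.mem_toFinset.mpr hPM, hPnm⟩
  have hfP : f.1 ∉ P := fun hmem =>
    hf' (W P) (Finset.mem_insert_of_mem (Finset.mem_image_of_mem W hPT)) hmem
  apply hfP
  apply hP.annihilator_le
  rw [Submodule.mem_annihilator]
  intro n _
  exact Submodule.smul_torsionBy _ _

end Groth.Agent.S12916
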