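import Groth.Statements.S12918
import Groth.Agent.Lib.Helper22.Integral

set_option autoImplicit false
universe u v w
open HopfRep

namespace Groth.Agent.S12918

/-- Let `k` be a commutative ring, `A` a commutative Hopf algebra over `k`, flat as a `k`-module and `B`
a commutative `k`-algebra with a coaction `ρ : B → B ⊗ A` that is an algebra map (an action of the
affine group scheme `Spec A` on `Spec B`). Then the action admits a total integral — a comodule map
`α : A → B`, for the regular coaction on `A`, with `α 1 = 1` — if and only if `ρ` has a left inverse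
`B ⊗ A → B` which is a comodule map for the coaction `id ⊗ Δ` on `B ⊗ A`. -/
theorem result
    (k : Type u) [CommRing k] (A : Type v) [CommRing A] [HopfAlgebra k A] [Module.Flat k A]
    (B : Type w) [CommRing B] [Algebra k B] [HopfRep.Comod k A B] [GLin.IsCoactAlg k A B] :
    (∃ α : A →ₗ[k] B, Hoch.IsComodHom A α ∧ α 1 = 1) ↔
      ∃ lam : Hoch.Ind k A B →ₗ[k] B, Hoch.IsComodHom A lam ∧ lam ∘ₗ Hoch.toInd k A B = LinearMap.id := by
  constructor
  · rintro ⟨α, hα, hα1⟩
    have : TameAct.IsHopfMod k A B B := ⟨by
      intro b m
      have key : ∀ x y : TensorProduct k B A, TameAct.hmSMul k A B B x y = x * y := by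
        intro x y
        induction x using TensorProduct.induction_on with
        | zero => simp
        | tmul b' a' =>
          induction y using TensorProduct.induction_on with
          | zero => simp
          | tmul b'' a'' => simp
          | add y₁ y₂ h₁ h₂ => simp only [map_add, mul_add, h₁, h₂]
        | add x₁ x₂ h₁ h₂ => simp only [map_add, add_mul, LinearMap.add_apply, h₁, h₂]
      rw [smul_eq_mul, GLin.IsCoactAlg.coact_mul (k := k) (A := A), key]⟩
    refine ⟨(Groth.Agent.Lib.helper22.Integral.lam α : TensorProduct k B A →ₗ[k] B) ∘ₗ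
      (Hoch.Ind.equiv k A B).symm.toLinearMap, ?_, ?_⟩
    · apply LinearMap.ext
      intro x
      exact Groth.Agent.Lib.helper22.Integral.lam_comod α hα x
    · apply LinearMap.ext
      intro b
      have := Groth.Agent.Lib.helper22.Integral.lam_coact (k := k) (A := A) (M := B) α b
      rw [hα1, one_smul] at this
      exact this
  · rintro ⟨lam, hlam, hlam1⟩
    let lam' : TensorProduct k B A →ₗ[k] B := lam ∘ₗ (Hoch.Ind.equiv k A B).toLinearMap
    have hlam' : ∀ x : TensorProduct k B A, HopfRep.Comod.coact (k := k) (A := A) (lam' x) =
        lam'.rTensor A (Hoch.Ind.coactAux k A B x) := fun x => LinearMap.congr_fun hlam x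
    refine ⟨lam' ∘ₗ TensorProduct.mk k B A 1, ?_, ?_⟩
    · apply LinearMap.ext
      intro a
      simp only [LinearMap.comp_apply, TensorProduct.mk_apply]
      rw [hlam', Hoch.Ind.coactAux_tmul]
      have key : ∀ t : TensorProduct k A A,
          lam'.rTensor A ((TensorProduct.assoc k B A A).symm ((1 : B) ⊗ₜ[k] t)) =
          (lam' ∘ₗ TensorProduct.mk k B A 1).rTensor A t := by
        intro t
        induction t using TensorProduct.induction_on with
        | zero => simp
        | tmul a' a'' => simp
        | add t₁ t₂ h₁ h₂ => simp only [map_add, TensorProduct.tmul_add, h₁, h₂]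
      exact key _
    · have h := LinearMap.congr_fun hlam1 (1 : B)
      simp only [LinearMap.comp_apply, Hoch.toInd, LinearEquiv.coe_coe, LinearMap.id_apply] at h
      rw [GLin.IsCoactAlg.coact_one (k := k) (A := A) (R := B), Algebra.TensorProduct.one_def] at h
      exact h

end Groth.Agent.S12918
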