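import Groth.Statements.S12921
import Groth.Agent.Lib.Helper22.IntegralRing

set_option autoImplicit false
universe u v w
open HopfRep

namespace Groth.Agent.S12921

/-- Let `k` be a commutative ring, `A` a commutative Hopf algebra over `k`, flat as a `k`-module, `B` a
commutative `k`-algebra with a coaction of `A` that is an algebra map and admits a total integral (a
comodule map `α : A → B` with `α 1 = 1`), and `C = B^A` the subring of invariants. Then for every
ideal `c` of `C` one has `cB ∩ C = c`. (The published statement assumes only that taking invariants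
is exact on `(B, A)`-modules; a total integral, assumed here, gives that exactness.) -/
theorem result
    (k : Type u) [CommRing k] (A : Type v) [CommRing A] [HopfAlgebra k A] [Module.Flat k A]
    (B : Type w) [CommRing B] [Algebra k B] [HopfRep.Comod k A B] [GLin.IsCoactAlg k A B]
    (htame : ∃ α : A →ₗ[k] B, Hoch.IsComodHom A α ∧ α 1 = 1)
    (c : Ideal (GLin.invariants k A B)) :
    (c.map (algebraMap (GLin.invariants k A B) B)).comap (algebraMap (GLin.invariants k A B) B) = c := by
  obtain ⟨α, hα, hα1⟩ := htame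
  refine le_antisymm ?_ Ideal.le_comap_map
  intro x hx
  rw [Ideal.mem_comap] at hx
  have key : ∀ y ∈ c.map (algebraMap (GLin.invariants k A B) B), ∀ b : B,
      ∃ c₀ ∈ c, Groth.Agent.Lib.helper22.Integral.rey α (b * y) = (c₀ : B) := by
    intro y hy
    induction hy using Submodule.span_induction with
    | mem y hy =>
      obtain ⟨c₀, hc₀, rfl⟩ := hy
      intro b
      refine ⟨c₀ * ⟨Groth.Agent.Lib.helper22.Integral.rey α b,
        Groth.Agent.Lib.helper22.Integral.rey_mem α hα b⟩, c.mul_mem_right _ hc₀, ?_⟩
      rw [mul_comm]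
      exact Groth.Agent.Lib.helper22.Integral.rey_mul α c₀.1 c₀.2 b
    | zero => intro b; exact ⟨0, c.zero_mem, by simp⟩
    | add y z _ _ hy hz =>
      intro b
      obtain ⟨c₁, h₁, e₁⟩ := hy b
      obtain ⟨c₂, h₂, e₂⟩ := hz b
      exact ⟨c₁ + c₂, c.add_mem h₁ h₂, by rw [mul_add, map_add, e₁, e₂]; rfl⟩
    | smul a y _ hy =>
      intro b
      obtain ⟨c₁, h₁, e₁⟩ := hy (b * a)
      exact ⟨c₁, h₁, by rw [smul_eq_mul, ← mul_assoc]; exact e₁⟩
  obtain ⟨c₀, hc₀, e⟩ := key _ hx 1
  rw [one_mul] at e
  have e' : Groth.Agent.Lib.helper22.Integral.rey α (x : B) = x :=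
    Groth.Agent.Lib.helper22.Integral.rey_of_mem α hα1 x.1 x.2
  have : x = c₀ := Subtype.ext (e'.symm.trans e)
  rwa [this]


end Groth.Agent.S12921
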