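import Groth.Statements.S12926
import Mathlib
-- import your own Groth.Agent.* helpers here

set_option autoImplicit false
universe u v
open HopfRep

namespace Groth.Agent.S12926

/-- Let `k` be a commutative ring and `A` a commutative bialgebra over `k`, flat as a `k`-module. If the
submodule `k · 1` of the regular comodule `A` has a complement `H` which is a subcomodule — the case
used when `A` is cosemisimple, i.e. every subcomodule of every comodule is a direct summand as a
comodule — then the trivial action of `Spec A` on `Spec k` is tame: there is a comodule map `α : A →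
k`, for the regular coaction on `A` and the trivial coaction `r ↦ r ⊗ 1` on `k`, with `α 1 = 1`. -/
theorem result
    (k : Type u) [CommRing k] (A : Type v) [CommRing A] [Bialgebra k A] [Module.Flat k A]
    (H : Submodule k A) (hH : HopfRep.IsSubcomod (k := k) (A := A) H)
    (hc : IsCompl (Submodule.span k {(1 : A)}) H) :
    ∃ α : A →ₗ[k] k, @Hoch.IsComodHom k _ A _ _ _ A _ _ _ k _ _ (HopfRep.Comod.trivial k A k) α ∧ α 1 = 1 := by
  let P := Submodule.linearProjOfIsCompl (Submodule.span k {(1 : A)}) H hc
  let α : A →ₗ[k] k := (Coalgebra.counit (R := k) (A := A)) ∘ₗ (Submodule.span k {(1 : A)}).subtype ∘ₗ P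
  have hα1 : α 1 = 1 := by
    have h1 : P 1 = ⟨1, Submodule.mem_span_singleton_self 1⟩ :=
      Submodule.linearProjOfIsCompl_apply_left hc ⟨1, Submodule.mem_span_singleton_self 1⟩
    simp only [α, LinearMap.comp_apply, h1, Submodule.subtype_apply]
    exact Bialgebra.counit_one
  have hαH : α ∘ₗ H.subtype = 0 := by
    apply LinearMap.ext
    intro h
    have h1 : P (h : A) = 0 := (Submodule.linearProjOfIsCompl_apply_eq_zero_iff hc).mpr h.2
    simp [α, h1]
  refine ⟨α, ?_, hα1⟩
  unfold Hoch.IsComodHom
  apply LinearMap.ext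
  intro a
  simp only [LinearMap.comp_apply]
  change (α a) ⊗ₜ[k] (1 : A) = α.rTensor A (CoalgebraStruct.comul (R := k) (A := A) a)
  -- decompose a
  have hdec : a ∈ Submodule.span k {(1 : A)} ⊔ H := by rw [hc.sup_eq_top]; trivial
  obtain ⟨x, hx, h, hh, rfl⟩ := Submodule.mem_sup.mp hdec
  obtain ⟨c, rfl⟩ := Submodule.mem_span_singleton.mp hx
  have e1 : α.rTensor A (CoalgebraStruct.comul (R := k) (A := A) h) = 0 := by
    obtain ⟨y, hy⟩ := hH h hh
    change H.subtype.rTensor A y = CoalgebraStruct.comul (R := k) (A := A) h at hy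
    rw [← hy, ← LinearMap.comp_apply, ← LinearMap.rTensor_comp, hαH, LinearMap.rTensor_zero,
      LinearMap.zero_apply]
  have e2 : α h = 0 := LinearMap.congr_fun hαH ⟨h, hh⟩
  rw [map_add, map_add, map_add, e1, e2, add_zero, add_zero, map_smul, map_smul, map_smul, hα1,
    Bialgebra.comul_one, Algebra.TensorProduct.one_def, LinearMap.rTensor_tmul, hα1,
    TensorProduct.smul_tmul']

end Groth.Agent.S12926
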