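import Groth.Statements.S12928
import Groth.Agent.Lib.Helper22.TameInt

set_option autoImplicit false
universe u
open HopfRep

namespace Groth.Agent.S12928

/-- Let `k` be a commutative ring, `A` a commutative Hopf algebra over `k` which is finite locally free
(finite projective, in particular flat) as a `k`-module, `B` a commutative `k`-algebra with a
coaction of `A` that is an algebra map, and `C = B^A` the ring of invariants; assume `C` Noetherian
and `B` finite and flat over `C`. If taking invariants is exact on `(B, A)`-modules — for
`B`-modules `M`, `N` with compatible `A`-coactions (in the universe of `k`, `A`, `B`) every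
surjective `B`-linear comodule map `M → N` maps `M^A` onto `N^A` — then the action is tame: there is
a comodule map `α : A → B` with `α 1 = 1`. Together with the converse (a total integral makes
invariants exact) this says that tameness of the action is the exactness of invariants. (The
published statement does not assume `B` finite over `C`; its proof uses that finiteness, which is
assumed here.) -/
theorem result
    (k : Type u) [CommRing k] (A : Type u) [CommRing A] [HopfAlgebra k A] [Module.Flat k A]
    [Module.Finite k A] [Module.Projective k A]
    (B : Type u) [CommRing B] [Algebra k B] [HopfRep.Comod k A B] [GLin.IsCoactAlg k A B]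
    [IsNoetherianRing (GLin.invariants k A B)] [Module.Finite (GLin.invariants k A B) B] [Module.Flat (GLin.invariants k A B) B]
    (hexact : ∀ (M N : Type u) [AddCommGroup M] [Module k M] [Module B M] [IsScalarTower k B M]
      [HopfRep.Comod k A M] [TameAct.IsHopfMod k A B M]
      [AddCommGroup N] [Module k N] [Module B N] [IsScalarTower k B N]
      [HopfRep.Comod k A N] [TameAct.IsHopfMod k A B N] (f : M →ₗ[B] N),
      Hoch.IsComodHom A (f.restrictScalars k) → Function.Surjective f →
      ∀ n ∈ HopfRep.fixedPts k A N, ∃ m ∈ HopfRep.fixedPts k A M, f m = n) :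
    ∃ α : A →ₗ[k] B, Hoch.IsComodHom A α ∧ α 1 = 1 := by
  classical
  let cM : HopfRep.Comod k A (TensorProduct k B (Module.Dual k A)) := Groth.Agent.Lib.helper22.R.homAB k A B
  have hM : TameAct.IsHopfMod k A B (TensorProduct k B (Module.Dual k A)) :=
    Groth.Agent.Lib.helper22.R.isHopfMod_homAB
  have hN : TameAct.IsHopfMod k A B B := Groth.Agent.Lib.helper22.R.isHopfMod_self
  have h1 : (1 : B) ∈ HopfRep.fixedPts k A B := by
    change HopfRep.Comod.coact (k := k) (A := A) (1 : B) = TensorProduct.tmul k (1 : B) (1 : A)
    rw [GLin.IsCoactAlg.coact_one (k := k) (A := A) (R := B), Algebra.TensorProduct.one_def]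
  obtain ⟨m, hm, hfm⟩ := hexact (TensorProduct k B (Module.Dual k A)) B (Groth.Agent.Lib.helper22.R.ev1 k A B)
    Groth.Agent.Lib.helper22.R.isComodHom_ev1 Groth.Agent.Lib.helper22.R.ev1_surjective 1 h1
  refine ⟨Groth.Agent.Lib.helper22.R.toHom m, ?_, ?_⟩
  · have hinj' : Function.Injective (dualTensorHom k A (TensorProduct k B A)) :=
      (dualTensorHom_bijective (R := k) (M := A) (N := TensorProduct k B A)).1
    exact (Groth.Agent.Lib.helper22.R.mem_fixedPts_tensor_dual_iff (HopfRep.Comod.regular k A)
      inferInstance (Groth.Agent.Lib.helper22.R.dualComod (HopfRep.Comod.regular k A))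
      (Groth.Agent.Lib.helper22.R.isDual_dualComod _)
      (Groth.Agent.Lib.helper22.R.eq_zero_of_evAt_rTensor_eq_zero (A := A) hinj') m).mp hm
  · rw [Groth.Agent.Lib.helper22.R.toHom_apply]
    exact hfm

end Groth.Agent.S12928
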