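import Groth.Statements.S12929
import Mathlib
-- import your own Groth.Agent.* helpers here

set_option autoImplicit false
universe u v w w'
open HopfRep

namespace Groth.Agent.S12929

open scoped TensorProduct

section
variable (k : Type u) [CommRing k] (A : Type v) [CommRing A] [HopfAlgebra k A]
  (M : Type w) [AddCommGroup M] [Module k M] [HopfRep.Comod k A M]
  (N : Type w') [AddCommGroup N] [Module k N]

/-- naturality: `(id_N ⊗ Δ) ∘ (h ⊗ id) = (h ⊗ id) ∘ (id_M ⊗ Δ)`, then reassociate -/
theorem coactAux_rTensor (h : M →ₗ[k] N) (x : M ⊗[k] A) :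
    Hoch.Ind.coactAux k A N (h.rTensor A x) =
      (h.rTensor A).rTensor A ((TensorProduct.assoc k M A A).symm
        ((CoalgebraStruct.comul (R := k) (A := A)).lTensor M x)) := by
  induction x using TensorProduct.induction_on with
  | zero => simp
  | tmul m a =>
    simp only [LinearMap.rTensor_tmul, Hoch.Ind.coactAux_tmul, LinearMap.lTensor_tmul]
    induction (CoalgebraStruct.comul (R := k) (A := A) a) using TensorProduct.induction_on with
    | zero => simp
    | tmul y z => simp
    | add y z hy hz => simp only [TensorProduct.tmul_add, map_add, hy, hz]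
  | add y z hy hz => simp only [map_add, hy, hz]

theorem counit_coactAux (y : N ⊗[k] A) :
    ((TensorProduct.rid k N).toLinearMap ∘ₗ (Coalgebra.counit (R := k) (A := A)).lTensor N).rTensor A
      (Hoch.Ind.coactAux k A N y) = y := by
  induction y using TensorProduct.induction_on with
  | zero => simp
  | tmul n a =>
    rw [Hoch.Ind.coactAux_tmul]
    have h := Coalgebra.rTensor_counit_comul (R := k) a
    have key : ∀ z : A ⊗[k] A,
        ((TensorProduct.rid k N).toLinearMap ∘ₗ (Coalgebra.counit (R := k) (A := A)).lTensor N).rTensor A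
          ((TensorProduct.assoc k N A A).symm (n ⊗ₜ[k] z)) =
        n ⊗ₜ[k] (TensorProduct.lid k A) ((Coalgebra.counit (R := k) (A := A)).rTensor A z) := by
      intro z
      induction z using TensorProduct.induction_on with
      | zero => simp
      | tmul y z => simp [TensorProduct.smul_tmul]
      | add y z hy hz => simp only [TensorProduct.tmul_add, map_add, hy, hz]
    rw [key, h]
    simp
  | add y z hy hz => simp only [map_add, hy, hz]

end


/-- Let `k` be a commutative ring, `A` a commutative Hopf algebra over `k`, `M` a right `A`-comodule and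
`N` a `k`-module; give `N ⊗ A` the coaction `id ⊗ Δ`. Then for every `k`-linear map `h : M → N` the
composite `(h ⊗ id_A) ∘ ρ_M : M → N ⊗ A` is a comodule map, and every comodule map `f : M → N ⊗ A`
is of this form for exactly one `h` (which is `(id_N ⊗ ε) ∘ f`): comodule maps `M → N ⊗ A`
correspond bijectively to linear maps `M → N`. -/
theorem result
    (k : Type u) [CommRing k] (A : Type v) [CommRing A] [HopfAlgebra k A]
    (M : Type w) [AddCommGroup M] [Module k M] [HopfRep.Comod k A M]
    (N : Type w') [AddCommGroup N] [Module k N] :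
    (∀ h : M →ₗ[k] N, Hoch.IsComodHom A
        ((Hoch.Ind.equiv k A N).toLinearMap ∘ₗ h.rTensor A ∘ₗ HopfRep.Comod.coact (k := k) (A := A))) ∧
      ∀ f : M →ₗ[k] Hoch.Ind k A N, Hoch.IsComodHom A f →
        ∃! h : M →ₗ[k] N,
          f = (Hoch.Ind.equiv k A N).toLinearMap ∘ₗ h.rTensor A ∘ₗ HopfRep.Comod.coact (k := k) (A := A) := by
  have hco := HopfRep.Comod.coassoc (k := k) (A := A) (V := M)
  have hcu := HopfRep.Comod.counit_comp (k := k) (A := A) (V := M)
  have hco' : ∀ m : M, (TensorProduct.assoc k M A A).symm
      ((CoalgebraStruct.comul (R := k) (A := A)).lTensor M (HopfRep.Comod.coact (k := k) (A := A) m)) =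
      (HopfRep.Comod.coact (k := k) (A := A) (V := M)).rTensor A (HopfRep.Comod.coact (k := k) (A := A) m) := by
    intro m
    have := LinearMap.congr_fun hco m
    simp only [LinearMap.comp_apply, LinearEquiv.coe_coe] at this
    rw [← this, LinearEquiv.symm_apply_apply]
  have hcu' : ∀ m : M, (TensorProduct.rid k M)
      ((CoalgebraStruct.counit (R := k) (A := A)).lTensor M (HopfRep.Comod.coact (k := k) (A := A) m)) = m := by
    intro m
    have := LinearMap.congr_fun hcu m
    simp only [LinearMap.comp_apply] at this
    rw [this]; simp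
  have part1 : ∀ h : M →ₗ[k] N, Hoch.IsComodHom A
      ((Hoch.Ind.equiv k A N).toLinearMap ∘ₗ h.rTensor A ∘ₗ HopfRep.Comod.coact (k := k) (A := A)) := by
    intro h
    unfold Hoch.IsComodHom
    apply LinearMap.ext
    intro m
    change Hoch.Ind.coactAux k A N (h.rTensor A (HopfRep.Comod.coact (k := k) (A := A) m)) =
      (h.rTensor A ∘ₗ HopfRep.Comod.coact (k := k) (A := A)).rTensor A (HopfRep.Comod.coact (k := k) (A := A) m)
    rw [coactAux_rTensor, hco', LinearMap.rTensor_comp, LinearMap.comp_apply]
  refine ⟨part1, ?_⟩
  intro f hf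
  have hnat : ∀ (h' : M →ₗ[k] N) (x : M ⊗[k] A),
      (TensorProduct.rid k N) ((CoalgebraStruct.counit (R := k) (A := A)).lTensor N (h'.rTensor A x)) =
      h' ((TensorProduct.rid k M) ((CoalgebraStruct.counit (R := k) (A := A)).lTensor M x)) := by
    intro h' x
    induction x using TensorProduct.induction_on with
    | zero => simp
    | tmul m a => simp
    | add y z hy hz => simp only [map_add, hy, hz]
  let f' : M →ₗ[k] N ⊗[k] A := f
  have hf' : ∀ m : M, Hoch.Ind.coactAux k A N (f' m) =
      f'.rTensor A (HopfRep.Comod.coact (k := k) (A := A) m) := by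
    intro m
    have := LinearMap.congr_fun hf m
    exact this
  refine ⟨(TensorProduct.rid k N).toLinearMap ∘ₗ (Coalgebra.counit (R := k) (A := A)).lTensor N ∘ₗ f', ?_, ?_⟩
  · apply LinearMap.ext
    intro m
    change f' m = ((TensorProduct.rid k N).toLinearMap ∘ₗ
      (Coalgebra.counit (R := k) (A := A)).lTensor N ∘ₗ f').rTensor A (HopfRep.Comod.coact (k := k) (A := A) m)
    rw [← LinearMap.comp_assoc, LinearMap.rTensor_comp, LinearMap.comp_apply, ← hf', counit_coactAux]
  · intro h' hh'
    apply LinearMap.ext
    intro m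
    have h1 : f' m = h'.rTensor A (HopfRep.Comod.coact (k := k) (A := A) m) := by
      have := LinearMap.congr_fun hh' m
      exact this
    simp only [LinearMap.comp_apply, LinearEquiv.coe_coe]
    rw [h1, hnat, hcu']

end Groth.Agent.S12929
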