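import Groth.Statements.S12932
import Mathlib

set_option autoImplicit false
universe u v
open scoped BigOperators
open InvTh

namespace Groth.Agent.S12932

open scoped Pointwise in
/-- sum of a right-`I`-invariant function is a multiple of `|I|`. -/
lemma sum_eq_card_mul {Γ : Type v} [Group Γ] [Fintype Γ] {M : Type*} [AddCommMonoid M]
    (I : Subgroup Γ) (F : Γ → M)
    (hF : ∀ γ : Γ, ∀ ι ∈ I, F (γ * ι) = F γ) :
    ∃ m : M, ∑ γ, F γ = Nat.card I • m := by
  classical
  let _ : Fintype (Γ ⧸ I) := Fintype.ofFinite _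
  let _ : Fintype I := Fintype.ofFinite _
  refine ⟨∑ q : Γ ⧸ I, F q.out, ?_⟩
  have hbij : Function.Bijective (fun p : (Γ ⧸ I) × I => p.1.out * (p.2 : Γ)) := by
    constructor
    · rintro ⟨q, ι⟩ ⟨q', ι'⟩ h
      simp only at h
      have h1 : q = q' := by
        have := congr((QuotientGroup.mk $h : Γ ⧸ I))
        simpa [QuotientGroup.mk_mul_of_mem _ ι.2, QuotientGroup.mk_mul_of_mem _ ι'.2] using this
      subst h1
      have : (ι : Γ) = ι' := mul_left_cancel h
      simp [Subtype.ext_iff, this]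
    · intro γ
      refine ⟨((γ : Γ ⧸ I), ⟨(γ : Γ ⧸ I).out⁻¹ * γ, ?_⟩), ?_⟩
      · rw [← QuotientGroup.eq]; exact QuotientGroup.out_eq' _
      · simp
  rw [← Fintype.sum_bijective _ hbij (fun p => F p.1.out) F (fun p => (hF _ _ p.2.2).symm),
    Fintype.sum_prod_type]
  simp only [Finset.sum_const, Finset.card_univ, Finset.smul_sum, Nat.card_eq_fintype_card]

open scoped Pointwise in
/-- the hard direction: if all primes are tame then the trace hits `1`. -/
lemma exists_trace_eq_one (B : Type u) [CommRing B] (Γ : Type v) [Group Γ] [Fintype Γ]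
    [MulSemiringAction Γ B]
    (h : ∀ P : Ideal B, P.IsPrime → ((Nat.card (P.inertia Γ) : ℕ) : B ⧸ P) ≠ 0) :
    ∃ b : B, ∑ γ : Γ, γ • b = 1 := by
  classical
  -- the invariant subring
  let A := FixedPoints.subring B Γ
  have hinv : Algebra.IsInvariant A B Γ := ⟨fun b hb => ⟨⟨b, hb⟩, rfl⟩⟩
  have hint : Algebra.IsIntegral A B := Algebra.IsInvariant.isIntegral A B Γ
  -- the trace as a map to A
  have htr_mem : ∀ b : B, ∑ γ : Γ, γ • b ∈ A := by
    intro b g
    rw [Finset.smul_sum]
    exact Fintype.sum_equiv (Equiv.mulLeft g) _ _ (fun γ => by simp [mul_smul])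
  -- the ideal of traces
  let J : Ideal A :=
    { carrier := {a | ∃ b : B, ∑ γ : Γ, γ • b = (a : B)}
      add_mem' := by
        rintro a a' ⟨b, hb⟩ ⟨b', hb'⟩
        exact ⟨b + b', by simp [smul_add, Finset.sum_add_distrib, hb, hb']⟩
      zero_mem' := ⟨0, by simp⟩
      smul_mem' := by
        rintro c a ⟨b, hb⟩
        refine ⟨(c : B) * b, ?_⟩
        have : ∀ γ : Γ, γ • ((c : B) * b) = (c : B) * γ • b := fun γ => by
          rw [smul_mul', c.2 γ]
        simp only [this, ← Finset.mul_sum, hb]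
        rfl }
  by_cases hJ : J = ⊤
  · have h1 : (1 : A) ∈ J := hJ ▸ Submodule.mem_top
    obtain ⟨b, hb⟩ := h1
    exact ⟨b, hb⟩
  · exfalso
    obtain ⟨𝔭, h𝔭max, hJ𝔭⟩ := Ideal.exists_le_maximal J hJ
    have hker : RingHom.ker (algebraMap A B) ≤ 𝔭 := by
      intro a ha
      have : a = 0 := Subtype.ext (by simpa using ha)
      rw [this]; exact 𝔭.zero_mem
    obtain ⟨P, hPmax, hP𝔭⟩ := Ideal.exists_ideal_over_maximal_of_isIntegral 𝔭 hker
    have hPprime : P.IsPrime := hPmax.isPrime
    -- all traces lie in P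
    have htrP : ∀ b : B, ∑ γ : Γ, γ • b ∈ P := by
      intro b
      have h1 : (⟨∑ γ : Γ, γ • b, htr_mem b⟩ : A) ∈ J := ⟨b, rfl⟩
      have h2 := hJ𝔭 h1
      rw [← hP𝔭] at h2
      exact h2
    -- the field B/P
    letI : Field (B ⧸ P) := Ideal.Quotient.field P
    -- action of the stabilizer on B/P
    let D : Subgroup Γ := MulAction.stabilizer Γ P
    have hDmem : ∀ γ : Γ, γ ∈ D → ∀ x : B, x ∈ P → γ • x ∈ P := by
      intro γ hγ x hx
      have : γ • P = P := hγ
      rw [← this]
      exact Ideal.smul_mem_pointwise_smul _ _ _ hx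
    let φ : D → (B ⧸ P) →* (B ⧸ P) := fun γ =>
      ((Ideal.Quotient.lift P ((Ideal.Quotient.mk P).comp
        (MulSemiringAction.toRingHom Γ B γ.1)) (by
          intro x hx
          exact Ideal.Quotient.eq_zero_iff_mem.mpr (hDmem γ.1 γ.2 x hx)) : (B ⧸ P) →+* (B ⧸ P)) :
        (B ⧸ P) →* (B ⧸ P))
    have hφ : ∀ (γ : D) (x : B), φ γ (Ideal.Quotient.mk P x) = Ideal.Quotient.mk P (γ.1 • x) :=
      fun γ x => rfl
    -- linear independence of characters
    have hli := linearIndependent_monoidHom (B ⧸ P) (B ⧸ P)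
    -- coefficient function
    let c : ((B ⧸ P) →* (B ⧸ P)) →₀ (B ⧸ P) := ∑ γ : D, Finsupp.single (φ γ) 1
    have hc1 : c (MonoidHom.id _) = ((Nat.card (P.inertia Γ) : ℕ) : B ⧸ P) := by
      simp only [c, Finsupp.coe_finsetSum, Finset.sum_apply, Finsupp.single_apply]
      rw [Finset.sum_boole]
      congr 1
      rw [Nat.card_eq_fintype_card, ← Fintype.card_subtype]
      refine Fintype.card_congr ⟨fun γ => ⟨γ.1.1, ?_⟩, fun ι => ⟨⟨ι.1, Ideal.inertia_le_stabilizer P ι.2⟩, ?_⟩,
        fun γ => by simp, fun ι => by simp⟩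
      · intro x
        have h1 := γ.2
        have h2 := congr($h1 (Ideal.Quotient.mk P x))
        rw [hφ] at h2
        simp only [MonoidHom.id_apply] at h2
        have := Ideal.Quotient.eq.mp h2
        simpa using this
      · apply MonoidHom.ext
        intro y
        obtain ⟨x, rfl⟩ := Ideal.Quotient.mk_surjective y
        rw [hφ]
        simp only [MonoidHom.id_apply]
        exact Ideal.Quotient.eq.mpr (ι.2 x)
    have hcne : c ≠ 0 := by
      intro h0
      have := hc1
      rw [h0] at this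
      exact h P hPprime this.symm
    have hsum_ne : Finsupp.linearCombination (B ⧸ P) (fun f : (B ⧸ P) →* (B ⧸ P) => (f : (B ⧸ P) → (B ⧸ P))) c ≠ 0 := by
      intro h0
      exact hcne (linearIndependent_iff.mp hli c h0)
    have hsum_eq : Finsupp.linearCombination (B ⧸ P) (fun f : (B ⧸ P) →* (B ⧸ P) => (f : (B ⧸ P) → (B ⧸ P))) c
        = fun y => ∑ γ : D, φ γ y := by
      simp only [c, map_sum, Finsupp.linearCombination_single, one_smul]
      ext y
      simp
    rw [hsum_eq] at hsum_ne
    obtain ⟨y, hy⟩ : ∃ y, ∑ γ : D, φ γ y ≠ 0 := by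
      by_contra hall
      push Not at hall
      exact hsum_ne (funext hall)
    obtain ⟨x, rfl⟩ := Ideal.Quotient.mk_surjective y
    -- CRT: b ≡ x mod P, b ∈ γ⁻¹ • P for γ ∉ D
    let S : Finset (Ideal B) := Finset.univ.image fun γ : Γ => γ • P
    have hSmax : ∀ Q : S, (Q : Ideal B).IsMaximal := by
      rintro ⟨Q, hQ⟩
      obtain ⟨γ, -, rfl⟩ := Finset.mem_image.mp hQ
      change (γ • P).IsMaximal
      rw [Ideal.pointwise_smul_eq_comap]
      exact Ideal.comap_isMaximal_of_surjective _ (MulSemiringAction.toRingAut Γ B γ⁻¹).surjective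
    have hcop : Pairwise (Function.onFun IsCoprime fun Q : S => (Q : Ideal B)) := by
      intro Q Q' hne
      haveI := hSmax Q
      haveI := hSmax Q'
      exact Ideal.isCoprime_of_isMaximal (fun heq => hne (Subtype.ext heq))
    obtain ⟨b, hb⟩ := Ideal.exists_forall_sub_mem_ideal hcop
      (fun Q : S => if (Q : Ideal B) = P then x else 0)
    have hbP : b - x ∈ P := by
      have hPS : P ∈ S := Finset.mem_image.mpr ⟨1, Finset.mem_univ _, one_smul _ _⟩
      have := hb ⟨P, hPS⟩
      simpa using this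
    have hbQ : ∀ γ : Γ, γ ∉ D → γ • b ∈ P := by
      intro γ hγ
      have hne : γ⁻¹ • P ≠ P := by
        intro heq
        apply hγ
        have : γ • P = P := by
          conv_lhs => rw [← heq]
          exact smul_inv_smul γ P
        exact this
      have hQS : γ⁻¹ • P ∈ S := Finset.mem_image.mpr ⟨γ⁻¹, Finset.mem_univ _, rfl⟩
      have := hb ⟨γ⁻¹ • P, hQS⟩
      simp only [hne, if_false, sub_zero] at this
      rw [Ideal.mem_pointwise_smul_iff_inv_smul_mem, inv_inv] at this
      exact this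
    -- compute the trace of b mod P
    have htrb := htrP b
    have h1 : Ideal.Quotient.mk P (∑ γ : Γ, γ • b) = ∑ γ : D, φ γ (Ideal.Quotient.mk P x) := by
      rw [map_sum]
      have hsplit : ∑ γ : Γ, Ideal.Quotient.mk P (γ • b) =
          ∑ γ : Γ, if γ ∈ D then Ideal.Quotient.mk P (γ • b) else 0 := by
        refine Finset.sum_congr rfl fun γ _ => ?_
        split_ifs with hγ
        · rfl
        · exact Ideal.Quotient.eq_zero_iff_mem.mpr (hbQ γ hγ)
      rw [hsplit, ← Finset.sum_filter, Finset.sum_subtype (p := fun γ => γ ∈ D)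
        (Finset.univ.filter fun γ => γ ∈ D) (by simp)]
      refine Finset.sum_congr rfl fun γ _ => ?_
      rw [hφ]
      have : Ideal.Quotient.mk P b = Ideal.Quotient.mk P x := Ideal.Quotient.eq.mpr hbP
      rw [← hφ, ← hφ, this]
    rw [Ideal.Quotient.eq_zero_iff_mem.mpr htrb] at h1
    exact hy h1.symm

/-- Let `B` be a commutative ring with an action of a finite group `Γ` by ring automorphisms, and call a
prime ideal `P` of `B` tame when the order of its inertia group `{γ | γ • x - x ∈ P for all x}` is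
not divisible by the characteristic of `B/P` (its ramification group is trivial). Then every prime
of `B` is tame if and only if the trace `b ↦ Σ_γ γ • b`, which takes values in the invariant ring
`B^Γ` and is `B^Γ`-linear, is onto `B^Γ` — equivalently, some element of `B` has trace `1`. -/
theorem result
    (B : Type u) [CommRing B] (Γ : Type v) [Group Γ] [Fintype Γ] [MulSemiringAction Γ B] :
    (∃ b : B, ∑ γ : Γ, γ • b = 1) ↔
      ∀ P : Ideal B, P.IsPrime → ((Nat.card (P.inertia Γ) : ℕ) : B ⧸ P) ≠ 0 := by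
  constructor
  · rintro ⟨b, hb⟩ P hP hcard
    have hF : ∀ γ : Γ, ∀ ι ∈ P.inertia Γ,
        Ideal.Quotient.mk P ((γ * ι)⁻¹ • b) = Ideal.Quotient.mk P (γ⁻¹ • b) := by
      intro γ ι hι
      rw [mul_inv_rev, mul_smul]
      exact Ideal.Quotient.eq.mpr ((P.inertia Γ).inv_mem hι (γ⁻¹ • b))
    obtain ⟨m, hm⟩ := sum_eq_card_mul (P.inertia Γ) (fun γ => Ideal.Quotient.mk P (γ⁻¹ • b)) hF
    have h1 : ∑ γ : Γ, Ideal.Quotient.mk P (γ⁻¹ • b) = 1 := by
      rw [← map_sum, Fintype.sum_equiv (Equiv.inv Γ) (fun γ => γ⁻¹ • b) (fun γ => γ • b)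
        (fun γ => rfl), hb, map_one]
    rw [h1, nsmul_eq_mul, hcard, zero_mul] at hm
    haveI := hP
    exact one_ne_zero hm
  · exact exists_trace_eq_one B Γ

end Groth.Agent.S12932
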