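import Groth.Statements.S12933
import Mathlib

set_option autoImplicit false
universe u v w w'
open TensorProduct
open InvTh

namespace Groth.Agent.S12933

/-- Let `R` be a commutative ring, `B` a commutative `R`-algebra with an action of a finite group `Γ` by
`R`-algebra automorphisms, and `R'` a flat commutative `R`-algebra; let `Γ` act on `R' ⊗_R B`
through the factor `B`. Then an element of `R' ⊗_R B` is fixed by every element of `Γ` if and only
if it lies in the `R'`-submodule spanned by the tensors `1 ⊗ b` with `b ∈ B^Γ`: taking invariants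
commutes with flat base change (the map `R' ⊗_R B^Γ → R' ⊗_R B` being moreover injective by
flatness). -/
theorem result
    (R : Type u) [CommRing R] (B : Type v) [CommRing B] [Algebra R B]
    (Γ : Type w) [Group Γ] [Finite Γ] [MulSemiringAction Γ B] [SMulCommClass Γ R B]
    (R' : Type w') [CommRing R'] [Algebra R R'] [Module.Flat R R']
    (x : R' ⊗[R] B) :
    (∀ γ : Γ, Algebra.TensorProduct.map (AlgHom.id R R') (MulSemiringAction.toAlgHom R B γ) x = x) ↔
      x ∈ Submodule.span R' ((fun b : B => (1 : R') ⊗ₜ[R] b) '' {b : B | ∀ γ : Γ, γ • b = b}) := by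
  classical
  have : Fintype Γ := Fintype.ofFinite Γ
  let act : Γ → B →ₗ[R] B := fun γ => (MulSemiringAction.toAlgHom R B γ).toLinearMap
  let φ : B →ₗ[R] (Γ → B) := LinearMap.pi (fun γ => act γ - LinearMap.id)
  let N : Submodule R B := LinearMap.ker φ
  have hN : ∀ b : B, b ∈ N ↔ ∀ γ : Γ, γ • b = b := by
    intro b
    simp only [N, LinearMap.mem_ker, φ, LinearMap.pi_apply, funext_iff, Pi.zero_apply,
      LinearMap.sub_apply, LinearMap.id_apply, sub_eq_zero]
    rfl
  have hex : Function.Exact N.subtype φ := LinearMap.exact_subtype_ker_map φ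
  have hex' : Function.Exact (N.subtype.lTensor R') (φ.lTensor R') :=
    Module.Flat.lTensor_exact R' hex
  have hact : ∀ (γ : Γ) (y : R' ⊗[R] B),
      Algebra.TensorProduct.map (AlgHom.id R R') (MulSemiringAction.toAlgHom R B γ) y =
        (act γ).lTensor R' y := by
    intro γ y
    induction y using TensorProduct.induction_on with
    | zero => simp
    | tmul r b => simp [act]
    | add y z hy hz => rw [map_add, map_add, hy, hz]
  have hpi : ∀ (γ : Γ) (y : R' ⊗[R] B),
      (TensorProduct.piRight R R R' (fun _ : Γ => B) ((φ.lTensor R') y)) γ =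
        (act γ).lTensor R' y - y := by
    intro γ y
    induction y using TensorProduct.induction_on with
    | zero => simp
    | tmul r b => simp [φ, TensorProduct.tmul_sub]
    | add y z hy hz =>
      simp only [map_add, Pi.add_apply, hy, hz]
      abel
  have h1 : (∀ γ : Γ, Algebra.TensorProduct.map (AlgHom.id R R')
      (MulSemiringAction.toAlgHom R B γ) x = x) ↔ (φ.lTensor R') x = 0 := by
    rw [← (TensorProduct.piRight R R R' (fun _ : Γ => B)).map_eq_zero_iff, funext_iff]
    refine forall_congr' (fun γ => ?_)
    rw [hpi, Pi.zero_apply, sub_eq_zero, hact]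
  have hsmul : ∀ (r : R') (z : R' ⊗[R] N),
      (N.subtype.lTensor R') (r • z) = r • (N.subtype.lTensor R') z := by
    intro r z
    induction z using TensorProduct.induction_on with
    | zero => simp
    | tmul s n => simp [TensorProduct.smul_tmul']
    | add u v hu hv => rw [smul_add, map_add, hu, hv, map_add, smul_add]
  rw [h1, hex' x]
  clear h1
  constructor
  · rintro ⟨z, rfl⟩
    induction z using TensorProduct.induction_on with
    | zero => simp
    | tmul r n =>
      have : (N.subtype.lTensor R') (r ⊗ₜ[R] n) = r • ((1 : R') ⊗ₜ[R] (n : B)) := by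
        simp [TensorProduct.smul_tmul']
      rw [this]
      exact Submodule.smul_mem _ _ (Submodule.subset_span ⟨n.1, (hN n.1).mp n.2, rfl⟩)
    | add y z hy hz =>
      rw [map_add]
      exact Submodule.add_mem _ hy hz
  · intro hx
    induction hx using Submodule.span_induction with
    | mem y hy =>
      obtain ⟨b, hb, rfl⟩ := hy
      exact ⟨(1 : R') ⊗ₜ[R] (⟨b, (hN b).mpr hb⟩ : N), by simp⟩
    | zero => exact ⟨0, by simp⟩
    | add y z _ _ hy hz =>
      obtain ⟨y', rfl⟩ := hy
      obtain ⟨z', rfl⟩ := hz
      exact ⟨y' + z', by simp⟩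
    | smul r y _ hy =>
      obtain ⟨y', rfl⟩ := hy
      exact ⟨r • y', hsmul r y'⟩

end Groth.Agent.S12933
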