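import Groth.Statements.S12934
import Mathlib

set_option autoImplicit false
universe u v
open InvTh

namespace Groth.Agent.S12934


open IsLocalRing

theorem unit_of_not_mem {B : Type*} [CommRing B] [IsLocalRing B] {z : B}
    (h : z ∉ maximalIdeal B) : IsUnit z := by
  by_contra hz
  exact h ((IsLocalRing.mem_maximalIdeal z).mpr (mem_nonunits_iff.mpr hz))

theorem mem_of_mul_eq_zero {B : Type*} [CommRing B] [IsLocalRing B] {b z : B}
    (hb : b ≠ 0) (h : b * z = 0) : z ∈ maximalIdeal B := by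
  by_contra hz
  obtain ⟨w, hw⟩ := (unit_of_not_mem hz).exists_right_inv
  apply hb
  calc b = b * (z * w) := by rw [hw, mul_one]
    _ = (b * z) * w := by ring
    _ = 0 := by rw [h, zero_mul]

theorem res_eq_of_sub_mem {B : Type*} [CommRing B] [IsLocalRing B] {x y : B}
    (h : x - y ∈ maximalIdeal B) : residue B x = residue B y := by
  have := (IsLocalRing.residue_eq_zero_iff (x - y)).mpr h
  rw [map_sub] at this
  exact sub_eq_zero.mp this


/-- Let `B` be a local commutative ring with maximal ideal `m` and residue field `k`, and `Γ` a finite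
group acting faithfully on `B` by ring automorphisms, such that every element of `Γ` acts trivially
modulo `m` (the whole group is inertia) and maps each principal ideal of `B` into itself (every
ideal is stable). Let `S ⊆ Γ` be the set of `γ` with `γ b ∈ b + b m` for all `b`. Then: if `k` has
characteristic `0`, `S = {1}`; if `k` has characteristic `p > 0`, `S` is (the underlying set of) a
Sylow `p`-subgroup; every commutator of `Γ` lies in `S`, so `Γ/S` is abelian; and whenever the class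
of `γ` in `Γ/S` has order `n` (`γ^n ∈ S`, no smaller positive power in `S`), `k` contains a
primitive `n`-th root of unity. (The published statement also bounds the number of generators of
`Γ/S` by the number of generators of the monoid of principal ideals; that clause is not included.) -/
theorem result
    (B : Type u) [CommRing B] [IsLocalRing B]
    (Γ : Type v) [Group Γ] [Finite Γ] [MulSemiringAction Γ B] [FaithfulSMul Γ B]
    (hin : ∀ (γ : Γ) (b : B), γ • b - b ∈ IsLocalRing.maximalIdeal B)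
    (hst : ∀ (γ : Γ) (b : B), ∃ u : B, γ • b = b * u)
    (S : Set Γ)
    (hS : ∀ γ : Γ, γ ∈ S ↔ ∀ b : B, ∃ x ∈ IsLocalRing.maximalIdeal B, γ • b = b + b * x) :
    (ringChar (IsLocalRing.ResidueField B) = 0 → S = {1}) ∧
      (∀ (p : ℕ) [Fact p.Prime], ringChar (IsLocalRing.ResidueField B) = p →
        ∃ Q : Sylow p Γ, (Q : Set Γ) = S) ∧
      (∀ γ δ : Γ, γ * δ * γ⁻¹ * δ⁻¹ ∈ S) ∧
      (∀ (γ : Γ) (n : ℕ), 0 < n → γ ^ n ∈ S → (∀ i : ℕ, 0 < i → i < n → γ ^ i ∉ S) →
        ∃ ζ : IsLocalRing.ResidueField B, IsPrimitiveRoot ζ n) := by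
  classical
  choose u hu using hst
  have F2 : ∀ (γ : Γ) (b : B), residue B (γ • b) = residue B b :=
    fun γ b => res_eq_of_sub_mem (hin γ b)
  have C1 : ∀ (γ : Γ) (b u' : B), b ≠ 0 → γ • b = b * u' →
      residue B u' = residue B (u γ b) := by
    intro γ b u' hb h
    apply res_eq_of_sub_mem
    apply mem_of_mul_eq_zero hb
    rw [mul_sub, ← h, ← hu γ b, sub_self]
  have C2 : ∀ b : B, b ≠ 0 → residue B (u 1 b) = 1 := by
    intro b hb
    rw [← C1 1 b 1 hb (by rw [one_smul, mul_one]), map_one]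
  have C3 : ∀ (γ δ : Γ) (b : B), b ≠ 0 →
      residue B (u (γ * δ) b) = residue B (u γ b) * residue B (u δ b) := by
    intro γ δ b hb
    have h : (γ * δ) • b = b * (u γ b * γ • (u δ b)) := by
      rw [mul_smul, hu δ b, smul_mul', hu γ b, mul_assoc]
    rw [← C1 (γ * δ) b (u γ b * γ • (u δ b)) hb h, map_mul, F2]
  have C5 : ∀ (γ : Γ) (n : ℕ) (b : B), b ≠ 0 →
      residue B (u (γ ^ n) b) = residue B (u γ b) ^ n := by
    intro γ n b hb
    induction n with
    | zero => rw [pow_zero, pow_zero]; exact C2 b hb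
    | succ n ih => rw [pow_succ, C3 _ _ b hb, ih, pow_succ]
  have C4 : ∀ γ : Γ, γ ∈ S ↔ ∀ b : B, b ≠ 0 → residue B (u γ b) = 1 := by
    intro γ
    rw [hS]
    constructor
    · intro h b hb
      obtain ⟨x, hx, hxb⟩ := h b
      rw [← C1 γ b (1 + x) hb (by rw [hxb]; ring), map_add, map_one,
        (IsLocalRing.residue_eq_zero_iff x).mpr hx, add_zero]
    · intro h b
      by_cases hb : b = 0
      · exact ⟨0, Ideal.zero_mem _, by rw [hb, smul_zero, mul_zero, add_zero]⟩
      · refine ⟨u γ b - 1, ?_, ?_⟩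
        · rw [← IsLocalRing.residue_eq_zero_iff, map_sub, map_one, h b hb, sub_self]
        · rw [hu γ b]; ring
  have S_one : (1 : Γ) ∈ S := (C4 1).mpr C2
  have S_mul : ∀ γ δ : Γ, γ ∈ S → δ ∈ S → γ * δ ∈ S := by
    intro γ δ hγ hδ
    rw [C4] at hγ hδ ⊢
    intro b hb
    rw [C3 _ _ b hb, hγ b hb, hδ b hb, one_mul]
  have S_inv : ∀ γ : Γ, γ ∈ S → γ⁻¹ ∈ S := by
    intro γ hγ
    rw [C4] at hγ ⊢
    intro b hb
    have := C3 γ γ⁻¹ b hb
    rw [mul_inv_cancel, C2 b hb, hγ b hb, one_mul] at this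
    exact this.symm
  obtain ⟨H, hH⟩ : ∃ H : Subgroup Γ, ∀ γ, γ ∈ H ↔ γ ∈ S :=
    ⟨{ carrier := S
       mul_mem' := fun {a b} ha hb => S_mul a b ha hb
       one_mem' := S_one
       inv_mem' := fun {a} ha => S_inv a ha }, fun γ => Iff.rfl⟩
  have S_pow : ∀ (γ : Γ) (n : ℕ), γ ∈ S → γ ^ n ∈ S :=
    fun γ n h => (hH _).mp (H.pow_mem ((hH _).mpr h) n)
  have W : ∀ (γ : Γ) (ℓ : ℕ), γ ∈ S → γ ^ ℓ = 1 → IsUnit ((ℓ : ℕ) : B) → γ = 1 := by
    intro γ ℓ hγ hℓ hunit
    apply eq_of_smul_eq_smul (α := B)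
    intro b
    rw [one_smul]
    obtain ⟨c, hc⟩ : ∃ c, c = γ • b - b := ⟨_, rfl⟩
    have hx : ∀ i : ℕ, ∃ x ∈ maximalIdeal B, γ ^ i • c = c + c * x :=
      fun i => (hS (γ ^ i)).mp (S_pow γ i hγ) c
    choose x hxm hxe using hx
    have h1 : ∑ i ∈ Finset.range ℓ, γ ^ i • c = 0 := by
      have hh : ∀ i, γ ^ i • c = γ ^ (i + 1) • b - γ ^ i • b := by
        intro i
        rw [hc, smul_sub, pow_succ, mul_smul]
      have h1' : ∑ i ∈ Finset.range ℓ, γ ^ i • c
          = ∑ i ∈ Finset.range ℓ, (γ ^ (i + 1) • b - γ ^ i • b) :=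
        Finset.sum_congr rfl (fun i _ => hh i)
      rw [h1', Finset.sum_range_sub (fun i => γ ^ i • b), hℓ, pow_zero, sub_self]
    have h2 : ∑ i ∈ Finset.range ℓ, γ ^ i • c
        = c * ((ℓ : B) + ∑ i ∈ Finset.range ℓ, x i) := by
      have h2' : ∑ i ∈ Finset.range ℓ, γ ^ i • c
          = ∑ i ∈ Finset.range ℓ, (c + c * x i) :=
        Finset.sum_congr rfl (fun i _ => hxe i)
      rw [h2', Finset.sum_add_distrib, Finset.sum_const, Finset.card_range,
        ← Finset.mul_sum, nsmul_eq_mul]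
      ring
    have hy : ∑ i ∈ Finset.range ℓ, x i ∈ maximalIdeal B :=
      Ideal.sum_mem _ (fun i _ => hxm i)
    have hunit2 : IsUnit ((ℓ : B) + ∑ i ∈ Finset.range ℓ, x i) := by
      apply unit_of_not_mem
      intro hmem
      have hl : (ℓ : B) ∈ maximalIdeal B := by
        have := Ideal.sub_mem _ hmem hy
        rwa [add_sub_cancel_right] at this
      exact (mem_nonunits_iff.mp ((IsLocalRing.mem_maximalIdeal _).mp hl)) hunit
    have hc0 : c = 0 := by
      rw [h1] at h2
      obtain ⟨w, hw⟩ := hunit2.exists_right_inv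
      calc c = c * (((ℓ : B) + ∑ i ∈ Finset.range ℓ, x i) * w) := by rw [hw, mul_one]
        _ = (c * ((ℓ : B) + ∑ i ∈ Finset.range ℓ, x i)) * w := by ring
        _ = 0 := by rw [← h2, zero_mul]
    rw [hc] at hc0
    exact sub_eq_zero.mp hc0
  have U : ∀ ℓ : ℕ, ¬ (ringChar (ResidueField B) ∣ ℓ) → IsUnit ((ℓ : ℕ) : B) := by
    intro ℓ h
    apply unit_of_not_mem
    intro hmem
    apply h
    have h0 : residue B ((ℓ : ℕ) : B) = 0 := (IsLocalRing.residue_eq_zero_iff _).mpr hmem
    rw [map_natCast] at h0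
    exact (ringChar.spec _ ℓ).mp h0
  refine ⟨?_, ?_, ?_, ?_⟩
  · intro h0
    apply Set.eq_singleton_iff_unique_mem.mpr
    refine ⟨S_one, ?_⟩
    intro γ hγ
    apply W γ (orderOf γ) hγ (pow_orderOf_eq_one γ)
    apply U
    rw [h0, zero_dvd_iff]
    exact (orderOf_pos γ).ne'
  · intro p hp hchar
    haveI : CharP (ResidueField B) p := ringChar.of_eq hchar
    have P2 : ∀ g : Γ, g ^ p ∈ S → g ∈ S := by
      intro g hg
      rw [C4] at hg ⊢
      intro b hb
      have h1 := hg b hb
      rw [C5 g p b hb] at h1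
      have h2 : (residue B (u g b) - 1) ^ p = 0 := by
        rw [sub_pow_char, h1, one_pow, sub_self]
      exact sub_eq_zero.mp ((pow_eq_zero_iff (Fact.out : p.Prime).ne_zero).mp h2)
    have hHp : IsPGroup p H := by
      intro g
      obtain ⟨γ, hγ⟩ := g
      have hγS : γ ∈ S := (hH _).mp hγ
      obtain ⟨a, m', hm', hord⟩ :=
        Nat.exists_eq_pow_mul_and_not_dvd (orderOf_pos γ).ne' p (Fact.out : p.Prime).ne_one
      refine ⟨a, ?_⟩
      apply Subtype.ext
      rw [Subgroup.coe_pow, Subgroup.coe_one]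
      show γ ^ p ^ a = 1
      apply W (γ ^ p ^ a) m' (S_pow γ _ hγS)
      · rw [← pow_mul, ← hord, pow_orderOf_eq_one]
      · apply U
        rw [hchar]
        exact hm'
    obtain ⟨Q, hQ⟩ := hHp.exists_le_sylow
    refine ⟨Q, ?_⟩
    apply Set.eq_of_subset_of_subset
    · intro γ hγ
      have hγQ : γ ∈ (Q : Subgroup Γ) := hγ
      obtain ⟨a, ha⟩ := Q.isPGroup' ⟨γ, hγQ⟩
      have ha' : γ ^ p ^ a = 1 := by
        have := congrArg Subtype.val ha
        simpa using this
      have key : ∀ a : ℕ, ∀ g : Γ, g ^ p ^ a ∈ S → g ∈ S := by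
        intro a
        induction a with
        | zero => intro g hg; rwa [pow_zero, pow_one] at hg
        | succ a ih =>
          intro g hg
          apply P2
          apply ih
          rwa [← pow_mul, ← pow_succ']
      apply key a γ
      rw [ha']; exact S_one
    · intro γ hγ
      exact hQ ((hH γ).mpr hγ)
  · intro γ δ
    rw [C4]
    intro b hb
    have e1 := C3 γ γ⁻¹ b hb
    have e2 := C3 δ δ⁻¹ b hb
    rw [mul_inv_cancel, C2 b hb] at e1 e2
    rw [C3 _ _ b hb, C3 _ _ b hb, C3 _ _ b hb]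
    calc _ = (residue B (u γ b) * residue B (u γ⁻¹ b))
          * (residue B (u δ b) * residue B (u δ⁻¹ b)) := by ring
      _ = 1 := by rw [← e1, ← e2, one_mul]
  · intro γ n hn hγn hmin
    haveI : NeZero n := ⟨hn.ne'⟩
    obtain ⟨d, hd⟩ : ∃ d, d = Nat.card (rootsOfUnity n (ResidueField B)) := ⟨_, rfl⟩
    have hdle : d ≤ n := hd ▸ card_rootsOfUnity (ResidueField B) n
    have hdpos : 0 < d := hd ▸ Nat.card_pos
    have hγd : γ ^ d ∈ S := by
      rw [C4]
      intro b hb
      rw [C5 γ d b hb]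
      have h1 : residue B (u γ b) ^ n = 1 := by
        rw [← C5 γ n b hb]; exact (C4 _).mp hγn b hb
      obtain ⟨z, hz⟩ : ∃ z : rootsOfUnity n (ResidueField B),
          ((z : (ResidueField B)ˣ) : ResidueField B) = residue B (u γ b) :=
        ⟨rootsOfUnity.mkOfPowEq _ h1, rootsOfUnity.coe_mkOfPowEq _⟩
      have h2 : z ^ d = 1 := by rw [hd]; exact pow_card_eq_one'
      have h3 := congrArg (fun w : rootsOfUnity n (ResidueField B) =>
        ((w : (ResidueField B)ˣ) : ResidueField B)) h2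
      simp only [Subgroup.coe_pow, Units.val_pow_eq_pow_val, Subgroup.coe_one,
        Units.val_one] at h3
      rw [← hz]; exact h3
    have hdn : d = n := by
      by_contra hne
      exact hmin d hdpos (lt_of_le_of_ne hdle hne) hγd
    rw [hd] at hdn
    exact card_rootsOfUnity_eq_iff_exists_isPrimitiveRoot.mp hdn


end Groth.Agent.S12934
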