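import Groth.Statements.S12935
import Mathlib

set_option autoImplicit false
universe u v
open InvTh

namespace Groth.Agent.S12935

/-- Let `B` be a commutative ring with an action of a finite group `Γ` by ring automorphisms, `Ω` a
normal subgroup of `Γ`, `B^Ω` the subring of `Ω`-invariants (stable under `Γ`, with the induced
action of `Γ/Ω`), and `P` a prime ideal of `B`. Then (decomposition groups) an element `γ` maps `P ∩
B^Ω` onto itself if and only if `γω` maps `P` onto itself for some `ω ∈ Ω`; and (inertia groups) `γ`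
fixes `B^Ω` modulo `P ∩ B^Ω` if and only if `γω` fixes `B` modulo `P` for some `ω ∈ Ω`. In other
words the decomposition and inertia groups of `P ∩ B^Ω` under `Γ/Ω` are the images of those of `P`.
(The published statement also asserts the same for the ramification groups, the Sylow subgroups of
the inertia groups at the residue characteristic; that clause is not included here.) -/
theorem result
    (B : Type u) [CommRing B] (Γ : Type v) [Group Γ] [Finite Γ] [MulSemiringAction Γ B]
    (Ω : Subgroup Γ) [Ω.Normal] (P : Ideal B) [P.IsPrime] (γ : Γ) :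
    ((∀ x : B, (∀ ω ∈ Ω, ω • x = x) → (x ∈ P ↔ γ • x ∈ P)) ↔
        ∃ ω ∈ Ω, ∀ x : B, x ∈ P ↔ (γ * ω) • x ∈ P) ∧
      ((∀ x : B, (∀ ω ∈ Ω, ω • x = x) → γ • x - x ∈ P) ↔
        ∃ ω ∈ Ω, ∀ x : B, (γ * ω) • x - x ∈ P) := by
  open Pointwise in
  (
    classical
    let A : Subring B := FixedPoints.subring B Ω
    have hA : ∀ x : B, x ∈ A ↔ ∀ ω ∈ Ω, ω • x = x := by
      intro x
      constructor
      · intro hx ω hω
        exact hx ⟨ω, hω⟩
      · intro hx ω
        exact hx ω.1 ω.2
    have : SMulCommClass Ω A B := ⟨fun ω a b => by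
      change ω • ((a : B) * b) = (a : B) * (ω • b)
      rw [smul_mul', a.2 ω]⟩
    have : Algebra.IsInvariant A B Ω := ⟨fun b hb => ⟨⟨b, fun ω => hb ω⟩, rfl⟩⟩
    -- Part 1, forward direction as a lemma
    have part1 : (∀ x : B, (∀ ω ∈ Ω, ω • x = x) → (x ∈ P ↔ γ • x ∈ P)) →
        ∃ ω ∈ Ω, ∀ x : B, x ∈ P ↔ (γ * ω) • x ∈ P := by
      intro h
      have hQ : (γ⁻¹ • P).IsPrime := inferInstance
      have hunder : P.under A = (γ⁻¹ • P).under A := by
        ext a
        rw [Ideal.mem_comap, Ideal.mem_comap, Ideal.mem_inv_pointwise_smul_iff]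
        exact h (a : B) ((hA _).mp a.2)
      obtain ⟨ω, hω⟩ := Algebra.IsInvariant.exists_smul_of_under_eq A B Ω P (γ⁻¹ • P) hunder
      refine ⟨ω.1, ω.2, fun x => ?_⟩
      rw [mul_smul, ← Ideal.mem_inv_pointwise_smul_iff, hω]
      exact (Ideal.smul_mem_pointwise_smul_iff (a := ω) (S := P) (x := x)).symm
    refine ⟨⟨part1, ?_⟩, ⟨?_, ?_⟩⟩
    · rintro ⟨ω, hω, h⟩ x hx
      have := h x
      rwa [mul_smul, hx ω hω] at this
    · intro h
      -- step 1
      obtain ⟨ω₁, hω₁, h1⟩ := part1 (fun x hx => by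
        have hd := h x hx
        constructor
        · intro hxP
          have : γ • x = (γ • x - x) + x := by ring
          rw [this]; exact P.add_mem hd hxP
        · intro hgx
          have : x = γ • x - (γ • x - x) := by ring
          rw [this]; exact P.sub_mem hgx hd)
      set γ' := γ * ω₁ with hγ'
      have hstab : γ' • P = P := by
        ext x
        rw [← inv_inv γ', Ideal.mem_inv_pointwise_smul_iff]
        rw [h1 (γ'⁻¹ • x), smul_inv_smul]
      have hγ'A : ∀ a : A, γ' • (a : B) - (a : B) ∈ P := by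
        intro a
        have := h (a : B) ((hA _).mp a.2)
        rwa [hγ', mul_smul, (hA _).mp a.2 ω₁ hω₁]
      -- step 2: the induced automorphism of B ⧸ P over A ⧸ p
      let p : Ideal A := P.under A
      let σ₀ : (B ⧸ P) ≃+* (B ⧸ P) :=
        Ideal.quotientEquiv P P (MulSemiringAction.toRingEquiv Γ B γ') (by
          have : γ' • P = Ideal.map ((MulSemiringAction.toRingEquiv Γ B γ' : B ≃+* B) : B →+* B) P := rfl
          rw [← this, hstab])
      have hσ₀ : ∀ x : B, σ₀ (Ideal.Quotient.mk P x) = Ideal.Quotient.mk P (γ' • x) := fun x => rfl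
      let σ : (B ⧸ P) ≃ₐ[A ⧸ p] (B ⧸ P) := AlgEquiv.ofRingEquiv (f := σ₀) (by
        intro r
        obtain ⟨a, rfl⟩ := Ideal.Quotient.mk_surjective r
        change σ₀ (Ideal.Quotient.mk P (a : B)) = Ideal.Quotient.mk P (a : B)
        rw [hσ₀, Ideal.Quotient.eq]
        exact hγ'A a)
      obtain ⟨g, hg⟩ := Ideal.Quotient.stabilizerHom_surjective Ω p P σ
      have hg' : ∀ x : B, (g : Ω).1 • x - γ' • x ∈ P := by
        intro x
        have := DFunLike.congr_fun hg (Ideal.Quotient.mk P x)
        rw [Ideal.Quotient.stabilizerHom_apply] at this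
        change _ = σ₀ (Ideal.Quotient.mk P x) at this
        rw [hσ₀, Ideal.Quotient.eq] at this
        exact this
      refine ⟨ω₁ * ((g : Ω).1)⁻¹, Ω.mul_mem hω₁ (Ω.inv_mem (g : Ω).2), fun x => ?_⟩
      have := hg' (((g : Ω).1)⁻¹ • x)
      rw [smul_inv_smul] at this
      have h2 : (γ * (ω₁ * ((g : Ω).1)⁻¹)) • x = γ' • (((g : Ω).1)⁻¹ • x) := by
        rw [hγ', ← mul_smul, mul_assoc]
      rw [h2]
      have h3 : γ' • (((g : Ω).1)⁻¹ • x) - x = -(x - γ' • (((g : Ω).1)⁻¹ • x)) := by ring
      rw [h3]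
      exact P.neg_mem this
    · rintro ⟨ω, hω, h⟩ x hx
      have := h x
      rwa [mul_smul, hx ω hω] at this
  )

end Groth.Agent.S12935
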