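import Groth.Statements.S12936
import Mathlib

set_option autoImplicit false
universe u v
open InvTh

namespace Groth.Agent.S12936

/-- Let `B` be a commutative ring with an action of a finite group `Γ` by ring automorphisms and `P` a
maximal ideal of `B`, with decomposition group `D_P = {γ | γP = P}` and decomposition ring `D =
B^{D_P}`. Then `D = B^Γ + (P ∩ D)`: every element of `B` fixed by `D_P` is congruent modulo `P` to a
`Γ`-invariant element. Hence the residue field of `D` at `P ∩ D` is that of `B^Γ` at `P ∩ B^Γ`; for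
an arbitrary prime `P` the same equality of residue fields follows by localising at `P ∩ B^Γ`. (The
published statement prints this residue field as `k(P)`; the proof establishes the equality with the
residue field of `B^Γ` stated here.) -/
theorem result
    (B : Type u) [CommRing B] (Γ : Type v) [Group Γ] [Finite Γ] [MulSemiringAction Γ B]
    (P : Ideal B) [P.IsMaximal] (x : B)
    (hx : ∀ γ : Γ, (∀ y : B, y ∈ P ↔ γ • y ∈ P) → γ • x = x) :
    ∃ c : B, (∀ γ : Γ, γ • c = c) ∧ x - c ∈ P := by
  open Pointwise in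
  (
    classical
    have : Fintype Γ := Fintype.ofFinite Γ
    let D : Subgroup Γ := MulAction.stabilizer Γ P
    have hD1 : ∀ γ : Γ, γ ∈ D → ∀ y : B, y ∈ P ↔ γ • y ∈ P := by
      intro γ hγ y
      have h1 : γ • P = P := hγ
      conv_rhs => rw [← h1]
      exact (Ideal.smul_mem_pointwise_smul_iff (a := γ) (S := P) (x := y)).symm
    have hD2 : ∀ γ : Γ, (∀ y : B, y ∈ P ↔ γ • y ∈ P) → γ ∈ D := by
      intro γ h
      change γ • P = P
      ext y
      rw [← inv_inv γ, Ideal.mem_inv_pointwise_smul_iff, h (γ⁻¹ • y), smul_inv_smul]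
    have hxD : ∀ γ ∈ D, γ • x = x := fun γ hγ => hx γ (hD1 γ hγ)
    -- the element e₀
    let T : Finset Γ := Finset.univ.filter (fun γ => γ ∉ D)
    let I : Ideal B := T.inf (fun γ => γ⁻¹ • P)
    have hIP : ¬ I ≤ P := by
      intro h
      obtain ⟨γ, hγT, hγ⟩ := (Ideal.IsPrime.inf_le' (inferInstance : P.IsPrime)).mp h
      have h1 : γ⁻¹ • P = P := smul_eq_of_smul_le hγ
      have h2 : γ⁻¹ ∈ D := h1
      have h3 : γ ∈ D := by simpa using D.inv_mem h2
      exact (Finset.mem_filter.mp hγT).2 h3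
    have hsup : I ⊔ P = ⊤ := by
      have hmax : P.IsMaximal := inferInstance
      by_contra hne
      have hle : I ⊔ P ≤ P := by
        have := hmax.1.2 (I ⊔ P)
        by_contra hnle
        exact hne (this (lt_of_le_of_ne le_sup_right (fun heq => hnle (heq ▸ le_rfl))))
      exact hIP (le_trans le_sup_left hle)
    obtain ⟨e₀, he₀I, p₀, hp₀, hep⟩ := Submodule.mem_sup.mp (hsup ▸ Submodule.mem_top : (1 : B) ∈ I ⊔ P)
    have he₀1 : e₀ - 1 ∈ P := by
      have : e₀ - 1 = -p₀ := by rw [← hep]; ring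
      rw [this]; exact P.neg_mem hp₀
    have he₀T : ∀ γ : Γ, γ ∉ D → γ • e₀ ∈ P := by
      intro γ hγ
      have h1 : e₀ ∈ γ⁻¹ • P :=
        (Finset.inf_le (f := fun γ => γ⁻¹ • P) (Finset.mem_filter.mpr ⟨Finset.mem_univ γ, hγ⟩)) he₀I
      exact Ideal.mem_inv_pointwise_smul_iff.mp h1
    -- the D-invariant element e'
    let e' : B := ∏ δ : D, δ • e₀
    have he'D : ∀ γ ∈ D, γ • e' = e' := by
      intro γ hγ
      exact Finset.smul_prod_perm (G := D) e₀ ⟨γ, hγ⟩
    have he'1 : e' - 1 ∈ P := by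
      rw [← Ideal.Quotient.eq, map_one, map_prod]
      apply Finset.prod_eq_one
      intro δ _
      rw [← map_one (Ideal.Quotient.mk P), Ideal.Quotient.eq]
      have h1 : δ • e₀ - 1 = (δ : Γ) • (e₀ - 1) := by
        rw [smul_sub, smul_one]; rfl
      rw [h1]
      exact (hD1 δ.1 δ.2 _).mp he₀1
    have he'T : ∀ γ : Γ, γ ∉ D → γ • e' ∈ P := by
      intro γ hγ
      have hdvd : e₀ ∣ e' := by
        have := Finset.dvd_prod_of_mem (fun δ : D => δ • e₀) (Finset.mem_univ (1 : D))
        simpa using this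
      obtain ⟨q, hq⟩ := hdvd
      rw [hq, smul_mul']
      exact P.mul_mem_right _ (he₀T γ hγ)
    -- w
    let w : B := x * e'
    have hwD : ∀ γ ∈ D, γ • w = w := by
      intro γ hγ
      change γ • (x * e') = x * e'
      rw [smul_mul', hxD γ hγ, he'D γ hγ]
    have hwx : w - x ∈ P := by
      have : w - x = x * (e' - 1) := by change x * e' - x = _; ring
      rw [this]; exact P.mul_mem_left _ he'1
    have hwT : ∀ γ : Γ, γ ∉ D → γ • w ∈ P := by
      intro γ hγ
      change γ • (x * e') ∈ P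
      rw [smul_mul']
      exact P.mul_mem_left _ (he'T γ hγ)
    -- the orbit sum
    obtain ⟨S, hS⟩ : ∃ S : Finset B, S = Finset.univ.image (fun γ : Γ => γ • w) := ⟨_, rfl⟩
    have hmemS : ∀ b, b ∈ S ↔ ∃ γ : Γ, γ • w = b := by
      intro b; rw [hS]; simp
    refine ⟨∑ b ∈ S, b, ?_, ?_⟩
    · intro γ₀
      have himg : S.image (fun b => γ₀ • b) = S := by
        ext b
        rw [Finset.mem_image, hmemS]
        constructor
        · rintro ⟨b', hb', rfl⟩
          obtain ⟨γ, rfl⟩ := (hmemS b').mp hb'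
          exact ⟨γ₀ * γ, by rw [mul_smul]⟩
        · rintro ⟨γ, rfl⟩
          exact ⟨(γ₀⁻¹ * γ) • w, (hmemS _).mpr ⟨_, rfl⟩, by rw [← mul_smul, mul_inv_cancel_left]⟩
      calc γ₀ • ∑ b ∈ S, b = ∑ b ∈ S, γ₀ • b := Finset.smul_sum
        _ = ∑ b ∈ S.image (fun b => γ₀ • b), b :=
          (Finset.sum_image (f := fun b => b) (s := S) (g := fun b => γ₀ • b)
            (fun a _ b _ hab => MulAction.injective γ₀ hab)).symm
        _ = ∑ b ∈ S, b := by rw [himg]
    · have hwS : w ∈ S := (hmemS w).mpr ⟨1, one_smul _ _⟩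
      rw [← Finset.add_sum_erase S (fun b => b) hwS]
      have hrest : ∑ b ∈ S.erase w, b ∈ P := by
        apply Ideal.sum_mem
        intro b hb
        obtain ⟨hbw, hbS⟩ := Finset.mem_erase.mp hb
        obtain ⟨γ, rfl⟩ := (hmemS b).mp hbS
        apply hwT
        intro hγ
        exact hbw (hwD γ hγ)
      have : x - (w + ∑ b ∈ S.erase w, b) = -(w - x) - ∑ b ∈ S.erase w, b := by ring
      rw [this]
      exact P.sub_mem (P.neg_mem hwx) hrest
  )

end Groth.Agent.S12936
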