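import Groth.Statements.S12937
import Mathlib

set_option autoImplicit false
universe u v
open InvTh

namespace Groth.Agent.S12937


open Polynomial

section Aux

theorem fld {K L : Type*} [Field K] [Field L] (φ : K →+* L) (xb : L) (N : ℕ)
    (gK fK : K[X]) (hg : (gK.map φ).Separable) (hgx : (gK.map φ).eval xb = 0)
    (hf : fK.map φ = (X - C xb) ^ N) (hN : N ≠ 0) : ∃ k : K, φ k = xb := by
  letI : Algebra K L := φ.toAlgebra
  have halg : algebraMap K L = φ := rfl
  have hfx : aeval xb fK = 0 := by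
    rw [aeval_def, ← eval_map, halg, hf, eval_pow, eval_sub, eval_X, eval_C, sub_self,
      zero_pow hN]
  have hgx' : aeval xb gK = 0 := by
    rw [aeval_def, ← eval_map, halg]; exact hgx
  have hfK0 : fK ≠ 0 := by
    intro h0
    rw [h0, Polynomial.map_zero] at hf
    exact (pow_ne_zero N (X_sub_C_ne_zero xb)) hf.symm
  have hint : IsIntegral K xb := (isAlgebraic_iff_isIntegral).mp ⟨fK, hfK0, hfx⟩
  have hd1 : minpoly K xb ∣ gK := minpoly.dvd K xb hgx'
  have hd2 : minpoly K xb ∣ fK := minpoly.dvd K xb hfx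
  have hd1' : (minpoly K xb).map φ ∣ gK.map φ := Polynomial.map_dvd φ hd1
  have hd2' : (minpoly K xb).map φ ∣ (X - C xb) ^ N := by
    rw [← hf]; exact Polynomial.map_dvd φ hd2
  have hsep : ((minpoly K xb).map φ).Separable := hg.of_dvd hd1'
  have hdvd : (minpoly K xb).map φ ∣ X - C xb :=
    (Squarefree.dvd_pow_iff_dvd hsep.squarefree hN).mp hd2'
  have hdeg : (minpoly K xb).degree = 1 := by
    apply le_antisymm
    · rw [← degree_map (minpoly K xb) φ, ← degree_X_sub_C xb]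
      exact degree_le_of_dvd hdvd (X_sub_C_ne_zero xb)
    · exact Nat.WithBot.one_le_iff_zero_lt.mpr (minpoly.degree_pos hint)
  obtain ⟨k, hk⟩ := minpoly.mem_range_of_degree_eq_one K xb hdeg
  exact ⟨k, hk⟩

theorem subtype_isIntegral {B : Type*} [CommRing B] (G : Type*) [Group G] [Finite G]
    [MulSemiringAction G B] : (FixedPoints.subring B G).subtype.IsIntegral := by
  classical
  cases nonempty_fintype G
  intro b
  have hl : MulSemiringAction.charpoly G b ∈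
      Polynomial.lifts (FixedPoints.subring B G).subtype := by
    rw [Polynomial.lifts_iff_coeff_lifts]
    intro n
    exact ⟨⟨_, fun g => MulSemiringAction.smul_coeff_charpoly b n g⟩, rfl⟩
  obtain ⟨p, hp1, -, hp2⟩ := Polynomial.lifts_and_natDegree_eq_and_monic hl
    (MulSemiringAction.monic_charpoly G b)
  exact ⟨p, hp2, by rw [← eval_map, hp1, MulSemiringAction.eval_charpoly]⟩

end Aux

section Main

variable {B : Type u} [CommRing B] {Γ : Type v} [Group Γ] [MulSemiringAction Γ B]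

/-- decomposition predicate -/
def Dec (P : Ideal B) (γ : Γ) : Prop := ∀ b : B, γ • b ∈ P ↔ b ∈ P

variable {P : Ideal B}

theorem Dec.one : Dec P (1 : Γ) := fun b => by rw [one_smul]

theorem Dec.mul {γ δ : Γ} (hγ : Dec P γ) (hδ : Dec P δ) : Dec P (γ * δ) := fun b => by
  rw [mul_smul, hγ (δ • b), hδ b]

theorem Dec.inv {γ : Γ} (hγ : Dec P γ) : Dec P γ⁻¹ := fun b => by
  rw [← hγ (γ⁻¹ • b), smul_inv_smul]

theorem Dec.of_inertia {γ : Γ} (h : γ ∈ P.inertia Γ) : Dec P γ := fun b => by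
  have h1 : γ • b - b ∈ P := h b
  constructor
  · intro h2
    have := P.sub_mem h2 h1
    rwa [sub_sub_cancel] at this
  · intro h2
    have := P.add_mem h1 h2
    rwa [sub_add_cancel] at this

theorem Dec.sub_mem {γ : Γ} (hγ : Dec P γ) {b c : B} (h : b - c ∈ P) :
    γ • b - γ • c ∈ P := by
  rw [← smul_sub]; exact (hγ _).mpr h

theorem Dec.conj_mem {δ t : Γ} (hδ : Dec P δ) (ht : t ∈ P.inertia Γ) :
    δ⁻¹ * t * δ ∈ P.inertia Γ := by
  refine AddSubgroup.mem_inertia.mpr fun b => ?_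
  show (δ⁻¹ * t * δ) • b - b ∈ P
  have h1 : t • (δ • b) - δ • b ∈ P := ht (δ • b)
  have h2 := hδ.inv.sub_mem h1
  have e : (δ⁻¹ * t * δ) • b = δ⁻¹ • t • δ • b := by rw [mul_smul, mul_smul]
  rw [inv_smul_smul] at h2
  rw [e]; exact h2

variable (Γ P) in
/-- inertia-invariants -/
abbrev BT : Subring B := FixedPoints.subring B ↥(P.inertia Γ)

variable (Γ P) in
/-- coset trace -/
noncomputable def tr [Fintype (Γ ⧸ P.inertia Γ)] (z : B) : B :=
  ∑ q : Γ ⧸ P.inertia Γ, q.out • z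

theorem out_smul {z : B} (hz : ∀ γ ∈ P.inertia Γ, γ • z = z) (γ : Γ) :
    ((QuotientGroup.mk γ : Γ ⧸ P.inertia Γ)).out • z = γ • z := by
  obtain ⟨h, hh⟩ := QuotientGroup.mk_out_eq_mul (P.inertia Γ) γ
  rw [hh, mul_smul, hz h.1 h.2]

theorem tr_inv [Fintype (Γ ⧸ P.inertia Γ)] {z : B} (hz : ∀ γ ∈ P.inertia Γ, γ • z = z)
    (γ : Γ) : γ • tr Γ P z = tr Γ P z := by
  unfold tr
  rw [Finset.smul_sum]
  have h1 : ∀ q : Γ ⧸ P.inertia Γ, γ • q.out • z = (γ • q).out • z := by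
    intro q
    rw [← MulAction.Quotient.mk_smul_out (P.inertia Γ) γ q, out_smul hz, smul_eq_mul, mul_smul]
  rw [Finset.sum_congr rfl (fun q _ => h1 q)]
  exact Equiv.sum_comp (MulAction.toPerm γ) (fun q : Γ ⧸ P.inertia Γ => q.out • z)

theorem exists_e [P.IsMaximal] (γ : Γ) : ∃ e : B, e - 1 ∈ P ∧ (¬ Dec P γ → γ • e ∈ P) := by
  by_cases hγ : Dec P γ
  · exact ⟨1, by rw [sub_self]; exact P.zero_mem, fun h => absurd hγ h⟩
  · obtain ⟨b, hb⟩ := not_forall.mp hγ
    by_cases h1 : b ∈ P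
    · have h2 : γ • b ∉ P := fun h2 => hb ⟨fun _ => h1, fun _ => h2⟩
      obtain ⟨c, i, hi, hci⟩ := Ideal.IsMaximal.exists_inv ‹P.IsMaximal› h2
      refine ⟨1 - (γ⁻¹ • c) * b, ?_, fun _ => ?_⟩
      · have : 1 - (γ⁻¹ • c) * b - 1 = -((γ⁻¹ • c) * b) := by ring
        rw [this]; exact P.neg_mem (P.mul_mem_left _ h1)
      · rw [smul_sub, smul_one, smul_mul', smul_inv_smul]
        have : 1 - c * γ • b = i := by rw [← hci]; ring
        rw [this]; exact hi
    · have h2 : γ • b ∈ P := by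
        by_contra h2
        exact hb ⟨fun h => absurd h h2, fun h => absurd h h1⟩
      obtain ⟨c, i, hi, hci⟩ := Ideal.IsMaximal.exists_inv ‹P.IsMaximal› h1
      refine ⟨c * b, ?_, fun _ => ?_⟩
      · have : c * b - 1 = -i := by rw [← hci]; ring
        rw [this]; exact P.neg_mem hi
      · rw [smul_mul']; exact P.mul_mem_left _ h2

theorem exists_a [Finite Γ] [P.IsMaximal] : ∃ a : B, a - 1 ∈ P ∧
    (∀ γ ∈ P.inertia Γ, γ • a = a) ∧ ∀ γ : Γ, ¬ Dec P γ → γ • a ∈ P := by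
  classical
  cases nonempty_fintype Γ
  choose e he1 he2 using (fun γ : Γ => exists_e (P := P) γ)
  obtain ⟨a0, ha0⟩ : ∃ a0, a0 = ∏ γ : Γ, e γ := ⟨_, rfl⟩
  have h01 : a0 - 1 ∈ P := by
    rw [← Ideal.Quotient.eq, ha0, map_prod, map_one]
    apply Finset.prod_eq_one
    intro γ _
    rw [← map_one (Ideal.Quotient.mk P)]; exact Ideal.Quotient.eq.mpr (he1 γ)
  have h02 : ∀ γ : Γ, ¬ Dec P γ → γ • a0 ∈ P := by
    intro γ hγ
    rw [ha0, ← Finset.mul_prod_erase Finset.univ e (Finset.mem_univ γ), smul_mul']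
    exact P.mul_mem_right _ (he2 γ hγ)
  haveI : Fintype ↥(P.inertia Γ) := Fintype.ofFinite _
  have hsm : ∀ γ : Γ, γ • (∏ t : ↥(P.inertia Γ), (t : Γ) • a0)
      = ∏ t : ↥(P.inertia Γ), γ • (t : Γ) • a0 := fun γ =>
    map_prod (MulSemiringAction.toRingHom Γ B γ) _ _
  refine ⟨∏ t : ↥(P.inertia Γ), (t : Γ) • a0, ?_, ?_, ?_⟩
  · rw [← Ideal.Quotient.eq, map_prod, map_one]
    apply Finset.prod_eq_one
    intro t _
    rw [← map_one (Ideal.Quotient.mk P)]
    apply Ideal.Quotient.eq.mpr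
    have := (Dec.of_inertia t.2).sub_mem h01
    rwa [smul_one] at this
  · intro γ hγ
    have h2 : ∏ t : ↥(P.inertia Γ), ((⟨γ, hγ⟩ * t : ↥(P.inertia Γ)) : Γ) • a0
        = ∏ t : ↥(P.inertia Γ), (t : Γ) • a0 :=
      Equiv.prod_comp (Equiv.mulLeft (⟨γ, hγ⟩ : ↥(P.inertia Γ))) (fun t => (t : Γ) • a0)
    rw [hsm, ← h2]
    apply Finset.prod_congr rfl
    intro t _
    rw [Subgroup.coe_mul, mul_smul]
  · intro γ hγ
    rw [hsm, ← Finset.mul_prod_erase Finset.univ _ (Finset.mem_univ (1 : ↥(P.inertia Γ)))]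
    apply P.mul_mem_right
    rw [Subgroup.coe_one, one_smul]
    exact h02 γ hγ

theorem mem_inertia_of_fix [Finite Γ] [P.IsMaximal] {σ : Γ}
    (hfix : ∀ w : B, (∀ γ ∈ P.inertia Γ, γ • w = w) → σ • w - w ∈ P) :
    σ ∈ P.inertia Γ := by
  classical
  haveI : Fintype ↥(P.inertia Γ) := Fintype.ofFinite _
  letI : Field (B ⧸ P) := Ideal.Quotient.field P
  refine AddSubgroup.mem_inertia.mpr fun b => ?_
  show σ • b - b ∈ P
  obtain ⟨f, hf⟩ : ∃ f, f = MulSemiringAction.charpoly ↥(P.inertia Γ) b := ⟨_, rfl⟩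
  have hcoef : ∀ n, σ • f.coeff n - f.coeff n ∈ P := by
    intro n
    apply hfix
    intro γ hγ
    rw [hf]
    exact MulSemiringAction.smul_coeff_charpoly b n (⟨γ, hγ⟩ : ↥(P.inertia Γ))
  have hmap : (f.map (MulSemiringAction.toRingHom Γ B σ)).map (Ideal.Quotient.mk P)
      = f.map (Ideal.Quotient.mk P) := by
    ext n
    rw [coeff_map, coeff_map, coeff_map]
    exact Ideal.Quotient.eq.mpr (hcoef n)
  have hL : ((f.map (MulSemiringAction.toRingHom Γ B σ)).map (Ideal.Quotient.mk P)).eval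
      (Ideal.Quotient.mk P (σ • b)) = 0 := by
    rw [hf, MulSemiringAction.charpoly_eq, Polynomial.map_prod, Polynomial.map_prod, eval_prod]
    apply Finset.prod_eq_zero (Finset.mem_univ (1 : ↥(P.inertia Γ)))
    simp only [Polynomial.map_sub, map_X, map_C, eval_sub, eval_X, eval_C,
      MulSemiringAction.toRingHom_apply, one_smul, sub_self]
  have hR : (f.map (Ideal.Quotient.mk P)).eval (Ideal.Quotient.mk P (σ • b))
      = (Ideal.Quotient.mk P (σ • b) - Ideal.Quotient.mk P b) ^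
        Fintype.card ↥(P.inertia Γ) := by
    rw [hf, MulSemiringAction.charpoly_eq, Polynomial.map_prod, eval_prod,
      ← Finset.card_univ, ← Finset.prod_const]
    apply Finset.prod_congr rfl
    intro t _
    rw [Polynomial.map_sub, map_X, map_C, eval_sub, eval_X, eval_C]
    congr 1
    exact Ideal.Quotient.eq.mpr (t.2 b)
  rw [hmap, hR] at hL
  have := (pow_eq_zero_iff (Fintype.card_ne_zero)).mp hL
  exact Ideal.Quotient.eq.mp (sub_eq_zero.mp this)

variable (Γ P) in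
/-- cosets inside the decomposition group -/
noncomputable def FD [Fintype (Γ ⧸ P.inertia Γ)] : Finset (Γ ⧸ P.inertia Γ) :=
  haveI := Classical.decPred (fun q : Γ ⧸ P.inertia Γ => Dec P q.out)
  Finset.univ.filter (fun q => Dec P q.out)

theorem mem_FD [Fintype (Γ ⧸ P.inertia Γ)] (q : Γ ⧸ P.inertia Γ) :
    q ∈ FD Γ P ↔ Dec P q.out := by
  classical
  unfold FD
  rw [Finset.mem_filter]
  exact ⟨fun h => h.2, fun h => ⟨Finset.mem_univ _, h⟩⟩

theorem exists_w0 [Finite Γ] [P.IsMaximal] [Fintype (Γ ⧸ P.inertia Γ)] :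
    ∃ w0 : B, (∀ γ ∈ P.inertia Γ, γ • w0 = w0) ∧
      ∑ q ∈ FD Γ P, Ideal.Quotient.mk P (q.out • w0) ≠ 0 := by
  classical
  letI : Field (B ⧸ P) := Ideal.Quotient.field P
  obtain ⟨χ, hχ⟩ : ∃ χ : Γ → (↥(BT Γ P) →* B ⧸ P),
      ∀ γ w, χ γ w = Ideal.Quotient.mk P (γ • (w : B)) :=
    ⟨fun γ => (((Ideal.Quotient.mk P).comp ((MulSemiringAction.toRingHom Γ B γ).comp
      (BT Γ P).subtype)) : ↥(BT Γ P) →* B ⧸ P), fun γ w => rfl⟩
  have hinj : ∀ q ∈ FD Γ P, ∀ q' ∈ FD Γ P, χ q.out = χ q'.out → q = q' := by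
    intro q hq q' hq' h
    have hq1 := (mem_FD q).mp hq
    have hσ : q.out⁻¹ * q'.out ∈ P.inertia Γ := by
      apply mem_inertia_of_fix
      intro w hw
      have h1 := DFunLike.congr_fun h (⟨w, fun t => hw t.1 t.2⟩ : ↥(BT Γ P))
      rw [hχ, hχ] at h1
      have h2 : q.out • w - q'.out • w ∈ P := Ideal.Quotient.eq.mp h1
      have h3 := hq1.inv.sub_mem h2
      rw [inv_smul_smul, ← mul_smul] at h3
      have := P.neg_mem h3
      rwa [neg_sub] at this
    calc q = QuotientGroup.mk q.out := (QuotientGroup.out_eq' q).symm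
      _ = QuotientGroup.mk q'.out := QuotientGroup.eq.mpr hσ
      _ = q' := QuotientGroup.out_eq' q'
  have hli := linearIndependent_monoidHom ↥(BT Γ P) (B ⧸ P)
  rw [linearIndependent_iff'] at hli
  by_contra hall
  push_neg at hall
  have h1mem : (QuotientGroup.mk (1 : Γ) : Γ ⧸ P.inertia Γ) ∈ FD Γ P := by
    rw [mem_FD]
    obtain ⟨t, ht⟩ := QuotientGroup.mk_out_eq_mul (P.inertia Γ) (1 : Γ)
    rw [ht, one_mul]
    exact Dec.of_inertia t.2
  have hzero : ∑ f ∈ (FD Γ P).image (fun q => χ q.out),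
      (fun _ : ↥(BT Γ P) →* B ⧸ P => (1 : B ⧸ P)) f • ((f : ↥(BT Γ P) →* B ⧸ P) :
        ↥(BT Γ P) → B ⧸ P) = 0 := by
    funext w
    rw [Finset.sum_apply, Finset.sum_image hinj]
    simp only [Pi.smul_apply, smul_eq_mul, one_mul, Pi.zero_apply]
    have := hall w.1 (fun γ hγ => w.2 ⟨γ, hγ⟩)
    rw [← this]
    apply Finset.sum_congr rfl
    intro q _
    exact hχ _ _
  have := hli ((FD Γ P).image (fun q => χ q.out)) (fun _ => 1) hzero
    (χ (QuotientGroup.mk (1 : Γ) : Γ ⧸ P.inertia Γ).out)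
    (Finset.mem_image.mpr ⟨_, h1mem, rfl⟩)
  exact one_ne_zero this

theorem exists_inv_invariant [Finite Γ] [P.IsMaximal] (a1 : B) (hinv : ∀ γ : Γ, γ • a1 = a1)
    (hne : a1 ∉ P) : ∃ a3 : B, (∀ γ : Γ, γ • a3 = a3) ∧ a1 * a3 - 1 ∈ P := by
  have hint : (FixedPoints.subring B Γ).subtype.IsIntegral := subtype_isIntegral Γ
  haveI hmax : (P.comap (FixedPoints.subring B Γ).subtype).IsMaximal :=
    Ideal.isMaximal_comap_of_isIntegral_of_isMaximal' _ hint P
  have hx : (⟨a1, hinv⟩ : ↥(FixedPoints.subring B Γ)) ∉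
      P.comap (FixedPoints.subring B Γ).subtype := fun h => hne h
  obtain ⟨y, i, hi, hyi⟩ := Ideal.IsMaximal.exists_inv hmax hx
  refine ⟨y.1, fun γ => y.2 γ, ?_⟩
  have h1 := congrArg Subtype.val hyi
  have h2 : y.1 * a1 + i.1 = 1 := h1
  have : a1 * y.1 - 1 = -i.1 := by rw [← h2]; ring
  rw [this]
  exact P.neg_mem hi

theorem claim [Finite Γ] [P.IsMaximal] (c : B) (hcT : ∀ γ ∈ P.inertia Γ, γ • c = c)
    (hcD : ∀ δ : Γ, Dec P δ → δ • c - c ∈ P) :
    ∃ c' : B, (∀ γ : Γ, γ • c' = c') ∧ c' - c ∈ P := by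
  classical
  haveI : Fintype (Γ ⧸ P.inertia Γ) := Fintype.ofFinite _
  obtain ⟨a, ha1, haT, haD⟩ := exists_a (P := P) (Γ := Γ)
  obtain ⟨w0, hw0T, hw0⟩ := exists_w0 (P := P) (Γ := Γ)
  have key : ∀ w : B, Ideal.Quotient.mk P (tr Γ P (a * w))
      = ∑ q ∈ FD Γ P, Ideal.Quotient.mk P (q.out • w) := by
    intro w
    unfold tr
    rw [map_sum]
    have h0 : ∀ q ∈ (Finset.univ : Finset (Γ ⧸ P.inertia Γ)), q ∉ FD Γ P →
        Ideal.Quotient.mk P (q.out • (a * w)) = 0 := by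
      intro q _ hq
      rw [mem_FD] at hq
      rw [smul_mul', map_mul, Ideal.Quotient.eq_zero_iff_mem.mpr (haD _ hq), zero_mul]
    rw [← Finset.sum_subset (Finset.subset_univ (FD Γ P)) h0]
    apply Finset.sum_congr rfl
    intro q hq
    rw [mem_FD] at hq
    have h1 : Ideal.Quotient.mk P (q.out • a) = 1 := by
      rw [← map_one (Ideal.Quotient.mk P)]
      apply Ideal.Quotient.eq.mpr
      have := hq.sub_mem ha1
      rwa [smul_one] at this
    rw [smul_mul', map_mul, h1, one_mul]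
  have haw0 : ∀ γ ∈ P.inertia Γ, γ • (a * w0) = a * w0 := fun γ hγ => by
    rw [smul_mul', haT γ hγ, hw0T γ hγ]
  have hawc : ∀ γ ∈ P.inertia Γ, γ • (a * (w0 * c)) = a * (w0 * c) := fun γ hγ => by
    rw [smul_mul', smul_mul', haT γ hγ, hw0T γ hγ, hcT γ hγ]
  obtain ⟨a1, ha1def⟩ : ∃ a1, a1 = tr Γ P (a * w0) := ⟨_, rfl⟩
  obtain ⟨a2, ha2def⟩ : ∃ a2, a2 = tr Γ P (a * (w0 * c)) := ⟨_, rfl⟩
  have h1 : Ideal.Quotient.mk P a1 = ∑ q ∈ FD Γ P, Ideal.Quotient.mk P (q.out • w0) := by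
    rw [ha1def]; exact key w0
  have h2 : Ideal.Quotient.mk P a2
      = (∑ q ∈ FD Γ P, Ideal.Quotient.mk P (q.out • w0)) * Ideal.Quotient.mk P c := by
    rw [ha2def, key (w0 * c), Finset.sum_mul]
    apply Finset.sum_congr rfl
    intro q hq
    rw [mem_FD] at hq
    rw [smul_mul', map_mul]
    congr 1
    exact Ideal.Quotient.eq.mpr (hcD _ hq)
  have ha1inv : ∀ γ : Γ, γ • a1 = a1 := fun γ => by rw [ha1def]; exact tr_inv haw0 γ
  have ha2inv : ∀ γ : Γ, γ • a2 = a2 := fun γ => by rw [ha2def]; exact tr_inv hawc γ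
  have ha1ne : a1 ∉ P := fun h => hw0 (by rw [← h1]; exact Ideal.Quotient.eq_zero_iff_mem.mpr h)
  obtain ⟨a3, ha3inv, ha3⟩ := exists_inv_invariant a1 ha1inv ha1ne
  refine ⟨a2 * a3, fun γ => by rw [smul_mul', ha2inv γ, ha3inv γ], ?_⟩
  have h3 : Ideal.Quotient.mk P a1 * Ideal.Quotient.mk P a3 = 1 := by
    rw [← map_mul, ← map_one (Ideal.Quotient.mk P)]; exact Ideal.Quotient.eq.mpr ha3
  apply Ideal.Quotient.eq.mp
  rw [map_mul, h2, ← h1]
  calc Ideal.Quotient.mk P a1 * Ideal.Quotient.mk P c * Ideal.Quotient.mk P a3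
      = Ideal.Quotient.mk P c * (Ideal.Quotient.mk P a1 * Ideal.Quotient.mk P a3) := by ring
    _ = Ideal.Quotient.mk P c := by rw [h3, mul_one]

theorem forward [Finite Γ] [P.IsMaximal] (y : B) (hy : ∀ γ ∈ P.inertia Γ, γ • y = y) :
    ∃ g : B[X], (∀ (i : ℕ) (γ : Γ), γ • g.coeff i = g.coeff i) ∧
      (g.map (Ideal.Quotient.mk P)).Separable ∧
      (g.map (Ideal.Quotient.mk P)).eval (Ideal.Quotient.mk P y) = 0 := by
  classical
  cases nonempty_fintype Γ
  letI : Field (B ⧸ P) := Ideal.Quotient.field P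
  obtain ⟨S, hS⟩ : ∃ S : Finset (B ⧸ P), S = (Finset.univ.filter (fun γ : Γ => Dec P γ)).image
      (fun γ => Ideal.Quotient.mk P (γ • y)) := ⟨_, rfl⟩
  have hSmem : ∀ s, s ∈ S ↔ ∃ γ : Γ, Dec P γ ∧ Ideal.Quotient.mk P (γ • y) = s := by
    intro s
    rw [hS, Finset.mem_image]
    constructor
    · rintro ⟨γ, hγ, rfl⟩
      exact ⟨γ, (Finset.mem_filter.mp hγ).2, rfl⟩
    · rintro ⟨γ, hγ, rfl⟩
      exact ⟨γ, Finset.mem_filter.mpr ⟨Finset.mem_univ _, hγ⟩, rfl⟩
  obtain ⟨h, hh⟩ : ∃ h : (B ⧸ P)[X], h = ∏ s ∈ S, (X - C s) := ⟨_, rfl⟩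
  have hsep : h.Separable := by
    rw [hh]; exact separable_prod_X_sub_C_iff'.mpr (fun x _ y _ hxy => hxy)
  have hroot : h.eval (Ideal.Quotient.mk P y) = 0 := by
    rw [hh, eval_prod]
    apply Finset.prod_eq_zero ((hSmem _).mpr ⟨1, Dec.one, by rw [one_smul]⟩)
    rw [eval_sub, eval_X, eval_C, sub_self]
  obtain ⟨ψ, hψ⟩ : ∃ ψ : ↥(BT Γ P) →+* B ⧸ P,
      ψ = (Ideal.Quotient.mk P).comp (BT Γ P).subtype := ⟨_, rfl⟩
  have hlift : h ∈ Polynomial.lifts ψ := by
    rw [hh]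
    apply prod_mem
    intro s hs
    obtain ⟨γ, hγ, rfl⟩ := (hSmem s).mp hs
    have hmem : γ • y ∈ BT Γ P := by
      show ∀ t : ↥(P.inertia Γ), t • (γ • y) = γ • y
      intro t
      show (t : Γ) • γ • y = γ • y
      have h3 := hy _ (hγ.conj_mem t.2)
      rw [mul_smul, mul_smul] at h3
      calc (t : Γ) • γ • y = γ • γ⁻¹ • (t : Γ) • γ • y := (smul_inv_smul γ _).symm
        _ = γ • y := by rw [h3]
    have h4 : X - C (Ideal.Quotient.mk P (γ • y))
        = X + C (ψ (-(⟨γ • y, hmem⟩ : ↥(BT Γ P)))) := by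
      rw [map_neg, C_neg, ← sub_eq_add_neg, hψ]; rfl
    rw [h4]
    exact add_mem (Polynomial.X_mem_lifts ψ) (Polynomial.C_mem_lifts ψ _)
  rw [Polynomial.lifts_iff_coeff_lifts] at hlift
  have hDinv : ∀ δ : Γ, Dec P δ → ∀ (n : ℕ) (c : B),
      Ideal.Quotient.mk P c = h.coeff n → δ • c - c ∈ P := by
    intro δ hδ n c hc
    obtain ⟨δb, hδb⟩ : ∃ δb : B ⧸ P →+* B ⧸ P,
        ∀ b, δb (Ideal.Quotient.mk P b) = Ideal.Quotient.mk P (δ • b) :=
      ⟨Ideal.Quotient.lift P ((Ideal.Quotient.mk P).comp (MulSemiringAction.toRingHom Γ B δ))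
        (fun b hb => Ideal.Quotient.eq_zero_iff_mem.mpr ((hδ b).mpr hb)),
        fun b => Ideal.Quotient.lift_mk _ _ _⟩
    have hinj : Function.Injective δb := δb.injective
    have himg : S.image δb = S := by
      apply Finset.eq_of_subset_of_card_le
      · intro s hs
        obtain ⟨s', hs', rfl⟩ := Finset.mem_image.mp hs
        obtain ⟨γ, hγ, rfl⟩ := (hSmem s').mp hs'
        rw [hδb, ← mul_smul]
        exact (hSmem _).mpr ⟨δ * γ, hδ.mul hγ, rfl⟩
      · rw [Finset.card_image_of_injective _ hinj]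
    have hmap : h.map δb = h := by
      rw [hh, Polynomial.map_prod]
      conv_rhs => rw [← himg]
      rw [Finset.prod_image (fun a _ b _ hab => hinj hab)]
      apply Finset.prod_congr rfl
      intro s _
      rw [Polynomial.map_sub, map_X, map_C]
    have h5 := congrArg (fun p => p.coeff n) hmap
    simp only [coeff_map] at h5
    rw [← hc, hδb] at h5
    exact Ideal.Quotient.eq.mp h5
  have hliftA : h ∈ Polynomial.lifts
      ((Ideal.Quotient.mk P).comp (FixedPoints.subring B Γ).subtype) := by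
    rw [Polynomial.lifts_iff_coeff_lifts]
    intro n
    obtain ⟨c, hc⟩ := hlift n
    have hc' : Ideal.Quotient.mk P (c : B) = h.coeff n := by rw [← hc, hψ]; rfl
    obtain ⟨c', hc'inv, hc'c⟩ := claim (P := P) (c : B) (fun γ hγ => c.2 ⟨γ, hγ⟩)
      (fun δ hδ => hDinv δ hδ n c hc')
    refine ⟨⟨c', hc'inv⟩, ?_⟩
    show Ideal.Quotient.mk P c' = h.coeff n
    rw [← hc']; exact Ideal.Quotient.eq.mpr hc'c
  obtain ⟨gA, hgA⟩ := (Polynomial.mem_lifts _).mp hliftA
  refine ⟨gA.map (FixedPoints.subring B Γ).subtype, ?_, ?_, ?_⟩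
  · intro i γ
    rw [coeff_map]
    exact (gA.coeff i).2 γ
  · rw [Polynomial.map_map, hgA]; exact hsep
  · rw [Polynomial.map_map, hgA]; exact hroot

theorem backward [Finite Γ] [P.IsMaximal] (x : B) (g : B[X])
    (hginv : ∀ (i : ℕ) (γ : Γ), γ • g.coeff i = g.coeff i)
    (hsep : (g.map (Ideal.Quotient.mk P)).Separable)
    (hroot : (g.map (Ideal.Quotient.mk P)).eval (Ideal.Quotient.mk P x) = 0) :
    ∃ y : B, (∀ γ ∈ P.inertia Γ, γ • y = y) ∧ x - y ∈ P := by
  classical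
  haveI : Fintype ↥(P.inertia Γ) := Fintype.ofFinite _
  letI : Field (B ⧸ P) := Ideal.Quotient.field P
  have hint : (BT Γ P).subtype.IsIntegral := subtype_isIntegral ↥(P.inertia Γ)
  haveI hmax : (P.comap (BT Γ P).subtype).IsMaximal :=
    Ideal.isMaximal_comap_of_isIntegral_of_isMaximal' _ hint P
  letI : Field (↥(BT Γ P) ⧸ P.comap (BT Γ P).subtype) := Ideal.Quotient.field _
  obtain ⟨φ, hφ⟩ : ∃ φ : (↥(BT Γ P) ⧸ P.comap (BT Γ P).subtype) →+* B ⧸ P,
      φ.comp (Ideal.Quotient.mk _) = (Ideal.Quotient.mk P).comp (BT Γ P).subtype :=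
    ⟨Ideal.quotientMap P (BT Γ P).subtype le_rfl, Ideal.quotientMap_comp_mk le_rfl⟩
  have hgl : g ∈ Polynomial.lifts (BT Γ P).subtype := by
    rw [Polynomial.lifts_iff_coeff_lifts]
    intro n
    exact ⟨⟨g.coeff n, fun t => hginv n t⟩, rfl⟩
  obtain ⟨gT, hgT⟩ := (Polynomial.mem_lifts _).mp hgl
  have hfl : MulSemiringAction.charpoly ↥(P.inertia Γ) x ∈
      Polynomial.lifts (BT Γ P).subtype := by
    rw [Polynomial.lifts_iff_coeff_lifts]
    intro n
    exact ⟨⟨_, fun t => MulSemiringAction.smul_coeff_charpoly x n t⟩, rfl⟩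
  obtain ⟨fT, hfT⟩ := (Polynomial.mem_lifts _).mp hfl
  have hcomp : ∀ r : (↥(BT Γ P))[X],
      (r.map (Ideal.Quotient.mk (P.comap (BT Γ P).subtype))).map φ
        = (r.map (BT Γ P).subtype).map (Ideal.Quotient.mk P) := by
    intro r; rw [Polynomial.map_map, Polynomial.map_map, hφ]
  have hfmap : (MulSemiringAction.charpoly ↥(P.inertia Γ) x).map (Ideal.Quotient.mk P)
      = (X - C (Ideal.Quotient.mk P x)) ^ Fintype.card ↥(P.inertia Γ) := by
    rw [MulSemiringAction.charpoly_eq, Polynomial.map_prod, ← Finset.card_univ,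
      ← Finset.prod_const]
    apply Finset.prod_congr rfl
    intro t _
    rw [Polynomial.map_sub, map_X, map_C]
    congr 2
    exact Ideal.Quotient.eq.mpr (t.2 x)
  obtain ⟨k, hk⟩ := fld φ (Ideal.Quotient.mk P x) (Fintype.card ↥(P.inertia Γ))
    (gT.map (Ideal.Quotient.mk _)) (fT.map (Ideal.Quotient.mk _))
    (by rw [hcomp, hgT]; exact hsep) (by rw [hcomp, hgT]; exact hroot)
    (by rw [hcomp, hfT, hfmap]) Fintype.card_ne_zero
  obtain ⟨y, rfl⟩ := Ideal.Quotient.mk_surjective k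
  refine ⟨y.1, fun γ hγ => y.2 ⟨γ, hγ⟩, ?_⟩
  apply Ideal.Quotient.eq.mp
  rw [← hk]
  exact RingHom.congr_fun hφ y

end Main


/-- Let `B` be a commutative ring with an action of a finite group `Γ` by ring automorphisms, `P` a
maximal ideal of `B`, `T = {γ | γ x - x ∈ P for all x}` its inertia group, `B^T` the inertia ring
and `B^Γ` the ring of invariants, so that `k(P ∩ B^Γ) ⊆ k(P ∩ B^T) ⊆ k(P) = B/P`. Then `k(P ∩ B^T)`
is the largest separable extension of `k(P ∩ B^Γ)` inside `k(P)`: an element `x` of `B` is congruent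
modulo `P` to a `T`-invariant element if and only if `x mod P` is a root of some polynomial with
`Γ`-invariant coefficients whose reduction modulo `P` is separable. (The published statement is for
every prime ideal `P`, as an equality of residue fields; this row takes `P` maximal, the case to
which the published proof reduces by localising at `P ∩ B^Γ`.) -/
theorem result
    (B : Type u) [CommRing B] (Γ : Type v) [Group Γ] [Finite Γ] [MulSemiringAction Γ B]
    (P : Ideal B) [P.IsMaximal] (x : B) :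
    (∃ y : B, (∀ γ : Γ, γ ∈ P.inertia Γ → γ • y = y) ∧ x - y ∈ P) ↔
      ∃ g : Polynomial B, (∀ (i : ℕ) (γ : Γ), γ • g.coeff i = g.coeff i) ∧
        (g.map (Ideal.Quotient.mk P)).Separable ∧ Polynomial.aeval x g ∈ P := by
  have hev : ∀ (g : Polynomial B) (z : B), Ideal.Quotient.mk P (Polynomial.aeval z g)
      = (g.map (Ideal.Quotient.mk P)).eval (Ideal.Quotient.mk P z) := by
    intro g z
    rw [Polynomial.coe_aeval_eq_eval, Polynomial.eval_map, Polynomial.eval₂_at_apply]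
  constructor
  · rintro ⟨y, hy, hxy⟩
    obtain ⟨g, hg1, hg2, hg3⟩ := forward (P := P) y hy
    refine ⟨g, hg1, hg2, ?_⟩
    apply Ideal.Quotient.eq_zero_iff_mem.mp
    rw [hev, Ideal.Quotient.eq.mpr hxy]
    exact hg3
  · rintro ⟨g, hg1, hg2, hg3⟩
    apply backward (P := P) x g hg1 hg2
    rw [← hev]
    exact Ideal.Quotient.eq_zero_iff_mem.mpr hg3


end Groth.Agent.S12937
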