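import Groth.Statements.S12946
import Mathlib

set_option autoImplicit false
universe u
open CategoryTheory AlgebraicGeometry
open AlgSt

namespace Groth.Agent.S12946

theorem lqf_of_unramified {X Y : Scheme.{u}} (h : X ⟶ Y) [LocallyOfFiniteType h]
    [FormallyUnramified h] : LocallyQuasiFinite h := by
  rw [HasRingHomProperty.iff_appLE (P := @LocallyQuasiFinite)]
  intro U V e
  have h1 : (h.appLE U.1 V.1 e).hom.FiniteType :=
    (HasRingHomProperty.iff_appLE (P := @LocallyOfFiniteType)).1 inferInstance U V e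
  have h2 : (h.appLE U.1 V.1 e).hom.FormallyUnramified :=
    (HasRingHomProperty.iff_appLE (P := @FormallyUnramified)).1 inferInstance U V e
  generalize (h.appLE U.1 V.1 e).hom = φ at h1 h2
  algebraize [φ]
  have : Algebra.FiniteType _ _ := h1
  have : Algebra.FormallyUnramified _ _ := h2
  show Algebra.QuasiFinite _ _
  infer_instance

/-- A DM morphism of algebraic stacks is quasi-DM (an unramified morphism of algebraic spaces being
locally quasi-finite). -/
theorem result
    (S : Scheme.{u}) (𝒳 : AlgSt.Cat S) (𝒴 : AlgSt.Cat S)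
    (h𝒳 : AlgSt.IsAlgStack Scheme.fppfPrecoverage 𝒳)
    (h𝒴 : AlgSt.IsAlgStack Scheme.fppfPrecoverage 𝒴)
    (f : 𝒳 ⥤ᵇ 𝒴) :
    AlgSt.IsDMMor f → AlgSt.IsQuasiDMMor f := by
  intro hf U y
  obtain ⟨F, e, he, hP⟩ := hf U y
  refine ⟨F, e, he, ?_⟩
  intro U' V' a b h ha hb hab
  have := hP a b h ha hb hab
  have h1 : LocallyOfFiniteType h.left := this.1
  have h2 : FormallyUnramified h.left := this.2
  exact ⟨lqf_of_unramified h.left, h1⟩

end Groth.Agent.S12946
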