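import Groth.Statements.S1296
import Groth.Agent.Lib.Helper26.Purity14

set_option autoImplicit false
set_option linter.style.haveILetI false
universe u
open FlatMor

namespace Groth.Agent.S1296

/-- Ring form, X = Spec B affine, T = Spec A' with A' the colimit of a directed system of A-algebras
A'_i: let B be a finite type A-algebra, N a finite B-module, p a prime of A, and suppose given an
impurity of N above p with base change ring A' and points t' ⊆ t. Then for some index i there is an
impurity of N above p whose base change ring is A'_i (up to an A-isomorphism) and whose point t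
corresponds to the contraction of t to A'_i. -/
theorem result {A B : Type u} [CommRing A] [CommRing B] [Algebra A B] [Algebra.FiniteType A B]
    (N : Type u) [AddCommGroup N] [Module B N] [Module.Finite B N] (p : Ideal A) [p.IsPrime]
    {ι : Type u} [Preorder ι] (G : ι → Type u) [∀ i, CommRing (G i)] [∀ i, Algebra A (G i)]
    (g : ∀ i j, i ≤ j → G i →ₐ[A] G j)
    (A' : Type u) [CommRing A'] [Algebra A A'] [∀ i, Algebra (G i) A'] [∀ i, IsScalarTower A (G i) A']
    (hcolim : FlatCA.IsDirectedColimitRing G (fun i j h => (g i j h).toRingHom) A')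
    (B' N' : Type u) [CommRing B'] [Algebra B B'] [Algebra A' B'] [Algebra A B'] [IsScalarTower A B B'] [IsScalarTower A A' B']
    [AddCommGroup N'] [Module B' N'] [Module B N'] [IsScalarTower B B' N'] [Module A' N'] [IsScalarTower A' B' N']
    (f : N →ₗ[B] N') (t' t : Ideal A') [t'.IsPrime] [t.IsPrime] (P : Ideal B') [P.IsPrime]
    (himp : FlatCA.IsImpurity A B N p A' B' N' f t' t P) :
    ∃ i : ι, FlatCA.HasImpurity A B N p (fun A'' _ _ t'' => ∃ e : A'' ≃ₐ[A] G i, t''.map e = t.comap (algebraMap (G i) A')) := by
  classical
  letI := fun i => Algebra.TensorProduct.rightAlgebra (R := A) (A := G i) (B := B)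
  obtain ⟨hdir, hne, hid, hcomp, hcompat, hsurj, hker⟩ := hcolim
  let φ : ∀ i, G i →ₐ[A] A' := fun i => IsScalarTower.toAlgHom A (G i) A'
  have hφ : ∀ i j (h : i ≤ j), (φ j).comp (g i j h) = φ i := by
    intro i j h
    ext x
    exact congrArg (fun r : G i →+* A' => r x) (hcompat i j h)
  obtain ⟨i, hi⟩ := Groth.Agent.Lib.helper26.Purity.exists_stage_isImpurity N p A' B' N' f t' t P
    himp G φ
    (fun i j => by
      obtain ⟨k, hik, hjk⟩ := hdir.directed i j
      exact ⟨k, g i k hik, g j k hjk, hφ i k hik, hφ j k hjk⟩)
    (fun i x hx => by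
      obtain ⟨j, hij, h0⟩ := hker i x hx
      exact ⟨j, g i j hij, hφ i j hij, h0⟩)
    (fun b => hsurj b)
  refine ⟨i, G i, TensorProduct A (G i) B, TensorProduct B (TensorProduct A (G i) B) N,
    inferInstance, inferInstance, inferInstance, inferInstance,
    inferInstance, inferInstance, inferInstance, inferInstance, inferInstance, inferInstance,
    inferInstance, inferInstance, inferInstance, inferInstance, _, _, _, inferInstance,
    inferInstance, _, inferInstance, hi, AlgEquiv.refl, ?_⟩
  ext x
  constructor
  · intro hx
    rw [Ideal.mem_map_iff_of_surjective _ (AlgEquiv.refl (R := A) (A₁ := G i)).surjective] at hx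
    obtain ⟨y, hy, rfl⟩ := hx
    exact hy
  · intro hx
    exact Ideal.mem_map_of_mem (AlgEquiv.refl (R := A) (A₁ := G i)) hx

end Groth.Agent.S1296
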