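import Groth.Statements.S12979
import Mathlib
import Groth.Agent.Lib.Helper4.AlgStDiagLFT
import Groth.Agent.S9925

set_option autoImplicit false
universe u
open CategoryTheory AlgebraicGeometry
open AlgSt

namespace Groth.Agent.S12979

/-- If the first and second diagonals of a morphism f of algebraic stacks are both universally closed
(as morphisms representable by algebraic spaces), then f is separated. (The published statement is
an equivalence; this row states the implication from the two diagonals to separatedness.) -/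
theorem result
    (S : Scheme.{u}) (𝒳 : AlgSt.Cat S) (𝒴 : AlgSt.Cat S)
    (h𝒳 : AlgSt.IsAlgStack Scheme.fppfPrecoverage 𝒳)
    (h𝒴 : AlgSt.IsAlgStack Scheme.fppfPrecoverage 𝒴)
    (f : 𝒳 ⥤ᵇ 𝒴) :
    AlgSt.RepByAlgSpWith AlgSp.IsUnivClosedMor (FibCat.diag f) →
      AlgSt.RepByAlgSpWith AlgSp.IsUnivClosedMor (FibCat.diag (FibCat.diag f)) → AlgSt.IsSeparatedMor f := by
  intro h1 h2
  have hg : AlgSt.RepByAlgSp1 (FibCat.diag f) :=
    Groth.Agent.Lib.helper4.AlgStCancel.repByAlgSp1_diag_of_isAlgStack h𝒳 h𝒴 f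
  have hsep : AlgSt.RepByAlgSpWith AlgSp.IsSeparatedMor (FibCat.diag f) :=
    ((Groth.Agent.Lib.helper4.AlgStDiagK.tfae_separated (FibCat.diag f) hg).out 3 0).1 h2
  have hlft := Groth.Agent.Lib.helper4.AlgStDiagLFT.lft_diag h𝒳 h𝒴 f
  have huc : AlgSt.RepByAlgSpWith
      (fun _ _ π => AlgSp.IsQuasiCompactMor π ∧ AlgSp.IsUnivClosedMor π) (FibCat.diag f) :=
    Groth.Agent.Lib.helper4.AlgStCancel.repByAlgSpWith_mono _ (fun F T π hπ =>
      ⟨Groth.Agent.S9925.result (X := F) (Y := ⟨(AlgSp.yon S).obj T, AlgSp.IsAlgSpace.yon_obj T⟩)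
        (ObjectProperty.homMk π) hπ, hπ⟩) h1
  have s1 := Groth.Agent.Lib.helper4.AlgStSource.repByAlgSpWith_and _
    (Groth.Agent.Lib.helper4.AlgStCoreA.isoInv_of_baseChange _
      (fun X₁ Y₁ X₂ Y₂ h1 h2 _ h4 a b a' b' sq ha =>
        Groth.Agent.Lib.helper5.LocPBC.locP_of_isPullback Groth.Agent.Lib.helper5.LocPBC.locPData_lft
          h1 h2 h4 sq ha)) huc hlft
  have s2 := Groth.Agent.Lib.helper4.AlgStSource.repByAlgSpWith_and _
    (Groth.Agent.Lib.helper4.AlgStCoreA.isoInv_of_baseChange _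
      (fun X₁ Y₁ X₂ Y₂ _ _ _ _ a b a' b' sq ha =>
        Groth.Agent.Lib.helper4.AlgStDiagK.isSeparatedMor_of_isPullback sq ha)) s1 hsep
  exact Groth.Agent.Lib.helper4.AlgStCancel.repByAlgSpWith_mono _
    (fun F T π hπ => ⟨hπ.2, ⟨hπ.1.2, hπ.1.1.1⟩, hπ.1.1.2⟩) s2

end Groth.Agent.S12979
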