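import Groth.Statements.S12980
import Mathlib
import Groth.Agent.Lib.Helper4.AlgStDiagK4

set_option autoImplicit false
universe u
open CategoryTheory AlgebraicGeometry
open AlgSt

namespace Groth.Agent.S12980

/-- A morphism f of algebraic stacks is quasi-separated if and only if its first and second diagonals
are both quasi-compact (as morphisms representable by algebraic spaces). -/
theorem result
    (S : Scheme.{u}) (𝒳 : AlgSt.Cat S) (𝒴 : AlgSt.Cat S)
    (h𝒳 : AlgSt.IsAlgStack Scheme.fppfPrecoverage 𝒳)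
    (h𝒴 : AlgSt.IsAlgStack Scheme.fppfPrecoverage 𝒴)
    (f : 𝒳 ⥤ᵇ 𝒴) :
    AlgSt.IsQuasiSeparatedMor f ↔
      AlgSt.RepByAlgSpWith AlgSp.IsQuasiCompactMor (FibCat.diag f) ∧
        AlgSt.RepByAlgSpWith AlgSp.IsQuasiCompactMor (FibCat.diag (FibCat.diag f)) := by
  have hΔ : AlgSt.RepByAlgSp1 (FibCat.diag f) :=
    Groth.Agent.Lib.helper4.AlgStCancel.repByAlgSp1_diag_of_isAlgStack h𝒳 h𝒴 f
  constructor
  · intro h
    have h1 : AlgSt.RepByAlgSpWith AlgSp.IsQuasiCompactMor (FibCat.diag f) :=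
      Groth.Agent.Lib.helper4.AlgStCancel.repByAlgSpWith_mono _ (fun F T π hπ => hπ.1) h
    have h2 : AlgSt.RepByAlgSpWith AlgSp.IsQuasiSeparatedMor (FibCat.diag f) :=
      Groth.Agent.Lib.helper4.AlgStCancel.repByAlgSpWith_mono _ (fun F T π hπ => hπ.2) h
    exact ⟨h1, Groth.Agent.Lib.helper4.AlgStDiagK.qc_diag_of_isQuasiSeparated _ h2⟩
  · rintro ⟨h1, h2⟩
    have h3 : AlgSt.RepByAlgSpWith AlgSp.IsQuasiSeparatedMor (FibCat.diag f) :=
      Groth.Agent.Lib.helper4.AlgStDiagK.isQuasiSeparated_of_qc_diag _ hΔ h2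
    exact Groth.Agent.Lib.helper4.AlgStSource.repByAlgSpWith_and _
      (Groth.Agent.Lib.helper4.AlgStCoreA.isoInv_of_baseChange _
        (fun X₁ Y₁ X₂ Y₂ _ _ _ _ a b a' b' sq ha =>
          Groth.Agent.Lib.helper4.AlgStDiagComp.isQuasiSeparatedMor_of_isPullback sq ha)) h1 h3

end Groth.Agent.S12980
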