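import Groth.Statements.S13010
import Groth.Agent.S12779
import Groth.Agent.Lib.Helper4.FibSwap
import Groth.Agent.Lib.Helper4.AlgStEquiv

set_option autoImplicit false
universe u
open CategoryTheory AlgebraicGeometry
open AlgSt

namespace Groth.Agent.S13010

/-- The base change of an affine morphism 𝒵 → 𝒴 of algebraic stacks along any morphism 𝒳 → 𝒴 of
algebraic stacks, namely the projection 𝒵 ×_𝒴 𝒳 → 𝒳, is affine (affine: representable by algebraic
spaces, and every base change to an affine scheme is an affine scheme). -/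
theorem result
    (S : Scheme.{u}) (𝒳 : AlgSt.Cat S) (𝒴 : AlgSt.Cat S)
    (h𝒳 : AlgSt.IsAlgStack Scheme.fppfPrecoverage 𝒳)
    (h𝒴 : AlgSt.IsAlgStack Scheme.fppfPrecoverage 𝒴)
    (f : 𝒳 ⥤ᵇ 𝒴)
    (𝒵 : AlgSt.Cat S)
    (h𝒵 : AlgSt.IsAlgStack Scheme.fppfPrecoverage 𝒵) (z : 𝒵 ⥤ᵇ 𝒴) :
    AlgSt.RepByAlgSpWith AlgSp.IsAffineMor z → AlgSt.RepByAlgSpWith AlgSp.IsAffineMor (FibCat.fpSnd z f) := by
  intro hz
  have h1 := Groth.Agent.S12779.result h𝒵.isStack.1 h𝒴.isStack.1 h𝒳.isStack.1 _ z f hz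
  exact (Groth.Agent.Lib.helper4.AlgStEquiv.repByAlgSpWith_iff_of_square _
    (FibCat.fpFst f z) (FibCat.fpSnd z f) (Groth.Agent.Lib.helper4.FibSwap.fpSwap z f)
    (BasedFunctor.id 𝒳) (Groth.Agent.Lib.helper4.FibSwap.fpSwap_isEquivOver z f)
    (Groth.Agent.Lib.helper4.AlgStEquiv.isEquivOver_id _) (Iso.refl _)).mp h1

end Groth.Agent.S13010
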