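import Groth.Statements.S13041
import Mathlib

set_option autoImplicit false
universe u
open MaxMod

namespace Groth.Agent.S13041

open TensorProduct in
theorem exists_smul_eq_one_tmul (R K A : Type*) [CommRing R] [IsDomain R] [Field K] [Algebra R K]
    [IsFractionRing R K] [AddCommGroup A] [Module R A] (z : K ⊗[R] A) :
    ∃ r : R, r ≠ 0 ∧ ∃ a : A, r • z = (1 : K) ⊗ₜ[R] a := by
  induction z using TensorProduct.induction_on with
  | zero => exact ⟨1, one_ne_zero, 0, by simp⟩
  | tmul k a =>
    obtain ⟨n, d, hd, rfl⟩ := IsFractionRing.div_surjective (A := R) k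
    refine ⟨d, nonZeroDivisors.ne_zero hd, n • a, ?_⟩
    rw [TensorProduct.smul_tmul', TensorProduct.tmul_smul, TensorProduct.smul_tmul']
    congr 1
    rw [Algebra.smul_def, Algebra.smul_def, mul_one]
    have : algebraMap R K d ≠ 0 := by
      intro h
      exact nonZeroDivisors.ne_zero hd
        ((IsFractionRing.injective R K) (by rw [h, map_zero]))
    field_simp
  | add z₁ z₂ h₁ h₂ =>
    obtain ⟨r₁, hr₁, a₁, h₁⟩ := h₁
    obtain ⟨r₂, hr₂, a₂, h₂⟩ := h₂
    refine ⟨r₁ * r₂, mul_ne_zero hr₁ hr₂, r₂ • a₁ + r₁ • a₂, ?_⟩
    rw [smul_add, TensorProduct.tmul_add, TensorProduct.tmul_smul, TensorProduct.tmul_smul,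
      ← h₁, ← h₂, mul_smul, mul_comm r₁ r₂, mul_smul]
    rw [smul_comm r₂ r₁ z₂, smul_comm r₂ r₁ z₁]

/-- Let R be a domain with fraction field K, let A → B be a homomorphism of commutative R-algebras that
are flat over R, with B module-finite over A, such that the induced map K ⊗_R A → K ⊗_R B is
bijective. If the A-linear map Hom_A(B, A) → A evaluating at 1 is surjective, then A → B is
bijective. (The published statement concerns a finite morphism of flat schemes over a discrete
valuation ring, with locally free relative dualizing sheaves, that is an isomorphism over a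
schematically dense open and whose trace map on dualizing sheaves is surjective; this row is the
statement about rings to which the printed proof reduces it and which that proof establishes, and
the argument uses only that R is a domain.) -/
theorem result
    (R K A B : Type u) [CommRing R] [IsDomain R] [Field K] [Algebra R K] [IsFractionRing R K]
    [CommRing A] [CommRing B] [Algebra R A] [Algebra R B] [Algebra A B] [IsScalarTower R A B]
    [Module.Flat R A] [Module.Flat R B] [Module.Finite A B]
    (hK : Function.Bijective
      (Algebra.TensorProduct.map (AlgHom.id R K) (IsScalarTower.toAlgHom R A B)))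
    (htr : Function.Surjective (fun u : B →ₗ[A] A => u 1)) :
    Function.Bijective (algebraMap A B) := by
  classical
  have hinjA : Function.Injective (TensorProduct.mk R K A 1) :=
    Module.Flat.tensorProduct_mk_injective (R := R) (S := K) (M := A)
  have hinjB : Function.Injective (TensorProduct.mk R K B 1) :=
    Module.Flat.tensorProduct_mk_injective (R := R) (S := K) (M := B)
  set T := Algebra.TensorProduct.map (AlgHom.id R K) (IsScalarTower.toAlgHom R A B) with hT
  have hT1 : ∀ a : A, T ((1 : K) ⊗ₜ[R] a) = (1 : K) ⊗ₜ[R] (algebraMap A B a) := by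
    intro a
    simp [hT]
  -- `B` is torsion-free over `R`
  have htf : ∀ (r : R) (b : B), r ≠ 0 → r • b = 0 → b = 0 := by
    intro r b hr hrb
    apply hinjB
    rw [map_zero]
    have h1 : r • ((1 : K) ⊗ₜ[R] b) = 0 := by
      rw [← TensorProduct.tmul_smul, hrb, TensorProduct.tmul_zero]
    have h2 : (algebraMap R K r) • ((1 : K) ⊗ₜ[R] b) = 0 := by
      rw [algebraMap_smul]; exact h1
    have h3 : algebraMap R K r ≠ 0 := by
      intro h
      exact hr ((IsFractionRing.injective R K) (by rw [h, map_zero]))
    exact (smul_eq_zero.1 h2).resolve_left h3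
  constructor
  · -- injectivity
    rw [injective_iff_map_eq_zero]
    intro a ha
    apply hinjA
    rw [map_zero]
    apply hK.1
    rw [map_zero]
    change T ((1 : K) ⊗ₜ[R] a) = 0
    rw [hT1, ha, TensorProduct.tmul_zero]
  · -- surjectivity
    obtain ⟨u, hu⟩ := htr 1
    have hu1 : u 1 = 1 := hu
    intro b
    obtain ⟨z, hz⟩ := hK.2 ((1 : K) ⊗ₜ[R] b)
    obtain ⟨r, hr, a, hra⟩ := exists_smul_eq_one_tmul R K A z
    have h1 : (1 : K) ⊗ₜ[R] (r • b) = (1 : K) ⊗ₜ[R] (algebraMap A B a) := by
      rw [← hT1, ← hra, map_smul]
      rw [hz, TensorProduct.tmul_smul]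
    have h2 : r • b = algebraMap A B a := hinjB h1
    have h3 : a = r • u b := by
      have e1 : u (r • b) = r • u b := LinearMap.map_smul_of_tower u r b
      have e2 : u (algebraMap A B a) = a := by
        rw [Algebra.algebraMap_eq_smul_one, LinearMap.map_smul, hu1, smul_eq_mul, mul_one]
      rw [← e2, ← h2, e1]
    refine ⟨u b, ?_⟩
    have h4 : r • (algebraMap A B (u b) - b) = 0 := by
      rw [smul_sub, h2, h3, sub_eq_zero]
      rw [← algebraMap_smul A r (u b), smul_eq_mul, map_mul, ← Algebra.smul_def, algebraMap_smul]
    exact sub_eq_zero.1 (htf r _ hr h4)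

end Groth.Agent.S13041
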