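import Groth.Statements.S13042
import Mathlib

set_option autoImplicit false
universe u
open MaxMod

namespace Groth.Agent.S13042

open MvPolynomial

section
variable (p : ℕ) [hp : Fact p.Prime] (R : Type u) [CommRing R] [CharP R p] (lam f uinv : R)

/-- the forward substitution `W₁ ↦ x + W + λ x W`, `W₂ ↦ W` -/
noncomputable def phi0 : MvPolynomial (Fin 2) R →ₐ[R] MvPolynomial (Fin 2) R :=
  aeval ![X 0 + X 1 + C lam * X 0 * X 1, X 1]

/-- the backward substitution `x ↦ (W₁ - W₂) (1 + λ W₂)^(p-1) u⁻¹`, `W ↦ W₂` -/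
noncomputable def psi0 : MvPolynomial (Fin 2) R →ₐ[R] MvPolynomial (Fin 2) R :=
  aeval ![(X 0 - X 1) * ((1 + C lam * X 1) ^ (p - 1) * C uinv), X 1]

@[simp] lemma phi0_X0 : phi0 R lam (X 0) = X 0 + X 1 + C lam * X 0 * X 1 := by
  simp [phi0]

@[simp] lemma phi0_X1 : phi0 R lam (X 1) = X 1 := by
  simp [phi0]

@[simp] lemma psi0_X0 : psi0 p R lam uinv (X 0) =
    (X 0 - X 1) * ((1 + C lam * X 1) ^ (p - 1) * C uinv) := by
  simp [psi0]

@[simp] lemma psi0_X1 : psi0 p R lam uinv (X 1) = X 1 := by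
  simp [psi0]

@[simp] lemma phi0_C (r : R) : phi0 R lam (C r) = C r := by
  simp [phi0, MvPolynomial.algebraMap_eq]

@[simp] lemma psi0_C (r : R) : psi0 p R lam uinv (C r) = C r := by
  simp [psi0, MvPolynomial.algebraMap_eq]

include hp in
lemma hT : ((1 : MvPolynomial (Fin 2) R) + C lam * X 1) ^ (p - 1) * (1 + C lam * X 1) =
    1 + C lam ^ p * X 1 ^ p := by
  rw [← pow_succ, Nat.sub_add_cancel hp.out.pos, add_pow_char, one_pow, mul_pow]

lemma h1 (hu : uinv * (1 + lam ^ p * f) = 1) :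
    (C uinv : MvPolynomial (Fin 2) R) * (1 + C lam ^ p * C f) = 1 := by
  rw [← C_pow, ← C_mul, ← C_1, ← C_add, ← C_mul, hu]

include hp in
lemma hle1 : (Ideal.span {(X 0 ^ p - C f : MvPolynomial (Fin 2) R), X 1 ^ p - C f}) ≤
    (Ideal.span {(X 0 ^ p : MvPolynomial (Fin 2) R), X 1 ^ p - C f}).comap (phi0 R lam) := by
  rw [Ideal.span_le]
  rintro a (rfl | rfl)
  · rw [SetLike.mem_coe, Ideal.mem_comap, map_sub, map_pow, phi0_X0, phi0_C,
      add_pow_char, add_pow_char, mul_pow, mul_pow, Ideal.mem_span_pair]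
    refine ⟨1 + C lam ^ p * X 1 ^ p, 1, ?_⟩
    ring
  · rw [SetLike.mem_coe, Ideal.mem_comap, map_sub, map_pow, phi0_X1, phi0_C]
    exact Ideal.subset_span (by simp)

include hp in
lemma hle2 : (Ideal.span {(X 0 ^ p : MvPolynomial (Fin 2) R), X 1 ^ p - C f}) ≤
    (Ideal.span {(X 0 ^ p - C f : MvPolynomial (Fin 2) R), X 1 ^ p - C f}).comap
      (psi0 p R lam uinv) := by
  rw [Ideal.span_le]
  rintro a (rfl | rfl)
  · rw [SetLike.mem_coe, Ideal.mem_comap, map_pow, psi0_X0, mul_pow, sub_pow_char,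
      Ideal.mem_span_pair]
    refine ⟨((1 + C lam * X 1) ^ (p - 1) * C uinv) ^ p,
      - ((1 + C lam * X 1) ^ (p - 1) * C uinv) ^ p, ?_⟩
    ring
  · rw [SetLike.mem_coe, Ideal.mem_comap, map_sub, map_pow, psi0_X1, psi0_C]
    exact Ideal.subset_span (by simp)

/-- the forward map on quotients -/
noncomputable def eFwd :
    (MvPolynomial (Fin 2) R ⧸ Ideal.span {(X 0 ^ p - C f : MvPolynomial (Fin 2) R), X 1 ^ p - C f})
      →ₐ[R]
    (MvPolynomial (Fin 2) R ⧸ Ideal.span {(X 0 ^ p : MvPolynomial (Fin 2) R), X 1 ^ p - C f}) :=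
  Ideal.quotientMapₐ _ (phi0 R lam) (hle1 p R lam f)

/-- the backward map on quotients -/
noncomputable def eBwd :
    (MvPolynomial (Fin 2) R ⧸ Ideal.span {(X 0 ^ p : MvPolynomial (Fin 2) R), X 1 ^ p - C f})
      →ₐ[R]
    (MvPolynomial (Fin 2) R ⧸ Ideal.span {(X 0 ^ p - C f : MvPolynomial (Fin 2) R), X 1 ^ p - C f}) :=
  Ideal.quotientMapₐ _ (psi0 p R lam uinv) (hle2 p R lam f uinv)

include hp in
lemma comp1 (hu : uinv * (1 + lam ^ p * f) = 1) :
    (eBwd p R lam f uinv).comp (eFwd p R lam f) = AlgHom.id R _ := by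
  apply Ideal.Quotient.algHom_ext
  apply MvPolynomial.algHom_ext
  intro i
  simp only [AlgHom.comp_apply, Ideal.Quotient.mkₐ_eq_mk, eFwd, eBwd, Ideal.quotient_map_mkₐ,
    AlgHom.id_apply]
  rw [Ideal.Quotient.eq]
  fin_cases i
  · have key : psi0 p R lam uinv (phi0 R lam (X 0)) - X 0 =
        (X 0 - X 1) * C uinv * C lam ^ p * (X 1 ^ p - C f) := by
      simp only [phi0_X0, map_add, map_mul, psi0_X0, psi0_X1, psi0_C]
      linear_combination (X 0 - X 1) * C uinv * hT p R lam + (X 0 - X 1) * h1 p R lam f uinv hu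
    change psi0 p R lam uinv (phi0 R lam (X 0)) - X 0 ∈ _
    rw [key]
    exact Ideal.mul_mem_left _ _ (Ideal.subset_span (by simp))
  · change psi0 p R lam uinv (phi0 R lam (X 1)) - X 1 ∈ _
    rw [phi0_X1, psi0_X1, sub_self]
    exact Ideal.zero_mem _

include hp in
lemma comp2 (hu : uinv * (1 + lam ^ p * f) = 1) :
    (eFwd p R lam f).comp (eBwd p R lam f uinv) = AlgHom.id R _ := by
  apply Ideal.Quotient.algHom_ext
  apply MvPolynomial.algHom_ext
  intro i
  simp only [AlgHom.comp_apply, Ideal.Quotient.mkₐ_eq_mk, eFwd, eBwd, Ideal.quotient_map_mkₐ,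
    AlgHom.id_apply]
  rw [Ideal.Quotient.eq]
  fin_cases i
  · have key : phi0 R lam (psi0 p R lam uinv (X 0)) - X 0 =
        X 0 * C uinv * C lam ^ p * (X 1 ^ p - C f) := by
      simp only [psi0_X0, map_add, map_mul, map_sub, map_pow, map_one, phi0_X0, phi0_X1,
        phi0_C]
      linear_combination X 0 * C uinv * hT p R lam + X 0 * h1 p R lam f uinv hu
    change phi0 R lam (psi0 p R lam uinv (X 0)) - X 0 ∈ _
    rw [key]
    exact Ideal.mul_mem_left _ _ (Ideal.subset_span (by simp))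
  · change phi0 R lam (psi0 p R lam uinv (X 1)) - X 1 ∈ _
    rw [psi0_X1, phi0_X1, sub_self]
    exact Ideal.zero_mem _

end

open MvPolynomial in
/-- Let p be a prime, R a local ring of characteristic p, λ an element of the maximal ideal of R and f ∈
R. Then there is an isomorphism of R-algebras R[W₁, W₂]/(W₁^p − f, W₂^p − f) ≅ R[x, W]/(x^p, W^p −
f) with W₁ ↦ x + W + λ·x·W and W₂ ↦ W; that is, Spec R[W]/(W^p − f) with the action w ↦ x + w + λxw
is a torsor under the group scheme Spec R[x]/(x^p) with law x₁ ∘ x₂ = x₁ + x₂ + λx₁x₂. (The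
published statement is over a complete discrete valuation ring of characteristic p with λ a nonzero
nonunit, and also asserts that for f in the fraction field with negative valuation v(f) > −p·v(λ)
the torsor W^p = f extends to a torsor over R, using the coordinate 1/W; that second case fails: for
p = 2, λ = π a uniformizer and f = 1/π, every model is Spec R[π^a t] with t² = π, and none of these
is a torsor since the coaction sends t to t − π(1 + t)x. Only the case f ∈ R is stated, and the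
argument there uses only that R is local of characteristic p.) -/
theorem result
    (p : ℕ) [Fact p.Prime] (R : Type u) [CommRing R] [IsLocalRing R] [CharP R p]
    (lam f : R) (hlam : lam ∈ IsLocalRing.maximalIdeal R) :
    ∃ e : (MvPolynomial (Fin 2) R ⧸ Ideal.span {(X 0 ^ p - C f : MvPolynomial (Fin 2) R), X 1 ^ p - C f}) ≃ₐ[R]
        (MvPolynomial (Fin 2) R ⧸ Ideal.span {(X 0 ^ p : MvPolynomial (Fin 2) R), X 1 ^ p - C f}),
      e (Ideal.Quotient.mk _ (X 0)) = Ideal.Quotient.mk _ (X 0 + X 1 + C lam * X 0 * X 1) ∧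
      e (Ideal.Quotient.mk _ (X 1)) = Ideal.Quotient.mk _ (X 1) := by
  -- `1 + λ^p f` is a unit
  have hunit : IsUnit (1 + lam ^ p * f) := by
    by_contra hnu
    have hmem : 1 + lam ^ p * f ∈ IsLocalRing.maximalIdeal R :=
      (IsLocalRing.mem_maximalIdeal _).2 hnu
    have hp0 : p ≠ 0 := (Fact.out : p.Prime).ne_zero
    have h2 : lam ^ p * f ∈ IsLocalRing.maximalIdeal R :=
      Ideal.mul_mem_right _ _ (Ideal.pow_mem_of_mem _ hlam p (Nat.pos_of_ne_zero hp0))
    have h3 : (1 : R) ∈ IsLocalRing.maximalIdeal R := by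
      have := Ideal.sub_mem _ hmem h2
      simp at this
    exact (Ideal.ne_top_iff_one _).1 (IsLocalRing.maximalIdeal.isMaximal R).ne_top h3
  obtain ⟨u, hu⟩ := hunit
  have huinv : (↑u⁻¹ : R) * (1 + lam ^ p * f) = 1 := by
    rw [← hu]; exact Units.inv_mul u
  refine ⟨AlgEquiv.ofAlgHom (eFwd p R lam f) (eBwd p R lam f ↑u⁻¹)
    (comp2 p R lam f _ huinv) (comp1 p R lam f _ huinv), ?_, ?_⟩
  · change eFwd p R lam f (Ideal.Quotient.mk _ (X 0)) = _
    simp only [eFwd, Ideal.quotient_map_mkₐ, phi0_X0, Ideal.Quotient.mkₐ_eq_mk]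
  · change eFwd p R lam f (Ideal.Quotient.mk _ (X 1)) = _
    simp only [eFwd, Ideal.quotient_map_mkₐ, phi0_X1, Ideal.Quotient.mkₐ_eq_mk]

end Groth.Agent.S13042
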