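import Groth.Statements.S13045
import Mathlib.LinearAlgebra.DirectSum.Finsupp

set_option autoImplicit false
universe u
open FrobAlg

namespace Groth.Agent.S13045

open TensorProduct

section
variable {R : Type u} [CommRing R]

/-- coordinate `i` of `finsuppScalarLeft` is natural in the right factor. -/
lemma fsl_nat {ι : Type u} [DecidableEq ι] {N P : Type u} [AddCommGroup N] [Module R N] [AddCommGroup P] [Module R P]
    (g : N →ₗ[R] P) (t : (ι →₀ R) ⊗[R] N) (i : ι) :
    TensorProduct.finsuppScalarLeft R P ι (g.lTensor (ι →₀ R) t) i =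
      g (TensorProduct.finsuppScalarLeft R N ι t i) := by
  induction t using TensorProduct.induction_on with
  | zero => simp
  | add x y hx hy => simp only [map_add, Finsupp.add_apply, hx, hy]
  | tmul f n =>
    rw [LinearMap.lTensor_tmul, TensorProduct.finsuppScalarLeft_apply_tmul_apply,
      TensorProduct.finsuppScalarLeft_apply_tmul_apply, map_smul]

lemma free_case {ι : Type u} {N : Type u} {P : ℕ → Type u} [AddCommGroup N] [Module R N]
    [∀ k, AddCommGroup (P k)] [∀ k, Module R (P k)] (g : ∀ k, N →ₗ[R] P k)
    (hg : ∀ n, (∀ k, g k n = 0) → n = 0) (t : (ι →₀ R) ⊗[R] N)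
    (ht : ∀ k, (g k).lTensor (ι →₀ R) t = 0) : t = 0 := by
  classical
  apply (TensorProduct.finsuppScalarLeft R N ι).injective
  rw [map_zero]
  ext i
  apply hg
  intro k
  rw [← fsl_nat, ht k, map_zero, Finsupp.zero_apply]

lemma gen {M N : Type u} {P : ℕ → Type u} [AddCommGroup M] [Module R M] [Module.Projective R M]
    [AddCommGroup N] [Module R N]
    [∀ k, AddCommGroup (P k)] [∀ k, Module R (P k)] (g : ∀ k, N →ₗ[R] P k)
    (hg : ∀ n, (∀ k, g k n = 0) → n = 0) :
    Function.Injective (LinearMap.pi fun k => (g k).lTensor M : M ⊗[R] N →ₗ[R] (Π k, M ⊗[R] P k)) := by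
  rw [injective_iff_map_eq_zero]
  intro t ht
  have ht' : ∀ k, (g k).lTensor M t = 0 := fun k => congrFun ht k
  obtain ⟨σ, hσ⟩ := (Module.projective_def'.1 (inferInstance : Module.Projective R M))
  set π := Finsupp.linearCombination R (id : M → M) with hπ
  have h1 : ∀ k, (g k).lTensor (M →₀ R) (σ.rTensor N t) = 0 := by
    intro k
    have : (g k).lTensor (M →₀ R) (σ.rTensor N t) = σ.rTensor (P k) ((g k).lTensor M t) := by
      rw [← LinearMap.comp_apply, ← LinearMap.comp_apply, LinearMap.lTensor_comp_rTensor,
        LinearMap.rTensor_comp_lTensor]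
    rw [this, ht' k, map_zero]
  have h2 : σ.rTensor N t = 0 := free_case g hg _ h1
  have h3 : π.rTensor N (σ.rTensor N t) = t := by
    rw [← LinearMap.comp_apply, ← LinearMap.rTensor_comp, hσ, LinearMap.rTensor_id, LinearMap.id_apply]
  rw [← h3, h2, map_zero]

end


open TensorProduct in
/-- Let p be a prime, R a commutative ring of characteristic p and A a commutative R-algebra of
characteristic p, with Frobenius twists A^{p^i/R} = R ⊗_{F^i,R} A, relative Frobenius maps F_i :
A^{p^{i+1}/R} → A^{p^i/R} and preperfection A^{p^∞/R} = lim_i A^{p^i/R} ⊆ Π_i A^{p^i/R}. For every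
projective R-module M the natural map M ⊗_R A^{p^∞/R} → Π_i (M ⊗_R A^{p^i/R}), m ⊗ x ↦ (m ⊗ x_i)_i,
is injective; in particular the base change map M ⊗_R lim_i A^{p^i/R} → lim_i (M ⊗_R A^{p^i/R}) is
injective. (The published statement is phrased for a projective R-algebra R′ in place of M; the
printed argument is the module statement given here.) -/
theorem result
    (p : ℕ) [Fact p.Prime] (R : Type u) [CommRing R] [CharP R p]
    (A : Type u) [CommRing A] [Algebra R A] [CharP A p]
    (M : Type u) [AddCommGroup M] [Module R M] [Module.Projective R M] :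
    Function.Injective
      (LinearMap.pi fun i : ℕ =>
        LinearMap.lTensor M
          (((Pi.evalAlgHom R (fun k => W4c1imperftorsors.Twist p R A k) i).comp
            (W4c1imperftorsors.prePerf p R A).val).toLinearMap) :
        M ⊗[R] ↥(W4c1imperftorsors.prePerf p R A) →ₗ[R] (Π i : ℕ, M ⊗[R] W4c1imperftorsors.Twist p R A i)) := by
  apply gen
  intro n hn
  apply Subtype.ext
  funext k
  exact hn k

end Groth.Agent.S13045
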