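import Groth.Statements.S13046
import Mathlib.LinearAlgebra.DirectSum.Finsupp
import Mathlib.RingTheory.Finiteness.Projective

set_option autoImplicit false
universe u
open FrobAlg

namespace Groth.Agent.S13046

open TensorProduct

section
variable {R : Type u} [CommRing R]

lemma fsl_nat {ι : Type*} [DecidableEq ι] {N P : Type u} [AddCommGroup N] [Module R N] [AddCommGroup P] [Module R P]
    (g : N →ₗ[R] P) (t : (ι →₀ R) ⊗[R] N) (i : ι) :
    TensorProduct.finsuppScalarLeft R P ι (g.lTensor (ι →₀ R) t) i =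
      g (TensorProduct.finsuppScalarLeft R N ι t i) := by
  induction t using TensorProduct.induction_on with
  | zero => simp
  | add x y hx hy => simp only [map_add, Finsupp.add_apply, hx, hy]
  | tmul f n =>
    rw [LinearMap.lTensor_tmul, TensorProduct.finsuppScalarLeft_apply_tmul_apply,
      TensorProduct.finsuppScalarLeft_apply_tmul_apply, map_smul]

variable {N : Type u} {P : ℕ → Type u} [AddCommGroup N] [Module R N]
    [∀ k, AddCommGroup (P k)] [∀ k, Module R (P k)] (F : ∀ k, P (k + 1) →ₗ[R] P k)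
    (g : ∀ k, N →ₗ[R] P k)

lemma free_surj {ι : Type*} [Fintype ι]
    (hlift : ∀ x : Π k, P k, (∀ k, F k (x (k + 1)) = x k) → ∃ n : N, ∀ k, g k n = x k)
    (y : Π k, (ι →₀ R) ⊗[R] P k)
    (hy : ∀ k, (F k).lTensor (ι →₀ R) (y (k + 1)) = y k) :
    ∃ t : (ι →₀ R) ⊗[R] N, ∀ k, (g k).lTensor (ι →₀ R) t = y k := by
  classical
  let s : ∀ k, ι →₀ P k := fun k => TensorProduct.finsuppScalarLeft R (P k) ι (y k)
  have hs : ∀ i k, F k (s (k + 1) i) = s k i := by
    intro i k
    rw [← fsl_nat, hy k]
  choose n hn using fun i => hlift (fun k => s k i) (hs i)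
  refine ⟨∑ i, (Finsupp.single i (1 : R)) ⊗ₜ[R] n i, fun k => ?_⟩
  apply (TensorProduct.finsuppScalarLeft R (P k) ι).injective
  ext i'
  rw [map_sum, map_sum, Finsupp.coe_finsetSum, Finset.sum_apply]
  simp only [LinearMap.lTensor_tmul, TensorProduct.finsuppScalarLeft_apply_tmul_apply, hn]
  rw [Finset.sum_eq_single i']
  · rw [Finsupp.single_eq_same, one_smul]
  · intro b _ hb
    rw [Finsupp.single_eq_of_ne (Ne.symm hb), zero_smul]
  · intro h; exact (h (Finset.mem_univ _)).elim

lemma gen_surj {M : Type u} [AddCommGroup M] [Module R M] [Module.Finite R M] [Module.Projective R M]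
    (hlift : ∀ x : Π k, P k, (∀ k, F k (x (k + 1)) = x k) → ∃ n : N, ∀ k, g k n = x k)
    (y : Π k, M ⊗[R] P k)
    (hy : ∀ k, (F k).lTensor M (y (k + 1)) = y k) :
    ∃ t : M ⊗[R] N, ∀ k, (g k).lTensor M t = y k := by
  obtain ⟨n, π₀, σ₀, -, -, hπσ⟩ := Module.Finite.exists_comp_eq_id_of_projective R M
  let e := Finsupp.linearEquivFunOnFinite R R (Fin n)
  let σ : M →ₗ[R] (Fin n →₀ R) := e.symm.toLinearMap ∘ₗ σ₀
  let π : (Fin n →₀ R) →ₗ[R] M := π₀ ∘ₗ e.toLinearMap
  have hπσ' : π ∘ₗ σ = LinearMap.id := by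
    ext m
    simp only [π, σ, LinearMap.comp_apply, LinearEquiv.coe_coe, LinearEquiv.apply_symm_apply,
      LinearMap.id_apply]
    exact LinearMap.congr_fun hπσ m
  have hcomm : ∀ {Q Q' : Type u} [AddCommGroup Q] [Module R Q] [AddCommGroup Q'] [Module R Q']
      {X X' : Type _} [AddCommGroup X] [Module R X] [AddCommGroup X'] [Module R X']
      (a : X →ₗ[R] X') (b : Q →ₗ[R] Q') (z : X ⊗[R] Q),
      b.lTensor X' (a.rTensor Q z) = a.rTensor Q' (b.lTensor X z) := by
    intro Q Q' _ _ _ _ X X' _ _ _ _ a b z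
    rw [← LinearMap.comp_apply, ← LinearMap.comp_apply, LinearMap.lTensor_comp_rTensor,
      LinearMap.rTensor_comp_lTensor]
  obtain ⟨t', ht'⟩ := free_surj F g hlift (fun k => σ.rTensor (P k) (y k)) (by
    intro k
    rw [hcomm, hy k])
  refine ⟨π.rTensor N t', fun k => ?_⟩
  rw [hcomm, ht' k, ← LinearMap.comp_apply, ← LinearMap.rTensor_comp, hπσ', LinearMap.rTensor_id,
    LinearMap.id_apply]

end


open TensorProduct in
/-- Let p be a prime, R a commutative ring of characteristic p and A a commutative R-algebra of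
characteristic p, with Frobenius twists A^{p^i/R} = R ⊗_{F^i,R} A, relative Frobenius maps F_i :
A^{p^{i+1}/R} → A^{p^i/R} and preperfection A^{p^∞/R} = lim_i A^{p^i/R} ⊆ Π_i A^{p^i/R}. For every
finitely generated projective R-module M, a sequence y ∈ Π_i (M ⊗_R A^{p^i/R}) lies in the image of
the natural map M ⊗_R A^{p^∞/R} → Π_i (M ⊗_R A^{p^i/R}), m ⊗ x ↦ (m ⊗ x_i)_i, if and only if (M ⊗
F_i)(y_{i+1}) = y_i for all i: the image is exactly the module of compatible sequences. Together
with the injectivity of that map, which holds for every projective M, this says that the base change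
map M ⊗_R lim_i A^{p^i/R} → lim_i (M ⊗_R A^{p^i/R}) is an isomorphism. (The published statement is
phrased for a finite locally free R-algebra R′ in place of M and identifies the target with the
preperfection of A ⊗_R R′ over R′; the printed argument is the module statement given here, and that
identification is not part of this row; the injectivity half is stated separately for all projective
M.) -/
theorem result
    (p : ℕ) [Fact p.Prime] (R : Type u) [CommRing R] [CharP R p]
    (A : Type u) [CommRing A] [Algebra R A] [CharP A p]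
    (M : Type u) [AddCommGroup M] [Module R M] [Module.Finite R M] [Module.Projective R M]
    (y : Π i : ℕ, M ⊗[R] W4c1imperftorsors.Twist p R A i) :
    y ∈ LinearMap.range
        (LinearMap.pi fun i : ℕ =>
        LinearMap.lTensor M
          (((Pi.evalAlgHom R (fun k => W4c1imperftorsors.Twist p R A k) i).comp
            (W4c1imperftorsors.prePerf p R A).val).toLinearMap) :
        M ⊗[R] ↥(W4c1imperftorsors.prePerf p R A) →ₗ[R] (Π i : ℕ, M ⊗[R] W4c1imperftorsors.Twist p R A i)) ↔
      ∀ i : ℕ, LinearMap.lTensor M (W4c1imperftorsors.relFrob p R A i).toLinearMap (y (i + 1)) = y i := by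
  have hmem : ∀ x : Π j : ℕ, W4c1imperftorsors.Twist p R A j,
      x ∈ W4c1imperftorsors.prePerf p R A ↔ ∀ j, W4c1imperftorsors.relFrob p R A j (x (j + 1)) = x j := by
    intro x
    unfold W4c1imperftorsors.prePerf
    rw [Algebra.mem_iInf]
    exact Iff.rfl
  set g : ∀ k, ↥(W4c1imperftorsors.prePerf p R A) →ₗ[R] W4c1imperftorsors.Twist p R A k := fun k =>
    ((Pi.evalAlgHom R (fun k => W4c1imperftorsors.Twist p R A k) k).comp
            (W4c1imperftorsors.prePerf p R A).val).toLinearMap with hg
  set F : ∀ k, W4c1imperftorsors.Twist p R A (k + 1) →ₗ[R] W4c1imperftorsors.Twist p R A k := fun k =>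
    (W4c1imperftorsors.relFrob p R A k).toLinearMap with hF
  have hFg : ∀ k, F k ∘ₗ g (k + 1) = g k := by
    intro k
    ext n
    exact (hmem n.1).1 n.2 k
  constructor
  · rintro ⟨t, rfl⟩ k
    change (F k).lTensor M ((g (k + 1)).lTensor M t) = (g k).lTensor M t
    rw [← LinearMap.comp_apply, ← LinearMap.lTensor_comp, hFg]
  · intro hy
    obtain ⟨t, ht⟩ := gen_surj F g (fun x hx => ⟨⟨x, (hmem x).2 hx⟩, fun k => rfl⟩) y hy
    exact ⟨t, funext ht⟩

end Groth.Agent.S13046
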