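import Groth.Statements.S13047
import Groth.Agent.Lib.Helper12.PrePerfNode2

set_option autoImplicit false
universe u
open FrobAlg

namespace Groth.Agent.S13047

open Polynomial in
/-- The abstract version with an opaque ideal `I` having the two generators and the universal
property of the span. -/
theorem aux
    (p : ℕ) [Fact p.Prime] (hp : p ≠ 2) (R : Type u) [CommRing R] [CharP R p]
    (u v : R) (huv : u * v = 0)
    (hsep : ∀ N : ℕ, 1 ≤ N → ∀ g : R,
      (∀ n : ℕ, g ∈ Ideal.span {v ^ n} ⊔ Ideal.span {u ^ N}) → g ∈ Ideal.span {u ^ N})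
    (I : Ideal R[X]) (hgen1 : (C u * X : R[X]) ∈ I) (hgen2 : (X ^ 2 - C (v ^ 2) : R[X]) ∈ I)
    (hle : ∀ {T : Type u} [CommRing T] (f : R[X] →+* T), f (C u * X) = 0 →
      f (X ^ 2 - C (v ^ 2)) = 0 → ∀ a ∈ I, f a = 0)
    [CharP (R[X] ⧸ I) p] :
    Function.Bijective (algebraMap R ↥(W4c1imperftorsors.prePerf p R (R[X] ⧸ I))) := by
  classical
  have hpodd : Odd p := (Fact.out : p.Prime).odd_of_ne_two hp
  -- the class of `X`
  have hsmul : ∀ (r : R) (f : R[X]),
      r • (Ideal.Quotient.mk I f) = Ideal.Quotient.mk I (C r * f) := by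
    intro r f
    rw [← Polynomial.smul_eq_C_mul]
    rfl
  have hα2 : (Ideal.Quotient.mk I X) ^ 2 = (v ^ 2) • (1 : R[X] ⧸ I) := by
    have h0 := Ideal.Quotient.eq_zero_iff_mem.mpr hgen2
    rw [map_sub, sub_eq_zero] at h0
    rw [← map_pow, h0, ← map_one (Ideal.Quotient.mk _), hsmul, mul_one]
  have hu : u • (Ideal.Quotient.mk I X) = 0 := by
    rw [hsmul]
    exact Ideal.Quotient.eq_zero_iff_mem.mpr hgen1
  have hpow : (Ideal.Quotient.mk I X) ^ p = (v ^ (p - 1)) • (Ideal.Quotient.mk I X) := by
    obtain ⟨k, hk⟩ := hpodd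
    have h1 : p - 1 = 2 * k := by omega
    rw [h1, hk, pow_succ, pow_mul, hα2, pow_mul, _root_.smul_pow, one_pow, smul_mul_assoc, one_mul]
  have hspan : ∀ b : R[X] ⧸ I,
      ∃ s t : R, b = s • (1 : R[X] ⧸ I) + t • (Ideal.Quotient.mk I X) := by
    intro b
    obtain ⟨f, rfl⟩ := Ideal.Quotient.mk_surjective b
    induction f using Polynomial.induction_on with
    | C a =>
      refine ⟨a, 0, ?_⟩
      rw [zero_smul, add_zero, ← map_one (Ideal.Quotient.mk _), hsmul, mul_one]
    | add f g hf hg =>
      obtain ⟨s, t, hst⟩ := hf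
      obtain ⟨s', t', hst'⟩ := hg
      refine ⟨s + s', t + t', ?_⟩
      rw [map_add, hst, hst', add_smul, add_smul]
      abel
    | monomial n a ih =>
      obtain ⟨s, t, hst⟩ := ih
      refine ⟨t * v ^ 2, s, ?_⟩
      rw [pow_succ, ← mul_assoc, map_mul, hst, add_mul, smul_mul_assoc, one_mul, smul_mul_assoc,
        ← pow_two, hα2, smul_smul, add_comm]
  -- the two evaluation points
  have hρ : ∀ w : R, u * w = 0 → w ^ 2 = v ^ 2 →
      ∃ ρ : (R[X] ⧸ I) →ₐ[R] R, ρ (Ideal.Quotient.mk I X) = w := by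
    intro w huw hw
    have hk : ∀ a ∈ I, (Polynomial.aeval w : R[X] →ₐ[R] R) a = 0 := by
      intro a ha
      have := hle ((Polynomial.aeval w : R[X] →ₐ[R] R) : R[X] →+* R) (by simp [huw])
        (by simp [hw]) a ha
      exact this
    refine ⟨Ideal.Quotient.liftₐ I (Polynomial.aeval w) hk, ?_⟩
    rw [Ideal.Quotient.liftₐ_apply, Ideal.Quotient.lift_mk]
    simp
  obtain ⟨ρp, hρp⟩ := hρ v huv rfl
  obtain ⟨ρm, hρm⟩ := hρ (-v) (by rw [mul_neg, huv, neg_zero]) (by ring)
  -- the `α`-coefficient modulo `u`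
  have hκ : ∃ κ : (R[X] ⧸ I) →+ R ⧸ Ideal.span {u},
      (∀ (s : R) (b : R[X] ⧸ I), κ (s • b) = Ideal.Quotient.mk (Ideal.span {u}) s * κ b) ∧
      κ 1 = 0 ∧ κ (Ideal.Quotient.mk I X) = 1 := by
    rcases subsingleton_or_nontrivial (R ⧸ Ideal.span {u}) with hS | hS
    · exact ⟨0, fun _ _ => Subsingleton.elim _ _, Subsingleton.elim _ _, Subsingleton.elim _ _⟩
    · set q : R →+* R ⧸ Ideal.span {u} := Ideal.Quotient.mk (Ideal.span {u}) with hq
      set g : (R ⧸ Ideal.span {u})[X] := X ^ 2 - C ((q v) ^ 2) with hg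
      have hmonic : g.Monic := monic_X_pow_sub_C _ (by norm_num)
      have hdeg : g.degree = 2 := by
        rw [hg]; exact degree_X_pow_sub_C (by norm_num) _
      have hqu : q u = 0 := Ideal.Quotient.eq_zero_iff_mem.mpr (Ideal.mem_span_singleton_self u)
      have hkill : ∀ a ∈ I, ((AdjoinRoot.mk g).comp (Polynomial.mapRingHom q)) a = 0 := by
        apply hle
        · simp [hqu]
        · rw [RingHom.comp_apply]
          have : Polynomial.mapRingHom q (X ^ 2 - C (v ^ 2)) = g := by
            simp [hg]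
          rw [this, AdjoinRoot.mk_self]
      set θ : (R[X] ⧸ I) →+* AdjoinRoot g :=
        Ideal.Quotient.lift I ((AdjoinRoot.mk g).comp (Polynomial.mapRingHom q)) hkill with hθ
      have hθmk : ∀ f : R[X], θ (Ideal.Quotient.mk I f) = AdjoinRoot.mk g (f.map q) := by
        intro f
        rw [hθ, Ideal.Quotient.lift_mk]
        rfl
      let κ : (R[X] ⧸ I) →+ R ⧸ Ideal.span {u} :=
        { toFun := fun b => (AdjoinRoot.modByMonicHom hmonic (θ b)).coeff 1
          map_zero' := by simp
          map_add' := by intro a b; simp }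
      have hκmk : ∀ f : R[X], κ (Ideal.Quotient.mk I f) = ((f.map q) %ₘ g).coeff 1 := by
        intro f
        show (AdjoinRoot.modByMonicHom hmonic (θ (Ideal.Quotient.mk I f))).coeff 1 = _
        rw [hθmk, AdjoinRoot.modByMonicHom_mk]
      refine ⟨κ, ?_, ?_, ?_⟩
      · intro s b
        obtain ⟨f, rfl⟩ := Ideal.Quotient.mk_surjective b
        rw [hsmul, hκmk, hκmk, Polynomial.map_mul, Polynomial.map_C, ← Polynomial.smul_eq_C_mul,
          Polynomial.smul_modByMonic, Polynomial.coeff_smul, smul_eq_mul]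
      · rw [← map_one (Ideal.Quotient.mk I), hκmk, Polynomial.map_one,
          (Polynomial.modByMonic_eq_self_iff hmonic).mpr (by rw [hdeg, degree_one]; norm_num)]
        rw [Polynomial.coeff_one]
        simp
      · rw [hκmk, Polynomial.map_X,
          (Polynomial.modByMonic_eq_self_iff hmonic).mpr (by rw [hdeg, degree_X]; norm_num)]
        simp
  obtain ⟨κ, hκs, hκ1, hκα⟩ := hκ
  exact Groth.Agent.Lib.helper12.PrePerfNode.bijective_algebraMap_prePerf p hp u v huv hsep
    (Ideal.Quotient.mk I X) hspan hu hpow ρp ρm hρp hρm κ hκs hκ1 hκα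

open Polynomial in
/-- Let p be an odd prime, R a commutative ring of characteristic p and u, v ∈ R with uv = 0, such that
for every N ≥ 1 an element of R lying in (v^n) + (u^N) for all n lies in (u^N) (v-adic separatedness
of R/(u^N)). Let B = R[α]/(uα, α² − v²), an R-algebra of characteristic p, with Frobenius twists
B^{p^i/R} = R ⊗_{F^i,R} B and preperfection B^{p^∞/R} = lim_i B^{p^i/R} along the relative Frobenius
maps. Then the structure map R → B^{p^∞/R} is bijective: the preperfection of B is R. (The published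
statement is for R = F_p[[u, v]]/(uv), where B arises as the preperfection of R[x, y, 1/(x − y)]/(xy
− u), so that the second preperfection of that algebra is R although the first is not perfect; the
printed computation uses only the hypotheses listed here, which that R satisfies.) -/
theorem result
    (p : ℕ) [Fact p.Prime] (hp : p ≠ 2) (R : Type u) [CommRing R] [CharP R p]
    (u v : R) (huv : u * v = 0)
    (hsep : ∀ N : ℕ, 1 ≤ N → ∀ g : R,
      (∀ n : ℕ, g ∈ Ideal.span {v ^ n} ⊔ Ideal.span {u ^ N}) → g ∈ Ideal.span {u ^ N})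
    [CharP (R[X] ⧸ Ideal.span {(C u * X : R[X]), X ^ 2 - C (v ^ 2)}) p] :
    Function.Bijective
      (algebraMap R ↥(W4c1imperftorsors.prePerf p R
        (R[X] ⧸ Ideal.span {(C u * X : R[X]), X ^ 2 - C (v ^ 2)}))) := by
  exact aux p hp R u v huv hsep _ (Ideal.subset_span (by simp)) (Ideal.subset_span (by simp))
    (by
      intro T _ f h1 h2
      have : Ideal.span {(C u * X : R[X]), X ^ 2 - C (v ^ 2)} ≤ RingHom.ker f := by
        rw [Ideal.span_le]
        rintro x hx
        rcases hx with rfl | hx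
        · exact h1
        · rw [Set.mem_singleton_iff] at hx
          subst hx
          exact h2
      intro a ha
      exact this ha)

end Groth.Agent.S13047
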