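import Mathlib
import Groth.Statements.S13048

set_option autoImplicit false
universe u
open FrobAlg

namespace Groth.Agent.S13048

section aux

variable {k A : Type*} [Field k] [CommRing A] [Algebra k A]

/-- `∏ (x - c') ≡ ∏ (c - c')` modulo `x - c`. -/
theorem prod_eq_add (x : A) (c : k) : ∀ L : List k, ∃ q : A,
    (L.map (fun c' => x - algebraMap k A c')).prod =
      algebraMap k A (L.map (fun c' => c - c')).prod + (x - algebraMap k A c) * q := by
  intro L
  induction L with
  | nil => exact ⟨0, by simp⟩
  | cons d L ih =>
    obtain ⟨q, hq⟩ := ih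
    refine ⟨algebraMap k A (c - d) * q + algebraMap k A (L.map (fun c' => c - c')).prod
      + (x - algebraMap k A c) * q, ?_⟩
    simp only [List.map_cons, List.prod_cons, hq, map_mul, map_sub]
    ring

/-- In a reduced ring with only trivial idempotents, if `∏ (x - c_i) = 0` then `x` is a constant. -/
theorem const_of_prod_eq_zero [IsReduced A] [Nontrivial A]
    (hconn : ∀ e : A, IsIdempotentElem e → e = 0 ∨ e = 1) (x : A) :
    ∀ L : List k, (L.map (fun c => x - algebraMap k A c)).prod = 0 →
      x ∈ (algebraMap k A).range := by
  intro L
  induction L with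
  | nil => intro h; simp at h
  | cons c L ih =>
    intro h
    simp only [List.map_cons, List.prod_cons] at h
    obtain ⟨q, hq⟩ := prod_eq_add x c L
    set P := (L.map (fun c' => x - algebraMap k A c')).prod with hP
    set u := (L.map (fun c' => c - c')).prod with hu
    by_cases hu0 : u = 0
    · -- P = (x - c) q, so ((x-c) q)^2 = 0
      rw [hu0, map_zero, zero_add] at hq
      have h2 : ((x - algebraMap k A c) * q) ^ 2 = 0 := by
        rw [hq] at h
        calc ((x - algebraMap k A c) * q) ^ 2
            = ((x - algebraMap k A c) * ((x - algebraMap k A c) * q)) * q := by ring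
          _ = 0 := by rw [h, zero_mul]
      have h3 : (x - algebraMap k A c) * q = 0 := by
        simpa using (pow_eq_zero_iff (two_ne_zero)).mp h2
      exact ih (by rw [hq, h3])
    · set e := algebraMap k A u⁻¹ * P with he
      have hinv : algebraMap k A u⁻¹ * algebraMap k A u = 1 := by
        rw [← map_mul, inv_mul_cancel₀ hu0, map_one]
      have hidem : IsIdempotentElem e := by
        change e * e = e
        calc e * e = algebraMap k A u⁻¹ * P * (algebraMap k A u⁻¹ * P) := rfl
          _ = algebraMap k A u⁻¹ * P * (algebraMap k A u⁻¹ *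
                (algebraMap k A u + (x - algebraMap k A c) * q)) := by rw [← hq]
          _ = algebraMap k A u⁻¹ * P * (algebraMap k A u⁻¹ * algebraMap k A u)
                + algebraMap k A u⁻¹ * algebraMap k A u⁻¹ * q *
                  ((x - algebraMap k A c) * P) := by ring
          _ = e := by rw [hinv, h, mul_zero, add_zero, mul_one]
      rcases hconn e hidem with h0 | h1
      · have : P = 0 := by
          calc P = algebraMap k A u * (algebraMap k A u⁻¹ * P) := by
                rw [← mul_assoc, mul_comm (algebraMap k A u), hinv, one_mul]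
            _ = 0 := by rw [← he, h0, mul_zero]
        exact ih this
      · have : x - algebraMap k A c = 0 := by
          calc x - algebraMap k A c = (x - algebraMap k A c) * e := by rw [h1, mul_one]
            _ = algebraMap k A u⁻¹ * ((x - algebraMap k A c) * P) := by rw [he]; ring
            _ = 0 := by rw [h, mul_zero]
        exact ⟨c, (sub_eq_zero.mp this).symm⟩

end aux

/-- Let k be an algebraically closed field of characteristic p > 0 and let A be a reduced finitely
generated commutative k-algebra with connected spectrum (A ≠ 0 and 0, 1 are its only idempotents).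
If x ∈ A is a p^n-th power in A for every n ≥ 0, then x lies in the image of k; that is, ⋂_n A^{p^n}
= k. (The published statement is: for an artinian local ring R of characteristic p and a flat
R-algebra A of finite type, the maps A^ét → O(π₀(A)) → A^{p^∞/R} from the largest étale subalgebra
to the preperfection are isomorphisms. This row is the case R = k algebraically closed and A reduced
with connected spectrum, where A^ét = k and the preperfection is ⋂_n A^{p^n}; the printed proof
reduces to this case and its last step proves it.) -/
theorem result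
    (p : ℕ) [Fact p.Prime] (k : Type u) [Field k] [IsAlgClosed k] [CharP k p]
    (A : Type u) [CommRing A] [Algebra k A] [Algebra.FiniteType k A] [IsReduced A] [Nontrivial A]
    (hconn : ∀ e : A, IsIdempotentElem e → e = 0 ∨ e = 1)
    (x : A) (hx : ∀ n : ℕ, ∃ a : A, a ^ p ^ n = x) :
    x ∈ (algebraMap k A).range := by
  have hinj : Function.Injective (algebraMap k A) := (algebraMap k A).injective
  haveI : CharP A p := charP_of_injective_algebraMap hinj p
  haveI : IsNoetherianRing A := Algebra.FiniteType.isNoetherianRing k A
  -- the ideal of multipliers killing some product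
  let T : Ideal A :=
    { carrier := {s | ∃ L : List k, s * (L.map (fun c => x - algebraMap k A c)).prod = 0}
      add_mem' := by
        rintro s₁ s₂ ⟨L₁, h₁⟩ ⟨L₂, h₂⟩
        refine ⟨L₁ ++ L₂, ?_⟩
        rw [List.map_append, List.prod_append]
        calc (s₁ + s₂) * ((L₁.map (fun c => x - algebraMap k A c)).prod *
                (L₂.map (fun c => x - algebraMap k A c)).prod)
            = (s₁ * (L₁.map (fun c => x - algebraMap k A c)).prod) *
                (L₂.map (fun c => x - algebraMap k A c)).prod
              + (s₂ * (L₂.map (fun c => x - algebraMap k A c)).prod) *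
                (L₁.map (fun c => x - algebraMap k A c)).prod := by ring
          _ = 0 := by rw [h₁, h₂]; simp
      zero_mem' := ⟨[], by simp⟩
      smul_mem' := by
        rintro c s ⟨L, h⟩
        refine ⟨L, ?_⟩
        rw [smul_eq_mul, mul_assoc, h, mul_zero] }
  have hT : T = ⊤ := by
    by_contra hne
    obtain ⟨m, hm, hTm⟩ := Ideal.exists_le_maximal T hne
    letI := Ideal.Quotient.field m
    haveI : Algebra.FiniteType k (A ⧸ m) :=
      Algebra.FiniteType.of_surjective (Ideal.Quotient.mkₐ k m) (Ideal.Quotient.mkₐ_surjective k m)
    haveI : Module.Finite k (A ⧸ m) := finite_of_finite_type_of_isJacobsonRing k (A ⧸ m)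
    haveI : Algebra.IsIntegral k (A ⧸ m) := Algebra.IsIntegral.of_finite k (A ⧸ m)
    have hbij : Function.Bijective (algebraMap k (A ⧸ m)) :=
      IsAlgClosed.algebraMap_bijective_of_isIntegral
    have hres : ∀ a : A, ∃ c : k, a - algebraMap k A c ∈ m := by
      intro a
      obtain ⟨c, hc⟩ := hbij.2 (Ideal.Quotient.mk m a)
      refine ⟨c, ?_⟩
      rw [← Ideal.Quotient.eq]
      rw [← hc]
      rfl
    have hconst : ∀ c : k, algebraMap k A c ∈ m → c = 0 := by
      intro c hc
      by_contra hc0
      apply hm.ne_top
      rw [Ideal.eq_top_iff_one]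
      have : (1 : A) = algebraMap k A c⁻¹ * algebraMap k A c := by
        rw [← map_mul, inv_mul_cancel₀ hc0, map_one]
      rw [this]
      exact m.mul_mem_left _ hc
    obtain ⟨c, hc⟩ := hres x
    have hmem : ∀ n : ℕ, x - algebraMap k A c ∈ m ^ n := by
      intro n
      obtain ⟨a, ha⟩ := hx n
      obtain ⟨cn, hcn⟩ := hres a
      have h1 : (a - algebraMap k A cn) ^ p ^ n = x - algebraMap k A (cn ^ p ^ n) := by
        rw [sub_pow_char_pow, ha, map_pow]
      have h2 : x - algebraMap k A (cn ^ p ^ n) ∈ m ^ (p ^ n) := by
        rw [← h1]
        exact Ideal.pow_mem_pow hcn _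
      have hle : n ≤ p ^ n := (Nat.lt_pow_self (Fact.out : p.Prime).one_lt).le
      have h3 : x - algebraMap k A (cn ^ p ^ n) ∈ m ^ n := Ideal.pow_le_pow_right hle h2
      have h4 : x - algebraMap k A (cn ^ p ^ n) ∈ m := by
        have : p ^ n ≠ 0 := pow_ne_zero _ (Fact.out : p.Prime).ne_zero
        exact Ideal.pow_le_self this h2
      have h5 : cn ^ p ^ n - c = 0 := by
        apply hconst
        have : algebraMap k A (cn ^ p ^ n - c) =
            (x - algebraMap k A c) - (x - algebraMap k A (cn ^ p ^ n)) := by
          rw [map_sub]; ring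
        rw [this]
        exact m.sub_mem hc h4
      rw [sub_eq_zero] at h5
      rwa [h5] at h3
    have hinf : x - algebraMap k A c ∈ (⨅ i : ℕ, m ^ i • ⊤ : Submodule A A) := by
      rw [Submodule.mem_iInf]
      intro i
      rw [smul_eq_mul, Ideal.mul_top]
      exact hmem i
    obtain ⟨r, hr⟩ := (Ideal.mem_iInf_smul_pow_eq_bot_iff m (x - algebraMap k A c)).mp hinf
    have hmemT : (1 - (r : A)) ∈ T := by
      refine ⟨[c], ?_⟩
      simp only [List.map_cons, List.map_nil, List.prod_cons, List.prod_nil, mul_one]
      rw [sub_mul, one_mul, ← smul_eq_mul (r : A), hr, sub_self]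
    have h1m : (1 : A) ∈ m := by
      have := m.add_mem (hTm hmemT) r.2
      simpa using this
    exact hm.ne_top ((Ideal.eq_top_iff_one m).mpr h1m)
  have h1 : (1 : A) ∈ T := by rw [hT]; trivial
  obtain ⟨L, hL⟩ := h1
  rw [one_mul] at hL
  exact const_of_prod_eq_zero hconn x L hL

end Groth.Agent.S13048
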