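import Groth.Statements.S13049
import Mathlib.RingTheory.Perfection
import Mathlib.Algebra.CharP.Lemmas
import Mathlib.Tactic

set_option autoImplicit false
universe u
open FrobAlg

namespace Groth.Agent.S13049

/-- Let p be a prime and A a commutative ring of characteristic p whose nilradical N satisfies x^(p^e) =
0 for all x ∈ N and some fixed e (for instance A Noetherian). Then the map between the inverse-limit
perfections along the absolute Frobenius, lim (⋯ → A → A) → lim (⋯ → A/N → A/N), induced by the
projection A → A/N, is bijective. (The published argument takes A of finite type over a field, where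
the nilradical is finitely generated; this row assumes only that the nilradical is killed by one
fixed iterate of Frobenius, which is all that argument uses.) -/
theorem result
    (p : ℕ) [Fact p.Prime] (A : Type u) [CommRing A] [CharP A p]
    [CharP (A ⧸ nilradical A) p] (e : ℕ) (he : ∀ x ∈ nilradical A, x ^ p ^ e = 0) :
    Function.Bijective (Perfection.map p (Ideal.Quotient.mk (nilradical A))) := by
  have hpow : ∀ x y : A, x - y ∈ nilradical A → x ^ p ^ e = y ^ p ^ e := by
    intro x y hxy
    have h1 := he _ hxy
    rw [sub_pow_expChar_pow, sub_eq_zero] at h1
    exact h1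
  constructor
  · rw [injective_iff_map_eq_zero]
    intro f hf
    ext n
    have h1 : Perfection.coeff A p (n + e) f ∈ nilradical A := by
      have := congrArg (Perfection.coeff (A ⧸ nilradical A) p (n + e)) hf
      rw [Perfection.coeff_map, map_zero, Ideal.Quotient.eq_zero_iff_mem] at this
      exact this
    have h2 : Perfection.coeff A p (n + e) f ^ p ^ e = Perfection.coeff A p n f :=
      Perfection.coeffMonoidHom_pow_p_pow' f n e
    rw [← h2, he _ h1, map_zero]
  · intro g
    choose c hc using fun n : ℕ =>
      Ideal.Quotient.mk_surjective (I := nilradical A) (Perfection.coeff (A ⧸ nilradical A) p n g)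
    have ha : ∀ n, (c (n + 1 + e) ^ p ^ e) ^ p = c (n + e) ^ p ^ e := by
      intro n
      rw [← pow_mul, mul_comm, pow_mul]
      apply hpow
      rw [← Ideal.Quotient.eq_zero_iff_mem, map_sub, map_pow, hc, hc, sub_eq_zero]
      have : n + 1 + e = n + e + 1 := by omega
      rw [this]
      exact Perfection.coeff_pow_p' g (n + e)
    refine ⟨⟨fun n => c (n + e) ^ p ^ e, ha⟩, ?_⟩
    ext n
    rw [Perfection.coeff_map, Perfection.coeff_mk, map_pow, hc]
    exact Perfection.coeffMonoidHom_pow_p_pow' g n e

end Groth.Agent.S13049
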