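import Groth.Statements.S1305
import Groth.Agent.Lib.Helper7.ThickAff5
import Groth.Agent.S1302

set_option autoImplicit false
universe u
open FlatMor

namespace Groth.Agent.S1305

open AlgebraicGeometry CategoryTheory Limits in
/-- For a morphism of thickenings, that is a commutative square whose horizontal maps are thickenings
(closed immersions that are surjective on points), the morphism between the thin schemes is integral
if and only if the morphism between the thick ones is. -/
theorem result {X X' S S' : Scheme.{u}} (iX : X ⟶ X') (iS : S ⟶ S') (f : X ⟶ S) (f' : X' ⟶ S')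
    (hX : MoreMor.IsThickening iX) (hS : MoreMor.IsThickening iS) (w : iX ≫ f' = f ≫ iS) :
    IsIntegralHom f ↔ IsIntegralHom f' := by
  have hXc := hX.1
  have hXs := hX.2
  have hSc := hS.1
  constructor
  · intro hf
    have haff : IsAffineHom f' := (Groth.Agent.S1302.result iX iS f f' hX hS w).mp inferInstance
    refine ⟨fun V' hV' => ?_⟩
    have hU' : IsAffineOpen (f' ⁻¹ᵁ V') := hV'.preimage f'
    have e : f ⁻¹ᵁ iS ⁻¹ᵁ V' = iX ⁻¹ᵁ f' ⁻¹ᵁ V' := by
      rw [← Scheme.Hom.comp_preimage, ← Scheme.Hom.comp_preimage, w]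
    have hφ : (f.app (iS ⁻¹ᵁ V')).hom.IsIntegral := f.isIntegral_app _ (hV'.preimage iS)
    have hiso : (X.presheaf.map (eqToHom e.symm).op).hom.IsIntegral :=
      RingHom.isIntegral_of_surjective _
        ((ConcreteCategory.bijective_of_isIso (X.presheaf.map (eqToHom e.symm).op)).2)
    refine Groth.Agent.Lib.helper7.ThickAff.isIntegral_of_nil (f'.app V').hom
      ((X.presheaf.map (eqToHom e.symm).op).hom.comp (f.app (iS ⁻¹ᵁ V')).hom)
      (iS.app V').hom (iX.app (f' ⁻¹ᵁ V')).hom ?_ (iS.app_surjective V' hV') ?_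
      (hφ.trans _ _ hiso)
    · have h1 := Scheme.Hom.congr_app w V'
      rw [Scheme.Hom.comp_app, Scheme.Hom.comp_app] at h1
      exact congrArg CommRingCat.Hom.hom h1
    · intro a ha
      refine Groth.Agent.Lib.helper7.ThickAff.isNilpotent_of_mem_ker iX hXs.surj
        ⟨f' ⁻¹ᵁ V', hU'⟩ a ?_
      rw [Scheme.Hom.ker_apply]
      exact ha
  · intro hf'
    have : IsIntegralHom (f ≫ iS) := by rw [← w]; infer_instance
    exact IsIntegralHom.of_comp f iS

end Groth.Agent.S1305
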