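import Groth.Statements.S13052
import Groth.Agent.Lib.Helper27.ZetaAdd2
-- import your own Groth.Agent.* helpers here

set_option autoImplicit false
universe u
open CategoryTheory AlgebraicGeometry
open Zeta

namespace Groth.Agent.S13052

/-- If X is a scheme of finite type over a finite field k, Y ↪ X a closed subscheme and U = X ∖ Y its
open complement, then Z(X, t) = Z(Y, t) · Z(U, t). Here Y is any scheme with a closed immersion into
X whose image is the complement of U (its scheme structure plays no role), and Y, U are k-schemes
through X. -/
theorem result {k : Type u} [Field k] [Finite k]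
    {X Y : Scheme.{u}} (f : X ⟶ Spec (CommRingCat.of k)) [LocallyOfFiniteType f] [QuasiCompact f]
    (U : X.Opens) (i : Y ⟶ X) [IsClosedImmersion i] (hY : Set.range i.base = (U : Set X)ᶜ) :
    Zeta.zetaFun f = Zeta.zetaFun (i ≫ f) * Zeta.zetaFun (U.ι ≫ f) := by
  classical
  let Yf : Bool → Scheme.{u} := fun b => Bool.rec (U : Scheme.{u}) Y b
  let gf : ∀ b, Yf b ⟶ X := fun b => Bool.rec (motive := fun b => Yf b ⟶ X) U.ι i b
  have hgi : ∀ b, IsImmersion (gf b) := by
    intro b
    cases b
    · exact (inferInstance : IsImmersion U.ι)
    · exact (inferInstance : IsImmersion i)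
  have hrU : Set.range (gf false).base = (U : Set X) := by
    change Set.range U.ι.base = (U : Set X)
    exact Scheme.Opens.range_ι U
  have hrY : Set.range (gf true).base = (U : Set X)ᶜ := hY
  have hpart : ∀ x : X, IsClosed ({x} : Set X) → ∃! b, x ∈ Set.range (gf b).base := by
    intro x _
    by_cases hx : x ∈ (U : Set X)
    · refine ⟨false, (by rw [hrU]; exact hx : x ∈ Set.range (gf false).base), ?_⟩
      intro b hb
      cases b
      · rfl
      · change x ∈ Set.range (gf true).base at hb
        rw [hrY] at hb
        exact absurd hx hb
    · refine ⟨true, (by rw [hrY]; exact hx : x ∈ Set.range (gf true).base), ?_⟩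
      intro b hb
      cases b
      · change x ∈ Set.range (gf false).base at hb
        rw [hrU] at hb
        exact absurd hb hx
      · rfl
  have h := @Groth.Agent.Lib.helper27.ZetaAdd2.zetaFun_partition k _ _ X f _ _ Bool _ Yf gf hgi hpart
  rw [Fintype.prod_bool] at h
  exact h

end Groth.Agent.S13052
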