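import Groth.Statements.S13055
import Groth.Agent.Lib.Helper11.ExpLog
import Mathlib.Algebra.BigOperators.Field
import Mathlib.Algebra.Polynomial.Eval.Degree

set_option autoImplicit false
universe u
open CategoryTheory AlgebraicGeometry
open Zeta

namespace Groth.Agent.S13055

open PowerSeries Groth.Agent.Lib.helper11 in
theorem E_int_smul_mul {K : Type*} [Field K] [Algebra ℚ K] (a : ℤ) (c : K) :
    E ((a : K) • Lc c) * (1 - C c * X) ^ a.toNat = (1 - C c * X) ^ (-a).toNat := by
  have hL := constantCoeff_Lc c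
  have hEL := E_Lc_mul c
  obtain ⟨n, rfl | rfl⟩ := Int.eq_nat_or_neg a
  · have h1 : ((n : ℤ) : K) • Lc c = n • Lc c := by
      rw [Int.cast_natCast, Nat.cast_smul_eq_nsmul]
    rw [h1, E_nsmul hL, Int.toNat_natCast, ← mul_pow, hEL, one_pow]
    have : (-(n : ℤ)).toNat = 0 := by simp
    rw [this, pow_zero]
  · have h1 : ((-(n : ℤ) : ℤ) : K) • Lc c = -(n • Lc c) := by
      rw [Int.cast_neg, Int.cast_natCast, neg_smul, Nat.cast_smul_eq_nsmul]
    have hF : constantCoeff (n • Lc c) = 0 := by rw [map_nsmul, hL, smul_zero]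
    have h2 := E_neg_mul hF
    rw [E_nsmul hL] at h2
    have h3 : (-(n : ℤ)).toNat = 0 := by simp
    have h4 : (- -(n : ℤ)).toNat = n := by simp
    rw [h1, h3, h4, pow_zero, mul_one]
    calc E (-(n • Lc c)) = E (-(n • Lc c)) * (E (Lc c) * (1 - C c * X)) ^ n := by
          rw [hEL, one_pow, mul_one]
      _ = (E (-(n • Lc c)) * E (Lc c) ^ n) * (1 - C c * X) ^ n := by rw [mul_pow]; ring
      _ = (1 - C c * X) ^ n := by rw [h2, one_mul]


/-- Let X be a scheme of finite type over a finite field k with q elements and P = a_d y^d + ⋯ + a_0 ∈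
ℤ[y] with N_m = P(q^m) for every m ≥ 1 (X is of polynomial count). Then Z(X, t) = ∏_{i = 0}^{d} (1 −
q^i t)^{−a_i}; stated cleared of denominators, with the factors of positive exponent moved to the
left. -/
theorem result {k : Type u} [Field k] [Finite k] {X : Scheme.{u}}
    (f : X ⟶ Spec (CommRingCat.of k)) [LocallyOfFiniteType f] [QuasiCompact f] (P : Polynomial ℤ)
    (hP : ∀ m : ℕ, 1 ≤ m → (Zeta.nPts f m : ℤ) = P.eval ((Nat.card k : ℤ) ^ m)) :
    Zeta.zetaFun f * ∏ i ∈ Finset.range (P.natDegree + 1),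
        (1 - PowerSeries.C ((Nat.card k : ℚ) ^ i) * PowerSeries.X) ^ (P.coeff i).toNat =
      ∏ i ∈ Finset.range (P.natDegree + 1),
        (1 - PowerSeries.C ((Nat.card k : ℚ) ^ i) * PowerSeries.X) ^ (-P.coeff i).toNat := by
  classical
  set q : ℚ := (Nat.card k : ℚ) with hq
  have hlog : Zeta.logZeta f = ∑ i ∈ Finset.range (P.natDegree + 1),
      ((P.coeff i : ℤ) : ℚ) • Groth.Agent.Lib.helper11.Lc (q ^ i) := by
    ext m
    rw [Zeta.logZeta, PowerSeries.coeff_mk, map_sum]
    simp only [Groth.Agent.Lib.helper11.Lc, PowerSeries.coeff_smul, PowerSeries.coeff_mk,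
      smul_eq_mul]
    rcases Nat.eq_zero_or_pos m with rfl | hm
    · simp
    · have h1 : ((Zeta.nPts f m : ℤ) : ℚ) = ((P.eval ((Nat.card k : ℤ) ^ m) : ℤ) : ℚ) := by
        rw [hP m hm]
      rw [Polynomial.eval_eq_sum_range] at h1
      push_cast at h1
      rw [h1, Finset.sum_div]
      refine Finset.sum_congr rfl fun i _ => ?_
      rw [← pow_mul, ← pow_mul, mul_comm i m, mul_div_assoc]
  have hz : Zeta.zetaFun f = Groth.Agent.Lib.helper11.E (Zeta.logZeta f) := rfl
  rw [hz, hlog, Groth.Agent.Lib.helper11.E_sum, ← Finset.prod_mul_distrib]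
  · refine Finset.prod_congr rfl fun i _ => ?_
    exact E_int_smul_mul (P.coeff i) (q ^ i)
  · intro i _
    rw [PowerSeries.constantCoeff_smul, Groth.Agent.Lib.helper11.constantCoeff_Lc, smul_zero]

end Groth.Agent.S13055
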