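import Groth.Statements.S13057
import Mathlib

set_option autoImplicit false
universe u
open Zeta

namespace Groth.Agent.S13057

open Polynomial in
/-- The polynomial attached to a coefficient vector. -/
noncomputable def Qc {L : Type*} [Field L] (N : ℕ) (c : Fin (N + 1) → L) : Polynomial L :=
  ∑ j : Fin (N + 1), Polynomial.C (c j) * Polynomial.X ^ (N - (j : ℕ))

theorem coe_Qc {L : Type*} [Field L] (N : ℕ) (c : Fin (N + 1) → L) :
    ((Qc N c : Polynomial L) : PowerSeries L) =
      ∑ j : Fin (N + 1), PowerSeries.C (c j) * PowerSeries.X ^ (N - (j : ℕ)) := by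
  unfold Qc
  rw [← Polynomial.coeToPowerSeries.ringHom_apply, map_sum]
  apply Finset.sum_congr rfl
  intro j _
  simp

theorem coeff_mul_Qc {L : Type*} [Field L] (f : PowerSeries L) (N : ℕ) (c : Fin (N + 1) → L)
    (i : ℕ) :
    PowerSeries.coeff (i + N) (f * (Qc N c : PowerSeries L)) =
      ∑ j : Fin (N + 1), c j * PowerSeries.coeff (i + (j : ℕ)) f := by
  rw [coe_Qc, Finset.mul_sum, map_sum]
  apply Finset.sum_congr rfl
  intro j _
  have hj : (j : ℕ) ≤ N := Nat.lt_succ_iff.mp j.2
  have h1 : f * (PowerSeries.C (c j) * PowerSeries.X ^ (N - (j : ℕ))) =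
      PowerSeries.C (c j) * (f * PowerSeries.X ^ (N - (j : ℕ))) := by ring
  have h2 : i + N - (N - (j : ℕ)) = i + (j : ℕ) := by omega
  rw [h1, PowerSeries.coeff_C_mul, PowerSeries.coeff_mul_X_pow', if_pos (by omega), h2]

theorem coeff_Qc {L : Type*} [Field L] (N : ℕ) (c : Fin (N + 1) → L) (j : Fin (N + 1)) :
    (Qc N c).coeff (N - (j : ℕ)) = c j := by
  unfold Qc
  rw [Polynomial.finsetSum_coeff, Finset.sum_eq_single j]
  · rw [Polynomial.coeff_C_mul_X_pow, if_pos rfl]
  · intro j' _ hne
    rw [Polynomial.coeff_C_mul_X_pow, if_neg]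
    intro h
    apply hne
    have hj : (j : ℕ) ≤ N := Nat.lt_succ_iff.mp j.2
    have hj' : (j' : ℕ) ≤ N := Nat.lt_succ_iff.mp j'.2
    apply Fin.ext
    omega
  · intro h
    exact absurd (Finset.mem_univ j) h

theorem eq_Qc {L : Type*} [Field L] (Q : Polynomial L) :
    Q = Qc Q.natDegree (fun j => Q.coeff (Q.natDegree - (j : ℕ))) := by
  unfold Qc
  conv_lhs => rw [Polynomial.as_sum_range_C_mul_X_pow Q]
  rw [Fin.sum_univ_eq_sum_range
    (fun j => Polynomial.C (Q.coeff (Q.natDegree - j)) * Polynomial.X ^ (Q.natDegree - j))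
    (Q.natDegree + 1)]
  rw [← Finset.sum_range_reflect]
  apply Finset.sum_congr rfl
  intro j _
  simp only [Nat.add_sub_cancel]

/-- A power series f = ∑_{m ≥ 0} a_m t^m over a field L lies in L(t), i.e. f · Q = P for some
polynomials P, Q with Q ≠ 0, if and only if there are natural numbers M, N such that the vectors
(a_i, a_{i+1}, …, a_{i+N}) ∈ L^{N+1}, i ≥ M, span a proper subspace. -/
theorem result {L : Type u} [Field L]
    (f : PowerSeries L) :
    (∃ P Q : Polynomial L, Q ≠ 0 ∧ f * (Q : PowerSeries L) = (P : PowerSeries L)) ↔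
      ∃ M N : ℕ, Submodule.span L
          {v : Fin (N + 1) → L | ∃ i : ℕ, M ≤ i ∧ v = fun j : Fin (N + 1) => PowerSeries.coeff (i + (j : ℕ)) f} ≠ ⊤ := by
  constructor
  · rintro ⟨P, Q, hQ, hPQ⟩
    refine ⟨P.natDegree + 1, Q.natDegree, ?_⟩
    set N := Q.natDegree with hN
    set c : Fin (N + 1) → L := fun j => Q.coeff (N - (j : ℕ)) with hc
    have hQc : Q = Qc N c := eq_Qc Q
    let φ : (Fin (N + 1) → L) →ₗ[L] L := ∑ j : Fin (N + 1), c j • LinearMap.proj j
    have hφ : ∀ v, φ v = ∑ j : Fin (N + 1), c j * v j := by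
      intro v
      simp [φ, LinearMap.sum_apply]
    intro htop
    have hle : Submodule.span L
        {v : Fin (N + 1) → L | ∃ i : ℕ, P.natDegree + 1 ≤ i ∧
          v = fun j : Fin (N + 1) => PowerSeries.coeff (i + (j : ℕ)) f} ≤ LinearMap.ker φ := by
      rw [Submodule.span_le]
      rintro v ⟨i, hi, rfl⟩
      rw [SetLike.mem_coe, LinearMap.mem_ker, hφ, ← coeff_mul_Qc, ← hQc, hPQ, Polynomial.coeff_coe]
      apply Polynomial.coeff_eq_zero_of_natDegree_lt
      omega
    rw [htop, top_le_iff] at hle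
    have h0 : φ (Pi.single 0 1) = 0 := by
      have : (Pi.single 0 1 : Fin (N + 1) → L) ∈ LinearMap.ker φ := by rw [hle]; trivial
      exact this
    rw [hφ, Finset.sum_eq_single 0] at h0
    · simp only [Pi.single_eq_same, mul_one, hc, Fin.val_zero, Nat.sub_zero] at h0
      exact hQ (Polynomial.leadingCoeff_eq_zero.mp h0)
    · intro j _ hj
      rw [Pi.single_eq_of_ne hj, mul_zero]
    · intro h
      exact absurd (Finset.mem_univ _) h
  · rintro ⟨M, N, hne⟩
    obtain ⟨φ, hφ0, hle⟩ := Submodule.exists_le_ker_of_lt_top _ (lt_top_iff_ne_top.mpr hne)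
    set c : Fin (N + 1) → L := fun j => φ (fun j' => if j = j' then 1 else 0) with hc
    have hφ : ∀ v, φ v = ∑ j : Fin (N + 1), c j * v j := by
      intro v
      rw [LinearMap.pi_apply_eq_sum_univ φ v]
      apply Finset.sum_congr rfl
      intro j _
      rw [smul_eq_mul, mul_comm]
    refine ⟨PowerSeries.trunc (M + N) (f * (Qc N c : PowerSeries L)), Qc N c, ?_, ?_⟩
    · intro h0
      apply hφ0
      apply LinearMap.ext
      intro v
      rw [hφ, LinearMap.zero_apply]
      apply Finset.sum_eq_zero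
      intro j _
      rw [← coeff_Qc N c j, h0, Polynomial.coeff_zero, zero_mul]
    · ext n
      rw [Polynomial.coeff_coe, PowerSeries.coeff_trunc]
      split_ifs with hn
      · rfl
      · rw [not_lt] at hn
        obtain ⟨i, rfl⟩ : ∃ i, n = i + N := ⟨n - N, by omega⟩
        rw [coeff_mul_Qc, ← hφ]
        have hmem : (fun j : Fin (N + 1) => PowerSeries.coeff (i + (j : ℕ)) f) ∈
            Submodule.span L {v : Fin (N + 1) → L | ∃ i : ℕ, M ≤ i ∧
              v = fun j : Fin (N + 1) => PowerSeries.coeff (i + (j : ℕ)) f} :=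
          Submodule.subset_span ⟨i, by omega, rfl⟩
        exact hle hmem

end Groth.Agent.S13057
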