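import Groth.Statements.S13058
import Mathlib

set_option autoImplicit false
universe u v
open Zeta

namespace Groth.Agent.S13058



/-- If L'/L is a field extension, a power series f ∈ L⟦t⟧ belongs to L(t) exactly when it belongs to
L'(t); here membership in L(t) means f · Q = P for polynomials P, Q over the field in question with
Q ≠ 0. -/
theorem result {L : Type u} {L' : Type v} [Field L] [Field L']
    [Algebra L L'] (f : PowerSeries L) :
    (∃ P Q : Polynomial L', Q ≠ 0 ∧
        PowerSeries.map (algebraMap L L') f * (Q : PowerSeries L') = (P : PowerSeries L')) ↔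
      ∃ P Q : Polynomial L, Q ≠ 0 ∧ f * (Q : PowerSeries L) = (P : PowerSeries L) := by
  constructor
  · rintro ⟨P', Q', hQ', h⟩
    obtain ⟨j0, hj0⟩ : ∃ j, Q'.coeff j ≠ 0 := by
      by_contra hcon
      push Not at hcon
      exact hQ' (Polynomial.ext fun n => by rw [hcon n, Polynomial.coeff_zero])
    obtain ⟨lam, hlam⟩ : ∃ lam : Module.Dual L L', lam (Q'.coeff j0) ≠ 0 := by
      by_contra hcon
      push Not at hcon
      exact hj0 ((Module.forall_dual_apply_eq_zero_iff L _).mp hcon)
    let T : Polynomial L' → Polynomial L := fun p =>
      ∑ i ∈ p.support, Polynomial.monomial i (lam (p.coeff i))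
    have hT : ∀ (p : Polynomial L') (n : ℕ), (T p).coeff n = lam (p.coeff n) := by
      intro p n
      show (∑ i ∈ p.support, Polynomial.monomial i (lam (p.coeff i))).coeff n = _
      rw [Polynomial.finsetSum_coeff]
      simp only [Polynomial.coeff_monomial]
      rw [Finset.sum_ite_eq']
      split_ifs with hn
      · rfl
      · rw [Polynomial.mem_support_iff, not_not] at hn
        rw [hn, map_zero]
    refine ⟨T P', T Q', ?_, ?_⟩
    · intro h0
      have := hT Q' j0
      rw [h0, Polynomial.coeff_zero] at this
      exact hlam this.symm
    · ext n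
      have hn := congrArg (PowerSeries.coeff n) h
      simp only [PowerSeries.coeff_mul, PowerSeries.coeff_map, Polynomial.coeff_coe] at hn
      simp only [PowerSeries.coeff_mul, Polynomial.coeff_coe, hT]
      rw [← hn, map_sum]
      refine Finset.sum_congr rfl fun p _ => ?_
      rw [← Algebra.smul_def, map_smul, smul_eq_mul]
  · rintro ⟨P, Q, hQ, h⟩
    refine ⟨P.map (algebraMap L L'), Q.map (algebraMap L L'), ?_, ?_⟩
    · exact (Polynomial.map_ne_zero_iff (algebraMap L L').injective).mpr hQ
    · have := congrArg (PowerSeries.map (algebraMap L L')) h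
      rw [map_mul] at this
      rw [Polynomial.polynomial_map_coe, Polynomial.polynomial_map_coe]
      exact this


end Groth.Agent.S13058
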