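import Groth.Statements.S13059
import Mathlib
-- import your own Groth.Agent.* helpers here

set_option autoImplicit false
universe u
open Zeta

namespace Groth.Agent.S13059

theorem charpoly_dualMap {K : Type u} [Field K] {W : Type u} [AddCommGroup W] [Module K W]
    [FiniteDimensional K W] (g : W →ₗ[K] W) : g.dualMap.charpoly = g.charpoly := by
  classical
  set b := Module.Free.chooseBasis K W
  have : Fintype (Module.Free.ChooseBasisIndex K W) := Module.Free.ChooseBasisIndex.fintype K W
  rw [← LinearMap.charpoly_toMatrix g b, ← LinearMap.charpoly_toMatrix g.dualMap b.dualBasis,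
    LinearMap.dualMap_def, LinearMap.toMatrix_transpose, Matrix.charpoly_transpose]

open Polynomial in
theorem matrix_identity {K : Type u} [Field K] {n : Type u} [Fintype n] [DecidableEq n]
    (A Hm : Matrix n n K) (c : K) (hc : c ≠ 0) (h : Hm * A = c • (1 : Matrix n n K)) :
    Matrix.det A • Hm.charpoly.reverse =
      ((-1) ^ Fintype.card n * c ^ Fintype.card n) • (c⁻¹ • A).charpoly := by
  have h' : A * Hm = c • (1 : Matrix n n K) := by
    have h1 : (c⁻¹ • Hm) * A = 1 := by
      rw [Matrix.smul_mul, h, smul_smul, inv_mul_cancel₀ hc, one_smul]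
    have h2 := mul_eq_one_comm.mp h1
    rw [Matrix.mul_smul] at h2
    rw [← one_smul K (A * Hm), ← mul_inv_cancel₀ hc, ← smul_smul, h2]
  rw [Matrix.reverse_charpoly, Matrix.charpolyRev, Matrix.charpoly, smul_eq_C_mul, smul_eq_C_mul]
  have hdetA : C (Matrix.det A) = Matrix.det (C.mapMatrix A) := (RingHom.map_det C A)
  have hkey : C.mapMatrix A * (1 - (X : K[X]) • Hm.map C) =
      (-(C c)) • Matrix.charmatrix (c⁻¹ • A) := by
    have hAH : C.mapMatrix A * Hm.map C = C c • (1 : Matrix n n K[X]) := by
      have := congrArg C.mapMatrix h'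
      rw [map_mul] at this
      rw [show Hm.map C = C.mapMatrix Hm from rfl, this]
      ext i j
      simp [Matrix.one_apply, Matrix.smul_apply]
      split_ifs <;> simp
    rw [Matrix.mul_sub, Matrix.mul_one, Matrix.mul_smul, hAH, Matrix.charmatrix]
    refine Matrix.ext fun i j => ?_
    simp only [Matrix.sub_apply, Matrix.smul_apply, Matrix.one_apply, Matrix.scalar_apply,
      Matrix.diagonal_apply, RingHom.mapMatrix_apply, Matrix.map_apply, smul_eq_mul, map_mul]
    have hcc : C c * C c⁻¹ = (1 : K[X]) := by rw [← C_mul, mul_inv_cancel₀ hc, C_1]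
    split_ifs with hij
    · linear_combination (-(C (A i j))) * hcc
    · linear_combination (-(C (A i j))) * hcc
  rw [hdetA, ← Matrix.det_mul, hkey, Matrix.det_smul, neg_pow, map_mul, map_pow, map_pow, map_neg,
    map_one]

/-- Let B : V × W → K be a perfect pairing of finite-dimensional vector spaces over a field K, c ∈ K
nonzero, and f, g endomorphisms of V, W with B(f v, g w) = c · B(v, w) for all v, w. Then det(Id − t
g) = (−1)^r c^r t^r det(f)^{−1} det(Id − c^{−1} t^{−1} f) with r the common dimension; stated
cleared of denominators as det(f) · det(Id − t g) = (−1)^r c^r · det(t Id − c^{−1} f) in K[t],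
det(Id − t g) being the reverse of the characteristic polynomial of g. -/
theorem result (K : Type u) [Field K] (V W : Type u)
    [AddCommGroup V] [Module K V] [FiniteDimensional K V] [AddCommGroup W] [Module K W]
    [FiniteDimensional K W] (B : V →ₗ[K] W →ₗ[K] K) [B.IsPerfPair] (f : V →ₗ[K] V) (g : W →ₗ[K] W)
    (c : K) (hc : c ≠ 0) (hfg : ∀ (v : V) (w : W), B (f v) (g w) = c * B v w) :
    LinearMap.det f • (LinearMap.charpoly g).reverse =
      ((-1) ^ Module.finrank K W * c ^ Module.finrank K W) • (c⁻¹ • f).charpoly := by
  classical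
  let e : V ≃ₗ[K] Module.Dual K W := B.toPerfPair
  let H : V →ₗ[K] V :=
    (e.symm : Module.Dual K W →ₗ[K] V) ∘ₗ g.dualMap ∘ₗ (e.symm.symm : V →ₗ[K] Module.Dual K W)
  have hHchar : H.charpoly = g.charpoly := by
    have : H = e.symm.conj g.dualMap := by
      ext v
      simp [H, LinearEquiv.conj_apply]
    rw [this, LinearEquiv.charpoly_conj, charpoly_dualMap]
  have hHF : H ∘ₗ f = c • LinearMap.id := by
    ext v
    apply e.injective
    ext w
    simp only [H, LinearMap.comp_apply, LinearEquiv.coe_coe, LinearEquiv.symm_symm,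
      LinearEquiv.apply_symm_apply, LinearMap.dualMap_apply, LinearMap.smul_apply,
      LinearMap.id_apply, map_smul, smul_eq_mul]
    exact hfg v w
  set b := Module.Free.chooseBasis K V with hb
  haveI : Fintype (Module.Free.ChooseBasisIndex K V) := Module.Free.ChooseBasisIndex.fintype K V
  have hmat : LinearMap.toMatrix b b H * LinearMap.toMatrix b b f =
      c • (1 : Matrix (Module.Free.ChooseBasisIndex K V) (Module.Free.ChooseBasisIndex K V) K) := by
    rw [← LinearMap.toMatrix_comp, hHF, map_smul, LinearMap.toMatrix_id]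
  have hcard : Fintype.card (Module.Free.ChooseBasisIndex K V) = Module.finrank K W := by
    rw [← Module.finrank_eq_card_basis b]
    exact Module.finrank_of_isPerfPair B
  have key := matrix_identity (LinearMap.toMatrix b b f) (LinearMap.toMatrix b b H) c hc hmat
  rw [LinearMap.det_toMatrix, LinearMap.charpoly_toMatrix, hcard, ← map_smul,
    LinearMap.charpoly_toMatrix, hHchar] at key
  exact key

end Groth.Agent.S13059
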