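import Groth.Statements.S13060
import Mathlib
-- import your own Groth.Agent.* helpers here

set_option autoImplicit false
universe u v w x
open TensorProduct
open Zeta

namespace Groth.Agent.S13060

theorem equiv_map {k : Type u} [Field k] {V : Type w} {W : Type x} [AddCommGroup V] [Module k V]
    [AddCommGroup W] [Module k W] {κ : Type x} [DecidableEq κ] (𝒞 : Module.Basis κ k W) (φ : V →ₗ[k] V)
    (z : V ⊗[k] W) (j : κ) :
    TensorProduct.equivFinsuppOfBasisRight 𝒞 (TensorProduct.map φ LinearMap.id z) j =
      φ (TensorProduct.equivFinsuppOfBasisRight 𝒞 z j) := by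
  induction z using TensorProduct.induction_on with
  | zero => simp
  | tmul m n =>
    rw [TensorProduct.map_tmul, LinearMap.id_apply,
      TensorProduct.equivFinsuppOfBasisRight_apply_tmul_apply,
      TensorProduct.equivFinsuppOfBasisRight_apply_tmul_apply, map_smul]
  | add x y hx hy =>
    rw [map_add, map_add, Finsupp.add_apply, hx, hy, map_add, Finsupp.add_apply, map_add]

/-- Let k be a field, V and W vector spaces over k and G a group acting on V by k-linear automorphisms;
for the induced action on V ⊗_k W (trivial on W) one has (V ⊗_k W)^G = V^G ⊗_k W, i.e. the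
invariants of V ⊗ W are the image of V^G ⊗ W → V ⊗ W. -/
theorem result {k : Type u} [Field k] {G : Type v} [Group G]
    {V : Type w} {W : Type x} [AddCommGroup V] [Module k V] [AddCommGroup W] [Module k W]
    (ρ : Representation k G V) :
    (ρ.tprod (Representation.trivial k G W)).invariants =
      LinearMap.range (TensorProduct.map ρ.invariants.subtype (LinearMap.id : W →ₗ[k] W)) := by
  apply le_antisymm
  · intro z hz
    rw [Representation.mem_invariants] at hz
    classical
    obtain ⟨𝒞⟩ : Nonempty (Module.Basis (Module.Free.ChooseBasisIndex k W) k W) :=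
      ⟨Module.Free.chooseBasis k W⟩
    have hinv : ∀ j, TensorProduct.equivFinsuppOfBasisRight 𝒞 z j ∈ ρ.invariants := by
      intro j
      rw [Representation.mem_invariants]
      intro g
      have h1 := hz g
      rw [Representation.tprod_apply] at h1
      have h2 : (Representation.trivial k G W) g = LinearMap.id := rfl
      rw [h2] at h1
      rw [← equiv_map 𝒞 (ρ g) z j, h1]
    have hz' : z = (TensorProduct.equivFinsuppOfBasisRight 𝒞).symm
        (TensorProduct.equivFinsuppOfBasisRight 𝒞 z) := (LinearEquiv.symm_apply_apply _ _).symm
    rw [hz', TensorProduct.equivFinsuppOfBasisRight_symm_apply]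
    apply Submodule.sum_mem
    intro j _
    exact ⟨(⟨_, hinv j⟩ : ρ.invariants) ⊗ₜ[k] 𝒞 j, by
      rw [TensorProduct.map_tmul]; rfl⟩
  · rintro _ ⟨y, rfl⟩
    rw [Representation.mem_invariants]
    intro g
    induction y using TensorProduct.induction_on with
    | zero => simp
    | tmul v w =>
      rw [TensorProduct.map_tmul, Representation.tprod_apply, TensorProduct.map_tmul]
      have hv : ρ g v.1 = v.1 := (Representation.mem_invariants ρ v.1).mp v.2 g
      show ρ g v.1 ⊗ₜ[k] w = v.1 ⊗ₜ[k] w
      rw [hv]
    | add x y hx hy => rw [map_add, map_add, hx, hy]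

end Groth.Agent.S13060
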