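import Groth.Statements.S13061
import Mathlib
-- import your own Groth.Agent.* helpers here

set_option autoImplicit false
universe u v w
open Zeta

namespace Groth.Agent.S13061

theorem avgLemma {k : Type u} [Field k] {A : Type v} [CommRing A] [Algebra k A] {G : Type w} [Group G]
    [Finite G] [MulSemiringAction G A] [SMulCommClass G k A] (I : Ideal A)
    (u : A) (hu : ∀ g : G, g • u - u ∈ I) (P : Subgroup G)
    (hP : (P.index : k) ≠ 0) :
    ∃ a : A, (∀ g : G, g • a = a) ∧
      Ideal.Quotient.mk I a = Ideal.Quotient.mk I u ^ (Nat.card P) := by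
  classical
  haveI : Fintype P := Fintype.ofFinite P
  haveI : Fintype (G ⧸ P) := Fintype.ofFinite _
  obtain ⟨a', ha'⟩ : ∃ a' : A, a' = ∏ h : P, (h : G) • u := ⟨_, rfl⟩
  have hmk : ∀ g : G, Ideal.Quotient.mk I (g • u) = Ideal.Quotient.mk I u :=
    fun g => Ideal.Quotient.eq.mpr (hu g)
  have hPinv : ∀ h₀ : P, (h₀ : G) • a' = a' := by
    intro h₀
    rw [ha', Finset.smul_prod']
    simp_rw [smul_smul]
    exact Fintype.prod_equiv (Equiv.mulLeft h₀) _ _ (fun h => rfl)
  have hmka' : ∀ g : G, Ideal.Quotient.mk I (g • a') = Ideal.Quotient.mk I u ^ Nat.card P := by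
    intro g
    rw [ha', Finset.smul_prod', map_prod]
    simp_rw [smul_smul, hmk]
    rw [Finset.prod_const, Finset.card_univ, Nat.card_eq_fintype_card]
  have hout : ∀ (g : G) (x : G ⧸ P),
      (g * Quotient.out x) • a' = (Quotient.out (g • x) : G) • a' := by
    intro g x
    have hmem : (Quotient.out (g • x))⁻¹ * (g * Quotient.out x) ∈ P := by
      rw [← QuotientGroup.eq, QuotientGroup.out_eq']
      conv_lhs => rw [← QuotientGroup.out_eq' x]
      rfl
    have h1 : g * Quotient.out x =
        Quotient.out (g • x) * ((Quotient.out (g • x))⁻¹ * (g * Quotient.out x)) := by group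
    rw [h1, mul_smul, hPinv ⟨_, hmem⟩]
  obtain ⟨b, hb⟩ : ∃ b : A, b = ∑ x : G ⧸ P, (Quotient.out x : G) • a' := ⟨_, rfl⟩
  have hbinv : ∀ g : G, g • b = b := by
    intro g
    rw [hb, Finset.smul_sum]
    simp_rw [smul_smul, hout]
    exact Fintype.sum_equiv (MulAction.toPerm g) _ _ (fun x => rfl)
  refine ⟨(P.index : k)⁻¹ • b, fun g => by rw [smul_comm, hbinv], ?_⟩
  have h2 : Ideal.Quotient.mk I ((P.index : k)⁻¹ • b) =
      (P.index : k)⁻¹ • Ideal.Quotient.mk I b := map_smul (Ideal.Quotient.mkₐ k I) _ _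
  rw [h2, hb, map_sum]
  simp_rw [hmka']
  rw [Finset.sum_const, Finset.card_univ, ← Nat.card_eq_fintype_card, ← Subgroup.index,
    ← Nat.cast_smul_eq_nsmul k, smul_smul, inv_mul_cancel₀ hP, one_smul]

/-- Let A be a commutative algebra over a field k, G a finite group acting on A by k-algebra
automorphisms and I ⊆ A an ideal preserved by G. If p^n is the largest power of p = char(k) dividing
|G| (with p^n = 1 when char(k) = 0), then for every G-invariant b ∈ A/I the power b^{p^n} lies in
the image of A^G → (A/I)^G. (The published statement takes A finitely generated over k, which the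
proof does not use.) -/
theorem result {k : Type u} [Field k]
    {A : Type v} [CommRing A] [Algebra k A] {G : Type w} [Group G] [Finite G]
    [MulSemiringAction G A] [SMulCommClass G k A] (I : Ideal A)
    (hI : ∀ (g : G) (a : A), a ∈ I → g • a ∈ I) (u : A) (hu : ∀ g : G, g • u - u ∈ I) :
    ∃ a : A, (∀ g : G, g • a = a) ∧
      Ideal.Quotient.mk I a =
        Ideal.Quotient.mk I u ^ (ringChar k ^ (Nat.card G).factorization (ringChar k)) := by
  rcases CharP.char_is_prime_or_zero k (ringChar k) with hp | hp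
  · haveI : Fact (ringChar k).Prime := ⟨hp⟩
    obtain ⟨P⟩ : Nonempty (Sylow (ringChar k) G) := inferInstance
    have hidx : ((P : Subgroup G).index : k) ≠ 0 := by
      rw [Ne, CharP.cast_eq_zero_iff k (ringChar k)]
      exact P.not_dvd_index
    obtain ⟨a, ha1, ha2⟩ := avgLemma I u hu (P : Subgroup G) hidx
    refine ⟨a, ha1, ?_⟩
    rw [ha2, Sylow.card_eq_multiplicity P]
  · haveI : CharZero k := by
      haveI : CharP k 0 := by rw [← hp]; exact ringChar.charP k
      exact CharP.charP_to_charZero k
    have hidx : (((⊥ : Subgroup G)).index : k) ≠ 0 := by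
      rw [Subgroup.index_bot]
      exact Nat.cast_ne_zero.mpr Nat.card_pos.ne'
    obtain ⟨a, ha1, ha2⟩ := avgLemma I u hu (⊥ : Subgroup G) hidx
    refine ⟨a, ha1, ?_⟩
    rw [ha2, hp, Subgroup.card_bot]
    simp

end Groth.Agent.S13061
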