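import Groth.Statements.S13065
import Mathlib

set_option autoImplicit false
universe u
open Zeta

namespace Groth.Agent.S13065

theorem sumpow_top (k : Type u) [Field k] [Fintype k] :
    ∑ x : k, x ^ (Fintype.card k - 1) = -1 := by
  classical
  have h1 : ∀ x : k, x ^ (Fintype.card k - 1) = 1 - (if x = 0 then 1 else 0) := by
    intro x
    by_cases hx : x = 0
    · rw [if_pos hx, hx, zero_pow, sub_self]
      have := Fintype.one_lt_card (α := k)
      omega
    · rw [if_neg hx, sub_zero, FiniteField.pow_card_sub_one_eq_one x hx]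
  have h2 : ∑ x : k, (if x = 0 then (1 : k) else 0) = 1 := by simp
  rw [Finset.sum_congr rfl (fun x _ => h1 x), Finset.sum_sub_distrib, h2, Finset.sum_const,
    Finset.card_univ, nsmul_eq_mul, mul_one, FiniteField.cast_card_eq_zero, zero_sub]

theorem main {k : Type u} [Field k] [Fintype k] (n : ℕ)
    (f : MvPolynomial (Fin (n + 1)) k) (hf : f.IsHomogeneous (n + 1)) :
    ((Nat.card {a : Fin (n + 1) → k // MvPolynomial.eval a f = 0} : ℕ) : k) =
      - ((-1) ^ (n + 1) * MvPolynomial.coeff
        (Finsupp.equivFunOnFinite.symm fun _ : Fin (n + 1) => Fintype.card k - 1)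
        (f ^ (Fintype.card k - 1))) := by
  classical
  obtain ⟨q, hq⟩ : ∃ q, q = Fintype.card k := ⟨_, rfl⟩
  rw [← hq]
  have hq2 : 2 ≤ q := by rw [hq]; exact Fintype.one_lt_card
  obtain ⟨F, hF⟩ : ∃ F, F = f ^ (q - 1) := ⟨_, rfl⟩
  rw [← hF]
  obtain ⟨d0, hd0⟩ : ∃ d0 : Fin (n + 1) →₀ ℕ,
      d0 = Finsupp.equivFunOnFinite.symm fun _ : Fin (n + 1) => q - 1 := ⟨_, rfl⟩
  rw [← hd0]
  have hd0i : ∀ i, d0 i = q - 1 := by intro i; rw [hd0]; rfl
  have hFhom : F.IsHomogeneous ((n + 1) * (q - 1)) := by rw [hF]; exact hf.pow (q - 1)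
  have h1 : ((Nat.card {a : Fin (n + 1) → k // MvPolynomial.eval a f = 0} : ℕ) : k) =
      ∑ a : Fin (n + 1) → k, (1 - MvPolynomial.eval a F) := by
    rw [Nat.card_eq_fintype_card, Fintype.card_subtype, Finset.natCast_card_filter]
    apply Finset.sum_congr rfl
    intro a _
    rw [hF, map_pow]
    by_cases ha : MvPolynomial.eval a f = 0
    · rw [if_pos ha, ha, zero_pow (by omega), sub_zero]
    · rw [if_neg ha, hq, FiniteField.pow_card_sub_one_eq_one _ ha, sub_self]
  have hS : ∀ e : Fin (n + 1) →₀ ℕ,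
      ∑ a : Fin (n + 1) → k, ∏ i, a i ^ e i = ∏ i, ∑ x : k, x ^ e i := by
    intro e
    rw [Finset.prod_univ_sum (fun _ => (Finset.univ : Finset k)) (fun i x => x ^ e i),
      Fintype.piFinset_univ]
  have h2 : ∑ a : Fin (n + 1) → k, MvPolynomial.eval a F =
      ∑ d ∈ F.support, MvPolynomial.coeff d F * ∏ i, ∑ x : k, x ^ d i := by
    rw [Finset.sum_congr rfl (fun a _ => MvPolynomial.eval_eq' a F), Finset.sum_comm]
    apply Finset.sum_congr rfl
    intro d _
    rw [← Finset.mul_sum, hS d]
  have h3 : ∑ d ∈ F.support, MvPolynomial.coeff d F * ∏ i, ∑ x : k, x ^ d i =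
      MvPolynomial.coeff d0 F * (-1) ^ (n + 1) := by
    rw [Finset.sum_eq_single d0]
    · congr 1
      have hall : ∀ i ∈ (Finset.univ : Finset (Fin (n + 1))), ∑ x : k, x ^ d0 i = -1 := by
        intro i _
        rw [hd0i i, hq, sumpow_top k]
      rw [Finset.prod_congr rfl hall, Finset.prod_const, Finset.card_univ, Fintype.card_fin]
    · intro d hd hne
      have hdeg : d.degree = (n + 1) * (q - 1) := by
        by_contra hcon
        exact (MvPolynomial.mem_support_iff.mp hd) (hFhom.coeff_eq_zero hcon)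
      have hex : ∃ i, d i < q - 1 := by
        by_contra hcon
        push_neg at hcon
        apply hne
        have hsum : ∑ i : Fin (n + 1), (q - 1) = ∑ i : Fin (n + 1), d i := by
          rw [← Finsupp.degree_eq_sum, hdeg, Finset.sum_const, Finset.card_univ,
            Fintype.card_fin, smul_eq_mul]
        have hall := (Finset.sum_eq_sum_iff_of_le (fun i _ => hcon i)).mp hsum
        ext i
        rw [hd0i i]
        exact (hall i (Finset.mem_univ i)).symm
      obtain ⟨i, hi⟩ := hex
      rw [hq] at hi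
      rw [Finset.prod_eq_zero (Finset.mem_univ i)
        (FiniteField.sum_pow_lt_card_sub_one k _ hi), mul_zero]
    · intro hnot
      rw [MvPolynomial.notMem_support_iff.mp hnot, zero_mul]
  have hcard : ((Fintype.card (Fin (n + 1) → k) : ℕ) : k) = 0 := by
    rw [Fintype.card_fun, Nat.cast_pow, FiniteField.cast_card_eq_zero, zero_pow]
    exact Fintype.card_ne_zero
  rw [h1, Finset.sum_sub_distrib, h2, h3, Finset.sum_const, Finset.card_univ, nsmul_eq_mul,
    mul_one, hcard, zero_sub]
  ring


/-- Let k be a finite field with q elements and characteristic p, n ≥ 2, and f ∈ k[x_0, …, x_n]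
homogeneous of degree n + 1, defining the hypersurface Z ⊂ P^n_k. Then #Z(F_q) ≢ 1 (mod p) if and
only if the coefficient of (x_0 ⋯ x_n)^{q−1} in f^{q−1} is nonzero. Stated through the affine count:
#Z(F_q) ≡ 1 (mod p) exactly when p divides the number of zeros of f in k^{n+1} (as (q − 1) #Z(F_q) +
1 is that number). -/
theorem result {k : Type u} [Field k] [Finite k] (p : ℕ)
    [CharP k p] (n : ℕ) (hn : 2 ≤ n) (f : MvPolynomial (Fin (n + 1)) k)
    (hf : f.IsHomogeneous (n + 1)) :
    p ∣ Nat.card {a : Fin (n + 1) → k // MvPolynomial.eval a f = 0} ↔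
      MvPolynomial.coeff (Finsupp.equivFunOnFinite.symm fun _ : Fin (n + 1) => Nat.card k - 1)
        (f ^ (Nat.card k - 1)) = 0 := by
  haveI := Fintype.ofFinite k
  have hm := main n f hf
  rw [Nat.card_eq_fintype_card (α := k)]
  rw [← CharP.cast_eq_zero_iff k p, hm, neg_eq_zero, mul_eq_zero]
  constructor
  · rintro (h | h)
    · exact absurd h (pow_ne_zero _ (neg_ne_zero.mpr one_ne_zero))
    · exact h
  · intro h; exact Or.inr h


end Groth.Agent.S13065
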