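import Groth.Statements.S13066
import Mathlib

set_option autoImplicit false
universe u
open Zeta

namespace Groth.Agent.S13066

/-- constant exponent vector -/
noncomputable abbrev cst (n a : ℕ) : Fin (n + 1) →₀ ℕ :=
  Finsupp.equivFunOnFinite.symm fun _ : Fin (n + 1) => a

theorem cst_apply (n a : ℕ) (i : Fin (n + 1)) : cst n a i = a := rfl

theorem step {k : Type u} [Field k] (p : ℕ) [hp : Fact p.Prime] [CharP k p] (n : ℕ)
    (f : MvPolynomial (Fin (n + 1)) k) (hf : f.IsHomogeneous (n + 1)) (r : ℕ) :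
    MvPolynomial.coeff (cst n (p ^ (r + 1) - 1)) (f ^ (p ^ (r + 1) - 1)) =
      MvPolynomial.coeff (cst n (p ^ r - 1)) (f ^ (p ^ r - 1)) *
        (MvPolynomial.coeff (cst n (p - 1)) (f ^ (p - 1))) ^ (p ^ r) := by
  classical
  obtain ⟨G, hG⟩ : ∃ G, G = f ^ (p - 1) := ⟨_, rfl⟩
  obtain ⟨H, hH⟩ : ∃ H, H = f ^ (p ^ r - 1) := ⟨_, rfl⟩
  have hp1 : 1 ≤ p := hp.out.one_le
  have hP1 : 1 ≤ p ^ r := Nat.one_le_pow _ _ hp1
  have hexp : p ^ (r + 1) - 1 = (p ^ r - 1) + (p - 1) * p ^ r := by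
    rw [pow_succ']
    have h6 : (p - 1) * p ^ r = p * p ^ r - p ^ r := by rw [Nat.sub_mul, one_mul]
    have h7 : p ^ r ≤ p * p ^ r := Nat.le_mul_of_pos_left _ (by omega)
    rw [h6]
    generalize p * p ^ r = Q at *
    generalize p ^ r = P at *
    omega
  have harith : p ^ r * (p - 1) + (p ^ r - 1) = p ^ (r + 1) - 1 := by
    rw [hexp, mul_comm, add_comm]
  have hGhom : G.IsHomogeneous ((n + 1) * (p - 1)) := by rw [hG]; exact hf.pow (p - 1)
  have hfac : f ^ (p ^ (r + 1) - 1) = H * G ^ (p ^ r) := by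
    rw [hexp, pow_add, pow_mul, ← hH, ← hG]
  have hGp : G ^ (p ^ r) = ∑ d ∈ G.support,
      MvPolynomial.monomial (p ^ r • d) ((MvPolynomial.coeff d G) ^ (p ^ r)) := by
    conv_lhs => rw [G.as_sum]
    rw [sum_pow_char_pow p r]
    apply Finset.sum_congr rfl
    intro d _
    rw [MvPolynomial.monomial_pow]
  obtain ⟨D, hD⟩ : ∃ D, D = cst n (p ^ (r + 1) - 1) := ⟨_, rfl⟩
  have hDi : ∀ i, D i = p ^ (r + 1) - 1 := by intro i; rw [hD]; rfl
  have hcoef : MvPolynomial.coeff D (H * G ^ (p ^ r)) = ∑ d ∈ G.support,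
      (if p ^ r • d ≤ D then MvPolynomial.coeff (D - p ^ r • d) H *
        (MvPolynomial.coeff d G) ^ (p ^ r) else 0) := by
    rw [hGp, Finset.mul_sum, MvPolynomial.coeff_sum]
    apply Finset.sum_congr rfl
    intro d _
    rw [MvPolynomial.coeff_mul_monomial']
  rw [hfac, ← hD, hcoef, ← hG, ← hH]
  rw [Finset.sum_eq_single (cst n (p - 1))]
  · have hle : p ^ r • cst n (p - 1) ≤ D := by
      intro i
      rw [Finsupp.smul_apply, smul_eq_mul, hDi i, cst_apply, ← harith]
      exact Nat.le_add_right _ _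
    rw [if_pos hle]
    congr 2
    ext i
    rw [Finsupp.tsub_apply, Finsupp.smul_apply, smul_eq_mul, hDi i, cst_apply, cst_apply,
      ← harith]
    exact Nat.add_sub_cancel_left _ _
  · intro d hd hne
    rw [if_neg]
    intro hle
    apply hne
    have hdi : ∀ i, d i ≤ p - 1 := by
      intro i
      have h1 := hle i
      rw [Finsupp.smul_apply, smul_eq_mul, hDi i, pow_succ] at h1
      have h0 : 0 < p ^ r * p := Nat.mul_pos hP1 hp1
      have h2 : p ^ r * d i < p ^ r * p := lt_of_le_of_lt h1 (Nat.sub_lt h0 Nat.one_pos)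
      have h3 := Nat.lt_of_mul_lt_mul_left h2
      omega
    have hdeg : d.degree = (n + 1) * (p - 1) := by
      by_contra hcon
      exact (MvPolynomial.mem_support_iff.mp hd) (hGhom.coeff_eq_zero hcon)
    have hsum : ∑ i : Fin (n + 1), d i = ∑ i : Fin (n + 1), (p - 1) := by
      rw [← Finsupp.degree_eq_sum, hdeg, Finset.sum_const, Finset.card_univ,
        Fintype.card_fin, smul_eq_mul]
    have hall := (Finset.sum_eq_sum_iff_of_le (fun i _ => hdi i)).mp hsum
    ext i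
    rw [cst_apply]
    exact hall i (Finset.mem_univ i)
  · intro hnot
    rw [MvPolynomial.notMem_support_iff.mp hnot, zero_pow (by omega), mul_zero, ite_self]

theorem main {k : Type u} [Field k] (p : ℕ) [hp : Fact p.Prime] [CharP k p] (n : ℕ)
    (f : MvPolynomial (Fin (n + 1)) k) (hf : f.IsHomogeneous (n + 1)) (r : ℕ) :
    MvPolynomial.coeff (cst n (p ^ (r + 1) - 1)) (f ^ (p ^ (r + 1) - 1)) ≠ 0 ↔
      MvPolynomial.coeff (cst n (p - 1)) (f ^ (p - 1)) ≠ 0 := by
  induction r with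
  | zero =>
    have h0 : p ^ (0 + 1) = p := by rw [zero_add, pow_one]
    rw [h0]
  | succ r ih =>
    rw [step p n f hf (r + 1), mul_ne_zero_iff, ih,
      pow_ne_zero_iff (pow_ne_zero _ hp.out.ne_zero)]
    exact and_self_iff


/-- Let k be a finite field with q elements and characteristic p, n ≥ 2, and f ∈ k[x_0, …, x_n]
homogeneous of degree n + 1. Then the coefficient of (x_0 ⋯ x_n)^{q−1} in f^{q−1} is nonzero if and
only if the coefficient of (x_0 ⋯ x_n)^{p−1} in f^{p−1} is nonzero. -/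
theorem result {k : Type u} [Field k] [Finite k]
    (p : ℕ) [CharP k p] (n : ℕ) (hn : 2 ≤ n) (f : MvPolynomial (Fin (n + 1)) k)
    (hf : f.IsHomogeneous (n + 1)) :
    MvPolynomial.coeff (Finsupp.equivFunOnFinite.symm fun _ : Fin (n + 1) => Nat.card k - 1)
        (f ^ (Nat.card k - 1)) ≠ 0 ↔
      MvPolynomial.coeff (Finsupp.equivFunOnFinite.symm fun _ : Fin (n + 1) => p - 1)
        (f ^ (p - 1)) ≠ 0 := by
  haveI := Fintype.ofFinite k
  obtain ⟨r, hpp, hcard⟩ := FiniteField.card k p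
  haveI : Fact p.Prime := ⟨hpp⟩
  rw [Nat.card_eq_fintype_card, hcard]
  obtain ⟨r', hr'⟩ : ∃ r', (r : ℕ) = r' + 1 := ⟨r - 1, by have := r.pos; omega⟩
  rw [hr']
  exact main p n f hf r'


end Groth.Agent.S13066
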