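import Groth.Statements.S13075
import Groth.Agent.Lib.Helper11.ExpLog

set_option autoImplicit false
open Zeta

namespace Groth.Agent.S13075

/-- For the formal power series exp(t) = ∑_{m ≥ 0} t^m / m! and log(1 + t) = ∑_{m ≥ 1} (−1)^{m+1} t^m /
m over ℚ, log(exp(u)) = u and exp(log(1 + u)) = 1 + u for every u ∈ tℚ⟦t⟧; stated for u = t (the
general case is obtained by substitution): substituting exp(t) − 1 into log(1 + ·) gives t, and
substituting log(1 + t) into exp gives 1 + t. -/
theorem result :
    PowerSeries.subst (PowerSeries.exp ℚ - 1)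
        (PowerSeries.mk fun m : ℕ => if m = 0 then (0 : ℚ) else (-1) ^ (m + 1) / (m : ℚ)) =
      PowerSeries.X ∧
    PowerSeries.subst (PowerSeries.mk fun m : ℕ => if m = 0 then (0 : ℚ) else (-1) ^ (m + 1) / (m : ℚ))
        (PowerSeries.exp ℚ) = 1 + PowerSeries.X := by
  set Lg : PowerSeries ℚ :=
    PowerSeries.mk fun m : ℕ => if m = 0 then (0 : ℚ) else (-1) ^ (m + 1) / (m : ℚ) with hLg
  have hLg0 : PowerSeries.constantCoeff Lg = 0 := by
    rw [← PowerSeries.coeff_zero_eq_constantCoeff_apply, hLg, PowerSeries.coeff_mk]; simp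
  have hLg' : PowerSeries.derivative ℚ Lg = PowerSeries.mk fun n : ℕ => (-1 : ℚ) ^ n := by
    ext n
    rw [PowerSeries.coeff_derivative, hLg, PowerSeries.coeff_mk, PowerSeries.coeff_mk,
      if_neg (Nat.succ_ne_zero n)]
    have h3 : ((n : ℚ) + 1) ≠ 0 := by exact_mod_cast Nat.succ_ne_zero n
    push_cast
    field_simp
    ring
  have hmul : PowerSeries.derivative ℚ Lg * (1 + PowerSeries.X) = 1 := by
    rw [hLg']
    ext n
    rw [mul_add, mul_one, map_add, PowerSeries.coeff_mk]
    cases n with
    | zero => simp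
    | succ n =>
      rw [PowerSeries.coeff_succ_mul_X, PowerSeries.coeff_mk, PowerSeries.coeff_one,
        if_neg (Nat.succ_ne_zero n)]
      ring
  constructor
  · -- log(exp X) = X
    set G : PowerSeries ℚ := PowerSeries.exp ℚ - 1 with hG
    have hG0 : PowerSeries.constantCoeff G = 0 := by simp [hG]
    have hGs : PowerSeries.HasSubst G := PowerSeries.HasSubst.of_constantCoeff_zero' hG0
    have hG' : PowerSeries.derivative ℚ G = PowerSeries.exp ℚ := by
      rw [hG, map_sub, PowerSeries.derivative_exp]
      have h2 : (PowerSeries.derivative ℚ) (1 : PowerSeries ℚ) = 0 := by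
        rw [← map_one (PowerSeries.C (R := ℚ)), PowerSeries.derivative_C]
      rw [h2, sub_zero]
    have h1 : (PowerSeries.derivative ℚ Lg).subst G * PowerSeries.exp ℚ = 1 := by
      have := congrArg (PowerSeries.subst G) hmul
      rw [PowerSeries.subst_mul hGs, PowerSeries.subst_add hGs, PowerSeries.subst_X hGs] at this
      have h1' : (1 : PowerSeries ℚ).subst G = (1 : PowerSeries ℚ) := by
        rw [← PowerSeries.coe_substAlgHom hGs, map_one]
      rw [h1'] at this
      rw [← this, hG]
      congr 1
      ring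
    apply PowerSeries.derivative.ext
    · rw [PowerSeries.derivative_subst hGs, hG', h1, PowerSeries.derivative_X]
    · rw [PowerSeries.constantCoeff_X]
      exact PowerSeries.constantCoeff_subst_eq_zero hG0 _ hLg0
  · -- exp(log(1+X)) = 1 + X
    change Groth.Agent.Lib.helper11.E Lg = 1 + PowerSeries.X
    apply Groth.Agent.Lib.helper11.ode_unique' (H := PowerSeries.derivative ℚ Lg)
    · exact Groth.Agent.Lib.helper11.derivative_E hLg0
    · rw [hmul, map_add, PowerSeries.derivative_X]
      have h2 : (PowerSeries.derivative ℚ) (1 : PowerSeries ℚ) = 0 := by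
        rw [← map_one (PowerSeries.C (R := ℚ)), PowerSeries.derivative_C]
      rw [h2, zero_add]
    · rw [Groth.Agent.Lib.helper11.constantCoeff_E hLg0]
      simp

end Groth.Agent.S13075
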