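import Groth.Statements.S13087
import Mathlib
import Groth.Agent.Lib.Helper26.Seg21

set_option autoImplicit false
universe u
open Lie3Mod

namespace Groth.Agent.S13087

open Lie3Mod

section NZDsec

variable {R : Type*} [CommRing R]

/-- `r` is a nonzerodivisor modulo `I` -/
def NZD (I : Ideal R) (r : R) : Prop := ∀ w, r * w ∈ I → w ∈ I

lemma NZD.neg {I : Ideal R} {r : R} (h : NZD I r) : NZD I (-r) := by
  intro w hw
  apply h
  have : r * w = -((-r) * w) := by ring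
  rw [this]
  exact I.neg_mem hw

lemma NZD.swap {J : Ideal R} {x y : R} (hx : NZD J x) (hy : NZD (J ⊔ Ideal.span {x}) y) :
    NZD (J ⊔ Ideal.span {y}) x := by
  intro w hw
  obtain ⟨j, hj, z, hz, hjz⟩ := Submodule.mem_sup.mp hw
  obtain ⟨t, rfl⟩ := Ideal.mem_span_singleton'.mp hz
  have h1 : y * t ∈ J ⊔ Ideal.span {x} := by
    have : y * t = x * w - j := by rw [← hjz]; ring
    rw [this]
    exact Ideal.sub_mem _ (Ideal.mem_sup_right (Ideal.mul_mem_right _ _ (Ideal.subset_span rfl)))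
      (Ideal.mem_sup_left hj)
  obtain ⟨j', hj', z', hz', hjz'⟩ := Submodule.mem_sup.mp (hy t h1)
  obtain ⟨t', rfl⟩ := Ideal.mem_span_singleton'.mp hz'
  have h2 : x * (w - t' * y) ∈ J := by
    have : x * (w - t' * y) = j + j' * y := by
      rw [mul_sub, ← hjz, ← hjz']; ring
    rw [this]
    exact J.add_mem hj (J.mul_mem_right _ hj')
  have h3 := hx _ h2
  have : w = (w - t' * y) + t' * y := by ring
  rw [this]
  exact Ideal.add_mem _ (Ideal.mem_sup_left h3)
    (Ideal.mem_sup_right (Ideal.mul_mem_left _ _ (Ideal.subset_span rfl)))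

lemma NZD.swap3 {J : Ideal R} {x y1 y2 : R} (hx : NZD J x) (h1 : NZD (J ⊔ Ideal.span {x}) y1)
    (h2 : NZD (J ⊔ Ideal.span {x} ⊔ Ideal.span {y1}) y2) :
    NZD (J ⊔ Ideal.span {y1} ⊔ Ideal.span {y2}) x := by
  have hA : NZD (J ⊔ Ideal.span {y1}) x := hx.swap h1
  apply hA.swap
  have : J ⊔ Ideal.span {y1} ⊔ Ideal.span {x} = J ⊔ Ideal.span {x} ⊔ Ideal.span {y1} := by
    rw [sup_assoc, sup_assoc, sup_comm (Ideal.span {y1})]
  rw [this]
  exact h2

lemma NZD.polyC {I : Ideal R} {r : R} (h : NZD I r) :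
    NZD (Ideal.map (Polynomial.C : R →+* Polynomial R) I) (Polynomial.C r) := by
  intro w hw
  rw [Ideal.mem_map_C_iff] at hw ⊢
  intro n
  apply h
  have := hw n
  rwa [Polynomial.coeff_C_mul] at this

lemma NZD.polyLin {I : Ideal R} {u : R} (h : NZD I u) (v : R) :
    NZD (Ideal.map (Polynomial.C : R →+* Polynomial R) I)
      (Polynomial.C u * Polynomial.X + Polynomial.C v) := by
  intro w hw
  rw [Ideal.mem_map_C_iff] at hw ⊢
  have key : ∀ k n : ℕ, w.natDegree < n + k → w.coeff n ∈ I := by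
    intro k
    induction k with
    | zero =>
      intro n hn
      rw [Polynomial.coeff_eq_zero_of_natDegree_lt (by simpa using hn)]
      exact I.zero_mem
    | succ k ih =>
      intro n hn
      have h1 : w.coeff (n + 1) ∈ I := ih (n + 1) (by omega)
      have h2 := hw (n + 1)
      have h3 : ((Polynomial.C u * Polynomial.X + Polynomial.C v) * w).coeff (n + 1) =
          u * w.coeff n + v * w.coeff (n + 1) := by
        rw [add_mul, Polynomial.coeff_add, mul_assoc, Polynomial.coeff_C_mul,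
          Polynomial.coeff_X_mul, Polynomial.coeff_C_mul]
      rw [h3] at h2
      apply h
      have : u * w.coeff n = (u * w.coeff n + v * w.coeff (n + 1)) - v * w.coeff (n + 1) := by
        ring
      rw [this]
      exact I.sub_mem h2 (I.mul_mem_left _ h1)
  intro n
  exact key (w.natDegree + 1) n (by omega)

lemma NZD.polyC0 {r : R} (h : NZD (⊥ : Ideal R) r) :
    NZD (⊥ : Ideal (Polynomial R)) (Polynomial.C r) := by
  have := h.polyC
  rwa [Ideal.map_bot] at this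

lemma NZD.polyC1 {a r : R} (h : NZD (Ideal.span {a}) r) :
    NZD (Ideal.span {Polynomial.C a}) (Polynomial.C r) := by
  have := h.polyC
  rwa [Ideal.map_span, Set.image_singleton] at this

lemma NZD.polyC2 {a b r : R} (h : NZD (Ideal.span {a} ⊔ Ideal.span {b}) r) :
    NZD (Ideal.span {Polynomial.C a} ⊔ Ideal.span {Polynomial.C b}) (Polynomial.C r) := by
  have := h.polyC
  rwa [Ideal.map_sup, Ideal.map_span, Ideal.map_span, Set.image_singleton,
    Set.image_singleton] at this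

lemma NZD.polyLin0 {u : R} (h : NZD (⊥ : Ideal R) u) (v : R) :
    NZD (⊥ : Ideal (Polynomial R)) (Polynomial.C u * Polynomial.X + Polynomial.C v) := by
  have := h.polyLin v
  rwa [Ideal.map_bot] at this

lemma NZD.polyLin1 {a u : R} (h : NZD (Ideal.span {a}) u) (v : R) :
    NZD (Ideal.span {Polynomial.C a}) (Polynomial.C u * Polynomial.X + Polynomial.C v) := by
  have := h.polyLin v
  rwa [Ideal.map_span, Set.image_singleton] at this

lemma NZD.polyLin2 {a b u : R} (h : NZD (Ideal.span {a} ⊔ Ideal.span {b}) u) (v : R) :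
    NZD (Ideal.span {Polynomial.C a} ⊔ Ideal.span {Polynomial.C b})
      (Polynomial.C u * Polynomial.X + Polynomial.C v) := by
  have := h.polyLin v
  rwa [Ideal.map_sup, Ideal.map_span, Ideal.map_span, Set.image_singleton,
    Set.image_singleton] at this

end NZDsec

section WR

/-- weak regularity of a three-term sequence from the elementary conditions -/
lemma wr3 {R : Type u} [CommRing R] (x y z : R) (h1 : NZD (⊥ : Ideal R) x)
    (h2 : NZD (Ideal.span {x}) y) (h3 : NZD (Ideal.span {x} ⊔ Ideal.span {y}) z) :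
    RingTheory.Sequence.IsWeaklyRegular R [x, y, z] := by
  have hl : [x, y, z] = List.ofFn ![x, y, z] := by simp
  rw [hl, Groth.Agent.Lib.helper26.Seg.isWeaklyRegular_ofFn_iff]
  intro j w hw
  have e0 : Ideal.span ((![x, y, z] : Fin 3 → R) '' {i | i < (0 : Fin 3)}) = ⊥ := by
    apply le_antisymm
    · rw [Ideal.span_le]
      rintro _ ⟨i, hi, rfl⟩
      exact absurd hi (Fin.not_lt_zero i)
    · exact bot_le
  have e1 : Ideal.span ((![x, y, z] : Fin 3 → R) '' {i | i < (1 : Fin 3)}) = Ideal.span {x} := by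
    apply le_antisymm
    · rw [Ideal.span_le]
      rintro _ ⟨i, hi, rfl⟩
      have hi' : i < (1 : Fin 3) := hi
      fin_cases i
      · exact Ideal.subset_span rfl
      · exact absurd hi' (by decide)
      · exact absurd hi' (by decide)
    · rw [Ideal.span_le]
      rintro _ rfl
      exact Ideal.subset_span ⟨(0 : Fin 3), (by decide : (0 : Fin 3) < 1), rfl⟩
  have e2 : Ideal.span ((![x, y, z] : Fin 3 → R) '' {i | i < (2 : Fin 3)}) =
      Ideal.span {x} ⊔ Ideal.span {y} := by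
    apply le_antisymm
    · rw [Ideal.span_le]
      rintro _ ⟨i, hi, rfl⟩
      have hi' : i < (2 : Fin 3) := hi
      fin_cases i
      · exact Ideal.mem_sup_left (Ideal.subset_span rfl)
      · exact Ideal.mem_sup_right (Ideal.subset_span rfl)
      · exact absurd hi' (by decide)
    · apply sup_le
      · rw [Ideal.span_le]
        rintro _ rfl
        exact Ideal.subset_span ⟨(0 : Fin 3), (by decide : (0 : Fin 3) < 2), rfl⟩
      · rw [Ideal.span_le]
        rintro _ rfl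
        exact Ideal.subset_span ⟨(1 : Fin 3), (by decide : (1 : Fin 3) < 2), rfl⟩
  fin_cases j
  · have hw' : x * w ∈ Ideal.span ((![x, y, z] : Fin 3 → R) '' {i | i < (0 : Fin 3)}) := hw
    show w ∈ Ideal.span ((![x, y, z] : Fin 3 → R) '' {i | i < (0 : Fin 3)})
    rw [e0] at hw' ⊢
    exact h1 w hw'
  · have hw' : y * w ∈ Ideal.span ((![x, y, z] : Fin 3 → R) '' {i | i < (1 : Fin 3)}) := hw
    show w ∈ Ideal.span ((![x, y, z] : Fin 3 → R) '' {i | i < (1 : Fin 3)})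
    rw [e1] at hw' ⊢
    exact h2 w hw'
  · have hw' : z * w ∈ Ideal.span ((![x, y, z] : Fin 3 → R) '' {i | i < (2 : Fin 3)}) := hw
    show w ∈ Ideal.span ((![x, y, z] : Fin 3 → R) '' {i | i < (2 : Fin 3)})
    rw [e2] at hw' ⊢
    exact h3 w hw'

end WR

section Model

variable (A : Type u) [CommRing A] (B : Type u) [CommRing B] (c0 : A →+* B) (x : Fin 6 → B)

abbrev T1 : Type u := Polynomial B
abbrev T2 : Type u := Polynomial (T1 B)
abbrev T3 : Type u := Polynomial (T2 B)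

/-- model of `Q1 = -b' g + (a' h + d' i)` -/
noncomputable def m1 : T1 B :=
  Polynomial.C (-(x 1)) * Polynomial.X + Polynomial.C (x 0 * x 4 + x 2 * x 5)

/-- model of `Q2 = -a' e + (b' d' - b' h - f d')` -/
noncomputable def m2 : T2 B :=
  Polynomial.C (-(Polynomial.C (x 0))) * Polynomial.X +
    Polynomial.C (Polynomial.C (x 1 * x 2 - x 1 * x 4 - x 3 * x 2))

/-- model of `Q3 = d' c - a' f - b' i` -/
noncomputable def m3 : T3 B :=
  Polynomial.C (Polynomial.C (Polynomial.C (x 2))) * Polynomial.X +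
    Polynomial.C (Polynomial.C (Polynomial.C (-(x 0 * x 3) - x 1 * x 5)))

theorem model_Q (hv0 : ∀ j, NZD (⊥ : Ideal B) (x j))
    (hv1 : ∀ i j, j ≠ i → NZD (Ideal.span {x i}) (x j))
    (hv2 : ∀ i i' j, j ≠ i → j ≠ i' → NZD (Ideal.span {x i} ⊔ Ideal.span {x i'}) (x j)) :
    NZD (⊥ : Ideal (T3 B)) (Polynomial.C (Polynomial.C (m1 B x))) ∧
    NZD (Ideal.span {Polynomial.C (Polynomial.C (m1 B x))}) (Polynomial.C (m2 B x)) ∧
    NZD (Ideal.span {Polynomial.C (Polynomial.C (m1 B x))} ⊔ Ideal.span {Polynomial.C (m2 B x)})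
      (m3 B x) := by
  -- level T1
  have a1 : NZD (⊥ : Ideal (T1 B)) (m1 B x) := (hv0 1).neg.polyLin0 _
  have a2 : NZD (Ideal.span {Polynomial.C (x 0)}) (m1 B x) :=
    (hv1 0 1 (by decide)).neg.polyLin1 _
  have a3 : NZD (Ideal.span {Polynomial.C (x 2)}) (m1 B x) :=
    (hv1 2 1 (by decide)).neg.polyLin1 _
  have a4 : NZD (Ideal.span {Polynomial.C (x 2)} ⊔ Ideal.span {Polynomial.C (x 0)}) (m1 B x) :=
    (hv2 2 0 1 (by decide) (by decide)).neg.polyLin2 _
  have a5 : NZD (⊥ : Ideal (T1 B)) (Polynomial.C (x 0)) := (hv0 0).polyC0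
  have a6 : NZD (⊥ : Ideal (T1 B)) (Polynomial.C (x 2)) := (hv0 2).polyC0
  have a7 : NZD (Ideal.span {Polynomial.C (x 2)}) (Polynomial.C (x 0)) :=
    (hv1 2 0 (by decide)).polyC1
  have b1 : NZD (Ideal.span {m1 B x}) (Polynomial.C (x 0)) := by
    have := a5.swap (y := m1 B x) (by rw [bot_sup_eq]; exact a2)
    rwa [bot_sup_eq] at this
  have b2 : NZD (Ideal.span {Polynomial.C (x 2)} ⊔ Ideal.span {m1 B x})
      (Polynomial.C (x 0)) := a7.swap a4
  -- level T2
  have c1 : NZD (Ideal.span {Polynomial.C (m1 B x)}) (m2 B x) := b1.neg.polyLin1 _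
  have c2 : NZD (Ideal.span {Polynomial.C (Polynomial.C (x 2))} ⊔
      Ideal.span {Polynomial.C (m1 B x)}) (m2 B x) := b2.neg.polyLin2 _
  have c3 : NZD (⊥ : Ideal (T2 B)) (Polynomial.C (Polynomial.C (x 2))) := a6.polyC0
  have c4 : NZD (Ideal.span {Polynomial.C (Polynomial.C (x 2))})
      (Polynomial.C (m1 B x)) := a3.polyC1
  have c5 : NZD (⊥ : Ideal (T2 B)) (Polynomial.C (m1 B x)) := a1.polyC0
  have d1 : NZD (Ideal.span {Polynomial.C (m1 B x)} ⊔ Ideal.span {m2 B x})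
      (Polynomial.C (Polynomial.C (x 2))) := by
    have := c3.swap3 (y1 := Polynomial.C (m1 B x)) (y2 := m2 B x)
      (by rw [bot_sup_eq]; exact c4) (by rw [bot_sup_eq]; exact c2)
    rwa [bot_sup_eq] at this
  -- level T3
  refine ⟨c5.polyC0, c1.polyC1, ?_⟩
  exact d1.polyLin2 _

theorem model_L (hv0 : ∀ j, NZD (⊥ : Ideal B) (x j))
    (hv1 : ∀ i j, j ≠ i → NZD (Ideal.span {x i}) (x j))
    (hv2 : ∀ i i' j, j ≠ i → j ≠ i' → NZD (Ideal.span {x i} ⊔ Ideal.span {x i'}) (x j)) :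
    NZD (⊥ : Ideal (T3 B)) (Polynomial.C (Polynomial.C (Polynomial.C (x 0)))) ∧
    NZD (Ideal.span {Polynomial.C (Polynomial.C (Polynomial.C (x 0)))})
      (Polynomial.C (Polynomial.C (Polynomial.C (x 1)))) ∧
    NZD (Ideal.span {Polynomial.C (Polynomial.C (Polynomial.C (x 0)))} ⊔
        Ideal.span {Polynomial.C (Polynomial.C (Polynomial.C (x 1)))})
      (Polynomial.C (Polynomial.C (Polynomial.C (x 2)))) :=
  ⟨(hv0 0).polyC0.polyC0.polyC0, (hv1 0 1 (by decide)).polyC1.polyC1.polyC1,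
    (hv2 0 1 2 (by decide) (by decide)).polyC2.polyC2.polyC2⟩

/-! ### the change of variables -/

noncomputable def c3 : A →+* T3 B :=
  (Polynomial.C).comp ((Polynomial.C).comp ((Polynomial.C).comp c0))

noncomputable def ι0 : B →+* T3 B :=
  (Polynomial.C).comp ((Polynomial.C).comp (Polynomial.C))

noncomputable def φv : Fin 9 → T3 B :=
  ![ι0 B (x 0 + x 5), ι0 B (x 1 - x 3),
    Polynomial.X, ι0 B (x 2 - x 4), Polynomial.C Polynomial.X,
    ι0 B (x 3), Polynomial.C (Polynomial.C Polynomial.X), ι0 B (x 4),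
    ι0 B (x 5)]

noncomputable def Φ : D A →+* T3 B := MvPolynomial.eval₂Hom (c3 A B c0) (φv B x)

noncomputable def ψv : Fin 6 → D A :=
  ![MvPolynomial.X 0 - MvPolynomial.X 8, MvPolynomial.X 1 + MvPolynomial.X 5,
    MvPolynomial.X 3 + MvPolynomial.X 7, MvPolynomial.X 5, MvPolynomial.X 7, MvPolynomial.X 8]

variable (ψ0 : B →+* D A)

noncomputable def Ψ : T3 B →+* D A :=
  Polynomial.eval₂RingHom (Polynomial.eval₂RingHom (Polynomial.eval₂RingHom ψ0
    (MvPolynomial.X 6)) (MvPolynomial.X 4)) (MvPolynomial.X 2)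

lemma Φ_X (k : Fin 9) : Φ A B c0 x (MvPolynomial.X k) = φv B x k := by
  simp [Φ]

lemma Ψ_ι0 (p : B) : Ψ A B ψ0 (ι0 B p) = ψ0 p := by
  simp [Ψ, ι0]

lemma φ0 : φv B x 0 = ι0 B (x 0 + x 5) := rfl
lemma φ1 : φv B x 1 = ι0 B (x 1 - x 3) := rfl
lemma φ2 : φv B x 2 = Polynomial.X := rfl
lemma φ3 : φv B x 3 = ι0 B (x 2 - x 4) := rfl
lemma φ4 : φv B x 4 = Polynomial.C Polynomial.X := rfl
lemma φ5 : φv B x 5 = ι0 B (x 3) := rfl
lemma φ6 : φv B x 6 = Polynomial.C (Polynomial.C Polynomial.X) := rfl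
lemma φ7 : φv B x 7 = ι0 B (x 4) := rfl
lemma φ8 : φv B x 8 = ι0 B (x 5) := rfl

lemma ψv0 : ψv A 0 = MvPolynomial.X 0 - MvPolynomial.X 8 := rfl
lemma ψv1 : ψv A 1 = MvPolynomial.X 1 + MvPolynomial.X 5 := rfl
lemma ψv2 : ψv A 2 = MvPolynomial.X 3 + MvPolynomial.X 7 := rfl
lemma ψv3 : ψv A 3 = MvPolynomial.X 5 := rfl
lemma ψv4 : ψv A 4 = MvPolynomial.X 7 := rfl
lemma ψv5 : ψv A 5 = MvPolynomial.X 8 := rfl

lemma ΨΦ_comp (hψx : ∀ k, ψ0 (x k) = ψv A k) (hψc : ∀ r, ψ0 (c0 r) = MvPolynomial.C r) :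
    (Ψ A B ψ0).comp (Φ A B c0 x) = RingHom.id (D A) := by
  apply MvPolynomial.ringHom_ext
  · intro r
    rw [RingHom.comp_apply, RingHom.id_apply]
    show Ψ A B ψ0 (MvPolynomial.eval₂Hom (c3 A B c0) (φv B x) (MvPolynomial.C r)) = _
    rw [MvPolynomial.eval₂Hom_C]
    show Ψ A B ψ0 (Polynomial.C (Polynomial.C (Polynomial.C (c0 r)))) = _
    simp only [Ψ, Polynomial.coe_eval₂RingHom, Polynomial.eval₂_C]
    exact hψc r
  · intro k
    have h0 : Ψ A B ψ0 (φv B x 0) = MvPolynomial.X 0 := by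
      rw [φ0, Ψ_ι0, map_add, hψx, hψx, ψv0, ψv5]
      ring
    have h1 : Ψ A B ψ0 (φv B x 1) = MvPolynomial.X 1 := by
      rw [φ1, Ψ_ι0, map_sub, hψx, hψx, ψv1, ψv3]
      ring
    have h2 : Ψ A B ψ0 (φv B x 2) = MvPolynomial.X 2 := by
      rw [φ2]
      simp [Ψ]
    have h3 : Ψ A B ψ0 (φv B x 3) = MvPolynomial.X 3 := by
      rw [φ3, Ψ_ι0, map_sub, hψx, hψx, ψv2, ψv4]
      ring
    have h4 : Ψ A B ψ0 (φv B x 4) = MvPolynomial.X 4 := by
      rw [φ4]
      simp [Ψ]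
    have h5 : Ψ A B ψ0 (φv B x 5) = MvPolynomial.X 5 := by
      rw [φ5, Ψ_ι0, hψx, ψv3]
    have h6 : Ψ A B ψ0 (φv B x 6) = MvPolynomial.X 6 := by
      rw [φ6]
      simp [Ψ]
    have h7 : Ψ A B ψ0 (φv B x 7) = MvPolynomial.X 7 := by
      rw [φ7, Ψ_ι0, hψx, ψv4]
    have h8 : Ψ A B ψ0 (φv B x 8) = MvPolynomial.X 8 := by
      rw [φ8, Ψ_ι0, hψx, ψv5]
    rw [RingHom.comp_apply, Φ_X, RingHom.id_apply]
    fin_cases k
    exacts [h0, h1, h2, h3, h4, h5, h6, h7, h8]

lemma nzd_pull (hψx : ∀ k, ψ0 (x k) = ψv A k) (hψc : ∀ r, ψ0 (c0 r) = MvPolynomial.C r)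
    (I : Ideal (D A)) (r : D A)
    (h : NZD (Ideal.map (Φ A B c0 x) I) (Φ A B c0 x r)) : NZD I r := by
  intro w hw
  have h1 : Φ A B c0 x r * Φ A B c0 x w ∈ Ideal.map (Φ A B c0 x) I := by
    rw [← map_mul]
    exact Ideal.mem_map_of_mem _ hw
  have h2 := h _ h1
  have h3 : Ψ A B ψ0 (Φ A B c0 x w) ∈ Ideal.map (Ψ A B ψ0) (Ideal.map (Φ A B c0 x) I) :=
    Ideal.mem_map_of_mem _ h2
  have hcomp := ΨΦ_comp A B c0 x ψ0 hψx hψc
  have hw' : Ψ A B ψ0 (Φ A B c0 x w) = w := by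
    have := RingHom.congr_fun hcomp w
    simpa using this
  rw [Ideal.map_map, hcomp, Ideal.map_id, hw'] at h3
  exact h3

lemma pull3 (hψx : ∀ k, ψ0 (x k) = ψv A k) (hψc : ∀ r, ψ0 (c0 r) = MvPolynomial.C r)
    (p q r : D A) (h1 : NZD (⊥ : Ideal (T3 B)) (Φ A B c0 x p))
    (h2 : NZD (Ideal.span {Φ A B c0 x p}) (Φ A B c0 x q))
    (h3 : NZD (Ideal.span {Φ A B c0 x p} ⊔ Ideal.span {Φ A B c0 x q}) (Φ A B c0 x r)) :
    RingTheory.Sequence.IsWeaklyRegular (D A) [p, q, r] := by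
  apply wr3
  · apply nzd_pull A B c0 x ψ0 hψx hψc
    rw [Ideal.map_bot]
    exact h1
  · apply nzd_pull A B c0 x ψ0 hψx hψc
    rw [Ideal.map_span, Set.image_singleton]
    exact h2
  · apply nzd_pull A B c0 x ψ0 hψx hψc
    rw [Ideal.map_sup, Ideal.map_span, Ideal.map_span, Set.image_singleton, Set.image_singleton]
    exact h3

lemma Φ_L1 : Φ A B c0 x (L1 A) = Polynomial.C (Polynomial.C (Polynomial.C (x 0))) := by
  unfold L1 va vi
  rw [map_sub, Φ_X, Φ_X, φ0, φ8]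
  simp only [ι0, RingHom.comp_apply, map_add]
  ring

lemma Φ_L2 : Φ A B c0 x (L2 A) = Polynomial.C (Polynomial.C (Polynomial.C (x 1))) := by
  unfold L2 vb vf
  rw [map_add, Φ_X, Φ_X, φ1, φ5]
  simp only [ι0, RingHom.comp_apply, map_sub]
  ring

lemma Φ_L3 : Φ A B c0 x (L3 A) = Polynomial.C (Polynomial.C (Polynomial.C (x 2))) := by
  unfold L3 vd vh
  rw [map_add, Φ_X, Φ_X, φ3, φ7]
  simp only [ι0, RingHom.comp_apply, map_sub]
  ring

lemma Φ_Q1 : Φ A B c0 x (Q1 A) = Polynomial.C (Polynomial.C (m1 B x)) := by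
  unfold Q1 va vb vd vf vg vh vi m1
  simp only [map_sub, map_add, map_mul, map_neg, Φ_X, φ0, φ1, φ3, φ5, φ6, φ7, φ8, ι0,
    RingHom.comp_apply]
  ring

lemma Φ_Q2 : Φ A B c0 x (Q2 A) = Polynomial.C (m2 B x) := by
  unfold Q2 va vb vd ve vf vh vi m2
  simp only [map_sub, map_add, map_mul, map_neg, Φ_X, φ0, φ1, φ3, φ4, φ5, φ7, φ8, ι0,
    RingHom.comp_apply]
  ring

lemma Φ_Q3 : Φ A B c0 x (Q3 A) = m3 B x := by
  unfold Q3 va vb vc vd vf vh vi m3
  simp only [map_sub, map_add, map_mul, map_neg, Φ_X, φ0, φ1, φ2, φ3, φ5, φ7, φ8, ι0,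
    RingHom.comp_apply]
  ring

lemma top_ne3 [Nontrivial A] (p q r : D A) (hx : MvPolynomial.eval (0 : Fin 9 → A) p = 0)
    (hy : MvPolynomial.eval (0 : Fin 9 → A) q = 0) (hz : MvPolynomial.eval (0 : Fin 9 → A) r = 0) :
    (⊤ : Submodule (D A) (D A)) ≠ Ideal.ofList [p, q, r] • (⊤ : Submodule (D A) (D A)) := by
  intro h
  have h1 : (1 : D A) ∈ Ideal.ofList [p, q, r] • (⊤ : Submodule (D A) (D A)) := by
    rw [← h]; trivial
  rw [smul_eq_mul, Ideal.mul_top] at h1
  have hle : Ideal.ofList [p, q, r] ≤ RingHom.ker (MvPolynomial.eval (0 : Fin 9 → A)) := by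
    unfold Ideal.ofList
    rw [Ideal.span_le]
    intro s hs
    simp only [Set.mem_ofPred_eq, List.mem_cons, List.not_mem_nil, or_false] at hs
    rcases hs with rfl | rfl | rfl
    · exact (RingHom.mem_ker).mpr hx
    · exact (RingHom.mem_ker).mpr hy
    · exact (RingHom.mem_ker).mpr hz
  have := hle h1
  rw [RingHom.mem_ker, map_one] at this
  exact one_ne_zero this

end Model

section Vars

variable (A : Type u) [CommRing A]

lemma nzd_X (S : Set (Fin 6)) (j : Fin 6) (hj : j ∉ S) :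
    NZD (Ideal.span ((MvPolynomial.X : Fin 6 → MvPolynomial (Fin 6) A) '' S))
      (MvPolynomial.X j) := by
  intro w hw
  rw [MvPolynomial.mem_ideal_span_X_image] at hw ⊢
  intro m hm
  have hm' : Finsupp.single j 1 + m ∈ ((MvPolynomial.X j : MvPolynomial (Fin 6) A) * w).support := by
    rw [MvPolynomial.mem_support_iff, MvPolynomial.coeff_X_mul]
    exact MvPolynomial.mem_support_iff.mp hm
  obtain ⟨k, hk, hne⟩ := hw _ hm'
  refine ⟨k, hk, ?_⟩
  have hkj : k ≠ j := fun h => hj (h ▸ hk)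
  rw [Finsupp.add_apply, Finsupp.single_apply, if_neg (Ne.symm hkj), zero_add] at hne
  exact hne

lemma v_none (j : Fin 6) :
    NZD (⊥ : Ideal (MvPolynomial (Fin 6) A)) (MvPolynomial.X j) := by
  have := nzd_X A (∅ : Set (Fin 6)) j (by simp)
  rwa [Set.image_empty, Ideal.span_empty] at this

lemma v_one (i j : Fin 6) (h : j ≠ i) :
    NZD (Ideal.span {(MvPolynomial.X i : MvPolynomial (Fin 6) A)}) (MvPolynomial.X j) := by
  have := nzd_X A ({i} : Set (Fin 6)) j (by simpa using h)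
  rwa [Set.image_singleton] at this

lemma v_two (i i' j : Fin 6) (h : j ≠ i) (h' : j ≠ i') :
    NZD (Ideal.span {(MvPolynomial.X i : MvPolynomial (Fin 6) A)} ⊔
      Ideal.span {(MvPolynomial.X i' : MvPolynomial (Fin 6) A)}) (MvPolynomial.X j) := by
  have := nzd_X A ({i, i'} : Set (Fin 6)) j (by simp [h, h'])
  rwa [Set.image_pair, Ideal.span_insert] at this

end Vars


/-- Let A be a nontrivial commutative ring and D = A[a,b,c,d,e,f,g,h,i] the polynomial ring in nine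
variables. Then the linear forms a − i, b + f, d + h form a regular sequence on D, and so do the
three Jacobi polynomials Q1 = ah + di − fg − bg, Q2 = ie + bd − fh − ae, Q3 = hc + dc − af − bi
(each term is a non-zero-divisor on the quotient of D by the preceding terms, and the quotient by
all three is non-zero). (The published statement is made with a regular base ring in force; the
printed argument does not use that hypothesis, and the statement is given here over every nontrivial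
commutative base ring.) -/
theorem result (A : Type u) [CommRing A] [Nontrivial A] :
    RingTheory.Sequence.IsRegular (Lie3Mod.D A) [Lie3Mod.L1 A, Lie3Mod.L2 A, Lie3Mod.L3 A] ∧
      RingTheory.Sequence.IsRegular (Lie3Mod.D A) [Lie3Mod.Q1 A, Lie3Mod.Q2 A, Lie3Mod.Q3 A] := by
  have hψx : ∀ k, (MvPolynomial.eval₂Hom MvPolynomial.C (ψv A) :
      MvPolynomial (Fin 6) A →+* Lie3Mod.D A) (MvPolynomial.X k) = ψv A k := by
    intro k
    simp
  have hψc : ∀ r, (MvPolynomial.eval₂Hom MvPolynomial.C (ψv A) :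
      MvPolynomial (Fin 6) A →+* Lie3Mod.D A) (MvPolynomial.C r) = MvPolynomial.C r := by
    intro r
    simp
  have hL := model_L (MvPolynomial (Fin 6) A) MvPolynomial.X (v_none A) (v_one A) (v_two A)
  have hQ := model_Q (MvPolynomial (Fin 6) A) MvPolynomial.X (v_none A) (v_one A) (v_two A)
  constructor
  · refine ⟨pull3 A (MvPolynomial (Fin 6) A) MvPolynomial.C MvPolynomial.X _ hψx hψc _ _ _ ?_ ?_ ?_,
      top_ne3 A _ _ _ ?_ ?_ ?_⟩
    · rw [Φ_L1]; exact hL.1
    · rw [Φ_L1, Φ_L2]; exact hL.2.1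
    · rw [Φ_L1, Φ_L2, Φ_L3]; exact hL.2.2
    · simp [Lie3Mod.L1]
    · simp [Lie3Mod.L2]
    · simp [Lie3Mod.L3]
  · refine ⟨pull3 A (MvPolynomial (Fin 6) A) MvPolynomial.C MvPolynomial.X _ hψx hψc _ _ _ ?_ ?_ ?_,
      top_ne3 A _ _ _ ?_ ?_ ?_⟩
    · rw [Φ_Q1]; exact hQ.1
    · rw [Φ_Q1, Φ_Q2]; exact hQ.2.1
    · rw [Φ_Q1, Φ_Q2, Φ_Q3]; exact hQ.2.2
    · simp [Lie3Mod.Q1]
    · simp [Lie3Mod.Q2]
    · simp [Lie3Mod.Q3]


end Groth.Agent.S13087
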