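import Groth.Statements.S13088
import Mathlib
-- import your own Groth.Agent.* helpers here

set_option autoImplicit false
universe u
open Lie3Mod

namespace Groth.Agent.S13088

section Aux
open MvPolynomial Lie3Mod

variable (A : Type u) [CommRing A]

/-- substitution a ↦ i, f ↦ -b, h ↦ -d -/
noncomputable def φ : D A →ₐ[A] D A :=
  MvPolynomial.aeval (fun k : Fin 9 =>
    if k = 0 then (X 8 : D A) else if k = 5 then -X 1 else if k = 7 then -X 3 else X k)

lemma φ_X0 : φ A (X 0) = X 8 := by simp [φ]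
lemma φ_X1 : φ A (X 1) = X 1 := by simp [φ]
lemma φ_X2 : φ A (X 2) = X 2 := by simp [φ]
lemma φ_X3 : φ A (X 3) = X 3 := by simp [φ]
lemma φ_X4 : φ A (X 4) = X 4 := by simp [φ]
lemma φ_X5 : φ A (X 5) = -X 1 := by simp [φ]
lemma φ_X6 : φ A (X 6) = X 6 := by simp [φ]
lemma φ_X7 : φ A (X 7) = -X 3 := by simp [φ]
lemma φ_X8 : φ A (X 8) = X 8 := by simp [φ]

lemma X_sub_mem (k : Fin 9) : (X k : D A) - φ A (X k) ∈ idL A := by
  have h1 : L1 A ∈ idL A := Ideal.subset_span (by simp)
  have h2 : L2 A ∈ idL A := Ideal.subset_span (by simp)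
  have h3 : L3 A ∈ idL A := Ideal.subset_span (by simp)
  fin_cases k
  · simpa [φ_X0, L1, va, vi] using h1
  · simp [φ_X1]
  · simp [φ_X2]
  · simp [φ_X3]
  · simp [φ_X4]
  · have : (X 5 : D A) - φ A (X 5) = L2 A := by rw [φ_X5, L2]; ring
    simpa [this] using h2
  · simp [φ_X6]
  · have : (X 7 : D A) - φ A (X 7) = L3 A := by rw [φ_X7, L3]; ring
    simpa [this] using h3
  · simp [φ_X8]

lemma sub_mem (p : D A) : p - φ A p ∈ idL A := by
  induction p using MvPolynomial.induction_on with
  | C a => simp [φ]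
  | add p q hp hq =>
    have : p + q - φ A (p + q) = (p - φ A p) + (q - φ A q) := by rw [map_add]; ring
    rw [this]; exact add_mem hp hq
  | mul_X p k hp =>
    have : p * X k - φ A (p * X k) = (p - φ A p) * X k + φ A p * (X k - φ A (X k)) := by
      rw [map_mul]; ring
    rw [this]
    exact add_mem (Ideal.mul_mem_right _ _ hp) (Ideal.mul_mem_left _ _ (X_sub_mem A k))

lemma ker_φ : RingHom.ker (φ A : D A →+* D A) = idL A := by
  apply le_antisymm
  · intro p hp
    have := sub_mem A p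
    rw [RingHom.mem_ker] at hp
    have hp' : φ A p = 0 := hp
    rwa [hp', sub_zero] at this
  · rw [idL, Ideal.span_le]
    intro p hp
    simp only [Set.mem_insert_iff, Set.mem_singleton_iff] at hp
    rw [SetLike.mem_coe, RingHom.mem_ker]
    rcases hp with rfl | rfl | rfl
    · show φ A (L1 A) = 0
      simp [L1, φ_X0, φ_X8]
    · show φ A (L2 A) = 0
      simp [L2, φ_X1, φ_X5]
    · show φ A (L3 A) = 0
      simp [L3, φ_X3, φ_X7]

end Aux

section Main
open MvPolynomial Lie3Mod

theorem main (A : Type u) [CommRing A] [IsDomain A] :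
    Lie3Mod.idL A ∈ (Lie3Mod.idI A).minimalPrimes := by
  have hprime : (idL A).IsPrime := by
    rw [← ker_φ A]
    exact RingHom.ker_isPrime _
  have hQ1 : Q1 A ∈ idL A := by
    rw [← ker_φ A, RingHom.mem_ker]
    show φ A (Q1 A) = 0
    simp only [Q1, map_sub, map_add, map_mul, φ_X0, φ_X1, φ_X2, φ_X3, φ_X4, φ_X5, φ_X6, φ_X7, φ_X8]
    ring
  have hQ2 : Q2 A ∈ idL A := by
    rw [← ker_φ A, RingHom.mem_ker]
    show φ A (Q2 A) = 0
    simp only [Q2, map_sub, map_add, map_mul, φ_X0, φ_X1, φ_X2, φ_X3, φ_X4, φ_X5, φ_X6, φ_X7, φ_X8]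
    ring
  have hQ3 : Q3 A ∈ idL A := by
    rw [← ker_φ A, RingHom.mem_ker]
    show φ A (Q3 A) = 0
    simp only [Q3, map_sub, map_add, map_mul, φ_X0, φ_X1, φ_X2, φ_X3, φ_X4, φ_X5, φ_X6, φ_X7, φ_X8]
    ring
  have hIL : idI A ≤ idL A := by
    rw [idI, Ideal.span_le]
    rintro p (rfl | rfl | rfl)
    · exact hQ1
    · exact hQ2
    · exact hQ3
  have hdet : detM A ∉ idL A := by
    intro h
    let x : Fin 9 → A := fun k => if k = 0 ∨ k = 4 ∨ k = 8 then 1 else 0
    have hle : idL A ≤ RingHom.ker (MvPolynomial.eval x) := by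
      rw [idL, Ideal.span_le]
      rintro p (rfl | rfl | rfl)
      · simp [RingHom.mem_ker, L1, x]
      · simp [RingHom.mem_ker, L2, x]
      · simp [RingHom.mem_ker, L3, x]
    have := hle h
    rw [RingHom.mem_ker] at this
    simp [detM, x] at this
  refine ⟨⟨hprime, hIL⟩, fun q ⟨hq, hIq⟩ hqL => ?_⟩
  have hdetq : detM A ∉ q := fun h => hdet (hqL h)
  have q1 : Q1 A ∈ q := hIq (Ideal.subset_span (by simp))
  have q2 : Q2 A ∈ q := hIq (Ideal.subset_span (by simp))
  have q3 : Q3 A ∈ q := hIq (Ideal.subset_span (by simp))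
  have e1 : detM A * L1 A = (-(vh * vc) + vb * vi) * Q1 A + (vg * vc - vi ^ 2) * Q2 A +
      (-(vg * vb) + vi * vh) * Q3 A := by
    simp only [detM, L1, Q1, Q2, Q3]; ring
  have e2 : detM A * L2 A = (ve * vc - vb * vf) * Q1 A + (vh * vc + vi * vf) * Q2 A +
      (-(vh * vb) - vi * ve) * Q3 A := by
    simp only [detM, L2, Q1, Q2, Q3]; ring
  have e3 : detM A * L3 A = (ve * vi - vh * vf) * Q1 A + (vh * vi + vg * vf) * Q2 A +
      (-(vh ^ 2) - vg * ve) * Q3 A := by
    simp only [detM, L3, Q1, Q2, Q3]; ring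
  have m1 : detM A * L1 A ∈ q := by
    rw [e1]
    exact add_mem (add_mem (Ideal.mul_mem_left _ _ q1) (Ideal.mul_mem_left _ _ q2))
      (Ideal.mul_mem_left _ _ q3)
  have m2 : detM A * L2 A ∈ q := by
    rw [e2]
    exact add_mem (add_mem (Ideal.mul_mem_left _ _ q1) (Ideal.mul_mem_left _ _ q2))
      (Ideal.mul_mem_left _ _ q3)
  have m3 : detM A * L3 A ∈ q := by
    rw [e3]
    exact add_mem (add_mem (Ideal.mul_mem_left _ _ q1) (Ideal.mul_mem_left _ _ q2))
      (Ideal.mul_mem_left _ _ q3)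
  rw [idL, Ideal.span_le]
  rintro p (rfl | rfl | rfl)
  · exact (hq.mem_or_mem m1).resolve_left hdetq
  · exact (hq.mem_or_mem m2).resolve_left hdetq
  · exact (hq.mem_or_mem m3).resolve_left hdetq

end Main

/-- Let A be a commutative domain and D = A[a,b,c,d,e,f,g,h,i]. Then the ideal L = (a − i, b + f, d + h)
of D is minimal among the prime ideals of D containing the Jacobi ideal I = (Q1, Q2, Q3), where Q1 =
ah + di − fg − bg, Q2 = ie + bd − fh − ae, Q3 = hc + dc − af − bi. (The published statement is made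
with a regular base ring in force, used there as a domain; the printed argument uses only that the
base ring is a domain, which is the hypothesis taken here.) -/
theorem result (A : Type u) [CommRing A] [IsDomain A] :
    Lie3Mod.idL A ∈ (Lie3Mod.idI A).minimalPrimes := by
  exact main A

end Groth.Agent.S13088
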