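import Groth.Statements.S13089
import Mathlib
import Groth.Agent.Lib.Helper13.Lie3B
import Groth.Agent.Lib.Helper19.Lie3
import Groth.Agent.Lib.Helper15.Regular
-- import your own Groth.Agent.* helpers here

set_option autoImplicit false
universe u
open Lie3Mod

namespace Groth.Agent.S13089

open MvPolynomial Groth.Agent.Lib.helper13.Lie3B Groth.Agent.Lib.helper19.Lie3

theorem J_le_colon (A : Type u) [CommRing A] :
    Lie3Mod.idJ A ≤ (Lie3Mod.idI A).colon (Lie3Mod.idL A : Set (Lie3Mod.D A)) := by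
  intro x hx
  rw [Submodule.mem_colon]
  intro p hp
  obtain ⟨y, hy, t, rfl⟩ := (mem_J_iff A x).mp hx
  have h1 := L_mul_detM A p hp
  have : (y + t * detM A) • p = p * y + t * (p * detM A) := by
    rw [smul_eq_mul]; ring
  rw [this]
  exact add_mem (Ideal.mul_mem_left _ _ hy) (Ideal.mul_mem_left _ _ h1)

theorem I_le_J (A : Type u) [CommRing A] : Lie3Mod.idI A ≤ Lie3Mod.idJ A := by
  unfold idI idJ
  apply Ideal.span_mono
  intro x hx
  simp only [Set.mem_insert_iff, Set.mem_singleton_iff] at hx ⊢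
  tauto

/-- base change of the generators -/
theorem map_gens (A B : Type u) [CommRing A] [CommRing B] (f : A →+* B) :
    MvPolynomial.map f (Q1 A) = Q1 B ∧ MvPolynomial.map f (Q2 A) = Q2 B ∧
    MvPolynomial.map f (Q3 A) = Q3 B ∧ MvPolynomial.map f (detM A) = detM B ∧
    MvPolynomial.map f (L2 A) = L2 B := by
  refine ⟨?_, ?_, ?_, ?_, ?_⟩ <;>
  simp [Q1, Q2, Q3, detM, L2, map_sub, map_add, map_mul, map_neg, map_pow, MvPolynomial.map_X]

theorem map_idJ (A B : Type u) [CommRing A] [CommRing B] (f : A →+* B) :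
    Ideal.map (MvPolynomial.map f) (idJ A) = idJ B := by
  obtain ⟨h1, h2, h3, h4, -⟩ := map_gens A B f
  unfold idJ
  rw [Ideal.map_span]
  congr 1
  simp only [Set.image_insert_eq, Set.image_singleton, h1, h2, h3, h4]

theorem mem_J_of_mul_L2_domain (A : Type u) [CommRing A] [IsDomain A] (x : D A)
    (h : x * L2 A ∈ idJ A) : x ∈ idJ A :=
  ((idJ_isPrime (A := A)).mem_or_mem h).resolve_right L2_not_mem

attribute [local instance] MvPolynomial.algebraMvPolynomial

theorem mem_J_of_mul_L2 (A : Type u) [CommRing A] [IsRegularRing A] (x : D A)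
    (h : x * L2 A ∈ idJ A) : x ∈ idJ A := by
  -- the ideal of constants multiplying x into J
  let 𝔞 : Ideal A := Ideal.comap (C : A →+* D A) ((idJ A).colon {x})
  have h𝔞 : ∀ a, a ∈ 𝔞 ↔ C a * x ∈ idJ A := by
    intro a
    simp only [𝔞, Ideal.mem_comap, Submodule.mem_colon_singleton, smul_eq_mul]
  by_cases htop : 𝔞 = ⊤
  · have : (1 : A) ∈ 𝔞 := htop ▸ Submodule.mem_top
    rw [h𝔞] at this
    simpa using this
  exfalso
  obtain ⟨m, hm, hle⟩ := Ideal.exists_le_maximal 𝔞 htop
  haveI := hm.isPrime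
  let A' := Localization.AtPrime m
  haveI : IsRegularLocalRing A' := inferInstance
  haveI : IsDomain A' := Groth.Agent.Lib.helper15.isDomain_of_isRegularLocalRing A'
  let β : D A →+* D A' := MvPolynomial.map (algebraMap A A')
  obtain ⟨-, -, -, -, hL2⟩ := map_gens A A' (algebraMap A A')
  have h1 : β x * L2 A' ∈ idJ A' := by
    rw [← hL2, ← map_mul, ← map_idJ A A' (algebraMap A A')]
    exact Ideal.mem_map_of_mem _ h
  have h2 : β x ∈ idJ A' := mem_J_of_mul_L2_domain A' _ h1
  rw [← map_idJ A A' (algebraMap A A')] at h2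
  -- now use IsLocalization
  have h3 := (IsLocalization.mem_map_algebraMap_iff (m.primeCompl.map (C : A →+* D A)) (D A')).mp h2
  obtain ⟨⟨⟨y, hy⟩, ⟨s, hs⟩⟩, h4⟩ := h3
  obtain ⟨t, ht, rfl⟩ := hs
  have h5 : algebraMap (D A) (D A') (x * C t) = algebraMap (D A) (D A') y := by
    rw [map_mul]; exact h4
  obtain ⟨⟨c, hc⟩, h6⟩ :=
    (IsLocalization.eq_iff_exists (m.primeCompl.map (C : A →+* D A)) (D A')).mp h5
  obtain ⟨t', ht', rfl⟩ := hc
  have h7 : t' * t ∈ 𝔞 := by
    rw [h𝔞, map_mul]
    have : C t' * C t * x = C t' * y := by rw [← h6]; ring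
    rw [this]
    exact Ideal.mul_mem_left _ _ hy
  exact (m.primeCompl.mul_mem ht' ht) (hle h7)


/-- Let A be a regular commutative ring (Noetherian with regular localizations) and D =
A[a,b,c,d,e,f,g,h,i]. With I = (Q1, Q2, Q3) the Jacobi ideal (Q1 = ah + di − fg − bg, Q2 = ie + bd −
fh − ae, Q3 = hc + dc − af − bi), L = (a − i, b + f, d + h) and det M = −ch² + gbf + ei² − gec + hbi
− ihf, the colon ideal (I : L) = {x ∈ D | xL ⊆ I} equals J = I + (det M). (The printed statement
also says that this ideal is perfect of height 3; that clause is not restated here.) -/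
theorem result (A : Type u) [CommRing A] [IsRegularRing A] :
    (Lie3Mod.idI A).colon (Lie3Mod.idL A : Set (Lie3Mod.D A)) = Lie3Mod.idJ A := by
  apply le_antisymm _ (J_le_colon A)
  intro x hx
  rw [Submodule.mem_colon] at hx
  have h1 : Lie3Mod.L2 A ∈ Lie3Mod.idL A := Ideal.subset_span (by simp)
  have h2 := hx _ h1
  rw [smul_eq_mul] at h2
  exact mem_J_of_mul_L2 A x (I_le_J A h2)

end Groth.Agent.S13089
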