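import Groth.Statements.S13093
import Mathlib
import Groth.Agent.Lib.Helper13.Lie3B
import Groth.Agent.Lib.Helper19.Lie3
-- import your own Groth.Agent.* helpers here

set_option autoImplicit false
universe u
open Lie3Mod

namespace Groth.Agent.S13093

/-- Let k be an algebraically closed field and D = k[a,b,c,d,e,f,g,h,i]. Then the ideal J = (Q1, Q2, Q3,
det M) (Q1 = ah + di − fg − bg, Q2 = ie + bd − fh − ae, Q3 = hc + dc − af − bi, det M = −ch² + gbf +
ei² − gec + hbi − ihf) is minimal among the prime ideals of D containing the Jacobi ideal I = (Q1,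
Q2, Q3). (The published statement is made with a regular base ring in force; primality of J is
established there over an algebraically closed field, which is the case stated here.) -/
theorem result (k : Type u) [Field k] [IsAlgClosed k] :
    Lie3Mod.idJ k ∈ (Lie3Mod.idI k).minimalPrimes := by
  open Groth.Agent.Lib.helper13.Lie3B Groth.Agent.Lib.helper19.Lie3 in
  have hJ : (Lie3Mod.idJ k).IsPrime := idJ_isPrime
  have hI : Lie3Mod.idI k = Lie3Mod.idJ k ⊓ Lie3Mod.idL k := I_eq_J_inf_L k
  refine ⟨⟨hJ, ?_⟩, ?_⟩
  · rw [hI]; exact inf_le_left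
  · rintro P ⟨hP, hIP⟩ hPJ
    have hmul : Lie3Mod.idJ k * Lie3Mod.idL k ≤ P := by
      refine le_trans ?_ hIP
      rw [hI]
      exact Ideal.mul_le_inf
    rcases (Ideal.IsPrime.mul_le hP).mp hmul with h | h
    · exact h
    · exfalso
      apply L2_not_mem (A := k)
      apply hPJ
      apply h
      exact Ideal.subset_span (by simp)

end Groth.Agent.S13093
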