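import Groth.Statements.S13094
import Mathlib
import Groth.Agent.Lib.Helper13.Lie3B
-- import your own Groth.Agent.* helpers here

set_option autoImplicit false
open Lie3Mod

namespace Groth.Agent.S13094

/-- The second component of the moduli scheme of based three-dimensional Lie algebras is flat over the
integers: the ring Z[a,b,c,d,e,f,g,h,i]/J, where J = (Q1, Q2, Q3, det M) with Q1 = ah + di − fg −
bg, Q2 = ie + bd − fh − ae, Q3 = hc + dc − af − bi and det M = −ch² + gbf + ei² − gec + hbi − ihf,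
is a flat Z-module. -/
theorem result :
    Module.Flat ℤ (Lie3Mod.D ℤ ⧸ Lie3Mod.idJ ℤ) := by
  open Groth.Agent.Lib.helper13.Lie3B in
  rw [Module.Flat.flat_iff_torsion_eq_bot_of_isBezout, eq_bot_iff]
  rintro x ⟨⟨r, hr⟩, h⟩
  obtain ⟨y, rfl⟩ := Ideal.Quotient.mk_surjective x
  rw [Submodule.mem_bot]
  have hr0 : r ≠ 0 := nonZeroDivisors.ne_zero hr
  have h1 : Ideal.Quotient.mk (Lie3Mod.idJ ℤ) (MvPolynomial.C r * y) = 0 := by
    rw [map_mul]
    have : r • (Ideal.Quotient.mk (Lie3Mod.idJ ℤ) y) = 0 := h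
    rw [zsmul_eq_mul] at this
    rw [← this]
    congr 1
  rw [Ideal.Quotient.eq_zero_iff_mem] at h1 ⊢
  exact mem_J_of_C_mul_mem r hr0 y h1

end Groth.Agent.S13094
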