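import Groth.Statements.S13095
import Mathlib
import Groth.Agent.Lib.Helper13.Lie3B
import Groth.Agent.Lib.Helper19.Lie3
-- import your own Groth.Agent.* helpers here

set_option autoImplicit false
open Lie3Mod

namespace Groth.Agent.S13095


open Groth.Agent.Lib.helper13.Lie3B Groth.Agent.Lib.helper19.Lie3 in
theorem L_eq_ker (A : Type) [CommRing A] : Lie3Mod.idL A = RingHom.ker (psi A).toRingHom :=
  le_antisymm (psi_L_le A) (fun x hx => mem_L_of_psi_eq_zero A x hx)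

open Groth.Agent.Lib.helper13.Lie3B Groth.Agent.Lib.helper19.Lie3 in
theorem mem_L_of_C_mul_mem (r : ℤ) (hr : r ≠ 0) (y : Lie3Mod.D ℤ)
    (h : MvPolynomial.C r * y ∈ Lie3Mod.idL ℤ) : y ∈ Lie3Mod.idL ℤ := by
  rw [L_eq_ker, RingHom.mem_ker] at h ⊢
  rw [map_mul] at h
  refine (mul_eq_zero.mp h).resolve_left ?_
  show (psi ℤ) (MvPolynomial.C r) ≠ 0
  rw [← MvPolynomial.algebraMap_eq, AlgHom.commutes]
  simpa using hr


/-- The moduli scheme of based three-dimensional Lie algebras is flat over the integers and reduced: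
with I = (Q1, Q2, Q3) the Jacobi ideal of Z[a,b,c,d,e,f,g,h,i] (Q1 = ah + di − fg − bg, Q2 = ie + bd
− fh − ae, Q3 = hc + dc − af − bi), the ring Z[a,b,c,d,e,f,g,h,i]/I is a flat Z-module and I is a
radical ideal. -/
theorem result :
    Module.Flat ℤ (Lie3Mod.D ℤ ⧸ Lie3Mod.idI ℤ) ∧ (Lie3Mod.idI ℤ).IsRadical := by
  open Groth.Agent.Lib.helper13.Lie3B Groth.Agent.Lib.helper19.Lie3 in
  have hI : Lie3Mod.idI ℤ = Lie3Mod.idJ ℤ ⊓ Lie3Mod.idL ℤ := I_eq_J_inf_L ℤ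
  have hJ : (Lie3Mod.idJ ℤ).IsPrime := idJ_isPrime
  have hL : (Lie3Mod.idL ℤ).IsPrime := by
    rw [L_eq_ker]; exact RingHom.ker_isPrime _
  constructor
  · rw [Module.Flat.flat_iff_torsion_eq_bot_of_isBezout, eq_bot_iff]
    rintro x ⟨⟨r, hr⟩, h⟩
    obtain ⟨y, rfl⟩ := Ideal.Quotient.mk_surjective x
    rw [Submodule.mem_bot]
    have hr0 : r ≠ 0 := nonZeroDivisors.ne_zero hr
    have h1 : Ideal.Quotient.mk (Lie3Mod.idI ℤ) (MvPolynomial.C r * y) = 0 := by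
      rw [map_mul]
      have : r • (Ideal.Quotient.mk (Lie3Mod.idI ℤ) y) = 0 := h
      rw [zsmul_eq_mul] at this
      rw [← this]
      congr 1
    rw [Ideal.Quotient.eq_zero_iff_mem] at h1 ⊢
    rw [hI] at h1 ⊢
    exact ⟨mem_J_of_C_mul_mem r hr0 y h1.1, mem_L_of_C_mul_mem r hr0 y h1.2⟩
  · rw [hI]
    exact Ideal.IsRadical.inf hJ.isRadical hL.isRadical

end Groth.Agent.S13095
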