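import Groth.Statements.S13096
import Mathlib

set_option autoImplicit false
universe u v
open CAlg

namespace Groth.Agent.S13096

theorem noeth_inj {A₀ : Type*} [CommRing A₀] [IsNoetherianRing A₀] (f : A₀ →+* A₀)
    (hf : Function.Surjective f) : Function.Injective f := by
  let K : ℕ →o Ideal A₀ :=
    ⟨fun n => RingHom.ker (f ^ n), monotone_nat_of_le_succ (fun n x hx => by
      rw [RingHom.mem_ker] at hx ⊢
      rw [pow_succ', RingHom.mul_def, RingHom.comp_apply, hx, map_zero])⟩
  obtain ⟨N, hN⟩ :=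
    monotone_stabilizes_iff_noetherian.2 (inferInstance : IsNoetherian A₀ A₀) K
  rw [injective_iff_map_eq_zero]
  intro x hx
  have hsN : Function.Surjective (f ^ N) := by
    rw [RingHom.coe_pow]
    exact hf.iterate N
  obtain ⟨y, rfl⟩ := hsN x
  have hy : y ∈ K (N + 1) := by
    show y ∈ RingHom.ker (f ^ (N + 1))
    rw [RingHom.mem_ker, pow_succ', RingHom.mul_def, RingHom.comp_apply]
    exact hx
  rw [← hN (N + 1) (Nat.le_succ N)] at hy
  exact (RingHom.mem_ker).1 hy

theorem lemN {R₀ : Type*} [CommRing R₀] [IsNoetherianRing R₀] {n : ℕ}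
    (I₀ : Ideal (MvPolynomial (Fin n) R₀))
    (β₀ : MvPolynomial (Fin n) R₀ →ₐ[R₀] MvPolynomial (Fin n) R₀)
    (hI : ∀ x ∈ I₀, β₀ x ∈ I₀)
    (hq : ∀ i, ∃ q, β₀ q - MvPolynomial.X i ∈ I₀)
    (a : MvPolynomial (Fin n) R₀) (ha : β₀ a ∈ I₀) : a ∈ I₀ := by
  let α₀ : MvPolynomial (Fin n) R₀ ⧸ I₀ →+* MvPolynomial (Fin n) R₀ ⧸ I₀ :=
    Ideal.quotientMap I₀ β₀.toRingHom (fun x hx => hI x hx)
  have hα₀ : ∀ x, α₀ (Ideal.Quotient.mk I₀ x) = Ideal.Quotient.mk I₀ (β₀ x) := fun x => rfl
  have hsurj : Function.Surjective α₀ := by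
    intro y
    obtain ⟨x, rfl⟩ := Ideal.Quotient.mk_surjective y
    induction x using MvPolynomial.induction_on with
    | C r =>
      refine ⟨Ideal.Quotient.mk I₀ (MvPolynomial.C r), ?_⟩
      rw [hα₀]
      exact congrArg (Ideal.Quotient.mk I₀) (β₀.commutes r)
    | add p q hp hq' =>
      obtain ⟨x, hx⟩ := hp
      obtain ⟨y, hy⟩ := hq'
      exact ⟨x + y, by rw [map_add, hx, hy, map_add]⟩
    | mul_X p i hp =>
      obtain ⟨x, hx⟩ := hp
      obtain ⟨q, hq⟩ := hq i
      refine ⟨x * Ideal.Quotient.mk I₀ q, ?_⟩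
      rw [map_mul, hx, hα₀, map_mul]
      congr 1
      exact Ideal.Quotient.eq.2 hq
  have hinj := noeth_inj α₀ hsurj
  have h0 : Ideal.Quotient.mk I₀ a = 0 := by
    apply hinj
    rw [hα₀, map_zero]
    exact Ideal.Quotient.eq_zero_iff_mem.2 ha
  exact Ideal.Quotient.eq_zero_iff_mem.1 h0

theorem main (R : Type u) [CommRing R] (R' : Type v) [CommRing R'] [Algebra R R']
    [Algebra.FiniteType R R']
    (α : R' →ₐ[R] R') (hα : Function.Surjective α) : Function.Injective α := by
  classical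
  obtain ⟨n, π, hπ⟩ :=
    Algebra.FiniteType.iff_quotient_mvPolynomial''.1 (inferInstance : Algebra.FiniteType R R')
  have hp : ∀ i : Fin n, ∃ p : MvPolynomial (Fin n) R, π p = α (π (MvPolynomial.X i)) :=
    fun i => hπ _
  choose p hp using hp
  have hq : ∀ i : Fin n, ∃ q : MvPolynomial (Fin n) R, α (π q) = π (MvPolynomial.X i) := by
    intro i
    obtain ⟨y, hy⟩ := hα (π (MvPolynomial.X i))
    obtain ⟨q, rfl⟩ := hπ y
    exact ⟨q, hy⟩
  choose q hq using hq
  have hβ : ∀ x, π (MvPolynomial.bind₁ p x) = α (π x) := by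
    intro x
    have h : π.comp (MvPolynomial.bind₁ p) = α.comp π := by
      apply MvPolynomial.algHom_ext
      intro i
      show π (MvPolynomial.bind₁ p (MvPolynomial.X i)) = α (π (MvPolynomial.X i))
      rw [MvPolynomial.bind₁_X_right]
      exact hp i
    exact AlgHom.congr_fun h x
  rw [injective_iff_map_eq_zero]
  intro y hy
  obtain ⟨a, rfl⟩ := hπ y
  have ha : π (MvPolynomial.bind₁ p a) = 0 := by
    rw [hβ]
    exact hy
  -- descend to a Noetherian subring
  let D : Finset R := ((Finset.univ.biUnion fun i => (p i).coeffs) ∪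
    (Finset.univ.biUnion fun i => (q i).coeffs)) ∪ a.coeffs
  have hpD : ∀ i, ((p i).coeffs : Set R) ⊆ (D : Set R) := fun i => Finset.coe_subset.2
    ((Finset.subset_biUnion_of_mem (fun i => (p i).coeffs) (Finset.mem_univ i)).trans
      (Finset.subset_union_left.trans Finset.subset_union_left))
  have hqD : ∀ i, ((q i).coeffs : Set R) ⊆ (D : Set R) := fun i => Finset.coe_subset.2
    ((Finset.subset_biUnion_of_mem (fun i => (q i).coeffs) (Finset.mem_univ i)).trans
      (Finset.subset_union_right.trans Finset.subset_union_left))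
  have haD : (a.coeffs : Set R) ⊆ (D : Set R) := Finset.coe_subset.2 Finset.subset_union_right
  haveI : Algebra.FiniteType ℤ (Algebra.adjoin ℤ (D : Set R)) :=
    (Subalgebra.fg_iff_finiteType _).1 ⟨D, rfl⟩
  haveI : IsNoetherianRing (Algebra.adjoin ℤ (D : Set R)) :=
    Algebra.FiniteType.isNoetherianRing ℤ _
  let j : Algebra.adjoin ℤ (D : Set R) →+* R := algebraMap (Algebra.adjoin ℤ (D : Set R)) R
  have hj : Function.Injective j := Subtype.val_injective
  have hmp : Function.Injective (MvPolynomial.map (σ := Fin n) j) :=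
    MvPolynomial.map_injective j hj
  have hlift : ∀ d : MvPolynomial (Fin n) R, (d.coeffs : Set R) ⊆ (D : Set R) →
      ∃ d₀, MvPolynomial.map j d₀ = d := by
    intro d hd
    have h : d ∈ Set.range (MvPolynomial.map j) := by
      rw [MvPolynomial.mem_range_map_iff_coeffs_subset]
      intro c hc
      exact ⟨⟨c, Algebra.subset_adjoin (hd hc)⟩, rfl⟩
    exact h
  choose p₀ hp₀ using fun i => hlift (p i) (hpD i)
  choose q₀ hq₀ using fun i => hlift (q i) (hqD i)
  obtain ⟨a₀, ha₀⟩ := hlift a haD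
  have hββ₀ : ∀ x, MvPolynomial.map j (MvPolynomial.bind₁ p₀ x) =
      MvPolynomial.bind₁ p (MvPolynomial.map j x) := by
    intro x
    rw [MvPolynomial.map_bind₁]
    have h : (fun i => MvPolynomial.map j (p₀ i)) = p := funext hp₀
    rw [h]
  let I₀ : Ideal (MvPolynomial (Fin n) (Algebra.adjoin ℤ (D : Set R))) :=
    (RingHom.ker π.toRingHom).comap (MvPolynomial.map j)
  have hmem : ∀ x, x ∈ I₀ ↔ π (MvPolynomial.map j x) = 0 := fun x => Iff.rfl
  have key : a₀ ∈ I₀ := by
    refine lemN I₀ (MvPolynomial.bind₁ p₀) (fun x hx => ?_) (fun i => ⟨q₀ i, ?_⟩) a₀ ?_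
    · rw [hmem] at hx ⊢
      rw [hββ₀, hβ, hx, map_zero]
    · rw [hmem, map_sub, hββ₀, hq₀, MvPolynomial.map_X, map_sub, hβ, hq, sub_self]
    · rw [hmem, hββ₀, ha₀]
      exact ha
  have h := (hmem a₀).1 key
  rw [ha₀] at h
  exact h



/-- Let R be a commutative ring and R' a commutative R-algebra of finite presentation. Then every
surjective R-algebra endomorphism α : R' → R' is bijective (an automorphism). -/
theorem result (R : Type u) [CommRing R]
    (R' : Type v) [CommRing R'] [Algebra R R'] [Algebra.FinitePresentation R R']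
    (α : R' →ₐ[R] R') (hα : Function.Surjective α) : Function.Bijective α := by
  haveI : Algebra.FiniteType R R' := Algebra.FiniteType.of_finitePresentation
  exact ⟨main R R' α hα, hα⟩


end Groth.Agent.S13096
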