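import Groth.Statements.S13097
import Mathlib

set_option autoImplicit false
universe u
open FlatMor

namespace Groth.Agent.S13097

section Helpers

open CategoryTheory AlgebraicGeometry CategoryTheory.Limits

/-- A schematically dense open is dense. -/
lemma dense_of_isSchematicallyDense {X : Scheme.{u}} (W : X.Opens)
    (hW : CInt.IsSchematicallyDense W) : Dense (W : Set X) := by
  rw [dense_iff_inter_open]
  intro V hV hVne
  by_contra hemp
  rw [Set.not_nonempty_iff_eq_empty] at hemp
  let V' : X.Opens := ⟨V, hV⟩
  have hbot : V' ⊓ W = ⊥ := by
    ext x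
    simp only [TopologicalSpace.Opens.coe_inf, TopologicalSpace.Opens.coe_bot,
      Set.mem_empty_iff_false, iff_false]
    intro hx
    have : x ∈ V ∩ (W : Set X) := hx
    rw [hemp] at this
    exact this
  have hinj := hW V'
  -- sections over the empty open are trivial
  have hsub : Subsingleton Γ(X, V' ⊓ W) := by
    rw [hbot]
    infer_instance
  have h01 : (0 : Γ(X, V')) = 1 := hinj (Subsingleton.elim _ _)
  obtain ⟨x, hx⟩ := hVne
  have hx' : x ∈ V' := hx
  have := congrArg (X.presheaf.germ V' x hx').hom h01
  rw [map_zero, map_one] at this
  exact zero_ne_one this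

end Helpers

open CategoryTheory AlgebraicGeometry in
/-- Let f : X → S be a quasi-compact, separated morphism of schemes with a section e : S → X (e followed
by f is the identity of S), and U ⊆ S an open subscheme such that f⁻¹(U) is schematically dense in X
(for every open V of X, restriction of functions from V to V ∩ f⁻¹(U) is injective) and such that
the restriction f⁻¹(U) → U of f is a homeomorphism of underlying spaces. Then f is universally a
homeomorphism (every base change of f is a homeomorphism), and f is finite as soon as it is locally
of finite type. (The published statement also lists surjectivity of f, which a section forces, and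
offers as an alternative to the section the hypothesis that f be flat, still with f⁻¹(U) → U only a
homeomorphism; that flat alternative fails: the spectrum of a separable quadratic field extension
over the spectrum of the ground field, with U the whole base, is flat, surjective, quasi-compact,
separated and a homeomorphism over U, yet not universally injective. Only the case of a section,
whose published proof is complete, is stated here.) -/
theorem result {X S : Scheme.{u}} (f : X ⟶ S)
    [QuasiCompact f] [IsSeparated f] (U : S.Opens)
    (hdense : CInt.IsSchematicallyDense (f ⁻¹ᵁ U)) (hU : IsHomeomorph (f ∣_ U).base)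
    (e : S ⟶ X) (he : e ≫ f = 𝟙 S) :
    FlatMor.IsUnivHomeo f ∧ (LocallyOfFiniteType f → IsFinite f) := by
  -- the section is a surjective closed immersion
  have hecl : IsClosedImmersion e := by
    have : IsClosedImmersion (e ≫ f) := by rw [he]; infer_instance
    exact IsClosedImmersion.of_comp e f
  have hdense' := dense_of_isSchematicallyDense _ hdense
  have hrange : (f ⁻¹ᵁ U : Set X) ⊆ Set.range e := by
    intro x hx
    refine ⟨f x, ?_⟩
    have hfe : f (e (f x)) = f x := by
      rw [← Scheme.Hom.comp_apply, he]; rfl
    have hx' : e (f x) ∈ f ⁻¹ᵁ U := by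
      show f (e (f x)) ∈ U
      rw [hfe]; exact hx
    have hinj := hU.injective
    have h1 : (f ∣_ U) ⟨e (f x), hx'⟩ = (f ∣_ U) ⟨x, hx⟩ := by
      apply Subtype.ext
      have e1 := congr($(morphismRestrict_ι f U) ⟨e (f x), hx'⟩)
      have e2 := congr($(morphismRestrict_ι f U) ⟨x, hx⟩)
      simp only [Scheme.Hom.comp_apply] at e1 e2
      exact e1.trans (hfe.trans e2.symm)
    have h2 := hinj h1
    exact congrArg Subtype.val h2
  have hesurj : Function.Surjective e := by
    rw [← Set.range_eq_univ, ← e.isClosedEmbedding.isClosed_range.closure_eq]
    exact Set.eq_univ_of_univ_subset ((hdense'.closure_eq).symm.subset.trans (closure_mono hrange))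
  have hsurjE : Surjective e := ⟨hesurj⟩
  have huniv : FlatMor.IsUnivHomeo f := by
    intro X' S' i₁ i₂ f' H
    -- the induced section of `f'`
    let e' : S' ⟶ X' := H.lift (𝟙 S') (i₂ ≫ e) (by rw [Category.id_comp, Category.assoc, he, Category.comp_id])
    have he'1 : e' ≫ f' = 𝟙 S' := H.lift_fst _ _ _
    have he'2 : e' ≫ i₁ = i₂ ≫ e := H.lift_snd _ _ _
    have Hleft : IsPullback e' i₂ i₁ e := by
      refine IsPullback.of_right ?_ he'2 H
      rw [he'1, he]
      exact IsPullback.of_horiz_isIso ⟨by simp⟩
    have hcl' : IsClosedImmersion e' := MorphismProperty.of_isPullback Hleft.flip hecl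
    have hsurj' : Surjective e' := MorphismProperty.of_isPullback Hleft.flip hsurjE
    have hhomeo : IsHomeomorph e' :=
      isHomeomorph_iff_isEmbedding_surjective.2 ⟨e'.isClosedEmbedding.isEmbedding, hsurj'.surj⟩
    show IsHomeomorph f'
    have hfe' : ∀ y, f' (e' y) = y := fun y => by
      rw [← Scheme.Hom.comp_apply, he'1]; rfl
    have : (f' : X' → S') = hhomeo.homeomorph.symm := by
      funext x
      obtain ⟨y, rfl⟩ := hsurj'.surj x
      rw [hfe']
      exact (hhomeo.homeomorph.symm_apply_apply y).symm
    rw [this]
    exact hhomeo.homeomorph.symm.isHomeomorph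
  refine ⟨huniv, fun hlft => ?_⟩
  have hfhomeo : IsHomeomorph f := huniv (𝟙 X) (𝟙 S) f (IsPullback.id_vert f)
  have hqf : LocallyQuasiFinite f := LocallyQuasiFinite.of_injective hfhomeo.injective
  have huc : UniversallyClosed f := ⟨fun X' S' i₁ i₂ f' H => (huniv i₁ i₂ f' H).isClosedMap⟩
  have hprop : IsProper f := {}
  exact (IsFinite.iff_isProper_and_locallyQuasiFinite f).2 ⟨hprop, hqf⟩

end Groth.Agent.S13097
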