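import Groth.Statements.S13098
import Mathlib
-- import your own Groth.Agent.* helpers here

set_option autoImplicit false
universe u v
open Lie3Mod

namespace Groth.Agent.S13098

theorem main (R : Type u) [CommRing R] (M : Type v) [AddCommGroup M] [Module R M]
    (bs : Module.Basis (Fin 3) R M) (B : M →ₗ[R] M →ₗ[R] M) (halt : ∀ m : M, B m m = 0)
    (a b c d e f g h i : R)
    (hxy : B (bs 0) (bs 1) = a • bs 0 + b • bs 1 + c • bs 2)
    (hxz : B (bs 0) (bs 2) = d • bs 0 + e • bs 1 + f • bs 2)
    (hyz : B (bs 1) (bs 2) = g • bs 0 + h • bs 1 + i • bs 2) :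
    (∀ u v w : M, B u (B v w) + B v (B w u) + B w (B u v) = 0) ↔
      (a * h + d * i - f * g - b * g = 0 ∧ i * e + b * d - f * h - a * e = 0 ∧
        h * c + d * c - a * f - b * i = 0) := by
  have hanti : ∀ u v : M, B u v = - B v u := by
    intro u v
    have := halt (u + v)
    simp only [map_add, LinearMap.add_apply, halt, zero_add, add_zero] at this
    exact eq_neg_of_add_eq_zero_right this
  have h00 := halt (bs 0)
  have h11 := halt (bs 1)
  have h22 := halt (bs 2)
  have hyx : B (bs 1) (bs 0) = -(a • bs 0 + b • bs 1 + c • bs 2) := by rw [hanti, hxy]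
  have hzx : B (bs 2) (bs 0) = -(d • bs 0 + e • bs 1 + f • bs 2) := by rw [hanti, hxz]
  have hzy : B (bs 2) (bs 1) = -(g • bs 0 + h • bs 1 + i • bs 2) := by rw [hanti, hyz]
  have key : B (bs 0) (B (bs 1) (bs 2)) + B (bs 1) (B (bs 2) (bs 0)) + B (bs 2) (B (bs 0) (bs 1)) =
      (a * h + d * i - f * g - b * g) • bs 0 + (i * e + b * d - f * h - a * e) • bs 1 +
        (h * c + d * c - a * f - b * i) • bs 2 := by
    simp only [hyz, hzx, hxy, map_add, map_smul, map_neg, map_zero, h00, h11, h22, hxz, hyx, hzy]
    module
  constructor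
  · intro hJ
    have h1 := hJ (bs 0) (bs 1) (bs 2)
    rw [key] at h1
    have hli := bs.linearIndependent
    rw [Fintype.linearIndependent_iff] at hli
    have h2 := hli ![a * h + d * i - f * g - b * g, i * e + b * d - f * h - a * e,
      h * c + d * c - a * f - b * i] (by simpa [Fin.sum_univ_three] using h1)
    exact ⟨by simpa using h2 0, by simpa using h2 1, by simpa using h2 2⟩
  · rintro ⟨hQ1, hQ2, hQ3⟩
    have hbasis : ∀ i j k : Fin 3,
        B (bs i) (B (bs j) (bs k)) + B (bs j) (B (bs k) (bs i)) + B (bs k) (B (bs i) (bs j)) = 0 := by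
      intro i j k
      fin_cases i <;> fin_cases j <;> fin_cases k <;>
        simp only [Fin.zero_eta, Fin.mk_one, Fin.reduceFinMk, Fin.isValue,
          hyz, hzx, hxy, map_add, map_smul, map_neg, map_zero, h00, h11, h22, hxz, hyx, hzy] <;>
        first
          | module
          | linear_combination (norm := module) (hQ1 • bs 0 + hQ2 • bs 1 + hQ3 • bs 2)
          | linear_combination (norm := module) -(hQ1 • bs 0 + hQ2 • bs 1 + hQ3 • bs 2)
    intro u v w
    have h1 : ∀ (i j : Fin 3) (w : M),
        B (bs i) (B (bs j) w) + B (bs j) (B w (bs i)) + B w (B (bs i) (bs j)) = 0 := by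
      intro i j w
      have := LinearMap.congr_fun (bs.ext (f₁ := (B (bs i)).comp (B (bs j)) +
        (B (bs j)).comp (B.flip (bs i)) + B.flip (B (bs i) (bs j))) (f₂ := 0)
        (fun k => by simpa using hbasis i j k)) w
      simpa using this
    have h2 : ∀ (i : Fin 3) (v w : M),
        B (bs i) (B v w) + B v (B w (bs i)) + B w (B (bs i) v) = 0 := by
      intro i v w
      have := LinearMap.congr_fun (bs.ext (f₁ := (B (bs i)).comp (B.flip w) +
        B.flip (B w (bs i)) + (B w).comp (B (bs i))) (f₂ := 0)
        (fun j => by simpa using h1 i j w)) v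
      simpa using this
    have := LinearMap.congr_fun (bs.ext (f₁ := B.flip (B v w) + (B v).comp (B w) +
      (B w).comp (B.flip v)) (f₂ := 0) (fun i => by simpa using h2 i v w)) u
    simpa using this

/-- Let R be a commutative ring, M an R-module with a basis x = bs 0, y = bs 1, z = bs 2 indexed by Fin
3, and B an R-bilinear alternating map on M (B m m = 0) with B x y = a x + b y + c z, B x z = d x +
e y + f z and B y z = g x + h y + i z. Then B satisfies the Jacobi identity for all triples if and
only if the three Jacobi polynomials vanish: ah + di − fg − bg = 0, ie + bd − fh − ae = 0 and hc +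
dc − af − bi = 0. (This is the statement that Lie brackets on a based free module of rank 3 are the
points of the closed subscheme of affine 9-space defined by these three equations.) -/
theorem result (R : Type u) [CommRing R] (M : Type v) [AddCommGroup M] [Module R M]
    (bs : Module.Basis (Fin 3) R M) (B : M →ₗ[R] M →ₗ[R] M) (halt : ∀ m : M, B m m = 0)
    (a b c d e f g h i : R)
    (hxy : B (bs 0) (bs 1) = a • bs 0 + b • bs 1 + c • bs 2)
    (hxz : B (bs 0) (bs 2) = d • bs 0 + e • bs 1 + f • bs 2)
    (hyz : B (bs 1) (bs 2) = g • bs 0 + h • bs 1 + i • bs 2) :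
    (∀ u v w : M, B u (B v w) + B v (B w u) + B w (B u v) = 0) ↔
      (a * h + d * i - f * g - b * g = 0 ∧ i * e + b * d - f * h - a * e = 0 ∧
        h * c + d * c - a * f - b * i = 0) := by
  exact main R M bs B halt a b c d e f g h i hxy hxz hyz

end Groth.Agent.S13098
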