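import Groth.Statements.S1310
import Mathlib
import Groth.Agent.Lib.Helper18.NilBaseScheme
import Groth.Agent.Lib.Helper18.NilBaseUnram

set_option autoImplicit false
universe u
open FlatMor

namespace Groth.Agent.S1310

open AlgebraicGeometry CategoryTheory Limits in

open AlgebraicGeometry CategoryTheory Limits in
/-- Let S ⟶ S' be a finite order thickening and let X be the base change of a scheme X' over S' to S (so
X ⟶ X' is again a thickening). Then X ⟶ S is formally unramified if and only if X' ⟶ S' is. (The
source states this as the vanishing of the sheaf of relative differentials; formal unramifiedness is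
the equivalent phrasing available here.) -/
theorem result {X X' S S' : Scheme.{u}} (iX : X ⟶ X') (iS : S ⟶ S') (f : X ⟶ S) (f' : X' ⟶ S')
    (hS : MoreMor.IsFiniteOrderThickening iS) (hc : IsPullback iX f f' iS) :
    FormallyUnramified f ↔ FormallyUnramified f' := by
  obtain ⟨⟨h1, h2⟩, hn⟩ := hS
  constructor
  · intro h
    rw [HasRingHomProperty.iff_appLE (P := @FormallyUnramified)]
    intro U' V' e
    obtain ⟨hWU, hUS, hW, hPO, hs, hsX, hker⟩ :=
      Groth.Agent.Lib.Helper18.NilBase.chart_thickening hc U'.2 V'.2 e
    have hβ := f.formallyUnramified_appLE hUS hW hWU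
    have hnil : IsNilpotent (RingHom.ker (iS.app U'.1).hom) := by
      have := Groth.Agent.Lib.Helper18.NilBase.isNilpotent_ideal_of_isNilpotent _ hn U'
      rwa [Scheme.Hom.ker_apply] at this
    exact RingHom.FormallyUnramified.of_isPushout_nilpotent hPO hs hnil hβ
  · intro h
    exact MorphismProperty.of_isPullback hc h

end Groth.Agent.S1310
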