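import Groth.Statements.S13100
import Mathlib

set_option autoImplicit false
universe u
open GrpSch

namespace Groth.Agent.S13100

/-- Let k be an algebraically closed field of characteristic different from 2 and K = k((t)) the field
of Laurent series over k. Then a non-zero Laurent series f is a square in K if and only if its order
in t is even; consequently the group Kˣ/Kˣ² of non-zero elements modulo squares has exactly two
elements, represented by 1 and t. -/
theorem result (k : Type u) [Field k] [IsAlgClosed k] (h2 : (2 : k) ≠ 0)
    (f : LaurentSeries k) (hf : f ≠ 0) : IsSquare f ↔ Even f.order := by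
  constructor
  · rintro ⟨g, rfl⟩
    have hg : g ≠ 0 := by rintro rfl; simp at hf
    rw [HahnSeries.order_mul hg hg]
    exact ⟨g.order, rfl⟩
  · rintro ⟨m, hm⟩
    set P := f.powerSeriesPart with hP
    have hc : PowerSeries.constantCoeff P ≠ 0 := by
      rw [← PowerSeries.coeff_zero_eq_constantCoeff_apply, hP, LaurentSeries.powerSeriesPart_coeff]
      simpa using (HahnSeries.coeff_order_eq_zero (x := f)).not.mpr hf
    obtain ⟨a, ha⟩ := IsAlgClosed.exists_pow_nat_eq (PowerSeries.constantCoeff P) (n := 2) two_pos
    have ha0 : a ≠ 0 := by
      rintro rfl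
      apply hc
      rw [← ha]; simp
    have hmonic : (Polynomial.X ^ 2 - Polynomial.C P : Polynomial (PowerSeries k)).Monic :=
      Polynomial.monic_X_pow_sub_C P (by norm_num)
    have heval : (Polynomial.X ^ 2 - Polynomial.C P : Polynomial (PowerSeries k)).eval (PowerSeries.C a) ∈
        Ideal.span {(PowerSeries.X : PowerSeries k)} := by
      rw [Ideal.mem_span_singleton, PowerSeries.X_dvd_iff]
      simp [ha]
    have hder : IsUnit (Ideal.Quotient.mk (Ideal.span {(PowerSeries.X : PowerSeries k)})
        ((Polynomial.X ^ 2 - Polynomial.C P : Polynomial (PowerSeries k)).derivative.eval (PowerSeries.C a))) := by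
      apply IsUnit.map
      rw [PowerSeries.isUnit_iff_constantCoeff]
      simp only [Polynomial.derivative_sub, Polynomial.derivative_X_pow, Polynomial.derivative_C,
        sub_zero, Polynomial.eval_mul, Polynomial.eval_pow, Polynomial.eval_X, map_mul]
      simp
      exact ⟨h2, ha0⟩
    obtain ⟨s, hs, -⟩ := HenselianRing.is_henselian (R := PowerSeries k)
      (I := Ideal.span {(PowerSeries.X : PowerSeries k)})
      (Polynomial.X ^ 2 - Polynomial.C P) hmonic (PowerSeries.C a) heval hder
    have hs2 : s * s = P := by
      have : s ^ 2 - P = 0 := by simpa [Polynomial.IsRoot] using hs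
      rw [← pow_two]; exact sub_eq_zero.mp this
    refine ⟨HahnSeries.single m 1 * (s : LaurentSeries k), ?_⟩
    have h1 : (HahnSeries.single m (1 : k) * (s : LaurentSeries k)) * (HahnSeries.single m 1 * (s : LaurentSeries k))
        = (HahnSeries.single m (1 : k) * HahnSeries.single m 1) * ((s : LaurentSeries k) * (s : LaurentSeries k)) := by
      ring
    rw [h1, HahnSeries.single_mul_single, one_mul, ← hm, ← map_mul, hs2, hP]
    exact (LaurentSeries.single_order_mul_powerSeriesPart f).symm

end Groth.Agent.S13100
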