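import Groth.Statements.S13101
import Mathlib

set_option autoImplicit false
universe u v
open GrpSch

namespace Groth.Agent.S13101

/-- Let A be a commutative ring in which 2 is a unit, and L a Lie algebra over A, free as a module with
basis x = bs 0, y = bs 1, z = bs 2 and brackets [x,y] = y, [x,z] = y + z, [y,z] = 0. Then for every
Lie algebra automorphism φ of L over A there are b, c, h ∈ A and a unit i of A with φ(x) = x + b y +
c z, φ(y) = i y and φ(z) = h y + i z. Only the form of an automorphism is stated, not that every map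
of this form is one. (The published statement identifies the automorphism group scheme with a
semidirect product of two additive groups by the product of the multiplicative and additive group,
for algebras over a field of Laurent series of characteristic not 2, and deduces the vanishing of
its first cohomology; this row records the determination of the automorphisms, over any base ring
with 2 invertible; the cohomological consequence is not restated.) -/
theorem result (A : Type u) [CommRing A] (h2 : IsUnit (2 : A))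
    (L : Type v) [LieRing L] [LieAlgebra A L] (bs : Module.Basis (Fin 3) A L)
    (hxy : ⁅bs 0, bs 1⁆ = bs 1) (hxz : ⁅bs 0, bs 2⁆ = bs 1 + bs 2) (hyz : ⁅bs 1, bs 2⁆ = 0)
    (φ : L ≃ₗ⁅A⁆ L) :
    ∃ b c h i : A, IsUnit i ∧ φ (bs 0) = bs 0 + b • bs 1 + c • bs 2 ∧ φ (bs 1) = i • bs 1 ∧
      φ (bs 2) = h • bs 1 + i • bs 2 := by
  have hyx : ⁅bs 1, bs 0⁆ = -bs 1 := by rw [← lie_skew, hxy]
  have hzx : ⁅bs 2, bs 0⁆ = -(bs 1 + bs 2) := by rw [← lie_skew, hxz]
  have hzy : ⁅bs 2, bs 1⁆ = 0 := by rw [← lie_skew, hyz, neg_zero]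
  have hexp : ∀ v : L, v = bs.repr v 0 • bs 0 + bs.repr v 1 • bs 1 + bs.repr v 2 • bs 2 := by
    intro v
    conv_lhs => rw [← bs.sum_repr v]
    rw [Fin.sum_univ_three]
  have huniq : ∀ a b c a' b' c' : A,
      a • bs 0 + b • bs 1 + c • bs 2 = a' • bs 0 + b' • bs 1 + c' • bs 2 → a = a' ∧ b = b' ∧ c = c' := by
    intro a b c a' b' c' h
    have := congrArg bs.repr h
    simp only [map_add, map_smul, Module.Basis.repr_self] at this
    refine ⟨?_, ?_, ?_⟩
    · simpa using DFunLike.congr_fun this 0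
    · simpa using DFunLike.congr_fun this 1
    · simpa using DFunLike.congr_fun this 2
  have hbr : ∀ a b c a' b' c' : A,
      ⁅a • bs 0 + b • bs 1 + c • bs 2, a' • bs 0 + b' • bs 1 + c' • bs 2⁆ =
        (0 : A) • bs 0 + (a * b' - b * a' + a * c' - c * a') • bs 1 + (a * c' - c * a') • bs 2 := by
    intro a b c a' b' c'
    simp only [add_lie, lie_add, smul_lie, lie_smul, lie_self, hxy, hxz, hyz, hyx, hzx, hzy]
    module
  -- shape of any Lie endomorphism
  have shape : ∀ χ : L →ₗ⁅A⁆ L,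
      bs.repr (χ (bs 1)) 0 = 0 ∧ bs.repr (χ (bs 2)) 0 = 0 ∧
      bs.repr (χ (bs 1)) 1 = bs.repr (χ (bs 0)) 0 * (bs.repr (χ (bs 1)) 1 + bs.repr (χ (bs 1)) 2) ∧
      bs.repr (χ (bs 1)) 2 = bs.repr (χ (bs 0)) 0 * bs.repr (χ (bs 1)) 2 ∧
      bs.repr (χ (bs 1)) 1 + bs.repr (χ (bs 2)) 1 =
        bs.repr (χ (bs 0)) 0 * (bs.repr (χ (bs 2)) 1 + bs.repr (χ (bs 2)) 2) ∧
      bs.repr (χ (bs 1)) 2 + bs.repr (χ (bs 2)) 2 = bs.repr (χ (bs 0)) 0 * bs.repr (χ (bs 2)) 2 := by
    intro χ
    have e1 : χ (bs 1) = ⁅χ (bs 0), χ (bs 1)⁆ := by rw [← LieHom.map_lie, hxy]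
    have e2 : χ (bs 1) + χ (bs 2) = ⁅χ (bs 0), χ (bs 2)⁆ := by rw [← LieHom.map_lie, hxz, map_add]
    set a := bs.repr (χ (bs 0)) 0
    set b := bs.repr (χ (bs 0)) 1
    set c := bs.repr (χ (bs 0)) 2
    set d := bs.repr (χ (bs 1)) 0
    set e := bs.repr (χ (bs 1)) 1
    set f := bs.repr (χ (bs 1)) 2
    set g := bs.repr (χ (bs 2)) 0
    set h := bs.repr (χ (bs 2)) 1
    set i := bs.repr (χ (bs 2)) 2
    have hx : χ (bs 0) = a • bs 0 + b • bs 1 + c • bs 2 := hexp _
    have hy : χ (bs 1) = d • bs 0 + e • bs 1 + f • bs 2 := hexp _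
    have hz : χ (bs 2) = g • bs 0 + h • bs 1 + i • bs 2 := hexp _
    rw [hx, hy, hbr] at e1
    obtain ⟨hd, he, hf⟩ := huniq _ _ _ _ _ _ e1
    have e2' : (d + g) • bs 0 + (e + h) • bs 1 + (f + i) • bs 2 =
        ⁅a • bs 0 + b • bs 1 + c • bs 2, g • bs 0 + h • bs 1 + i • bs 2⁆ := by
      rw [← hx, ← hz, ← e2, hy, hz]; module
    rw [hbr] at e2'
    obtain ⟨hdg, heh, hfi⟩ := huniq _ _ _ _ _ _ e2'
    have hg : g = 0 := by rw [hd] at hdg; simpa using hdg
    refine ⟨hd, hg, ?_, ?_, ?_, ?_⟩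
    · linear_combination he - (b + c) * hd
    · linear_combination hf - c * hd
    · linear_combination heh - (b + c) * hg
    · linear_combination hfi - c * hg
  obtain ⟨hd, hg, he, hf, heh, hfi⟩ := shape φ.toLieHom
  obtain ⟨hd', hg', -, -, -, -⟩ := shape φ.symm.toLieHom
  -- names
  set a := bs.repr (φ (bs 0)) 0 with ha
  set b := bs.repr (φ (bs 0)) 1
  set c := bs.repr (φ (bs 0)) 2
  set e := bs.repr (φ (bs 1)) 1
  set f := bs.repr (φ (bs 1)) 2
  set h := bs.repr (φ (bs 2)) 1
  set i := bs.repr (φ (bs 2)) 2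
  set a' := bs.repr (φ.symm (bs 0)) 0
  set b' := bs.repr (φ.symm (bs 0)) 1
  set c' := bs.repr (φ.symm (bs 0)) 2
  set e' := bs.repr (φ.symm (bs 1)) 1
  set f' := bs.repr (φ.symm (bs 1)) 2
  set h' := bs.repr (φ.symm (bs 2)) 1
  set i' := bs.repr (φ.symm (bs 2)) 2
  have hx : φ (bs 0) = a • bs 0 + b • bs 1 + c • bs 2 := hexp _
  have hy : φ (bs 1) = e • bs 1 + f • bs 2 := by
    have := hexp (φ (bs 1))
    change bs.repr (φ (bs 1)) 0 = 0 at hd
    rw [hd, zero_smul, zero_add] at this
    exact this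
  have hz : φ (bs 2) = h • bs 1 + i • bs 2 := by
    have := hexp (φ (bs 2))
    change bs.repr (φ (bs 2)) 0 = 0 at hg
    rw [hg, zero_smul, zero_add] at this
    exact this
  have hx' : φ.symm (bs 0) = a' • bs 0 + b' • bs 1 + c' • bs 2 := hexp _
  have hy' : φ.symm (bs 1) = e' • bs 1 + f' • bs 2 := by
    have := hexp (φ.symm (bs 1))
    change bs.repr (φ.symm (bs 1)) 0 = 0 at hd'
    rw [hd', zero_smul, zero_add] at this
    exact this
  have hz' : φ.symm (bs 2) = h' • bs 1 + i' • bs 2 := by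
    have := hexp (φ.symm (bs 2))
    change bs.repr (φ.symm (bs 2)) 0 = 0 at hg'
    rw [hg', zero_smul, zero_add] at this
    exact this
  -- ψ (φ v) = v
  have c0 : φ.symm (φ (bs 0)) = bs 0 := φ.symm_apply_apply _
  have c1 : φ.symm (φ (bs 1)) = bs 1 := φ.symm_apply_apply _
  have c2 : φ.symm (φ (bs 2)) = bs 2 := φ.symm_apply_apply _
  rw [hx, map_add, map_add, map_smul, map_smul, map_smul, hx', hy', hz'] at c0
  rw [hy, map_add, map_smul, map_smul, hy', hz'] at c1
  rw [hz, map_add, map_smul, map_smul, hy', hz'] at c2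
  have k0 : (a * a') • bs 0 + (a * b' + b * e' + c * h') • bs 1 + (a * c' + b * f' + c * i') • bs 2 =
      (1 : A) • bs 0 + (0 : A) • bs 1 + (0 : A) • bs 2 := by
    have e0 : (a * a') • bs 0 + (a * b' + b * e' + c * h') • bs 1 + (a * c' + b * f' + c * i') • bs 2 =
        a • (a' • bs 0 + b' • bs 1 + c' • bs 2) + b • (e' • bs 1 + f' • bs 2) + c • (h' • bs 1 + i' • bs 2) := by
      module
    rw [e0, c0]; simp
  have k1 : (0 : A) • bs 0 + (e * e' + f * h') • bs 1 + (e * f' + f * i') • bs 2 =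
      (0 : A) • bs 0 + (1 : A) • bs 1 + (0 : A) • bs 2 := by
    have e0 : (0 : A) • bs 0 + (e * e' + f * h') • bs 1 + (e * f' + f * i') • bs 2 =
        e • (e' • bs 1 + f' • bs 2) + f • (h' • bs 1 + i' • bs 2) := by
      module
    rw [e0, c1]; simp
  have k2 : (0 : A) • bs 0 + (h * e' + i * h') • bs 1 + (h * f' + i * i') • bs 2 =
      (0 : A) • bs 0 + (0 : A) • bs 1 + (1 : A) • bs 2 := by
    have e0 : (0 : A) • bs 0 + (h * e' + i * h') • bs 1 + (h * f' + i * i') • bs 2 =
        h • (e' • bs 1 + f' • bs 2) + i • (h' • bs 1 + i' • bs 2) := by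
      module
    rw [e0, c2]; simp
  obtain ⟨haa, -, -⟩ := huniq _ _ _ _ _ _ k0
  obtain ⟨-, h11, h12⟩ := huniq _ _ _ _ _ _ k1
  obtain ⟨-, h21, h22⟩ := huniq _ _ _ _ _ _ k2
  have hau : IsUnit a := IsUnit.of_mul_eq_one _ haa
  have hδ : IsUnit (e * i - f * h) := by
    refine IsUnit.of_mul_eq_one (e' * i' - f' * h') ?_
    linear_combination (h * f' + i * i') * h11 + h22 - (h * e' + i * h') * h12
  -- the algebra: u = a - 1
  change bs.repr (φ (bs 1)) 1 = a * (e + f) at he
  change bs.repr (φ (bs 1)) 2 = a * f at hf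
  change e + h = a * (h + i) at heh
  change f + i = a * i at hfi
  have he : e = a * (e + f) := he
  have hf : f = a * f := hf
  obtain ⟨a2, ha2⟩ := h2.exists_left_inv
  obtain ⟨ainv, hainv⟩ := hau.exists_left_inv
  obtain ⟨δinv, hδinv⟩ := hδ.exists_left_inv
  have huf : (a - 1) * f = 0 := by linear_combination -hf
  have hui : (a - 1) * i = f := by linear_combination -hfi
  have hue : (a - 1) * e = -(a * f) := by linear_combination -he
  have huh : (a - 1) * h = e - a * i := by linear_combination -heh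
  have hff : f * f = 0 := by
    calc f * f = ((a - 1) * i) * f := by rw [hui]
      _ = i * ((a - 1) * f) := by ring
      _ = 0 := by rw [huf, mul_zero]
  have huu : (a - 1) * (a - 1) = 0 := by
    have h1 : (a - 1) * (a - 1) * (e * i - f * h) = 0 := by
      calc (a - 1) * (a - 1) * (e * i - f * h)
          = ((a - 1) * e) * ((a - 1) * i) - ((a - 1) * f) * ((a - 1) * h) := by ring
        _ = -(a * f) * f - 0 * ((a - 1) * h) := by rw [hue, hui, huf]
        _ = -(a * (f * f)) := by ring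
        _ = 0 := by rw [hff]; ring
    calc (a - 1) * (a - 1) = δinv * (e * i - f * h) * ((a - 1) * (a - 1)) := by rw [hδinv, one_mul]
      _ = δinv * ((a - 1) * (a - 1) * (e * i - f * h)) := by ring
      _ = 0 := by rw [h1, mul_zero]
  have h2af : 2 * a * f = 0 := by
    have h1 : (a - 1) * e = a * f + (a - 1) * (a - 1) * h := by
      calc (a - 1) * e = (a - 1) * (a * i + (a - 1) * h) := by rw [huh]; ring
        _ = a * ((a - 1) * i) + (a - 1) * (a - 1) * h := by ring
        _ = a * f + (a - 1) * (a - 1) * h := by rw [hui]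
    rw [huu, zero_mul, add_zero, hue] at h1
    linear_combination -h1
  have hf0 : f = 0 := by
    calc f = (a2 * 2) * (ainv * a) * f := by rw [ha2, hainv]; ring
      _ = a2 * ainv * (2 * a * f) := by ring
      _ = 0 := by rw [h2af, mul_zero]
  have hu0 : a - 1 = 0 := by
    have h1 : (a - 1) * (e * i - f * h) = 0 := by
      calc (a - 1) * (e * i - f * h) = ((a - 1) * e) * i - ((a - 1) * f) * h := by ring
        _ = 0 := by rw [hue, huf, hf0]; ring
    calc a - 1 = δinv * (e * i - f * h) * (a - 1) := by rw [hδinv, one_mul]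
      _ = δinv * ((a - 1) * (e * i - f * h)) := by ring
      _ = 0 := by rw [h1, mul_zero]
  have ha1 : a = 1 := by linear_combination hu0
  have hei : e = i := by
    have := huh
    rw [hu0, zero_mul, ha1, one_mul] at this
    linear_combination -this
  have hiu : IsUnit i := by
    have : IsUnit (i * i) := by
      have h1 : e * i - f * h = i * i := by rw [hf0, hei]; ring
      rw [← h1]; exact hδ
    exact isUnit_of_mul_isUnit_left this
  refine ⟨b, c, h, i, hiu, ?_, ?_, ?_⟩
  · rw [hx, ha1, one_smul]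
  · rw [hy, hf0, hei, zero_smul, add_zero]
  · exact hz

end Groth.Agent.S13101
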