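import Groth.Statements.S13102
import Mathlib

set_option autoImplicit false
universe u v w
open GrpSch

namespace Groth.Agent.S13102

/-- Let K be a field, α ∈ K, A a commutative K-algebra and L a Lie algebra over A which is free as an
A-module with basis x = bs 0, y = bs 1, z = bs 2 and brackets [x,y] = y, [x,z] = α z, [y,z] = 0. If
α² ≠ 1 then every Lie algebra automorphism φ of L over A satisfies φ(x) = x + b y + c z, φ(y) = e y,
φ(z) = i z for some b, c ∈ A and units e, i of A. If α = 1 then every such φ satisfies φ(x) = x + b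
y + c z, φ(y) = e y + f z, φ(z) = h y + i z with e i − f h a unit of A. (The printed statement
identifies the automorphism group schemes with the corresponding semidirect products, treats also α
= −1 in characteristic not 2, and computes first cohomology over a field of Laurent series; those
clauses are not restated here.) -/
theorem result (K : Type u) [Field K] (α : K) (A : Type v) [CommRing A] [Algebra K A]
    (L : Type w) [LieRing L] [LieAlgebra A L] (bs : Module.Basis (Fin 3) A L)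
    (hxy : ⁅bs 0, bs 1⁆ = bs 1) (hxz : ⁅bs 0, bs 2⁆ = algebraMap K A α • bs 2) (hyz : ⁅bs 1, bs 2⁆ = 0)
    (φ : L ≃ₗ⁅A⁆ L) :
    (α ^ 2 ≠ 1 → ∃ b c e i : A, IsUnit e ∧ IsUnit i ∧ φ (bs 0) = bs 0 + b • bs 1 + c • bs 2 ∧
        φ (bs 1) = e • bs 1 ∧ φ (bs 2) = i • bs 2) ∧
    (α = 1 → ∃ b c e f h i : A, IsUnit (e * i - f * h) ∧ φ (bs 0) = bs 0 + b • bs 1 + c • bs 2 ∧
        φ (bs 1) = e • bs 1 + f • bs 2 ∧ φ (bs 2) = h • bs 1 + i • bs 2) := by
  set α' : A := algebraMap K A α with hα'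
  have hyx : ⁅bs 1, bs 0⁆ = -bs 1 := by rw [← lie_skew, hxy]
  have hzx : ⁅bs 2, bs 0⁆ = -(α' • bs 2) := by rw [← lie_skew, hxz]
  have hzy : ⁅bs 2, bs 1⁆ = 0 := by rw [← lie_skew, hyz, neg_zero]
  have hexp : ∀ v : L, v = bs.repr v 0 • bs 0 + bs.repr v 1 • bs 1 + bs.repr v 2 • bs 2 := by
    intro v
    conv_lhs => rw [← bs.sum_repr v]
    rw [Fin.sum_univ_three]
  have huniq : ∀ a b c a' b' c' : A,
      a • bs 0 + b • bs 1 + c • bs 2 = a' • bs 0 + b' • bs 1 + c' • bs 2 → a = a' ∧ b = b' ∧ c = c' := by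
    intro a b c a' b' c' h
    have := congrArg bs.repr h
    simp only [map_add, map_smul, Module.Basis.repr_self] at this
    refine ⟨?_, ?_, ?_⟩
    · simpa using DFunLike.congr_fun this 0
    · simpa using DFunLike.congr_fun this 1
    · simpa using DFunLike.congr_fun this 2
  have hbr : ∀ a b c a' b' c' : A,
      ⁅a • bs 0 + b • bs 1 + c • bs 2, a' • bs 0 + b' • bs 1 + c' • bs 2⁆ =
        (0 : A) • bs 0 + (a * b' - b * a') • bs 1 + (α' * (a * c' - c * a')) • bs 2 := by
    intro a b c a' b' c'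
    simp only [add_lie, lie_add, smul_lie, lie_smul, lie_self, hxy, hxz, hyz, hyx, hzx, hzy]
    module
  -- shape of any Lie endomorphism
  have shape : ∀ χ : L →ₗ⁅A⁆ L,
      bs.repr (χ (bs 1)) 0 = 0 ∧ α' * bs.repr (χ (bs 2)) 0 = 0 ∧
      bs.repr (χ (bs 1)) 1 = bs.repr (χ (bs 0)) 0 * bs.repr (χ (bs 1)) 1 ∧
      bs.repr (χ (bs 1)) 2 = α' * (bs.repr (χ (bs 0)) 0 * bs.repr (χ (bs 1)) 2) ∧
      α' * bs.repr (χ (bs 2)) 1 = bs.repr (χ (bs 0)) 0 * bs.repr (χ (bs 2)) 1 -
        bs.repr (χ (bs 0)) 1 * bs.repr (χ (bs 2)) 0 ∧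
      α' * bs.repr (χ (bs 2)) 2 = α' * (bs.repr (χ (bs 0)) 0 * bs.repr (χ (bs 2)) 2 -
        bs.repr (χ (bs 0)) 2 * bs.repr (χ (bs 2)) 0) ∧
      bs.repr (χ (bs 1)) 1 * bs.repr (χ (bs 2)) 0 = 0 := by
    intro χ
    have e1 : χ (bs 1) = ⁅χ (bs 0), χ (bs 1)⁆ := by rw [← LieHom.map_lie, hxy]
    have e2 : α' • χ (bs 2) = ⁅χ (bs 0), χ (bs 2)⁆ := by rw [← LieHom.map_lie, hxz, map_smul]
    have e3 : (0 : L) = ⁅χ (bs 1), χ (bs 2)⁆ := by rw [← LieHom.map_lie, hyz, map_zero]
    set a := bs.repr (χ (bs 0)) 0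
    set b := bs.repr (χ (bs 0)) 1
    set c := bs.repr (χ (bs 0)) 2
    set d := bs.repr (χ (bs 1)) 0
    set e := bs.repr (χ (bs 1)) 1
    set f := bs.repr (χ (bs 1)) 2
    set g := bs.repr (χ (bs 2)) 0
    set h := bs.repr (χ (bs 2)) 1
    set i := bs.repr (χ (bs 2)) 2
    have hx : χ (bs 0) = a • bs 0 + b • bs 1 + c • bs 2 := hexp _
    have hy : χ (bs 1) = d • bs 0 + e • bs 1 + f • bs 2 := hexp _
    have hz : χ (bs 2) = g • bs 0 + h • bs 1 + i • bs 2 := hexp _
    rw [hx, hy, hbr] at e1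
    obtain ⟨hd, he, hf⟩ := huniq _ _ _ _ _ _ e1
    have e2' : (α' * g) • bs 0 + (α' * h) • bs 1 + (α' * i) • bs 2 =
        ⁅a • bs 0 + b • bs 1 + c • bs 2, g • bs 0 + h • bs 1 + i • bs 2⁆ := by
      rw [← hx, ← hz, ← e2, hz]; module
    rw [hbr] at e2'
    obtain ⟨hg, hh, hi⟩ := huniq _ _ _ _ _ _ e2'
    have e3' : (0 : A) • bs 0 + (0 : A) • bs 1 + (0 : A) • bs 2 =
        ⁅d • bs 0 + e • bs 1 + f • bs 2, g • bs 0 + h • bs 1 + i • bs 2⁆ := by
      rw [← hy, ← hz, ← e3]; module
    rw [hbr] at e3'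
    obtain ⟨-, h3, -⟩ := huniq _ _ _ _ _ _ e3'
    refine ⟨hd, hg, ?_, ?_, hh, hi, ?_⟩
    · linear_combination he - b * hd
    · linear_combination hf - α' * c * hd
    · linear_combination h3 + h * hd
  obtain ⟨hd, hg, he, hf, hh, hi, heg⟩ := shape φ.toLieHom
  obtain ⟨hd', hg', he', hf', hh', hi', heg'⟩ := shape φ.symm.toLieHom
  -- names
  set a := bs.repr (φ (bs 0)) 0 with ha
  set b := bs.repr (φ (bs 0)) 1
  set c := bs.repr (φ (bs 0)) 2
  set e := bs.repr (φ (bs 1)) 1
  set f := bs.repr (φ (bs 1)) 2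
  set g := bs.repr (φ (bs 2)) 0
  set h := bs.repr (φ (bs 2)) 1
  set i := bs.repr (φ (bs 2)) 2
  set a' := bs.repr (φ.symm (bs 0)) 0
  set b' := bs.repr (φ.symm (bs 0)) 1
  set c' := bs.repr (φ.symm (bs 0)) 2
  set e' := bs.repr (φ.symm (bs 1)) 1
  set f' := bs.repr (φ.symm (bs 1)) 2
  set g' := bs.repr (φ.symm (bs 2)) 0
  set h' := bs.repr (φ.symm (bs 2)) 1
  set i' := bs.repr (φ.symm (bs 2)) 2
  change α' * g = 0 at hg
  change e = a * e at he
  change f = α' * (a * f) at hf
  change α' * h = a * h - b * g at hh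
  change α' * i = α' * (a * i - c * g) at hi
  change e * g = 0 at heg
  change α' * g' = 0 at hg'
  change f' = α' * (a' * f') at hf'
  change e' * g' = 0 at heg'
  have hx : φ (bs 0) = a • bs 0 + b • bs 1 + c • bs 2 := hexp _
  have hy : φ (bs 1) = e • bs 1 + f • bs 2 := by
    have := hexp (φ (bs 1))
    change bs.repr (φ (bs 1)) 0 = 0 at hd
    rw [hd, zero_smul, zero_add] at this
    exact this
  have hz : φ (bs 2) = g • bs 0 + h • bs 1 + i • bs 2 := hexp _
  have hy' : φ.symm (bs 1) = e' • bs 1 + f' • bs 2 := by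
    have := hexp (φ.symm (bs 1))
    change bs.repr (φ.symm (bs 1)) 0 = 0 at hd'
    rw [hd', zero_smul, zero_add] at this
    exact this
  have hz' : φ.symm (bs 2) = g' • bs 0 + h' • bs 1 + i' • bs 2 := hexp _
  -- ψ (φ y) = y and φ (ψ y) = y
  have c1 : φ.symm (φ (bs 1)) = bs 1 := φ.symm_apply_apply _
  have c1' : φ (φ.symm (bs 1)) = bs 1 := φ.apply_symm_apply _
  rw [hy, map_add, map_smul, map_smul, hy', hz'] at c1
  rw [hy', map_add, map_smul, map_smul, hy, hz] at c1'
  have k1 : (f * g') • bs 0 + (e * e' + f * h') • bs 1 + (e * f' + f * i') • bs 2 =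
      (0 : A) • bs 0 + (1 : A) • bs 1 + (0 : A) • bs 2 := by
    have e0 : (f * g') • bs 0 + (e * e' + f * h') • bs 1 + (e * f' + f * i') • bs 2 =
        e • (e' • bs 1 + f' • bs 2) + f • (g' • bs 0 + h' • bs 1 + i' • bs 2) := by
      module
    rw [e0, c1]; simp
  have k1' : (f' * g) • bs 0 + (e' * e + f' * h) • bs 1 + (e' * f + f' * i) • bs 2 =
      (0 : A) • bs 0 + (1 : A) • bs 1 + (0 : A) • bs 2 := by
    have e0 : (f' * g) • bs 0 + (e' * e + f' * h) • bs 1 + (e' * f + f' * i) • bs 2 =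
        e' • (e • bs 1 + f • bs 2) + f' • (g • bs 0 + h • bs 1 + i • bs 2) := by
      module
    rw [e0, c1']; simp
  obtain ⟨-, h11, h12⟩ := huniq _ _ _ _ _ _ k1
  obtain ⟨-, h11', -⟩ := huniq _ _ _ _ _ _ k1'
  have hg0 : g = 0 := by
    calc g = g * (e * e' + f * h') := by rw [h11, mul_one]
      _ = (e * g) * e' + (α' * (a * f)) * g * h' := by rw [← hf]; ring
      _ = (e * g) * e' + a * f * h' * (α' * g) := by ring
      _ = 0 := by rw [heg, hg]; ring
  have hg0' : g' = 0 := by
    calc g' = g' * (e' * e + f' * h) := by rw [h11', mul_one]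
      _ = (e' * g') * e + (α' * (a' * f')) * g' * h := by rw [← hf']; ring
      _ = (e' * g') * e + a' * f' * h * (α' * g') := by ring
      _ = 0 := by rw [heg', hg']; ring
  have hz2 : φ (bs 2) = h • bs 1 + i • bs 2 := by rw [hz, hg0, zero_smul, zero_add]
  have hz2' : φ.symm (bs 2) = h' • bs 1 + i' • bs 2 := by rw [hz', hg0', zero_smul, zero_add]
  have c2 : φ.symm (φ (bs 2)) = bs 2 := φ.symm_apply_apply _
  rw [hz2, map_add, map_smul, map_smul, hy', hz2'] at c2
  have k2 : (0 : A) • bs 0 + (h * e' + i * h') • bs 1 + (h * f' + i * i') • bs 2 =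
      (0 : A) • bs 0 + (0 : A) • bs 1 + (1 : A) • bs 2 := by
    have e0 : (0 : A) • bs 0 + (h * e' + i * h') • bs 1 + (h * f' + i * i') • bs 2 =
        h • (e' • bs 1 + f' • bs 2) + i • (h' • bs 1 + i' • bs 2) := by
      module
    rw [e0, c2]; simp
  obtain ⟨-, h21, h22⟩ := huniq _ _ _ _ _ _ k2
  have hδ : IsUnit (e * i - f * h) := by
    refine IsUnit.of_mul_eq_one (e' * i' - f' * h') ?_
    linear_combination (h * f' + i * i') * h11 + h22 - (h * e' + i * h') * h12
  obtain ⟨δinv, hδinv⟩ := hδ.exists_left_inv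
  rw [hg0, mul_zero, sub_zero] at hh hi
  constructor
  · intro hα
    -- (α - 1) and (α + 1) are units
    have hu1 : IsUnit (α' - 1) := by
      have : IsUnit (α - 1) := IsUnit.mk0 _ (fun h0 => hα (by rw [sub_eq_zero.mp h0]; ring))
      have := this.map (algebraMap K A)
      simpa [hα'] using this
    have hu2 : IsUnit (α' + 1) := by
      have : IsUnit (α + 1) := IsUnit.mk0 _ (fun h0 => hα (by
        have : α = -1 := by linear_combination h0
        rw [this]; ring))
      have := this.map (algebraMap K A)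
      simpa [hα'] using this
    obtain ⟨v1, hv1⟩ := hu1.exists_left_inv
    obtain ⟨v2, hv2⟩ := hu2.exists_left_inv
    -- u = a - 1
    have hue : (a - 1) * e = 0 := by linear_combination -he
    have huf : α' * ((a - 1) * f) = (1 - α') * f := by linear_combination -hf
    have huh : (a - 1) * h = (α' - 1) * h := by linear_combination -hh
    have hfh : f * h = 0 := by
      have h1 : (α' - 1) * (α' + 1) * (f * h) = 0 := by
        have e1 : α' * ((a - 1) * f) * h = (1 - α') * f * h := by rw [huf]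
        have e2 : f * ((a - 1) * h) = f * ((α' - 1) * h) := by rw [huh]
        linear_combination e1 - α' * e2
      calc f * h = (v1 * (α' - 1)) * (v2 * (α' + 1)) * (f * h) := by rw [hv1, hv2]; ring
        _ = v1 * v2 * ((α' - 1) * (α' + 1) * (f * h)) := by ring
        _ = 0 := by rw [h1, mul_zero]
    have hu0 : a - 1 = 0 := by
      have h1 : (a - 1) * (e * i - f * h) = 0 := by
        calc (a - 1) * (e * i - f * h) = ((a - 1) * e) * i - (a - 1) * (f * h) := by ring
          _ = 0 := by rw [hue, hfh]; ring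
      calc a - 1 = δinv * (e * i - f * h) * (a - 1) := by rw [hδinv, one_mul]
        _ = δinv * ((a - 1) * (e * i - f * h)) := by ring
        _ = 0 := by rw [h1, mul_zero]
    have ha1 : a = 1 := by linear_combination hu0
    have hf0 : f = 0 := by
      have h1 : (α' - 1) * f = 0 := by
        rw [hu0, zero_mul, mul_zero] at huf
        linear_combination huf
      calc f = v1 * (α' - 1) * f := by rw [hv1, one_mul]
        _ = v1 * ((α' - 1) * f) := by ring
        _ = 0 := by rw [h1, mul_zero]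
    have hh0 : h = 0 := by
      have h1 : (α' - 1) * h = 0 := by
        rw [hu0, zero_mul] at huh
        exact huh.symm
      calc h = v1 * (α' - 1) * h := by rw [hv1, one_mul]
        _ = v1 * ((α' - 1) * h) := by ring
        _ = 0 := by rw [h1, mul_zero]
    have hei : IsUnit (e * i) := by
      have : e * i - f * h = e * i := by rw [hf0]; ring
      rw [← this]; exact hδ
    refine ⟨b, c, e, i, isUnit_of_mul_isUnit_left hei, isUnit_of_mul_isUnit_right hei, ?_, ?_, ?_⟩
    · rw [hx, ha1, one_smul]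
    · rw [hy, hf0, zero_smul, add_zero]
    · rw [hz2, hh0, zero_smul, zero_add]
  · intro hα
    have hα1 : α' = 1 := by rw [hα', hα, map_one]
    rw [hα1, one_mul] at hf hh hi
    rw [one_mul] at hi
    have hu0 : a - 1 = 0 := by
      have h1 : (a - 1) * (e * i - f * h) = 0 := by
        have e1 : (a - 1) * e = 0 := by linear_combination -he
        have e2 : (a - 1) * f = 0 := by linear_combination -hf
        calc (a - 1) * (e * i - f * h) = ((a - 1) * e) * i - ((a - 1) * f) * h := by ring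
          _ = 0 := by rw [e1, e2]; ring
      calc a - 1 = δinv * (e * i - f * h) * (a - 1) := by rw [hδinv, one_mul]
        _ = δinv * ((a - 1) * (e * i - f * h)) := by ring
        _ = 0 := by rw [h1, mul_zero]
    have ha1 : a = 1 := by linear_combination hu0
    refine ⟨b, c, e, f, h, i, hδ, ?_, hy, hz2⟩
    rw [hx, ha1, one_smul]

end Groth.Agent.S13102
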