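import Groth.Statements.S13104
import Mathlib.AlgebraicGeometry.Morphisms.ClosedImmersion
import Mathlib.AlgebraicGeometry.Morphisms.Flat
import Mathlib.RingTheory.Spectrum.Prime.Homeomorph
-- import your own Groth.Agent.* helpers here

set_option autoImplicit false
universe u
open GrpSch

namespace Groth.Agent.S13104
section Helpers
open CategoryTheory AlgebraicGeometry

theorem epi_SpecMap {R S : CommRingCat.{u}} (φ : R ⟶ S) (hinj : Function.Injective φ.hom)
    (hhomeo : IsHomeomorph (PrimeSpectrum.comap φ.hom)) : Epi (Spec.map φ) := by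
  have hsurj : Function.Surjective (Spec.map φ).base := hhomeo.surjective
  have hinj1 : Function.Injective (Spec.map φ).base := hhomeo.injective
  have hopen : IsOpenMap (Spec.map φ).base := hhomeo.isOpenMap
  have hinj2 : Function.Injective (Spec.map φ).appTop := by
    have e : (Spec.map φ).appTop = (Scheme.ΓSpecIso R).hom ≫ φ ≫ (Scheme.ΓSpecIso S).inv := by
      rw [← Scheme.ΓSpecIso_naturality_assoc, Iso.hom_inv_id, Category.comp_id]
    rw [e]
    have h1 : Function.Injective (Scheme.ΓSpecIso R).hom :=
      (ConcreteCategory.bijective_of_isIso (Scheme.ΓSpecIso R).hom).1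
    have h3 : Function.Injective (Scheme.ΓSpecIso S).inv :=
      (ConcreteCategory.bijective_of_isIso (Scheme.ΓSpecIso S).inv).1
    simp only [CommRingCat.hom_comp, RingHom.coe_comp]
    exact h3.comp (hinj.comp h1)
  apply CategoryTheory.Functor.epi_of_epi_map (Scheme.forgetToLocallyRingedSpace)
  apply CategoryTheory.Functor.epi_of_epi_map (LocallyRingedSpace.forgetToSheafedSpace)
  apply SheafedSpace.epi_of_base_surjective_of_stalk_mono _ hsurj
  intro x
  apply ConcreteCategory.mono_of_injective
  exact stalkMap_injective_of_isOpenMap_of_injective (f := Spec.map φ) hopen hinj1 hinj2 x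


open TrivSqZeroExt in
theorem homeo_fst (R : Type u) [CommRing R] :
    IsHomeomorph (PrimeSpectrum.comap ((fstHom R R R : DualNumber R →ₐ[R] R) : DualNumber R →+* R)) := by
  apply PrimeSpectrum.isHomeomorph_comap
  · intro x
    exact ⟨1, Nat.one_pos, ⟨inl x, by simp⟩⟩
  · intro x hx
    rw [RingHom.mem_ker] at hx
    have hx' : x.fst = 0 := hx
    refine mem_nilradical.mpr ⟨2, ?_⟩
    ext <;> simp [pow_two, hx']

open TrivSqZeroExt in
theorem psi_formula (B : Type u) [CommRing B]
    (ψ : DualNumber B →+* DualNumber (DualNumber B))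
    (hψB : ∀ b : B, ψ (algebraMap B (DualNumber B) b) = algebraMap B (DualNumber (DualNumber B)) b)
    (hψ : ψ DualNumber.eps = algebraMap (DualNumber B) (DualNumber (DualNumber B)) DualNumber.eps * DualNumber.eps)
    (x : DualNumber B) : ψ x = inl (inl x.fst) + inr (inr x.snd) := by
  have a1 : ∀ b : B, algebraMap B (DualNumber B) b = inl b := fun b => rfl
  have a2 : ∀ b : B, algebraMap B (DualNumber (DualNumber B)) b = inl (inl b) := fun b => rfl
  have a3 : ∀ d : DualNumber B, algebraMap (DualNumber B) (DualNumber (DualNumber B)) d = inl d :=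
    fun d => rfl
  have hx : x = algebraMap B (DualNumber B) x.fst + algebraMap B (DualNumber B) x.snd * DualNumber.eps := by
    rw [a1, a1]
    ext <;> simp
  conv_lhs => rw [hx]
  rw [map_add, map_mul, hψB, hψB, hψ, a2, a2, a3]
  ext <;> simp


end Helpers


open CategoryTheory AlgebraicGeometry in
/-- Let B be a commutative ring, B[ε] the ring of dual numbers (ε² = 0) and B[α, β]/(α², β²) the double
dual numbers, realised as dual numbers over the dual numbers with α the inner and β the outer
generator, and let ψ : B[ε] → B[α, β]/(α², β²) be the B-algebra homomorphism with ψ(ε) = αβ. Then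
for every scheme G the map u ↦ Spec(ψ) ≫ u from morphisms Spec B[ε] → G to morphisms Spec
B[α,β]/(α²,β²) → G is injective. (The printed statement is its consequence for a group scheme G: the
map Lie(G)(B) → G(B[α,β]/(α²,β²)), x ↦ exp(αβ x), is injective; the injectivity on all B[ε]-points
stated here is what the printed argument establishes.) -/
theorem result (B : Type u) [CommRing B]
    (ψ : DualNumber B →+* DualNumber (DualNumber B))
    (hψB : ∀ b : B, ψ (algebraMap B (DualNumber B) b) = algebraMap B (DualNumber (DualNumber B)) b)
    (hψ : ψ DualNumber.eps = algebraMap (DualNumber B) (DualNumber (DualNumber B)) DualNumber.eps * DualNumber.eps)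
    (G : Scheme.{u}) :
    Function.Injective (fun u : Spec (CommRingCat.of (DualNumber B)) ⟶ G =>
      Spec.map (CommRingCat.ofHom (R := DualNumber B) (S := DualNumber (DualNumber B)) ψ) ≫ u) := by
  open TrivSqZeroExt in
  have hf := psi_formula B ψ hψB hψ
  have hinj : Function.Injective ψ := by
    intro x y hxy
    rw [hf, hf] at hxy
    have h1 := congrArg (fun z => (fst z).fst) hxy
    have h2 := congrArg (fun z => (snd z).snd) hxy
    simp at h1 h2
    exact TrivSqZeroExt.ext h1 h2
  let q : DualNumber B →+* B := ((fstHom B B B : DualNumber B →ₐ[B] B) : DualNumber B →+* B)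
  let q2 : DualNumber (DualNumber B) →+* DualNumber B :=
    ((fstHom (DualNumber B) (DualNumber B) (DualNumber B) :
      DualNumber (DualNumber B) →ₐ[DualNumber B] DualNumber B) : DualNumber (DualNumber B) →+* DualNumber B)
  have hq : IsHomeomorph (PrimeSpectrum.comap q) := homeo_fst B
  have hq2 : IsHomeomorph (PrimeSpectrum.comap (R := DualNumber (DualNumber B)) (S := DualNumber B) q2) :=
    homeo_fst (DualNumber B)
  have hcomp : q.comp (q2.comp ψ) = q := by
    refine RingHom.ext fun x => ?_
    simp only [RingHom.comp_apply]
    rw [hf]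
    simp [q, q2]
  have h1 : IsHomeomorph (PrimeSpectrum.comap (R := DualNumber (DualNumber B)) (S := DualNumber B) q2
      ∘ PrimeSpectrum.comap q) := hq2.comp hq
  have hhomeo : IsHomeomorph (PrimeSpectrum.comap (R := DualNumber B) (S := DualNumber (DualNumber B)) ψ) := by
    have e : PrimeSpectrum.comap (R := DualNumber B) (S := DualNumber (DualNumber B)) ψ =
        (PrimeSpectrum.comap q) ∘ (h1.homeomorph).symm := by
      funext y
      obtain ⟨x, rfl⟩ := (h1.homeomorph).surjective y
      simp only [Function.comp_apply, Homeomorph.symm_apply_apply]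
      simp only [IsHomeomorph.homeomorph_apply, Function.comp_apply]
      rw [← PrimeSpectrum.comap_comp_apply, ← PrimeSpectrum.comap_comp_apply, hcomp]
    rw [e]
    exact hq.comp (h1.homeomorph).symm.isHomeomorph
  have hepi : Epi (Spec.map (CommRingCat.ofHom (R := DualNumber B) (S := DualNumber (DualNumber B)) ψ)) :=
    epi_SpecMap _ hinj hhomeo
  intro u₁ u₂ h
  exact (cancel_epi _).mp h

end Groth.Agent.S13104
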