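import Groth.Statements.S13105
import Groth.Agent.LibPt29
import Groth.Agent.Lib.Helper15.Regular
-- import your own Groth.Agent.* helpers here

set_option autoImplicit false
universe u
open Lie3Mod

namespace Groth.Agent.S13105

open MvPolynomial IsLocalRing Groth.Agent.LibPt29

/-- the point `(0,1,0,0,0,t,0,0,0)` -/
def pt (k : Type u) [Field k] (t : k) : Fin 9 → k := ![0, 1, 0, 0, 0, t, 0, 0, 0]

lemma span_eq_ptIdeal (k : Type u) [Field k] (t : k) :
    Ideal.span ({X 0, X 1 - 1, X 2, X 3, X 4, X 5 - C t, X 6, X 7, X 8} : Set (D k)) =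
      ptIdeal (pt k t) := by
  apply le_antisymm
  · rw [Ideal.span_le]
    intro x hx
    simp only [Set.mem_insert_iff, Set.mem_singleton_iff] at hx
    rw [SetLike.mem_coe, mem_ptIdeal_iff]
    rcases hx with rfl | rfl | rfl | rfl | rfl | rfl | rfl | rfl | rfl <;> simp [pt]
  · unfold ptIdeal
    rw [Ideal.span_le]
    rintro _ ⟨j, rfl⟩
    apply Ideal.subset_span
    fin_cases j <;> simp [pt]

lemma spanFinrank_span_range_le {R : Type*} [CommRing R] {n : ℕ} (w : Fin n → R) :
    (Ideal.span (Set.range w)).spanFinrank ≤ n := by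
  classical
  have h1 : Set.range w = ↑(Finset.univ.image w) := by
    rw [Finset.coe_image, Finset.coe_univ, Set.image_univ]
  rw [h1]
  refine (Submodule.spanFinrank_span_le_ncard_of_finite (Finset.finite_toSet _)).trans ?_
  rw [Set.ncard_coe_finset]
  exact Finset.card_image_le.trans (by simp)

section

variable (k : Type u) [Field k] (t : k)

/-- six of the nine generators -/
noncomputable def tD : Fin 6 → D k := ![X 0, X 1 - 1, X 2, X 4, X 5 - C t, X 7]

/-- the ideal `J + (a, b-1, c, e, f-t, h)` -/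
noncomputable def aD : Ideal (D k) := idJ k ⊔ Ideal.span (Set.range (tD k t))

lemma Q1_mem : Q1 k ∈ aD k t := Ideal.mem_sup_left (Ideal.subset_span (by simp))
lemma Q2_mem : Q2 k ∈ aD k t := Ideal.mem_sup_left (Ideal.subset_span (by simp))
lemma Q3_mem : Q3 k ∈ aD k t := Ideal.mem_sup_left (Ideal.subset_span (by simp))
lemma detM_mem : detM k ∈ aD k t := Ideal.mem_sup_left (Ideal.subset_span (by simp))

lemma X0_mem : (X 0 : D k) ∈ aD k t := Ideal.mem_sup_right (Ideal.subset_span ⟨0, rfl⟩)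
lemma X2_mem : (X 2 : D k) ∈ aD k t := Ideal.mem_sup_right (Ideal.subset_span ⟨2, rfl⟩)
lemma X4_mem : (X 4 : D k) ∈ aD k t := Ideal.mem_sup_right (Ideal.subset_span ⟨3, rfl⟩)
lemma X7_mem : (X 7 : D k) ∈ aD k t := Ideal.mem_sup_right (Ideal.subset_span ⟨5, rfl⟩)

lemma bd_mem : (X 1 * X 3 : D k) ∈ aD k t := by
  have : (X 1 * X 3 : D k) = Q2 k - X 8 * X 4 + X 5 * X 7 + X 0 * X 4 := by
    unfold Q2; ring
  rw [this]
  exact add_mem (add_mem (sub_mem (Q2_mem k t) (Ideal.mul_mem_left _ _ (X4_mem k t)))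
    (Ideal.mul_mem_left _ _ (X7_mem k t))) (Ideal.mul_mem_left _ _ (X4_mem k t))

lemma bi_mem : (X 1 * X 8 : D k) ∈ aD k t := by
  have : (X 1 * X 8 : D k) = X 7 * X 2 + X 3 * X 2 - X 5 * X 0 - Q3 k := by
    unfold Q3; ring
  rw [this]
  exact sub_mem (sub_mem (add_mem (Ideal.mul_mem_left _ _ (X2_mem k t))
    (Ideal.mul_mem_left _ _ (X2_mem k t))) (Ideal.mul_mem_left _ _ (X0_mem k t))) (Q3_mem k t)

lemma mug_mem : ((X 1 * X 5 - X 4 * X 2) * X 6 : D k) ∈ aD k t := by
  have : ((X 1 * X 5 - X 4 * X 2) * X 6 : D k) =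
      detM k + X 7 ^ 2 * X 2 - X 8 ^ 2 * X 4 - X 1 * X 8 * X 7 + X 8 * X 5 * X 7 := by
    unfold detM; ring
  rw [this]
  exact add_mem (sub_mem (sub_mem (add_mem (detM_mem k t) (Ideal.mul_mem_left _ _ (X2_mem k t)))
    (Ideal.mul_mem_left _ _ (X4_mem k t))) (Ideal.mul_mem_left _ _ (X7_mem k t)))
    (Ideal.mul_mem_left _ _ (X7_mem k t))

lemma lg_mem : (X 1 ^ 2 * (X 5 + X 1) * X 6 : D k) ∈ aD k t := by
  have : (X 1 ^ 2 * (X 5 + X 1) * X 6 : D k) =
      X 1 ^ 2 * X 7 * X 0 + (X 1 * X 3) * (X 1 * X 8) - X 1 ^ 2 * Q1 k := by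
    unfold Q1; ring
  rw [this]
  exact sub_mem (add_mem (Ideal.mul_mem_left _ _ (X0_mem k t))
    (Ideal.mul_mem_left _ _ (bi_mem k t))) (Ideal.mul_mem_left _ _ (Q1_mem k t))

lemma ident : (X 1 * X 5 - X 4 * X 2) * Q1 k =
    (X 7 * X 2 + X 8 * X 5) * Q2 k - (X 7 * X 1 + X 8 * X 4) * Q3 k - (X 1 + X 5) * detM k := by
  unfold Q1 Q2 Q3 detM; ring

end

section

variable (k : Type u) [Field k] (t : k)

lemma idJ_le : idJ k ≤ ptIdeal (pt k t) := by
  unfold idJ
  rw [Ideal.span_le]
  intro x hx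
  simp only [Set.mem_insert_iff, Set.mem_singleton_iff] at hx
  rw [SetLike.mem_coe, mem_ptIdeal_iff]
  rcases hx with rfl | rfl | rfl | rfl <;> simp [Q1, Q2, Q3, detM, pt]

lemma aD_le : aD k t ≤ ptIdeal (pt k t) := by
  unfold aD
  refine sup_le (idJ_le k t) ?_
  rw [Ideal.span_le]
  rintro _ ⟨j, rfl⟩
  rw [SetLike.mem_coe, mem_ptIdeal_iff]
  fin_cases j <;> simp [tD, pt]

/-- the local ring of affine space at the point -/
abbrev Rl : Type u := Localization.AtPrime (ptIdeal (pt k t))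

lemma mem_map_of_mul_mem {s x : D k} (hs : eval (pt k t) s ≠ 0) {I : Ideal (D k)}
    (h : s * x ∈ I) : algebraMap (D k) (Rl k t) x ∈ I.map (algebraMap (D k) (Rl k t)) := by
  have hs' : s ∈ (ptIdeal (pt k t)).primeCompl := by
    intro hmem
    exact hs ((mem_ptIdeal_iff _ _).1 hmem)
  obtain ⟨u, hu⟩ := IsLocalization.map_units (Rl k t) (⟨s, hs'⟩ : (ptIdeal (pt k t)).primeCompl)
  have : algebraMap (D k) (Rl k t) x = ↑u⁻¹ * algebraMap (D k) (Rl k t) (s * x) := by
    rw [map_mul, ← hu, ← mul_assoc, Units.inv_mul, one_mul]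
  rw [this]
  exact Ideal.mul_mem_left _ _ (Ideal.mem_map_of_mem _ h)

lemma map_pt_le : (ptIdeal (pt k t)).map (algebraMap (D k) (Rl k t)) ≤
    (aD k t).map (algebraMap (D k) (Rl k t)) := by
  have h : (ptIdeal (pt k t)).map (algebraMap (D k) (Rl k t)) =
      (Ideal.span ({X 0, X 1 - 1, X 2, X 3, X 4, X 5 - C t, X 6, X 7, X 8} : Set (D k))).map
        (algebraMap (D k) (Rl k t)) := by
    rw [span_eq_ptIdeal]
  rw [h, Ideal.map_span, Ideal.span_le]
  rintro _ ⟨x, hx, rfl⟩
  simp only [Set.mem_insert_iff, Set.mem_singleton_iff] at hx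
  rcases hx with rfl | rfl | rfl | rfl | rfl | rfl | rfl | rfl | rfl
  · exact Ideal.mem_map_of_mem _ (X0_mem k t)
  · exact Ideal.mem_map_of_mem _ (Ideal.mem_sup_right (Ideal.subset_span ⟨1, rfl⟩))
  · exact Ideal.mem_map_of_mem _ (X2_mem k t)
  · exact mem_map_of_mul_mem k t (s := X 1) (by simp [pt]) (bd_mem k t)
  · exact Ideal.mem_map_of_mem _ (X4_mem k t)
  · exact Ideal.mem_map_of_mem _ (Ideal.mem_sup_right (Ideal.subset_span ⟨4, rfl⟩))
  · by_cases ht : t = 0
    · exact mem_map_of_mul_mem k t (s := X 1 ^ 2 * (X 5 + X 1)) (by simp [pt, ht]) (lg_mem k t)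
    · exact mem_map_of_mul_mem k t (s := X 1 * X 5 - X 4 * X 2) (by simpa [pt] using ht)
        (mug_mem k t)
  · exact Ideal.mem_map_of_mem _ (X7_mem k t)
  · exact mem_map_of_mul_mem k t (s := X 1) (by simp [pt]) (bi_mem k t)

lemma exists_three : ∃ v : Fin 3 → D k, (idJ k).map (algebraMap (D k) (Rl k t)) =
    Ideal.span (Set.range (algebraMap (D k) (Rl k t) ∘ v)) := by
  have hQ1 : Q1 k ∈ idJ k := Ideal.subset_span (by simp)
  have hQ2 : Q2 k ∈ idJ k := Ideal.subset_span (by simp)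
  have hQ3 : Q3 k ∈ idJ k := Ideal.subset_span (by simp)
  have hdet : detM k ∈ idJ k := Ideal.subset_span (by simp)
  by_cases ht : t = 0
  · refine ⟨![Q1 k, Q2 k, Q3 k], ?_⟩
    rw [Set.range_comp, ← Ideal.map_span]
    apply le_antisymm
    · unfold idJ
      rw [Ideal.map_span, Ideal.span_le]
      rintro _ ⟨q, hq, rfl⟩
      simp only [Set.mem_insert_iff, Set.mem_singleton_iff] at hq
      rcases hq with rfl | rfl | rfl | rfl
      · exact Ideal.mem_map_of_mem _ (Ideal.subset_span ⟨0, rfl⟩)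
      · exact Ideal.mem_map_of_mem _ (Ideal.subset_span ⟨1, rfl⟩)
      · exact Ideal.mem_map_of_mem _ (Ideal.subset_span ⟨2, rfl⟩)
      · apply mem_map_of_mul_mem k t (s := X 1 + X 5) (by simp [pt, ht])
        have : (X 1 + X 5) * detM k = (X 7 * X 2 + X 8 * X 5) * Q2 k -
            (X 7 * X 1 + X 8 * X 4) * Q3 k - (X 1 * X 5 - X 4 * X 2) * Q1 k := by
          linear_combination ident k
        rw [this]
        exact sub_mem (sub_mem (Ideal.mul_mem_left _ _ (Ideal.subset_span ⟨1, rfl⟩))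
          (Ideal.mul_mem_left _ _ (Ideal.subset_span ⟨2, rfl⟩)))
          (Ideal.mul_mem_left _ _ (Ideal.subset_span ⟨0, rfl⟩))
    · apply Ideal.map_mono
      rw [Ideal.span_le]
      rintro _ ⟨j, rfl⟩
      fin_cases j
      · exact hQ1
      · exact hQ2
      · exact hQ3
  · refine ⟨![Q2 k, Q3 k, detM k], ?_⟩
    rw [Set.range_comp, ← Ideal.map_span]
    apply le_antisymm
    · unfold idJ
      rw [Ideal.map_span, Ideal.span_le]
      rintro _ ⟨q, hq, rfl⟩
      simp only [Set.mem_insert_iff, Set.mem_singleton_iff] at hq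
      rcases hq with rfl | rfl | rfl | rfl
      · apply mem_map_of_mul_mem k t (s := X 1 * X 5 - X 4 * X 2) (by simpa [pt] using ht)
        rw [ident]
        exact sub_mem (sub_mem (Ideal.mul_mem_left _ _ (Ideal.subset_span ⟨0, rfl⟩))
          (Ideal.mul_mem_left _ _ (Ideal.subset_span ⟨1, rfl⟩)))
          (Ideal.mul_mem_left _ _ (Ideal.subset_span ⟨2, rfl⟩))
      · exact Ideal.mem_map_of_mem _ (Ideal.subset_span ⟨0, rfl⟩)
      · exact Ideal.mem_map_of_mem _ (Ideal.subset_span ⟨1, rfl⟩)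
      · exact Ideal.mem_map_of_mem _ (Ideal.subset_span ⟨2, rfl⟩)
    · apply Ideal.map_mono
      rw [Ideal.span_le]
      rintro _ ⟨j, rfl⟩
      fin_cases j
      · exact hQ2
      · exact hQ3
      · exact hdet

end

section

variable (k : Type u) [Field k] (t : k)

theorem quot_regular :
    ∃ _ : IsRegularLocalRing (Rl k t ⧸ (idJ k).map (algebraMap (D k) (Rl k t))),
      ringKrullDim (Rl k t ⧸ (idJ k).map (algebraMap (D k) (Rl k t))) = 6 := by
  classical
  set ι := algebraMap (D k) (Rl k t) with hι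
  have : IsRegularLocalRing (Rl k t) := inferInstance
  have h9 : (maximalIdeal (Rl k t)).spanFinrank = 9 := by
    have h1 := IsRegularLocalRing.spanFinrank_maximalIdeal (R := Rl k t)
    rw [IsLocalization.AtPrime.ringKrullDim_eq_height (ptIdeal (pt k t)) (Rl k t),
      height_ptIdeal] at h1
    exact_mod_cast h1
  obtain ⟨v, hv⟩ := exists_three k t
  have hJ3 : ((idJ k).map ι).spanFinrank ≤ 3 := by
    rw [hv]
    exact spanFinrank_span_range_le _
  set T : Finset (Rl k t) := Finset.univ.image (ι ∘ tD k t) with hT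
  have hTc : T.card ≤ 6 := Finset.card_image_le.trans (by simp)
  have hm : maximalIdeal (Rl k t) = (idJ k).map ι ⊔ Ideal.span (T : Set (Rl k t)) := by
    rw [← Localization.AtPrime.map_eq_maximalIdeal]
    have h1 : (idJ k).map ι ⊔ Ideal.span (T : Set (Rl k t)) = (aD k t).map ι := by
      unfold aD
      rw [Ideal.map_sup, Ideal.map_span, hT, Finset.coe_image, Finset.coe_univ, Set.image_univ,
        Set.range_comp]
    rw [h1]
    exact le_antisymm (map_pt_le k t) (Ideal.map_mono (aD_le k t))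
  obtain ⟨hreg, h2, h3⟩ :=
    Groth.Agent.Lib.helper15.isRegularLocalRing_quotient_of_span _ T hm (by omega)
  refine ⟨hreg, ?_⟩
  have h6 : T.card = 6 := by omega
  have := hreg.spanFinrank_maximalIdeal
  rw [← this, h2, h6]
  rfl

end

open MvPolynomial in

open MvPolynomial in
/-- Let k be a field, t ∈ k, D = k[a,b,c,d,e,f,g,h,i] and J = (Q1, Q2, Q3, det M) with Q1 = ah + di − fg
− bg, Q2 = ie + bd − fh − ae, Q3 = hc + dc − af − bi, det M = −ch² + gbf + ei² − gec + hbi − ihf.
The maximal ideal (a, b − 1, c, d, e, f − t, g, h, i) of D contains J (it is the point given by the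
Lie algebra with [x,y] = y, [x,z] = t z, [y,z] = 0), and the localization of D/J at the
corresponding prime is a regular local ring of Krull dimension 6: the scheme Spec(D/J) has a smooth
k-rational point. -/
theorem result (k : Type u) [Field k] (t : k)
    (P : Ideal (Lie3Mod.D k ⧸ Lie3Mod.idJ k)) [P.IsPrime]
    (hP : P = Ideal.map (Ideal.Quotient.mk (Lie3Mod.idJ k))
      (Ideal.span ({X 0, X 1 - 1, X 2, X 3, X 4, X 5 - C t, X 6, X 7, X 8} : Set (Lie3Mod.D k)))) :
    IsRegularLocalRing (Localization.AtPrime P) ∧ ringKrullDim (Localization.AtPrime P) = 6 := by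
  rw [span_eq_ptIdeal] at hP
  have hsub : Algebra.algebraMapSubmonoid (D k ⧸ idJ k) (ptIdeal (pt k t)).primeCompl =
      P.primeCompl := by
    ext y
    obtain ⟨x, rfl⟩ := Ideal.Quotient.mk_surjective y
    constructor
    · rintro ⟨x', hx', hxx'⟩
      intro hmem
      have hmem' : Ideal.Quotient.mk (idJ k) x ∈ P := hmem
      rw [hP, Ideal.mem_map_iff_of_surjective _ Ideal.Quotient.mk_surjective] at hmem'
      obtain ⟨x'', hx'', hxx''⟩ := hmem'
      apply hx'
      have h1 : x' - x'' ∈ idJ k := by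
        rw [← Ideal.Quotient.eq]
        exact hxx'.trans hxx''.symm
      have h2 := add_mem (idJ_le k t h1) hx''
      simpa using h2
    · intro hy
      refine ⟨x, ?_, rfl⟩
      intro hx
      exact hy (hP ▸ Ideal.mem_map_of_mem _ hx)
  have hloc : IsLocalization.AtPrime (Rl k t ⧸ (idJ k).map (algebraMap (D k) (Rl k t))) P := by
    change IsLocalization P.primeCompl _
    rw [← hsub]
    infer_instance
  obtain ⟨hreg, hdim⟩ := quot_regular k t
  let e := IsLocalization.algEquiv P.primeCompl (Localization.AtPrime P)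
    (Rl k t ⧸ (idJ k).map (algebraMap (D k) (Rl k t)))
  exact ⟨IsRegularLocalRing.of_ringEquiv
      (R := Rl k t ⧸ (idJ k).map (algebraMap (D k) (Rl k t))) e.symm.toRingEquiv,
    (ringKrullDim_eq_of_ringEquiv e.toRingEquiv).trans hdim⟩

end Groth.Agent.S13105
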