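import Groth.Statements.S13106
import Mathlib.AlgebraicGeometry.Morphisms.ClosedImmersion
import Mathlib.AlgebraicGeometry.IdealSheaf.Basic
-- import your own Groth.Agent.* helpers here

set_option autoImplicit false
universe u
open GrpSch

namespace Groth.Agent.S13106
section Helpers
open CategoryTheory AlgebraicGeometry Limits

theorem ker_ι_eq_bot {Y : Scheme.{u}} (U : Y.Opens) (hU : CInt.IsSchematicallyDense U) :
    U.ι.ker = ⊥ := by
  apply Scheme.IdealSheafData.ext
  funext V
  rw [Scheme.IdealSheafData.ideal_bot, Pi.bot_apply, eq_bot_iff]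
  refine (U.ι.ideal_ker_le V).trans ?_
  rw [le_bot_iff, ← RingHom.injective_iff_ker_eq_bot]
  have hle : U.ι ''ᵁ U.ι ⁻¹ᵁ V.1 ≤ V.1 ⊓ U := by
    rw [Scheme.Hom.image_preimage_eq_opensRange_inf, Scheme.Opens.opensRange_ι, inf_comm]
  have : Y.presheaf.map (homOfLE (x := U.ι ''ᵁ U.ι ⁻¹ᵁ V.1) (Set.image_preimage_subset _ _)).op =
      Y.presheaf.map (homOfLE (inf_le_left : V.1 ⊓ U ≤ V.1)).op ≫ Y.presheaf.map (homOfLE hle).op := by
    rw [← Functor.map_comp]; rfl
  have heq : U.ι ''ᵁ U.ι ⁻¹ᵁ V.1 = V.1 ⊓ U := by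
    rw [Scheme.Hom.image_preimage_eq_opensRange_inf, Scheme.Opens.opensRange_ι, inf_comm]
  have hB : Function.Injective (Y.presheaf.map (homOfLE hle).op).hom := by
    have : IsIso (homOfLE hle) := ⟨homOfLE heq.ge, Subsingleton.elim _ _, Subsingleton.elim _ _⟩
    have : IsIso (Y.presheaf.map (homOfLE hle).op) := inferInstance
    exact (ConcreteCategory.bijective_of_isIso (Y.presheaf.map (homOfLE hle).op)).1
  have key : Function.Injective (Y.presheaf.map
      (homOfLE (x := U.ι ''ᵁ U.ι ⁻¹ᵁ V.1) (Set.image_preimage_subset _ _)).op).hom := by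
    rw [this, CommRingCat.hom_comp, RingHom.coe_comp]
    exact hB.comp (hU V.1)
  exact key

end Helpers


open CategoryTheory AlgebraicGeometry in
/-- Let f : X → Y be a morphism of schemes and U ⊆ Y a schematically dense open subscheme (for every
open V of Y, restriction of functions from V to V ∩ U is injective) such that the restriction f⁻¹(U)
→ U of f is an isomorphism. Then two morphisms from Y to a scheme separated over a base T that agree
after composing with f and have the same composite to T are equal: if Z → T is separated and v₁, v₂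
: Y → Z satisfy v₁ ≫ (Z → T) = v₂ ≫ (Z → T) and f ≫ v₁ = f ≫ v₂, then v₁ = v₂. (The published
statement is the case of a morphism between two prolongations over A[[t]] of a finite group scheme
over A((t)), where U is the generic fibre, schematically dense by flatness; uniqueness of
prolongation maps follows.) -/
theorem result {X Y Z T : Scheme.{u}} (f : X ⟶ Y)
    (U : Y.Opens) (hU : CInt.IsSchematicallyDense U) [IsIso (f ∣_ U)]
    (z : Z ⟶ T) [IsSeparated z] (v₁ v₂ : Y ⟶ Z) (hz : v₁ ≫ z = v₂ ≫ z) (h : f ≫ v₁ = f ≫ v₂) :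
    v₁ = v₂ := by
  open CategoryTheory AlgebraicGeometry Limits in
  have hUv : U.ι ≫ v₁ = U.ι ≫ v₂ := by
    have e : U.ι = inv (f ∣_ U) ≫ (f ⁻¹ᵁ U).ι ≫ f := by
      rw [IsIso.eq_inv_comp, morphismRestrict_ι]
    rw [e, Category.assoc, Category.assoc, Category.assoc, Category.assoc, h]
  let Y' : Over T := Over.mk (v₁ ≫ z)
  let Z' : Over T := Over.mk z
  let U' : Over T := Over.mk (U.ι ≫ v₁ ≫ z)
  let f' : Y' ⟶ Z' := Over.homMk v₁
  let g' : Y' ⟶ Z' := Over.homMk v₂ hz.symm
  let ι' : U' ⟶ Y' := Over.homMk U.ι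
  have : IsSeparated Z'.hom := ‹_›
  have hcl : IsClosedImmersion (equalizer.ι f' g').left := inferInstance
  let l : U' ⟶ equalizer f' g' := equalizer.lift ι' (by ext1; exact hUv)
  have hl : l.left ≫ (equalizer.ι f' g').left = U.ι := by
    rw [← Over.comp_left, equalizer.lift_ι]; rfl
  have hker : (equalizer.ι f' g').left.ker = ⊥ := by
    rw [eq_bot_iff, ← ker_ι_eq_bot U hU, ← hl]
    exact Scheme.Hom.le_ker_comp _ _
  have : IsIso (equalizer.ι f' g').left := IsClosedImmersion.isIso_iff_ker_eq_bot.mpr hker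
  rw [← cancel_epi (equalizer.ι f' g').left]
  exact congr($(equalizer.condition f' g').left)

end Groth.Agent.S13106
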