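import Groth.Statements.S13107
import Groth.Agent.Lib.Helper12.Lie3

set_option autoImplicit false
universe u v w
open GrpSch

namespace Groth.Agent.S13107

open Groth.Agent.Lib.Helper12.Lie3

theorem no_sqrt (k : Type u) [Field k] (a : LaurentSeries k) :
    (HahnSeries.single 1 (1 : k) : LaurentSeries k) * (a * a) ≠ 1 := by
  intro h
  have ha : a ≠ 0 := by
    rintro rfl
    simp at h
  have hT : (HahnSeries.single 1 (1 : k) : LaurentSeries k) ≠ 0 := by
    simp
  have h1 := congrArg HahnSeries.order h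
  rw [HahnSeries.order_mul hT (mul_ne_zero ha ha), HahnSeries.order_mul ha ha,
    HahnSeries.order_single one_ne_zero, HahnSeries.order_one] at h1
  omega

section
variable {k : Type u} [Field k]
    {F : Type v} [LieRing F] [LieAlgebra (LaurentSeries k) F]
    (bF : Module.Basis (Fin 3) (LaurentSeries k) F)
    (hF01 : ⁅bF 0, bF 1⁆ = bF 2)
    (hF02 : ⁅bF 0, bF 2⁆ = (HahnSeries.single 1 (1 : k) : LaurentSeries k) • bF 1)
    (hF12 : ⁅bF 1, bF 2⁆ = 0)

include hF01 hF02 hF12 in
/-- coordinates of a bracket in `F` -/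
theorem repr_lie (a c : F) :
    bF.repr ⁅a, c⁆ 0 = 0 ∧
    bF.repr ⁅a, c⁆ 1 = (HahnSeries.single 1 (1 : k) : LaurentSeries k) *
      (bF.repr a 0 * bF.repr c 2 - bF.repr a 2 * bF.repr c 0) ∧
    bF.repr ⁅a, c⁆ 2 = bF.repr a 0 * bF.repr c 1 - bF.repr a 1 * bF.repr c 0 := by
  rw [lie_eq bF a c, hF01, hF02, hF12]
  simp only [map_add, map_smul, smul_zero, add_zero, Module.Basis.repr_self, Finsupp.coe_add,
    Finsupp.coe_smul, Pi.add_apply, Pi.smul_apply, smul_eq_mul]
  simp
  ring

end


/-- Let k be a field, K = k((t)) the field of Laurent series over k, F a Lie algebra over K with a basis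
x' = bF 0, y' = bF 1, z' = bF 2 and brackets [x',y'] = z', [x',z'] = t y', [y',z'] = 0, and L a Lie
algebra over K with a basis x = bL 0, y = bL 1, z = bL 2 and brackets [x,y] = y, [x,z] = −z, [y,z] =
0. Then there is no K-linear isomorphism of Lie algebras between L and F: F is a non-trivial form of
L over K. (The published result is the classification of three-dimensional Lie algebras over k((t))
for k algebraically closed of characteristic not 2, with F its only non-split entry; this row states
the non-isomorphism of F and L over k((t)) for every field k.) -/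
theorem result (k : Type u) [Field k]
    (F : Type v) [LieRing F] [LieAlgebra (LaurentSeries k) F] (bF : Module.Basis (Fin 3) (LaurentSeries k) F)
    (hF01 : ⁅bF 0, bF 1⁆ = bF 2) (hF02 : ⁅bF 0, bF 2⁆ = (HahnSeries.single 1 (1 : k) : LaurentSeries k) • bF 1)
    (hF12 : ⁅bF 1, bF 2⁆ = 0)
    (L : Type w) [LieRing L] [LieAlgebra (LaurentSeries k) L] (bL : Module.Basis (Fin 3) (LaurentSeries k) L)
    (hL01 : ⁅bL 0, bL 1⁆ = bL 1) (hL02 : ⁅bL 0, bL 2⁆ = -bL 2) (hL12 : ⁅bL 1, bL 2⁆ = 0) :
    IsEmpty (L ≃ₗ⁅LaurentSeries k⁆ F) := by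
  refine ⟨fun φ => ?_⟩
  have e1 : φ (bL 1) = ⁅φ (bL 0), φ (bL 1)⁆ := by rw [← LieEquiv.map_lie, hL01]
  obtain ⟨r0, r1, r2⟩ := repr_lie bF hF01 hF02 hF12 (φ (bL 0)) (φ (bL 1))
  rw [← e1] at r0 r1 r2
  rw [r0] at r1 r2
  simp only [mul_zero, sub_zero] at r1 r2
  have hne : φ (bL 1) ≠ 0 := by
    intro h0
    have := φ.injective (h0.trans (map_zero φ).symm)
    exact bL.ne_zero 1 this
  have hne' : ¬ (bF.repr (φ (bL 1)) 1 = 0 ∧ bF.repr (φ (bL 1)) 2 = 0) := by
    rintro ⟨c1, c2⟩
    apply hne
    apply bF.repr.injective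
    refine Finsupp.ext fun j => ?_
    fin_cases j
    · simpa using r0
    · simpa using c1
    · simpa using c2
  generalize bF.repr (φ (bL 0)) 0 = a at r1 r2
  generalize bF.repr (φ (bL 1)) 1 = d at r1 r2 hne'
  generalize bF.repr (φ (bL 1)) 2 = e at r1 r2 hne'
  have key : (HahnSeries.single 1 (1 : k) : LaurentSeries k) * (a * a) = 1 := by
    by_cases hd : d = 0
    · have he : e ≠ 0 := fun he => hne' ⟨hd, he⟩
      have : e * ((HahnSeries.single 1 (1 : k) : LaurentSeries k) * (a * a) - 1) = 0 := by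
        rw [r1] at r2
        linear_combination r2.symm
      rcases mul_eq_zero.1 this with h | h
      · exact absurd h he
      · exact sub_eq_zero.1 h
    · have : d * ((HahnSeries.single 1 (1 : k) : LaurentSeries k) * (a * a) - 1) = 0 := by
        rw [r2] at r1
        linear_combination r1.symm
      rcases mul_eq_zero.1 this with h | h
      · exact absurd h hd
      · exact sub_eq_zero.1 h
  exact no_sqrt k a key

end Groth.Agent.S13107
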