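import Groth.Statements.S13108
import Groth.Agent.Lib.Helper12.Lie3

set_option autoImplicit false
universe u v w
open GrpSch

namespace Groth.Agent.S13108

open Groth.Agent.Lib.Helper12.Lie3

section
variable {k : Type u} [Field k] {t : k}
    {L : Type v} [LieRing L] [LieAlgebra k L] (b : Module.Basis (Fin 3) k L)
    (h01 : ⁅b 0, b 1⁆ = b 1) (h02 : ⁅b 0, b 2⁆ = t • b 2) (h12 : ⁅b 1, b 2⁆ = 0)

include h01 h02 h12 in
/-- coordinates of a bracket -/
theorem repr_lie (a c : L) :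
    b.repr ⁅a, c⁆ 0 = 0 ∧
    b.repr ⁅a, c⁆ 1 = b.repr a 0 * b.repr c 1 - b.repr a 1 * b.repr c 0 ∧
    b.repr ⁅a, c⁆ 2 = t * (b.repr a 0 * b.repr c 2 - b.repr a 2 * b.repr c 0) := by
  rw [lie_eq b a c, h01, h02, h12]
  simp only [map_add, map_smul, smul_zero, add_zero, Module.Basis.repr_self, Finsupp.coe_add,
    Finsupp.coe_smul, Pi.add_apply, Pi.smul_apply, smul_eq_mul]
  simp [Finsupp.single_apply]
  ring

end


section
variable {k : Type u} [Field k] {t t' : k}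
    {L : Type v} [LieRing L] [LieAlgebra k L] (b : Module.Basis (Fin 3) k L)
    (h01 : ⁅b 0, b 1⁆ = b 1) (h02 : ⁅b 0, b 2⁆ = t • b 2) (h12 : ⁅b 1, b 2⁆ = 0)
    {L' : Type w} [LieRing L'] [LieAlgebra k L'] (b' : Module.Basis (Fin 3) k L')
    (h01' : ⁅b' 0, b' 1⁆ = b' 1) (h02' : ⁅b' 0, b' 2⁆ = t' • b' 2) (h12' : ⁅b' 1, b' 2⁆ = 0)

include h01 h02 h01' h02' h12' in
theorem fwd (ht : t ≠ 0) (φ : L ≃ₗ⁅k⁆ L') : t' = t ∨ t' = t⁻¹ := by
  have e1 : φ (b 1) = ⁅φ (b 0), φ (b 1)⁆ := by rw [← LieEquiv.map_lie, h01]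
  have e2 : t • φ (b 2) = ⁅φ (b 0), φ (b 2)⁆ := by rw [← LieEquiv.map_lie, h02, map_smul]
  obtain ⟨r0, r1, r2⟩ := repr_lie b' h01' h02' h12' (φ (b 0)) (φ (b 1))
  rw [← e1] at r0 r1 r2
  obtain ⟨s0, s1, s2⟩ := repr_lie b' h01' h02' h12' (φ (b 0)) (φ (b 2))
  rw [← e2] at s0 s1 s2
  simp only [map_smul, Finsupp.coe_smul, Pi.smul_apply, smul_eq_mul] at s0 s1 s2
  have s0' : b'.repr (φ (b 2)) 0 = 0 := by
    rcases mul_eq_zero.1 s0 with h | h
    · exact absurd h ht
    · exact h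
  rw [r0] at r1 r2
  rw [s0'] at s1 s2
  simp only [mul_zero, sub_zero] at r1 r2 s1 s2
  -- injectivity
  have inj : ∀ a1 a2 : k, a1 * b'.repr (φ (b 1)) 1 + a2 * b'.repr (φ (b 2)) 1 = 0 →
      a1 * b'.repr (φ (b 1)) 2 + a2 * b'.repr (φ (b 2)) 2 = 0 → a1 = 0 ∧ a2 = 0 := by
    intro a1 a2 c1 c2
    have hz : φ (a1 • b 1 + a2 • b 2) = 0 := by
      apply b'.repr.injective
      ext j
      fin_cases j
      · simp [r0, s0']
      · simpa using c1
      · simpa using c2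
    have hz' : a1 • b 1 + a2 • b 2 = 0 := by
      have := φ.injective (hz.trans (map_zero φ).symm)
      exact this
    have q1 := congrArg (fun m => b.repr m 1) hz'
    have q2 := congrArg (fun m => b.repr m 2) hz'
    simp at q1 q2
    exact ⟨q1, q2⟩
  generalize b'.repr (φ (b 0)) 0 = a at r1 r2 s1 s2
  generalize b'.repr (φ (b 1)) 1 = d at r1 r2 s1 s2 inj
  generalize b'.repr (φ (b 1)) 2 = e at r1 r2 s1 s2 inj
  generalize b'.repr (φ (b 2)) 1 = f at r1 r2 s1 s2 inj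
  generalize b'.repr (φ (b 2)) 2 = g at r1 r2 s1 s2 inj
  have hi : ¬ (d = 0 ∧ e = 0) := by
    rintro ⟨rfl, rfl⟩
    have := (inj 1 0 (by ring) (by ring)).1
    exact one_ne_zero this
  have hii : d * g - e * f ≠ 0 := by
    intro hdet
    have hdet' : d * g = e * f := sub_eq_zero.1 hdet
    obtain ⟨hg, he⟩ := inj g (-e) (by linear_combination hdet) (by ring)
    have he' : e = 0 := neg_eq_zero.1 he
    obtain ⟨hf, hd⟩ := inj f (-d) (by ring) (by rw [he', hg]; ring)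
    exact hi ⟨neg_eq_zero.1 hd, he'⟩
  by_cases hd : d = 0
  · right
    have he : e ≠ 0 := fun he => hi ⟨hd, he⟩
    have hf : f ≠ 0 := by
      rintro rfl
      apply hii
      rw [hd]; ring
    have h1 : t' * a = 1 := by
      have : e * (t' * a - 1) = 0 := by linear_combination r2.symm
      rcases mul_eq_zero.1 this with h | h
      · exact absurd h he
      · exact sub_eq_zero.1 h
    have h2 : a = t := by
      have : f * (t - a) = 0 := by linear_combination s1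
      rcases mul_eq_zero.1 this with h | h
      · exact absurd h hf
      · exact (sub_eq_zero.1 h).symm
    rw [h2] at h1
    exact eq_inv_of_mul_eq_one_left h1
  · left
    have ha : a = 1 := by
      have : d * (a - 1) = 0 := by linear_combination r1.symm
      rcases mul_eq_zero.1 this with h | h
      · exact absurd h hd
      · exact sub_eq_zero.1 h
    subst ha
    by_cases hg : g = 0
    · have he : e ≠ 0 := by
        rintro rfl
        apply hii
        rw [hg]; ring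
      have hf : f ≠ 0 := by
        rintro rfl
        apply hii
        rw [hg]; ring
      have h1 : t' = 1 := by
        have : e * (t' - 1) = 0 := by linear_combination r2.symm
        rcases mul_eq_zero.1 this with h | h
        · exact absurd h he
        · exact sub_eq_zero.1 h
      have h2 : t = 1 := by
        have : f * (t - 1) = 0 := by linear_combination s1
        rcases mul_eq_zero.1 this with h | h
        · exact absurd h hf
        · exact sub_eq_zero.1 h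
      rw [h1, h2]
    · have : g * (t - t') = 0 := by linear_combination s2
      rcases mul_eq_zero.1 this with h | h
      · exact absurd h hg
      · exact (sub_eq_zero.1 h).symm

end

section
variable {k : Type u} [Field k] {t t' : k}
    {L : Type v} [LieRing L] [LieAlgebra k L] (b : Module.Basis (Fin 3) k L)
    {L' : Type w} [LieRing L'] [LieAlgebra k L'] (b' : Module.Basis (Fin 3) k L')

theorem mkEquiv (f : L →ₗ[k] L') (g : L' →ₗ[k] L) (hfg : ∀ i, f (g (b' i)) = b' i)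
    (hgf : ∀ i, g (f (b i)) = b i) (h : ∀ i j, f ⁅b i, b j⁆ = ⁅f (b i), f (b j)⁆) :
    Nonempty (L ≃ₗ⁅k⁆ L') := by
  have h1 : f.comp g = LinearMap.id := b'.ext fun i => by simpa using hfg i
  have h2 : g.comp f = LinearMap.id := b.ext fun i => by simpa using hgf i
  exact ⟨{ toFun := f
           map_add' := f.map_add
           map_smul' := f.map_smul
           map_lie' := fun {a c} => map_lie_of_basis b f h a c
           invFun := g
           left_inv := fun x => by simpa using congrArg (fun m : L →ₗ[k] L => m x) h2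
           right_inv := fun x => by simpa using congrArg (fun m : L' →ₗ[k] L' => m x) h1 }⟩

variable (h01 : ⁅b 0, b 1⁆ = b 1) (h02 : ⁅b 0, b 2⁆ = t • b 2) (h12 : ⁅b 1, b 2⁆ = 0)
    (h01' : ⁅b' 0, b' 1⁆ = b' 1) (h02' : ⁅b' 0, b' 2⁆ = t' • b' 2) (h12' : ⁅b' 1, b' 2⁆ = 0)

include h01 h02 h12 h01' h02' h12' in
theorem bwd_eq (h : t' = t) : Nonempty (L ≃ₗ⁅k⁆ L') := by
  subst h
  have h10 : ⁅b 1, b 0⁆ = - b 1 := by rw [← lie_skew, h01]
  have h20 : ⁅b 2, b 0⁆ = - (t' • b 2) := by rw [← lie_skew, h02]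
  have h21 : ⁅b 2, b 1⁆ = 0 := by rw [← lie_skew, h12, neg_zero]
  have h10' : ⁅b' 1, b' 0⁆ = - b' 1 := by rw [← lie_skew, h01']
  have h20' : ⁅b' 2, b' 0⁆ = - (t' • b' 2) := by rw [← lie_skew, h02']
  have h21' : ⁅b' 2, b' 1⁆ = 0 := by rw [← lie_skew, h12', neg_zero]
  obtain ⟨f, f0, f1, f2⟩ : ∃ f : L →ₗ[k] L', f (b 0) = b' 0 ∧ f (b 1) = b' 1 ∧ f (b 2) = b' 2 :=
    ⟨b.constr k ![b' 0, b' 1, b' 2], by simp, by simp, by simp⟩
  obtain ⟨g, g0, g1, g2⟩ : ∃ g : L' →ₗ[k] L, g (b' 0) = b 0 ∧ g (b' 1) = b 1 ∧ g (b' 2) = b 2 :=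
    ⟨b'.constr k ![b 0, b 1, b 2], by simp, by simp, by simp⟩
  refine mkEquiv b b' f g ?_ ?_ ?_
  · intro i; fin_cases i <;> simp [f0, f1, f2, g0, g1, g2]
  · intro i; fin_cases i <;> simp [f0, f1, f2, g0, g1, g2]
  · intro i j
    fin_cases i <;> fin_cases j <;>
      simp [h01, h02, h12, h10, h20, h21, h01', h02', h12', h10', h20', h21', f0, f1, f2]

include h01 h02 h12 h01' h02' h12' in
theorem bwd_inv (ht : t ≠ 0) (h : t' = t⁻¹) : Nonempty (L ≃ₗ⁅k⁆ L') := by
  subst h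
  have h10 : ⁅b 1, b 0⁆ = - b 1 := by rw [← lie_skew, h01]
  have h20 : ⁅b 2, b 0⁆ = - (t • b 2) := by rw [← lie_skew, h02]
  have h21 : ⁅b 2, b 1⁆ = 0 := by rw [← lie_skew, h12, neg_zero]
  have h10' : ⁅b' 1, b' 0⁆ = - b' 1 := by rw [← lie_skew, h01']
  have h20' : ⁅b' 2, b' 0⁆ = - (t⁻¹ • b' 2) := by rw [← lie_skew, h02']
  have h21' : ⁅b' 2, b' 1⁆ = 0 := by rw [← lie_skew, h12', neg_zero]
  obtain ⟨f, f0, f1, f2⟩ : ∃ f : L →ₗ[k] L', f (b 0) = t • b' 0 ∧ f (b 1) = b' 2 ∧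
      f (b 2) = b' 1 :=
    ⟨b.constr k ![t • b' 0, b' 2, b' 1], by simp, by simp, by simp⟩
  obtain ⟨g, g0, g1, g2⟩ : ∃ g : L' →ₗ[k] L, g (b' 0) = t⁻¹ • b 0 ∧ g (b' 1) = b 2 ∧
      g (b' 2) = b 1 :=
    ⟨b'.constr k ![t⁻¹ • b 0, b 2, b 1], by simp, by simp, by simp⟩
  refine mkEquiv b b' f g ?_ ?_ ?_
  · intro i; fin_cases i <;> simp [f0, f1, f2, g0, g1, g2, smul_smul, ht]
  · intro i; fin_cases i <;> simp [f0, f1, f2, g0, g1, g2, smul_smul, ht]
  · intro i j
    fin_cases i <;> fin_cases j <;>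
      simp [h01, h02, h12, h10, h20, h21, h01', h02', h12', h10', h20', h21', f0, f1, f2,
        smul_smul, ht]

end

/-- Let k be a field and t, t' ∈ k both non-zero; let L be a Lie algebra over k with a basis x = b 0, y
= b 1, z = b 2 and brackets [x,y] = y, [x,z] = t z, [y,z] = 0, and L' a Lie algebra over k with a
basis x' = b' 0, y' = b' 1, z' = b' 2 and brackets [x',y'] = y', [x',z'] = t' z', [y',z'] = 0. Then
L and L' are isomorphic Lie algebras over k if and only if t' = t or t' = t⁻¹. -/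
theorem result (k : Type u) [Field k] (t t' : k) (ht : t ≠ 0) (ht' : t' ≠ 0)
    (L : Type v) [LieRing L] [LieAlgebra k L] (b : Module.Basis (Fin 3) k L)
    (h01 : ⁅b 0, b 1⁆ = b 1) (h02 : ⁅b 0, b 2⁆ = t • b 2) (h12 : ⁅b 1, b 2⁆ = 0)
    (L' : Type w) [LieRing L'] [LieAlgebra k L'] (b' : Module.Basis (Fin 3) k L')
    (h01' : ⁅b' 0, b' 1⁆ = b' 1) (h02' : ⁅b' 0, b' 2⁆ = t' • b' 2) (h12' : ⁅b' 1, b' 2⁆ = 0) :
    Nonempty (L ≃ₗ⁅k⁆ L') ↔ (t' = t ∨ t' = t⁻¹) := by
  constructor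
  · rintro ⟨φ⟩
    exact fwd b h01 h02 b' h01' h02' h12' ht φ
  · rintro (h | h)
    · exact bwd_eq b b' h01 h02 h12 h01' h02' h12' h
    · exact bwd_inv b b' h01 h02 h12 h01' h02' h12' ht h

end Groth.Agent.S13108
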