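import Groth.Statements.S13111
import Groth.Agent.Lib.Helper2.NormalSN

set_option autoImplicit false
universe u
open HTop

namespace Groth.Agent.S13111

open AlgebraicGeometry CategoryTheory in
/-- in an integrally closed domain, `x^3 = y^2` has a root. -/
theorem exists_root_of_isIntegrallyClosed {R : Type u} [CommRing R] [IsDomain R]
    [IsIntegrallyClosed R] (x y : R) (hxy : x ^ 3 = y ^ 2) : ∃ r : R, r ^ 2 = x ∧ r ^ 3 = y := by
  by_cases hx0 : x = 0
  · refine ⟨0, by rw [hx0]; ring, ?_⟩
    rw [hx0] at hxy
    have : y = 0 := by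
      have h0 : y ^ 2 = 0 := by rw [← hxy]; ring
      exact pow_eq_zero_iff (two_ne_zero) |>.1 h0
    rw [this]; ring
  · let K := FractionRing R
    have hxK : algebraMap R K x ≠ 0 := by
      rw [Ne, map_eq_zero_iff _ (IsFractionRing.injective R K)]
      exact hx0
    set a : K := algebraMap R K y / algebraMap R K x with ha
    have hK : algebraMap R K y ^ 2 = algebraMap R K x ^ 3 :=
      calc algebraMap R K y ^ 2 = algebraMap R K (y ^ 2) := (map_pow _ _ _).symm
        _ = algebraMap R K (x ^ 3) := by rw [hxy]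
        _ = algebraMap R K x ^ 3 := map_pow _ _ _
    have ha2 : a ^ 2 = algebraMap R K x := by
      rw [ha, div_pow, hK, div_eq_iff (pow_ne_zero 2 hxK)]
      ring
    have hint : IsIntegral R a := by
      refine ⟨Polynomial.X ^ 2 - Polynomial.C x, ?_, ?_⟩
      · exact Polynomial.monic_X_pow_sub_C x two_ne_zero
      · simp [ha2]
    obtain ⟨a₀, ha₀⟩ := IsIntegrallyClosed.algebraMap_eq_of_integral hint
    refine ⟨a₀, ?_, ?_⟩
    · apply IsFractionRing.injective R K
      rw [map_pow, ha₀, ha2]
    · apply IsFractionRing.injective R K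
      rw [map_pow, ha₀]
      calc a ^ 3 = a ^ 2 * a := by ring
        _ = algebraMap R K x * (algebraMap R K y / algebraMap R K x) := by rw [ha2]
        _ = algebraMap R K y := by
          rw [← mul_div_assoc]
          exact mul_div_cancel_left₀ _ hxK

/-- the value `y/x` (or `0` where `x` vanishes). -/
theorem quot_sq_cube {K : Type u} [Field K] (a b : K) [Decidable (a = 0)] (hab : a ^ 3 = b ^ 2) :
    (if a = 0 then 0 else b / a) ^ 2 = a ∧ (if a = 0 then 0 else b / a) ^ 3 = b := by
  by_cases ha : a = 0
  · rw [if_pos ha]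
    rw [ha] at hab
    have hb : b = 0 := by
      have h0 : b ^ 2 = 0 := by rw [← hab]; ring
      exact pow_eq_zero_iff (two_ne_zero) |>.1 h0
    rw [hb, ha]
    exact ⟨by ring, by ring⟩
  · rw [if_neg ha]
    constructor
    · rw [div_pow, ← hab, div_eq_iff (pow_ne_zero 2 ha)]; ring
    · rw [div_pow, div_eq_iff (pow_ne_zero 3 ha), hab]; ring

theorem eq_quot_of_sq_cube {K : Type u} [Field K] (a b r : K) [Decidable (a = 0)] (h2 : r ^ 2 = a)
    (h3 : r ^ 3 = b) :
    r = if a = 0 then 0 else b / a := by
  by_cases ha : a = 0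
  · rw [if_pos ha]
    rw [ha] at h2
    exact pow_eq_zero_iff (two_ne_zero) |>.1 h2
  · rw [if_neg ha]
    rw [eq_div_iff ha, ← h2, ← h3]; ring

open AlgebraicGeometry W4c1hilbchowinc in
/-- Let A be a reduced Noetherian ring whose integral closure in its total ring of fractions is a finite
A-module. Suppose that any pointwise function on Spec A that is algebraic along every discrete
valuation ring (for every discrete valuation ring R and every morphism Spec R → Spec A there is an
element of R whose values at the two points of Spec R are the images of the chosen values) is the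
family of values of exactly one global section. Then A is seminormal: whenever x^3 = y^2 there is
exactly one a with x = a^2 and y = a^3. Test rings range over the universe of A. -/
theorem result
    (A : Type u) [CommRing A] [IsReduced A] [IsNoetherianRing A]
    (hfin : Module.Finite A (integralClosure A (FractionRing A)))
    (h : ∀ f : PtFun (Spec (CommRingCat.of A)), f.VariesAlongDVR →
      ∃! a : Γ(Spec (CommRingCat.of A), ⊤), PtFun.ofSection (Spec (CommRingCat.of A)) a = f) :
    HTop.IsSeminormalRing A := by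
  classical
  intro x y hxy
  set X := Spec (CommRingCat.of A) with hX
  set e := Scheme.ΓSpecIso (CommRingCat.of A) with he
  obtain ⟨x', hx'⟩ : ∃ x' : Γ(X, ⊤), x' = e.inv.hom x := ⟨_, rfl⟩
  obtain ⟨y', hy'⟩ : ∃ y' : Γ(X, ⊤), y' = e.inv.hom y := ⟨_, rfl⟩
  have hxy' : x' ^ 3 = y' ^ 2 := by rw [hx', hy', ← map_pow, ← map_pow, hxy]
  -- the pointwise function
  let f : PtFun X := fun p =>
    if X.Γevaluation p x' = 0 then 0 else X.Γevaluation p y' / X.Γevaluation p x'
  have hev : ∀ p : X, (X.Γevaluation p x') ^ 3 = (X.Γevaluation p y') ^ 2 := by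
    intro p
    rw [← map_pow, ← map_pow, hxy']
  have hf : f.VariesAlongDVR := by
    intro R _ _ _ g
    set eR := Scheme.ΓSpecIso (CommRingCat.of R) with heR
    obtain ⟨xr, hxr⟩ : ∃ xr : R, xr = eR.hom.hom (g.appTop.hom x') := ⟨_, rfl⟩
    obtain ⟨yr, hyr⟩ : ∃ yr : R, yr = eR.hom.hom (g.appTop.hom y') := ⟨_, rfl⟩
    have hxyr : xr ^ 3 = yr ^ 2 := by
      rw [hxr, hyr, ← map_pow, ← map_pow, ← map_pow, ← map_pow, hxy']
    obtain ⟨r, hr2, hr3⟩ := exists_root_of_isIntegrallyClosed xr yr hxyr
    refine ⟨eR.inv.hom r, ?_⟩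
    funext q
    have hinv : ∀ t : Γ(Spec (CommRingCat.of R), ⊤), eR.inv.hom (eR.hom.hom t) = t := by
      intro t
      have := congrArg (fun φ => φ.hom t) eR.hom_inv_id
      exact this
    have e2 : (eR.inv.hom r) ^ 2 = g.appTop.hom x' := by
      rw [← map_pow, hr2, hxr, hinv]
    have e3 : (eR.inv.hom r) ^ 3 = g.appTop.hom y' := by
      rw [← map_pow, hr3, hyr, hinv]
    show (Spec (CommRingCat.of R)).Γevaluation q (eR.inv.hom r) =
      g.residueFieldMap q (f (g q))
    have n1 : g.residueFieldMap q (X.Γevaluation (g q) x') =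
        (Spec (CommRingCat.of R)).Γevaluation q (g.appTop.hom x') :=
      Scheme.Γevaluation_naturality_apply g q x'
    have n2 : g.residueFieldMap q (X.Γevaluation (g q) y') =
        (Spec (CommRingCat.of R)).Γevaluation q (g.appTop.hom y') :=
      Scheme.Γevaluation_naturality_apply g q y'
    have hρ : Function.Injective (g.residueFieldMap q).hom := RingHom.injective _
    have hfq : (g.residueFieldMap q).hom (f (g q)) =
        if (g.residueFieldMap q).hom (X.Γevaluation (g q) x') = 0 then 0 else
          (g.residueFieldMap q).hom (X.Γevaluation (g q) y') /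
            (g.residueFieldMap q).hom (X.Γevaluation (g q) x') := by
      show (g.residueFieldMap q).hom (if X.Γevaluation (g q) x' = 0 then 0 else
        X.Γevaluation (g q) y' / X.Γevaluation (g q) x') = _
      by_cases h0 : X.Γevaluation (g q) x' = 0
      · rw [if_pos h0, if_pos (by rw [h0, map_zero]), map_zero]
      · rw [if_neg h0, if_neg (fun h' => h0 (hρ (by rw [h', map_zero]))), map_div₀]
    refine (eq_quot_of_sq_cube _ _ _ ?_ ?_).trans hfq.symm
    · rw [← map_pow, e2]
      exact n1.symm
    · rw [← map_pow, e3]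
      exact n2.symm
  obtain ⟨a, ha, -⟩ := h f hf
  have hval : ∀ p : X, X.Γevaluation p a = f p := fun p => congrFun ha p
  -- a^2 = x', a^3 = y'
  have hzero : ∀ s : Γ(X, ⊤), (∀ p : X, X.Γevaluation p s = 0) → s = 0 := by
    intro s hs
    apply eq_zero_of_basicOpen_eq_bot
    rw [Scheme.basicOpen_eq_bot_iff_forall_evaluation_eq_zero]
    intro p
    exact hs p.1
  have ha2 : a ^ 2 = x' := by
    rw [← sub_eq_zero]
    apply hzero
    intro p
    rw [map_sub, map_pow, hval p, sub_eq_zero]
    exact (quot_sq_cube _ _ (hev p)).1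
  have ha3 : a ^ 3 = y' := by
    rw [← sub_eq_zero]
    apply hzero
    intro p
    rw [map_sub, map_pow, hval p, sub_eq_zero]
    exact (quot_sq_cube _ _ (hev p)).2
  have hhom : ∀ t : A, e.hom.hom (e.inv.hom t) = t := by
    intro t
    have := congrArg (fun φ => φ.hom t) e.inv_hom_id
    exact this
  refine ⟨e.hom.hom a, ⟨?_, ?_⟩, ?_⟩
  · rw [← map_pow, ha2, hx', hhom]
  · rw [← map_pow, ha3, hy', hhom]
  · rintro b ⟨hb2, hb3⟩
    refine Groth.Agent.Lib.helper2.AWNRing.eq_of_sq_cube_reduced _ _ ?_ ?_
    · rw [← hb2, ← map_pow, ha2, hx', hhom]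
    · rw [← hb3, ← map_pow, ha3, hy', hhom]

end Groth.Agent.S13111
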