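import Groth.Statements.S13112
import Groth.Agent.Lib.Helper2.SNScheme

set_option autoImplicit false
universe u
open HTop

namespace Groth.Agent.S13112

open CategoryTheory CategoryTheory.Limits AlgebraicGeometry in
/-- a point whose residue field point of the target lifts has trivial residue field extension. -/
theorem isIso_residueFieldMap_of_lift {Z T : Scheme.{u}} (p : Z ⟶ T)
    (hinj : Function.Injective p) (z : Z) (K : Type u) [Field K]
    (ψ : T.residueField (p z) ⟶ .of K) [IsIso ψ]
    (σ : Spec (.of K) ⟶ Z) (hσ : σ ≫ p = Spec.map ψ ≫ T.fromSpecResidueField (p z)) :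
    IsIso (p.residueFieldMap z) := by
  have hpz' : p (σ (IsLocalRing.closedPoint K)) = p z := by
    have h1 : (σ ≫ p) (IsLocalRing.closedPoint K) = p z := by
      rw [hσ, Scheme.Hom.comp_apply, Scheme.fromSpecResidueField_apply]
    exact h1
  have hzz : σ (IsLocalRing.closedPoint K) = z := hinj hpz'
  have h1 : Spec.map (Scheme.descResidueField (Scheme.stalkClosedPointTo σ)) ≫
      Z.fromSpecResidueField (σ (IsLocalRing.closedPoint K)) = σ :=
    Scheme.descResidueField_stalkClosedPointTo_fromSpecResidueField K Z σ
  have h2 : Spec.map (p.residueFieldMap (σ (IsLocalRing.closedPoint K)) ≫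
      Scheme.descResidueField (Scheme.stalkClosedPointTo σ)) ≫
      T.fromSpecResidueField (p (σ (IsLocalRing.closedPoint K))) =
      Spec.map ψ ≫ T.fromSpecResidueField (p z) := by
    rw [Spec.map_comp, Category.assoc, Scheme.Hom.SpecMap_residueFieldMap_fromSpecResidueField,
      ← Category.assoc, h1, hσ]
  have h3 : (⟨p (σ (IsLocalRing.closedPoint K)),
      p.residueFieldMap (σ (IsLocalRing.closedPoint K)) ≫
        Scheme.descResidueField (Scheme.stalkClosedPointTo σ)⟩ :
      Σ x, T.residueField x ⟶ .of K) = ⟨p z, ψ⟩ := by
    apply (Scheme.SpecToEquivOfField K T).symm.injective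
    exact h2
  obtain ⟨e, he⟩ := Scheme.SpecToEquivOfField_eq_iff.1 h3
  simp only at he
  have h4 : IsIso (p.residueFieldMap (σ (IsLocalRing.closedPoint K)) ≫
      Scheme.descResidueField (Scheme.stalkClosedPointTo σ)) := by
    rw [he]
    infer_instance
  have h5 : Function.Bijective (Scheme.descResidueField (Scheme.stalkClosedPointTo σ)).hom := by
    refine ⟨RingHom.injective _, ?_⟩
    have h6 := (ConcreteCategory.isIso_iff_bijective _).1 h4
    intro k
    obtain ⟨w, hw⟩ := h6.2 k
    exact ⟨(p.residueFieldMap (σ (IsLocalRing.closedPoint K))).hom w, hw⟩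
  have h7 : IsIso (Scheme.descResidueField (Scheme.stalkClosedPointTo σ)) :=
    (ConcreteCategory.isIso_iff_bijective _).2 h5
  have h8 : IsIso (p.residueFieldMap (σ (IsLocalRing.closedPoint K))) :=
    IsIso.of_isIso_comp_right _ (Scheme.descResidueField (Scheme.stalkClosedPointTo σ))
  exact hzz ▸ h8

open CategoryTheory AlgebraicGeometry in
/-- Let k be a field, T a seminormal scheme of finite type over k, and f : X → Y a proper universally
injective k-morphism of schemes locally of finite type over k. If a morphism of schemes g : T → Y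
lifts through f at every point of T, i.e. for every t the composite Spec κ(t) → T → Y factors
through f, then g itself factors through f. -/
theorem result
    {k : Type u} [Field k] {T X Y : Scheme.{u}}
    (sT : T ⟶ Spec (CommRingCat.of k)) (sX : X ⟶ Spec (CommRingCat.of k)) (sY : Y ⟶ Spec (CommRingCat.of k))
    [LocallyOfFiniteType sT] [QuasiCompact sT] [LocallyOfFiniteType sX] [LocallyOfFiniteType sY]
    (hT : HTop.IsSeminormal T)
    (f : X ⟶ Y) (hf : f ≫ sY = sX) [IsProper f] [UniversallyInjective f]
    (g : T ⟶ Y)
    (hlift : ∀ t : T, ∃ l : Spec (T.residueField t) ⟶ X, l ≫ f = T.fromSpecResidueField t ≫ g) :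
    ∃ h : T ⟶ X, h ≫ f = g := by
  classical
  set p := Limits.pullback.snd f g with hp
  -- lifts of residue field points to the pullback
  have hσ : ∀ t : T, ∃ σ : Spec (T.residueField t) ⟶ Limits.pullback f g,
      σ ≫ p = T.fromSpecResidueField t := by
    intro t
    obtain ⟨l, hl⟩ := hlift t
    exact ⟨Limits.pullback.lift l (T.fromSpecResidueField t) hl, Limits.pullback.lift_snd _ _ _⟩
  haveI : IsProper p := inferInstance
  haveI : UniversallyInjective p :=
    MorphismProperty.pullback_snd (P := @UniversallyInjective) f g inferInstance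
  have hinj : Function.Injective p := p.injective
  haveI : Surjective p := by
    constructor
    intro t
    obtain ⟨σ, hσt⟩ := hσ t
    refine ⟨σ (IsLocalRing.closedPoint (T.residueField t)), ?_⟩
    have h1 : (σ ≫ p) (IsLocalRing.closedPoint (T.residueField t)) = t := by
      rw [hσt, Scheme.fromSpecResidueField_apply]
    exact h1
  haveI : IsFinite p := by
    apply IsZariskiLocalAtTarget.of_forall_exists_morphismRestrict (P := @IsFinite)
    intro t
    refine exists_isFinite_morphismRestrict_of_finite_preimage_singleton p t ?_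
    apply Set.Subsingleton.finite
    intro a ha b hb
    exact hinj (ha.trans hb.symm)
  have hU : FlatMor.IsUnivHomeo p := Groth.Agent.Lib.helper2.SpecResidue.isUnivHomeo_of_integral p
  have hR : HTop.ResidueFieldsIso p := by
    intro z
    obtain ⟨σ, hσt⟩ := hσ (p z)
    refine isIso_residueFieldMap_of_lift p hinj z (T.residueField (p z)) (𝟙 _) σ ?_
    rw [hσt, Spec.map_id]
    exact (Category.id_comp _).symm
  obtain ⟨s, hs⟩ := Groth.Agent.Lib.helper2.SNScheme.exists_section_of_isSeminormal p hT ⟨hU, hR⟩
  refine ⟨s ≫ Limits.pullback.fst f g, ?_⟩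
  rw [Category.assoc, Limits.pullback.condition, ← Category.assoc, hs, Category.id_comp]

end Groth.Agent.S13112
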