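import Groth.Statements.S13113
import Mathlib
import Groth.Agent.Lib.Helper2.DescSection
import Groth.Agent.S7420

set_option autoImplicit false
universe u
open HTop

namespace Groth.Agent.S13113

section helpers
open AlgebraicGeometry CategoryTheory Limits
open Groth.Agent.Lib.helper2.DescSection Groth.Agent.Lib.helper2.SNScheme

theorem isDesc_restrict {X Y : Scheme.{u}} (π : Y ⟶ X) (s : Γ(Y, ⊤)) (hs : IsDesc π s) (U : X.Opens) :
    IsDesc (π ∣_ U) ((π ⁻¹ᵁ U).ι.appTop s) := by
  let m : pullback (π ∣_ U) (π ∣_ U) ⟶ pullback π π :=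
    pullback.map _ _ _ _ (π ⁻¹ᵁ U).ι (π ⁻¹ᵁ U).ι U.ι (morphismRestrict_ι π U) (morphismRestrict_ι π U)
  have e1 : pullback.fst (π ∣_ U) (π ∣_ U) ≫ (π ⁻¹ᵁ U).ι = m ≫ pullback.fst π π := by
    simp only [m, pullback.map]; rw [pullback.lift_fst]
  have e2 : pullback.snd (π ∣_ U) (π ∣_ U) ≫ (π ⁻¹ᵁ U).ι = m ≫ pullback.snd π π := by
    simp only [m, pullback.map]; rw [pullback.lift_snd]
  have hs' : (pullback.fst π π).appTop s = (pullback.snd π π).appTop s := hs
  show (pullback.fst (π ∣_ U) (π ∣_ U)).appTop.hom ((π ⁻¹ᵁ U).ι.appTop.hom s) =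
    (pullback.snd (π ∣_ U) (π ∣_ U)).appTop.hom ((π ⁻¹ᵁ U).ι.appTop.hom s)
  have a1 : (pullback.fst (π ∣_ U) (π ∣_ U)).appTop.hom ((π ⁻¹ᵁ U).ι.appTop.hom s) =
      (pullback.fst (π ∣_ U) (π ∣_ U) ≫ (π ⁻¹ᵁ U).ι).appTop.hom s := by
    rw [Scheme.Hom.comp_appTop]; rfl
  have a2 : (pullback.snd (π ∣_ U) (π ∣_ U)).appTop.hom ((π ⁻¹ᵁ U).ι.appTop.hom s) =
      (pullback.snd (π ∣_ U) (π ∣_ U) ≫ (π ⁻¹ᵁ U).ι).appTop.hom s := by
    rw [Scheme.Hom.comp_appTop]; rfl
  rw [a1, a2, e1, e2, Scheme.Hom.comp_appTop, Scheme.Hom.comp_appTop]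
  show m.appTop.hom ((pullback.fst π π).appTop.hom s) = m.appTop.hom ((pullback.snd π π).appTop.hom s)
  exact congrArg _ hs'

theorem restrict_appTop_eq {X Y : Scheme.{u}} (π : Y ⟶ X) (U : X.Opens) :
    (π ∣_ U).appTop = U.topIso.hom ≫ π.app U ≫ (π ⁻¹ᵁ U).topIso.inv := by
  have h : π ∣_ U = π.resLE U (π ⁻¹ᵁ U) le_rfl := by simp [Scheme.Hom.resLE]
  rw [h, Scheme.Hom.appTop, Scheme.Hom.resLE_app_top, Scheme.Hom.appLE_eq_app]

theorem exists_local {X Y : Scheme.{u}} (hX : HTop.IsSeminormal X) (π : Y ⟶ X) [IsProper π]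
    [Surjective π] [IsReduced Y] (s : Γ(Y, ⊤)) (hs : IsDesc π s) (U : X.affineOpens) :
    ∃ t : Γ(X, U.1), (π.app U.1).hom t = (Y.presheaf.map (homOfLE (le_top : π ⁻¹ᵁ U.1 ≤ ⊤)).op).hom s := by
  haveI : IsAffine ↑U.1 := U.2
  have hA : HTop.IsSeminormalRing Γ(↑U.1, ⊤) :=
    isSeminormalRing_of_iso (Scheme.Opens.topIso U.1) ((Groth.Agent.S7420.result X).1.1 hX U)
  haveI : Surjective (π ∣_ U.1) := MorphismProperty.of_isPullback (isPullback_morphismRestrict π U.1).flip inferInstance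
  haveI : IsProper (π ∣_ U.1) := MorphismProperty.of_isPullback (isPullback_morphismRestrict π U.1).flip inferInstance
  haveI : IsReduced ↑(π ⁻¹ᵁ U.1) := inferInstance
  obtain ⟨t', ht'⟩ := exists_desc_of_isAffine hA (π ∣_ U.1) _ (isDesc_restrict π s hs U.1)
  refine ⟨U.1.topIso.hom.hom t', ?_⟩
  rw [restrict_appTop_eq] at ht'
  have h1 : ((π ⁻¹ᵁ U.1).topIso.inv).hom ((π.app U.1).hom (U.1.topIso.hom.hom t')) =
      ((π ⁻¹ᵁ U.1).ι.appTop).hom s := ht'
  have h2m : (π ⁻¹ᵁ U.1).ι.appTop = Y.presheaf.map (homOfLE (le_top : π ⁻¹ᵁ U.1 ≤ ⊤)).op ≫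
      (π ⁻¹ᵁ U.1).topIso.inv := by
    rw [Scheme.Opens.ι_appTop, Scheme.Opens.topIso_inv]
    exact (congrArg Y.presheaf.map (Subsingleton.elim _ _)).trans (Y.presheaf.map_comp _ _)
  have h2 : ((π ⁻¹ᵁ U.1).ι.appTop).hom s = ((π ⁻¹ᵁ U.1).topIso.inv).hom
      ((Y.presheaf.map (homOfLE (le_top : π ⁻¹ᵁ U.1 ≤ ⊤)).op).hom s) := by
    rw [h2m]; rfl
  rw [h2] at h1
  have hinj : Function.Injective ((π ⁻¹ᵁ U.1).topIso.inv).hom :=
    ((π ⁻¹ᵁ U.1).topIso.symm.commRingCatIsoToRingEquiv).injective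
  exact hinj h1

theorem main {X Y : Scheme.{u}} (hX : HTop.IsSeminormal X)
    (π : Y ⟶ X) [IsProper π] [Surjective π] [IsReduced Y]
    (s : Γ(Y, ⊤)) (hs : (pullback.fst π π).appTop s = (pullback.snd π π).appTop s) :
    ∃! t : Γ(X, ⊤), π.appTop t = s := by
  haveI : IsReduced X := isReduced_of_isSeminormal hX
  haveI : IsSchemeTheoreticallyDominant π := .of_isDominant π
  have hinj : ∀ U : X.Opens, Function.Injective (π.app U).hom := fun U => π.app_injective U
  have hsD : IsDesc π s := hs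
  choose sf hsf using exists_local hX π s hsD
  have hcompat : TopCat.Presheaf.IsCompatible X.sheaf.1 (fun U : X.affineOpens => U.1) sf := by
    intro U V
    apply hinj (U.1 ⊓ V.1)
    have n1 := π.naturality (TopologicalSpace.Opens.infLELeft U.1 V.1).op
    have n2 := π.naturality (TopologicalSpace.Opens.infLERight U.1 V.1).op
    have l1 : (π.app (U.1 ⊓ V.1)).hom ((X.presheaf.map (TopologicalSpace.Opens.infLELeft U.1 V.1).op).hom (sf U)) =
        (Y.presheaf.map ((TopologicalSpace.Opens.map π.base).map (TopologicalSpace.Opens.infLELeft U.1 V.1)).op).hom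
          ((π.app U.1).hom (sf U)) := by
      have := congrArg (fun f => f.hom (sf U)) n1
      exact this
    have l2 : (π.app (U.1 ⊓ V.1)).hom ((X.presheaf.map (TopologicalSpace.Opens.infLERight U.1 V.1).op).hom (sf V)) =
        (Y.presheaf.map ((TopologicalSpace.Opens.map π.base).map (TopologicalSpace.Opens.infLERight U.1 V.1)).op).hom
          ((π.app V.1).hom (sf V)) := by
      have := congrArg (fun f => f.hom (sf V)) n2
      exact this
    refine l1.trans (Eq.trans ?_ l2.symm)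
    rw [hsf U, hsf V, ← CommRingCat.comp_apply, ← CommRingCat.comp_apply, ← Functor.map_comp,
      ← Functor.map_comp]
    rfl
  obtain ⟨t, ht, htu⟩ := X.sheaf.existsUnique_gluing' (fun U : X.affineOpens => U.1) ⊤
    (fun _ => homOfLE le_top) (by rw [iSup_affineOpens_eq_top]) sf hcompat
  have key : (π.appTop).hom t = s := by
    refine Y.sheaf.eq_of_locally_eq' (fun U : X.affineOpens => π ⁻¹ᵁ U.1) ⊤
      (fun _ => homOfLE le_top) ?_ _ _ ?_
    · rw [π.iSup_preimage_eq_top (iSup_affineOpens_eq_top X)]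
    · intro U
      have n1 := π.naturality (homOfLE (le_top : U.1 ≤ ⊤)).op
      have l1 : (π.app U.1).hom ((X.presheaf.map (homOfLE (le_top : U.1 ≤ ⊤)).op).hom t) =
          (Y.presheaf.map ((TopologicalSpace.Opens.map π.base).map (homOfLE (le_top : U.1 ≤ ⊤))).op).hom
            ((π.app ⊤).hom t) := by
        have := congrArg (fun f => f.hom t) n1
        exact this
      have h2 : (X.presheaf.map (homOfLE (le_top : U.1 ≤ ⊤)).op).hom t = sf U := ht U
      rw [h2, hsf U] at l1
      exact l1.symm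
  refine ⟨t, key, ?_⟩
  intro t' ht'
  exact hinj ⊤ ((show (π.app ⊤).hom t' = s from ht').trans key.symm)

end helpers

open CategoryTheory CategoryTheory.Limits AlgebraicGeometry in
/-- Let k be a field, X a seminormal scheme of finite type over k and π : Y → X a proper surjective
morphism with Y reduced. Then a global section s of the structure sheaf of Y whose pullbacks along
the two projections Y ×_X Y → Y coincide is the pullback along π of exactly one global section of
the structure sheaf of X. (The published statement also treats non-reduced Y, where the structure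
sheaf of X is only a canonical direct summand of the equaliser; this row is the reduced case, where
the two agree.) -/
theorem result
    {k : Type u} [Field k] {X Y : Scheme.{u}} (sX : X ⟶ Spec (CommRingCat.of k))
    [LocallyOfFiniteType sX] [QuasiCompact sX] (hX : HTop.IsSeminormal X)
    (π : Y ⟶ X) [IsProper π] [Surjective π] [IsReduced Y]
    (s : Γ(Y, ⊤)) (hs : (pullback.fst π π).appTop s = (pullback.snd π π).appTop s) :
    ∃! t : Γ(X, ⊤), π.appTop t = s :=
  main hX π s hs

end Groth.Agent.S13113
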