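import Groth.Statements.S13114
import Mathlib

set_option autoImplicit false
universe u
open HilbChow

namespace Groth.Agent.S13114

/-- Let k be an algebraically closed field, A a commutative local k-algebra of finite dimension n over k
and u a unit of A. Then the determinant of multiplication by u on the k-vector space A, mapped to
the residue field of A, equals the n-th power of the residue class of u. -/
theorem result
    (k A : Type u) [Field k] [IsAlgClosed k] [CommRing A] [Algebra k A] [IsLocalRing A]
    [Module.Finite k A] (u : Aˣ) :
    algebraMap k (IsLocalRing.ResidueField A) (Algebra.norm k (u : A)) =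
      IsLocalRing.residue A (u : A) ^ Module.finrank k A := by
  have hArt : IsArtinianRing A := IsArtinianRing.of_finite k A
  have hfin : Module.Finite k (IsLocalRing.ResidueField A) :=
    Module.Finite.of_surjective (IsScalarTower.toAlgHom k A (IsLocalRing.ResidueField A)).toLinearMap
      IsLocalRing.residue_surjective
  have hint : Algebra.IsIntegral k (IsLocalRing.ResidueField A) := Algebra.IsIntegral.of_finite k _
  obtain ⟨c, hc⟩ := (IsAlgClosed.algebraMap_bijective_of_isIntegral (k := k)
    (K := IsLocalRing.ResidueField A)).2 (IsLocalRing.residue A (u : A))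
  set m : A := (u : A) - algebraMap k A c with hm
  have hmmem : m ∈ IsLocalRing.maximalIdeal A := by
    rw [← IsLocalRing.residue_eq_zero_iff, hm, map_sub, ← hc]
    rw [sub_eq_zero]
    rfl
  have hnil : IsNilpotent m := Ring.KrullDimLE.isNilpotent_iff_mem_maximalIdeal.mpr hmmem
  have hnil' : IsNilpotent (Algebra.lmul k A (-m)) := (hnil.neg).map (Algebra.lmul k A)
  have hnorm : Algebra.norm k (u : A) = c ^ Module.finrank k A := by
    rw [Algebra.norm_apply]
    have h1 : Algebra.lmul k A (u : A) =
        algebraMap k (Module.End k A) c - Algebra.lmul k A (-m) := by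
      ext x
      simp only [hm, LinearMap.sub_apply, Module.algebraMap_end_apply,
        Algebra.smul_def, Algebra.lmul_algebraMap, Algebra.coe_lmul_eq_mul, LinearMap.mul_apply']
      ring
    rw [h1, ← LinearMap.eval_charpoly, IsNilpotent.charpoly_eq_X_pow_finrank hnil',
      Polynomial.eval_pow, Polynomial.eval_X]
  rw [hnorm, map_pow, hc]

end Groth.Agent.S13114
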