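import Groth.Statements.S13115
import Mathlib

set_option autoImplicit false
universe u
open scoped TensorProduct
open HilbChow

namespace Groth.Agent.S13115

section aux
open PiTensorProduct Module

variable {k V : Type u} [Field k] [AddCommGroup V] [Module k V] {I : Type*} {m : ℕ}

/-- the "type" (multiset of values, as a finsupp) of a function -/
noncomputable def ty (g : Fin m → I) : I →₀ ℕ := ∑ j, Finsupp.single (g j) 1

lemma ty_apply [DecidableEq I] (g : Fin m → I) (i : I) :
    ty g i = (Finset.univ.filter (fun j => g j = i)).card := by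
  rw [ty, Finsupp.coe_finsetSum, Finset.sum_apply, Finset.card_filter]
  refine Finset.sum_congr rfl (fun j _ => ?_)
  rw [Finsupp.single_apply]

lemma exists_perm_of_ty_eq (g g' : Fin m → I) (h : ty g = ty g') :
    ∃ σ : Equiv.Perm (Fin m), g' = g ∘ σ := by
  classical
  have hc : ∀ i, Fintype.card {j // g' j = i} = Fintype.card {j // g j = i} := by
    intro i
    rw [Fintype.card_subtype, Fintype.card_subtype]
    have h1 := ty_apply g' i
    have h2 := ty_apply g i
    rw [← h1, ← h2, h]
  let e : ∀ i, {j // g' j = i} ≃ {j // g j = i} := fun i => Fintype.equivOfCardEq (hc i)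
  refine ⟨Equiv.ofFiberEquiv e, ?_⟩
  funext j
  exact (Equiv.ofFiberEquiv_map e j).symm

lemma repr_reindex (b : Basis I k V) (σ : Equiv.Perm (Fin m)) (y : ⨂[k] _ : Fin m, V)
    (g : Fin m → I) :
    (Basis.piTensorProduct (fun _ : Fin m => b)).repr
        (PiTensorProduct.reindex k (fun _ : Fin m => V) σ y) g
      = (Basis.piTensorProduct (fun _ : Fin m => b)).repr y (g ∘ σ) := by
  classical
  have key : ((Finsupp.lapply g : ((Fin m → I) →₀ k) →ₗ[k] k) ∘ₗ
        ((Basis.piTensorProduct (fun _ : Fin m => b)).repr.toLinearMap ∘ₗ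
          ((PiTensorProduct.reindex k (fun _ : Fin m => V) σ).toLinearMap :
            (⨂[k] _ : Fin m, V) →ₗ[k] (⨂[k] _ : Fin m, V))))
       = ((Finsupp.lapply (g ∘ σ) : ((Fin m → I) →₀ k) →ₗ[k] k) ∘ₗ
          (Basis.piTensorProduct (fun _ : Fin m => b)).repr.toLinearMap) := by
    apply (Basis.piTensorProduct (fun _ : Fin m => b)).ext
    intro f
    simp only [LinearMap.comp_apply, LinearEquiv.coe_coe, Finsupp.lapply_apply]
    have h1 : PiTensorProduct.reindex k (fun _ : Fin m => V) σ
        ((Basis.piTensorProduct (fun _ : Fin m => b)) f)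
        = (Basis.piTensorProduct (fun _ : Fin m => b)) (f ∘ σ.symm) := by
      rw [Basis.piTensorProduct_apply, Basis.piTensorProduct_apply, reindex_tprod]
      rfl
    rw [h1, Basis.repr_self, Basis.repr_self, Finsupp.single_apply, Finsupp.single_apply]
    have h2 : (f ∘ σ.symm = g) ↔ (f = g ∘ σ) := by
      constructor
      · rintro rfl; funext j; simp
      · rintro rfl; funext j; simp
    simp only [h2]
  exact LinearMap.congr_fun key y

end aux

/-- Let k be an infinite field, V a k-vector space and m a natural number. Then every symmetric tensor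
in the m-fold tensor power of V — one fixed by every permutation of the factors — is a k-linear
combination of pure powers v ⊗ ⋯ ⊗ v with v in V. (The published statement concerns the ring of
functions of an affine scheme over an infinite field, where it gives the uniqueness of the algebra
map defining the Hilbert-to-Chow morphism for zero-cycles; this row states it for any vector space.) -/
theorem result
    (k V : Type u) [Field k] [Infinite k] [AddCommGroup V] [Module k V] (m : ℕ)
    (x : ⨂[k] _ : Fin m, V)
    (hx : ∀ σ : Equiv.Perm (Fin m), PiTensorProduct.reindex k (fun _ : Fin m => V) σ x = x) :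
    x ∈ Submodule.span k (Set.range fun v : V => PiTensorProduct.tprod k (fun _ : Fin m => v)) := by
  classical
  rw [← Subspace.forall_mem_dualAnnihilator_apply_eq_zero_iff]
  intro φ hφ
  rw [Submodule.mem_dualAnnihilator] at hφ
  have hpow : ∀ v : V, φ (PiTensorProduct.tprod k (fun _ : Fin m => v)) = 0 :=
    fun v => hφ _ (Submodule.subset_span ⟨v, rfl⟩)
  obtain ⟨I, ⟨b⟩⟩ : ∃ I : Type u, Nonempty (Module.Basis I k V) :=
    ⟨_, ⟨Module.Basis.ofVectorSpace k V⟩⟩
  have hcsymm : ∀ (σ : Equiv.Perm (Fin m)) (g : Fin m → I),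
      (Basis.piTensorProduct (fun _ : Fin m => b)).repr x (g ∘ σ)
        = (Basis.piTensorProduct (fun _ : Fin m => b)).repr x g := by
    intro σ g
    rw [← repr_reindex b σ x g, hx σ]
  generalize hB : Basis.piTensorProduct (fun _ : Fin m => b) = B at hcsymm
  have hBapp : ∀ g : Fin m → I, B g = PiTensorProduct.tprod k (fun j => b (g j)) := by
    intro g; rw [← hB, Basis.piTensorProduct_apply]
  generalize hc : B.repr x = c at hcsymm
  have hx' : x = ∑ g ∈ c.support, c g • B g := by
    conv_lhs => rw [← B.linearCombination_repr x]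
    rw [hc, Finsupp.linearCombination_apply, Finsupp.sum]
  let S : Finset I := c.support.biUnion (fun g => Finset.univ.image g)
  let G : Finset (Fin m → I) := Fintype.piFinset (fun _ : Fin m => S)
  have hsuppG : c.support ⊆ G := by
    intro g hg
    rw [Fintype.mem_piFinset]
    intro j
    rw [Finset.mem_biUnion]
    exact ⟨g, hg, Finset.mem_image_of_mem _ (Finset.mem_univ j)⟩
  have hφx : φ x = ∑ g ∈ G, c g * φ (B g) := by
    rw [hx', map_sum]
    rw [Finset.sum_subset hsuppG
      (fun g _ hg => by rw [Finsupp.notMem_support_iff.1 hg, zero_smul, map_zero])]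
    refine Finset.sum_congr rfl (fun g _ => ?_)
    rw [map_smul, smul_eq_mul]
  have hP0 : (∑ g ∈ G, MvPolynomial.monomial (ty g) (φ (B g)) : MvPolynomial I k) = 0 := by
    apply MvPolynomial.funext
    intro t
    rw [map_zero, map_sum]
    have h1 := hpow (∑ i ∈ S, t i • b i)
    have h2 : PiTensorProduct.tprod k (fun _ : Fin m => ∑ i ∈ S, t i • b i)
        = ∑ g ∈ G, (∏ j, t (g j)) • B g := by
      rw [(PiTensorProduct.tprod k).map_sum_finset (fun (_ : Fin m) (i : I) => t i • b i)
        (fun _ => S)]
      refine Finset.sum_congr rfl (fun g _ => ?_)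
      rw [(PiTensorProduct.tprod k).map_smul_univ (fun j => t (g j)) (fun j => b (g j)), hBapp]
    rw [h2, map_sum] at h1
    rw [← h1]
    refine Finset.sum_congr rfl (fun g _ => ?_)
    rw [MvPolynomial.eval_monomial, map_smul, smul_eq_mul, mul_comm]
    congr 1
    rw [ty, ← Finsupp.prod_finsetSum_index (by simp) (by intros; simp [pow_add])]
    refine Finset.prod_congr rfl (fun j _ => ?_)
    rw [Finsupp.prod_single_index (by simp), pow_one]
  have hcoef : ∀ n : I →₀ ℕ, ∑ g ∈ G.filter (fun g => ty g = n), φ (B g) = 0 := by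
    intro n
    have := congrArg (MvPolynomial.coeff n) hP0
    rw [MvPolynomial.coeff_sum, MvPolynomial.coeff_zero] at this
    simp only [MvPolynomial.coeff_monomial] at this
    rw [Finset.sum_filter]; exact this
  rw [hφx, ← Finset.sum_fiberwise_of_maps_to (t := G.image ty) (g := ty)
    (fun g hg => Finset.mem_image_of_mem _ hg)]
  apply Finset.sum_eq_zero
  intro n hn
  obtain ⟨g₀, hg₀, rfl⟩ := Finset.mem_image.1 hn
  have hconst : ∀ g ∈ G.filter (fun g => ty g = ty g₀), c g * φ (B g) = c g₀ * φ (B g) := by
    intro g hg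
    obtain ⟨σ, hσ⟩ := exists_perm_of_ty_eq g₀ g (Finset.mem_filter.1 hg).2.symm
    rw [hσ, hcsymm]
  rw [Finset.sum_congr rfl hconst, ← Finset.mul_sum, hcoef, mul_zero]

end Groth.Agent.S13115
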