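import Groth.Statements.S2127
import Groth.Agent.Lib.Helper11.FiniteAffine
import Groth.Agent.Lib.Helper12.SecExtend

set_option autoImplicit false
universe u
open CategoryTheory AlgebraicGeometry
open Mor

namespace Groth.Agent.S2127

open CategoryTheory CategoryTheory.Limits AlgebraicGeometry TopologicalSpace Opposite
open Groth.Agent.Lib.helper12.SecExtend Groth.Agent.Lib.helper12.AmpleQAff
open Groth.Agent.Lib.helper11.InvMod Groth.Agent.Lib.helper11.GenLocus
open Groth.Agent.Lib.helper11.IsoLocus Groth.Agent.Lib.helper11.InvHom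
open Groth.Agent.Lib.helper11.FiniteAffine
open AlgebraicGeometry.Scheme.Modules

/-- `X_{g s} = D(g) ∩ X_s` for a global function `g` and a section `s` of an invertible module. -/
theorem genLocus_fnHom_comp {X : Scheme.{u}} {L : X.Modules} (hL : PicF.IsInvertible L)
    (g : Γ(X, ⊤)) (s : Coh.structureModule X ⟶ L) :
    CohB1.genLocus L (fnHom g ≫ s) = X.basicOpen g ⊓ CohB1.genLocus L s := by
  rw [genLocus_eq_isoLocus, genLocus_eq_isoLocus, ← genLocus_fnHom g, genLocus_eq_isoLocus]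
  apply le_antisymm
  · set U := isoLocus (fnHom g ≫ s) with hU
    have h1 : IsIso ((restrictFunctor U.ι).map (fnHom g ≫ s)) := isIso_restrict_isoLocus _
    rw [Functor.map_comp] at h1
    have h2 := @isIso_of_isIso_comp _ _ _ _
      (isInvertible_restrict U.ι (isInvertible_structureModule X))
      (isInvertible_restrict U.ι (isInvertible_structureModule X))
      (isInvertible_restrict U.ι hL) _ _ h1
    exact le_inf ((le_isoLocus_iff _ _).mpr h2.1) ((le_isoLocus_iff _ _).mpr h2.2)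
  · rw [le_isoLocus_iff]
    set U := isoLocus (fnHom g) ⊓ isoLocus s
    have ha : IsIso ((restrictFunctor U.ι).map (fnHom g)) :=
      isIso_restrict_of_le _ inf_le_left (isIso_restrict_isoLocus _)
    have hb : IsIso ((restrictFunctor U.ι).map s) :=
      isIso_restrict_of_le _ inf_le_right (isIso_restrict_isoLocus _)
    rw [Functor.map_comp]
    infer_instance

/-- A single point: a section of `L` generating at `z` with `X_s` inside a given neighbourhood. -/
theorem exists_section_single {X : Scheme.{u}} [X.IsQuasiAffine] {L : X.Modules}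
    (hL : PicF.IsInvertible L) (V : X.Opens) (z : X) (hz : z ∈ V) :
    ∃ s : Coh.structureModule X ⟶ L, z ∈ CohB1.genLocus L s ∧ CohB1.genLocus L s ≤ V := by
  obtain ⟨U, hU, hxU, hUV, hT⟩ := exists_affine_isTrivOn hL z V hz
  obtain ⟨_, ⟨_, ⟨h, hh, rfl⟩, rfl⟩, hxh, hhU⟩ :=
    (Scheme.IsQuasiAffine.isBasis_basicOpen X).exists_subset_of_mem_open hxU U.2
  obtain ⟨e⟩ := IsTrivOn.of_le (show X.basicOpen h ≤ U from hhU) hT
  obtain ⟨w, hw⟩ := exists_extend_section_basicOpen hL h e.inv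
  have h1 : CohB1.genLocus _ e.inv = ⊤ := by
    rw [genLocus_eq_top_iff]; infer_instance
  rw [h1, Scheme.Opens.ι_image_top] at hw
  refine ⟨w, ?_, ?_⟩
  · rw [hw]; exact hxh
  · rw [hw]; exact le_trans (show X.basicOpen h ≤ U from hhU) hUV

/-- Prime avoidance for sections of an invertible module on a quasi-affine scheme. -/
theorem exists_section_finite {X : Scheme.{u}} [X.IsQuasiAffine] {L : X.Modules}
    (hL : PicF.IsInvertible L) (Z : Finset X) :
    ∀ (U : X.Opens), (↑Z : Set X) ⊆ U →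
      ∃ s : Coh.structureModule X ⟶ L, (↑Z : Set X) ⊆ CohB1.genLocus L s ∧
        CohB1.genLocus L s ≤ U := by
  classical
  induction Z using Finset.strongInduction with
  | H Z ih =>
    intro U hZU
    rcases Z.eq_empty_or_nonempty with rfl | hne
    · exact ⟨0, by simp, by rw [genLocus_zero hL]; exact bot_le⟩
    · let _ := specializationPreorder X
      obtain ⟨z, hz⟩ := Z.exists_maximal hne
      have hzZ : z ∈ Z := hz.prop
      have hgen : ∀ y ∈ Z, y ≠ z → z ∉ closure ({y} : Set X) := by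
        intro y hy hyz hmem
        have h1 : y ⤳ z := specializes_iff_mem_closure.mpr hmem
        have h2 : z ⤳ y := hz.le_of_ge hy h1
        exact hyz (h1.antisymm h2).eq
      obtain ⟨s₀, hZs₀, hs₀U⟩ := ih (Z.erase z) (Finset.erase_ssubset hzZ) U
        (fun y hy => hZU (Finset.mem_of_mem_erase (Finset.mem_coe.mp hy)))
      by_cases hzs₀ : z ∈ CohB1.genLocus L s₀
      · refine ⟨s₀, fun y hy => ?_, hs₀U⟩
        by_cases hyz : y = z
        · rw [hyz]; exact hzs₀
        · exact hZs₀ (Finset.mem_coe.mpr (Finset.mem_erase.mpr ⟨hyz, Finset.mem_coe.mp hy⟩))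
      · let V : X.Opens := U ⊓ ⟨(⋃ y ∈ Z.erase z, closure ({y} : Set X))ᶜ,
          (isClosed_biUnion_finset fun y _ => isClosed_closure).isOpen_compl⟩
        have hzV : z ∈ V := by
          refine ⟨hZU (Finset.mem_coe.mpr hzZ), ?_⟩
          change z ∉ ⋃ y ∈ Z.erase z, closure ({y} : Set X)
          simp only [Set.mem_iUnion, not_exists]
          intro y hy
          exact hgen y (Finset.mem_of_mem_erase hy) (Finset.ne_of_mem_erase hy)
        obtain ⟨s₁, hzs₁, hs₁V⟩ := exists_section_single hL V z hzV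
        refine ⟨s₀ + s₁, fun y hy => ?_,
          (genLocus_add_le hL s₀ s₁).trans (sup_le hs₀U (hs₁V.trans inf_le_left))⟩
        by_cases hyz : y = z
        · rw [hyz, add_comm]; exact mem_genLocus_add hL s₁ s₀ hzs₁ hzs₀
        · have hye : y ∈ Z.erase z := Finset.mem_erase.mpr ⟨hyz, Finset.mem_coe.mp hy⟩
          refine mem_genLocus_add hL s₀ s₁ (hZs₀ (Finset.mem_coe.mpr hye)) (fun hys₁ => ?_)
          have : y ∉ ⋃ y' ∈ Z.erase z, closure ({y'} : Set X) := (hs₁V hys₁).2
          apply this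
          simp only [Set.mem_iUnion]
          exact ⟨y, hye, subset_closure rfl⟩

/-- Prime avoidance on a quasi-affine scheme: a finite set inside an open `V` lies in an affine
basic open `D(g) ⊆ V`. -/
theorem exists_basicOpen_finite_le (Y : Scheme.{u}) [Y.IsQuasiAffine] (Z : Finset Y) (V : Y.Opens)
    (hZV : (↑Z : Set Y) ⊆ V) :
    ∃ g : Γ(Y, ⊤), (↑Z : Set Y) ⊆ Y.basicOpen g ∧ Y.basicOpen g ≤ V ∧
      IsAffineOpen (Y.basicOpen g) := by
  classical
  rcases Z.eq_empty_or_nonempty with rfl | ⟨z₀, hz₀⟩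
  · exact ⟨0, by simp, by rw [Y.basicOpen_zero]; exact bot_le,
      by rw [Y.basicOpen_zero]; exact isAffineOpen_bot Y⟩
  let j := Y.toSpecΓ
  let R : (Spec Γ(Y, ⊤)).Opens := j ''ᵁ V
  let 𝔞 : Ideal Γ(Y, ⊤) := PrimeSpectrum.vanishingIdeal ((R : Set (Spec Γ(Y, ⊤)))ᶜ)
  have hzl : PrimeSpectrum.zeroLocus (𝔞 : Set Γ(Y, ⊤)) = (R : Set (Spec Γ(Y, ⊤)))ᶜ := by
    rw [PrimeSpectrum.zeroLocus_vanishingIdeal_eq_closure]
    exact R.isOpen.isClosed_compl.closure_eq
  have hnot : ∀ z ∈ Z, ¬ 𝔞 ≤ (j z).asIdeal := by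
    intro z hzZ hle
    have h1 : j z ∈ PrimeSpectrum.zeroLocus (𝔞 : Set Γ(Y, ⊤)) :=
      (PrimeSpectrum.mem_zeroLocus _ _).mpr hle
    rw [hzl] at h1
    exact h1 ⟨z, hZV (Finset.mem_coe.mpr hzZ), rfl⟩
  have havoid : ¬ ((𝔞 : Set Γ(Y, ⊤)) ⊆ ⋃ z ∈ (↑Z : Set Y), ((j z).asIdeal : Set Γ(Y, ⊤))) := by
    intro h
    rw [Ideal.subset_union_prime (s := Z) (f := fun z => (j z).asIdeal) z₀ z₀
      (fun z _ _ _ => (j z).isPrime)] at h
    obtain ⟨z, hz, hle⟩ := h
    exact hnot z hz hle
  obtain ⟨g, hg𝔞, hgnot⟩ := Set.not_subset.mp havoid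
  have hgz : ∀ z ∈ Z, g ∉ (j z).asIdeal := by
    intro z hz hmem
    apply hgnot
    simp only [Set.mem_iUnion]
    exact ⟨z, Finset.mem_coe.mpr hz, hmem⟩
  have hDR : PrimeSpectrum.basicOpen g ≤ R := by
    intro q hq
    by_contra hqR
    have : q ∈ PrimeSpectrum.zeroLocus (𝔞 : Set Γ(Y, ⊤)) := by rw [hzl]; exact hqR
    exact hq ((PrimeSpectrum.mem_zeroLocus _ _).mp this hg𝔞)
  refine ⟨g, ?_, ?_, ?_⟩
  · intro z hz
    rw [← Y.toSpecΓ_preimage_basicOpen g]
    exact hgz z (Finset.mem_coe.mp hz)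
  · rw [← Y.toSpecΓ_preimage_basicOpen g]
    intro y hy
    obtain ⟨y', hy'V, hy'⟩ := hDR hy
    have : y' = y := j.isOpenEmbedding.injective hy'
    rw [← this]; exact hy'V
  · rw [← Y.toSpecΓ_preimage_basicOpen g]
    exact (IsAffineOpen.Spec_basicOpen g).preimage_of_isOpenImmersion j
      (hDR.trans (by
        rintro _ ⟨y, -, rfl⟩
        exact ⟨y, rfl⟩))

/-- Let `X` be a quasi-affine scheme, `L` an invertible `O_X`-module, `W ⊆ X` open and `E ⊆ W` finite.
Then there is a global section `s` of `L` with `X_s` affine and `E ⊆ X_s ⊆ W`. -/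
theorem result {X : Scheme.{u}} [X.IsQuasiAffine] (L : X.Modules) (hL : PicF.IsInvertible L)
    (W : X.Opens) (E : Set X) (hE : E.Finite) (hEW : E ⊆ W) :
    ∃ s : Coh.structureModule X ⟶ L, IsAffineOpen (CohB1.genLocus L s) ∧ E ⊆ CohB1.genLocus L s ∧
      CohB1.genLocus L s ≤ W := by
  classical
  obtain ⟨s, hEs, hsW⟩ := exists_section_finite hL hE.toFinset W (by simpa using hEW)
  have hEs' : E ⊆ CohB1.genLocus L s := by simpa using hEs
  obtain ⟨g, hEg, hgs, haff⟩ := exists_basicOpen_finite_le X hE.toFinset (CohB1.genLocus L s)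
    (by simpa using hEs')
  have hEg' : E ⊆ X.basicOpen g := by simpa using hEg
  have hloc : CohB1.genLocus L (fnHom g ≫ s) = X.basicOpen g := by
    rw [genLocus_fnHom_comp hL, inf_eq_left]; exact hgs
  refine ⟨fnHom g ≫ s, ?_, ?_, ?_⟩
  · rw [hloc]; exact haff
  · rw [hloc]; exact hEg'
  · rw [hloc]; exact hgs.trans hsW

end Groth.Agent.S2127
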