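import Groth.Statements.S13116
import Groth.Agent.S2127

set_option autoImplicit false
universe u
open HilbChow

namespace Groth.Agent.S13116

open CategoryTheory CategoryTheory.Limits AlgebraicGeometry in
/-- Let k be a field, X an integral scheme smooth over k that is a closed subscheme of a projective
space over k, R a discrete valuation ring containing k, Z a subscheme of X ×_k Spec R which is
finite over Spec R, and L an invertible module on X. Then the pullback of L to Z along Z → X ×_k
Spec R → X is isomorphic to the structure sheaf of Z (an isomorphism exists; none is singled out). -/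
theorem result
    {k : Type u} [Field k] {X : Scheme.{u}} (sX : X ⟶ Spec (CommRingCat.of k))
    [IsIntegral X] [Smooth sX] (hproj : RelProj.IsHProjective sX)
    (R : Type u) [CommRing R] [IsDomain R] [IsDiscreteValuationRing R] [Algebra k R]
    {Z : Scheme.{u}}
    (i : Z ⟶ pullback sX (Spec.map (CommRingCat.ofHom (algebraMap k R)))) [IsImmersion i]
    [IsFinite (i ≫ pullback.snd sX (Spec.map (CommRingCat.ofHom (algebraMap k R))))]
    (L : X.Modules) (hL : PicF.IsInvertible L) :
    Nonempty ((Scheme.Modules.pullback
        (i ≫ pullback.fst sX (Spec.map (CommRingCat.ofHom (algebraMap k R))))).obj L ≅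
      Coh.structureModule Z) := by
  classical
  set g := i ≫ pullback.snd sX (Spec.map (CommRingCat.ofHom (algebraMap k R))) with hg
  set q := i ≫ pullback.fst sX (Spec.map (CommRingCat.ofHom (algebraMap k R))) with hq
  have hL' : PicF.IsInvertible ((Scheme.Modules.pullback q).obj L) :=
    Groth.Agent.Lib.helper11.InvMod.isInvertible_pullback q hL
  have : IsAffine Z := isAffine_of_isAffineHom g
  have hfin : {z : Z | IsClosed ({z} : Set Z)}.Finite := by
    refine (g.finite_preimage_singleton (IsLocalRing.closedPoint R)).subset ?_
    intro z hz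
    have h1 : IsClosed (g '' {z}) := g.isClosedMap _ hz
    rw [Set.image_singleton] at h1
    have h2 : (g z : PrimeSpectrum R).asIdeal.IsMaximal :=
      (PrimeSpectrum.isClosed_singleton_iff_isMaximal (g z : PrimeSpectrum R)).mp h1
    show g z = IsLocalRing.closedPoint R
    exact PrimeSpectrum.ext (IsLocalRing.eq_maximalIdeal h2)
  obtain ⟨s, -, hE, -⟩ := Groth.Agent.S2127.result _ hL' ⊤ _ hfin (by intro x _; trivial)
  have htop : CohB1.genLocus _ s = ⊤ := by
    by_contra hne
    have hne' : ((CohB1.genLocus _ s : Set Z)ᶜ).Nonempty := by
      rw [Set.nonempty_compl]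
      intro h
      exact hne (TopologicalSpace.Opens.ext h)
    obtain ⟨x, hx, hxc⟩ := IsClosed.exists_closed_singleton
      (CohB1.genLocus _ s).isOpen.isClosed_compl hne'
    exact hx (hE hxc)
  have := (Groth.Agent.Lib.helper11.IsoLocus.genLocus_eq_top_iff _ s).mp htop
  exact ⟨(asIso s).symm⟩

end Groth.Agent.S13116
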