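import Groth.Statements.S13117
import Mathlib
import Groth.Agent.Lib.Helper22.NormPi

set_option autoImplicit false
universe u
open HilbChow

namespace Groth.Agent.S13117

section aux
open Groth.Agent.Lib.helper22.NormPi

theorem main13117 (k A : Type u) [Field k] [IsAlgClosed k] [CommRing A] [Algebra k A]
    [Module.Finite k A] (f : A) :
    Algebra.norm k f =
      ∏ᶠ φ : A →ₐ[k] k, φ f ^ Module.finrank k (Localization.AtPrime (Ideal.comap φ ⊥)) := by
  classical
  have hart : IsArtinianRing A := IsArtinianRing.of_finite k A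
  have : Fintype (MaximalSpectrum A) := Fintype.ofFinite _
  have hfin : ∀ m : MaximalSpectrum A, Module.Finite k (Localization.AtPrime m.asIdeal) := fun m =>
    Module.Finite.of_surjective
      ((IsScalarTower.toAlgHom k A (Localization.AtPrime m.asIdeal)).toLinearMap)
      (IsArtinianRing.localization_surjective m.asIdeal.primeCompl _)
  let e : A ≃ₐ[k] MaximalSpectrum.PiLocalization A :=
    (MaximalSpectrum.toPiLocalizationEquiv A).restrictScalars k
  have h1 : Algebra.norm k f = ∏ m : MaximalSpectrum A,
      Algebra.norm k (algebraMap A (Localization.AtPrime m.asIdeal) f) := by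
    rw [← Algebra.norm_eq_of_algEquiv e f, norm_pi']
    rfl
  -- the map from points to maximal ideals
  have hmax : ∀ φ : A →ₐ[k] k, (Ideal.comap φ ⊥ : Ideal A).IsMaximal := by
    intro φ
    have hsurj : Function.Surjective (φ : A →+* k) := fun c => ⟨algebraMap k A c, by simp⟩
    exact RingHom.ker_isMaximal_of_surjective (φ : A →+* k) hsurj
  let Ψ : (A →ₐ[k] k) → MaximalSpectrum A := fun φ => ⟨Ideal.comap φ ⊥, hmax φ⟩
  have hΨinj : Function.Injective Ψ := by
    intro φ ψ h
    have hI : (Ideal.comap φ ⊥ : Ideal A) = Ideal.comap ψ ⊥ := congrArg MaximalSpectrum.asIdeal h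
    ext a
    have h2 : a - algebraMap k A (φ a) ∈ (Ideal.comap φ ⊥ : Ideal A) := by
      rw [Ideal.mem_comap, Ideal.mem_bot]
      simp
    rw [hI, Ideal.mem_comap, Ideal.mem_bot] at h2
    simp only [map_sub, AlgHom.commutes, Algebra.algebraMap_self, RingHom.id_apply] at h2
    exact (sub_eq_zero.mp h2).symm
  have hΨsurj : Function.Surjective Ψ := by
    intro m
    have : m.asIdeal.IsMaximal := m.isMaximal
    let _ : Field (A ⧸ m.asIdeal) := Ideal.Quotient.field m.asIdeal
    have hint : Algebra.IsIntegral k (A ⧸ m.asIdeal) := inferInstance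
    have hbij : Function.Bijective (algebraMap k (A ⧸ m.asIdeal)) :=
      IsAlgClosed.algebraMap_bijective_of_isIntegral
    let ε : k ≃ₐ[k] (A ⧸ m.asIdeal) := AlgEquiv.ofBijective (Algebra.ofId k (A ⧸ m.asIdeal)) hbij
    refine ⟨(ε.symm : (A ⧸ m.asIdeal) →ₐ[k] k).comp (Ideal.Quotient.mkₐ k m.asIdeal), ?_⟩
    apply MaximalSpectrum.ext
    ext a
    simp only [Ψ, Ideal.mem_comap, Ideal.mem_bot, AlgHom.comp_apply, Ideal.Quotient.mkₐ_eq_mk]
    rw [← Ideal.Quotient.eq_zero_iff_mem]
    constructor
    · intro h
      have := congrArg ε h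
      simpa using this
    · intro h
      rw [h]
      simp
  have hterm : ∀ φ : A →ₐ[k] k,
      φ f ^ Module.finrank k (Localization.AtPrime (Ideal.comap φ ⊥)) =
      Algebra.norm k (algebraMap A (Localization.AtPrime (Ψ φ).asIdeal) f) := by
    intro φ
    have hfinm := hfin (Ψ φ)
    symm
    apply norm_local
    -- nilpotency
    have h2 : f - algebraMap k A (φ f) ∈ (Ψ φ).asIdeal := by
      show f - algebraMap k A (φ f) ∈ (Ideal.comap φ ⊥ : Ideal A)
      rw [Ideal.mem_comap, Ideal.mem_bot]
      simp
    have h3 : algebraMap A (Localization.AtPrime (Ψ φ).asIdeal) (f - algebraMap k A (φ f)) ∈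
        IsLocalRing.maximalIdeal (Localization.AtPrime (Ψ φ).asIdeal) :=
      (IsLocalization.AtPrime.to_map_mem_maximal_iff _ (Ψ φ).asIdeal _).mpr h2
    have hartm : IsArtinianRing (Localization.AtPrime (Ψ φ).asIdeal) :=
      IsArtinianRing.of_finite k _
    have h4 := IsArtinianRing.isNilpotent_jacobson_bot (R := Localization.AtPrime (Ψ φ).asIdeal)
    rw [IsLocalRing.jacobson_eq_maximalIdeal ⊥ bot_ne_top] at h4
    obtain ⟨n, hn⟩ := h4
    refine ⟨n, ?_⟩
    have h5 := Ideal.pow_mem_pow h3 n
    rw [hn] at h5
    have h6 : algebraMap A (Localization.AtPrime (Ψ φ).asIdeal) f -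
        algebraMap k (Localization.AtPrime (Ψ φ).asIdeal) (φ f) =
        algebraMap A (Localization.AtPrime (Ψ φ).asIdeal) (f - algebraMap k A (φ f)) := by
      rw [map_sub, ← IsScalarTower.algebraMap_apply]
    rw [h6]
    exact h5
  rw [h1, finprod_eq_of_bijective (g := fun m : MaximalSpectrum A =>
    Algebra.norm k (algebraMap A (Localization.AtPrime m.asIdeal) f)) Ψ ⟨hΨinj, hΨsurj⟩ hterm,
    finprod_eq_prod_of_fintype]

end aux

/-- Let k be an algebraically closed field, A a finite-dimensional commutative k-algebra (the coordinate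
ring of a zero-dimensional subscheme Z of length dim_k A) and f ∈ A. Then the determinant of
multiplication by f on A is the product over the points x of Z — the k-algebra homomorphisms A → k —
of the value f(x) raised to the length of the local ring of Z at x, that length being the
k-dimension of the localisation of A at the corresponding maximal ideal. This is the formula by
which the Hilbert-to-Chow morphism for zero-cycles sends Z to its fundamental cycle Σ ℓ(O_{Z,x})[x]. -/
theorem result
    (k A : Type u) [Field k] [IsAlgClosed k] [CommRing A] [Algebra k A] [Module.Finite k A] (f : A) :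
    Algebra.norm k f =
      ∏ᶠ φ : A →ₐ[k] k, φ f ^ Module.finrank k (Localization.AtPrime (Ideal.comap φ ⊥)) := by
  exact main13117 k A f

end Groth.Agent.S13117
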