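import Groth.Statements.S13120
import Mathlib
import Groth.Agent.Lib.Helper13.Par2
-- import your own Groth.Agent.* helpers here

set_option autoImplicit false
universe u
open KumFam

namespace Groth.Agent.S13120

open MvPolynomial Groth.Agent.Lib.helper13 in
theorem cusp_form {R : Type u} [CommRing R] (a : MvPolynomial (Fin 2) R)
    (ha : a ∈ Algebra.adjoin R
      ({X 0 ^ 2, X 0 ^ 3, X 1 ^ 2, X 1 ^ 3} : Set (MvPolynomial (Fin 2) R))) :
    ∃ a0 a1 a2 a3 : MvPolynomial (Fin 2) R,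
      a = expand 2 a0 + X 0 ^ 3 * expand 2 a1 + X 1 ^ 3 * expand 2 a2
        + X 0 ^ 3 * X 1 ^ 3 * expand 2 a3 := by
  induction ha using Algebra.adjoin_induction with
  | mem x hx =>
    simp only [Set.mem_insert_iff, Set.mem_singleton_iff] at hx
    rcases hx with rfl | rfl | rfl | rfl
    · exact ⟨X 0, 0, 0, 0, by simp⟩
    · exact ⟨0, 1, 0, 0, by simp⟩
    · exact ⟨X 1, 0, 0, 0, by simp⟩
    · exact ⟨0, 0, 1, 0, by simp⟩
  | algebraMap r => exact ⟨C r, 0, 0, 0, by simp [algebraMap_eq]⟩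
  | add x y hx hy ihx ihy =>
    obtain ⟨a0, a1, a2, a3, rfl⟩ := ihx
    obtain ⟨b0, b1, b2, b3, rfl⟩ := ihy
    exact ⟨a0 + b0, a1 + b1, a2 + b2, a3 + b3, by simp only [map_add]; ring⟩
  | mul x y hx hy ihx ihy =>
    obtain ⟨a0, a1, a2, a3, rfl⟩ := ihx
    obtain ⟨b0, b1, b2, b3, rfl⟩ := ihy
    exact ⟨a0 * b0 + X 0 ^ 3 * a1 * b1 + X 1 ^ 3 * a2 * b2 + X 0 ^ 3 * X 1 ^ 3 * a3 * b3,
      a0 * b1 + a1 * b0 + X 1 ^ 3 * (a2 * b3 + a3 * b2),
      a0 * b2 + a2 * b0 + X 0 ^ 3 * (a1 * b3 + a3 * b1),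
      a0 * b3 + a3 * b0 + a1 * b2 + a2 * b1,
      by simp only [map_add, map_mul, map_pow, expand_X]; ring⟩

open MvPolynomial Groth.Agent.Lib.helper13 in
theorem main {R : Type u} [CommRing R] [CharP R 2] (L S : MvPolynomial (Fin 2) R) (τ : R)
    (hτ : IsUnit τ) (a : MvPolynomial (Fin 2) R)
    (ha : a ∈ Algebra.adjoin R
      ({X 0 ^ 2, X 0 ^ 3, X 1 ^ 2, X 1 ^ 3} : Set (MvPolynomial (Fin 2) R))) :
    mkDerivation R (![expand 2 (X 1 * L) + X 0 * expand 2 (C τ * X 0 * X 1),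
        expand 2 (X 0 * S) + X 1 * expand 2 (C τ * X 0 * X 1)] :
        Fin 2 → MvPolynomial (Fin 2) R) a = 0 ↔
      a ∈ Algebra.adjoin R ({X 0 ^ 2, X 1 ^ 2,
        X 0 * expand 2 (X 0 * S) + X 1 * expand 2 (X 1 * L)
          + X 0 * X 1 * expand 2 (C τ * X 0 * X 1)} : Set (MvPolynomial (Fin 2) R)) := by
  constructor
  · intro h
    obtain ⟨a0, a1, a2, a3, rfl⟩ := cusp_form a ha
    have hform : expand 2 a0 + X 0 ^ 3 * expand 2 a1 + X 1 ^ 3 * expand 2 a2
        + X 0 ^ 3 * X 1 ^ 3 * expand 2 a3 =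
        expand 2 a0 + X 0 * expand 2 (X 0 * a1) + X 1 * expand 2 (X 1 * a2)
        + X 0 * X 1 * expand 2 (X 0 * X 1 * a3) := by
      simp only [map_mul, expand_X]; ring
    rw [hform] at h
    obtain ⟨hb, hc⟩ := Par2.D_eq_zero _ _ _ _ _ _ _ h
    have hb1 : C τ * a1 + a3 * S = 0 := by
      have e1 : X 0 * a1 * (C τ * X 0 * X 1) + X 0 * X 1 * a3 * (X 0 * S) =
          (C τ * a1 + a3 * S) * X 0 * X 0 * X 1 := by ring
      rw [e1] at hb
      have h1 := (isRegular_X (R := R) (n := (1 : Fin 2))).right (by simpa using hb)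
      have h2 := (isRegular_X (R := R) (n := (0 : Fin 2))).right (by simpa using h1)
      exact (isRegular_X (R := R) (n := (0 : Fin 2))).right (by simpa using h2)
    have hc1 : C τ * a2 + a3 * L = 0 := by
      have e1 : X 1 * a2 * (C τ * X 0 * X 1) + X 0 * X 1 * a3 * (X 1 * L) =
          (C τ * a2 + a3 * L) * X 0 * X 1 * X 1 := by ring
      rw [e1] at hc
      have h1 := (isRegular_X (R := R) (n := (1 : Fin 2))).right (by simpa using hc)
      have h2 := (isRegular_X (R := R) (n := (1 : Fin 2))).right (by simpa using h1)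
      exact (isRegular_X (R := R) (n := (0 : Fin 2))).right (by simpa using h2)
    obtain ⟨τi, hτi⟩ := hτ.exists_right_inv
    have hτ' : (C τ * C τi : MvPolynomial (Fin 2) R) = 1 := by rw [← C_mul, hτi, C_1]
    have h2 := Par2.two_eq_zero (R := R)
    have hb' : C τ * expand 2 a1 + expand 2 a3 * expand 2 S = 0 := by
      have := congrArg (expand 2) hb1
      simpa only [map_add, map_mul, expand_C, map_zero] using this
    have hc' : C τ * expand 2 a2 + expand 2 a3 * expand 2 L = 0 := by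
      have := congrArg (expand 2) hc1
      simpa only [map_add, map_mul, expand_C, map_zero] using this
    have hEq : expand 2 a0 + X 0 ^ 3 * expand 2 a1 + X 1 ^ 3 * expand 2 a2
        + X 0 ^ 3 * X 1 ^ 3 * expand 2 a3 =
        expand 2 a0 + algebraMap R _ τi * expand 2 a3 *
          (X 0 * expand 2 (X 0 * S) + X 1 * expand 2 (X 1 * L)
            + X 0 * X 1 * expand 2 (C τ * X 0 * X 1)) := by
      simp only [map_mul, expand_X, expand_C, algebraMap_eq]
      linear_combination (X 0 ^ 3 * C τi) * hb' + (X 1 ^ 3 * C τi) * hc' -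
        (X 0 ^ 3 * expand 2 a1 + X 1 ^ 3 * expand 2 a2 + X 0 ^ 3 * X 1 ^ 3 * expand 2 a3) * hτ' -
        (C τi * expand 2 a3 * X 0 ^ 3 * expand 2 S + C τi * expand 2 a3 * X 1 ^ 3 * expand 2 L) * h2
    rw [hEq]
    have hE : ∀ q : MvPolynomial (Fin 2) R, expand 2 q ∈ Algebra.adjoin R ({X 0 ^ 2, X 1 ^ 2,
        X 0 * expand 2 (X 0 * S) + X 1 * expand 2 (X 1 * L)
          + X 0 * X 1 * expand 2 (C τ * X 0 * X 1)} : Set (MvPolynomial (Fin 2) R)) :=
      fun q => Par2.expand_mem_adjoin _ (by simp) (by simp) q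
    refine add_mem (hE a0) (mul_mem (mul_mem (Subalgebra.algebraMap_mem _ τi) (hE a3)) ?_)
    exact Algebra.subset_adjoin (by simp)
  · intro h
    clear ha
    induction h using Algebra.adjoin_induction with
    | mem x hx =>
      simp only [Set.mem_insert_iff, Set.mem_singleton_iff] at hx
      rcases hx with rfl | rfl | rfl
      · have := Par2.deriv_expand (mkDerivation R (![expand 2 (X 1 * L) + X 0 * expand 2 (C τ * X 0 * X 1),
          expand 2 (X 0 * S) + X 1 * expand 2 (C τ * X 0 * X 1)] :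
          Fin 2 → MvPolynomial (Fin 2) R)) (X 0)
        rwa [expand_X] at this
      · have := Par2.deriv_expand (mkDerivation R (![expand 2 (X 1 * L) + X 0 * expand 2 (C τ * X 0 * X 1),
          expand 2 (X 0 * S) + X 1 * expand 2 (C τ * X 0 * X 1)] :
          Fin 2 → MvPolynomial (Fin 2) R)) (X 1)
        rwa [expand_X] at this
      · exact Par2.D_w _ _ _
    | algebraMap r => exact Derivation.map_algebraMap _ r
    | add x y hx hy ihx ihy => rw [map_add, ihx, ihy, add_zero]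
    | mul x y hx hy ihx ihy => rw [Derivation.leibniz, ihx, ihy, smul_zero, smul_zero, add_zero]


open MvPolynomial in
/-- Let R be a commutative ring of characteristic 2 and l0, l2, l4, s0, s2, s4, τ ∈ R with τ a unit.
Inside R[u, v] (u = X 0, v = X 1) let A = R[u², u³, v², v³] be the coordinate ring of the product of
two cuspidal curves, and let D be the R-derivation of R[u, v] with D(u) = v²(l0 u⁴ + τ u³ + l2 u² +
l4) and D(v) = u²(s0 v⁴ + τ v³ + s2 v² + s4); D is u²v² times the rational vector field (l0 u² + τ u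
+ l2 + l4 u⁻²) ∂_u + (s0 v² + τ v + s2 + s4 v⁻²) ∂_v, which maps A into itself, and u²v² is a
non-zero-divisor, so the kernel of that vector field on A is the set of a ∈ A with D(a) = 0. Then
for a ∈ A: D(a) = 0 if and only if a ∈ R[u², v², g], where g = (s0 v⁴ + s2 v² + s4) u³ + (l0 u⁴ + l2
u² + l4) v³ + τ u³ v³. (The published statement identifies this kernel with the ring of invariants
of the corresponding action of the group scheme of square roots of unity; this row states the kernel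
computation that is actually carried out.) -/
theorem result (R : Type u) [CommRing R] [CharP R 2]
    (l0 l2 l4 s0 s2 s4 τ : R) (hτ : IsUnit τ) (a : MvPolynomial (Fin 2) R)
    (ha : a ∈ Algebra.adjoin R
      ({X 0 ^ 2, X 0 ^ 3, X 1 ^ 2, X 1 ^ 3} : Set (MvPolynomial (Fin 2) R))) :
    MvPolynomial.mkDerivation R
        (![X 1 ^ 2 * (C l0 * X 0 ^ 4 + C τ * X 0 ^ 3 + C l2 * X 0 ^ 2 + C l4),
          X 0 ^ 2 * (C s0 * X 1 ^ 4 + C τ * X 1 ^ 3 + C s2 * X 1 ^ 2 + C s4)] :
          Fin 2 → MvPolynomial (Fin 2) R) a = 0 ↔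
      a ∈ Algebra.adjoin R
        ({X 0 ^ 2, X 1 ^ 2,
          (C s0 * X 1 ^ 4 + C s2 * X 1 ^ 2 + C s4) * X 0 ^ 3 +
            (C l0 * X 0 ^ 4 + C l2 * X 0 ^ 2 + C l4) * X 1 ^ 3 +
            C τ * X 0 ^ 3 * X 1 ^ 3} : Set (MvPolynomial (Fin 2) R)) := by
  classical
  open MvPolynomial Groth.Agent.Lib.helper13 in
  have hD : (![X 1 ^ 2 * (C l0 * X 0 ^ 4 + C τ * X 0 ^ 3 + C l2 * X 0 ^ 2 + C l4),
          X 0 ^ 2 * (C s0 * X 1 ^ 4 + C τ * X 1 ^ 3 + C s2 * X 1 ^ 2 + C s4)] :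
          Fin 2 → MvPolynomial (Fin 2) R) =
      ![expand 2 (X 1 * (C l0 * X 0 ^ 2 + C l2 * X 0 + C l4)) + X 0 * expand 2 (C τ * X 0 * X 1),
        expand 2 (X 0 * (C s0 * X 1 ^ 2 + C s2 * X 1 + C s4)) + X 1 * expand 2 (C τ * X 0 * X 1)] := by
    funext i
    fin_cases i
    · simp only [map_mul, map_add, map_pow, expand_X, expand_C, Fin.zero_eta, Matrix.cons_val_zero]
      ring
    · simp only [map_mul, map_add, map_pow, expand_X, expand_C, Fin.mk_one, Matrix.cons_val_one]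
      ring
  open MvPolynomial in
  have hw : ((C s0 * X 1 ^ 4 + C s2 * X 1 ^ 2 + C s4) * X 0 ^ 3 +
            (C l0 * X 0 ^ 4 + C l2 * X 0 ^ 2 + C l4) * X 1 ^ 3 +
            C τ * X 0 ^ 3 * X 1 ^ 3 : MvPolynomial (Fin 2) R) =
      X 0 * expand 2 (X 0 * (C s0 * X 1 ^ 2 + C s2 * X 1 + C s4)) +
        X 1 * expand 2 (X 1 * (C l0 * X 0 ^ 2 + C l2 * X 0 + C l4)) +
        X 0 * X 1 * expand 2 (C τ * X 0 * X 1) := by
    simp only [map_mul, map_add, map_pow, expand_X, expand_C]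
    ring
  rw [hD, hw]
  exact main _ _ τ hτ a ha

end Groth.Agent.S13120
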