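import Groth.Statements.S13121
import Mathlib
import Groth.Agent.Lib.Helper13.Par2
-- import your own Groth.Agent.* helpers here

set_option autoImplicit false
universe u
open KumFam

namespace Groth.Agent.S13121

open MvPolynomial Groth.Agent.Lib.helper13 in
theorem cancel_tXY {R : Type u} [CommRing R] (τ : R) (hτ : IsUnit τ) (q : MvPolynomial (Fin 2) R)
    (h : q * (C τ * X 0 * X 1) = 0) : q = 0 := by
  obtain ⟨τi, hτi⟩ := hτ.exists_right_inv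
  have h1 : q * X 0 * X 1 = 0 := by
    have hc : (C τ * C τi : MvPolynomial (Fin 2) R) = 1 := by rw [← C_mul, hτi, C_1]
    linear_combination (C τi) * h - (q * X 0 * X 1) * hc
  have h2 : q * X 0 = 0 := (isRegular_X (R := R) (n := (1 : Fin 2))).right (by simpa using h1)
  exact (isRegular_X (R := R) (n := (0 : Fin 2))).right (by simpa using h2)


open MvPolynomial in
/-- Let R be a commutative ring of characteristic 2 and l0, l2, l4, s0, s2, s4, τ ∈ R with τ a unit. In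
R[u, v] (u = X 0, v = X 1) put g = (s0 v⁴ + s2 v² + s4) u³ + (l0 u⁴ + l2 u² + l4) v³ + τ u³ v³. Then
the kernel of the R-algebra homomorphism R[a, b, c] → R[u, v] (a = X 0, b = X 1, c = X 2) with a ↦
u², b ↦ v², c ↦ g is the ideal generated by c² + s0² a³ b⁴ + s2² a³ b² + s4² a³ + l0² a⁴ b³ + l2² a²
b³ + l4² b³ + τ² a³ b³; its image is the subalgebra R[u², v², g], which is therefore presented by
this one equation. -/
theorem result (R : Type u) [CommRing R] [CharP R 2]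
    (l0 l2 l4 s0 s2 s4 τ : R) (hτ : IsUnit τ) :
    RingHom.ker (MvPolynomial.aeval (R := R) (S₁ := MvPolynomial (Fin 2) R)
        ![X 0 ^ 2, X 1 ^ 2,
          (C s0 * X 1 ^ 4 + C s2 * X 1 ^ 2 + C s4) * X 0 ^ 3 +
            (C l0 * X 0 ^ 4 + C l2 * X 0 ^ 2 + C l4) * X 1 ^ 3 +
            C τ * X 0 ^ 3 * X 1 ^ 3]) =
      Ideal.span {(X 2 ^ 2 + C (s0 ^ 2) * X 0 ^ 3 * X 1 ^ 4 + C (s2 ^ 2) * X 0 ^ 3 * X 1 ^ 2 +
        C (s4 ^ 2) * X 0 ^ 3 + C (l0 ^ 2) * X 0 ^ 4 * X 1 ^ 3 + C (l2 ^ 2) * X 0 ^ 2 * X 1 ^ 3 +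
        C (l4 ^ 2) * X 1 ^ 3 + C (τ ^ 2) * X 0 ^ 3 * X 1 ^ 3 : MvPolynomial (Fin 3) R)} := by
  classical
  open MvPolynomial Groth.Agent.Lib.helper13 in
  have hker := Par2.ker_eq_span (R := R) 0 (X 0 * (C s0 * X 1 ^ 2 + C s2 * X 1 + C s4))
    (X 1 * (C l0 * X 0 ^ 2 + C l2 * X 0 + C l4)) (C τ * X 0 * X 1)
    (C (s0 ^ 2) * X 0 ^ 3 * X 1 ^ 4 + C (s2 ^ 2) * X 0 ^ 3 * X 1 ^ 2 +
        C (s4 ^ 2) * X 0 ^ 3 + C (l0 ^ 2) * X 0 ^ 4 * X 1 ^ 3 + C (l2 ^ 2) * X 0 ^ 2 * X 1 ^ 3 +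
        C (l4 ^ 2) * X 1 ^ 3 + C (τ ^ 2) * X 0 ^ 3 * X 1 ^ 3)
    (cancel_tXY τ hτ)
    (by
      simp only [map_zero, map_mul, map_add, map_pow, expand_X, expand_C, zero_add, C_pow]
      simp only [add_pow_char, mul_pow]
      ring)
  open MvPolynomial in
  have hw : ((C s0 * X 1 ^ 4 + C s2 * X 1 ^ 2 + C s4) * X 0 ^ 3 +
            (C l0 * X 0 ^ 4 + C l2 * X 0 ^ 2 + C l4) * X 1 ^ 3 +
            C τ * X 0 ^ 3 * X 1 ^ 3 : MvPolynomial (Fin 2) R) =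
      expand 2 0 + X 0 * expand 2 (X 0 * (C s0 * X 1 ^ 2 + C s2 * X 1 + C s4)) +
        X 1 * expand 2 (X 1 * (C l0 * X 0 ^ 2 + C l2 * X 0 + C l4)) +
        X 0 * X 1 * expand 2 (C τ * X 0 * X 1) := by
    simp only [map_zero, map_mul, map_add, map_pow, expand_X, expand_C, zero_add]
    ring
  open MvPolynomial in
  have hF : (X 2 ^ 2 + C (s0 ^ 2) * X 0 ^ 3 * X 1 ^ 4 + C (s2 ^ 2) * X 0 ^ 3 * X 1 ^ 2 +
        C (s4 ^ 2) * X 0 ^ 3 + C (l0 ^ 2) * X 0 ^ 4 * X 1 ^ 3 + C (l2 ^ 2) * X 0 ^ 2 * X 1 ^ 3 +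
        C (l4 ^ 2) * X 1 ^ 3 + C (τ ^ 2) * X 0 ^ 3 * X 1 ^ 3 : MvPolynomial (Fin 3) R) =
      X 2 ^ 2 + rename Fin.castSucc (C (s0 ^ 2) * X 0 ^ 3 * X 1 ^ 4 + C (s2 ^ 2) * X 0 ^ 3 * X 1 ^ 2 +
        C (s4 ^ 2) * X 0 ^ 3 + C (l0 ^ 2) * X 0 ^ 4 * X 1 ^ 3 + C (l2 ^ 2) * X 0 ^ 2 * X 1 ^ 3 +
        C (l4 ^ 2) * X 1 ^ 3 + C (τ ^ 2) * X 0 ^ 3 * X 1 ^ 3 : MvPolynomial (Fin 2) R) := by
    simp only [map_mul, map_add, map_pow, rename_X, rename_C, Fin.castSucc_zero, Fin.castSucc_one]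
    ring
  rw [hw, hF]
  exact hker

end Groth.Agent.S13121
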