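import Groth.Statements.S13122
import Mathlib
import Groth.Agent.Lib.Helper13.Par2
-- import your own Groth.Agent.* helpers here

set_option autoImplicit false
universe u
open KumFam

namespace Groth.Agent.S13122

open MvPolynomial Groth.Agent.Lib.helper13 in
theorem cancel_t {R : Type u} [CommRing R] (τ : R) (hτ : IsUnit τ) (q : MvPolynomial (Fin 2) R)
    (h : q * C τ = 0) : q = 0 := by
  obtain ⟨τi, hτi⟩ := hτ.exists_right_inv
  have hc : (C τ * C τi : MvPolynomial (Fin 2) R) = 1 := by rw [← C_mul, hτi, C_1]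
  linear_combination (C τi) * h - q * hc

open MvPolynomial Groth.Agent.Lib.helper13 in
theorem main {R : Type u} [CommRing R] [CharP R 2] (α β : MvPolynomial (Fin 2) R) (τ : R)
    (hτ : IsUnit τ) (p : MvPolynomial (Fin 2) R) :
    mkDerivation R (![expand 2 α + X 0 * expand 2 (C τ), expand 2 β + X 1 * expand 2 (C τ)] :
        Fin 2 → MvPolynomial (Fin 2) R) p = 0 ↔
      p ∈ (aeval (R := R) (S₁ := MvPolynomial (Fin 2) R) ![X 0 ^ 2, X 1 ^ 2,
        X 0 * expand 2 β + X 1 * expand 2 α + X 0 * X 1 * expand 2 (C τ)]).range := by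
  constructor
  · intro h
    obtain ⟨a, b, c, d, rfl⟩ := Par2.exists_decomp p
    obtain ⟨hb, hc⟩ := Par2.D_eq_zero α β (C τ) a b c d h
    obtain ⟨τi, hτi⟩ := hτ.exists_right_inv
    have hτ' : (C τ * C τi : MvPolynomial (Fin 2) R) = 1 := by rw [← C_mul, hτi, C_1]
    have h2 := Par2.two_eq_zero (R := R)
    have hb' : expand 2 b * C τ + expand 2 d * expand 2 β = 0 := by
      have := congrArg (expand 2) hb
      simpa only [map_add, map_mul, expand_C, map_zero] using this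
    have hc' : expand 2 c * C τ + expand 2 d * expand 2 α = 0 := by
      have := congrArg (expand 2) hc
      simpa only [map_add, map_mul, expand_C, map_zero] using this
    rw [AlgHom.mem_range]
    refine ⟨rename Fin.castSucc a + C τi * rename Fin.castSucc d * X 2, ?_⟩
    rw [map_add, map_mul, map_mul, Par2.aeval_X2, Par2.aeval_rename_castSucc,
      Par2.aeval_rename_castSucc, aeval_C, expand_C]
    simp only [algebraMap_eq]
    linear_combination (-(X 0 * C τi)) * hb' + (-(X 1 * C τi)) * hc' +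
      (X 0 * expand 2 b + X 1 * expand 2 c + X 0 * X 1 * expand 2 d) * hτ' +
      (C τi * expand 2 d * X 0 * expand 2 β + C τi * expand 2 d * X 1 * expand 2 α) * h2
  · intro hp
    rw [AlgHom.mem_range] at hp
    obtain ⟨q, rfl⟩ := hp
    exact Par2.D_aeval _ _ (Par2.D_w α β (C τ)) q


open MvPolynomial in
/-- Let R be a commutative ring of characteristic 2 and l0, l2, l4, s0, s2, s4, τ ∈ R with τ a unit. On
R[x, y] (x = X 0, y = X 1; the coordinates u⁻¹, v⁻¹ of the smooth chart of the product of two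
cuspidal curves) let D be the R-derivation with D(x) = l4 x⁴ + l2 x² + τ x + l0 and D(y) = s4 y⁴ +
s2 y² + τ y + s0, and put h = (s4 y⁴ + s2 y² + s0) x + (l4 x⁴ + l2 x² + l0) y + τ x y. Then: (1) for
p ∈ R[x, y], D(p) = 0 if and only if p lies in the image of the R-algebra homomorphism R[a, b, c] →
R[x, y] (a = X 0, b = X 1, c = X 2) with a ↦ x², b ↦ y², c ↦ h; (2) the kernel of that homomorphism
is the ideal generated by c² + τ² a b + (s4² b⁴ + s2² b² + s0²) a + (l4² a⁴ + l2² a² + l0²) b. (The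
published statement asserts that the ring of invariants of the action of the group scheme of square
roots of unity given by this vector field is R[a, b, c] modulo this equation, by the same
computation as on the other chart; this row pins the generator h and states the kernel computation.) -/
theorem result (R : Type u) [CommRing R]
    [CharP R 2] (l0 l2 l4 s0 s2 s4 τ : R) (hτ : IsUnit τ) :
    (∀ p : MvPolynomial (Fin 2) R,
      MvPolynomial.mkDerivation R
          (![C l4 * X 0 ^ 4 + C l2 * X 0 ^ 2 + C τ * X 0 + C l0,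
            C s4 * X 1 ^ 4 + C s2 * X 1 ^ 2 + C τ * X 1 + C s0] :
            Fin 2 → MvPolynomial (Fin 2) R) p = 0 ↔
        p ∈ (MvPolynomial.aeval (R := R) (S₁ := MvPolynomial (Fin 2) R)
          ![X 0 ^ 2, X 1 ^ 2,
            (C s4 * X 1 ^ 4 + C s2 * X 1 ^ 2 + C s0) * X 0 +
              (C l4 * X 0 ^ 4 + C l2 * X 0 ^ 2 + C l0) * X 1 + C τ * X 0 * X 1]).range) ∧
    RingHom.ker (MvPolynomial.aeval (R := R) (S₁ := MvPolynomial (Fin 2) R)
        ![X 0 ^ 2, X 1 ^ 2,
          (C s4 * X 1 ^ 4 + C s2 * X 1 ^ 2 + C s0) * X 0 +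
            (C l4 * X 0 ^ 4 + C l2 * X 0 ^ 2 + C l0) * X 1 + C τ * X 0 * X 1]) =
      Ideal.span {(X 2 ^ 2 + C (τ ^ 2) * X 0 * X 1 +
        (C (s4 ^ 2) * X 1 ^ 4 + C (s2 ^ 2) * X 1 ^ 2 + C (s0 ^ 2)) * X 0 +
        (C (l4 ^ 2) * X 0 ^ 4 + C (l2 ^ 2) * X 0 ^ 2 + C (l0 ^ 2)) * X 1 : MvPolynomial (Fin 3) R)} := by
  classical
  open MvPolynomial Groth.Agent.Lib.helper13 in
  have hD : (![C l4 * X 0 ^ 4 + C l2 * X 0 ^ 2 + C τ * X 0 + C l0,
            C s4 * X 1 ^ 4 + C s2 * X 1 ^ 2 + C τ * X 1 + C s0] :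
            Fin 2 → MvPolynomial (Fin 2) R) =
      ![expand 2 (C l4 * X 0 ^ 2 + C l2 * X 0 + C l0) + X 0 * expand 2 (C τ),
        expand 2 (C s4 * X 1 ^ 2 + C s2 * X 1 + C s0) + X 1 * expand 2 (C τ)] := by
    funext i
    fin_cases i
    · simp only [map_mul, map_add, map_pow, expand_X, expand_C, Fin.zero_eta, Matrix.cons_val_zero]
      ring
    · simp only [map_mul, map_add, map_pow, expand_X, expand_C, Fin.mk_one, Matrix.cons_val_one]
      ring
  open MvPolynomial in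
  have hw : ((C s4 * X 1 ^ 4 + C s2 * X 1 ^ 2 + C s0) * X 0 +
              (C l4 * X 0 ^ 4 + C l2 * X 0 ^ 2 + C l0) * X 1 + C τ * X 0 * X 1 :
              MvPolynomial (Fin 2) R) =
      X 0 * expand 2 (C s4 * X 1 ^ 2 + C s2 * X 1 + C s0) +
        X 1 * expand 2 (C l4 * X 0 ^ 2 + C l2 * X 0 + C l0) + X 0 * X 1 * expand 2 (C τ) := by
    simp only [map_mul, map_add, map_pow, expand_X, expand_C]
    ring
  open MvPolynomial in
  have hF : (X 2 ^ 2 + C (τ ^ 2) * X 0 * X 1 +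
        (C (s4 ^ 2) * X 1 ^ 4 + C (s2 ^ 2) * X 1 ^ 2 + C (s0 ^ 2)) * X 0 +
        (C (l4 ^ 2) * X 0 ^ 4 + C (l2 ^ 2) * X 0 ^ 2 + C (l0 ^ 2)) * X 1 : MvPolynomial (Fin 3) R) =
      X 2 ^ 2 + rename Fin.castSucc (C (τ ^ 2) * X 0 * X 1 +
        (C (s4 ^ 2) * X 1 ^ 4 + C (s2 ^ 2) * X 1 ^ 2 + C (s0 ^ 2)) * X 0 +
        (C (l4 ^ 2) * X 0 ^ 4 + C (l2 ^ 2) * X 0 ^ 2 + C (l0 ^ 2)) * X 1 : MvPolynomial (Fin 2) R) := by
    simp only [map_mul, map_add, map_pow, rename_X, rename_C, Fin.castSucc_zero, Fin.castSucc_one]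
    ring
  rw [hD, hw, hF]
  refine ⟨fun p => main _ _ τ hτ p, ?_⟩
  open MvPolynomial Groth.Agent.Lib.helper13 in
  have hker := Par2.ker_eq_span (R := R) 0 (C s4 * X 1 ^ 2 + C s2 * X 1 + C s0)
    (C l4 * X 0 ^ 2 + C l2 * X 0 + C l0) (C τ)
    (C (τ ^ 2) * X 0 * X 1 +
        (C (s4 ^ 2) * X 1 ^ 4 + C (s2 ^ 2) * X 1 ^ 2 + C (s0 ^ 2)) * X 0 +
        (C (l4 ^ 2) * X 0 ^ 4 + C (l2 ^ 2) * X 0 ^ 2 + C (l0 ^ 2)) * X 1)
    (cancel_t τ hτ)
    (by
      simp only [map_zero, map_mul, map_add, map_pow, expand_X, expand_C, zero_add]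
      simp only [add_pow_char, mul_pow]
      ring)
  simpa only [map_zero, zero_add] using hker

end Groth.Agent.S13122
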