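import Groth.Statements.S13124
import Mathlib
import Groth.Prelude.Def_GLin
import Groth.Agent.S13359

set_option autoImplicit false
universe u v w
open KumFam

namespace Groth.Agent.S13124

section helpers
open scoped TensorProduct

theorem main (k : Type u) [CommRing k]
    (A : Type v) [CommRing A] [Bialgebra k A] [Module.Flat k A]
    (R : Type w) [CommRing R] [Algebra k R] [IsDomain R] [IsIntegrallyClosed R]
    [HopfRep.Comod k A R] [GLin.IsCoactAlg k A R] :
    IsIntegrallyClosed (GLin.invariants k A R) := by
  classical
  set S := GLin.invariants k A R with hS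
  let K := FractionRing S
  rw [isIntegrallyClosed_iff K]
  intro x hx
  obtain ⟨G, hGm, hG⟩ := hx
  obtain ⟨a, b, hab⟩ := IsLocalization.exists_mk'_eq (nonZeroDivisors S) x
  have hinj : Function.Injective (algebraMap S K) := IsFractionRing.injective S K
  have hb0 : (b : S) ≠ 0 := nonZeroDivisors.coe_ne_zero b
  have hbK : algebraMap S K b ≠ 0 := fun h => hb0 (hinj (h.trans (map_zero _).symm))
  have hxb : x * algebraMap S K b = algebraMap S K a := by
    rw [← hab]; exact IsLocalization.mk'_spec K a b
  set n := G.natDegree with hn
  -- homogenized relation in S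
  have hrelS : ∑ j ∈ Finset.range (n + 1), G.coeff j * a ^ j * (b : S) ^ (n - j) = 0 := by
    apply hinj
    rw [map_zero, map_sum]
    have h1 : (∑ j ∈ Finset.range (n + 1), algebraMap S K (G.coeff j) * x ^ j) *
        (algebraMap S K b) ^ n = 0 := by
      rw [Polynomial.eval₂_eq_sum_range] at hG
      rw [hG, zero_mul]
    rw [Finset.sum_mul] at h1
    refine Eq.trans ?_ h1
    apply Finset.sum_congr rfl
    intro j hj
    have hj' : j ≤ n := Nat.lt_succ_iff.mp (Finset.mem_range.mp hj)
    rw [map_mul, map_mul, map_pow, map_pow, ← hxb]
    have : (algebraMap S K b) ^ n = (algebraMap S K b) ^ j * (algebraMap S K b) ^ (n - j) := by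
      rw [← pow_add]; congr 1; omega
    rw [this]; ring
  -- transfer to R
  have hGR : (G.map S.val.toRingHom).Monic := hGm.map _
  have hnat : (G.map S.val.toRingHom).natDegree = n := hGm.natDegree_map _
  have hbR : ((b : S) : R) ≠ 0 := fun h => hb0 (Subtype.ext h)
  obtain ⟨r, hr⟩ := Groth.Agent.S13359.comp_int (G.map S.val.toRingHom) hGR (a : R) ((b : S) : R) hbR (by
    rw [hnat]
    have h0 := congrArg (S.val) hrelS
    rw [map_zero, map_sum] at h0
    refine Eq.trans ?_ h0
    apply Finset.sum_congr rfl
    intro j _
    rw [Polynomial.coeff_map, map_mul, map_mul, map_pow, map_pow]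
    rfl)
  -- r is invariant
  have hrS : r ∈ S := by
    show HopfRep.Comod.coact (k := k) (A := A) r = r ⊗ₜ[k] (1 : A)
    have ha : HopfRep.Comod.coact (k := k) (A := A) (a : R) = (a : R) ⊗ₜ[k] (1 : A) := a.2
    have hb : HopfRep.Comod.coact (k := k) (A := A) ((b : S) : R) = ((b : S) : R) ⊗ₜ[k] (1 : A) :=
      (b : S).2
    have h1 : HopfRep.Comod.coact (k := k) (A := A) (a : R) =
        HopfRep.Comod.coact (k := k) (A := A) r * HopfRep.Comod.coact (k := k) (A := A) ((b : S) : R) := by
      rw [hr, GLin.IsCoactAlg.coact_mul]
    rw [ha, hb, hr] at h1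
    have h2 : (r ⊗ₜ[k] (1 : A) : R ⊗[k] A) * (((b : S) : R) ⊗ₜ[k] (1 : A)) =
        HopfRep.Comod.coact (k := k) (A := A) r * (((b : S) : R) ⊗ₜ[k] (1 : A)) := by
      rw [← h1, Algebra.TensorProduct.tmul_mul_tmul, one_mul]
    have hmulinj : Function.Injective ((LinearMap.mulRight k ((b : S) : R)).rTensor A) := by
      apply Module.Flat.rTensor_preserves_injective_linearMap
      intro y z hyz
      simp only [LinearMap.mulRight_apply] at hyz
      exact mul_right_cancel₀ hbR hyz
    have hform : ∀ z : R ⊗[k] A, (LinearMap.mulRight k ((b : S) : R)).rTensor A z =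
        z * (((b : S) : R) ⊗ₜ[k] (1 : A)) := by
      intro z
      induction z using TensorProduct.induction_on with
      | zero => simp
      | tmul y c => simp [Algebra.TensorProduct.tmul_mul_tmul]
      | add y z hy hz => rw [map_add, hy, hz, add_mul]
    apply hmulinj
    rw [hform, hform]
    exact h2.symm
  refine ⟨⟨r, hrS⟩, ?_⟩
  rw [← hab, IsLocalization.eq_mk'_iff_mul_eq, ← map_mul]
  congr 1
  apply Subtype.ext
  exact hr.symm


end helpers

/-- Let k be a commutative ring, A a commutative k-bialgebra that is flat over k, and R a commutative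
k-algebra which is an integrally closed domain, with a coaction R → R ⊗ A that is an algebra
homomorphism. Then the ring of invariants (the elements f with coaction f ⊗ 1) is an integrally
closed domain. (The published statement is for a finite group scheme acting on a normal scheme whose
quotient is, locally, the spectrum of the ring of invariants; this row is the affine integral case
and allows any commutative bialgebra flat over k, flatness being automatic over a field.) -/
theorem result (k : Type u) [CommRing k]
    (A : Type v) [CommRing A] [Bialgebra k A] [Module.Flat k A]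
    (R : Type w) [CommRing R] [Algebra k R] [IsDomain R] [IsIntegrallyClosed R]
    [HopfRep.Comod k A R] [GLin.IsCoactAlg k A R] :
    IsIntegrallyClosed (GLin.invariants k A R) := by
  exact main k A R

end Groth.Agent.S13124
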