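import Groth.Statements.S13125
import Mathlib

set_option autoImplicit false
universe u v
open KumFam

namespace Groth.Agent.S13125

open DirectSum


section
variable {ι : Type u} [DecidableEq ι] [AddMonoid ι]
    {A : Type v} [CommRing A] (𝒜 : ι → AddSubgroup A) [GradedRing 𝒜] (I : Ideal A)

/-- the image grading -/
def ℬ' (i : ι) : AddSubgroup (A ⧸ I) := (𝒜 i).map (Ideal.Quotient.mk I : A →+ A ⧸ I)

/-- component maps -/
def g (i : ι) : 𝒜 i →+ ℬ' 𝒜 I i :=
  (Ideal.Quotient.mk I : A →+ A ⧸ I).addSubgroupMap (𝒜 i)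

def φ : A →+ ⨁ i, ℬ' 𝒜 I i :=
  (DirectSum.map (g 𝒜 I)).comp (DirectSum.decomposeAddEquiv 𝒜).toAddMonoidHom

lemma φ_of_mem {i : ι} {a : A} (ha : a ∈ 𝒜 i) :
    φ 𝒜 I a = DirectSum.of (fun i => ℬ' 𝒜 I i) i ⟨Ideal.Quotient.mk I a, ⟨a, ha, rfl⟩⟩ := by
  unfold φ
  simp only [AddMonoidHom.coe_comp, Function.comp_apply, AddEquiv.coe_toAddMonoidHom,
    DirectSum.decomposeAddEquiv_apply]
  rw [DirectSum.decompose_of_mem 𝒜 ha, DirectSum.map_of]
  rfl

lemma coe_φ (a : A) : DirectSum.coeAddMonoidHom (ℬ' 𝒜 I) (φ 𝒜 I a) = Ideal.Quotient.mk I a := by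
  induction a using DirectSum.Decomposition.inductionOn 𝒜 with
  | zero => simp
  | @homogeneous i a =>
    rw [φ_of_mem 𝒜 I a.2, DirectSum.coeAddMonoidHom_of]
  | add a b ha hb => rw [map_add, map_add, ha, hb, map_add]

variable {𝒜 I} in
lemma φ_mem (hI : I.IsHomogeneous 𝒜) {x : A} (hx : x ∈ I) : φ 𝒜 I x = 0 := by
  ext i
  unfold φ
  simp only [AddMonoidHom.coe_comp, Function.comp_apply, AddEquiv.coe_toAddMonoidHom,
    DirectSum.decomposeAddEquiv_apply, DirectSum.map_apply, DirectSum.zero_apply,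
    ZeroMemClass.coe_zero]
  exact Ideal.Quotient.eq_zero_iff_mem.mpr (hI i hx)

variable {𝒜 I} in
lemma φ_congr (hI : I.IsHomogeneous 𝒜) {a b : A}
    (h : Ideal.Quotient.mk I a = Ideal.Quotient.mk I b) : φ 𝒜 I a = φ 𝒜 I b := by
  have : a - b ∈ I := Ideal.Quotient.eq.mp h
  have h0 := φ_mem hI this
  rw [map_sub, sub_eq_zero] at h0
  exact h0


variable {𝒜 I} in
@[instance_reducible]
noncomputable def decomp (hI : I.IsHomogeneous 𝒜) : DirectSum.Decomposition (ℬ' 𝒜 I) where
  decompose' y := φ 𝒜 I (Quotient.out y)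
  left_inv y := by
    show DirectSum.coeAddMonoidHom (ℬ' 𝒜 I) (φ 𝒜 I (Quotient.out y)) = y
    rw [coe_φ]
    exact Ideal.Quotient.mk_out y
  right_inv y := by
    show φ 𝒜 I (Quotient.out (DirectSum.coeAddMonoidHom (ℬ' 𝒜 I) y)) = y
    have hkey : ∀ a : A, φ 𝒜 I (Quotient.out (Ideal.Quotient.mk I a)) = φ 𝒜 I a := fun a =>
      φ_congr hI (Ideal.Quotient.mk_out _)
    induction y using DirectSum.induction_on with
    | zero =>
      rw [map_zero]
      have := hkey 0
      rw [map_zero, map_zero] at this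
      exact this
    | of i b =>
      obtain ⟨b, a, ha, rfl⟩ := b
      rw [DirectSum.coeAddMonoidHom_of]
      show φ 𝒜 I (Quotient.out (Ideal.Quotient.mk I a)) = _
      rw [hkey a, φ_of_mem 𝒜 I ha]
      rfl
    | add y z hy hz =>
      rw [map_add]
      have h1 : Ideal.Quotient.mk I (Quotient.out (DirectSum.coeAddMonoidHom (ℬ' 𝒜 I) y +
          DirectSum.coeAddMonoidHom (ℬ' 𝒜 I) z)) =
          Ideal.Quotient.mk I (Quotient.out (DirectSum.coeAddMonoidHom (ℬ' 𝒜 I) y) +
            Quotient.out (DirectSum.coeAddMonoidHom (ℬ' 𝒜 I) z)) := by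
        rw [map_add, Ideal.Quotient.mk_out, Ideal.Quotient.mk_out, Ideal.Quotient.mk_out]
      rw [φ_congr hI h1, map_add, hy, hz]

instance gradedMonoid : SetLike.GradedMonoid (ℬ' 𝒜 I) where
  one_mem := ⟨1, SetLike.GradedOne.one_mem, map_one (Ideal.Quotient.mk I)⟩
  mul_mem := by
    rintro i j _ _ ⟨a, ha, rfl⟩ ⟨b, hb, rfl⟩
    exact ⟨a * b, SetLike.GradedMul.mul_mem ha hb, map_mul (Ideal.Quotient.mk I) _ _⟩


end


/-- Let A be a commutative ring graded by an additive monoid ι (an abelian group in the published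
statement) through additive subgroups 𝒜 i, and I an ideal of A. Then I is a homogeneous ideal if and
only if A/I carries a structure of ι-graded ring ℬ for which the quotient map sends 𝒜 i into ℬ i for
all i. -/
theorem result (ι : Type u) [DecidableEq ι] [AddMonoid ι]
    (A : Type v) [CommRing A] (𝒜 : ι → AddSubgroup A) [GradedRing 𝒜] (I : Ideal A) :
    I.IsHomogeneous 𝒜 ↔
      ∃ ℬ : ι → AddSubgroup (A ⧸ I), Nonempty (GradedRing ℬ) ∧
        ∀ i : ι, (𝒜 i).map (Ideal.Quotient.mk I : A →+ A ⧸ I) ≤ ℬ i := by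
    classical
  constructor
  · intro hI
    refine ⟨ℬ' 𝒜 I, ⟨?_⟩, fun i => le_rfl⟩
    exact { toGradedMonoid := gradedMonoid 𝒜 I, toDecomposition := decomp hI }
  · rintro ⟨ℬ, ⟨hℬ⟩, hle⟩
    intro j x hx
    have hsum := DirectSum.sum_support_decompose 𝒜 x
    have h0 : Ideal.Quotient.mk I x = 0 := Ideal.Quotient.eq_zero_iff_mem.mpr hx
    rw [← hsum, map_sum] at h0
    have hmem : ∀ i, Ideal.Quotient.mk I (DirectSum.decompose 𝒜 x i : A) ∈ ℬ i := fun i =>
      hle i ⟨_, (DirectSum.decompose 𝒜 x i).2, rfl⟩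
    have h1 := congrArg (fun y => (DirectSum.decompose ℬ y j : A ⧸ I)) h0
    simp only [DirectSum.decompose_sum, DirectSum.decompose_zero, DirectSum.zero_apply,
      ZeroMemClass.coe_zero] at h1
    rw [DFinsupp.finsetSum_apply, AddSubgroup.val_finsetSum] at h1
    rw [Finset.sum_eq_single j] at h1
    · rw [DirectSum.decompose_of_mem_same ℬ (hmem j)] at h1
      exact Ideal.Quotient.eq_zero_iff_mem.mp h1
    · intro i _ hij
      rw [DirectSum.decompose_of_mem_ne ℬ (hmem i) hij]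
    · intro hj
      have : DirectSum.decompose 𝒜 x j = 0 := by
        simpa [DFinsupp.mem_support_iff] using hj
      rw [this]
      simp

end Groth.Agent.S13125
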