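import Groth.Statements.S13126
import Mathlib

set_option autoImplicit false
universe u
open KumFam

namespace Groth.Agent.S13126



open Polynomial in
/-- Let R be a commutative ring, n a natural number which is a unit in R, and ζ ∈ R with ζ^n = 1 and 1 −
ζ^i a unit for 0 < i < n (a primitive n-th root of unity in the fibrewise sense: the powers ζ^0, …,
ζ^(n−1) are roots of X^n − 1 with pairwise unit differences; over an integral domain in which n is a
unit this is the same as ζ having multiplicative order n). Then the R-algebra homomorphism R[X] →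
(Fin n → R) sending a polynomial to its values at ζ^0, …, ζ^(n−1) is surjective and its kernel is
the ideal generated by X^n − 1; hence R[X]/(X^n − 1) ≅ R^n as R-algebras, i.e. the scheme of n-th
roots of unity over Spec R is the disjoint union of n copies of Spec R. (The published statement
asks that R contain a primitive n-th root of unity without defining the term; its Chinese-remainder
argument uses that the ideals (X − ζ^i), i < n, are pairwise comaximal, which is the unit-difference
condition taken as the hypothesis here, whereas under the reading 'ζ has multiplicative order n'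
alone the surjectivity fails over a product of two fields. The published statement also asserts that
the isomorphism respects the group-scheme structures of the n-th roots of unity and of the constant
group ℤ/n; this row does not state that.) -/
theorem result (R : Type u) [CommRing R]
    (n : ℕ) (hn : IsUnit (n : R)) (ζ : R) (hζ : ζ ^ n = 1)
    (hprim : ∀ i : ℕ, 0 < i → i < n → IsUnit (1 - ζ ^ i)) :
    Function.Surjective (AlgHom.pi (fun i : Fin n => Polynomial.aeval (R := R) (ζ ^ (i : ℕ)))) ∧
      RingHom.ker (AlgHom.pi (fun i : Fin n => Polynomial.aeval (R := R) (ζ ^ (i : ℕ)))) =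
        Ideal.span {(X ^ n - 1 : R[X])} := by
  classical
  rcases subsingleton_or_nontrivial R with hsub | hnt
  · constructor
    · intro y
      exact ⟨0, Subsingleton.elim _ _⟩
    · ext p
      have hp : p = 0 := Subsingleton.elim _ _
      subst hp
      simp
  · have hn0 : n ≠ 0 := by
      rintro rfl
      rw [Nat.cast_zero] at hn
      exact not_isUnit_zero hn
    have hζu : IsUnit ζ := IsUnit.of_pow_eq_one hζ hn0
    have hdiff : ∀ i j : Fin n, i ≠ j → IsUnit (ζ ^ (i : ℕ) - ζ ^ (j : ℕ)) := by
      have key : ∀ i j : Fin n, (j : ℕ) < (i : ℕ) → IsUnit (ζ ^ (i : ℕ) - ζ ^ (j : ℕ)) := by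
        intro i j hji
        have e : ζ ^ (i : ℕ) - ζ ^ (j : ℕ) = -(ζ ^ (j : ℕ) * (1 - ζ ^ ((i : ℕ) - (j : ℕ)))) := by
          rw [mul_sub, mul_one, ← pow_add, Nat.add_sub_cancel' hji.le]
          ring
        rw [e]
        exact ((hζu.pow _).mul (hprim _ (Nat.sub_pos_of_lt hji)
          (lt_of_le_of_lt (Nat.sub_le _ _) i.2))).neg
      intro i j hij
      have hne : (i : ℕ) ≠ (j : ℕ) := fun h => hij (Fin.ext h)
      rcases lt_or_gt_of_ne hne with h | h
      · have h1 := (key j i h).neg
        rwa [neg_sub] at h1
      · exact key i j h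
    have hcopX : ∀ (i j : Fin n) (_ : i ≠ j),
        IsCoprime (X - C (ζ ^ (i : ℕ)) : R[X]) (X - C (ζ ^ (j : ℕ))) :=
      fun i j hij => Polynomial.isCoprime_X_sub_C_of_isUnit_sub (hdiff i j hij)
    have hmemI : ∀ (i : Fin n) (p : R[X]),
        p ∈ Ideal.span {(X - C (ζ ^ (i : ℕ)) : R[X])} ↔ p.eval (ζ ^ (i : ℕ)) = 0 := by
      intro i p
      rw [Ideal.mem_span_singleton, Polynomial.dvd_iff_isRoot]
      rfl
    have hcop : Pairwise (Function.onFun IsCoprime
        (fun i : Fin n => Ideal.span {(X - C (ζ ^ (i : ℕ)) : R[X])})) := by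
      intro i j hij
      show IsCoprime (Ideal.span {(X - C (ζ ^ (i : ℕ)) : R[X])})
        (Ideal.span {(X - C (ζ ^ (j : ℕ)) : R[X])})
      rw [Ideal.isCoprime_span_singleton_iff]
      exact hcopX i j hij
    have hev : ∀ (p : R[X]) (i : Fin n),
        (AlgHom.pi (fun i : Fin n => Polynomial.aeval (R := R) (ζ ^ (i : ℕ)))) p i
          = p.eval (ζ ^ (i : ℕ)) := by
      intro p i
      show Polynomial.aeval (ζ ^ (i : ℕ)) p = _
      rw [Polynomial.coe_aeval_eq_eval]
    constructor
    · intro c
      obtain ⟨p, hp⟩ := Ideal.exists_forall_sub_mem_ideal hcop (fun i => C (c i))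
      refine ⟨p, funext fun i => ?_⟩
      rw [hev]
      have h1 := (hmemI i _).mp (hp i)
      rw [eval_sub, eval_C, sub_eq_zero] at h1
      exact h1
    · have hP : (∏ i : Fin n, (X - C (ζ ^ (i : ℕ))) : R[X]) = X ^ n - 1 := by
        have hPm : (∏ i : Fin n, (X - C (ζ ^ (i : ℕ))) : R[X]).Monic :=
          monic_prod_of_monic _ _ (fun i _ => monic_X_sub_C _)
        have hPd : (∏ i : Fin n, (X - C (ζ ^ (i : ℕ))) : R[X]).natDegree = n := by
          rw [natDegree_prod_of_monic _ _ (fun i _ => monic_X_sub_C _)]
          have h1 : ∀ i ∈ (Finset.univ : Finset (Fin n)),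
              (X - C (ζ ^ (i : ℕ)) : R[X]).natDegree = 1 := fun i _ => natDegree_X_sub_C _
          rw [Finset.sum_congr rfl h1]
          simp
        have hQm : (X ^ n - 1 : R[X]).Monic := by
          have h1 := monic_X_pow_sub_C (1 : R) hn0
          rwa [map_one] at h1
        have hQd : (X ^ n - 1 : R[X]).natDegree = n := by
          have h1 := natDegree_X_pow_sub_C (R := R) (n := n) (r := 1)
          rwa [map_one] at h1
        have hdvd : (∏ i : Fin n, (X - C (ζ ^ (i : ℕ))) : R[X]) ∣ X ^ n - 1 := by
          rw [← Ideal.mem_span_singleton, ← Ideal.iInf_span_singleton hcopX, Ideal.mem_iInf]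
          intro i
          rw [hmemI, eval_sub, eval_pow, eval_X, eval_one, ← pow_mul, mul_comm, pow_mul, hζ,
            one_pow, sub_self]
        exact (eq_of_monic_of_dvd_of_natDegree_le hPm hQm hdvd (by rw [hQd, hPd])).symm
      rw [← hP, ← Ideal.iInf_span_singleton hcopX]
      ext p
      rw [RingHom.mem_ker, Ideal.mem_iInf]
      constructor
      · intro h i
        rw [hmemI, ← hev, h]
        rfl
      · intro h
        funext i
        rw [hev]
        exact (hmemI i p).mp (h i)


end Groth.Agent.S13126
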