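import Groth.Statements.S13128
import Mathlib
import Groth.Agent.S10826

set_option autoImplicit false
universe u
open KumFam

namespace Groth.Agent.S13128

section Aux
open MvPowerSeries
variable {R : Type u} [CommRing R]

theorem cs_mul (j : Fin 3) (f g : MvPowerSeries (Fin 3) R) :
    coeff (Finsupp.single j 1) (f * g) =
      constantCoeff f * coeff (Finsupp.single j 1) g +
        coeff (Finsupp.single j 1) f * constantCoeff g := by
  classical
  rw [coeff_mul, Finsupp.antidiagonal_single, Finset.sum_map, Finset.Nat.sum_antidiagonal_succ,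
    Finset.Nat.antidiagonal_zero, Finset.sum_singleton]
  simp

theorem cs_C (j : Fin 3) (r : R) :
    coeff (Finsupp.single j 1) (C r : MvPowerSeries (Fin 3) R) = 0 := by
  classical
  have hne : (Finsupp.single j 1 : Fin 3 →₀ ℕ) ≠ 0 := by
    rw [Ne, Finsupp.single_eq_zero]; exact one_ne_zero
  rw [coeff_C, if_neg hne]

noncomputable def EE (l2 l4 s2 s4 τ : R) : MvPowerSeries (Fin 3) R :=
  C (τ ^ 2) + C (s4 ^ 2) * (X 1 * X 1 * X 1) + C (s2 ^ 2) * X 1 +
    C (l4 ^ 2) * (X 0 * X 0 * X 0) + C (l2 ^ 2) * X 0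

noncomputable def PP (l2 l4 s2 s4 α' β' : R) : MvPowerSeries (Fin 3) R :=
  C β' * (C l4 * (X 0 * X 0) + C l2 * X 0) + C α' * (C s4 * (X 1 * X 1) + C s2 * X 1)

theorem cc_EE (l2 l4 s2 s4 τ : R) : constantCoeff (EE l2 l4 s2 s4 τ) = τ ^ 2 := by
  unfold EE
  simp only [map_add, map_mul, constantCoeff_X, constantCoeff_C]
  ring

theorem cc_PP (l2 l4 s2 s4 α' β' : R) : constantCoeff (PP l2 l4 s2 s4 α' β') = 0 := by
  unfold PP
  simp only [map_add, map_mul, constantCoeff_X, constantCoeff_C]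
  ring

theorem cs_PP (l2 l4 s2 s4 α' β' : R) (j : Fin 3) :
    coeff (Finsupp.single j 1) (PP l2 l4 s2 s4 α' β') =
      β' * l2 * (if j = 0 then 1 else 0) + α' * s2 * (if j = 1 then 1 else 0) := by
  unfold PP
  simp only [map_add, cs_mul, cs_C, coeff_index_single_X, constantCoeff_X, constantCoeff_C,
    map_mul]
  ring

end Aux



open MvPowerSeries in
/-- Let R be a commutative ring of characteristic 2, l0, l2, l4, s0, s2, s4, τ ∈ R with τ a unit, and α,
β ∈ R with l4² α⁴ + l2² α² + τ² α + l0² = 0 and s4² β⁴ + s2² β² + τ² β + s0² = 0. In characteristic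
2 these relations give τ² α = (l4 α² + l2 α + l0)² and τ² β = (s4 β² + s2 β + s0)², so α = α′² and β
= β′² with α′ = (l4 α² + l2 α + l0)/τ and β′ = (s4 β² + s2 β + s0)/τ. In R[[a, b, c]] (a = X 0, b =
X 1, c = X 2) put h = c² + τ² a b + (s4² b⁴ + s2² b²) a + (l4² a⁴ + l2² a²) b + l4² β a⁴ + l2² β a²
+ s4² α b⁴ + s2² α b²; this is the chart equation c² + τ² a b + (s4² b⁴ + s2² b² + s0²) a + (l4² a⁴
+ l2² a² + l0²) b after the substitution a ↦ a + α, b ↦ b + β, c ↦ c + τ α′ β′, which moves the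
point (α, β, τ α′ β′) of that surface, where all partial derivatives vanish, to the origin. Then
some R-algebra automorphism of R[[a, b, c]] maps h to c² + a b; consequently R[[a, b, c]]/(h) ≅
R[[a, b, c]]/(c² + a b), the completed local ring of an ordinary double point, constant over R. (The
published statement translates only a and b, so that its h carries the additional constant term τ² α
β; with that term h is a unit of R[[a, b, c]] whenever τ α β is a unit, for instance c² + a b + 1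
over the field with two elements with l0 = s0 = τ = α = β = 1 and l2 = l4 = s2 = s4 = 0, and no ring
automorphism carries a unit to c² + a b. The published proof begins by shifting c by a polynomial in
a, b whose constant term is τ α′ β′, a substitution of the polynomial ring which removes the term τ²
α β, and the rest of its argument takes place in R[[a, b, c]]; this row states the result for the
fully translated equation, which is what that argument proves.) -/
theorem result (R : Type u) [CommRing R] [CharP R 2]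
    (l0 l2 l4 s0 s2 s4 τ α β : R) (hτ : IsUnit τ)
    (hα : l4 ^ 2 * α ^ 4 + l2 ^ 2 * α ^ 2 + τ ^ 2 * α + l0 ^ 2 = 0)
    (hβ : s4 ^ 2 * β ^ 4 + s2 ^ 2 * β ^ 2 + τ ^ 2 * β + s0 ^ 2 = 0) :
    ∃ φ : MvPowerSeries (Fin 3) R ≃ₐ[R] MvPowerSeries (Fin 3) R,
      φ ((X 2 ^ 2 + C (τ ^ 2) * X 0 * X 1 + (C (s4 ^ 2) * X 1 ^ 4 + C (s2 ^ 2) * X 1 ^ 2) * X 0 +
          (C (l4 ^ 2) * X 0 ^ 4 + C (l2 ^ 2) * X 0 ^ 2) * X 1 + C (l4 ^ 2 * β) * X 0 ^ 4 +
          C (l2 ^ 2 * β) * X 0 ^ 2 + C (s4 ^ 2 * α) * X 1 ^ 4 + C (s2 ^ 2 * α) * X 1 ^ 2 :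
          MvPowerSeries (Fin 3) R)) =
        (X 2 ^ 2 + X 0 * X 1 : MvPowerSeries (Fin 3) R) := by
  classical
  obtain ⟨τi, hτi⟩ := hτ.exists_right_inv
  have h2 : (2 : R) = 0 := CharTwo.two_eq_zero
  obtain ⟨α', hα'def⟩ : ∃ t : R, t = (l4 * α ^ 2 + l2 * α + l0) * τi := ⟨_, rfl⟩
  obtain ⟨β', hβ'def⟩ : ∃ t : R, t = (s4 * β ^ 2 + s2 * β + s0) * τi := ⟨_, rfl⟩
  have hα' : α' ^ 2 = α := by
    rw [hα'def]
    linear_combination (τi ^ 2) * hα +
      ((l4 * l2 * α ^ 3 + l4 * l0 * α ^ 2 + l2 * l0 * α) * τi ^ 2 - α) * h2 -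
      α * (τ * τi + 1) * hτi
  have hβ' : β' ^ 2 = β := by
    rw [hβ'def]
    linear_combination (τi ^ 2) * hβ +
      ((s4 * s2 * β ^ 3 + s4 * s0 * β ^ 2 + s2 * s0 * β) * τi ^ 2 - β) * h2 -
      β * (τ * τi + 1) * hτi
  have hsub : HasSubst (![X 0 * EE l2 l4 s2 s4 τ, X 1, X 2 + PP l2 l4 s2 s4 α' β'] :
      Fin 3 → MvPowerSeries (Fin 3) R) := by
    apply hasSubst_of_constantCoeff_zero
    intro i
    fin_cases i
    · show constantCoeff (X 0 * EE l2 l4 s2 s4 τ) = 0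
      rw [map_mul, constantCoeff_X, zero_mul]
    · show constantCoeff (X 1 : MvPowerSeries (Fin 3) R) = 0
      exact constantCoeff_X _
    · show constantCoeff (X 2 + PP l2 l4 s2 s4 α' β') = 0
      rw [map_add, constantCoeff_X, cc_PP, add_zero]
  obtain ⟨ψ, hψdef⟩ : ∃ ψ : MvPowerSeries (Fin 3) R →ₐ[R] MvPowerSeries (Fin 3) R,
      ψ = MvPowerSeries.substAlgHom (R := R) (S := R) (σ := Fin 3) (τ := Fin 3) hsub := ⟨_, rfl⟩
  have hψ0 : ψ (X 0) = X 0 * EE l2 l4 s2 s4 τ := by rw [hψdef, substAlgHom_X]; rfl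
  have hψ1 : ψ (X 1) = X 1 := by rw [hψdef, substAlgHom_X]; rfl
  have hψ2 : ψ (X 2) = X 2 + PP l2 l4 s2 s4 α' β' := by rw [hψdef, substAlgHom_X]; rfl
  have h0 : ∀ i, constantCoeff (ψ (X i)) = 0 := by
    intro i
    fin_cases i
    · show constantCoeff (ψ (X 0)) = 0
      rw [hψ0, map_mul, constantCoeff_X, zero_mul]
    · show constantCoeff (ψ (X 1)) = 0
      rw [hψ1]; exact constantCoeff_X _
    · show constantCoeff (ψ (X 2)) = 0
      rw [hψ2, map_add, constantCoeff_X, cc_PP, add_zero]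
  have e00 : coeff (Finsupp.single (0 : Fin 3) 1) (ψ (X 0)) = τ ^ 2 := by
    rw [hψ0, cs_mul]; simp [coeff_index_single_X, cc_EE]
  have e01 : coeff (Finsupp.single (1 : Fin 3) 1) (ψ (X 0)) = 0 := by
    rw [hψ0, cs_mul]; simp [coeff_index_single_X, cc_EE]
  have e02 : coeff (Finsupp.single (2 : Fin 3) 1) (ψ (X 0)) = 0 := by
    rw [hψ0, cs_mul]; simp [coeff_index_single_X, cc_EE]
  have e10 : coeff (Finsupp.single (0 : Fin 3) 1) (ψ (X 1)) = 0 := by
    rw [hψ1]; simp [coeff_index_single_X]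
  have e11 : coeff (Finsupp.single (1 : Fin 3) 1) (ψ (X 1)) = 1 := by
    rw [hψ1]; simp [coeff_index_single_X]
  have e12 : coeff (Finsupp.single (2 : Fin 3) 1) (ψ (X 1)) = 0 := by
    rw [hψ1]; simp [coeff_index_single_X]
  have e20 : coeff (Finsupp.single (0 : Fin 3) 1) (ψ (X 2)) = β' * l2 := by
    rw [hψ2, map_add, cs_PP]; simp [coeff_index_single_X]
  have e21 : coeff (Finsupp.single (1 : Fin 3) 1) (ψ (X 2)) = α' * s2 := by
    rw [hψ2, map_add, cs_PP]; simp [coeff_index_single_X]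
  have e22 : coeff (Finsupp.single (2 : Fin 3) 1) (ψ (X 2)) = 1 := by
    rw [hψ2, map_add, cs_PP]; simp [coeff_index_single_X]
  have hdet : Matrix.det (Matrix.of fun i j : Fin 3 =>
      coeff (Finsupp.single j 1) (ψ (X i))) = τ ^ 2 := by
    rw [Matrix.det_fin_three]
    simp only [Matrix.of_apply, e00, e01, e02, e10, e11, e12, e20, e21, e22]
    ring
  have hJ : IsUnit (Matrix.det (Matrix.of fun i j : Fin 3 =>
      coeff (Finsupp.single j 1) (ψ (X i)))) := by
    rw [hdet]; exact hτ.pow 2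
  have hbij : Function.Bijective ψ := Groth.Agent.S10826.result R 3 (by norm_num) ψ h0 hJ
  obtain ⟨e, he⟩ : ∃ e : MvPowerSeries (Fin 3) R ≃ₐ[R] MvPowerSeries (Fin 3) R,
      ∀ f, e f = ψ f := ⟨AlgEquiv.ofBijective ψ hbij, fun f => rfl⟩
  refine ⟨e.symm, ?_⟩
  have h2S : (2 : MvPowerSeries (Fin 3) R) = 0 := by
    have h3 := congrArg (C (σ := Fin 3) (R := R)) h2
    rwa [map_ofNat, map_zero] at h3
  have hA : (C α' : MvPowerSeries (Fin 3) R) ^ 2 = C α := by rw [← map_pow, hα']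
  have hB : (C β' : MvPowerSeries (Fin 3) R) ^ 2 = C β := by rw [← map_pow, hβ']
  rw [AlgEquiv.symm_apply_eq, he]
  simp only [map_add, map_mul, map_pow, hψ0, hψ1, hψ2]
  unfold EE PP
  simp only [map_mul, map_pow]
  linear_combination
    -(X 2 * (C β' * (C l4 * (X 0 * X 0) + C l2 * X 0) + C α' * (C s4 * (X 1 * X 1) + C s2 * X 1)) +
      C β' * C α' * (C l4 * X 0 ^ 2 + C l2 * X 0) * (C s4 * X 1 ^ 2 + C s2 * X 1) +
      C β' ^ 2 * C l4 * C l2 * X 0 ^ 3 + C α' ^ 2 * C s4 * C s2 * X 1 ^ 3) * h2S -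
    (C l4 ^ 2 * X 0 ^ 4 + C l2 ^ 2 * X 0 ^ 2) * hB - (C s4 ^ 2 * X 1 ^ 4 + C s2 ^ 2 * X 1 ^ 2) * hA


end Groth.Agent.S13128
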