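import Groth.Statements.S13127
import Mathlib
import Groth.Agent.S10826
import Groth.Agent.S13128

set_option autoImplicit false
universe u
open KumFam

namespace Groth.Agent.S13127

section Aux
open MvPowerSeries
variable {R : Type u} [CommRing R]

theorem exists_root (w : MvPowerSeries (Fin 3) R) (hw : constantCoeff w = 0) :
    ∃ z : MvPowerSeries (Fin 3) R, z + z * z + z * z * z = w := by
  classical
  have hsubθ : HasSubst (![X 0 + X 0 * X 0 + X 0 * X 0 * X 0, X 1, X 2] :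
      Fin 3 → MvPowerSeries (Fin 3) R) := by
    apply hasSubst_of_constantCoeff_zero
    intro i
    fin_cases i
    · show constantCoeff (X 0 + X 0 * X 0 + X 0 * X 0 * X 0 : MvPowerSeries (Fin 3) R) = 0
      simp only [map_add, map_mul, constantCoeff_X]
      ring
    · show constantCoeff (X 1 : MvPowerSeries (Fin 3) R) = 0
      exact constantCoeff_X _
    · show constantCoeff (X 2 : MvPowerSeries (Fin 3) R) = 0
      exact constantCoeff_X _
  obtain ⟨θ, hθdef⟩ : ∃ θ : MvPowerSeries (Fin 3) R →ₐ[R] MvPowerSeries (Fin 3) R,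
      θ = MvPowerSeries.substAlgHom (R := R) (S := R) (σ := Fin 3) (τ := Fin 3) hsubθ := ⟨_, rfl⟩
  have hθ0 : θ (X 0) = X 0 + X 0 * X 0 + X 0 * X 0 * X 0 := by rw [hθdef, substAlgHom_X]; rfl
  have hθ1 : θ (X 1) = X 1 := by rw [hθdef, substAlgHom_X]; rfl
  have hθ2 : θ (X 2) = X 2 := by rw [hθdef, substAlgHom_X]; rfl
  have hbij : Function.Bijective θ := by
    apply Groth.Agent.S10826.bijective_of_unipotent
    · intro i
      fin_cases i
      · show constantCoeff (θ (X 0)) = 0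
        rw [hθ0]
        simp only [map_add, map_mul, constantCoeff_X]
        ring
      · show constantCoeff (θ (X 1)) = 0
        rw [hθ1]; exact constantCoeff_X _
      · show constantCoeff (θ (X 2)) = 0
        rw [hθ2]; exact constantCoeff_X _
    · intro i k
      fin_cases i
      · show coeff (Finsupp.single k 1) (θ (X 0)) = if k = 0 then 1 else 0
        rw [hθ0]
        simp only [map_add, Groth.Agent.S13128.cs_mul, map_mul, constantCoeff_X,
          coeff_index_single_X]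
        ring
      · show coeff (Finsupp.single k 1) (θ (X 1)) = if k = 1 then 1 else 0
        rw [hθ1, coeff_index_single_X]
      · show coeff (Finsupp.single k 1) (θ (X 2)) = if k = 2 then 1 else 0
        rw [hθ2, coeff_index_single_X]
  obtain ⟨g, hg⟩ := hbij.2 (X 0)
  have hg3 : g + g * g + g * g * g = X 0 := by
    apply hbij.1
    simp only [map_add, map_mul, hg, hθ0]
  have hsubσ : HasSubst (![w, X 1, X 2] : Fin 3 → MvPowerSeries (Fin 3) R) := by
    apply hasSubst_of_constantCoeff_zero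
    intro i
    fin_cases i
    · show constantCoeff w = 0
      exact hw
    · show constantCoeff (X 1 : MvPowerSeries (Fin 3) R) = 0
      exact constantCoeff_X _
    · show constantCoeff (X 2 : MvPowerSeries (Fin 3) R) = 0
      exact constantCoeff_X _
  obtain ⟨σ, hσdef⟩ : ∃ σ : MvPowerSeries (Fin 3) R →ₐ[R] MvPowerSeries (Fin 3) R,
      σ = MvPowerSeries.substAlgHom (R := R) (S := R) (σ := Fin 3) (τ := Fin 3) hsubσ := ⟨_, rfl⟩
  have hσ0 : σ (X 0) = w := by rw [hσdef, substAlgHom_X]; rfl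
  refine ⟨σ g, ?_⟩
  have h3 := congrArg σ hg3
  simp only [map_add, map_mul, hσ0] at h3
  exact h3

theorem exists_cube (h2 : (2 : R) = 0) (W : MvPowerSeries (Fin 3) R)
    (hW : constantCoeff W = 1) : ∃ y : MvPowerSeries (Fin 3) R, y ^ 3 = W := by
  have hw : constantCoeff (W - 1) = 0 := by rw [map_sub, hW, map_one, sub_self]
  obtain ⟨z, hz⟩ := exists_root (W - 1) hw
  have h2S : (2 : MvPowerSeries (Fin 3) R) = 0 := by
    have h3 := congrArg (C (σ := Fin 3) (R := R)) h2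
    rwa [map_ofNat, map_zero] at h3
  refine ⟨1 + z, ?_⟩
  linear_combination hz + (z + z ^ 2) * h2S

end Aux



open MvPowerSeries in
/-- Let R be a commutative ring of characteristic 2 and l0, l2, l4, s0, s2, s4, τ, lam, sig ∈ R with l4,
s4, lam, sig units, and let κ₁, κ₂ ∈ R satisfy s4² κ₁³ = sig² and l4² κ₂³ = lam² (cube roots of
sig²/s4² and lam²/l4²). In the power series ring R[[a, b, c]] (a = X 0, b = X 1, c = X 2) put F = c²
+ s0² a³ b⁴ + s2² a³ b² + s4² a³ + l0² a⁴ b³ + l2² a² b³ + l4² b³ + τ² a³ b³ and F₀ = c² + sig² a³ +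
lam² b³. Then some R-algebra automorphism of R[[a, b, c]] maps F to F₀; consequently R[[a, b,
c]]/(F) ≅ R[[a, b, c]]/(F₀). (In the published statement lam, sig are the representatives in the
ground field of the residues of l4, s4 at a rational point, so that F₀ is the equation of the
special fibre made constant; this row takes them to be arbitrary units.) -/
theorem result (R : Type u) [CommRing R] [CharP R 2]
    (l0 l2 l4 s0 s2 s4 τ lam sig κ₁ κ₂ : R) (hl4 : IsUnit l4) (hs4 : IsUnit s4) (hlam : IsUnit lam)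
    (hsig : IsUnit sig) (h₁ : s4 ^ 2 * κ₁ ^ 3 = sig ^ 2) (h₂ : l4 ^ 2 * κ₂ ^ 3 = lam ^ 2) :
    ∃ φ : MvPowerSeries (Fin 3) R ≃ₐ[R] MvPowerSeries (Fin 3) R,
      φ ((X 2 ^ 2 + C (s0 ^ 2) * X 0 ^ 3 * X 1 ^ 4 + C (s2 ^ 2) * X 0 ^ 3 * X 1 ^ 2 +
          C (s4 ^ 2) * X 0 ^ 3 + C (l0 ^ 2) * X 0 ^ 4 * X 1 ^ 3 + C (l2 ^ 2) * X 0 ^ 2 * X 1 ^ 3 +
          C (l4 ^ 2) * X 1 ^ 3 + C (τ ^ 2) * X 0 ^ 3 * X 1 ^ 3 : MvPowerSeries (Fin 3) R)) =
        (X 2 ^ 2 + C (sig ^ 2) * X 0 ^ 3 + C (lam ^ 2) * X 1 ^ 3 : MvPowerSeries (Fin 3) R) := by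
  classical
  have h2 : (2 : R) = 0 := CharTwo.two_eq_zero
  obtain ⟨l4i, hl4i⟩ := hl4.exists_right_inv
  obtain ⟨s4i, hs4i⟩ := hs4.exists_right_inv
  obtain ⟨lami, hlami⟩ := hlam.exists_right_inv
  obtain ⟨sigi, hsigi⟩ := hsig.exists_right_inv
  obtain ⟨κ₁i, hκ₁i⟩ : ∃ t : R, κ₁ * t = 1 :=
    ⟨s4 ^ 2 * κ₁ ^ 2 * sigi ^ 2, by linear_combination (sigi ^ 2) * h₁ + (sig * sigi + 1) * hsigi⟩
  obtain ⟨κ₂i, hκ₂i⟩ : ∃ t : R, κ₂ * t = 1 :=
    ⟨l4 ^ 2 * κ₂ ^ 2 * lami ^ 2, by linear_combination (lami ^ 2) * h₂ + (lam * lami + 1) * hlami⟩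
  have hc1 : sig ^ 2 * κ₁i ^ 3 * s4i ^ 2 = 1 := by
    calc sig ^ 2 * κ₁i ^ 3 * s4i ^ 2 = (s4 ^ 2 * κ₁ ^ 3) * κ₁i ^ 3 * s4i ^ 2 := by rw [h₁]
      _ = (s4 * s4i) ^ 2 * (κ₁ * κ₁i) ^ 3 := by ring
      _ = 1 := by rw [hs4i, hκ₁i]; ring
  have hc2 : lam ^ 2 * κ₂i ^ 3 * l4i ^ 2 = 1 := by
    calc lam ^ 2 * κ₂i ^ 3 * l4i ^ 2 = (l4 ^ 2 * κ₂ ^ 3) * κ₂i ^ 3 * l4i ^ 2 := by rw [h₂]
      _ = (l4 * l4i) ^ 2 * (κ₂ * κ₂i) ^ 3 := by ring
      _ = 1 := by rw [hl4i, hκ₂i]; ring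
  have hc1S : (C sig : MvPowerSeries (Fin 3) R) ^ 2 * C κ₁i ^ 3 * C s4i ^ 2 = 1 := by
    rw [← map_pow, ← map_pow, ← map_pow, ← map_mul, ← map_mul, hc1, map_one]
  have hc2S : (C lam : MvPowerSeries (Fin 3) R) ^ 2 * C κ₂i ^ 3 * C l4i ^ 2 = 1 := by
    rw [← map_pow, ← map_pow, ← map_pow, ← map_mul, ← map_mul, hc2, map_one]
  -- the unit U and its cube root
  obtain ⟨U, hUdef⟩ : ∃ U : MvPowerSeries (Fin 3) R,
      U = C s4 ^ 2 + C s2 ^ 2 * X 1 ^ 2 + C s0 ^ 2 * X 1 ^ 4 + C τ ^ 2 * X 1 ^ 3 := ⟨_, rfl⟩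
  obtain ⟨V, hVdef⟩ : ∃ V : MvPowerSeries (Fin 3) R,
      V = C l4 ^ 2 + C l2 ^ 2 * X 0 ^ 2 + C l0 ^ 2 * X 0 ^ 4 := ⟨_, rfl⟩
  have hccU : constantCoeff (C s4i ^ 2 * U) = 1 := by
    rw [hUdef]
    simp only [map_add, map_mul, map_pow, constantCoeff_X, constantCoeff_C]
    linear_combination (s4 * s4i + 1) * hs4i
  have hccV : constantCoeff (C l4i ^ 2 * V) = 1 := by
    rw [hVdef]
    simp only [map_add, map_mul, map_pow, constantCoeff_X, constantCoeff_C]
    linear_combination (l4 * l4i + 1) * hl4i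
  obtain ⟨yU, hyU⟩ := exists_cube h2 (C s4i ^ 2 * U) hccU
  obtain ⟨yV, hyV⟩ := exists_cube h2 (C l4i ^ 2 * V) hccV
  obtain ⟨u, hudef⟩ : ∃ u : MvPowerSeries (Fin 3) R, u = C κ₁i * yU := ⟨_, rfl⟩
  obtain ⟨v, hvdef⟩ : ∃ v : MvPowerSeries (Fin 3) R, v = C κ₂i * yV := ⟨_, rfl⟩
  have hu : C sig ^ 2 * u ^ 3 = U := by
    calc C sig ^ 2 * u ^ 3 = (C sig ^ 2 * C κ₁i ^ 3) * yU ^ 3 := by rw [hudef]; ring
      _ = (C sig ^ 2 * C κ₁i ^ 3 * C s4i ^ 2) * U := by rw [hyU]; ring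
      _ = U := by rw [hc1S, one_mul]
  have hv : C lam ^ 2 * v ^ 3 = V := by
    calc C lam ^ 2 * v ^ 3 = (C lam ^ 2 * C κ₂i ^ 3) * yV ^ 3 := by rw [hvdef]; ring
      _ = (C lam ^ 2 * C κ₂i ^ 3 * C l4i ^ 2) * V := by rw [hyV]; ring
      _ = V := by rw [hc2S, one_mul]
  have hcu : IsUnit (constantCoeff u) := by
    have h3 := congrArg (constantCoeff (σ := Fin 3) (R := R)) hu
    rw [hUdef] at h3
    simp only [map_add, map_mul, map_pow, constantCoeff_X, constantCoeff_C] at h3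
    exact IsUnit.of_mul_eq_one (sig ^ 2 * constantCoeff u ^ 2 * s4i ^ 2)
      (by linear_combination (s4i ^ 2) * h3 + (s4 * s4i + 1) * hs4i)
  have hcv : IsUnit (constantCoeff v) := by
    have h3 := congrArg (constantCoeff (σ := Fin 3) (R := R)) hv
    rw [hVdef] at h3
    simp only [map_add, map_mul, map_pow, constantCoeff_X, constantCoeff_C] at h3
    exact IsUnit.of_mul_eq_one (lam ^ 2 * constantCoeff v ^ 2 * l4i ^ 2)
      (by linear_combination (l4i ^ 2) * h3 + (l4 * l4i + 1) * hl4i)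
  -- the substitution
  have hsub : HasSubst (![X 0 * u, X 1 * v, X 2] : Fin 3 → MvPowerSeries (Fin 3) R) := by
    apply hasSubst_of_constantCoeff_zero
    intro i
    fin_cases i
    · show constantCoeff (X 0 * u) = 0
      rw [map_mul, constantCoeff_X, zero_mul]
    · show constantCoeff (X 1 * v) = 0
      rw [map_mul, constantCoeff_X, zero_mul]
    · show constantCoeff (X 2 : MvPowerSeries (Fin 3) R) = 0
      exact constantCoeff_X _
  obtain ⟨ψ, hψdef⟩ : ∃ ψ : MvPowerSeries (Fin 3) R →ₐ[R] MvPowerSeries (Fin 3) R,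
      ψ = MvPowerSeries.substAlgHom (R := R) (S := R) (σ := Fin 3) (τ := Fin 3) hsub := ⟨_, rfl⟩
  have hψ0 : ψ (X 0) = X 0 * u := by rw [hψdef, substAlgHom_X]; rfl
  have hψ1 : ψ (X 1) = X 1 * v := by rw [hψdef, substAlgHom_X]; rfl
  have hψ2 : ψ (X 2) = X 2 := by rw [hψdef, substAlgHom_X]; rfl
  have hψC : ∀ r : R, ψ (C r) = C r := fun r => ψ.commutes r
  have h0 : ∀ i, constantCoeff (ψ (X i)) = 0 := by
    intro i
    fin_cases i
    · show constantCoeff (ψ (X 0)) = 0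
      rw [hψ0, map_mul, constantCoeff_X, zero_mul]
    · show constantCoeff (ψ (X 1)) = 0
      rw [hψ1, map_mul, constantCoeff_X, zero_mul]
    · show constantCoeff (ψ (X 2)) = 0
      rw [hψ2]; exact constantCoeff_X _
  have e00 : coeff (Finsupp.single (0 : Fin 3) 1) (ψ (X 0)) = constantCoeff u := by
    rw [hψ0, Groth.Agent.S13128.cs_mul]; simp [coeff_index_single_X]
  have e01 : coeff (Finsupp.single (1 : Fin 3) 1) (ψ (X 0)) = 0 := by
    rw [hψ0, Groth.Agent.S13128.cs_mul]; simp [coeff_index_single_X]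
  have e02 : coeff (Finsupp.single (2 : Fin 3) 1) (ψ (X 0)) = 0 := by
    rw [hψ0, Groth.Agent.S13128.cs_mul]; simp [coeff_index_single_X]
  have e10 : coeff (Finsupp.single (0 : Fin 3) 1) (ψ (X 1)) = 0 := by
    rw [hψ1, Groth.Agent.S13128.cs_mul]; simp [coeff_index_single_X]
  have e11 : coeff (Finsupp.single (1 : Fin 3) 1) (ψ (X 1)) = constantCoeff v := by
    rw [hψ1, Groth.Agent.S13128.cs_mul]; simp [coeff_index_single_X]
  have e12 : coeff (Finsupp.single (2 : Fin 3) 1) (ψ (X 1)) = 0 := by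
    rw [hψ1, Groth.Agent.S13128.cs_mul]; simp [coeff_index_single_X]
  have e20 : coeff (Finsupp.single (0 : Fin 3) 1) (ψ (X 2)) = 0 := by
    rw [hψ2]; simp [coeff_index_single_X]
  have e21 : coeff (Finsupp.single (1 : Fin 3) 1) (ψ (X 2)) = 0 := by
    rw [hψ2]; simp [coeff_index_single_X]
  have e22 : coeff (Finsupp.single (2 : Fin 3) 1) (ψ (X 2)) = 1 := by
    rw [hψ2]; simp [coeff_index_single_X]
  have hdet : Matrix.det (Matrix.of fun i j : Fin 3 =>
      coeff (Finsupp.single j 1) (ψ (X i))) = constantCoeff u * constantCoeff v := by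
    rw [Matrix.det_fin_three]
    simp only [Matrix.of_apply, e00, e01, e02, e10, e11, e12, e20, e21, e22]
    ring
  have hJ : IsUnit (Matrix.det (Matrix.of fun i j : Fin 3 =>
      coeff (Finsupp.single j 1) (ψ (X i)))) := by
    rw [hdet]; exact hcu.mul hcv
  have hbij : Function.Bijective ψ := Groth.Agent.S10826.result R 3 (by norm_num) ψ h0 hJ
  obtain ⟨e, he⟩ : ∃ e : MvPowerSeries (Fin 3) R ≃ₐ[R] MvPowerSeries (Fin 3) R,
      ∀ f, e f = ψ f := ⟨AlgEquiv.ofBijective ψ hbij, fun f => rfl⟩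
  refine ⟨e.symm, ?_⟩
  rw [AlgEquiv.symm_apply_eq, he]
  simp only [map_add, map_mul, map_pow, hψC, hψ0, hψ1, hψ2]
  rw [hUdef] at hu
  rw [hVdef] at hv
  linear_combination -(X 0 ^ 3) * hu - (X 1 ^ 3) * hv


end Groth.Agent.S13127
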