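import Groth.Statements.S13130
import Mathlib
-- import your own Groth.Agent.* helpers here

set_option autoImplicit false
universe u v
open KumFam

namespace Groth.Agent.S13130

/-- Let R be a nontrivial commutative ring and M a commutative group, with group algebra R[M], the
coordinate ring of the diagonalizable group scheme D(M) over Spec R. Then D(M) is integral over Spec
R, i.e. R[M] is an integral R-algebra, if and only if M is a torsion group. (The published statement
is over an arbitrary base scheme; the question is local and this row is the affine form, with R
nontrivial so that the elements of M are R-linearly independent.) -/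
theorem result (R : Type u) [CommRing R] [Nontrivial R]
    (M : Type v) [CommGroup M] :
    Algebra.IsIntegral R (MonoidAlgebra R M) ↔ IsMulTorsion M := by
  classical
  constructor
  · intro hint g
    -- `of g` is integral
    obtain ⟨P, hPmonic, hP⟩ := hint.isIntegral (MonoidAlgebra.of R M g)
    by_contra hg
    -- powers of g are pairwise distinct
    have hinj : Function.Injective (fun i : ℕ => g ^ i) := by
      intro i j hij
      by_contra hne
      apply hg
      rcases Nat.lt_or_gt_of_ne hne with h | h
      · rw [isOfFinOrder_iff_pow_eq_one]
        refine ⟨j - i, by omega, ?_⟩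
        have : g ^ i * g ^ (j - i) = g ^ i * 1 := by
          rw [← pow_add, mul_one]; simpa [Nat.add_sub_cancel' h.le] using hij.symm
        exact mul_left_cancel this
      · rw [isOfFinOrder_iff_pow_eq_one]
        refine ⟨i - j, by omega, ?_⟩
        have : g ^ j * g ^ (i - j) = g ^ j * 1 := by
          rw [← pow_add, mul_one]; simpa [Nat.add_sub_cancel' h.le] using hij
        exact mul_left_cancel this
    rw [Polynomial.eval₂_eq_sum_range] at hP
    have hterm : ∀ i : ℕ, (algebraMap R (MonoidAlgebra R M)) (P.coeff i) * (MonoidAlgebra.of R M g) ^ i =
        MonoidAlgebra.single (g ^ i) (P.coeff i) := by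
      intro i
      rw [← map_pow, MonoidAlgebra.of_apply, MonoidAlgebra.coe_algebraMap]
      simp [MonoidAlgebra.single_mul_single]
    simp_rw [hterm] at hP
    have := congrArg (fun f : MonoidAlgebra R M => f.coeff (g ^ P.natDegree)) hP
    simp only [MonoidAlgebra.coeff_sum, MonoidAlgebra.coeff_single, Finsupp.coe_finsetSum,
      Finset.sum_apply, MonoidAlgebra.coeff_zero, Finsupp.coe_zero, Pi.zero_apply] at this
    rw [Finset.sum_eq_single P.natDegree] at this
    · rw [Finsupp.single_apply, if_pos rfl] at this
      rw [Polynomial.Monic, Polynomial.leadingCoeff] at hPmonic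
      rw [hPmonic] at this
      exact one_ne_zero this
    · intro i _ hi
      rw [Finsupp.single_apply, if_neg]
      intro h
      exact hi (hinj h)
    · intro h
      simp at h
  · intro htors
    constructor
    intro x
    induction x using MonoidAlgebra.induction_on with
    | of g =>
      obtain ⟨n, hn, hgn⟩ := (isOfFinOrder_iff_pow_eq_one.mp (htors g))
      refine ⟨Polynomial.X ^ n - 1, Polynomial.monic_X_pow_sub_C (1 : R) (by omega), ?_⟩
      simp only [Polynomial.eval₂_sub, Polynomial.eval₂_pow, Polynomial.eval₂_X, Polynomial.eval₂_one]
      rw [← map_pow, hgn, map_one, sub_self]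
    | add x y hx hy => exact hx.add hy
    | smul r x hx =>
      rw [Algebra.smul_def]
      exact IsIntegral.mul isIntegral_algebraMap hx

end Groth.Agent.S13130
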