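import Groth.Statements.S13131
-- import your own Groth.Agent.* helpers here

set_option autoImplicit false
set_option backward.isDefEq.respectTransparency false
universe u
open CategoryTheory CategoryTheory.Limits AlgebraicGeometry
open KumFam

namespace Groth.Agent.S13131

variable {S : Scheme.{u}} {M : Type u} {T : Scheme.{u}}

/-- index of the copy containing a point -/
noncomputable def idx (x : (∐ (fun _ : M => S) : Scheme.{u})) : M :=
  ((sigmaMk (fun _ : M => S)).symm x).1

lemma idx_ι (m : M) (s : S) : idx (M := M) ((Sigma.ι (fun _ : M => S) m).base s) = m := by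
  unfold idx
  have := sigmaMk_mk (fun _ : M => S) m s
  have h2 : (Sigma.ι (fun _ : M => S) m).base s = sigmaMk (fun _ : M => S) ⟨m, s⟩ := this.symm
  rw [h2, Homeomorph.symm_apply_apply]

lemma exists_of_idx_eq (x : (∐ (fun _ : M => S) : Scheme.{u})) (m : M) (h : idx x = m) :
    ∃ s : S, (Sigma.ι (fun _ : M => S) m).base s = x := by
  obtain ⟨⟨m', s⟩, rfl⟩ := (sigmaMk (fun _ : M => S)).surjective x
  have : m' = m := by
    rw [← h]; unfold idx; rw [Homeomorph.symm_apply_apply]
  subst this
  exact ⟨s, (sigmaMk_mk (fun _ : M => S) m' s).symm⟩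

lemma isLocallyConstant_idx : IsLocallyConstant (idx (S := S) (M := M)) := by
  have h1 : IsLocallyConstant (Sigma.fst : (Σ _ : M, S) → M) := by
    rw [IsLocallyConstant.iff_isOpen_fiber]
    intro m
    have : (Sigma.fst : (Σ _ : M, S) → M) ⁻¹' {m} = Set.range (Sigma.mk m) := by
      ext ⟨a, b⟩
      simp only [Set.mem_preimage, Set.mem_singleton_iff, Set.mem_range]
      constructor
      · rintro rfl; exact ⟨b, rfl⟩
      · rintro ⟨y, hy⟩
        exact (congrArg Sigma.fst hy).symm
    rw [this]
    exact isOpen_range_sigmaMk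
  exact h1.comp_continuous (sigmaMk (fun _ : M => S)).symm.continuous

/-- the fibre of a locally constant map, as an open -/
def fib (g : LocallyConstant T M) (m : M) : T.Opens :=
  ⟨g ⁻¹' {m}, g.isLocallyConstant.isOpen_fiber m⟩

lemma mem_fib (g : LocallyConstant T M) (m : M) (t : T) : t ∈ fib g m ↔ g t = m := Iff.rfl

lemma iSup_fib (g : LocallyConstant T M) : ⨆ m, (fib g m).ι.opensRange = ⊤ := by
  rw [eq_top_iff]
  intro t _
  rw [TopologicalSpace.Opens.mem_iSup]
  refine ⟨g t, ?_⟩
  rw [Scheme.Opens.opensRange_ι]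
  exact (rfl : g t = g t)

open scoped Function in
lemma disj_fib (g : LocallyConstant T M) :
    Pairwise (Disjoint on (fun m => (fib g m).ι.opensRange)) := by
  intro m m' hne
  simp only [Function.onFun, Scheme.Opens.opensRange_ι]
  rw [disjoint_iff]
  ext t
  simp only [TopologicalSpace.Opens.coe_inf, Set.mem_inter_iff, SetLike.mem_coe, TopologicalSpace.Opens.coe_bot,
    Set.mem_empty_iff_false, iff_false, not_and]
  intro h1 h2
  exact hne (((mem_fib g m t).1 h1).symm.trans ((mem_fib g m' t).1 h2))

noncomputable def isColim (g : LocallyConstant T M) :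
    IsColimit (Cofan.mk T (fun m => (fib g m).ι)) :=
  (nonempty_isColimit_cofanMk_of (fun m => (fib g m).ι) (iSup_fib g) (disj_fib g)).some

noncomputable def mkHom (p : T ⟶ S) (g : LocallyConstant T M) : T ⟶ ∐ (fun _ : M => S) :=
  Cofan.IsColimit.desc (isColim g) (fun m => (fib g m).ι ≫ p ≫ Sigma.ι (fun _ : M => S) m)

@[reassoc]
lemma fib_ι_mkHom (p : T ⟶ S) (g : LocallyConstant T M) (m : M) :
    (fib g m).ι ≫ mkHom p g = (fib g m).ι ≫ p ≫ Sigma.ι (fun _ : M => S) m :=
  Cofan.IsColimit.fac (isColim g) _ m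

lemma mkHom_desc (p : T ⟶ S) (g : LocallyConstant T M) :
    mkHom p g ≫ Sigma.desc (fun _ : M => 𝟙 S) = p := by
  refine Cofan.IsColimit.hom_ext (isColim g) _ _ (fun m => ?_)
  simp only [Cofan.mk_pt, cofan_mk_inj]
  rw [fib_ι_mkHom_assoc]
  simp

lemma idx_mkHom (p : T ⟶ S) (g : LocallyConstant T M) (t : T) :
    idx ((mkHom p g).base t) = g t := by
  have h : (mkHom p g).base t = (Sigma.ι (fun _ : M => S) (g t)).base (p.base t) := by
    have h := congrArg (fun φ : ((fib g (g t) : T.Opens) : Scheme.{u}) ⟶ ∐ (fun _ : M => S) =>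
      φ ⟨t, (rfl : g t = g t)⟩) (fib_ι_mkHom p g (g t))
    exact h
  rw [h, idx_ι]

lemma mkHom_eq (p : T ⟶ S) (f : T ⟶ ∐ (fun _ : M => S))
    (hf : f ≫ Sigma.desc (fun _ : M => 𝟙 S) = p) (g : LocallyConstant T M)
    (hg : ∀ t, g t = idx (f.base t)) : mkHom p g = f := by
  refine Cofan.IsColimit.hom_ext (isColim g) _ _ (fun m => ?_)
  simp only [Cofan.mk_pt, cofan_mk_inj]
  rw [fib_ι_mkHom]
  have hr : Set.range ((fib g m).ι ≫ f).base ⊆ Set.range (Sigma.ι (fun _ : M => S) m).base := by
    rintro _ ⟨t, rfl⟩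
    have : idx (f.base ((fib g m).ι.base t)) = m := by
      rw [← hg]; exact t.2
    obtain ⟨s, hs⟩ := exists_of_idx_eq _ m this
    exact ⟨s, by simpa using hs⟩
  have hl := IsOpenImmersion.lift_fac (Sigma.ι (fun _ : M => S) m) ((fib g m).ι ≫ f) hr
  set h := IsOpenImmersion.lift (Sigma.ι (fun _ : M => S) m) ((fib g m).ι ≫ f) hr
  have h1 : h = (fib g m).ι ≫ p := by
    rw [← hf, ← Category.assoc, ← hl, Category.assoc]
    simp
  rw [← hl, h1, Category.assoc]



/-- Let S be a scheme, M a set and p : T → S a scheme over S. The S-morphisms T → ∐_{m ∈ M} S (the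
constant S-scheme on M, with its structure map the codiagonal) are in bijection with the locally
constant maps T → M, a morphism f corresponding to the function sending t to the index of the copy
of S containing f(t). (In the published statement M is a group and ∐_M S the constant group scheme;
the group structures play no role in this description of T-points.) -/
theorem result (S : Scheme.{u}) (M : Type u)
    (T : Scheme.{u}) (p : T ⟶ S) :
    ∃ e : {f : T ⟶ ∐ (fun _ : M => S) // f ≫ Sigma.desc (fun _ : M => 𝟙 S) = p} ≃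
        LocallyConstant T M,
      ∀ (f : {f : T ⟶ ∐ (fun _ : M => S) // f ≫ Sigma.desc (fun _ : M => 𝟙 S) = p}) (t : T),
        e f t = ((sigmaMk (fun _ : M => S)).symm (f.1.base t)).1 := by
  refine ⟨{ toFun := fun f => ⟨fun t => idx (f.1.base t),
              isLocallyConstant_idx.comp_continuous f.1.continuous⟩
            invFun := fun g => ⟨mkHom p g, mkHom_desc p g⟩
            left_inv := fun f => Subtype.ext (mkHom_eq p f.1 f.2 _ (fun _ => rfl))
            right_inv := fun g => LocallyConstant.ext (fun t => idx_mkHom p g t) }, fun f t => rfl⟩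


end Groth.Agent.S13131
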