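import Groth.Statements.S13132
import Mathlib
import Groth.Agent.Lib.Helper19.ArtFlat

set_option autoImplicit false
universe u v
open CAlg

namespace Groth.Agent.S13132

open Groth.Agent.Lib.Helper19.ArtFlat Groth.Agent.Lib.Helper19.DefCIv



/-- Let A' be an Artinian local ring, I a proper ideal of A' and S' a flat A'-algebra. An element f' of
S' is a non-zero-divisor exactly when its image in S'/IS' is one; and when f' is a non-zero-divisor,
the quotient S'/(f') is flat over A'. (The published statement is for local Artinian algebras with a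
fixed residue field over a ring of Witt vectors and a surjection between two of them; the argument
uses only that A' is Artinian local and I is a proper ideal, which is the form taken here.) -/
theorem result
    {A' : Type u} [CommRing A'] [IsArtinianRing A'] [IsLocalRing A'] (I : Ideal A') (hI : I ≠ ⊤)
    {S' : Type v} [CommRing S'] [Algebra A' S'] [Module.Flat A' S'] (f' : S') :
    (f' ∈ nonZeroDivisors S' ↔
      Ideal.Quotient.mk (I.map (algebraMap A' S')) f' ∈ nonZeroDivisors (S' ⧸ I.map (algebraMap A' S'))) ∧
    (f' ∈ nonZeroDivisors S' → Module.Flat A' (S' ⧸ Ideal.span {f'})) := by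
  have hsm : ∀ x : S', x ∈ I • (⊤ : Submodule A' S') ↔ x ∈ I.map (algebraMap A' S') := by
    intro x
    rw [Ideal.smul_top_eq_map, Submodule.restrictScalars_mem]
  let u : S' →ₗ[A'] S' := LinearMap.mulLeft A' f'
  have hu : ∀ x, u x = f' * x := fun x => rfl
  have hrange : (Ideal.span {f'}).restrictScalars A' = LinearMap.range u := by
    ext x
    rw [Submodule.restrictScalars_mem, Ideal.mem_span_singleton', LinearMap.mem_range]
    constructor
    · rintro ⟨a, rfl⟩
      exact ⟨a, by rw [hu, mul_comm]⟩
    · rintro ⟨a, rfl⟩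
      exact ⟨a, by rw [hu, mul_comm]⟩
  have hflat_of_nzd : f' ∈ nonZeroDivisors S' → Module.Flat A' (S' ⧸ Ideal.span {f'}) := by
    intro hf
    have hinj : Function.Injective u := by
      rw [injective_iff_map_eq_zero]
      intro x hx
      exact (mem_nonZeroDivisors_iff_left.mp hf) x hx
    have h0 : ∀ x : S', u x ∈ (⊥ : Ideal A') • (⊤ : Submodule A' S') →
        x ∈ (⊥ : Ideal A') • (⊤ : Submodule A' S') := by
      intro x hx
      rw [Submodule.bot_smul, Submodule.mem_bot] at hx ⊢
      exact hinj (by rw [hx, map_zero])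
    obtain ⟨-, hfl⟩ := injective_and_flat_coker_of_artinian (⊥ : Ideal A') bot_ne_top u h0
    exact Module.Flat.of_linearEquiv (quotEquivOfCarrier S' _ _ hrange)
  refine ⟨⟨fun hf => ?_, fun hf => ?_⟩, hflat_of_nzd⟩
  · haveI := hflat_of_nzd hf
    rw [mem_nonZeroDivisors_iff_left]
    intro y hy
    obtain ⟨x, rfl⟩ := Ideal.Quotient.mk_surjective y
    rw [← map_mul, Ideal.Quotient.eq_zero_iff_mem] at hy
    have h1 : f' * x ∈ Ideal.span {f'} ⊓ I.map (algebraMap A' S') :=
      ⟨Ideal.mul_mem_right _ _ (Ideal.mem_span_singleton_self f'), hy⟩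
    have h2 := inf_map_le_mul (Ideal.span {f'}) I h1
    rw [Ideal.mem_mul_span_singleton] at h2
    obtain ⟨z, hz, hzx⟩ := h2
    have h3 : f' * (x - z) = 0 := by rw [mul_sub, ← hzx, mul_comm z f', sub_self]
    have h4 := (mem_nonZeroDivisors_iff_left.mp hf) _ h3
    rw [sub_eq_zero] at h4
    rw [Ideal.Quotient.eq_zero_iff_mem, h4]
    exact hz
  · have hmod : ∀ x : S', u x ∈ I • (⊤ : Submodule A' S') → x ∈ I • (⊤ : Submodule A' S') := by
      intro x hx
      rw [hsm] at hx ⊢
      rw [hu] at hx
      have h1 : Ideal.Quotient.mk (I.map (algebraMap A' S')) f' *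
          Ideal.Quotient.mk (I.map (algebraMap A' S')) x = 0 := by
        rw [← map_mul, Ideal.Quotient.eq_zero_iff_mem]
        exact hx
      have h2 := (mem_nonZeroDivisors_iff_left.mp hf) _ h1
      exact Ideal.Quotient.eq_zero_iff_mem.mp h2
    obtain ⟨hinj, -⟩ := injective_and_flat_coker_of_artinian I hI u hmod
    rw [mem_nonZeroDivisors_iff_left]
    intro x hx
    exact hinj (by rw [hu, hx, map_zero])

end Groth.Agent.S13132
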