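import Groth.Statements.S13133
import Mathlib
import Groth.Agent.Lib.Helper19.ArtFlat

set_option autoImplicit false
universe u v
open CAlg

namespace Groth.Agent.S13133

open Groth.Agent.Lib.Helper19.ArtFlat Groth.Agent.Lib.Helper19.DefCIv RingTheory.Sequence



/-- Let A' be an Artinian local ring, I a proper ideal of A', S' a flat A'-algebra and f'_1, …, f'_n
elements of S' with n ≥ 1. A family f'_1, …, f'_n in S' is a regular sequence exactly when its
reduction modulo I·S' is a regular sequence of S'/IS'. (Regular sequences are defined in the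
published text over Noetherian rings; this row does not assume S' Noetherian, which the argument
does not use. The published statement is for a surjection of local Artinian algebras with a fixed
residue field over a ring of Witt vectors; only the Artinian local base and the proper ideal are
used, which is the form taken here.) -/
theorem result
    {A' : Type u} [CommRing A'] [IsArtinianRing A'] [IsLocalRing A'] (I : Ideal A') (hI : I ≠ ⊤)
    {S' : Type v} [CommRing S'] [Algebra A' S'] [Module.Flat A' S'] {n : ℕ} (hn : 1 ≤ n)
    (f' : Fin n → S') :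
    RingTheory.Sequence.IsRegular S' (List.ofFn f') ↔
      RingTheory.Sequence.IsRegular (S' ⧸ I.map (algebraMap A' S'))
        (List.ofFn fun i => Ideal.Quotient.mk (I.map (algebraMap A' S')) (f' i)) := by
  have hlist : (List.ofFn fun i => Ideal.Quotient.mk (I.map (algebraMap A' S')) (f' i)) =
      (List.ofFn f').map (algebraMap S' (S' ⧸ I.map (algebraMap A' S'))) := by
    rw [List.map_ofFn]
    rfl
  rw [hlist]
  let p : S' →ₗ[S'] (S' ⧸ I.map (algebraMap A' S')) := Algebra.linearMap _ _
  have hp : Function.Surjective p := Ideal.Quotient.mk_surjective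
  have hker : LinearMap.ker p = (I.map (algebraMap A' S')) • (⊤ : Submodule S' S') := by
    rw [smul_eq_mul, Ideal.mul_top]
    ext x
    rw [LinearMap.mem_ker]
    exact Ideal.Quotient.eq_zero_iff_mem
  -- nilpotency of K
  have hKnil : IsNilpotent (I.map (algebraMap A' S')) := by
    obtain ⟨k, hk⟩ := isNilpotent_maximalIdeal (A' := A')
    refine ⟨k, ?_⟩
    have h1 : I ^ k ≤ IsLocalRing.maximalIdeal A' ^ k := Ideal.pow_right_mono (IsLocalRing.le_maximalIdeal hI) k
    rw [hk, Ideal.zero_eq_bot, le_bot_iff] at h1
    rw [← Ideal.map_pow, h1, Ideal.map_bot, Ideal.zero_eq_bot]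
  have htop : Ideal.ofList (List.ofFn f') = ⊤ ↔
      Ideal.ofList ((List.ofFn f').map (algebraMap S' (S' ⧸ I.map (algebraMap A' S')))) = ⊤ := by
    rw [← Ideal.map_ofList]
    constructor
    · intro h
      rw [h]
      exact Ideal.map_top _
    · intro h
      have h1 := congrArg (Ideal.comap (algebraMap S' (S' ⧸ I.map (algebraMap A' S')))) h
      rw [Ideal.comap_top] at h1
      have h1' : Ideal.comap (Ideal.Quotient.mk (I.map (algebraMap A' S')))
          (Ideal.map (Ideal.Quotient.mk (I.map (algebraMap A' S'))) (Ideal.ofList (List.ofFn f'))) = ⊤ := h1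
      rw [Ideal.comap_map_of_surjective _ Ideal.Quotient.mk_surjective, ← RingHom.ker_eq_comap_bot,
        Ideal.mk_ker] at h1'
      rw [Ideal.eq_top_iff_one] at h1' ⊢
      obtain ⟨j, hj, k, hk, hjk⟩ := Submodule.mem_sup.mp h1'
      obtain ⟨N, hN⟩ := hKnil
      have hknil : IsNilpotent k := ⟨N, by
        have := Ideal.pow_mem_pow hk N
        rwa [hN, Ideal.zero_eq_bot, Ideal.mem_bot] at this⟩
      have hunit : IsUnit j := by
        have : j = 1 - k := by rw [← hjk]; ring
        rw [this]
        exact hknil.isUnit_one_sub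
      exact (Ideal.eq_top_of_isUnit_mem _ hj hunit) ▸ Submodule.mem_top
  constructor
  · intro h
    refine ⟨?_, ?_⟩
    · rw [isWeaklyRegular_map_algebraMap_iff]
      exact stepC I (List.ofFn f') S' _ p hp hker h.toIsWeaklyRegular
    · have h1 := h.top_ne_smul
      rw [smul_eq_mul, Ideal.mul_top] at h1 ⊢
      intro h2
      exact h1 (htop.mpr h2.symm).symm
  · intro h
    have hwr := (isWeaklyRegular_map_algebraMap_iff (S' ⧸ I.map (algebraMap A' S'))
      (S' ⧸ I.map (algebraMap A' S')) (List.ofFn f')).mp h.toIsWeaklyRegular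
    obtain ⟨hreg, -⟩ := stepB' I hI (List.ofFn f') S' _ p hp hker hwr
    refine ⟨hreg, ?_⟩
    have h1 := h.top_ne_smul
    rw [smul_eq_mul, Ideal.mul_top] at h1 ⊢
    intro h2
    exact h1 (htop.mp h2.symm).symm

end Groth.Agent.S13133
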