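import Groth.Statements.S13134
import Mathlib
import Groth.Agent.Lib.Helper19.ArtFlat
import Groth.Agent.Lib.Helper19.DefCI

set_option autoImplicit false
universe u v
open CAlg

namespace Groth.Agent.S13134

open Groth.Agent.Lib.Helper19.ArtFlat



/-- Let A' be an Artinian local ring, I a proper ideal, A = A'/I and f_1, …, f_m ∈ A[x_1, …, x_n]. Every
flat A'-algebra B' equipped with a surjection π onto A[x]/(f_1, …, f_m) with kernel I·B', compatible
with A' → A, is a quotient of A'[x_1, …, x_n] by the ideal generated by some lifts f'_1, …, f'_m of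
the f_i, compatibly with π and with reduction of polynomials modulo I. (The published statement is
for a surjection of local Artinian algebras with a fixed residue field over a ring of Witt vectors;
only the Artinian local base and the proper ideal are used, which is the form taken here.) -/
theorem result
    {A' : Type u} [CommRing A'] [IsArtinianRing A'] [IsLocalRing A'] (I : Ideal A') (hI : I ≠ ⊤)
    {n m : ℕ} (f : Fin m → MvPolynomial (Fin n) (A' ⧸ I))
    {B' : Type v} [CommRing B'] [Algebra A' B'] [Module.Flat A' B']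
    (π : B' →+* MvPolynomial (Fin n) (A' ⧸ I) ⧸ Ideal.span (Set.range f))
    (hπ : Function.Surjective π) (hker : RingHom.ker π = I.map (algebraMap A' B'))
    (hcomp : π.comp (algebraMap A' B') =
      ((Ideal.Quotient.mk (Ideal.span (Set.range f))).comp MvPolynomial.C).comp (Ideal.Quotient.mk I)) :
    ∃ (f' : Fin m → MvPolynomial (Fin n) A') (ψ : MvPolynomial (Fin n) A' →ₐ[A'] B'),
      (∀ i, MvPolynomial.map (Ideal.Quotient.mk I) (f' i) = f i) ∧
      Function.Surjective ψ ∧ RingHom.ker ψ.toRingHom = Ideal.span (Set.range f') ∧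
      ∀ q, π (ψ q) = Ideal.Quotient.mk (Ideal.span (Set.range f)) (MvPolynomial.map (Ideal.Quotient.mk I) q) := by
  have hInil : IsNilpotent I := by
    obtain ⟨k, hk⟩ := isNilpotent_maximalIdeal (A' := A')
    refine ⟨k, ?_⟩
    have h1 : I ^ k ≤ IsLocalRing.maximalIdeal A' ^ k :=
      Ideal.pow_right_mono (IsLocalRing.le_maximalIdeal hI) k
    rwa [hk, Ideal.zero_eq_bot, le_bot_iff] at h1
  have hred_surj : Function.Surjective (MvPolynomial.map (σ := Fin n) (Ideal.Quotient.mk I)) :=
    MvPolynomial.map_surjective _ Ideal.Quotient.mk_surjective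
  have hred_ker : ∀ x : MvPolynomial (Fin n) A', MvPolynomial.map (Ideal.Quotient.mk I) x = 0 ↔
      x ∈ I.map (algebraMap A' (MvPolynomial (Fin n) A')) := by
    intro x
    rw [← RingHom.mem_ker, MvPolynomial.ker_map, Ideal.mk_ker]
    rfl
  -- the map ψ
  choose b hb using fun j : Fin n => hπ (Ideal.Quotient.mk (Ideal.span (Set.range f)) (MvPolynomial.X j))
  let ψ : MvPolynomial (Fin n) A' →ₐ[A'] B' := MvPolynomial.aeval b
  have hψπ : ∀ q, π (ψ q) = Ideal.Quotient.mk (Ideal.span (Set.range f))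
      (MvPolynomial.map (Ideal.Quotient.mk I) q) := by
    have : π.comp ψ.toRingHom = (Ideal.Quotient.mk (Ideal.span (Set.range f))).comp
        (MvPolynomial.map (Ideal.Quotient.mk I)) := by
      apply MvPolynomial.ringHom_ext
      · intro a
        have h1 := RingHom.congr_fun hcomp a
        simp only [RingHom.comp_apply] at h1 ⊢
        rw [MvPolynomial.map_C, ← h1]
        congr 1
        exact (MvPolynomial.aeval_C b a)
      · intro j
        simp only [RingHom.comp_apply, MvPolynomial.map_X]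
        rw [← hb j]
        congr 1
        exact MvPolynomial.aeval_X b j
    intro q
    exact RingHom.congr_fun this q
  -- surjectivity
  have hψ : Function.Surjective ψ := by
    rw [← AlgHom.coe_toLinearMap, ← LinearMap.range_eq_top]
    apply eq_top_of_sup_smul_eq_top I hInil
    rw [eq_top_iff]
    intro y _
    obtain ⟨g₀, hg₀⟩ := Ideal.Quotient.mk_surjective (π y)
    obtain ⟨g, rfl⟩ := hred_surj g₀
    have h1 : y - ψ g ∈ RingHom.ker π := by
      rw [RingHom.mem_ker, map_sub, hψπ, hg₀, sub_self]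
    rw [hker] at h1
    have h2 : y - ψ g ∈ I • (⊤ : Submodule A' B') := by
      rw [Ideal.smul_top_eq_map, Submodule.restrictScalars_mem]
      exact h1
    have h3 : y = ψ g + (y - ψ g) := by ring
    rw [h3]
    exact Submodule.add_mem_sup ⟨g, rfl⟩ h2
  -- flatness of P'/K'
  haveI : Module.Flat A' (MvPolynomial (Fin n) A' ⧸ RingHom.ker ψ.toRingHom) :=
    Module.Flat.of_linearEquiv (Ideal.quotientKerAlgEquivOfSurjective hψ).toLinearEquiv
  -- elements of IB' come from IP'
  have hIB : ∀ y ∈ I.map (algebraMap A' B'),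
      ∃ h ∈ I.map (algebraMap A' (MvPolynomial (Fin n) A')), ψ h = y := by
    intro y hy
    have h1 : I.map (algebraMap A' B') =
        (I.map (algebraMap A' (MvPolynomial (Fin n) A'))).map ψ.toRingHom := by
      rw [Ideal.map_map]
      congr 1
      ext a
      exact (ψ.commutes a).symm
    rw [h1] at hy
    obtain ⟨h, hh, hhy⟩ := (Ideal.mem_map_iff_of_surjective ψ.toRingHom hψ).mp hy
    exact ⟨h, hh, hhy⟩
  -- lifts f'
  have hlift : ∀ i, ∃ f'i : MvPolynomial (Fin n) A', f'i ∈ RingHom.ker ψ.toRingHom ∧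
      MvPolynomial.map (Ideal.Quotient.mk I) f'i = f i := by
    intro i
    obtain ⟨g, hg⟩ := hred_surj (f i)
    have h1 : ψ g ∈ I.map (algebraMap A' B') := by
      rw [← hker, RingHom.mem_ker, hψπ, hg, Ideal.Quotient.eq_zero_iff_mem]
      exact Ideal.subset_span ⟨i, rfl⟩
    obtain ⟨h, hh, hhg⟩ := hIB _ h1
    refine ⟨g - h, ?_, ?_⟩
    · rw [RingHom.mem_ker]
      show ψ (g - h) = 0
      rw [map_sub, hhg, sub_self]
    · rw [map_sub, hg, (hred_ker h).mpr hh, sub_zero]
  choose f' hf'K hf' using hlift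
  refine ⟨f', ψ, hf', hψ, ?_, hψπ⟩
  -- K' = span f'
  have hKnil : IsNilpotent (I.map (algebraMap A' (MvPolynomial (Fin n) A'))) := by
    obtain ⟨k, hk⟩ := hInil
    exact ⟨k, by rw [← Ideal.map_pow, hk, Ideal.zero_eq_bot, Ideal.map_bot, Ideal.zero_eq_bot]⟩
  have h1 : Ideal.span (Set.range f') ≤ RingHom.ker ψ.toRingHom :=
    Ideal.span_le.mpr (by rintro _ ⟨i, rfl⟩; exact hf'K i)
  refine Groth.Agent.Lib.Helper19.DefCI.eq_of_le_sup_mul _ _ _ hKnil h1 ?_
  intro x hx
  have h2 : MvPolynomial.map (Ideal.Quotient.mk I) x ∈ Ideal.span (Set.range f) := by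
    rw [← Ideal.Quotient.eq_zero_iff_mem, ← hψπ]
    have : ψ x = 0 := hx
    rw [this, map_zero]
  obtain ⟨c, hc⟩ := (Submodule.mem_span_range_iff_exists_fun _).mp h2
  choose c' hc' using fun i => hred_surj (c i)
  have hy : ∑ i, c' i * f' i ∈ Ideal.span (Set.range f') :=
    Ideal.sum_mem _ fun i _ => Ideal.mul_mem_left _ _ (Ideal.subset_span ⟨i, rfl⟩)
  have h3 : x - ∑ i, c' i * f' i ∈ I.map (algebraMap A' (MvPolynomial (Fin n) A')) := by
    rw [← hred_ker, map_sub, map_sum, ← hc, sub_eq_zero]
    refine Finset.sum_congr rfl fun i _ => ?_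
    rw [map_mul, hc', hf', smul_eq_mul]
  have h4 : x - ∑ i, c' i * f' i ∈ RingHom.ker ψ.toRingHom := Ideal.sub_mem _ hx (h1 hy)
  have h5 := Groth.Agent.Lib.Helper19.DefCIv.inf_map_le_mul (RingHom.ker ψ.toRingHom) I ⟨h4, h3⟩
  have h6 : x = ∑ i, c' i * f' i + (x - ∑ i, c' i * f' i) := by ring
  rw [h6]
  exact Ideal.add_mem _ (Ideal.mem_sup_left hy) (Ideal.mem_sup_right h5)

end Groth.Agent.S13134
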