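import Groth.Statements.S13135
import Mathlib
import Groth.Agent.Lib.Helper19.ArtFlat

set_option autoImplicit false
universe u
open CAlg

namespace Groth.Agent.S13135

open Groth.Agent.Lib.Helper19.ArtFlat RingTheory.Sequence



/-- Let A' be an Artinian local ring, I a proper ideal, A = A'/I and f_1, …, f_m a regular sequence in
A[x_1, …, x_n]. For every choice of lifts f'_1, …, f'_m in A'[x_1, …, x_n] the quotient A'[x]/(f'_1,
…, f'_m) is flat over A' (so it is a flat lifting of A[x]/(f_1, …, f_m)). (The published statement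
is for a surjection of local Artinian algebras with a fixed residue field over a ring of Witt
vectors; only the Artinian local base and the proper ideal are used, which is the form taken here.) -/
theorem result
    {A' : Type u} [CommRing A'] [IsArtinianRing A'] [IsLocalRing A'] (I : Ideal A') (hI : I ≠ ⊤)
    {n m : ℕ} (f : Fin m → MvPolynomial (Fin n) (A' ⧸ I))
    (hreg : RingTheory.Sequence.IsRegular (MvPolynomial (Fin n) (A' ⧸ I)) (List.ofFn f))
    (f' : Fin m → MvPolynomial (Fin n) A') (hf' : ∀ i, MvPolynomial.map (Ideal.Quotient.mk I) (f' i) = f i) :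
    Module.Flat A' (MvPolynomial (Fin n) A' ⧸ Ideal.span (Set.range f')) := by
  letI : Algebra (MvPolynomial (Fin n) A') (MvPolynomial (Fin n) (A' ⧸ I)) :=
    (MvPolynomial.map (Ideal.Quotient.mk I)).toAlgebra
  have halg : ∀ x, algebraMap (MvPolynomial (Fin n) A') (MvPolynomial (Fin n) (A' ⧸ I)) x =
      MvPolynomial.map (Ideal.Quotient.mk I) x := fun x => rfl
  let p : MvPolynomial (Fin n) A' →ₗ[MvPolynomial (Fin n) A'] MvPolynomial (Fin n) (A' ⧸ I) :=
    Algebra.linearMap _ _
  have hp : Function.Surjective p :=
    MvPolynomial.map_surjective _ Ideal.Quotient.mk_surjective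
  have hker : LinearMap.ker p = (I.map (algebraMap A' (MvPolynomial (Fin n) A'))) •
      (⊤ : Submodule (MvPolynomial (Fin n) A') (MvPolynomial (Fin n) A')) := by
    rw [smul_eq_mul, Ideal.mul_top]
    ext x
    rw [LinearMap.mem_ker]
    show MvPolynomial.map (Ideal.Quotient.mk I) x = 0 ↔ _
    rw [← RingHom.mem_ker, MvPolynomial.ker_map, Ideal.mk_ker]
    rfl
  have hwr : IsWeaklyRegular (MvPolynomial (Fin n) (A' ⧸ I)) (List.ofFn f') := by
    rw [← isWeaklyRegular_map_algebraMap_iff (MvPolynomial (Fin n) (A' ⧸ I))]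
    have : (List.ofFn f').map (algebraMap (MvPolynomial (Fin n) A') (MvPolynomial (Fin n) (A' ⧸ I))) =
        List.ofFn f := by
      rw [List.map_ofFn]
      congr 1
      funext i
      exact hf' i
    rw [this]
    exact hreg.toIsWeaklyRegular
  obtain ⟨-, hfl⟩ := stepB' I hI (List.ofFn f') (MvPolynomial (Fin n) A')
    (MvPolynomial (Fin n) (A' ⧸ I)) p hp hker hwr
  have h1 := hfl m
  have h2 : (List.ofFn f').take m = List.ofFn f' := by
    apply List.take_of_length_le
    simp
  have h3 : Ideal.ofList (List.ofFn f') = Ideal.span (Set.range f') := by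
    unfold Ideal.ofList
    congr 1
    ext x
    simp [List.mem_ofFn]
  rw [h2, h3, smul_eq_mul, Ideal.mul_top] at h1
  exact h1

end Groth.Agent.S13135
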