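import Groth.Statements.S13136
import Mathlib
import Groth.Agent.Lib.Helper19.W2Flat

set_option autoImplicit false
universe u v
open FrobAlg

namespace Groth.Agent.S13136




/-- For a perfect field k of characteristic p, a module M over the Witt vectors W₂(k) of length two is
flat if and only if every element of M annihilated by p lies in pM, i.e. the map M/pM → pM, m ↦ pm,
is injective. -/
theorem result
    (p : ℕ) [Fact p.Prime] (k : Type u) [Field k] [CharP k p] [PerfectRing k p]
    (M : Type v) [AddCommGroup M] [Module (FrobAlg.W2 p k) M] :
    Module.Flat (FrobAlg.W2 p k) M ↔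
      ∀ m : M, (p : FrobAlg.W2 p k) • m = 0 → ∃ m' : M, m = (p : FrobAlg.W2 p k) • m' := by
  exact Groth.Agent.Lib.Helper19.W2Flat.flat_W2_iff p k M

end Groth.Agent.S13136
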