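import Groth.Statements.S13137
import Mathlib
import Groth.Agent.Lib.Helper19.W2Flat

set_option autoImplicit false
universe u v
open FrobAlg

namespace Groth.Agent.S13137

open Groth.Agent.Lib.Helper19.W2Flat



/-- For a perfect field k of characteristic p, a flat W₂(k)-algebra B and an ideal J of B, the quotient
B/J is flat over W₂(k) if and only if (p) ∩ J = pJ in B. (With B a flat lifting of A = B/pB this
says: B/J is a flat lifting of A modulo the image of J exactly when (p) ∩ J = pJ.) -/
theorem result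
    (p : ℕ) [Fact p.Prime] (k : Type u) [Field k] [CharP k p] [PerfectRing k p]
    (B : Type v) [CommRing B] [Algebra (FrobAlg.W2 p k) B] [Module.Flat (FrobAlg.W2 p k) B]
    (J : Ideal B) :
    Module.Flat (FrobAlg.W2 p k) (B ⧸ J) ↔
      Ideal.span {(p : B)} ⊓ J = Ideal.span {(p : B)} * J := by
  have hB := (flat_W2_iff p k B).mp inferInstance
  have hpp : (p : B) * (p : B) = 0 := by
    have h := congrArg (algebraMap (FrobAlg.W2 p k) B) (p_mul_p p k)
    rwa [map_mul, map_natCast, map_zero] at h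
  have hsm : ∀ x : B, (p : FrobAlg.W2 p k) • x = (p : B) * x := fun x => by
    rw [Algebra.smul_def, map_natCast]
  have hsmq : ∀ x : B, (p : FrobAlg.W2 p k) • (Ideal.Quotient.mk J x) =
      Ideal.Quotient.mk J ((p : B) * x) := fun x => by
    rw [Nat.cast_smul_eq_nsmul, ← map_nsmul, nsmul_eq_mul]
  rw [flat_W2_iff]
  constructor
  · intro h
    apply le_antisymm _ Ideal.mul_le_inf
    rintro y ⟨hy1, hy2⟩
    obtain ⟨x, rfl⟩ := Ideal.mem_span_singleton'.mp hy1
    have h1 : (p : FrobAlg.W2 p k) • (Ideal.Quotient.mk J x) = 0 := by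
      rw [hsmq, Ideal.Quotient.eq_zero_iff_mem, mul_comm]
      exact hy2
    obtain ⟨m', hm'⟩ := h _ h1
    obtain ⟨x', rfl⟩ := Ideal.Quotient.mk_surjective m'
    rw [hsmq, Ideal.Quotient.eq] at hm'
    have h2 : x * (p : B) = (p : B) * (x - (p : B) * x') := by
      have : (p : B) * (x - (p : B) * x') = x * p - (p * p) * x' := by ring
      rw [this, hpp, zero_mul, sub_zero]
    rw [h2]
    exact Ideal.mul_mem_mul (Ideal.mem_span_singleton_self _) hm'
  · intro h m hm
    obtain ⟨x, rfl⟩ := Ideal.Quotient.mk_surjective m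
    rw [hsmq, Ideal.Quotient.eq_zero_iff_mem] at hm
    have h1 : (p : B) * x ∈ Ideal.span {(p : B)} ⊓ J :=
      ⟨Ideal.mul_mem_right _ _ (Ideal.mem_span_singleton_self _), hm⟩
    rw [h, Ideal.mem_span_singleton_mul] at h1
    obtain ⟨j, hj, hjx⟩ := h1
    have h2 : (p : FrobAlg.W2 p k) • (x - j) = 0 := by
      rw [hsm, mul_sub, hjx, sub_self]
    obtain ⟨b, hb⟩ := hB _ h2
    refine ⟨Ideal.Quotient.mk J b, ?_⟩
    rw [hsmq, ← hsm, ← hb, eq_comm, Ideal.Quotient.eq]
    simpa using hj

end Groth.Agent.S13137
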