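import Groth.Statements.S13138
import Mathlib
import Groth.Agent.Lib.Helper22.W2Poly
import Groth.Agent.Lib.Helper19.W2Flat

set_option autoImplicit false
universe u
open scoped BigOperators
open FrobAlg

namespace Groth.Agent.S13138

section helpers

theorem exists_of_p_mul_eq_zero_of_flat {p : ℕ} [Fact p.Prime] {k : Type u} [Field k] [CharP k p]
    [PerfectRing k p] {B : Type*} [CommRing B] (ι : FrobAlg.W2 p k →+* B) (hflat : ι.Flat)
    {x : B} (hx : (p : B) * x = 0) : ∃ y, x = (p : B) * y := by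
  let _ : Algebra (FrobAlg.W2 p k) B := ι.toAlgebra
  have hflat' : Module.Flat (FrobAlg.W2 p k) B := hflat
  have hsm : ∀ z : B, (p : FrobAlg.W2 p k) • z = (p : B) * z := by
    intro z
    rw [Algebra.smul_def]
    change ι (p : FrobAlg.W2 p k) * z = _
    rw [map_natCast]
  obtain ⟨y, hy⟩ := (Groth.Agent.Lib.Helper19.W2Flat.flat_W2_iff p k B).mp hflat' x
    (by rw [hsm]; exact hx)
  exact ⟨y, by rw [hy, hsm]⟩

theorem res_surjective (p : ℕ) [Fact p.Prime] (k : Type u) [CommRing k] :
    Function.Surjective (FrobAlg.res p k) := by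
  intro a
  refine ⟨WittVector.truncate 2 (WittVector.teichmuller p a), ?_⟩
  rw [FrobAlg.res_truncate, WittVector.teichmuller_coeff_zero]


end helpers

/-- Let k be a perfect field of characteristic p, R' = W₂(k)[x_1, …, x_n], f'_1, …, f'_m ∈ R' with
reductions f_1, …, f_m ∈ R = k[x_1, …, x_n], J' = (f'_1, …, f'_m), J = (f_1, …, f_m), and assume B'
= R'/J' is flat over W₂(k), so that it is a flat lifting of B = R/J. The Frobenius of B lifts to B'
— there is a ring endomorphism of B' semilinear for the Witt-vector Frobenius σ₂ of W₂(k) and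
reducing to the p-th power map of B — if and only if there are h_1, …, h_n ∈ R' with F'(f'_i) −
f'_i^p − p·Σ_j (∂f'_i/∂x_j)^p h_j ∈ pJ' for every i, where F' is the standard Frobenius lift of R'
(σ₂ on coefficients, x_j ↦ x_j^p). Since multiplication by p identifies R with pR', this is the
congruence P(f'_i) ≡ Σ_j (∂f_i/∂x_j)^p h_j modulo J for the Frobenius residues P(f'_i) = (F'(f'_i) −
f'_i^p)/p. -/
theorem result
    (p : ℕ) [Fact p.Prime] (k : Type u) [Field k] [CharP k p] [PerfectRing k p]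
    {n m : ℕ} (f' : Fin m → MvPolynomial (Fin n) (FrobAlg.W2 p k))
    (hflat : ((Ideal.Quotient.mk (Ideal.span (Set.range f'))).comp
      (MvPolynomial.C : FrobAlg.W2 p k →+* MvPolynomial (Fin n) (FrobAlg.W2 p k))).Flat) :
    (∃ Φ : (MvPolynomial (Fin n) (FrobAlg.W2 p k) ⧸ Ideal.span (Set.range f')) →+*
        (MvPolynomial (Fin n) (FrobAlg.W2 p k) ⧸ Ideal.span (Set.range f')),
      Φ.comp ((Ideal.Quotient.mk (Ideal.span (Set.range f'))).comp MvPolynomial.C) =
        ((Ideal.Quotient.mk (Ideal.span (Set.range f'))).comp MvPolynomial.C).comp (FrobAlg.sigma p k) ∧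
      ∀ b, Ideal.quotientMap ((Ideal.span (Set.range f')).map (MvPolynomial.map (FrobAlg.res p k)))
          (MvPolynomial.map (FrobAlg.res p k)) Ideal.le_comap_map (Φ b) =
        (Ideal.quotientMap ((Ideal.span (Set.range f')).map (MvPolynomial.map (FrobAlg.res p k)))
          (MvPolynomial.map (FrobAlg.res p k)) Ideal.le_comap_map b) ^ p) ↔
    ∃ h : Fin n → MvPolynomial (Fin n) (FrobAlg.W2 p k), ∀ i,
      FrobAlg.polyFrob p k (Fin n) (f' i) - f' i ^ p
        - (p : MvPolynomial (Fin n) (FrobAlg.W2 p k)) * ∑ j, MvPolynomial.pderiv j (f' i) ^ p * h j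
        ∈ Ideal.span {(p : MvPolynomial (Fin n) (FrobAlg.W2 p k))} * Ideal.span (Set.range f') := by
  classical
  have hp0 : p ≠ 0 := (Fact.out : p.Prime).ne_zero
  set J' : Ideal (MvPolynomial (Fin n) (FrobAlg.W2 p k)) := Ideal.span (Set.range f') with hJ'
  have hfJ : ∀ i, f' i ∈ J' := fun i => Ideal.subset_span ⟨i, rfl⟩
  have hρsurj : Function.Surjective (MvPolynomial.map (FrobAlg.res p k) :
      MvPolynomial (Fin n) (FrobAlg.W2 p k) → MvPolynomial (Fin n) k) :=
    MvPolynomial.map_surjective _ (res_surjective p k)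
  have hpp := Groth.Agent.Lib.helper22.W2Poly.p_mul_p_poly p k (Fin n)
  constructor
  · rintro ⟨Φ, hsemi, hred⟩
    -- kernel of the reduction map on the quotient
    have hker : ∀ b : MvPolynomial (Fin n) (FrobAlg.W2 p k) ⧸ J',
        Ideal.quotientMap (J'.map (MvPolynomial.map (FrobAlg.res p k)))
          (MvPolynomial.map (FrobAlg.res p k)) Ideal.le_comap_map b = 0 →
        ∃ u : MvPolynomial (Fin n) (FrobAlg.W2 p k),
          b = Ideal.Quotient.mk J' ((p : MvPolynomial (Fin n) (FrobAlg.W2 p k)) * u) := by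
      intro b hb
      obtain ⟨g, rfl⟩ := Ideal.Quotient.mk_surjective b
      rw [Ideal.quotientMap_mk, Ideal.Quotient.eq_zero_iff_mem,
        Ideal.mem_map_iff_of_surjective _ hρsurj] at hb
      obtain ⟨g1, hg1, hg1e⟩ := hb
      obtain ⟨u, hu⟩ := Groth.Agent.Lib.helper22.W2Poly.exists_eq_p_mul_of_map_res_eq_zero p k
        (Fin n) (g - g1) (by rw [map_sub, hg1e, sub_self])
      refine ⟨u, ?_⟩
      rw [← hu, map_sub, Ideal.Quotient.eq_zero_iff_mem.mpr hg1, sub_zero]
    have hh : ∀ j : Fin n, ∃ hj : MvPolynomial (Fin n) (FrobAlg.W2 p k),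
        Φ (Ideal.Quotient.mk J' (MvPolynomial.X j)) =
          Ideal.Quotient.mk J' (MvPolynomial.X j ^ p -
            (p : MvPolynomial (Fin n) (FrobAlg.W2 p k)) * hj) := by
      intro j
      obtain ⟨u, hu⟩ := hker (Φ (Ideal.Quotient.mk J' (MvPolynomial.X j)) -
        Ideal.Quotient.mk J' (MvPolynomial.X j) ^ p) (by rw [map_sub, hred, map_pow, sub_self])
      refine ⟨-u, ?_⟩
      rw [map_sub, map_pow, mul_neg, map_neg, ← hu]
      ring
    choose h hh using hh
    refine ⟨h, fun i => ?_⟩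
    have hcomp : Φ.comp (Ideal.Quotient.mk J') =
        (Ideal.Quotient.mk J').comp (Groth.Agent.Lib.helper22.W2Poly.twist p k (Fin n) h) := by
      apply MvPolynomial.ringHom_ext
      · intro w
        rw [RingHom.comp_apply, RingHom.comp_apply, Groth.Agent.Lib.helper22.W2Poly.twist_C]
        exact RingHom.congr_fun hsemi w
      · intro j
        rw [RingHom.comp_apply, RingHom.comp_apply, Groth.Agent.Lib.helper22.W2Poly.twist_X, hh]
    have hΨ : Groth.Agent.Lib.helper22.W2Poly.twist p k (Fin n) h (f' i) ∈ J' := by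
      rw [← Ideal.Quotient.eq_zero_iff_mem]
      have := RingHom.congr_fun hcomp (f' i)
      rw [RingHom.comp_apply, RingHom.comp_apply,
        Ideal.Quotient.eq_zero_iff_mem.mpr (hfJ i), map_zero] at this
      exact this.symm
    rw [Groth.Agent.Lib.helper22.W2Poly.twist_apply] at hΨ
    -- the error term
    set E := FrobAlg.polyFrob p k (Fin n) (f' i) - f' i ^ p
        - (p : MvPolynomial (Fin n) (FrobAlg.W2 p k)) * ∑ j, MvPolynomial.pderiv j (f' i) ^ p * h j
      with hE
    have hEJ : E ∈ J' := by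
      have : E = (FrobAlg.polyFrob p k (Fin n) (f' i) -
          (p : MvPolynomial (Fin n) (FrobAlg.W2 p k)) * ∑ j, MvPolynomial.pderiv j (f' i) ^ p * h j)
          - f' i ^ p := by rw [hE]; ring
      rw [this]
      exact J'.sub_mem hΨ (Ideal.pow_mem_of_mem _ (hfJ i) p (Nat.pos_of_ne_zero hp0))
    obtain ⟨e, he⟩ := Groth.Agent.Lib.helper22.W2Poly.exists_eq_p_mul_of_map_res_eq_zero p k
      (Fin n) E (by
        rw [hE, map_sub, map_sub, Groth.Agent.Lib.helper22.W2Poly.map_res_polyFrob, map_pow,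
          sub_self, map_mul, Groth.Agent.Lib.helper22.W2Poly.map_res_natCast, zero_mul, sub_zero])
    have h1 : ((p : ℕ) : MvPolynomial (Fin n) (FrobAlg.W2 p k) ⧸ J') *
        Ideal.Quotient.mk J' e = 0 := by
      have := Ideal.Quotient.eq_zero_iff_mem.mpr hEJ
      rw [he, map_mul, map_natCast] at this
      exact this
    obtain ⟨y, hy⟩ := exists_of_p_mul_eq_zero_of_flat _ hflat h1
    obtain ⟨y', rfl⟩ := Ideal.Quotient.mk_surjective y
    have h2 : e - (p : MvPolynomial (Fin n) (FrobAlg.W2 p k)) * y' ∈ J' := by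
      rw [← Ideal.Quotient.eq_zero_iff_mem, map_sub, map_mul, map_natCast, hy, sub_self]
    have h3 : E = (p : MvPolynomial (Fin n) (FrobAlg.W2 p k)) *
        (e - (p : MvPolynomial (Fin n) (FrobAlg.W2 p k)) * y') := by
      rw [he]
      linear_combination y' * hpp
    rw [h3]
    exact Ideal.mul_mem_mul (Ideal.mem_span_singleton_self _) h2
  · rintro ⟨h, hcond⟩
    have hΨ : ∀ i, Groth.Agent.Lib.helper22.W2Poly.twist p k (Fin n) h (f' i) ∈ J' := by
      intro i
      rw [Groth.Agent.Lib.helper22.W2Poly.twist_apply]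
      have h1 : FrobAlg.polyFrob p k (Fin n) (f' i) -
          (p : MvPolynomial (Fin n) (FrobAlg.W2 p k)) * ∑ j, MvPolynomial.pderiv j (f' i) ^ p * h j =
          (FrobAlg.polyFrob p k (Fin n) (f' i) - f' i ^ p
            - (p : MvPolynomial (Fin n) (FrobAlg.W2 p k)) *
              ∑ j, MvPolynomial.pderiv j (f' i) ^ p * h j) + f' i ^ p := by ring
      rw [h1]
      exact J'.add_mem (Ideal.mul_le_right (hcond i))
        (Ideal.pow_mem_of_mem _ (hfJ i) p (Nat.pos_of_ne_zero hp0))
    have hle : J' ≤ J'.comap (Groth.Agent.Lib.helper22.W2Poly.twist p k (Fin n) h) := by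
      rw [hJ', Ideal.span_le]
      rintro _ ⟨i, rfl⟩
      exact hΨ i
    refine ⟨Ideal.quotientMap J' (Groth.Agent.Lib.helper22.W2Poly.twist p k (Fin n) h) hle, ?_, ?_⟩
    · apply RingHom.ext
      intro w
      rw [RingHom.comp_apply, RingHom.comp_apply, RingHom.comp_apply, RingHom.comp_apply,
        Ideal.quotientMap_mk, Groth.Agent.Lib.helper22.W2Poly.twist_C]
    · intro b
      obtain ⟨g, rfl⟩ := Ideal.Quotient.mk_surjective b
      rw [Ideal.quotientMap_mk, Ideal.quotientMap_mk, Ideal.quotientMap_mk,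
        Groth.Agent.Lib.helper22.W2Poly.map_res_twist, map_pow]

end Groth.Agent.S13138
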