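import Groth.Statements.S13139
import Mathlib
import Groth.Agent.Lib.Helper22.W2Poly
import Groth.Agent.Lib.Helper19.W2Flat

set_option autoImplicit false
universe u
open scoped BigOperators
open FrobAlg

namespace Groth.Agent.S13139

section helpers
open MvPolynomial

theorem res_surjective (p : ℕ) [Fact p.Prime] (k : Type u) [CommRing k] :
    Function.Surjective (FrobAlg.res p k) := by
  intro a
  refine ⟨WittVector.truncate 2 (WittVector.teichmuller p a), ?_⟩
  rw [FrobAlg.res_truncate, WittVector.teichmuller_coeff_zero]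

theorem exists_of_p_mul_eq_zero_of_flat {p : ℕ} [Fact p.Prime] {k : Type u} [Field k] [CharP k p]
    [PerfectRing k p] {B : Type*} [CommRing B] (ι : FrobAlg.W2 p k →+* B) (hflat : ι.Flat)
    {x : B} (hx : (p : B) * x = 0) : ∃ y, x = (p : B) * y := by
  let _ : Algebra (FrobAlg.W2 p k) B := ι.toAlgebra
  have hflat' : Module.Flat (FrobAlg.W2 p k) B := hflat
  have hsm : ∀ z : B, (p : FrobAlg.W2 p k) • z = (p : B) * z := by
    intro z
    rw [Algebra.smul_def]
    change ι (p : FrobAlg.W2 p k) * z = _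
    rw [map_natCast]
  obtain ⟨y, hy⟩ := (Groth.Agent.Lib.Helper19.W2Flat.flat_W2_iff p k B).mp hflat' x
    (by rw [hsm]; exact hx)
  exact ⟨y, by rw [hy, hsm]⟩

/-- `W₂(k)[x]` has no exotic `p`-torsion. -/
theorem torsion_poly (p : ℕ) [Fact p.Prime] (k : Type u) [Field k] [CharP k p] [PerfectRing k p]
    (s : Type*) [Fintype s] [DecidableEq s] (x : MvPolynomial s (FrobAlg.W2 p k))
    (hx : (p : MvPolynomial s (FrobAlg.W2 p k)) * x = 0) :
    ∃ u, x = (p : MvPolynomial s (FrobAlg.W2 p k)) * u := by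
  apply Groth.Agent.Lib.helper22.W2Poly.exists_eq_p_mul_of_map_res_eq_zero
  ext d
  rw [MvPolynomial.coeff_map, MvPolynomial.coeff_zero]
  have h1 : (p : FrobAlg.W2 p k) * MvPolynomial.coeff d x = 0 := by
    have := congrArg (MvPolynomial.coeff d) hx
    have hC : ((p : ℕ) : MvPolynomial s (FrobAlg.W2 p k)) = C ((p : ℕ) : FrobAlg.W2 p k) := by simp
    rw [hC, MvPolynomial.coeff_C_mul, MvPolynomial.coeff_zero] at this
    exact this
  obtain ⟨e, he⟩ := Groth.Agent.Lib.Helper19.W2Flat.exists_eq_p_mul p k _ h1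
  rw [he, map_mul, map_natCast, CharP.cast_eq_zero k p, zero_mul]

/-- Regularity, in elementwise form. -/
theorem reg_extract {R : Type*} [CommRing R] (l : List R)
    (hreg : RingTheory.Sequence.IsWeaklyRegular R l) (j : ℕ) (hj : j < l.length) (g : R)
    (hg : g * l[j] ∈ Ideal.ofList (l.take j)) : g ∈ Ideal.ofList (l.take j) := by
  have h1 := hreg.regular_mod_prev j hj
  have htop : (Ideal.ofList (l.take j) • ⊤ : Submodule R R) = Ideal.ofList (l.take j) := by
    rw [smul_eq_mul, Ideal.mul_top]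
  have h2 : l[j] • (Submodule.Quotient.mk g : R ⧸ (Ideal.ofList (l.take j) • ⊤ : Submodule R R)) =
      l[j] • (0 : R ⧸ (Ideal.ofList (l.take j) • ⊤ : Submodule R R)) := by
    rw [smul_zero, ← Submodule.Quotient.mk_smul, Submodule.Quotient.mk_eq_zero, htop, smul_eq_mul,
      mul_comm]
    exact hg
  have h3 := h1 h2
  rw [Submodule.Quotient.mk_eq_zero, htop] at h3
  exact h3

/-- Lifting a regular sequence gives a `p`-saturated ideal. -/
theorem key (p : ℕ) [Fact p.Prime] (k : Type u) [Field k] [CharP k p] [PerfectRing k p]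
    (s : Type*) [Fintype s] [DecidableEq s] (l' : List (MvPolynomial s (FrobAlg.W2 p k)))
    (hreg : RingTheory.Sequence.IsWeaklyRegular (MvPolynomial s k)
      (l'.map (MvPolynomial.map (FrobAlg.res p k)))) :
    ∀ j, j ≤ l'.length → ∀ x : MvPolynomial s (FrobAlg.W2 p k),
      (p : MvPolynomial s (FrobAlg.W2 p k)) * x ∈ Ideal.ofList (l'.take j) →
      ∃ y ∈ Ideal.ofList (l'.take j), ∃ u, x = y + (p : MvPolynomial s (FrobAlg.W2 p k)) * u := by
  have hρsurj : Function.Surjective (MvPolynomial.map (FrobAlg.res p k) :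
      MvPolynomial s (FrobAlg.W2 p k) → MvPolynomial s k) :=
    MvPolynomial.map_surjective _ (res_surjective p k)
  intro j
  induction j with
  | zero =>
    intro _ x hx
    rw [List.take_zero, Ideal.ofList_nil, Ideal.mem_bot] at hx
    obtain ⟨u, hu⟩ := torsion_poly p k s x hx
    exact ⟨0, Ideal.zero_mem _, u, by rw [zero_add, hu]⟩
  | succ j ih =>
    intro hj x hx
    have hj' : j < l'.length := hj
    rw [List.take_succ_eq_append_getElem hj', Ideal.ofList_append, Ideal.ofList_singleton,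
      Submodule.mem_sup] at hx
    obtain ⟨a, ha, b, hb, hab⟩ := hx
    obtain ⟨g, rfl⟩ := Ideal.mem_span_singleton'.mp hb
    -- reduce mod p
    set ρ := (MvPolynomial.map (FrobAlg.res p k) :
      MvPolynomial s (FrobAlg.W2 p k) →+* MvPolynomial s k) with hρ
    have hmapI : ∀ i, Ideal.map ρ (Ideal.ofList (l'.take i)) =
        Ideal.ofList ((l'.map ρ).take i) := by
      intro i
      rw [Ideal.map_ofList, List.map_take]
    have hjm : j < (l'.map ρ).length := by rw [List.length_map]; exact hj'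
    have h1 : ρ g * (l'.map ρ)[j] ∈ Ideal.ofList ((l'.map ρ).take j) := by
      have e1 := congrArg ρ hab
      rw [map_add, map_mul, map_mul, Groth.Agent.Lib.helper22.W2Poly.map_res_natCast,
        zero_mul] at e1
      have e2 : ρ g * (l'.map ρ)[j] = - ρ a := by
        rw [List.getElem_map]
        linear_combination e1
      rw [e2, ← hmapI]
      exact neg_mem (Ideal.mem_map_of_mem ρ ha)
    have h2 := reg_extract _ hreg j hjm (ρ g) h1
    rw [← hmapI, Ideal.mem_map_iff_of_surjective ρ hρsurj] at h2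
    obtain ⟨b0, hb0, hb0e⟩ := h2
    obtain ⟨u, hu⟩ := Groth.Agent.Lib.helper22.W2Poly.exists_eq_p_mul_of_map_res_eq_zero p k s
      (g - b0) (by rw [map_sub, hb0e, sub_self])
    have h3 : (p : MvPolynomial s (FrobAlg.W2 p k)) * (x - u * l'[j]) ∈
        Ideal.ofList (l'.take j) := by
      have : (p : MvPolynomial s (FrobAlg.W2 p k)) * (x - u * l'[j]) = a + b0 * l'[j] := by
        linear_combination (-1 : MvPolynomial s (FrobAlg.W2 p k)) * hab + l'[j] * hu
      rw [this]
      exact Ideal.add_mem _ ha (Ideal.mul_mem_right _ _ hb0)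
    obtain ⟨y, hy, v, hv⟩ := ih (Nat.le_of_succ_le hj) (x - u * l'[j]) h3
    refine ⟨y + u * l'[j], ?_, v, ?_⟩
    · rw [List.take_succ_eq_append_getElem hj', Ideal.ofList_append, Ideal.ofList_singleton]
      exact Ideal.add_mem _ (Ideal.mem_sup_left hy)
        (Ideal.mem_sup_right (Ideal.mem_span_singleton'.mpr ⟨u, rfl⟩))
    · linear_combination hv


theorem ofList_ofFn {R : Type*} [CommRing R] {m : ℕ} (g : Fin m → R) :
    Ideal.ofList (List.ofFn g) = Ideal.span (Set.range g) := by
  unfold Ideal.ofList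
  congr 1
  ext x
  exact List.mem_ofFn' g x


end helpers

/-- Let k be a perfect field of characteristic p and f_1, …, f_m a regular sequence in R = k[x_1, …,
x_n]. The complete intersection A = R/(f_1, …, f_m) lifts to W₂(k) compatibly with Frobenius if and
only if for some lifts f'_1, …, f'_m ∈ R' = W₂(k)[x_1, …, x_n] of the f_i and some h_1, …, h_n ∈ R'
one has F'(f'_i) − f'_i^p − p·Σ_j (∂f'_i/∂x_j)^p h_j ∈ p·(f'_1, …, f'_m) for every i, F' being the
standard Frobenius lift of R'. In terms of Frobenius residues P(f') = (F'(f') − f'^p)/p ∈ R, which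
change by g^p when f' changes by pg, this is the congruence P_{f_i} + g_i^p ≡ Σ_j (∂f_i/∂x_j)^p h_j
modulo (f_1, …, f_m) for some g_i, h_j. -/
theorem result
    (p : ℕ) [Fact p.Prime] (k : Type u) [Field k] [CharP k p] [PerfectRing k p]
    {n m : ℕ} (f : Fin m → MvPolynomial (Fin n) k)
    (hreg : RingTheory.Sequence.IsRegular (MvPolynomial (Fin n) k) (List.ofFn f)) :
    FrobAlg.IsFLiftable p k (MvPolynomial (Fin n) k ⧸ Ideal.span (Set.range f)) ↔
    ∃ (f' : Fin m → MvPolynomial (Fin n) (FrobAlg.W2 p k)) (h : Fin n → MvPolynomial (Fin n) (FrobAlg.W2 p k)),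
      (∀ i, MvPolynomial.map (FrobAlg.res p k) (f' i) = f i) ∧
      ∀ i, FrobAlg.polyFrob p k (Fin n) (f' i) - f' i ^ p
        - (p : MvPolynomial (Fin n) (FrobAlg.W2 p k)) * ∑ j, MvPolynomial.pderiv j (f' i) ^ p * h j
        ∈ Ideal.span {(p : MvPolynomial (Fin n) (FrobAlg.W2 p k))} * Ideal.span (Set.range f') := by
  classical
  have hp0 : p ≠ 0 := (Fact.out : p.Prime).ne_zero
  have hρsurj : Function.Surjective (MvPolynomial.map (FrobAlg.res p k) :
      MvPolynomial (Fin n) (FrobAlg.W2 p k) → MvPolynomial (Fin n) k) :=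
    MvPolynomial.map_surjective _ (res_surjective p k)
  have hpp := Groth.Agent.Lib.helper22.W2Poly.p_mul_p_poly p k (Fin n)
  have hpR : ((p : ℕ) : MvPolynomial (Fin n) k) = 0 := by
    have : ((p : ℕ) : MvPolynomial (Fin n) k) = MvPolynomial.C ((p : ℕ) : k) := by simp
    rw [this, CharP.cast_eq_zero k p, map_zero]
  -- common facts for a family of lifts
  have hmapJ : ∀ f' : Fin m → MvPolynomial (Fin n) (FrobAlg.W2 p k),
      (∀ i, MvPolynomial.map (FrobAlg.res p k) (f' i) = f i) →
      Ideal.map (MvPolynomial.map (FrobAlg.res p k)) (Ideal.span (Set.range f')) =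
        Ideal.span (Set.range f) := by
    intro f' hf'
    rw [Ideal.map_span, ← Set.range_comp]
    congr 2
    funext i
    exact hf' i
  constructor
  · rintro ⟨B', _, ι, π, Φ, hΦ⟩
    have hL : FrobAlg.IsLift p k (MvPolynomial (Fin n) k ⧸ Ideal.span (Set.range f)) B' ι π :=
      hΦ.toIsLift
    have hppB := Groth.Agent.Lib.helper22.W2Lift.p_mul_p (p := p) (k := k) ι
    have hXl : ∀ j : Fin n, ∃ b : B', π b =
        Ideal.Quotient.mk (Ideal.span (Set.range f)) (MvPolynomial.X j) := fun j => hL.surj _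
    choose Xl hXl using hXl
    let ψ : MvPolynomial (Fin n) (FrobAlg.W2 p k) →+* B' := MvPolynomial.eval₂Hom ι Xl
    have hψC : ∀ w, ψ (MvPolynomial.C w) = ι w := fun w => MvPolynomial.eval₂Hom_C _ _ w
    have hψX : ∀ j, ψ (MvPolynomial.X j) = Xl j := fun j => MvPolynomial.eval₂Hom_X' _ _ j
    have hψp : ∀ g, ψ ((p : MvPolynomial (Fin n) (FrobAlg.W2 p k)) * g) = (p : B') * ψ g := by
      intro g
      rw [map_mul, map_natCast]
    have hπψ : ∀ g, π (ψ g) = Ideal.Quotient.mk (Ideal.span (Set.range f))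
        (MvPolynomial.map (FrobAlg.res p k) g) := by
      have : π.comp ψ = (Ideal.Quotient.mk (Ideal.span (Set.range f))).comp
          (MvPolynomial.map (FrobAlg.res p k)) := by
        apply MvPolynomial.ringHom_ext
        · intro w
          rw [RingHom.comp_apply, RingHom.comp_apply, hψC, MvPolynomial.map_C]
          exact RingHom.congr_fun hL.comm w
        · intro j
          rw [RingHom.comp_apply, RingHom.comp_apply, hψX, hXl, MvPolynomial.map_X]
      exact fun g => RingHom.congr_fun this g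
    -- ψ is surjective
    have hψsurj1 : ∀ b : B', ∃ g b1, b = ψ g + (p : B') * b1 := by
      intro b
      obtain ⟨r, hr⟩ := Ideal.Quotient.mk_surjective (π b)
      obtain ⟨g, rfl⟩ := hρsurj r
      have h0 : π (b - ψ g) = 0 := by rw [map_sub, hπψ, hr, sub_self]
      obtain ⟨b1, hb1⟩ := Groth.Agent.Lib.helper22.W2Lift.exists_of_pi_eq_zero hL h0
      exact ⟨g, b1, by rw [← hb1]; ring⟩
    have hψsurj : Function.Surjective ψ := by
      intro b
      obtain ⟨g0, b1, h0⟩ := hψsurj1 b
      obtain ⟨g1, b2, h1⟩ := hψsurj1 b1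
      refine ⟨g0 + (p : MvPolynomial (Fin n) (FrobAlg.W2 p k)) * g1, ?_⟩
      rw [map_add, hψp, h0, h1]
      linear_combination (-b2) * hppB
    -- elements of the kernel of `π ∘ ψ` can be corrected into the kernel of `ψ`
    have hcorr : ∀ b : B', π b = 0 → ∃ u : MvPolynomial (Fin n) (FrobAlg.W2 p k),
        b = ψ ((p : MvPolynomial (Fin n) (FrobAlg.W2 p k)) * u) := by
      intro b hb
      obtain ⟨b1, hb1⟩ := Groth.Agent.Lib.helper22.W2Lift.exists_of_pi_eq_zero hL hb
      obtain ⟨u, rfl⟩ := hψsurj b1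
      exact ⟨u, by rw [hψp, hb1]⟩
    have hfl : ∀ i, ∃ g' : MvPolynomial (Fin n) (FrobAlg.W2 p k),
        ψ g' = 0 ∧ MvPolynomial.map (FrobAlg.res p k) g' = f i := by
      intro i
      obtain ⟨g0, hg0⟩ := hρsurj (f i)
      have h0 : π (ψ g0) = 0 := by
        rw [hπψ, hg0, Ideal.Quotient.eq_zero_iff_mem]
        exact Ideal.subset_span ⟨i, rfl⟩
      obtain ⟨u, hu⟩ := hcorr _ h0
      refine ⟨g0 - (p : MvPolynomial (Fin n) (FrobAlg.W2 p k)) * u, ?_, ?_⟩
      · rw [map_sub, ← hu, sub_self]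
      · rw [map_sub, map_mul, Groth.Agent.Lib.helper22.W2Poly.map_res_natCast, zero_mul, sub_zero,
          hg0]
    choose f' hf'K hf'ρ using hfl
    have hJ'K : ∀ x ∈ Ideal.span (Set.range f'), ψ x = 0 := by
      intro x hx
      have hle : Ideal.span (Set.range f') ≤ RingHom.ker ψ := by
        rw [Ideal.span_le]
        rintro _ ⟨i, rfl⟩
        exact hf'K i
      exact hle hx
    -- decomposition modulo `p`
    have hdec : ∀ x : MvPolynomial (Fin n) (FrobAlg.W2 p k), π (ψ x) = 0 →
        ∃ x1 ∈ Ideal.span (Set.range f'), ∃ y, x = x1 + (p : MvPolynomial (Fin n) (FrobAlg.W2 p k)) * y := by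
      intro x hx
      rw [hπψ, Ideal.Quotient.eq_zero_iff_mem, ← hmapJ f' hf'ρ,
        Ideal.mem_map_iff_of_surjective _ hρsurj] at hx
      obtain ⟨x1, hx1, hx1e⟩ := hx
      obtain ⟨y, hy⟩ := Groth.Agent.Lib.helper22.W2Poly.exists_eq_p_mul_of_map_res_eq_zero p k
        (Fin n) (x - x1) (by rw [map_sub, hx1e, sub_self])
      exact ⟨x1, hx1, y, by rw [← hy]; ring⟩
    have hKJ' : ∀ x, ψ x = 0 → x ∈ Ideal.span (Set.range f') := by
      intro x hx
      obtain ⟨x1, hx1, y, rfl⟩ := hdec x (by rw [hx, map_zero])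
      rw [map_add, hJ'K x1 hx1, zero_add, hψp] at hx
      obtain ⟨b, hb⟩ := Groth.Agent.Lib.helper22.W2Lift.exists_of_p_mul_eq_zero hL hx
      obtain ⟨y1, hy1, z, rfl⟩ := hdec y (by
        rw [hb]; exact Groth.Agent.Lib.helper22.W2Lift.pi_p_mul hL b)
      have : (p : MvPolynomial (Fin n) (FrobAlg.W2 p k)) *
          (y1 + (p : MvPolynomial (Fin n) (FrobAlg.W2 p k)) * z) =
          (p : MvPolynomial (Fin n) (FrobAlg.W2 p k)) * y1 := by
        linear_combination z * hpp
      rw [this]
      exact Ideal.add_mem _ hx1 (Ideal.mul_mem_left _ _ hy1)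
    -- the h_j
    have hh : ∀ j : Fin n, ∃ hj : MvPolynomial (Fin n) (FrobAlg.W2 p k),
        Φ (ψ (MvPolynomial.X j)) = ψ (MvPolynomial.X j ^ p -
          (p : MvPolynomial (Fin n) (FrobAlg.W2 p k)) * hj) := by
      intro j
      obtain ⟨u, hu⟩ := hcorr (Φ (ψ (MvPolynomial.X j)) - ψ (MvPolynomial.X j) ^ p)
        (by rw [map_sub, hΦ.red, map_pow, sub_self])
      refine ⟨-u, ?_⟩
      rw [map_sub, map_pow, mul_neg, map_neg, ← hu]
      ring
    choose h hh using hh
    refine ⟨f', h, hf'ρ, fun i => ?_⟩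
    have hcomp : Φ.comp ψ = ψ.comp (Groth.Agent.Lib.helper22.W2Poly.twist p k (Fin n) h) := by
      apply MvPolynomial.ringHom_ext
      · intro w
        rw [RingHom.comp_apply, RingHom.comp_apply, Groth.Agent.Lib.helper22.W2Poly.twist_C, hψC,
          hψC]
        exact RingHom.congr_fun hΦ.semi w
      · intro j
        rw [RingHom.comp_apply, RingHom.comp_apply, Groth.Agent.Lib.helper22.W2Poly.twist_X, hh]
    have hΨ : Groth.Agent.Lib.helper22.W2Poly.twist p k (Fin n) h (f' i) ∈
        Ideal.span (Set.range f') := by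
      apply hKJ'
      have := RingHom.congr_fun hcomp (f' i)
      rw [RingHom.comp_apply, RingHom.comp_apply, hf'K i, map_zero] at this
      exact this.symm
    rw [Groth.Agent.Lib.helper22.W2Poly.twist_apply] at hΨ
    set E := FrobAlg.polyFrob p k (Fin n) (f' i) - f' i ^ p
        - (p : MvPolynomial (Fin n) (FrobAlg.W2 p k)) * ∑ j, MvPolynomial.pderiv j (f' i) ^ p * h j
      with hE
    have hEJ : E ∈ Ideal.span (Set.range f') := by
      have : E = (FrobAlg.polyFrob p k (Fin n) (f' i) -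
          (p : MvPolynomial (Fin n) (FrobAlg.W2 p k)) * ∑ j, MvPolynomial.pderiv j (f' i) ^ p * h j)
          - f' i ^ p := by rw [hE]; ring
      rw [this]
      have hfi : f' i ∈ Ideal.span (Set.range f') := Ideal.subset_span ⟨i, rfl⟩
      exact Ideal.sub_mem _ hΨ (Ideal.pow_mem_of_mem _ hfi p (Nat.pos_of_ne_zero hp0))
    obtain ⟨e, he⟩ := Groth.Agent.Lib.helper22.W2Poly.exists_eq_p_mul_of_map_res_eq_zero p k
      (Fin n) E (by
        rw [hE, map_sub, map_sub, Groth.Agent.Lib.helper22.W2Poly.map_res_polyFrob, map_pow,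
          hf'ρ, sub_self, map_mul, Groth.Agent.Lib.helper22.W2Poly.map_res_natCast, zero_mul,
          sub_zero])
    have h1 : (p : B') * ψ e = 0 := by
      rw [← hψp, ← he]
      exact hJ'K E hEJ
    obtain ⟨b, hb⟩ := Groth.Agent.Lib.helper22.W2Lift.exists_of_p_mul_eq_zero hL h1
    obtain ⟨y', rfl⟩ := hψsurj b
    have h2 : e - (p : MvPolynomial (Fin n) (FrobAlg.W2 p k)) * y' ∈ Ideal.span (Set.range f') := by
      apply hKJ'
      rw [map_sub, hψp, hb, sub_self]
    have h3 : E = (p : MvPolynomial (Fin n) (FrobAlg.W2 p k)) *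
        (e - (p : MvPolynomial (Fin n) (FrobAlg.W2 p k)) * y') := by
      rw [he]
      linear_combination y' * hpp
    rw [h3]
    exact Ideal.mul_mem_mul (Ideal.mem_span_singleton_self _) h2
  · rintro ⟨f', h, hf'ρ, hcond⟩
    set J' : Ideal (MvPolynomial (Fin n) (FrobAlg.W2 p k)) := Ideal.span (Set.range f') with hJ'
    have hfJ : ∀ i, f' i ∈ J' := fun i => Ideal.subset_span ⟨i, rfl⟩
    have hmJ := hmapJ f' hf'ρ
    have hleρ : J' ≤ (Ideal.span (Set.range f)).comap (MvPolynomial.map (FrobAlg.res p k)) := by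
      rw [← hmJ]
      exact Ideal.le_comap_map
    -- the lifting data
    let ι : FrobAlg.W2 p k →+* (MvPolynomial (Fin n) (FrobAlg.W2 p k) ⧸ J') :=
      (Ideal.Quotient.mk J').comp MvPolynomial.C
    let π : (MvPolynomial (Fin n) (FrobAlg.W2 p k) ⧸ J') →+*
        (MvPolynomial (Fin n) k ⧸ Ideal.span (Set.range f)) :=
      Ideal.quotientMap (Ideal.span (Set.range f)) (MvPolynomial.map (FrobAlg.res p k)) hleρ
    have hπ : ∀ g, π (Ideal.Quotient.mk J' g) =
        Ideal.Quotient.mk (Ideal.span (Set.range f)) (MvPolynomial.map (FrobAlg.res p k) g) :=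
      fun g => Ideal.quotientMap_mk
    have hmkp : ∀ g, Ideal.Quotient.mk J' ((p : MvPolynomial (Fin n) (FrobAlg.W2 p k)) * g) =
        ((p : ℕ) : MvPolynomial (Fin n) (FrobAlg.W2 p k) ⧸ J') * Ideal.Quotient.mk J' g := by
      intro g
      rw [map_mul, map_natCast]
    -- Frobenius
    have hΨ : ∀ i, Groth.Agent.Lib.helper22.W2Poly.twist p k (Fin n) h (f' i) ∈ J' := by
      intro i
      rw [Groth.Agent.Lib.helper22.W2Poly.twist_apply]
      have h1 : FrobAlg.polyFrob p k (Fin n) (f' i) -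
          (p : MvPolynomial (Fin n) (FrobAlg.W2 p k)) * ∑ j, MvPolynomial.pderiv j (f' i) ^ p * h j =
          (FrobAlg.polyFrob p k (Fin n) (f' i) - f' i ^ p
            - (p : MvPolynomial (Fin n) (FrobAlg.W2 p k)) *
              ∑ j, MvPolynomial.pderiv j (f' i) ^ p * h j) + f' i ^ p := by ring
      rw [h1]
      exact J'.add_mem (Ideal.mul_le_right (hcond i))
        (Ideal.pow_mem_of_mem _ (hfJ i) p (Nat.pos_of_ne_zero hp0))
    have hleΨ : J' ≤ J'.comap (Groth.Agent.Lib.helper22.W2Poly.twist p k (Fin n) h) := by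
      rw [hJ', Ideal.span_le]
      rintro _ ⟨i, rfl⟩
      exact hΨ i
    -- regularity for the lifted list
    have hregW : RingTheory.Sequence.IsWeaklyRegular (MvPolynomial (Fin n) k)
        ((List.ofFn f').map (MvPolynomial.map (FrobAlg.res p k))) := by
      have : (List.ofFn f').map (MvPolynomial.map (FrobAlg.res p k)) = List.ofFn f := by
        rw [List.map_ofFn]
        congr 1
        funext i
        exact hf'ρ i
      rw [this]
      exact hreg.toIsWeaklyRegular
    have hsat : ∀ x : MvPolynomial (Fin n) (FrobAlg.W2 p k),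
        (p : MvPolynomial (Fin n) (FrobAlg.W2 p k)) * x ∈ J' →
        ∃ y ∈ J', ∃ u, x = y + (p : MvPolynomial (Fin n) (FrobAlg.W2 p k)) * u := by
      intro x hx
      have hk := key p k (Fin n) (List.ofFn f') hregW (List.ofFn f').length le_rfl x
      rw [List.take_length, ofList_ofFn] at hk
      exact hk hx
    -- decomposition of the kernel of π
    have hkerπ : ∀ x, π x = 0 → ∃ y, x = ((p : ℕ) : MvPolynomial (Fin n) (FrobAlg.W2 p k) ⧸ J') * y := by
      intro x hx
      obtain ⟨g, rfl⟩ := Ideal.Quotient.mk_surjective x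
      rw [hπ, Ideal.Quotient.eq_zero_iff_mem, ← hmJ,
        Ideal.mem_map_iff_of_surjective _ hρsurj] at hx
      obtain ⟨g1, hg1, hg1e⟩ := hx
      obtain ⟨u, hu⟩ := Groth.Agent.Lib.helper22.W2Poly.exists_eq_p_mul_of_map_res_eq_zero p k
        (Fin n) (g - g1) (by rw [map_sub, hg1e, sub_self])
      refine ⟨Ideal.Quotient.mk J' u, ?_⟩
      rw [← hmkp, ← hu, map_sub, Ideal.Quotient.eq_zero_iff_mem.mpr hg1, sub_zero]
    have hpA : ((p : ℕ) : MvPolynomial (Fin n) k ⧸ Ideal.span (Set.range f)) = 0 := by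
      rw [← map_natCast (Ideal.Quotient.mk (Ideal.span (Set.range f))), hpR, map_zero]
    refine ⟨MvPolynomial (Fin n) (FrobAlg.W2 p k) ⧸ J', inferInstance, ι, π,
      Ideal.quotientMap J' (Groth.Agent.Lib.helper22.W2Poly.twist p k (Fin n) h) hleΨ,
      { flat := ?_, surj := ?_, ker_eq := ?_, comm := ?_, semi := ?_, red := ?_ }⟩
    · apply Groth.Agent.Lib.helper22.W2Lift.flat_of_torsion
      intro x hx
      obtain ⟨g, rfl⟩ := Ideal.Quotient.mk_surjective x
      rw [← hmkp, Ideal.Quotient.eq_zero_iff_mem] at hx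
      obtain ⟨y, hy, u, rfl⟩ := hsat g hx
      refine ⟨Ideal.Quotient.mk J' u, ?_⟩
      rw [map_add, Ideal.Quotient.eq_zero_iff_mem.mpr hy, zero_add, hmkp]
    · exact Ideal.quotientMap_surjective hρsurj
    · rw [Groth.Agent.Lib.helper22.W2Lift.ker_res, Ideal.map_span, Set.image_singleton,
        map_natCast]
      ext x
      rw [RingHom.mem_ker, Ideal.mem_span_singleton']
      constructor
      · intro hx
        obtain ⟨y, hy⟩ := hkerπ x hx
        exact ⟨y, by rw [hy, mul_comm]⟩
      · rintro ⟨y, rfl⟩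
        rw [map_mul, map_natCast, hpA, mul_zero]
    · apply RingHom.ext
      intro w
      rw [RingHom.comp_apply, RingHom.comp_apply]
      change π (Ideal.Quotient.mk J' (MvPolynomial.C w)) = _
      rw [hπ, MvPolynomial.map_C]
      rfl
    · apply RingHom.ext
      intro w
      rw [RingHom.comp_apply, RingHom.comp_apply]
      change Ideal.quotientMap J' _ hleΨ (Ideal.Quotient.mk J' (MvPolynomial.C w)) =
        Ideal.Quotient.mk J' (MvPolynomial.C (FrobAlg.sigma p k w))
      rw [Ideal.quotientMap_mk, Groth.Agent.Lib.helper22.W2Poly.twist_C]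
    · intro b
      obtain ⟨g, rfl⟩ := Ideal.Quotient.mk_surjective b
      rw [Ideal.quotientMap_mk, hπ, hπ, Groth.Agent.Lib.helper22.W2Poly.map_res_twist, map_pow]

end Groth.Agent.S13139
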