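import Groth.Statements.S13141
import Mathlib
-- import your own Groth.Agent.* helpers here

set_option autoImplicit false
universe u v w w'
open scoped TensorProduct
open GrpAlg

namespace Groth.Agent.S13141

/-- Let G be a finite group, R a commutative ring with |G| invertible in R, M a projective R-module with
an R-linear G-action and S an R-algebra. The natural map M^G ⊗_R S → M ⊗_R S is injective and its
image is the submodule of G-invariants of M ⊗_R S (G acting on the first factor); that is, M^G ⊗_R S
→ (M ⊗_R S)^G is bijective. -/
theorem result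
    (R : Type u) [CommRing R] (G : Type v) [Group G] [Finite G] (hG : IsUnit ((Nat.card G : ℕ) : R))
    (M : Type w) [AddCommGroup M] [Module R M] [Module.Projective R M] (ρ : Representation R G M)
    (S : Type w') [CommRing S] [Algebra R S] :
    Function.Injective (TensorProduct.map ρ.invariants.subtype (LinearMap.id : S →ₗ[R] S)) ∧
    LinearMap.range (TensorProduct.map ρ.invariants.subtype (LinearMap.id : S →ₗ[R] S)) =
      ⨅ g : G, LinearMap.eqLocus (LinearMap.rTensor S (ρ g)) LinearMap.id := by
  classical
  haveI := Fintype.ofFinite G
  obtain ⟨u, hu⟩ := hG.exists_left_inv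
  rw [Nat.card_eq_fintype_card] at hu
  let avg : M →ₗ[R] M := u • ∑ g : G, ρ g
  have havg_apply : ∀ x, avg x = u • ∑ g : G, ρ g x := by
    intro x
    simp [avg, LinearMap.sum_apply]
  have havg_mem : ∀ x, avg x ∈ ρ.invariants := by
    intro x h
    rw [havg_apply]
    simp only [map_smul, map_sum]
    congr 1
    have : ∀ g : G, (ρ h) ((ρ g) x) = (ρ (h * g)) x := by
      intro g; rw [map_mul]; rfl
    simp_rw [this]
    exact Fintype.sum_equiv (Equiv.mulLeft h) _ _ (fun g => rfl)
  let e : M →ₗ[R] ρ.invariants := avg.codRestrict _ havg_mem
  have he : e.comp ρ.invariants.subtype = LinearMap.id := by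
    ext ⟨x, hx⟩ : 2
    simp only [e, LinearMap.coe_comp, Function.comp_apply, Submodule.subtype_apply, LinearMap.id_coe,
      id_eq, LinearMap.codRestrict_apply]
    rw [havg_apply]
    have hx' : ∀ g : G, ρ g x = x := hx
    simp_rw [hx']
    rw [Finset.sum_const, Finset.card_univ, ← Nat.cast_smul_eq_nsmul R, smul_smul, hu, one_smul]
  have hcomp : (TensorProduct.map e (LinearMap.id : S →ₗ[R] S)).comp
      (TensorProduct.map ρ.invariants.subtype (LinearMap.id : S →ₗ[R] S)) = LinearMap.id := by
    rw [← TensorProduct.map_comp, he]
    simp
  have hsub_avg : ρ.invariants.subtype.comp e = avg := by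
    ext x; simp [e]
  constructor
  · exact Function.LeftInverse.injective (g := TensorProduct.map e (LinearMap.id : S →ₗ[R] S))
      (fun x => by simpa using LinearMap.congr_fun hcomp x)
  · apply le_antisymm
    · rintro _ ⟨y, rfl⟩
      simp only [Submodule.mem_iInf, LinearMap.mem_eqLocus, LinearMap.id_coe, id_eq]
      intro g
      rw [LinearMap.rTensor, ← LinearMap.comp_apply, ← TensorProduct.map_comp]
      congr 2
      ext ⟨x, hx⟩
      exact hx g
    · intro z hz
      simp only [Submodule.mem_iInf, LinearMap.mem_eqLocus, LinearMap.id_coe, id_eq] at hz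
      refine ⟨TensorProduct.map e LinearMap.id z, ?_⟩
      rw [← LinearMap.comp_apply, ← TensorProduct.map_comp, hsub_avg]
      simp only [LinearMap.comp_id]
      have : TensorProduct.map avg (LinearMap.id : S →ₗ[R] S) = u • ∑ g : G, LinearMap.rTensor S (ρ g) := by
        change LinearMap.rTensor S avg = _
        simp only [avg]
        rw [LinearMap.rTensor_smul]
        congr 1
        exact map_sum (LinearMap.rTensorHom S) _ _
      rw [this]
      simp only [LinearMap.smul_apply, LinearMap.sum_apply]
      simp_rw [hz]
      rw [Finset.sum_const, Finset.card_univ, ← Nat.cast_smul_eq_nsmul R, smul_smul, hu, one_smul]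

end Groth.Agent.S13141
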