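import Groth.Statements.S13142
import Mathlib
-- import your own Groth.Agent.* helpers here

set_option autoImplicit false
universe u v
open GrpAlg

namespace Groth.Agent.S13142

/-- Let G be a finite group and R a commutative ring with |G| invertible in R, acting on R[x_1, …, x_n]
by R-algebra automorphisms. The invariant subring R[x_1, …, x_n]^G is a flat R-module (so the
quotient of affine n-space over R by G is flat over R). -/
theorem result
    (R : Type u) [CommRing R] (G : Type v) [Group G] [Finite G] (hG : IsUnit ((Nat.card G : ℕ) : R))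
    (n : ℕ) (ρ : G →* (MvPolynomial (Fin n) R ≃ₐ[R] MvPolynomial (Fin n) R)) :
    Module.Flat R ↥(⨅ g : G, LinearMap.eqLocus (ρ g).toLinearMap (LinearMap.id : MvPolynomial (Fin n) R →ₗ[R] MvPolynomial (Fin n) R)) := by
  classical
  haveI := Fintype.ofFinite G
  obtain ⟨u, hu⟩ := hG.exists_left_inv
  rw [Nat.card_eq_fintype_card] at hu
  let avg : MvPolynomial (Fin n) R →ₗ[R] MvPolynomial (Fin n) R := u • ∑ g : G, (ρ g).toLinearMap
  have havg_apply : ∀ x, avg x = u • ∑ g : G, ρ g x := by
    intro x
    simp [avg, LinearMap.sum_apply]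
  have havg_mem : ∀ x, avg x ∈ (⨅ g : G, LinearMap.eqLocus (ρ g).toLinearMap
      (LinearMap.id : MvPolynomial (Fin n) R →ₗ[R] MvPolynomial (Fin n) R)) := by
    intro x
    simp only [Submodule.mem_iInf, LinearMap.mem_eqLocus, LinearMap.id_coe, id_eq]
    intro h
    rw [havg_apply]
    simp only [AlgEquiv.toLinearMap_apply, map_smul, map_sum]
    congr 1
    have : ∀ g : G, (ρ h) ((ρ g) x) = (ρ (h * g)) x := by
      intro g; rw [map_mul]; rfl
    simp_rw [this]
    exact Fintype.sum_equiv (Equiv.mulLeft h) _ _ (fun g => rfl)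
  refine Module.Flat.of_retract (M := MvPolynomial (Fin n) R) (Submodule.subtype _)
    (avg.codRestrict _ havg_mem) ?_
  ext ⟨x, hx⟩ : 2
  simp only [Submodule.mem_iInf, LinearMap.mem_eqLocus, LinearMap.id_coe, id_eq,
    AlgEquiv.toLinearMap_apply] at hx
  simp only [LinearMap.coe_comp, Function.comp_apply, Submodule.subtype_apply, LinearMap.id_coe, id_eq,
    LinearMap.codRestrict_apply]
  rw [havg_apply]
  simp_rw [hx]
  rw [Finset.sum_const, Finset.card_univ, ← Nat.cast_smul_eq_nsmul R, smul_smul, hu, one_smul]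

end Groth.Agent.S13142
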