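import Groth.Statements.S13143
import Mathlib
import Groth.Agent.Lib.Helper22.W2Lift

set_option autoImplicit false
universe u
open FrobAlg

namespace Groth.Agent.S13143

section helpers
open Groth.Agent.Lib.helper22.W2Lift


end helpers

/-- Let k be a perfect field of characteristic p and A → B a homomorphism of Noetherian k-algebras with
an A-linear retraction B → A. If B lifts flatly to W₂(k), so does A. (The published statement
phrases the descent for finite surjective morphisms of degree prime to p, via a trace splitting; the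
argument uses exactly an A-linear splitting of A → B for an affine morphism, which is the hypothesis
taken here.) -/
theorem result
    (p : ℕ) [Fact p.Prime] (k : Type u) [Field k] [CharP k p] [PerfectRing k p]
    (A B : Type u) [CommRing A] [CommRing B] [Algebra k A] [Algebra k B]
    [IsNoetherianRing A] [IsNoetherianRing B] [Algebra A B] [IsScalarTower k A B]
    (r : B →ₗ[A] A) (hr : ∀ a : A, r (algebraMap A B a) = a)
    (hB : FrobAlg.IsW2Liftable p k B) : FrobAlg.IsW2Liftable p k A := by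
  classical
  obtain ⟨B', _, ιB, πB, hB⟩ := hB
  have hrlin : ∀ (a : A) (b : B), r (algebraMap A B a * b) = a * r b := by
    intro a b
    rw [← Algebra.smul_def, map_smul, smul_eq_mul]
  have hpA : ((p : ℕ) : A) = 0 := by
    rw [← map_natCast (algebraMap k A), CharP.cast_eq_zero k p, map_zero]
  -- a set-theoretic lift of `A → B` to `B'`
  have hs : ∀ a : A, ∃ y : B', πB y = algebraMap A B a := fun a => hB.surj _
  choose s hss using hs
  -- the polynomial ring over `W₂(k)` on the elements of `A`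
  let ψ' : MvPolynomial A (FrobAlg.W2 p k) →+* B' := MvPolynomial.eval₂Hom ιB s
  let πP : MvPolynomial A (FrobAlg.W2 p k) →+* A :=
    MvPolynomial.eval₂Hom ((algebraMap k A).comp (FrobAlg.res p k)) id
  have hψC : ∀ w, ψ' (MvPolynomial.C w) = ιB w := fun w => MvPolynomial.eval₂Hom_C _ _ w
  have hψX : ∀ a, ψ' (MvPolynomial.X a) = s a := fun a => MvPolynomial.eval₂Hom_X' _ _ a
  have hπC : ∀ w, πP (MvPolynomial.C w) = algebraMap k A (FrobAlg.res p k w) :=
    fun w => MvPolynomial.eval₂Hom_C _ _ w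
  have hπX : ∀ a, πP (MvPolynomial.X a) = a := fun a => MvPolynomial.eval₂Hom_X' _ _ a
  have hcomp : πB.comp ψ' = (algebraMap A B).comp πP := by
    apply MvPolynomial.ringHom_ext
    · intro w
      rw [RingHom.comp_apply, RingHom.comp_apply, hψC, hπC,
        ← IsScalarTower.algebraMap_apply k A B]
      exact RingHom.congr_fun hB.comm w
    · intro a
      rw [RingHom.comp_apply, RingHom.comp_apply, hψX, hπX, hss]
  have hcomp' : ∀ f, πB (ψ' f) = algebraMap A B (πP f) := fun f => RingHom.congr_fun hcomp f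
  have hψp : ∀ f, ψ' ((p : MvPolynomial A (FrobAlg.W2 p k)) * f) = (p : B') * ψ' f := by
    intro f
    rw [map_mul, map_natCast]
  -- the ideal of relations
  let I' : Ideal (MvPolynomial A (FrobAlg.W2 p k)) :=
    { carrier := {f | ∃ y : B', ψ' f = (p : B') * y ∧ r (πB y) = 0}
      zero_mem' := ⟨0, by rw [map_zero, mul_zero], by rw [map_zero, map_zero]⟩
      add_mem' := by
        rintro f g ⟨y, hy, hy0⟩ ⟨z, hz, hz0⟩
        exact ⟨y + z, by rw [map_add, hy, hz, mul_add], by rw [map_add, map_add, hy0, hz0, add_zero]⟩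
      smul_mem' := by
        rintro g f ⟨y, hy, hy0⟩
        refine ⟨ψ' g * y, ?_, ?_⟩
        · rw [smul_eq_mul, map_mul, hy]; ring
        · rw [map_mul, hcomp', hrlin, hy0, mul_zero] }
  have hI' : ∀ f, f ∈ I' ↔ ∃ y : B', ψ' f = (p : B') * y ∧ r (πB y) = 0 := fun f => Iff.rfl
  have hI'π : ∀ f ∈ I', πP f = 0 := by
    intro f hf
    obtain ⟨y, hy, -⟩ := (hI' f).mp hf
    have h1 : algebraMap A B (πP f) = 0 := by
      rw [← hcomp', hy, Groth.Agent.Lib.helper22.W2Lift.pi_p_mul hB]
    have h2 := hr (πP f)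
    rw [h1, map_zero] at h2
    exact h2.symm
  -- decomposition of the kernel of `πP`
  have hdec : ∀ f, πP f = 0 → ∃ f1 ∈ I', ∃ g, f = f1 + (p : MvPolynomial A (FrobAlg.W2 p k)) * g := by
    intro f hf
    have h1 : πB (ψ' f) = 0 := by rw [hcomp', hf, map_zero]
    obtain ⟨y, hy⟩ := Groth.Agent.Lib.helper22.W2Lift.exists_of_pi_eq_zero hB h1
    refine ⟨f - (p : MvPolynomial A (FrobAlg.W2 p k)) * MvPolynomial.X (r (πB y)), ?_,
      MvPolynomial.X (r (πB y)), by ring⟩
    rw [hI']
    refine ⟨y - s (r (πB y)), ?_, ?_⟩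
    · rw [map_sub, hψp, hψX, hy, mul_sub]
    · rw [map_sub, map_sub, hss, hr, sub_self]
  -- the lifting
  let ιA : FrobAlg.W2 p k →+* (MvPolynomial A (FrobAlg.W2 p k) ⧸ I') :=
    (Ideal.Quotient.mk I').comp MvPolynomial.C
  let πA : (MvPolynomial A (FrobAlg.W2 p k) ⧸ I') →+* A := Ideal.Quotient.lift I' πP hI'π
  have hπA : ∀ f, πA (Ideal.Quotient.mk I' f) = πP f := fun f => Ideal.Quotient.lift_mk _ _ _
  have hmkp : ∀ g, Ideal.Quotient.mk I' ((p : MvPolynomial A (FrobAlg.W2 p k)) * g) =
      ((p : ℕ) : MvPolynomial A (FrobAlg.W2 p k) ⧸ I') * Ideal.Quotient.mk I' g := by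
    intro g
    rw [map_mul, map_natCast]
  have hkerπA : ∀ x, πA x = 0 → ∃ y, x = ((p : ℕ) : MvPolynomial A (FrobAlg.W2 p k) ⧸ I') * y := by
    intro x hx
    obtain ⟨f, rfl⟩ := Ideal.Quotient.mk_surjective x
    rw [hπA] at hx
    obtain ⟨f1, hf1, g, rfl⟩ := hdec f hx
    refine ⟨Ideal.Quotient.mk I' g, ?_⟩
    rw [map_add, hmkp, Ideal.Quotient.eq_zero_iff_mem.mpr hf1, zero_add]
  refine ⟨MvPolynomial A (FrobAlg.W2 p k) ⧸ I', inferInstance, ιA, πA, ?_⟩
  refine { flat := ?_, surj := ?_, ker_eq := ?_, comm := ?_ }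
  · -- flatness
    apply Groth.Agent.Lib.helper22.W2Lift.flat_of_torsion
    intro x hx
    obtain ⟨f, rfl⟩ := Ideal.Quotient.mk_surjective x
    apply hkerπA
    rw [hπA]
    rw [← hmkp, Ideal.Quotient.eq_zero_iff_mem, hI'] at hx
    obtain ⟨y, hy, hy0⟩ := hx
    rw [hψp] at hy
    have h1 := Groth.Agent.Lib.helper22.W2Lift.pi_eq_of_p_mul_eq hB hy
    rw [hcomp'] at h1
    have h2 := hr (πP f)
    rw [h1, hy0] at h2
    exact h2.symm
  · intro a
    exact ⟨Ideal.Quotient.mk I' (MvPolynomial.X a), by rw [hπA, hπX]⟩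
  · rw [Groth.Agent.Lib.helper22.W2Lift.ker_res, Ideal.map_span, Set.image_singleton, map_natCast]
    ext x
    rw [RingHom.mem_ker, Ideal.mem_span_singleton']
    constructor
    · intro hx
      obtain ⟨y, hy⟩ := hkerπA x hx
      exact ⟨y, by rw [hy, mul_comm]⟩
    · rintro ⟨y, rfl⟩
      rw [map_mul, map_natCast, hpA, mul_zero]
  · apply RingHom.ext
    intro w
    rw [RingHom.comp_apply, RingHom.comp_apply]
    change πA (Ideal.Quotient.mk I' (MvPolynomial.C w)) = _
    rw [hπA, hπC]
    rfl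

end Groth.Agent.S13143
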