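import Groth.Statements.S13144
import Mathlib
import Groth.Agent.Lib.Helper22.W2Lift

set_option autoImplicit false
universe u
open FrobAlg

namespace Groth.Agent.S13144

section helpers
open Groth.Agent.Lib.helper22.W2Lift


end helpers

/-- Let k be a perfect field of characteristic p, A → B a homomorphism of Noetherian k-algebras with an
A-linear retraction B → A, and A' → B' a homomorphism over W₂(k) between flat liftings of A and B
which reduces to A → B. If the Frobenius of B lifts to B' (a σ₂-semilinear ring endomorphism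
reducing to the p-th power map), then the Frobenius of A lifts to A'. (The published statement is
for an affine morphism whose map on structure sheaves splits linearly; the affine case with an
A-linear splitting is taken here.) -/
theorem result
    (p : ℕ) [Fact p.Prime] (k : Type u) [Field k] [CharP k p] [PerfectRing k p]
    (A B : Type u) [CommRing A] [CommRing B] [Algebra k A] [Algebra k B]
    [IsNoetherianRing A] [IsNoetherianRing B] [Algebra A B] [IsScalarTower k A B]
    (r : B →ₗ[A] A) (hr : ∀ a : A, r (algebraMap A B a) = a)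
    (A' B' : Type u) [CommRing A'] [CommRing B']
    (ιA : FrobAlg.W2 p k →+* A') (πA : A' →+* A) (hA : FrobAlg.IsLift p k A A' ιA πA)
    (ιB : FrobAlg.W2 p k →+* B') (πB : B' →+* B) (hB : FrobAlg.IsLift p k B B' ιB πB)
    (φ' : A' →+* B') (hφι : φ'.comp ιA = ιB) (hφπ : πB.comp φ' = (algebraMap A B).comp πA)
    (ΦB : B' →+* B') (hΦB : FrobAlg.IsFrobLift p k B B' ιB πB ΦB) :
    ∃ ΦA : A' →+* A', FrobAlg.IsFrobLift p k A A' ιA πA ΦA := by
  classical
  have hpp : Nat.Prime p := Fact.out
  -- pointwise forms of the compatibilities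
  have hφι' : ∀ w, φ' (ιA w) = ιB w := fun w => RingHom.congr_fun hφι w
  have hφπ' : ∀ x, πB (φ' x) = algebraMap A B (πA x) := fun x => RingHom.congr_fun hφπ x
  have hrlin : ∀ (a : A) (b : B), r (algebraMap A B a * b) = a * r b := by
    intro a b
    rw [← Algebra.smul_def, map_smul, smul_eq_mul]
  have hrlin' : ∀ (a : A) (b : B), r (algebraMap A B a ^ p * b) = a ^ p * r b := by
    intro a b
    rw [← map_pow, hrlin]
  have eB := Groth.Agent.Lib.helper22.W2Lift.p_mul_p (p := p) (k := k) ιB
  have eA := Groth.Agent.Lib.helper22.W2Lift.p_mul_p (p := p) (k := k) ιA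
  -- the "p-derivation" of ΦB along φ'
  have hd : ∀ x : A', ∃ y : B', ΦB (φ' x) = φ' x ^ p + (p : B') * y := by
    intro x
    have h0 : πB (ΦB (φ' x) - φ' x ^ p) = 0 := by
      rw [map_sub, hΦB.red, map_pow, sub_self]
    obtain ⟨y, hy⟩ := Groth.Agent.Lib.helper22.W2Lift.exists_of_pi_eq_zero hB h0
    exact ⟨y, by rw [← hy]; ring⟩
  choose d hdd using hd
  -- its retraction to A and a lift to A'
  have he : ∀ x : A', ∃ z : A', πA z = r (πB (d x)) := fun x => hA.surj _
  choose e hee using he
  -- the candidate Frobenius lift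
  let F : A' → A' := fun x => x ^ p + (p : A') * e x
  have hF : ∀ x, F x = x ^ p + (p : A') * e x := fun x => rfl
  -- additivity
  have hadd : ∀ x y, F (x + y) = F x + F y := by
    intro x y
    obtain ⟨c, hc⟩ := exists_add_pow_prime_eq hpp x y
    have h1 : (p : B') * d (x + y) = (p : B') * (d x + d y - φ' (x * y * c)) := by
      have e0 : ΦB (φ' (x + y)) = ΦB (φ' x) + ΦB (φ' y) := by rw [map_add, map_add]
      have e2 : φ' (x + y) ^ p = φ' x ^ p + φ' y ^ p + (p : B') * φ' (x * y * c) := by
        rw [← map_pow, hc, map_add, map_add, map_pow, map_pow]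
        simp only [map_mul, map_natCast]
        ring
      linear_combination (-1 : B') * (hdd (x + y)) + e0 + hdd x + hdd y - e2
    have h2 := Groth.Agent.Lib.helper22.W2Lift.pi_eq_of_p_mul_eq hB h1
    have h3 : πA (e (x + y)) = πA (e x + e y - x * y * c) := by
      rw [hee (x + y), h2]
      simp only [map_sub, map_add, hφπ', hr, hee]
    have h4 := Groth.Agent.Lib.helper22.W2Lift.p_mul_eq_of_pi_eq hA h3
    rw [hF, hF, hF, h4, hc]
    ring
  -- multiplicativity
  have hmul : ∀ x y, F (x * y) = F x * F y := by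
    intro x y
    have h1 : (p : B') * d (x * y) = (p : B') * (φ' x ^ p * d y + φ' y ^ p * d x) := by
      have e0 : ΦB (φ' (x * y)) = ΦB (φ' x) * ΦB (φ' y) := by rw [map_mul, map_mul]
      have e2 : φ' (x * y) ^ p = φ' x ^ p * φ' y ^ p := by rw [map_mul, mul_pow]
      linear_combination (-1 : B') * (hdd (x * y)) + e0 + ΦB (φ' y) * hdd x +
        (φ' x ^ p + (p : B') * d x) * hdd y - e2 + (d x * d y) * eB
    have h2 := Groth.Agent.Lib.helper22.W2Lift.pi_eq_of_p_mul_eq hB h1
    have h3 : πA (e (x * y)) = πA (x ^ p * e y + y ^ p * e x) := by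
      rw [hee (x * y), h2]
      simp only [map_add, map_mul, map_pow, hφπ', hrlin', hee]
    have h4 := Groth.Agent.Lib.helper22.W2Lift.p_mul_eq_of_pi_eq hA h3
    rw [hF, hF, hF, h4]
    linear_combination (- e x * e y) * eA
  -- one
  have hone : F 1 = 1 := by
    have h1 : (p : B') * d 1 = (p : B') * 0 := by
      have e1 := hdd 1
      rw [map_one, map_one, one_pow] at e1
      rw [mul_zero]
      linear_combination -e1
    have h2 := Groth.Agent.Lib.helper22.W2Lift.pi_eq_of_p_mul_eq hB h1
    have h3 : πA (e 1) = πA 0 := by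
      rw [hee, h2, map_zero, map_zero, map_zero]
    have h4 := Groth.Agent.Lib.helper22.W2Lift.p_mul_eq_of_pi_eq hA h3
    rw [hF, h4, one_pow, mul_zero, add_zero]
  let Fadd : A' →+ A' := AddMonoidHom.mk' F hadd
  let ΦA : A' →+* A' :=
    { toFun := F
      map_one' := hone
      map_mul' := hmul
      map_zero' := Fadd.map_zero
      map_add' := hadd }
  have hΦA : ∀ x, ΦA x = x ^ p + (p : A') * e x := fun x => rfl
  refine ⟨ΦA, { toIsLift := hA, semi := ?_, red := ?_ }⟩
  · -- semilinearity
    apply RingHom.ext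
    intro w
    obtain ⟨v, hv⟩ := Groth.Agent.Lib.helper22.W2Lift.exists_sigma_eq p k w
    rw [RingHom.comp_apply, RingHom.comp_apply, hΦA, hv, map_add, map_mul, map_pow, map_natCast]
    congr 1
    have h1 : (p : B') * d (ιA w) = (p : B') * ιB v := by
      have e1 := hdd (ιA w)
      rw [hφι'] at e1
      have s1 : ΦB (ιB w) = ιB (FrobAlg.sigma p k w) := RingHom.congr_fun hΦB.semi w
      have s2 : ιB (FrobAlg.sigma p k w) = ιB w ^ p + (p : B') * ιB v := by
        rw [hv, map_add, map_mul, map_pow, map_natCast]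
      linear_combination (-1 : B') * e1 + s1 + s2
    have h2 := Groth.Agent.Lib.helper22.W2Lift.pi_eq_of_p_mul_eq hB h1
    have h3 : πA (e (ιA w)) = πA (ιA v) := by
      have c1 : πB (ιB v) = algebraMap k B (FrobAlg.res p k v) := RingHom.congr_fun hB.comm v
      have c2 : πA (ιA v) = algebraMap k A (FrobAlg.res p k v) := RingHom.congr_fun hA.comm v
      rw [hee, h2, c1, c2, IsScalarTower.algebraMap_apply k A B, hr]
    exact Groth.Agent.Lib.helper22.W2Lift.p_mul_eq_of_pi_eq hA h3
  · intro x
    rw [hΦA, map_add, Groth.Agent.Lib.helper22.W2Lift.pi_p_mul hA, add_zero, map_pow]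

end Groth.Agent.S13144
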