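import Groth.Statements.S13146
import Mathlib
import Groth.Agent.Lib.Helper22.W2Quadric
import Groth.Agent.Lib.Helper22.W2Pres

set_option autoImplicit false
universe u
open scoped BigOperators
open FrobAlg

namespace Groth.Agent.S13146

section helpers

theorem aux
    (p : ℕ) [Fact p.Prime] (k : Type u) [Field k] [CharP k p] [PerfectRing k p]
    (n : ℕ) (hn : 3 ≤ n) (I₀ : Ideal (MvPolynomial (Fin n × Fin 2) k))
    (hI₀ : I₀ = Ideal.span
        (insert (∑ i : Fin n, MvPolynomial.X (i, (0 : Fin 2)) * MvPolynomial.X (i, (1 : Fin 2)))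
          (Set.range fun v : Fin n × Fin 2 => (MvPolynomial.X v : MvPolynomial (Fin n × Fin 2) k) ^ p))) :
    ¬ FrobAlg.IsW2Liftable p k (MvPolynomial (Fin n × Fin 2) k ⧸ I₀) := by
  classical
  have hp2 : 2 ≤ p := (Fact.out : p.Prime).two_le
  rintro ⟨B', _, ι, π, hL⟩
  have hρsurj := Groth.Agent.Lib.helper22.W2Pres.map_res_surjective (p := p) (k := k)
    (s := Fin n × Fin 2)
  have hpp := Groth.Agent.Lib.helper22.W2Poly.p_mul_p_poly p k (Fin n × Fin 2)
  obtain ⟨ψ, hψC, hπψ, hψsurj, hcorr⟩ := Groth.Agent.Lib.helper22.W2Pres.exists_pres I₀ hL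
  have hψp : ∀ g, ψ ((p : MvPolynomial (Fin n × Fin 2) (FrobAlg.W2 p k)) * g) = (p : B') * ψ g := by
    intro g
    rw [map_mul, map_natCast]
  set q' := Groth.Agent.Lib.helper22.W2Quadric.quad (FrobAlg.W2 p k) n with hq'
  set M' : Ideal (MvPolynomial (Fin n × Fin 2) (FrobAlg.W2 p k)) :=
    Ideal.span (Set.range fun v : Fin n × Fin 2 =>
      (MvPolynomial.X v : MvPolynomial (Fin n × Fin 2) (FrobAlg.W2 p k)) ^ p) with hM'
  have hXM : ∀ v, (MvPolynomial.X v : MvPolynomial (Fin n × Fin 2) (FrobAlg.W2 p k)) ^ p ∈ M' :=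
    fun v => Ideal.subset_span ⟨v, rfl⟩
  have hρq : MvPolynomial.map (FrobAlg.res p k) q' =
      ∑ i : Fin n, MvPolynomial.X (i, (0 : Fin 2)) * MvPolynomial.X (i, (1 : Fin 2)) :=
    Groth.Agent.Lib.helper22.W2Quadric.map_res_quad p k n
  -- q' - p a₁ ∈ ker ψ
  have h1 : ∃ a₁, ψ (q' - (p : MvPolynomial (Fin n × Fin 2) (FrobAlg.W2 p k)) * a₁) = 0 := by
    have h0 : π (ψ q') = 0 := by
      rw [hπψ, hρq, Ideal.Quotient.eq_zero_iff_mem, hI₀]
      exact Ideal.subset_span (Set.mem_insert _ _)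
    obtain ⟨u, hu⟩ := hcorr _ h0
    exact ⟨u, by rw [map_sub, ← hu, sub_self]⟩
  obtain ⟨a₁, ha₁⟩ := h1
  have h2 : ∀ v : Fin n × Fin 2, ∃ b, ψ (MvPolynomial.X v ^ p -
      (p : MvPolynomial (Fin n × Fin 2) (FrobAlg.W2 p k)) * b) = 0 := by
    intro v
    have h0 : π (ψ (MvPolynomial.X v ^ p)) = 0 := by
      rw [hπψ, map_pow, MvPolynomial.map_X, Ideal.Quotient.eq_zero_iff_mem, hI₀]
      exact Ideal.subset_span (Set.mem_insert_of_mem _ ⟨v, rfl⟩)
    obtain ⟨u, hu⟩ := hcorr _ h0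
    exact ⟨u, by rw [map_sub, ← hu, sub_self]⟩
  choose b hb using h2
  -- the element Z
  obtain ⟨u₀, hu₀⟩ := Groth.Agent.Lib.helper22.W2Poly.exists_polyFrob_eq p k (Fin n × Fin 2) q'
  have hFq := Groth.Agent.Lib.helper22.W2Quadric.polyFrob_quad p k n
  have hFqM := Groth.Agent.Lib.helper22.W2Quadric.polyFrob_quad_mem p k n
  rw [← hq'] at hFq hFqM
  set m₂ : MvPolynomial (Fin n × Fin 2) (FrobAlg.W2 p k) :=
    ∑ i : Fin n, MvPolynomial.X (i, (1 : Fin 2)) ^ p * b (i, 0) with hm₂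
  have hm₂M : m₂ ∈ M' := Ideal.sum_mem _ fun i _ => Ideal.mul_mem_right _ _ (hXM _)
  set z : MvPolynomial (Fin n × Fin 2) (FrobAlg.W2 p k) := -u₀ - a₁ * q' ^ (p - 1) + m₂ with hz
  have hqpow : q' ^ (p - 1) * q' = q' ^ p := by
    rw [← pow_succ]; congr 1; omega
  have hZ : (p : MvPolynomial (Fin n × Fin 2) (FrobAlg.W2 p k)) * z =
      q' ^ (p - 1) * (q' - (p : MvPolynomial (Fin n × Fin 2) (FrobAlg.W2 p k)) * a₁) -
        ∑ i : Fin n, MvPolynomial.X (i, (1 : Fin 2)) ^ p * (MvPolynomial.X (i, (0 : Fin 2)) ^ p -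
          (p : MvPolynomial (Fin n × Fin 2) (FrobAlg.W2 p k)) * b (i, 0)) := by
    have e1 : ∑ i : Fin n, MvPolynomial.X (i, (1 : Fin 2)) ^ p * (MvPolynomial.X (i, (0 : Fin 2)) ^ p -
          (p : MvPolynomial (Fin n × Fin 2) (FrobAlg.W2 p k)) * b (i, 0)) =
        FrobAlg.polyFrob p k (Fin n × Fin 2) q' -
          (p : MvPolynomial (Fin n × Fin 2) (FrobAlg.W2 p k)) * m₂ := by
      rw [hFq, hm₂, Finset.mul_sum, ← Finset.sum_sub_distrib]
      refine Finset.sum_congr rfl fun i _ => ?_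
      ring
    rw [e1, hu₀, hz]
    linear_combination (-1 : MvPolynomial (Fin n × Fin 2) (FrobAlg.W2 p k)) * hqpow
  have hψZ : (p : B') * ψ z = 0 := by
    rw [← hψp, hZ, map_sub, map_mul, ha₁, mul_zero, map_sum, zero_sub, neg_eq_zero]
    refine Finset.sum_eq_zero fun i _ => ?_
    rw [map_mul, hb, mul_zero]
  obtain ⟨b1, hb1⟩ := Groth.Agent.Lib.helper22.W2Lift.exists_of_p_mul_eq_zero hL hψZ
  have hπz : π (ψ z) = 0 := by
    rw [hb1]
    exact Groth.Agent.Lib.helper22.W2Lift.pi_p_mul hL b1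
  -- decompose z
  have hmapI : Ideal.map (MvPolynomial.map (FrobAlg.res p k))
      (Ideal.span {q'} ⊔ M') = I₀ := by
    rw [Ideal.map_sup, Ideal.map_span, Ideal.map_span, Set.image_singleton, hρq, ← Set.range_comp,
      ← Ideal.span_union, hI₀, Set.singleton_union]
    congr 3
    funext v
    simp
  rw [hπψ, Ideal.Quotient.eq_zero_iff_mem, ← hmapI, Ideal.mem_map_iff_of_surjective _ hρsurj] at hπz
  obtain ⟨z₁, hz₁, hz₁e⟩ := hπz
  obtain ⟨w, hw⟩ := Groth.Agent.Lib.helper22.W2Poly.exists_eq_p_mul_of_map_res_eq_zero p k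
    (Fin n × Fin 2) (z - z₁) (by rw [map_sub, hz₁e, sub_self])
  rw [Submodule.mem_sup] at hz₁
  obtain ⟨cq, hcq, m, hm, hcm⟩ := hz₁
  obtain ⟨c, rfl⟩ := Ideal.mem_span_singleton'.mp hcq
  -- p z = p c q' + p m
  have hpz : (p : MvPolynomial (Fin n × Fin 2) (FrobAlg.W2 p k)) * z =
      (p : MvPolynomial (Fin n × Fin 2) (FrobAlg.W2 p k)) * (c * q' + m) := by
    have : z = z₁ + (p : MvPolynomial (Fin n × Fin 2) (FrobAlg.W2 p k)) * w := by
      rw [← hw]; ring
    rw [this, hcm]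
    linear_combination w * hpp
  -- final identity
  have hpF := Groth.Agent.Lib.helper22.W2Poly.p_mul_polyFrob p k (Fin n × Fin 2) q'
  have hq2 : q' ^ (2 * p - 1) = q' ^ p * q' ^ (p - 1) := by
    rw [← pow_add]; congr 1; omega
  have hq3 : q' ^ (p - 1) * q' ^ (p - 1) = q' ^ p * q' ^ (p - 2) := by
    rw [← pow_add, ← pow_add]; congr 1; omega
  have hfinal : q' ^ (2 * p - 1) =
      FrobAlg.polyFrob p k (Fin n × Fin 2) q' * q' ^ (p - 1)
      + FrobAlg.polyFrob p k (Fin n × Fin 2) q' * ((p : MvPolynomial (Fin n × Fin 2) (FrobAlg.W2 p k)) * (a₁ * q' ^ (p - 2)))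
      - m₂ * ((p : MvPolynomial (Fin n × Fin 2) (FrobAlg.W2 p k)) * q' ^ (p - 1))
      + FrobAlg.polyFrob p k (Fin n × Fin 2) q' * ((p : MvPolynomial (Fin n × Fin 2) (FrobAlg.W2 p k)) * c)
      + m * ((p : MvPolynomial (Fin n × Fin 2) (FrobAlg.W2 p k)) * q' ^ (p - 1)) := by
    have e := hpz
    rw [hz] at e
    rw [hq2]
    linear_combination (q' ^ (p - 1)) * e + (- q' ^ (p - 1)) * hu₀ - (a₁ * q' ^ (p - 2) + c) * hpF
      + ((p : MvPolynomial (Fin n × Fin 2) (FrobAlg.W2 p k)) * a₁) * hq3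
      + ((p : MvPolynomial (Fin n × Fin 2) (FrobAlg.W2 p k)) * c) * hqpow
  apply Groth.Agent.Lib.helper22.W2Quadric.quad_pow_not_mem p k n hn
  rw [← hq', ← hM', hfinal]
  refine Ideal.add_mem _ (Ideal.add_mem _ (Ideal.sub_mem _ (Ideal.add_mem _ ?_ ?_) ?_) ?_) ?_
  · exact Ideal.mul_mem_right _ _ hFqM
  · exact Ideal.mul_mem_right _ _ hFqM
  · exact Ideal.mul_mem_right _ _ hm₂M
  · exact Ideal.mul_mem_right _ _ hFqM
  · exact Ideal.mul_mem_right _ _ hm


end helpers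

/-- In an even number of variables — for a perfect field k of characteristic p and n ≥ 3, the local
Artinian algebra k[x_1, y_1, …, x_n, y_n]/(x_1y_1 + ⋯ + x_ny_n, x_1^p, y_1^p, …, x_n^p, y_n^p)
admits no flat lifting over W₂(k). (The published statement covers every number N ≥ 5 of variables,
using x_1x_2 + ⋯ + x_{N−2}x_{N−1} + x_N² for odd N; the printed argument is written out for even N
and the odd case is said to be analogous, so only even N = 2n ≥ 6 is taken here.) -/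
theorem result
    (p : ℕ) [Fact p.Prime] (k : Type u) [Field k] [CharP k p] [PerfectRing k p]
    (n : ℕ) (hn : 3 ≤ n) :
    ¬ FrobAlg.IsW2Liftable p k
      (MvPolynomial (Fin n × Fin 2) k ⧸ Ideal.span
        (insert (∑ i : Fin n, MvPolynomial.X (i, (0 : Fin 2)) * MvPolynomial.X (i, (1 : Fin 2)))
          (Set.range fun v : Fin n × Fin 2 => (MvPolynomial.X v : MvPolynomial (Fin n × Fin 2) k) ^ p))) := by
  exact aux p k n hn _ rfl

end Groth.Agent.S13146
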