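import Groth.Statements.S16373
import Mathlib
import Groth.Agent.S16372

set_option autoImplicit false
universe u
open FrobAlg

namespace Groth.Agent.S16373

set_option linter.style.haveILetI false

variable (p : ℕ) [Fact p.Prime] (m : ℕ) (R : Type u) [CommRing R]

lemma p_mul [CharP R p] (hp : (p : R) = 0) (W : WittVector p R) :
    (p : TruncatedWittVector p (m + 1) R) * WittVector.truncate (m + 1) W
      = WittGrp.shift p (Nat.le_succ m) (WittGrp.frob p m hp (WittVector.truncate m W)) := by
  rw [WittGrp.frob_truncate, WittGrp.shift_truncate]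
  have h1 : m.succ - m = 1 := by omega
  rw [h1, Function.iterate_one, WittVector.verschiebung_frobenius, mul_comm, map_mul, map_natCast]

lemma coeff_zero_add (a b : TruncatedWittVector p (m + 1) R) :
    (a + b).coeff 0 = a.coeff 0 + b.coeff 0 := by
  obtain ⟨A, rfl⟩ := WittVector.truncate_surjective p (m + 1) R a
  obtain ⟨B, rfl⟩ := WittVector.truncate_surjective p (m + 1) R b
  rw [← map_add, WittVector.coeff_truncate, WittVector.coeff_truncate, WittVector.coeff_truncate]
  exact WittVector.add_coeff_zero A B

lemma coeff_zero_shift (k : TruncatedWittVector p m R) :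
    (WittGrp.shift p (Nat.le_succ m) k).coeff 0 = 0 := by
  rw [WittGrp.coeff_shift, dif_neg]
  simp

lemma shift_injective : Function.Injective (WittGrp.shift p (Nat.le_succ m) (R := R)) := by
  intro x y hxy
  refine TruncatedWittVector.ext fun i => ?_
  have h := congrArg (fun z => z.coeff ⟨i.1 + 1, by omega⟩) hxy
  simp only [WittGrp.coeff_shift] at h
  rw [dif_pos (by simp), dif_pos (by simp)] at h
  convert h using 2 <;> ext <;> simp

lemma exists_shift (w : TruncatedWittVector p (m + 1) R) (hw : w.coeff 0 = 0) :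
    ∃ x : TruncatedWittVector p m R, w = WittGrp.shift p (Nat.le_succ m) x := by
  refine ⟨TruncatedWittVector.mk p fun i => w.coeff ⟨i.1 + 1, by omega⟩, ?_⟩
  refine TruncatedWittVector.ext fun i => ?_
  rw [WittGrp.coeff_shift]
  split_ifs with hi
  · rw [TruncatedWittVector.coeff_mk]
    congr 1
    ext
    simp at hi ⊢
    omega
  · have : i = 0 := by
      ext
      simp at hi ⊢
      omega
    rw [this, hw]

theorem main (hm : 0 < m) (hp : (p : R) = 0)
    (σ : TruncatedWittVector p m R →+ R) (h1 : σ 1 = 1)
    (hF : ∀ x y : TruncatedWittVector p m R, σ (WittGrp.frob p m hp x * y) = x.coeff ⟨0, hm⟩ * σ y)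
    (I : Ideal (TruncatedWittVector p (m + 1) R))
    (hI : I = Ideal.span (WittGrp.shift p (Nat.le_succ m) '' {x : TruncatedWittVector p m R | σ x = 0})) :
    (∀ w : TruncatedWittVector p (m + 1) R,
        Ideal.Quotient.mk I w ∈ Ideal.span ({(p : TruncatedWittVector p (m + 1) R ⧸ I)} : Set _) ↔
          w.coeff 0 = 0) ∧
    (∀ q : TruncatedWittVector p (m + 1) R ⧸ I,
        (p : TruncatedWittVector p (m + 1) R ⧸ I) * q = 0 ↔
          q ∈ Ideal.span ({(p : TruncatedWittVector p (m + 1) R ⧸ I)} : Set _)) := by
  rcases subsingleton_or_nontrivial R with hR | hR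
  · haveI : Subsingleton (TruncatedWittVector p (m + 1) R) :=
      ⟨fun a b => TruncatedWittVector.ext fun i => Subsingleton.elim _ _⟩
    haveI : Subsingleton (TruncatedWittVector p (m + 1) R ⧸ I) :=
      ⟨fun a b => by
        obtain ⟨a, rfl⟩ := Ideal.Quotient.mk_surjective a
        obtain ⟨b, rfl⟩ := Ideal.Quotient.mk_surjective b
        rw [Subsingleton.elim a b]⟩
    refine ⟨fun w => ⟨fun _ => Subsingleton.elim _ _, fun _ => ?_⟩,
      fun q => ⟨fun _ => ?_, fun _ => Subsingleton.elim _ _⟩⟩
    · rw [Subsingleton.elim (Ideal.Quotient.mk I w) 0]; exact zero_mem _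
    · rw [Subsingleton.elim q 0]; exact zero_mem _
  haveI : CharP R p := (CharP.charP_iff_prime_eq_zero Fact.out).mpr hp
  set V := WittGrp.shift p (Nat.le_succ m) (R := R) with hV
  -- membership in I
  have hIV : ∀ z, z ∈ I ↔ ∃ k, σ k = 0 ∧ z = V k := by
    intro z
    constructor
    · intro hz
      rw [hI] at hz
      induction hz using Submodule.span_induction with
      | mem x hx =>
        obtain ⟨k, hk, rfl⟩ := hx
        exact ⟨k, hk, rfl⟩
      | zero => exact ⟨0, map_zero _, (map_zero _).symm⟩
      | add x y _ _ hx hy =>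
        obtain ⟨k1, hk1, rfl⟩ := hx
        obtain ⟨k2, hk2, rfl⟩ := hy
        exact ⟨k1 + k2, by rw [map_add, hk1, hk2, add_zero], (map_add _ _ _).symm⟩
      | smul a x _ hx =>
        obtain ⟨k, hk, rfl⟩ := hx
        obtain ⟨k', hk', h⟩ := Groth.Agent.S16372.result p m hm R hp σ h1 hF a k hk
        exact ⟨k', hk', h⟩
    · rintro ⟨k, hk, rfl⟩
      rw [hI]
      exact Ideal.subset_span ⟨k, hk, rfl⟩
  have hσF : ∀ y : TruncatedWittVector p m R, σ (WittGrp.frob p m hp y) = y.coeff ⟨0, hm⟩ := by
    intro y
    have := hF y 1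
    rwa [mul_one, h1, mul_one] at this
  -- coefficient zero of p * u
  have hpu : ∀ u : TruncatedWittVector p (m + 1) R,
      ((p : TruncatedWittVector p (m + 1) R) * u).coeff 0 = 0 := by
    intro u
    obtain ⟨U, rfl⟩ := WittVector.truncate_surjective p (m + 1) R u
    rw [p_mul p m R hp U]
    exact coeff_zero_shift p m R _
  have claim1 : ∀ w : TruncatedWittVector p (m + 1) R,
        Ideal.Quotient.mk I w ∈ Ideal.span ({(p : TruncatedWittVector p (m + 1) R ⧸ I)} : Set _) ↔
          w.coeff 0 = 0 := by
    intro w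
    rw [Ideal.mem_span_singleton']
    constructor
    · rintro ⟨a, ha⟩
      obtain ⟨u, rfl⟩ := Ideal.Quotient.mk_surjective a
      have h2 : (p : TruncatedWittVector p (m + 1) R ⧸ I)
          = Ideal.Quotient.mk I (p : TruncatedWittVector p (m + 1) R) := (map_natCast _ p).symm
      rw [h2, ← map_mul, Ideal.Quotient.eq, hIV] at ha
      obtain ⟨k, hk, hk2⟩ := ha
      have h3 : w = (p : TruncatedWittVector p (m + 1) R) * u - V k := by
        rw [← hk2, mul_comm]; ring
      have h4 : w + V k = (p : TruncatedWittVector p (m + 1) R) * u := by rw [h3]; ring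
      have h5 := congrArg (fun z => z.coeff 0) h4
      beta_reduce at h5
      rw [coeff_zero_add, hpu, coeff_zero_shift, add_zero] at h5
      exact h5
    · intro hw
      obtain ⟨x, rfl⟩ := exists_shift p m R w hw
      -- x = F y + k
      obtain ⟨Y, hY⟩ : ∃ Y : WittVector p R, Y.coeff 0 = σ x :=
        ⟨WittVector.teichmuller p (σ x), WittVector.teichmuller_coeff_zero p (σ x)⟩
      set y := WittVector.truncate m Y with hy
      have hy0 : y.coeff ⟨0, hm⟩ = σ x := by
        rw [hy, WittVector.coeff_truncate]; exact hY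
      set k := x - WittGrp.frob p m hp y with hk
      have hσk : σ k = 0 := by rw [hk, map_sub, hσF, hy0, sub_self]
      refine ⟨Ideal.Quotient.mk I (WittVector.truncate (m + 1) Y), ?_⟩
      have h2 : (p : TruncatedWittVector p (m + 1) R ⧸ I)
          = Ideal.Quotient.mk I (p : TruncatedWittVector p (m + 1) R) := (map_natCast _ p).symm
      rw [h2, ← map_mul, Ideal.Quotient.eq, hIV]
      refine ⟨-k, by rw [map_neg, hσk, neg_zero], ?_⟩
      rw [mul_comm, p_mul p m R hp Y, ← hy, map_neg, hk, map_sub]
      ring
  refine ⟨claim1, ?_⟩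
  intro q
  obtain ⟨w, rfl⟩ := Ideal.Quotient.mk_surjective q
  have h2 : (p : TruncatedWittVector p (m + 1) R ⧸ I)
      = Ideal.Quotient.mk I (p : TruncatedWittVector p (m + 1) R) := (map_natCast _ p).symm
  constructor
  · intro h
    rw [claim1]
    rw [h2, ← map_mul, Ideal.Quotient.eq_zero_iff_mem, hIV] at h
    obtain ⟨k, hk, hk2⟩ := h
    obtain ⟨W, rfl⟩ := WittVector.truncate_surjective p (m + 1) R w
    rw [p_mul p m R hp W] at hk2
    have h3 := shift_injective p m R hk2
    rw [← h3, hσF, WittVector.coeff_truncate] at hk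
    rw [WittVector.coeff_truncate]
    exact hk
  · intro h
    rw [Ideal.mem_span_singleton'] at h
    obtain ⟨a, ha⟩ := h
    obtain ⟨u, rfl⟩ := Ideal.Quotient.mk_surjective a
    rw [← ha, h2, ← map_mul, ← map_mul, Ideal.Quotient.eq_zero_iff_mem, hIV]
    obtain ⟨U, rfl⟩ := WittVector.truncate_surjective p (m + 1) R u
    -- p * (u * p) = V (F (trunc m (U * p)))
    have h3 : (p : TruncatedWittVector p (m + 1) R) * (WittVector.truncate (m + 1) U * (p : TruncatedWittVector p (m + 1) R))
        = (p : TruncatedWittVector p (m + 1) R) * WittVector.truncate (m + 1) (U * (p : WittVector p R)) := by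
      rw [map_mul, map_natCast]
    rw [h3, p_mul p m R hp (U * (p : WittVector p R))]
    refine ⟨_, ?_, rfl⟩
    rw [hσF, WittVector.coeff_truncate, ← WittVector.verschiebung_frobenius,
      WittVector.verschiebung_coeff_zero]



/-- Let p be a prime, m ≥ 1, R a commutative ring with p = 0 in R and σ : W_m(R) → R a quasi-F-splitting
of level m (additive, σ(1) = 1, σ(F(x)·y) = x₀·σ(y) with F the componentwise p-th power). Let I ⊆
W_{m+1}(R) be the ideal generated by the shifts V(x) of the x with σ(x) = 0, and Q = W_{m+1}(R)/I.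
Then Q is a flat lifting of R modulo p²: an element of Q lies in pQ exactly when the first Witt
component of a representative vanishes (so Q/pQ is R through the first component), and an element of
Q is killed by p exactly when it lies in pQ. (Stated for a ring; the source has a scheme over the
prime field. For m = 1 this is the lifting attached to a Frobenius splitting.) -/
theorem result
    (p : ℕ) [Fact p.Prime] (m : ℕ) (hm : 0 < m) (R : Type u) [CommRing R] (hp : (p : R) = 0)
    (σ : TruncatedWittVector p m R →+ R) (h1 : σ 1 = 1)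
    (hF : ∀ x y : TruncatedWittVector p m R, σ (WittGrp.frob p m hp x * y) = x.coeff ⟨0, hm⟩ * σ y)
    (I : Ideal (TruncatedWittVector p (m + 1) R))
    (hI : I = Ideal.span (WittGrp.shift p (Nat.le_succ m) '' {x : TruncatedWittVector p m R | σ x = 0})) :
    (∀ w : TruncatedWittVector p (m + 1) R,
        Ideal.Quotient.mk I w ∈ Ideal.span ({(p : TruncatedWittVector p (m + 1) R ⧸ I)} : Set _) ↔
          w.coeff 0 = 0) ∧
    (∀ q : TruncatedWittVector p (m + 1) R ⧸ I,
        (p : TruncatedWittVector p (m + 1) R ⧸ I) * q = 0 ↔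
          q ∈ Ideal.span ({(p : TruncatedWittVector p (m + 1) R ⧸ I)} : Set _)) := by
  exact main p m R hm hp σ h1 hF I hI

end Groth.Agent.S16373
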