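import Groth.Statements.S13147
import Mathlib
import Groth.Agent.Lib.Helper22.W2Lift
import Groth.Agent.S16373

set_option autoImplicit false
universe u
open FrobAlg

namespace Groth.Agent.S13147

section helpers

theorem coeff_zero_one (p : ℕ) [Fact p.Prime] (n : ℕ) (R : Type*) [CommRing R] :
    (1 : TruncatedWittVector p (n + 1) R).coeff 0 = 1 := by
  rw [← map_one (WittVector.truncate (p := p) (R := R) (n + 1)), WittVector.coeff_truncate]
  exact WittVector.one_coeff_zero p R

theorem coeff_zero_mul (p : ℕ) [Fact p.Prime] (n : ℕ) (R : Type*) [CommRing R]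
    (x y : TruncatedWittVector p (n + 1) R) : (x * y).coeff 0 = x.coeff 0 * y.coeff 0 := by
  obtain ⟨X, rfl⟩ := WittVector.truncate_surjective p (n + 1) R x
  obtain ⟨Y, rfl⟩ := WittVector.truncate_surjective p (n + 1) R y
  rw [← map_mul, WittVector.coeff_truncate, WittVector.coeff_truncate, WittVector.coeff_truncate]
  exact WittVector.mul_coeff_zero X Y

theorem coeff_one_shift (p : ℕ) [Fact p.Prime] (R : Type*) [CommRing R]
    (k : TruncatedWittVector p 1 R) :
    (WittGrp.shift p (Nat.le_succ 1) k).coeff 1 = k.coeff 0 := by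
  rw [WittGrp.coeff_shift, dif_pos (by simp)]
  congr 1


end helpers

/-- Let k be a perfect field of characteristic p and (A, φ) a k-algebra with a Frobenius splitting (φ
additive, φ(a^p b) = a φ(b), φ(1) = 1). The quotient of W₂(A) by the ideal generated by the Witt
vectors (0, a) with φ(a) = 0 — the ring of twisted Witt vectors of (A, φ) — is a flat lifting of A
over W₂(k): flat over W₂(k), with reduction map onto A induced by (a₀, a₁) ↦ a₀ whose kernel is
generated by the maximal ideal of W₂(k). (The published statement also asserts that a morphism of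
algebras with Frobenius splittings compatible with the splittings induces a ring map between these
quotients; that part is not stated here.) -/
theorem result
    (p : ℕ) [Fact p.Prime] (k : Type u) [Field k] [CharP k p] [PerfectRing k p]
    (A : Type u) [CommRing A] [Algebra k A] (φ : A →+ A)
    (hφ : ∀ a b : A, φ (a ^ p * b) = a * φ b) (hφ1 : φ 1 = 1) :
    FrobAlg.IsLift p k A (FrobAlg.W2 p A ⧸ FrobAlg.splitIdeal p A φ)
      ((Ideal.Quotient.mk (FrobAlg.splitIdeal p A φ)).comp (WittGrp.truncMap p 2 (algebraMap k A)))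
      (FrobAlg.splitRes p A φ) := by
  have hpA : ((p : ℕ) : A) = 0 := by
    rw [← map_natCast (algebraMap k A), CharP.cast_eq_zero k p, map_zero]
  let σ : TruncatedWittVector p 1 A →+ A :=
    { toFun := fun x => φ (x.coeff 0)
      map_zero' := by rw [TruncatedWittVector.coeff_zero, map_zero]
      map_add' := fun x y => by
        rw [Groth.Agent.S16373.coeff_zero_add p 0 A x y, map_add] }
  have hσ : ∀ x, σ x = φ (x.coeff 0) := fun x => rfl
  have h1 : σ 1 = 1 := by
    rw [hσ, coeff_zero_one p 0 A, hφ1]
  have hF : ∀ x y : TruncatedWittVector p 1 A,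
      σ (WittGrp.frob p 1 hpA x * y) = x.coeff ⟨0, one_pos⟩ * σ y := by
    intro x y
    rw [hσ, hσ, coeff_zero_mul p 0 A, WittGrp.coeff_frob, hφ]
    rfl
  have hI : (FrobAlg.splitIdeal p A φ : Ideal (TruncatedWittVector p (1 + 1) A)) =
      Ideal.span (WittGrp.shift p (Nat.le_succ 1) '' {x : TruncatedWittVector p 1 A | σ x = 0}) := by
    unfold FrobAlg.splitIdeal
    congr 1
    ext x
    constructor
    · rintro ⟨hx0, hx1⟩
      rw [FrobAlg.res_apply] at hx0
      obtain ⟨k', rfl⟩ := Groth.Agent.S16373.exists_shift p 1 A x hx0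
      refine ⟨k', ?_, rfl⟩
      change φ (k'.coeff 0) = 0
      rw [← coeff_one_shift p A k']
      exact hx1
    · rintro ⟨k', hk', rfl⟩
      refine ⟨?_, ?_⟩
      · rw [FrobAlg.res_apply]
        exact Groth.Agent.S16373.coeff_zero_shift p 1 A k'
      · rw [coeff_one_shift p A k']
        exact hk'
  obtain ⟨c1, c2⟩ := Groth.Agent.S16373.result p 1 one_pos A hpA σ h1 hF
    (FrobAlg.splitIdeal p A φ) hI
  have hres : ∀ w : FrobAlg.W2 p A,
      FrobAlg.splitRes p A φ (Ideal.Quotient.mk (FrobAlg.splitIdeal p A φ) w) = w.coeff 0 := by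
    intro w
    change FrobAlg.res p A w = _
    rw [FrobAlg.res_apply]
  refine { flat := ?_, surj := ?_, ker_eq := ?_, comm := ?_ }
  · apply Groth.Agent.Lib.helper22.W2Lift.flat_of_torsion
    intro x hx
    have := (c2 x).mp hx
    rw [Ideal.mem_span_singleton'] at this
    obtain ⟨y, hy⟩ := this
    exact ⟨y, by rw [← hy, mul_comm]⟩
  · intro a
    refine ⟨Ideal.Quotient.mk _ (WittVector.truncate 2 (WittVector.teichmuller p a)), ?_⟩
    rw [hres, WittVector.coeff_truncate]
    exact WittVector.teichmuller_coeff_zero p a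
  · rw [Groth.Agent.Lib.helper22.W2Lift.ker_res, Ideal.map_span, Set.image_singleton, map_natCast]
    ext x
    obtain ⟨w, rfl⟩ := Ideal.Quotient.mk_surjective x
    rw [RingHom.mem_ker, hres]
    exact (c1 w).symm
  · apply RingHom.ext
    intro w
    rw [RingHom.comp_apply, RingHom.comp_apply, RingHom.comp_apply, hres, FrobAlg.res_apply]
    exact WittGrp.coeff_truncMap p 2 (algebraMap k A) w 0

end Groth.Agent.S13147
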