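import Groth.Statements.S13148
import Mathlib
import Groth.Agent.S6827

set_option autoImplicit false
universe u
open FrobAlg

namespace Groth.Agent.S13148

section aux

variable (p : ℕ) [Fact p.Prime]

/-- Type synonym carrying a twisted algebra structure. -/
def Tw (B : Type u) : Type u := B

instance (B : Type u) [CommRing B] : CommRing (Tw B) := inferInstanceAs (CommRing B)

/-- The `p`-power endomorphism of a ring in which `p = 0`. -/
noncomputable def frobA (A : Type u) [CommRing A] (hp : (p : A) = 0) : A →+* A where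
  toFun a := a ^ p
  map_one' := one_pow p
  map_mul' := fun a b => mul_pow a b p
  map_zero' := zero_pow (Fact.out : p.Prime).ne_zero
  map_add' := fun a b => by
    rcases subsingleton_or_nontrivial A with h | h
    · exact Subsingleton.elim _ _
    · haveI : CharP A p := (CharP.charP_iff_prime_eq_zero Fact.out).mpr hp
      exact add_pow_char a b p

theorem exists_frobLift (R B A : Type u) [CommRing R] [CommRing B] [CommRing A] [Algebra R B]
    [Algebra.FormallySmooth R B] (σ : R →+* R) (π : B →+* A) (hπ : Function.Surjective π)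
    (hker : (RingHom.ker π) ^ 2 = ⊥) (F : A →+* A)
    (hF : ∀ r, F (π (algebraMap R B r)) = π (algebraMap R B (σ r))) :
    ∃ Φ : B →+* B, Φ.comp (algebraMap R B) = (algebraMap R B).comp σ ∧
      ∀ b, π (Φ b) = F (π b) := by
  letI : Algebra R (Tw B) := ((algebraMap R B).comp σ).toAlgebra
  letI : Algebra R A := ((π.comp (algebraMap R B)).comp σ).toAlgebra
  let f : B →ₐ[R] A := { toRingHom := F.comp π, commutes' := fun r => hF r }
  let g : Tw B →ₐ[R] A := { toRingHom := (π : Tw B →+* A), commutes' := fun r => rfl }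
  have hg : Function.Surjective g := hπ
  have hg' : IsNilpotent (RingHom.ker (g : Tw B →+* A)) := ⟨2, hker⟩
  let Φ' : B →ₐ[R] Tw B := Algebra.FormallySmooth.liftOfSurjective f g hg hg'
  have hΦ' : ∀ b, g (Φ' b) = f b := Algebra.FormallySmooth.liftOfSurjective_apply f g hg hg'
  refine ⟨(Φ'.toRingHom : B →+* B), ?_, fun b => hΦ' b⟩
  ext r
  exact Φ'.commutes r

theorem truncate_mul_eq_zero (k : Type u) [CommRing k] [CharP k p] (X Y : WittVector p k)
    (hX : X.coeff 0 = 0) (hY : Y.coeff 0 = 0) : WittVector.truncate 2 (X * Y) = 0 := by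
  have hX' : WittVector.verschiebung (X.shift 1) = X := by
    have := WittVector.eq_iterate_verschiebung (x := X) (n := 1)
      (by intro i hi; obtain rfl : i = 0 := by omega
          exact hX)
    rw [Function.iterate_one] at this
    exact this.symm
  have hY' : WittVector.verschiebung (Y.shift 1) = Y := by
    have := WittVector.eq_iterate_verschiebung (x := Y) (n := 1)
      (by intro i hi; obtain rfl : i = 0 := by omega
          exact hY)
    rw [Function.iterate_one] at this
    exact this.symm
  have h1 : X * Y = WittVector.verschiebung (X.shift 1 * (Y.shift 1 * (p : WittVector p k))) := by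
    rw [← WittVector.frobenius_verschiebung, WittVector.verschiebung_mul_frobenius, hX', hY']
  ext i
  rw [WittVector.coeff_truncate, h1, TruncatedWittVector.coeff_zero]
  fin_cases i
  · exact WittVector.verschiebung_coeff_zero _
  · change (WittVector.verschiebung _).coeff (0 + 1) = 0
    rw [WittVector.verschiebung_coeff_succ, ← mul_assoc, WittVector.mul_charP_coeff_zero]

theorem ker_res_sq (k : Type u) [CommRing k] [CharP k p] :
    (RingHom.ker (res p k)) ^ 2 = ⊥ := by
  rw [eq_bot_iff, pow_two, Ideal.mul_le]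
  intro x hx y hy
  rw [RingHom.mem_ker, res_apply] at hx hy
  obtain ⟨X, rfl⟩ := WittVector.truncate_surjective p 2 k x
  obtain ⟨Y, rfl⟩ := WittVector.truncate_surjective p 2 k y
  rw [WittVector.coeff_truncate] at hx hy
  rw [Ideal.mem_bot, ← map_mul]
  exact truncate_mul_eq_zero p k X Y hx hy

theorem res_surjective (k : Type u) [CommRing k] : Function.Surjective (res p k) := by
  intro a
  refine ⟨WittVector.truncate 2 (WittVector.teichmuller p a), ?_⟩
  rw [res_truncate, WittVector.teichmuller_coeff_zero]

theorem res_sigma (k : Type u) [CommRing k] [CharP k p] (x : W2 p k) :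
    res p k (sigma p k x) = res p k x ^ p := by
  rw [res_apply, res_apply]
  exact WittGrp.coeff_frob p 2 _ x 0

theorem main (k : Type u) [Field k] [CharP k p]
    (A : Type u) [CommRing A] [Algebra k A] [Algebra.Smooth k A] :
    FrobAlg.IsFLiftable p k A := by
  let I : Ideal (W2 p k) := RingHom.ker (res p k)
  let e₀ : (W2 p k ⧸ I) ≃+* k := RingHom.quotientKerEquivOfSurjective (res_surjective p k)
  have he₀ : ∀ x, e₀ (Ideal.Quotient.mk I x) = res p k x := fun _ => rfl
  letI algk : Algebra (W2 p k ⧸ I) k := e₀.toRingHom.toAlgebra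
  letI algA : Algebra (W2 p k ⧸ I) A := ((algebraMap k A).comp e₀.toRingHom).toAlgebra
  haveI : IsScalarTower (W2 p k ⧸ I) k A := IsScalarTower.of_algebraMap_eq' rfl
  let eAlg : (W2 p k ⧸ I) ≃ₐ[W2 p k ⧸ I] k := AlgEquiv.ofRingEquiv (f := e₀) (fun x => rfl)
  haveI : Algebra.Smooth (W2 p k ⧸ I) k := Algebra.Smooth.of_equiv eAlg
  haveI : Algebra.Smooth (W2 p k ⧸ I) A := Algebra.Smooth.comp (W2 p k ⧸ I) k A
  obtain ⟨B, _, _, hsm, ⟨ε⟩⟩ := Groth.Agent.S6827.result (R := W2 p k) (A₀ := A) I
  let π : B →+* A := (ε : _ →+* A).comp (Ideal.Quotient.mk (I.map (algebraMap (W2 p k) B)))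
  have hπ : ∀ b, π b = ε (Ideal.Quotient.mk _ b) := fun _ => rfl
  have hπsurj : Function.Surjective π := ε.surjective.comp Ideal.Quotient.mk_surjective
  have hπker : RingHom.ker π = I.map (algebraMap (W2 p k) B) := by
    ext b
    rw [RingHom.mem_ker, hπ, map_eq_zero_iff ε ε.injective, Ideal.Quotient.eq_zero_iff_mem]
  have hcomm : ∀ r, π (algebraMap (W2 p k) B r) = algebraMap k A (res p k r) := by
    intro r
    have h1 : Ideal.Quotient.mk (I.map (algebraMap (W2 p k) B)) (algebraMap (W2 p k) B r) =
        algebraMap (W2 p k ⧸ I) _ (Ideal.Quotient.mk I r) :=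
      (Ideal.Quotient.algebraMap_quotient_map_quotient _).symm
    rw [hπ, h1, ε.commutes]
    rfl
  have hpA : (p : A) = 0 := by
    rw [← map_natCast (algebraMap k A), CharP.cast_eq_zero, map_zero]
  have hker2 : (RingHom.ker π) ^ 2 = ⊥ := by
    rw [hπker, ← Ideal.map_pow, ker_res_sq, Ideal.map_bot]
  obtain ⟨Φ, hΦ1, hΦ2⟩ := exists_frobLift (W2 p k) B A (sigma p k) π hπsurj hker2 (frobA p A hpA)
    (by
      intro r
      rw [hcomm, hcomm, res_sigma, map_pow]
      rfl)
  refine ⟨B, inferInstance, algebraMap (W2 p k) B, π, Φ, ⟨⟨?_, hπsurj, hπker, ?_⟩, hΦ1, ?_⟩⟩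
  · rw [RingHom.flat_algebraMap_iff]
    infer_instance
  · ext r
    exact hcomm r
  · intro b
    rw [hΦ2]
    rfl

end aux

/-- Over a perfect field k of characteristic p, every smooth affine scheme Spec A admits a flat lifting
over W₂(k) together with a lifting of Frobenius (not necessarily unique). -/
theorem result
    (p : ℕ) [Fact p.Prime] (k : Type u) [Field k] [CharP k p] [PerfectRing k p]
    (A : Type u) [CommRing A] [Algebra k A] [Algebra.Smooth k A] :
    FrobAlg.IsFLiftable p k A := by
  exact main p k A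

end Groth.Agent.S13148
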