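import Groth.Statements.S13149
import Mathlib

set_option autoImplicit false
universe u
open CAlg

namespace Groth.Agent.S13149

set_option linter.style.haveILetI false
set_option linter.unusedSectionVars false
set_option linter.unusedVariables false

section
variable (p : ℕ) [Fact p.Prime] (A : Type u) [CommRing A]

theorem vec_ne {a b c : ZMod p} (h : a ≠ 0 ∨ b ≠ 0 ∨ c ≠ 0) : (![a, b, c] : Fin 3 → ZMod p) ≠ 0 := by
  intro h0
  rcases h with h | h | h
  · exact h (by simpa using congrFun h0 0)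
  · exact h (by simpa using congrFun h0 1)
  · exact h (by simpa using congrFun h0 2)

theorem unit0 {A : Type u} [CommRing A] (h : IsUnit (0 : A)) (a : A) : IsUnit a := by
  have : Subsingleton A := subsingleton_of_zero_eq_one (isUnit_zero_iff.mp h)
  exact isUnit_of_subsingleton _

theorem core
    (ρ : (Fin 3 → ZMod p) → (Fin 3 → A))
    (pt : ∀ v : Fin 3 → ZMod p, v ≠ 0 → IsUnit (ρ v 0) ∨ IsUnit (ρ v 1) ∨ IsUnit (ρ v 2))
    (col : ∀ a b c : Fin 3 → ZMod p, a ≠ 0 → b ≠ 0 → c ≠ 0 →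
      Matrix.det (Matrix.of ![a, b, c]) = 0 →
      ∃ n0 n1 n2 : A, (IsUnit n0 ∨ IsUnit n1 ∨ IsUnit n2) ∧
        ρ a 0 * n0 + ρ a 1 * n1 + ρ a 2 * n2 = 0 ∧
        ρ b 0 * n0 + ρ b 1 * n1 + ρ b 2 * n2 = 0 ∧
        ρ c 0 * n0 + ρ c 1 * n1 + ρ c 2 * n2 = 0)
    (x y z u : A) (hx : IsUnit x) (hy : IsUnit y) (hz : IsUnit z) (hu : IsUnit u)
    (hX : ρ ![1, 0, 0] 0 = x ∧ ρ ![1, 0, 0] 1 = 0 ∧ ρ ![1, 0, 0] 2 = 0)
    (hY : ρ ![0, 1, 0] 0 = 0 ∧ ρ ![0, 1, 0] 1 = y ∧ ρ ![0, 1, 0] 2 = 0)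
    (hZ : ρ ![0, 0, 1] 0 = 0 ∧ ρ ![0, 0, 1] 1 = 0 ∧ ρ ![0, 0, 1] 2 = z)
    (hU : ρ ![1, 1, 1] 0 = u ∧ ρ ![1, 1, 1] 1 = u ∧ ρ ![1, 1, 1] 2 = u) :
    (p : A) = 0 := by
  have one_ne : (1 : ZMod p) ≠ 0 := one_ne_zero
  have nX : (![1, 0, 0] : Fin 3 → ZMod p) ≠ 0 := vec_ne p (Or.inl one_ne)
  have nY : (![0, 1, 0] : Fin 3 → ZMod p) ≠ 0 := vec_ne p (Or.inr (Or.inl one_ne))
  have nZ : (![0, 0, 1] : Fin 3 → ZMod p) ≠ 0 := vec_ne p (Or.inr (Or.inr one_ne))
  have nU : (![1, 1, 1] : Fin 3 → ZMod p) ≠ 0 := vec_ne p (Or.inl one_ne)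
  have nA : (![0, 1, 1] : Fin 3 → ZMod p) ≠ 0 := vec_ne p (Or.inr (Or.inl one_ne))
  -- Step A
  obtain ⟨s, hs, hA0, hA1, hA2⟩ : ∃ s : A, IsUnit s ∧ ρ ![0, 1, 1] 0 = 0 ∧ ρ ![0, 1, 1] 1 = s ∧
      ρ ![0, 1, 1] 2 = s := by
    obtain ⟨n0, n1, n2, hn, e1, e2, e3⟩ := col ![0, 1, 0] ![0, 0, 1] ![0, 1, 1] nY nZ nA
      (by rw [Matrix.det_fin_three]; simp)
    obtain ⟨m0, m1, m2, hm, f1, f2, f3⟩ := col ![1, 0, 0] ![1, 1, 1] ![0, 1, 1] nX nU nA
      (by rw [Matrix.det_fin_three]; simp)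
    rw [hY.1, hY.2.1, hY.2.2] at e1
    rw [hZ.1, hZ.2.1, hZ.2.2] at e2
    rw [hX.1, hX.2.1, hX.2.2] at f1
    rw [hU.1, hU.2.1, hU.2.2] at f2
    have hn1 : n1 = 0 := by
      have : y * n1 = 0 := by linear_combination e1
      exact (hy.mul_right_eq_zero).mp this
    have hn2 : n2 = 0 := by
      have : z * n2 = 0 := by linear_combination e2
      exact (hz.mul_right_eq_zero).mp this
    have hm0 : m0 = 0 := by
      have : x * m0 = 0 := by linear_combination f1
      exact (hx.mul_right_eq_zero).mp this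
    have hm2 : m2 = -m1 := by
      have : u * (m0 + m1 + m2) = 0 := by linear_combination f2
      have := (hu.mul_right_eq_zero).mp this
      rw [hm0] at this
      linear_combination this
    subst hn1 hn2 hm0 hm2
    have hn0 : IsUnit n0 := by
      rcases hn with h | h | h
      · exact h
      · exact unit0 h _
      · exact unit0 h _
    have hm1 : IsUnit m1 := by
      rcases hm with h | h | h
      · exact unit0 h _
      · exact h
      · exact (IsUnit.neg_iff _).mp h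
    have q0 : ρ ![0, 1, 1] 0 = 0 := by
      have : ρ ![0, 1, 1] 0 * n0 = 0 := by linear_combination e3
      exact (hn0.mul_left_eq_zero).mp this
    have q12 : ρ ![0, 1, 1] 1 = ρ ![0, 1, 1] 2 := by
      have : (ρ ![0, 1, 1] 1 - ρ ![0, 1, 1] 2) * m1 = 0 := by linear_combination f3
      have := (hm1.mul_left_eq_zero).mp this
      linear_combination this
    refine ⟨ρ ![0, 1, 1] 2, ?_, q0, q12, rfl⟩
    rcases pt _ nA with h | h | h
    · rw [q0] at h
      exact unit0 h _
    · rwa [q12] at h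
    · exact h
  -- induction
  have ind : ∀ n : ℕ, ∃ t : A, IsUnit t ∧ ρ ![(n : ZMod p), 0, 1] 0 = t * n ∧
      ρ ![(n : ZMod p), 0, 1] 1 = 0 ∧ ρ ![(n : ZMod p), 0, 1] 2 = t := by
    intro n
    induction n with
    | zero =>
      refine ⟨z, hz, ?_, ?_, ?_⟩
      · simp only [Nat.cast_zero, mul_zero]; exact hZ.1
      · simp only [Nat.cast_zero]; exact hZ.2.1
      · simp only [Nat.cast_zero]; exact hZ.2.2
    | succ n ih =>
      obtain ⟨t, ht, hP0, hP1, hP2⟩ := ih
      have nP : (![(n : ZMod p), 0, 1] : Fin 3 → ZMod p) ≠ 0 :=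
        vec_ne p (Or.inr (Or.inr one_ne))
      have nW : (![-(n : ZMod p), 1, 0] : Fin 3 → ZMod p) ≠ 0 :=
        vec_ne p (Or.inr (Or.inl one_ne))
      have nP' : (![((n + 1 : ℕ) : ZMod p), 0, 1] : Fin 3 → ZMod p) ≠ 0 :=
        vec_ne p (Or.inr (Or.inr one_ne))
      -- Step B
      obtain ⟨w, hw, hW0, hW1, hW2⟩ : ∃ w : A, IsUnit w ∧ ρ ![-(n : ZMod p), 1, 0] 0 = -(w * n) ∧
          ρ ![-(n : ZMod p), 1, 0] 1 = w ∧ ρ ![-(n : ZMod p), 1, 0] 2 = 0 := by
        obtain ⟨n0, n1, n2, hn, e1, e2, e3⟩ := col ![1, 0, 0] ![0, 1, 0] ![-(n : ZMod p), 1, 0]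
          nX nY nW (by rw [Matrix.det_fin_three]; simp)
        obtain ⟨m0, m1, m2, hm, f1, f2, f3⟩ := col ![0, 1, 1] ![(n : ZMod p), 0, 1]
          ![-(n : ZMod p), 1, 0] nA nP nW (by rw [Matrix.det_fin_three]; simp)
        rw [hX.1, hX.2.1, hX.2.2] at e1
        rw [hY.1, hY.2.1, hY.2.2] at e2
        rw [hA0, hA1, hA2] at f1
        rw [hP0, hP1, hP2] at f2
        have hn0 : n0 = 0 := by
          have : x * n0 = 0 := by linear_combination e1
          exact (hx.mul_right_eq_zero).mp this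
        have hn1 : n1 = 0 := by
          have : y * n1 = 0 := by linear_combination e2
          exact (hy.mul_right_eq_zero).mp this
        have hm2 : m2 = -m1 := by
          have : s * (m1 + m2) = 0 := by linear_combination f1
          have := (hs.mul_right_eq_zero).mp this
          linear_combination this
        have hm1 : m1 = n * m0 := by
          have : t * (n * m0 + m2) = 0 := by linear_combination f2
          have := (ht.mul_right_eq_zero).mp this
          rw [hm2] at this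
          linear_combination (-1 : A) * this
        subst hn0 hn1
        rw [hm1] at hm2
        subst hm1 hm2
        have hn2 : IsUnit n2 := by
          rcases hn with h | h | h
          · exact unit0 h _
          · exact unit0 h _
          · exact h
        have hm0 : IsUnit m0 := by
          rcases hm with h | h | h
          · exact h
          · exact isUnit_of_mul_isUnit_right h
          · exact isUnit_of_mul_isUnit_right ((IsUnit.neg_iff _).mp h)
        have q2 : ρ ![-(n : ZMod p), 1, 0] 2 = 0 := by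
          have : ρ ![-(n : ZMod p), 1, 0] 2 * n2 = 0 := by linear_combination e3
          exact (hn2.mul_left_eq_zero).mp this
        have q0 : ρ ![-(n : ZMod p), 1, 0] 0 = -(ρ ![-(n : ZMod p), 1, 0] 1 * n) := by
          have : (ρ ![-(n : ZMod p), 1, 0] 0 + ρ ![-(n : ZMod p), 1, 0] 1 * n -
              ρ ![-(n : ZMod p), 1, 0] 2 * n) * m0 = 0 := by linear_combination f3
          have := (hm0.mul_left_eq_zero).mp this
          rw [q2] at this
          linear_combination this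
        refine ⟨ρ ![-(n : ZMod p), 1, 0] 1, ?_, q0, rfl, q2⟩
        rcases pt _ nW with h | h | h
        · rw [q0] at h
          exact isUnit_of_mul_isUnit_left ((IsUnit.neg_iff _).mp h)
        · exact h
        · rw [q2] at h
          exact unit0 h _
      -- Step C
      obtain ⟨n0, n1, n2, hn, e1, e2, e3⟩ := col ![1, 0, 0] ![0, 0, 1]
        ![((n + 1 : ℕ) : ZMod p), 0, 1] nX nZ nP' (by rw [Matrix.det_fin_three]; simp)
      obtain ⟨m0, m1, m2, hm, f1, f2, f3⟩ := col ![1, 1, 1] ![-(n : ZMod p), 1, 0]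
        ![((n + 1 : ℕ) : ZMod p), 0, 1] nU nW nP'
        (by rw [Matrix.det_fin_three]; simp; ring)
      rw [hX.1, hX.2.1, hX.2.2] at e1
      rw [hZ.1, hZ.2.1, hZ.2.2] at e2
      rw [hU.1, hU.2.1, hU.2.2] at f1
      rw [hW0, hW1, hW2] at f2
      have hn0 : n0 = 0 := by
        have : x * n0 = 0 := by linear_combination e1
        exact (hx.mul_right_eq_zero).mp this
      have hn2 : n2 = 0 := by
        have : z * n2 = 0 := by linear_combination e2
        exact (hz.mul_right_eq_zero).mp this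
      have hm1 : m1 = n * m0 := by
        have : w * (m1 - n * m0) = 0 := by linear_combination f2
        have := (hw.mul_right_eq_zero).mp this
        linear_combination this
      have hm2 : m2 = -((n + 1) * m0) := by
        have : u * (m0 + m1 + m2) = 0 := by linear_combination f1
        have := (hu.mul_right_eq_zero).mp this
        rw [hm1] at this
        linear_combination this
      subst hn0 hn2
      subst hm1
      subst hm2
      have hn1 : IsUnit n1 := by
        rcases hn with h | h | h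
        · exact unit0 h _
        · exact h
        · exact unit0 h _
      have hm0 : IsUnit m0 := by
        rcases hm with h | h | h
        · exact h
        · exact isUnit_of_mul_isUnit_right h
        · exact isUnit_of_mul_isUnit_right ((IsUnit.neg_iff _).mp h)
      have q1 : ρ ![((n + 1 : ℕ) : ZMod p), 0, 1] 1 = 0 := by
        have : ρ ![((n + 1 : ℕ) : ZMod p), 0, 1] 1 * n1 = 0 := by linear_combination e3
        exact (hn1.mul_left_eq_zero).mp this
      have q0 : ρ ![((n + 1 : ℕ) : ZMod p), 0, 1] 0 =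
          ρ ![((n + 1 : ℕ) : ZMod p), 0, 1] 2 * ((n + 1 : ℕ) : A) := by
        have : (ρ ![((n + 1 : ℕ) : ZMod p), 0, 1] 0 + ρ ![((n + 1 : ℕ) : ZMod p), 0, 1] 1 * n -
            ρ ![((n + 1 : ℕ) : ZMod p), 0, 1] 2 * (n + 1)) * m0 = 0 := by linear_combination f3
        have := (hm0.mul_left_eq_zero).mp this
        rw [q1] at this
        have hc : ((n + 1 : ℕ) : A) = (n : A) + 1 := by push_cast; ring
        rw [hc]
        linear_combination this
      refine ⟨ρ ![((n + 1 : ℕ) : ZMod p), 0, 1] 2, ?_, q0, q1, rfl⟩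
      rcases pt _ nP' with h | h | h
      · rw [q0] at h
        exact isUnit_of_mul_isUnit_left h
      · rw [q1] at h
        exact unit0 h _
      · exact h
  obtain ⟨t, ht, h0, h1, h2⟩ := ind p
  rw [ZMod.natCast_self, hZ.1] at h0
  exact ((ht.mul_right_eq_zero).mp h0.symm)

theorem sum_unit_local {A : Type u} [CommRing A] [IsLocalRing A] {ι : Type*} (s : Finset ι)
    (f : ι → A) (h : IsUnit (∑ i ∈ s, f i)) : ∃ i ∈ s, IsUnit (f i) := by
  by_contra hcon
  push Not at hcon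
  have : ∑ i ∈ s, f i ∈ IsLocalRing.maximalIdeal A :=
    Ideal.sum_mem _ (fun i hi => (IsLocalRing.mem_maximalIdeal _).mpr (hcon i hi))
  exact (IsLocalRing.mem_maximalIdeal _).mp this h

theorem unit_vecMul {A : Type u} [CommRing A] [IsLocalRing A] (N : Matrix (Fin 3) (Fin 3) A)
    (v : Fin 3 → A) (h : ∃ i, IsUnit ((Matrix.vecMul v N) i)) : ∃ j, IsUnit (v j) := by
  obtain ⟨i, hi⟩ := h
  have : (Matrix.vecMul v N) i = ∑ j, v j * N j i := rfl
  rw [this] at hi
  obtain ⟨j, -, hj⟩ := sum_unit_local _ _ hi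
  exact ⟨j, isUnit_of_mul_isUnit_left hj⟩

theorem unit_mulVec {A : Type u} [CommRing A] [IsLocalRing A] (N : Matrix (Fin 3) (Fin 3) A)
    (v : Fin 3 → A) (h : ∃ i, IsUnit ((Matrix.mulVec N v) i)) : ∃ j, IsUnit (v j) := by
  obtain ⟨i, hi⟩ := h
  have : (Matrix.mulVec N v) i = ∑ j, N i j * v j := rfl
  rw [this] at hi
  obtain ⟨j, -, hj⟩ := sum_unit_local _ _ hi
  exact ⟨j, isUnit_of_mul_isUnit_right hj⟩

theorem main [IsLocalRing A]
    (ρ : (Fin 3 → ZMod p) → (Fin 3 → A))
    (hpt : ∀ v : Fin 3 → ZMod p, v ≠ 0 → ∃ i, IsUnit (ρ v i))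
    (hcol : ∀ u v w : Fin 3 → ZMod p, u ≠ 0 → v ≠ 0 → w ≠ 0 →
      Matrix.det (Matrix.of ![u, v, w]) = 0 →
      ∃ n : Fin 3 → A, (∃ i, IsUnit (n i)) ∧
        dotProduct (ρ u) n = 0 ∧ dotProduct (ρ v) n = 0 ∧ dotProduct (ρ w) n = 0)
    (hgen : IsUnit (Matrix.det (Matrix.of ![ρ (Pi.single 0 1), ρ (Pi.single 1 1), ρ (Pi.single 2 1)])) ∧
      IsUnit (Matrix.det (Matrix.of ![ρ (Pi.single 0 1), ρ (Pi.single 1 1), ρ (fun _ => 1)])) ∧
      IsUnit (Matrix.det (Matrix.of ![ρ (Pi.single 0 1), ρ (Pi.single 2 1), ρ (fun _ => 1)])) ∧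
      IsUnit (Matrix.det (Matrix.of ![ρ (Pi.single 1 1), ρ (Pi.single 2 1), ρ (fun _ => 1)]))) :
    (p : A) = 0 := by
  classical
  obtain ⟨hD, hD1, hD2, hD3⟩ := hgen
  set rX := ρ (Pi.single 0 1) with hrX
  set rY := ρ (Pi.single 1 1) with hrY
  set rZ := ρ (Pi.single 2 1) with hrZ
  set rU := ρ (fun _ => 1) with hrU
  set M : Matrix (Fin 3) (Fin 3) A := Matrix.of ![rX, rY, rZ] with hM
  have hMM : M * M⁻¹ = 1 := Matrix.mul_nonsing_inv M hD
  have hMM' : M⁻¹ * M = 1 := Matrix.nonsing_inv_mul M hD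
  set k : Fin 3 → A := Matrix.vecMul rU M⁻¹ with hk
  have hkM : Matrix.vecMul k M = rU := by
    rw [hk, Matrix.vecMul_vecMul, hMM', Matrix.vecMul_one]
  have hU_i : ∀ i, rU i = k 0 * rX i + k 1 * rY i + k 2 * rZ i := by
    intro i
    rw [← hkM]
    simp [Matrix.vecMul, dotProduct, Fin.sum_univ_three, hM]
  have hk2 : IsUnit (k 2) := by
    have : Matrix.det (Matrix.of ![rX, rY, rU]) = k 2 * Matrix.det M := by
      rw [Matrix.det_fin_three, Matrix.det_fin_three]
      simp only [hM, Matrix.of_apply, Matrix.cons_val_zero, Matrix.cons_val_one, Matrix.cons_val]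
      rw [hU_i 0, hU_i 1, hU_i 2]; ring
    rw [this] at hD1; exact isUnit_of_mul_isUnit_left hD1
  have hk1 : IsUnit (k 1) := by
    have : Matrix.det (Matrix.of ![rX, rZ, rU]) = -(k 1 * Matrix.det M) := by
      rw [Matrix.det_fin_three, Matrix.det_fin_three]
      simp only [hM, Matrix.of_apply, Matrix.cons_val_zero, Matrix.cons_val_one, Matrix.cons_val]
      rw [hU_i 0, hU_i 1, hU_i 2]; ring
    rw [this] at hD2; exact isUnit_of_mul_isUnit_left ((IsUnit.neg_iff _).mp hD2)
  have hk0 : IsUnit (k 0) := by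
    have : Matrix.det (Matrix.of ![rY, rZ, rU]) = k 0 * Matrix.det M := by
      rw [Matrix.det_fin_three, Matrix.det_fin_three]
      simp only [hM, Matrix.of_apply, Matrix.cons_val_zero, Matrix.cons_val_one, Matrix.cons_val]
      rw [hU_i 0, hU_i 1, hU_i 2]; ring
    rw [this] at hD3; exact isUnit_of_mul_isUnit_left hD3
  have hku : ∀ i, IsUnit (k i) := by
    intro i; fin_cases i
    · exact hk0
    · exact hk1
    · exact hk2
  set kinv : Fin 3 → A := fun i => (((hku i).unit⁻¹ : Aˣ) : A) with hkinv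
  have hkk : ∀ i, k i * kinv i = 1 := fun i => (hku i).mul_val_inv
  have hkk' : ∀ i, kinv i * k i = 1 := fun i => (hku i).val_inv_mul
  have hkinvu : ∀ i, IsUnit (kinv i) := fun i => Units.isUnit _
  set N : Matrix (Fin 3) (Fin 3) A := M⁻¹ * Matrix.diagonal kinv with hN
  set N' : Matrix (Fin 3) (Fin 3) A := Matrix.diagonal k * M with hN'
  have hDD : Matrix.diagonal kinv * Matrix.diagonal k = (1 : Matrix (Fin 3) (Fin 3) A) := by
    rw [Matrix.diagonal_mul_diagonal, ← Matrix.diagonal_one]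
    congr 1; ext i; exact hkk' i
  have hDD' : Matrix.diagonal k * Matrix.diagonal kinv = (1 : Matrix (Fin 3) (Fin 3) A) := by
    rw [Matrix.diagonal_mul_diagonal, ← Matrix.diagonal_one]
    congr 1; ext i; exact hkk i
  have hNN' : N * N' = 1 := by
    rw [hN, hN', Matrix.mul_assoc, ← Matrix.mul_assoc (Matrix.diagonal kinv), hDD, Matrix.one_mul,
      hMM']
  have hN'N : N' * N = 1 := by
    rw [hN, hN', Matrix.mul_assoc, ← Matrix.mul_assoc M, hMM, Matrix.one_mul, hDD']
  set ρ' : (Fin 3 → ZMod p) → (Fin 3 → A) := fun v => Matrix.vecMul (ρ v) N with hρ'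
  have F1 : ∀ v, Matrix.vecMul (ρ' v) N' = ρ v := by
    intro v
    rw [hρ']; simp only
    rw [Matrix.vecMul_vecMul, hNN', Matrix.vecMul_one]
  have pt : ∀ v : Fin 3 → ZMod p, v ≠ 0 → IsUnit (ρ' v 0) ∨ IsUnit (ρ' v 1) ∨ IsUnit (ρ' v 2) := by
    intro v hv
    obtain ⟨i, hi⟩ := hpt v hv
    rw [← F1 v] at hi
    obtain ⟨j, hj⟩ := unit_vecMul N' (ρ' v) ⟨i, hi⟩
    fin_cases j
    · exact Or.inl hj
    · exact Or.inr (Or.inl hj)
    · exact Or.inr (Or.inr hj)
  have col : ∀ a b c : Fin 3 → ZMod p, a ≠ 0 → b ≠ 0 → c ≠ 0 →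
      Matrix.det (Matrix.of ![a, b, c]) = 0 →
      ∃ n0 n1 n2 : A, (IsUnit n0 ∨ IsUnit n1 ∨ IsUnit n2) ∧
        ρ' a 0 * n0 + ρ' a 1 * n1 + ρ' a 2 * n2 = 0 ∧
        ρ' b 0 * n0 + ρ' b 1 * n1 + ρ' b 2 * n2 = 0 ∧
        ρ' c 0 * n0 + ρ' c 1 * n1 + ρ' c 2 * n2 = 0 := by
    intro a b c ha hb hc hdet
    obtain ⟨n, hn, e1, e2, e3⟩ := hcol a b c ha hb hc hdet
    set n' : Fin 3 → A := Matrix.mulVec N' n with hn'
    have hnn : Matrix.mulVec N n' = n := by
      rw [hn', Matrix.mulVec_mulVec, hNN', Matrix.one_mulVec]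
    have hdot : ∀ v, dotProduct (ρ' v) n' = dotProduct (ρ v) n := by
      intro v
      rw [hn', Matrix.dotProduct_mulVec, F1]
    have hexp : ∀ v, dotProduct (ρ' v) n' = ρ' v 0 * n' 0 + ρ' v 1 * n' 1 + ρ' v 2 * n' 2 := by
      intro v; simp [dotProduct, Fin.sum_univ_three]
    refine ⟨n' 0, n' 1, n' 2, ?_, ?_, ?_, ?_⟩
    · rw [← hnn] at hn
      obtain ⟨j, hj⟩ := unit_mulVec N n' hn
      fin_cases j
      · exact Or.inl hj
      · exact Or.inr (Or.inl hj)
      · exact Or.inr (Or.inr hj)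
    · rw [← hexp, hdot, e1]
    · rw [← hexp, hdot, e2]
    · rw [← hexp, hdot, e3]
  have eX : (![1, 0, 0] : Fin 3 → ZMod p) = Pi.single 0 1 := by
    ext i; fin_cases i <;> simp
  have eY : (![0, 1, 0] : Fin 3 → ZMod p) = Pi.single 1 1 := by
    ext i; fin_cases i <;> simp
  have eZ : (![0, 0, 1] : Fin 3 → ZMod p) = Pi.single 2 1 := by
    ext i; fin_cases i <;> simp
  have eU : (![1, 1, 1] : Fin 3 → ZMod p) = fun _ => 1 := by
    ext i; fin_cases i <;> simp
  have rowX : Matrix.vecMul rX M⁻¹ = Pi.single 0 1 := by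
    have : rX = Matrix.vecMul (Pi.single 0 1) M := by
      rw [Matrix.single_one_vecMul]; ext j; simp [hM, Matrix.row]
    rw [this, Matrix.vecMul_vecMul, hMM, Matrix.vecMul_one]
  have rowY : Matrix.vecMul rY M⁻¹ = Pi.single 1 1 := by
    have : rY = Matrix.vecMul (Pi.single 1 1) M := by
      rw [Matrix.single_one_vecMul]; ext j; simp [hM, Matrix.row]
    rw [this, Matrix.vecMul_vecMul, hMM, Matrix.vecMul_one]
  have rowZ : Matrix.vecMul rZ M⁻¹ = Pi.single 2 1 := by
    have : rZ = Matrix.vecMul (Pi.single 2 1) M := by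
      rw [Matrix.single_one_vecMul]; ext j; simp [hM, Matrix.row]
    rw [this, Matrix.vecMul_vecMul, hMM, Matrix.vecMul_one]
  have fX : ρ' (Pi.single 0 1) = Pi.single 0 (kinv 0) := by
    show Matrix.vecMul rX N = _
    rw [hN, ← Matrix.vecMul_vecMul, rowX, Matrix.single_vecMul_diagonal, one_mul]
  have fY : ρ' (Pi.single 1 1) = Pi.single 1 (kinv 1) := by
    show Matrix.vecMul rY N = _
    rw [hN, ← Matrix.vecMul_vecMul, rowY, Matrix.single_vecMul_diagonal, one_mul]
  have fZ : ρ' (Pi.single 2 1) = Pi.single 2 (kinv 2) := by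
    show Matrix.vecMul rZ N = _
    rw [hN, ← Matrix.vecMul_vecMul, rowZ, Matrix.single_vecMul_diagonal, one_mul]
  have fU : ∀ i, ρ' (fun _ => 1) i = 1 := by
    intro i
    show Matrix.vecMul rU N i = _
    rw [hN, ← Matrix.vecMul_vecMul, ← hk, Matrix.vecMul_diagonal, hkk]
  refine core p A ρ' pt col (kinv 0) (kinv 1) (kinv 2) 1 (hkinvu 0) (hkinvu 1) (hkinvu 2)
    isUnit_one ?_ ?_ ?_ ?_
  · rw [eX, fX]; simp
  · rw [eY, fY]; simp
  · rw [eZ, fZ]; simp
  · rw [eU]; exact ⟨fU 0, fU 1, fU 2⟩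
end


/-- Let A be a local ring and ρ a map from the points of the projective plane over F_p to the points of
the projective plane over A (vectors with a unit coordinate, up to units) taking collinear triples
to collinear triples (three points are collinear when a vector with a unit coordinate is orthogonal
to all three). If ρ sends the standard frame (1:0:0), (0:1:0), (0:0:1), (1:1:1) to four points in
general position, then p = 0 in A. (The published statement asks only that ρ preserve collinearity;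
a constant map does so over any ring, and the published argument begins by moving the images of the
standard frame to the standard frame, which needs them in general position — that condition is made
a hypothesis here.) -/
theorem result
    (p : ℕ) [Fact p.Prime] (A : Type u) [CommRing A] [IsLocalRing A]
    (ρ : (Fin 3 → ZMod p) → (Fin 3 → A))
    (hpt : ∀ v : Fin 3 → ZMod p, v ≠ 0 → ∃ i, IsUnit (ρ v i))
    (hcol : ∀ u v w : Fin 3 → ZMod p, u ≠ 0 → v ≠ 0 → w ≠ 0 →
      Matrix.det (Matrix.of ![u, v, w]) = 0 →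
      ∃ n : Fin 3 → A, (∃ i, IsUnit (n i)) ∧
        dotProduct (ρ u) n = 0 ∧ dotProduct (ρ v) n = 0 ∧ dotProduct (ρ w) n = 0)
    (hgen : IsUnit (Matrix.det (Matrix.of ![ρ (Pi.single 0 1), ρ (Pi.single 1 1), ρ (Pi.single 2 1)])) ∧
      IsUnit (Matrix.det (Matrix.of ![ρ (Pi.single 0 1), ρ (Pi.single 1 1), ρ (fun _ => 1)])) ∧
      IsUnit (Matrix.det (Matrix.of ![ρ (Pi.single 0 1), ρ (Pi.single 2 1), ρ (fun _ => 1)])) ∧
      IsUnit (Matrix.det (Matrix.of ![ρ (Pi.single 1 1), ρ (Pi.single 2 1), ρ (fun _ => 1)]))) :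
    (p : A) = 0 := by
  exact main p A ρ hpt hcol hgen

end Groth.Agent.S13149
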