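import Groth.Statements.S13150
import Mathlib
import Groth.Agent.Lib.Helper22.W2Ghost

set_option autoImplicit false
universe u
open FrobAlg

namespace Groth.Agent.S13150

/-- Let k be a perfect field of characteristic p and (B, ι, π) a flat lifting over W₂(k) of a Noetherian
k-algebra A. The Frobenius of A lifts to B (a σ₂-semilinear ring endomorphism of B reducing to the
p-th power map) if and only if there is a ring homomorphism θ : B → W₂(A) over A (the zeroth Witt
component of θ(b) is π(b)) with θ ∘ ι equal to the map W₂(k) → W₂(A) induced by k → A. (The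
published statement is for a flat W₂(k)-extension of the structure sheaf of a scheme and says: the
push-out of that extension along the Frobenius O_X → F_*O_X is isomorphic, as an extension by F_*O_X
over W₂(k), to W₂(O_X); by the universal property of the push-out this is the existence of a
morphism of extensions to W₂(O_X), which in the affine case taken here is the map θ.) -/
theorem result
    (p : ℕ) [Fact p.Prime] (k : Type u) [Field k] [CharP k p] [PerfectRing k p]
    (A B : Type u) [CommRing A] [Algebra k A] [IsNoetherianRing A] [CommRing B]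
    (ι : FrobAlg.W2 p k →+* B) (π : B →+* A) (hB : FrobAlg.IsLift p k A B ι π) :
    (∃ Φ : B →+* B, FrobAlg.IsFrobLift p k A B ι π Φ) ↔
      ∃ θ : B →+* FrobAlg.W2 p A,
        (FrobAlg.res p A).comp θ = π ∧ θ.comp ι = WittGrp.truncMap p 2 (algebraMap k A) := by
  classical
  have hπι : ∀ z : FrobAlg.W2 p k, π (ι z) = algebraMap k A (z.coeff 0) := by
    intro z
    have := RingHom.congr_fun hB.comm z
    rw [RingHom.comp_apply, RingHom.comp_apply, FrobAlg.res_apply] at this
    exact this
  constructor
  · rintro ⟨Φ, hΦ⟩
    -- the p-derivation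
    have hd : ∀ b : B, ∃ y : B, Φ b = b ^ p + (p : B) * y := by
      intro b
      have h0 : π (Φ b - b ^ p) = 0 := by rw [map_sub, hΦ.red, map_pow, sub_self]
      obtain ⟨y, hy⟩ := Groth.Agent.Lib.helper22.W2Lift.exists_of_pi_eq_zero hB h0
      exact ⟨y, by rw [← hy]; ring⟩
    choose d hdd using hd
    let θf : B → FrobAlg.W2 p A := fun b =>
      TruncatedWittVector.mk p (fun i : Fin 2 => if i = 0 then π b else π (d b))
    have hθ0 : ∀ b, (θf b).coeff 0 = π b := fun b => by
      simp [θf, TruncatedWittVector.coeff_mk]
    have hθ1 : ∀ b, (θf b).coeff 1 = π (d b) := fun b => by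
      simp [θf, TruncatedWittVector.coeff_mk]
    have hw : ∀ b, Groth.Agent.Lib.helper22.W2Ghost.w1 hB (θf b) = Φ b := by
      intro b
      rw [Groth.Agent.Lib.helper22.W2Ghost.w1_eq hB (θf b) b (d b) (hθ0 b).symm (hθ1 b).symm, hdd]
    have c0add : ∀ x y : FrobAlg.W2 p A, (x + y).coeff 0 = x.coeff 0 + y.coeff 0 := by
      intro x y
      rw [← FrobAlg.res_apply, ← FrobAlg.res_apply, ← FrobAlg.res_apply, map_add]
    have c0mul : ∀ x y : FrobAlg.W2 p A, (x * y).coeff 0 = x.coeff 0 * y.coeff 0 := by
      intro x y
      rw [← FrobAlg.res_apply, ← FrobAlg.res_apply, ← FrobAlg.res_apply, map_mul]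
    have c0one : (1 : FrobAlg.W2 p A).coeff 0 = 1 := by
      rw [← FrobAlg.res_apply, map_one]
    have c0zero : (0 : FrobAlg.W2 p A).coeff 0 = 0 := by
      rw [← FrobAlg.res_apply, map_zero]
    let θ : B →+* FrobAlg.W2 p A :=
      { toFun := θf
        map_one' := by
          apply Groth.Agent.Lib.helper22.W2Ghost.eq_of_res_of_w1 hB
          · rw [hθ0, c0one, map_one]
          · rw [hw, map_one, map_one]
        map_mul' := by
          intro x y
          apply Groth.Agent.Lib.helper22.W2Ghost.eq_of_res_of_w1 hB
          · rw [hθ0, c0mul, hθ0, hθ0, map_mul]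
          · rw [hw, map_mul, map_mul, hw, hw]
        map_zero' := by
          apply Groth.Agent.Lib.helper22.W2Ghost.eq_of_res_of_w1 hB
          · rw [hθ0, c0zero, map_zero]
          · rw [hw, map_zero, map_zero]
        map_add' := by
          intro x y
          apply Groth.Agent.Lib.helper22.W2Ghost.eq_of_res_of_w1 hB
          · rw [hθ0, c0add, hθ0, hθ0, map_add]
          · rw [hw, map_add, map_add, hw, hw] }
    have hθ : ∀ b, θ b = θf b := fun b => rfl
    refine ⟨θ, ?_, ?_⟩
    · apply RingHom.ext
      intro b
      rw [RingHom.comp_apply, FrobAlg.res_apply, hθ, hθ0]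
    · apply RingHom.ext
      intro w
      rw [RingHom.comp_apply, hθ]
      apply Groth.Agent.Lib.helper22.W2Ghost.eq_of_res_of_w1 hB
      · rw [hθ0, hπι, WittGrp.coeff_truncMap]
      · rw [hw, Groth.Agent.Lib.helper22.W2Ghost.w1_truncMap]
        exact RingHom.congr_fun hΦ.semi w
  · rintro ⟨θ, hθr, hθι⟩
    have hθr' : ∀ b, (θ b).coeff 0 = π b := by
      intro b
      have := RingHom.congr_fun hθr b
      rw [RingHom.comp_apply, FrobAlg.res_apply] at this
      exact this
    refine ⟨(Groth.Agent.Lib.helper22.W2Ghost.w1 hB).comp θ,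
      { toIsLift := hB, semi := ?_, red := ?_ }⟩
    · apply RingHom.ext
      intro w
      rw [RingHom.comp_apply, RingHom.comp_apply, RingHom.comp_apply]
      have := RingHom.congr_fun hθι w
      rw [RingHom.comp_apply] at this
      rw [this, Groth.Agent.Lib.helper22.W2Ghost.w1_truncMap]
    · intro b
      rw [RingHom.comp_apply, Groth.Agent.Lib.helper22.W2Ghost.pi_w1, hθr']

end Groth.Agent.S13150
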