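import Groth.Statements.S13151
import Mathlib
-- import your own Groth.Agent.* helpers here

set_option autoImplicit false
universe u
open CAlg

namespace Groth.Agent.S13151

open Polynomial in
lemma comap_eq {A B : Type u} [CommRing A] [CommRing B]
    [IsDomain A] [IsDomain B] [IsIntegrallyClosed A] [Algebra A B] [Algebra.IsIntegral A B]
    (hinj : Function.Injective (algebraMap A B)) (π : A) :
    (Ideal.span {algebraMap A B π}).comap (algebraMap A B) = Ideal.span {π} := by
  apply le_antisymm
  · intro a ha
    rw [Ideal.mem_comap, Ideal.mem_span_singleton'] at ha
    obtain ⟨b, hb⟩ := ha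
    by_cases hπ : π = 0
    · subst hπ
      rw [map_zero, mul_zero] at hb
      have : a = 0 := hinj (by rw [← hb, map_zero])
      rw [this]; exact Ideal.zero_mem _
    obtain ⟨p, hpm, hp⟩ := Algebra.IsIntegral.isIntegral (R := A) b
    have h1 : eval₂ (algebraMap A B) (algebraMap A B π * b) (scaleRoots p π) = 0 :=
      scaleRoots_eval₂_eq_zero _ hp
    rw [mul_comm, hb, Polynomial.eval₂_at_apply] at h1
    have h2 : eval a (scaleRoots p π) = 0 := hinj (by rw [h1, map_zero])
    let K := FractionRing A
    have hπK : algebraMap A K π ≠ 0 := by
      simpa using (IsFractionRing.injective A K).ne hπ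
    set y : K := algebraMap A K a / algebraMap A K π with hy
    have hya : algebraMap A K π * y = algebraMap A K a := by
      rw [hy, mul_div_cancel₀ _ hπK]
    have h3 : eval₂ (algebraMap A K) (algebraMap A K π * y) (scaleRoots p π) =
        algebraMap A K π ^ p.natDegree * eval₂ (algebraMap A K) y p := scaleRoots_eval₂_mul _ _ _
    rw [hya, Polynomial.eval₂_at_apply, h2, map_zero] at h3
    have h4 : eval₂ (algebraMap A K) y p = 0 := by
      rcases mul_eq_zero.1 h3.symm with h | h
      · exact absurd (eq_zero_of_pow_eq_zero h) hπK
      · exact h
    have hint : IsIntegral A y := ⟨p, hpm, h4⟩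
    obtain ⟨z, hz⟩ := IsIntegrallyClosed.isIntegral_iff.1 hint
    rw [Ideal.mem_span_singleton']
    refine ⟨z, ?_⟩
    apply IsFractionRing.injective A K
    rw [map_mul, hz, mul_comm, hya]
  · rw [Ideal.span_le, Set.singleton_subset_iff]
    exact Ideal.subset_span rfl

/-- Let A → B be an injective ring homomorphism of integral domains which is integral, with A integrally
closed, and let π be an element of A. Then the contraction to A of the ideal πB is πA, i.e. an
element of A which is a multiple of π in B is already a multiple of π in A; in particular if B/πB is
an integral domain then A/πA is an integral domain. (The published statement is for an integral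
dominant morphism of integral schemes flat over a discrete valuation ring, with normal target and π
a uniformizer; flatness and the valuation ring play no role, so π is an arbitrary element here.) -/
theorem result {A B : Type u} [CommRing A] [CommRing B]
    [IsDomain A] [IsDomain B] [IsIntegrallyClosed A] [Algebra A B] [Algebra.IsIntegral A B]
    (hinj : Function.Injective (algebraMap A B)) (π : A) :
    (Ideal.span {algebraMap A B π}).comap (algebraMap A B) = Ideal.span {π} ∧
      (IsDomain (B ⧸ Ideal.span {algebraMap A B π}) → IsDomain (A ⧸ Ideal.span {π})) := by
  refine ⟨comap_eq hinj π, fun hB => ?_⟩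
  have hle : Ideal.span {π} ≤ (Ideal.span {algebraMap A B π}).comap (algebraMap A B) :=
    (comap_eq hinj π).ge
  have hinj' : Function.Injective
      (Ideal.quotientMap (Ideal.span {algebraMap A B π}) (algebraMap A B) hle) :=
    Ideal.quotientMap_injective' (comap_eq hinj π).le
  exact Function.Injective.isDomain _ hinj'

end Groth.Agent.S13151
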