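import Groth.Statements.S13153
import Groth.Agent.Lib.Helper26.KaehlerField

set_option autoImplicit false
universe u
open CAlg

namespace Groth.Agent.S13153

/-- In characteristic zero, an element of a field extension with vanishing differential is
algebraic. -/
theorem isAlgebraic_of_D_eq_zero {K L : Type u} [Field K] [Field L] [Algebra K L] [CharZero K]
    (g : L) (hg : KaehlerDifferential.D K L g = 0) : IsAlgebraic K g := by
  by_contra htr
  have hind : AlgebraicIndepOn K id ({g} : Set L) := by
    have h1 : AlgebraicIndependent K (fun _ : Unit => g) := by
      rw [algebraicIndependent_unique_type_iff]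
      exact htr
    have h2 := h1.to_subtype_range
    have hrange : Set.range (fun _ : Unit => g) = {g} := by
      ext z; simp [eq_comm]
    rw [hrange] at h2
    exact h2
  obtain ⟨t, hst, ht⟩ := exists_isTranscendenceBasis_superset hind
  have halg : Algebra.IsAlgebraic (IntermediateField.adjoin K (Set.range ((↑) : t → L))) L :=
    ht.isAlgebraic_field
  have hchar : CharZero (IntermediateField.adjoin K (Set.range ((↑) : t → L))) :=
    charZero_of_injective_algebraMap
      (algebraMap K (IntermediateField.adjoin K (Set.range ((↑) : t → L)))).injective
  have hsep : Algebra.IsSeparable (IntermediateField.adjoin K (Set.range ((↑) : t → L))) L :=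
    Algebra.IsAlgebraic.isSeparable_of_perfectField
  obtain ⟨b, hb⟩ := Groth.Agent.Lib.helper26.exists_basis_D (k := K) (F := L)
    ((↑) : t → L) ht.1
  have hgt : g ∈ t := hst (Set.mem_singleton g)
  have := b.ne_zero ⟨g, hgt⟩
  rw [hb] at this
  exact this hg

/-- Let R be a discrete valuation ring whose fraction field K has characteristic zero, A an integral
domain which is a faithfully flat R-algebra, with fraction field L, such that K is algebraically
closed in L (every element of L algebraic over K is in the image of K). If f ∈ A has vanishing
differential, df = 0 in Ω_{A/R}, then f is the image of an element of R. (The published statement is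
the sheaf form: for a faithfully flat morphism X → Spec R with geometrically integral generic fibre,
the kernel of d : O_X → Ω¹_{X/R} is the inverse image of O_{Spec R}; for integral X, geometric
integrality of the generic fibre in characteristic zero amounts to K being algebraically closed in
the function field, which is the form used here, and this row is the case of global sections over an
affine X = Spec A.) -/
theorem result (R : Type u) [CommRing R] [IsDomain R]
    [IsDiscreteValuationRing R] [CharZero R] (K : Type u) [Field K] [Algebra R K] [IsFractionRing R K]
    (A : Type u) [CommRing A] [IsDomain A] [Algebra R A] [Module.FaithfullyFlat R A]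
    (L : Type u) [Field L] [Algebra A L] [IsFractionRing A L] [Algebra R L] [Algebra K L]
    [IsScalarTower R A L] [IsScalarTower R K L]
    (hac : ∀ x : L, IsAlgebraic K x → x ∈ (algebraMap K L).range)
    (f : A) (hf : KaehlerDifferential.D R A f = 0) : f ∈ (algebraMap R A).range := by
  have hRK : Function.Injective (algebraMap R K) := IsFractionRing.injective R K
  have hAL : Function.Injective (algebraMap A L) := IsFractionRing.injective A L
  have hRA : Function.Injective (algebraMap R A) :=
    FaithfulSMul.algebraMap_injective R A
  have hK0 : CharZero K := charZero_of_injective_algebraMap hRK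
  -- the differential of `f` vanishes in `Ω[L⁄K]`
  have hD : KaehlerDifferential.D K L (algebraMap A L f) = 0 := by
    rw [← KaehlerDifferential.map_D R K A L, hf, map_zero]
  have halg := isAlgebraic_of_D_eq_zero (algebraMap A L f) hD
  obtain ⟨c, hc⟩ := hac _ halg
  obtain ⟨r, s, hs, rfl⟩ := IsFractionRing.div_surjective (A := R) c
  have hs0 : s ≠ 0 := nonZeroDivisors.ne_zero hs
  have hsK : algebraMap R K s ≠ 0 := fun h => hs0 (hRK (h.trans (map_zero _).symm))
  -- `s * f = r` in `A`
  have hsf : algebraMap R A s * f = algebraMap R A r := by
    apply hAL
    rw [map_mul, ← hc, ← IsScalarTower.algebraMap_apply R A L, ← IsScalarTower.algebraMap_apply R A L,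
      IsScalarTower.algebraMap_apply R K L s, IsScalarTower.algebraMap_apply R K L r, ← map_mul,
      mul_div_cancel₀ _ hsK]
  -- hence `r ∈ sA ∩ R = sR`
  have hr : r ∈ ((Ideal.span {s}).map (algebraMap R A)).comap (algebraMap R A) := by
    rw [Ideal.mem_comap, Ideal.map_span, Set.image_singleton, Ideal.mem_span_singleton]
    exact ⟨f, hsf.symm⟩
  rw [Ideal.comap_map_eq_self_of_faithfullyFlat, Ideal.mem_span_singleton] at hr
  obtain ⟨t, rfl⟩ := hr
  refine ⟨t, ?_⟩
  have hsA : algebraMap R A s ≠ 0 := fun h => hs0 (hRA (h.trans (map_zero _).symm))
  rw [map_mul] at hsf
  exact (mul_left_cancel₀ hsA hsf).symm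

end Groth.Agent.S13153
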