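import Groth.Statements.S13154
import Mathlib

set_option autoImplicit false
universe u
open scoped TensorProduct
open CAlg

namespace Groth.Agent.S13154

theorem exists_smul_eq (R : Type u) [CommRing R] [IsDomain R] (K : Type u) [Field K] [Algebra R K]
    [IsFractionRing R K] (B : Type u) [CommRing B] [Algebra R B] (x : K ⊗[R] B) :
    ∃ s : R, s ≠ 0 ∧ ∃ y : B, s • x = (1 : K) ⊗ₜ[R] y := by
  induction x using TensorProduct.induction_on with
  | zero => exact ⟨1, one_ne_zero, 0, by simp⟩
  | tmul k b =>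
    obtain ⟨⟨r, s⟩, hrs⟩ := IsLocalization.surj (nonZeroDivisors R) k
    refine ⟨s, nonZeroDivisors.ne_zero s.2, r • b, ?_⟩
    rw [TensorProduct.smul_tmul', TensorProduct.tmul_smul, TensorProduct.smul_tmul']
    congr 1
    simp only at hrs
    rw [Algebra.smul_def, Algebra.smul_def, mul_one, mul_comm, hrs]
  | add x y hx hy =>
    obtain ⟨s, hs, a, ha⟩ := hx
    obtain ⟨t, ht, b, hb⟩ := hy
    refine ⟨s * t, mul_ne_zero hs ht, t • a + s • b, ?_⟩
    rw [smul_add, TensorProduct.tmul_add, TensorProduct.tmul_smul, TensorProduct.tmul_smul,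
      ← ha, ← hb, smul_smul, smul_smul, mul_comm t s]

theorem smul_quot_eq_zero (R : Type u) [CommRing R] (A B : Type u) [CommRing A] [Algebra R A]
    [AddCommGroup B] [Module R B] (s : R)
    (w : A ⊗[R] (B ⧸ LinearMap.range (LinearMap.lsmul R B s))) : s • w = 0 := by
  induction w using TensorProduct.induction_on with
  | zero => simp
  | tmul a q =>
    obtain ⟨b, rfl⟩ := Submodule.Quotient.mk_surjective _ q
    rw [← TensorProduct.tmul_smul, ← Submodule.Quotient.mk_smul]
    have : Submodule.Quotient.mk (p := LinearMap.range (LinearMap.lsmul R B s)) (s • b) = 0 := by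
      rw [Submodule.Quotient.mk_eq_zero]
      exact ⟨b, rfl⟩
    rw [this, TensorProduct.tmul_zero]
  | add x y hx hy => rw [smul_add, hx, hy, add_zero]

theorem mem_of_tmul_eq (R : Type u) [CommRing R] (A B : Type u) [CommRing A] [Algebra R A]
    [Module.FaithfullyFlat R A]
    [AddCommGroup B] [Module R B] (s : R) (z : A ⊗[R] B) (y : B) (h : s • z = (1 : A) ⊗ₜ[R] y) :
    ∃ y' : B, y = s • y' := by
  set N := LinearMap.range (LinearMap.lsmul R B s) with hN
  have h1 : LinearMap.lTensor A N.mkQ (s • z) = 0 := by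
    rw [map_smul]; exact smul_quot_eq_zero R A B s _
  rw [h, LinearMap.lTensor_tmul] at h1
  have h2 : N.mkQ y = 0 := by
    apply Module.FaithfullyFlat.tensorProduct_mk_injective (A := R) (B := A)
    simpa using h1
  rw [Submodule.mkQ_apply, Submodule.Quotient.mk_eq_zero] at h2
  obtain ⟨y', hy'⟩ := h2
  exact ⟨y', hy'.symm⟩


/-- Let R be a discrete valuation ring with fraction field K, A a faithfully flat R-algebra (an affine
faithfully flat base change S' → S = Spec R) and B₁, B₂ flat R-algebras (two affine S-schemes X₁ =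
Spec B₁, X₂ = Spec B₂, flat over S). Suppose given a K-algebra homomorphism φ_K : K ⊗ B₂ → K ⊗ B₁ (a
morphism of the generic fibres X₁,K → X₂,K) and an A-algebra homomorphism φ_A : A ⊗ B₂ → A ⊗ B₁ (a
morphism X₁ ×_S S' → X₂ ×_S S' over S') which coincide after base change to K ⊗ A, in the sense that
for every b ∈ B₂ the images of φ_K(1 ⊗ b) and φ_A(1 ⊗ b) in (K ⊗ A) ⊗ B₁ agree. Then there is
exactly one R-algebra homomorphism φ : B₂ → B₁ (a morphism X₁ → X₂) whose base changes to K and to A
are φ_K and φ_A. (The published statement assumes only X₂ flat over S; flatness of X₁ is also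
needed: with B₂ = R[t], B₁ = R[e]/(e², πe) for a uniformizer π and A = R[x], the maps t ↦ 0 over K
and t ↦ e x over A agree over K ⊗ A = K[x] but come from no map over R.) -/
theorem result (R : Type u) [CommRing R] [IsDomain R]
    [IsDiscreteValuationRing R] (K : Type u) [Field K] [Algebra R K] [IsFractionRing R K]
    (A : Type u) [CommRing A] [Algebra R A] [Module.FaithfullyFlat R A]
    (B₁ B₂ : Type u) [CommRing B₁] [CommRing B₂] [Algebra R B₁] [Algebra R B₂]
    [Module.Flat R B₁] [Module.Flat R B₂]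
    (φK : K ⊗[R] B₂ →ₐ[K] K ⊗[R] B₁) (φA : A ⊗[R] B₂ →ₐ[A] A ⊗[R] B₁)
    (hcomp : ∀ b : B₂,
      Algebra.TensorProduct.map (Algebra.TensorProduct.includeLeft : K →ₐ[R] K ⊗[R] A) (AlgHom.id R B₁)
          (φK (1 ⊗ₜ b)) =
        Algebra.TensorProduct.map (Algebra.TensorProduct.includeRight : A →ₐ[R] K ⊗[R] A) (AlgHom.id R B₁)
          (φA (1 ⊗ₜ b))) :
    ∃! φ : B₂ →ₐ[R] B₁, (∀ b : B₂, φK (1 ⊗ₜ b) = 1 ⊗ₜ φ b) ∧ (∀ b : B₂, φA (1 ⊗ₜ b) = 1 ⊗ₜ φ b) := by
  classical
  have hRK : Function.Injective (algebraMap R K) := IsFractionRing.injective R K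
  -- injectivity of B₁ → K ⊗ B₁
  have hιK : Function.Injective (fun y : B₁ => (1 : K) ⊗ₜ[R] y) := by
    have := Algebra.TensorProduct.includeRight_injective (R := R) (A := K) (B := B₁) hRK
    intro a b hab
    exact this (by simpa using hab)
  -- injectivity of A ⊗ B₁ → (K ⊗ A) ⊗ B₁
  have hinjA : Function.Injective (Algebra.TensorProduct.map
      (Algebra.TensorProduct.includeRight : A →ₐ[R] K ⊗[R] A) (AlgHom.id R B₁)) := by
    have h1 : Function.Injective
        ((Algebra.TensorProduct.includeRight : A →ₐ[R] K ⊗[R] A).toLinearMap) :=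
      Algebra.TensorProduct.includeRight_injective hRK
    have h2 := Module.Flat.rTensor_preserves_injective_linearMap (M := B₁) _ h1
    have h3 : ∀ w, LinearMap.rTensor B₁
        ((Algebra.TensorProduct.includeRight : A →ₐ[R] K ⊗[R] A).toLinearMap) w =
        Algebra.TensorProduct.map
          (Algebra.TensorProduct.includeRight : A →ₐ[R] K ⊗[R] A) (AlgHom.id R B₁) w := by
      intro w
      induction w using TensorProduct.induction_on with
      | zero => simp
      | tmul a b => simp
      | add x y hx hy => rw [map_add, map_add, hx, hy]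
    intro a b hab
    apply h2
    rw [h3, h3, hab]
  -- key: φK (1 ⊗ b) comes from B₁
  have key : ∀ b : B₂, ∃ y' : B₁, φK (1 ⊗ₜ b) = 1 ⊗ₜ y' := by
    intro b
    obtain ⟨s, hs, y, hy⟩ := exists_smul_eq R K B₁ (φK (1 ⊗ₜ b))
    have h1 : s • (φA (1 ⊗ₜ b)) = (1 : A) ⊗ₜ[R] y := by
      apply hinjA
      rw [map_smul, ← hcomp b, ← map_smul, hy]
      simp
    obtain ⟨y', rfl⟩ := mem_of_tmul_eq R A B₁ s _ y h1
    refine ⟨y', ?_⟩
    rw [TensorProduct.tmul_smul] at hy
    have hsK : algebraMap R K s ≠ 0 := fun h0 => hs (hRK (by rw [h0, map_zero]))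
    have := congrArg (fun w => (algebraMap R K s)⁻¹ • w) hy
    beta_reduce at this
    rwa [← algebraMap_smul K s, ← algebraMap_smul K s (1 ⊗ₜ[R] y'), smul_smul, smul_smul,
      inv_mul_cancel₀ hsK, one_smul, one_smul] at this
  choose f hf using key
  have hfA : ∀ b : B₂, φA (1 ⊗ₜ b) = 1 ⊗ₜ f b := by
    intro b
    apply hinjA
    rw [← hcomp b, hf b]
    simp
  let φ : B₂ →ₐ[R] B₁ :=
    { toFun := f
      map_one' := hιK (by
        simp only
        rw [← hf, ← Algebra.TensorProduct.one_def, map_one, Algebra.TensorProduct.one_def])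
      map_mul' := fun a b => hιK (by
        simp only
        rw [← hf, ← one_mul (1 : K), ← Algebra.TensorProduct.tmul_mul_tmul, map_mul, hf, hf,
          Algebra.TensorProduct.tmul_mul_tmul])
      map_zero' := hιK (by
        simp only
        rw [← hf, TensorProduct.tmul_zero, map_zero, TensorProduct.tmul_zero])
      map_add' := fun a b => hιK (by
        simp only
        rw [← hf, TensorProduct.tmul_add, map_add, hf, hf, TensorProduct.tmul_add])
      commutes' := fun r => hιK (by
        simp only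
        rw [← hf, Algebra.algebraMap_eq_smul_one, Algebra.algebraMap_eq_smul_one,
          TensorProduct.tmul_smul, TensorProduct.tmul_smul, ← algebraMap_smul K r,
          map_smul, algebraMap_smul, ← Algebra.TensorProduct.one_def, map_one,
          Algebra.TensorProduct.one_def]) }
  refine ⟨φ, ⟨fun b => hf b, fun b => hfA b⟩, ?_⟩
  rintro ψ ⟨hψK, -⟩
  ext b
  apply hιK
  show (1 : K) ⊗ₜ[R] ψ b = 1 ⊗ₜ f b
  rw [← hψK, hf]

end Groth.Agent.S13154
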