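import Groth.Statements.S13155
import Mathlib

set_option autoImplicit false
universe u
open CAlg

namespace Groth.Agent.S13155

open Polynomial

theorem key {A S : Type*} [CommRing A] [CommRing S] [Algebra A S] (π : A)
    (hπu : IsUnit (algebraMap A S π)) (m q r' : ℕ) (hr : r' + 1 < m)
    (w : A) (hw : IsUnit w) (root : S)
    (hroot : root ^ m = algebraMap A S (π ^ (m * q + (r' + 1)) * w))
    (hsp : (Ideal.span {algebraMap A (integralClosure A S) π}).IsPrime) : False := by
  have hm : 0 < m := by omega
  obtain ⟨πinv, hinv⟩ := hπu.exists_right_inv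
  obtain ⟨winv, hwinv⟩ := hw.exists_right_inv
  obtain ⟨W, hW⟩ : ∃ W : S, W = root * πinv ^ q := ⟨_, rfl⟩
  have hWm : W ^ m = algebraMap A S (π ^ (r' + 1) * w) := by
    calc W ^ m = root ^ m * (πinv ^ q) ^ m := by rw [hW, mul_pow]
      _ = algebraMap A S (π ^ (m * q + (r' + 1)) * w) * (πinv ^ q) ^ m := by rw [hroot]
      _ = (algebraMap A S π * πinv) ^ (m * q) *
            (algebraMap A S π ^ (r' + 1) * algebraMap A S w) := by
          rw [map_mul, map_pow, pow_add, mul_pow, ← pow_mul, mul_comm q m]; ring
      _ = algebraMap A S (π ^ (r' + 1) * w) := by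
          rw [hinv, one_pow, one_mul, map_mul, map_pow]
  have hWint : IsIntegral A W := IsIntegral.of_pow hm (hWm ▸ isIntegral_algebraMap)
  obtain ⟨Wb, hWb⟩ : ∃ Wb : integralClosure A S, (Wb : S) = W := ⟨⟨W, hWint⟩, rfl⟩
  have hWbm : Wb ^ m = algebraMap A (integralClosure A S) π *
      algebraMap A (integralClosure A S) (π ^ r' * w) := by
    apply Subtype.ext
    rw [SubmonoidClass.coe_pow, hWb, hWm, ← map_mul]
    show algebraMap A S (π ^ (r' + 1) * w) = algebraMap A S (π * (π ^ r' * w))
    rw [pow_succ]
    ring_nf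
  have hmem : Wb ∈ Ideal.span {algebraMap A (integralClosure A S) π} :=
    hsp.mem_of_pow_mem m (by
      rw [hWbm]; exact Ideal.mul_mem_right _ _ (Ideal.mem_span_singleton_self _))
  obtain ⟨b, hb⟩ := Ideal.mem_span_singleton'.mp hmem
  have hbS : (b : S) * algebraMap A S π = W := by
    have h1 := congrArg Subtype.val hb
    rw [hWb] at h1
    exact h1
  obtain ⟨d', hd'⟩ : ∃ d', m = d' + 1 + (r' + 1) := ⟨m - (r' + 1) - 1, by omega⟩
  have hπr : IsUnit (algebraMap A S π ^ (r' + 1)) := hπu.pow _
  have h2 : algebraMap A S π ^ (r' + 1) * ((b : S) ^ m * algebraMap A S π ^ (d' + 1)) =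
      algebraMap A S π ^ (r' + 1) * algebraMap A S w := by
    have h3 : ((b : S) * algebraMap A S π) ^ m = algebraMap A S π ^ (r' + 1) * algebraMap A S w := by
      rw [hbS, hWm, map_mul, map_pow]
    rw [← h3, mul_pow]
    conv_rhs => rw [hd', pow_add]
    rw [hd']
    ring
  have h4 : (b : S) ^ m * algebraMap A S π ^ (d' + 1) = algebraMap A S w := hπr.mul_left_cancel h2
  have h5 : algebraMap A (integralClosure A S) π *
      (algebraMap A (integralClosure A S) π ^ d' * b ^ m * algebraMap A (integralClosure A S) winv)
      = 1 := by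
    apply Subtype.ext
    show algebraMap A S π * (algebraMap A S π ^ d' * (b : S) ^ m * algebraMap A S winv) = 1
    have h6 : algebraMap A S π * (algebraMap A S π ^ d' * (b : S) ^ m * algebraMap A S winv) =
        ((b : S) ^ m * algebraMap A S π ^ (d' + 1)) * algebraMap A S winv := by ring
    rw [h6, h4, ← map_mul, hwinv, map_one]
  exact hsp.ne_top (Ideal.span_singleton_eq_top.mpr (IsUnit.of_mul_eq_one _ h5))

theorem main {A : Type u} [CommRing A] [IsDomain A] (π : A) (hπ0 : π ≠ 0)
    (hprime : (Ideal.span {π}).IsPrime)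
    (m : ℕ) (hm : 0 < m) (f : A) (hf : IsUnit (algebraMap A (Localization.Away π) f))
    (hsp : (Ideal.span {algebraMap A (integralClosure A
        (AdjoinRoot (Polynomial.X ^ m - Polynomial.C (algebraMap A (Localization.Away π) f))))
          π}).IsPrime) :
    ∃ (q : ℕ) (u : Aˣ), f = π ^ (m * q) * (u : A) := by
  have hP : Prime π := (Ideal.span_singleton_prime hπ0).mp hprime
  obtain ⟨g', hg'⟩ := hf.exists_right_inv
  obtain ⟨⟨a, s⟩, has⟩ := IsLocalization.surj (Submonoid.powers π) g'
  dsimp only at has
  obtain ⟨n, hn⟩ := s.2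
  have hfa : f * a = π ^ n := by
    apply IsLocalization.injective (Localization.Away π)
      (powers_le_nonZeroDivisors_of_noZeroDivisors hπ0)
    rw [map_mul, ← has, ← mul_assoc, hg', one_mul, ← hn]
  obtain ⟨i, _, hi⟩ := (dvd_prime_pow hP n).mp ⟨a, hfa.symm⟩
  obtain ⟨u, hu⟩ := hi
  have hfu : f = π ^ i * ((u⁻¹ : Aˣ) : A) := by
    rw [← hu, mul_assoc, Units.mul_inv, mul_one]
  obtain ⟨q, r, hr, hiqr⟩ : ∃ q r, r < m ∧ i = m * q + r :=
    ⟨i / m, i % m, Nat.mod_lt _ hm, (Nat.div_add_mod i m).symm⟩
  suffices hr0 : r = 0 by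
    refine ⟨q, u⁻¹, ?_⟩
    rw [hfu, hiqr, hr0, add_zero]
  by_contra hrne
  obtain ⟨r', rfl⟩ : ∃ r', r = r' + 1 := ⟨r - 1, by omega⟩
  have hπu : IsUnit (algebraMap A (AdjoinRoot (Polynomial.X ^ m -
      Polynomial.C (algebraMap A (Localization.Away π) f))) π) := by
    rw [IsScalarTower.algebraMap_apply A (Localization.Away π)]
    exact (IsLocalization.Away.algebraMap_isUnit (S := Localization.Away π) π).map
      (algebraMap (Localization.Away π) (AdjoinRoot (Polynomial.X ^ m -
        Polynomial.C (algebraMap A (Localization.Away π) f))))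
  have hroot : (AdjoinRoot.root (Polynomial.X ^ m -
      Polynomial.C (algebraMap A (Localization.Away π) f))) ^ m =
      algebraMap A _ (π ^ (m * q + (r' + 1)) * ((u⁻¹ : Aˣ) : A)) := by
    have h1 := AdjoinRoot.eval₂_root (Polynomial.X ^ m -
      Polynomial.C (algebraMap A (Localization.Away π) f))
    rw [Polynomial.eval₂_sub, Polynomial.eval₂_pow, Polynomial.eval₂_X, Polynomial.eval₂_C,
      sub_eq_zero] at h1
    rw [h1, ← hiqr, ← hfu, IsScalarTower.algebraMap_apply A (Localization.Away π)]
    rfl
  exact key π hπu m q r' hr _ (Units.isUnit _) _ hroot hsp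



/-- Let R be a discrete valuation ring of characteristic zero with uniformizer π, and A a Noetherian
integrally closed domain which is an R-algebra with injective structure map and in which πA is a
prime ideal (X = Spec A is normal, flat over R, with integral special fibre). Let m ≥ 1 and let f ∈
A be invertible in A[1/π] (so Z^m = f defines a μ_m-torsor over the generic fibre), such that S =
A[1/π][Z]/(Z^m − f) is an integral domain and, writing B for the integral closure of A in S (the
normalization of X in that cover), πB is a prime ideal of B (the normalization has integral special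
fibre). Then f is, up to a unit of A, an m-th power of a power of π: f = π^{mq}·u with q ≥ 0 and u ∈
A^×, so that the cover extends to the μ_m-torsor Z^m = u over all of X. (The published statement is
the existence and uniqueness of the extending μ_m-torsor over a normal faithfully flat R-scheme with
integral fibres, R containing a primitive m-th root of unity; this row is the affine computation
that carries the proof.) -/
theorem result (R : Type u) [CommRing R]
    [IsDomain R] [IsDiscreteValuationRing R] [CharZero R] (ϖ : R) (hϖ : Irreducible ϖ)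
    (A : Type u) [CommRing A] [IsDomain A] [IsNoetherianRing A] [IsIntegrallyClosed A] [Algebra R A]
    (hinj : Function.Injective (algebraMap R A)) (hprime : (Ideal.span {algebraMap R A ϖ}).IsPrime)
    (m : ℕ) (hm : 0 < m) (f : A) (hf : IsUnit (algebraMap A (Localization.Away (algebraMap R A ϖ)) f))
    [IsDomain (AdjoinRoot (Polynomial.X ^ m - Polynomial.C (algebraMap A (Localization.Away (algebraMap R A ϖ)) f)))]
    (hsp : (Ideal.span {algebraMap A (integralClosure A
        (AdjoinRoot (Polynomial.X ^ m - Polynomial.C (algebraMap A (Localization.Away (algebraMap R A ϖ)) f))))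
          (algebraMap R A ϖ)}).IsPrime) :
    ∃ (q : ℕ) (u : Aˣ), f = algebraMap R A ϖ ^ (m * q) * (u : A) := by
  have hπ0 : algebraMap R A ϖ ≠ 0 := by
    intro h
    apply hϖ.ne_zero
    apply hinj
    rw [h, map_zero]
  exact main (algebraMap R A ϖ) hπ0 hprime m hm f hf hsp


end Groth.Agent.S13155
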