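import Groth.Statements.S13156
import Mathlib

set_option autoImplicit false
universe u
open scoped Polynomial
open CAlg

namespace Groth.Agent.S13156

open Polynomial

theorem REC {Rg : Type*} [CommRing Rg] (p : ℕ)
    (hu : IsUnit ((Nat.factorial (p - 1) : ℕ) : Rg)) (α β : Rg) (q : Rg[X])
    (hdeg : ∀ n, p ≤ n → q.coeff n = 0)
    (hq : (1 + C β * X) * derivative q = C α * q) (h0 : q.coeff 0 = 0) : q = 0 := by
  have hrec : ∀ n : ℕ, ((n : Rg) + 1) * q.coeff (n + 1) = (α - (n : Rg) * β) * q.coeff n := by
    intro n
    have h1 := congrArg (fun r => Polynomial.coeff r n) hq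
    rw [add_mul, one_mul, Polynomial.coeff_add, mul_assoc, Polynomial.coeff_C_mul,
      Polynomial.coeff_C_mul, Polynomial.coeff_derivative] at h1
    cases n with
    | zero =>
      rw [Polynomial.coeff_X_mul_zero] at h1
      simp only [Nat.cast_zero] at h1 ⊢
      linear_combination h1
    | succ k =>
      rw [Polynomial.coeff_X_mul, Polynomial.coeff_derivative] at h1
      push_cast at h1 ⊢
      linear_combination h1
  have hunit : ∀ n : ℕ, n + 1 < p → IsUnit ((n : Rg) + 1) := by
    intro n hn
    have hdvd : (n + 1) ∣ Nat.factorial (p - 1) := Nat.dvd_factorial (Nat.succ_pos n) (by omega)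
    obtain ⟨m, hm⟩ := hdvd
    rw [hm, Nat.cast_mul] at hu
    have := isUnit_of_mul_isUnit_left hu
    rwa [Nat.cast_add, Nat.cast_one] at this
  have hall : ∀ n, q.coeff n = 0 := by
    intro n
    induction n with
    | zero => exact h0
    | succ n ih =>
      by_cases hn : n + 1 < p
      · have h1 := hrec n
        rw [ih, mul_zero] at h1
        exact ((hunit n hn).mul_right_eq_zero).mp h1
      · exact hdeg _ (by omega)
  ext n
  rw [hall n, Polynomial.coeff_zero]

theorem FE_iff (A : Type u) [CommRing A] (p : ℕ)
    (hu : IsUnit ((Nat.factorial (p - 1) : ℕ) : A)) (μ : A) (F : A[X]) (hF : F.natDegree < p) :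
    (aeval (C X : A[X][X]) F * aeval (X : A[X][X]) F - C (C (F.coeff 0 ^ 2)) =
        aeval (C X + X + C (C μ) * C X * X : A[X][X]) F - C (C (F.coeff 0))) ↔
      F * C (F.coeff 1) = derivative F * (1 + C μ * X) := by
  obtain ⟨Fg, hFg⟩ : ∃ Fg : A[X][X], Fg = F.map (C : A →+* A[X]) := ⟨_, rfl⟩
  obtain ⟨U, hU⟩ : ∃ U : A[X][X], U = C X + X + C (C μ) * C X * X := ⟨_, rfl⟩
  have hU' : U = C X + C (1 + C μ * X) * X := by
    rw [hU, map_add, map_one, map_mul]; ring
  have f1 : aeval (C X : A[X][X]) F = C F := by
    have := Polynomial.aeval_algHom_apply (Polynomial.CAlgHom (R := A) (A := A[X])) X F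
    rw [Polynomial.aeval_X_left_apply] at this
    exact this
  have f2 : aeval (X : A[X][X]) F = Fg := by
    rw [hFg]; rfl
  have f3 : aeval U F = Fg.comp U := by
    rw [hFg, Polynomial.comp, Polynomial.eval₂_map]; rfl
  have hcoeffFg : ∀ n, Fg.coeff n = C (F.coeff n) := fun n => by rw [hFg, Polynomial.coeff_map]
  have hevalFg : Fg.eval (X : A[X]) = F := by
    rw [hFg, Polynomial.eval_map, Polynomial.eval₂_C_X]
  have hevalU : U.eval 0 = (X : A[X]) := by
    rw [hU', eval_add, eval_C, eval_mul, eval_X, mul_zero, add_zero]
  have hdU : derivative U = C (1 + C μ * X) := by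
    rw [hU', derivative_add, derivative_C, zero_add, derivative_C_mul, derivative_X, mul_one]
  have hdFg : derivative Fg = (derivative F).map (C : A →+* A[X]) := by
    rw [hFg, derivative_map]
  rw [← hU, f1, f2, f3]
  constructor
  · intro hFE
    have h1 := congrArg (fun r => (derivative r).eval 0) hFE
    rw [derivative_sub, derivative_C, sub_zero, derivative_sub, derivative_C, sub_zero,
      derivative_mul, derivative_C, zero_mul, zero_add, derivative_comp, hdU, eval_mul, eval_mul,
      eval_C, eval_C, eval_comp, hevalU, hdFg, eval_map, eval_map, eval₂_C_X] at h1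
    rw [← Polynomial.eval_map, ← Polynomial.coeff_zero_eq_eval_zero, Polynomial.coeff_map,
      Polynomial.coeff_derivative, Nat.cast_zero, zero_add, zero_add, mul_one] at h1
    rw [h1, mul_comm]
  · intro hODE
    have h10 : F.coeff 0 * F.coeff 1 = F.coeff 1 := by
      have h1 := congrArg (fun r => Polynomial.coeff r 0) hODE
      simp only [Polynomial.coeff_mul_C, Polynomial.mul_coeff_zero, Polynomial.coeff_derivative,
        Polynomial.coeff_add, Polynomial.coeff_one_zero, Polynomial.coeff_C_mul,
        Polynomial.coeff_X_zero, mul_zero, add_zero, mul_one, Nat.cast_zero, zero_add,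
        Polynomial.coeff_C_zero] at h1
      exact h1
    have hq0 : (C (F.coeff 0) - 1) * (F - C (F.coeff 0)) = 0 := by
      apply REC p hu 0 μ
      · intro n hn
        have h1 : (C (F.coeff 0) - 1 : A[X]) = C (F.coeff 0 - 1) := by rw [map_sub, map_one]
        rw [h1, Polynomial.coeff_C_mul, Polynomial.coeff_sub, Polynomial.coeff_C,
          if_neg (by omega), sub_zero,
          Polynomial.coeff_eq_zero_of_natDegree_lt (by omega : F.natDegree < n), mul_zero]
      · have hd : derivative ((C (F.coeff 0) - 1) * (F - C (F.coeff 0))) =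
            (C (F.coeff 0) - 1) * derivative F := by
          rw [derivative_mul, derivative_sub, derivative_C, derivative_one, sub_zero, zero_mul,
            zero_add, derivative_sub, derivative_C, sub_zero]
        rw [hd, map_zero, zero_mul]
        have h1 : (1 + C μ * X) * ((C (F.coeff 0) - 1) * derivative F) =
            (C (F.coeff 0) - 1) * (derivative F * (1 + C μ * X)) := by ring
        rw [h1, ← hODE]
        have h2 : (C (F.coeff 0) - 1) * (F * C (F.coeff 1)) =
            F * C (F.coeff 0 * F.coeff 1 - F.coeff 1) := by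
          rw [map_sub, map_mul]; ring
        rw [h2, h10, sub_self, map_zero, mul_zero]
      · have h1 : (F - C (F.coeff 0)).coeff 0 = 0 := by
          rw [Polynomial.coeff_sub, Polynomial.coeff_C_zero, sub_self]
        rw [Polynomial.mul_coeff_zero, h1, mul_zero]
    have hODE_T : Fg * C (C (F.coeff 1)) = derivative Fg * (1 + C (C μ) * X) := by
      have h1 := congrArg (Polynomial.map (C : A →+* A[X])) hODE
      rw [Polynomial.map_mul, Polynomial.map_C, Polynomial.map_mul, Polynomial.map_add,
        Polynomial.map_one, Polynomial.map_mul, Polynomial.map_C, Polynomial.map_X, ← hFg,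
        ← hdFg] at h1
      exact h1
    have hODE_U : Fg.comp U * C (C (F.coeff 1)) =
        (derivative Fg).comp U * (1 + C (C μ) * U) := by
      have h1 := congrArg (fun r => r.comp U) hODE_T
      rw [Polynomial.mul_comp, Polynomial.C_comp, Polynomial.mul_comp, Polynomial.add_comp,
        Polynomial.one_comp, Polynomial.mul_comp, Polynomial.C_comp, Polynomial.X_comp] at h1
      exact h1
    have hfac : (1 + C (C μ) * U : A[X][X]) = C (1 + C μ * X) * (1 + C (C μ) * X) := by
      rw [hU', map_add, map_one, map_mul]; ring
    rw [hfac] at hODE_U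
    have hc : (C (C (F.coeff 1)) : A[X][X]) * (C (C (F.coeff 0)) - C (C (F.coeff 0 ^ 2))) = 0 := by
      rw [← map_sub, ← map_sub, ← map_mul, ← map_mul]
      have h1 : F.coeff 1 * (F.coeff 0 - F.coeff 0 ^ 2) = 0 := by
        have h2 : F.coeff 1 * (F.coeff 0 - F.coeff 0 ^ 2) =
            F.coeff 0 * F.coeff 1 - F.coeff 0 * (F.coeff 0 * F.coeff 1) := by ring
        rw [h2, h10, h10, sub_self]
      rw [h1, map_zero, map_zero]
    have huX : IsUnit ((Nat.factorial (p - 1) : ℕ) : A[X]) := by
      have := hu.map (C : A →+* A[X])
      rwa [map_natCast] at this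
    have hK : (C F * Fg - C (C (F.coeff 0 ^ 2))) - (Fg.comp U - C (C (F.coeff 0))) = 0 := by
      apply REC p huX (C (F.coeff 1)) (C μ)
      · intro n hn
        have hn0 : n ≠ 0 := by omega
        have hFn : F.coeff n = 0 := Polynomial.coeff_eq_zero_of_natDegree_lt (by omega)
        have hcomp : (Fg.comp U).coeff n = 0 := by
          apply Polynomial.coeff_eq_zero_of_natDegree_lt
          have h1 : (Fg.comp U).natDegree ≤ Fg.natDegree * U.natDegree :=
            Polynomial.natDegree_comp_le
          have h2 : Fg.natDegree ≤ F.natDegree := by rw [hFg]; exact Polynomial.natDegree_map_le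
          have h3 : U.natDegree ≤ 1 := by
            rw [hU']
            refine le_trans (Polynomial.natDegree_add_le _ _) (max_le ?_ ?_)
            · rw [Polynomial.natDegree_C]; exact Nat.zero_le _
            · exact le_trans (Polynomial.natDegree_C_mul_le _ _) Polynomial.natDegree_X_le
          calc (Fg.comp U).natDegree ≤ Fg.natDegree * U.natDegree := h1
            _ ≤ F.natDegree * 1 := Nat.mul_le_mul h2 h3
            _ < n := by omega
        rw [Polynomial.coeff_sub, Polynomial.coeff_sub, Polynomial.coeff_sub,
          Polynomial.coeff_C_mul, hcoeffFg, hFn, map_zero, mul_zero, Polynomial.coeff_C,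
          if_neg hn0, Polynomial.coeff_C, if_neg hn0, hcomp]
        ring
      · rw [derivative_sub, derivative_sub, derivative_C, sub_zero, derivative_sub, derivative_C,
          sub_zero, derivative_mul, derivative_C, zero_mul, zero_add, derivative_comp, hdU]
        linear_combination (-(C F : A[X][X])) * hODE_T + hODE_U - hc
      · rw [Polynomial.coeff_zero_eq_eval_zero, eval_sub, eval_sub, eval_sub, eval_mul, eval_C,
          eval_C, eval_C, eval_comp, hevalU, hevalFg, ← Polynomial.coeff_zero_eq_eval_zero,
          hcoeffFg, map_pow]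
        linear_combination hq0
    exact sub_eq_zero.mp hK



/-- Let p be a prime number, A a commutative ring in which (p−1)! is invertible, μ an element of A, and
F ∈ A[X] a polynomial of degree at most p − 1 with coefficients a_0, a_1, …. Then the identity
F(S)·F(T) − a_0² = F(S + T + μST) − a_0 holds in the polynomial ring A[S, T] if and only if a_1·F(S)
= F′(S)·(1 + μS) holds in A[S], F′ the formal derivative. (The published statement is over the
quotient of a discrete valuation ring of residue characteristic p by a nonzero element of its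
maximal ideal; only the invertibility of 1, …, p − 1 is used, so an arbitrary such ring A is allowed
here.) -/
theorem result (A : Type u) [CommRing A] (p : ℕ) [Fact p.Prime]
    (hu : IsUnit ((Nat.factorial (p - 1) : ℕ) : A)) (μ : A) (F : A[X]) (hF : F.natDegree < p) :
    (Polynomial.aeval (MvPolynomial.X 0 : MvPolynomial (Fin 2) A) F *
          Polynomial.aeval (MvPolynomial.X 1 : MvPolynomial (Fin 2) A) F - MvPolynomial.C (F.coeff 0 ^ 2) =
        Polynomial.aeval (MvPolynomial.X 0 + MvPolynomial.X 1 +
            MvPolynomial.C μ * MvPolynomial.X 0 * MvPolynomial.X 1 : MvPolynomial (Fin 2) A) F -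
          MvPolynomial.C (F.coeff 0)) ↔
      F * Polynomial.C (F.coeff 1) = Polynomial.derivative F * (1 + Polynomial.C μ * Polynomial.X) := by
  rw [← FE_iff A p hu μ F hF]
  constructor
  · intro h
    let Θ : MvPolynomial (Fin 2) A →ₐ[A] A[X][X] :=
      MvPolynomial.aeval (fun i : Fin 2 => if i = 0 then (Polynomial.C Polynomial.X : A[X][X])
        else Polynomial.X)
    have hΘ0 : Θ (MvPolynomial.X 0) = Polynomial.C Polynomial.X := by
      show MvPolynomial.aeval _ (MvPolynomial.X 0) = _
      rw [MvPolynomial.aeval_X]; rfl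
    have hΘ1 : Θ (MvPolynomial.X 1) = Polynomial.X := by
      show MvPolynomial.aeval _ (MvPolynomial.X 1) = _
      rw [MvPolynomial.aeval_X]; rfl
    have hΘC : ∀ a : A, Θ (MvPolynomial.C a) = Polynomial.C (Polynomial.C a) := by
      intro a
      show MvPolynomial.aeval _ (MvPolynomial.C a) = _
      rw [MvPolynomial.aeval_C]; rfl
    have h1 := congrArg Θ h
    rw [map_sub, map_mul, ← Polynomial.aeval_algHom_apply, ← Polynomial.aeval_algHom_apply,
      map_sub, ← Polynomial.aeval_algHom_apply, map_add, map_add, map_mul, map_mul, hΘ0, hΘ1,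
      hΘC, hΘC, hΘC] at h1
    exact h1
  · intro h
    let Ω : A[X][X] →ₐ[A] MvPolynomial (Fin 2) A :=
      Polynomial.aevalTower (Polynomial.aeval (MvPolynomial.X 0)) (MvPolynomial.X 1)
    have hΩX : Ω Polynomial.X = MvPolynomial.X 1 := Polynomial.aevalTower_X _ _
    have hΩCX : Ω (Polynomial.C Polynomial.X) = MvPolynomial.X 0 := by
      show Polynomial.aevalTower _ _ _ = _
      rw [Polynomial.aevalTower_C, Polynomial.aeval_X]
    have hΩCC : ∀ a : A, Ω (Polynomial.C (Polynomial.C a)) = MvPolynomial.C a := by
      intro a
      show Polynomial.aevalTower _ _ _ = _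
      rw [Polynomial.aevalTower_C, Polynomial.aeval_C]; rfl
    have h1 := congrArg Ω h
    rw [map_sub, map_mul, ← Polynomial.aeval_algHom_apply, ← Polynomial.aeval_algHom_apply,
      map_sub, ← Polynomial.aeval_algHom_apply, map_add, map_add, map_mul, map_mul, hΩX, hΩCX,
      hΩCC, hΩCC, hΩCC] at h1
    exact h1


end Groth.Agent.S13156
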