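import Groth.Statements.S13157
import Mathlib
-- import your own Groth.Agent.* helpers here

set_option autoImplicit false
universe u
open scoped Polynomial
open CAlg

namespace Groth.Agent.S13157

/-- (i) ⇔ (ii): let p be a prime number, A a commutative ring in which (p−1)! is invertible, μ ∈ A, and
F ∈ A[X] a polynomial of degree at most p − 1 with constant term a_0 = 1 and coefficients a_1, a_2,
…. Then the relations a_{r−1}·a_1 = (r − 1)μ·a_{r−1} + r·a_r for 1 ≤ r ≤ p (with a_p = 0), written
here as the single identity a_1·F = F′·(1 + μX), hold if and only if r!·a_r = ∏_{k=0}^{r−1} (a_1 −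
kμ) for every 1 ≤ r ≤ p − 1 and ∏_{k=0}^{p−1} (a_1 − kμ) = 0. (The published statement lists the
relations only for 1 ≤ r ≤ p − 1, while its proof uses and derives the relation for r = p as well,
which is needed for the vanishing of the last product; it is included here. The published setting is
the quotient of a discrete valuation ring of residue characteristic p by a nonzero non-unit; only
the invertibility of 1, …, p − 1 is used.) -/
theorem result (A : Type u) [CommRing A] (p : ℕ) [Fact p.Prime]
    (hu : IsUnit ((Nat.factorial (p - 1) : ℕ) : A)) (μ : A) (F : A[X]) (hF : F.natDegree < p)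
    (h0 : F.coeff 0 = 1) :
    F * Polynomial.C (F.coeff 1) = Polynomial.derivative F * (1 + Polynomial.C μ * Polynomial.X) ↔
      ((∀ r : ℕ, 1 ≤ r → r < p →
          (r.factorial : A) * F.coeff r = ∏ k ∈ Finset.range r, (F.coeff 1 - (k : A) * μ)) ∧
        ∏ k ∈ Finset.range p, (F.coeff 1 - (k : A) * μ) = 0) := by
  have hp := (Fact.out : p.Prime)
  have hp2 : 2 ≤ p := hp.two_le
  have hcoef : ∀ n, (Polynomial.derivative F * (1 + Polynomial.C μ * Polynomial.X)).coeff n =
      F.coeff (n + 1) * ((n : A) + 1) + F.coeff n * (n : A) * μ := by
    intro n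
    have e : Polynomial.derivative F * (1 + Polynomial.C μ * Polynomial.X) =
        Polynomial.derivative F + (Polynomial.derivative F * Polynomial.C μ) * Polynomial.X := by ring
    rw [e, Polynomial.coeff_add, Polynomial.coeff_derivative]
    cases n with
    | zero => simp
    | succ m =>
      rw [Polynomial.coeff_mul_X, Polynomial.coeff_mul_C, Polynomial.coeff_derivative]
      push_cast
      ring
  have hiff : F * Polynomial.C (F.coeff 1) = Polynomial.derivative F * (1 + Polynomial.C μ * Polynomial.X) ↔
      ∀ n, F.coeff (n + 1) * ((n : A) + 1) = F.coeff n * (F.coeff 1 - (n : A) * μ) := by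
    rw [Polynomial.ext_iff]
    refine forall_congr' (fun n => ?_)
    rw [hcoef, Polynomial.coeff_mul_C]
    constructor
    · intro h; linear_combination -h
    · intro h; linear_combination -h
  rw [hiff]
  have hzero : ∀ n, p ≤ n → F.coeff n = 0 := fun n hn =>
    Polynomial.coeff_eq_zero_of_natDegree_lt (lt_of_lt_of_le hF hn)
  have hfact : ∀ r : ℕ, ((r + 1).factorial : A) = ((r : A) + 1) * (r.factorial : A) := by
    intro r
    rw [Nat.factorial_succ]; push_cast; ring
  constructor
  · intro hE
    have hQ : ∀ r : ℕ, (r.factorial : A) * F.coeff r = ∏ k ∈ Finset.range r, (F.coeff 1 - (k : A) * μ) := by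
      intro r
      induction r with
      | zero => simp [h0]
      | succ r ih =>
        rw [Finset.prod_range_succ, ← ih, hfact]
        linear_combination (r.factorial : A) * hE r
    refine ⟨fun r _ _ => hQ r, ?_⟩
    rw [← hQ p, hzero p le_rfl, mul_zero]
  · rintro ⟨hQ, hprod⟩
    have hQ' : ∀ r : ℕ, r < p → (r.factorial : A) * F.coeff r = ∏ k ∈ Finset.range r, (F.coeff 1 - (k : A) * μ) := by
      intro r hr
      rcases Nat.eq_zero_or_pos r with rfl | hpos
      · simp [h0]
      · exact hQ r hpos hr
    have hunit : ∀ r : ℕ, r < p → IsUnit ((r.factorial : ℕ) : A) := by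
      intro r hr
      obtain ⟨c, hc⟩ := Nat.factorial_dvd_factorial (show r ≤ p - 1 by omega)
      rw [hc, Nat.cast_mul] at hu
      exact isUnit_of_mul_isUnit_left hu
    intro n
    rcases lt_trichotomy (n + 1) p with hlt | heq | hgt
    · -- both below p
      have h1 := hQ' n (by omega)
      have h2 := hQ' (n + 1) hlt
      rw [Finset.prod_range_succ, ← h1, hfact] at h2
      have h3 : (n.factorial : A) * (F.coeff (n + 1) * ((n : A) + 1)) =
          (n.factorial : A) * (F.coeff n * (F.coeff 1 - (n : A) * μ)) := by
        linear_combination h2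
      exact (hunit n (by omega)).mul_left_cancel h3
    · have h1 := hQ' n (by omega)
      rw [← heq, Finset.prod_range_succ, ← h1] at hprod
      rw [hzero (n + 1) (by omega), zero_mul]
      have h3 : (n.factorial : A) * (F.coeff n * (F.coeff 1 - (n : A) * μ)) = (n.factorial : A) * 0 := by
        rw [mul_zero, ← hprod]; ring
      exact ((hunit n (by omega)).mul_left_cancel h3).symm
    · rw [hzero n (by omega), hzero (n + 1) (by omega)]; ring

end Groth.Agent.S13157
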