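import Groth.Statements.S13158
import Mathlib


set_option autoImplicit false
universe u
open CAlg

namespace Groth.Agent.S13158

set_option linter.style.haveILetI false

/-- one step up -/
theorem stepUp {A : Type u} [CommRing A] (p : ℕ) (hp : p.Prime) (l x : A)
    (hl : l ^ (p - 1) ∣ (p : A)) (h : l ∣ x - 1) : l ^ p ∣ x ^ p - 1 := by
  obtain ⟨y, hy⟩ := h
  obtain ⟨c, hc⟩ := hl
  obtain ⟨r, hr⟩ := exists_add_pow_prime_eq hp (1 : A) (l * y)
  have hx : x = 1 + l * y := by rw [← hy]; ring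
  have hpp : l ^ p = l ^ (p - 1) * l := by
    rw [← pow_succ, Nat.sub_add_cancel hp.one_le]
  refine ⟨y ^ p + c * y * r, ?_⟩
  rw [hx, hr, hc]
  linear_combination (-(c * y * r)) * hpp

/-- one step down, in a normal domain -/
theorem stepDown {A : Type u} [CommRing A] [IsDomain A] [IsIntegrallyClosed A] (p : ℕ)
    (hp : p.Prime) (l x : A) (hl0 : l ≠ 0)
    (hl : l ^ (p - 1) ∣ (p : A)) (h : l ^ p ∣ x ^ p - 1) : l ∣ x - 1 := by
  obtain ⟨b, hb⟩ := h
  obtain ⟨c, hc⟩ := hl
  obtain ⟨r, hr⟩ := exists_add_pow_prime_eq hp (1 : A) (x - 1)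
  have hpp : l ^ p = l ^ (p - 1) * l := by
    rw [← pow_succ, Nat.sub_add_cancel hp.one_le]
  -- the key identity in A
  have hkey : (x - 1) ^ p + l ^ (p - 1) * c * (x - 1) * r = l ^ p * b := by
    rw [← hb, ← hc]
    have h1 : (1 + (x - 1)) ^ p = x ^ p := by ring_nf
    rw [h1] at hr
    rw [hr]
    ring
  let K := FractionRing A
  have hinj : Function.Injective (algebraMap A K) := IsFractionRing.injective A K
  have hlK : algebraMap A K l ≠ 0 := fun h0 => hl0 (hinj (by rw [h0, map_zero]))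
  let y : K := algebraMap A K (x - 1) / algebraMap A K l
  have hyl : y * algebraMap A K l = algebraMap A K (x - 1) := div_mul_cancel₀ _ hlK
  have hint : IsIntegral A y := by
    refine ⟨Polynomial.X ^ p + (Polynomial.C (c * r) * Polynomial.X - Polynomial.C b), ?_, ?_⟩
    · apply Polynomial.monic_X_pow_add
      refine lt_of_le_of_lt (Polynomial.degree_sub_le _ _) ?_
      refine max_lt ?_ ?_
      · refine lt_of_le_of_lt (Polynomial.degree_C_mul_X_le _) ?_
        exact_mod_cast hp.one_lt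
      · refine lt_of_le_of_lt Polynomial.degree_C_le ?_
        exact_mod_cast hp.pos
    · rw [Polynomial.eval₂_add, Polynomial.eval₂_sub, Polynomial.eval₂_mul, Polynomial.eval₂_pow,
        Polynomial.eval₂_X, Polynomial.eval₂_C, Polynomial.eval₂_C]
      have h2 := congrArg (algebraMap A K) hkey
      simp only [map_add, map_mul, map_pow] at h2
      rw [← hyl] at h2
      have hlp : algebraMap A K l ^ p ≠ 0 := pow_ne_zero _ hlK
      apply mul_left_cancel₀ hlp
      rw [mul_zero]
      have hpp' : algebraMap A K l ^ p = algebraMap A K l ^ (p - 1) * algebraMap A K l := by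
        rw [← pow_succ, Nat.sub_add_cancel hp.one_le]
      rw [map_mul]
      linear_combination h2 + (algebraMap A K c * algebraMap A K r * y) * hpp'
  obtain ⟨a, ha⟩ := IsIntegrallyClosed.isIntegral_iff.mp hint
  refine ⟨a, ?_⟩
  apply hinj
  rw [map_mul, ha, mul_comm, hyl]

theorem upAll {A : Type u} [CommRing A] (p : ℕ) (hp : p.Prime) :
    ∀ (m : ℕ) (l x : A), l ^ (p ^ m * (p - 1)) ∣ (p : A) → l ∣ x - 1 →
      l ^ (p ^ (m + 1)) ∣ x ^ (p ^ (m + 1)) - 1 := by
  intro m
  induction m with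
  | zero =>
    intro l x hl h
    rw [pow_zero, one_mul] at hl
    rw [zero_add, pow_one]
    exact stepUp p hp l x hl h
  | succ m ih =>
    intro l x hl h
    have hl1 : l ^ (p - 1) ∣ (p : A) := by
      refine dvd_trans (pow_dvd_pow l ?_) hl
      exact Nat.le_mul_of_pos_left _ (pow_pos hp.pos _)
    have h1 := stepUp p hp l x hl1 h
    have hl2 : (l ^ p) ^ (p ^ m * (p - 1)) ∣ (p : A) := by
      rw [← pow_mul]
      have h3 : p * (p ^ m * (p - 1)) = p ^ (m + 1) * (p - 1) := by rw [pow_succ]; ring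
      rwa [h3]
    have h2 := ih (l ^ p) (x ^ p) hl2 h1
    rw [← pow_mul, ← pow_mul] at h2
    have h3 : p * p ^ (m + 1) = p ^ (m + 1 + 1) := by rw [pow_succ _ (m + 1)]; ring
    rwa [h3] at h2

theorem downAll {A : Type u} [CommRing A] [IsDomain A] [IsIntegrallyClosed A] (p : ℕ)
    (hp : p.Prime) :
    ∀ (m : ℕ) (l x : A), l ≠ 0 → l ^ (p ^ m * (p - 1)) ∣ (p : A) →
      l ^ (p ^ (m + 1)) ∣ x ^ (p ^ (m + 1)) - 1 → l ∣ x - 1 := by
  intro m
  induction m with
  | zero =>
    intro l x hl0 hl h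
    rw [pow_zero, one_mul] at hl
    rw [zero_add, pow_one] at h
    exact stepDown p hp l x hl0 hl h
  | succ m ih =>
    intro l x hl0 hl h
    have hmu : (l ^ (p ^ (m + 1))) ^ (p - 1) ∣ (p : A) := by rwa [← pow_mul]
    have hz : (l ^ (p ^ (m + 1))) ^ p ∣ (x ^ (p ^ (m + 1))) ^ p - 1 := by
      rw [← pow_mul, ← pow_mul, ← pow_succ]; exact h
    have h1 := stepDown p hp _ _ (pow_ne_zero _ hl0) hmu hz
    have hl' : l ^ (p ^ m * (p - 1)) ∣ (p : A) := by
      refine dvd_trans (pow_dvd_pow l ?_) hl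
      exact Nat.mul_le_mul_right _ (Nat.pow_le_pow_right hp.pos (Nat.le_succ m))
    exact ih l x hl0 hl' h1

theorem main (R : Type u) [CommRing R]
    [IsDomain R] [IsDiscreteValuationRing R] [CharZero R] (p n : ℕ) [Fact p.Prime] (hn : 1 ≤ n)
    (hp : (p : R) ∈ IsLocalRing.maximalIdeal R) (lam : R) (hlam : lam ≠ 0)
    (hstar : lam ^ (p ^ (n - 1) * (p - 1)) ∣ (p : R))
    (A : Type u) [CommRing A] [IsDomain A] [IsIntegrallyClosed A] [Algebra R A]
    [Module.FaithfullyFlat R A] (x : Aˣ) :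
    (algebraMap R A lam ^ p ^ n ∣ (x : A) ^ p ^ n - 1) ↔ (algebraMap R A lam ∣ (x : A) - 1) := by
  obtain ⟨m, rfl⟩ : ∃ m, n = m + 1 := ⟨n - 1, by omega⟩
  have hpr : p.Prime := Fact.out
  have hstarA : algebraMap R A lam ^ (p ^ m * (p - 1)) ∣ (p : A) := by
    have h1 := map_dvd (algebraMap R A) hstar
    rwa [map_pow, map_natCast, Nat.add_sub_cancel] at h1
  have hL0 : algebraMap R A lam ≠ 0 := by
    intro h0
    exact hlam (FaithfulSMul.algebraMap_injective R A (by rw [h0, map_zero]))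
  exact ⟨downAll p hpr m _ _ hL0 hstarA, upAll p hpr m _ _ hstarA⟩



/-- Let R be a discrete valuation ring of characteristic zero whose maximal ideal contains the prime
number p, let n ≥ 1, and let λ be a nonzero element of R such that λ^(p^(n−1)(p−1)) divides p (the
condition v(p) ≥ p^(n−1)(p−1)·v(λ) under which the polynomial ((1 + λT)^(p^n) − 1)/λ^(p^n) has
coefficients in R). Let A be an integrally closed integral domain which is a faithfully flat
R-algebra. Then for every unit x of A, λ^(p^n) divides x^(p^n) − 1 in A if and only if λ divides x −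
1 in A. -/
theorem result (R : Type u) [CommRing R]
    [IsDomain R] [IsDiscreteValuationRing R] [CharZero R] (p n : ℕ) [Fact p.Prime] (hn : 1 ≤ n)
    (hp : (p : R) ∈ IsLocalRing.maximalIdeal R) (lam : R) (hlam : lam ≠ 0)
    (hstar : lam ^ (p ^ (n - 1) * (p - 1)) ∣ (p : R))
    (A : Type u) [CommRing A] [IsDomain A] [IsIntegrallyClosed A] [Algebra R A] [Module.FaithfullyFlat R A]
    (x : Aˣ) :
    (algebraMap R A lam ^ p ^ n ∣ (x : A) ^ p ^ n - 1) ↔ (algebraMap R A lam ∣ (x : A) - 1) := by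
  exact main R p n hn hp lam hlam hstar A x

end Groth.Agent.S13158
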