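import Groth.Statements.S13160
import Mathlib
import Groth.Agent.Lib.Helper21.WittTeich

set_option autoImplicit false
universe u
open CAlg

namespace Groth.Agent.S13160

set_option linter.style.haveILetI false
set_option linter.unusedSectionVars false
set_option linter.unusedVariables false

variable (p : ℕ) [Fact p.Prime] (K : Type u) [CommRing K]

/-- `[x] + [x c] = [x + x c]` when `x ^ p = 0`. -/
lemma teich_add_aux (x c : K) (hx : x ^ p = 0) :
    WittVector.teichmuller p x + WittVector.teichmuller p (x * c)
      = WittVector.teichmuller p (x + x * c) := by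
  have e : WittVector.teichmuller p x + WittVector.teichmuller p (x * c)
      = WittVector.teichmuller p x * (1 + WittVector.teichmuller p c) := by
    rw [map_mul]; ring
  rw [e]
  ext n
  rw [Groth.Agent.Lib.helper21.coeff_teichmuller_mul]
  rcases Nat.eq_zero_or_pos n with hn | hn
  · subst hn
    rw [WittVector.add_coeff_zero, WittVector.one_coeff_zero, WittVector.teichmuller_coeff_zero,
      WittVector.teichmuller_coeff_zero, pow_zero, pow_one]
    ring
  · rw [WittVector.teichmuller_coeff_pos p _ n hn]
    obtain ⟨k, rfl⟩ : ∃ k, n = k + 1 := ⟨n - 1, by omega⟩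
    rw [pow_succ', pow_mul, hx, zero_pow (pow_ne_zero _ (Fact.out : p.Prime).ne_zero), zero_mul]

lemma teich_add (hchain : ∀ x y : K, x ∣ y ∨ y ∣ x) (x y : K) (hx : x ^ p = 0) (hy : y ^ p = 0) :
    WittVector.teichmuller p x + WittVector.teichmuller p y
      = WittVector.teichmuller p (x + y) := by
  rcases hchain x y with ⟨c, rfl⟩ | ⟨c, rfl⟩
  · exact teich_add_aux p K x c hx
  · rw [add_comm, add_comm (y * c)]
    exact teich_add_aux p K y c hy

/-- the tail of a Witt vector -/
noncomputable def tl (a : WittVector p K) : WittVector p K := WittVector.mk p (fun n => a.coeff (n + 1))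

lemma tl_coeff (a : WittVector p K) (n : ℕ) : (tl p K a).coeff n = a.coeff (n + 1) := rfl

lemma decomp_coeff (x : K) (a' : WittVector p K) (n : ℕ) :
    (WittVector.teichmuller p x + WittVector.verschiebung a').coeff n
      = (WittVector.teichmuller p x).coeff n + (WittVector.verschiebung a').coeff n := by
  apply WittVector.coeff_add_of_disjoint
  intro k
  rcases Nat.eq_zero_or_pos k with hk | hk
  · right; rw [hk, WittVector.verschiebung_coeff_zero]
  · left; exact WittVector.teichmuller_coeff_pos p _ k hk

lemma decomp (a : WittVector p K) :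
    a = WittVector.teichmuller p (a.coeff 0) + WittVector.verschiebung (tl p K a) := by
  ext n
  rw [decomp_coeff]
  rcases Nat.eq_zero_or_pos n with hn | hn
  · rw [hn, WittVector.verschiebung_coeff_zero, WittVector.teichmuller_coeff_zero, add_zero]
  · obtain ⟨k, rfl⟩ : ∃ k, n = k + 1 := ⟨n - 1, by omega⟩
    rw [WittVector.teichmuller_coeff_pos p _ _ hn, WittVector.verschiebung_coeff_succ, tl_coeff,
      zero_add]

theorem key (hchain : ∀ x y : K, x ∣ y ∨ y ∣ x) (n : ℕ) :
    ∀ a b : WittVector p K, (∀ i, a.coeff i ^ p = 0) → (∀ i, b.coeff i ^ p = 0) →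
      (a + b).coeff n = a.coeff n + b.coeff n := by
  induction n with
  | zero => intro a b _ _; exact WittVector.add_coeff_zero a b
  | succ n ih =>
    intro a b ha hb
    have e : a + b = WittVector.teichmuller p (a.coeff 0 + b.coeff 0)
        + WittVector.verschiebung (tl p K a + tl p K b) := by
      conv_lhs => rw [decomp p K a, decomp p K b]
      rw [← teich_add p K hchain _ _ (ha 0) (hb 0), map_add]
      ring
    rw [e, decomp_coeff, WittVector.teichmuller_coeff_pos p _ _ (Nat.succ_pos n),
      WittVector.verschiebung_coeff_succ, zero_add,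
      ih (tl p K a) (tl p K b) (fun i => ha (i + 1)) (fun i => hb (i + 1)), tl_coeff, tl_coeff]

theorem main (R : Type u) [CommRing R] [IsDomain R]
    [IsDiscreteValuationRing R] (lam : R) (hlam : lam ∣ (p : R))
    (a b : WittVector p (R ⧸ Ideal.span {lam})) (ha : WittVector.frobenius a = 0)
    (hb : WittVector.frobenius b = 0) (n : ℕ) : (a + b).coeff n = a.coeff n + b.coeff n := by
  rcases subsingleton_or_nontrivial (R ⧸ Ideal.span {lam}) with hK | hK
  · exact Subsingleton.elim _ _
  have hp0 : ((p : ℕ) : R ⧸ Ideal.span {lam}) = 0 := by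
    have : ((p : R ⧸ Ideal.span {lam})) = Ideal.Quotient.mk (Ideal.span {lam}) (p : R) :=
      (map_natCast _ p).symm
    rw [this, Ideal.Quotient.eq_zero_iff_mem, Ideal.mem_span_singleton]
    exact hlam
  haveI : CharP (R ⧸ Ideal.span {lam}) p := (CharP.charP_iff_prime_eq_zero Fact.out).mpr hp0
  have hchain : ∀ x y : R ⧸ Ideal.span {lam}, x ∣ y ∨ y ∣ x := by
    intro x y
    obtain ⟨x, rfl⟩ := Ideal.Quotient.mk_surjective x
    obtain ⟨y, rfl⟩ := Ideal.Quotient.mk_surjective y
    rcases ValuationRing.dvd_total x y with h | h
    · exact Or.inl (map_dvd _ h)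
    · exact Or.inr (map_dvd _ h)
  apply key p _ hchain
  · intro i
    have := congrArg (fun w => w.coeff i) ha
    simpa [WittVector.coeff_frobenius_charP] using this
  · intro i
    have := congrArg (fun w => w.coeff i) hb
    simpa [WittVector.coeff_frobenius_charP] using this



/-- Let R be a discrete valuation ring, p a prime number and λ an element of R dividing p (so that R/λR
is an 𝔽_p-algebra), and let a and b be p-typical Witt vectors with coefficients in R/λR which are
killed by the Frobenius endomorphism. Then the Witt sum a + b has components a_n + b_n for every n.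
(The published statement allows an arbitrary λ ∈ R and is stated for Witt vectors with finitely many
nonzero components; this row assumes that λ divides p, so that p = 0 in R/λR, and allows all Witt
vectors.) -/
theorem result (R : Type u) [CommRing R] [IsDomain R]
    [IsDiscreteValuationRing R] (p : ℕ) [Fact p.Prime] (lam : R) (hlam : lam ∣ (p : R))
    (a b : WittVector p (R ⧸ Ideal.span {lam})) (ha : WittVector.frobenius a = 0)
    (hb : WittVector.frobenius b = 0) (n : ℕ) : (a + b).coeff n = a.coeff n + b.coeff n := by
  exact main p R lam hlam a b ha hb n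

end Groth.Agent.S13160
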