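import Groth.Statements.S13161
import Mathlib

set_option autoImplicit false
universe u
open scoped TensorProduct
open CAlg

namespace Groth.Agent.S13161


section aux
open TensorProduct

variable {R : Type u} [CommRing R] [IsDomain R] {K : Type u} [Field K] [Algebra R K]
  [IsFractionRing R K] {A : Type u} [CommRing A] [Algebra R A]

theorem denom_aux (y : A ⊗[R] K) : ∃ (a : A) (s : R), s ≠ 0 ∧ s • y = a ⊗ₜ[R] (1 : K) := by
  induction y using TensorProduct.induction_on with
  | zero => exact ⟨0, 1, one_ne_zero, by simp⟩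
  | tmul a k =>
    obtain ⟨⟨r, s⟩, hrs⟩ := IsLocalization.surj (nonZeroDivisors R) k
    refine ⟨r • a, (s : R), nonZeroDivisors.ne_zero s.2, ?_⟩
    rw [← TensorProduct.tmul_smul, TensorProduct.smul_tmul]
    congr 1
    rw [Algebra.smul_def, Algebra.smul_def, mul_one, mul_comm]
    exact hrs
  | add y₁ y₂ h₁ h₂ =>
    obtain ⟨a₁, s₁, hs₁, e₁⟩ := h₁
    obtain ⟨a₂, s₂, hs₂, e₂⟩ := h₂
    refine ⟨s₂ • a₁ + s₁ • a₂, s₁ * s₂, mul_ne_zero hs₁ hs₂, ?_⟩
    rw [smul_add, TensorProduct.add_tmul, ← TensorProduct.smul_tmul', ← TensorProduct.smul_tmul',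
      ← e₁, ← e₂, smul_smul, smul_smul, mul_comm s₂ s₁]

noncomputable def Phi (f : A →ₗ[R] R) : A ⊗[R] K →ₗ[R] K :=
  TensorProduct.lift ((LinearMap.lsmul R K).comp f)

theorem Phi_tmul (f : A →ₗ[R] R) (a : A) (k : K) : Phi f (a ⊗ₜ[R] k) = f a • k := by
  simp [Phi]

theorem smul_inj_aux (s : R) (hs : s ≠ 0) (y : A ⊗[R] K) : s • y = 0 → y = 0 := by
  have hs' : algebraMap R K s ≠ 0 := by
    intro h0
    exact hs ((IsFractionRing.injective R K) (by rw [h0, map_zero]))
  have h1 : (LinearMap.lTensor A (LinearMap.mulLeft R ((algebraMap R K s)⁻¹))) (s • y) = y := by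
    induction y using TensorProduct.induction_on with
    | zero => simp
    | tmul a k =>
      rw [TensorProduct.smul_tmul', LinearMap.lTensor_tmul, LinearMap.mulLeft_apply,
        TensorProduct.smul_tmul]
      congr 1
      rw [Algebra.smul_def, ← mul_assoc, mul_inv_cancel₀ hs', one_mul]
    | add y₁ y₂ h₁ h₂ => rw [smul_add, map_add, h₁, h₂]
  intro h
  rw [← h1, h, map_zero]

end aux


/-- Let R be a discrete valuation ring with fraction field K, A an R-algebra which is semireflexive as
an R-module (the map to its double dual is injective: every nonzero a ∈ A has an R-linear form f : A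
→ R with f(a) ≠ 0), and B an A-algebra which is finitely generated as an A-module and flat over R.
Suppose B ⊗ K is semireflexive as a module over A ⊗ K, which for such B amounts to: every nonzero b
∈ B has an A-linear map g : B → A ⊗_R K with g(b) ≠ 0. Then B is semireflexive as an R-module: every
nonzero b ∈ B has an R-linear form h : B → R with h(b) ≠ 0. (The published statement phrases the
hypothesis on B_K as an A_K-module; for B flat over R and finite over A this is the elementwise
condition used here.) -/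
theorem result (R : Type u) [CommRing R] [IsDomain R]
    [IsDiscreteValuationRing R] (K : Type u) [Field K] [Algebra R K] [IsFractionRing R K]
    (A B : Type u) [CommRing A] [CommRing B] [Algebra R A] [Algebra R B] [Algebra A B] [IsScalarTower R A B]
    [Module.Finite A B] [Module.Flat R B]
    (hA : ∀ a : A, a ≠ 0 → ∃ f : A →ₗ[R] R, f a ≠ 0)
    (hBK : ∀ b : B, b ≠ 0 → ∃ g : B →ₗ[A] A ⊗[R] K, g b ≠ 0) :
    ∀ b : B, b ≠ 0 → ∃ h : B →ₗ[R] R, h b ≠ 0 := by
  intro b hb
  classical
  obtain ⟨g, hg⟩ := hBK b hb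
  obtain ⟨a, s, hs, hy⟩ := denom_aux (R := R) (K := K) (g b)
  have ha : a ≠ 0 := by
    rintro rfl
    rw [TensorProduct.zero_tmul] at hy
    exact hg (smul_inj_aux s hs _ hy)
  obtain ⟨f, hf⟩ := hA a ha
  have hinjK : Function.Injective (algebraMap R K) := IsFractionRing.injective R K
  have hΦ : Phi (K := K) f (g b) ≠ 0 := by
    intro h0
    have h1 : Phi (K := K) f (s • g b) = 0 := by rw [map_smul, h0, smul_zero]
    rw [hy, Phi_tmul, Algebra.smul_def, mul_one] at h1
    exact hf (hinjK (by rw [h1, map_zero]))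
  obtain ⟨G, hG⟩ := (Module.Finite.fg_top : (⊤ : Submodule A B).FG)
  choose a' s' hs' hy' using fun z : B => denom_aux (R := R) (K := K) (g z)
  let S : R := ∏ z ∈ G, s' z
  have hS : S ≠ 0 := Finset.prod_ne_zero_iff.mpr fun z _ => hs' z
  let N : Submodule A B :=
    { carrier := {z | ∃ c : A, S • g z = c ⊗ₜ[R] (1 : K)}
      add_mem' := by
        rintro z₁ z₂ ⟨c₁, h₁⟩ ⟨c₂, h₂⟩
        exact ⟨c₁ + c₂, by rw [map_add, smul_add, h₁, h₂, TensorProduct.add_tmul]⟩
      zero_mem' := ⟨0, by simp⟩
      smul_mem' := by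
        rintro c z ⟨c₁, h₁⟩
        refine ⟨c * c₁, ?_⟩
        rw [map_smul, smul_comm, h₁, TensorProduct.smul_tmul', smul_eq_mul] }
  have hN : N = ⊤ := by
    rw [eq_top_iff, ← hG]
    apply Submodule.span_le.mpr
    intro z hz
    obtain ⟨c, hc⟩ := Finset.dvd_prod_of_mem s' (Finset.mem_coe.mp hz)
    refine ⟨c • a' z, ?_⟩
    show S • g z = _
    rw [show S = c * s' z from by rw [mul_comm]; exact hc, mul_smul, hy' z,
      TensorProduct.smul_tmul']
  let h₀ : B →ₗ[R] K := (Phi f).comp (g.restrictScalars R)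
  have hrange : ∀ z, (S • h₀) z ∈ LinearMap.range (Algebra.linearMap R K) := by
    intro z
    obtain ⟨c, hc⟩ : z ∈ N := by rw [hN]; trivial
    refine ⟨f c, ?_⟩
    show algebraMap R K (f c) = S • Phi f (g z)
    rw [← map_smul, hc, Phi_tmul, Algebra.smul_def, mul_one]
  let e := LinearEquiv.ofInjective (Algebra.linearMap R K) hinjK
  let h₁ : B →ₗ[R] LinearMap.range (Algebra.linearMap R K) :=
    LinearMap.codRestrict _ (S • h₀) hrange
  refine ⟨e.symm.toLinearMap.comp h₁, ?_⟩
  intro h0
  have h2 : h₁ b = 0 := by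
    have := congrArg e h0
    simpa using this
  have h3 : S • h₀ b = 0 := by
    have := congrArg Subtype.val h2
    simpa [h₁] using this
  rw [Algebra.smul_def, mul_eq_zero] at h3
  rcases h3 with h3 | h3
  · exact hS (hinjK (by rw [h3, map_zero]))
  · exact hΦ h3


end Groth.Agent.S13161
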