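import Groth.Statements.S13162
import Mathlib

set_option autoImplicit false
universe u v
open ZeroCyc

namespace Groth.Agent.S13162



/-- Let a finite group G act on a commutative ring A by ring automorphisms and let p be a prime such
that every integer prime to p is a unit in A. If I is an ideal of A and f ∈ A has G-invariant class
modulo I, then f^(p^k) is congruent modulo I to a G-invariant element of A, where p^k is the exact
power of p dividing the order of G. (The published statement assumes I stable under G, so that G
acts on A/I and the claim reads: the p^k-th power of an invariant of A/I lies in the image of the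
invariants of A; the form here asks only that the class of f be invariant.) -/
theorem result {A : Type u} [CommRing A] {G : Type v} [Group G] [Fintype G]
    [MulSemiringAction G A] (p : ℕ) [Fact p.Prime]
    (hA : ∀ m : ℕ, ¬ p ∣ m → IsUnit (m : A))
    (I : Ideal A) (f : A) (hf : ∀ g : G, g • f - f ∈ I) :
    ∃ a : A, (∀ g : G, g • a = a) ∧ a - f ^ (p ^ (Fintype.card G).factorization p) ∈ I := by
  classical
  obtain ⟨P⟩ : Nonempty (Sylow p G) := inferInstance
  haveI : Fintype (P : Subgroup G) := Fintype.ofFinite _
  haveI : Fintype (G ⧸ (P : Subgroup G)) := Fintype.ofFinite _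
  obtain ⟨k, hk⟩ : ∃ k, k = (Fintype.card G).factorization p := ⟨_, rfl⟩
  rw [← hk]
  have hcardP : Fintype.card (P : Subgroup G) = p ^ k := by
    rw [hk, ← Nat.card_eq_fintype_card, ← Nat.card_eq_fintype_card]
    exact P.card_eq_multiplicity
  obtain ⟨N, hN⟩ : ∃ N : A, N = ∏ h : (P : Subgroup G), (h : G) • f := ⟨_, rfl⟩
  have hNinv : ∀ h : G, h ∈ (P : Subgroup G) → h • N = N := by
    intro h hh
    have h1 := Finset.smul_prod_perm (G := (P : Subgroup G)) f ⟨h, hh⟩
    rw [hN]
    exact h1
  have hmk : ∀ x : G, Ideal.Quotient.mk I (x • N) = (Ideal.Quotient.mk I f) ^ (p ^ k) := by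
    intro x
    rw [hN, Finset.smul_prod', map_prod, ← hcardP, ← Finset.card_univ, ← Finset.prod_const]
    apply Finset.prod_congr rfl
    intro h _
    rw [smul_smul, Ideal.Quotient.eq]
    exact hf _
  let F : G ⧸ (P : Subgroup G) → A := fun q => Quotient.liftOn' q (fun g => g • N) (by
    intro g₁ g₂ h
    have h' : g₁⁻¹ * g₂ ∈ (P : Subgroup G) := QuotientGroup.leftRel_apply.mp h
    have h2 : g₂ = g₁ * (g₁⁻¹ * g₂) := by group
    show g₁ • N = g₂ • N
    rw [h2, mul_smul, hNinv _ h'])
  have hidx : ¬ p ∣ Fintype.card (G ⧸ (P : Subgroup G)) := by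
    have h1 := P.not_dvd_index
    rwa [Subgroup.index_eq_card, Nat.card_eq_fintype_card] at h1
  obtain ⟨v, hv⟩ := (hA _ hidx).exists_right_inv
  refine ⟨v * ∑ q, F q, ?_, ?_⟩
  · intro x
    have hxn : x • ((Fintype.card (G ⧸ (P : Subgroup G)) : ℕ) : A) =
        ((Fintype.card (G ⧸ (P : Subgroup G)) : ℕ) : A) :=
      map_natCast (MulSemiringAction.toRingHom G A x) _
    have hxv : x • v = v := by
      have h1 : x • (((Fintype.card (G ⧸ (P : Subgroup G)) : ℕ) : A) * v) = 1 := by
        rw [hv, smul_one]
      rw [smul_mul', hxn] at h1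
      calc x • v = (((Fintype.card (G ⧸ (P : Subgroup G)) : ℕ) : A) * v) * (x • v) := by
            rw [hv, one_mul]
        _ = v * (((Fintype.card (G ⧸ (P : Subgroup G)) : ℕ) : A) * (x • v)) := by ring
        _ = v := by rw [h1, mul_one]
    have hxF : ∀ q, x • F q = F (x • q) := by
      intro q
      induction q using Quotient.inductionOn' with
      | h g =>
        show x • (g • N) = (x * g) • N
        rw [mul_smul]
    rw [smul_mul', hxv, Finset.smul_sum, Finset.sum_congr rfl (fun q _ => hxF q)]
    congr 1
    exact Equiv.sum_comp (MulAction.toPerm x) F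
  · rw [← Ideal.Quotient.eq, map_mul, map_sum]
    have h1 : ∀ q, Ideal.Quotient.mk I (F q) = (Ideal.Quotient.mk I f) ^ (p ^ k) := by
      intro q
      induction q using Quotient.inductionOn' with
      | h g => exact hmk g
    rw [Finset.sum_congr rfl (fun q _ => h1 q), Finset.sum_const, Finset.card_univ, nsmul_eq_mul,
      ← mul_assoc, ← map_natCast (Ideal.Quotient.mk I), ← map_mul, mul_comm v, hv, map_one,
      one_mul, map_pow]


end Groth.Agent.S13162
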