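import Groth.Statements.S13163
import Mathlib
-- import your own Groth.Agent.* helpers here

set_option autoImplicit false
universe u
open ZeroCyc

namespace Groth.Agent.S13163

open Polynomial in
/-- Let P_d(T) = ∏_{0 ≤ i < j ≤ d} (T^i − T^j) − 1 ∈ ℤ[T]. Every residue field of ℤ[T]/(P_d), i.e. every
field receiving a ring homomorphism from it, has at least d + 1 elements. -/
theorem result (d : ℕ) (k : Type u) [Field k]
    (φ : (ℤ[X] ⧸ Ideal.span {(∏ j ∈ Finset.range (d + 1), ∏ i ∈ Finset.range j,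
        ((X : ℤ[X]) ^ i - X ^ j)) - 1}) →+* k) :
    ((d + 1 : ℕ) : Cardinal) ≤ Cardinal.mk k := by
  classical
  set P : ℤ[X] := (∏ j ∈ Finset.range (d + 1), ∏ i ∈ Finset.range j,
        ((X : ℤ[X]) ^ i - X ^ j)) - 1 with hP
  let ψ : ℤ[X] →+* k := φ.comp (Ideal.Quotient.mk (Ideal.span {P}))
  set t : k := ψ X with ht
  have h0 : ψ P = 0 := by
    have : Ideal.Quotient.mk (Ideal.span {P}) P = 0 :=
      Ideal.Quotient.eq_zero_iff_mem.mpr (Ideal.subset_span rfl)
    simp [ψ, this]
  have h1 : (∏ j ∈ Finset.range (d + 1), ∏ i ∈ Finset.range j, (t ^ i - t ^ j)) = 1 := by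
    have : ψ P = (∏ j ∈ Finset.range (d + 1), ∏ i ∈ Finset.range j, (t ^ i - t ^ j)) - 1 := by
      simp [hP, map_prod, map_sub, map_pow, ht]
    rw [this, sub_eq_zero] at h0
    exact h0
  have hne : ∀ j ∈ Finset.range (d + 1), ∀ i ∈ Finset.range j, t ^ i - t ^ j ≠ 0 := by
    intro j hj i hi h
    have : (∏ j ∈ Finset.range (d + 1), ∏ i ∈ Finset.range j, (t ^ i - t ^ j)) = 0 :=
      Finset.prod_eq_zero hj (Finset.prod_eq_zero hi h)
    rw [h1] at this
    exact one_ne_zero this
  have hinj : Set.InjOn (fun i : ℕ => t ^ i) (Finset.range (d + 1) : Set ℕ) := by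
    intro a ha b hb hab
    simp only [Finset.coe_range, Set.mem_Iio] at ha hb
    by_contra hne'
    rcases lt_or_gt_of_ne hne' with h | h
    · exact hne b (Finset.mem_range.mpr hb) a (Finset.mem_range.mpr h) (sub_eq_zero.mpr hab)
    · exact hne a (Finset.mem_range.mpr ha) b (Finset.mem_range.mpr h) (sub_eq_zero.mpr hab.symm)
  have hcard : ((Finset.range (d + 1)).image (fun i : ℕ => t ^ i)).card = d + 1 := by
    rw [Finset.card_image_of_injOn hinj, Finset.card_range]
  rw [← hcard, ← Cardinal.mk_coe_finset]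
  exact Cardinal.mk_set_le _

end Groth.Agent.S13163
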