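import Groth.Statements.S13164
import Mathlib
import Groth.Agent.Lib.Helper13.GradedGen
-- import your own Groth.Agent.* helpers here

set_option autoImplicit false
universe u
open ZeroCyc

namespace Groth.Agent.S13164

/-- Let B be a graded R-algebra generated by homogeneous elements f_1, …, f_s of positive degrees d_1,
…, d_s and let l be the least common multiple of the d_i. Then B_{n+l} = B_n B_l for every n ≥ (s −
1)(l − 1). -/
theorem result {R A : Type u} [CommRing R] [CommRing A] [Algebra R A] (𝒜 : ℕ → Submodule R A) [GradedAlgebra 𝒜]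
    {s : ℕ} (f : Fin s → A) (deg : Fin s → ℕ) (hdeg : ∀ i, 0 < deg i) (hf : ∀ i, f i ∈ 𝒜 (deg i))
    (hgen : Algebra.adjoin R (Set.range f) = ⊤) (n : ℕ)
    (hn : (s - 1) * (Finset.univ.lcm deg - 1) ≤ n) :
    𝒜 (n + Finset.univ.lcm deg) = 𝒜 n * 𝒜 (Finset.univ.lcm deg) := by
  classical
  set l := Finset.univ.lcm deg with hl
  have hlpos : 0 < l := by
    rw [Nat.pos_iff_ne_zero, hl, Ne, Finset.lcm_eq_zero_iff]
    rintro ⟨i, -, hi⟩
    exact (hdeg i).ne' hi
  apply le_antisymm
  · intro x hx
    have hx' := Groth.Agent.Lib.helper13.mem_span_monomials 𝒜 f deg hf hgen (n + l) x hx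
    refine Submodule.span_le.mpr ?_ hx'
    rintro y ⟨a, ha, rfl⟩
    -- pigeonhole: some `a i * deg i ≥ l`
    obtain ⟨i, hi⟩ : ∃ i, l ≤ a i * deg i := by
      by_contra hcon
      push Not at hcon
      have h1 : ∑ i, a i * deg i ≤ ∑ _i : Fin s, (l - 1) :=
        Finset.sum_le_sum fun i _ => Nat.le_sub_one_of_lt (hcon i)
      rw [Finset.sum_const, Finset.card_univ, Fintype.card_fin, smul_eq_mul, ha] at h1
      rcases Nat.eq_zero_or_pos s with hs | hs
      · rw [hs, zero_mul] at h1; omega
      · obtain ⟨s', rfl⟩ : ∃ s', s = s' + 1 := ⟨s - 1, by omega⟩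
        simp only [Nat.add_sub_cancel] at hn
        have : (s' + 1) * (l - 1) = s' * (l - 1) + (l - 1) := by ring
        omega
    have hdvd : deg i ∣ l := Finset.dvd_lcm (Finset.mem_univ i)
    set q := l / deg i with hq
    have hql : q * deg i = l := Nat.div_mul_cancel hdvd
    have hqa : q ≤ a i := by
      by_contra hlt
      push Not at hlt
      have : a i * deg i < q * deg i := Nat.mul_lt_mul_of_pos_right hlt (hdeg i)
      omega
    -- split the monomial
    have hsplit : ∏ j, f j ^ a j =
        (f i ^ (a i - q) * ∏ j ∈ Finset.univ.erase i, f j ^ a j) * f i ^ q := by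
      rw [← Finset.mul_prod_erase Finset.univ (fun j => f j ^ a j) (Finset.mem_univ i)]
      have : f i ^ a i = f i ^ (a i - q) * f i ^ q := by
        rw [← pow_add, Nat.sub_add_cancel hqa]
      rw [this]; ring
    have hsum : ∑ j, a j * deg j = a i * deg i + ∑ j ∈ Finset.univ.erase i, a j * deg j :=
      (Finset.add_sum_erase Finset.univ (fun j => a j * deg j) (Finset.mem_univ i)).symm
    have hai : a i * deg i = (a i - q) * deg i + q * deg i := by
      rw [← add_mul, Nat.sub_add_cancel hqa]
    have hdeg2 : (a i - q) * deg i + ∑ j ∈ Finset.univ.erase i, a j * deg j = n := by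
      omega
    have h1 : f i ^ q ∈ 𝒜 l := by
      have := SetLike.pow_mem_graded q (hf i)
      rwa [smul_eq_mul, hql] at this
    have h2 : f i ^ (a i - q) * ∏ j ∈ Finset.univ.erase i, f j ^ a j ∈ 𝒜 n := by
      have e1 := SetLike.pow_mem_graded (a i - q) (hf i)
      have e2 := SetLike.prod_pow_mem_graded 𝒜 deg f a (F := Finset.univ.erase i)
        fun j _ => hf j
      have := SetLike.mul_mem_graded e1 e2
      simp only [smul_eq_mul] at this
      rwa [hdeg2] at this
    rw [hsplit]
    exact Submodule.mul_mem_mul h2 h1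
  · rw [Submodule.mul_le]
    intro a ha b hb
    exact SetLike.mul_mem_graded ha hb

end Groth.Agent.S13164
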