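import Groth.Statements.S13165
import Mathlib
import Groth.Agent.S13164
-- import your own Groth.Agent.* helpers here

set_option autoImplicit false
universe u
open ZeroCyc

namespace Groth.Agent.S13165

/-- Let B be a graded R-algebra generated by homogeneous elements f_1, …, f_s of positive degrees d_1,
…, d_s, let l be the least common multiple of the d_i and n = a l with a ≥ s − 1. Then B_{kn} =
(B_n)^k for every k ≥ 0. -/
theorem result {R A : Type u} [CommRing R] [CommRing A] [Algebra R A] (𝒜 : ℕ → Submodule R A) [GradedAlgebra 𝒜]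
    {s : ℕ} (f : Fin s → A) (deg : Fin s → ℕ) (hdeg : ∀ i, 0 < deg i) (hf : ∀ i, f i ∈ 𝒜 (deg i))
    (hgen : Algebra.adjoin R (Set.range f) = ⊤) (a : ℕ) (ha : s - 1 ≤ a) (k : ℕ) :
    𝒜 (k * (a * Finset.univ.lcm deg)) = 𝒜 (a * Finset.univ.lcm deg) ^ k := by
  classical
  set l := Finset.univ.lcm deg with hl
  set N := a * l with hN
  have hmul_le : ∀ m m' : ℕ, 𝒜 m * 𝒜 m' ≤ 𝒜 (m + m') := by
    intro m m'
    rw [Submodule.mul_le]
    intro x hx y hy
    exact SetLike.mul_mem_graded hx hy
  have hpow_le : ∀ (j m : ℕ), 𝒜 m ^ j ≤ 𝒜 (j * m) := by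
    intro j m
    induction j with
    | zero =>
      rw [pow_zero, zero_mul, Submodule.one_le]
      exact SetLike.one_mem_graded 𝒜
    | succ j ih =>
      rw [pow_succ, Nat.succ_mul]
      exact (mul_le_mul' ih le_rfl).trans (hmul_le _ _)
  -- iterating S13164
  have hiter : ∀ (m : ℕ), (s - 1) * (l - 1) ≤ m → ∀ j : ℕ, 𝒜 (m + j * l) = 𝒜 m * 𝒜 l ^ j := by
    intro m hm j
    induction j with
    | zero => simp
    | succ j ih =>
      have h1 : m + (j + 1) * l = (m + j * l) + l := by ring
      rw [h1, Groth.Agent.S13164.result 𝒜 f deg hdeg hf hgen (m + j * l)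
        (hm.trans (Nat.le_add_right _ _)), ih, pow_succ, mul_assoc]
  have hNbound : (s - 1) * (l - 1) ≤ N := by
    rw [hN]
    exact Nat.mul_le_mul ha (Nat.sub_le _ _)
  induction k with
  | zero =>
    rw [zero_mul, pow_zero]
    apply le_antisymm
    · intro x hx
      have hx' := Groth.Agent.Lib.helper13.mem_span_monomials 𝒜 f deg hf hgen 0 x hx
      rw [Submodule.one_eq_span]
      refine Submodule.span_mono ?_ hx'
      rintro y ⟨b, hb, rfl⟩
      have hb0 : ∀ i, b i = 0 := by
        intro i
        have h1 : b i * deg i = 0 :=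
          (Finset.sum_eq_zero_iff.mp hb) i (Finset.mem_univ i)
        rcases Nat.mul_eq_zero.mp h1 with h | h
        · exact h
        · exact absurd h (hdeg i).ne'
      simp [hb0]
    · rw [Submodule.one_le]
      exact SetLike.one_mem_graded 𝒜
  | succ k ih =>
    rcases Nat.eq_zero_or_pos k with hk | hk
    · subst hk
      simp
    · apply le_antisymm
      · have h1 : (k + 1) * N = k * N + a * l := by rw [hN]; ring
        have hkN : (s - 1) * (l - 1) ≤ k * N :=
          hNbound.trans (Nat.le_mul_of_pos_left N hk)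
        rw [h1, hiter (k * N) hkN a, ih, pow_succ]
        exact mul_le_mul' le_rfl (hpow_le a l)
      · exact hpow_le (k + 1) N

end Groth.Agent.S13165
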