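import Groth.Statements.S13166
import Mathlib
-- import your own Groth.Agent.* helpers here

set_option autoImplicit false
universe u
open ZeroCyc

namespace Groth.Agent.S13166

section union
open Function Set
variable {ι K M : Type*} [Field K] [AddCommGroup M] [Module K M]

/-- Sharp version of `Submodule.iUnion_ssubset_of_forall_ne_top_of_card_lt`: a vector space over `K`
is not the union of `n ≤ |K|` proper subspaces. -/
lemma iUnion_ssubset_of_card_le (s : Finset ι) (p : ι → Submodule K M)
    (h₁ : ∀ i ∈ s, p i ≠ ⊤) (h₂ : (s.card : ℕ∞) ≤ ENat.card K) :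
    ⋃ i ∈ s, (p i : Set M) ⊂ univ := by
  classical
  induction s using Finset.induction_on with
  | empty => simp
  | insert j s hj hj' =>
    have h₁j : p j ≠ ⊤ := h₁ j (Finset.mem_insert_self _ _)
    replace hj' := hj' (fun i hi => h₁ i (Finset.mem_insert_of_mem hi))
    simp only [ssubset_univ_iff] at hj' ⊢
    rcases s.eq_empty_or_nonempty with rfl | hs
    · simpa using! h₁j
    replace h₂ : (s.card : ℕ∞) + 1 ≤ ENat.card K := by
      simpa [Finset.card_insert_of_notMem hj] using! h₂
    specialize hj' (le_trans (le_self_add) h₂)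
    contrapose hj'
    replace hj' : (p j : Set M) ∪ (⋃ i ∈ s, p i) = univ := by
      simpa only [Finset.mem_insert, iUnion_iUnion_eq_or_left] using! hj'
    suffices (p j : Set M) ⊆ ⋃ i ∈ s, p i by rwa [union_eq_right.mpr this] at hj'
    intro x (hx : x ∈ p j)
    obtain ⟨y, hy⟩ : ∃ y, y ∉ p j := by contrapose! h₁j; ext; simp [h₁j]
    -- the points `z t`
    let z : K → M := fun t => if t = 0 then y else x + t • y
    have hz : ∀ t, z t ∉ p j := by
      intro t
      by_cases ht : t = 0
      · simp only [z, ht, if_true]; exact hy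
      · simp only [z, ht, if_false]
        rw [(p j).add_mem_iff_right hx, (p j).smul_mem_iff ht]
        exact hy
    have hz' : ∀ t, ∃ k ∈ s, z t ∈ p k := by
      intro t
      have : z t ∈ (p j : Set M) ∪ (⋃ i ∈ s, p i) := by rw [hj']; trivial
      rcases this with h | h
      · exact absurd h (hz t)
      · simpa using h
    choose f hfs hf using hz'
    -- pigeonhole
    obtain ⟨t₁, t₂, hne, heq⟩ : ∃ t₁ t₂, t₁ ≠ t₂ ∧ f t₁ = f t₂ := by
      by_contra hcon
      push Not at hcon
      have hinj : Injective (fun t : K => (⟨f t, hfs t⟩ : s)) := by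
        intro a b hab
        by_contra hne
        exact hcon a b hne (congrArg Subtype.val hab)
      have h3 := ENat.card_le_card_of_injective hinj
      have h4 : ENat.card s = s.card := by simp
      rw [h4] at h3
      have h5 : (s.card : ℕ∞) + 1 ≤ s.card := h₂.trans h3
      have h6 : (s.card : ℕ∞) < s.card + 1 := ENat.natCast_lt_succ
      exact absurd h5 (not_le.mpr h6)
    have key : x ∈ p (f t₁) := by
      have ht₁ := hf t₁
      have ht₂ := hf t₂
      rw [← heq] at ht₂
      have hz0 : ∀ t, t = 0 → z t = y := fun t ht => by simp [z, ht]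
      have hz1 : ∀ t, t ≠ 0 → z t = x + t • y := fun t ht => by simp [z, ht]
      by_cases h1 : t₁ = 0
      · have h2 : t₂ ≠ 0 := fun h => hne (h1.trans h.symm)
        rw [hz0 t₁ h1] at ht₁
        rw [hz1 t₂ h2] at ht₂
        have := (p (f t₁)).sub_mem ht₂ ((p (f t₁)).smul_mem t₂ ht₁)
        simpa using this
      · by_cases h2 : t₂ = 0
        · rw [hz1 t₁ h1] at ht₁
          rw [hz0 t₂ h2] at ht₂
          have := (p (f t₁)).sub_mem ht₁ ((p (f t₁)).smul_mem t₁ ht₂)
          simpa using this
        · rw [hz1 t₁ h1] at ht₁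
          rw [hz1 t₂ h2] at ht₂
          have hy' : y ∈ p (f t₁) := by
            have : (t₁ - t₂) • y ∈ p (f t₁) := by
              convert (p (f t₁)).sub_mem ht₁ ht₂ using 1; module
            exact ((p (f t₁)).smul_mem_iff (sub_ne_zero.mpr hne)).mp this
          have := (p (f t₁)).sub_mem ht₁ ((p (f t₁)).smul_mem t₁ hy')
          simpa using this
    simpa using! ⟨f t₁, hfs t₁, key⟩

end union

/-- Let k be a field, B a k-algebra generated as an algebra by a k-subspace V, k'/k a field extension
and x_1, …, x_d pairwise distinct k'-points of B ⊗_k k' (equivalently, distinct k-algebra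
homomorphisms B → k'). If k has at least d(d − 1)/2 elements, then there is b ∈ V whose values at
x_1, …, x_d are pairwise distinct. -/
theorem result {k : Type u} [Field k] {B : Type u} [CommRing B] [Algebra k B] (V : Submodule k B)
    (hV : Algebra.adjoin k (V : Set B) = ⊤) {k' : Type u} [Field k'] [Algebra k k']
    {d : ℕ} (x : Fin d → (B →ₐ[k] k')) (hx : Function.Injective x)
    (hk : ((d.choose 2 : ℕ) : Cardinal) ≤ Cardinal.mk k) :
    ∃ b ∈ V, Function.Injective fun i => x i b := by
  classical
  let S : Finset (Finset (Fin d)) := Finset.powersetCard 2 Finset.univ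
  -- the subspace of `V` on which all `x i`, `i ∈ t`, agree
  let p : Finset (Fin d) → Submodule k V := fun t =>
    { carrier := {v | ∀ i ∈ t, ∀ j ∈ t, x i v = x j v}
      add_mem' := by
        intro a b ha hb i hi j hj
        simp only [Submodule.coe_add, map_add, ha i hi j hj, hb i hi j hj]
      zero_mem' := by intro i _ j _; simp
      smul_mem' := by
        intro c a ha i hi j hj
        simp only [Submodule.coe_smul, map_smul, ha i hi j hj] }
  have hp : ∀ t ∈ S, p t ≠ ⊤ := by
    intro t ht htop
    rw [Finset.mem_powersetCard] at ht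
    obtain ⟨i, j, hij, rfl⟩ := Finset.card_eq_two.mp ht.2
    apply hij
    apply hx
    apply AlgHom.ext_of_adjoin_eq_top hV
    intro v hv
    have hmem : (⟨v, hv⟩ : V) ∈ p {i, j} := by rw [htop]; trivial
    exact hmem i (by simp) j (by simp)
  have hcard : ((S.card : ℕ) : ℕ∞) ≤ ENat.card k := by
    have : S.card = d.choose 2 := by
      simp [S, Finset.card_powersetCard]
    rw [this, ENat.card, Cardinal.natCast_le_toENat]
    exact hk
  have hss := iUnion_ssubset_of_card_le S p hp hcard
  rw [Set.ssubset_univ_iff, Ne, Set.eq_univ_iff_forall, not_forall] at hss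
  obtain ⟨b, hb⟩ := hss
  refine ⟨b, b.2, ?_⟩
  intro i j hij
  by_contra hne
  apply hb
  simp only [Set.mem_iUnion]
  refine ⟨{i, j}, ?_, ?_⟩
  · rw [Finset.mem_powersetCard]
    exact ⟨Finset.subset_univ _, Finset.card_pair hne⟩
  · intro a ha c hc
    simp only [Finset.mem_insert, Finset.mem_singleton] at ha hc
    rcases ha with rfl | rfl <;> rcases hc with rfl | rfl
    · rfl
    · exact hij
    · exact hij.symm
    · rfl

end Groth.Agent.S13166
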