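import Groth.Statements.S13167
import Mathlib

set_option autoImplicit false
universe u
open AlgebraicGeometry
open ZeroCyc

namespace Groth.Agent.S13167

section aux

variable {R : Type u} [CommRing R]

lemma avoid {N : Type*} [AddCommGroup N] [Module R N] {ι : Type*} (p : Ideal R) (d : ℕ)
    (hcard : ∀ T : Finset (R ⧸ p), T.card < d → ∃ c, c ∉ T)
    (q : ι → Submodule R N)
    (hq : ∀ i r g, r ∉ p → r • g ∈ q i → g ∈ q i) :
    ∀ s : Finset ι, s.card ≤ d → (∀ i ∈ s, ∃ v, v ∉ q i) → ∃ u, ∀ i ∈ s, u ∉ q i := by
  classical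
  intro s
  induction s using Finset.induction_on with
  | empty => intro _ _; exact ⟨0, fun i hi => absurd hi (Finset.notMem_empty i)⟩
  | insert j s hj ih =>
    intro hcs hprop
    rw [Finset.card_insert_of_notMem hj] at hcs
    obtain ⟨u, hu⟩ := ih (by omega) (fun i hi => hprop i (Finset.mem_insert_of_mem hi))
    by_cases huj : u ∉ q j
    · refine ⟨u, fun i hi => ?_⟩
      rcases Finset.mem_insert.mp hi with rfl | hi
      · exact huj
      · exact hu i hi
    · rw [not_not] at huj
      obtain ⟨v, hv⟩ := hprop j (Finset.mem_insert_self j s)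
      let T : Finset (R ⧸ p) := s.biUnion (fun i =>
        if h : ∃ r : R, v + r • u ∈ q i then {Ideal.Quotient.mk p h.choose} else ∅)
      have hT : T.card < d := by
        have h1 : T.card ≤ ∑ i ∈ s, (if h : ∃ r : R, v + r • u ∈ q i then
            ({Ideal.Quotient.mk p h.choose} : Finset (R ⧸ p)) else ∅).card :=
          Finset.card_biUnion_le
        have h2 : ∑ i ∈ s, (if h : ∃ r : R, v + r • u ∈ q i then
            ({Ideal.Quotient.mk p h.choose} : Finset (R ⧸ p)) else ∅).card ≤ ∑ i ∈ s, 1 :=
          Finset.sum_le_sum (fun i _ => by split_ifs <;> simp)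
        have h3 : ∑ i ∈ s, 1 = s.card := by simp
        omega
      obtain ⟨c, hc⟩ := hcard T hT
      obtain ⟨r, rfl⟩ := Ideal.Quotient.mk_surjective c
      refine ⟨v + r • u, fun i hi => ?_⟩
      rcases Finset.mem_insert.mp hi with rfl | hi
      · intro hw
        apply hv
        have h4 := (q i).sub_mem hw ((q i).smul_mem r huj)
        simpa using h4
      · intro hw
        have h : ∃ r : R, v + r • u ∈ q i := ⟨r, hw⟩
        apply hc
        apply Finset.mem_biUnion.mpr
        refine ⟨i, hi, ?_⟩
        rw [dif_pos h, Finset.mem_singleton, Ideal.Quotient.eq]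
        by_contra hrp
        apply hu i hi
        apply hq i (r - h.choose) u hrp
        have h5 := (q i).sub_mem hw h.choose_spec
        have e : (v + r • u) - (v + h.choose • u) = (r - h.choose) • u := by
          rw [sub_smul]; abel
        rwa [e] at h5

lemma irr_le {A : Type u} [CommRing A] [Algebra R A] (𝒜 : ℕ → Submodule R A) [GradedAlgebra 𝒜]
    (hgen : Algebra.adjoin R (𝒜 1 : Set A) = ⊤) (a : A) :
    a - GradedRing.projZeroRingHom 𝒜 a ∈ Ideal.span (𝒜 1 : Set A) := by
  have ha : a ∈ Algebra.adjoin R (𝒜 1 : Set A) := by rw [hgen]; trivial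
  induction ha using Algebra.adjoin_induction with
  | mem x hx =>
    have h0 : GradedRing.projZeroRingHom 𝒜 x = 0 := by
      rw [GradedRing.projZeroRingHom_apply]
      exact DirectSum.decompose_of_mem_ne 𝒜 hx (by norm_num)
    rw [h0, sub_zero]
    exact Ideal.subset_span hx
  | algebraMap r =>
    have h0 : GradedRing.projZeroRingHom 𝒜 (algebraMap R A r) = algebraMap R A r := by
      rw [GradedRing.projZeroRingHom_apply]
      exact DirectSum.decompose_of_mem_same 𝒜 (SetLike.algebraMap_mem_graded 𝒜 r)
    rw [h0, sub_self]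
    exact Submodule.zero_mem _
  | add x y hx hy ihx ihy =>
    rw [map_add]
    have e : x + y - (GradedRing.projZeroRingHom 𝒜 x + GradedRing.projZeroRingHom 𝒜 y) =
        (x - GradedRing.projZeroRingHom 𝒜 x) + (y - GradedRing.projZeroRingHom 𝒜 y) := by ring
    rw [e]
    exact Ideal.add_mem _ ihx ihy
  | mul x y hx hy ihx ihy =>
    rw [map_mul]
    have e : x * y - GradedRing.projZeroRingHom 𝒜 x * GradedRing.projZeroRingHom 𝒜 y =
        (x - GradedRing.projZeroRingHom 𝒜 x) * y +
          GradedRing.projZeroRingHom 𝒜 x * (y - GradedRing.projZeroRingHom 𝒜 y) := by ring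
    rw [e]
    exact Ideal.add_mem _ (Ideal.mul_mem_right _ _ ihx) (Ideal.mul_mem_left _ _ ihy)

end aux

/-- Let B be a graded R-algebra generated by its degree-one part B_1, with B_1 a finitely generated
R-module, and let x_1, …, x_d be points of X = Proj B lying over one and the same prime p of R. If
the residue field of p has at least d elements, then some f ∈ B_1 ⊆ Γ(X, O_X(1)) has all the x_i in
D_+(f). (Without the hypothesis on the residue field such an f exists in some B_n with n ≥ 1; that
first assertion is a known property of ample sheaves and is not restated here.) -/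
theorem result {R A : Type u} [CommRing R] [CommRing A] [Algebra R A] (𝒜 : ℕ → Submodule R A) [GradedAlgebra 𝒜]
    (hgen : Algebra.adjoin R (𝒜 1 : Set A) = ⊤) (hfg : (𝒜 1).FG)
    (p : Ideal R) [p.IsPrime] {d : ℕ} (x : Fin d → Proj 𝒜)
    (hx : ∀ i, ((x i).asHomogeneousIdeal.toIdeal).comap (algebraMap R A) = p)
    (hcard : (d : Cardinal) ≤ Cardinal.mk p.ResidueField) :
    ∃ g ∈ 𝒜 1, ∀ i, x i ∈ Proj.basicOpen 𝒜 g := by
  classical
  have hcard' : ∀ T : Finset (R ⧸ p), T.card < d → ∃ c, c ∉ T := by
    intro T hT
    by_contra hall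
    push_neg at hall
    have h1 : Cardinal.mk (R ⧸ p) ≤ (T.card : Cardinal) := by
      have hsurj : Function.Surjective (fun t : T => (t : R ⧸ p)) :=
        fun c => ⟨⟨c, hall c⟩, rfl⟩
      have h0 := Cardinal.mk_le_of_surjective hsurj
      rwa [Cardinal.mk_coe_finset] at h0
    have h2 : (d : Cardinal) ≤ Cardinal.mk (R ⧸ p) := by
      rcases finite_or_infinite (R ⧸ p) with hfin | hinf
      · haveI : p.IsMaximal :=
          Ideal.Quotient.maximal_of_isField p (Finite.isField_of_domain (R ⧸ p))
        have e := Cardinal.mk_congr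
          (Equiv.ofBijective _ p.bijective_algebraMap_quotient_residueField)
        rw [e]; exact hcard
      · exact (Cardinal.nat_lt_aleph0 d).le.trans (Cardinal.aleph0_le_mk _)
    have h3 := h2.trans h1
    rw [Nat.cast_le] at h3
    omega
  let q : Fin d → Submodule R (𝒜 1) := fun i =>
    Submodule.comap (𝒜 1).subtype (((x i).asHomogeneousIdeal.toIdeal).restrictScalars R)
  have hq : ∀ i r (g : 𝒜 1), r ∉ p → r • g ∈ q i → g ∈ q i := by
    intro i r g hr hrg
    have h1 : algebraMap R A r * (g : A) ∈ (x i).asHomogeneousIdeal.toIdeal := by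
      have h0 : ((r • g : 𝒜 1) : A) ∈ (x i).asHomogeneousIdeal.toIdeal := hrg
      rwa [Submodule.coe_smul, Algebra.smul_def] at h0
    rcases ((x i).isPrime.mem_or_mem h1) with h | h
    · exfalso
      apply hr
      rw [← hx i]
      exact h
    · exact h
  have hprop : ∀ i ∈ (Finset.univ : Finset (Fin d)), ∃ v : 𝒜 1, v ∉ q i := by
    intro i _
    by_contra hall
    push_neg at hall
    apply (x i).not_irrelevant_le
    intro a ha
    have hJ : Ideal.span (𝒜 1 : Set A) ≤ (x i).asHomogeneousIdeal.toIdeal := by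
      rw [Ideal.span_le]
      intro v hv
      exact hall ⟨v, hv⟩
    have hmem := irr_le 𝒜 hgen a
    have ha0 : GradedRing.projZeroRingHom 𝒜 a = 0 := ha
    rw [ha0, sub_zero] at hmem
    exact hJ hmem
  obtain ⟨u, hu⟩ := avoid p d hcard' q hq Finset.univ (by simp) hprop
  refine ⟨u, u.2, fun i => ?_⟩
  rw [Proj.mem_basicOpen]
  exact hu i (Finset.mem_univ i)

end Groth.Agent.S13167
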