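import Groth.Statements.S13171
import Mathlib
import Groth.Agent.Lib.Helper28.TwistCover

set_option autoImplicit false
universe u
open AlgebraicGeometry
open ZeroCyc

namespace Groth.Agent.S13171

section alg
variable {R A : Type u} [CommRing R] [CommRing A] [Algebra R A] (𝒜 : ℕ → Submodule R A)
  [GradedAlgebra 𝒜] {s : ℕ} (f : Fin s → A) (deg : Fin s → ℕ)

/-- the monomial `f^α`. -/
def mon (α : Fin s → ℕ) : A := ∏ i, f i ^ α i

/-- the weight of an exponent vector. -/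
def wt (α : Fin s → ℕ) : ℕ := ∑ i, α i * deg i

variable {f deg}

theorem mon_mem (hf : ∀ i, f i ∈ 𝒜 (deg i)) (α : Fin s → ℕ) : mon f α ∈ 𝒜 (wt deg α) := by
  unfold mon wt
  refine SetLike.prod_mem_graded 𝒜 (fun i => α i * deg i) (fun i => f i ^ α i) (fun i _ => ?_)
  have := SetLike.pow_mem_graded (α i) (hf i)
  simpa [smul_eq_mul] using this

theorem mon_add (α β : Fin s → ℕ) : mon f (α + β) = mon f α * mon f β := by
  unfold mon
  rw [← Finset.prod_mul_distrib]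
  exact Finset.prod_congr rfl (fun i _ => by rw [Pi.add_apply, pow_add])

theorem wt_add (α β : Fin s → ℕ) : wt deg (α + β) = wt deg α + wt deg β := by
  unfold wt
  rw [← Finset.sum_add_distrib]
  exact Finset.sum_congr rfl (fun i _ => by rw [Pi.add_apply, add_mul])

theorem wt_single (i : Fin s) (c : ℕ) : wt deg (Pi.single i c) = c * deg i := by
  unfold wt
  rw [Finset.sum_eq_single i]
  · rw [Pi.single_eq_same]
  · intro j _ hj
    rw [Pi.single_eq_of_ne hj, zero_mul]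
  · intro h
    exact absurd (Finset.mem_univ i) h

theorem mem_span_mon (hf : ∀ i, f i ∈ 𝒜 (deg i))
    (hgen : Algebra.adjoin R (Set.range f) = ⊤) (k : ℕ) (a : A) (ha : a ∈ 𝒜 k) :
    a ∈ Submodule.span R {c | ∃ α : Fin s → ℕ, wt deg α = k ∧ c = mon f α} := by
  classical
  have h1 : a ∈ (MvPolynomial.aeval f : MvPolynomial (Fin s) R →ₐ[R] A).range := by
    rw [← Algebra.adjoin_range_eq_range_aeval, hgen]
    exact Algebra.mem_top
  obtain ⟨p, hp⟩ := h1
  have hp' : MvPolynomial.aeval f p = a := hp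
  rw [← hp'] at ha ⊢
  have h2 : MvPolynomial.aeval f p = ∑ m ∈ p.support, p.coeff m • mon f (fun i => m i) := by
    rw [MvPolynomial.aeval_def, MvPolynomial.eval₂_eq']
    refine Finset.sum_congr rfl (fun m _ => ?_)
    rw [Algebra.smul_def]
    rfl
  have h3 : MvPolynomial.aeval f p = GradedAlgebra.proj 𝒜 k (MvPolynomial.aeval f p) := by
    rw [GradedAlgebra.proj_apply, DirectSum.decompose_of_mem_same 𝒜 ha]
  rw [h3, h2, map_sum]
  refine Submodule.sum_mem _ (fun m _ => ?_)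
  rw [map_smul]
  refine Submodule.smul_mem _ _ ?_
  rw [GradedAlgebra.proj_apply]
  by_cases hk : wt deg (fun i => m i) = k
  · rw [DirectSum.decompose_of_mem_same 𝒜 (hk ▸ mon_mem 𝒜 hf _)]
    exact Submodule.subset_span ⟨_, hk, rfl⟩
  · rw [DirectSum.decompose_of_mem_ne 𝒜 (mon_mem 𝒜 hf _) hk]
    exact Submodule.zero_mem _

/-- key pigeonhole step. -/
theorem exists_large (hdeg : ∀ i, 0 < deg i) (M : ℕ)
    (hM : (s - 1) * (Finset.univ.lcm deg - 1) ≤ M) (α : Fin s → ℕ)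
    (hα : wt deg α = M + Finset.univ.lcm deg) : ∃ i, Finset.univ.lcm deg ≤ α i * deg i := by
  by_contra hcon
  push Not at hcon
  have hl : 0 < Finset.univ.lcm deg := by
    apply Nat.pos_of_ne_zero
    intro h0
    rw [Finset.lcm_eq_zero_iff] at h0
    obtain ⟨i, _, hi⟩ := h0
    exact (hdeg i).ne' hi
  have hb : ∀ i, α i * deg i ≤ Finset.univ.lcm deg - 1 := by
    intro i
    have := hcon i
    omega
  have hsum : wt deg α ≤ s * (Finset.univ.lcm deg - 1) := by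
    unfold wt
    calc ∑ i, α i * deg i ≤ ∑ _i : Fin s, (Finset.univ.lcm deg - 1) :=
          Finset.sum_le_sum (fun i _ => hb i)
      _ = s * (Finset.univ.lcm deg - 1) := by
          rw [Finset.sum_const, Finset.card_univ, Fintype.card_fin, smul_eq_mul]
  rcases Nat.eq_zero_or_pos s with hs | hs
  · subst hs
    simp at hsum
    omega
  · obtain ⟨t, rfl⟩ : ∃ t, s = t + 1 := ⟨s - 1, by omega⟩
    have e1 : (t + 1 - 1) = t := by omega
    rw [e1] at hM
    have e2 : (t + 1) * (Finset.univ.lcm deg - 1) =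
        t * (Finset.univ.lcm deg - 1) + (Finset.univ.lcm deg - 1) := by ring
    rw [e2] at hsum
    omega

/-- splitting an exponent vector of weight `M + l e`. -/
theorem exists_split (hdeg : ∀ i, 0 < deg i) (M : ℕ)
    (hM : (s - 1) * (Finset.univ.lcm deg - 1) ≤ M) (e : ℕ) :
    ∀ (α : Fin s → ℕ), wt deg α = M + Finset.univ.lcm deg * e →
      ∃ β γ : Fin s → ℕ, α = β + γ ∧ wt deg β = M ∧ wt deg γ = Finset.univ.lcm deg * e := by
  induction e with
  | zero =>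
    intro α hα
    exact ⟨α, 0, by simp, by simpa using hα, by simp [wt]⟩
  | succ e ih =>
    intro α hα
    have hα' : wt deg α = (M + Finset.univ.lcm deg * e) + Finset.univ.lcm deg := by
      rw [hα]; ring
    obtain ⟨i, hi⟩ := exists_large hdeg (M + Finset.univ.lcm deg * e)
      (le_trans hM (Nat.le_add_right _ _)) α hα'
    obtain ⟨c, hc⟩ : deg i ∣ Finset.univ.lcm deg := Finset.dvd_lcm (Finset.mem_univ i)
    have hci : c ≤ α i := by
      rw [hc, mul_comm (deg i) c] at hi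
      exact Nat.le_of_mul_le_mul_right hi (hdeg i)
    let α' : Fin s → ℕ := Function.update α i (α i - c)
    have hαα' : α = α' + Pi.single i c := by
      funext j
      by_cases hj : j = i
      · subst hj
        simp [α']
        omega
      · simp [α', Function.update_of_ne hj, Pi.single_eq_of_ne hj]
    have hw : wt deg α' = M + Finset.univ.lcm deg * e := by
      have h1 : wt deg α = wt deg α' + c * deg i := by
        conv_lhs => rw [hαα']
        rw [wt_add, wt_single]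
      rw [hα', hc] at h1
      rw [hc]
      have : c * deg i = deg i * c := mul_comm _ _
      omega
    obtain ⟨β, γ', hβγ, hβ, hγ'⟩ := ih α' hw
    refine ⟨β, γ' + Pi.single i c, ?_, hβ, ?_⟩
    · rw [hαα', hβγ, add_assoc]
    · rw [wt_add, wt_single, hγ', mul_comm c (deg i), ← hc]
      ring

theorem mem_closure (hf : ∀ i, f i ∈ 𝒜 (deg i)) (hdeg : ∀ i, 0 < deg i)
    (hgen : Algebra.adjoin R (Set.range f) = ⊤) (n : ℕ)
    (hn : (s - 1) * (Finset.univ.lcm deg - 1) ≤ n) (e : ℕ) (a : A)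
    (ha : a ∈ 𝒜 (n + Finset.univ.lcm deg * e)) :
    a ∈ AddSubmonoid.closure
      {c | ∃ u ∈ 𝒜 (Finset.univ.lcm deg * e), ∃ b ∈ 𝒜 n, c = u * b} := by
  have h := mem_span_mon 𝒜 hf hgen _ a ha
  refine Submodule.span_induction ?_ ?_ ?_ ?_ h
  · rintro c ⟨α, hα, rfl⟩
    obtain ⟨β, γ, rfl, hβ, hγ⟩ := exists_split hdeg n hn e α hα
    refine AddSubmonoid.subset_closure ⟨mon f γ, hγ ▸ mon_mem 𝒜 hf γ, mon f β,
      hβ ▸ mon_mem 𝒜 hf β, ?_⟩
    rw [mon_add, mul_comm]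
  · exact zero_mem _
  · intro x y _ _ hx hy
    exact add_mem hx hy
  · intro r x _ hx
    refine AddSubmonoid.closure_induction ?_ ?_ ?_ hx
    · rintro c ⟨u, hu, b, hb, rfl⟩
      refine AddSubmonoid.subset_closure ⟨r • u, Submodule.smul_mem _ _ hu, b, hb, ?_⟩
      rw [smul_mul_assoc]
    · rw [smul_zero]; exact zero_mem _
    · intro x y _ _ hx hy
      rw [smul_add]; exact add_mem hx hy

end alg

section geom
open CategoryTheory Opposite TopologicalSpace
open Groth.Agent.Lib.helper28.TwistFree Groth.Agent.Lib.helper28.GrTildeSec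
  Groth.Agent.Lib.helper28.TwistSec

variable {R A : Type u} [CommRing R] [CommRing A] [Algebra R A] (𝒜 : ℕ → Submodule R A)
  [GradedAlgebra 𝒜] {s : ℕ} {f : Fin s → A} {deg : Fin s → ℕ}

/-- some generator is not in a given point of `Proj`. -/
theorem exists_notMem (hf : ∀ i, f i ∈ 𝒜 (deg i))
    (hgen : Algebra.adjoin R (Set.range f) = ⊤) (x : ProjectiveSpectrum 𝒜) :
    ∃ i, f i ∉ x.asHomogeneousIdeal := by
  classical
  by_contra hcon
  push Not at hcon
  apply x.not_irrelevant_le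
  intro a ha
  have hmon : ∀ (k : ℕ), 0 < k → ∀ α : Fin s → ℕ, wt deg α = k →
      mon f α ∈ x.asHomogeneousIdeal.toIdeal := by
    intro k hk α hα
    have : ∃ i, 0 < α i := by
      by_contra h0
      push Not at h0
      have : wt deg α = 0 := by
        unfold wt
        exact Finset.sum_eq_zero (fun i _ => by rw [Nat.le_zero.mp (h0 i), zero_mul])
      omega
    obtain ⟨i, hi⟩ := this
    have h1 : f i ^ α i ∈ x.asHomogeneousIdeal.toIdeal :=
      Ideal.pow_mem_of_mem _ (hcon i) _ hi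
    exact Ideal.mem_of_dvd _ (Finset.dvd_prod_of_mem (fun i => f i ^ α i) (Finset.mem_univ i)) h1
  have hcomp : ∀ k, (DirectSum.decompose 𝒜 a k : A) ∈ x.asHomogeneousIdeal.toIdeal := by
    intro k
    rcases Nat.eq_zero_or_pos k with hk | hk
    · subst hk
      have : GradedRing.proj 𝒜 0 a = 0 := (HomogeneousIdeal.mem_irrelevant_iff 𝒜 a).mp ha
      rw [GradedRing.proj_apply] at this
      rw [this]
      exact zero_mem _
    · have hmem := mem_span_mon 𝒜 hf hgen k _ (SetLike.coe_mem (DirectSum.decompose 𝒜 a k))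
      refine Submodule.span_induction ?_ ?_ ?_ ?_ hmem
      · rintro c ⟨α, hα, rfl⟩
        exact hmon k hk α hα
      · exact zero_mem _
      · intro y z _ _ hy hz
        exact add_mem hy hz
      · intro r y _ hy
        rw [Algebra.smul_def]
        exact Ideal.mul_mem_left _ _ hy
  rw [← DirectSum.sum_support_decompose 𝒜 a]
  exact Ideal.sum_mem _ (fun k _ => hcomp k)

/-- fractions `a / D` with `a` a sum of products `u b` have germs in the span of the `b / 1`. -/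
theorem germ_frac_mem (n : ℕ) (x : Proj 𝒜)
    (Sp : Submodule ((Proj 𝒜).presheaf.stalk x) ((Twist.twist 𝒜 (n : ℤ)).presheaf.stalk x))
    (hSp : ∀ b : 𝒜 n,
      ((Twist.twist 𝒜 (n : ℤ)).presheaf.germ ⊤ x trivial).hom (Twist.globalOf 𝒜 b) ∈ Sp)
    (W : (Proj 𝒜).Opens) (hxW : x ∈ W) {N : ℕ} (D : 𝒜 N)
    (hD : ∀ y : W, D.1 ∉ y.1.asHomogeneousIdeal)
    (a : A) (ha : a ∈ AddSubmonoid.closure {c | ∃ u ∈ 𝒜 N, ∃ b ∈ 𝒜 n, c = u * b}) :
    ∃ (ha' : a ∈ 𝒜 (N + n)),
      (Twist.twist 𝒜 (n : ℤ)).presheaf.germ W x hxW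
        (fracSectN 𝒜 (n : ℤ) W ⟨a, ha'⟩ D hD (by push_cast; rfl)) ∈ Sp := by
  refine AddSubmonoid.closure_induction ?_ ?_ ?_ ha
  · rintro c ⟨u, hu, b, hb, rfl⟩
    refine ⟨SetLike.mul_mem_graded hu hb, ?_⟩
    let r : Twist.sectN (𝒜 := 𝒜) (n : ℤ) (op W) :=
      (Twist.twist 𝒜 (n : ℤ)).presheaf.map (homOfLE (le_top : W ≤ ⊤)).op
            (Twist.globalOf 𝒜 (⟨b, hb⟩ : 𝒜 n))
    have e1 : fracSectN 𝒜 (n : ℤ) W ⟨u * b, SetLike.mul_mem_graded hu hb⟩ D hD
        (by push_cast; rfl) = (fracSectO 𝒜 W ⟨u, hu⟩ D hD) • r := by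
      refine sectN_ext' 𝒜 _ _ fun y => ?_
      rw [smul_val, fracSectN_val, fracSectO_val]
      change _ = _ * Localization.mk b _
      rw [Localization.mk_mul, mk_eq_mk_iff']
      refine ⟨1, ?_⟩
      simp only [OneMemClass.coe_one, one_mul, Submonoid.coe_mul, mul_one]
    have h2 : (Twist.twist 𝒜 (n : ℤ)).presheaf.germ ⊤ x trivial
        (Twist.globalOf 𝒜 (⟨b, hb⟩ : 𝒜 n)) =
        (Twist.twist 𝒜 (n : ℤ)).presheaf.germ W x hxW
          ((Twist.twist 𝒜 (n : ℤ)).presheaf.map (homOfLE (le_top : W ≤ ⊤)).op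
            (Twist.globalOf 𝒜 (⟨b, hb⟩ : 𝒜 n))) :=
      (TopCat.Presheaf.germ_res_apply (Twist.twist 𝒜 (n : ℤ)).presheaf
        (homOfLE (le_top : W ≤ ⊤)) x hxW _).symm
    have h3 := PresheafOfModules.germ_smul (R := (Proj 𝒜).presheaf)
      (Twist.twist 𝒜 (n : ℤ)).val x W hxW (fracSectO 𝒜 W ⟨u, hu⟩ D hD)
      ((Twist.twist 𝒜 (n : ℤ)).presheaf.map (homOfLE (le_top : W ≤ ⊤)).op
        (Twist.globalOf 𝒜 (⟨b, hb⟩ : 𝒜 n)))
    have key : (Twist.twist 𝒜 (n : ℤ)).presheaf.germ W x hxW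
        (fracSectN 𝒜 (n : ℤ) W ⟨u * b, SetLike.mul_mem_graded hu hb⟩ D hD (by push_cast; rfl)) =
        ((Proj 𝒜).presheaf.germ W x hxW (fracSectO 𝒜 W ⟨u, hu⟩ D hD)) •
          ((Twist.twist 𝒜 (n : ℤ)).presheaf.germ ⊤ x trivial
            (Twist.globalOf 𝒜 (⟨b, hb⟩ : 𝒜 n))) := by
      rw [h2]
      refine Eq.trans ?_ h3
      exact congrArg _ e1
    rw [key]
    exact Submodule.smul_mem _ _ (hSp ⟨b, hb⟩)
  · refine ⟨zero_mem _, ?_⟩
    have e1 : fracSectN 𝒜 (n : ℤ) W ⟨0, zero_mem _⟩ D hD (by push_cast; rfl) = 0 := by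
      refine sectN_ext' 𝒜 _ _ fun y => ?_
      rw [fracSectN_val]
      exact Localization.mk_zero _
    rw [e1]
    have hz := map_zero ((Twist.twist 𝒜 (n : ℤ)).presheaf.germ W x hxW).hom
    exact (congrArg (fun z => z ∈ Sp) hz).mpr (zero_mem Sp)
  · rintro a b _ _ ⟨ha', hA⟩ ⟨hb', hB⟩
    refine ⟨add_mem ha' hb', ?_⟩
    have e1 : fracSectN 𝒜 (n : ℤ) W ⟨a + b, add_mem ha' hb'⟩ D hD (by push_cast; rfl) =
        fracSectN 𝒜 (n : ℤ) W ⟨a, ha'⟩ D hD (by push_cast; rfl) +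
        fracSectN 𝒜 (n : ℤ) W ⟨b, hb'⟩ D hD (by push_cast; rfl) := by
      refine sectN_ext' 𝒜 _ _ fun y => ?_
      rw [fracSectN_val]
      change _ = Localization.mk a _ + Localization.mk b _
      rw [Localization.add_mk_self]
    rw [e1]
    have hz := map_add ((Twist.twist 𝒜 (n : ℤ)).presheaf.germ W x hxW).hom
      (fracSectN 𝒜 (n : ℤ) W ⟨a, ha'⟩ D hD (by push_cast; rfl))
      (fracSectN 𝒜 (n : ℤ) W ⟨b, hb'⟩ D hD (by push_cast; rfl))
    exact (congrArg (fun z => z ∈ Sp) hz).mpr (add_mem hA hB)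

theorem main {s : ℕ} (f : Fin s → A) (deg : Fin s → ℕ) (hdeg : ∀ i, 0 < deg i)
    (hf : ∀ i, f i ∈ 𝒜 (deg i))
    (hgen : Algebra.adjoin R (Set.range f) = ⊤) (n : ℕ)
    (hn : (s - 1) * (Finset.univ.lcm deg - 1) ≤ n) :
    ProjUP.GeneratedBy (Twist.twist 𝒜 (n : ℤ))
      (fun b : 𝒜 n => (Twist.globalOf 𝒜 b : ProjUP.Γm (Twist.twist 𝒜 (n : ℤ)))) := by
  classical
  intro x
  rw [eq_top_iff]
  intro t _
  obtain ⟨U, hxU, s', rfl⟩ := TopCat.Presheaf.exists_germ_eq (Twist.twist 𝒜 (n : ℤ)).presheaf t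
  have hl : 0 < Finset.univ.lcm deg := by
    apply Nat.pos_of_ne_zero
    intro h0
    rw [Finset.lcm_eq_zero_iff] at h0
    obtain ⟨i, _, hi⟩ := h0
    exact (hdeg i).ne' hi
  obtain ⟨i, hix⟩ := exists_notMem 𝒜 hf hgen x
  obtain ⟨c, hc⟩ : deg i ∣ Finset.univ.lcm deg := Finset.dvd_lcm (Finset.mem_univ i)
  set l := Finset.univ.lcm deg with hl_def
  have hg : f i ^ c ∈ 𝒜 l := by
    have := SetLike.pow_mem_graded c (hf i)
    rw [hc, mul_comm]
    simpa [smul_eq_mul] using this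
  have hgx : f i ^ c ∉ x.asHomogeneousIdeal := fun h => hix (x.isPrime.mem_of_pow_mem c h)
  let G : Opens (ProjectiveSpectrum.top 𝒜) := U ⊓ ProjectiveSpectrum.basicOpen 𝒜 (f i ^ c)
  have hxG : x ∈ G := ⟨hxU, (ProjectiveSpectrum.mem_basicOpen 𝒜 _ x).mpr hgx⟩
  obtain ⟨k, h, hh, hhx, hhG⟩ := exists_homogeneous_basicOpen 𝒜 G x hxG
  have hF : f i ^ c * h ∈ 𝒜 (l + k) := SetLike.mul_mem_graded hg hh
  generalize hF_def : f i ^ c * h = F at hF
  let W : (Proj 𝒜).Opens := ProjectiveSpectrum.basicOpen 𝒜 F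
  have hWG : W ≤ G := fun z hz => hhG z fun hmem =>
    (ProjectiveSpectrum.mem_basicOpen 𝒜 F z).mp hz (hF_def ▸ Ideal.mul_mem_left _ _ hmem)
  have hWU : W ≤ U := fun z hz => (hWG hz).1
  have hxW : x ∈ W := (ProjectiveSpectrum.mem_basicOpen 𝒜 F x).mpr fun hmem =>
    (x.isPrime.mem_or_mem (hF_def ▸ hmem)).elim hgx hhx
  obtain ⟨k', j, m, hk', hj, hs⟩ := sectN_eq_fraction' 𝒜 (n : ℤ) (Nat.add_pos_left hl k) hF W rfl
    ((Twist.twist 𝒜 (n : ℤ)).presheaf.map (homOfLE hWU).op s')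
  have hDmem : F ^ (k' * l) ∈ 𝒜 (l * (k' * (l + k))) := by
    have := SetLike.pow_mem_graded (k' * l) hF
    have e : (k' * l) • (l + k) = l * (k' * (l + k)) := by
      rw [smul_eq_mul]; ring
    rwa [e] at this
  have hDW : ∀ y : W, F ^ (k' * l) ∉ y.1.asHomogeneousIdeal := fun y hmem =>
    (ProjectiveSpectrum.mem_basicOpen 𝒜 F y.1).mp y.2 (y.1.isPrime.mem_of_pow_mem _ hmem)
  have hj' : j = k' * (l + k) + n := by exact_mod_cast hj
  obtain ⟨l', hl'⟩ : ∃ l', l = l' + 1 := ⟨l - 1, by omega⟩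
  have hamem : m.1 * F ^ (k' * l') ∈ 𝒜 (n + l * (k' * (l + k))) := by
    have h1 := SetLike.pow_mem_graded (k' * l') hF
    have h2 := SetLike.mul_mem_graded m.2 h1
    have e : j + (k' * l') • (l + k) = n + l * (k' * (l + k)) := by
      rw [hj', smul_eq_mul, hl']; ring
    rwa [e] at h2
  have hcl := mem_closure 𝒜 hf hdeg hgen n hn (k' * (l + k)) _ hamem
  obtain ⟨ha', hmem⟩ := germ_frac_mem 𝒜 n x
    (Submodule.span ((Proj 𝒜).presheaf.stalk x) (Set.range fun b : 𝒜 n =>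
      ((Twist.twist 𝒜 (n : ℤ)).presheaf.germ ⊤ x trivial).hom (Twist.globalOf 𝒜 b)))
    (fun b => Submodule.subset_span ⟨b, rfl⟩) W hxW
    ⟨F ^ (k' * l), hDmem⟩ hDW _ hcl
  have h1 : (Twist.twist 𝒜 (n : ℤ)).presheaf.germ U x hxU s' =
      (Twist.twist 𝒜 (n : ℤ)).presheaf.germ W x hxW
        ((Twist.twist 𝒜 (n : ℤ)).presheaf.map (homOfLE hWU).op s') :=
    (TopCat.Presheaf.germ_res_apply (Twist.twist 𝒜 (n : ℤ)).presheaf (homOfLE hWU) x hxW s').symm
  have e2 : ((Twist.twist 𝒜 (n : ℤ)).presheaf.map (homOfLE hWU).op s' :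
        Twist.sectN (𝒜 := 𝒜) (n : ℤ) (op W)) =
      fracSectN 𝒜 (n : ℤ) W ⟨m.1 * F ^ (k' * l'), ha'⟩ ⟨F ^ (k' * l), hDmem⟩ hDW
        (by push_cast; rfl) := by
    refine sectN_ext' 𝒜 _ _ fun y => ?_
    rw [hs y, fracSectN_val, mk_eq_mk_iff']
    refine ⟨1, ?_⟩
    simp only [OneMemClass.coe_one, one_mul]
    rw [hl']
    ring
  rw [h1]
  exact (congrArg (fun z => (Twist.twist 𝒜 (n : ℤ)).presheaf.germ W x hxW z ∈ _) e2).mpr hmem

end geom

/-- Let B be a graded R-algebra generated by homogeneous elements f_1, …, f_s of positive degrees d_1,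
…, d_s, let l be the least common multiple of the d_i and X = Proj B. For n ≥ (s − 1)(l − 1), O_X(n)
is generated by its global sections b/1, b ∈ B_n. -/
theorem result {R A : Type u} [CommRing R] [CommRing A] [Algebra R A] (𝒜 : ℕ → Submodule R A) [GradedAlgebra 𝒜]
    {s : ℕ} (f : Fin s → A) (deg : Fin s → ℕ) (hdeg : ∀ i, 0 < deg i) (hf : ∀ i, f i ∈ 𝒜 (deg i))
    (hgen : Algebra.adjoin R (Set.range f) = ⊤) (n : ℕ) (hn : (s - 1) * (Finset.univ.lcm deg - 1) ≤ n) :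
    ProjUP.GeneratedBy (Twist.twist 𝒜 (n : ℤ))
      (fun b : 𝒜 n => (Twist.globalOf 𝒜 b : ProjUP.Γm (Twist.twist 𝒜 (n : ℤ)))) := by
  exact main 𝒜 f deg hdeg hf hgen n hn

end Groth.Agent.S13171
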