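import Groth.Statements.S13175
import Mathlib

set_option autoImplicit false
universe u v w
open scoped TensorProduct
open ZeroCyc

namespace Groth.Agent.S13175

theorem rTensor_eq_map {A : Type u} [CommRing A] {B : Type v} [CommRing B] [Algebra A B]
    {S T : Type u} [CommRing S] [Algebra A S] [CommRing T] [Algebra A T] (ψ : S →ₐ[A] T)
    (z : S ⊗[A] B) :
    ψ.toLinearMap.rTensor B z = Algebra.TensorProduct.map ψ (AlgHom.id A B) z := by
  induction z using TensorProduct.induction_on with
  | zero => simp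
  | tmul s b => simp
  | add z w hz hw => rw [map_add, map_add, hz, hw]

theorem rTensor_mul {A : Type u} [CommRing A] {B : Type v} [CommRing B] [Algebra A B]
    {S T : Type u} [CommRing S] [Algebra A S] [CommRing T] [Algebra A T] (ψ : S →ₐ[A] T)
    (z w : S ⊗[A] B) :
    ψ.toLinearMap.rTensor B (z * w) = ψ.toLinearMap.rTensor B z * ψ.toLinearMap.rTensor B w := by
  rw [rTensor_eq_map, rTensor_eq_map, rTensor_eq_map, map_mul]

theorem rTensor_one {A : Type u} [CommRing A] {B : Type v} [CommRing B] [Algebra A B]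
    {S T : Type u} [CommRing S] [Algebra A S] [CommRing T] [Algebra A T] (ψ : S →ₐ[A] T) :
    ψ.toLinearMap.rTensor B (1 : S ⊗[A] B) = 1 := by
  rw [rTensor_eq_map, map_one]


/-- Let B and C be A-algebras and F : B → C a polynomial law. If the maps F over the polynomial rings
A[t_1, …, t_n], n ≥ 0, are multiplicative (send 1 to 1 and products to products), then F is a
multiplicative law: F sends 1 to 1 and products to products over every A-algebra. -/
theorem result {A : Type u} [CommRing A] {B : Type v} [CommRing B] [Algebra A B] {C : Type w} [CommRing C] [Algebra A C]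
    (F : B →ₚₗ[A] C)
    (h1 : ∀ n : ℕ, F.toFun' (MvPolynomial (Fin n) A) 1 = 1)
    (hmul : ∀ (n : ℕ) (x y : MvPolynomial (Fin n) A ⊗[A] B),
      F.toFun' (MvPolynomial (Fin n) A) (x * y) = F.toFun' (MvPolynomial (Fin n) A) x * F.toFun' (MvPolynomial (Fin n) A) y) :
    ∀ (S : Type u) [CommRing S] [Algebra A S], F.toFun' S 1 = 1 ∧
      ∀ x y : S ⊗[A] B, F.toFun' S (x * y) = F.toFun' S x * F.toFun' S y := by
  intro S _ _
  constructor
  · let ψ : MvPolynomial (Fin 0) A →ₐ[A] S := MvPolynomial.aeval (fun i => Fin.elim0 i)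
    have h := PolynomialLaw.isCompat_apply' (f := F) ψ (1 : MvPolynomial (Fin 0) A ⊗[A] B)
    rw [rTensor_one, h1 0, rTensor_one] at h
    exact h.symm
  · intro x y
    obtain ⟨B₁, hB₁, hx⟩ := TensorProduct.Algebra.exists_of_fg x
    obtain ⟨B₂, hB₂, hy⟩ := TensorProduct.Algebra.exists_of_fg y
    obtain ⟨s, hs⟩ := PolynomialLaw.exists_range_φ_eq_of_fg (hB₁.sup hB₂)
    have h₁ : B₁ ≤ (PolynomialLaw.φ A s).range := hs ▸ le_sup_left
    have h₂ : B₂ ≤ (PolynomialLaw.φ A s).range := hs ▸ le_sup_right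
    obtain ⟨x', hx'⟩ := PolynomialLaw.exists_lift_of_mem_range_rTensor B₁ h₁ hx
    obtain ⟨y', hy'⟩ := PolynomialLaw.exists_lift_of_mem_range_rTensor B₂ h₂ hy
    set ψ := PolynomialLaw.φ A s with hψ
    have e1 := PolynomialLaw.isCompat_apply' (f := F) ψ (x' * y')
    have e2 := PolynomialLaw.isCompat_apply' (f := F) ψ x'
    have e3 := PolynomialLaw.isCompat_apply' (f := F) ψ y'
    rw [← hx', ← hy', ← rTensor_mul, ← e1, ← e2, ← e3, hmul, rTensor_mul]

end Groth.Agent.S13175
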