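import Groth.Statements.S13184
import Mathlib

set_option autoImplicit false
universe u
open ZeroCyc

namespace Groth.Agent.S13184

section aux
open Polynomial

variable {k : Type u} [Field k] (p : ℕ) [Fact p.Prime] [CharP k p]
  {Ω : Type u} [Field Ω] [Algebra k Ω]

abbrev Sset (k : Type u) [Field k] (Ω : Type u) [Field Ω] [Algebra k Ω] (p e : ℕ) : Set Ω :=
  {y : Ω | y ^ (p ^ e) ∈ Set.range (algebraMap k Ω)}

lemma frob_mem [CharP Ω p] (e : ℕ) (b : Ω)
    (hb : b ∈ IntermediateField.adjoin k (Sset k Ω p e)) :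
    ∃ c : k, algebraMap k Ω c = iterateFrobenius Ω p e b := by
  induction hb using IntermediateField.adjoin_induction with
  | mem x hx =>
    obtain ⟨c, hc⟩ := hx
    exact ⟨c, by rw [hc, iterateFrobenius_def]⟩
  | algebraMap x => exact ⟨x ^ (p ^ e), by rw [map_pow, iterateFrobenius_def]⟩
  | add x y hx hy ihx ihy =>
    obtain ⟨c, hc⟩ := ihx
    obtain ⟨d, hd⟩ := ihy
    exact ⟨c + d, by rw [map_add, map_add, hc, hd]⟩
  | inv x hx ih =>
    obtain ⟨c, hc⟩ := ih
    exact ⟨c⁻¹, by rw [map_inv₀, map_inv₀, hc]⟩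
  | mul x y hx hy ihx ihy =>
    obtain ⟨c, hc⟩ := ihx
    obtain ⟨d, hd⟩ := ihy
    exact ⟨c * d, by rw [map_mul, map_mul, hc, hd]⟩

lemma eval_map_hom {A : Type*} [CommRing A] (φ : A →+* A) (q : A[X]) (a : A) :
    eval (φ a) (q.map φ) = φ (eval a q) := by
  rw [eval_map, eval₂_hom]

lemma fwd [CharP Ω p] (e : ℕ) (x' : Ω)
    (hs : IsSeparable (IntermediateField.adjoin k (Sset k Ω p e)) x') :
    IsSeparable k (x' ^ (p ^ e)) := by
  have hP : ((minpoly (IntermediateField.adjoin k (Sset k Ω p e)) x').map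
      (algebraMap (IntermediateField.adjoin k (Sset k Ω p e)) Ω)).map (iterateFrobenius Ω p e)
      ∈ Polynomial.lifts (algebraMap k Ω) := by
    rw [Polynomial.lifts_iff_coeff_lifts]
    intro n
    rw [Polynomial.coeff_map, Polynomial.coeff_map]
    obtain ⟨c, hc⟩ := frob_mem p e _
      ((minpoly (IntermediateField.adjoin k (Sset k Ω p e)) x').coeff n).2
    exact ⟨c, hc⟩
  obtain ⟨g, hg⟩ := (Polynomial.mem_lifts _).mp hP
  have hgsep : g.Separable := by
    rw [← Polynomial.separable_map (algebraMap k Ω), hg]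
    exact Polynomial.Separable.map (Polynomial.Separable.map hs)
  have hroot : Polynomial.aeval (x' ^ (p ^ e)) g = 0 := by
    rw [Polynomial.aeval_def, ← Polynomial.eval_map, hg, ← iterateFrobenius_def (R := Ω),
      eval_map_hom, Polynomial.eval_map, ← Polynomial.aeval_def, minpoly.aeval, map_zero]
  exact hgsep.of_dvd (minpoly.dvd k _ hroot)

lemma bwd [CharP Ω p] [IsAlgClosed Ω] (e : ℕ) (x' : Ω) (hz : IsSeparable k (x' ^ (p ^ e))) :
    IsSeparable (IntermediateField.adjoin k (Sset k Ω p e)) x' := by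
  have hG : ((minpoly k (x' ^ (p ^ e))).map (algebraMap k Ω)).map
      (iterateFrobeniusEquiv Ω p e).symm.toRingHom
      ∈ Polynomial.lifts (algebraMap (IntermediateField.adjoin k (Sset k Ω p e)) Ω) := by
    rw [Polynomial.lifts_iff_coeff_lifts]
    intro n
    rw [Polynomial.coeff_map, Polynomial.coeff_map]
    have hmem : (iterateFrobeniusEquiv Ω p e).symm.toRingHom
        (algebraMap k Ω ((minpoly k (x' ^ (p ^ e))).coeff n)) ∈ Sset k Ω p e := by
      refine ⟨(minpoly k (x' ^ (p ^ e))).coeff n, ?_⟩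
      exact ((iterateFrobeniusEquiv Ω p e).apply_symm_apply _).symm
    exact ⟨⟨_, IntermediateField.subset_adjoin k _ hmem⟩, rfl⟩
  obtain ⟨h, hh⟩ := (Polynomial.mem_lifts _).mp hG
  have hsep : h.Separable := by
    rw [← Polynomial.separable_map (algebraMap (IntermediateField.adjoin k (Sset k Ω p e)) Ω), hh]
    exact Polynomial.Separable.map (Polynomial.Separable.map hz)
  have hroot : Polynomial.aeval x' h = 0 := by
    rw [Polynomial.aeval_def, ← Polynomial.eval_map, hh]
    have h1 : (iterateFrobeniusEquiv Ω p e).symm.toRingHom (x' ^ (p ^ e)) = x' :=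
      (iterateFrobeniusEquiv Ω p e).symm_apply_apply x'
    have h2 := eval_map_hom (iterateFrobeniusEquiv Ω p e).symm.toRingHom
      ((minpoly k (x' ^ (p ^ e))).map (algebraMap k Ω)) (x' ^ (p ^ e))
    rw [h1] at h2
    rw [h2, Polynomial.eval_map, ← Polynomial.aeval_def, minpoly.aeval, map_zero]
  exact hsep.of_dvd (minpoly.dvd _ _ hroot)

lemma sep_of_mem_adjoin (E₀ : IntermediateField k Ω) (T : Set Ω)
    (hT : ∀ t ∈ T, IsSeparable E₀ t) (x : Ω) (hx : x ∈ IntermediateField.adjoin k T) :
    IsSeparable E₀ x := by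
  induction hx using IntermediateField.adjoin_induction with
  | mem x hx => exact hT x hx
  | algebraMap c =>
    exact isSeparable_algebraMap (F := E₀) (K := Ω) ⟨algebraMap k Ω c, E₀.algebraMap_mem c⟩
  | add x y hx hy ihx ihy => exact Field.isSeparable_add ihx ihy
  | inv x hx ih => exact Field.isSeparable_inv ih
  | mul x y hx hy ihx ihy => exact Field.isSeparable_mul ihx ihy

end aux

/-- Let k ⊆ K be a finite extension of fields of characteristic p > 0, viewed inside an algebraically
closed field Ω, and for e ≥ 0 let k^{p^{-e}} ⊆ Ω be the field of elements whose p^e-th power lies in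
k. Then the compositum k^{p^{-e}}K is separable over k^{p^{-e}} if and only if x^{p^e} is separable
over k for every x ∈ K; hence the exponent of K/k (the least n ≥ 1 with K^n separable over k, a
power of p) is the least p^e for which k^{p^{-e}} ⊆ k^{p^{-e}}K is separable. -/
theorem result {k : Type u} [Field k] (p : ℕ) [Fact p.Prime] [CharP k p]
    {K : Type u} [Field K] [Algebra k K] [FiniteDimensional k K]
    {Ω : Type u} [Field Ω] [Algebra k Ω] [Algebra K Ω] [IsScalarTower k K Ω] [IsAlgClosed Ω] (e : ℕ) :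
    (∀ x : Ω, x ∈ IntermediateField.adjoin k {y : Ω | y ^ (p ^ e) ∈ Set.range (algebraMap k Ω)} ⊔
        IntermediateField.adjoin k (Set.range (algebraMap K Ω)) →
      IsSeparable (IntermediateField.adjoin k {y : Ω | y ^ (p ^ e) ∈ Set.range (algebraMap k Ω)}) x) ↔
    ∀ x : K, x ^ (p ^ e) ∈ separableClosure k K := by
  haveI : CharP Ω p := charP_of_injective_algebraMap (algebraMap k Ω).injective p
  constructor
  · intro H x
    rw [mem_separableClosure_iff]
    have hxM : algebraMap K Ω x ∈ IntermediateField.adjoin k (Sset k Ω p e) ⊔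
        IntermediateField.adjoin k (Set.range (algebraMap K Ω)) :=
      (le_sup_right : IntermediateField.adjoin k (Set.range (algebraMap K Ω)) ≤ _)
        (IntermediateField.subset_adjoin k _ ⟨x, rfl⟩)
    have h1 := fwd p e _ (H _ hxM)
    rw [← map_pow] at h1
    unfold IsSeparable at h1 ⊢
    rwa [minpoly.algebraMap_eq (algebraMap K Ω).injective] at h1
  · intro H' x hx
    rw [← IntermediateField.adjoin_union] at hx
    refine sep_of_mem_adjoin (IntermediateField.adjoin k (Sset k Ω p e)) _ ?_ x hx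
    rintro t (ht | ⟨y, rfl⟩)
    · exact isSeparable_algebraMap (F := IntermediateField.adjoin k (Sset k Ω p e)) (K := Ω)
        ⟨t, IntermediateField.subset_adjoin k _ ht⟩
    · apply bwd p e
      have h1 : IsSeparable k (y ^ (p ^ e)) := mem_separableClosure_iff.mp (H' y)
      rw [← map_pow]
      unfold IsSeparable at h1 ⊢
      rwa [minpoly.algebraMap_eq (algebraMap K Ω).injective]

end Groth.Agent.S13184
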