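import Groth.Statements.S13185
-- import your own Groth.Agent.* helpers here

set_option autoImplicit false
universe u v w x
open GalCoh

namespace Groth.Agent.S13185

/-- Let a group G act by automorphisms on groups A, B, C and let 1 → A → B → C → 1 (maps ι, π) be a
G-equivariant short exact sequence. For G-fixed elements c, c' of C, the connecting map to H¹(G, A)
takes equal values on c and c' if and only if c' = π(b) · c for some G-fixed b in B: the fibres of
the connecting map are the orbits of the fixed points of B acting on the fixed points of C by left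
multiplication. (The published statement is for a Galois group acting on discrete modules; this row
takes an arbitrary group acting on groups, which is what the argument proves.) -/
theorem result {G : Type u} {A : Type v} {B : Type w} {C : Type x}
    [Group G] [Group A] [Group B] [Group C]
    [MulDistribMulAction G A] [MulDistribMulAction G B] [MulDistribMulAction G C]
    {ι : A →* B} {π : B →* C} (h : GpH1.IsGExt G ι π)
    (c c' : MulAction.fixedPoints G C) :
    GpH1.delta0 h c = GpH1.delta0 h c' ↔
      ∃ b : B, b ∈ MulAction.fixedPoints G B ∧ (c' : C) = π b * (c : C) := by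
  set b₀ := (h.surjective c.1).choose with hb₀
  have hb₀c : π b₀ = c.1 := (h.surjective c.1).choose_spec
  set b₀' := (h.surjective c'.1).choose with hb₀'
  have hb₀c' : π b₀' = c'.1 := (h.surjective c'.1).choose_spec
  have hfix : π b₀ ∈ MulAction.fixedPoints G C := hb₀c.symm ▸ c.2
  have hfix' : π b₀' ∈ MulAction.fixedPoints G C := hb₀c'.symm ▸ c'.2
  have hd : GpH1.delta0 h c = (h.cocycleOfLift b₀ hfix).cl := rfl
  have hd' : GpH1.delta0 h c' = (h.cocycleOfLift b₀' hfix').cl := rfl
  rw [hd, hd', GpH1.OneCocycle.cl_eq_cl_iff]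
  constructor
  · rintro ⟨x, hx⟩
    have hx' : ∀ σ : G, b₀⁻¹ * σ • b₀ = (ι x)⁻¹ * (b₀'⁻¹ * σ • b₀') * σ • ι x := by
      intro σ
      rw [← h.ι_cocycleOfLift b₀ hfix σ, ← h.ι_cocycleOfLift b₀' hfix' σ, ← h.smul_ι, ← map_inv,
        ← map_mul, ← map_mul]
      exact congrArg ι (hx σ)
    refine ⟨b₀' * ι x * b₀⁻¹, ?_, ?_⟩
    · intro σ
      rw [smul_mul', smul_mul', smul_inv']
      have h1 : σ • b₀' * σ • ι x = b₀' * ι x * (b₀⁻¹ * σ • b₀) := by
        rw [hx' σ]; group
      rw [h1]; group
    · have hιx : π (ι x) = 1 := (h.exact (ι x)).2 ⟨x, rfl⟩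
      rw [map_mul, map_mul, map_inv, hιx, hb₀c, hb₀c']
      group
  · rintro ⟨b, hb, hbc⟩
    have hker : π ((b * b₀)⁻¹ * b₀') = 1 := by
      rw [map_mul, map_inv, map_mul, hb₀c, hb₀c', hbc]; group
    obtain ⟨x, hx⟩ := (h.exact _).1 hker
    have hb₀'eq : b₀' = b * b₀ * ι x := by rw [hx]; group
    refine GpH1.Cohomologous.symm ⟨x, fun σ => ?_⟩
    apply h.injective
    rw [map_mul, map_mul, map_inv, h.smul_ι, h.ι_cocycleOfLift, h.ι_cocycleOfLift]
    have hbσ : σ • b = b := hb σ
    rw [hb₀'eq, smul_mul', smul_mul', hbσ]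
    group

end Groth.Agent.S13185
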