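import Groth.Statements.S13186
import Mathlib
import Groth.Agent.S11079

set_option autoImplicit false
universe u
open GalCoh

namespace Groth.Agent.S13186

/-- Let L/K be a finite Galois extension of fields, n a natural number, and B a map from the Galois
group of L over K to the invertible n × n matrices over L such that B(σ) · σ(B(τ)) = B(στ) for all
σ, τ (σ acting on matrices entrywise, στ applying τ first) and det B(σ) = 1 for every σ. Then there
is an invertible matrix A over L of determinant 1 with B(σ) = A⁻¹ · σ(A) for every σ; that is, every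
1-cocycle of the Galois group with values in SL_n(L) is the coboundary of an element of SL_n(L), so
H¹ of the Galois group with values in SL_n(L) is a point. (The published statement says that every
torsor under the special linear group over K is trivial; this row is the finite-Galois-level cocycle
form that its proof establishes.) -/
theorem result (K L : Type u) [Field K] [Field L]
    [Algebra K L] [FiniteDimensional K L] [IsGalois K L] (n : ℕ)
    (B : (L ≃ₐ[K] L) → GL (Fin n) L)
    (hB : ∀ σ τ : L ≃ₐ[K] L,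
      (B σ : Matrix (Fin n) (Fin n) L) * (B τ : Matrix (Fin n) (Fin n) L).map σ =
        (B (σ * τ) : Matrix (Fin n) (Fin n) L))
    (hdet : ∀ σ : L ≃ₐ[K] L, Matrix.det (B σ : Matrix (Fin n) (Fin n) L) = 1) :
    ∃ A : GL (Fin n) L, Matrix.det (A : Matrix (Fin n) (Fin n) L) = 1 ∧ ∀ σ : L ≃ₐ[K] L,
      (B σ : Matrix (Fin n) (Fin n) L) =
        ((A⁻¹ : GL (Fin n) L) : Matrix (Fin n) (Fin n) L) * (A : Matrix (Fin n) (Fin n) L).map σ := by
  classical
  obtain ⟨A, hA⟩ := Groth.Agent.S11079.result K L n B hB
  set δ : L := Matrix.det (A : Matrix (Fin n) (Fin n) L) with hδ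
  have hδ0 : δ ≠ 0 := by
    have := (Matrix.isUnit_iff_isUnit_det (A : Matrix (Fin n) (Fin n) L)).1 ⟨A, rfl⟩
    exact this.ne_zero
  have hdetmap : ∀ σ : L ≃ₐ[K] L,
      Matrix.det ((A : Matrix (Fin n) (Fin n) L).map σ) = σ δ := by
    intro σ
    have := RingHom.map_det (σ : L →+* L) (A : Matrix (Fin n) (Fin n) L)
    simpa [RingHom.mapMatrix_apply] using this.symm
  have hAinv : ((A⁻¹ : GL (Fin n) L) : Matrix (Fin n) (Fin n) L) * (A : Matrix (Fin n) (Fin n) L) = 1 := by
    rw [← Matrix.GeneralLinearGroup.coe_mul, inv_mul_cancel]; rfl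
  have hdetinv : Matrix.det ((A⁻¹ : GL (Fin n) L) : Matrix (Fin n) (Fin n) L) * δ = 1 := by
    rw [hδ, ← Matrix.det_mul, hAinv, Matrix.det_one]
  have hfix : ∀ σ : L ≃ₐ[K] L, σ δ = δ := by
    intro σ
    have h1 := congrArg Matrix.det (hA σ)
    rw [hdet σ, Matrix.det_mul, hdetmap] at h1
    have h2 : Matrix.det ((A⁻¹ : GL (Fin n) L) : Matrix (Fin n) (Fin n) L) = δ⁻¹ :=
      eq_inv_of_mul_eq_one_left hdetinv
    rw [h2] at h1
    field_simp at h1
    exact h1.symm
  rcases Nat.eq_zero_or_pos n with hn | hn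
  · subst hn
    exact ⟨A, Matrix.det_isEmpty, hA⟩
  · let i₀ : Fin n := ⟨0, hn⟩
    let d : Fin n → L := Function.update (fun _ => (1 : L)) i₀ δ⁻¹
    have hdfix : ∀ (σ : L ≃ₐ[K] L) (i : Fin n), σ (d i) = d i := by
      intro σ i
      by_cases hi : i = i₀
      · subst hi
        simp only [d, Function.update_self]
        rw [map_inv₀, hfix]
      · simp only [d, Function.update_of_ne hi, map_one]
    have hdetD : Matrix.det (Matrix.diagonal d) = δ⁻¹ := by
      rw [Matrix.det_diagonal, Finset.prod_update_of_mem (Finset.mem_univ _)]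
      simp
    have hDunit : Matrix.det (Matrix.diagonal d) ≠ 0 := by
      rw [hdetD]; exact inv_ne_zero hδ0
    let D : GL (Fin n) L := Matrix.GeneralLinearGroup.mkOfDetNeZero (Matrix.diagonal d) hDunit
    have hDcoe : (D : Matrix (Fin n) (Fin n) L) = Matrix.diagonal d := rfl
    have hDmap : ∀ σ : L ≃ₐ[K] L, (Matrix.diagonal d).map σ = Matrix.diagonal d := by
      intro σ
      rw [Matrix.diagonal_map (map_zero σ)]
      congr 1
      funext i
      exact hdfix σ i
    refine ⟨D * A, ?_, fun σ => ?_⟩
    · rw [Matrix.GeneralLinearGroup.coe_mul, Matrix.det_mul, hDcoe, hdetD, ← hδ,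
        inv_mul_cancel₀ hδ0]
    · have hDinv : ((D⁻¹ : GL (Fin n) L) : Matrix (Fin n) (Fin n) L) * Matrix.diagonal d = 1 := by
        rw [← hDcoe, ← Matrix.GeneralLinearGroup.coe_mul, inv_mul_cancel]; rfl
      rw [mul_inv_rev, Matrix.GeneralLinearGroup.coe_mul, Matrix.GeneralLinearGroup.coe_mul, hDcoe,
        Matrix.map_mul, hDmap, Matrix.mul_assoc, ← Matrix.mul_assoc _ (Matrix.diagonal d), hDinv,
        Matrix.one_mul]
      exact hA σ

end Groth.Agent.S13186
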