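import Groth.Statements.S13188
import Mathlib

set_option autoImplicit false
universe u v w
open Brauer

namespace Groth.Agent.S13188

theorem eval_smul_of_isHomogeneous {K : Type*} [Field K] {ι : Type*} (F : MvPolynomial ι K) {d : ℕ}
    (hF : F.IsHomogeneous d) (c : K) (x : ι → K) :
    MvPolynomial.eval (fun i => c * x i) F = c ^ d * MvPolynomial.eval x F := by
  rw [MvPolynomial.eval_eq, MvPolynomial.eval_eq, Finset.mul_sum]
  refine Finset.sum_congr rfl (fun m hm => ?_)
  have hdeg : d = ∑ i ∈ m.support, m i := hF.degree_eq_sum_deg_support hm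
  have : ∏ i ∈ m.support, (c * x i) ^ m i = c ^ d * ∏ i ∈ m.support, x i ^ m i := by
    simp_rw [mul_pow]
    rw [Finset.prod_mul_distrib, Finset.prod_pow_eq_pow_sum, ← hdeg]
  rw [this]; ring


/-- Let K be a field with property C_2 for systems of forms and D a finite-dimensional central division
algebra over K with dim_K D = d². Let N : D → K be multiplicative, a reduced norm of D over K, and
given in the coordinates of a K-basis b of D by a homogeneous polynomial F of degree d, i.e. N(Σ x_i
b_i) = F(x) for every coordinate vector x (the reduced norm of a central simple algebra of dimension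
d² is such a polynomial map of degree d; these data record it). Then N : D → K is surjective. -/
theorem result (K : Type u) [Field K] (hK : Curves.IsCi K 2)
    (D : Type v) [DivisionRing D] [Algebra K D] [Algebra.IsCentral K D] [FiniteDimensional K D]
    (d : ℕ) (hd : Module.finrank K D = d ^ 2)
    (N : D →* K) (hN : CSAGal.IsRedNorm K D N)
    {ι : Type w} [Fintype ι] (b : Module.Basis ι K D)
    (F : MvPolynomial ι K) (hF : F.IsHomogeneous d)
    (hNF : ∀ x : ι → K, N (∑ i, x i • b i) = MvPolynomial.eval x F) :
    Function.Surjective N := by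
  intro a
  have hcard : Fintype.card ι = d ^ 2 := by rw [← Module.finrank_eq_card_basis b, hd]
  have hdpos : 0 < d := by
    rcases Nat.eq_zero_or_pos d with h0 | h0
    · exfalso
      have : 0 < Module.finrank K D := Module.finrank_pos
      rw [hd, h0] at this
      simp at this
    · exact h0
  let e : ι ≃ Fin (d ^ 2) := Fintype.equivFinOfCardEq hcard
  let emb : ι → Fin (d ^ 2 + 1) := fun i => Fin.castSucc (e i)
  let G : MvPolynomial (Fin (d ^ 2 + 1)) K :=
    MvPolynomial.rename emb F - MvPolynomial.C a * MvPolynomial.X (Fin.last _) ^ d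
  have hG : G.IsHomogeneous d :=
    (hF.rename_isHomogeneous).sub (MvPolynomial.isHomogeneous_C_mul_X_pow a _ d)
  obtain ⟨a', ha'0, ha'⟩ := hK 1 (d ^ 2 + 1) (fun _ => G) (fun _ => d) (fun _ => hG)
    (fun _ => hdpos) (by simp)
  have hG0 := ha' 0
  set y := a' (Fin.last _) with hy
  set x : ι → K := a' ∘ emb with hx
  have hGx : MvPolynomial.eval x F = a * y ^ d := by
    have : MvPolynomial.eval a' G = MvPolynomial.eval x F - a * y ^ d := by
      simp only [G, map_sub, MvPolynomial.eval_rename, map_mul, MvPolynomial.eval_C, map_pow,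
        MvPolynomial.eval_X]
      rfl
    rw [this] at hG0
    exact sub_eq_zero.1 hG0
  have hNne : ∀ u : D, u ≠ 0 → N u ≠ 0 := by
    intro u hu h0
    have h1 : N u * N u⁻¹ = 1 := by rw [← map_mul, mul_inv_cancel₀ hu, map_one]
    rw [h0, zero_mul] at h1
    exact zero_ne_one h1
  by_cases hy0 : y = 0
  · exfalso
    have hFx : MvPolynomial.eval x F = 0 := by rw [hGx, hy0, zero_pow hdpos.ne', mul_zero]
    have hu : ∑ i, x i • b i = 0 := by
      by_contra hne
      exact hNne _ hne ((hNF x).trans hFx)
    have hx0 : ∀ i, x i = 0 := Fintype.linearIndependent_iff.1 b.linearIndependent x hu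
    apply ha'0
    funext j
    refine Fin.lastCases ?_ (fun j' => ?_) j
    · exact hy0
    · have := hx0 (e.symm j')
      simpa [hx, emb] using this
  · refine ⟨∑ i, (y⁻¹ * x i) • b i, ?_⟩
    rw [hNF (fun i => y⁻¹ * x i), eval_smul_of_isHomogeneous F hF, hGx, inv_pow]
    field_simp

end Groth.Agent.S13188
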