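import Groth.Statements.S13189
import Mathlib

set_option autoImplicit false
universe u
open CAlg

namespace Groth.Agent.S13189

/-- For a finite field K of cardinality q and n ≥ 0, a polynomial p in n variables over K vanishes at
every point of K^n if and only if p belongs to the ideal generated by the X_i^q − X_i, i = 1, …, n;
in other words that ideal is the kernel of the evaluation homomorphism from K[X_1, …, X_n] to the
ring of K-valued functions on K^n. -/
theorem result (K : Type u) [Field K] [Fintype K]
    (n : ℕ) (p : MvPolynomial (Fin n) K) :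
    (∀ a : Fin n → K, MvPolynomial.eval a p = 0) ↔
      p ∈ Ideal.span (Set.range fun i : Fin n =>
        (MvPolynomial.X i ^ Fintype.card K - MvPolynomial.X i : MvPolynomial (Fin n) K)) := by
  classical
  have hq2 : 2 ≤ Fintype.card K := Fintype.one_lt_card
  set q := Fintype.card K with hq
  let m : MonomialOrder (Fin n) := MonomialOrder.lex
  let b : Fin n → MvPolynomial (Fin n) K := fun i => MvPolynomial.X i ^ q - MvPolynomial.X i
  have hlt : ∀ i : Fin n, m.toSyn (Finsupp.single i 1 : Fin n →₀ ℕ) < m.toSyn (Finsupp.single i q) := by
    intro i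
    have h1 : (Finsupp.single i q : Fin n →₀ ℕ) = Finsupp.single i 1 + Finsupp.single i (q - 1) := by
      rw [← Finsupp.single_add]; congr 1; omega
    rw [h1, map_add]
    apply lt_add_of_pos_right
    rw [MonomialOrder.toSyn_lt_iff_ne_zero, Ne, MonomialOrder.toSyn_eq_zero_iff]
    intro h0
    have := DFunLike.congr_fun h0 i
    simp at this
    omega
  have hdegpow : ∀ i : Fin n,
      m.degree (MvPolynomial.X i ^ q : MvPolynomial (Fin n) K) = Finsupp.single i q := by
    intro i
    rw [MvPolynomial.X_pow_eq_monomial, m.degree_monomial]
    simp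
  have hdegX : ∀ i : Fin n,
      m.degree (MvPolynomial.X i : MvPolynomial (Fin n) K) = Finsupp.single i 1 := fun i => m.degree_X
  have hlt' : ∀ i : Fin n, m.toSyn (m.degree (MvPolynomial.X i : MvPolynomial (Fin n) K)) <
      m.toSyn (m.degree (MvPolynomial.X i ^ q : MvPolynomial (Fin n) K)) := by
    intro i; rw [hdegpow, hdegX]; exact hlt i
  have hdeg : ∀ i, m.degree (b i) = Finsupp.single i q := by
    intro i
    show m.degree (MvPolynomial.X i ^ q - MvPolynomial.X i : MvPolynomial (Fin n) K) = _
    rw [m.degree_sub_of_lt (hlt' i), hdegpow]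
  have hlc : ∀ i, m.leadingCoeff (b i) = 1 := by
    intro i
    show m.leadingCoeff (MvPolynomial.X i ^ q - MvPolynomial.X i : MvPolynomial (Fin n) K) = _
    rw [m.leadingCoeff_sub_of_lt (hlt' i), MvPolynomial.X_pow_eq_monomial, m.leadingCoeff_monomial]
  have hbv : ∀ (a : Fin n → K) (i : Fin n), MvPolynomial.eval a (b i) = 0 := by
    intro a i
    show MvPolynomial.eval a (MvPolynomial.X i ^ q - MvPolynomial.X i) = 0
    rw [map_sub, map_pow, MvPolynomial.eval_X, hq, FiniteField.pow_card, sub_self]
  constructor
  · intro hp
    obtain ⟨g, r, hpr, -, hr⟩ := m.div (b := b) (fun i => by rw [hlc]; exact isUnit_one) p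
    have hrdeg : r ∈ MvPolynomial.restrictDegree (Fin n) K (q - 1) := by
      rw [MvPolynomial.mem_restrictDegree]
      intro c hc i
      have h1 := hr c hc i
      rw [hdeg] at h1
      by_contra hcon
      apply h1
      rw [Finsupp.single_le_iff]
      omega
    have hrv : ∀ a : Fin n → K, MvPolynomial.eval a r = 0 := by
      intro a
      have h1 := congrArg (MvPolynomial.eval a) hpr
      rw [hp a, map_add, Finsupp.linearCombination_apply, Finsupp.sum, map_sum] at h1
      have h2 : ∑ i ∈ g.support, MvPolynomial.eval a (g i • b i) = 0 := by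
        apply Finset.sum_eq_zero
        intro i _
        rw [smul_eq_mul, map_mul, hbv, mul_zero]
      rw [h2, zero_add] at h1
      exact h1.symm
    have hinj : Function.Injective (ULift.up.{u} : Fin n → ULift.{u} (Fin n)) := ULift.up_injective
    have hr0 : r = 0 := by
      apply MvPolynomial.rename_injective _ hinj
      rw [map_zero]
      apply MvPolynomial.eq_zero_of_eval_eq_zero (ULift.{u} (Fin n)) K
      · intro v
        rw [MvPolynomial.eval_rename]
        exact hrv _
      · rw [MvPolynomial.mem_restrictDegree]
        intro c hc i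
        rw [MvPolynomial.support_rename_of_injective hinj, Finset.mem_image] at hc
        obtain ⟨c', hc', rfl⟩ := hc
        have h3 := (MvPolynomial.mem_restrictDegree _ _ _).1 hrdeg c' hc' i.down
        have h4 : Finsupp.mapDomain ULift.up c' i = c' i.down := by
          have := Finsupp.mapDomain_apply hinj c' i.down
          simpa using this
        rw [h4]
        exact h3
    rw [hpr, hr0, add_zero]
    exact (Finsupp.mem_span_range_iff_exists_finsupp).2 ⟨g, rfl⟩
  · intro hp a
    have hle : Ideal.span (Set.range b) ≤ RingHom.ker (MvPolynomial.eval a) := by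
      rw [Ideal.span_le]
      rintro _ ⟨i, rfl⟩
      exact hbv a i
    exact hle hp

end Groth.Agent.S13189
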