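import Groth.Statements.S13191
-- import your own Groth.Agent.* helpers here

set_option autoImplicit false
universe u v w x
open GalCoh

namespace Groth.Agent.S13191

section torsor
variable {A : Type v} {E : Type w} [Group A] [MulAction Aᵐᵒᵖ E]
  (hfree : ∀ m₁ m₂ : E, ∃! a : A, m₂ = MulOpposite.op a • m₁)

/-- the coordinate of `e` relative to the base point `m` -/
noncomputable def coord (m e : E) : A := (hfree m e).choose

include hfree in
theorem coord_spec (m e : E) : e = MulOpposite.op (coord hfree m e) • m :=
  (hfree m e).choose_spec.1

include hfree in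
theorem coord_eq (m e : E) (b : A) (h : e = MulOpposite.op b • m) : coord hfree m e = b :=
  ((hfree m e).choose_spec.2 b h).symm

include hfree in
theorem op_inj (m : E) (b b' : A) (h : MulOpposite.op b • m = MulOpposite.op b' • m) : b = b' := by
  have h1 := coord_eq hfree m (MulOpposite.op b • m) b rfl
  have h2 := coord_eq hfree m (MulOpposite.op b • m) b' h
  exact h1.symm.trans h2

end torsor

/-- Let a group G act by automorphisms on a group A, and let E and E' each be a G-equivariant right
A-torsor (a set with a simply transitive right action of A, written m ↦ m·a, and a left action of G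
with g(m·a) = (gm)·(ga)). Let m ∈ E and m' ∈ E' be points with attached maps a, a' : G → A (g·m =
m·a(g) and g·m' = m'·a'(g) for all g). Then there is a bijection E ≃ E' commuting with the actions
of G and of A if and only if a and a' are cohomologous. (The published statement is for a Galois
group acting on discrete modules; this row takes an arbitrary group acting on a group.) -/
theorem result {G : Type u} {A : Type v} {E : Type w} {E' : Type x}
    [Group G] [Group A] [MulDistribMulAction G A]
    [MulAction G E] [MulAction Aᵐᵒᵖ E]
    (hfree : ∀ m₁ m₂ : E, ∃! a : A, m₂ = MulOpposite.op a • m₁)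
    (hcompat : ∀ (g : G) (a : A) (m : E), g • (MulOpposite.op a • m) = MulOpposite.op (g • a) • g • m)
    [MulAction G E'] [MulAction Aᵐᵒᵖ E']
    (hfree' : ∀ m₁ m₂ : E', ∃! a : A, m₂ = MulOpposite.op a • m₁)
    (hcompat' : ∀ (g : G) (a : A) (m : E'), g • (MulOpposite.op a • m) = MulOpposite.op (g • a) • g • m)
    (m : E) (a : G → A) (ha : ∀ g : G, g • m = MulOpposite.op (a g) • m)
    (m' : E') (a' : G → A) (ha' : ∀ g : G, g • m' = MulOpposite.op (a' g) • m') :
    (∃ f : E ≃ E', (∀ (g : G) (e : E), f (g • e) = g • f e) ∧
        ∀ (b : A) (e : E), f (MulOpposite.op b • e) = MulOpposite.op b • f e) ↔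
      GpH1.Cohomologous a a' := by
  constructor
  · rintro ⟨f, hfG, hfA⟩
    refine ⟨coord hfree' m' (f m), fun g => ?_⟩
    set c := coord hfree' m' (f m) with hc
    have hfm : f m = MulOpposite.op c • m' := coord_spec hfree' m' (f m)
    have h1 : g • f m = MulOpposite.op (c * a g) • m' := by
      rw [← hfG, ha g, hfA, hfm, ← mul_smul, ← MulOpposite.op_mul]
    have h2 : g • f m = MulOpposite.op (a' g * g • c) • m' := by
      rw [hfm, hcompat', ha' g, ← mul_smul, ← MulOpposite.op_mul]
    have h3 := op_inj hfree' m' _ _ (h1.symm.trans h2)
    rw [mul_assoc, ← h3]; group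
  · rintro ⟨c, hc⟩
    have hrel : ∀ g, c * a g = a' g * g • c := by
      intro g; rw [hc g]; group
    let f : E ≃ E' :=
      { toFun := fun e => MulOpposite.op (c * coord hfree m e) • m'
        invFun := fun e' => MulOpposite.op (c⁻¹ * coord hfree' m' e') • m
        left_inv := fun e => by
          show MulOpposite.op (c⁻¹ * coord hfree' m' (MulOpposite.op (c * coord hfree m e) • m')) • m = e
          rw [coord_eq hfree' m' _ (c * coord hfree m e) rfl, inv_mul_cancel_left]
          exact (coord_spec hfree m e).symm
        right_inv := fun e' => by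
          show MulOpposite.op (c * coord hfree m (MulOpposite.op (c⁻¹ * coord hfree' m' e') • m)) • m' = e'
          rw [coord_eq hfree m _ (c⁻¹ * coord hfree' m' e') rfl, mul_inv_cancel_left]
          exact (coord_spec hfree' m' e').symm }
    have hf : ∀ e, f e = MulOpposite.op (c * coord hfree m e) • m' := fun e => rfl
    refine ⟨f, ?_, ?_⟩
    · intro g e
      rw [hf, hf, hcompat', ha' g, ← mul_smul, ← MulOpposite.op_mul]
      congr 2
      have he : g • e = MulOpposite.op (a g * g • coord hfree m e) • m := by
        conv_lhs => rw [coord_spec hfree m e]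
        rw [hcompat, ha g, ← mul_smul, ← MulOpposite.op_mul]
      rw [coord_eq hfree m _ _ he, smul_mul', ← mul_assoc, hrel g, mul_assoc]
    · intro b e
      rw [hf, hf, ← mul_smul, ← MulOpposite.op_mul]
      congr 2
      have he : MulOpposite.op b • e = MulOpposite.op (coord hfree m e * b) • m := by
        conv_lhs => rw [coord_spec hfree m e]
        rw [← mul_smul, ← MulOpposite.op_mul]
      rw [coord_eq hfree m _ _ he, mul_assoc]

end Groth.Agent.S13191
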