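import Groth.Statements.S13195
import Mathlib

set_option autoImplicit false
universe u
open GalCoh

namespace Groth.Agent.S13195

section helpers


variable {K L : Type u} [Field K] [Field L] [Algebra K L]

/-- a locally constant map on the Galois group is constant near 1 on the fixing subgroup of a finite normal
subextension -/
theorem exists_normal_fixing {X : Type*} [Normal K L] (a : (L ≃ₐ[K] L) → X) (hlc : IsLocallyConstant a) :
    ∃ M : IntermediateField K L, FiniteDimensional K M ∧ Normal K M ∧
      ∀ u ∈ M.fixingSubgroup, a u = a 1 := by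
  have hopen : IsOpen (a ⁻¹' {a 1}) := hlc.isOpen_fiber (a 1)
  have hmem : a ⁻¹' {a 1} ∈ nhds (1 : L ≃ₐ[K] L) := hopen.mem_nhds rfl
  obtain ⟨M, h1, h2, h3⟩ := (krullTopology_mem_nhds_one_iff_of_normal K L _).1 hmem
  exact ⟨M, h1, h2, fun u hu => h3 hu⟩

/-- the family of "restriction then include" maps is linearly independent -/
theorem linInd (M : IntermediateField K L) :
    LinearIndependent L (fun g : M ≃ₐ[K] M => (fun x : M => ((g x : M) : L))) := by
  have h := linearIndependent_monoidHom M L
  let F : (M ≃ₐ[K] M) → (M →* L) := fun g =>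
    ((algebraMap M L : M →+* L) : M →* L).comp ((g : M →+* M) : M →* M)
  have hF : Function.Injective F := by
    intro g g' hgg'
    ext x
    have := DFunLike.congr_fun hgg' x
    exact this
  exact h.comp F hF


theorem exists_section [Normal K L] (M : IntermediateField K L) [Normal K M] :
    ∃ s : (M ≃ₐ[K] M) → (L ≃ₐ[K] L), ∀ g, AlgEquiv.restrictNormalHom M (s g) = g :=
  ⟨fun g => (AlgEquiv.restrictNormalHom_surjective (F := K) (K₁ := M) L g).choose,
   fun g => (AlgEquiv.restrictNormalHom_surjective (F := K) (K₁ := M) L g).choose_spec⟩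

theorem mem_fixing_of_restrict_eq (M : IntermediateField K L) [Normal K M]
    (σ τ : L ≃ₐ[K] L) (h : AlgEquiv.restrictNormalHom M σ = AlgEquiv.restrictNormalHom M τ) :
    σ⁻¹ * τ ∈ M.fixingSubgroup := by
  rw [IntermediateField.mem_fixingSubgroup_iff]
  intro x hx
  have h1 : τ x = σ x := by
    have := AlgEquiv.restrictNormalHom_apply M τ ⟨x, hx⟩
    have h2 := AlgEquiv.restrictNormalHom_apply M σ ⟨x, hx⟩
    rw [← h] at this
    exact this.symm.trans h2
  show σ⁻¹ (τ x) = x
  rw [h1]
  exact σ.symm_apply_apply x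

theorem mult [IsGalois K L] (a : (L ≃ₐ[K] L) → Lˣ)
    (ha : ∀ σ τ : L ≃ₐ[K] L, a (σ * τ) = a σ * σ • a τ) (hlc : IsLocallyConstant a) :
    ∃ c : Lˣ, ∀ σ : L ≃ₐ[K] L, a σ = c⁻¹ * σ • c := by
  have ha1 : a 1 = 1 := by
    have := ha 1 1
    rw [one_smul, mul_one] at this
    exact (mul_eq_left (a := a 1)).1 this.symm |>.symm ▸ rfl
  obtain ⟨M, hfin, hnorm, hM⟩ := exists_normal_fixing a hlc
  obtain ⟨s, hs⟩ := exists_section (K := K) (L := L) M
  -- right-invariance
  have hinv : ∀ σ τ : L ≃ₐ[K] L,
      AlgEquiv.restrictNormalHom M σ = AlgEquiv.restrictNormalHom M τ → a σ = a τ := by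
    intro σ τ h
    have hu := mem_fixing_of_restrict_eq M σ τ h
    have : τ = σ * (σ⁻¹ * τ) := by group
    rw [this, ha, hM _ hu, ha1, smul_one, mul_one]
  have := hfin
  -- nonvanishing Poincare series
  obtain ⟨x, hx⟩ : ∃ x : M, (∑ g : M ≃ₐ[K] M, ((a (s g) : Lˣ) : L) * ((g x : M) : L)) ≠ 0 := by
    by_contra hcon
    simp only [not_exists, ne_eq, not_not] at hcon
    have hli := Fintype.linearIndependent_iff.1 (linInd (K := K) (L := L) M)
      (fun g => ((a (s g) : Lˣ) : L)) (by
        funext x
        simpa [Finset.sum_apply] using hcon x)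
    exact (a (s 1)).ne_zero (hli 1)
  set c : L := ∑ g : M ≃ₐ[K] M, ((a (s g) : Lˣ) : L) * ((g x : M) : L) with hc
  have key : ∀ τ : L ≃ₐ[K] L, τ c = ((a τ)⁻¹ : Lˣ) * c := by
    intro τ
    rw [hc, map_sum, Finset.mul_sum]
    refine Fintype.sum_equiv (Equiv.mulLeft (AlgEquiv.restrictNormalHom M τ)) _ _ (fun g => ?_)
    rw [map_mul]
    have h1 : τ ((g x : M) : L) = (((AlgEquiv.restrictNormalHom M τ * g) x : M) : L) :=
      (AlgEquiv.restrictNormalHom_apply M τ (g x)).symm
    have h2 : a (τ * s g) = a (s (AlgEquiv.restrictNormalHom M τ * g)) := by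
      apply hinv
      rw [map_mul, hs, hs]
    have h3 : τ ((a (s g) : Lˣ) : L) = ((a τ)⁻¹ : Lˣ) * (a (τ * s g) : Lˣ) := by
      rw [ha τ (s g)]
      simp
    rw [h1, h3, h2]
    simp [mul_assoc]
  refine ⟨(Units.mk0 c hx)⁻¹, fun τ => ?_⟩
  ext
  have := key τ
  simp only [inv_inv, Units.val_mul, Units.val_mk0, Units.val_inv_eq_inv_val] at this ⊢
  have h4 : ((τ • (Units.mk0 c hx)⁻¹ : Lˣ) : L) = (τ c)⁻¹ := by
    show τ (((Units.mk0 c hx)⁻¹ : Lˣ) : L) = (τ c)⁻¹
    rw [Units.val_inv_eq_inv_val, Units.val_mk0, map_inv₀]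
  rw [h4, this, mul_inv, inv_inv, mul_comm ((a τ : Lˣ) : L), ← mul_assoc, mul_inv_cancel₀ hx, one_mul]

end helpers


/-- Let K be a field and L a separable closure of K. Every map a from the automorphism group of L over K
to the units of L which is locally constant for the Krull topology and satisfies the 1-cocycle
identity a(στ) = a(σ) · σ(a(τ)) for all σ, τ has the form a(σ) = c⁻¹ · σ(c) for a single unit c of
L; that is, the first cohomology set of the absolute Galois group of K with continuous cochains and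
values in the multiplicative group of the separable closure is reduced to its base point. (The
finite-level statement for a finite Galois extension is the classical Hilbert 90; this row is the
statement for the absolute Galois group.) -/
theorem result (K L : Type u) [Field K] [Field L]
    [Algebra K L] [IsSepClosure K L] (a : (L ≃ₐ[K] L) → Lˣ)
    (ha : ∀ σ τ : L ≃ₐ[K] L, a (σ * τ) = a σ * σ • a τ) (hlc : IsLocallyConstant a) :
    ∃ c : Lˣ, ∀ σ : L ≃ₐ[K] L, a σ = c⁻¹ * σ • c := mult a ha hlc

end Groth.Agent.S13195
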