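import Groth.Statements.S13196
import Mathlib
import Groth.Agent.S13195

set_option autoImplicit false
universe u
open GalCoh

namespace Groth.Agent.S13196

section helpers
variable {K L : Type u} [Field K] [Field L] [Algebra K L]

theorem addit [IsGalois K L] (a : (L ≃ₐ[K] L) → L)
    (ha : ∀ σ τ : L ≃ₐ[K] L, a (σ * τ) = a σ + σ (a τ)) (hlc : IsLocallyConstant a) :
    ∃ y : L, ∀ σ : L ≃ₐ[K] L, a σ = σ y - y := by
  have ha1 : a 1 = 0 := by
    have := ha 1 1
    rw [mul_one, AlgEquiv.one_apply] at this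
    exact (add_eq_left (a := a 1)).1 this.symm
  obtain ⟨M, hfin, hnorm, hM⟩ := Groth.Agent.S13195.exists_normal_fixing a hlc
  obtain ⟨s, hs⟩ := Groth.Agent.S13195.exists_section (K := K) (L := L) M
  have hinv : ∀ σ τ : L ≃ₐ[K] L,
      AlgEquiv.restrictNormalHom M σ = AlgEquiv.restrictNormalHom M τ → a σ = a τ := by
    intro σ τ h
    have hu := Groth.Agent.S13195.mem_fixing_of_restrict_eq M σ τ h
    have : τ = σ * (σ⁻¹ * τ) := by group
    rw [this, ha, hM _ hu, ha1, map_zero, add_zero]
  have := hfin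
  obtain ⟨x, hx⟩ : ∃ x : M, (∑ g : M ≃ₐ[K] M, ((g x : M) : L)) ≠ 0 := by
    by_contra hcon
    simp only [not_exists, ne_eq, not_not] at hcon
    have hli := Fintype.linearIndependent_iff.1 (Groth.Agent.S13195.linInd (K := K) (L := L) M)
      (fun _ => (1 : L)) (by
        funext x
        simpa [Finset.sum_apply] using hcon x)
    exact one_ne_zero (hli 1)
  set t : L := ∑ g : M ≃ₐ[K] M, ((g x : M) : L) with ht
  set y : L := ∑ g : M ≃ₐ[K] M, a (s g) * ((g x : M) : L) with hy
  have h1 : ∀ (τ : L ≃ₐ[K] L) (g : M ≃ₐ[K] M),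
      τ ((g x : M) : L) = (((AlgEquiv.restrictNormalHom M τ * g) x : M) : L) :=
    fun τ g => (AlgEquiv.restrictNormalHom_apply M τ (g x)).symm
  have keyt : ∀ τ : L ≃ₐ[K] L, τ t = t := by
    intro τ
    rw [ht, map_sum]
    exact Fintype.sum_equiv (Equiv.mulLeft (AlgEquiv.restrictNormalHom M τ)) _ _ (fun g => h1 τ g)
  have keyy : ∀ τ : L ≃ₐ[K] L, τ y = y - a τ * t := by
    intro τ
    have e1 : y - a τ * t = ∑ g : M ≃ₐ[K] M, (a (s g) - a τ) * ((g x : M) : L) := by
      rw [hy, ht, Finset.mul_sum, ← Finset.sum_sub_distrib]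
      exact Finset.sum_congr rfl (fun g _ => by ring)
    rw [e1, hy, map_sum]
    refine Fintype.sum_equiv (Equiv.mulLeft (AlgEquiv.restrictNormalHom M τ)) _ _ (fun g => ?_)
    rw [map_mul, h1]
    have h2 : a (τ * s g) = a (s (AlgEquiv.restrictNormalHom M τ * g)) := by
      apply hinv
      rw [map_mul, hs, hs]
    have h3 : τ (a (s g)) = a (τ * s g) - a τ := by
      rw [ha τ (s g)]; ring
    rw [h3, h2]
    rfl
  refine ⟨-y / t, fun τ => ?_⟩
  rw [map_div₀, map_neg, keyt, keyy]
  field_simp
  ring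

end helpers


/-- Let K be a field and L a separable closure of K. Every map a from the automorphism group of L over K
to L which is locally constant for the Krull topology and satisfies a(στ) = a(σ) + σ(a(τ)) for all
σ, τ is of the form a(σ) = σ(y) − y for a single y in L. (The published statement asserts vanishing
in every positive degree; this row is the degree-one statement for the absolute Galois group with
continuous cochains.) -/
theorem result (K L : Type u) [Field K] [Field L] [Algebra K L]
    [IsSepClosure K L] (a : (L ≃ₐ[K] L) → L)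
    (ha : ∀ σ τ : L ≃ₐ[K] L, a (σ * τ) = a σ + σ (a τ)) (hlc : IsLocallyConstant a) :
    ∃ y : L, ∀ σ : L ≃ₐ[K] L, a σ = σ y - y := addit a ha hlc

end Groth.Agent.S13196
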