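import Groth.Statements.S5056
import Mathlib
import Groth.Agent.S2811
import Groth.Agent.S2714
import Groth.Agent.S2657
import Groth.Agent.Lib.Helper24.GeomReducedFinite
import Groth.Agent.Lib.Helper24.NagFT2
import Groth.Agent.Lib.Helper13.PIns2

set_option autoImplicit false
set_option linter.style.haveILetI false
universe u
open Hensel TensorProduct IsLocalRing

namespace Groth.Agent.S5056

open TensorProduct IsLocalRing

/-- Let `A` be a Noetherian local ring with geometrically normal formal fibres and `B` a finite
`A`-algebra which is a local normal domain containing `A`. Then `Â ⊗[A] B` is a domain. -/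
theorem isDomain_tensor_of_finite_normal (A : Type u) [CommRing A] [IsNoetherianRing A]
    [IsLocalRing A] (h : EGA4.HasGeomNormalFormalFibres A) (B : Type u) [CommRing B] [IsDomain B]
    [IsIntegrallyClosed B] [IsLocalRing B] [Algebra A B] [Module.Finite A B]
    (hinjA : Function.Injective (algebraMap A B)) : IsDomain (EGA4.Cpl A ⊗[A] B) := by
  classical
  haveI hNc : IsNoetherianRing (EGA4.Cpl A) :=
    Groth.Agent.S0542.result A _ (maximalIdeal A).fg_of_isNoetherianRing
  haveI hff : Module.FaithfullyFlat A (EGA4.Cpl A) := Module.FaithfullyFlat.of_flat_of_isLocalHom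
  haveI hNoeth' : IsNoetherianRing B := IsNoetherianRing.of_finite A _
  have hnorm' : EGA4.IsNormalRing B := by
    intro p hp
    exact ⟨inferInstance, isIntegrallyClosed_of_isLocalization (Localization.AtPrime p)
      p.primeCompl p.primeCompl_le_nonZeroDivisors⟩
  have hNH : EGA4.IsNormalHom B (B ⊗[A] EGA4.Cpl A) :=
    (Groth.Agent.S4749.result A (EGA4.Cpl A) B (Or.inr inferInstance)).1 ⟨inferInstance, h⟩
  haveI hNT' : IsNoetherianRing (EGA4.Cpl A ⊗[A] B) := IsNoetherianRing.of_finite (EGA4.Cpl A) _
  haveI hNT : IsNoetherianRing (B ⊗[A] EGA4.Cpl A) :=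
    isNoetherianRing_of_ringEquiv _ (Algebra.TensorProduct.comm A (EGA4.Cpl A) B).toRingEquiv
  have hTn : EGA4.IsNormalRing (B ⊗[A] EGA4.Cpl A) :=
    Groth.Agent.S2811.isNormalRing_of_isNormalHom _ _ hNH hnorm'
  have hTn' : EGA4.IsNormalRing (EGA4.Cpl A ⊗[A] B) :=
    Groth.Agent.S2644.isNormalRing_of_ringEquiv
      (Algebra.TensorProduct.comm A B (EGA4.Cpl A)).toRingEquiv hTn
  have hinj : Function.Injective
      (Algebra.TensorProduct.includeLeft : EGA4.Cpl A →ₐ[EGA4.Cpl A] EGA4.Cpl A ⊗[A] B) :=
    Algebra.TensorProduct.includeLeft_injective hinjA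
  haveI : Nontrivial (EGA4.Cpl A ⊗[A] B) := hinj.nontrivial
  haveI hTloc : IsLocalRing (EGA4.Cpl A ⊗[A] B) := Groth.Agent.S2811.isLocalRing_tensor A B
  obtain ⟨hdom, -⟩ := hTn' (maximalIdeal (EGA4.Cpl A ⊗[A] B))
  have hunits : (maximalIdeal (EGA4.Cpl A ⊗[A] B)).primeCompl ≤
      IsUnit.submonoid (EGA4.Cpl A ⊗[A] B) :=
    fun x ↦ by simpa using! fun a ↦ a
  let e : (EGA4.Cpl A ⊗[A] B) ≃ₐ[EGA4.Cpl A ⊗[A] B]
      Localization.AtPrime (maximalIdeal (EGA4.Cpl A ⊗[A] B)) :=
    IsLocalization.atUnits _ (maximalIdeal (EGA4.Cpl A ⊗[A] B)).primeCompl hunits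
  exact e.toRingEquiv.injective.isDomain e.toRingEquiv.toRingHom

/-- Let A be a Noetherian henselian local domain whose formal fibres are geometrically normal, Â its
completion (an integral domain), K and L fraction fields of A and Â with L a K-algebra compatibly.
Then L is geometrically reduced over K (a separable extension) and every element of L algebraic over
K lies in K. -/
theorem result (A : Type u) [CommRing A] [IsNoetherianRing A]
    [HenselianLocalRing A] [IsDomain A] (h : EGA4.HasGeomNormalFormalFibres A) [IsDomain (EGA4.Cpl A)]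
    (K L : Type u) [Field K] [Field L] [Algebra A K] [IsFractionRing A K]
    [Algebra (EGA4.Cpl A) L] [IsFractionRing (EGA4.Cpl A) L] [Algebra K L] [Algebra A L]
    [IsScalarTower A K L] [IsScalarTower A (EGA4.Cpl A) L] :
    Algebra.IsGeometricallyReduced K L ∧ ∀ x : L, IsAlgebraic K x → x ∈ Set.range (algebraMap K L) := by
  classical
  haveI hNc : IsNoetherianRing (EGA4.Cpl A) :=
    Groth.Agent.S0542.result A _ (maximalIdeal A).fg_of_isNoetherianRing
  haveI hff : Module.FaithfullyFlat A (EGA4.Cpl A) := Module.FaithfullyFlat.of_flat_of_isLocalHom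
  have hgr : EGA4.HasGeomReducedFormalFibres A := by
    intro p hp
    apply Groth.Agent.Lib.Helper24.GeomReducedFinite.isGeometricallyReduced_of_forall_finite
    intro K _ _ hfin
    have hnor := h p K hfin
    apply isReduced_ofLocalizationMaximal
    intro P hP
    haveI : P.IsPrime := hP.isPrime
    haveI := (hnor P).1
    infer_instance
  have hNag := Groth.Agent.S2657.result A hgr
  have hN2 : CAlg.IsN2 A := Groth.Agent.Lib.Helper24.NagFT.isN2_of_isNagata hNag
  have hinjAL : Function.Injective (algebraMap A L) := by
    rw [IsScalarTower.algebraMap_eq A K L]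
    exact (algebraMap K L).injective.comp (IsFractionRing.injective A K)
  have hinjCL : Function.Injective (algebraMap (EGA4.Cpl A) L) := IsFractionRing.injective _ _
  refine ⟨?_, ?_⟩
  · -- the generic formal fibre is geometrically reduced
    have h0 : IsReduced (AlgebraicClosure (⊥ : Ideal A).ResidueField ⊗[A] EGA4.Cpl A) :=
      (Groth.Agent.S2714.isGeometricallyReduced_tensor_iff _ _).mp (hgr ⊥)
    have hinjAC : Function.Injective
        (algebraMap A (AlgebraicClosure (⊥ : Ideal A).ResidueField)) := by
      rw [IsScalarTower.algebraMap_eq A (⊥ : Ideal A).ResidueField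
        (AlgebraicClosure (⊥ : Ideal A).ResidueField)]
      exact (algebraMap (⊥ : Ideal A).ResidueField
        (AlgebraicClosure (⊥ : Ideal A).ResidueField)).injective.comp
        (IsFractionRing.injective A (⊥ : Ideal A).ResidueField)
    letI algKAC : Algebra K (AlgebraicClosure (⊥ : Ideal A).ResidueField) :=
      (IsFractionRing.lift hinjAC).toAlgebra
    haveI : IsScalarTower A K (AlgebraicClosure (⊥ : Ideal A).ResidueField) :=
      IsScalarTower.of_algebraMap_eq (fun a => (IsFractionRing.lift_algebraMap hinjAC a).symm)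
    let j : AlgebraicClosure K →ₐ[K] AlgebraicClosure (⊥ : Ideal A).ResidueField :=
      IsAlgClosed.lift
    have hj : Function.Injective (j.restrictScalars A) := j.injective
    have h1 : IsReduced (AlgebraicClosure K ⊗[A] EGA4.Cpl A) := by
      let G : AlgebraicClosure K ⊗[A] EGA4.Cpl A →ₐ[A]
          AlgebraicClosure (⊥ : Ideal A).ResidueField ⊗[A] EGA4.Cpl A :=
        Algebra.TensorProduct.map (j.restrictScalars A) (AlgHom.id A (EGA4.Cpl A))
      have hG : Function.Injective G :=
        Module.Flat.rTensor_preserves_injective_linearMap (M := EGA4.Cpl A)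
          (j.restrictScalars A).toLinearMap hj
      exact isReduced_of_injective G hG
    have h2 : IsReduced (AlgebraicClosure K ⊗[A] L) :=
      Groth.Agent.S2714.isReduced_tensor_of_isLocalization _ (EGA4.Cpl A) L
        (nonZeroDivisors (EGA4.Cpl A)) h1
    rw [Algebra.isGeometricallyReduced_field_iff]
    exact isReduced_of_injective
      (IsLocalization.algebraTensorEquiv (nonZeroDivisors A) K (AlgebraicClosure K) L)
      (IsLocalization.algebraTensorEquiv (nonZeroDivisors A) K (AlgebraicClosure K) L).injective
  · intro x hx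
    by_contra hxK
    have hxA : IsAlgebraic A x := (IsFractionRing.isAlgebraic_iff A K L).mpr hx
    obtain ⟨a, ha0, hay⟩ := hxA.exists_integral_multiple
    have hyK : a • x ∉ Set.range (algebraMap K L) := by
      rintro ⟨c, hc⟩
      apply hxK
      have ha' : algebraMap A K a ≠ 0 := by
        intro h0
        exact ha0 (IsFractionRing.injective A K (by rw [h0, map_zero]))
      refine ⟨c / algebraMap A K a, ?_⟩
      rw [map_div₀, hc, Algebra.smul_def, ← IsScalarTower.algebraMap_apply A K L]
      have ha'' : algebraMap A L a ≠ 0 := by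
        intro h0
        exact ha0 (hinjAL (by rw [h0, map_zero]))
      field_simp
    set y := a • x with hy
    have hyintK : IsIntegral K y := hay.tower_top
    let K' : IntermediateField K L := IntermediateField.adjoin K {y}
    haveI hfd : FiniteDimensional K K' := IntermediateField.adjoin.finiteDimensional hyintK
    let yK' : K' := ⟨y, IntermediateField.mem_adjoin_simple_self K y⟩
    have hyK'int : IsIntegral A yK' := by
      have : IsIntegral A ((K'.val.restrictScalars A) yK') := hay
      exact (isIntegral_algHom_iff (K'.val.restrictScalars A) K'.val.injective).mp this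
    let yB : integralClosure A K' := ⟨yK', hyK'int⟩
    haveI hfinB : Module.Finite A (integralClosure A K') :=
      Groth.Agent.Lib.helper13.PIns.IsN2.finite_integralClosure hN2 K K'
    haveI hicB : IsIntegrallyClosed (integralClosure A K') :=
      integralClosure.isIntegrallyClosedOfFiniteExtension K
    haveI hlocB : IsLocalRing (integralClosure A K') := by
      obtain ⟨ι, hι, Ai, hAi, hlocal, ⟨e⟩⟩ := Groth.Agent.S0499.result A (integralClosure A K')
      exact Groth.Agent.S2811.isLocalRing_of_ringEquiv_pi Ai hlocal e
    let g : integralClosure A K' →ₐ[A] L :=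
      (K'.val.restrictScalars A).comp (integralClosure A K').val
    have hg : Function.Injective g :=
      K'.val.injective.comp Subtype.val_injective
    have hinjB : Function.Injective (algebraMap A (integralClosure A K')) := by
      intro b c hbc
      apply hinjAL
      have := congrArg g hbc
      simpa using this
    haveI hD := isDomain_tensor_of_finite_normal A h (integralClosure A K') hinjB
    let ν : EGA4.Cpl A ⊗[A] (integralClosure A K') →ₐ[EGA4.Cpl A] L :=
      Algebra.TensorProduct.lift (Algebra.ofId _ _) g (fun _ _ => Commute.all _ _)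
    have hν : Function.Injective ν := by
      haveI : Algebra.IsIntegral (EGA4.Cpl A) (EGA4.Cpl A ⊗[A] (integralClosure A K')) :=
        Algebra.IsIntegral.of_finite _ _
      have hker : RingHom.ker ν.toRingHom = ⊥ := by
        apply Ideal.eq_bot_of_comap_eq_bot (R := EGA4.Cpl A)
        rw [RingHom.comap_ker]
        have : ν.toRingHom.comp (algebraMap (EGA4.Cpl A)
            (EGA4.Cpl A ⊗[A] (integralClosure A K'))) = algebraMap (EGA4.Cpl A) L :=
          ν.comp_algebraMap
        rw [this]
        exact (RingHom.injective_iff_ker_eq_bot _).mp hinjCL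
      exact (RingHom.injective_iff_ker_eq_bot ν.toRingHom).mpr hker
    obtain ⟨⟨u, v⟩, huv⟩ := IsLocalization.surj (nonZeroDivisors (EGA4.Cpl A)) y
    have hv0 : (v : EGA4.Cpl A) ≠ 0 := nonZeroDivisors.coe_ne_zero v
    have hτ : (u ⊗ₜ[A] (1 : integralClosure A K') : EGA4.Cpl A ⊗[A] (integralClosure A K')) =
        (v : EGA4.Cpl A) ⊗ₜ[A] yB := by
      apply hν
      have e1 : ν (u ⊗ₜ[A] (1 : integralClosure A K')) = algebraMap (EGA4.Cpl A) L u := by
        simp [ν, Algebra.ofId_apply]
      have e2 : ν ((v : EGA4.Cpl A) ⊗ₜ[A] yB) = algebraMap (EGA4.Cpl A) L v * y := by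
        simp [ν, Algebra.ofId_apply, g, yB, yK']
      rw [e1, e2, ← huv, mul_comm]
    let ι : A →ₗ[A] (integralClosure A K') := Algebra.linearMap A _
    let π : (integralClosure A K') →ₗ[A] ((integralClosure A K') ⧸ LinearMap.range ι) :=
      (LinearMap.range ι).mkQ
    let ψ : A →ₗ[A] ((integralClosure A K') ⧸ LinearMap.range ι) :=
      π.comp (LinearMap.toSpanSingleton A _ yB)
    have hψ : Function.Injective ψ := by
      rw [injective_iff_map_eq_zero]
      intro b hb
      by_contra hb0
      have h1 : b • yB ∈ LinearMap.range ι := by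
        have h0 : π (b • yB) = 0 := hb
        rwa [Submodule.mkQ_apply, Submodule.Quotient.mk_eq_zero] at h0
      obtain ⟨c, hc⟩ := h1
      apply hyK
      have hb' : algebraMap A K b ≠ 0 := by
        intro h0
        exact hb0 (IsFractionRing.injective A K (by rw [h0, map_zero]))
      have hb'' : algebraMap A L b ≠ 0 := by
        intro h0
        exact hb0 (hinjAL (by rw [h0, map_zero]))
      refine ⟨algebraMap A K c / algebraMap A K b, ?_⟩
      have h2 := congrArg g hc
      have h3 : g (b • yB) = algebraMap A L b * y := by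
        rw [map_smul, Algebra.smul_def]
        rfl
      have h4 : g (ι c) = algebraMap A L c := by
        simp [ι]
      rw [h3, h4] at h2
      rw [map_div₀, ← IsScalarTower.algebraMap_apply A K L, ← IsScalarTower.algebraMap_apply A K L,
        h2]
      field_simp
    have h1 : (ψ.lTensor (EGA4.Cpl A)) ((v : EGA4.Cpl A) ⊗ₜ[A] (1 : A)) = 0 := by
      have e1 : (ψ.lTensor (EGA4.Cpl A)) ((v : EGA4.Cpl A) ⊗ₜ[A] (1 : A)) =
          (π.lTensor (EGA4.Cpl A)) ((v : EGA4.Cpl A) ⊗ₜ[A] yB) := by
        simp [ψ]
      rw [e1, ← hτ]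
      have : π 1 = 0 := by
        simp only [π, Submodule.mkQ_apply, Submodule.Quotient.mk_eq_zero]
        exact ⟨1, by simp [ι]⟩
      simp [this]
    have h2 : Function.Injective (ψ.lTensor (EGA4.Cpl A)) :=
      Module.Flat.lTensor_preserves_injective_linearMap ψ hψ
    have h3 : ((v : EGA4.Cpl A) ⊗ₜ[A] (1 : A)) = 0 := h2 (by rw [h1, map_zero])
    have h4 : (v : EGA4.Cpl A) = 0 := by
      have := congrArg (TensorProduct.rid A (EGA4.Cpl A)) h3
      simp at this
    exact hv0 h4

end Groth.Agent.S5056
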