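import Groth.Statements.S3831
import Mathlib
import Groth.Agent.S5056
import Groth.Agent.Lib.Helper3.AlgClosedTensor

set_option autoImplicit false
set_option linter.style.haveILetI false
universe u
open Hensel18

namespace Groth.Agent.S3831

open TensorProduct IsLocalRing

/-- Two elements of a tensor product of algebras lie in the base change of a common finitely
generated subalgebra. -/
lemma exists_fg_and_mem_baseChange₂ {R A B : Type*} [CommSemiring R]
    [CommSemiring A] [Semiring B] [Algebra R A] [Algebra R B] (x y : A ⊗[R] B) :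
    ∃ C : Subalgebra R B, C.FG ∧ x ∈ C.baseChange A ∧ y ∈ C.baseChange A := by
  obtain ⟨S, hS⟩ := TensorProduct.exists_finset x
  obtain ⟨T, hT⟩ := TensorProduct.exists_finset y
  classical
  refine ⟨Algebra.adjoin R ((S ∪ T).image fun j ↦ j.2), Subalgebra.fg_adjoin_finset _, ?_, ?_⟩
  · exact hS ▸ Subalgebra.sum_mem _ fun s hs ↦ (Subalgebra.tmul_mem_baseChange
      (Algebra.subset_adjoin (Finset.mem_image_of_mem _ (Finset.mem_union_left _ hs))) s.1)
  · exact hT ▸ Subalgebra.sum_mem _ fun s hs ↦ (Subalgebra.tmul_mem_baseChange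
      (Algebra.subset_adjoin (Finset.mem_image_of_mem _ (Finset.mem_union_right _ hs))) s.1)

/-- If `C ⊗[R] B` has no zero divisors for all finitely generated subalgebras `B` of `A` and `C` is
flat, then `C ⊗[R] A` has no zero divisors. -/
theorem noZeroDivisors_tensorProduct_of_flat_of_forall_fg {R C A : Type*}
    [CommRing R] [CommRing C] [CommRing A] [Algebra R A] [Algebra R C] [Module.Flat R C]
    (h : ∀ B : Subalgebra R A, B.FG → NoZeroDivisors (C ⊗[R] B)) :
    NoZeroDivisors (C ⊗[R] A) := by
  refine ⟨fun {x y} hxy => ?_⟩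
  obtain ⟨D, hD, hx, hy⟩ := exists_fg_and_mem_baseChange₂ x y
  have h_inj : Function.Injective
      (Algebra.TensorProduct.map (AlgHom.id C C) D.val) :=
    Module.Flat.lTensor_preserves_injective_linearMap _ Subtype.val_injective
  obtain ⟨x', rfl⟩ := hx
  obtain ⟨y', rfl⟩ := hy
  haveI := h D hD
  have h0 : x' * y' = 0 := h_inj (by rw [map_mul, map_zero]; exact hxy)
  rcases mul_eq_zero.mp h0 with h | h
  · left; rw [h, map_zero]
  · right; rw [h, map_zero]

/-- If all base changes of a `k`-algebra `F` to finite field extensions are domains, then so is the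
base change to the algebraic closure. -/
theorem isDomain_algebraicClosure_tensor (k F : Type u) [Field k] [CommRing F] [Algebra k F]
    (h : ∀ (K : Type u) [Field K] [Algebra k K], Module.Finite k K → IsDomain (K ⊗[k] F)) :
    IsDomain (AlgebraicClosure k ⊗[k] F) := by
  haveI hkF : IsDomain (k ⊗[k] F) := h k inferInstance
  haveI hF : Nontrivial F := (Algebra.TensorProduct.lid k F).injective.nontrivial
  have h1 : NoZeroDivisors (F ⊗[k] AlgebraicClosure k) := by
    apply noZeroDivisors_tensorProduct_of_flat_of_forall_fg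
    intro K' hK'
    have hfield : IsField K' := Subalgebra.isField_of_algebraic K'
    letI : Field K' := hfield.toField
    haveI : Algebra.FiniteType k K' := (Subalgebra.fg_iff_finiteType K').mp hK'
    haveI : Algebra.IsAlgebraic k K' :=
      Algebra.IsAlgebraic.of_injective K'.val Subtype.val_injective
    haveI : Algebra.IsIntegral k K' := Algebra.IsAlgebraic.isIntegral
    haveI hfin : Module.Finite k K' := Algebra.IsIntegral.finite
    haveI := h K' hfin
    exact (Algebra.TensorProduct.comm k F K').injective.noZeroDivisors _ (map_zero _) (map_mul _)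
  haveI : NoZeroDivisors (AlgebraicClosure k ⊗[k] F) :=
    (Algebra.TensorProduct.comm k (AlgebraicClosure k) F).injective.noZeroDivisors _
      (map_zero _) (map_mul _)
  haveI : Nontrivial (AlgebraicClosure k ⊗[k] F) :=
    (Algebra.TensorProduct.includeLeft_injective (S := k) (R := k) (A := AlgebraicClosure k)
      (B := F) (algebraMap k F).injective).nontrivial
  exact NoZeroDivisors.to_isDomain _

/-- If all base changes of a `k`-algebra `F` to finite field extensions are domains, then so are
the base changes to arbitrary field extensions. -/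
theorem isDomain_tensor_of_forall_finite (k F : Type u) [Field k] [CommRing F] [Algebra k F]
    (h : ∀ (K : Type u) [Field K] [Algebra k K], Module.Finite k K → IsDomain (K ⊗[k] F))
    (K : Type u) [Field K] [Algebra k K] : IsDomain (K ⊗[k] F) := by
  haveI hkF : IsDomain (k ⊗[k] F) := h k inferInstance
  haveI hF : Nontrivial F := (Algebra.TensorProduct.lid k F).injective.nontrivial
  haveI hbar : IsDomain (AlgebraicClosure k ⊗[k] F) := isDomain_algebraicClosure_tensor k F h
  let j : AlgebraicClosure k →ₐ[k] AlgebraicClosure K := IsAlgClosed.lift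
  letI algj : Algebra (AlgebraicClosure k) (AlgebraicClosure K) := j.toRingHom.toAlgebra
  haveI : IsScalarTower k (AlgebraicClosure k) (AlgebraicClosure K) :=
    IsScalarTower.of_algebraMap_eq (fun a => (j.commutes a).symm)
  haveI hΩL : IsDomain (AlgebraicClosure K ⊗[AlgebraicClosure k]
      FractionRing (AlgebraicClosure k ⊗[k] F)) :=
    Groth.Agent.Lib.helper3.AlgClosedTensor.isDomain_tensor (AlgebraicClosure k)
      (AlgebraicClosure K) (FractionRing (AlgebraicClosure k ⊗[k] F))
  let ι : (AlgebraicClosure k ⊗[k] F) →ₐ[AlgebraicClosure k]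
      FractionRing (AlgebraicClosure k ⊗[k] F) := IsScalarTower.toAlgHom _ _ _
  have hι : Function.Injective ι := IsFractionRing.injective _ _
  have h1 : Function.Injective (Algebra.TensorProduct.map
      (AlgHom.id (AlgebraicClosure k) (AlgebraicClosure K)) ι) :=
    Module.Flat.lTensor_preserves_injective_linearMap _ hι
  haveI h2 : NoZeroDivisors (AlgebraicClosure K ⊗[AlgebraicClosure k]
      (AlgebraicClosure k ⊗[k] F)) :=
    h1.noZeroDivisors _ (map_zero _) (map_mul _)
  haveI h3 : NoZeroDivisors (AlgebraicClosure K ⊗[k] F) :=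
    (Algebra.TensorProduct.cancelBaseChange k (AlgebraicClosure k) (AlgebraicClosure k)
      (AlgebraicClosure K) F).symm.injective.noZeroDivisors _ (map_zero _) (map_mul _)
  let i : K →ₐ[k] AlgebraicClosure K := Algebra.ofId _ _ |>.restrictScalars k
  have hi : Function.Injective i := (algebraMap K (AlgebraicClosure K)).injective
  have h4 : Function.Injective (Algebra.TensorProduct.map i (AlgHom.id k F)) :=
    Module.Flat.rTensor_preserves_injective_linearMap (M := F) i.toLinearMap hi
  haveI h5 : NoZeroDivisors (K ⊗[k] F) := h4.noZeroDivisors _ (map_zero _) (map_mul _)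
  haveI : Nontrivial (K ⊗[k] F) :=
    (Algebra.TensorProduct.includeLeft_injective (S := k) (R := k) (A := K)
      (B := F) (algebraMap k F).injective).nontrivial
  exact NoZeroDivisors.to_isDomain _

/-- Let `A` be a Noetherian local ring with geometrically normal formal fibres and `B` a finite
`A`-algebra which is a local normal domain. Then `Â ⊗[A] B` is a domain. -/
theorem isDomain_tensor_of_finite_normal' (A : Type u) [CommRing A] [IsNoetherianRing A]
    [IsLocalRing A] (h : EGA4.HasGeomNormalFormalFibres A) (B : Type u) [CommRing B] [IsDomain B]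
    [IsIntegrallyClosed B] [IsLocalRing B] [Algebra A B] [Module.Finite A B] :
    IsDomain (EGA4.Cpl A ⊗[A] B) := by
  classical
  haveI hNc : IsNoetherianRing (EGA4.Cpl A) :=
    Groth.Agent.S0542.result A _ (maximalIdeal A).fg_of_isNoetherianRing
  haveI hff : Module.FaithfullyFlat A (EGA4.Cpl A) := Module.FaithfullyFlat.of_flat_of_isLocalHom
  haveI hNoeth' : IsNoetherianRing B := IsNoetherianRing.of_finite A _
  have hnorm' : EGA4.IsNormalRing B := by
    intro p hp
    exact ⟨inferInstance, isIntegrallyClosed_of_isLocalization (Localization.AtPrime p)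
      p.primeCompl p.primeCompl_le_nonZeroDivisors⟩
  have hNH : EGA4.IsNormalHom B (B ⊗[A] EGA4.Cpl A) :=
    (Groth.Agent.S4749.result A (EGA4.Cpl A) B (Or.inr inferInstance)).1 ⟨inferInstance, h⟩
  haveI hNT' : IsNoetherianRing (EGA4.Cpl A ⊗[A] B) := IsNoetherianRing.of_finite (EGA4.Cpl A) _
  haveI hNT : IsNoetherianRing (B ⊗[A] EGA4.Cpl A) :=
    isNoetherianRing_of_ringEquiv _ (Algebra.TensorProduct.comm A (EGA4.Cpl A) B).toRingEquiv
  have hTn : EGA4.IsNormalRing (B ⊗[A] EGA4.Cpl A) :=
    Groth.Agent.S2811.isNormalRing_of_isNormalHom _ _ hNH hnorm'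
  have hTn' : EGA4.IsNormalRing (EGA4.Cpl A ⊗[A] B) :=
    Groth.Agent.S2644.isNormalRing_of_ringEquiv
      (Algebra.TensorProduct.comm A B (EGA4.Cpl A)).toRingEquiv hTn
  have hinj : Function.Injective (TensorProduct.mk A (EGA4.Cpl A) B 1) :=
    Module.FaithfullyFlat.tensorProduct_mk_injective B
  haveI : Nontrivial (EGA4.Cpl A ⊗[A] B) := hinj.nontrivial
  haveI hTloc : IsLocalRing (EGA4.Cpl A ⊗[A] B) := Groth.Agent.S2811.isLocalRing_tensor A B
  obtain ⟨hdom, -⟩ := hTn' (maximalIdeal (EGA4.Cpl A ⊗[A] B))
  have hunits : (maximalIdeal (EGA4.Cpl A ⊗[A] B)).primeCompl ≤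
      IsUnit.submonoid (EGA4.Cpl A ⊗[A] B) :=
    fun x ↦ by simpa using! fun a ↦ a
  let e : (EGA4.Cpl A ⊗[A] B) ≃ₐ[EGA4.Cpl A ⊗[A] B]
      Localization.AtPrime (maximalIdeal (EGA4.Cpl A ⊗[A] B)) :=
    IsLocalization.atUnits _ (maximalIdeal (EGA4.Cpl A ⊗[A] B)).primeCompl hunits
  exact e.toRingEquiv.injective.isDomain e.toRingEquiv.toRingHom

/-- If `C` is a faithfully flat `A`-algebra, `B` an `A`-algebra which is a domain with fraction
field `K`, and `C ⊗[A] B` is a domain, then `K ⊗[A] C` is a domain. -/
theorem isDomain_tensor_fractionRing (A : Type u) [CommRing A] (C : Type u) [CommRing C]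
    [Algebra A C] [Module.FaithfullyFlat A C] (B : Type u) [CommRing B] [IsDomain B] [Algebra A B]
    (K : Type u) [Field K] [Algebra B K] [IsFractionRing B K] [Algebra A K] [IsScalarTower A B K]
    (hD : IsDomain (C ⊗[A] B)) : IsDomain (K ⊗[A] C) := by
  haveI hD' : IsDomain (B ⊗[A] C) :=
    (Algebra.TensorProduct.comm A B C).toRingEquiv.injective.isDomain
      (Algebra.TensorProduct.comm A B C).toRingEquiv.toRingHom
  have hinj : Function.Injective (TensorProduct.mk A C B 1) :=
    Module.FaithfullyFlat.tensorProduct_mk_injective B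
  have hinjB : Function.Injective (algebraMap B (B ⊗[A] C)) := by
    intro b b' hbb
    apply hinj
    have := congrArg (Algebra.TensorProduct.comm A B C) hbb
    simpa [Algebra.TensorProduct.algebraMap_apply] using this
  haveI hloc : IsLocalization (Algebra.algebraMapSubmonoid (B ⊗[A] C) (nonZeroDivisors B))
      ((B ⊗[A] C) ⊗[B] K) := IsLocalization.tensor K (nonZeroDivisors B)
  have hM : Algebra.algebraMapSubmonoid (B ⊗[A] C) (nonZeroDivisors B) ≤
      nonZeroDivisors (B ⊗[A] C) := by
    rintro _ ⟨b, hb, rfl⟩
    apply mem_nonZeroDivisors_of_ne_zero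
    intro h0
    exact nonZeroDivisors.ne_zero hb (hinjB (by rw [h0, map_zero]))
  haveI h1 : IsDomain ((B ⊗[A] C) ⊗[B] K) :=
    IsLocalization.isDomain_of_le_nonZeroDivisors _ hM
  haveI h2 : IsDomain (K ⊗[B] (B ⊗[A] C)) :=
    (Algebra.TensorProduct.comm B K (B ⊗[A] C)).toRingEquiv.injective.isDomain
      (Algebra.TensorProduct.comm B K (B ⊗[A] C)).toRingEquiv.toRingHom
  exact (Algebra.TensorProduct.cancelBaseChange A B B K C).symm.toRingEquiv.injective.isDomain
    (Algebra.TensorProduct.cancelBaseChange A B B K C).symm.toRingEquiv.toRingHom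

/-- The finite case: for a finite field extension `K` of `κ(p)`, `K ⊗ (formal fibre at p)` is a
domain. -/
theorem isDomain_tensor_formalFibre_of_finite (A : Type u) [CommRing A] [HenselianLocalRing A]
    [IsNoetherianRing A] (hA : EGA4.HasGeomNormalFormalFibres A) (p : Ideal A) [p.IsPrime]
    (K : Type u) [Field K] [Algebra p.ResidueField K] (hfin : Module.Finite p.ResidueField K) :
    IsDomain (K ⊗[p.ResidueField] (EGA4.formalFibre A p)) := by
  classical
  haveI hNc : IsNoetherianRing (EGA4.Cpl A) :=
    Groth.Agent.S0542.result A _ (maximalIdeal A).fg_of_isNoetherianRing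
  haveI hff : Module.FaithfullyFlat A (EGA4.Cpl A) := Module.FaithfullyFlat.of_flat_of_isLocalHom
  have hgr : EGA4.HasGeomReducedFormalFibres A := by
    intro q hq
    apply Groth.Agent.Lib.Helper24.GeomReducedFinite.isGeometricallyReduced_of_forall_finite
    intro K' _ _ hfin'
    have hnor := hA q K' hfin'
    apply isReduced_ofLocalizationMaximal
    intro P hP
    haveI : P.IsPrime := hP.isPrime
    haveI := (hnor P).1
    infer_instance
  have hNag := Groth.Agent.S2657.result A hgr
  have hN2 : CAlg.IsN2 (A ⧸ p) := hNag.2 p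
  letI algRK : Algebra (A ⧸ p) K :=
    ((algebraMap p.ResidueField K).comp (algebraMap (A ⧸ p) p.ResidueField)).toAlgebra
  haveI : IsScalarTower (A ⧸ p) p.ResidueField K := IsScalarTower.of_algebraMap_eq (fun _ => rfl)
  letI algAK : Algebra A K :=
    ((algebraMap p.ResidueField K).comp (algebraMap A p.ResidueField)).toAlgebra
  haveI : IsScalarTower A p.ResidueField K := IsScalarTower.of_algebraMap_eq (fun _ => rfl)
  haveI : IsScalarTower A (A ⧸ p) K := IsScalarTower.of_algebraMap_eq (fun a => by
    change algebraMap p.ResidueField K (algebraMap A p.ResidueField a) =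
      algebraMap p.ResidueField K (algebraMap (A ⧸ p) p.ResidueField (algebraMap A (A ⧸ p) a))
    rw [← IsScalarTower.algebraMap_apply A (A ⧸ p) p.ResidueField])
  haveI hfinB' : Module.Finite (A ⧸ p) (integralClosure (A ⧸ p) K) :=
    Groth.Agent.Lib.helper13.PIns.IsN2.finite_integralClosure hN2 p.ResidueField K
  haveI hfinB : Module.Finite A (integralClosure (A ⧸ p) K) := Module.Finite.trans (A ⧸ p) _
  haveI hicB : IsIntegrallyClosed (integralClosure (A ⧸ p) K) :=
    integralClosure.isIntegrallyClosedOfFiniteExtension p.ResidueField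
  haveI hlocB : IsLocalRing (integralClosure (A ⧸ p) K) := by
    obtain ⟨ι, hι, Ai, hAi, hlocal, ⟨e⟩⟩ :=
      Groth.Agent.S0499.result A (integralClosure (A ⧸ p) K)
    exact Groth.Agent.S2811.isLocalRing_of_ringEquiv_pi Ai hlocal e
  haveI hfrac : IsFractionRing (integralClosure (A ⧸ p) K) K :=
    integralClosure.isFractionRing_of_finite_extension p.ResidueField K
  have hD : IsDomain (EGA4.Cpl A ⊗[A] (integralClosure (A ⧸ p) K)) :=
    isDomain_tensor_of_finite_normal' A hA (integralClosure (A ⧸ p) K)
  haveI h1 : IsDomain (K ⊗[A] EGA4.Cpl A) :=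
    isDomain_tensor_fractionRing A (EGA4.Cpl A) (integralClosure (A ⧸ p) K) K hD
  exact (Algebra.TensorProduct.cancelBaseChange A p.ResidueField p.ResidueField K
      (EGA4.Cpl A)).toRingEquiv.injective.isDomain
    (Algebra.TensorProduct.cancelBaseChange A p.ResidueField p.ResidueField K
      (EGA4.Cpl A)).toRingEquiv.toRingHom

/-- Let A be a henselian Noetherian local ring whose formal fibres are geometrically normal. Then the
formal fibres of A are geometrically integral: for every prime p of A and every field extension K of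
the residue field k(p), the ring K ⊗_{k(p)} (k(p) ⊗_A Â) is an integral domain. -/
theorem result (A : Type u) [CommRing A] [HenselianLocalRing A]
    [IsNoetherianRing A] (hA : EGA4.HasGeomNormalFormalFibres A) (p : Ideal A) [p.IsPrime]
    (K : Type u) [Field K] [Algebra p.ResidueField K] :
    IsDomain (TensorProduct p.ResidueField K (EGA4.formalFibre A p)) := by
  exact isDomain_tensor_of_forall_finite p.ResidueField (EGA4.formalFibre A p)
    (fun K' _ _ hfin => isDomain_tensor_formalFibre_of_finite A hA p K' hfin) K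

end Groth.Agent.S3831
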