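import Groth.Statements.S13200
import Mathlib
import Groth.Agent.S2812
import Groth.Agent.S0600

set_option autoImplicit false
set_option linter.style.haveILetI false
universe u
open Hensel TensorProduct

namespace Groth.Agent.S13200

/-- Let R be an excellent local ring which is strictly henselian (henselian with separably closed
residue field), and let R^ denote its completion at the maximal ideal. An element Δ of R is a prime
element of R exactly when its image in R^ is a prime element of R^. -/
theorem result
    (R : Type u) [CommRing R] [HenselianLocalRing R] [IsSepClosed (IsLocalRing.ResidueField R)]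
    (hR : EGA4.IsExcellent R) (Δ : R) :
    Prime Δ ↔ Prime (algebraMap R (AdicCompletion (IsLocalRing.maximalIdeal R) R) Δ) := by
  classical
  obtain ⟨hN, -, hG, -⟩ := hR
  haveI := hN
  have hreg : CAlg.IsRegularHom R (EGA4.Cpl R) :=
    Groth.Agent.S0600.result R hG (IsLocalRing.maximalIdeal R)
  have hgn : EGA4.HasGeomNormalFormalFibres R := by
    intro p hp K _ _ hfin
    haveI := ((hreg.2 p).2 K hfin)
    exact Groth.Agent.Lib.Helper24.FormalFibreDescent.isNormalRing_of_isRegularRing _
  haveI hff : Module.FaithfullyFlat R (EGA4.Cpl R) := Module.FaithfullyFlat.of_flat_of_isLocalHom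
  have hinj : Function.Injective (algebraMap R (EGA4.Cpl R)) :=
    FaithfulSMul.algebraMap_injective _ _
  have key : ∀ (p : Ideal R) [p.IsPrime], (p.map (algebraMap R (EGA4.Cpl R))).IsPrime := by
    intro p _
    haveI hD : IsDomain (EGA4.Cpl R ⊗[R] p.ResidueField) :=
      Groth.Agent.S2812.isDomain_cpl_tensor_field R hgn p.ResidueField
    let ι : (R ⧸ p) →ₐ[R] p.ResidueField := IsScalarTower.toAlgHom R _ _
    have hι : Function.Injective ι := IsFractionRing.injective (R ⧸ p) p.ResidueField
    have hinj2 : Function.Injective (Algebra.TensorProduct.map (AlgHom.id R (EGA4.Cpl R)) ι) :=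
      Module.Flat.lTensor_preserves_injective_linearMap ι.toLinearMap hι
    haveI hD2 : IsDomain (EGA4.Cpl R ⊗[R] (R ⧸ p)) := by
      haveI : Nontrivial (EGA4.Cpl R ⊗[R] (R ⧸ p)) :=
        (Module.FaithfullyFlat.tensorProduct_mk_injective (A := R) (B := EGA4.Cpl R)
          (R ⧸ p)).nontrivial
      haveI : NoZeroDivisors (EGA4.Cpl R ⊗[R] (R ⧸ p)) :=
        hinj2.noZeroDivisors _ (map_zero _) (map_mul _)
      exact NoZeroDivisors.to_isDomain _
    haveI hD3 : IsDomain (EGA4.Cpl R ⧸ p.map (algebraMap R (EGA4.Cpl R))) :=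
      (Algebra.TensorProduct.quotIdealMapEquivTensorQuot (EGA4.Cpl R)
        p).toRingEquiv.injective.isDomain
        (Algebra.TensorProduct.quotIdealMapEquivTensorQuot (EGA4.Cpl R) p).toRingEquiv.toRingHom
    exact (Ideal.Quotient.isDomain_iff_prime _).mp hD3
  constructor
  · intro hΔ
    have h0 : Δ ≠ 0 := hΔ.ne_zero
    haveI hp : (Ideal.span {Δ}).IsPrime := (Ideal.span_singleton_prime h0).mpr hΔ
    have h1 := key (Ideal.span {Δ})
    rw [Ideal.map_span, Set.image_singleton] at h1
    have h0' : algebraMap R (EGA4.Cpl R) Δ ≠ 0 := fun h => h0 (hinj (by rw [h, map_zero]))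
    exact (Ideal.span_singleton_prime h0').mp h1
  · intro hΔ
    have h0' := hΔ.ne_zero
    have h0 : Δ ≠ 0 := fun h => h0' (by rw [h, map_zero])
    rw [← Ideal.span_singleton_prime h0]
    haveI h1 : (Ideal.span {algebraMap R (EGA4.Cpl R) Δ}).IsPrime :=
      (Ideal.span_singleton_prime h0').mpr hΔ
    have h2 : (Ideal.span {Δ}) = Ideal.comap (algebraMap R (EGA4.Cpl R))
        (Ideal.span {algebraMap R (EGA4.Cpl R) Δ}) := by
      rw [← Set.image_singleton, ← Ideal.map_span, Ideal.comap_map_eq_self_of_faithfullyFlat]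
    rw [h2]
    exact Ideal.comap_isPrime _ _

end Groth.Agent.S13200
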