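import Groth.Statements.S13202
-- import your own Groth.Agent.* helpers here
import Groth.Agent.Lib.Helper9.SHPrime1

set_option backward.isDefEq.respectTransparency false
set_option linter.style.haveILetI false

set_option autoImplicit false
universe u
open Hensel

namespace Groth.Agent.S13202

/-- Let R be a Noetherian regular ring (every localization at a prime ideal is a regular local ring) and
Δ ∈ R. The element Δ is étale-universally prime — meaning that for every prime ideal p of R
containing Δ and every strict henselization T of R_p, the image of Δ in T is a prime element —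
exactly when for every smooth R-algebra R', every prime ideal q of R' and every strict henselization
T of R'_q, the image of Δ in T is either invertible or a prime element. (Smooth R-algebras and their
strict henselizations are taken in the universe of R.) -/
theorem result
    (R : Type u) [CommRing R] [IsNoetherianRing R]
    (hreg : ∀ (p : Ideal R) [p.IsPrime], IsRegularLocalRing (Localization.AtPrime p)) (Δ : R) :
    (∀ (p : Ideal R) [p.IsPrime], Δ ∈ p →
        ∀ (T : Type u) [CommRing T] [IsLocalRing T] [Algebra (Localization.AtPrime p) T]
          [IsLocalHom (algebraMap (Localization.AtPrime p) T)]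
          [Hensel.IsStrictHenselization (Localization.AtPrime p) T],
          Prime (algebraMap (Localization.AtPrime p) T (algebraMap R (Localization.AtPrime p) Δ))) ↔
    (∀ (R' : Type u) [CommRing R'] [Algebra R R'] [Algebra.Smooth R R'] (q : Ideal R') [q.IsPrime]
        (T : Type u) [CommRing T] [IsLocalRing T] [Algebra (Localization.AtPrime q) T]
          [IsLocalHom (algebraMap (Localization.AtPrime q) T)]
          [Hensel.IsStrictHenselization (Localization.AtPrime q) T],
        IsUnit (algebraMap (Localization.AtPrime q) T (algebraMap R' (Localization.AtPrime q) (algebraMap R R' Δ))) ∨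
          Prime (algebraMap (Localization.AtPrime q) T (algebraMap R' (Localization.AtPrime q) (algebraMap R R' Δ)))) := by
  classical
  constructor
  · intro h R' _ _ _ q _ T _ _ _ _ _
    by_cases hΔq : Δ ∈ q.under R
    · right
      obtain ⟨I₀, hI₀⟩ : ∃ I₀ : Ideal R, I₀ = Ideal.span {Δ} := ⟨_, rfl⟩
      have hI₀le : I₀ ≤ q.under R := hI₀ ▸ (Ideal.span_singleton_le_iff_mem _).2 hΔq
      have h0 := h (q.under R) hΔq
        (Groth.Agent.Lib.Helper24.StrictHens.SH (Localization.AtPrime (q.under R)))
      -- the ideal generated by `Δ` in the strict henselization of `R_p` is prime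
      have hK₀ : ((I₀.map (algebraMap R (Localization.AtPrime (q.under R)))).map
          (algebraMap (Localization.AtPrime (q.under R))
            (Groth.Agent.Lib.Helper24.StrictHens.SH (Localization.AtPrime (q.under R))))).IsPrime := by
        rw [hI₀, Ideal.map_span, Ideal.map_span, Set.image_singleton, Set.image_singleton]
        exact (Ideal.span_singleton_prime h0.ne_zero).2 h0
      have hne₀ : I₀.map (algebraMap R (Localization.AtPrime (q.under R))) ≠ ⊤ :=
        Groth.Agent.Lib.helper9.SHPrime.map_ne_top_of_le I₀ (q.under R) hI₀le
      haveI : Nontrivial (Localization.AtPrime (q.under R) ⧸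
          I₀.map (algebraMap R (Localization.AtPrime (q.under R)))) :=
        Ideal.Quotient.nontrivial_iff.2 hne₀
      haveI : IsLocalRing (Localization.AtPrime (q.under R) ⧸
          I₀.map (algebraMap R (Localization.AtPrime (q.under R)))) :=
        IsLocalRing.of_surjective' (Ideal.Quotient.mk _) Ideal.Quotient.mk_surjective
      have h1 := (Groth.Agent.Lib.helper9.SHPrime.map_isPrime_iff
        (Localization.AtPrime (q.under R))
        (Groth.Agent.Lib.Helper24.StrictHens.SH (Localization.AtPrime (q.under R)))
        (I₀.map (algebraMap R (Localization.AtPrime (q.under R)))) hne₀).1 hK₀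
      have hJq : I₀.map (algebraMap R R') ≤ q := by
        rw [Ideal.map_le_iff_le_comap]
        exact hI₀le
      have hne : (I₀.map (algebraMap R R')).map (algebraMap R' (Localization.AtPrime q)) ≠ ⊤ :=
        Groth.Agent.Lib.helper9.SHPrime.map_ne_top_of_le _ q hJq
      haveI : Nontrivial (Localization.AtPrime q ⧸
          (I₀.map (algebraMap R R')).map (algebraMap R' (Localization.AtPrime q))) :=
        Ideal.Quotient.nontrivial_iff.2 hne
      haveI : IsLocalRing (Localization.AtPrime q ⧸
          (I₀.map (algebraMap R R')).map (algebraMap R' (Localization.AtPrime q))) :=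
        IsLocalRing.of_surjective' (Ideal.Quotient.mk _) Ideal.Quotient.mk_surjective
      have h2 := Groth.Agent.Lib.helper9.SHPrime.reduced_unibranch_quotient_of_smooth q I₀ hI₀le h1
      have hK := (Groth.Agent.Lib.helper9.SHPrime.map_isPrime_iff (Localization.AtPrime q) T
        ((I₀.map (algebraMap R R')).map (algebraMap R' (Localization.AtPrime q))) hne).2 h2
      rw [hI₀, Ideal.map_span, Ideal.map_span, Ideal.map_span, Set.image_singleton,
        Set.image_singleton, Set.image_singleton] at hK
      -- nonvanishing
      have hne' : algebraMap (Localization.AtPrime q) T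
          (algebraMap R' (Localization.AtPrime q) (algebraMap R R' Δ)) ≠ 0 := by
        haveI := Groth.Agent.Lib.Helper24.StrictHens.faithfullyFlat_of_isStrictHenselization
          (Localization.AtPrime q) T
        have hinjT : Function.Injective (algebraMap (Localization.AtPrime q) T) :=
          FaithfulSMul.algebraMap_injective _ _
        haveI : q.LiesOver (q.under R) := ⟨rfl⟩
        letI := Localization.AtPrime.algebraOfLiesOver (q.under R) q
        haveI := Groth.Agent.Lib.Helper24.SmoothLocalIff.faithfullyFlat_atPrime R R' q
        have hinjB : Function.Injective (algebraMap (Localization.AtPrime (q.under R))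
            (Localization.AtPrime q)) := FaithfulSMul.algebraMap_injective _ _
        have hcompat : algebraMap (Localization.AtPrime (q.under R)) (Localization.AtPrime q)
            (algebraMap R (Localization.AtPrime (q.under R)) Δ) =
            algebraMap R' (Localization.AtPrime q) (algebraMap R R' Δ) :=
          Localization.localRingHom_to_map _ _ _ _ _
        have hne₁ : algebraMap R (Localization.AtPrime (q.under R)) Δ ≠ 0 := by
          intro h0'
          apply h0.ne_zero
          rw [h0', map_zero]
        intro hz
        have hz1 := hinjT (hz.trans (map_zero _).symm)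
        rw [← hcompat] at hz1
        exact hne₁ (hinjB (hz1.trans (map_zero _).symm))
      exact (Ideal.span_singleton_prime hne').1 hK
    · left
      have h1 : algebraMap R R' Δ ∉ q := hΔq
      exact ((IsLocalization.AtPrime.isUnit_to_map_iff (Localization.AtPrime q) q _).2 h1).map _
  · intro h p _ hΔp T _ _ _ _ _
    rcases h R p T with hu | hp
    · exfalso
      have h1 : IsUnit (algebraMap R (Localization.AtPrime p) Δ) := isUnit_of_map_unit _ _ hu
      rw [IsLocalization.AtPrime.isUnit_to_map_iff (Localization.AtPrime p) p] at h1
      exact h1 hΔp
    · exact hp

end Groth.Agent.S13202
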