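import Groth.Statements.S13203
import Mathlib

set_option autoImplicit false
universe u
open CategoryTheory AlgebraicGeometry
open Neron

namespace Groth.Agent.S13203


section
open Limits
universe v₁ u₁
variable {C : Type u₁} [Category.{v₁} C] [HasPullbacks C]

lemma pb_map_left_fst {X Y : C} (f : X ⟶ Y) {A B : Over Y} (k : A ⟶ B) :
    ((Over.pullback f).map k).left ≫ pullback.fst B.hom f = pullback.fst A.hom f ≫ k.left := by
  dsimp [Over.pullback]
  exact pullback.lift_fst _ _ _

lemma pb_map_left_snd {X Y : C} (f : X ⟶ Y) {A B : Over Y} (k : A ⟶ B) :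
    ((Over.pullback f).map k).left ≫ pullback.snd B.hom f = pullback.snd A.hom f := by
  dsimp [Over.pullback]
  exact pullback.lift_snd _ _ _

theorem bij_transfer {S S' U U' : C} (g : S' ⟶ S) (j : U ⟶ S) (j' : U' ⟶ S') (g' : U' ⟶ U)
    (sq : IsPullback j' g' g j) (N : Over S) (Y' : Over S')
    (h : Function.Bijective (fun a : (Over.map g).obj Y' ⟶ N => (Over.pullback j).map a)) :
    Function.Bijective (fun f : Y' ⟶ (Over.pullback g).obj N => (Over.pullback j').map f) := by
  -- the pasted pullback square
  have hbig : IsPullback (pullback.fst Y'.hom j') (pullback.snd Y'.hom j' ≫ g') (Y'.hom ≫ g) j :=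
    (IsPullback.of_hasPullback Y'.hom j').paste_vert sq
  let θ : pullback Y'.hom j' ≅ pullback (Y'.hom ≫ g) j := hbig.isoPullback
  have hθ₁ : θ.hom ≫ pullback.fst (Y'.hom ≫ g) j = pullback.fst Y'.hom j' := hbig.isoPullback_hom_fst
  have hθ₂ : θ.hom ≫ pullback.snd (Y'.hom ≫ g) j = pullback.snd Y'.hom j' ≫ g' :=
    hbig.isoPullback_hom_snd
  -- transposition
  let toA : (Y' ⟶ (Over.pullback g).obj N) → ((Over.map g).obj Y' ⟶ N) := fun f =>
    Over.homMk (f.left ≫ pullback.fst N.hom g) (by
      have := Over.w f
      dsimp at this ⊢
      rw [Category.assoc, pullback.condition, ← Category.assoc, this])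
  have htoA : ∀ f, (toA f).left = f.left ≫ pullback.fst N.hom g := fun f => rfl
  constructor
  · intro f₁ f₂ h12
    dsimp only at h12
    have hA : toA f₁ = toA f₂ := by
      apply h.injective
      dsimp only
      ext
      apply pullback.hom_ext
      · rw [pb_map_left_fst, pb_map_left_fst]
        rw [← cancel_epi θ.hom]
        have e0 : ∀ f : Y' ⟶ (Over.pullback g).obj N,
            θ.hom ≫ pullback.fst ((Over.map g).obj Y').hom j ≫ (toA f).left =
              (((Over.pullback j').map f).left ≫ pullback.fst _ _) ≫ pullback.fst _ _ := by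
          intro f
          rw [pb_map_left_fst, htoA, Category.assoc]
          rw [← Category.assoc θ.hom]
          congr 1
        rw [e0, e0, h12]
      · rw [pb_map_left_snd, pb_map_left_snd]
    ext
    apply pullback.hom_ext
    · exact congrArg (fun a => a.left) hA
    · have h1 := Over.w f₁
      have h2 := Over.w f₂
      dsimp at h1 h2
      rw [h1, h2]
  · intro k
    dsimp only
    have hkw : k.left ≫ pullback.snd _ j' = pullback.snd Y'.hom j' := Over.w k
    -- the comparison `(g^* N) ×_{S'} U' ⟶ N ×_S U`
    let ρ : pullback ((Over.pullback g).obj N).hom j' ⟶ pullback N.hom j :=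
      pullback.lift (pullback.fst _ _ ≫ pullback.fst N.hom g) (pullback.snd _ _ ≫ g') (by
        have c1 : pullback.fst ((Over.pullback g).obj N).hom j' ≫ pullback.snd N.hom g =
            pullback.snd _ j' ≫ j' := pullback.condition
        rw [Category.assoc, pullback.condition, ← Category.assoc, c1, Category.assoc, sq.w,
          Category.assoc])
    have hρ₁ : ρ ≫ pullback.fst N.hom j = pullback.fst _ _ ≫ pullback.fst N.hom g :=
      pullback.lift_fst _ _ _
    have hρ₂ : ρ ≫ pullback.snd N.hom j = pullback.snd _ _ ≫ g' := pullback.lift_snd _ _ _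
    let b : (Over.pullback j).obj ((Over.map g).obj Y') ⟶ (Over.pullback j).obj N :=
      Over.homMk (θ.inv ≫ k.left ≫ ρ) (by
        change (θ.inv ≫ k.left ≫ ρ) ≫ pullback.snd N.hom j = pullback.snd (Y'.hom ≫ g) j
        rw [Category.assoc, Category.assoc, hρ₂, ← Category.assoc k.left, hkw, Iso.inv_comp_eq, hθ₂])
    have hb : b.left = θ.inv ≫ k.left ≫ ρ := rfl
    obtain ⟨a, ha⟩ := h.surjective b
    dsimp only at ha
    have haw : a.left ≫ N.hom = Y'.hom ≫ g := Over.w a
    refine ⟨Over.homMk (pullback.lift a.left Y'.hom haw) (pullback.lift_snd _ _ _), ?_⟩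
    ext
    apply pullback.hom_ext
    · rw [pb_map_left_fst]
      apply pullback.hom_ext
      · rw [Category.assoc, Category.assoc]
        change pullback.fst Y'.hom j' ≫ pullback.lift a.left Y'.hom haw ≫ pullback.fst N.hom g = _
        rw [pullback.lift_fst, ← hρ₁, ← Category.assoc k.left]
        have e1 : k.left ≫ ρ = θ.hom ≫ b.left := by rw [hb, Iso.hom_inv_id_assoc]
        rw [e1, ← ha, Category.assoc, pb_map_left_fst, ← Category.assoc]
        exact congrArg (· ≫ a.left) hθ₁.symm
      · rw [Category.assoc, Category.assoc]
        change pullback.fst Y'.hom j' ≫ pullback.lift a.left Y'.hom haw ≫ pullback.snd N.hom g = _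
        rw [pullback.lift_snd]
        have c1 : pullback.fst ((Over.pullback g).obj N).hom j' ≫ pullback.snd N.hom g =
            pullback.snd _ j' ≫ j' := pullback.condition
        rw [c1, ← Category.assoc, hkw, pullback.condition]
    · rw [pb_map_left_snd, hkw]

end



/-- Let S be a scheme, U ⊆ S a schematically dense open subscheme and N → S a smooth S-scheme with the
Néron mapping property with respect to U: for every smooth S-scheme Y, sending an S-morphism Y → N
to its restriction Y ×_S U → N ×_S U is a bijection onto the U-morphisms. Then for every smooth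
morphism g : S' → S the base change N ×_S S' → S' (again smooth) has the Néron mapping property with
respect to g⁻¹(U): for every smooth S'-scheme Y', restriction to g⁻¹(U) is a bijection from
S'-morphisms Y' → N ×_S S' onto g⁻¹(U)-morphisms. (The published statement is for models which are
algebraic spaces, tested against smooth algebraic spaces, and also says that separatedness is
preserved; this row states the case of a smooth scheme model tested against smooth schemes.) -/
theorem result
    {S S' : Scheme.{u}} (g : S' ⟶ S) [Smooth g]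
    (U : S.Opens) (hU : CInt.IsSchematicallyDense U) (N : Over S) [Smooth N.hom]
    (hN : ∀ Y : Over S, Smooth Y.hom →
      Function.Bijective (fun f : Y ⟶ N => (Over.pullback U.ι).map f))
    (Y' : Over S') [Smooth Y'.hom] :
    Function.Bijective (fun f : Y' ⟶ (Over.pullback g).obj N => (Over.pullback (g ⁻¹ᵁ U).ι).map f) := by
  have sq : IsPullback (g ⁻¹ᵁ U).ι (g ∣_ U) g U.ι := (isPullback_morphismRestrict g U).flip
  apply Groth.Agent.S13203.bij_transfer g U.ι (g ⁻¹ᵁ U).ι (g ∣_ U) sq N Y'
  have hs : Smooth ((Over.map g).obj Y').hom := by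
    change Smooth (Y'.hom ≫ g)
    infer_instance
  exact hN _ hs

end Groth.Agent.S13203
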