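import Groth.Statements.S13204
import Mathlib
import Groth.Agent.Lib.Helper13.KA5
-- import your own Groth.Agent.* helpers here

set_option autoImplicit false
universe u
open Neron

namespace Groth.Agent.S13204

/-- Let R be a strictly henselian Noetherian local unique factorization domain and Δ₁, Δ₂ two non-units
of R with no common prime factor. Then there are a discrete valuation ring A and an injective local
homomorphism f : R → A — so that Spec A → Spec R sends the closed point to the closed point and the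
generic point to the generic point, which lies in every dense open subset — such that f(Δ₁) is a
non-zero non-unit and f(Δ₁) = u · f(Δ₂) for some unit u of A congruent to 1 modulo the maximal
ideal. (The published statement asks for the images of Δ₁ and Δ₂ in A to be equal, with the generic
point of Spec A sent into a given dense open subset of Spec R; that cannot hold in general — for R =
ℂ[[a,b]], Δ₁ = a, Δ₂ = b and the dense open D(a − b), any local map to a discrete valuation ring
identifying a and b sends the generic point into V(a − b) — so this row asks instead for f(Δ₁) = u ·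
f(Δ₂) with u a unit congruent to 1 modulo the maximal ideal.) -/
theorem result
    (R : Type u) [CommRing R] [IsDomain R] [IsNoetherianRing R] [UniqueFactorizationMonoid R]
    [HenselianLocalRing R] [IsSepClosed (IsLocalRing.ResidueField R)]
    (Δ₁ Δ₂ : R) (h₁ : ¬ IsUnit Δ₁) (h₂ : ¬ IsUnit Δ₂) (hcop : IsRelPrime Δ₁ Δ₂) :
    ∃ (A : Type u) (_ : CommRing A) (_ : IsDomain A) (_ : IsDiscreteValuationRing A) (f : R →+* A),
      IsLocalHom f ∧ Function.Injective f ∧ ¬ IsUnit (f Δ₁) ∧
        ∃ u : Aˣ, (u : A) - 1 ∈ IsLocalRing.maximalIdeal A ∧ f Δ₁ = (u : A) * f Δ₂ := by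
  classical
  have hΔ₂0 : Δ₂ ≠ 0 := by
    rintro rfl
    exact h₁ (hcop (dvd_refl Δ₁) (dvd_zero Δ₁))
  have hΔ₁0 : Δ₁ ≠ 0 := by
    rintro rfl
    exact h₂ (hcop (dvd_zero Δ₂) (dvd_refl Δ₂))
  let K := FractionRing R
  have hinjK : Function.Injective (algebraMap R K) := IsFractionRing.injective R K
  have hΔ₂K : algebraMap R K Δ₂ ≠ 0 := fun h => hΔ₂0 (hinjK (h.trans (map_zero _).symm))
  let t : K := algebraMap R K Δ₁ / algebraMap R K Δ₂
  let φ : Polynomial R →ₐ[R] K := Polynomial.aeval t
  let g : Polynomial R := Polynomial.C Δ₂ * Polynomial.X - Polynomial.C Δ₁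
  have hgprim : g.IsPrimitive := by
    rw [Polynomial.isPrimitive_iff_isUnit_of_C_dvd]
    intro r hr
    have h1 : r ∣ g.coeff 1 := (Polynomial.C_dvd_iff_dvd_coeff r g).mp hr 1
    have h0 : r ∣ g.coeff 0 := (Polynomial.C_dvd_iff_dvd_coeff r g).mp hr 0
    have hc1 : g.coeff 1 = Δ₂ := by simp [g]
    have hc0 : g.coeff 0 = -Δ₁ := by simp [g]
    rw [hc1] at h1
    rw [hc0, dvd_neg] at h0
    exact hcop h0 h1
  have hker : ∀ F : Polynomial R, φ F = 0 → g ∣ F := by
    intro F hF
    apply hgprim.dvd_of_fraction_map_dvd_fraction_map (K := K)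
    have hroot : (F.map (algebraMap R K)).IsRoot t := by
      rw [Polynomial.IsRoot, Polynomial.eval_map_algebraMap]
      exact hF
    obtain ⟨G, hG⟩ := Polynomial.dvd_iff_isRoot.mpr hroot
    have hgmap : g.map (algebraMap R K) =
        Polynomial.C (algebraMap R K Δ₂) * (Polynomial.X - Polynomial.C t) := by
      simp only [g, t, Polynomial.map_sub, Polynomial.map_mul, Polynomial.map_C, Polynomial.map_X,
        mul_sub, ← Polynomial.C_mul]
      rw [mul_div_cancel₀ _ hΔ₂K]
    rw [hgmap, hG]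
    refine ⟨Polynomial.C (algebraMap R K Δ₂)⁻¹ * G, ?_⟩
    have : Polynomial.C (algebraMap R K Δ₂) * Polynomial.C (algebraMap R K Δ₂)⁻¹ =
        (1 : Polynomial K) := by
      rw [← Polynomial.C_mul, mul_inv_cancel₀ hΔ₂K, Polynomial.C_1]
    calc (Polynomial.X - Polynomial.C t) * G
        = (Polynomial.C (algebraMap R K Δ₂) * Polynomial.C (algebraMap R K Δ₂)⁻¹) *
            ((Polynomial.X - Polynomial.C t) * G) := by rw [this, one_mul]
      _ = _ := by ring
  let ev : Polynomial R →+* IsLocalRing.ResidueField R :=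
    Polynomial.eval₂RingHom (IsLocalRing.residue R) 1
  have hres : ∀ r : R, ¬ IsUnit r → IsLocalRing.residue R r = 0 := fun r hr =>
    (IsLocalRing.residue_eq_zero_iff r).mpr ((IsLocalRing.mem_maximalIdeal r).mpr hr)
  have hevg : ev g = 0 := by
    simp [ev, g, hres Δ₁ h₁, hres Δ₂ h₂]
  have hφs : Function.Surjective φ.rangeRestrict.toRingHom := φ.rangeRestrict_surjective
  let χ : φ.range →+* IsLocalRing.ResidueField R :=
    φ.rangeRestrict.toRingHom.liftOfSurjective hφs ⟨ev, by
      intro F hF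
      rw [RingHom.mem_ker] at hF ⊢
      have hF' : φ F = 0 := congrArg Subtype.val hF
      obtain ⟨G, rfl⟩ := hker F hF'
      rw [map_mul, hevg, zero_mul]⟩
  have hχ : ∀ F : Polynomial R, χ (φ.rangeRestrict F) = ev F := fun F =>
    RingHom.liftOfSurjective_comp_apply φ.rangeRestrict.toRingHom hφs _ F
  let S₀ : Subring K := φ.range.toSubring
  have hNS : IsNoetherianRing S₀ :=
    isNoetherianRing_of_surjective (Polynomial R) S₀ φ.rangeRestrict.toRingHom hφs
  have hRS : ∀ r : R, algebraMap R K r ∈ S₀ := fun r => φ.range.algebraMap_mem r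
  have hfr : IsFractionRing S₀ K := by
    refine IsFractionRing.of_field S₀ K fun z => ?_
    obtain ⟨x, y, -, rfl⟩ := IsFractionRing.div_surjective (A := R) z
    exact ⟨⟨_, hRS x⟩, ⟨_, hRS y⟩, rfl⟩
  have hχsurj : Function.Surjective χ := by
    intro c
    obtain ⟨r, rfl⟩ := IsLocalRing.residue_surjective c
    exact ⟨φ.rangeRestrict (Polynomial.C r), by rw [hχ]; simp [ev]⟩
  let P : Ideal S₀ := RingHom.ker χ
  have hPmax : P.IsMaximal := RingHom.ker_isMaximal_of_surjective χ hχsurj
  have hPprime : P.IsPrime := hPmax.isPrime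
  have hχC : ∀ r : R, χ ⟨algebraMap R K r, hRS r⟩ = IsLocalRing.residue R r := by
    intro r
    have : (⟨algebraMap R K r, hRS r⟩ : φ.range) = φ.rangeRestrict (Polynomial.C r) :=
      Subtype.ext (by simp [φ])
    rw [this, hχ]
    simp [ev]
  have htS : t ∈ S₀ := ⟨Polynomial.X, by simp [φ]⟩
  have hχt : χ ⟨t, htS⟩ = 1 := by
    have : (⟨t, htS⟩ : φ.range) = φ.rangeRestrict Polynomial.X := Subtype.ext (by simp [φ])
    rw [this, hχ]
    simp [ev]
  have hP0 : P ≠ ⊥ := by
    intro h0
    have h1 : (⟨algebraMap R K Δ₁, hRS Δ₁⟩ : S₀) ∈ P := by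
      rw [RingHom.mem_ker, hχC, hres Δ₁ h₁]
    rw [h0, Ideal.mem_bot] at h1
    exact hΔ₁0 (hinjK ((congrArg Subtype.val h1).trans (map_zero _).symm))
  obtain ⟨O, hO, hSO, hmO⟩ := Groth.Agent.Lib.helper13.KA.exists_dvr_of_prime S₀ P hP0
  have hRO : ∀ r : R, algebraMap R K r ∈ O := fun r => hSO (hRS r)
  let f : R →+* O := (algebraMap R K).codRestrict O.toSubring hRO
  have hfval : ∀ r : R, ((f r : O) : K) = algebraMap R K r := fun r => rfl
  have hfm : ∀ r : R, ¬ IsUnit r → f r ∈ IsLocalRing.maximalIdeal O := by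
    intro r hr
    have := (hmO ⟨algebraMap R K r, hRS r⟩).mpr (by rw [RingHom.mem_ker, hχC, hres r hr])
    exact this
  have htm : (⟨t, hSO htS⟩ : O) - 1 ∈ IsLocalRing.maximalIdeal O := by
    have h1 : (⟨t, htS⟩ - 1 : S₀) ∈ P := by
      rw [RingHom.mem_ker, map_sub, hχt, map_one, sub_self]
    exact (hmO (⟨t, htS⟩ - 1)).mpr h1
  have htu : IsUnit (⟨t, hSO htS⟩ : O) := by
    by_contra hnu
    have h1 : (⟨t, hSO htS⟩ : O) ∈ IsLocalRing.maximalIdeal O := (IsLocalRing.mem_maximalIdeal _).mpr hnu
    have h2 : (1 : O) ∈ IsLocalRing.maximalIdeal O := by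
      have := (IsLocalRing.maximalIdeal O).sub_mem h1 htm
      simp at this
    exact (IsLocalRing.maximalIdeal.isMaximal O).ne_top ((Ideal.eq_top_iff_one _).mpr h2)
  refine ⟨O, inferInstance, inferInstance, hO, f, ?_, ?_, ?_, ?_⟩
  · refine ⟨fun r hr => ?_⟩
    by_contra hnu
    exact (IsLocalRing.mem_maximalIdeal _).mp (hfm r hnu) hr
  · intro a b hab
    exact hinjK (congrArg Subtype.val hab)
  · exact (IsLocalRing.mem_maximalIdeal _).mp (hfm Δ₁ h₁)
  · obtain ⟨u, hu⟩ := htu
    refine ⟨u, ?_, ?_⟩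
    · rw [hu]
      exact htm
    · rw [hu]
      apply Subtype.ext
      change algebraMap R K Δ₁ = t * algebraMap R K Δ₂
      rw [div_mul_cancel₀ _ hΔ₂K]

end Groth.Agent.S13204
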