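import Groth.Statements.S1323
import Mathlib
import Groth.Agent.Lib.Helper18.NilBaseFinite
import Groth.Agent.Lib.Helper18.NilBaseSmooth

set_option autoImplicit false
universe u
open FlatMor

namespace Groth.Agent.S1323

open AlgebraicGeometry CategoryTheory Limits in

open AlgebraicGeometry CategoryTheory Limits in
/-- Let S ⟶ S' be a finite order thickening, let X' ⟶ Y' be a morphism of schemes over S' with X' flat
over S', and let X ⟶ Y be its base change to S. Then X ⟶ Y is finite locally free of rank d if and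
only if X' ⟶ Y' is. -/
theorem result (d : ℕ) {X X' Y Y' S S' : Scheme.{u}} (iX : X ⟶ X') (iY : Y ⟶ Y') (iS : S ⟶ S')
    (f : X ⟶ Y) (f' : X' ⟶ Y') (g : Y ⟶ S) (g' : Y' ⟶ S')
    (hS : MoreMor.IsFiniteOrderThickening iS) (hcX : IsPullback iX (f ≫ g) (f' ≫ g') iS) (hcY : IsPullback iY g g' iS)
    (w : iX ≫ f' = f ≫ iY) [Flat (f' ≫ g')] :
    Mor2.IsFinLocFreeOfDeg d f ↔ Mor2.IsFinLocFreeOfDeg d f' := by
  obtain ⟨⟨h1, h2⟩, hn⟩ := hS
  have H : IsPullback iX f f' iY := IsPullback.of_bot hcX w hcY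
  obtain ⟨_, _⟩ := Groth.Agent.Lib.Helper18.NilBase.thickening_of_isPullback hcY
  constructor
  · rintro ⟨⟨hfin, hfl, hfp⟩, hrk⟩
    have hfl' : Flat f' := Groth.Agent.Lib.Helper18.NilBase.flat_of_thickening_base_scheme hn hcX hcY w
    have hfp' : LocallyOfFinitePresentation f' :=
      Groth.Agent.Lib.Helper18.NilBase.locallyOfFinitePresentation_of_thickening_base_scheme
        hn hcX hcY w
    have hfin' : IsFinite f' := Groth.Agent.Lib.Helper18.NilBase.isFinite_of_thickening H
    refine ⟨⟨hfin', hfl', hfp'⟩, fun y' => ?_⟩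
    obtain ⟨y, rfl⟩ := iY.surjective y'
    rw [← Scheme.Hom.finrank_of_isPullback iX f f' iY H y]
    exact hrk y
  · rintro ⟨⟨hfin, hfl, hfp⟩, hrk⟩
    refine ⟨⟨MorphismProperty.of_isPullback H hfin, MorphismProperty.of_isPullback H hfl,
      MorphismProperty.of_isPullback H hfp⟩, fun y => ?_⟩
    rw [Scheme.Hom.finrank_of_isPullback iX f f' iY H y]
    exact hrk _

end Groth.Agent.S1323
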