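import Groth.Statements.S16105
import Groth.Agent.Lib.Helper22.LinRedU
import Groth.Agent.Lib.Helper22.Reynolds
import Groth.Prelude.Def_W4c1tameactTame

set_option autoImplicit false
universe u v w w'
open LunaSt

namespace Groth.Agent.S16105

section aux

open scoped TensorProduct
open Groth.Agent.Lib.helper22

variable {k : Type u} [Field k] {H : Type v} [CommRing H] [Bialgebra k H]
variable {A : Type w} [CommRing A] [Algebra k A] [HopfRep.Comod k H A] [GLin.IsCoactAlg k H A]
variable {M : Type w'} [AddCommGroup M] [Module k M] [Module A M] [IsScalarTower k A M]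
  [HopfRep.Comod k H M] [TameAct.IsHopfMod k H A M]

/-- `a ↦ a • x` as a `k`-linear map -/
noncomputable def smulRightLin (x : M) : A →ₗ[k] M :=
  (LinearMap.toSpanSingleton A M x).restrictScalars k

omit [HopfRep.Comod k H A] [GLin.IsCoactAlg k H A] [HopfRep.Comod k H M] [TameAct.IsHopfMod k H A M] in
@[simp] theorem smulRightLin_apply (x : M) (a : A) : smulRightLin (k := k) x a = a • x := rfl

/-- for invariant `x`, `a ↦ a • x` is a comodule map -/
theorem isComodHom_smulRightLin (x : M) (hx : x ∈ HopfRep.fixedPts k H M) :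
    Hoch.IsComodHom H (smulRightLin (k := k) (A := A) x) := by
  have hx' : HopfRep.Comod.coact (k := k) (A := H) x = x ⊗ₜ[k] (1 : H) := hx
  apply LinearMap.ext
  intro a
  simp only [LinearMap.comp_apply, smulRightLin_apply]
  rw [TameAct.IsHopfMod.coact_smul (k := k) (A := H), hx']
  generalize HopfRep.Comod.coact (k := k) (A := H) a = t
  induction t using TensorProduct.induction_on with
  | zero => simp
  | tmul b h => simp
  | add t₁ t₂ h₁ h₂ => simp only [map_add, LinearMap.add_apply, h₁, h₂]

/-- for invariant `c`, `y ↦ c • y` is a comodule map -/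
theorem isComodHom_lsmul (c : A) (hc : c ∈ GLin.invariants k H A) :
    Hoch.IsComodHom H (Algebra.lsmul k k M c : M →ₗ[k] M) := by
  have hc' : HopfRep.Comod.coact (k := k) (A := H) c = c ⊗ₜ[k] (1 : H) := hc
  apply LinearMap.ext
  intro y
  simp only [LinearMap.comp_apply, Algebra.lsmul_coe]
  rw [TameAct.IsHopfMod.coact_smul (k := k) (A := H), hc']
  generalize HopfRep.Comod.coact (k := k) (A := H) y = t
  induction t using TensorProduct.induction_on with
  | zero => simp
  | tmul b h => simp
  | add t₁ t₂ h₁ h₂ => simp only [map_add, h₁, h₂]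

variable (hssA : HopfRep.IsSemisimpleComod k H A) (hssM : HopfRep.IsSemisimpleComod k H M)
variable {EA : A →ₗ[k] A} {EM : M →ₗ[k] M}

include hssA in
theorem reynolds_smul_fixed (hEA : IsReynolds (A := H) EA) (hEM : IsReynolds (A := H) EM)
    (a : A) (x : M) (hx : x ∈ HopfRep.fixedPts k H M) : EM (a • x) = EA a • x :=
  IsReynolds.natural hssA hEA hEM (smulRightLin x) (isComodHom_smulRightLin x hx) a

include hssM in
theorem reynolds_invariant_smul (hEM : IsReynolds (A := H) EM)
    (c : A) (hc : c ∈ GLin.invariants k H A) (y : M) : EM (c • y) = c • EM y :=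
  IsReynolds.natural hssM hEM hEM (Algebra.lsmul k k M c : M →ₗ[k] M) (isComodHom_lsmul c hc) y

variable (k H A M) in
/-- the invariants of `M` as a module over the invariants of `A` -/
def MG : Submodule (GLin.invariants k H A) M where
  carrier := HopfRep.fixedPts k H M
  add_mem' := (HopfRep.fixedPts k H M).add_mem
  zero_mem' := (HopfRep.fixedPts k H M).zero_mem
  smul_mem' c x hx :=
    map_mem_fixedPts (Algebra.lsmul k k M (c : A) : M →ₗ[k] M) (isComodHom_lsmul c.1 c.2) x hx

theorem mem_MG (x : M) : x ∈ MG k H A M ↔ x ∈ HopfRep.fixedPts k H M := Iff.rfl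

include hssA in
theorem isNoetherian_MG [IsNoetherian A M] (hEA : IsReynolds (A := H) EA)
    (hEM : IsReynolds (A := H) EM) : IsNoetherian (GLin.invariants k H A) (MG k H A M) := by
  let g : Submodule (GLin.invariants k H A) (MG k H A M) → Submodule A M := fun L =>
    Submodule.span A ((fun l : MG k H A M => (l : M)) '' (L : Set (MG k H A M)))
  have key : ∀ (L' : Submodule (GLin.invariants k H A) (MG k H A M)) (z : M), z ∈ g L' →
      ∀ b : A, ∃ l' ∈ L', EM (b • z) = (l' : M) := by
    intro L' z hz
    induction hz using Submodule.span_induction with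
    | mem z hz =>
      obtain ⟨l', hl', rfl⟩ := hz
      intro b
      refine ⟨(⟨EA b, hEA.mem_fixedPts b⟩ : GLin.invariants k H A) • l', L'.smul_mem _ hl', ?_⟩
      exact reynolds_smul_fixed hssA hEA hEM b l'.1 l'.2
    | zero => intro b; exact ⟨0, L'.zero_mem, by simp⟩
    | add y z _ _ hy hz =>
      intro b
      obtain ⟨c₁, h₁, e₁⟩ := hy b
      obtain ⟨c₂, h₂, e₂⟩ := hz b
      exact ⟨c₁ + c₂, L'.add_mem h₁ h₂, by rw [smul_add, map_add, e₁, e₂]; rfl⟩
    | smul a y _ hy =>
      intro b
      obtain ⟨c₁, h₁, e₁⟩ := hy (b * a)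
      exact ⟨c₁, h₁, by rw [← mul_smul]; exact e₁⟩
  let emb : Submodule (GLin.invariants k H A) (MG k H A M) ↪o Submodule A M :=
    OrderEmbedding.ofMapLEIff g (fun L L' => by
      constructor
      · intro h l hl
        have h1 : (l : M) ∈ g L' := h (Submodule.subset_span ⟨l, hl, rfl⟩)
        obtain ⟨l', hl', e⟩ := key L' _ h1 1
        rw [one_smul, (hEM.fix _).mpr l.2] at e
        have : l = l' := Subtype.ext e
        rwa [this]
      · intro h
        exact Submodule.span_mono (Set.image_mono h))
  have hwf : WellFoundedGT (Submodule A M) := isNoetherian_iff'.mp inferInstance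
  have : WellFoundedGT (Submodule (GLin.invariants k H A) (MG k H A M)) := emb.wellFoundedGT
  exact isNoetherian_iff'.mpr this

/-- the colon ideal `{b | b • x ∈ N}` -/
def colon (N : Submodule A M) (x : M) : Ideal A := N.comap (LinearMap.toSpanSingleton A M x)

omit [Algebra k A] [HopfRep.Comod k H A] [GLin.IsCoactAlg k H A] [IsScalarTower k A M]
  [HopfRep.Comod k H M] [TameAct.IsHopfMod k H A M] [Module k M] in
theorem mem_colon (N : Submodule A M) (x : M) (b : A) : b ∈ colon N x ↔ b • x ∈ N := Iff.rfl

theorem isSubcomod_colon (N : Submodule A M)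
    (hN : HopfRep.IsSubcomod (k := k) (A := H) (N.restrictScalars k)) (x : M)
    (hx : x ∈ HopfRep.fixedPts k H M) :
    HopfRep.IsSubcomod (k := k) (A := H) ((colon N x).restrictScalars k) := by
  rw [isSubcomod_iff] at hN ⊢
  intro f b hb
  have h := actDual_comm_of_isComodHom (smulRightLin (k := k) x) (isComodHom_smulRightLin x hx) f b
  change actDual A f b • x ∈ N
  rw [show actDual A f b • x = smulRightLin (k := k) x (actDual A f b) from rfl, h]
  exact hN f _ hb

include hssA in
/-- the key lemma: an invariant element lying in `m ^ n M + N` for all `n` lies in `N` -/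
theorem mem_of_forall_mem_sup [IsNoetherianRing A] [Module.Finite A M]
    [IsLocalRing ↥(GLin.invariants k H A)]
    (hEA : IsReynolds (A := H) EA) (m : Ideal A)
    (hm : HopfRep.IsSubcomod (k := k) (A := H) (m.restrictScalars k)) (hmtop : m ≠ ⊤)
    (N : Submodule A M) (hN : HopfRep.IsSubcomod (k := k) (A := H) (N.restrictScalars k))
    (x : M) (hx : x ∈ HopfRep.fixedPts k H M)
    (h : ∀ n : ℕ, x ∈ (m ^ n • ⊤ : Submodule A M) ⊔ N) : x ∈ N := by
  have h1 : N.mkQ x ∈ (⨅ i : ℕ, m ^ i • ⊤ : Submodule A (M ⧸ N)) := by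
    rw [Submodule.mem_iInf]
    intro n
    obtain ⟨y, hy, z, hz, rfl⟩ := Submodule.mem_sup.mp (h n)
    have hz0 : N.mkQ z = 0 := (Submodule.Quotient.mk_eq_zero N).mpr hz
    rw [map_add, hz0, add_zero]
    have : N.mkQ y ∈ Submodule.map N.mkQ (m ^ n • ⊤ : Submodule A M) := ⟨y, hy, rfl⟩
    rw [Submodule.map_smul'', Submodule.map_top, Submodule.range_mkQ] at this
    exact this
  obtain ⟨r, hr⟩ := (Ideal.mem_iInf_smul_pow_eq_bot_iff m (N.mkQ x)).mp h1
  have h2 : ((r : A) - 1) ∈ colon N x := by
    rw [mem_colon, sub_smul, one_smul, ← Submodule.Quotient.mk_eq_zero N]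
    have : N.mkQ ((r : A) • x - x) = 0 := by
      rw [map_sub, map_smul]
      exact sub_eq_zero.mpr hr
    exact this
  have h3 : EA ((r : A) - 1) ∈ colon N x :=
    hEA.mem_of_isSubcomod hssA _ (isSubcomod_colon N hN x hx) _ h2
  have h4 : EA (r : A) ∈ m := hEA.mem_of_isSubcomod hssA _ hm _ r.2
  have h5 : EA 1 = 1 := (hEA.fix 1).mpr (GLin.invariants k H A).one_mem
  set c : GLin.invariants k H A := ⟨EA r, hEA.mem_fixedPts _⟩ with hc_def
  have hc : c ∈ nonunits (GLin.invariants k H A) := by
    rw [mem_nonunits_iff]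
    intro hu
    apply hmtop
    have hu' : IsUnit ((GLin.invariants k H A).val c) := hu.map (GLin.invariants k H A).val
    exact Ideal.eq_top_of_isUnit_mem _ h4 hu'
  have hu : IsUnit (1 - c) := IsLocalRing.isUnit_one_sub_self_of_mem_nonunits c hc
  have hu' : IsUnit ((1 : A) - EA r) := by
    have := hu.map (GLin.invariants k H A).val
    simpa [hc_def] using this
  have h6 : (1 : A) - EA r ∈ colon N x := by
    have : (1 : A) - EA r = -(EA ((r : A) - 1)) := by rw [map_sub, h5]; ring
    rw [this]
    exact (colon N x).neg_mem h3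
  have h7 : colon N x = ⊤ := Ideal.eq_top_of_isUnit_mem _ h6 hu'
  have h8 : (1 : A) ∈ colon N x := h7 ▸ Submodule.mem_top
  rw [mem_colon, one_smul] at h8
  exact h8

variable (k H A M) in
/-- the `A`-submodule of `M` generated by the multiples by elements of an ideal `I` of the invariants -/
def Nn (I : Ideal (GLin.invariants k H A)) : Submodule A M :=
  Submodule.span A {z | ∃ c ∈ I, ∃ y : M, z = (c : A) • y}

theorem isSubcomod_Nn (I : Ideal (GLin.invariants k H A)) :
    HopfRep.IsSubcomod (k := k) (A := H) ((Nn k H A M I).restrictScalars k) := by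
  rw [isSubcomod_iff]
  intro f z hz
  have key : ∀ z ∈ Nn k H A M I, ∀ b : A, actDual M f (b • z) ∈ Nn k H A M I := by
    intro z hz
    induction hz using Submodule.span_induction with
    | mem z hz =>
      obtain ⟨c, hc, y, rfl⟩ := hz
      intro b
      rw [smul_comm]
      have h := actDual_comm_of_isComodHom (Algebra.lsmul k k M (c : A) : M →ₗ[k] M)
        (isComodHom_lsmul c.1 c.2) f (b • y)
      rw [show (c : A) • b • y = (Algebra.lsmul k k M (c : A) : M →ₗ[k] M) (b • y) from rfl, ← h]
      exact Submodule.subset_span ⟨c, hc, _, rfl⟩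
    | zero => intro b; simp
    | add y z _ _ hy hz =>
      intro b
      rw [smul_add, map_add]
      exact (Nn k H A M I).add_mem (hy b) (hz b)
    | smul a y _ hy =>
      intro b
      rw [← mul_smul]
      exact hy (b * a)
  have := key z hz 1
  rwa [one_smul] at this

include hssM in
theorem mem_smul_top_of_mem_Nn (hEM : IsReynolds (A := H) EM) (I : Ideal (GLin.invariants k H A))
    (z : M) (hz : z ∈ Nn k H A M I) (hzfix : z ∈ HopfRep.fixedPts k H M) :
    (⟨z, hzfix⟩ : MG k H A M) ∈ I • (⊤ : Submodule (GLin.invariants k H A) (MG k H A M)) := by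
  have key : ∀ z ∈ Nn k H A M I, ∀ b : A,
      (⟨EM (b • z), hEM.mem_fixedPts _⟩ : MG k H A M) ∈
        I • (⊤ : Submodule (GLin.invariants k H A) (MG k H A M)) := by
    intro z hz
    induction hz using Submodule.span_induction with
    | mem z hz =>
      obtain ⟨c, hc, y, rfl⟩ := hz
      intro b
      have e : (⟨EM (b • (c : A) • y), hEM.mem_fixedPts _⟩ : MG k H A M) =
          c • (⟨EM (b • y), hEM.mem_fixedPts _⟩ : MG k H A M) := by
        apply Subtype.ext
        change EM (b • (c : A) • y) = (c : A) • EM (b • y)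
        rw [smul_comm, reynolds_invariant_smul hssM hEM c.1 c.2]
      rw [e]
      exact Submodule.smul_mem_smul hc Submodule.mem_top
    | zero =>
      intro b
      have e : (⟨EM (b • (0 : M)), hEM.mem_fixedPts _⟩ : MG k H A M) = 0 := by
        apply Subtype.ext
        simp
      rw [e]
      exact Submodule.zero_mem _
    | add y z _ _ hy hz =>
      intro b
      have e : (⟨EM (b • (y + z)), hEM.mem_fixedPts _⟩ : MG k H A M) =
          (⟨EM (b • y), hEM.mem_fixedPts _⟩ : MG k H A M) + ⟨EM (b • z), hEM.mem_fixedPts _⟩ := by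
        apply Subtype.ext
        change EM (b • (y + z)) = EM (b • y) + EM (b • z)
        rw [smul_add, map_add]
      rw [e]
      exact Submodule.add_mem _ (hy b) (hz b)
    | smul a y _ hy =>
      intro b
      have e : (⟨EM (b • a • y), hEM.mem_fixedPts _⟩ : MG k H A M) =
          ⟨EM ((b * a) • y), hEM.mem_fixedPts _⟩ := by
        apply Subtype.ext
        change EM (b • a • y) = EM ((b * a) • y)
        rw [mul_smul]
      rw [e]
      exact hy (b * a)
  have h := key z hz 1
  have e : (⟨EM ((1 : A) • z), hEM.mem_fixedPts _⟩ : MG k H A M) = ⟨z, hzfix⟩ := by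
    apply Subtype.ext
    change EM ((1 : A) • z) = z
    rw [one_smul]
    exact (hEM.fix z).mpr hzfix
  rwa [e] at h

theorem coe_mem_Nn_of_mem_smul_top (I : Ideal (GLin.invariants k H A)) (l : MG k H A M)
    (hl : l ∈ I • (⊤ : Submodule (GLin.invariants k H A) (MG k H A M))) :
    (l : M) ∈ Nn k H A M I := by
  refine Submodule.smul_induction_on hl ?_ ?_
  · intro c hc l' _
    exact Submodule.subset_span ⟨c, hc, (l' : M), rfl⟩
  · intro x y hx hy
    exact (Nn k H A M I).add_mem hx hy

theorem Nn_pow_le (m : Ideal A) (J : Ideal (GLin.invariants k H A))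
    (hJ : ∀ c ∈ J, (c : A) ∈ m) (n : ℕ) :
    Nn k H A M (J ^ n) ≤ (m ^ n • ⊤ : Submodule A M) := by
  have hmap : Ideal.map (algebraMap (GLin.invariants k H A) A) J ≤ m := by
    rw [Ideal.map_le_iff_le_comap]
    intro c hc
    exact hJ c hc
  apply Submodule.span_le.mpr
  rintro _ ⟨c, hc, y, rfl⟩
  have h1 : (c : A) ∈ Ideal.map (algebraMap (GLin.invariants k H A) A) (J ^ n) :=
    Ideal.mem_map_of_mem _ hc
  rw [Ideal.map_pow] at h1
  exact Submodule.smul_mem_smul (Ideal.pow_right_mono hmap n h1) Submodule.mem_top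

open IsLocalRing in
theorem isArtinian_quot_pow_smul {R : Type*} [CommRing R] [IsLocalRing R] [IsNoetherianRing R]
    {P : Type*} [AddCommGroup P] [Module R P] [Module.Finite R P] (n : ℕ) :
    IsArtinian R (P ⧸ (maximalIdeal R ^ n • ⊤ : Submodule R P)) := by
  rcases Nat.eq_zero_or_pos n with rfl | hn
  · have : Subsingleton (P ⧸ (maximalIdeal R ^ 0 • ⊤ : Submodule R P)) := by
      rw [Submodule.Quotient.subsingleton_iff, pow_zero, Ideal.one_eq_top, Submodule.top_smul]
    infer_instance
  · set I := maximalIdeal R ^ n with hIdef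
    have hI : I ≠ ⊤ := by
      intro h
      have : I ≤ maximalIdeal R := Ideal.pow_le_self (Nat.pos_iff_ne_zero.mp hn)
      rw [h, top_le_iff] at this
      exact (maximalIdeal.isMaximal R).ne_top this
    have : Nontrivial (R ⧸ I) := Ideal.Quotient.nontrivial_iff.mpr hI
    have := IsLocalRing.of_surjective' (Ideal.Quotient.mk I) Ideal.Quotient.mk_surjective
    have := IsLocalHom.of_surjective (Ideal.Quotient.mk I) Ideal.Quotient.mk_surjective
    have hmax : (maximalIdeal R).map (Ideal.Quotient.mk I) = maximalIdeal (R ⧸ I) := by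
      ext x
      obtain ⟨x, rfl⟩ := Ideal.Quotient.mk_surjective x
      simp [sup_eq_left.mpr (le_maximalIdeal hI)]
    have : IsArtinianRing (R ⧸ I) := by
      rw [isArtinianRing_iff_isNilpotent_maximalIdeal]
      refine ⟨n, ?_⟩
      rw [← hmax, ← Ideal.map_pow, Ideal.zero_eq_bot, Ideal.map_eq_bot_iff_le_ker, Ideal.mk_ker]
    have : Module.Finite (R ⧸ I) (P ⧸ (I • ⊤ : Submodule R P)) :=
      Module.Finite.of_restrictScalars_finite R _ _
    have : IsArtinian (R ⧸ I) (P ⧸ (I • ⊤ : Submodule R P)) := inferInstance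
    exact isArtinian_of_surjective_algebraMap (S := R) (R := R ⧸ I) Ideal.Quotient.mk_surjective


include hssA hssM in
/-- cofinality of the two filtrations on the invariants -/
theorem exists_pow_le [IsNoetherianRing A] [Module.Finite A M]
    [IsLocalRing ↥(GLin.invariants k H A)] [IsNoetherianRing ↥(GLin.invariants k H A)]
    (hEA : IsReynolds (A := H) EA) (hEM : IsReynolds (A := H) EM) (m : Ideal A)
    (hm : HopfRep.IsSubcomod (k := k) (A := H) (m.restrictScalars k)) (hmtop : m ≠ ⊤) (n : ℕ) :
    ∃ N : ℕ, ∀ z : MG k H A M, (z : M) ∈ (m ^ N • ⊤ : Submodule A M) →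
      z ∈ (IsLocalRing.maximalIdeal ↥(GLin.invariants k H A)) ^ n •
        (⊤ : Submodule (GLin.invariants k H A) (MG k H A M)) := by
  haveI : IsNoetherian A M := isNoetherian_of_isNoetherianRing_of_finite A M
  haveI : IsNoetherian (GLin.invariants k H A) (MG k H A M) := isNoetherian_MG hssA hEA hEM
  haveI : Module.Finite (GLin.invariants k H A) (MG k H A M) := Module.IsNoetherian.finite _ _
  set I := (IsLocalRing.maximalIdeal ↥(GLin.invariants k H A)) ^ n with hI
  haveI : IsArtinian (GLin.invariants k H A)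
      (MG k H A M ⧸ (I • ⊤ : Submodule (GLin.invariants k H A) (MG k H A M))) :=
    isArtinian_quot_pow_smul n
  let F : ℕ → Submodule (GLin.invariants k H A) (MG k H A M) := fun N =>
    Submodule.comap (MG k H A M).subtype
      ((m ^ N • ⊤ : Submodule A M).restrictScalars (GLin.invariants k H A))
  have hFmem : ∀ N (z : MG k H A M), z ∈ F N ↔ (z : M) ∈ (m ^ N • ⊤ : Submodule A M) :=
    fun N z => Iff.rfl
  have hFanti : ∀ N N', N ≤ N' → F N' ≤ F N := by
    intro N N' h z hz
    rw [hFmem] at hz ⊢
    exact Submodule.smul_mono_left (Ideal.pow_le_pow_right h) hz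
  let G : ℕ →o (Submodule (GLin.invariants k H A)
      (MG k H A M ⧸ (I • ⊤ : Submodule (GLin.invariants k H A) (MG k H A M))))ᵒᵈ :=
    ⟨fun N => OrderDual.toDual (Submodule.map
      (I • ⊤ : Submodule (GLin.invariants k H A) (MG k H A M)).mkQ (F N)),
      fun N N' h => Submodule.map_mono (hFanti N N' h)⟩
  obtain ⟨N₀, hN₀⟩ := IsArtinian.monotone_stabilizes G
  refine ⟨N₀, fun z hz => ?_⟩
  have hz' : (⟨z.1, z.2⟩ : MG k H A M) ∈
      I • (⊤ : Submodule (GLin.invariants k H A) (MG k H A M)) := by
    apply mem_smul_top_of_mem_Nn hssM hEM I z.1 ?_ z.2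
    apply mem_of_forall_mem_sup hssA hEA m hm hmtop (Nn k H A M I) (isSubcomod_Nn I) z.1 z.2
    intro N
    by_cases hN : N₀ ≤ N
    · have h1 : (I • ⊤ : Submodule (GLin.invariants k H A) (MG k H A M)).mkQ z ∈
          Submodule.map (I • ⊤ : Submodule (GLin.invariants k H A) (MG k H A M)).mkQ (F N₀) :=
        ⟨z, (hFmem N₀ z).mpr hz, rfl⟩
      have h2 : Submodule.map (I • ⊤ : Submodule (GLin.invariants k H A) (MG k H A M)).mkQ (F N₀) =
          Submodule.map (I • ⊤ : Submodule (GLin.invariants k H A) (MG k H A M)).mkQ (F N) :=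
        congrArg OrderDual.ofDual (hN₀ N hN)
      rw [h2] at h1
      obtain ⟨z', hz', e⟩ := h1
      have h3 : z - z' ∈ (I • ⊤ : Submodule (GLin.invariants k H A) (MG k H A M)) := by
        rw [← Submodule.Quotient.mk_eq_zero, Submodule.Quotient.mk_sub, sub_eq_zero]
        exact e.symm
      have h4 := coe_mem_Nn_of_mem_smul_top I _ h3
      have h5 : (z : M) = (z' : M) + ((z - z' : MG k H A M) : M) := by
        simp
      rw [h5]
      exact Submodule.add_mem_sup ((hFmem N z').mp hz') h4
    · have : (m ^ N₀ • ⊤ : Submodule A M) ≤ m ^ N • ⊤ :=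
        Submodule.smul_mono_left (Ideal.pow_le_pow_right (le_of_not_ge hN))
      exact Submodule.mem_sup_left (this hz)
  exact hz'


theorem exists_limit_of_cauchy {R : Type*} [CommRing R] (I : Ideal R) [IsPrecomplete I R]
    {P : Type*} [AddCommGroup P] [Module R P] [Module.Finite R P]
    (x : ℕ → P) (hx : ∀ n, x (n + 1) - x n ∈ (I ^ n • ⊤ : Submodule R P)) :
    ∃ y : P, ∀ n, y - x n ∈ (I ^ n • ⊤ : Submodule R P) := by
  classical
  obtain ⟨r, g, hg⟩ := Module.Finite.exists_fin (R := R) (M := P)
  have hd : ∀ n, ∃ (a : Fin r →₀ R) (_ : ∀ i, a i ∈ I ^ n),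
      (a.sum fun i c => c • g i) = x (n + 1) - x n := by
    intro n
    have := hx n
    rw [← hg] at this
    exact (Submodule.mem_ideal_smul_span_iff_exists_sum (I ^ n) g _).mp this
  choose a ha hsum using hd
  let S : Fin r → ℕ → R := fun i n => ∑ j ∈ Finset.range n, a j i
  have hS : ∀ i, ∃ L : R, ∀ n, S i n ≡ L [SMOD (I ^ n • ⊤ : Submodule R R)] := by
    intro i
    apply IsPrecomplete.prec (inferInstance : IsPrecomplete I R)
    intro m n hmn
    rw [SModEq.sub_mem, smul_eq_mul, Ideal.mul_top]
    have : S i m - S i n = -∑ j ∈ Finset.Ico m n, a j i := by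
      simp only [S]
      rw [Finset.sum_Ico_eq_sub _ hmn]
      ring
    rw [this]
    refine (I ^ m).neg_mem ?_
    apply Ideal.sum_mem
    intro j hj
    exact Ideal.pow_le_pow_right (Finset.mem_Ico.mp hj).1 (ha j i)
  choose L hL using hS
  refine ⟨x 0 + ∑ i, L i • g i, fun n => ?_⟩
  have hxn : x n = x 0 + ∑ j ∈ Finset.range n, (x (j + 1) - x j) := by
    rw [Finset.sum_range_sub]
    abel
  have hdj : ∀ j, x (j + 1) - x j = ∑ i, a j i • g i := by
    intro j
    rw [← hsum j, Finsupp.sum_fintype]
    intro i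
    simp
  have e : x 0 + ∑ i, L i • g i - x n = ∑ i, (L i - S i n) • g i := by
    rw [hxn]
    simp only [hdj, S, sub_smul, Finset.sum_sub_distrib, Finset.sum_smul]
    rw [Finset.sum_comm]
    abel
  rw [e]
  apply Submodule.sum_mem
  intro i _
  apply Submodule.smul_mem_smul _ Submodule.mem_top
  have := (hL i n).symm
  rw [SModEq.sub_mem, smul_eq_mul, Ideal.mul_top] at this
  exact this


omit [HopfRep.Comod k H A] [GLin.IsCoactAlg k H A] [TameAct.IsHopfMod k H A M] in
theorem isSubcomod_bot' :
    HopfRep.IsSubcomod (k := k) (A := H) ((⊥ : Submodule A M).restrictScalars k) := by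
  rw [isSubcomod_iff]
  intro f w hw
  have hw0 : w = 0 := hw
  rw [hw0, map_zero]
  exact Submodule.zero_mem _

include hssA in
theorem coe_mem_of_mem_maximalIdeal [IsLocalRing ↥(GLin.invariants k H A)]
    (hEA : IsReynolds (A := H) EA) (m : Ideal A) [m.IsMaximal]
    (hm : HopfRep.IsSubcomod (k := k) (A := H) (m.restrictScalars k))
    (c : GLin.invariants k H A) (hc : c ∈ IsLocalRing.maximalIdeal ↥(GLin.invariants k H A)) :
    (c : A) ∈ m := by
  by_contra hcm
  obtain ⟨b, a, ha, e⟩ := Ideal.IsMaximal.exists_inv (I := m) inferInstance hcm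
  have h1 : EA (b * (c : A)) = EA b * (c : A) := hEA.map_mul hssA b c.1 c.2
  have h2 : EA a ∈ m := hEA.mem_of_isSubcomod hssA _ hm _ ha
  have h3 : EA 1 = 1 := (hEA.fix 1).mpr (GLin.invariants k H A).one_mem
  have h4 := congrArg EA e
  rw [map_add, h1, h3] at h4
  set ca : GLin.invariants k H A := ⟨EA a, hEA.mem_fixedPts _⟩ with hca
  set cb : GLin.invariants k H A := ⟨EA b, hEA.mem_fixedPts _⟩ with hcb
  have hca_mem : ca ∈ IsLocalRing.maximalIdeal ↥(GLin.invariants k H A) := by
    rw [IsLocalRing.mem_maximalIdeal, mem_nonunits_iff]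
    intro hu
    have hu' : IsUnit ((GLin.invariants k H A).val ca) := hu.map (GLin.invariants k H A).val
    exact (Ideal.IsMaximal.ne_top (I := m) inferInstance) (Ideal.eq_top_of_isUnit_mem _ h2 hu')
  have h5 : cb * c + ca = 1 := Subtype.ext h4
  have h6 : (1 : GLin.invariants k H A) ∈ IsLocalRing.maximalIdeal ↥(GLin.invariants k H A) := by
    rw [← h5]
    exact Ideal.add_mem _ (Ideal.mul_mem_left _ _ hc) hca_mem
  exact (Ideal.ne_top_iff_one _).mp (IsLocalRing.maximalIdeal.isMaximal _).ne_top h6

omit [Algebra k A] [HopfRep.Comod k H A] [GLin.IsCoactAlg k H A] [IsScalarTower k A M]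
  [HopfRep.Comod k H M] [TameAct.IsHopfMod k H A M] [Module k M] in
theorem sub_mem_of_le (m : Ideal A) (x : ℕ → M)
    (hx : ∀ n, x (n + 1) - x n ∈ (m ^ n • ⊤ : Submodule A M)) (a b : ℕ) (hab : a ≤ b) :
    x b - x a ∈ (m ^ a • ⊤ : Submodule A M) := by
  induction b, hab using Nat.le_induction with
  | base => simp
  | succ b hab ih =>
    have : x (b + 1) - x a = (x (b + 1) - x b) + (x b - x a) := by abel
    rw [this]
    exact Submodule.add_mem _
      (Submodule.smul_mono_left (Ideal.pow_le_pow_right hab) (hx b)) ih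

end aux

/-- The key claim of its proof. Let k be a field and H a commutative Hopf algebra of finite type over k
all of whose finite-dimensional comodules are semisimple (a linearly reductive affine group G = Spec
H). Let A be a Noetherian commutative k-algebra with a coaction of H that is an algebra map (an
action of G on Spec A), let m be a maximal ideal of A stable under the coaction (for instance the
ideal of a closed point fixed by G), and assume that the ring of invariants A^G is a Noetherian
local ring, complete with respect to its maximal ideal. Let M be a finite A-module with a compatible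
H-coaction (a coherent G-module on Spec A). Then (i) an invariant element of M which lies in m^n M
for every n is zero, and (ii) for every sequence of invariants x_0, x_1, … with x_(n+1) − x_n ∈ m^n
M there is an invariant x with x − x_n ∈ m^n M for all n. In other words M^G → lim_n M^G/(m^n M)^G
is bijective: the m-adic filtration and the filtration by powers of the maximal ideal of A^G induce
the same topology on M^G. (The ring of invariants is assumed Noetherian here; this also follows from
linear reductivity.) -/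
theorem result
    (k : Type u) [Field k] (H : Type v) [CommRing H] [HopfAlgebra k H] [Algebra.FiniteType k H]
    (hG : HopfRep.IsLinearlyReductive k H)
    (A : Type w) [CommRing A] [Algebra k A] [IsNoetherianRing A]
    [HopfRep.Comod k H A] [GLin.IsCoactAlg k H A]
    (m : Ideal A) [m.IsMaximal] (hm : HopfRep.IsSubcomod (k := k) (A := H) (m.restrictScalars k))
    [IsLocalRing ↥(GLin.invariants k H A)] [IsNoetherianRing ↥(GLin.invariants k H A)]
    [IsAdicComplete (IsLocalRing.maximalIdeal ↥(GLin.invariants k H A)) ↥(GLin.invariants k H A)]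
    (M : Type w') [AddCommGroup M] [Module k M] [Module A M] [IsScalarTower k A M] [Module.Finite A M]
    [HopfRep.Comod k H M] [TameAct.IsHopfMod k H A M] :
    (∀ x ∈ HopfRep.fixedPts k H M, (∀ n : ℕ, x ∈ (m ^ n • ⊤ : Submodule A M)) → x = 0) ∧
      ∀ x : ℕ → M, (∀ n, x n ∈ HopfRep.fixedPts k H M) →
        (∀ n, x (n + 1) - x n ∈ (m ^ n • ⊤ : Submodule A M)) →
          ∃ y ∈ HopfRep.fixedPts k H M, ∀ n, y - x n ∈ (m ^ n • ⊤ : Submodule A M) := by
  classical
  have hssA := Groth.Agent.Lib.helper22.isSemisimpleComod_of_isLinearlyReductive' hG A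
  have hssM := Groth.Agent.Lib.helper22.isSemisimpleComod_of_isLinearlyReductive' hG M
  obtain ⟨EA, hEA⟩ := Groth.Agent.Lib.helper22.exists_isReynolds (k := k) (A := H) (V := A) hssA
  obtain ⟨EM, hEM⟩ := Groth.Agent.Lib.helper22.exists_isReynolds (k := k) (A := H) (V := M) hssM
  have hmtop : m ≠ ⊤ := Ideal.IsMaximal.ne_top inferInstance
  constructor
  · intro x hx hall
    have h := mem_of_forall_mem_sup hssA hEA m hm hmtop ⊥ isSubcomod_bot' x hx
      (fun n => Submodule.mem_sup_left (hall n))
    exact (Submodule.mem_bot A).mp h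
  · intro x hxfix hxc
    have hmC := coe_mem_of_mem_maximalIdeal hssA hEA m hm
    have hcof := fun n => exists_pow_le hssA hssM hEA hEM m hm hmtop n
    choose N0 hN0 using hcof
    let u : ℕ → ℕ := fun n => n + ∑ j ∈ Finset.range (n + 1), N0 j
    have hu1 : ∀ n, n ≤ u n := fun n => Nat.le_add_right _ _
    have hu2 : ∀ n, N0 n ≤ u n := fun n =>
      (Finset.single_le_sum (f := N0) (fun _ _ => Nat.zero_le _)
        (Finset.mem_range.mpr (Nat.lt_succ_self n))).trans (Nat.le_add_left _ _)
    have hu3 : ∀ n, u n ≤ u (n + 1) := by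
      intro n
      simp only [u]
      rw [Finset.sum_range_succ _ (n + 1)]
      omega
    haveI : IsNoetherian A M := isNoetherian_of_isNoetherianRing_of_finite A M
    haveI : IsNoetherian (GLin.invariants k H A) (MG k H A M) := isNoetherian_MG hssA hEA hEM
    haveI : Module.Finite (GLin.invariants k H A) (MG k H A M) := Module.IsNoetherian.finite _ _
    let w : ℕ → MG k H A M := fun n => ⟨x (u n), hxfix (u n)⟩
    have hw : ∀ n, w (n + 1) - w n ∈
        ((IsLocalRing.maximalIdeal ↥(GLin.invariants k H A)) ^ n •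
          (⊤ : Submodule (GLin.invariants k H A) (MG k H A M))) := by
      intro n
      apply hN0 n
      change x (u (n + 1)) - x (u n) ∈ (m ^ N0 n • ⊤ : Submodule A M)
      exact Submodule.smul_mono_left (Ideal.pow_le_pow_right (hu2 n))
        (sub_mem_of_le m x hxc (u n) (u (n + 1)) (hu3 n))
    obtain ⟨y, hy⟩ := exists_limit_of_cauchy
      (IsLocalRing.maximalIdeal ↥(GLin.invariants k H A)) w hw
    refine ⟨y.1, y.2, fun n => ?_⟩
    have h1 : ((y - w n : MG k H A M) : M) ∈ (m ^ n • ⊤ : Submodule A M) :=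
      Nn_pow_le m _ hmC n (coe_mem_Nn_of_mem_smul_top _ _ (hy n))
    have h2 : x (u n) - x n ∈ (m ^ n • ⊤ : Submodule A M) :=
      sub_mem_of_le m x hxc n (u n) (hu1 n)
    have e : (y : M) - x n = ((y - w n : MG k H A M) : M) + (x (u n) - x n) := by
      change (y : M) - x n = ((y : M) - x (u n)) + (x (u n) - x n)
      abel
    rw [e]
    exact Submodule.add_mem _ h1 h2

end Groth.Agent.S16105
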