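import Groth.Statements.S13337
import Mathlib
import Groth.Agent.Lib.Helper11.RealProjUniv

set_option autoImplicit false
open CategoryTheory CategoryTheory.Limits
universe u
open FCompl

namespace Groth.Agent.S13337


open AlgebraicGeometry Groth.Agent.Lib.helper11.RealProjUniv in
theorem toPush_comm_of_desc (𝔛 : FSch.Sys.{u}) (h𝔛 : 𝔛.IsLocNoethFormal) (𝔐 𝔑 : FSch.ModSys 𝔛)
    (h𝔐 : 𝔐.IsCoh) (Φ : 𝔐.realMod h𝔛.1 ⟶ 𝔑.realMod h𝔛.1) (φ : ∀ k, 𝔐.F k ⟶ 𝔑.F k)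
    (hφ : ∀ k, FSch.realProj 𝔛 h𝔛.1 𝔐.F 𝔐.toPush k ≫ (FSch.levelMor 𝔛 h𝔛.1 k).push.map (φ k) =
      Φ ≫ FSch.realProj 𝔛 h𝔛.1 𝔑.F 𝔑.toPush k) (k : ℕ) :
    𝔐.toPush k ≫ (Scheme.Modules.pushforward (𝔛.ι k)).map (φ k) = φ (k + 1) ≫ 𝔑.toPush k := by
  apply hom_ext_realProj 𝔛 h𝔛 𝔐 h𝔐 (k + 1)
  have hmono : ∀ {Z : FSch.ModF 𝔛 h𝔛.1} (a b : Z ⟶ ((Scheme.Modules.pushforward (𝔛.ι k) ⋙
      (FSch.levelMor 𝔛 h𝔛.1 (k + 1)).push).obj (𝔑.F k))),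
      a ≫ (FSch.pushCompare 𝔛 h𝔛.1 k).app (𝔑.F k) = b ≫ (FSch.pushCompare 𝔛 h𝔛.1 k).app (𝔑.F k) →
      a = b := by
    intro Z a b hab
    have h1 := congrArg (fun f => f ≫ (FSch.pushCompareInv 𝔛 h𝔛.1 k).app (𝔑.F k)) hab
    simp only [Category.assoc, FSch.pushCompare_pushCompareInv, Category.comp_id] at h1
    exact h1
  apply hmono
  have nat : (FSch.levelMor 𝔛 h𝔛.1 (k + 1)).push.map ((Scheme.Modules.pushforward (𝔛.ι k)).map (φ k)) ≫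
      (FSch.pushCompare 𝔛 h𝔛.1 k).app (𝔑.F k) =
      (FSch.pushCompare 𝔛 h𝔛.1 k).app (𝔐.F k) ≫ (FSch.levelMor 𝔛 h𝔛.1 k).push.map (φ k) :=
    (FSch.pushCompare 𝔛 h𝔛.1 k).naturality (φ k)
  have hL : (FSch.realProj 𝔛 h𝔛.1 𝔐.F 𝔐.toPush (k + 1) ≫ (FSch.levelMor 𝔛 h𝔛.1 (k + 1)).push.map
      (𝔐.toPush k ≫ (Scheme.Modules.pushforward (𝔛.ι k)).map (φ k))) ≫
      (FSch.pushCompare 𝔛 h𝔛.1 k).app (𝔑.F k) = Φ ≫ FSch.realProj 𝔛 h𝔛.1 𝔑.F 𝔑.toPush k := by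
    rw [Functor.map_comp, Category.assoc, Category.assoc, nat, ← hφ k,
      ← FSch.realProj_map 𝔛 h𝔛.1 𝔐.F 𝔐.toPush k]
    simp only [Category.assoc]
  have hR : (FSch.realProj 𝔛 h𝔛.1 𝔐.F 𝔐.toPush (k + 1) ≫ (FSch.levelMor 𝔛 h𝔛.1 (k + 1)).push.map
      (φ (k + 1) ≫ 𝔑.toPush k)) ≫
      (FSch.pushCompare 𝔛 h𝔛.1 k).app (𝔑.F k) = Φ ≫ FSch.realProj 𝔛 h𝔛.1 𝔑.F 𝔑.toPush k := by
    rw [Functor.map_comp, ← Category.assoc, hφ (k + 1),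
      ← FSch.realProj_map 𝔛 h𝔛.1 𝔑.F 𝔑.toPush k]
    simp only [Category.assoc]
    exact Category.assoc _ _ _
  exact hL.trans hR.symm


open AlgebraicGeometry in
/-- On a locally Noetherian formal scheme presented as an adic system of locally Noetherian thickenings
with common underlying space, for two systems of coherent modules on the levels with compatible
transition isomorphisms, the map sending a morphism of systems to the induced morphism between the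
attached O_𝔛-modules (limits of direct images) is bijective: Hom_{O_𝔛}(𝔉, 𝔊) is the limit of the
Hom_{O_{X_n}}(F_n, G_n). -/
theorem result (𝔛 : FSch.Sys.{u}) (h𝔛 : 𝔛.IsLocNoethFormal) (𝔐 𝔑 : FSch.ModSys 𝔛)
    (h𝔐 : 𝔐.IsCoh) (h𝔑 : 𝔑.IsCoh) :
    Function.Bijective (fun φ : 𝔐 ⟶ 𝔑 => FSch.ModSys.realModMap h𝔛.1 φ) := by
  constructor
  · intro φ ψ hφψ
    apply FSch.ModSys.Hom.ext
    funext k
    apply Groth.Agent.Lib.helper11.RealProjUniv.hom_ext_realProj 𝔛 h𝔛 𝔐 h𝔐 k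
    have h1 := FSch.realLimMap_realProj 𝔛 h𝔛.1 φ.app (FSch.ModSys.Hom.toPush_comm φ) k
    have h2 := FSch.realLimMap_realProj 𝔛 h𝔛.1 ψ.app (FSch.ModSys.Hom.toPush_comm ψ) k
    rw [← h1, ← h2]
    exact congrArg (fun f => f ≫ FSch.realProj 𝔛 h𝔛.1 𝔑.F 𝔑.toPush k) hφψ
  · intro Φ
    choose φ hφ using fun k => Groth.Agent.Lib.helper11.RealProjUniv.exists_desc 𝔛 h𝔛 𝔐 h𝔐 k
      (Φ ≫ FSch.realProj 𝔛 h𝔛.1 𝔑.F 𝔑.toPush k)
    have hcomm : ∀ k, (Scheme.Modules.pullback (𝔛.ι k)).map (φ (k + 1)) ≫ (𝔑.e k).hom =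
        (𝔐.e k).hom ≫ φ k := by
      intro k
      apply ((Scheme.Modules.pullbackPushforwardAdjunction (𝔛.ι k)).homEquiv _ _).injective
      rw [Adjunction.homEquiv_naturality_left, Adjunction.homEquiv_naturality_right]
      exact (toPush_comm_of_desc 𝔛 h𝔛 𝔐 𝔑 h𝔐 Φ φ hφ k).symm
    refine ⟨⟨φ, hcomm⟩, ?_⟩
    apply limit.hom_ext
    intro j
    induction j using Opposite.rec with | _ k => ?_
    have h1 := FSch.realLimMap_realProj 𝔛 h𝔛.1 φ (FSch.ModSys.Hom.toPush_comm (⟨φ, hcomm⟩ : 𝔐 ⟶ 𝔑)) k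
    exact h1.trans (hφ k)

end Groth.Agent.S13337
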