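import Groth.Statements.S13342
import Mathlib
import Groth.Agent.Lib.Helper6.FSch

set_option autoImplicit false
open CategoryTheory CategoryTheory.Limits
universe u
open FCompl

namespace Groth.Agent.S13342


open AlgebraicGeometry in
theorem isPullback_resLE_lvU (𝔛 : FSch.Sys.{u}) (h : 𝔛.IsFormal) (U : (𝔛.X 0).Opens) (n : ℕ) :
    IsPullback ((𝔛.ι n).resLE (𝔛.lvU h (n + 1) U) (𝔛.lvU h n U) (𝔛.lvU_le h n U))
      (𝔛.lvU h n U).ι (𝔛.lvU h (n + 1) U).ι (𝔛.ι n) := by
  have heq := 𝔛.lvU_succ h n U
  have hp := isPullback_morphismRestrict (𝔛.ι n) (𝔛.lvU h (n + 1) U)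
  refine hp.of_iso ((𝔛.X n).isoOfEq heq) (Iso.refl _) (Iso.refl _) (Iso.refl _) ?_ ?_ ?_ ?_
  · rw [Iso.refl_hom, Category.comp_id, Scheme.Hom.resLE, ← Category.assoc]
    have : ((𝔛.X n).isoOfEq heq).hom ≫ (𝔛.X n).homOfLE (𝔛.lvU_le h n U) = 𝟙 _ := by
      rw [← cancel_mono (Scheme.Opens.ι _)]
      simp
    rw [this, Category.id_comp]
  · simp
  · simp
  · simp

open AlgebraicGeometry in
theorem isAdicHom_restrictOpenι (𝔛 : FSch.Sys.{u}) (h : 𝔛.IsFormal) (U : (𝔛.X 0).Opens) :
    FSch.IsAdicHom (𝔛.restrictOpenι h U) := fun n => isPullback_resLE_lvU 𝔛 h U n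


open AlgebraicGeometry in
/-- The formal prescheme induced on an open subset of a formal prescheme (resp. of a locally Noetherian
formal prescheme, resp. of a Noetherian formal prescheme) is a formal prescheme (resp. a locally
Noetherian formal prescheme, resp. a Noetherian formal prescheme). In the presentation by systems of
thickenings with common underlying space: for an open U, the induced system (the open subschemes of
the levels over U with the restricted transition maps) is again a system of thickenings; it is adic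
with locally Noetherian levels when the given system is; and if moreover the common underlying space
is quasi-compact (a Noetherian formal prescheme), so is that of the induced system. -/
theorem result (𝔛 : FSch.Sys.{u}) (h : 𝔛.IsFormal) (U : (𝔛.X 0).Opens) :
    (𝔛.restrictOpen h U).IsFormal ∧ (𝔛.IsLocNoethFormal → (𝔛.restrictOpen h U).IsLocNoethFormal) ∧
      (𝔛.IsLocNoethFormal → CompactSpace (𝔛.X 0) → CompactSpace ((𝔛.restrictOpen h U).X 0)) := by
  have hadic := isAdicHom_restrictOpenι 𝔛 h U
  have hF := Groth.Agent.Lib.helper6.isFormal_of_isAdicHom _ hadic h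
  refine ⟨hF, fun hN => ⟨hF, Groth.Agent.Lib.helper6.isAdic_of_isAdicHom _ hadic hN.1 hN.2.1,
    fun n => ?_⟩, fun hN hc => ?_⟩
  · have := hN.2.2 n
    exact inferInstanceAs (IsLocallyNoetherian (𝔛.lvU h n U).toScheme)
  · have := hN.2.2 0
    have hNoeth : IsNoetherian (𝔛.X 0) := { }
    have hNS : TopologicalSpace.NoetherianSpace (𝔛.X 0) := inferInstance
    change CompactSpace ((𝔛.lvU h 0 U : (𝔛.X 0).Opens) : Set (𝔛.X 0))
    exact isCompact_iff_compactSpace.mp (TopologicalSpace.NoetherianSpace.isCompact _)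

end Groth.Agent.S13342
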