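import Groth.Statements.S13341
import Mathlib

set_option autoImplicit false
open CategoryTheory
universe u
open FCompl

namespace Groth.Agent.S13341

open AlgebraicGeometry in
/-- Formal schemes are presented as locally Noetherian adic systems of thickenings and the fibre product
is taken levelwise (it presents the fibre product of formal schemes since one factor is adic over
the base). Let 𝔖 be a locally Noetherian formal system, 𝔛 and 𝔜 locally Noetherian formal systems
over 𝔖 such that 𝔛 or 𝔜 is of finite type over 𝔖, and 𝔜 separated over 𝔖 at level 0. Then for every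
𝔖-morphism f : 𝔛 → 𝔜 the graph morphism 𝔛 → 𝔛 ×_𝔖 𝔜 is a closed immersion: adic, with level 0 a
closed immersion. -/
theorem result {𝔛 𝔜 𝔖 : FSch.Sys.{u}} (h𝔖 : 𝔖.IsLocNoethFormal) (h𝔛 : 𝔛.IsLocNoethFormal)
    (h𝔜 : 𝔜.IsLocNoethFormal) (p : 𝔛 ⟶ 𝔖) (q : 𝔜 ⟶ 𝔖) (hpq : FSch.IsFiniteTypeHom p ∨ FSch.IsFiniteTypeHom q)
    (hq : IsSeparated ((q : FSch.Hom 𝔜 𝔖).app 0)) (f : 𝔛 ⟶ 𝔜) (w : f ≫ q = p) :
    FSch.IsClosedImmHom (FSch.graph f p q w) := by
  subst w
  refine ⟨fun n => ?_, ?_⟩
  · have hmono : Mono (𝔜.ι n) := by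
      have := (h𝔜.1 n).1
      infer_instance
    set G : FSch.Hom 𝔛 (FSch.pullbackSys (f ≫ q) q) := FSch.graph f (f ≫ q) q rfl with hG
    set P1 : FSch.Hom (FSch.pullbackSys (f ≫ q) q) 𝔛 := FSch.pullbackFst (f ≫ q) q with hP1
    set P2 : FSch.Hom (FSch.pullbackSys (f ≫ q) q) 𝔜 := FSch.pullbackSnd (f ≫ q) q with hP2
    have hc := G.comm n
    have hg1 : ∀ m, G.app m ≫ P1.app m = 𝟙 _ := fun m => Limits.pullback.lift_fst _ _ _
    have hg2 : ∀ m, G.app m ≫ P2.app m = (f : FSch.Hom _ _).app m :=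
      fun m => Limits.pullback.lift_snd _ _ _
    have hι1 := P1.comm n
    have hι2 := P2.comm n
    have hext : ∀ {T : Scheme.{u}} (a b : T ⟶ (FSch.pullbackSys (f ≫ q) q).X n),
        a ≫ P1.app n = b ≫ P1.app n → a ≫ P2.app n = b ≫ P2.app n → a = b :=
      fun a b h1 h2 => Limits.pullback.hom_ext h1 h2
    refine ⟨⟨hc.symm⟩, ⟨Limits.PullbackCone.IsLimit.mk _
      (fun s => s.snd ≫ P1.app n) ?_ ?_ ?_⟩⟩
    · intro s
      have h1 := s.condition =≫ P1.app (n + 1)
      rw [Category.assoc, Category.assoc, hg1, ← hι1, Category.comp_id] at h1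
      rw [Category.assoc]
      exact h1.symm
    · intro s
      have h1 := s.condition =≫ P1.app (n + 1)
      rw [Category.assoc, Category.assoc, hg1, ← hι1, Category.comp_id] at h1
      have h2 := s.condition =≫ P2.app (n + 1)
      rw [Category.assoc, Category.assoc, hg2, ← hι2] at h2
      apply hext
      · rw [Category.assoc, Category.assoc, hg1, Category.comp_id]
      · rw [Category.assoc, Category.assoc, hg2, ← cancel_mono (𝔜.ι n), Category.assoc,
          Category.assoc, Category.assoc, ← h2, (f : FSch.Hom 𝔛 𝔜).comm n, h1, Category.assoc, Category.assoc]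
    · intro s m _ hm
      have := hm =≫ P1.app n
      rw [Category.assoc, hg1, Category.comp_id] at this
      exact this
  · have : IsSeparated ((q : FSch.Hom 𝔜 𝔖).app 0) := hq
    exact inferInstanceAs (IsClosedImmersion (Limits.pullback.lift (𝟙 _) ((f : FSch.Hom 𝔛 𝔜).app 0)
      (Category.id_comp ((f : FSch.Hom 𝔛 𝔜).app 0 ≫ (q : FSch.Hom 𝔜 𝔖).app 0))))

end Groth.Agent.S13341
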