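import Groth.Statements.S13347
import Mathlib
import Groth.Agent.Lib.Helper7.ThickAff5
import Groth.Agent.Lib.Helper8.LimAdic

set_option autoImplicit false
open CategoryTheory CategoryTheory.Limits
universe u
open Opposite
open FCompl

namespace Groth.Agent.S13347

open AlgebraicGeometry CategoryTheory CategoryTheory.Limits Opposite

/-- sections of an `ℕᵒᵖ`-diagram of types: compatibility with successor maps suffices -/
theorem map_homOfLE_eq (G : ℕᵒᵖ ⥤ Type u) (x : ∀ n, G.obj (op n))
    (hx : ∀ n, G.map (homOfLE (Nat.le_succ n)).op (x (n + 1)) = x n) :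
    ∀ (a b : ℕ) (hab : b ≤ a), G.map (homOfLE hab).op (x a) = x b := by
  intro a
  induction a with
  | zero =>
    intro b hab
    obtain rfl : b = 0 := Nat.le_zero.mp hab
    have : (homOfLE hab).op = 𝟙 (op 0) := Subsingleton.elim _ _
    rw [this, G.map_id]
    rfl
  | succ a ih =>
    intro b hab
    rcases Nat.eq_or_lt_of_le hab with rfl | hlt
    · have : (homOfLE hab).op = 𝟙 (op (a + 1)) := Subsingleton.elim _ _
      rw [this, G.map_id]
      rfl
    · have hba : b ≤ a := Nat.lt_succ_iff.mp hlt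
      have : (homOfLE hab).op = (homOfLE (Nat.le_succ a)).op ≫ (homOfLE hba).op :=
        Subsingleton.elim _ _
      rw [this, G.map_comp]
      change G.map (homOfLE hba).op (G.map (homOfLE (Nat.le_succ a)).op (x (a + 1))) = x b
      rw [hx a, ih b hba]

/-- the open of level `n` over an affine open of the common space is affine -/
theorem isAffineOpen_lvU (𝔛 : FSch.Sys.{u}) (h : 𝔛.IsFormal) (n : ℕ) (U : (𝔛.X 0).Opens)
    (hU : IsAffineOpen U) : IsAffineOpen (𝔛.lvU h n U) := by
  haveI := 𝔛.toX_isClosedImmersion h n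
  have hpre : 𝔛.toX n ⁻¹ᵁ (𝔛.lvU h n U) = U := by
    change (TopologicalSpace.Opens.map ((𝔛.toX n).base ≫ 𝔛.gInv h n)).obj U = U
    rw [𝔛.toX_base_gInv h n]
    rfl
  have hUa : IsAffineOpen (𝔛.toX n ⁻¹ᵁ (𝔛.lvU h n U)) := by rw [hpre]; exact hU
  haveI : IsAffine (𝔛.toX n ⁻¹ᵁ (𝔛.lvU h n U) : Scheme.{u}) := hUa
  refine Groth.Agent.Lib.helper7.ThickAff.isAffine_of_thickening (𝔛.toX n ∣_ (𝔛.lvU h n U)) ?_
  rintro ⟨y, hy⟩
  obtain ⟨x, rfl⟩ := 𝔛.toX_surjective h n y
  refine ⟨⟨x, hy⟩, ?_⟩
  apply Subtype.ext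
  exact congrArg (fun φ : (𝔛.toX n ⁻¹ᵁ (𝔛.lvU h n U) : Scheme.{u}) ⟶ 𝔛.X n => φ ⟨x, hy⟩)
    (morphismRestrict_ι (𝔛.toX n) (𝔛.lvU h n U))

open AlgebraicGeometry CategoryTheory in
theorem appLE_surjective_of_eq {X Y : Scheme.{u}} (f : X ⟶ Y) [IsClosedImmersion f] (V : Y.Opens)
    (W : X.Opens) (hW : f ⁻¹ᵁ V = W) (hV : IsAffineOpen V) :
    Function.Surjective (f.appLE V W hW.ge) := by
  subst hW
  rw [Scheme.Hom.appLE_eq_app]
  exact f.app_surjective V hV


open AlgebraicGeometry in
/-- Let (X_i) be an inductive system of preschemes on one underlying space with surjective transition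
homomorphisms whose kernels O_{X_i} → O_{X_0} are locally nilpotent — here a system of thickenings
(closed immersions surjective on points) with the kernel ideal of X_0 → X_i nilpotent on every
affine open of X_i — and O_𝔛 = lim O_{X_i} the structure sheaf of the formal prescheme it defines.
Then the canonical homomorphisms O_𝔛 → O_{X_i} are surjective: over every affine open U of X_0 the
map on sections Γ(U, O_𝔛) → Γ(U_i, O_{X_i}) is onto. -/
theorem result (𝔛 : FSch.Sys.{u}) (h : 𝔛.IsFormal)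
    (hb : ∀ (i : ℕ) (V : (𝔛.X i).affineOpens), IsNilpotent ((𝔛.toX i).ker.ideal V))
    (i : ℕ) (U : (𝔛.X 0).Opens) (hU : IsAffineOpen U) :
    Function.Surjective ((𝔛.OshProj h i).hom.app (op U)) := by
  classical
  let D := 𝔛.levelRing h
  let F : Sheaf (Opens.grothendieckTopology (𝔛.X 0)) CommRingCat.{u} ⥤ Type u :=
    sheafToPresheaf _ _ ⋙ (evaluation _ _).obj (op U) ⋙ forget CommRingCat
  have hc : IsLimit (F.mapCone (limit.cone D)) := isLimitOfPreserves F (limit.isLimit D)
  intro y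
  have hsurj : ∀ n, Function.Surjective ((D ⋙ F).map (homOfLE (Nat.le_succ n)).op) := by
    intro n
    have h1 : D.map (homOfLE (Nat.le_succ n)).op = 𝔛.levelMap h n := 𝔛.levelRing_map_succ h n
    change Function.Surjective ((forget CommRingCat).map ((D.map (homOfLE (Nat.le_succ n)).op).hom.app (op U)))
    rw [h1, FSch.Sys.levelMap_app]
    haveI := (h n).1
    exact appLE_surjective_of_eq (𝔛.ι n) _ _ (𝔛.lvU_succ h n U)
      (isAffineOpen_lvU 𝔛 h (n + 1) U hU)
  obtain ⟨x, hx, hxi⟩ := Groth.Agent.Lib.helper8.LimAdic.exists_compatible i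
    (fun n => (D ⋙ F).obj (op n)) (fun n => (D ⋙ F).map (homOfLE (Nat.le_succ n)).op) hsurj y
  have hcompat := map_homOfLE_eq (D ⋙ F) x hx
  let s : (D ⋙ F).sections := ⟨fun j => x j.unop, fun {j j'} φ => by
    have h2 := hcompat j.unop j'.unop (leOfHom φ.unop)
    have h3 : φ = (homOfLE (leOfHom φ.unop)).op := Subsingleton.elim _ _
    rw [h3]
    exact h2⟩
  refine ⟨(Types.isLimitEquivSections hc).symm s, ?_⟩
  exact (Types.isLimitEquivSections_symm_apply hc s (op i)).trans hxi

end Groth.Agent.S13347
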