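import Groth.Statements.S13353
import Mathlib


set_option autoImplicit false
universe u
open scoped TensorProduct
open AdicRing

namespace Groth.Agent.S13353

set_option linter.style.haveILetI false
open Polynomial

section Gen

theorem isUnit_of_inv_integral {D DK : Type*} [CommRing D] [CommRing DK] [Algebra D DK]
    (hinj : Function.Injective (algebraMap D DK)) (u : D) (z : DK) (hz : IsIntegral D z)
    (huz : algebraMap D DK u * z = 1) : IsUnit u := by
  obtain ⟨P, hP, hPz⟩ := hz
  letI : Invertible z := ⟨algebraMap D DK u, huz, by rw [mul_comm]; exact huz⟩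
  have h1 : eval₂ (algebraMap D DK) (⅟z) (reverse P) = 0 :=
    (eval₂_reverse_eq_zero_iff (algebraMap D DK) z P).2 hPz
  have h2 : (⅟z : DK) = algebraMap D DK u := rfl
  rw [h2, eval₂_at_apply] at h1
  have h3 : eval u (reverse P) = 0 := hinj (by rw [h1, map_zero])
  have h4 := divX_mul_X_add (reverse P)
  rw [coeff_zero_reverse, hP.leadingCoeff] at h4
  have h5 : eval u (divX (reverse P)) * u + 1 = 0 := by
    have := congrArg (eval u) h4
    simpa [h3] using this
  exact IsUnit.of_mul_eq_one (-(eval u (divX (reverse P)))) (by linear_combination -h5)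

end Gen

section Base

variable {R : Type u} [CommRing R] [IsDomain R] [ValuationRing R] [Ring.KrullDimLE 1 R]
  (t : R) [IsAdicComplete (Ideal.span {t}) R]

include t in
theorem not_isUnit_t : ¬ IsUnit t := by
  intro h
  have htop : Ideal.span {t} = ⊤ := Ideal.span_singleton_eq_top.2 h
  have hH : IsHausdorff (Ideal.span {t}) R := inferInstance
  have := hH.haus' (1 : R) (fun n => by
    rw [htop]; simp [SModEq.sub_mem, Ideal.top_pow])
  exact one_ne_zero this

theorem exists_pow_eq_mul (c : R) (hc : c ≠ 0) : ∃ (m : ℕ) (e : R), t ^ m = c * e := by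
  have hmem : t ∈ (Ideal.span {c}).radical := by
    rw [Ideal.radical_eq_sInf, Ideal.mem_sInf]
    rintro P ⟨hcP, hP⟩
    have hPb : P ≠ ⊥ := by
      rintro rfl
      exact hc (by simpa using hcP (Ideal.mem_span_singleton_self c))
    have hmax : P.IsMaximal := hP.isMaximal_of_ne_bot hPb
    have : P = IsLocalRing.maximalIdeal R := IsLocalRing.eq_maximalIdeal hmax
    rw [this, IsLocalRing.mem_maximalIdeal]
    exact not_isUnit_t t
  obtain ⟨m, hm⟩ := hmem
  obtain ⟨e, he⟩ := Ideal.mem_span_singleton'.1 hm
  exact ⟨m, e, by rw [← he, mul_comm]⟩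

theorem smul_cancel {M : Type*} [AddCommGroup M] [Module R M]
    (hM : NoPowTorsion (Ideal.span {t}) M) (c : R) (hc : c ≠ 0) (x : M) (h : c • x = 0) :
    x = 0 := by
  obtain ⟨m, e, hme⟩ := exists_pow_eq_mul t c hc
  refine hM x m ?_
  intro a ha
  rw [Ideal.span_singleton_pow] at ha
  obtain ⟨b, rfl⟩ := Ideal.mem_span_singleton'.1 ha
  rw [hme, mul_comm c e, ← mul_assoc, mul_smul, h, smul_zero]

end Base


section Tens

variable {R : Type u} [CommRing R] [IsDomain R] [ValuationRing R]

theorem flat_of_cancel {M : Type*} [AddCommGroup M] [Module R M]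
    (h : ∀ c : R, c ≠ 0 → ∀ x : M, c • x = 0 → x = 0) : Module.Flat R M := by
  rw [Module.Flat.flat_iff_torsion_eq_bot_of_isBezout, eq_bot_iff]
  intro x hx
  obtain ⟨a, ha⟩ := (Submodule.mem_torsion_iff x).1 hx
  exact (Submodule.mem_bot R).2 (h a.1 (nonZeroDivisors.coe_ne_zero a) x ha)

theorem algebraMap_injective_of_cancel {D : Type u} [CommRing D] [Algebra R D]
    (h : ∀ c : R, c ≠ 0 → ∀ x : D, c • x = 0 → x = 0) :
    Function.Injective (algebraMap D (D ⊗[R] FractionRing R)) := by
  haveI : Module.Flat R D := flat_of_cancel h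
  have h1 : Function.Injective
      ((Algebra.linearMap R (FractionRing R)).lTensor D) :=
    Module.Flat.lTensor_preserves_injective_linearMap _ (IsFractionRing.injective R (FractionRing R))
  have h2 : ∀ x : D, algebraMap D (D ⊗[R] FractionRing R) x =
      ((Algebra.linearMap R (FractionRing R)).lTensor D) ((TensorProduct.rid R D).symm x) := by
    intro x
    simp [Algebra.TensorProduct.algebraMap_apply]
  intro x y hxy
  rw [h2, h2] at hxy
  exact (TensorProduct.rid R D).symm.injective (h1 hxy)

theorem isUnit_algebraMap_tensor {D : Type u} [CommRing D] [Algebra R D] (c : R) (hc : c ≠ 0) :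
    IsUnit (algebraMap R (D ⊗[R] FractionRing R) c) := by
  have h1 : IsUnit (algebraMap R (FractionRing R) c) :=
    (IsUnit.mk0 _ ((map_ne_zero_iff _ (IsFractionRing.injective R (FractionRing R))).2 hc))
  have := h1.map (Algebra.TensorProduct.includeRight : FractionRing R →ₐ[R] D ⊗[R] FractionRing R)
  rwa [AlgHom.commutes] at this

end Tens

theorem main
    (R : Type u) [CommRing R] [IsDomain R] [ValuationRing R] [Ring.KrullDimLE 1 R]
    (t : R) (ht : t ≠ 0) [IsAdicComplete (Ideal.span {t}) R]
    (A : Type u) [CommRing A] [Algebra R A] (hA : AdicRing.Admissible R (Ideal.span {t}) A)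
    (n : ℕ) (f : Fin n → A ⊗[R] FractionRing R) (hf : ∀ i, IsIntegral A (f i))
    (c : R) (hc : c ≠ 0) (g : Fin n → A)
    (hg : ∀ i, algebraMap A (A ⊗[R] FractionRing R) (g i) = c • f i)
    (D : Type u) [CommRing D] [Algebra R D] (hD : AdicRing.Admissible R (Ideal.span {t}) D)
    (φ : A →ₐ[R] D)
    (hgen : (Ideal.span (insert (algebraMap R A c) (Set.range g))).map φ =
          Ideal.span {algebraMap R D c} ∨
      ∃ i, (Ideal.span (insert (algebraMap R A c) (Set.range g))).map φ = Ideal.span {φ (g i)}) :
    (Ideal.span (insert (algebraMap R A c) (Set.range g))).map φ = Ideal.span {algebraMap R D c} ∧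
      ∃! ψ : ↥(Algebra.adjoin A (Set.range f)) →ₐ[R] D,
        ψ.comp (IsScalarTower.toAlgHom R A ↥(Algebra.adjoin A (Set.range f))) = φ := by
  have hDc : ∀ c : R, c ≠ 0 → ∀ x : D, c • x = 0 → x = 0 :=
    fun c hc x h => smul_cancel t hD.2 c hc x h
  have hinj := algebraMap_injective_of_cancel hDc
  let Φ : A ⊗[R] FractionRing R →ₐ[R] D ⊗[R] FractionRing R :=
    Algebra.TensorProduct.map φ (AlgHom.id R (FractionRing R))
  have hΦ : ∀ a : A, Φ (algebraMap A (A ⊗[R] FractionRing R) a) =
      algebraMap D (D ⊗[R] FractionRing R) (φ a) := by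
    intro a; simp [Φ, Algebra.TensorProduct.algebraMap_apply]
  have hcu : IsUnit (algebraMap R (D ⊗[R] FractionRing R) c) := isUnit_algebraMap_tensor c hc
  have hsm : ∀ (r : R) (x : D ⊗[R] FractionRing R),
      r • x = algebraMap R (D ⊗[R] FractionRing R) r * x := fun r x => Algebra.smul_def r x
  have hcancel : ∀ x y : D ⊗[R] FractionRing R, c • x = c • y → x = y := by
    intro x y h
    rw [hsm, hsm] at h
    exact hcu.mul_left_cancel h
  have hΦf : ∀ i, c • Φ (f i) = algebraMap D (D ⊗[R] FractionRing R) (φ (g i)) := by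
    intro i; rw [← map_smul, ← hg, hΦ]
  have hfirst : (Ideal.span (insert (algebraMap R A c) (Set.range g))).map φ =
      Ideal.span {algebraMap R D c} := by
    rcases hgen with h | ⟨i, hi⟩
    · exact h
    · have hc' : algebraMap R D c ∈ Ideal.span {φ (g i)} := by
        rw [← hi]
        have : algebraMap R D c = φ (algebraMap R A c) := (φ.commutes c).symm
        rw [this]
        exact Ideal.mem_map_of_mem _ (Ideal.subset_span (Set.mem_insert _ _))
      obtain ⟨u, hu⟩ := Ideal.mem_span_singleton'.1 hc'
      have hz : IsIntegral D (Φ (f i)) :=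
        IsIntegral.map_of_comp_eq φ.toRingHom Φ.toRingHom
          (RingHom.ext fun a => (hΦ a).symm) (hf i)
      have huz : algebraMap D (D ⊗[R] FractionRing R) u * Φ (f i) = 1 := by
        apply hcancel
        rw [hsm, hsm, mul_left_comm, ← hsm, hΦf, ← map_mul, hu, mul_one,
          ← IsScalarTower.algebraMap_apply]
      have huu : IsUnit u := isUnit_of_inv_integral hinj u _ hz huz
      rw [hi, ← hu]
      exact (Ideal.span_singleton_mul_left_unit huu _).symm
  have hd : ∀ i, ∃ d : D, φ (g i) = d * algebraMap R D c := by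
    intro i
    have : φ (g i) ∈ (Ideal.span (insert (algebraMap R A c) (Set.range g))).map φ :=
      Ideal.mem_map_of_mem _ (Ideal.subset_span (Set.mem_insert_of_mem _ ⟨i, rfl⟩))
    rw [hfirst] at this
    obtain ⟨d, hd⟩ := Ideal.mem_span_singleton'.1 this
    exact ⟨d, hd.symm⟩
  choose d hd using hd
  have hΦd : ∀ i, Φ (f i) = algebraMap D (D ⊗[R] FractionRing R) (d i) := by
    intro i
    apply hcancel
    rw [hΦf, hd, map_mul, ← IsScalarTower.algebraMap_apply, hsm, mul_comm]
  have hrange : ∀ x ∈ Algebra.adjoin A (Set.range f),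
      ∃ y : D, algebraMap D (D ⊗[R] FractionRing R) y = Φ x := by
    intro x hx
    induction hx using Algebra.adjoin_induction with
    | mem x hx => obtain ⟨i, rfl⟩ := hx; exact ⟨d i, (hΦd i).symm⟩
    | algebraMap a => exact ⟨φ a, (hΦ a).symm⟩
    | add x y _ _ hx hy =>
      obtain ⟨a, ha⟩ := hx; obtain ⟨b, hb⟩ := hy
      exact ⟨a + b, by rw [map_add, map_add, ha, hb]⟩
    | mul x y _ _ hx hy =>
      obtain ⟨a, ha⟩ := hx; obtain ⟨b, hb⟩ := hy
      exact ⟨a * b, by rw [map_mul, map_mul, ha, hb]⟩
  let ψf : ↥(Algebra.adjoin A (Set.range f)) → D := fun x => Classical.choose (hrange x.1 x.2)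
  have hψf : ∀ x, algebraMap D (D ⊗[R] FractionRing R) (ψf x) = Φ x.1 :=
    fun x => Classical.choose_spec (hrange x.1 x.2)
  let ψ : ↥(Algebra.adjoin A (Set.range f)) →ₐ[R] D :=
    { toFun := ψf
      map_one' := hinj (by rw [hψf, map_one]; simp)
      map_mul' := fun x y => hinj (by rw [hψf, map_mul, hψf, hψf]; simp)
      map_zero' := hinj (by rw [hψf, map_zero]; simp)
      map_add' := fun x y => hinj (by rw [hψf, map_add, hψf, hψf]; simp)
      commutes' := fun r => hinj (by
        rw [hψf, ← IsScalarTower.algebraMap_apply]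
        exact Φ.commutes r) }
  have hψ : ψ.comp (IsScalarTower.toAlgHom R A ↥(Algebra.adjoin A (Set.range f))) = φ := by
    ext a
    apply hinj
    exact (hψf _).trans (hΦ a)
  refine ⟨hfirst, ψ, hψ, ?_⟩
  intro ψ' hψ'
  have hcD : ∀ x y : D, algebraMap R D c * x = algebraMap R D c * y → x = y := by
    intro x y h
    have : c • (x - y) = 0 := by rw [Algebra.smul_def, mul_sub, h, sub_self]
    exact sub_eq_zero.1 (hDc c hc _ this)
  have key : ∀ (x : A ⊗[R] FractionRing R) (hx : x ∈ Algebra.adjoin A (Set.range f)),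
      ψ' ⟨x, hx⟩ = ψ ⟨x, hx⟩ := by
    intro x hx
    induction hx using Algebra.adjoin_induction with
    | mem x hx =>
      obtain ⟨i, rfl⟩ := hx
      apply hcD
      have e1 : ∀ χ : ↥(Algebra.adjoin A (Set.range f)) →ₐ[R] D,
          χ.comp (IsScalarTower.toAlgHom R A _) = φ →
          algebraMap R D c * χ ⟨f i, Algebra.subset_adjoin ⟨i, rfl⟩⟩ = φ (g i) := by
        intro χ hχ
        rw [← Algebra.smul_def, ← map_smul, ← hχ]
        rw [AlgHom.comp_apply]
        congr 1
        apply Subtype.ext
        exact (hg i).symm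
      rw [e1 ψ' hψ', e1 ψ hψ]
    | algebraMap a =>
      exact (congr($hψ' a)).trans (congr($hψ a)).symm
    | add x y hx hy hx' hy' =>
      have : (⟨x + y, add_mem hx hy⟩ : ↥(Algebra.adjoin A (Set.range f))) =
        ⟨x, hx⟩ + ⟨y, hy⟩ := rfl
      rw [this, map_add, map_add, hx', hy']
    | mul x y hx hy hx' hy' =>
      have : (⟨x * y, mul_mem hx hy⟩ : ↥(Algebra.adjoin A (Set.range f))) =
        ⟨x, hx⟩ * ⟨y, hy⟩ := rfl
      rw [this, map_mul, map_mul, hx', hy']
  ext x
  exact key x.1 x.2



/-- Let R be a complete valuation ring of height one with t a nonzero element generating an ideal of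
definition and K its field of fractions, A an admissible R-algebra, f_1, ..., f_n elements of A ⊗_R
K integral over A, c a nonzero element of R and g_1, ..., g_n elements of A with g_i = c f_i in A
⊗_R K; put 𝔞 = (c, g_1, ..., g_n) and A' = A[f_1, ..., f_n] ⊂ A ⊗_R K. If D is an admissible
R-algebra and φ : A → D an R-algebra homomorphism such that the ideal 𝔞D is generated by the image
of c, or by the image of some g_i, then 𝔞D is generated by c and φ extends to exactly one R-algebra
homomorphism A' → D. (This is the universal property through which Spf A' → Spf A is identified with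
the formal blowing-up of 𝔞 on Spf A; the published hypothesis on the f_i is a supremum-seminorm
bound, from which their integrality over A is derived.) -/
theorem result
    (R : Type u) [CommRing R] [IsDomain R] [ValuationRing R] [Ring.KrullDimLE 1 R]
    (t : R) (ht : t ≠ 0) [IsAdicComplete (Ideal.span {t}) R]
    (A : Type u) [CommRing A] [Algebra R A] (hA : AdicRing.Admissible R (Ideal.span {t}) A)
    (n : ℕ) (f : Fin n → A ⊗[R] FractionRing R) (hf : ∀ i, IsIntegral A (f i))
    (c : R) (hc : c ≠ 0) (g : Fin n → A)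
    (hg : ∀ i, algebraMap A (A ⊗[R] FractionRing R) (g i) = c • f i)
    (D : Type u) [CommRing D] [Algebra R D] (hD : AdicRing.Admissible R (Ideal.span {t}) D)
    (φ : A →ₐ[R] D)
    (hgen : (Ideal.span (insert (algebraMap R A c) (Set.range g))).map φ =
          Ideal.span {algebraMap R D c} ∨
      ∃ i, (Ideal.span (insert (algebraMap R A c) (Set.range g))).map φ = Ideal.span {φ (g i)}) :
    (Ideal.span (insert (algebraMap R A c) (Set.range g))).map φ = Ideal.span {algebraMap R D c} ∧
      ∃! ψ : ↥(Algebra.adjoin A (Set.range f)) →ₐ[R] D,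
        ψ.comp (IsScalarTower.toAlgHom R A ↥(Algebra.adjoin A (Set.range f))) = φ := by
  exact main R t ht A hA n f hf c hc g hg D hD φ hgen

end Groth.Agent.S13353
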