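import Groth.Statements.S13356
import Mathlib.RingTheory.Nilpotent.Exp
import Mathlib.Algebra.MvPolynomial.PDeriv
import Mathlib.RingTheory.Derivation.Basic
import Mathlib.Algebra.Polynomial.Derivative
import Mathlib.Tactic
-- import your own Groth.Agent.* helpers here

set_option autoImplicit false
universe u
open GaDual

namespace Groth.Agent.S13356

theorem coeff_of_eq {A : Type u} [CommRing A] [Algebra ℚ A] (f : Polynomial A) (a : A)
    (hf : (f : PowerSeries A) = PowerSeries.rescale a (PowerSeries.exp A)) (n : ℕ) :
    f.coeff n = a ^ n * algebraMap ℚ A (1 / (n.factorial : ℚ)) := by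
  have := congrArg (PowerSeries.coeff n) hf
  rwa [Polynomial.coeff_coe, PowerSeries.coeff_rescale, PowerSeries.coeff_exp] at this

theorem aeval_eq_exp {A : Type u} [CommRing A] [Algebra ℚ A] (f : Polynomial A) (a : A)
    (ha : IsNilpotent a)
    (hf : (f : PowerSeries A) = PowerSeries.rescale a (PowerSeries.exp A))
    (z : MvPolynomial (Fin 2) A) :
    Polynomial.aeval z f = IsNilpotent.exp (a • z) := by
  obtain ⟨N, hN⟩ := ha
  set M := max N (f.natDegree + 1) with hM
  have h1 : (a • z) ^ M = 0 := by
    rw [smul_pow, pow_eq_zero_of_le (le_max_left _ _) hN, zero_smul]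
  rw [IsNilpotent.exp_eq_sum h1, Polynomial.aeval_eq_sum_range' (n := M) (by omega)]
  refine Finset.sum_congr rfl fun i _ => ?_
  rw [coeff_of_eq f a hf, smul_pow, mul_comm, mul_smul, algebraMap_smul, one_div]

/-- Over a commutative algebra A over the rationals, the polynomials f with f(0) = 1 and f(X+Y) =
f(X)f(Y) (the characters of the additive group into the multiplicative group over A) are exactly the
polynomials exp(aX) with a in A nilpotent. -/
theorem result (A : Type u) [CommRing A] [Algebra ℚ A] (f : Polynomial A) :
    (f.eval 0 = 1 ∧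
      Polynomial.aeval (MvPolynomial.X 0 + MvPolynomial.X 1 : MvPolynomial (Fin 2) A) f =
        Polynomial.aeval (MvPolynomial.X 0 : MvPolynomial (Fin 2) A) f *
          Polynomial.aeval (MvPolynomial.X 1 : MvPolynomial (Fin 2) A) f) ↔
      ∃ a : A, IsNilpotent a ∧ (f : PowerSeries A) = PowerSeries.rescale a (PowerSeries.exp A) := by
  constructor
  · rintro ⟨h0, hfe⟩
    -- differentiate with respect to the second variable
    have hd := congrArg (MvPolynomial.pderiv (1 : Fin 2)) hfe
    rw [Derivation.map_aeval, Derivation.leibniz, Derivation.map_aeval, Derivation.map_aeval,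
      map_add, MvPolynomial.pderiv_X_self,
      MvPolynomial.pderiv_X_of_ne (by decide : (0 : Fin 2) ≠ 1)] at hd
    simp only [zero_add, smul_eq_mul, mul_one, mul_zero, add_zero] at hd
    -- evaluate at X1 = 0
    let ev : MvPolynomial (Fin 2) A →ₐ[A] Polynomial A :=
      MvPolynomial.aeval ![Polynomial.X, 0]
    have hev := congrArg ev hd
    rw [map_mul, ← Polynomial.aeval_algHom_apply, ← Polynomial.aeval_algHom_apply,
      ← Polynomial.aeval_algHom_apply] at hev
    have e0 : ev (MvPolynomial.X 0) = Polynomial.X := by simp [ev]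
    have e1 : ev (MvPolynomial.X 1) = 0 := by simp [ev]
    rw [map_add, e0, e1, add_zero, Polynomial.aeval_X_left_apply, Polynomial.aeval_X_left_apply,
      ← Polynomial.coeff_zero_eq_aeval_zero'] at hev
    set a : A := (Polynomial.derivative f).coeff 0 with ha
    -- coefficient recursion
    have hrec : ∀ n : ℕ, f.coeff (n + 1) * ((n : A) + 1) = f.coeff n * a := by
      intro n
      have := congrArg (fun g => Polynomial.coeff g n) hev
      simp only [Polynomial.coeff_derivative, Polynomial.algebraMap_apply, Algebra.algebraMap_self,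
        RingHom.id_apply, Polynomial.coeff_mul_C] at this
      exact this
    have hcast : ∀ n : ℕ, ((n : A) + 1) * algebraMap ℚ A (1 / ((n : ℚ) + 1)) = 1 := by
      intro n
      have h1 : ((n : A) + 1) = algebraMap ℚ A ((n : ℚ) + 1) := by simp
      rw [h1, ← map_mul, mul_one_div_cancel (by positivity), map_one]
    have hcoeff : ∀ n : ℕ, f.coeff n = a ^ n * algebraMap ℚ A (1 / (n.factorial : ℚ)) := by
      intro n
      induction n with
      | zero =>
        rw [Polynomial.coeff_zero_eq_eval_zero, h0]
        simp
      | succ n ih =>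
        have h2 : f.coeff (n + 1) =
            f.coeff (n + 1) * ((n : A) + 1) * algebraMap ℚ A (1 / ((n : ℚ) + 1)) := by
          rw [mul_assoc, hcast, mul_one]
        rw [h2, hrec, ih, pow_succ]
        have h3 : algebraMap ℚ A (1 / ((n + 1).factorial : ℚ)) =
            algebraMap ℚ A (1 / (n.factorial : ℚ)) * algebraMap ℚ A (1 / ((n : ℚ) + 1)) := by
          rw [← map_mul]
          congr 1
          rw [Nat.factorial_succ]
          push_cast
          field_simp
        rw [h3]
        ring
    refine ⟨a, ?_, ?_⟩
    · refine ⟨f.natDegree + 1, ?_⟩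
      have h4 := hcoeff (f.natDegree + 1)
      rw [Polynomial.coeff_eq_zero_of_natDegree_lt (Nat.lt_succ_self _)] at h4
      have h5 : algebraMap ℚ A (1 / ((f.natDegree + 1).factorial : ℚ)) *
          algebraMap ℚ A ((f.natDegree + 1).factorial : ℚ) = 1 := by
        rw [← map_mul, one_div_mul_cancel (by positivity), map_one]
      calc a ^ (f.natDegree + 1) = a ^ (f.natDegree + 1) *
            (algebraMap ℚ A (1 / ((f.natDegree + 1).factorial : ℚ)) *
              algebraMap ℚ A ((f.natDegree + 1).factorial : ℚ)) := by rw [h5, mul_one]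
        _ = 0 := by rw [← mul_assoc, ← h4, zero_mul]
    · ext n
      rw [Polynomial.coeff_coe, PowerSeries.coeff_rescale, PowerSeries.coeff_exp, hcoeff]
  · rintro ⟨a, ha, hf⟩
    constructor
    · rw [← Polynomial.coeff_zero_eq_eval_zero, coeff_of_eq f a hf]
      simp
    · rw [aeval_eq_exp f a ha hf, aeval_eq_exp f a ha hf, aeval_eq_exp f a ha hf, smul_add]
      have hnil : ∀ z : MvPolynomial (Fin 2) A, IsNilpotent (a • z) := by
        intro z
        obtain ⟨N, hN⟩ := ha
        exact ⟨N, by rw [smul_pow, hN, zero_smul]⟩
      exact IsNilpotent.exp_add_of_commute (Commute.all _ _) (hnil _) (hnil _)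


end Groth.Agent.S13356
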