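import Groth.Statements.S13357
import Groth.Agent.Lib.Helper11.GaChar
import Groth.Agent.Lib.Helper11.GaChar2

set_option autoImplicit false
universe u
open GaDual

namespace Groth.Agent.S13357

open Groth.Agent.Lib.helper11.GaChar Groth.Agent.Lib.helper11.GaChar2


/-- Over a commutative algebra A of prime characteristic p, the polynomials f with f(0) = 1 and f(X+Y) =
f(X)f(Y) (the characters of the additive group into the multiplicative group over A) are exactly the
finite products of truncated exponentials exp_p(a_n X^(p^n)) = Σ_{j<p} a_n^j X^(j p^n)/j! with a_n^p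
= 0. -/
theorem result (p : ℕ) [Fact p.Prime] (A : Type u) [CommRing A] [CharP A p]
    (f : Polynomial A) :
    (f.eval 0 = 1 ∧
      Polynomial.aeval (MvPolynomial.X 0 + MvPolynomial.X 1 : MvPolynomial (Fin 2) A) f =
        Polynomial.aeval (MvPolynomial.X 0 : MvPolynomial (Fin 2) A) f *
          Polynomial.aeval (MvPolynomial.X 1 : MvPolynomial (Fin 2) A) f) ↔
      ∃ (N : ℕ) (a : ℕ → A), (∀ n, a n ^ p = 0) ∧
        f = ∏ n ∈ Finset.range N, ∑ j ∈ Finset.range p,
          Polynomial.C (Ring.inverse (j.factorial : A) * a n ^ j) * Polynomial.X ^ (j * p ^ n) := by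
  classical
  have hp1 : 1 < p := (Fact.out : p.Prime).one_lt
  constructor
  · rintro ⟨h0, hmul⟩
    have hc0 : (fun k => f.coeff k) 0 = 1 := by
      rw [← h0]; exact Polynomial.coeff_zero_eq_eval_zero f
    have H : ∀ M, HChar A (fun k => f.coeff k) M := by
      intro M i j _ _
      have h1 := poly_coeff_add f i j
      rw [hmul, poly_coeff_mul] at h1
      rw [mul_comm]; exact h1.symm
    refine ⟨f.natDegree, fun n => f.coeff (p ^ n), ?_, ?_⟩
    · intro n
      exact (core (fun k => f.coeff k) hc0 (n + 1) (H _)).1 n (Nat.lt_succ_self n)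
    · have h2 := (core (fun k => f.coeff k) hc0 f.natDegree (H _)).2
      exact (f.as_sum_range' (p ^ f.natDegree) (Nat.lt_pow_self hp1)).trans h2
  · rintro ⟨N, a, ha, rfl⟩
    exact prod_E_char a ha N

end Groth.Agent.S13357
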