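import Groth.Statements.S13358
import Mathlib

set_option autoImplicit false
universe u
open GaDual

namespace Groth.Agent.S13358

open MvPolynomial Finset

section Basics
variable {R : Type u} [CommRing R]

noncomputable def m2 (i j : ℕ) : Fin 2 →₀ ℕ := Finsupp.single 0 i + Finsupp.single 1 j
noncomputable def m3 (i j k : ℕ) : Fin 3 →₀ ℕ :=
  Finsupp.single 0 i + Finsupp.single 1 j + Finsupp.single 2 k

lemma m2_apply0 (i j : ℕ) : m2 i j 0 = i := by simp [m2]
lemma m2_apply1 (i j : ℕ) : m2 i j 1 = j := by simp [m2]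
lemma m3_apply0 (i j k : ℕ) : m3 i j k 0 = i := by simp [m3]
lemma m3_apply1 (i j k : ℕ) : m3 i j k 1 = j := by simp [m3]
lemma m3_apply2 (i j k : ℕ) : m3 i j k 2 = k := by simp [m3]

lemma m2_eta (m : Fin 2 →₀ ℕ) : m2 (m 0) (m 1) = m := by
  ext x
  fin_cases x
  · exact m2_apply0 _ _
  · exact m2_apply1 _ _

lemma m2_inj {u v i j : ℕ} : m2 u v = m2 i j ↔ u = i ∧ v = j := by
  constructor
  · intro h
    have h0 := DFunLike.congr_fun h 0
    have h1 := DFunLike.congr_fun h 1
    rw [m2_apply0, m2_apply0] at h0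
    rw [m2_apply1, m2_apply1] at h1
    exact ⟨h0, h1⟩
  · rintro ⟨rfl, rfl⟩; rfl

lemma m3_inj {u v w i j k : ℕ} : m3 u v w = m3 i j k ↔ u = i ∧ v = j ∧ w = k := by
  constructor
  · intro h
    have h0 := DFunLike.congr_fun h 0
    have h1 := DFunLike.congr_fun h 1
    have h2 := DFunLike.congr_fun h 2
    rw [m3_apply0, m3_apply0] at h0
    rw [m3_apply1, m3_apply1] at h1
    rw [m3_apply2, m3_apply2] at h2
    exact ⟨h0, h1, h2⟩
  · rintro ⟨rfl, rfl, rfl⟩; rfl

lemma X2_eq (u v : ℕ) : (X 0 ^ u * X 1 ^ v : MvPolynomial (Fin 2) R) = monomial (m2 u v) 1 := by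
  unfold m2
  rw [X_pow_eq_monomial, X_pow_eq_monomial, monomial_mul, one_mul]

lemma X3_eq (u v w : ℕ) :
    (X 0 ^ u * X 1 ^ v * X 2 ^ w : MvPolynomial (Fin 3) R) = monomial (m3 u v w) 1 := by
  unfold m3
  rw [X_pow_eq_monomial, X_pow_eq_monomial, X_pow_eq_monomial, monomial_mul, monomial_mul,
    one_mul, one_mul]

lemma coeff_XY (i j u v : ℕ) :
    coeff (m2 i j) (X 0 ^ u * X 1 ^ v : MvPolynomial (Fin 2) R)
      = if u = i ∧ v = j then 1 else 0 := by
  classical
  rw [X2_eq, coeff_monomial]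
  exact if_congr m2_inj rfl rfl

lemma coeff_XYZ (i j k u v w : ℕ) :
    coeff (m3 i j k) (X 0 ^ u * X 1 ^ v * X 2 ^ w : MvPolynomial (Fin 3) R)
      = if u = i ∧ v = j ∧ w = k then 1 else 0 := by
  classical
  rw [X3_eq, coeff_monomial]
  exact if_congr m3_inj rfl rfl

lemma coeff_YX (i j u v : ℕ) :
    coeff (m2 i j) (X 1 ^ u * X 0 ^ v : MvPolynomial (Fin 2) R)
      = if u = j ∧ v = i then 1 else 0 := by
  rw [mul_comm, coeff_XY]
  exact if_congr and_comm rfl rfl

lemma coeff_mul_natCast' {σ : Type*} (d : σ →₀ ℕ) (P : MvPolynomial σ R) (n : ℕ) :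
    coeff d (P * (n : MvPolynomial σ R)) = coeff d P * (n : R) := by
  rw [← map_natCast (C : R →+* MvPolynomial σ R), mul_comm, coeff_C_mul, mul_comm]

lemma coeff_K1 (i j k u v : ℕ) :
    coeff (m3 i j k) (X 0 ^ u * (X 1 + X 2) ^ v : MvPolynomial (Fin 3) R)
      = if u = i ∧ v = j + k then ((j + k).choose j : R) else 0 := by
  rw [add_pow, Finset.mul_sum, coeff_sum]
  have hterm : ∀ t ∈ Finset.range (v + 1),
      coeff (m3 i j k) (X 0 ^ u * (X 1 ^ t * X 2 ^ (v - t) *
          ((v.choose t : ℕ) : MvPolynomial (Fin 3) R)))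
        = if (u = i ∧ t = j ∧ v - t = k) then ((v.choose t : ℕ) : R) else 0 := by
    intro t _
    rw [← mul_assoc, ← mul_assoc, coeff_mul_natCast', coeff_XYZ, ite_mul, one_mul, zero_mul]
  refine (Finset.sum_congr rfl hterm).trans ?_
  by_cases h : u = i ∧ v = j + k
  · obtain ⟨rfl, rfl⟩ := h
    rw [if_pos ⟨rfl, rfl⟩, Finset.sum_eq_single j]
    · rw [if_pos ⟨rfl, rfl, by omega⟩]
    · intro t _ ht
      rw [if_neg]
      rintro ⟨_, h1, _⟩
      exact ht h1
    · intro hj
      exfalso; apply hj; rw [Finset.mem_range]; omega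
  · rw [if_neg h]
    apply Finset.sum_eq_zero
    intro t ht
    rw [if_neg]
    rintro ⟨h1, h2, h3⟩
    apply h
    rw [Finset.mem_range] at ht
    exact ⟨h1, by omega⟩

lemma coeff_K3 (i j k u v : ℕ) :
    coeff (m3 i j k) ((X 0 + X 1) ^ u * X 2 ^ v : MvPolynomial (Fin 3) R)
      = if u = i + j ∧ v = k then ((i + j).choose i : R) else 0 := by
  rw [add_pow, Finset.sum_mul, coeff_sum]
  have hterm : ∀ t ∈ Finset.range (u + 1),
      coeff (m3 i j k) (X 0 ^ t * X 1 ^ (u - t) *
          ((u.choose t : ℕ) : MvPolynomial (Fin 3) R) * X 2 ^ v)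
        = if (t = i ∧ u - t = j ∧ v = k) then ((u.choose t : ℕ) : R) else 0 := by
    intro t _
    rw [mul_right_comm, coeff_mul_natCast', coeff_XYZ, ite_mul, one_mul, zero_mul]
  refine (Finset.sum_congr rfl hterm).trans ?_
  by_cases h : u = i + j ∧ v = k
  · obtain ⟨rfl, rfl⟩ := h
    rw [if_pos ⟨rfl, rfl⟩, Finset.sum_eq_single i]
    · rw [if_pos ⟨rfl, by omega, rfl⟩]
    · intro t _ ht
      rw [if_neg]
      rintro ⟨h1, _, _⟩
      exact ht h1
    · intro hi
      exfalso; apply hi; rw [Finset.mem_range]; omega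
  · rw [if_neg h]
    apply Finset.sum_eq_zero
    intro t ht
    rw [if_neg]
    rintro ⟨h1, h2, h3⟩
    apply h
    rw [Finset.mem_range] at ht
    exact ⟨by omega, h3⟩

lemma coeff_add_pow2 (i j n : ℕ) :
    coeff (m2 i j) ((X 0 + X 1) ^ n : MvPolynomial (Fin 2) R)
      = if n = i + j then ((i + j).choose i : R) else 0 := by
  rw [add_pow, coeff_sum]
  have hterm : ∀ t ∈ Finset.range (n + 1),
      coeff (m2 i j) (X 0 ^ t * X 1 ^ (n - t) * ((n.choose t : ℕ) : MvPolynomial (Fin 2) R))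
        = if (t = i ∧ n - t = j) then ((n.choose t : ℕ) : R) else 0 := by
    intro t _
    rw [coeff_mul_natCast', coeff_XY, ite_mul, one_mul, zero_mul]
  refine (Finset.sum_congr rfl hterm).trans ?_
  by_cases h : n = i + j
  · subst h
    rw [if_pos rfl, Finset.sum_eq_single i]
    · rw [if_pos ⟨rfl, by omega⟩]
    · intro t _ ht
      rw [if_neg]
      rintro ⟨h1, _⟩
      exact ht h1
    · intro hi
      exfalso; apply hi; rw [Finset.mem_range]; omega
  · rw [if_neg h]
    apply Finset.sum_eq_zero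
    intro t ht
    rw [if_neg]
    rintro ⟨h1, h2⟩
    apply h
    rw [Finset.mem_range] at ht
    omega

lemma coeff_K2 (i j k u v : ℕ) :
    coeff (m3 i j k) (X 1 ^ u * X 2 ^ v : MvPolynomial (Fin 3) R)
      = if u = j ∧ v = k then (if i = 0 then (1 : R) else 0) else 0 := by
  have : (X 1 ^ u * X 2 ^ v : MvPolynomial (Fin 3) R) = X 0 ^ 0 * X 1 ^ u * X 2 ^ v := by
    rw [pow_zero, one_mul]
  rw [this, coeff_XYZ]
  by_cases h : u = j ∧ v = k
  · rw [if_pos h]
    by_cases hi : i = 0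
    · rw [if_pos hi, if_pos ⟨hi.symm, h.1, h.2⟩]
    · rw [if_neg hi, if_neg]; rintro ⟨h0, _⟩; exact hi h0.symm
  · rw [if_neg h, if_neg]; rintro ⟨_, h1, h2⟩; exact h ⟨h1, h2⟩

lemma coeff_K4 (i j k u v : ℕ) :
    coeff (m3 i j k) (X 0 ^ u * X 1 ^ v : MvPolynomial (Fin 3) R)
      = if u = i ∧ v = j then (if k = 0 then (1 : R) else 0) else 0 := by
  have : (X 0 ^ u * X 1 ^ v : MvPolynomial (Fin 3) R) = X 0 ^ u * X 1 ^ v * X 2 ^ 0 := by
    rw [pow_zero, mul_one]
  rw [this, coeff_XYZ]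
  by_cases h : u = i ∧ v = j
  · rw [if_pos h]
    by_cases hk : k = 0
    · rw [if_pos hk, if_pos ⟨h.1, h.2, hk.symm⟩]
    · rw [if_neg hk, if_neg]; rintro ⟨_, _, h0⟩; exact hk h0.symm
  · rw [if_neg h, if_neg]; rintro ⟨h1, h2, _⟩; exact h ⟨h1, h2⟩

lemma coeff_X0_pow (i j n : ℕ) :
    coeff (m2 i j) (X 0 ^ n : MvPolynomial (Fin 2) R)
      = if n = i then (if j = 0 then (1:R) else 0) else 0 := by
  have : (X 0 ^ n : MvPolynomial (Fin 2) R) = X 0 ^ n * X 1 ^ 0 := by rw [pow_zero, mul_one]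
  rw [this, coeff_XY]
  by_cases h : n = i
  · rw [if_pos h]
    by_cases hj : j = 0
    · rw [if_pos hj, if_pos ⟨h, hj.symm⟩]
    · rw [if_neg hj, if_neg]; rintro ⟨_, h0⟩; exact hj h0.symm
  · rw [if_neg h, if_neg]; rintro ⟨h1, _⟩; exact h h1

lemma coeff_X1_pow (i j n : ℕ) :
    coeff (m2 i j) (X 1 ^ n : MvPolynomial (Fin 2) R)
      = if n = j then (if i = 0 then (1:R) else 0) else 0 := by
  have : (X 1 ^ n : MvPolynomial (Fin 2) R) = X 0 ^ 0 * X 1 ^ n := by rw [pow_zero, one_mul]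
  rw [this, coeff_XY]
  by_cases h : n = j
  · rw [if_pos h]
    by_cases hi : i = 0
    · rw [if_pos hi, if_pos ⟨hi.symm, h⟩]
    · rw [if_neg hi, if_neg]; rintro ⟨h0, _⟩; exact hi h0.symm
  · rw [if_neg h, if_neg]; rintro ⟨_, h1⟩; exact h h1

lemma coeff_aeval2 {τ : Type*} (σ : Fin 2 → MvPolynomial τ R) (d : τ →₀ ℕ)
    (F : MvPolynomial (Fin 2) R) :
    coeff d (aeval σ F) = ∑ m ∈ F.support, coeff m F * coeff d (σ 0 ^ m 0 * σ 1 ^ m 1) := by
  rw [aeval_def, eval₂_eq', coeff_sum]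
  refine Finset.sum_congr rfl fun m _ => ?_
  rw [Fin.prod_univ_two, algebraMap_eq, coeff_C_mul]

lemma sum_collapse (F : MvPolynomial (Fin 2) R) (U V : ℕ) (w : R) (f : (Fin 2 →₀ ℕ) → R)
    (hf : ∀ m, f m = if (m 0 = U ∧ m 1 = V) then w else 0) :
    ∑ m ∈ F.support, coeff m F * f m = coeff (m2 U V) F * w := by
  rw [Finset.sum_eq_single (m2 U V)]
  · rw [hf, if_pos ⟨m2_apply0 _ _, m2_apply1 _ _⟩]
  · intro m _ hm
    rw [hf, if_neg, mul_zero]
    rintro ⟨h0, h1⟩
    apply hm; rw [← m2_eta m, h0, h1]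
  · intro h
    rw [notMem_support_iff.mp h, zero_mul]

lemma coeff_ae_swap (F : MvPolynomial (Fin 2) R) (i j : ℕ) :
    coeff (m2 i j) (aeval ![X 1, X 0] F : MvPolynomial (Fin 2) R) = coeff (m2 j i) F := by
  rw [coeff_aeval2]
  show ∑ m ∈ F.support, coeff m F * coeff (m2 i j) (X 1 ^ m 0 * X 0 ^ m 1) = _
  rw [sum_collapse F j i (1 : R) _ (fun m => coeff_YX i j (m 0) (m 1)), mul_one]

lemma coeff_ae1 (F : MvPolynomial (Fin 2) R) (i j k : ℕ) :
    coeff (m3 i j k) (aeval ![X 0, X 1 + X 2] F : MvPolynomial (Fin 3) R)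
      = coeff (m2 i (j + k)) F * ((j + k).choose j : R) := by
  rw [coeff_aeval2]
  show ∑ m ∈ F.support, coeff m F * coeff (m3 i j k) (X 0 ^ m 0 * (X 1 + X 2) ^ m 1) = _
  exact sum_collapse F i (j + k) _ _ (fun m => coeff_K1 i j k (m 0) (m 1))

lemma coeff_ae2 (F : MvPolynomial (Fin 2) R) (i j k : ℕ) :
    coeff (m3 i j k) (aeval ![X 1, X 2] F : MvPolynomial (Fin 3) R)
      = coeff (m2 j k) F * (if i = 0 then (1 : R) else 0) := by
  rw [coeff_aeval2]
  show ∑ m ∈ F.support, coeff m F * coeff (m3 i j k) (X 1 ^ m 0 * X 2 ^ m 1) = _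
  exact sum_collapse F j k _ _ (fun m => coeff_K2 i j k (m 0) (m 1))

lemma coeff_ae3 (F : MvPolynomial (Fin 2) R) (i j k : ℕ) :
    coeff (m3 i j k) (aeval ![X 0 + X 1, X 2] F : MvPolynomial (Fin 3) R)
      = coeff (m2 (i + j) k) F * ((i + j).choose i : R) := by
  rw [coeff_aeval2]
  show ∑ m ∈ F.support, coeff m F * coeff (m3 i j k) ((X 0 + X 1) ^ m 0 * X 2 ^ m 1) = _
  exact sum_collapse F (i + j) k _ _ (fun m => coeff_K3 i j k (m 0) (m 1))

lemma coeff_ae4 (F : MvPolynomial (Fin 2) R) (i j k : ℕ) :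
    coeff (m3 i j k) (aeval ![X 0, X 1] F : MvPolynomial (Fin 3) R)
      = coeff (m2 i j) F * (if k = 0 then (1 : R) else 0) := by
  rw [coeff_aeval2]
  show ∑ m ∈ F.support, coeff m F * coeff (m3 i j k) (X 0 ^ m 0 * X 1 ^ m 1) = _
  exact sum_collapse F i j _ _ (fun m => coeff_K4 i j k (m 0) (m 1))

lemma coeff_paeval {σ : Type*} (q : MvPolynomial σ R) (d : σ →₀ ℕ) (G : Polynomial R) :
    coeff d (Polynomial.aeval q G) = ∑ n ∈ G.support, G.coeff n * coeff d (q ^ n) := by
  rw [Polynomial.aeval_def, Polynomial.eval₂_eq_sum, Polynomial.sum_def, coeff_sum]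
  refine Finset.sum_congr rfl fun n _ => ?_
  rw [algebraMap_eq, coeff_C_mul]

lemma paeval_collapse {σ : Type*} (q : MvPolynomial σ R) (d : σ →₀ ℕ) (G : Polynomial R)
    (n₀ : ℕ) (w : R) (hq : ∀ n, coeff d (q ^ n) = if n = n₀ then w else 0) :
    coeff d (Polynomial.aeval q G) = G.coeff n₀ * w := by
  rw [coeff_paeval, Finset.sum_eq_single n₀]
  · rw [hq, if_pos rfl]
  · intro n _ hn; rw [hq, if_neg hn, mul_zero]
  · intro h; rw [Polynomial.notMem_support_iff.mp h, zero_mul]

lemma coeff_T1 (G : Polynomial R) (i j : ℕ) :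
    coeff (m2 i j) (Polynomial.aeval (X 0 + X 1 : MvPolynomial (Fin 2) R) G)
      = G.coeff (i + j) * ((i + j).choose i : R) :=
  paeval_collapse _ _ G (i + j) _ (fun n => coeff_add_pow2 i j n)

lemma coeff_T2 (G : Polynomial R) (i j : ℕ) :
    coeff (m2 i j) (Polynomial.aeval (X 0 : MvPolynomial (Fin 2) R) G)
      = G.coeff i * (if j = 0 then (1:R) else 0) :=
  paeval_collapse _ _ G i _ (fun n => coeff_X0_pow i j n)

lemma coeff_T3 (G : Polynomial R) (i j : ℕ) :
    coeff (m2 i j) (Polynomial.aeval (X 1 : MvPolynomial (Fin 2) R) G)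
      = G.coeff j * (if i = 0 then (1:R) else 0) :=
  paeval_collapse _ _ G j _ (fun n => coeff_X1_pow i j n)

lemma aeval_PG {τ : Type*} (σ : Fin 2 → MvPolynomial τ R) (q : MvPolynomial (Fin 2) R)
    (G : Polynomial R) :
    aeval σ (Polynomial.aeval q G) = Polynomial.aeval (aeval σ q) G :=
  (Polynomial.aeval_algHom_apply (aeval σ) q G).symm

end Basics

section Seq
variable {R : Type u} [CommRing R] (p : ℕ) [hp : Fact p.Prime] [CharP R p]

lemma exists_inv_of_not_dvd {m : ℕ} (hm : ¬ p ∣ m) : ∃ u : R, u * (m : R) = 1 := by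
  have hcop : Nat.Coprime m p := ((Nat.Prime.coprime_iff_not_dvd hp.out).mpr hm).symm
  obtain ⟨v, -, hv⟩ := Nat.exists_mul_mod_eq_one_of_coprime hcop hp.out.one_lt
  refine ⟨(v : R), ?_⟩
  have h1 : ((m * v : ℕ) : R) = ((1 : ℕ) : R) := CharP.natCast_eq_natCast' R p (by
    show m * v % p = 1 % p
    rw [hv, Nat.mod_eq_of_lt hp.out.one_lt])
  rw [mul_comm, ← Nat.cast_mul, h1, Nat.cast_one]

lemma cancel_of_not_dvd {m : ℕ} (hm : ¬ p ∣ m) {x y : R} (h : (m : R) * x = (m : R) * y) :
    x = y := by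
  obtain ⟨u, hu⟩ := exists_inv_of_not_dvd (R := R) p hm
  calc x = u * ((m : R) * x) := by rw [← mul_assoc, hu, one_mul]
    _ = u * ((m : R) * y) := by rw [h]
    _ = y := by rw [← mul_assoc, hu, one_mul]

lemma choose_mul_cast (a b : ℕ) :
    ((Nat.choose (p * a) (p * b) : ℕ) : R) = (Nat.choose a b : R) := by
  apply CharP.natCast_eq_natCast' R p
  have h := Choose.choose_modEq_choose_mod_mul_choose_div_nat (p := p) (n := p * a) (k := p * b)
  rw [Nat.mul_mod_right, Nat.mul_mod_right, Nat.choose_self, one_mul,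
      Nat.mul_div_cancel_left _ hp.out.pos, Nat.mul_div_cancel_left _ hp.out.pos] at h
  exact h

lemma choose_pred_cast (n' : ℕ) (hn' : 0 < n') :
    ((Nat.choose (p * n' - 1) (p - 1) : ℕ) : R) = 1 := by
  have hp1 := hp.out.one_lt
  have hppos := hp.out.pos
  have e1 : p * n' - 1 = (p - 1) + p * (n' - 1) := by
    obtain ⟨c, rfl⟩ : ∃ c, n' = c + 1 := ⟨n' - 1, by omega⟩
    have : p * (c + 1) = p * c + p := Nat.mul_succ p c
    rw [Nat.add_sub_cancel]
    omega
  have h := Choose.choose_modEq_choose_mod_mul_choose_div_nat (p := p) (n := p * n' - 1)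
    (k := p - 1)
  have hm1 : (p * n' - 1) % p = p - 1 := by
    rw [e1, Nat.add_mul_mod_self_left, Nat.mod_eq_of_lt (by omega)]
  have hd1 : (p * n' - 1) / p = n' - 1 := by
    rw [e1, Nat.add_mul_div_left _ _ hppos, Nat.div_eq_of_lt (by omega), zero_add]
  have hm2 : (p - 1) % p = p - 1 := Nat.mod_eq_of_lt (by omega)
  have hd2 : (p - 1) / p = 0 := Nat.div_eq_of_lt (by omega)
  rw [hm1, hd1, hm2, hd2, Nat.choose_self, Nat.choose_zero_right, mul_one] at h
  have := CharP.natCast_eq_natCast' R p h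
  rw [this, Nat.cast_one]

def CocSeq (n : ℕ) (b : ℕ → R) : Prop :=
  (∀ i, 0 < i → i < n → b i = b (n - i)) ∧
  (∀ i j k, 0 < i → 0 < k → i + j + k = n →
    ((i + j).choose i : R) * b (i + j) = ((j + k).choose j : R) * b i)

lemma rel1 {n : ℕ} {b : ℕ → R} (hb : CocSeq n b) {m : ℕ} (hm : 0 < m) (hmn : m < n) :
    (m : R) * b m = ((n - 1).choose (m - 1) : R) * b 1 := by
  have h := hb.2 1 (m - 1) (n - m) Nat.one_pos (by omega) (by omega)
  have e1 : 1 + (m - 1) = m := by omega
  have e2 : m - 1 + (n - m) = n - 1 := by omega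
  rw [e1, e2, Nat.choose_one_right] at h
  exact h

lemma descend {n' : ℕ} (hn' : 2 ≤ n') {b : ℕ → R} (hb : CocSeq (p * n') b) :
    (∀ m, 0 < m → m < p * n' → ¬ p ∣ m → b m = 0) ∧ CocSeq n' (fun m' => b (p * m')) := by
  have hp2 := hp.out.two_le
  have hppos := hp.out.pos
  have hpn : p < p * n' := by
    calc p < p * 2 := by omega
      _ ≤ p * n' := Nat.mul_le_mul_left p hn'
  have hb1 : b 1 = 0 := by
    have h := hb.2 1 (p - 1) (p * n' - p) Nat.one_pos (by omega) (by omega)
    have e1 : 1 + (p - 1) = p := by omega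
    have e2 : p - 1 + (p * n' - p) = p * n' - 1 := by omega
    rw [e1, e2, Nat.choose_one_right, CharP.cast_eq_zero R p, zero_mul,
      choose_pred_cast (R := R) p n' (by omega), one_mul] at h
    exact h.symm
  refine ⟨?_, ?_, ?_⟩
  · intro m hm hmn hpm
    have h := rel1 hb hm hmn
    rw [hb1, mul_zero] at h
    exact cancel_of_not_dvd p hpm (h.trans (mul_zero _).symm)
  · intro i hi hin
    show b (p * i) = b (p * (n' - i))
    have h := hb.1 (p * i) (Nat.mul_pos hppos hi) ((Nat.mul_lt_mul_left hppos).mpr hin)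
    rw [Nat.mul_sub]
    exact h
  · intro i j k hi hk hijk
    show ((i + j).choose i : R) * b (p * (i + j)) = ((j + k).choose j : R) * b (p * i)
    have h := hb.2 (p * i) (p * j) (p * k) (Nat.mul_pos hppos hi) (Nat.mul_pos hppos hk)
      (by rw [← mul_add, ← mul_add, hijk])
    rw [← mul_add, ← mul_add, choose_mul_cast (R := R) p, choose_mul_cast (R := R) p] at h
    exact h

def psi (e m : ℕ) : ℕ := if p ^ e ∣ m then p.choose (m / p ^ e) / p else 0

lemma psi_succ_mul (e m' : ℕ) : psi p (e + 1) (p * m') = psi p e m' := by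
  have hppos := hp.out.pos
  unfold psi
  exact if_congr (by rw [pow_succ']; exact Nat.mul_dvd_mul_iff_left hppos)
    (by rw [pow_succ', Nat.mul_div_mul_left _ _ hppos]) rfl

lemma psi_succ_of_not_dvd (e m : ℕ) (hm : ¬ p ∣ m) : psi p (e + 1) m = 0 := by
  unfold psi
  rw [if_neg]
  intro h
  exact hm (dvd_trans (dvd_pow_self p (Nat.succ_ne_zero e)) h)

lemma psi_zero (m : ℕ) : psi p 0 m = p.choose m / p := by
  unfold psi
  rw [pow_zero, if_pos (one_dvd m), Nat.div_one]

lemma mul_choose_div (m : ℕ) (hm : 0 < m) (hmp : m < p) :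
    m * (p.choose m / p) = (p - 1).choose (m - 1) := by
  have hppos := hp.out.pos
  have hdvd : p ∣ p.choose m := hp.out.dvd_choose_self hm.ne' hmp
  have h1 : p * (p - 1).choose (m - 1) = p.choose m * m := by
    have := Nat.add_one_mul_choose_eq (p - 1) (m - 1)
    rwa [Nat.sub_add_cancel hppos, Nat.sub_add_cancel hm] at this
  apply Nat.eq_of_mul_eq_mul_left hppos
  rw [h1, ← mul_assoc, mul_comm p m, mul_assoc, Nat.mul_div_cancel' hdvd, mul_comm]

lemma L2 (e : ℕ) : ∀ b : ℕ → R, CocSeq (p ^ (e + 1)) b →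
    ∃ r : R, ∀ m, 0 < m → m < p ^ (e + 1) → b m = r * (psi p e m : R) := by
  have hppos := hp.out.pos
  induction e with
  | zero =>
    intro b hb
    refine ⟨b 1, ?_⟩
    intro m hm hmp
    rw [zero_add, pow_one] at hmp
    have hb' : CocSeq p b := by
      have := hb
      rwa [zero_add, pow_one] at this
    have hndvd : ¬ p ∣ m := Nat.not_dvd_of_pos_of_lt hm hmp
    apply cancel_of_not_dvd p hndvd
    rw [rel1 hb' hm hmp, psi_zero, mul_left_comm, ← Nat.cast_mul, mul_choose_div p m hm hmp,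
      mul_comm]
  | succ e ih =>
    intro b hb
    have hn : p ^ (e + 1 + 1) = p * p ^ (e + 1) := pow_succ' p (e + 1)
    rw [hn] at hb
    have h2 : 2 ≤ p ^ (e + 1) := by
      calc 2 ≤ p := hp.out.two_le
        _ = p ^ 1 := (pow_one p).symm
        _ ≤ p ^ (e + 1) := Nat.pow_le_pow_right hppos (by omega)
    obtain ⟨hzero, hb'⟩ := descend p h2 hb
    obtain ⟨r, hr⟩ := ih _ hb'
    refine ⟨r, ?_⟩
    intro m hm hmn
    rw [hn] at hmn
    by_cases hpm : p ∣ m
    · obtain ⟨m', rfl⟩ := hpm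
      have hm' : 0 < m' := Nat.pos_of_ne_zero (by rintro rfl; simp at hm)
      have hm'n : m' < p ^ (e + 1) := (Nat.mul_lt_mul_left hppos).mp hmn
      rw [psi_succ_mul]
      exact hr m' hm' hm'n
    · rw [hzero m hm hmn hpm, psi_succ_of_not_dvd p e m hpm, Nat.cast_zero, mul_zero]

lemma L1 : ∀ n : ℕ, (∀ e, n ≠ p ^ e) → ∀ b : ℕ → R, CocSeq n b →
    ∃ g : R, ∀ m, 0 < m → m < n → b m = g * (n.choose m : R) := by
  have hppos := hp.out.pos
  have hp2 := hp.out.two_le
  intro n
  induction n using Nat.strong_induction_on with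
  | _ n ih =>
    intro hnp b hb
    by_cases hpn : p ∣ n
    · obtain ⟨n', rfl⟩ := hpn
      by_cases hn0 : n' = 0
      · subst hn0
        exact ⟨0, fun m hm hmn => absurd hmn (by simp)⟩
      have hn1 : n' ≠ 1 := by
        rintro rfl
        exact hnp 1 (by rw [mul_one, pow_one])
      have h2 : 2 ≤ n' := by omega
      obtain ⟨hzero, hb'⟩ := descend p h2 hb
      have hn'lt : n' < p * n' := by
        calc n' < 2 * n' := by omega
          _ ≤ p * n' := Nat.mul_le_mul_right n' hp2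
      have hn'p : ∀ e, n' ≠ p ^ e := by
        intro e he
        exact hnp (e + 1) (by rw [he, pow_succ'])
      obtain ⟨g, hg⟩ := ih n' hn'lt hn'p _ hb'
      refine ⟨g, ?_⟩
      intro m hm hmn
      by_cases hpm : p ∣ m
      · obtain ⟨m', rfl⟩ := hpm
        have hm' : 0 < m' := Nat.pos_of_ne_zero (by rintro rfl; simp at hm)
        have hm'n : m' < n' := (Nat.mul_lt_mul_left hppos).mp hmn
        rw [choose_mul_cast (R := R) p n' m']
        exact hg m' hm' hm'n
      · rw [hzero m hm hmn hpm]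
        have hC : ((p * n').choose m : R) = 0 := by
          apply cancel_of_not_dvd p hpm
          rw [mul_zero, ← Nat.cast_mul]
          have := Nat.add_one_mul_choose_eq (p * n' - 1) (m - 1)
          rw [Nat.sub_add_cancel (by omega : 1 ≤ p * n'), Nat.sub_add_cancel hm] at this
          rw [Nat.mul_comm m ((p * n').choose m), ← this, Nat.cast_mul, Nat.cast_mul,
            CharP.cast_eq_zero R p, zero_mul, zero_mul]
        rw [hC, mul_zero]
    · obtain ⟨u, hu⟩ := exists_inv_of_not_dvd (R := R) p hpn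
      refine ⟨u * b 1, ?_⟩
      have key : ∀ m, 0 < m → m < n → ¬ p ∣ m → b m = u * b 1 * (n.choose m : R) := by
        intro m hm hmn hpm
        apply cancel_of_not_dvd p hpm
        rw [rel1 hb hm hmn]
        have := Nat.add_one_mul_choose_eq (n - 1) (m - 1)
        rw [Nat.sub_add_cancel (by omega : 1 ≤ n), Nat.sub_add_cancel hm] at this
        have hR : (n : R) * ((n - 1).choose (m - 1) : R) = (n.choose m : R) * (m : R) := by
          rw [← Nat.cast_mul, ← Nat.cast_mul, this]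
        linear_combination (-(((n - 1).choose (m - 1) : R) * b 1)) * hu + (u * b 1) * hR
      intro m hm hmn
      by_cases hpm : p ∣ m
      · have hpm' : ¬ p ∣ (n - m) := by
          intro h
          apply hpn
          have : n = (n - m) + m := by omega
          rw [this]
          exact dvd_add h hpm
        rw [hb.1 m hm hmn, key (n - m) (by omega) (by omega) hpm', Nat.choose_symm hmn.le]
      · exact key m hm hmn hpm

end Seq

section SPart
variable {R : Type u} [CommRing R] (p : ℕ) [hp : Fact p.Prime]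

noncomputable def SB {B : Type*} [CommRing B] (u v : B) : B :=
  ∑ t ∈ Finset.Ioo 0 p, ((p.choose t / p : ℕ) : B) * u ^ t * v ^ (p - t)

lemma map_SB {B C F : Type*} [CommRing B] [CommRing C] [FunLike F B C] [RingHomClass F B C]
    (φ : F) (u v : B) : φ (SB p u v) = SB p (φ u) (φ v) := by
  simp only [SB, map_sum, map_mul, map_pow, map_natCast]

lemma aeval_Spoly {B : Type*} [CommRing B] [Algebra R B] (τ : Fin 2 → B) :
    aeval τ (∑ t ∈ Finset.Ioo 0 p, C ((p.choose t / p : ℕ) : R) * X 0 ^ t * X 1 ^ (p - t) :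
        MvPolynomial (Fin 2) R)
      = SB p (τ 0) (τ 1) := by
  simp only [SB, map_sum, map_mul, map_pow, aeval_C, aeval_X, map_natCast]

lemma pSB {B : Type*} [CommRing B] (u v : B) :
    (p : B) * SB p u v = (u + v) ^ p - u ^ p - v ^ p := by
  have hppos := hp.out.pos
  have hI : Finset.Ico (0 + 1) p = Finset.Ioo 0 p := by
    ext t; simp only [Finset.mem_Ico, Finset.mem_Ioo]; omega
  have hmid : ∑ t ∈ Finset.Ioo 0 p, u ^ t * v ^ (p - t) * ((p.choose t : ℕ) : B)
      = (p : B) * SB p u v := by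
    unfold SB
    rw [Finset.mul_sum]
    refine Finset.sum_congr rfl fun t ht => ?_
    rw [Finset.mem_Ioo] at ht
    have hdvd : p ∣ p.choose t := hp.out.dvd_choose_self (by omega) ht.2
    have : ((p.choose t : ℕ) : B) = (p : B) * ((p.choose t / p : ℕ) : B) := by
      rw [← Nat.cast_mul, Nat.mul_div_cancel' hdvd]
    rw [this]; ring
  rw [add_pow, Finset.range_eq_Ico, Finset.sum_eq_sum_Ico_succ_bot (by omega : 0 < p + 1),
    Finset.sum_Ico_succ_top (by omega : 0 + 1 ≤ p), hI, hmid]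
  simp only [pow_zero, Nat.sub_zero, Nat.choose_zero_right, Nat.cast_one, mul_one, one_mul,
    Nat.sub_self, Nat.choose_self]
  ring

lemma SB_symm {B : Type*} [CommRing B] (u v : B) : SB p u v = SB p v u := by
  unfold SB
  refine Finset.sum_nbij' (fun t => p - t) (fun t => p - t) ?_ ?_ ?_ ?_ ?_
  · intro t ht; rw [Finset.mem_Ioo] at ht ⊢; omega
  · intro t ht; rw [Finset.mem_Ioo] at ht ⊢; omega
  · intro t ht; rw [Finset.mem_Ioo] at ht; show p - (p - t) = t; omega
  · intro t ht; rw [Finset.mem_Ioo] at ht; show p - (p - t) = t; omega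
  · intro t ht
    rw [Finset.mem_Ioo] at ht
    show _ = ((p.choose (p - t) / p : ℕ) : B) * v ^ (p - t) * u ^ (p - (p - t))
    rw [Nat.choose_symm ht.2.le, Nat.sub_sub_self ht.2.le]
    ring

lemma SB_coc {B : Type*} [CommRing B] (x y z : B) :
    SB p x (y + z) + SB p y z - SB p (x + y) z - SB p x y = 0 := by
  have hA : (SB p (X 0) (X 1 + X 2) + SB p (X 1) (X 2) - SB p (X 0 + X 1) (X 2)
      - SB p (X 0) (X 1) : MvPolynomial (Fin 3) ℤ) = 0 := by
    have hp0 : ((p : ℕ) : MvPolynomial (Fin 3) ℤ) ≠ 0 := Nat.cast_ne_zero.mpr hp.out.ne_zero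
    have h : ((p : ℕ) : MvPolynomial (Fin 3) ℤ) * (SB p (X 0) (X 1 + X 2) + SB p (X 1) (X 2)
        - SB p (X 0 + X 1) (X 2) - SB p (X 0) (X 1)) = 0 := by
      rw [mul_sub, mul_sub, mul_add, pSB p, pSB p, pSB p, pSB p]
      ring
    exact (mul_eq_zero.mp h).resolve_left hp0
  have h := congrArg (MvPolynomial.eval₂Hom (Int.castRingHom B) ![x, y, z]) hA
  simp only [map_sub, map_add, map_zero, map_SB p, eval₂Hom_X'] at h
  exact h

noncomputable def innerS (e i j : ℕ) : R :=
  ∑ t ∈ Finset.Ioo 0 p, ((p.choose t / p : ℕ) : R) *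
    (if p ^ e * t = i ∧ p ^ e * (p - t) = j then 1 else 0)

lemma innerS_zero (e i j : ℕ) (h : i + j ≠ p ^ (e + 1) ∨ i = 0 ∨ j = 0) :
    innerS (R := R) p e i j = 0 := by
  unfold innerS
  apply Finset.sum_eq_zero
  intro t ht
  rw [Finset.mem_Ioo] at ht
  rw [if_neg, mul_zero]
  rintro ⟨h1, h2⟩
  have hq : 0 < p ^ e := pow_pos hp.out.pos e
  rcases h with h | h | h
  · apply h
    rw [← h1, ← h2, ← mul_add, pow_succ]
    congr 1
    omega
  · rw [h] at h1
    exact absurd h1 (Nat.ne_of_gt (Nat.mul_pos hq ht.1))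
  · rw [h] at h2
    exact absurd h2 (Nat.ne_of_gt (Nat.mul_pos hq (by omega : 0 < p - t)))

lemma innerS_eq (e i j : ℕ) (hi : 0 < i) (hj : 0 < j) (hij : i + j = p ^ (e + 1)) :
    innerS (R := R) p e i j = (psi p e i : R) := by
  have hq : 0 < p ^ e := pow_pos hp.out.pos e
  unfold innerS psi
  by_cases hd : p ^ e ∣ i
  · obtain ⟨t₀, rfl⟩ := hd
    rw [if_pos (dvd_mul_right _ _), Nat.mul_div_cancel_left _ hq]
    have ht0 : 0 < t₀ := Nat.pos_of_ne_zero (by rintro rfl; simp at hi)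
    have hj' : j = p ^ e * (p - t₀) := by
      rw [pow_succ] at hij
      rw [Nat.mul_sub]
      omega
    have ht0p : t₀ < p := by
      by_contra hge
      have hge' : p ≤ t₀ := Nat.le_of_not_lt hge
      have : p ^ e * p ≤ p ^ e * t₀ := Nat.mul_le_mul_left _ hge'
      rw [pow_succ] at hij
      omega
    rw [Finset.sum_eq_single t₀]
    · rw [if_pos ⟨rfl, hj'.symm⟩, mul_one]
    · intro t _ ht
      rw [if_neg, mul_zero]
      rintro ⟨h1, _⟩
      exact ht (Nat.eq_of_mul_eq_mul_left hq h1)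
    · intro h
      exfalso; apply h; rw [Finset.mem_Ioo]; exact ⟨ht0, ht0p⟩
  · rw [if_neg hd, Nat.cast_zero]
    apply Finset.sum_eq_zero
    intro t _
    rw [if_neg, mul_zero]
    rintro ⟨h1, _⟩
    exact hd ⟨t, h1.symm⟩

lemma outer_eq (r : ℕ → R) (N e₀ i j : ℕ) (hi : 0 < i) (hj : 0 < j)
    (hij : i + j = p ^ (e₀ + 1)) :
    ∑ e ∈ Finset.range N, r e * innerS p e i j
      = if e₀ < N then r e₀ * (psi p e₀ i : R) else 0 := by
  have hne : ∀ e, e ≠ e₀ → r e * innerS (R := R) p e i j = 0 := by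
    intro e he
    rw [innerS_zero p e i j (Or.inl _), mul_zero]
    rw [hij]
    intro h
    have h' : e₀ + 1 = e + 1 := Nat.pow_right_injective hp.out.two_le h
    omega
  by_cases hN : e₀ < N
  · rw [if_pos hN, Finset.sum_eq_single e₀ (fun e _ he => hne e he)
      (fun h => absurd (Finset.mem_range.mpr hN) h), innerS_eq p e₀ i j hi hj hij]
  · rw [if_neg hN]
    apply Finset.sum_eq_zero
    intro e he
    apply hne
    rintro rfl
    exact hN (Finset.mem_range.mp he)

lemma coeff_SBterm (c : R) (q i j : ℕ) :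
    coeff (m2 i j) (C c * SB p (X 0 ^ q) (X 1 ^ q) : MvPolynomial (Fin 2) R)
      = c * ∑ t ∈ Finset.Ioo 0 p, ((p.choose t / p : ℕ) : R) *
          (if q * t = i ∧ q * (p - t) = j then 1 else 0) := by
  rw [coeff_C_mul]
  congr 1
  unfold SB
  rw [coeff_sum]
  refine Finset.sum_congr rfl fun t _ => ?_
  rw [← pow_mul, ← pow_mul, mul_assoc, ← map_natCast (C : R →+* MvPolynomial (Fin 2) R),
    coeff_C_mul, coeff_XY]

end SPart

section Main
variable {R : Type u} [CommRing R] (p : ℕ) [hp : Fact p.Prime] [CharP R p]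

lemma backward (F : MvPolynomial (Fin 2) R) (G : Polynomial R) (N : ℕ) (r : ℕ → R)
    (hF : F = Polynomial.aeval (X 0 + X 1 : MvPolynomial (Fin 2) R) G
              - Polynomial.aeval (X 0 : MvPolynomial (Fin 2) R) G
              - Polynomial.aeval (X 1 : MvPolynomial (Fin 2) R) G
            + ∑ i ∈ Finset.range N, C (r i) * SB p (X 0 ^ p ^ i) (X 1 ^ p ^ i)) :
    (aeval ![X 1, X 0] F = F) ∧
    (aeval ![X 0, X 1 + X 2] F + aeval ![X 1, X 2] F - aeval ![X 0 + X 1, X 2] F
      - aeval ![X 0, X 1] F = (0 : MvPolynomial (Fin 3) R)) := by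
  have key : ∀ {τ : Type} (σ : Fin 2 → MvPolynomial τ R), aeval σ F =
      Polynomial.aeval (σ 0 + σ 1) G - Polynomial.aeval (σ 0) G - Polynomial.aeval (σ 1) G
        + ∑ i ∈ Finset.range N, C (r i) * SB p ((σ 0) ^ p ^ i) ((σ 1) ^ p ^ i) := by
    intro τ σ
    rw [hF]
    simp only [map_add, map_sub, map_sum, map_mul, aeval_PG, aeval_X, aeval_C, map_SB p, map_pow,
      algebraMap_eq]
  constructor
  · rw [key]
    conv_rhs => rw [hF]
    show Polynomial.aeval (X 1 + X 0) G - Polynomial.aeval (X 1) G - Polynomial.aeval (X 0) G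
      + ∑ i ∈ Finset.range N, C (r i) * SB p (X 1 ^ p ^ i) (X 0 ^ p ^ i) = _
    have hS : ∑ i ∈ Finset.range N, C (r i) * SB p (X 1 ^ p ^ i) (X 0 ^ p ^ i)
        = ∑ i ∈ Finset.range N, C (r i) * SB p (X 0 ^ p ^ i) (X 1 ^ p ^ i :
            MvPolynomial (Fin 2) R) :=
      Finset.sum_congr rfl fun i _ => by rw [SB_symm p (X 1 ^ p ^ i) (X 0 ^ p ^ i)]
    rw [hS, add_comm (X 1 : MvPolynomial (Fin 2) R) (X 0)]
    ring
  · rw [key, key, key, key]
    show (Polynomial.aeval (X 0 + (X 1 + X 2)) G - Polynomial.aeval (X 0) G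
          - Polynomial.aeval (X 1 + X 2) G
          + ∑ i ∈ Finset.range N, C (r i) * SB p (X 0 ^ p ^ i) ((X 1 + X 2) ^ p ^ i))
      + (Polynomial.aeval (X 1 + X 2) G - Polynomial.aeval (X 1) G - Polynomial.aeval (X 2) G
          + ∑ i ∈ Finset.range N, C (r i) * SB p (X 1 ^ p ^ i) (X 2 ^ p ^ i))
      - (Polynomial.aeval (X 0 + X 1 + X 2) G - Polynomial.aeval (X 0 + X 1) G
          - Polynomial.aeval (X 2) G
          + ∑ i ∈ Finset.range N, C (r i) * SB p ((X 0 + X 1) ^ p ^ i) (X 2 ^ p ^ i))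
      - (Polynomial.aeval (X 0 + X 1) G - Polynomial.aeval (X 0) G - Polynomial.aeval (X 1) G
          + ∑ i ∈ Finset.range N, C (r i) * SB p (X 0 ^ p ^ i) (X 1 ^ p ^ i))
        = (0 : MvPolynomial (Fin 3) R)
    have hS : (∑ i ∈ Finset.range N, C (r i) * SB p (X 0 ^ p ^ i) ((X 1 + X 2) ^ p ^ i))
        + (∑ i ∈ Finset.range N, C (r i) * SB p (X 1 ^ p ^ i) (X 2 ^ p ^ i))
        - (∑ i ∈ Finset.range N, C (r i) * SB p ((X 0 + X 1) ^ p ^ i) (X 2 ^ p ^ i))
        - (∑ i ∈ Finset.range N, C (r i) * SB p (X 0 ^ p ^ i) (X 1 ^ p ^ i))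
        = (0 : MvPolynomial (Fin 3) R) := by
      rw [← Finset.sum_add_distrib, ← Finset.sum_sub_distrib, ← Finset.sum_sub_distrib]
      apply Finset.sum_eq_zero
      intro i _
      rw [add_pow_char_pow, add_pow_char_pow, ← mul_add, ← mul_sub, ← mul_sub,
        SB_coc p, mul_zero]
    rw [add_assoc (X 0 : MvPolynomial (Fin 3) R) (X 1) (X 2)]
    linear_combination hS

lemma forward (F : MvPolynomial (Fin 2) R)
    (hsym : aeval ![X 1, X 0] F = F)
    (hcoc : aeval ![X 0, X 1 + X 2] F + aeval ![X 1, X 2] F - aeval ![X 0 + X 1, X 2] F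
        - aeval ![X 0, X 1] F = (0 : MvPolynomial (Fin 3) R)) :
    ∃ (G : Polynomial R) (N : ℕ) (r : ℕ → R),
      F = Polynomial.aeval (X 0 + X 1 : MvPolynomial (Fin 2) R) G
            - Polynomial.aeval (X 0 : MvPolynomial (Fin 2) R) G
            - Polynomial.aeval (X 1 : MvPolynomial (Fin 2) R) G
          + ∑ i ∈ Finset.range N, C (r i) * SB p (X 0 ^ p ^ i) (X 1 ^ p ^ i) := by
  classical
  have hp2 := hp.out.two_le
  have hs : ∀ i j, coeff (m2 i j) F = coeff (m2 j i) F := by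
    intro i j
    have h := congrArg (coeff (m2 i j)) hsym
    rw [coeff_ae_swap] at h
    exact h.symm
  have hstar : ∀ i j k, coeff (m2 i (j + k)) F * ((j + k).choose j : R)
      + coeff (m2 j k) F * (if i = 0 then (1 : R) else 0)
      - coeff (m2 (i + j) k) F * ((i + j).choose i : R)
      - coeff (m2 i j) F * (if k = 0 then (1 : R) else 0) = 0 := by
    intro i j k
    have h := congrArg (coeff (m3 i j k)) hcoc
    rw [coeff_sub, coeff_sub, coeff_add, coeff_ae1, coeff_ae2, coeff_ae3, coeff_ae4,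
      coeff_zero] at h
    exact h
  have hz : ∀ k, 0 < k → coeff (m2 0 k) F = 0 := by
    intro k hk
    have h := hstar 0 0 k
    simp only [zero_add, Nat.choose_zero_right, Nat.cast_one, mul_one, eq_self_iff_true, if_true,
      if_neg hk.ne', mul_zero, sub_zero] at h
    linear_combination h
  have hc : ∀ i j k, 0 < i → 0 < k →
      ((i + j).choose i : R) * coeff (m2 (i + j) k) F
        = ((j + k).choose j : R) * coeff (m2 i (j + k)) F := by
    intro i j k hi hk
    have h := hstar i j k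
    rw [if_neg hi.ne', if_neg hk.ne', mul_zero, mul_zero, add_zero, sub_zero] at h
    linear_combination (-1 : R) * h
  have hcs : ∀ n, CocSeq n (fun i => coeff (m2 i (n - i)) F) := by
    intro n
    refine ⟨?_, ?_⟩
    · intro i hi hin
      show coeff (m2 i (n - i)) F = coeff (m2 (n - i) (n - (n - i))) F
      rw [Nat.sub_sub_self hin.le]
      exact hs _ _
    · intro i j k hi hk hijk
      show ((i + j).choose i : R) * coeff (m2 (i + j) (n - (i + j))) F
        = ((j + k).choose j : R) * coeff (m2 i (n - i)) F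
      have e1 : n - (i + j) = k := by omega
      have e2 : n - i = j + k := by omega
      rw [e1, e2]
      exact hc i j k hi hk
  have H1 : ∀ n, ∃ g : R, (∀ e, n ≠ p ^ e) → ∀ m, 0 < m → m < n →
      coeff (m2 m (n - m)) F = g * (n.choose m : R) := by
    intro n
    by_cases h : ∀ e, n ≠ p ^ e
    · obtain ⟨g, hg⟩ := L1 (R := R) p n h _ (hcs n)
      exact ⟨g, fun _ => hg⟩
    · exact ⟨0, fun h' => absurd h' h⟩
  have H2 : ∀ e, ∃ r : R, ∀ m, 0 < m → m < p ^ (e + 1) →
      coeff (m2 m (p ^ (e + 1) - m)) F = r * (psi p e m : R) :=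
    fun e => L2 (R := R) p e _ (hcs _)
  choose g hg using H1
  choose r hr using H2
  obtain ⟨D, hD⟩ : ∃ D, ∀ i j, D < i + j → coeff (m2 i j) F = 0 := by
    refine ⟨F.support.sup (fun m => m 0 + m 1), ?_⟩
    intro i j hlt
    by_contra hne
    have hmem : m2 i j ∈ F.support := mem_support_iff.mpr hne
    have := Finset.le_sup (f := fun m : Fin 2 →₀ ℕ => m 0 + m 1) hmem
    rw [m2_apply0, m2_apply1] at this
    omega
  set g' : ℕ → R := fun n => if n = 0 then - coeff (m2 0 0) F else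
    if (∃ e, n = p ^ e) then 0 else g n with hg'
  set G : Polynomial R := ∑ n ∈ Finset.range (D + 1), Polynomial.monomial n (g' n) with hGdef
  have hGc : ∀ n, G.coeff n = if n ≤ D then g' n else 0 := by
    intro n
    rw [hGdef, Polynomial.finsetSum_coeff]
    simp only [Polynomial.coeff_monomial]
    rw [Finset.sum_ite_eq']
    simp only [Finset.mem_range, Nat.lt_succ_iff]
  refine ⟨G, D + 1, r, ?_⟩
  ext m
  obtain ⟨i, j, rfl⟩ : ∃ i j, m = m2 i j := ⟨m 0, m 1, (m2_eta m).symm⟩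
  have hSpart : coeff (m2 i j) (∑ e ∈ Finset.range (D + 1),
      C (r e) * SB p (X 0 ^ p ^ e) (X 1 ^ p ^ e) : MvPolynomial (Fin 2) R)
      = ∑ e ∈ Finset.range (D + 1), r e * innerS p e i j := by
    rw [coeff_sum]
    exact Finset.sum_congr rfl fun e _ => coeff_SBterm p (r e) (p ^ e) i j
  rw [coeff_add, coeff_sub, coeff_sub, coeff_T1, coeff_T2, coeff_T3, hSpart]
  by_cases hi : i = 0
  · subst hi
    have hsum : ∑ e ∈ Finset.range (D + 1), r e * innerS (R := R) p e 0 j = 0 :=
      Finset.sum_eq_zero fun e _ => by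
        rw [innerS_zero p e 0 j (Or.inr (Or.inl rfl)), mul_zero]
    rw [hsum, if_pos rfl, zero_add, Nat.choose_zero_right, Nat.cast_one, mul_one, add_zero]
    by_cases hj : j = 0
    · subst hj
      rw [if_pos rfl, mul_one, hGc 0, if_pos (Nat.zero_le _)]
      show coeff (m2 0 0) F = g' 0 - g' 0 - g' 0
      have : g' 0 = - coeff (m2 0 0) F := by rw [hg']; exact if_pos rfl
      rw [this]; ring
    · rw [if_neg hj, mul_zero, hz j (Nat.pos_of_ne_zero hj)]
      ring
  · have hipos : 0 < i := Nat.pos_of_ne_zero hi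
    rw [if_neg hi, mul_zero, sub_zero]
    by_cases hj : j = 0
    · subst hj
      have hsum : ∑ e ∈ Finset.range (D + 1), r e * innerS (R := R) p e i 0 = 0 :=
        Finset.sum_eq_zero fun e _ => by
          rw [innerS_zero p e i 0 (Or.inr (Or.inr rfl)), mul_zero]
      rw [hsum, if_pos rfl, add_zero, add_zero, Nat.choose_self, Nat.cast_one, mul_one,
        sub_self, hs, hz i hipos]
    · have hjpos : 0 < j := Nat.pos_of_ne_zero hj
      rw [if_neg hj, mul_zero, sub_zero]
      have hn2 : 2 ≤ i + j := by omega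
      by_cases hpow : ∃ e, i + j = p ^ e
      · obtain ⟨e, he⟩ := hpow
        obtain ⟨e₀, rfl⟩ : ∃ e₀, e = e₀ + 1 := by
          refine ⟨e - 1, ?_⟩
          have : e ≠ 0 := by
            rintro rfl
            rw [pow_zero] at he
            omega
          omega
        have hγ : G.coeff (i + j) = 0 := by
          rw [hGc]
          split_ifs with h1
          · rw [hg']
            show (if i + j = 0 then - coeff (m2 0 0) F else
              if (∃ e, i + j = p ^ e) then 0 else g (i + j)) = 0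
            rw [if_neg (by omega), if_pos ⟨e₀ + 1, he⟩]
          · rfl
        rw [hγ, zero_mul, zero_add, outer_eq p r (D + 1) e₀ i j hipos hjpos he]
        by_cases hN : e₀ < D + 1
        · rw [if_pos hN, ← hr e₀ i hipos (by omega)]
          have : p ^ (e₀ + 1) - i = j := by omega
          rw [this]
        · rw [if_neg hN]
          apply hD
          have : e₀ + 1 < p ^ (e₀ + 1) := Nat.lt_pow_self hp.out.one_lt
          omega
      · have hsum : ∑ e ∈ Finset.range (D + 1), r e * innerS (R := R) p e i j = 0 :=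
          Finset.sum_eq_zero fun e _ => by
            rw [innerS_zero p e i j (Or.inl (fun h => hpow ⟨e + 1, h⟩)), mul_zero]
        rw [hsum, add_zero]
        by_cases hnD : i + j ≤ D
        · have hγ : G.coeff (i + j) = g (i + j) := by
            rw [hGc, if_pos hnD, hg']
            show (if i + j = 0 then - coeff (m2 0 0) F else
              if (∃ e, i + j = p ^ e) then 0 else g (i + j)) = g (i + j)
            rw [if_neg (by omega), if_neg hpow]
          rw [hγ, ← hg (i + j) (fun e he => hpow ⟨e, he⟩) i hipos (by omega)]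
          have : i + j - i = j := by omega
          rw [this]
        · rw [hGc, if_neg hnD, zero_mul]
          exact hD i j (by omega)

end Main


/-- Over a commutative algebra R of prime characteristic p, a polynomial F(X,Y) is symmetric and
satisfies the two-cocycle identity F(X,Y+Z) + F(Y,Z) − F(X+Y,Z) − F(X,Y) = 0 if and only if it has
the form G(X+Y) − G(X) − G(Y) + Σ_i r_i S(X^(p^i), Y^(p^i)) with G a one-variable polynomial, r_i in
R and S(X,Y) = Σ_{0<j<p} (C(p,j)/p) X^j Y^(p−j) the reduction mod p of ((X+Y)^p − X^p − Y^p)/p. -/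
theorem result (p : ℕ) [Fact p.Prime] (R : Type u) [CommRing R] [CharP R p]
    (F : MvPolynomial (Fin 2) R) :
    (MvPolynomial.aeval ![MvPolynomial.X 1, MvPolynomial.X 0] F = F ∧
      MvPolynomial.aeval ![MvPolynomial.X 0, MvPolynomial.X 1 + MvPolynomial.X 2] F
          + MvPolynomial.aeval ![MvPolynomial.X 1, MvPolynomial.X 2] F
          - MvPolynomial.aeval ![MvPolynomial.X 0 + MvPolynomial.X 1, MvPolynomial.X 2] F
          - MvPolynomial.aeval ![MvPolynomial.X 0, MvPolynomial.X 1] F = (0 : MvPolynomial (Fin 3) R)) ↔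
      ∃ (G : Polynomial R) (N : ℕ) (r : ℕ → R),
        F = Polynomial.aeval (MvPolynomial.X 0 + MvPolynomial.X 1 : MvPolynomial (Fin 2) R) G
              - Polynomial.aeval (MvPolynomial.X 0 : MvPolynomial (Fin 2) R) G
              - Polynomial.aeval (MvPolynomial.X 1 : MvPolynomial (Fin 2) R) G
            + ∑ i ∈ Finset.range N, MvPolynomial.C (r i) *
                MvPolynomial.aeval ![MvPolynomial.X 0 ^ p ^ i, MvPolynomial.X 1 ^ p ^ i]
                  (∑ j ∈ Finset.Ioo 0 p, MvPolynomial.C ((p.choose j / p : ℕ) : R) *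
                    MvPolynomial.X 0 ^ j * MvPolynomial.X 1 ^ (p - j) : MvPolynomial (Fin 2) R) := by
  have hconv : ∀ (N : ℕ) (r : ℕ → R),
      ∑ i ∈ Finset.range N, MvPolynomial.C (r i) *
        MvPolynomial.aeval ![MvPolynomial.X 0 ^ p ^ i, MvPolynomial.X 1 ^ p ^ i]
          (∑ j ∈ Finset.Ioo 0 p, MvPolynomial.C ((p.choose j / p : ℕ) : R) *
            MvPolynomial.X 0 ^ j * MvPolynomial.X 1 ^ (p - j) : MvPolynomial (Fin 2) R)
      = ∑ i ∈ Finset.range N, MvPolynomial.C (r i) *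
          (SB p (MvPolynomial.X 0 ^ p ^ i) (MvPolynomial.X 1 ^ p ^ i) : MvPolynomial (Fin 2) R) :=
    fun N r => Finset.sum_congr rfl fun i _ =>
      congrArg (fun z => MvPolynomial.C (r i) * z) (aeval_Spoly p _)
  constructor
  · rintro ⟨hsym, hcoc⟩
    obtain ⟨G, N, r, h⟩ := forward p F hsym hcoc
    refine ⟨G, N, r, ?_⟩
    rw [hconv]
    exact h
  · rintro ⟨G, N, r, hF⟩
    rw [hconv] at hF
    exact backward p F G N r hF


end Groth.Agent.S13358
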