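import Groth.Statements.S13360
import Mathlib

set_option autoImplicit false
universe u
open UltraProd

namespace Groth.Agent.S13360

section

variable {ι : Type u} (R : ι → Type u) [∀ i, CommRing (R i)]

open Classical in
/-- The idempotent of the product ring attached to a set of indices. -/
noncomputable def idem (E : Set ι) : ∀ i, R i := fun i => if i ∈ E then 1 else 0

theorem idem_add_compl (E : Set ι) : idem R E + idem R Eᶜ = 1 := by
  funext i
  by_cases h : i ∈ E <;> simp [idem, h]

theorem idem_or_compl (P : Ideal (∀ i, R i)) (hP : P ≠ ⊤) (E : Set ι) :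
    idem R E ∉ P ∨ idem R Eᶜ ∉ P := by
  by_contra h
  rw [not_or, not_not, not_not] at h
  apply hP
  rw [Ideal.eq_top_iff_one, ← idem_add_compl R E]
  exact P.add_mem h.1 h.2

end

/-- If (R_i) is a nonempty family of valuation rings, then the localization of the product ring ∏ R_i at
any prime ideal is a valuation ring: a domain in which, of any two elements, one divides the other. -/
theorem result {ι : Type u} [Nonempty ι] (R : ι → Type u)
    [∀ i, CommRing (R i)] [∀ i, IsDomain (R i)] [∀ i, ValuationRing (R i)]
    (P : Ideal (∀ i, R i)) [P.IsPrime] :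
    IsDomain (Localization.AtPrime P) ∧ PreValuationRing (Localization.AtPrime P) := by
  classical
  set S := Localization.AtPrime P with hS
  have hPtop : P ≠ ⊤ := Ideal.IsPrime.ne_top inferInstance
  constructor
  · -- domain
    have : Nontrivial S := inferInstance
    have hnzd : NoZeroDivisors S := by
      refine ⟨fun {x y} hxy => ?_⟩
      obtain ⟨⟨a, s⟩, rfl⟩ := IsLocalization.mk'_surjective P.primeCompl x
      obtain ⟨⟨b, t⟩, rfl⟩ := IsLocalization.mk'_surjective P.primeCompl y
      simp only at hxy ⊢
      rw [← IsLocalization.mk'_mul, IsLocalization.mk'_eq_zero_iff] at hxy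
      obtain ⟨w, hw⟩ := hxy
      set E : Set ι := {i | a i = 0} with hE
      rcases idem_or_compl R P hPtop E with h | h
      · left
        rw [IsLocalization.mk'_eq_zero_iff]
        refine ⟨⟨idem R E, h⟩, ?_⟩
        funext i
        by_cases hi : i ∈ E
        · have : a i = 0 := hi
          simp [this]
        · simp [idem, hi]
      · right
        rw [IsLocalization.mk'_eq_zero_iff]
        refine ⟨⟨idem R Eᶜ, h⟩ * w, ?_⟩
        funext i
        have hwi : (w : ∀ i, R i) i * (a i * b i) = 0 := congrFun hw i
        by_cases hi : i ∈ E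
        · simp [idem, hi]
        · have hai : a i ≠ 0 := hi
          have : (w : ∀ i, R i) i * b i = 0 := by
            rcases mul_eq_zero.mp hwi with h1 | h1
            · rw [h1, zero_mul]
            · rcases mul_eq_zero.mp h1 with h2 | h2
              · exact absurd h2 hai
              · rw [h2, mul_zero]
          simp [idem, hi, this]
    exact NoZeroDivisors.to_isDomain S
  · -- of two elements one divides the other
    have key : ∀ a b : (∀ i, R i), ∃ z : S, algebraMap _ S a * z = algebraMap _ S b ∨
        algebraMap _ S b * z = algebraMap _ S a := by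
      intro a b
      set E : Set ι := {i | a i ∣ b i} with hE
      have hc : ∀ i, ∃ c : R i, i ∈ E → b i = a i * c := by
        intro i
        by_cases hi : i ∈ E
        · obtain ⟨c, hc⟩ := hi
          exact ⟨c, fun _ => hc⟩
        · exact ⟨0, fun h => absurd h hi⟩
      have hd : ∀ i, ∃ d : R i, i ∉ E → a i = b i * d := by
        intro i
        by_cases hi : i ∈ E
        · exact ⟨0, fun h => absurd hi h⟩
        · have : b i ∣ a i := (ValuationRing.dvd_total (a i) (b i)).resolve_left hi
          obtain ⟨d, hd⟩ := this
          exact ⟨d, fun _ => hd⟩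
      choose c hc using hc
      choose d hd using hd
      rcases idem_or_compl R P hPtop E with h | h
      · refine ⟨algebraMap _ S c, Or.inl ?_⟩
        rw [← map_mul, IsLocalization.eq_iff_exists P.primeCompl]
        refine ⟨⟨idem R E, h⟩, ?_⟩
        funext i
        by_cases hi : i ∈ E
        · simp [idem, hi, ← hc i hi]
        · simp [idem, hi]
      · refine ⟨algebraMap _ S d, Or.inr ?_⟩
        rw [← map_mul, IsLocalization.eq_iff_exists P.primeCompl]
        refine ⟨⟨idem R Eᶜ, h⟩, ?_⟩
        funext i
        by_cases hi : i ∈ E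
        · simp [idem, hi]
        · simp [idem, hi, ← hd i hi]
    refine ⟨fun x y => ?_⟩
    obtain ⟨⟨a, s⟩, rfl⟩ := IsLocalization.mk'_surjective P.primeCompl x
    obtain ⟨⟨b, t⟩, rfl⟩ := IsLocalization.mk'_surjective P.primeCompl y
    simp only
    have hs : IsLocalization.mk' S a s * algebraMap _ S (s : ∀ i, R i) = algebraMap _ S a :=
      IsLocalization.mk'_spec S a s
    have ht : IsLocalization.mk' S b t * algebraMap _ S (t : ∀ i, R i) = algebraMap _ S b :=
      IsLocalization.mk'_spec S b t
    have hs1 : IsLocalization.mk' S (1 : ∀ i, R i) s * algebraMap _ S (s : ∀ i, R i) = 1 := by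
      rw [IsLocalization.mk'_spec, map_one]
    have ht1 : IsLocalization.mk' S (1 : ∀ i, R i) t * algebraMap _ S (t : ∀ i, R i) = 1 := by
      rw [IsLocalization.mk'_spec, map_one]
    obtain ⟨z, hz | hz⟩ := key a b
    · refine ⟨algebraMap _ S (s : ∀ i, R i) * z * IsLocalization.mk' S (1 : ∀ i, R i) t, Or.inl ?_⟩
      calc IsLocalization.mk' S a s *
            (algebraMap _ S (s : ∀ i, R i) * z * IsLocalization.mk' S (1 : ∀ i, R i) t)
          = (IsLocalization.mk' S a s * algebraMap _ S (s : ∀ i, R i)) * z *
              IsLocalization.mk' S (1 : ∀ i, R i) t := by ring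
        _ = IsLocalization.mk' S b t * (IsLocalization.mk' S (1 : ∀ i, R i) t *
              algebraMap _ S (t : ∀ i, R i)) := by rw [hs, hz, ← ht]; ring
        _ = IsLocalization.mk' S b t := by rw [ht1, mul_one]
    · refine ⟨algebraMap _ S (t : ∀ i, R i) * z * IsLocalization.mk' S (1 : ∀ i, R i) s, Or.inr ?_⟩
      calc IsLocalization.mk' S b t *
            (algebraMap _ S (t : ∀ i, R i) * z * IsLocalization.mk' S (1 : ∀ i, R i) s)
          = (IsLocalization.mk' S b t * algebraMap _ S (t : ∀ i, R i)) * z *
              IsLocalization.mk' S (1 : ∀ i, R i) s := by ring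
        _ = IsLocalization.mk' S a s * (IsLocalization.mk' S (1 : ∀ i, R i) s *
              algebraMap _ S (s : ∀ i, R i)) := by rw [ht, hz, ← hs]; ring
        _ = IsLocalization.mk' S a s := by rw [hs1, mul_one]

end Groth.Agent.S13360
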