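import Groth.Statements.S13361
import Mathlib

set_option autoImplicit false
universe u
open ProCompl

namespace Groth.Agent.S13361

section
variable {A : Type u} [AddCommGroup A] [Finite A]

lemma order_dvd (a : A) (h : ∀ B : AddSubgroup A, B ≠ ⊥ → a ∈ B) (b : A) (hb : b ≠ 0) :
    addOrderOf a ∣ addOrderOf b := by
  have hmem : a ∈ AddSubgroup.zmultiples b := h _ (by simpa using hb)
  obtain ⟨k, rfl⟩ := AddSubgroup.mem_zmultiples_iff.mp hmem
  apply addOrderOf_dvd_of_nsmul_eq_zero
  rw [← natCast_zsmul, smul_comm, natCast_zsmul, addOrderOf_nsmul_eq_zero, smul_zero]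

lemma prime_order (a : A) (ha : a ≠ 0) (h : ∀ B : AddSubgroup A, B ≠ ⊥ → a ∈ B) :
    (addOrderOf a).Prime := by
  set m := addOrderOf a with hm
  have hm1 : m ≠ 1 := by
    rw [hm, Ne, AddMonoid.addOrderOf_eq_one_iff]; exact ha
  have hm0 : m ≠ 0 := (addOrderOf_pos a).ne'
  have hq : (m.minFac).Prime := Nat.minFac_prime hm1
  have hqm : m.minFac ∣ m := Nat.minFac_dvd m
  have hb : addOrderOf ((m / m.minFac) • a) = m.minFac :=
    addOrderOf_nsmul_addOrderOf_sub hm0 hqm
  have hb0 : (m / m.minFac) • a ≠ 0 := by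
    intro h0
    rw [h0, addOrderOf_zero] at hb
    exact hq.ne_one hb.symm
  have := order_dvd a h _ hb0
  rw [hb] at this
  rcases (Nat.dvd_prime hq).mp this with h1 | h1
  · exact absurd h1 hm1
  · rw [hm, h1]; exact hq

lemma mem_zmultiples_of_nsmul_eq_zero (a : A) (ha : a ≠ 0)
    (h : ∀ B : AddSubgroup A, B ≠ ⊥ → a ∈ B) (z : A) (hz : addOrderOf a • z = 0) :
    z ∈ AddSubgroup.zmultiples a := by
  by_cases hz0 : z = 0
  · rw [hz0]; exact zero_mem _
  have hp := prime_order a ha h
  have hmem : a ∈ AddSubgroup.zmultiples z := h _ (by simpa using hz0)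
  obtain ⟨k, hk⟩ := AddSubgroup.mem_zmultiples_iff.mp hmem
  have hndvd : ¬ ((addOrderOf a : ℤ) ∣ k) := by
    rintro ⟨c, rfl⟩
    apply ha
    rw [← hk, mul_comm, mul_smul, natCast_zsmul, hz, smul_zero]
  have hcop : IsCoprime (addOrderOf a : ℤ) k := by
    rw [Int.isCoprime_iff_gcd_eq_one]
    have : Nat.Coprime (addOrderOf a) k.natAbs := (Nat.Prime.coprime_iff_not_dvd hp).mpr (by
      intro hd
      apply hndvd
      exact Int.natCast_dvd.mpr hd)
    simpa [Int.gcd] using this
  obtain ⟨u, v, huv⟩ := hcop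
  have : z = v • a := by
    calc z = (1 : ℤ) • z := (one_smul _ _).symm
      _ = (u * (addOrderOf a : ℤ) + v * k) • z := by rw [huv]
      _ = v • a := by
        rw [add_smul, mul_smul, mul_smul, natCast_zsmul, hz, smul_zero, zero_add, hk]
  rw [this]
  exact AddSubgroup.zsmul_mem _ (AddSubgroup.mem_zmultiples a) v

end

theorem cyc (n : ℕ) : ∀ (A : Type u) [AddCommGroup A] [Finite A], Nat.card A = n →
    ∀ a : A, a ≠ 0 → (∀ B : AddSubgroup A, B ≠ ⊥ → a ∈ B) → IsAddCyclic A := by
  induction n using Nat.strong_induction_on with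
  | _ n ih =>
  intro A _ _ hcard a ha h
  set p := addOrderOf a with hp
  let φ : A →+ A := nsmulAddMonoidHom p
  have hφ : ∀ x, φ x = p • x := fun x => rfl
  by_cases hR : φ.range = ⊥
  · refine ⟨a, fun x => ?_⟩
    have hx : p • x = 0 := by
      have : φ x ∈ φ.range := ⟨x, rfl⟩
      rw [hR, AddSubgroup.mem_bot] at this
      exact this
    exact AddSubgroup.mem_zmultiples_iff.mp (mem_zmultiples_of_nsmul_eq_zero a ha h x hx)
  · have hRtop : φ.range ≠ ⊤ := by
      intro htop
      have hsurj : Function.Surjective φ := AddMonoidHom.range_eq_top.mp htop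
      have hinj : Function.Injective φ := Finite.injective_iff_surjective.mpr hsurj
      apply ha
      apply hinj
      rw [hφ, map_zero, hp, addOrderOf_nsmul_eq_zero]
    have hlt : Nat.card φ.range < n := by
      rw [← hcard]
      refine lt_of_le_of_ne (AddSubgroup.card_le_card_addGroup _) ?_
      intro he
      exact hRtop (AddSubgroup.card_eq_iff_eq_top _ |>.mp he)
    have haR : a ∈ φ.range := h _ hR
    have hcyc : IsAddCyclic φ.range := by
      refine ih _ hlt φ.range rfl ⟨a, haR⟩ ?_ ?_
      · intro h0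
        apply ha
        exact congrArg Subtype.val h0
      · intro B hB
        have hB' : B.map φ.range.subtype ≠ ⊥ := by
          rw [Ne, AddSubgroup.map_eq_bot_iff_of_injective _ (AddSubgroup.subtype_injective _)]
          exact hB
        obtain ⟨y, hyB, hy⟩ := h _ hB'
        have : y = ⟨a, haR⟩ := Subtype.ext hy
        rw [← this]; exact hyB
    obtain ⟨⟨y, hy⟩, hgen⟩ := hcyc
    obtain ⟨g, hg⟩ := hy
    rw [hφ] at hg
    have hg0 : g ≠ 0 := by
      intro h0
      apply hR
      rw [eq_bot_iff]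
      intro w hw
      obtain ⟨k, hk⟩ := hgen ⟨w, hw⟩
      have := congrArg Subtype.val hk
      simp only [AddSubgroup.coe_zsmul] at this
      rw [AddSubgroup.mem_bot, ← this, ← hg, h0, smul_zero, smul_zero]
    have hag : a ∈ AddSubgroup.zmultiples g := h _ (by simpa using hg0)
    refine ⟨g, fun x => ?_⟩
    apply AddSubgroup.mem_zmultiples_iff.mp
    obtain ⟨k, hk⟩ := hgen ⟨p • x, ⟨x, rfl⟩⟩
    have hk' : k • y = p • x := by
      have := congrArg Subtype.val hk
      simpa only [AddSubgroup.coe_zsmul] using this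
    have hz : p • (x - k • g) = 0 := by
      rw [smul_sub, ← hk', ← hg, smul_comm, sub_self]
    have h1 := mem_zmultiples_of_nsmul_eq_zero a ha h _ hz
    have h2 : x - k • g ∈ AddSubgroup.zmultiples g :=
      (AddSubgroup.zmultiples_le_of_mem hag) h1
    have h3 : k • g ∈ AddSubgroup.zmultiples g :=
      AddSubgroup.zsmul_mem _ (AddSubgroup.mem_zmultiples g) k
    have := add_mem h2 h3
    simpa using this

/-- A finite abelian group with a nonzero element contained in every nonzero subgroup is isomorphic to a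
cyclic group of prime-power order Z/p^n. -/
theorem result {A : Type u} [AddCommGroup A] [Finite A]
    (a : A) (ha : a ≠ 0) (h : ∀ B : AddSubgroup A, B ≠ ⊥ → a ∈ B) :
    ∃ p n : ℕ, p.Prime ∧ Nonempty (A ≃+ ZMod (p ^ n)) := by
  have hp := prime_order a ha h
  have hcyc := cyc _ A rfl a ha h
  have hcard : Nat.card A = addOrderOf a ^ (Nat.card A).primeFactorsList.length := by
    apply Nat.eq_prime_pow_of_unique_prime_dvd Nat.card_pos.ne'
    intro q hq hqd
    haveI : Fact q.Prime := ⟨hq⟩
    obtain ⟨b, hb⟩ := exists_prime_addOrderOf_dvd_card' (G := A) q hqd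
    have hb0 : b ≠ 0 := by
      intro h0
      rw [h0, addOrderOf_zero] at hb
      exact hq.ne_one hb.symm
    have := order_dvd a h b hb0
    rw [hb] at this
    exact ((Nat.prime_dvd_prime_iff_eq hp hq).mp this).symm
  refine ⟨addOrderOf a, (Nat.card A).primeFactorsList.length, hp, ⟨?_⟩⟩
  rw [← hcard]
  exact (zmodAddCyclicAddEquiv hcyc).symm

end Groth.Agent.S13361
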