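import Groth.Statements.S13362
import Mathlib.GroupTheory.Exponent
import Mathlib.Data.ZMod.QuotientGroup
import Mathlib.Tactic

set_option autoImplicit false
universe u
open ProCompl

namespace Groth.Agent.S13362


/-- An abelian group killed by `e > 0` all of whose `q`-torsion subgroups (`q` prime) are finite is
finite. -/
theorem finite_of_torsion_finite : ∀ (e : ℕ), 0 < e → ∀ (A : Type u) [AddCommGroup A],
    (∀ x : A, e • x = 0) → (∀ q : ℕ, q.Prime → {x : A | q • x = 0}.Finite) → Finite A := by
  intro e
  induction e using Nat.strong_induction_on with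
  | _ e ih =>
    intro he A _ hkill htors
    by_cases he1 : e = 1
    · subst he1
      have : Subsingleton A := ⟨fun x y => by
        have hx := hkill x
        have hy := hkill y
        rw [one_smul] at hx hy
        rw [hx, hy]⟩
      infer_instance
    · obtain ⟨q, hq, hqe⟩ := Nat.exists_prime_and_dvd he1
      obtain ⟨e', rfl⟩ := hqe
      have he' : 0 < e' := Nat.pos_of_ne_zero (by rintro rfl; simp at he)
      let f : A →+ A := nsmulAddMonoidHom q
      have hf : ∀ x, f x = q • x := fun x => rfl
      -- the image is finite by induction
      have hB : Finite f.range := by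
        refine ih e' ?_ he' f.range ?_ ?_
        · have := hq.two_le
          nlinarith
        · rintro ⟨y, x, rfl⟩
          apply Subtype.ext
          change e' • f x = 0
          rw [hf, smul_smul, mul_comm]
          exact hkill x
        · intro q' hq'
          refine Set.Finite.of_injOn (f := fun y : f.range => (y : A)) ?_
            (fun y _ z _ hyz => Subtype.ext hyz) (htors q' hq')
          intro y hy
          change q' • (y : A) = 0
          have : q' • y = 0 := hy
          rw [← AddSubgroup.coe_nsmul, this]
          rfl
      -- fibres are finite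
      have hfin : (Set.univ : Set A).Finite := by
        refine Set.Finite.of_finite_fibers f ?_ ?_
        · rw [Set.image_univ]
          exact Set.finite_coe_iff.1 hB
        · rintro _ ⟨x₀, -, rfl⟩
          refine ((htors q hq).image (fun z => x₀ + z)).subset ?_
          rintro x ⟨-, hx⟩
          refine ⟨x - x₀, ?_, by simp⟩
          change q • (x - x₀) = 0
          have : f x = f x₀ := hx
          rw [hf, hf] at this
          rw [smul_sub, this, sub_self]
      exact Set.finite_univ_iff.1 hfin

/-- An abelian group of finite exponent having a nonzero element contained in every nonzero subgroup is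
finite. -/
theorem result {A : Type u} [AddCommGroup A]
    (hA : AddMonoid.exponent A ≠ 0) (a : A) (ha : a ≠ 0) (h : ∀ B : AddSubgroup A, B ≠ ⊥ → a ∈ B) :
    Finite A := by
  have he : 0 < AddMonoid.exponent A := Nat.pos_of_ne_zero hA
  refine finite_of_torsion_finite (AddMonoid.exponent A) he A
    (fun x => AddMonoid.exponent_nsmul_eq_zero x) ?_
  intro q hq
  -- the cyclic subgroup generated by `a` is finite
  have hafin : (AddSubgroup.zmultiples a : Set A).Finite :=
    (isOfFinAddOrder_iff_nsmul_eq_zero.2
      ⟨AddMonoid.exponent A, he, AddMonoid.exponent_nsmul_eq_zero a⟩).finite_zmultiples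
  refine hafin.subset ?_
  intro x hx
  change q • x = 0 at hx
  by_cases hx0 : x = 0
  · rw [hx0]
    exact (AddSubgroup.zmultiples a).zero_mem
  · have hane : AddSubgroup.zmultiples x ≠ ⊥ := by
      intro hbot
      apply hx0
      have : x ∈ AddSubgroup.zmultiples x := AddSubgroup.mem_zmultiples x
      rw [hbot] at this
      exact this
    obtain ⟨m, hm⟩ := AddSubgroup.mem_zmultiples_iff.1 (h _ hane)
    -- `q` does not divide `m`
    have hqm : ¬ (q : ℤ) ∣ m := by
      rintro ⟨c, rfl⟩
      apply ha
      rw [← hm, mul_comm, mul_smul, natCast_zsmul, hx, smul_zero]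
    have hcop : IsCoprime (q : ℤ) m :=
      (Nat.prime_iff_prime_int.1 hq).coprime_iff_not_dvd.2 hqm
    obtain ⟨u, v, huv⟩ := hcop
    change x ∈ AddSubgroup.zmultiples a
    rw [AddSubgroup.mem_zmultiples_iff]
    refine ⟨v, ?_⟩
    have h1 : x = (u * q + v * m) • x := by rw [huv, one_smul]
    rw [add_smul, mul_smul, mul_smul, natCast_zsmul, hx, smul_zero, zero_add, hm] at h1
    exact h1.symm

end Groth.Agent.S13362
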