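import Groth.Statements.S13363
import Mathlib
-- import your own Groth.Agent.* helpers here

set_option autoImplicit false
universe u
open ProCompl

namespace Groth.Agent.S13363

section helpers
theorem main {A : Type u} [AddCommGroup A]
    [TopologicalSpace A] [IsTopologicalAddGroup A]
    (hn : ∀ n : ℕ, 0 < n → IsOpen (Set.range (fun x : A => n • x))) (a : A) :
    (∃ B : AddSubgroup A, IsOpen (B : Set A) ∧ B.FiniteIndex ∧ a ∉ B) ↔
      ¬ (∀ n : ℕ, 0 < n → ∃ b : A, n • b = a) := by
  constructor
  · rintro ⟨B, _, hfi, haB⟩ hdiv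
    obtain ⟨b, rfl⟩ := hdiv B.index (Nat.pos_of_ne_zero hfi.index_ne_zero)
    exact haB (AddSubgroup.nsmul_index_mem B b)
  · intro h
    push Not at h
    obtain ⟨n, hnpos, hna⟩ := h
    let H : AddSubgroup A := (nsmulAddMonoidHom (α := A) n).range
    have hHopen : IsOpen (H : Set A) := by
      have : (H : Set A) = Set.range (fun x : A => n • x) := by
        ext x; simp [H]
      rw [this]; exact hn n hnpos
    have haH : a ∉ H := by
      rintro ⟨b, hb⟩
      exact hna b hb
    have hane : (QuotientAddGroup.mk a : A ⧸ H) ≠ 0 := by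
      rwa [Ne, QuotientAddGroup.eq_zero_iff]
    obtain ⟨c, hc⟩ := CharacterModule.exists_character_apply_ne_zero_of_ne_zero hane
    let c' : (A ⧸ H) →+ AddCircle (1 : ℚ) := c
    let ψ : A →+ AddCircle (1 : ℚ) := c'.comp (QuotientAddGroup.mk' H)
    have hHψ : H ≤ ψ.ker := by
      intro x hx
      rw [AddMonoidHom.mem_ker]
      change c' (QuotientAddGroup.mk x) = 0
      rw [(QuotientAddGroup.eq_zero_iff x).2 hx, map_zero]
    refine ⟨ψ.ker, AddSubgroup.isOpen_mono hHψ hHopen, ?_, ?_⟩
    · have hsub : (ψ.range : Set (AddCircle (1 : ℚ))) ⊆ {u | n • u = 0} := by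
        rintro _ ⟨x, rfl⟩
        change n • ψ x = 0
        rw [← map_nsmul]
        exact hHψ ⟨x, rfl⟩
      have : Finite ψ.range := ((AddCircle.finite_torsion (1 : ℚ) hnpos).subset hsub).to_subtype
      exact AddSubgroup.finiteIndex_ker ψ
    · intro ha
      exact hc ha
end helpers

/-- Let A be a topological abelian group such that the subgroup n·A is open for each n > 0, and a ∈ A.
Then A has an open subgroup of finite index not containing a if and only if a does not lie in the
subgroup of divisible elements ∩_n nA. -/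
theorem result {A : Type u} [AddCommGroup A]
    [TopologicalSpace A] [IsTopologicalAddGroup A]
    (hn : ∀ n : ℕ, 0 < n → IsOpen (Set.range (fun x : A => n • x))) (a : A) :
    (∃ B : AddSubgroup A, IsOpen (B : Set A) ∧ B.FiniteIndex ∧ a ∉ B) ↔
      ¬ (∀ n : ℕ, 0 < n → ∃ b : A, n • b = a) := by
  exact main hn a

end Groth.Agent.S13363
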