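import Groth.Statements.S13365
import Mathlib.Topology.Algebra.ClopenNhdofOne
import Mathlib.Topology.Algebra.Group.Quotient

set_option autoImplicit false
universe u
open ProCompl

namespace Groth.Agent.S13365

/-- The quotient of a profinite (compact, Hausdorff, totally disconnected) abelian topological group by
a compact subgroup is profinite. -/
theorem result {A : Type u} [AddCommGroup A] [TopologicalSpace A]
    [IsTopologicalAddGroup A] [CompactSpace A] [T2Space A] [TotallyDisconnectedSpace A]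
    (B : AddSubgroup A) (hB : IsCompact (B : Set A)) :
    CompactSpace (A ⧸ B) ∧ T2Space (A ⧸ B) ∧ TotallyDisconnectedSpace (A ⧸ B) := by
  haveI hBc : IsClosed (B : Set A) := hB.isClosed
  refine ⟨inferInstance, inferInstance, ?_⟩
  suffices h : TotallySeparatedSpace (A ⧸ B) from inferInstance
  rw [totallySeparatedSpace_iff_exists_isClopen]
  intro p q hpq
  obtain ⟨a, rfl⟩ := QuotientAddGroup.mk_surjective p
  obtain ⟨b, rfl⟩ := QuotientAddGroup.mk_surjective q
  have hab : a - b ∉ B := by
    intro h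
    apply hpq
    exact (QuotientAddGroup.eq_iff_sub_mem.mpr h)
  -- open set of v with a - b + v ∉ B
  let O : Set A := (fun v => a - b + v) ⁻¹' (B : Set A)ᶜ
  have hO : IsOpen O := hBc.isOpen_compl.preimage (by fun_prop)
  have h0 : (0 : A) ∈ O := by
    change a - b + 0 ∈ (B : Set A)ᶜ
    rw [add_zero]; exact hab
  obtain ⟨V, hV⟩ := ProfiniteGrp.exist_openNormalAddSubgroup_sub_open_nhds_of_zero hO h0
  let W : AddSubgroup (A ⧸ B) := (V : AddSubgroup A).map (QuotientAddGroup.mk' B)
  have hWo : IsOpen (W : Set (A ⧸ B)) := by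
    have : (W : Set (A ⧸ B)) = (QuotientAddGroup.mk : A → A ⧸ B) '' (V : Set A) := rfl
    rw [this]
    exact QuotientAddGroup.isOpenMap_coe _ V.isOpen
  have hWc : IsClopen (W : Set (A ⧸ B)) := ⟨W.isClosed_of_isOpen hWo, hWo⟩
  refine ⟨(fun y : A ⧸ B => (a : A ⧸ B) - y) ⁻¹' (W : Set (A ⧸ B)), ?_, ?_, ?_⟩
  · exact hWc.preimage (by fun_prop)
  · change ((a : A ⧸ B) - (a : A ⧸ B)) ∈ W
    rw [sub_self]; exact W.zero_mem
  · intro hmem
    change ((a : A ⧸ B) - (b : A ⧸ B)) ∈ W at hmem
    obtain ⟨v, hvV, hv⟩ := hmem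
    -- hv : mk' B v = a - b
    have h1 : ((v : A) : A ⧸ B) = ((a - b : A) : A ⧸ B) := hv
    have h2 : a - b - v ∈ B := by
      have := QuotientAddGroup.eq_iff_sub_mem.mp h1.symm
      exact this
    have h3 : -v ∈ O := hV ((V : AddSubgroup A).neg_mem hvV)
    apply h3
    change a - b + -v ∈ B
    rw [← sub_eq_add_neg]; exact h2

end Groth.Agent.S13365
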