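import Groth.Statements.S13366
import Groth.Agent.Lib.Helper24.LangHensel
-- import your own Groth.Agent.* helpers here

set_option autoImplicit false
universe u v
open FrobMod

namespace Groth.Agent.S13366

/-- Over a strictly Henselian local ring R of prime characteristic p (Henselian, separably closed
residue field), let M be a free module of finite rank n and T an additive Frobenius-semilinear
self-map of M (T(rm) = r^p T(m)) whose values generate M as an R-module; for a basis (e_i) this says
that the matrix of coefficients of the elements T(e_i) is invertible. Then the map T − 1 is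
surjective and its kernel has cardinality p^n. (The published statement calls T a
Frobenius-semilinear isomorphism; this row asks only that the values of T generate M over R, which
is the property of T the published proof uses. Requiring T itself to be bijective would, for M ≠ 0,
force the Frobenius of R to be surjective.) -/
theorem result (p : ℕ) [Fact p.Prime] {R : Type u} [CommRing R]
    [HenselianLocalRing R] [IsSepClosed (IsLocalRing.ResidueField R)] [CharP R p]
    {M : Type v} [AddCommGroup M] [Module R M] [Module.Free R M] [Module.Finite R M]
    (T : M →+ M) (hT : ∀ (r : R) (m : M), T (r • m) = r ^ p • T m)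
    (hspan : Submodule.span R (Set.range T) = ⊤) :
    Function.Surjective (fun m => T m - m) ∧ Nat.card {m : M // T m = m} = p ^ Module.finrank R M := by
  classical
  have hp : p.Prime := Fact.out
  haveI hk : CharP (IsLocalRing.ResidueField R) p :=
    Groth.Agent.Lib.Helper24.LangHensel.charP_residueField (R := R) p
  let b : Module.Basis (Fin (Module.finrank R M)) R M := Module.finBasis R M
  let a : Matrix (Fin (Module.finrank R M)) (Fin (Module.finrank R M)) R :=
    fun j i => b.repr (T (b i)) j
  let T' : (Fin (Module.finrank R M) → R) → (Fin (Module.finrank R M) → R) :=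
    fun r j => ∑ i, a j i * r i ^ p
  have hTb : ∀ i, T (b i) = ∑ j, a j i • b j := fun i => (b.sum_repr (T (b i))).symm
  have hTsum : ∀ r : Fin (Module.finrank R M) → R,
      T (b.equivFun.symm r) = b.equivFun.symm (T' r) := by
    intro r
    rw [Module.Basis.equivFun_symm_apply, Module.Basis.equivFun_symm_apply, map_sum]
    simp_rw [hT, hTb, Finset.smul_sum, smul_smul]
    rw [Finset.sum_comm]
    apply Finset.sum_congr rfl
    intro j _
    show _ = (∑ i, a j i * r i ^ p) • b j
    rw [Finset.sum_smul]
    apply Finset.sum_congr rfl
    intro i _
    rw [mul_comm]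
  have hT' : ∀ m : M, b.equivFun (T m) = T' (b.equivFun m) := by
    intro m
    have h1 := hTsum (b.equivFun m)
    rw [LinearEquiv.symm_apply_apply] at h1
    rw [h1, LinearEquiv.apply_symm_apply]
  -- reduction to the residue field
  let π : M → (Fin (Module.finrank R M) → IsLocalRing.ResidueField R) :=
    fun m j => IsLocalRing.residue R (b.equivFun m j)
  have hπsurj : Function.Surjective π := by
    intro v
    choose r hr using fun j => IsLocalRing.residue_surjective (v j)
    refine ⟨b.equivFun.symm r, ?_⟩
    funext j
    show IsLocalRing.residue R (b.equivFun (b.equivFun.symm r) j) = v j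
    rw [LinearEquiv.apply_symm_apply, hr]
  have hπadd : ∀ m m' : M, π (m + m') = π m + π m' := by
    intro m m'
    funext j
    show IsLocalRing.residue R (b.equivFun (m + m') j) = _
    rw [map_add, Pi.add_apply, map_add]
    rfl
  have hπsmul : ∀ (r : R) (m : M), π (r • m) = IsLocalRing.residue R r • π m := by
    intro r m
    funext j
    show IsLocalRing.residue R (b.equivFun (r • m) j) = _
    rw [map_smul, Pi.smul_apply, smul_eq_mul, map_mul]
    rfl
  have hπzero : π 0 = 0 := by
    funext j
    show IsLocalRing.residue R (b.equivFun 0 j) = 0
    rw [map_zero, Pi.zero_apply, map_zero]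
  have hπT : ∀ m : M, π (T m) =
      Groth.Agent.Lib.Helper24.LangHensel.frobMap p (a.map (IsLocalRing.residue R)) (π m) := by
    intro m
    funext j
    show IsLocalRing.residue R (b.equivFun (T m) j) = _
    rw [hT', Groth.Agent.Lib.Helper24.LangHensel.frobMap_apply]
    show IsLocalRing.residue R (∑ i, a j i * b.equivFun m i ^ p) = _
    rw [map_sum]
    apply Finset.sum_congr rfl
    intro i _
    rw [map_mul, map_pow]
    rfl
  have hspan' : Submodule.span (IsLocalRing.ResidueField R) (Set.range
      ⇑(Groth.Agent.Lib.Helper24.LangHensel.frobMap p (a.map (IsLocalRing.residue R)))) = ⊤ := by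
    rw [eq_top_iff]
    intro v _
    obtain ⟨m, rfl⟩ := hπsurj v
    have hm : m ∈ Submodule.span R (Set.range T) := by rw [hspan]; trivial
    induction hm using Submodule.span_induction with
    | mem x hx =>
      obtain ⟨m', rfl⟩ := hx
      rw [hπT]
      exact Submodule.subset_span ⟨_, rfl⟩
    | zero => rw [hπzero]; exact Submodule.zero_mem _
    | add x y _ _ hx hy => rw [hπadd]; exact Submodule.add_mem _ (hx trivial) (hy trivial)
    | smul r x _ hx => rw [hπsmul]; exact Submodule.smul_mem _ _ (hx trivial)
  obtain ⟨hsurj, hcard⟩ := Groth.Agent.Lib.Helper24.LangHensel.main p a hspan'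
  constructor
  · intro y
    obtain ⟨r, hr⟩ := hsurj (b.equivFun y)
    refine ⟨b.equivFun.symm r, ?_⟩
    show T (b.equivFun.symm r) - b.equivFun.symm r = y
    apply b.equivFun.injective
    rw [map_sub, hT', LinearEquiv.apply_symm_apply]
    funext j
    exact hr j
  · have e : {m : M // T m = m} ≃
        {r : Fin (Module.finrank R M) → R // ∀ j, ∑ i, a j i * r i ^ p = r j} :=
      Equiv.subtypeEquiv b.equivFun.toEquiv (fun m => by
        show T m = m ↔ ∀ j, T' (b.equivFun m) j = b.equivFun m j
        rw [← hT', ← funext_iff]
        exact b.equivFun.injective.eq_iff.symm)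
    rw [Nat.card_congr e, hcard]

end Groth.Agent.S13366
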