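import Groth.Statements.S13367
import Groth.Agent.Lib.Helper24.LangHensel
-- import your own Groth.Agent.* helpers here

set_option autoImplicit false
universe u v
open FrobMod

namespace Groth.Agent.S13367

section Aux

open IsLocalRing TensorProduct

set_option backward.isDefEq.respectTransparency false in
/-- Lang's theorem for a finite module over a noetherian strictly henselian local ring of
characteristic `p` carrying a bijective Frobenius-semilinear map: such a module is killed by the
maximal ideal, so this is Lang's theorem over the residue field. -/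
theorem aux (p : ℕ) [Fact p.Prime] {R : Type u} [CommRing R] [IsNoetherianRing R]
    [HenselianLocalRing R] [IsSepClosed (IsLocalRing.ResidueField R)] [CharP R p]
    {M : Type v} [AddCommGroup M] [Module R M] [Module.Finite R M]
    (T : M →+ M) (hT : ∀ (r : R) (m : M), T (r • m) = r ^ p • T m) (hbij : Function.Bijective T) :
    Function.Surjective (fun m => T m - m) ∧
      Nat.card {m : M // T m = m} =
        p ^ Module.finrank (IsLocalRing.ResidueField R)
          (TensorProduct R (IsLocalRing.ResidueField R) M) := by
  classical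
  have hp : p.Prime := Fact.out
  haveI hk : CharP (ResidueField R) p :=
    Groth.Agent.Lib.Helper24.LangHensel.charP_residueField (R := R) p
  let Tsl : M →ₛₗ[frobenius R p] M :=
    { toFun := T
      map_add' := T.map_add
      map_smul' := fun r m => by
        show T (r • m) = frobenius R p r • T m
        rw [hT, frobenius_def] }
  have hTsl : ∀ m, Tsl m = T m := fun m => rfl
  have hTN : maximalIdeal R • (⊤ : Submodule R M) ≤
      (maximalIdeal R • (⊤ : Submodule R M)).comap Tsl := by
    rw [Submodule.smul_le]
    intro a ha m _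
    show T (a • m) ∈ maximalIdeal R • (⊤ : Submodule R M)
    rw [hT]
    exact Submodule.smul_mem_smul (Ideal.pow_mem_of_mem _ ha p hp.pos) trivial
  let TQ : (M ⧸ maximalIdeal R • (⊤ : Submodule R M)) →ₛₗ[frobenius R p]
      (M ⧸ maximalIdeal R • (⊤ : Submodule R M)) :=
    (maximalIdeal R • (⊤ : Submodule R M)).mapQ (maximalIdeal R • (⊤ : Submodule R M)) Tsl hTN
  have hTQ : ∀ m : M, TQ (Submodule.Quotient.mk m) = Submodule.Quotient.mk (T m) := fun m => rfl
  letI : Module (ResidueField R) (M ⧸ maximalIdeal R • (⊤ : Submodule R M)) :=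
    inferInstanceAs (Module (R ⧸ maximalIdeal R) _)
  haveI : IsScalarTower R (ResidueField R) (M ⧸ maximalIdeal R • (⊤ : Submodule R M)) :=
    inferInstanceAs (IsScalarTower R (R ⧸ maximalIdeal R) _)
  haveI : Module.Finite (ResidueField R) (M ⧸ maximalIdeal R • (⊤ : Submodule R M)) :=
    Module.Finite.of_restrictScalars_finite R (ResidueField R) _
  let Tκ : (M ⧸ maximalIdeal R • (⊤ : Submodule R M)) →ₛₗ[frobenius (ResidueField R) p]
      (M ⧸ maximalIdeal R • (⊤ : Submodule R M)) :=
    { toFun := TQ
      map_add' := TQ.map_add
      map_smul' := fun c v => by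
        obtain ⟨r, rfl⟩ := residue_surjective c
        show TQ (residue R r • v) = frobenius (ResidueField R) p (residue R r) • TQ v
        rw [frobenius_def, ← map_pow, ← IsLocalRing.ResidueField.algebraMap_eq, algebraMap_smul,
          algebraMap_smul, TQ.map_smulₛₗ, frobenius_def] }
  have hTκ : ∀ v, Tκ v = TQ v := fun v => rfl
  have hTκsurj : Function.Surjective Tκ := by
    intro v
    obtain ⟨m, rfl⟩ := Submodule.Quotient.mk_surjective _ v
    obtain ⟨m', rfl⟩ := hbij.2 m
    exact ⟨Submodule.Quotient.mk m', hTQ m'⟩
  have hspan : Submodule.span (ResidueField R) (Set.range ⇑Tκ) = ⊤ := by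
    rw [Set.range_eq_univ.2 hTκsurj, Submodule.span_univ]
  have hTκinj : Function.Injective Tκ :=
    Groth.Agent.Lib.helper24.SigmaLinLib.injective_of_span_range_eq_top Tκ hspan
  -- the module is killed by the maximal ideal
  have hTmem : ∀ m ∈ maximalIdeal R • (⊤ : Submodule R M),
      T m ∈ maximalIdeal R • (maximalIdeal R • (⊤ : Submodule R M)) := by
    intro m hm
    refine Submodule.smul_induction_on hm ?_ ?_
    · intro a ha m _
      rw [hT]
      have h1 : a ^ p = a * a ^ (p - 1) := by
        rw [← pow_succ', Nat.sub_add_cancel hp.pos]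
      rw [h1, mul_smul]
      refine Submodule.smul_mem_smul ha (Submodule.smul_mem_smul ?_ trivial)
      exact Ideal.pow_mem_of_mem _ ha _ (Nat.sub_pos_of_lt hp.one_lt)
    · intro x y hx hy
      rw [map_add]
      exact Submodule.add_mem _ hx hy
  have hNle : maximalIdeal R • (⊤ : Submodule R M) ≤
      maximalIdeal R • (maximalIdeal R • (⊤ : Submodule R M)) := by
    intro x hx
    obtain ⟨m', rfl⟩ := hbij.2 x
    apply hTmem
    have h0 : Tκ (Submodule.Quotient.mk m') = Tκ 0 := by
      rw [map_zero, hTκ, hTQ]
      exact (Submodule.Quotient.mk_eq_zero _).2 hx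
    exact (Submodule.Quotient.mk_eq_zero _).1 (hTκinj h0)
  have hN0 : maximalIdeal R • (⊤ : Submodule R M) = ⊥ := by
    have hnoeth : IsNoetherian R M := isNoetherian_of_isNoetherianRing_of_finite R M
    refine Submodule.eq_bot_of_le_smul_of_le_jacobson_bot (maximalIdeal R) _
      (IsNoetherian.noetherian _) hNle ?_
    rw [IsLocalRing.jacobson_eq_maximalIdeal ⊥ bot_ne_top]
  have hmkinj : Function.Injective
      (Submodule.Quotient.mk : M → M ⧸ maximalIdeal R • (⊤ : Submodule R M)) := by
    intro x y hxy
    have := (Submodule.Quotient.eq _).1 hxy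
    rw [hN0, Submodule.mem_bot, sub_eq_zero] at this
    exact this
  obtain ⟨hsurj, hcard⟩ :=
    Groth.Agent.Lib.Helper24.LangField.card_fixed_and_surjective p Tκ hspan
  constructor
  · intro y
    obtain ⟨v, hv⟩ := hsurj (Submodule.Quotient.mk y)
    obtain ⟨m, rfl⟩ := Submodule.Quotient.mk_surjective _ v
    refine ⟨m, ?_⟩
    apply hmkinj
    show Submodule.Quotient.mk (T m - m) = _
    rw [Submodule.Quotient.mk_sub, ← hv]
    rfl
  · have e : {m : M // T m = m} ≃
        {v : M ⧸ maximalIdeal R • (⊤ : Submodule R M) // Tκ v = v} :=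
      Equiv.subtypeEquiv (Equiv.ofBijective _ ⟨hmkinj, Submodule.Quotient.mk_surjective _⟩)
        (fun m => by
          show T m = m ↔ Tκ (Submodule.Quotient.mk m) = Submodule.Quotient.mk m
          rw [hTκ, hTQ]
          exact hmkinj.eq_iff.symm)
    rw [Nat.card_congr e, hcard]
    congr 1
    let e' : (ResidueField R) ⊗[R] M ≃ₗ[ResidueField R]
        M ⧸ maximalIdeal R • (⊤ : Submodule R M) :=
      (quotTensorEquivQuotSMul M (maximalIdeal R)).extendScalarsOfSurjective residue_surjective
    exact e'.finrank_eq.symm

end Aux

/-- Over a strictly Henselian discrete valuation ring R of prime characteristic p with residue field κ,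
for a finitely generated module M with n = dim_κ(κ ⊗ M) and a Frobenius-semilinear additive
bijection T of M (T(rm) = r^p T(m)), the map T − 1 is surjective and its kernel has cardinality p^n. -/
theorem result (p : ℕ) [Fact p.Prime] {R : Type u} [CommRing R] [IsDomain R]
    [IsDiscreteValuationRing R] [HenselianLocalRing R] [IsSepClosed (IsLocalRing.ResidueField R)] [CharP R p]
    {M : Type v} [AddCommGroup M] [Module R M] [Module.Finite R M]
    (T : M →+ M) (hT : ∀ (r : R) (m : M), T (r • m) = r ^ p • T m) (hbij : Function.Bijective T) :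
    Function.Surjective (fun m => T m - m) ∧
      Nat.card {m : M // T m = m} =
        p ^ Module.finrank (IsLocalRing.ResidueField R) (TensorProduct R (IsLocalRing.ResidueField R) M) := by
  exact aux p T hT hbij

end Groth.Agent.S13367
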