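import Groth.Statements.S13368
import Mathlib

set_option autoImplicit false
universe u
open GaDual

namespace Groth.Agent.S13368

section aux1
variable {R : Type u} [CommRing R] [IsDomain R]

/-- the basic sum -/
def SS (p : ℕ) (π : R) (b : ℕ → R) : R := ∑ i ∈ Finset.range p, π ^ i * b i ^ p

/-- Lemma A: divisibility of the sum by `π^N` forces divisibility of every term. -/
lemma lemA (p : ℕ) (hp : 0 < p) (π : R) (hπ : Prime π) :
    ∀ (N : ℕ) (b : ℕ → R), π ^ N ∣ SS p π b → ∀ i, i < p → π ^ N ∣ π ^ i * b i ^ p := by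
  have hπ0 : π ≠ 0 := hπ.ne_zero
  obtain ⟨p', rfl⟩ : ∃ p', p = p' + 1 := ⟨p - 1, by omega⟩
  intro N
  induction N with
  | zero => intro b _ i _; simp
  | succ N ih =>
    intro b hb i hi
    -- π ∣ b 0
    have h1 : SS (p' + 1) π b = π * (∑ i ∈ Finset.range p', π ^ i * b (i + 1) ^ (p' + 1)) + b 0 ^ (p' + 1) := by
      unfold SS
      rw [Finset.sum_range_succ', Finset.mul_sum]
      simp only [pow_zero, one_mul]
      congr 1
      apply Finset.sum_congr rfl
      intro k _
      ring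
    have h2 : π ∣ b 0 ^ (p' + 1) := by
      have h3 : π ∣ SS (p' + 1) π b := dvd_trans (dvd_pow_self π (Nat.succ_ne_zero N)) hb
      rw [h1] at h3
      exact (dvd_add_right (dvd_mul_right π _)).1 h3
    obtain ⟨e, he⟩ := hπ.dvd_of_dvd_pow h2
    -- shifted family
    set b' : ℕ → R := fun k => if k = p' then e else b (k + 1) with hb'
    have h4 : SS (p' + 1) π b = π * SS (p' + 1) π b' := by
      rw [h1]
      unfold SS
      rw [Finset.sum_range_succ, mul_add]
      have h5 : ∑ x ∈ Finset.range p', π ^ x * b' x ^ (p' + 1) =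
          ∑ i ∈ Finset.range p', π ^ i * b (i + 1) ^ (p' + 1) := by
        apply Finset.sum_congr rfl
        intro k hk
        have : k ≠ p' := (Finset.mem_range.1 hk).ne
        simp only [hb', if_neg this]
      rw [h5]
      congr 1
      simp only [hb', if_true, he]
      ring
    rw [h4, pow_succ', mul_dvd_mul_iff_left hπ0] at hb
    have h6 := ih b' hb
    rcases Nat.eq_zero_or_pos i with h0 | hpos
    · subst h0
      have h7 := h6 p' (Nat.lt_succ_self p')
      simp only [hb', if_true] at h7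
      have : π ^ 0 * b 0 ^ (p' + 1) = π * (π ^ p' * e ^ (p' + 1)) := by
        rw [he]; ring
      rw [this, pow_succ']
      exact mul_dvd_mul_left π h7
    · obtain ⟨k, rfl⟩ : ∃ k, i = k + 1 := ⟨i - 1, by omega⟩
      have hk : k < p' := by omega
      have h7 := h6 k (by omega)
      simp only [hb', if_neg hk.ne] at h7
      have : π ^ (k + 1) * b (k + 1) ^ (p' + 1) = π * (π ^ k * b (k + 1) ^ (p' + 1)) := by ring
      rw [this, pow_succ']
      exact mul_dvd_mul_left π h7

/-- Lemma B. -/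
lemma lemB (p : ℕ) (π : R) (hπ : Prime π) (i : ℕ) (hi : i < p) :
    ∀ (s : ℕ) (b : R), π ^ (p * s) ∣ π ^ i * b ^ p → π ^ s ∣ b := by
  have hπ0 : π ≠ 0 := hπ.ne_zero
  intro s
  induction s with
  | zero => intro b _; simp
  | succ s ih =>
    intro b hb
    have h1 : p * (s + 1) = i + (p * s + (p - i)) := by
      rw [Nat.mul_succ]; omega
    rw [h1, pow_add, mul_dvd_mul_iff_left (pow_ne_zero _ hπ0)] at hb
    have h2 : π ∣ b ^ p := by
      refine dvd_trans (dvd_pow_self π ?_) hb
      omega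
    obtain ⟨e, rfl⟩ := hπ.dvd_of_dvd_pow h2
    have h3 : π ^ (p * s) ∣ π ^ i * e ^ p := by
      have h4 : π ^ (p * s + (p - i)) * π ^ i ∣ (π * e) ^ p * π ^ i := mul_dvd_mul_right hb _
      have h5 : π ^ (p * s + (p - i)) * π ^ i = π ^ p * π ^ (p * s) := by
        rw [← pow_add, ← pow_add]; congr 1; omega
      have h6 : (π * e) ^ p * π ^ i = π ^ p * (π ^ i * e ^ p) := by ring
      rw [h5, h6, mul_dvd_mul_iff_left (pow_ne_zero _ hπ0)] at h4
      exact h4
    rw [pow_succ']
    exact mul_dvd_mul_left π (ih e h3)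

end aux1

section aux2
variable {R : Type u} [CommRing R] [IsDomain R] [IsDiscreteValuationRing R]

lemma eq_zero_of_forall_pow_dvd (π : R) (hπ : Irreducible π) (x : R) (h : ∀ N, π ^ N ∣ x) : x = 0 := by
  by_contra hx
  obtain ⟨n, u, hu⟩ := IsDiscreteValuationRing.eq_unit_mul_pow_irreducible hx hπ
  have h1 := h (n + 1)
  rw [hu, pow_succ, mul_comm (u : R), mul_dvd_mul_iff_left (pow_ne_zero _ hπ.ne_zero)] at h1
  exact hπ.not_isUnit (isUnit_of_dvd_unit h1 u.isUnit)

/-- extension of a `Fin p`-family by zero -/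
def ext0 (p : ℕ) (c : Fin p → R) : ℕ → R := fun k => if h : k < p then c ⟨k, h⟩ else 0

lemma ext0_val (p : ℕ) (c : Fin p → R) (i : Fin p) : ext0 p c i = c i := by
  simp [ext0, i.2]

lemma sum_fin_eq_SS (p : ℕ) (π : R) (c : Fin p → R) :
    ∑ i : Fin p, π ^ (i : ℕ) * c i ^ p = SS p π (ext0 p c) := by
  unfold SS
  rw [← Fin.sum_univ_eq_sum_range (fun k => π ^ k * ext0 p c k ^ p) p]
  apply Finset.sum_congr rfl
  intro i _
  rw [ext0_val]

lemma SS_eq_zero (p : ℕ) (hp : 0 < p) (π : R) (hπ : Irreducible π) (b : ℕ → R)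
    (h : SS p π b = 0) : ∀ i, i < p → b i = 0 := by
  have hpr : Prime π := UniqueFactorizationMonoid.irreducible_iff_prime.1 hπ
  intro i hi
  have h1 : π ^ i * b i ^ p = 0 := by
    apply eq_zero_of_forall_pow_dvd π hπ
    intro N
    exact lemA p hp π hpr N b (by rw [h]; exact dvd_zero _) i hi
  rcases mul_eq_zero.1 h1 with h2 | h2
  · exact absurd h2 (pow_ne_zero _ hπ.ne_zero)
  · exact pow_eq_zero_iff (hp.ne') |>.1 h2

lemma decomp_unique (p : ℕ) [Fact p.Prime] [CharP R p] (π : R) (hπ : Irreducible π)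
    (c c' : Fin p → R)
    (h : ∑ i : Fin p, π ^ (i : ℕ) * c i ^ p = ∑ i : Fin p, π ^ (i : ℕ) * c' i ^ p) : c = c' := by
  have hp : 0 < p := (Fact.out : p.Prime).pos
  have h1 : ∑ i : Fin p, π ^ (i : ℕ) * (c - c') i ^ p = 0 := by
    have : ∀ i : Fin p, π ^ (i : ℕ) * (c - c') i ^ p = π ^ (i : ℕ) * c i ^ p - π ^ (i : ℕ) * c' i ^ p := by
      intro i
      rw [Pi.sub_apply, sub_pow_char, mul_sub]
    rw [Finset.sum_congr rfl (fun i _ => this i), Finset.sum_sub_distrib, h, sub_self]
  rw [sum_fin_eq_SS] at h1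
  funext i
  have h2 := SS_eq_zero p hp π hπ _ h1 i i.2
  rw [ext0_val, Pi.sub_apply, sub_eq_zero] at h2
  exact h2

end aux2

section aux3
variable (p : ℕ) [Fact p.Prime] {R : Type u} [CommRing R] [IsDomain R] [IsDiscreteValuationRing R]
  [CharP R p] (kp : Subfield (FractionRing R))
  (hkp : ∀ x : FractionRing R, x ∈ kp ↔ ∃ y : FractionRing R, y ^ p = x)

include hkp in
lemma clear_denoms (g : Fin p → kp) :
    ∃ (d : R) (bb : Fin p → R), d ≠ 0 ∧
      ∀ i, (algebraMap R (FractionRing R) d) ^ p * (g i : FractionRing R) =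
        algebraMap R (FractionRing R) (bb i ^ p) := by
  have h1 : ∀ i, ∃ y : FractionRing R, y ^ p = (g i : FractionRing R) := fun i => (hkp _).1 (g i).2
  choose y hy using h1
  obtain ⟨d, hd⟩ := IsLocalization.exist_integer_multiples_of_finite (nonZeroDivisors R) y
  choose bb hbb using hd
  refine ⟨d, bb, nonZeroDivisors.ne_zero d.2, fun i => ?_⟩
  rw [map_pow, hbb i, Algebra.smul_def, mul_pow, hy]

variable (hdeg : Module.finrank kp (FractionRing R) = p) (π : R) (hπ : Irreducible π)

include hkp hπ in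
lemma linIndep :
    LinearIndependent kp (fun i : Fin p => (algebraMap R (FractionRing R) π) ^ (i : ℕ)) := by
  have hp : 0 < p := (Fact.out : p.Prime).pos
  rw [Fintype.linearIndependent_iff]
  intro g hg i
  obtain ⟨d, bb, hd, hbb⟩ := clear_denoms p kp hkp g
  have hinj : Function.Injective (algebraMap R (FractionRing R)) := IsFractionRing.injective R _
  have h1 : algebraMap R (FractionRing R) (∑ i : Fin p, π ^ (i : ℕ) * bb i ^ p) = 0 := by
    have h2 : (algebraMap R (FractionRing R) d) ^ p *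
        ∑ i : Fin p, g i • (algebraMap R (FractionRing R) π) ^ (i : ℕ) = 0 := by rw [hg, mul_zero]
    rw [← h2, Finset.mul_sum, map_sum]
    apply Finset.sum_congr rfl
    intro j _
    rw [map_mul, map_pow, ← hbb j, Subfield.smul_def, smul_eq_mul]
    ring
  have h3 : ∑ i : Fin p, π ^ (i : ℕ) * bb i ^ p = 0 := hinj (by rw [h1, map_zero])
  rw [sum_fin_eq_SS] at h3
  have h4 := SS_eq_zero p hp π hπ _ h3 i i.2
  rw [ext0_val] at h4
  have h5 := hbb i
  rw [h4, zero_pow hp.ne', map_zero] at h5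
  rcases mul_eq_zero.1 h5 with h6 | h6
  · exact absurd (hinj (by rw [map_zero]; exact pow_eq_zero_iff hp.ne' |>.1 h6)) hd
  · exact Subtype.ext h6

include hkp hdeg hπ in
lemma decomp_exists (r : R) : ∃ c : Fin p → R, r = ∑ i : Fin p, π ^ (i : ℕ) * c i ^ p := by
  have hp : 0 < p := (Fact.out : p.Prime).pos
  have hpr : Prime π := UniqueFactorizationMonoid.irreducible_iff_prime.1 hπ
  have hinj : Function.Injective (algebraMap R (FractionRing R)) := IsFractionRing.injective R _
  have hli := linIndep p kp hkp π hπ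
  have hcard : Fintype.card (Fin p) = Module.finrank kp (FractionRing R) := by
    rw [hdeg, Fintype.card_fin]
  set B := basisOfLinearIndependentOfCardEqFinrank hli hcard with hB
  obtain ⟨d, bb, hd, hbb⟩ := clear_denoms p kp hkp (fun i => B.repr (algebraMap R (FractionRing R) r) i)
  have h1 : d ^ p * r = ∑ i : Fin p, π ^ (i : ℕ) * bb i ^ p := by
    apply hinj
    have h2 := B.sum_repr (algebraMap R (FractionRing R) r)
    rw [map_mul, map_pow, ← h2, Finset.mul_sum, map_sum]
    apply Finset.sum_congr rfl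
    intro j _
    rw [map_mul, map_pow, ← hbb j, Subfield.smul_def, smul_eq_mul, hB,
      coe_basisOfLinearIndependentOfCardEqFinrank]
    ring
  obtain ⟨s, u, hu⟩ := IsDiscreteValuationRing.eq_unit_mul_pow_irreducible hd hπ
  have h3 : ∀ i : Fin p, d ∣ bb i := by
    intro i
    have h4 : π ^ (p * s) ∣ SS p π (ext0 p bb) := by
      rw [← sum_fin_eq_SS, ← h1, hu, mul_pow, ← pow_mul, mul_comm s p]
      exact ⟨(u : R) ^ p * r, by ring⟩
    have h5 := lemA p hp π hpr (p * s) _ h4 i i.2
    rw [ext0_val] at h5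
    have h6 := lemB p π hpr i i.2 s _ h5
    rw [hu]
    exact (u.isUnit.mul_left_dvd).2 h6
  choose c hc using h3
  refine ⟨c, ?_⟩
  have hdp : d ^ p ≠ 0 := pow_ne_zero _ hd
  apply mul_left_cancel₀ hdp
  rw [h1, Finset.mul_sum]
  apply Finset.sum_congr rfl
  intro i _
  rw [hc i]
  ring

end aux3

section aux4
variable (p : ℕ) [Fact p.Prime] {R : Type u} [CommRing R] [CharP R p] (π : R)
  (hex : ∀ r : R, ∃ c : Fin p → R, r = ∑ i : Fin p, π ^ (i : ℕ) * c i ^ p)
  (huniq : ∀ c c' : Fin p → R,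
    ∑ i : Fin p, π ^ (i : ℕ) * c i ^ p = ∑ i : Fin p, π ^ (i : ℕ) * c' i ^ p → c = c')

/-- the coefficient family -/
noncomputable def coef (r : R) : Fin p → R := Classical.choose (hex r)

lemma coef_spec (r : R) : r = ∑ i : Fin p, π ^ (i : ℕ) * coef p π hex r i ^ p :=
  Classical.choose_spec (hex r)

include huniq in
lemma coef_eq (c : Fin p → R) : coef p π hex (∑ i : Fin p, π ^ (i : ℕ) * c i ^ p) = c :=
  huniq _ _ (coef_spec p π hex _).symm

/-- the candidate derivation -/
noncomputable def D0 (r : R) : R :=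
  ∑ i : Fin p, ((i : ℕ) : R) * π ^ ((i : ℕ) - 1) * coef p π hex r i ^ p

include huniq in
lemma D0_of (c : Fin p → R) : D0 p π hex (∑ i : Fin p, π ^ (i : ℕ) * c i ^ p) =
    ∑ i : Fin p, ((i : ℕ) : R) * π ^ ((i : ℕ) - 1) * c i ^ p := by
  unfold D0
  rw [coef_eq p π hex huniq]

include huniq in
lemma D0_add (r r' : R) : D0 p π hex (r + r') = D0 p π hex r + D0 p π hex r' := by
  obtain ⟨a, rfl⟩ := hex r
  obtain ⟨b, rfl⟩ := hex r'
  have h1 : ∑ i : Fin p, π ^ (i : ℕ) * a i ^ p + ∑ i : Fin p, π ^ (i : ℕ) * b i ^ p =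
      ∑ i : Fin p, π ^ (i : ℕ) * (a + b) i ^ p := by
    rw [← Finset.sum_add_distrib]
    apply Finset.sum_congr rfl
    intro i _
    rw [Pi.add_apply, add_pow_char, mul_add]
  rw [h1, D0_of p π hex huniq, D0_of p π hex huniq, D0_of p π hex huniq, ← Finset.sum_add_distrib]
  apply Finset.sum_congr rfl
  intro i _
  rw [Pi.add_apply, add_pow_char, mul_add]

/-- `D0` as an additive map -/
noncomputable def D0hom (huniq : ∀ c c' : Fin p → R,
    ∑ i : Fin p, π ^ (i : ℕ) * c i ^ p = ∑ i : Fin p, π ^ (i : ℕ) * c' i ^ p → c = c') : R →+ R :=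
  AddMonoidHom.mk' (D0 p π hex) (D0_add p π hex huniq)

include huniq in
lemma D0_mono (k : ℕ) (e : R) :
    D0 p π hex (π ^ k * e ^ p) = (k : R) * π ^ (k - 1) * e ^ p := by
  classical
  have hp : 0 < p := (Fact.out : p.Prime).pos
  have hl : k % p < p := Nat.mod_lt _ hp
  have hk : k = k % p + p * (k / p) := (Nat.mod_add_div k p).symm
  have hcast : ((k : ℕ) : R) = ((k % p : ℕ) : R) := by
    conv_lhs => rw [hk]
    rw [Nat.cast_add, Nat.cast_mul, CharP.cast_eq_zero R p, zero_mul, add_zero]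
  have h1 : π ^ k * e ^ p =
      ∑ i : Fin p, π ^ (i : ℕ) * (Pi.single (⟨k % p, hl⟩ : Fin p) (π ^ (k / p) * e) : Fin p → R) i ^ p := by
    rw [Finset.sum_eq_single (⟨k % p, hl⟩ : Fin p)]
    · rw [Pi.single_eq_same, mul_pow, ← pow_mul, ← mul_assoc, ← pow_add]
      conv_lhs => rw [hk]
      rw [mul_comm (k / p) p]
    · intro j _ hj
      rw [Pi.single_eq_of_ne hj, zero_pow hp.ne', mul_zero]
    · intro h
      exact absurd (Finset.mem_univ _) h
  rw [h1, D0_of p π hex huniq, Finset.sum_eq_single (⟨k % p, hl⟩ : Fin p)]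
  · rw [Pi.single_eq_same, hcast]
    show ((k % p : ℕ) : R) * π ^ (k % p - 1) * (π ^ (k / p) * e) ^ p = _
    rcases Nat.eq_zero_or_pos (k % p) with h0 | hpos
    · simp only [h0, Nat.cast_zero, zero_mul]
    · have h2 : π ^ (k - 1) = π ^ (k % p - 1) * π ^ (p * (k / p)) := by
        rw [← pow_add]
        congr 1
        omega
      rw [h2, mul_pow, ← pow_mul, mul_comm (k / p) p]
      ring
  · intro j _ hj
    rw [Pi.single_eq_of_ne hj, zero_pow hp.ne', mul_zero]
  · intro h
    exact absurd (Finset.mem_univ _) h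

omit [Fact (Nat.Prime p)] [CharP R p] in
lemma term_id (i j : ℕ) :
    ((i + j : ℕ) : R) * π ^ (i + j - 1) =
      π ^ i * ((j : R) * π ^ (j - 1)) + π ^ j * ((i : R) * π ^ (i - 1)) := by
  rcases Nat.eq_zero_or_pos i with rfl | hi
  · simp
  rcases Nat.eq_zero_or_pos j with rfl | hj
  · simp
  obtain ⟨i', rfl⟩ : ∃ i', i = i' + 1 := ⟨i - 1, by omega⟩
  obtain ⟨j', rfl⟩ : ∃ j', j = j' + 1 := ⟨j - 1, by omega⟩
  have : i' + 1 + (j' + 1) - 1 = i' + j' + 1 := by omega
  rw [this]
  simp only [Nat.add_sub_cancel]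
  push_cast
  ring

include huniq in
lemma D0_mul (r r' : R) :
    D0 p π hex (r * r') = r * D0 p π hex r' + r' * D0 p π hex r := by
  obtain ⟨a, rfl⟩ := hex r
  obtain ⟨b, rfl⟩ := hex r'
  rw [D0_of p π hex huniq, D0_of p π hex huniq]
  have h1 : (∑ i : Fin p, π ^ (i : ℕ) * a i ^ p) * (∑ i : Fin p, π ^ (i : ℕ) * b i ^ p) =
      ∑ i : Fin p, ∑ j : Fin p, π ^ ((i : ℕ) + (j : ℕ)) * (a i * b j) ^ p := by
    rw [Finset.sum_mul_sum]
    apply Finset.sum_congr rfl
    intro i _
    apply Finset.sum_congr rfl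
    intro j _
    rw [pow_add, mul_pow]
    ring
  rw [h1]
  change D0hom p π hex huniq _ = _
  rw [map_sum]
  simp_rw [map_sum]
  change ∑ i : Fin p, ∑ j : Fin p, D0 p π hex (π ^ ((i : ℕ) + (j : ℕ)) * (a i * b j) ^ p) = _
  simp_rw [D0_mono p π hex huniq]
  rw [Finset.sum_mul_sum, Finset.sum_mul_sum]
  have hV : ∑ i : Fin p, ∑ j : Fin p,
      π ^ (i : ℕ) * b i ^ p * (((j : ℕ) : R) * π ^ ((j : ℕ) - 1) * a j ^ p) =
      ∑ i : Fin p, ∑ j : Fin p,
      π ^ (j : ℕ) * b j ^ p * (((i : ℕ) : R) * π ^ ((i : ℕ) - 1) * a i ^ p) := Finset.sum_comm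
  rw [hV, ← Finset.sum_add_distrib]
  apply Finset.sum_congr rfl
  intro i _
  rw [← Finset.sum_add_distrib]
  apply Finset.sum_congr rfl
  intro j _
  rw [term_id π (i : ℕ) (j : ℕ), mul_pow]
  ring

end aux4


/-- Let R be a discrete valuation ring of prime characteristic p whose fraction field k has degree p
over its subfield k^p of p-th powers, and π a uniformizer. Then every element of R is, in a unique
way, a sum of π^i c_i^p over 0 ≤ i < p with c_i in R, and the Kähler differentials of R (absolute,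
i.e. over the integers, equivalently over the prime field) form a free module of rank one generated
by dπ. -/
theorem result (p : ℕ) [Fact p.Prime] {R : Type u} [CommRing R]
    [IsDomain R] [IsDiscreteValuationRing R] [CharP R p]
    (kp : Subfield (FractionRing R)) (hkp : ∀ x : FractionRing R, x ∈ kp ↔ ∃ y : FractionRing R, y ^ p = x)
    (hdeg : Module.finrank kp (FractionRing R) = p)
    (π : R) (hπ : Irreducible π) :
    (∀ r : R, ∃! c : Fin p → R, r = ∑ i : Fin p, π ^ (i : ℕ) * c i ^ p) ∧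
      Function.Bijective (fun r : R => r • KaehlerDifferential.D ℤ R π) := by
  classical
  have hp : 0 < p := (Fact.out : p.Prime).pos
  have hex : ∀ r : R, ∃ c : Fin p → R, r = ∑ i : Fin p, π ^ (i : ℕ) * c i ^ p :=
    decomp_exists p kp hkp hdeg π hπ
  have huniq := decomp_unique p π hπ
  refine ⟨?_, ?_⟩
  · intro r
    obtain ⟨c, hc⟩ := hex r
    exact ⟨c, hc, fun c' hc' => (huniq c c' (hc.symm.trans hc')).symm⟩
  · let Der : Derivation ℤ R R := Derivation.mk' (D0hom p π hex huniq).toIntLinearMap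
      (fun a b => by
        show D0 p π hex (a * b) = a • D0 p π hex b + b • D0 p π hex a
        rw [smul_eq_mul, smul_eq_mul]
        exact D0_mul p π hex huniq a b)
    have hDer : ∀ x, Der x = D0 p π hex x := fun x => rfl
    have hDπ : Der π = 1 := by
      rw [hDer]
      have := D0_mono p π hex huniq 1 1
      simpa using this
    constructor
    · intro r r' h
      have h1 := congrArg Der.liftKaehlerDifferential h
      simp only [map_smul, Derivation.liftKaehlerDifferential_comp_D, hDπ, smul_eq_mul,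
        mul_one] at h1
      exact h1
    · intro ω
      have hω : ω ∈ Submodule.span R (Set.range (KaehlerDifferential.D ℤ R)) := by
        rw [KaehlerDifferential.span_range_derivation]; trivial
      suffices h : ω ∈ LinearMap.range
          (LinearMap.toSpanSingleton R (Ω[R⁄ℤ]) (KaehlerDifferential.D ℤ R π)) by
        obtain ⟨r, hr⟩ := h
        exact ⟨r, hr⟩
      refine Submodule.span_le.2 ?_ hω
      rintro _ ⟨x, rfl⟩
      refine ⟨D0 p π hex x, ?_⟩
      obtain ⟨c, rfl⟩ := hex x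
      rw [D0_of p π hex huniq, LinearMap.toSpanSingleton_apply, map_sum, Finset.sum_smul]
      apply Finset.sum_congr rfl
      intro i _
      rw [Derivation.leibniz, Derivation.leibniz_pow, Derivation.leibniz_pow]
      have h1 : (p : ℕ) • (c i ^ (p - 1) • (KaehlerDifferential.D ℤ R) (c i)) = 0 := by
        rw [← Nat.cast_smul_eq_nsmul R, CharP.cast_eq_zero R p, zero_smul]
      rw [h1, smul_zero, zero_add, ← Nat.cast_smul_eq_nsmul R, smul_smul, smul_smul]
      congr 1
      ring

end Groth.Agent.S13368
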