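import Groth.Statements.S13369
import Groth.Agent.LibAdm29b
import Mathlib.RingTheory.IntegralClosure.IntegrallyClosed
-- import your own Groth.Agent.* helpers here

set_option autoImplicit false
universe u
open GaDual

namespace Groth.Agent.S13369

open Groth.Agent.LibAdm29 in

/-- For a normal Noetherian domain A of prime characteristic p, an element whose differential vanishes
in the absolute Kähler differentials of A is a p-th power; that is, the sequence F : A → A, d : A →
Ω_A (F the Frobenius) is exact at the middle term. (The published statement is for normal locally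
Noetherian schemes of characteristic p; this row is the case of the spectrum of a normal Noetherian
domain.) -/
theorem result (p : ℕ) [Fact p.Prime] {A : Type u} [CommRing A] [IsDomain A]
    [IsNoetherianRing A] [IsIntegrallyClosed A] [CharP A p] (s : A) (hs : KaehlerDifferential.D ℤ A s = 0) :
    ∃ f : A, f ^ p = s := by
  let K := FractionRing A
  have hK : CharP K p := charP_of_injective_algebraMap (IsFractionRing.injective A K) p
  let k₀ : Subfield K := (frobenius K p).fieldRange
  -- the differential of `s` vanishes in `Ω_{K/K^p}`
  have h1 : KaehlerDifferential.D ℤ K (algebraMap A K s) = 0 := by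
    rw [← KaehlerDifferential.map_D ℤ ℤ A K, hs, map_zero]
  have hst := IsScalarTower.of_algebraMap_eq' (R := ℤ) (S := k₀) (A := K) (Subsingleton.elim _ _)
  have h2 : KaehlerDifferential.D k₀ K (algebraMap A K s) = 0 := by
    have := KaehlerDifferential.map_D ℤ k₀ K K (algebraMap A K s)
    rw [h1, map_zero] at this
    exact this.symm
  have hmem := mem_of_D_eq_zero p (algebraMap A K s) h2
  have hle : IntermediateField.adjoin k₀ (Set.range fun y : K => y ^ p) ≤ ⊥ := by
    rw [IntermediateField.adjoin_le_iff]
    rintro _ ⟨y, rfl⟩
    rw [SetLike.mem_coe, IntermediateField.mem_bot]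
    exact ⟨⟨y ^ p, ⟨y, rfl⟩⟩, rfl⟩
  have hbot := hle hmem
  rw [IntermediateField.mem_bot] at hbot
  obtain ⟨⟨z, hzmem⟩, hz⟩ := hbot
  obtain ⟨g, hg⟩ := hzmem
  have hz' : z = algebraMap A K s := hz
  have hgs : g ^ p = algebraMap A K s := by
    rw [← hz', ← hg, frobenius_def]
  have hint : IsIntegral A g := by
    refine ⟨Polynomial.X ^ p - Polynomial.C s,
      Polynomial.monic_X_pow_sub_C _ (Fact.out : p.Prime).ne_zero, ?_⟩
    simp [hgs]
  obtain ⟨f, hf⟩ := IsIntegrallyClosed.isIntegral_iff.1 hint
  refine ⟨f, IsFractionRing.injective A K ?_⟩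
  rw [map_pow, hf, hgs]

end Groth.Agent.S13369
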