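import Groth.Statements.S13373
import Groth.Agent.Lib.Helper11.GaChar
import Groth.Agent.Lib.Helper11.GaChar2

set_option autoImplicit false
universe u
open GaDual

namespace Groth.Agent.S13373

open Groth.Agent.Lib.helper11.GaChar Groth.Agent.Lib.helper11.GaChar2


/-- Over a commutative algebra A of prime characteristic p, the formal characters (power series χ with
constant term 1 and χ(X+Y) = χ(X)χ(Y)) are exactly the infinite products ∏_n exp_p(a_n X^(p^n)) with
a_n^p = 0, where exp_p(Y) = Σ_{j<p} Y^j/j!; the infinite product is expressed through its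
truncations: χ mod X^(p^m) equals the finite product over n < m. -/
theorem result (p : ℕ) [Fact p.Prime] (A : Type u) [CommRing A] [CharP A p]
    (χ : PowerSeries A) :
    (PowerSeries.constantCoeff χ = 1 ∧
      PowerSeries.subst (MvPowerSeries.X 0 + MvPowerSeries.X 1 : MvPowerSeries (Fin 2) A) χ =
        PowerSeries.subst (MvPowerSeries.X 0 : MvPowerSeries (Fin 2) A) χ *
          PowerSeries.subst (MvPowerSeries.X 1 : MvPowerSeries (Fin 2) A) χ) ↔
      ∃ a : ℕ → A, (∀ n, a n ^ p = 0) ∧ ∀ m : ℕ,
        PowerSeries.trunc (p ^ m) χ = ∏ n ∈ Finset.range m, ∑ j ∈ Finset.range p,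
          Polynomial.C (Ring.inverse (j.factorial : A) * a n ^ j) * Polynomial.X ^ (j * p ^ n) := by
  classical
  have hp1 : 1 < p := (Fact.out : p.Prime).one_lt
  constructor
  · rintro ⟨h0, hmul⟩
    have hc0 : (fun k => PowerSeries.coeff k χ) 0 = 1 := by
      rw [← h0]; exact PowerSeries.coeff_zero_eq_constantCoeff_apply χ
    have H : ∀ M, HChar A (fun k => PowerSeries.coeff k χ) M := by
      intro M i j _ _
      have h1 := Groth.Agent.S13355.coeff_subst_add A χ i j
      rw [hmul, Groth.Agent.S13355.coeff_subst_mul] at h1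
      rw [mul_comm]; exact h1.symm
    refine ⟨fun n => PowerSeries.coeff (p ^ n) χ, ?_, ?_⟩
    · intro n
      exact (core (fun k => PowerSeries.coeff k χ) hc0 (n + 1) (H _)).1 n (Nat.lt_succ_self n)
    · intro m
      have h2 := (core (fun k => PowerSeries.coeff k χ) hc0 m (H _)).2
      refine Eq.trans ?_ h2
      rw [PowerSeries.trunc_apply, Nat.Ico_zero_eq_range]
  · rintro ⟨a, ha, htr⟩
    have hco : ∀ m k, k < p ^ m →
        PowerSeries.coeff k χ = (∏ n ∈ Finset.range m, E p (a n) n).coeff k := by
      intro m k hk
      have := htr m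
      change PowerSeries.trunc (p ^ m) χ = ∏ n ∈ Finset.range m, E p (a n) n at this
      rw [← this, PowerSeries.coeff_trunc, if_pos hk]
    have key : ∀ i j, PowerSeries.coeff (i + j) χ * (((i + j).choose i : ℕ) : A) =
        PowerSeries.coeff i χ * PowerSeries.coeff j χ := by
      intro i j
      have hm : i + j < p ^ (i + j) := Nat.lt_pow_self hp1
      have hchar := (prod_E_char a ha (i + j)).2
      have h1 := poly_coeff_add (∏ n ∈ Finset.range (i + j), E p (a n) n) i j
      rw [hchar, poly_coeff_mul] at h1
      rw [hco (i + j) (i + j) hm, hco (i + j) i (by omega), hco (i + j) j (by omega)]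
      exact h1.symm
    refine ⟨?_, ?_⟩
    · rw [← PowerSeries.coeff_zero_eq_constantCoeff_apply, hco 0 0 (by simp)]
      simp
    · ext e
      have he : e = Finsupp.single (0 : Fin 2) (e 0) + Finsupp.single 1 (e 1) := by
        ext k
        fin_cases k
        · show e 0 = _
          simp
        · show e 1 = _
          simp
      rw [he, Groth.Agent.S13355.coeff_subst_add, Groth.Agent.S13355.coeff_subst_mul]
      exact key _ _

end Groth.Agent.S13373
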