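import Groth.Statements.S13378
import Groth.Agent.Lib.Helper3.PCLib

set_option autoImplicit false
universe u
open ProCompl

namespace Groth.Agent.S13378

open CategoryTheory ProfiniteGrp ProfiniteGrp.ProfiniteCompletion Groth.Agent.Lib.helper3.PC

/-- an element which is not an `n`-th power lies outside some subgroup of finite index -/
lemma exists_finiteIndex_not_mem {B : Type u} [CommGroup B] (n : ℕ) (hn : 0 < n) (x : B)
    (hx : ¬ ∃ y : B, y ^ n = x) : ∃ K : Subgroup B, K.FiniteIndex ∧ x ∉ K := by
  let H : Subgroup B := (powMonoidHom n : B →* B).range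
  have hxH : x ∉ H := by
    rintro ⟨y, hy⟩
    exact hx ⟨y, hy⟩
  have hane : (Additive.ofMul (QuotientGroup.mk x : B ⧸ H)) ≠ 0 := by
    intro h
    apply hxH
    exact (QuotientGroup.eq_one_iff x).mp h
  obtain ⟨c, hc⟩ := CharacterModule.exists_character_apply_ne_zero_of_ne_zero hane
  let c' : Additive (B ⧸ H) →+ AddCircle (1 : ℚ) := c
  let ψ : B →* Multiplicative (AddCircle (1 : ℚ)) :=
    (AddMonoidHom.toMultiplicativeRight c').comp (QuotientGroup.mk' H)
  have hfin : {v : Multiplicative (AddCircle (1 : ℚ)) | v ^ n = 1}.Finite :=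
    AddCircle.finite_torsion (1 : ℚ) hn
  refine ⟨ψ.ker, ?_, ?_⟩
  · have hsub : (ψ.range : Set (Multiplicative (AddCircle (1 : ℚ)))) ⊆ {v | v ^ n = 1} := by
      rintro _ ⟨b, rfl⟩
      change ψ b ^ n = 1
      rw [← map_pow]
      have hb : (QuotientGroup.mk' H) (b ^ n) = 1 :=
        (QuotientGroup.eq_one_iff _).mpr ⟨b, rfl⟩
      change (AddMonoidHom.toMultiplicativeRight c') ((QuotientGroup.mk' H) (b ^ n)) = 1
      rw [hb, map_one]
    haveI : Finite ψ.range := (hfin.subset hsub).to_subtype
    exact Subgroup.finiteIndex_ker ψ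
  · intro hxk
    apply hc
    have h1 : ψ x = 1 := hxk
    exact h1

/-- separating the cosets of a finite-index subgroup of `A'` by a finite-index subgroup of `A` -/
lemma key {A : Type u} [CommGroup A] (A' : Subgroup A)
    (htors : ∃ N : ℕ, 0 < N ∧ ∀ x : A ⧸ A', IsOfFinOrder x → x ^ N = 1)
    (H' : Subgroup A') [hfi : H'.FiniteIndex] :
    ∃ H : Subgroup A, H.FiniteIndex ∧ ∀ a' : A', (a' : A) ∈ H → a' ∈ H' := by
  obtain ⟨N, hN, htors⟩ := htors
  set m := H'.index with hm
  have hmpos : 0 < m := Nat.pos_of_ne_zero hfi.index_ne_zero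
  let P : Subgroup A := H'.map A'.subtype
  have hPA' : P ≤ A' := by
    rintro _ ⟨h, _, rfl⟩
    exact h.2
  have step : ∀ a' : A', a' ∉ H' →
      ∃ K : Subgroup A, K.FiniteIndex ∧ P ≤ K ∧ (a' : A) ∉ K := by
    intro a' ha'
    let x : A ⧸ P := QuotientGroup.mk (a' : A)
    have hx : ¬ ∃ y : A ⧸ P, y ^ (N * m) = x := by
      rintro ⟨y, hy⟩
      obtain ⟨b, rfl⟩ := QuotientGroup.mk_surjective y
      have hy' : (QuotientGroup.mk (b ^ (N * m)) : A ⧸ P) = QuotientGroup.mk (a' : A) := hy
      have h1 : (b ^ (N * m))⁻¹ * (a' : A) ∈ P := QuotientGroup.eq.mp hy'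
      have h2 : b ^ (N * m) ∈ A' := by
        have h := A'.mul_mem a'.2 (A'.inv_mem (hPA' h1))
        have e : (a' : A) * ((b ^ (N * m))⁻¹ * (a' : A))⁻¹ = b ^ (N * m) := by
          rw [mul_inv_rev, inv_inv, mul_comm (a' : A)⁻¹, mul_comm, mul_assoc, inv_mul_cancel,
            mul_one]
        rwa [e] at h
      have h3 : IsOfFinOrder (QuotientGroup.mk b : A ⧸ A') := by
        rw [isOfFinOrder_iff_pow_eq_one]
        refine ⟨N * m, Nat.mul_pos hN hmpos, ?_⟩
        rw [← QuotientGroup.mk_pow, QuotientGroup.eq_one_iff]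
        exact h2
      have h4 : b ^ N ∈ A' := by
        have := htors _ h3
        rwa [← QuotientGroup.mk_pow, QuotientGroup.eq_one_iff] at this
      have h5 : (⟨b ^ N, h4⟩ : A') ^ m ∈ H' := Subgroup.pow_index_mem H' _
      have h6 : b ^ (N * m) ∈ P := ⟨_, h5, by simp [pow_mul]⟩
      have h7 : (a' : A) ∈ P := by
        have := P.mul_mem h6 h1
        rwa [mul_inv_cancel_left] at this
      obtain ⟨h, hh, hha⟩ := h7
      have : h = a' := Subtype.ext hha
      exact ha' (this ▸ hh)
    obtain ⟨K, hK, hxK⟩ := exists_finiteIndex_not_mem (N * m) (Nat.mul_pos hN hmpos) x hx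
    refine ⟨K.comap (QuotientGroup.mk' P), ?_, ?_, ?_⟩
    · constructor
      rw [Subgroup.index_comap_of_surjective _ (QuotientGroup.mk'_surjective P)]
      exact hK.index_ne_zero
    · intro p hp
      rw [Subgroup.mem_comap]
      have : QuotientGroup.mk' P p = 1 := (QuotientGroup.eq_one_iff p).mpr hp
      rw [this]
      exact K.one_mem
    · exact hxK
  classical
  haveI : Finite (A' ⧸ H') := H'.finite_quotient_of_finiteIndex
  let Kf : A' ⧸ H' → Subgroup A := fun q =>
    if hq : (Quotient.out q : A') ∈ H' then ⊤ else (step _ hq).choose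
  have hKf1 : ∀ q, (Kf q).FiniteIndex := by
    intro q
    by_cases hq : (Quotient.out q : A') ∈ H'
    · simp only [Kf, dif_pos hq]
      infer_instance
    · simp only [Kf, dif_neg hq]
      exact (step _ hq).choose_spec.1
  have hKf2 : ∀ q, P ≤ Kf q := by
    intro q
    by_cases hq : (Quotient.out q : A') ∈ H'
    · simp only [Kf, dif_pos hq]
      exact le_top
    · simp only [Kf, dif_neg hq]
      exact (step _ hq).choose_spec.2.1
  have hKf3 : ∀ q, (Quotient.out q : A') ∉ H' → ((Quotient.out q : A') : A) ∉ Kf q := by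
    intro q hq
    simp only [Kf, dif_neg hq]
    exact (step _ hq).choose_spec.2.2
  refine ⟨⨅ q, Kf q, Subgroup.finiteIndex_iInf hKf1, ?_⟩
  intro a' ha'
  by_contra hcon
  set q : A' ⧸ H' := QuotientGroup.mk a' with hq
  have hout : (QuotientGroup.mk (Quotient.out q) : A' ⧸ H') = QuotientGroup.mk a' :=
    Quotient.out_eq q
  have ht : (Quotient.out q : A') ∉ H' := by
    intro h
    apply hcon
    have h1 : (QuotientGroup.mk (Quotient.out q) : A' ⧸ H') = 1 :=
      (QuotientGroup.eq_one_iff _).mpr h
    rw [hout] at h1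
    exact (QuotientGroup.eq_one_iff _).mp h1
  have h2 : (Quotient.out q)⁻¹ * a' ∈ H' := QuotientGroup.eq.mp hout
  have h3 : (((Quotient.out q)⁻¹ * a' : A') : A) ∈ Kf q := hKf2 q ⟨_, h2, rfl⟩
  have h4 : (a' : A) ∈ Kf q := (Subgroup.mem_iInf.mp ha') q
  apply hKf3 q ht
  have h5 := (Kf q).mul_mem h4 ((Kf q).inv_mem h3)
  have e : (a' : A) * ((((Quotient.out q)⁻¹ * a' : A') : A))⁻¹ = ((Quotient.out q : A') : A) := by
    push_cast
    rw [mul_inv_rev, inv_inv, mul_inv_cancel_left]
  rwa [e] at h5

/-- For an abelian group A (written multiplicatively, discrete) and a subgroup A' such that the quotient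
A/A' has no nontrivial divisible element and its torsion elements are killed by one positive
integer, the map induced on profinite completions by the inclusion of A' in A is injective. (The
published statement is for topological abelian groups in which every nA is open, with completions
formed from open subgroups of finite index; this row is the case of the discrete topology.) -/
theorem result (A : Type u) [CommGroup A] (A' : Subgroup A)
    (hdiv : ∀ x : A ⧸ A', (∀ n : ℕ, 0 < n → ∃ y : A ⧸ A', y ^ n = x) → x = 1)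
    (htors : ∃ N : ℕ, 0 < N ∧ ∀ x : A ⧸ A', IsOfFinOrder x → x ^ N = 1) :
    Function.Injective (ProfiniteGrp.profiniteCompletion.map (GrpCat.ofHom A'.subtype)).hom := by
  set i : GrpCat.of A' ⟶ GrpCat.of A := GrpCat.ofHom A'.subtype with hi
  have hinj : ∀ y : completion (GrpCat.of A'),
      (profiniteCompletion.map i).hom y = 1 → y = 1 := by
    intro y hy
    apply ProfiniteGrp.limit_ext
    intro H'
    obtain ⟨H, hHfi, hH⟩ := key A' htors H'.toSubgroup
    haveI := hHfi
    let Hn : FiniteIndexNormalSubgroup A := FiniteIndexNormalSubgroup.ofSubgroup H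
    have hle : FiniteIndexNormalSubgroup.comap i.hom Hn ≤ H' := fun a' ha' => hH a' ha'
    have hcompat := y.property (homOfLE hle)
    have h1 : ((profiniteCompletion.map i).hom y).1 Hn = 1 := by
      rw [hy]; rfl
    rw [map_val] at h1
    obtain ⟨a', ha'⟩ := QuotientGroup.mk_surjective (y.1 (FiniteIndexNormalSubgroup.comap i.hom Hn))
    rw [← ha'] at h1
    have h2 : (QuotientGroup.mk (i.hom a') : A ⧸ H) = 1 := h1
    rw [QuotientGroup.eq_one_iff] at h2
    have h3 : y.1 (FiniteIndexNormalSubgroup.comap i.hom Hn) = 1 := by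
      rw [← ha']
      exact (QuotientGroup.eq_one_iff a').mpr h2
    rw [← hcompat, h3]
    exact map_one _
  intro y1 y2 h12
  have h := hinj (y1 * y2⁻¹) (by
    rw [map_mul, map_inv, h12, mul_inv_cancel])
  exact mul_inv_eq_one.mp h

end Groth.Agent.S13378
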