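import Groth.Statements.S13379
import Groth.Agent.Lib.Helper3.PCLib

set_option autoImplicit false
universe u
open ProCompl

namespace Groth.Agent.S13379

open CategoryTheory ProfiniteGrp ProfiniteGrp.ProfiniteCompletion Groth.Agent.Lib.helper3.PC

/-- the range of `map f` is closed -/
lemma isClosed_range_map {G Q : GrpCat.{u}} (f : G ⟶ Q) :
    IsClosed (Set.range (profiniteCompletion.map f).hom) :=
  (profiniteCompletion.map f).hom.continuous_toFun.isClosedMap.isClosed_range

/-- Profinite completion is right exact: for an abelian group A (written multiplicatively, discrete) and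
a subgroup A', the map on profinite completions induced by A → A/A' is surjective and its kernel is
the image of the completion of A'. (The published statement is right-exactness for topological
abelian groups with completions formed from open subgroups of finite index; this row is the case of
the discrete topology.) -/
theorem result (A : Type u) [CommGroup A] (A' : Subgroup A) :
    Function.Surjective (ProfiniteGrp.profiniteCompletion.map (GrpCat.ofHom (QuotientGroup.mk' A'))).hom ∧
      (ProfiniteGrp.profiniteCompletion.map (GrpCat.ofHom (QuotientGroup.mk' A'))).hom.toMonoidHom.ker =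
        (ProfiniteGrp.profiniteCompletion.map (GrpCat.ofHom A'.subtype)).hom.toMonoidHom.range := by
  set f : GrpCat.of A ⟶ GrpCat.of (A ⧸ A') := GrpCat.ofHom (QuotientGroup.mk' A') with hf
  set i : GrpCat.of A' ⟶ GrpCat.of A := GrpCat.ofHom A'.subtype with hi
  refine ⟨?_, ?_⟩
  · -- surjectivity
    intro y
    have hcl := isClosed_range_map f
    have hy : y ∈ closure (Set.range (profiniteCompletion.map f).hom) := by
      apply mem_closure_of_forall
      intro H
      obtain ⟨q, hq⟩ := QuotientGroup.mk_surjective (y.1 H)
      obtain ⟨a, ha⟩ := QuotientGroup.mk_surjective q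
      refine ⟨(profiniteCompletion.map f).hom (etaFn _ a), ⟨_, rfl⟩, ?_⟩
      rw [map_etaFn, ← hq, ← ha]
      rfl
    rw [hcl.closure_eq] at hy
    exact hy
  · ext x
    constructor
    · intro hx
      have hx1 : (profiniteCompletion.map f).hom x = 1 := hx
      have hcl := isClosed_range_map i
      have hmem : x ∈ closure (Set.range (profiniteCompletion.map i).hom) := by
        apply mem_closure_of_forall
        intro H
        -- the image of H in A ⧸ A'
        haveI hKn : (H.toSubgroup.map (QuotientGroup.mk' A')).Normal :=
          Subgroup.Normal.map H.isNormal' _ (QuotientGroup.mk'_surjective A')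
        haveI hKf : (H.toSubgroup.map (QuotientGroup.mk' A')).FiniteIndex := by
          constructor
          have h1 := Subgroup.index_map_dvd H.toSubgroup (f := QuotientGroup.mk' A')
            (QuotientGroup.mk'_surjective A')
          intro h0
          rw [h0] at h1
          exact H.isFiniteIndex'.index_ne_zero (Nat.eq_zero_of_zero_dvd h1)
        let K : FiniteIndexNormalSubgroup (A ⧸ A') :=
          FiniteIndexNormalSubgroup.ofSubgroup (H.toSubgroup.map (QuotientGroup.mk' A'))
        have hle : H ≤ FiniteIndexNormalSubgroup.comap f.hom K := by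
          intro h hh
          exact ⟨h, hh, rfl⟩
        have hcompat := x.property (homOfLE hle)
        have hK : ((profiniteCompletion.map f).hom x).1 K = 1 := by
          rw [hx1]; rfl
        rw [map_val] at hK
        obtain ⟨a, ha⟩ := QuotientGroup.mk_surjective (x.1 H)
        rw [← hcompat, ← ha] at hK
        have hK2 : (QuotientGroup.mk (f.hom a) : (A ⧸ A') ⧸ K.toSubgroup) = 1 := hK
        rw [QuotientGroup.eq_one_iff] at hK2
        obtain ⟨h, hh, hfa⟩ := hK2
        have hmemA' : h⁻¹ * a ∈ A' := by
          have : (QuotientGroup.mk h : A ⧸ A') = QuotientGroup.mk a := hfa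
          exact QuotientGroup.eq.mp this
        refine ⟨(profiniteCompletion.map i).hom (etaFn _ ⟨h⁻¹ * a, hmemA'⟩), ⟨_, rfl⟩, ?_⟩
        rw [map_etaFn, ← ha]
        change (QuotientGroup.mk (h⁻¹ * a) : A ⧸ H.toSubgroup) = QuotientGroup.mk a
        rw [QuotientGroup.eq]
        have : (h⁻¹ * a)⁻¹ * a = h := by
          rw [mul_inv_rev, inv_inv, mul_comm a⁻¹ h, mul_assoc, inv_mul_cancel, mul_one]
        rw [this]
        exact hh
      rw [hcl.closure_eq] at hmem
      exact hmem
    · rintro ⟨y, rfl⟩
      change (profiniteCompletion.map f).hom ((profiniteCompletion.map i).hom y) = 1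
      apply ProfiniteGrp.limit_ext
      intro H
      rw [map_val, map_val]
      obtain ⟨a', ha'⟩ := QuotientGroup.mk_surjective
        (y.1 (FiniteIndexNormalSubgroup.comap i.hom (FiniteIndexNormalSubgroup.comap f.hom H)))
      rw [← ha']
      change (QuotientGroup.mk (f.hom (i.hom a')) : (A ⧸ A') ⧸ H.toSubgroup) = 1
      have : f.hom (i.hom a') = 1 := by
        change (QuotientGroup.mk (a' : A) : A ⧸ A') = 1
        rw [QuotientGroup.eq_one_iff]
        exact a'.2
      rw [this]
      rfl

end Groth.Agent.S13379
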