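import Groth.Statements.S13380
import Mathlib
import Groth.Agent.S13358

set_option autoImplicit false
universe u
open GaDual

namespace Groth.Agent.S13380

open MvPolynomial Finset
open Groth.Agent.S13358

section Filt
variable {R : Type u} [CommRing R] (p : ℕ) [hp : Fact p.Prime] [CharP R p]

noncomputable def rootSeq (hF : Function.Surjective (frobenius R p)) (c : R) : ℕ → R
  | 0 => c
  | k + 1 => Classical.choose (hF (rootSeq hF c k))

lemma rootSeq_succ_pow (hF : Function.Surjective (frobenius R p)) (c : R) (k : ℕ) :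
    (rootSeq p hF c (k + 1)) ^ p = rootSeq p hF c k := by
  have h := Classical.choose_spec (hF (rootSeq p hF c k))
  rw [frobenius_def] at h
  exact h

variable {ι : Type} [Fintype ι] (a : ι → ℕ → R)

def Fgen (w : ℚ) : Set R :=
  {x | ∃ (k e : ι → ℕ), x = ∏ m, (a m (k m)) ^ (e m) ∧
    w ≤ ∑ m, (e m : ℚ) / (p : ℚ) ^ (k m)}

def Filt (w : ℚ) : Ideal R := Ideal.span (Fgen p a w)

lemma Filt_anti {w w' : ℚ} (h : w ≤ w') : Filt p a w' ≤ Filt p a w := by
  apply Ideal.span_mono
  rintro x ⟨k, e, rfl, hw⟩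
  exact ⟨k, e, rfl, h.trans hw⟩

lemma root_pow_pow (ha : ∀ m k, (a m (k + 1)) ^ p = a m k) (m : ι) (k d : ℕ) :
    (a m (k + d)) ^ (p ^ d) = a m k := by
  induction d with
  | zero => simp
  | succ d ih =>
    rw [← add_assoc, pow_succ', pow_mul, ha, ih]

lemma Filt_mul (ha : ∀ m k, (a m (k + 1)) ^ p = a m k) (w w' : ℚ) :
    Filt p a w * Filt p a w' ≤ Filt p a (w + w') := by
  have hp0 : (p : ℚ) ≠ 0 := Nat.cast_ne_zero.mpr hp.out.ne_zero
  unfold Filt
  rw [Ideal.span_mul_span']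
  apply Ideal.span_mono
  rintro _ ⟨x, ⟨k, e, rfl, hw⟩, y, ⟨k', e', rfl, hw'⟩, rfl⟩
  refine ⟨fun m => max (k m) (k' m),
    fun m => e m * p ^ (max (k m) (k' m) - k m) + e' m * p ^ (max (k m) (k' m) - k' m), ?_, ?_⟩
  · show (∏ m, a m (k m) ^ e m) * (∏ m, a m (k' m) ^ e' m) = _
    rw [← Finset.prod_mul_distrib]
    refine Finset.prod_congr rfl fun m _ => ?_
    have h1 : a m (k m) = (a m (max (k m) (k' m))) ^ (p ^ (max (k m) (k' m) - k m)) := by
      have := root_pow_pow p a ha m (k m) (max (k m) (k' m) - k m)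
      rw [Nat.add_sub_cancel' (le_max_left _ _)] at this
      exact this.symm
    have h2 : a m (k' m) = (a m (max (k m) (k' m))) ^ (p ^ (max (k m) (k' m) - k' m)) := by
      have := root_pow_pow p a ha m (k' m) (max (k m) (k' m) - k' m)
      rw [Nat.add_sub_cancel' (le_max_right _ _)] at this
      exact this.symm
    calc a m (k m) ^ e m * a m (k' m) ^ e' m
        = ((a m (max (k m) (k' m))) ^ (p ^ (max (k m) (k' m) - k m))) ^ e m
          * ((a m (max (k m) (k' m))) ^ (p ^ (max (k m) (k' m) - k' m))) ^ e' m := by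
          rw [← h1, ← h2]
      _ = _ := by
          rw [← pow_mul, ← pow_mul, ← pow_add]
          congr 1
          ring
  · have hterm : ∀ m, ((e m * p ^ (max (k m) (k' m) - k m)
          + e' m * p ^ (max (k m) (k' m) - k' m) : ℕ) : ℚ) / (p : ℚ) ^ (max (k m) (k' m))
        = (e m : ℚ) / (p : ℚ) ^ (k m) + (e' m : ℚ) / (p : ℚ) ^ (k' m) := by
      intro m
      have hK1 : (p : ℚ) ^ (max (k m) (k' m))
          = (p : ℚ) ^ (k m) * (p : ℚ) ^ (max (k m) (k' m) - k m) := by
        rw [← pow_add, Nat.add_sub_cancel' (le_max_left _ _)]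
      have hK2 : (p : ℚ) ^ (max (k m) (k' m))
          = (p : ℚ) ^ (k' m) * (p : ℚ) ^ (max (k m) (k' m) - k' m) := by
        rw [← pow_add, Nat.add_sub_cancel' (le_max_right _ _)]
      rw [Nat.cast_add, Nat.cast_mul, Nat.cast_mul, Nat.cast_pow, Nat.cast_pow, add_div]
      congr 1
      · rw [hK1, mul_div_mul_right _ _ (pow_ne_zero _ hp0)]
      · rw [hK2, mul_div_mul_right _ _ (pow_ne_zero _ hp0)]
    calc w + w' ≤ (∑ m, (e m : ℚ) / (p : ℚ) ^ (k m)) + ∑ m, (e' m : ℚ) / (p : ℚ) ^ (k' m) :=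
          add_le_add hw hw'
      _ = _ := by
          rw [← Finset.sum_add_distrib]
          exact Finset.sum_congr rfl fun m _ => (hterm m).symm

lemma Filt_root (hF : Function.Surjective (frobenius R p))
    (ha : ∀ m k, (a m (k + 1)) ^ p = a m k) (w : ℚ) (x : R) (hx : x ∈ Filt p a w) :
    ∃ y ∈ Filt p a (w / p), y ^ p = x := by
  have hp0 : (p : ℚ) ≠ 0 := Nat.cast_ne_zero.mpr hp.out.ne_zero
  unfold Filt at hx
  induction hx using Submodule.span_induction with
  | mem x hx =>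
    obtain ⟨k, e, rfl, hw⟩ := hx
    refine ⟨∏ m, (a m (k m + 1)) ^ (e m), Ideal.subset_span ⟨fun m => k m + 1, e, rfl, ?_⟩, ?_⟩
    · have : ∑ m, (e m : ℚ) / (p : ℚ) ^ (k m + 1)
          = (∑ m, (e m : ℚ) / (p : ℚ) ^ (k m)) / p := by
        rw [Finset.sum_div]
        refine Finset.sum_congr rfl fun m _ => ?_
        rw [pow_succ, div_mul_eq_div_div]
      rw [this]
      exact div_le_div_of_nonneg_right hw (Nat.cast_nonneg p)
    · rw [← Finset.prod_pow]
      refine Finset.prod_congr rfl fun m _ => ?_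
      rw [← pow_mul, mul_comm, pow_mul, ha]
  | zero => exact ⟨0, Ideal.zero_mem _, zero_pow hp.out.ne_zero⟩
  | add x y _ _ hx hy =>
    obtain ⟨x', hx', rfl⟩ := hx
    obtain ⟨y', hy', rfl⟩ := hy
    exact ⟨x' + y', Ideal.add_mem _ hx' hy', by rw [add_pow_char]⟩
  | smul r x _ hx =>
    obtain ⟨x', hx', rfl⟩ := hx
    obtain ⟨ρ, hρ⟩ := hF r
    rw [frobenius_def] at hρ
    refine ⟨ρ * x', Ideal.mul_mem_left _ ρ hx', ?_⟩
    rw [mul_pow, hρ, smul_eq_mul]

lemma Filt_vanish (ha : ∀ m k, (a m (k + 1)) ^ p = a m k) (M : ℕ)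
    (hM : ∀ m, (a m 0) ^ M = 0) (w : ℚ) (hw : (Fintype.card ι : ℚ) * M < w) :
    Filt p a w = ⊥ := by
  have hp0 : (0 : ℚ) < p := Nat.cast_pos.mpr hp.out.pos
  unfold Filt
  rw [Ideal.span_eq_bot]
  rintro x ⟨k, e, rfl, hwe⟩
  have hex : ∃ m, (M : ℚ) ≤ (e m : ℚ) / (p : ℚ) ^ (k m) := by
    by_contra hcon
    push_neg at hcon
    have : ∑ m, (e m : ℚ) / (p : ℚ) ^ (k m) ≤ ∑ _m : ι, (M : ℚ) :=
      Finset.sum_le_sum fun m _ => (hcon m).le
    rw [Finset.sum_const, Finset.card_univ, nsmul_eq_mul] at this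
    linarith
  obtain ⟨m, hm⟩ := hex
  apply Finset.prod_eq_zero (Finset.mem_univ m)
  have hpk : (0 : ℚ) < (p : ℚ) ^ (k m) := pow_pos hp0 _
  rw [le_div_iff₀ hpk] at hm
  have hm' : M * p ^ (k m) ≤ e m := by exact_mod_cast hm
  obtain ⟨c, hc⟩ := Nat.exists_eq_add_of_le hm'
  have h0 := root_pow_pow p a ha m 0 (k m)
  rw [zero_add] at h0
  rw [hc, pow_add, mul_comm M, pow_mul, h0, hM, zero_mul]

lemma Filt_mem_one (m : ι) : a m 0 ∈ Filt p a 1 := by
  classical
  apply Ideal.subset_span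
  refine ⟨fun _ => 0, fun m' => if m' = m then 1 else 0, ?_, ?_⟩
  · have hprod : ∏ m', a m' 0 ^ (if m' = m then 1 else 0) = a m 0 := by
      rw [Finset.prod_eq_single m]
      · rw [if_pos rfl, pow_one]
      · intro m' _ hne
        rw [if_neg hne, pow_zero]
      · intro h; exact absurd (Finset.mem_univ m) h
    exact hprod.symm
  · have hsum : ∑ m', (((if m' = m then 1 else 0 : ℕ)) : ℚ) / (p : ℚ) ^ (0 : ℕ) = 1 := by
      rw [Finset.sum_eq_single m]
      · rw [if_pos rfl, pow_zero, Nat.cast_one, div_one]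
      · intro m' _ hne
        rw [if_neg hne, Nat.cast_zero, zero_div]
      · intro h; exact absurd (Finset.mem_univ m) h
    exact hsum.ge

lemma Filt_pow_mem (ha : ∀ m k, (a m (k + 1)) ^ p = a m k) {w : ℚ} {x : R}
    (hx : x ∈ Filt p a w) (n : ℕ) : x ^ (n + 1) ∈ Filt p a ((n + 1 : ℕ) * w) := by
  induction n with
  | zero => simpa using hx
  | succ n ih =>
    have h := Filt_mul p a ha _ _ (Ideal.mul_mem_mul ih hx)
    rw [pow_succ]
    have e : ((n + 1 : ℕ) : ℚ) * w + w = ((n + 1 + 1 : ℕ) : ℚ) * w := by push_cast; ring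
    rw [← e]
    exact h

end Filt

section LazT
variable {R : Type u} [CommRing R] (p : ℕ) [hp : Fact p.Prime] [CharP R p]

lemma L1t (𝔟 : Ideal R) : ∀ n : ℕ, (∀ e, n ≠ p ^ e) → ∀ b : ℕ → R, CocSeq n b →
    (∀ m, b m ∈ 𝔟) →
    ∃ g : R, g ∈ 𝔟 ∧ ∀ m, 0 < m → m < n → b m = g * (n.choose m : R) := by
  have hppos := hp.out.pos
  have hp2 := hp.out.two_le
  intro n
  induction n using Nat.strong_induction_on with
  | _ n ih =>
    intro hnp b hb hb𝔟
    by_cases hpn : p ∣ n
    · obtain ⟨n', rfl⟩ := hpn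
      by_cases hn0 : n' = 0
      · subst hn0
        exact ⟨0, 𝔟.zero_mem, fun m hm hmn => absurd hmn (by simp)⟩
      have hn1 : n' ≠ 1 := by
        rintro rfl
        exact hnp 1 (by rw [mul_one, pow_one])
      have h2 : 2 ≤ n' := by omega
      obtain ⟨hzero, hb'⟩ := descend p h2 hb
      have hn'lt : n' < p * n' := by
        calc n' < 2 * n' := by omega
          _ ≤ p * n' := Nat.mul_le_mul_right n' hp2
      have hn'p : ∀ e, n' ≠ p ^ e := by
        intro e he
        exact hnp (e + 1) (by rw [he, pow_succ'])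
      obtain ⟨g, hg𝔟, hg⟩ := ih n' hn'lt hn'p _ hb' (fun m => hb𝔟 (p * m))
      refine ⟨g, hg𝔟, ?_⟩
      intro m hm hmn
      by_cases hpm : p ∣ m
      · obtain ⟨m', rfl⟩ := hpm
        have hm' : 0 < m' := Nat.pos_of_ne_zero (by rintro rfl; simp at hm)
        have hm'n : m' < n' := (Nat.mul_lt_mul_left hppos).mp hmn
        rw [choose_mul_cast (R := R) p n' m']
        exact hg m' hm' hm'n
      · rw [hzero m hm hmn hpm]
        have hC : ((p * n').choose m : R) = 0 := by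
          apply cancel_of_not_dvd p hpm
          rw [mul_zero, ← Nat.cast_mul]
          have := Nat.add_one_mul_choose_eq (p * n' - 1) (m - 1)
          rw [Nat.sub_add_cancel (by omega : 1 ≤ p * n'), Nat.sub_add_cancel hm] at this
          rw [Nat.mul_comm m ((p * n').choose m), ← this, Nat.cast_mul, Nat.cast_mul,
            CharP.cast_eq_zero R p, zero_mul, zero_mul]
        rw [hC, mul_zero]
    · obtain ⟨u, hu⟩ := exists_inv_of_not_dvd (R := R) p hpn
      refine ⟨u * b 1, 𝔟.mul_mem_left u (hb𝔟 1), ?_⟩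
      have key : ∀ m, 0 < m → m < n → ¬ p ∣ m → b m = u * b 1 * (n.choose m : R) := by
        intro m hm hmn hpm
        apply cancel_of_not_dvd p hpm
        rw [rel1 hb hm hmn]
        have := Nat.add_one_mul_choose_eq (n - 1) (m - 1)
        rw [Nat.sub_add_cancel (by omega : 1 ≤ n), Nat.sub_add_cancel hm] at this
        have hR : (n : R) * ((n - 1).choose (m - 1) : R) = (n.choose m : R) * (m : R) := by
          rw [← Nat.cast_mul, ← Nat.cast_mul, this]
        linear_combination (-(((n - 1).choose (m - 1) : R) * b 1)) * hu + (u * b 1) * hR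
      intro m hm hmn
      by_cases hpm : p ∣ m
      · have hpm' : ¬ p ∣ (n - m) := by
          intro h
          apply hpn
          have : n = (n - m) + m := by omega
          rw [this]
          exact dvd_add h hpm
        rw [hb.1 m hm hmn, key (n - m) (by omega) (by omega) hpm', Nat.choose_symm hmn.le]
      · exact key m hm hmn hpm

lemma psi_self (e : ℕ) : psi p e (p ^ e) = 1 := by
  have hppos := hp.out.pos
  unfold psi
  rw [if_pos (dvd_refl _), Nat.div_self (pow_pos hppos e), Nat.choose_one_right,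
    Nat.div_self hppos]

lemma lazardCoeff (a : ℕ → ℕ → R) (hs : ∀ i j, a i j = a j i)
    (hstar : ∀ i j k, a i (j + k) * ((j + k).choose j : R)
      + a j k * (if i = 0 then (1 : R) else 0)
      - a (i + j) k * ((i + j).choose i : R)
      - a i j * (if k = 0 then (1 : R) else 0) = 0)
    (D : ℕ) (hD : ∀ i j, D < i + j → a i j = 0) (𝔟 : Ideal R) (h𝔟 : ∀ i j, a i j ∈ 𝔟) :
    ∃ (γ r : ℕ → R), (∀ n, γ n ∈ 𝔟) ∧ (∀ e, r e ∈ 𝔟) ∧ (∀ n, D < n → γ n = 0) ∧
      ∀ i j, a i j = γ (i + j) * ((i + j).choose i : R)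
        - γ i * (if j = 0 then (1 : R) else 0) - γ j * (if i = 0 then (1 : R) else 0)
        + ∑ e ∈ Finset.range (D + 1), r e * innerS p e i j := by
  classical
  have hp2 := hp.out.two_le
  have hz : ∀ k, 0 < k → a 0 k = 0 := by
    intro k hk
    have h := hstar 0 0 k
    simp only [zero_add, Nat.choose_zero_right, Nat.cast_one, mul_one, if_true,
      if_neg hk.ne', mul_zero, sub_zero] at h
    linear_combination h
  have hc : ∀ i j k, 0 < i → 0 < k →
      ((i + j).choose i : R) * a (i + j) k = ((j + k).choose j : R) * a i (j + k) := by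
    intro i j k hi hk
    have h := hstar i j k
    rw [if_neg hi.ne', if_neg hk.ne', mul_zero, mul_zero, add_zero, sub_zero] at h
    linear_combination (-1 : R) * h
  have hcs : ∀ n, CocSeq n (fun i => a i (n - i)) := by
    intro n
    refine ⟨?_, ?_⟩
    · intro i hi hin
      show a i (n - i) = a (n - i) (n - (n - i))
      rw [Nat.sub_sub_self hin.le]
      exact hs _ _
    · intro i j k hi hk hijk
      show ((i + j).choose i : R) * a (i + j) (n - (i + j))
        = ((j + k).choose j : R) * a i (n - i)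
      have e1 : n - (i + j) = k := by omega
      have e2 : n - i = j + k := by omega
      rw [e1, e2]
      exact hc i j k hi hk
  have H1 : ∀ n, ∃ g : R, g ∈ 𝔟 ∧ ((∀ e, n ≠ p ^ e) → ∀ m, 0 < m → m < n →
      a m (n - m) = g * (n.choose m : R)) := by
    intro n
    by_cases h : ∀ e, n ≠ p ^ e
    · obtain ⟨g, hg𝔟, hg⟩ := L1t (R := R) p 𝔟 n h _ (hcs n) (fun m => h𝔟 _ _)
      exact ⟨g, hg𝔟, fun _ => hg⟩
    · exact ⟨0, 𝔟.zero_mem, fun h' => absurd h' h⟩
  have H2 : ∀ e, ∃ r : R, ∀ m, 0 < m → m < p ^ (e + 1) →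
      a m (p ^ (e + 1) - m) = r * (psi p e m : R) :=
    fun e => L2 (R := R) p e _ (hcs _)
  choose g hg𝔟 hg using H1
  choose r hr using H2
  have hr𝔟 : ∀ e, r e ∈ 𝔟 := by
    intro e
    have hpe : 0 < p ^ e := pow_pos hp.out.pos e
    have hlt : p ^ e < p ^ (e + 1) := by
      rw [pow_succ]
      calc p ^ e = p ^ e * 1 := (mul_one _).symm
        _ < p ^ e * p := (Nat.mul_lt_mul_left hpe).mpr hp.out.one_lt
    have h := hr e (p ^ e) hpe hlt
    rw [psi_self, Nat.cast_one, mul_one] at h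
    rw [← h]
    exact h𝔟 _ _
  obtain ⟨γ, hγdef⟩ : ∃ γ : ℕ → R, ∀ n, γ n = if n ≤ D then
      (if n = 0 then - a 0 0 else if (∃ e, n = p ^ e) then 0 else g n) else 0 :=
    ⟨fun n => if n ≤ D then
      (if n = 0 then - a 0 0 else if (∃ e, n = p ^ e) then 0 else g n) else 0, fun n => rfl⟩
  have hγ𝔟 : ∀ n, γ n ∈ 𝔟 := by
    intro n
    rw [hγdef]
    split_ifs
    · exact 𝔟.neg_mem (h𝔟 0 0)
    · exact 𝔟.zero_mem
    · exact hg𝔟 n
    · exact 𝔟.zero_mem
  have hγD : ∀ n, D < n → γ n = 0 := by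
    intro n hn
    rw [hγdef, if_neg (by omega)]
  refine ⟨γ, r, hγ𝔟, hr𝔟, hγD, ?_⟩
  intro i j
  by_cases hi : i = 0
  · subst hi
    have hsum : ∑ e ∈ Finset.range (D + 1), r e * innerS (R := R) p e 0 j = 0 :=
      Finset.sum_eq_zero fun e _ => by
        rw [innerS_zero p e 0 j (Or.inr (Or.inl rfl)), mul_zero]
    rw [hsum, if_pos rfl, zero_add, Nat.choose_zero_right, Nat.cast_one, mul_one, add_zero]
    by_cases hj : j = 0
    · subst hj
      rw [if_pos rfl, mul_one]
      have : γ 0 = - a 0 0 := by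
        rw [hγdef, if_pos (Nat.zero_le _), if_pos rfl]
      rw [this]; ring
    · rw [if_neg hj, mul_zero, hz j (Nat.pos_of_ne_zero hj)]
      ring
  · have hipos : 0 < i := Nat.pos_of_ne_zero hi
    rw [if_neg hi, mul_zero, sub_zero]
    by_cases hj : j = 0
    · subst hj
      have hsum : ∑ e ∈ Finset.range (D + 1), r e * innerS (R := R) p e i 0 = 0 :=
        Finset.sum_eq_zero fun e _ => by
          rw [innerS_zero p e i 0 (Or.inr (Or.inr rfl)), mul_zero]
      rw [hsum, if_pos rfl, add_zero, add_zero, Nat.choose_self, Nat.cast_one, mul_one,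
        sub_self, hs, hz i hipos]
    · have hjpos : 0 < j := Nat.pos_of_ne_zero hj
      rw [if_neg hj, mul_zero, sub_zero]
      have hn2 : 2 ≤ i + j := by omega
      by_cases hpow : ∃ e, i + j = p ^ e
      · obtain ⟨e, he⟩ := hpow
        obtain ⟨e₀, rfl⟩ : ∃ e₀, e = e₀ + 1 := by
          refine ⟨e - 1, ?_⟩
          have : e ≠ 0 := by
            rintro rfl
            rw [pow_zero] at he
            omega
          omega
        have hγ : γ (i + j) = 0 := by
          rw [hγdef]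
          by_cases h1 : i + j ≤ D
          · rw [if_pos h1, if_neg (by omega), if_pos ⟨e₀ + 1, he⟩]
          · rw [if_neg h1]
        rw [hγ, zero_mul, zero_add, outer_eq p r (D + 1) e₀ i j hipos hjpos he]
        by_cases hN : e₀ < D + 1
        · rw [if_pos hN, ← hr e₀ i hipos (by omega)]
          have : p ^ (e₀ + 1) - i = j := by omega
          rw [this]
        · rw [if_neg hN]
          apply hD
          have : e₀ + 1 < p ^ (e₀ + 1) := Nat.lt_pow_self hp.out.one_lt
          omega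
      · have hsum : ∑ e ∈ Finset.range (D + 1), r e * innerS (R := R) p e i j = 0 :=
          Finset.sum_eq_zero fun e _ => by
            rw [innerS_zero p e i j (Or.inl (fun h => hpow ⟨e + 1, h⟩)), mul_zero]
        rw [hsum, add_zero]
        by_cases hnD : i + j ≤ D
        · have hγ : γ (i + j) = g (i + j) := by
            rw [hγdef, if_pos hnD, if_neg (by omega), if_neg hpow]
          rw [hγ, ← hg (i + j) (fun e he => hpow ⟨e, he⟩) i hipos (by omega)]
          have : i + j - i = j := by omega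
          rw [this]
        · rw [hγdef, if_neg hnD, zero_mul]
          exact hD i j (by omega)

end LazT

section TExp
variable (p : ℕ) [hp : Fact p.Prime]

noncomputable def E0 : Polynomial (ZMod p) :=
  ∑ i ∈ Finset.range p, Polynomial.monomial i (((i.factorial : ℕ) : ZMod p)⁻¹)

lemma E0_coeff (i : ℕ) :
    (E0 p).coeff i = if i < p then (((i.factorial : ℕ) : ZMod p)⁻¹) else 0 := by
  unfold E0
  rw [Polynomial.finsetSum_coeff]
  simp only [Polynomial.coeff_monomial]
  rw [Finset.sum_ite_eq']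
  simp only [Finset.mem_range]

lemma fact_ne_zero {i : ℕ} (hi : i < p) : ((i.factorial : ℕ) : ZMod p) ≠ 0 := by
  rw [Ne, ZMod.natCast_eq_zero_iff, hp.out.dvd_factorial]
  omega

lemma eps_mul (i j : ℕ) (h : i + j < p) :
    (((i.factorial : ℕ) : ZMod p)⁻¹) * (((j.factorial : ℕ) : ZMod p)⁻¹)
      = ((((i + j).factorial : ℕ) : ZMod p)⁻¹) * (((i + j).choose i : ℕ) : ZMod p) := by
  have hI := fact_ne_zero p (show i < p by omega)
  have hJ := fact_ne_zero p (show j < p by omega)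
  have hN := fact_ne_zero p h
  have hnat : (i + j).choose i * i.factorial * j.factorial = (i + j).factorial := by
    rw [Nat.choose_symm_add]
    exact Nat.add_choose_mul_factorial_mul_factorial i j
  have hc : (((i + j).choose i : ℕ) : ZMod p) * ((i.factorial : ℕ) : ZMod p)
      * ((j.factorial : ℕ) : ZMod p) = (((i + j).factorial : ℕ) : ZMod p) := by
    rw [← Nat.cast_mul, ← Nat.cast_mul, hnat]
  rw [← hc]
  have hC : (((i + j).choose i : ℕ) : ZMod p) ≠ 0 := by
    intro h0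
    rw [h0, zero_mul, zero_mul] at hc
    exact hN hc.symm
  field_simp

lemma eps_p (i : ℕ) (hi : 0 < i) (hip : i < p) :
    (((i.factorial : ℕ) : ZMod p)⁻¹) * ((((p - i).factorial : ℕ) : ZMod p)⁻¹)
      = - (((p.choose i / p : ℕ)) : ZMod p) := by
  have hppos := hp.out.pos
  have hI := fact_ne_zero p hip
  have hJ := fact_ne_zero p (show p - i < p by omega)
  have hdvd : p ∣ p.choose i := hp.out.dvd_choose_self hi.ne' hip
  have hnat : (p.choose i / p) * i.factorial * (p - i).factorial = (p - 1).factorial := by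
    apply Nat.eq_of_mul_eq_mul_left hppos
    rw [Nat.mul_factorial_pred hppos.ne', ← Nat.choose_mul_factorial_mul_factorial hip.le,
      ← mul_assoc, ← mul_assoc, Nat.mul_div_cancel' hdvd]
  have hc : (((p.choose i / p : ℕ)) : ZMod p) * ((i.factorial : ℕ) : ZMod p)
      * (((p - i).factorial : ℕ) : ZMod p) = -1 := by
    rw [← Nat.cast_mul, ← Nat.cast_mul, hnat]
    exact ZMod.wilsons_lemma p
  calc (((i.factorial : ℕ) : ZMod p)⁻¹) * ((((p - i).factorial : ℕ) : ZMod p)⁻¹)
      = (((i.factorial : ℕ) : ZMod p)⁻¹) * ((((p - i).factorial : ℕ) : ZMod p)⁻¹)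
        * (-((((p.choose i / p : ℕ)) : ZMod p) * ((i.factorial : ℕ) : ZMod p)
          * (((p - i).factorial : ℕ) : ZMod p))) := by rw [hc]; ring
    _ = - (((p.choose i / p : ℕ)) : ZMod p) * ((((i.factorial : ℕ) : ZMod p)⁻¹)
          * ((i.factorial : ℕ) : ZMod p)) * (((((p - i).factorial : ℕ) : ZMod p)⁻¹)
          * (((p - i).factorial : ℕ) : ZMod p)) := by ring
    _ = - (((p.choose i / p : ℕ)) : ZMod p) := by
        rw [inv_mul_cancel₀ hI, inv_mul_cancel₀ hJ]; ring

lemma coeff_T0T1 {R : Type*} [CommRing R] (G G' : Polynomial R) (i j : ℕ) :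
    coeff (m2 i j) (Polynomial.aeval (X 0 : MvPolynomial (Fin 2) R) G
        * Polynomial.aeval (X 1 : MvPolynomial (Fin 2) R) G')
      = G.coeff i * G'.coeff j := by
  rw [Polynomial.aeval_def, Polynomial.aeval_def, Polynomial.eval₂_eq_sum,
    Polynomial.eval₂_eq_sum, Polynomial.sum_def, Polynomial.sum_def, Finset.sum_mul_sum,
    coeff_sum]
  simp only [coeff_sum]
  have hterm : ∀ n n', coeff (m2 i j)
      ((algebraMap R (MvPolynomial (Fin 2) R) (G.coeff n) * X 0 ^ n)
        * (algebraMap R (MvPolynomial (Fin 2) R) (G'.coeff n') * X 1 ^ n'))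
      = G.coeff n * G'.coeff n' * (if n = i ∧ n' = j then 1 else 0) := by
    intro n n'
    rw [algebraMap_eq, mul_mul_mul_comm, ← C_mul, coeff_C_mul, coeff_XY]
  simp only [hterm]
  rw [Finset.sum_eq_single i]
  · rw [Finset.sum_eq_single j]
    · rw [if_pos ⟨rfl, rfl⟩, mul_one]
    · intro n' _ hn'
      rw [if_neg (fun h => hn' h.2), mul_zero]
    · intro hj
      rw [Polynomial.notMem_support_iff.mp hj, mul_zero, zero_mul]
  · intro n _ hn
    apply Finset.sum_eq_zero
    intro n' _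
    rw [if_neg (fun h => hn h.1), mul_zero]
  · intro hi
    apply Finset.sum_eq_zero
    intro n' _
    rw [Polynomial.notMem_support_iff.mp hi, zero_mul, zero_mul]

noncomputable def Om0 : MvPolynomial (Fin 2) (ZMod p) :=
  Polynomial.aeval (X 0 : MvPolynomial (Fin 2) (ZMod p)) (E0 p)
      * Polynomial.aeval (X 1 : MvPolynomial (Fin 2) (ZMod p)) (E0 p)
    - Polynomial.aeval (X 0 + X 1 : MvPolynomial (Fin 2) (ZMod p)) (E0 p)
    + SB p (X 0) (X 1)

lemma coeff_SB01 (i j : ℕ) :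
    coeff (m2 i j) (SB p (X 0) (X 1) : MvPolynomial (Fin 2) (ZMod p))
      = ∑ t ∈ Finset.Ioo 0 p, ((p.choose t / p : ℕ) : ZMod p) *
          (if t = i ∧ p - t = j then 1 else 0) := by
  have h := coeff_SBterm (R := ZMod p) p 1 1 i j
  rw [pow_one, pow_one, C_1, one_mul, one_mul] at h
  rw [h]
  refine Finset.sum_congr rfl fun t _ => ?_
  rw [one_mul, one_mul]

lemma Om0_coeff (i j : ℕ) (hij : i + j ≤ p) : coeff (m2 i j) (Om0 p) = 0 := by
  have hppos := hp.out.pos
  unfold Om0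
  rw [coeff_add, coeff_sub, coeff_T0T1, coeff_T1, coeff_SB01, E0_coeff, E0_coeff, E0_coeff]
  rcases Nat.lt_or_ge (i + j) p with hlt | hge
  · -- degree < p
    have hsum : ∑ t ∈ Finset.Ioo 0 p, ((p.choose t / p : ℕ) : ZMod p) *
          (if t = i ∧ p - t = j then 1 else 0) = 0 := by
      apply Finset.sum_eq_zero
      intro t ht
      rw [Finset.mem_Ioo] at ht
      rw [if_neg, mul_zero]
      rintro ⟨h1, h2⟩
      omega
    rw [hsum, add_zero, if_pos (by omega), if_pos (by omega), if_pos hlt, eps_mul p i j hlt]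
    ring
  · have hp' : i + j = p := le_antisymm hij hge
    rw [if_neg (by omega : ¬ i + j < p), zero_mul, sub_zero]
    by_cases hi0 : i = 0
    · have hj : j = p := by omega
      have hsum : ∑ t ∈ Finset.Ioo 0 p, ((p.choose t / p : ℕ) : ZMod p) *
          (if t = i ∧ p - t = j then 1 else 0) = 0 := by
        apply Finset.sum_eq_zero
        intro t ht
        rw [Finset.mem_Ioo] at ht
        rw [if_neg, mul_zero]
        rintro ⟨h1, h2⟩
        omega
      rw [hsum, add_zero, if_neg (by omega : ¬ j < p), mul_zero]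
    · by_cases hj0 : j = 0
      · have hi : i = p := by omega
        have hsum : ∑ t ∈ Finset.Ioo 0 p, ((p.choose t / p : ℕ) : ZMod p) *
            (if t = i ∧ p - t = j then 1 else 0) = 0 := by
          apply Finset.sum_eq_zero
          intro t ht
          rw [Finset.mem_Ioo] at ht
          rw [if_neg, mul_zero]
          rintro ⟨h1, h2⟩
          omega
        rw [hsum, add_zero, if_neg (by omega : ¬ i < p), zero_mul]
      · have hipos : 0 < i := Nat.pos_of_ne_zero hi0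
        have hip : i < p := by omega
        have hj : j = p - i := by omega
        have hsum : ∑ t ∈ Finset.Ioo 0 p, ((p.choose t / p : ℕ) : ZMod p) *
            (if t = i ∧ p - t = j then 1 else 0) = ((p.choose i / p : ℕ) : ZMod p) := by
          rw [Finset.sum_eq_single i]
          · rw [if_pos ⟨rfl, hj.symm⟩, mul_one]
          · intro t _ hti
            rw [if_neg (fun h => hti h.1), mul_zero]
          · intro h
            exfalso; apply h; rw [Finset.mem_Ioo]; exact ⟨hipos, hip⟩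
        rw [hsum, if_pos hip, if_pos (by omega : j < p), hj, eps_p p i hipos hip]
        ring

/-- The truncated exponential in a ring of characteristic `p`. -/
noncomputable def EB {B : Type*} [CommRing B] [CharP B p] (W : B) : B :=
  Polynomial.eval₂ (ZMod.castHom (dvd_refl p) B) W (E0 p)

lemma map_EB {B B' : Type*} [CommRing B] [CharP B p] [CommRing B'] [CharP B' p]
    (φ : B →+* B') (W : B) : φ (EB p W) = EB p (φ W) := by
  unfold EB
  rw [Polynomial.hom_eval₂]
  congr 1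
  exact RingHom.ext_zmod _ _

lemma EB_eq_sum {B : Type*} [CommRing B] [CharP B p] (W : B) :
    EB p W = ∑ i ∈ Finset.range p,
      (ZMod.castHom (dvd_refl p) B (((i.factorial : ℕ) : ZMod p)⁻¹)) * W ^ i := by
  unfold EB E0
  rw [Polynomial.eval₂_finsetSum]
  refine Finset.sum_congr rfl fun i _ => ?_
  rw [Polynomial.eval₂_monomial]

lemma EB_sub_one_mem {B : Type*} [CommRing B] [CharP B p] (W : B) (𝔞 : Ideal B)
    (hW : W ∈ 𝔞) : EB p W - 1 ∈ 𝔞 := by
  have hppos := hp.out.pos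
  rw [EB_eq_sum, Finset.range_eq_Ico, Finset.sum_eq_sum_Ico_succ_bot hppos]
  have h0 : (ZMod.castHom (dvd_refl p) B (((Nat.factorial 0 : ℕ) : ZMod p)⁻¹)) * W ^ 0 = 1 := by
    rw [Nat.factorial_zero, Nat.cast_one, inv_one, map_one, pow_zero, mul_one]
  rw [h0, add_sub_cancel_left]
  apply Ideal.sum_mem
  intro i hi
  rw [Finset.mem_Ico] at hi
  exact Ideal.mul_mem_left _ _ (Ideal.pow_mem_of_mem 𝔞 hW i (by omega))

lemma EB_key {B : Type*} [CommRing B] [CharP B p] (U V : B) (𝔠 : Ideal B)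
    (h𝔠 : ∀ i j, p + 1 ≤ i + j → U ^ i * V ^ j ∈ 𝔠) :
    EB p U * EB p V - EB p (U + V) + SB p U V ∈ 𝔠 := by
  set ψ : MvPolynomial (Fin 2) (ZMod p) →+* B :=
    MvPolynomial.eval₂Hom (ZMod.castHom (dvd_refl p) B) ![U, V] with hψ
  have hX0 : ψ (X 0) = U := by rw [hψ, eval₂Hom_X']; rfl
  have hX1 : ψ (X 1) = V := by rw [hψ, eval₂Hom_X']; rfl
  have hPA : ∀ q : MvPolynomial (Fin 2) (ZMod p),
      ψ (Polynomial.aeval q (E0 p)) = EB p (ψ q) := by
    intro q
    unfold EB
    rw [Polynomial.aeval_def, Polynomial.hom_eval₂]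
    congr 1
    exact RingHom.ext_zmod _ _
  have hΩ : ψ (Om0 p) = EB p U * EB p V - EB p (U + V) + SB p U V := by
    unfold Om0
    rw [map_add, map_sub, map_mul, hPA, hPA, hPA, map_add, hX0, hX1, map_SB p ψ, hX0, hX1]
  rw [← hΩ, hψ, coe_eval₂Hom, eval₂_eq']
  apply Ideal.sum_mem
  intro m hm
  rw [Fin.prod_univ_two]
  apply Ideal.mul_mem_left
  show U ^ m 0 * V ^ m 1 ∈ 𝔠
  apply h𝔠
  by_contra hcon
  have hle : m 0 + m 1 ≤ p := by omega
  have := Om0_coeff p (m 0) (m 1) hle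
  rw [m2_eta] at this
  exact (mem_support_iff.mp hm) this

end TExp

section CocBasics
variable {R : Type u} [CommRing R]

/-- symmetric multiplicative 2-cocycle -/
def IsCoc (h : MvPolynomial (Fin 2) R) : Prop :=
  aeval ![(X 1 : MvPolynomial (Fin 2) R), X 0] h = h ∧
  aeval ![(X 1 : MvPolynomial (Fin 3) R), X 2] h * aeval ![X 0, X 1 + X 2] h
    = aeval ![X 0 + X 1, X 2] h * aeval ![X 0, X 1] h

noncomputable def cob (f g : Polynomial R) : MvPolynomial (Fin 2) R :=
  Polynomial.aeval (X 0 + X 1 : MvPolynomial (Fin 2) R) f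
    * Polynomial.aeval (X 0 : MvPolynomial (Fin 2) R) g
    * Polynomial.aeval (X 1 : MvPolynomial (Fin 2) R) g

lemma cob_mul (f f' g g' : Polynomial R) : cob (f * f') (g * g') = cob f g * cob f' g' := by
  unfold cob
  rw [map_mul, map_mul, map_mul]
  ring

lemma cob_one : cob (1 : Polynomial R) 1 = 1 := by
  unfold cob
  rw [map_one, map_one, map_one, one_mul, one_mul]

lemma cob_prod {κ : Type*} (s : Finset κ) (f g : κ → Polynomial R) :
    cob (∏ e ∈ s, f e) (∏ e ∈ s, g e) = ∏ e ∈ s, cob (f e) (g e) := by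
  classical
  induction s using Finset.induction_on with
  | empty => simp [cob_one]
  | insert e s he ih =>
    rw [Finset.prod_insert he, Finset.prod_insert he, Finset.prod_insert he, cob_mul, ih]

lemma cob_mul_inv (f g : Polynomial R) (hfg : f * g = 1) : cob f g * cob g f = 1 := by
  rw [← cob_mul, hfg, mul_comm g f, hfg, cob_one]

lemma cob_isCoc (f g : Polynomial R) (hfg : f * g = 1) : IsCoc (cob f g) := by
  have hPQ : ∀ {τ : Type} (q : MvPolynomial τ R),
      Polynomial.aeval q f * Polynomial.aeval q g = 1 := by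
    intro τ q
    rw [← map_mul, hfg, map_one]
  have key : ∀ {τ : Type} (σ : Fin 2 → MvPolynomial τ R), aeval σ (cob f g) =
      Polynomial.aeval (σ 0 + σ 1) f * Polynomial.aeval (σ 0) g * Polynomial.aeval (σ 1) g := by
    intro τ σ
    unfold cob
    rw [map_mul, map_mul, aeval_PG, aeval_PG, aeval_PG, map_add, aeval_X, aeval_X]
  constructor
  · rw [key]
    show (Polynomial.aeval (X 1 + X 0) f * Polynomial.aeval (X 1) g * Polynomial.aeval (X 0) g :
      MvPolynomial (Fin 2) R) = cob f g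
    unfold cob
    rw [add_comm (X 1 : MvPolynomial (Fin 2) R) (X 0)]
    ring
  · rw [key, key, key, key]
    show ((Polynomial.aeval (X 1 + X 2) f * Polynomial.aeval (X 1) g * Polynomial.aeval (X 2) g)
      * (Polynomial.aeval (X 0 + (X 1 + X 2)) f * Polynomial.aeval (X 0) g
          * Polynomial.aeval (X 1 + X 2) g) : MvPolynomial (Fin 3) R)
      = (Polynomial.aeval (X 0 + X 1 + X 2) f * Polynomial.aeval (X 0 + X 1) g
          * Polynomial.aeval (X 2) g)
      * (Polynomial.aeval (X 0 + X 1) f * Polynomial.aeval (X 0) g * Polynomial.aeval (X 1) g)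
    have h12 := hPQ (X 1 + X 2 : MvPolynomial (Fin 3) R)
    have h01 := hPQ (X 0 + X 1 : MvPolynomial (Fin 3) R)
    rw [add_assoc (X 0 : MvPolynomial (Fin 3) R) (X 1) (X 2)]
    linear_combination
      (Polynomial.aeval (X 0 + (X 1 + X 2) : MvPolynomial (Fin 3) R) f
        * Polynomial.aeval (X 0 : MvPolynomial (Fin 3) R) g
        * Polynomial.aeval (X 1 : MvPolynomial (Fin 3) R) g
        * Polynomial.aeval (X 2 : MvPolynomial (Fin 3) R) g) * h12
      - (Polynomial.aeval (X 0 + (X 1 + X 2) : MvPolynomial (Fin 3) R) f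
        * Polynomial.aeval (X 0 : MvPolynomial (Fin 3) R) g
        * Polynomial.aeval (X 1 : MvPolynomial (Fin 3) R) g
        * Polynomial.aeval (X 2 : MvPolynomial (Fin 3) R) g) * h01

lemma isCoc_mul {h h' : MvPolynomial (Fin 2) R} (hh : IsCoc h) (hh' : IsCoc h') :
    IsCoc (h * h') := by
  obtain ⟨hs, hc⟩ := hh
  obtain ⟨hs', hc'⟩ := hh'
  refine ⟨by rw [map_mul, hs, hs'], ?_⟩
  rw [map_mul, map_mul, map_mul, map_mul]
  linear_combination
    (aeval ![(X 1 : MvPolynomial (Fin 3) R), X 2] h' * aeval ![X 0, X 1 + X 2] h') * hc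
    + (aeval ![X 0 + X 1, X 2] h * aeval ![X 0, X 1] h) * hc'

lemma aeval_mem_mapC {σ τ : Type*} (φ : MvPolynomial σ R →ₐ[R] MvPolynomial τ R) (J : Ideal R)
    {x : MvPolynomial σ R} (hx : x ∈ Ideal.map (C : R →+* MvPolynomial σ R) J) :
    φ x ∈ Ideal.map (C : R →+* MvPolynomial τ R) J := by
  have hle : Ideal.map (C : R →+* MvPolynomial σ R) J
      ≤ Ideal.comap φ (Ideal.map (C : R →+* MvPolynomial τ R) J) := by
    rw [Ideal.map_le_iff_le_comap]
    intro r hr
    rw [Ideal.mem_comap, Ideal.mem_comap, algHom_C, algebraMap_eq]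
    exact Ideal.mem_map_of_mem _ hr
  exact hle hx

lemma paeval_mem_mapC {τ : Type*} (q : MvPolynomial τ R) (J : Ideal R) {x : Polynomial R}
    (hx : x ∈ Ideal.map (Polynomial.C : R →+* Polynomial R) J) :
    Polynomial.aeval q x ∈ Ideal.map (C : R →+* MvPolynomial τ R) J := by
  have hle : Ideal.map (Polynomial.C : R →+* Polynomial R) J
      ≤ Ideal.comap (Polynomial.aeval q : Polynomial R →ₐ[R] MvPolynomial τ R)
          (Ideal.map (C : R →+* MvPolynomial τ R) J) := by
    rw [Ideal.map_le_iff_le_comap]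
    intro r hr
    rw [Ideal.mem_comap, Ideal.mem_comap, Polynomial.aeval_C, algebraMap_eq]
    exact Ideal.mem_map_of_mem _ hr
  exact hle hx

lemma mapC_mul_le {σ : Type*} (J J' J'' : Ideal R) (h : J * J' ≤ J'') :
    Ideal.map (C : R →+* MvPolynomial σ R) J * Ideal.map (C : R →+* MvPolynomial σ R) J'
      ≤ Ideal.map (C : R →+* MvPolynomial σ R) J'' := by
  rw [← Ideal.map_mul]
  exact Ideal.map_mono h

lemma prodcong {B : Type*} [CommRing B] (𝔞 𝔠 : Ideal B) (h𝔞𝔠 : 𝔞 * 𝔞 ≤ 𝔠) {κ : Type*}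
    (s : Finset κ) (c b : κ → B) (hb : ∀ e ∈ s, b e ∈ 𝔞) (hc : ∀ e ∈ s, c e - (1 + b e) ∈ 𝔠) :
    (∏ e ∈ s, c e) - (1 + ∑ e ∈ s, b e) ∈ 𝔠 := by
  classical
  induction s using Finset.induction_on with
  | empty => simp
  | insert e s he ih =>
    rw [Finset.prod_insert he, Finset.sum_insert he]
    have ih' := ih (fun e' h' => hb e' (Finset.mem_insert_of_mem h'))
      (fun e' h' => hc e' (Finset.mem_insert_of_mem h'))
    have hbe := hb e (Finset.mem_insert_self e s)
    have hce := hc e (Finset.mem_insert_self e s)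
    have hSum : ∑ e' ∈ s, b e' ∈ 𝔞 :=
      Ideal.sum_mem _ (fun e' h' => hb e' (Finset.mem_insert_of_mem h'))
    have hbS : b e * ∑ e' ∈ s, b e' ∈ 𝔠 := h𝔞𝔠 (Ideal.mul_mem_mul hbe hSum)
    have : c e * ∏ e' ∈ s, c e' - (1 + (b e + ∑ e' ∈ s, b e'))
        = c e * (∏ e' ∈ s, c e' - (1 + ∑ e' ∈ s, b e'))
          + (c e - (1 + b e)) * (1 + ∑ e' ∈ s, b e') + b e * ∑ e' ∈ s, b e' := by ring
    rw [this]
    exact 𝔠.add_mem (𝔠.add_mem (𝔠.mul_mem_left _ ih') (𝔠.mul_mem_right _ hce)) hbS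

end CocBasics

section StepSec
variable {R : Type u} [CommRing R] (p : ℕ) [hp : Fact p.Prime] [CharP R p]

structure WF (I : ℚ → Ideal R) : Prop where
  anti : ∀ {w w' : ℚ}, w ≤ w' → I w' ≤ I w
  mul : ∀ w w', I w * I w' ≤ I (w + w')
  root : ∀ w x, x ∈ I w → ∃ y ∈ I (w / p), y ^ p = x
  nil : ∀ w, 0 < w → ∀ x ∈ I w, IsNilpotent x
  powmem : ∀ w x (n : ℕ), x ∈ I w → x ^ (n + 1) ∈ I (((n + 1 : ℕ) : ℚ) * w)

lemma WF.root_iter {I : ℚ → Ideal R} (hI : WF p I) (k : ℕ) : ∀ (w : ℚ) (x : R), x ∈ I w →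
    ∃ y ∈ I (w / (p : ℚ) ^ k), y ^ (p ^ k) = x := by
  induction k with
  | zero =>
    intro w x hx
    exact ⟨x, by simpa using hx, by simp⟩
  | succ k ih =>
    intro w x hx
    obtain ⟨y, hy, hyx⟩ := ih w x hx
    obtain ⟨z, hz, hzy⟩ := hI.root _ y hy
    refine ⟨z, ?_, ?_⟩
    · rw [pow_succ, ← div_div]; exact hz
    · rw [pow_succ', pow_mul, hzy, hyx]

lemma SB_smul {B : Type*} [CommRing B] (c u v : B) : SB p (c * u) (c * v) = c ^ p * SB p u v := by
  unfold SB
  rw [Finset.mul_sum]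
  refine Finset.sum_congr rfl fun t ht => ?_
  rw [Finset.mem_Ioo] at ht
  have : c ^ p = c ^ t * c ^ (p - t) := by
    rw [← pow_add]
    congr 1
    omega
  rw [this, mul_pow, mul_pow]
  ring

lemma lazardMod (𝔟₀ J : Ideal R) (hJnil : ∀ x ∈ J, IsNilpotent x)
    (n : MvPolynomial (Fin 2) R) (hn : ∀ m, coeff m n ∈ 𝔟₀)
    (hsym : aeval ![(X 1 : MvPolynomial (Fin 2) R), X 0] n = n)
    (hδ : aeval ![(X 0 : MvPolynomial (Fin 3) R), X 1 + X 2] n + aeval ![X 1, X 2] n
        - aeval ![X 0 + X 1, X 2] n - aeval ![X 0, X 1] n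
        ∈ Ideal.map (C : R →+* MvPolynomial (Fin 3) R) J) :
    ∃ (G : Polynomial R) (N : ℕ) (r : ℕ → R), (∀ k, G.coeff k ∈ 𝔟₀) ∧ (∀ e, r e ∈ 𝔟₀) ∧
      n - (Polynomial.aeval (X 0 + X 1 : MvPolynomial (Fin 2) R) G
            - Polynomial.aeval (X 0 : MvPolynomial (Fin 2) R) G
            - Polynomial.aeval (X 1 : MvPolynomial (Fin 2) R) G
          + ∑ e ∈ Finset.range N, C (r e) * SB p (X 0 ^ p ^ e) (X 1 ^ p ^ e))
        ∈ Ideal.map (C : R →+* MvPolynomial (Fin 2) R) J := by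
  classical
  haveI : CharP (R ⧸ J) p := CharP.quotient' p J (by
    intro x hx
    by_cases hpx : p ∣ x
    · exact (CharP.cast_eq_zero_iff R p x).mpr hpx
    · obtain ⟨u, hu⟩ := exists_inv_of_not_dvd (R := R) p hpx
      obtain ⟨N, hN⟩ := hJnil _ hx
      have h1 : (1 : R) = 0 := by
        calc (1 : R) = (u * (x : R)) ^ N := by rw [hu, one_pow]
          _ = u ^ N * (x : R) ^ N := mul_pow _ _ _
          _ = 0 := by rw [hN, mul_zero]
      rw [← mul_one (x : R), h1, mul_zero])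
  have hs : ∀ i j, coeff (m2 i j) n = coeff (m2 j i) n := by
    intro i j
    have h := congrArg (coeff (m2 i j)) hsym
    rw [coeff_ae_swap] at h
    exact h.symm
  have hstar : ∀ i j k, coeff (m2 i (j + k)) n * ((j + k).choose j : R)
      + coeff (m2 j k) n * (if i = 0 then (1 : R) else 0)
      - coeff (m2 (i + j) k) n * ((i + j).choose i : R)
      - coeff (m2 i j) n * (if k = 0 then (1 : R) else 0) ∈ J := by
    intro i j k
    have h := (MvPolynomial.mem_map_C_iff.mp hδ) (m3 i j k)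
    rw [coeff_sub, coeff_sub, coeff_add, coeff_ae1, coeff_ae2, coeff_ae3, coeff_ae4] at h
    exact h
  obtain ⟨D, hD⟩ : ∃ D, ∀ i j, D < i + j → coeff (m2 i j) n = 0 := by
    refine ⟨n.support.sup (fun m => m 0 + m 1), ?_⟩
    intro i j hlt
    by_contra hne
    have hmem : m2 i j ∈ n.support := mem_support_iff.mpr hne
    have := Finset.le_sup (f := fun m : Fin 2 →₀ ℕ => m 0 + m 1) hmem
    rw [m2_apply0, m2_apply1] at this
    omega
  obtain ⟨a, ha⟩ : ∃ a : ℕ → ℕ → R ⧸ J,
      ∀ i j, a i j = (Ideal.Quotient.mk J) (coeff (m2 i j) n) := ⟨_, fun _ _ => rfl⟩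
  have has : ∀ i j, a i j = a j i := by
    intro i j
    rw [ha, ha, hs i j]
  have hastar : ∀ i j k, a i (j + k) * ((j + k).choose j : R ⧸ J)
      + a j k * (if i = 0 then (1 : R ⧸ J) else 0)
      - a (i + j) k * ((i + j).choose i : R ⧸ J)
      - a i j * (if k = 0 then (1 : R ⧸ J) else 0) = 0 := by
    intro i j k
    have h := Ideal.Quotient.eq_zero_iff_mem.mpr (hstar i j k)
    simp only [map_sub, map_add, map_mul, map_natCast, apply_ite (Ideal.Quotient.mk J), map_one,
      map_zero] at h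
    rw [ha, ha, ha, ha]
    exact h
  have haD : ∀ i j, D < i + j → a i j = 0 := by
    intro i j hij
    rw [ha, hD i j hij, map_zero]
  have ha𝔟 : ∀ i j, a i j ∈ Ideal.map (Ideal.Quotient.mk J) 𝔟₀ := by
    intro i j
    rw [ha]
    exact Ideal.mem_map_of_mem _ (hn _)
  obtain ⟨γb, rb, hγb, hrb, hγbD, hform⟩ :=
    lazardCoeff (R := R ⧸ J) p a has hastar D haD _ ha𝔟
  have hγlift : ∀ k, ∃ x ∈ 𝔟₀, (Ideal.Quotient.mk J) x = γb k := fun k =>
    (Ideal.mem_map_iff_of_surjective _ Ideal.Quotient.mk_surjective).mp (hγb k)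
  have hrlift : ∀ e, ∃ x ∈ 𝔟₀, (Ideal.Quotient.mk J) x = rb e := fun e =>
    (Ideal.mem_map_iff_of_surjective _ Ideal.Quotient.mk_surjective).mp (hrb e)
  choose γ hγ𝔟 hγmk using hγlift
  choose r hr𝔟 hrmk using hrlift
  obtain ⟨G, hGc⟩ : ∃ G : Polynomial R, ∀ k, G.coeff k = if k ≤ D then γ k else 0 := by
    refine ⟨∑ k ∈ Finset.range (D + 1), Polynomial.monomial k (γ k), ?_⟩
    intro k
    rw [Polynomial.finsetSum_coeff]
    simp only [Polynomial.coeff_monomial]
    rw [Finset.sum_ite_eq']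
    simp only [Finset.mem_range, Nat.lt_succ_iff]
  have hGmk : ∀ k, (Ideal.Quotient.mk J) (G.coeff k) = γb k := by
    intro k
    rw [hGc]
    by_cases hk : k ≤ D
    · rw [if_pos hk, hγmk]
    · rw [if_neg hk, map_zero, hγbD k (by omega)]
  refine ⟨G, D + 1, r, ?_, hr𝔟, ?_⟩
  · intro k
    rw [hGc]
    split_ifs
    · exact hγ𝔟 k
    · exact 𝔟₀.zero_mem
  · rw [MvPolynomial.mem_map_C_iff]
    intro m
    obtain ⟨i, j, rfl⟩ : ∃ i j, m = m2 i j := ⟨m 0, m 1, (m2_eta m).symm⟩
    have hSpart : coeff (m2 i j) (∑ e ∈ Finset.range (D + 1),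
        C (r e) * SB p (X 0 ^ p ^ e) (X 1 ^ p ^ e) : MvPolynomial (Fin 2) R)
        = ∑ e ∈ Finset.range (D + 1), r e * innerS p e i j := by
      rw [coeff_sum]
      exact Finset.sum_congr rfl fun e _ => coeff_SBterm p (r e) (p ^ e) i j
    rw [coeff_sub, coeff_add, coeff_sub, coeff_sub, coeff_T1, coeff_T2, coeff_T3, hSpart,
      ← Ideal.Quotient.eq_zero_iff_mem]
    have hinner : ∀ e, (Ideal.Quotient.mk J) (innerS (R := R) p e i j)
        = innerS (R := R ⧸ J) p e i j := by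
      intro e
      unfold innerS
      rw [map_sum]
      refine Finset.sum_congr rfl fun t _ => ?_
      rw [map_mul, map_natCast, apply_ite (Ideal.Quotient.mk J), map_one, map_zero]
    simp only [map_sub, map_add, map_mul, map_natCast, map_sum,
      apply_ite (Ideal.Quotient.mk J), map_one, map_zero, hGmk, hrmk, hinner]
    rw [sub_eq_zero, ← ha]
    exact hform i j

lemma oneAddG (𝔟₀ J : Ideal R) (h𝔟nil : ∀ x ∈ 𝔟₀, IsNilpotent x) (h𝔟J : 𝔟₀ * 𝔟₀ ≤ J)
    (G : Polynomial R) (hG : ∀ k, G.coeff k ∈ 𝔟₀) :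
    ∃ u' : Polynomial R, (1 + G) * u' = 1 ∧
      cob (1 + G) u' - (1 + (Polynomial.aeval (X 0 + X 1 : MvPolynomial (Fin 2) R) G
            - Polynomial.aeval (X 0 : MvPolynomial (Fin 2) R) G
            - Polynomial.aeval (X 1 : MvPolynomial (Fin 2) R) G))
        ∈ Ideal.map (C : R →+* MvPolynomial (Fin 2) R) J := by
  have hGnil : IsNilpotent G := Polynomial.isNilpotent_iff.mpr (fun k => h𝔟nil _ (hG k))
  obtain ⟨u', hu'⟩ := (hGnil.isUnit_one_add).exists_right_inv
  refine ⟨u', hu', ?_⟩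
  have hGmem : G ∈ Ideal.map (Polynomial.C : R →+* Polynomial R) 𝔟₀ :=
    Ideal.mem_map_C_iff.mpr hG
  obtain ⟨Gp, hGp⟩ : ∃ Gp, Gp = Polynomial.aeval (X 0 + X 1 : MvPolynomial (Fin 2) R) G :=
    ⟨_, rfl⟩
  obtain ⟨G0, hG0⟩ : ∃ G0, G0 = Polynomial.aeval (X 0 : MvPolynomial (Fin 2) R) G := ⟨_, rfl⟩
  obtain ⟨G1, hG1⟩ : ∃ G1, G1 = Polynomial.aeval (X 1 : MvPolynomial (Fin 2) R) G := ⟨_, rfl⟩
  obtain ⟨u0, hu0⟩ : ∃ u0, u0 = Polynomial.aeval (X 0 : MvPolynomial (Fin 2) R) u' := ⟨_, rfl⟩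
  obtain ⟨u1, hu1⟩ : ∃ u1, u1 = Polynomial.aeval (X 1 : MvPolynomial (Fin 2) R) u' := ⟨_, rfl⟩
  have hGpm : Gp ∈ Ideal.map (C : R →+* MvPolynomial (Fin 2) R) 𝔟₀ := by
    rw [hGp]; exact paeval_mem_mapC _ _ hGmem
  have hG0m : G0 ∈ Ideal.map (C : R →+* MvPolynomial (Fin 2) R) 𝔟₀ := by
    rw [hG0]; exact paeval_mem_mapC _ _ hGmem
  have hG1m : G1 ∈ Ideal.map (C : R →+* MvPolynomial (Fin 2) R) 𝔟₀ := by
    rw [hG1]; exact paeval_mem_mapC _ _ hGmem
  have h0 : (1 + G0) * u0 = 1 := by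
    have := congrArg (Polynomial.aeval (X 0 : MvPolynomial (Fin 2) R)) hu'
    simp only [map_mul, map_add, map_one] at this
    rw [hG0, hu0]; exact this
  have h1 : (1 + G1) * u1 = 1 := by
    have := congrArg (Polynomial.aeval (X 1 : MvPolynomial (Fin 2) R)) hu'
    simp only [map_mul, map_add, map_one] at this
    rw [hG1, hu1]; exact this
  have hcob : cob (1 + G) u' = (1 + Gp) * u0 * u1 := by
    unfold cob
    rw [map_add, map_one, hGp, hu0, hu1]
  rw [hcob, ← hGp, ← hG0, ← hG1]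
  have key : (1 + Gp) * u0 * u1 - (1 + (Gp - G0 - G1))
      = u0 * u1 * (-((G0 + G1) * (Gp - G0 - G1) + G0 * G1 * (1 + (Gp - G0 - G1)))) := by
    linear_combination ((1 + (Gp - G0 - G1)) * ((1 + G1) * u1)) * h0
      + (1 + (Gp - G0 - G1)) * h1
  rw [key]
  have hle := mapC_mul_le (σ := Fin 2) _ _ _ h𝔟J
  apply Ideal.mul_mem_left
  apply neg_mem
  apply Ideal.add_mem
  · exact hle (Ideal.mul_mem_mul (Ideal.add_mem _ hG0m hG1m)
      (Ideal.sub_mem _ (Ideal.sub_mem _ hGpm hG0m) hG1m))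
  · exact Ideal.mul_mem_right _ _ (hle (Ideal.mul_mem_mul hG0m hG1m))

lemma eFactor {I : ℚ → Ideal R} (hI : WF p I) (w : ℚ) (hw : 0 < w) (r : R) (hr : r ∈ I w)
    (e : ℕ) :
    ∃ E v : Polynomial R, v * E = 1 ∧
      cob v E - (1 + C r * SB p (X 0 ^ p ^ e) (X 1 ^ p ^ e))
        ∈ Ideal.map (C : R →+* MvPolynomial (Fin 2) R) (I (w + w / p)) := by
  have hppos : (0 : ℚ) < p := Nat.cast_pos.mpr hp.out.pos
  have hp0 : (p : ℚ) ≠ 0 := hppos.ne'
  have hwp : 0 < w / p := div_pos hw hppos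
  obtain ⟨s, hs, hsr⟩ := hI.root_iter p (e + 1) w (-r) ((I w).neg_mem hr)
  obtain ⟨q, hq⟩ : ∃ q, q = p ^ e := ⟨_, rfl⟩
  have hqpos : 0 < q := by rw [hq]; exact pow_pos hp.out.pos e
  have hc : s ^ q ∈ I (w / p) := by
    have := hI.powmem _ s (q - 1) hs
    rw [Nat.sub_add_cancel hqpos] at this
    have e1 : ((q : ℕ) : ℚ) * (w / (p : ℚ) ^ (e + 1)) = w / p := by
      rw [hq, Nat.cast_pow, pow_succ]
      field_simp
    rwa [e1] at this
  have hcp : (s ^ q) ^ p = -r := by
    rw [← pow_mul, hq, ← pow_succ, hsr]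
  obtain ⟨c, hcdef⟩ : ∃ c, c = s ^ q := ⟨_, rfl⟩
  rw [← hcdef] at hc hcp
  rw [← hq]
  -- the polynomial W
  obtain ⟨W, hW⟩ : ∃ W : Polynomial R, W = Polynomial.C c * Polynomial.X ^ q := ⟨_, rfl⟩
  have hWmem : W ∈ Ideal.map (Polynomial.C : R →+* Polynomial R) (I (w / p)) := by
    rw [hW]
    exact Ideal.mul_mem_right _ _ (Ideal.mem_map_of_mem _ hc)
  have hE1 : EB p W - 1 ∈ Ideal.map (Polynomial.C : R →+* Polynomial R) (I (w / p)) :=
    EB_sub_one_mem p W _ hWmem
  have hEnil : IsNilpotent (EB p W - 1) :=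
    Polynomial.isNilpotent_iff.mpr fun k => hI.nil _ hwp _ (Ideal.mem_map_C_iff.mp hE1 k)
  have hEunit : IsUnit (EB p W) := by
    have := hEnil.isUnit_one_add
    rwa [add_sub_cancel] at this
  obtain ⟨v, hv⟩ := hEunit.exists_left_inv
  refine ⟨EB p W, v, hv, ?_⟩
  have hv1 : v - 1 ∈ Ideal.map (Polynomial.C : R →+* Polynomial R) (I (w / p)) := by
    have e1 : v - 1 = v * (-(EB p W - 1)) := by linear_combination hv
    rw [e1]
    exact Ideal.mul_mem_left _ _ (neg_mem hE1)
  -- images of W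
  have hW0 : Polynomial.aeval (X 0 : MvPolynomial (Fin 2) R) W = C c * X 0 ^ q := by
    rw [hW, map_mul, Polynomial.aeval_C, map_pow, Polynomial.aeval_X, algebraMap_eq]
  have hW1 : Polynomial.aeval (X 1 : MvPolynomial (Fin 2) R) W = C c * X 1 ^ q := by
    rw [hW, map_mul, Polynomial.aeval_C, map_pow, Polynomial.aeval_X, algebraMap_eq]
  have hWp : Polynomial.aeval (X 0 + X 1 : MvPolynomial (Fin 2) R) W
      = C c * X 0 ^ q + C c * X 1 ^ q := by
    rw [hW, map_mul, Polynomial.aeval_C, map_pow, Polynomial.aeval_X, algebraMap_eq, hq,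
      add_pow_char_pow, mul_add]
  have hE0 : Polynomial.aeval (X 0 : MvPolynomial (Fin 2) R) (EB p W) = EB p (C c * X 0 ^ q) := by
    rw [← hW0]
    exact map_EB p ((Polynomial.aeval (X 0 : MvPolynomial (Fin 2) R) :
      Polynomial R →ₐ[R] MvPolynomial (Fin 2) R) : Polynomial R →+* MvPolynomial (Fin 2) R) W
  have hE1' : Polynomial.aeval (X 1 : MvPolynomial (Fin 2) R) (EB p W)
      = EB p (C c * X 1 ^ q) := by
    rw [← hW1]
    exact map_EB p ((Polynomial.aeval (X 1 : MvPolynomial (Fin 2) R) :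
      Polynomial R →ₐ[R] MvPolynomial (Fin 2) R) : Polynomial R →+* MvPolynomial (Fin 2) R) W
  have hEp : Polynomial.aeval (X 0 + X 1 : MvPolynomial (Fin 2) R) (EB p W)
      = EB p (C c * X 0 ^ q + C c * X 1 ^ q) := by
    rw [← hWp]
    exact map_EB p ((Polynomial.aeval (X 0 + X 1 : MvPolynomial (Fin 2) R) :
      Polynomial R →ₐ[R] MvPolynomial (Fin 2) R) : Polynomial R →+* MvPolynomial (Fin 2) R) W
  obtain ⟨U, hU⟩ : ∃ U : MvPolynomial (Fin 2) R, U = C c * X 0 ^ q := ⟨_, rfl⟩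
  obtain ⟨V, hV⟩ : ∃ V : MvPolynomial (Fin 2) R, V = C c * X 1 ^ q := ⟨_, rfl⟩
  rw [← hU] at hE0
  rw [← hV] at hE1'
  rw [← hU, ← hV] at hEp
  -- the key membership
  have hkey : EB p U * EB p V - EB p (U + V) + SB p U V
      ∈ Ideal.map (C : R →+* MvPolynomial (Fin 2) R) (I (w + w / p)) := by
    apply EB_key
    intro i j hij
    have e1 : U ^ i * V ^ j = C (c ^ (i + j)) * ((X 0 ^ q) ^ i * (X 1 ^ q) ^ j) := by
      rw [hU, hV, map_pow, pow_add, mul_pow, mul_pow]
      ring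
    rw [e1]
    apply Ideal.mul_mem_right
    apply Ideal.mem_map_of_mem
    have hmem := hI.powmem _ c (i + j - 1) hc
    rw [Nat.sub_add_cancel (by omega : 1 ≤ i + j)] at hmem
    refine hI.anti ?_ hmem
    have h1 : ((p + 1 : ℕ) : ℚ) ≤ ((i + j : ℕ) : ℚ) := by exact_mod_cast hij
    have h2 : w + w / p = ((p + 1 : ℕ) : ℚ) * (w / p) := by
      push_cast
      field_simp
    rw [h2]
    exact mul_le_mul_of_nonneg_right h1 hwp.le
  have hS : SB p U V = -(C r * SB p (X 0 ^ q) (X 1 ^ q)) := by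
    rw [hU, hV, SB_smul, ← map_pow, hcp, map_neg, neg_mul]
  have hPvE : Polynomial.aeval (X 0 + X 1 : MvPolynomial (Fin 2) R) v * EB p (U + V) = 1 := by
    rw [← hEp, ← map_mul, hv, map_one]
  have hcob : cob v (EB p W)
      = Polynomial.aeval (X 0 + X 1 : MvPolynomial (Fin 2) R) v * EB p U * EB p V := by
    unfold cob
    rw [hE0, hE1']
  rw [hcob]
  have key : Polynomial.aeval (X 0 + X 1 : MvPolynomial (Fin 2) R) v * EB p U * EB p V
        - (1 + C r * SB p (X 0 ^ q) (X 1 ^ q))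
      = SB p (X 0 ^ q) (X 1 ^ q)
          * (C r * (Polynomial.aeval (X 0 + X 1 : MvPolynomial (Fin 2) R) v - 1))
        + Polynomial.aeval (X 0 + X 1 : MvPolynomial (Fin 2) R) v
          * (EB p U * EB p V - EB p (U + V) + SB p U V) := by
    linear_combination hPvE
      - (Polynomial.aeval (X 0 + X 1 : MvPolynomial (Fin 2) R) v) * hS
  rw [key]
  apply Ideal.add_mem
  · apply Ideal.mul_mem_left
    have hle := mapC_mul_le (σ := Fin 2) _ _ _ (hI.mul w (w / p))
    apply hle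
    apply Ideal.mul_mem_mul (Ideal.mem_map_of_mem _ hr)
    have := paeval_mem_mapC (X 0 + X 1 : MvPolynomial (Fin 2) R) _ hv1
    rwa [map_sub, map_one] at this
  · exact Ideal.mul_mem_left _ _ hkey

lemma step {I : ℚ → Ideal R} (hI : WF p I) (w : ℚ) (hw : 0 < w) (h : MvPolynomial (Fin 2) R)
    (hcoc : IsCoc h) (hh : h - 1 ∈ Ideal.map (C : R →+* MvPolynomial (Fin 2) R) (I w)) :
    ∃ f₁ g₁ : Polynomial R, f₁ * g₁ = 1 ∧
      h - cob f₁ g₁ ∈ Ideal.map (C : R →+* MvPolynomial (Fin 2) R) (I (w + w / p)) := by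
  classical
  have hppos : (0 : ℚ) < p := Nat.cast_pos.mpr hp.out.pos
  have hp1 : (1 : ℚ) ≤ p := by exact_mod_cast hp.out.one_lt.le
  have hwp : 0 < w / p := div_pos hw hppos
  have hwle : w + w / p ≤ w + w := by
    have : w / p ≤ w := div_le_self hw.le hp1
    linarith
  obtain ⟨n, hn⟩ : ∃ n, n = h - 1 := ⟨_, rfl⟩
  rw [← hn] at hh
  have hsym : aeval ![(X 1 : MvPolynomial (Fin 2) R), X 0] n = n := by
    rw [hn, map_sub, map_one, hcoc.1]
  have hδ : aeval ![(X 0 : MvPolynomial (Fin 3) R), X 1 + X 2] n + aeval ![X 1, X 2] n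
        - aeval ![X 0 + X 1, X 2] n - aeval ![X 0, X 1] n
        ∈ Ideal.map (C : R →+* MvPolynomial (Fin 3) R) (I (w + w)) := by
    have e : aeval ![(X 0 : MvPolynomial (Fin 3) R), X 1 + X 2] n + aeval ![X 1, X 2] n
        - aeval ![X 0 + X 1, X 2] n - aeval ![X 0, X 1] n
        = aeval ![X 0 + X 1, X 2] n * aeval ![X 0, X 1] n
          - aeval ![(X 1 : MvPolynomial (Fin 3) R), X 2] n * aeval ![X 0, X 1 + X 2] n := by
      rw [hn]
      simp only [map_sub, map_one]
      linear_combination hcoc.2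
    rw [e]
    have hle := mapC_mul_le (σ := Fin 3) _ _ _ (hI.mul w w)
    exact Ideal.sub_mem _
      (hle (Ideal.mul_mem_mul (aeval_mem_mapC _ _ hh) (aeval_mem_mapC _ _ hh)))
      (hle (Ideal.mul_mem_mul (aeval_mem_mapC _ _ hh) (aeval_mem_mapC _ _ hh)))
  obtain ⟨G, N, r, hG, hr, hnT⟩ := lazardMod p (I w) (I (w + w))
    (hI.nil _ (by positivity)) n (MvPolynomial.mem_map_C_iff.mp hh) hsym hδ
  obtain ⟨u', hu', huG⟩ := oneAddG (I w) (I (w + w)) (hI.nil w hw) (hI.mul w w) G hG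
  have hE : ∀ e, ∃ E v : Polynomial R, v * E = 1 ∧
      cob v E - (1 + C (r e) * SB p (X 0 ^ p ^ e) (X 1 ^ p ^ e))
        ∈ Ideal.map (C : R →+* MvPolynomial (Fin 2) R) (I (w + w / p)) :=
    fun e => eFactor p hI w hw (r e) (hr e) e
  choose E v hvE hcobE using hE
  refine ⟨(1 + G) * ∏ e ∈ Finset.range N, v e, u' * ∏ e ∈ Finset.range N, E e, ?_, ?_⟩
  · rw [mul_mul_mul_comm, hu', ← Finset.prod_mul_distrib, one_mul]
    exact Finset.prod_eq_one fun e _ => hvE e
  · rw [cob_mul, cob_prod]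
    have hGmem : G ∈ Ideal.map (Polynomial.C : R →+* Polynomial R) (I w) :=
      Ideal.mem_map_C_iff.mpr hG
    obtain ⟨b0, hb0def⟩ : ∃ b0, b0 = Polynomial.aeval (X 0 + X 1 : MvPolynomial (Fin 2) R) G
            - Polynomial.aeval (X 0 : MvPolynomial (Fin 2) R) G
            - Polynomial.aeval (X 1 : MvPolynomial (Fin 2) R) G := ⟨_, rfl⟩
    obtain ⟨bs, hbsdef⟩ : ∃ bs : ℕ → MvPolynomial (Fin 2) R,
        ∀ e, bs e = C (r e) * SB p (X 0 ^ p ^ e) (X 1 ^ p ^ e) := ⟨_, fun _ => rfl⟩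
    have hb0 : b0 ∈ Ideal.map (C : R →+* MvPolynomial (Fin 2) R) (I w) := by
      rw [hb0def]
      exact Ideal.sub_mem _ (Ideal.sub_mem _ (paeval_mem_mapC _ _ hGmem)
        (paeval_mem_mapC _ _ hGmem)) (paeval_mem_mapC _ _ hGmem)
    have hbs : ∀ e, bs e ∈ Ideal.map (C : R →+* MvPolynomial (Fin 2) R) (I w) := by
      intro e
      rw [hbsdef]
      exact Ideal.mul_mem_right _ _ (Ideal.mem_map_of_mem C (hr e))
    have h𝔞𝔠 : Ideal.map (C : R →+* MvPolynomial (Fin 2) R) (I w)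
        * Ideal.map (C : R →+* MvPolynomial (Fin 2) R) (I w)
        ≤ Ideal.map (C : R →+* MvPolynomial (Fin 2) R) (I (w + w / p)) :=
      (mapC_mul_le (σ := Fin 2) _ _ _ (hI.mul w w)).trans (Ideal.map_mono (hI.anti hwle))
    have hc0 : cob (1 + G) u' - (1 + b0)
        ∈ Ideal.map (C : R →+* MvPolynomial (Fin 2) R) (I (w + w / p)) := by
      rw [hb0def]
      exact Ideal.map_mono (hI.anti hwle) huG
    have hP := prodcong _ _ h𝔞𝔠 (Finset.range N) (fun e => cob (v e) (E e)) bs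
      (fun e _ => hbs e) (fun e _ => by rw [hbsdef]; exact hcobE e)
    have hSum : ∑ e ∈ Finset.range N, bs e
        ∈ Ideal.map (C : R →+* MvPolynomial (Fin 2) R) (I w) :=
      Ideal.sum_mem _ fun e _ => hbs e
    have hcomb : cob (1 + G) u' * ∏ e ∈ Finset.range N, cob (v e) (E e)
        - (1 + (b0 + ∑ e ∈ Finset.range N, bs e))
        ∈ Ideal.map (C : R →+* MvPolynomial (Fin 2) R) (I (w + w / p)) := by
      have e1 : cob (1 + G) u' * ∏ e ∈ Finset.range N, cob (v e) (E e)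
          - (1 + (b0 + ∑ e ∈ Finset.range N, bs e))
          = cob (1 + G) u' * (∏ e ∈ Finset.range N, cob (v e) (E e)
              - (1 + ∑ e ∈ Finset.range N, bs e))
            + (cob (1 + G) u' - (1 + b0)) * (1 + ∑ e ∈ Finset.range N, bs e)
            + b0 * ∑ e ∈ Finset.range N, bs e := by ring
      rw [e1]
      exact Ideal.add_mem _ (Ideal.add_mem _ (Ideal.mul_mem_left _ _ hP)
        (Ideal.mul_mem_right _ _ hc0)) (h𝔞𝔠 (Ideal.mul_mem_mul hb0 hSum))
    have hnT' : h - (1 + (b0 + ∑ e ∈ Finset.range N, bs e))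
        ∈ Ideal.map (C : R →+* MvPolynomial (Fin 2) R) (I (w + w / p)) := by
      have e1 : h - (1 + (b0 + ∑ e ∈ Finset.range N, bs e))
          = n - (b0 + ∑ e ∈ Finset.range N, bs e) := by rw [hn]; ring
      rw [e1, hb0def]
      simp only [hbsdef]
      exact Ideal.map_mono (hI.anti hwle) hnT
    have e2 : h - cob (1 + G) u' * ∏ e ∈ Finset.range N, cob (v e) (E e)
        = (h - (1 + (b0 + ∑ e ∈ Finset.range N, bs e)))
          - (cob (1 + G) u' * ∏ e ∈ Finset.range N, cob (v e) (E e)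
            - (1 + (b0 + ∑ e ∈ Finset.range N, bs e))) := by ring
    rw [e2]
    exact Ideal.sub_mem _ hnT' hcomb

lemma mainInd {I : ℚ → Ideal R} (hI : WF p I) (B : ℚ) (hB : ∀ w, B ≤ w → I w = ⊥) :
    ∀ k : ℕ, ∀ w : ℚ, 0 < w → B ≤ w * (1 + 1 / (p : ℚ)) ^ k → ∀ h : MvPolynomial (Fin 2) R,
      IsCoc h → h - 1 ∈ Ideal.map (C : R →+* MvPolynomial (Fin 2) R) (I w) →
      ∃ f g : Polynomial R, f * g = 1 ∧
        Polynomial.aeval (X 0 + X 1 : MvPolynomial (Fin 2) R) f
          = Polynomial.aeval (X 0 : MvPolynomial (Fin 2) R) f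
            * Polynomial.aeval (X 1 : MvPolynomial (Fin 2) R) f * h := by
  have hppos : (0 : ℚ) < p := Nat.cast_pos.mpr hp.out.pos
  intro k
  induction k with
  | zero =>
    intro w hw hBw h hcoc hh
    rw [pow_zero, mul_one] at hBw
    rw [hB w hBw, Ideal.map_bot, Ideal.mem_bot, sub_eq_zero] at hh
    refine ⟨1, 1, one_mul 1, ?_⟩
    rw [hh, map_one, map_one, map_one, one_mul, one_mul]
  | succ k ih =>
    intro w hw hBw h hcoc hh
    obtain ⟨f₁, g₁, hfg₁, hcong⟩ := step p hI w hw h hcoc hh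
    have hw' : 0 < w + w / p := by positivity
    have hBw' : B ≤ (w + w / p) * (1 + 1 / (p : ℚ)) ^ k := by
      have e1 : (w + w / p) = w * (1 + 1 / (p : ℚ)) := by ring
      rw [e1, mul_assoc, ← pow_succ']
      exact hBw
    have hgf₁ : g₁ * f₁ = 1 := by rw [mul_comm]; exact hfg₁
    have hcoc' : IsCoc (h * cob g₁ f₁) := isCoc_mul hcoc (cob_isCoc g₁ f₁ hgf₁)
    have hh' : h * cob g₁ f₁ - 1
        ∈ Ideal.map (C : R →+* MvPolynomial (Fin 2) R) (I (w + w / p)) := by
      have hinv := cob_mul_inv f₁ g₁ hfg₁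
      have e1 : h * cob g₁ f₁ - 1 = (h - cob f₁ g₁) * cob g₁ f₁ := by
        linear_combination hinv
      rw [e1]
      exact Ideal.mul_mem_right _ _ hcong
    obtain ⟨f', g', hfg', heq⟩ := ih (w + w / p) hw' hBw' _ hcoc' hh'
    refine ⟨f' * f₁, g' * g₁, ?_, ?_⟩
    · rw [mul_mul_mul_comm, hfg', hfg₁, one_mul]
    · rw [map_mul, map_mul, map_mul, heq]
      unfold cob
      have h1 : Polynomial.aeval (X 0 + X 1 : MvPolynomial (Fin 2) R) g₁
          * Polynomial.aeval (X 0 + X 1 : MvPolynomial (Fin 2) R) f₁ = 1 := by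
        rw [← map_mul, hgf₁, map_one]
      linear_combination (Polynomial.aeval (X 0 : MvPolynomial (Fin 2) R) f'
        * Polynomial.aeval (X 1 : MvPolynomial (Fin 2) R) f' * h
        * Polynomial.aeval (X 0 : MvPolynomial (Fin 2) R) f₁
        * Polynomial.aeval (X 1 : MvPolynomial (Fin 2) R) f₁) * h1

end StepSec


/-- Over a commutative ring R of prime characteristic p whose Frobenius is surjective, every commutative
extension of the additive group by the multiplicative group that has a scheme-theoretic section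
splits. In the coordinates given by such a section the extension is the product G_m × G_a with law
(t,x)(t',x') = (tt'h(x,x'), x+x') for an invertible polynomial h with h(X,0) = 1, h symmetric and
h(Y,Z)h(X,Y+Z) = h(X+Y,Z)h(X,Y), and a group-theoretic section is an invertible polynomial f with
f(X+Y) = f(X)f(Y)h(X,Y); the row states the existence of such f for every such h. -/
theorem result (p : ℕ) [Fact p.Prime] (R : Type u)
    [CommRing R] [CharP R p] (hF : Function.Surjective (frobenius R p))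
    (h : MvPolynomial (Fin 2) R) (hu : IsUnit h)
    (h0 : MvPolynomial.aeval ![(MvPolynomial.X 0 : MvPolynomial (Fin 2) R), 0] h = 1)
    (hsymm : MvPolynomial.aeval ![(MvPolynomial.X 1 : MvPolynomial (Fin 2) R), MvPolynomial.X 0] h = h)
    (hcoc : MvPolynomial.aeval ![(MvPolynomial.X 1 : MvPolynomial (Fin 3) R), MvPolynomial.X 2] h *
        MvPolynomial.aeval ![MvPolynomial.X 0, MvPolynomial.X 1 + MvPolynomial.X 2] h =
      MvPolynomial.aeval ![MvPolynomial.X 0 + MvPolynomial.X 1, MvPolynomial.X 2] h *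
        MvPolynomial.aeval ![MvPolynomial.X 0, MvPolynomial.X 1] h) :
    ∃ f : Polynomial R, IsUnit f ∧
      Polynomial.aeval (MvPolynomial.X 0 + MvPolynomial.X 1 : MvPolynomial (Fin 2) R) f =
        Polynomial.aeval (MvPolynomial.X 0 : MvPolynomial (Fin 2) R) f *
          Polynomial.aeval (MvPolynomial.X 1 : MvPolynomial (Fin 2) R) f * h := by
  classical
  -- constant coefficient of h is 1
  have hc0 : MvPolynomial.coeff (m2 0 0) h = 1 := by
    have hh := congrArg (MvPolynomial.coeff (m2 0 0)) h0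
    rw [coeff_aeval2] at hh
    have hf : ∀ m : Fin 2 →₀ ℕ, MvPolynomial.coeff (m2 0 0)
        ((MvPolynomial.X 0 : MvPolynomial (Fin 2) R) ^ m 0 * 0 ^ m 1)
        = if m 0 = 0 ∧ m 1 = 0 then (1 : R) else 0 := by
      intro m
      by_cases h1 : m 1 = 0
      · rw [h1, pow_zero, mul_one, coeff_X0_pow]
        by_cases h00 : m 0 = 0
        · rw [if_pos h00, if_pos rfl, if_pos ⟨h00, rfl⟩]
        · rw [if_neg h00, if_neg (fun h => h00 h.1)]
      · rw [zero_pow h1, mul_zero, MvPolynomial.coeff_zero, if_neg (fun h => h1 h.2)]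
    have hsum := sum_collapse h 0 0 (1 : R)
      (fun m => MvPolynomial.coeff (m2 0 0)
        ((MvPolynomial.X 0 : MvPolynomial (Fin 2) R) ^ m 0 * 0 ^ m 1)) hf
    have h2 : MvPolynomial.coeff (m2 0 0) h * 1
        = MvPolynomial.coeff (m2 0 0) (1 : MvPolynomial (Fin 2) R) := hsum.symm.trans hh
    have hm0 : m2 0 0 = (0 : Fin 2 →₀ ℕ) := m2_eta 0
    rw [mul_one, MvPolynomial.coeff_one, if_pos hm0.symm] at h2
    exact h2
  have hm0 : m2 0 0 = (0 : Fin 2 →₀ ℕ) := m2_eta 0
  have hnilc : ∀ m, IsNilpotent (MvPolynomial.coeff m (h - 1)) := by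
    intro m
    rw [MvPolynomial.coeff_sub, MvPolynomial.coeff_one]
    by_cases hm : m = 0
    · subst hm
      rw [if_pos rfl, ← hm0, hc0, sub_self]
      exact IsNilpotent.zero
    · rw [if_neg (Ne.symm hm), sub_zero]
      exact (MvPolynomial.isUnit_iff.mp hu).2 m hm
  obtain ⟨n, hn⟩ : ∃ n, n = h - 1 := ⟨_, rfl⟩
  rw [← hn] at hnilc
  obtain ⟨M, hM⟩ : ∃ M, ∀ m : {m // m ∈ n.support}, (MvPolynomial.coeff m.1 n) ^ M = 0 := by
    have hcn : ∀ m : {m // m ∈ n.support}, ∃ N, (MvPolynomial.coeff m.1 n) ^ N = 0 :=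
      fun m => hnilc m.1
    choose N hN using hcn
    exact ⟨Finset.univ.sup N,
      fun m => pow_eq_zero_of_le (Finset.le_sup (Finset.mem_univ m)) (hN m)⟩
  obtain ⟨a, hadef⟩ : ∃ a : {m // m ∈ n.support} → ℕ → R,
      ∀ m k, a m k = rootSeq p hF (MvPolynomial.coeff m.1 n) k := ⟨_, fun _ _ => rfl⟩
  have ha : ∀ m k, (a m (k + 1)) ^ p = a m k := by
    intro m k
    rw [hadef, hadef]
    exact rootSeq_succ_pow p hF _ k
  have ha0 : ∀ m, a m 0 = MvPolynomial.coeff m.1 n := by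
    intro m
    rw [hadef]
    rfl
  have hM' : ∀ m, (a m 0) ^ M = 0 := by
    intro m
    rw [ha0]
    exact hM m
  have hWF : WF p (Filt p a) :=
    { anti := fun hle => Filt_anti p a hle
      mul := Filt_mul p a ha
      root := Filt_root p a hF ha
      nil := by
        intro w hw x hx
        obtain ⟨N, hN⟩ := exists_nat_gt ((Fintype.card {m // m ∈ n.support} : ℚ) * M / w)
        refine ⟨N + 1, ?_⟩
        have hmem := Filt_pow_mem p a ha hx N
        have hlt : (Fintype.card {m // m ∈ n.support} : ℚ) * M < ((N + 1 : ℕ) : ℚ) * w := by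
          rw [div_lt_iff₀ hw] at hN
          have e1 : ((N + 1 : ℕ) : ℚ) * w = N * w + w := by push_cast; ring
          rw [e1]
          linarith
        rw [Filt_vanish p a ha M hM' _ hlt] at hmem
        exact hmem
      powmem := fun w x k hx => Filt_pow_mem p a ha hx k }
  have hB : ∀ w, ((Fintype.card {m // m ∈ n.support} : ℚ) * M + 1) ≤ w → Filt p a w = ⊥ := by
    intro w hw
    exact Filt_vanish p a ha M hM' w (by linarith)
  have hh : h - 1 ∈ Ideal.map (MvPolynomial.C : R →+* MvPolynomial (Fin 2) R) (Filt p a 1) := by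
    rw [← hn, MvPolynomial.mem_map_C_iff]
    intro m
    by_cases hm : m ∈ n.support
    · have := Filt_mem_one p a ⟨m, hm⟩
      rw [ha0] at this
      exact this
    · rw [MvPolynomial.notMem_support_iff.mp hm]
      exact Ideal.zero_mem _
  have hlt1 : (1 : ℚ) < 1 + 1 / (p : ℚ) := by
    have : (0 : ℚ) < 1 / (p : ℚ) := by
      apply div_pos one_pos
      exact_mod_cast (Fact.out : p.Prime).pos
    linarith
  obtain ⟨k, hk⟩ := pow_unbounded_of_one_lt
    ((Fintype.card {m // m ∈ n.support} : ℚ) * M + 1) hlt1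
  obtain ⟨f, g, hfg, heq⟩ := mainInd p hWF _ hB k 1 one_pos (by rw [one_mul]; exact hk.le) h
    ⟨hsymm, hcoc⟩ hh
  exact ⟨f, IsUnit.of_mul_eq_one g hfg, heq⟩


end Groth.Agent.S13380
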