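-- Statement S13389: ZeroCyc.span_dp_eq_gammaPiece_of_vandermondeRing_algebra
import Groth.Statements.S13389
import Mathlib

set_option autoImplicit false
universe u
open ZeroCyc

namespace Groth.Agent.S13389

open DividedPowerAlgebra

section aux

variable {A M : Type u} [CommRing A] [AddCommGroup M] [Module A M]

/-- two-variable claim: with an invertible Vandermonde matrix, mixed products of divided powers
of total degree `e` lie in the span of the `e`-th divided powers. -/
lemma dp_mul_dp_mem (t : A) (e : ℕ)
    (hV : IsUnit (Matrix.vandermonde (fun l : Fin (e + 1) => t ^ (l : ℕ))).det) (x y : M)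
    (j : Fin (e + 1)) :
    dp A (j : ℕ) y * dp A (e - j) x ∈
      Submodule.span A (Set.range (dp A e : M → DividedPowerAlgebra A M)) := by
  set V := Matrix.vandermonde (fun l : Fin (e + 1) => t ^ (l : ℕ)) with hVdef
  set w : Fin (e + 1) → DividedPowerAlgebra A M := fun j => dp A (j : ℕ) y * dp A (e - j) x with hw
  have hu : ∀ l : Fin (e + 1), ∑ j, V l j • w j ∈
      Submodule.span A (Set.range (dp A e : M → DividedPowerAlgebra A M)) := by
    intro l
    have : dp A e ((t ^ (l : ℕ)) • y + x) = ∑ j, V l j • w j := by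
      rw [dp_add, Finset.Nat.sum_antidiagonal_eq_sum_range_succ_mk, Finset.sum_range]
      refine Finset.sum_congr rfl fun j _ => ?_
      simp only [hw, hVdef, Matrix.vandermonde_apply]
      rw [dp_smul, smul_mul_assoc]
    rw [← this]
    exact Submodule.subset_span ⟨_, rfl⟩
  have hwj : w j = ∑ l, V⁻¹ j l • ∑ j', V l j' • w j' := by
    simp_rw [Finset.smul_sum, smul_smul]
    rw [Finset.sum_comm]
    simp_rw [← Finset.sum_smul, ← Matrix.mul_apply, Matrix.nonsing_inv_mul _ hV, Matrix.one_apply]
    simp
  change w j ∈ _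
  rw [hwj]
  exact Submodule.sum_mem _ fun l _ => Submodule.smul_mem _ _ (hu l)

lemma prod_mem (t : A) (d : ℕ)
    (hV : ∀ e ≤ d, IsUnit (Matrix.vandermonde (fun l : Fin (e + 1) => t ^ (l : ℕ))).det) :
    ∀ (n : ℕ) (k : Fin n → ℕ) (m : Fin n → M), ∑ i, k i ≤ d →
      ∏ i, dp A (k i) (m i) ∈
        Submodule.span A (Set.range (dp A (∑ i, k i) : M → DividedPowerAlgebra A M)) := by
  intro n
  induction n with
  | zero =>
    intro k m _
    simp only [Finset.univ_eq_empty, Finset.prod_empty, Finset.sum_empty]
    exact Submodule.subset_span ⟨0, dp_zero⟩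
  | succ n ih =>
    intro k m hk
    rw [Fin.prod_univ_succ, Fin.sum_univ_succ]
    rw [Fin.sum_univ_succ] at hk
    have ih' := ih (fun i => k i.succ) (fun i => m i.succ) (le_trans (Nat.le_add_left _ _) hk)
    set e' := ∑ i : Fin n, k i.succ with he'
    have key : ∀ z : DividedPowerAlgebra A M,
        z ∈ Submodule.span A (Set.range (dp A e' : M → DividedPowerAlgebra A M)) →
        dp A (k 0) (m 0) * z ∈
          Submodule.span A (Set.range (dp A (k 0 + e') : M → DividedPowerAlgebra A M)) := by
      intro z hz
      induction hz using Submodule.span_induction with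
      | mem z hz =>
        obtain ⟨y, rfl⟩ := hz
        have := dp_mul_dp_mem t (k 0 + e') (hV _ hk) y (m 0) ⟨k 0, by omega⟩
        simpa using this
      | zero => simp
      | add z z' _ _ hz hz' => rw [mul_add]; exact Submodule.add_mem _ hz hz'
      | smul a z _ hz => rw [mul_smul_comm]; exact Submodule.smul_mem _ _ hz
    exact key _ ih'

end aux

open Polynomial in
/-- Let P_d(T) = ∏_{0 ≤ i < j ≤ d} (T^i − T^j) − 1 ∈ ℤ[T]. If A is an algebra over ℤ[T]/(P_d), i.e.
receives a ring homomorphism from it, then for every A-module M the degree-d piece Γ^d_A(M) of the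
divided power algebra Γ_A(M) is spanned over A by the d-th divided powers γ_d(m), m ∈ M. (The
published statement adds that consequently every ring has a finite faithfully flat extension,
independent of M, over which this holds; that clause is not restated.) -/
theorem result {A M : Type u} [CommRing A] [AddCommGroup M]
    [Module A M] (d : ℕ)
    (φ : (ℤ[X] ⧸ Ideal.span {(∏ j ∈ Finset.range (d + 1), ∏ i ∈ Finset.range j,
        ((X : ℤ[X]) ^ i - X ^ j)) - 1}) →+* A) :
    Submodule.span A (Set.range (DividedPowerAlgebra.dp A d : M → DividedPowerAlgebra A M)) =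
      PolLaw.gammaPiece A M d := by
  set P : ℤ[X] := ∏ j ∈ Finset.range (d + 1), ∏ i ∈ Finset.range j, ((X : ℤ[X]) ^ i - X ^ j) with hP
  set ψ : ℤ[X] →+* A := φ.comp (Ideal.Quotient.mk _) with hψ
  set t : A := ψ X with ht
  have h1 : ψ P = 1 := by
    have : ψ (P - 1) = 0 := by
      rw [hψ, RingHom.comp_apply]
      rw [Ideal.Quotient.eq_zero_iff_mem.mpr (Ideal.subset_span (Set.mem_singleton _)), map_zero]
    rwa [map_sub, map_one, sub_eq_zero] at this
  have h2 : ∏ j ∈ Finset.range (d + 1), ∏ i ∈ Finset.range j, (t ^ i - t ^ j) = 1 := by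
    rw [← h1, hP]
    simp only [map_prod, map_sub, map_pow, ht]
  have hunit : ∀ i j : ℕ, i < j → j ≤ d → IsUnit (t ^ i - t ^ j) := by
    intro i j hij hjd
    have : IsUnit (∏ j ∈ Finset.range (d + 1), ∏ i ∈ Finset.range j, (t ^ i - t ^ j)) := by
      rw [h2]; exact isUnit_one
    rw [IsUnit.prod_iff] at this
    have := this j (Finset.mem_range.mpr (by omega))
    rw [IsUnit.prod_iff] at this
    exact this i (Finset.mem_range.mpr hij)
  have hV : ∀ e ≤ d, IsUnit (Matrix.vandermonde (fun l : Fin (e + 1) => t ^ (l : ℕ))).det := by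
    intro e he
    rw [Matrix.det_vandermonde, IsUnit.prod_univ_iff]
    intro i
    rw [IsUnit.prod_iff]
    intro j hj
    have hij : (i : ℕ) < j := by simpa using hj
    have := (hunit i j hij (by omega)).neg
    simpa using this
  apply le_antisymm
  · apply Submodule.span_mono
    rintro _ ⟨m, rfl⟩
    exact ⟨1, fun _ => d, fun _ => m, by simp, by simp⟩
  · unfold PolLaw.gammaPiece
    rw [Submodule.span_le]
    rintro _ ⟨n, k, m, hk, rfl⟩
    have := prod_mem (M := M) t d hV n k m hk.le
    rwa [hk] at this

end Groth.Agent.S13389
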