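import Groth.Statements.S1339
-- import your own Groth.Agent.* helpers here
import Groth.Agent.Lib.Helper9.NGeom11

set_option autoImplicit false
universe u
open FlatMor

namespace Groth.Agent.S1339

open AlgebraicGeometry CategoryTheory Limits in
/-- For a morphism of finite presentation, each level set of the function counting the connected
components of the geometric fibres is locally constructible in the target. -/
theorem result {X Y : Scheme.{u}} (f : X ⟶ Y) [LocallyOfFinitePresentation f] [QuasiCompact f] [QuasiSeparated f] (n : ℕ∞) :
    Topology.IsLocallyConstructible {y : ↑Y | MoreMor.nGeomConnComp f y = n} := by
  exact Groth.Agent.Lib.helper9.NGeom.isLocallyConstructible_nGeomConnComp f n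

end Groth.Agent.S1339
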