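import Groth.Statements.S13398
import Mathlib
import Groth.Agent.Lib.Helper6.NormLawB
import Groth.Agent.S13397

set_option autoImplicit false
universe u
open scoped TensorProduct
open ZeroCyc

namespace Groth.Agent.S13398

open Groth.Agent.Lib.helper6.NormLaw



/-- Let A be a commutative ring, B an A-algebra, d ≥ 0, and let (C, γ) be the degree-d divided power
algebra Γ^d_A(B) with its universal multiplicative law γ : B → C of degree d (every multiplicative
law of degree d out of B factors uniquely through γ). Let φ : Γ^d_A(B) → TS^d_A(B) be the canonical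
homomorphism to the symmetric tensors, taken here as data characterised by: after any base change S,
φ ∘ γ sends Σ_j s_j ⊗ b_j to Σ_{c : [d] → [n]} (∏_i s_{c(i)}) ⊗ (b_{c(1)} ⊗ ⋯ ⊗ b_{c(d)}), i.e. φ
corresponds to the law x ↦ x ⊗ ⋯ ⊗ x. Then x^{d!} = 0 for every x in the kernel of φ, and y^{d!}
lies in the image of φ for every symmetric tensor y ∈ TS^d_A(B). -/
theorem result {A B C : Type u} [CommRing A] [CommRing B] [Algebra A B] [CommRing C] [Algebra A C] (d : ℕ)
    (γ : PolLaw.MulLaw A B C d) (hγ : PolLaw.IsGammaD γ) (φ : C →ₐ[A] SymTen.TS A B d)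
    (hφ : ∀ (S : Type u) [CommSemiring S] [Algebra A S] (n : ℕ) (s : Fin n → S) (b : Fin n → B),
      ((SymTen.TS A B d).val.comp φ).toLinearMap.lTensor S (γ.law.toFun' S (∑ j, s j ⊗ₜ[A] b j)) =
        ∑ c : Fin d → Fin n, (∏ i, s (c i)) ⊗ₜ[A] PiTensorProduct.tprod A (fun i => b (c i))) :
    (∀ x : C, φ x = 0 → x ^ d.factorial = 0) ∧
      (∀ y : SymTen.TS A B d, y ^ d.factorial ∈ φ.range) := by
  obtain ⟨F, h1, h2⟩ := Groth.Agent.S13397.result d γ hγ φ hφ
  constructor
  · intro x hx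
    have h := congrArg (fun G : PolLaw.MulLaw A C C d.factorial => G.law.toFun' A (1 ⊗ₜ[A] x)) h2
    have e0 : F.law.toFun' A (0 : A ⊗[A] SymTen.TS A B d) = 0 := by
      have h0 := F.homog A (0 : A) (0 : A ⊗[A] SymTen.TS A B d)
      rw [zero_smul, zero_pow (Nat.factorial_ne_zero d), zero_smul] at h0
      exact h0
    have e1 : (PolLaw.MulLaw.precomp F φ).law.toFun' A (1 ⊗ₜ[A] x) = 0 := by
      show F.law.toFun' A (φ.toLinearMap.lTensor A (1 ⊗ₜ[A] x)) = 0
      rw [LinearMap.lTensor_tmul, AlgHom.toLinearMap_apply, hx, TensorProduct.tmul_zero, e0]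
    have e2 : (PolLaw.MulLaw.pow A C d.factorial).law.toFun' A (1 ⊗ₜ[A] x) =
        1 ⊗ₜ[A] (x ^ d.factorial) := by
      show (1 ⊗ₜ[A] x : A ⊗[A] C) ^ d.factorial = _
      rw [Algebra.TensorProduct.tmul_pow, one_pow]
    have h3 : (1 : A) ⊗ₜ[A] (x ^ d.factorial) = 0 := by
      rw [← e2, ← e1]
      exact h.symm
    have h4 := congrArg (TensorProduct.lid A C) h3
    rw [TensorProduct.lid_tmul, one_smul, map_zero] at h4
    exact h4
  · intro y
    have h := congrArg (fun G : PolLaw.MulLaw A (SymTen.TS A B d) (SymTen.TS A B d) d.factorial =>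
      G.law.toFun' A (1 ⊗ₜ[A] y)) h1
    have e1 : (PolLaw.MulLaw.postcomp φ F).law.toFun' A (1 ⊗ₜ[A] y) =
        φ.toLinearMap.lTensor A (F.law.toFun' A (1 ⊗ₜ[A] y)) := rfl
    have e2 : (PolLaw.MulLaw.pow A (SymTen.TS A B d) d.factorial).law.toFun' A (1 ⊗ₜ[A] y) =
        1 ⊗ₜ[A] (y ^ d.factorial) := by
      show (1 ⊗ₜ[A] y : A ⊗[A] SymTen.TS A B d) ^ d.factorial = _
      rw [Algebra.TensorProduct.tmul_pow, one_pow]
    have h3 : φ.toLinearMap.lTensor A (F.law.toFun' A (1 ⊗ₜ[A] y)) =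
        1 ⊗ₜ[A] (y ^ d.factorial) := by
      rw [← e1, ← e2]
      exact h
    have h4 := congrArg (TensorProduct.lid A (SymTen.TS A B d)) h3
    rw [lid_lTensor, TensorProduct.lid_tmul, one_smul] at h4
    exact ⟨_, h4⟩


end Groth.Agent.S13398
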