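import Groth.Statements.S13399
import Mathlib
import Groth.Agent.Lib.Helper6.GammaPol
import Groth.Agent.Lib.Helper6.GammaCoef

set_option autoImplicit false
universe u
open scoped TensorProduct
open ZeroCyc

namespace Groth.Agent.S13399

open MvPolynomial Groth.Agent.Lib.helper6.GammaPol Groth.Agent.Lib.helper6.GammaGen

section aux
variable {A B Cd Ce : Type u} [CommRing A] [CommRing B] [Algebra A B]
    [CommRing Cd] [Algebra A Cd] [CommRing Ce] [Algebra A Ce] {e : ℕ}

theorem incL_one (C' : Type u) [CommRing C'] [Algebra A C'] (S : Type u) [CommSemiring S]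
    [Algebra A S] :
    (Algebra.TensorProduct.includeLeft : C' →ₐ[A] C' ⊗[A] B).toLinearMap.lTensor S
      (1 : S ⊗[A] C') = 1 := by
  rw [Algebra.TensorProduct.one_def, LinearMap.lTensor_tmul, AlgHom.toLinearMap_apply, map_one]
  rfl

theorem incR_one (C' : Type u) [CommRing C'] [Algebra A C'] (S : Type u) [CommSemiring S]
    [Algebra A S] :
    (Algebra.TensorProduct.includeRight : B →ₐ[A] C' ⊗[A] B).toLinearMap.lTensor S
      (1 : S ⊗[A] B) = 1 := by
  rw [Algebra.TensorProduct.one_def, LinearMap.lTensor_tmul, AlgHom.toLinearMap_apply, map_one]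
  rfl

theorem one_tmul_mem (γd : PolLaw.MulLaw A B Cd (e + 1)) (γe : PolLaw.MulLaw A B Ce e)
    (ω : Cd ⊗[A] B →ₐ[A] Ce ⊗[A] B)
    (hω : ∀ (S : Type u) [CommSemiring S] [Algebra A S] (x y : S ⊗[A] B),
      ω.toLinearMap.lTensor S
        ((Algebra.TensorProduct.includeLeft : Cd →ₐ[A] Cd ⊗[A] B).toLinearMap.lTensor S (γd.law.toFun' S x) *
          (Algebra.TensorProduct.includeRight : B →ₐ[A] Cd ⊗[A] B).toLinearMap.lTensor S y) =
      (Algebra.TensorProduct.includeLeft : Ce →ₐ[A] Ce ⊗[A] B).toLinearMap.lTensor S (γe.law.toFun' S x) *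
        (Algebra.TensorProduct.includeRight : B →ₐ[A] Ce ⊗[A] B).toLinearMap.lTensor S (x * y))
    (b : B) : (1 : Ce) ⊗ₜ[A] b ∈ ω.range := by
  have h := hω A 1 (1 ⊗ₜ[A] b)
  rw [(γd.mult A).1, (γe.mult A).1, one_mul, incL_one, incL_one, one_mul, one_mul,
    LinearMap.lTensor_tmul, LinearMap.lTensor_tmul, LinearMap.lTensor_tmul] at h
  have h2 := congrArg (TensorProduct.lid A (Ce ⊗[A] B)) h
  rw [TensorProduct.lid_tmul, TensorProduct.lid_tmul, one_smul, one_smul] at h2
  exact ⟨_, h2⟩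

theorem omega_cf (γd : PolLaw.MulLaw A B Cd (e + 1)) (γe : PolLaw.MulLaw A B Ce e)
    (ω : Cd ⊗[A] B →ₐ[A] Ce ⊗[A] B)
    (hω : ∀ (S : Type u) [CommSemiring S] [Algebra A S] (x y : S ⊗[A] B),
      ω.toLinearMap.lTensor S
        ((Algebra.TensorProduct.includeLeft : Cd →ₐ[A] Cd ⊗[A] B).toLinearMap.lTensor S (γd.law.toFun' S x) *
          (Algebra.TensorProduct.includeRight : B →ₐ[A] Cd ⊗[A] B).toLinearMap.lTensor S y) =
      (Algebra.TensorProduct.includeLeft : Ce →ₐ[A] Ce ⊗[A] B).toLinearMap.lTensor S (γe.law.toFun' S x) *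
        (Algebra.TensorProduct.includeRight : B →ₐ[A] Ce ⊗[A] B).toLinearMap.lTensor S (x * y))
    {n : ℕ} (b : Fin n → B) (Fb : Finset (Fin n →₀ ℕ))
    (hkp : ∀ (S : Type u) [CommSemiring S] [Algebra A S] (s : Fin n → S),
        γe.law.toFun' S (∑ k, s k ⊗ₜ[A] b k) =
          ∑ m ∈ Fb, (∏ k, s k ^ m k) ⊗ₜ[A] cf γe.law b m)
    (μ : Fin n →₀ ℕ) :
    ω (cf γd.law b μ ⊗ₜ[A] 1) =
      ∑ j, ∑ m ∈ Fb, (if m + Finsupp.single j 1 = μ then (1 : A) else 0) •
        (cf γe.law b m ⊗ₜ[A] b j) := by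
  classical
  have h := hω (MvPolynomial (Fin n) A) (gen b) 1
  rw [incR_one, mul_one, mul_one] at h
  have h2 := congrArg (cv (N := Ce ⊗[A] B) (MvPolynomial (Fin n) A) (MvPolynomial.lcoeff A μ)) h
  rw [cv_lTensor, cv_lTensor] at h2
  refine Eq.trans ?_ (h2.trans ?_)
  · rfl
  · have hg : gen (A := A) b = ∑ k, (X k : MvPolynomial (Fin n) A) ⊗ₜ[A] b k := rfl
    have e1 : (Algebra.TensorProduct.includeLeft : Ce →ₐ[A] Ce ⊗[A] B).toLinearMap.lTensor
        (MvPolynomial (Fin n) A) (γe.law.toFun' (MvPolynomial (Fin n) A) (gen b)) =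
        ∑ m ∈ Fb, (monomial m (1 : A)) ⊗ₜ[A] (cf γe.law b m ⊗ₜ[A] (1 : B)) := by
      rw [hg, hkp, map_sum]
      refine Finset.sum_congr rfl fun m _ => ?_
      rw [LinearMap.lTensor_tmul, MvPolynomial.monic_monomial_eq,
        Finsupp.prod_fintype _ _ (fun i => pow_zero _)]
      rfl
    have e2 : (Algebra.TensorProduct.includeRight : B →ₐ[A] Ce ⊗[A] B).toLinearMap.lTensor
        (MvPolynomial (Fin n) A) (gen b) =
        ∑ j, (X j : MvPolynomial (Fin n) A) ⊗ₜ[A] ((1 : Ce) ⊗ₜ[A] b j) := by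
      rw [hg, map_sum]
      refine Finset.sum_congr rfl fun j _ => ?_
      rw [LinearMap.lTensor_tmul]
      rfl
    rw [e1, e2, Finset.sum_mul_sum, Finset.sum_comm, map_sum]
    refine Finset.sum_congr rfl fun j _ => ?_
    rw [map_sum]
    refine Finset.sum_congr rfl fun m _ => ?_
    rw [Algebra.TensorProduct.tmul_mul_tmul, Algebra.TensorProduct.tmul_mul_tmul, mul_one, one_mul,
      cv_tmul, MvPolynomial.lcoeff_apply]
    congr 1
    rw [show (X j : MvPolynomial (Fin n) A) = monomial (Finsupp.single j 1) 1 from rfl,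
      MvPolynomial.monomial_mul, MvPolynomial.coeff_monomial, mul_one]

theorem cf_tmul_one_mem (γd : PolLaw.MulLaw A B Cd (e + 1)) (γe : PolLaw.MulLaw A B Ce e)
    (ω : Cd ⊗[A] B →ₐ[A] Ce ⊗[A] B)
    (hω : ∀ (S : Type u) [CommSemiring S] [Algebra A S] (x y : S ⊗[A] B),
      ω.toLinearMap.lTensor S
        ((Algebra.TensorProduct.includeLeft : Cd →ₐ[A] Cd ⊗[A] B).toLinearMap.lTensor S (γd.law.toFun' S x) *
          (Algebra.TensorProduct.includeRight : B →ₐ[A] Cd ⊗[A] B).toLinearMap.lTensor S y) =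
      (Algebra.TensorProduct.includeLeft : Ce →ₐ[A] Ce ⊗[A] B).toLinearMap.lTensor S (γe.law.toFun' S x) *
        (Algebra.TensorProduct.includeRight : B →ₐ[A] Ce ⊗[A] B).toLinearMap.lTensor S (x * y))
    {n : ℕ} (b : Fin (n + 1) → B) (hb0 : b 0 = 1)
    (h1 : ∀ b' : B, (1 : Ce) ⊗ₜ[A] b' ∈ ω.range) (m : Fin (n + 1) →₀ ℕ) :
    cf γe.law b m ⊗ₜ[A] (1 : B) ∈ ω.range := by
  classical
  obtain ⟨Fb, h0, hkp⟩ := kp γe.law b
  obtain ⟨w, hw⟩ : ∃ w, ∑ k : Fin n, m k.succ = w := ⟨_, rfl⟩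
  induction w using Nat.strong_induction_on generalizing m with
  | _ w ih =>
    have hmain := omega_cf γd γe ω hω b Fb hkp (m + Finsupp.single 0 1)
    rw [Fin.sum_univ_succ] at hmain
    have hT0 : ∑ m' ∈ Fb, (if m' + Finsupp.single 0 1 = m + Finsupp.single 0 1 then (1 : A) else 0) •
        (cf γe.law b m' ⊗ₜ[A] b 0) = cf γe.law b m ⊗ₜ[A] 1 := by
      simp_rw [add_left_inj, hb0]
      rw [sum_pick Fb (fun m' => cf γe.law b m' ⊗ₜ[A] (1 : B))
        (fun m' hm' => by rw [h0 m' hm', TensorProduct.zero_tmul]) m 1, one_smul]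
    rw [hT0] at hmain
    have hrest : ∑ k : Fin n, ∑ m' ∈ Fb,
        (if m' + Finsupp.single k.succ 1 = m + Finsupp.single 0 1 then (1 : A) else 0) •
          (cf γe.law b m' ⊗ₜ[A] b k.succ) ∈ ω.range := by
      refine Subalgebra.sum_mem _ fun k _ => Subalgebra.sum_mem _ fun m' _ => ?_
      by_cases hc : m' + Finsupp.single k.succ 1 = m + Finsupp.single 0 1
      · rw [if_pos hc, one_smul]
        have hwt : ∑ k' : Fin n, m' k'.succ < w := by
          have h4 := congrArg (fun f : Fin (n + 1) →₀ ℕ => ∑ k' : Fin n, f k'.succ) hc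
          simp only [Finsupp.add_apply, Finset.sum_add_distrib] at h4
          have h5 : ∑ k' : Fin n, (Finsupp.single k.succ 1 : Fin (n + 1) →₀ ℕ) k'.succ = 1 := by
            rw [Finset.sum_eq_single k]
            · exact Finsupp.single_eq_same
            · intro k' _ hk'
              rw [Finsupp.single_apply, if_neg]
              intro h
              exact hk' (Fin.succ_injective _ h).symm
            · intro h
              exact absurd (Finset.mem_univ _) h
          have h6 : ∑ k' : Fin n, (Finsupp.single (0 : Fin (n + 1)) 1 : Fin (n + 1) →₀ ℕ) k'.succ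
              = 0 := by
            refine Finset.sum_eq_zero fun k' _ => ?_
            rw [Finsupp.single_apply, if_neg (Fin.succ_ne_zero k').symm]
          rw [h5, h6, hw] at h4
          omega
        have h7 := ih _ hwt m' rfl
        have h3 : cf γe.law b m' ⊗ₜ[A] b k.succ =
            (cf γe.law b m' ⊗ₜ[A] (1 : B)) * ((1 : Ce) ⊗ₜ[A] b k.succ) := by
          rw [Algebra.TensorProduct.tmul_mul_tmul, mul_one, one_mul]
        rw [h3]
        exact Subalgebra.mul_mem _ h7 (h1 _)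
      · rw [if_neg hc, zero_smul]
        exact Subalgebra.zero_mem _
    have hL : ω (cf γd.law b (m + Finsupp.single 0 1) ⊗ₜ[A] 1) ∈ ω.range :=
      AlgHom.mem_range_self _ _
    rw [hmain] at hL
    have h8 := Subalgebra.sub_mem _ hL hrest
    rwa [add_sub_cancel_right] at h8

end aux



/-- Let A be a commutative ring, B an A-algebra and e ≥ 0; let (C_{e+1}, γ_{e+1}) and (C_e, γ_e) be the
divided power algebras Γ^{e+1}_A(B) and Γ^e_A(B) of B with their universal multiplicative laws of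
degrees e + 1 and e (every multiplicative law of that degree out of B factors uniquely through
them), and let ω : Γ^{e+1}_A(B) ⊗_A B → Γ^e_A(B) ⊗_A B be Iversen's canonical algebra homomorphism,
taken here as data characterised by ω(γ_{e+1}(x) ⊗ y) = γ_e(x) ⊗ x·y for all x, y ∈ S ⊗_A B and
every base change A → S. Then ω is surjective. -/
theorem result {A B Cd Ce : Type u} [CommRing A] [CommRing B] [Algebra A B]
    [CommRing Cd] [Algebra A Cd] [CommRing Ce] [Algebra A Ce] (e : ℕ)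
    (γd : PolLaw.MulLaw A B Cd (e + 1)) (hγd : PolLaw.IsGammaD γd)
    (γe : PolLaw.MulLaw A B Ce e) (hγe : PolLaw.IsGammaD γe)
    (ω : Cd ⊗[A] B →ₐ[A] Ce ⊗[A] B)
    (hω : ∀ (S : Type u) [CommSemiring S] [Algebra A S] (x y : S ⊗[A] B),
      ω.toLinearMap.lTensor S
        ((Algebra.TensorProduct.includeLeft : Cd →ₐ[A] Cd ⊗[A] B).toLinearMap.lTensor S (γd.law.toFun' S x) *
          (Algebra.TensorProduct.includeRight : B →ₐ[A] Cd ⊗[A] B).toLinearMap.lTensor S y) =
      (Algebra.TensorProduct.includeLeft : Ce →ₐ[A] Ce ⊗[A] B).toLinearMap.lTensor S (γe.law.toFun' S x) *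
        (Algebra.TensorProduct.includeRight : B →ₐ[A] Ce ⊗[A] B).toLinearMap.lTensor S (x * y)) :
    Function.Surjective ω := by
  classical
  have h1 : ∀ b' : B, (1 : Ce) ⊗ₜ[A] b' ∈ ω.range := one_tmul_mem γd γe ω hω
  have h2 : ∀ c : Ce, c ⊗ₜ[A] (1 : B) ∈ ω.range := by
    intro c
    have hc : c ∈ Submodule.span A (coefSet γe) := by
      rw [← mem_Ccan, Ccan_eq_top γe hγe]
      exact Algebra.mem_top
    induction hc using Submodule.span_induction with
    | mem g hg =>
      obtain ⟨S, _, _, lam, x', rfl⟩ := hg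
      obtain ⟨n, s, b', rfl⟩ := exists_repr_fin S x'
      obtain ⟨Fb, h0, hkp⟩ := kp γe.law (Fin.cons 1 b' : Fin (n + 1) → B)
      have hx : ∑ j, s j ⊗ₜ[A] b' j = ∑ j : Fin (n + 1),
          (Fin.cons 0 s : Fin (n + 1) → S) j ⊗ₜ[A] (Fin.cons 1 b' : Fin (n + 1) → B) j := by
        rw [Fin.sum_univ_succ]
        simp
      show (cv S lam (γe.law.toFun' S (∑ j, s j ⊗ₜ[A] b' j))) ⊗ₜ[A] (1 : B) ∈ ω.range
      rw [hx, hkp S, map_sum, TensorProduct.sum_tmul]
      refine Subalgebra.sum_mem _ fun m _ => ?_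
      rw [cv_tmul, ← TensorProduct.smul_tmul']
      exact Subalgebra.smul_mem _
        (cf_tmul_one_mem γd γe ω hω _ (Fin.cons_zero _ _) h1 m) _
    | zero =>
      rw [TensorProduct.zero_tmul]
      exact Subalgebra.zero_mem _
    | add x y _ _ hx hy =>
      rw [TensorProduct.add_tmul]
      exact Subalgebra.add_mem _ hx hy
    | smul a x _ hx =>
      rw [← TensorProduct.smul_tmul']
      exact Subalgebra.smul_mem _ hx a
  intro z
  have hz : z ∈ ω.range := by
    induction z using TensorProduct.induction_on with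
    | zero => exact Subalgebra.zero_mem _
    | tmul c b' =>
      have h3 : c ⊗ₜ[A] b' = (c ⊗ₜ[A] (1 : B)) * ((1 : Ce) ⊗ₜ[A] b') := by
        rw [Algebra.TensorProduct.tmul_mul_tmul, mul_one, one_mul]
      rw [h3]
      exact Subalgebra.mul_mem _ (h2 c) (h1 b')
    | add x y hx hy => exact Subalgebra.add_mem _ hx hy
  exact (AlgHom.mem_range ω).mp hz


end Groth.Agent.S13399
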