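import Groth.Statements.S13407
import Groth.Agent.Lib.Helper22.DedekindHopf

set_option autoImplicit false
universe u
open TensorProduct
open Hopf

namespace Groth.Agent.S13407

/-- Let R be a Dedekind domain with fraction field K and let G = Spec A be a finite flat group scheme
over R (A a commutative Hopf algebra over R, finite and flat as an R-module). Closed flat R-subgroup
schemes of G correspond one-to-one to closed K-subgroup schemes of the generic fibre G_K under H ↦
H_K: the map sending a Hopf ideal J' of A with A/J' flat over R to the ideal it generates in K ⊗_R A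
is a bijection onto the set of Hopf ideals of the Hopf algebra K ⊗_R A over K (its inverse takes a
Hopf ideal of K ⊗_R A to its preimage in A). -/
theorem result (R : Type u) [CommRing R] [IsDedekindDomain R]
    (K : Type u) [Field K] [Algebra R K] [IsFractionRing R K]
    (A : Type u) [CommRing A] [HopfAlgebra R A] [Module.Finite R A] [Module.Flat R A] :
    Set.BijOn (fun J' : Ideal A => Ideal.map (Algebra.TensorProduct.includeRight : A →ₐ[R] K ⊗[R] A) J')
      {J' : Ideal A | J'.IsHopfIdeal R ∧ Module.Flat R (A ⧸ J')}
      {J : Ideal (K ⊗[R] A) | J.IsHopfIdeal K} := by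
  refine ⟨?_, ?_, ?_⟩
  · rintro J' ⟨hJ', -⟩
    exact Groth.Agent.Lib.helper22.DedekindHopf.isHopfIdeal_map R K A J'
  · rintro J₁ ⟨-, h₁⟩ J₂ ⟨-, h₂⟩ h
    have e₁ := Groth.Agent.Lib.helper22.DedekindHopf.comap_map_of_flat R K A
      (IsFractionRing.injective R K) J₁
    have e₂ := Groth.Agent.Lib.helper22.DedekindHopf.comap_map_of_flat R K A
      (IsFractionRing.injective R K) J₂
    have h' : Ideal.map (Groth.Agent.Lib.helper22.DedekindHopf.inc R K A) J₁ =
        Ideal.map (Groth.Agent.Lib.helper22.DedekindHopf.inc R K A) J₂ := h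
    rw [← e₁, ← e₂, h']
  · intro J hJ
    have hJ' : J.IsHopfIdeal K := hJ
    refine ⟨Ideal.comap (Groth.Agent.Lib.helper22.DedekindHopf.inc R K A) J,
      ⟨Groth.Agent.Lib.helper22.DedekindHopf.isHopfIdeal_comap R K A J,
        Groth.Agent.Lib.helper22.DedekindHopf.flat_quotient_comap R K A J⟩, ?_⟩
    exact Groth.Agent.Lib.helper22.DedekindHopf.map_comap R K A J

end Groth.Agent.S13407
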