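-- Statement S13409: CombGraph.exists_edgeLabelling_incidence_sum_eq
import Groth.Statements.S13409
import Groth.Agent.Lib.Helper5.WalkLabel

set_option autoImplicit false
universe u v
open CombGraph

namespace Groth.Agent.S13409

open Groth.Agent.Lib.helper5

/-- Let `A` be an abelian group and `G` a finite connected simple graph on `V` that is bipartite for a
two-colouring `c : V → Bool` (adjacent vertices get different colours). If `a : V → A` has the same
sum over the vertices of each colour, then some labelling `x` of the edges by elements of `A` has,
at every vertex `v`, the sum of `x` over the edges incident to `v` equal to `a v`. (The published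
statement concerns finite bipartite graphs in general; this row treats simple graphs.) -/
theorem result {V : Type u} [Fintype V] [DecidableEq V]
    (G : SimpleGraph V) [DecidableRel G.Adj] (hconn : G.Connected) (c : V → Bool)
    (hbip : ∀ v w : V, G.Adj v w → c v ≠ c w) (A : Type v) [AddCommGroup A] (a : V → A)
    (hsum : ∑ v ∈ Finset.univ.filter (fun v => c v = true), a v =
      ∑ v ∈ Finset.univ.filter (fun v => c v = false), a v) :
    ∃ x : Sym2 V → A, ∀ v : V, ∑ e ∈ G.incidenceFinset v, x e = a v := by
  classical
  obtain ⟨v0⟩ := hconn.nonempty
  -- a walk from `v0` to each vertex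
  let W : ∀ v : V, G.Walk v0 v := fun v => (hconn.preconnected v0 v).some
  -- the sign attached to each vertex
  let ε : V → ℤ := fun v => -(-1) ^ (W v).length
  have hε : ∀ v, ε v = if c v0 = c v then -1 else 1 := by
    intro v
    have := even_length_iff c hbip (W v)
    by_cases h : c v0 = c v
    · simp only [ε, h, if_true]
      rw [Even.neg_one_pow (this.mpr h)]
    · simp only [ε, h, if_false]
      have hodd : Odd (W v).length := by
        rw [← Nat.not_even_iff_odd, this]; exact h
      rw [Odd.neg_one_pow hodd]; simp
  have hεsq : ∀ v, ε v * ε v = 1 := by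
    intro v; rw [hε]; split_ifs <;> simp
  have hεsum : ∑ v, ε v • a v = 0 := by
    have h1 : ∀ v, ε v • a v = (if c v = true then (if c v0 = true then -1 else (1:ℤ)) • a v else 0) +
        (if c v = false then (if c v0 = false then -1 else (1:ℤ)) • a v else 0) := by
      intro v
      rw [hε]
      cases c v <;> cases c v0 <;> simp
    simp_rw [h1, Finset.sum_add_distrib, ← Finset.sum_filter, ← Finset.smul_sum]
    rw [hsum]
    cases c v0 <;> simp
  refine ⟨fun e => ∑ v, chi (W v) e • (ε v • a v), fun w => ?_⟩
  rw [Finset.sum_comm]
  simp_rw [← Finset.sum_smul, sum_incidence_chi G le_rfl]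
  have h2 : ∀ v, ((if v0 = w then (1:ℤ) else 0) - (-1) ^ (W v).length * (if v = w then 1 else 0)) •
      (ε v • a v) = (if v0 = w then (1:ℤ) else 0) • (ε v • a v) + (if v = w then a v else 0) := by
    intro v
    by_cases hv : v = w
    · subst hv
      simp only [if_true, mul_one]
      rw [sub_smul, sub_eq_add_neg, ← neg_smul, smul_smul (-(-1) ^ (W v).length)]
      change _ + (ε v * ε v) • a v = _
      rw [hεsq, one_smul]
    · simp [hv]
  simp_rw [h2, Finset.sum_add_distrib, ← Finset.smul_sum, hεsum, smul_zero, zero_add]
  simp

end Groth.Agent.S13409
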