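-- Statement S13410: CombGraph.exists_addMonoidHom_eval_edge_eq_of_deleteEdges_connected
import Groth.Statements.S13410
import Groth.Agent.Lib.Helper5.WalkLabel

set_option autoImplicit false
universe u v
open CombGraph

namespace Groth.Agent.S13410

open Groth.Agent.Lib.helper5

/-- Let `A` be an abelian group and `G` a finite connected simple graph on `V`, bipartite for a
two-colouring `c`. Consider the additive group of labellings `x : Sym2 V → A` vanishing off the edge
set and with `∑_{e ∋ v} x e = 0` at every vertex `v`. If `e₀` is an edge whose deletion leaves `G`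
connected, then evaluation at `e₀` restricted to this group is surjective and split: there is an
additive map `φ : A → (Sym2 V → A)` with values in this group and with `φ a e₀ = a` for all `a`.
(The published statement concerns finite bipartite graphs in general; this row treats simple
graphs.) -/
theorem result {V : Type u} [Fintype V]
    [DecidableEq V] (G : SimpleGraph V) [DecidableRel G.Adj] (hconn : G.Connected) (c : V → Bool)
    (hbip : ∀ v w : V, G.Adj v w → c v ≠ c w) (A : Type v) [AddCommGroup A] (e₀ : Sym2 V)
    (he₀ : e₀ ∈ G.edgeSet) (hdel : (G.deleteEdges {e₀}).Connected) :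
    ∃ φ : A →+ (Sym2 V → A),
      (∀ a : A, (∀ e : Sym2 V, e ∉ G.edgeSet → φ a e = 0) ∧
        ∀ v : V, ∑ e ∈ G.incidenceFinset v, φ a e = 0) ∧
      ∀ a : A, φ a e₀ = a := by
  classical
  induction e₀ using Sym2.ind with
  | _ u v =>
  have hadj : G.Adj u v := he₀
  have huv : u ≠ v := G.ne_of_adj hadj
  set G' := G.deleteEdges {s(u, v)} with hG'
  have hle : G' ≤ G := SimpleGraph.deleteEdges_le _
  have hbip' : ∀ v w : V, G'.Adj v w → c v ≠ c w := fun v w h => hbip v w (hle h)
  let W : G'.Walk u v := (hdel.preconnected u v).some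
  have hodd : Odd W.length := by
    rw [← Nat.not_even_iff_odd, even_length_iff c hbip' W]
    exact hbip u v hadj
  have he₀' : s(u, v) ∉ G'.edgeSet := by
    rw [hG', SimpleGraph.edgeSet_deleteEdges]
    simp
  -- the integer labelling
  let y : Sym2 V → ℤ := fun e => (Pi.single s(u, v) (1 : ℤ) : Sym2 V → ℤ) e - chi W e
  have hy0 : y s(u, v) = 1 := by
    simp [y, chi_eq_zero_of_not_mem_edgeSet W _ he₀']
  have hyoff : ∀ e : Sym2 V, e ∉ G.edgeSet → y e = 0 := by
    intro e he
    have hne : e ≠ s(u, v) := by rintro rfl; exact he he₀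
    have he' : e ∉ G'.edgeSet := fun h => he (SimpleGraph.edgeSet_mono hle h)
    simp [y, hne, chi_eq_zero_of_not_mem_edgeSet W _ he']
  have hyinc : ∀ w : V, ∑ e ∈ G.incidenceFinset w, y e = 0 := by
    intro w
    simp only [y, Finset.sum_sub_distrib, sum_incidence_chi G hle W w, Odd.neg_one_pow hodd]
    have hsingle : ∑ e ∈ G.incidenceFinset w, (Pi.single s(u, v) (1 : ℤ) : Sym2 V → ℤ) e =
        (if u = w then 1 else 0) + (if v = w then 1 else 0) := by
      simp only [Pi.single_apply, Finset.sum_ite_eq', SimpleGraph.mem_incidenceFinset,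
        SimpleGraph.mk'_mem_incidenceSet_iff, hadj, true_and]
      by_cases h1 : u = w
      · subst h1
        have : ¬ v = u := fun h => huv h.symm
        simp [this]
      · by_cases h2 : v = w
        · subst h2
          simp [h1]
        · have h1' : ¬ w = u := fun h => h1 h.symm
          have h2' : ¬ w = v := fun h => h2 h.symm
          simp [h1, h2, h1', h2']
    rw [hsingle]; ring
  refine ⟨⟨⟨fun a e => y e • a, ?_⟩, ?_⟩, fun a => ⟨fun e he => ?_, fun w => ?_⟩, fun a => ?_⟩
  · funext e; simp
  · intro a b; funext e; simp [smul_add]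
  · change y e • a = 0
    rw [hyoff e he, zero_smul]
  · change ∑ e ∈ G.incidenceFinset w, y e • a = 0
    rw [← Finset.sum_smul, hyinc w, zero_smul]
  · change y s(u, v) • a = a
    rw [hy0, one_smul]

end Groth.Agent.S13410
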