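import Groth.Statements.S13411
import Mathlib
import Groth.Agent.S13410

set_option autoImplicit false
universe u v
open CombGraph

namespace Groth.Agent.S13411


theorem dc {V : Type u} [Fintype V] [DecidableEq V] (G : SimpleGraph V) [DecidableRel G.Adj]
    {A : Type v} [AddCommGroup A] (x : Sym2 V → A) (φ : V → ℤ) :
    ∑ w : V, φ w • ∑ e ∈ G.incidenceFinset w, x e =
      ∑ e ∈ G.edgeFinset, (∑ w ∈ Finset.univ.filter (fun w => w ∈ e), φ w) • x e := by
  simp_rw [Finset.smul_sum, Finset.sum_smul]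
  apply Finset.sum_comm'
  intro w e
  simp only [Finset.mem_univ, true_and, SimpleGraph.mem_incidenceFinset, Finset.mem_filter,
    SimpleGraph.mem_edgeFinset]
  constructor
  · intro h
    have h' : e ∈ G.edgeSet ∧ w ∈ e := h
    exact ⟨h'.2, h'.1⟩
  · intro h
    have h' : e ∈ G.edgeSet ∧ w ∈ e := ⟨h.2, h.1⟩
    exact h'

theorem bridge_zero {V : Type u} [Fintype V] [DecidableEq V] (G : SimpleGraph V)
    [DecidableRel G.Adj]
    (c : V → Bool) (hbip : ∀ v w : V, G.Adj v w → c v ≠ c w)
    {A : Type v} [AddCommGroup A] (x : Sym2 V → A)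
    (hx : ∀ v : V, ∑ e ∈ G.incidenceFinset v, x e = 0)
    (u v : V) (hadj : G.Adj u v) (hbr : G.IsBridge s(u, v)) : x s(u, v) = 0 := by
  classical
  rw [SimpleGraph.isBridge_iff] at hbr
  obtain ⟨G', hG'⟩ : ∃ G' : SimpleGraph V, G' = G.deleteEdges {s(u, v)} := ⟨_, rfl⟩
  rw [← hG'] at hbr
  have hG'adj : ∀ a b, G'.Adj a b ↔ G.Adj a b ∧ s(a, b) ≠ s(u, v) := by
    intro a b; rw [hG', SimpleGraph.deleteEdges_adj]; simp
  obtain ⟨ε, hε⟩ : ∃ ε : V → ℤ, ∀ w, ε w = if c w then 1 else -1 := ⟨_, fun _ => rfl⟩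
  obtain ⟨φ, hφ⟩ : ∃ φ : V → ℤ, ∀ w, φ w = if G'.Reachable u w then ε w else 0 :=
    ⟨_, fun _ => rfl⟩
  have hφadj : ∀ a b, G.Adj a b → s(a, b) ≠ s(u, v) → φ a + φ b = 0 := by
    intro a b hab hne
    have hab' : G'.Adj a b := (hG'adj a b).mpr ⟨hab, hne⟩
    have hiff : G'.Reachable u a ↔ G'.Reachable u b :=
      ⟨fun h => h.trans hab'.reachable, fun h => h.trans hab'.symm.reachable⟩
    by_cases ha : G'.Reachable u a
    · have hb := hiff.mp ha
      rw [hφ, hφ, if_pos ha, if_pos hb, hε, hε]
      have := hbip a b hab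
      cases hca : c a <;> cases hcb : c b <;> simp_all
    · have hb : ¬ G'.Reachable u b := fun h => ha (hiff.mpr h)
      rw [hφ, hφ, if_neg ha, if_neg hb, add_zero]
  have hφu : φ u = ε u := by rw [hφ, if_pos (SimpleGraph.Reachable.refl u)]
  have hφv : φ v = 0 := by rw [hφ, if_neg hbr]
  have hsum := dc G x φ
  have hL : ∑ w : V, φ w • ∑ e ∈ G.incidenceFinset w, x e = 0 := by
    apply Finset.sum_eq_zero; intro w _; rw [hx w, smul_zero]
  rw [hL] at hsum
  have hfilter : ∀ a b : V, Finset.univ.filter (fun w => w ∈ s(a, b)) = {a, b} := by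
    intro a b; ext w; simp [Sym2.mem_iff]
  have hR : ∑ e ∈ G.edgeFinset, (∑ w ∈ Finset.univ.filter (fun w => w ∈ e), φ w) • x e
      = ε u • x s(u, v) := by
    rw [Finset.sum_eq_single_of_mem s(u, v) (SimpleGraph.mem_edgeFinset.mpr hadj)]
    · rw [hfilter, Finset.sum_pair hadj.ne, hφu, hφv, add_zero]
    · intro e he hne
      induction e using Sym2.ind with
      | _ a b =>
        have hab : G.Adj a b := SimpleGraph.mem_edgeFinset.mp he
        rw [hfilter, Finset.sum_pair hab.ne, hφadj a b hab hne, zero_smul]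
  rw [hR] at hsum
  have hε' : ε u = 1 ∨ ε u = -1 := by
    rw [hε]; split_ifs <;> simp
  rcases hε' with h | h
  · rw [h, one_smul] at hsum; exact hsum.symm
  · rw [h, neg_smul, one_smul] at hsum; exact neg_eq_zero.mp hsum.symm

theorem aux {V : Type u} [Fintype V] [DecidableEq V] (c : V → Bool) (A : Type v)
    [AddCommGroup A] :
    ∀ (n : ℕ) (G : SimpleGraph V) [DecidableRel G.Adj], G.Connected →
      (∀ v w : V, G.Adj v w → c v ≠ c w) →
      G.edgeFinset.card + 1 = Fintype.card V + n →
      ∃ f : (Fin n → A) →+ (Sym2 V → A), Function.Injective f ∧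
        ∀ x : Sym2 V → A, x ∈ Set.range f ↔ ((∀ e : Sym2 V, e ∉ G.edgeSet → x e = 0) ∧
          ∀ v : V, ∑ e ∈ G.incidenceFinset v, x e = 0) := by
  intro n
  induction n with
  | zero =>
    intro G _ hconn hbip hn
    have htree : G.IsTree := by
      rw [SimpleGraph.isTree_iff_connected_and_card]
      refine ⟨hconn, ?_⟩
      rw [Nat.card_eq_fintype_card, Nat.card_eq_fintype_card, ← SimpleGraph.edgeFinset_card]
      omega
    have hbr : ∀ ⦃e⦄, e ∈ G.edgeSet → G.IsBridge e :=
      SimpleGraph.isAcyclic_iff_forall_isBridge.mp htree.isAcyclic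
    refine ⟨0, fun a b _ => Subsingleton.elim a b, fun x => ?_⟩
    constructor
    · rintro ⟨a, rfl⟩
      refine ⟨fun e _ => rfl, fun v => ?_⟩
      simp
    · rintro ⟨h0, hv⟩
      refine ⟨0, ?_⟩
      funext e
      by_cases he : e ∈ G.edgeSet
      · induction e using Sym2.ind with
        | _ a b =>
          exact (bridge_zero G c hbip x hv a b he (hbr he)).symm
      · exact (h0 e he).symm
  | succ n ih =>
    intro G _ hconn hbip hn
    classical
    have hnotac : ¬ G.IsAcyclic := by
      intro hac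
      have := SimpleGraph.IsTree.card_edgeFinset (G := G) ⟨hconn, hac⟩
      omega
    rw [SimpleGraph.isAcyclic_iff_forall_isBridge] at hnotac
    push Not at hnotac
    obtain ⟨e₀, he₀, hnb⟩ := hnotac
    induction e₀ using Sym2.ind with
    | _ u v =>
    have hdel : (G.deleteEdges {s(u, v)}).Connected :=
      hconn.connected_delete_edge_of_not_isBridge hnb
    obtain ⟨φ, hφL, hφe⟩ := Groth.Agent.S13410.result G hconn c hbip A s(u, v) he₀ hdel
    obtain ⟨G', hG'⟩ : ∃ G' : SimpleGraph V, G' = G.deleteEdges {s(u, v)} := ⟨_, rfl⟩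
    rw [← hG'] at hdel
    have hG'edge : ∀ e, e ∈ G'.edgeSet ↔ e ∈ G.edgeSet ∧ e ≠ s(u, v) := by
      intro e; rw [hG', SimpleGraph.edgeSet_deleteEdges]; simp
    letI : DecidableRel G'.Adj := Classical.decRel _
    have hcard : G'.edgeFinset.card + 1 = Fintype.card V + n := by
      have : G'.edgeFinset = G.edgeFinset.erase s(u, v) := by
        ext e
        rw [SimpleGraph.mem_edgeFinset, Finset.mem_erase, SimpleGraph.mem_edgeFinset, hG'edge]
        tauto
      rw [this, Finset.card_erase_of_mem (SimpleGraph.mem_edgeFinset.mpr he₀)]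
      have hpos : 0 < G.edgeFinset.card :=
        Finset.card_pos.mpr ⟨_, SimpleGraph.mem_edgeFinset.mpr he₀⟩
      omega
    have hbip' : ∀ v w : V, G'.Adj v w → c v ≠ c w := by
      intro a b hab
      rw [hG', SimpleGraph.deleteEdges_adj] at hab
      exact hbip a b hab.1
    obtain ⟨f', hf'inj, hf'range⟩ := ih G' hdel hbip' hcard
    have hinc : ∀ (x : Sym2 V → A), x s(u, v) = 0 → ∀ w : V,
        ∑ e ∈ G'.incidenceFinset w, x e = ∑ e ∈ G.incidenceFinset w, x e := by
      intro x hx0 w
      apply Finset.sum_subset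
      · intro e he
        rw [SimpleGraph.mem_incidenceFinset] at he ⊢
        have he' : e ∈ G'.edgeSet ∧ w ∈ e := he
        have hgoal : e ∈ G.edgeSet ∧ w ∈ e := ⟨((hG'edge e).mp he'.1).1, he'.2⟩
        exact hgoal
      · intro e he hne
        rw [SimpleGraph.mem_incidenceFinset] at he hne
        have he' : e ∈ G.edgeSet ∧ w ∈ e := he
        have : e = s(u, v) := by
          by_contra hcon
          have hmem : e ∈ G'.edgeSet ∧ w ∈ e := ⟨(hG'edge e).mpr ⟨he'.1, hcon⟩, he'.2⟩
          exact hne hmem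
        rw [this, hx0]
    have hLiff : ∀ x : Sym2 V → A, ((∀ e : Sym2 V, e ∉ G'.edgeSet → x e = 0) ∧
          ∀ v : V, ∑ e ∈ G'.incidenceFinset v, x e = 0) ↔
        (((∀ e : Sym2 V, e ∉ G.edgeSet → x e = 0) ∧
          ∀ v : V, ∑ e ∈ G.incidenceFinset v, x e = 0) ∧ x s(u, v) = 0) := by
      intro x
      constructor
      · rintro ⟨h0, hv⟩
        have hx0 : x s(u, v) = 0 := h0 _ (fun h => ((hG'edge _).mp h).2 rfl)
        refine ⟨⟨fun e he => h0 e (fun h => he ((hG'edge e).mp h).1), fun w => ?_⟩, hx0⟩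
        rw [← hinc x hx0 w]; exact hv w
      · rintro ⟨⟨h0, hv⟩, hx0⟩
        refine ⟨fun e he => ?_, fun w => ?_⟩
        · by_cases h : e = s(u, v)
          · rw [h]; exact hx0
          · exact h0 e (fun hG => he ((hG'edge e).mpr ⟨hG, h⟩))
        · rw [hinc x hx0 w]; exact hv w
    obtain ⟨f, hf⟩ : ∃ f : (Fin (n + 1) → A) →+ (Sym2 V → A),
        ∀ a, f a = f' (fun i => a i.castSucc) + φ (a (Fin.last n)) := by
      refine ⟨AddMonoidHom.mk' (fun a => f' (fun i => a i.castSucc) + φ (a (Fin.last n))) ?_,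
        fun a => rfl⟩
      intro a b
      have : (fun i : Fin n => (a + b) i.castSucc) =
          (fun i => a i.castSucc) + (fun i => b i.castSucc) := rfl
      rw [this, map_add, Pi.add_apply, map_add]
      abel
    have hf'e : ∀ b, f' b s(u, v) = 0 := by
      intro b
      exact ((hLiff _).mp ((hf'range _).mp ⟨b, rfl⟩)).2
    refine ⟨f, ?_, ?_⟩
    · intro a b hab
      rw [hf, hf] at hab
      have h1 := congrFun hab s(u, v)
      rw [Pi.add_apply, Pi.add_apply, hf'e, hf'e, zero_add, zero_add, hφe, hφe] at h1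
      rw [h1] at hab
      have h2 := hf'inj (add_right_cancel hab)
      funext i
      refine Fin.lastCases ?_ (fun j => ?_) i
      · exact h1
      · exact congrFun h2 j
    · intro x
      constructor
      · rintro ⟨a, rfl⟩
        rw [hf]
        have h1 := ((hLiff _).mp ((hf'range _).mp ⟨(fun i => a i.castSucc), rfl⟩)).1
        have h2 := hφL (a (Fin.last n))
        refine ⟨fun e he => ?_, fun w => ?_⟩
        · rw [Pi.add_apply, h1.1 e he, h2.1 e he, add_zero]
        · simp only [Pi.add_apply]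
          rw [Finset.sum_add_distrib, h1.2 w, h2.2 w, add_zero]
      · rintro ⟨h0, hv⟩
        have h2 := hφL (x s(u, v))
        have hx' : ((∀ e : Sym2 V, e ∉ G.edgeSet → (x - φ (x s(u, v))) e = 0) ∧
            ∀ w : V, ∑ e ∈ G.incidenceFinset w, (x - φ (x s(u, v))) e = 0) ∧
            (x - φ (x s(u, v))) s(u, v) = 0 := by
          refine ⟨⟨fun e he => ?_, fun w => ?_⟩, ?_⟩
          · rw [Pi.sub_apply, h0 e he, h2.1 e he, sub_zero]
          · simp only [Pi.sub_apply]
            rw [Finset.sum_sub_distrib, hv w, h2.2 w, sub_zero]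
          · rw [Pi.sub_apply, hφe, sub_self]
        obtain ⟨b, hb⟩ := (hf'range _).mpr ((hLiff _).mpr hx')
        refine ⟨Fin.snoc b (x s(u, v)), ?_⟩
        rw [hf]
        have e1 : (fun i : Fin n => (Fin.snoc b (x s(u, v)) : Fin (n+1) → A) i.castSucc) = b := by
          funext i; exact Fin.snoc_castSucc (α := fun _ => A) _ _ i
        rw [e1, Fin.snoc_last, hb]
        abel


/-- Let `A` be an abelian group and `G` a finite connected simple graph on `V`, bipartite for a
two-colouring `c`, with cyclomatic number `n` (number of edges minus number of vertices plus one).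
Then the additive group of labellings `x : Sym2 V → A` vanishing off the edge set and with `∑_{e ∋
v} x e = 0` at every vertex `v` is isomorphic to `A^n`: it is the range of an injective additive map
`(Fin n → A) → (Sym2 V → A)`. (The published statement concerns finite bipartite graphs in general;
this row treats simple graphs.) -/
theorem result {V : Type u} [Fintype V]
    [DecidableEq V] (G : SimpleGraph V) [DecidableRel G.Adj] (hconn : G.Connected) (c : V → Bool)
    (hbip : ∀ v w : V, G.Adj v w → c v ≠ c w) (A : Type v) [AddCommGroup A] (n : ℕ)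
    (hn : G.edgeFinset.card + 1 = Fintype.card V + n) :
    ∃ f : (Fin n → A) →+ (Sym2 V → A), Function.Injective f ∧
      Set.range f = {x : Sym2 V → A | (∀ e : Sym2 V, e ∉ G.edgeSet → x e = 0) ∧
        ∀ v : V, ∑ e ∈ G.incidenceFinset v, x e = 0} := by
  obtain ⟨f, hinj, hrange⟩ := aux c A n G hconn hbip hn
  refine ⟨f, hinj, ?_⟩
  ext x
  exact hrange x


end Groth.Agent.S13411
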