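import Groth.Statements.S13418
import Mathlib
import Groth.Agent.Lib.Helper14.Neron1

set_option autoImplicit false
universe u
open CategoryTheory AlgebraicGeometry
open NeronHD

namespace Groth.Agent.S13418

/-- Let S be a locally Noetherian scheme over a field of characteristic 0 and S₀ ⊆ S a
scheme-theoretically dense open. If N and M are smooth S-schemes having the Néron mapping property
for S₀ ⊆ S (for every smooth S-scheme Z, restriction to S₀ is a bijection from S-morphisms Z → N
onto S₀-morphisms Z|S₀ → N|S₀), then the fibre product N ×_S M has the Néron mapping property for S₀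
⊆ S (its smoothness over S being automatic). (This row is the case of schemes, with smooth test
schemes, of a statement about algebraic spaces.) -/
theorem result {k : Type u} [Field k] [CharZero k] {S : Scheme.{u}} (σ : S ⟶ Spec (CommRingCat.of k)) [IsLocallyNoetherian S] (S₀ : S.Opens) (hS₀ : CInt.IsSchematicallyDense S₀)
    (N M : Over S) [Smooth N.hom] [Smooth M.hom]
    (hN : ∀ Z : Over S, Smooth Z.hom → Function.Bijective (fun g : Z ⟶ N => (Over.pullback S₀.ι).map g))
    (hM : ∀ Z : Over S, Smooth Z.hom → Function.Bijective (fun g : Z ⟶ M => (Over.pullback S₀.ι).map g)) :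
    ∀ Z : Over S, Smooth Z.hom → Function.Bijective (fun g : Z ⟶ Over.mk (Limits.pullback.fst N.hom M.hom ≫ N.hom) => (Over.pullback S₀.ι).map g) := by
  intro Z hZ
  rw [Groth.Agent.Lib.Helper14.Neron.bijective_iff]
  obtain ⟨hNi, hNs⟩ := (Groth.Agent.Lib.Helper14.Neron.bijective_iff S₀.ι Z N).1 (hN Z hZ)
  obtain ⟨hMi, hMs⟩ := (Groth.Agent.Lib.Helper14.Neron.bijective_iff S₀.ι Z M).1 (hM Z hZ)
  let p₁ : Over.mk (Limits.pullback.fst N.hom M.hom ≫ N.hom) ⟶ N :=
    Over.homMk (Limits.pullback.fst N.hom M.hom)
  let p₂ : Over.mk (Limits.pullback.fst N.hom M.hom ≫ N.hom) ⟶ M :=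
    Over.homMk (Limits.pullback.snd N.hom M.hom) (by simp [Limits.pullback.condition])
  constructor
  · intro g g' e
    have e1 : g ≫ p₁ = g' ≫ p₁ := hNi _ _ (by
      simp only [Over.comp_left, p₁, Over.homMk_left]
      rw [← Category.assoc, e, Category.assoc])
    have e2 : g ≫ p₂ = g' ≫ p₂ := hMi _ _ (by
      simp only [Over.comp_left, p₂, Over.homMk_left]
      rw [← Category.assoc, e, Category.assoc])
    ext
    apply Limits.pullback.hom_ext
    · exact congrArg (fun t => t.left) e1
    · exact congrArg (fun t => t.left) e2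
  · intro h hh
    have hh' : h ≫ Limits.pullback.fst N.hom M.hom ≫ N.hom =
        Limits.pullback.fst Z.hom S₀.ι ≫ Z.hom := by simpa using hh
    obtain ⟨g₁, hg₁⟩ := hNs (h ≫ Limits.pullback.fst N.hom M.hom) (by
      rw [Category.assoc]; exact hh')
    obtain ⟨g₂, hg₂⟩ := hMs (h ≫ Limits.pullback.snd N.hom M.hom) (by
      rw [Category.assoc, ← Limits.pullback.condition]; exact hh')
    refine ⟨Over.homMk (Limits.pullback.lift g₁.left g₂.left (by rw [Over.w, Over.w])) (by
      simp only [Over.mk_hom]
      rw [Limits.pullback.lift_fst_assoc, Over.w]), ?_⟩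
    apply Limits.pullback.hom_ext
    · simp only [Over.homMk_left, Category.assoc]
      rw [Limits.pullback.lift_fst, hg₁]
    · simp only [Over.homMk_left, Category.assoc]
      rw [Limits.pullback.lift_snd, hg₂]

end Groth.Agent.S13418
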