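import Groth.Statements.S13419
import Mathlib
import Groth.Agent.Lib.Helper14.Neron2

set_option autoImplicit false
universe u
open CategoryTheory AlgebraicGeometry
open NeronHD

namespace Groth.Agent.S13419

/-- Let S be a locally Noetherian scheme over a field of characteristic 0, S₀ ⊆ S₁ ⊆ S opens with S₀
scheme-theoretically dense in S, and N a smooth S-scheme. If N has the Néron mapping property for S₁
⊆ S and the restriction N|S₁ has the Néron mapping property for S₀ ⊆ S₁ (in both cases: restriction
of morphisms from smooth schemes over the base is bijective), then N has the Néron mapping property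
for S₀ ⊆ S. (Case of schemes, with smooth test schemes, of a statement about algebraic spaces.) -/
theorem result {k : Type u} [Field k] [CharZero k] {S : Scheme.{u}} (σ : S ⟶ Spec (CommRingCat.of k)) [IsLocallyNoetherian S] (S₀ S₁ : S.Opens) (h01 : S₀ ≤ S₁) (hS₀ : CInt.IsSchematicallyDense S₀)
    (N : Over S) [Smooth N.hom]
    (hN1 : ∀ Z : Over S, Smooth Z.hom → Function.Bijective (fun g : Z ⟶ N => (Over.pullback S₁.ι).map g))
    (hN10 : ∀ Z : Over (S₁ : Scheme.{u}), Smooth Z.hom → Function.Bijective (fun g : Z ⟶ (Over.pullback S₁.ι).obj N => (Over.pullback (S₁.ι ⁻¹ᵁ S₀).ι).map g)) :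
    ∀ Z : Over S, Smooth Z.hom → Function.Bijective (fun g : Z ⟶ N => (Over.pullback S₀.ι).map g) := by
  intro Z hZ
  rw [Groth.Agent.Lib.Helper14.Neron.bijective_iff]
  obtain ⟨h1i, h1s⟩ := (Groth.Agent.Lib.Helper14.Neron.bijective_iff S₁.ι Z N).1 (hN1 Z hZ)
  have hW : Smooth ((Over.pullback S₁.ι).obj Z).hom := by
    simp only [Over.pullback_obj_hom]; infer_instance
  obtain ⟨h10i, h10s⟩ := (Groth.Agent.Lib.Helper14.Neron.bijective_iff (S₁.ι ⁻¹ᵁ S₀).ι
    ((Over.pullback S₁.ι).obj Z) ((Over.pullback S₁.ι).obj N)).1 (hN10 _ hW)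
  constructor
  · intro u v e
    apply h1i
    rw [← Groth.Agent.Lib.Helper14.Neron.pullback_map_eq_iff]
    apply h10i
    apply Limits.pullback.hom_ext
    · rw [Category.assoc, Category.assoc, Groth.Agent.Lib.Helper14.Neron.pullback_map_left_fst,
        Groth.Agent.Lib.Helper14.Neron.pullback_map_left_fst]
      simp only [Over.pullback_obj_hom, Over.pullback_obj_left]
      rw [Groth.Agent.Lib.Helper14.Neron.fst_eq_theta_psi S₀ S₁ Z h01,
        Category.assoc, Category.assoc, Groth.Agent.Lib.Helper14.Neron.psi_fst_assoc,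
        Groth.Agent.Lib.Helper14.Neron.psi_fst_assoc, e]
    · rw [Category.assoc, Category.assoc, Groth.Agent.Lib.Helper14.Neron.pullback_map_left_snd,
        Groth.Agent.Lib.Helper14.Neron.pullback_map_left_snd]
  · intro h hh
    have hc1 : ((Groth.Agent.Lib.Helper14.Neron.theta S₀ S₁ Z h01).hom ≫ h) ≫ N.hom =
        (Limits.pullback.fst (Limits.pullback.snd Z.hom S₁.ι) (S₁.ι ⁻¹ᵁ S₀).ι ≫
          Limits.pullback.snd Z.hom S₁.ι) ≫ S₁.ι := by
      rw [Category.assoc, hh, Groth.Agent.Lib.Helper14.Neron.theta_hom_fst_assoc, Category.assoc,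
        Limits.pullback.condition]
    obtain ⟨g₁, hg₁⟩ := h10s (Limits.pullback.lift _ _ hc1) (by
      simp only [Over.pullback_obj_hom, Over.pullback_obj_left]
      rw [Limits.pullback.lift_snd])
    have hw : g₁.left ≫ Limits.pullback.snd N.hom S₁.ι = Limits.pullback.snd Z.hom S₁.ι := by
      simpa using Over.w g₁
    obtain ⟨g, hg⟩ := h1s (g₁.left ≫ Limits.pullback.fst N.hom S₁.ι) (by
      rw [Category.assoc, Limits.pullback.condition, ← Category.assoc, hw,
        Limits.pullback.condition])
    refine ⟨g, ?_⟩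
    simp only [Over.pullback_obj_hom, Over.pullback_obj_left] at hg₁
    rw [← Groth.Agent.Lib.Helper14.Neron.theta_inv_fst S₀ S₁ Z h01, Category.assoc, Category.assoc,
      hg, ← Category.assoc (Limits.pullback.fst _ _), hg₁, Limits.pullback.lift_fst,
      Iso.inv_hom_id_assoc]

end Groth.Agent.S13419
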