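import Groth.Statements.S13420
import Mathlib
import Groth.Agent.Lib.Helper14.Neron2

set_option autoImplicit false
universe u
open CategoryTheory AlgebraicGeometry
open NeronHD

namespace Groth.Agent.S13420

/-- Let S be a locally Noetherian scheme over a field of characteristic 0, S₀ ⊆ S₁ ⊆ S opens with S₀
scheme-theoretically dense in S, and N a smooth S-scheme. If N has the Néron mapping property for S₀
⊆ S and N|S₁ has the Néron mapping property for S₀ ⊆ S₁ (restriction of morphisms from smooth
schemes over the base is bijective), then N has the Néron mapping property for S₁ ⊆ S. (Case of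
schemes, with smooth test schemes, of a statement about algebraic spaces.) -/
theorem result {k : Type u} [Field k] [CharZero k] {S : Scheme.{u}} (σ : S ⟶ Spec (CommRingCat.of k)) [IsLocallyNoetherian S] (S₀ S₁ : S.Opens) (h01 : S₀ ≤ S₁) (hS₀ : CInt.IsSchematicallyDense S₀)
    (N : Over S) [Smooth N.hom]
    (hN0 : ∀ Z : Over S, Smooth Z.hom → Function.Bijective (fun g : Z ⟶ N => (Over.pullback S₀.ι).map g))
    (hN10 : ∀ Z : Over (S₁ : Scheme.{u}), Smooth Z.hom → Function.Bijective (fun g : Z ⟶ (Over.pullback S₁.ι).obj N => (Over.pullback (S₁.ι ⁻¹ᵁ S₀).ι).map g)) :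
    ∀ Z : Over S, Smooth Z.hom → Function.Bijective (fun g : Z ⟶ N => (Over.pullback S₁.ι).map g) := by
  intro Z hZ
  rw [Groth.Agent.Lib.Helper14.Neron.bijective_iff]
  obtain ⟨h0i, h0s⟩ := (Groth.Agent.Lib.Helper14.Neron.bijective_iff S₀.ι Z N).1 (hN0 Z hZ)
  have hW : Smooth ((Over.pullback S₁.ι).obj Z).hom := by
    simp only [Over.pullback_obj_hom]; infer_instance
  obtain ⟨h10i, h10s⟩ := (Groth.Agent.Lib.Helper14.Neron.bijective_iff (S₁.ι ⁻¹ᵁ S₀).ι
    ((Over.pullback S₁.ι).obj Z) ((Over.pullback S₁.ι).obj N)).1 (hN10 _ hW)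
  constructor
  · intro g g' e
    apply h0i
    rw [← Groth.Agent.Lib.Helper14.Neron.psi_fst S₀ S₁ Z h01, Category.assoc, e, Category.assoc]
  · intro h hh
    obtain ⟨g, hg⟩ := h0s (Groth.Agent.Lib.Helper14.Neron.psi S₀ S₁ Z h01 ≫ h) (by
      rw [Category.assoc, hh, Groth.Agent.Lib.Helper14.Neron.psi_fst_assoc])
    refine ⟨g, ?_⟩
    have hc : h ≫ N.hom = Limits.pullback.snd Z.hom S₁.ι ≫ S₁.ι := by
      rw [hh, Limits.pullback.condition]
    let g₁' : (Over.pullback S₁.ι).obj Z ⟶ (Over.pullback S₁.ι).obj N :=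
      Over.homMk (Limits.pullback.lift h (Limits.pullback.snd Z.hom S₁.ι) hc) (by
        simp only [Over.pullback_obj_hom, Over.pullback_obj_left]
        rw [Limits.pullback.lift_snd])
    have key : (Over.pullback S₁.ι).map g = g₁' := h10i _ _ (by
      apply Limits.pullback.hom_ext
      · rw [Category.assoc, Category.assoc, Groth.Agent.Lib.Helper14.Neron.pullback_map_left_fst]
        simp only [g₁', Over.homMk_left, Over.pullback_obj_hom, Over.pullback_obj_left]
        rw [Limits.pullback.lift_fst, Groth.Agent.Lib.Helper14.Neron.fst_eq_theta_psi S₀ S₁ Z h01,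
          Category.assoc, Category.assoc, Groth.Agent.Lib.Helper14.Neron.psi_fst_assoc, hg]
      · rw [Category.assoc, Category.assoc, Groth.Agent.Lib.Helper14.Neron.pullback_map_left_snd]
        simp only [g₁', Over.homMk_left, Over.pullback_obj_hom, Over.pullback_obj_left]
        rw [Limits.pullback.lift_snd])
    have h1 := congrArg (fun t => t.left ≫ Limits.pullback.fst N.hom S₁.ι) key
    simp only [g₁', Over.homMk_left] at h1
    rw [Groth.Agent.Lib.Helper14.Neron.pullback_map_left_fst, Limits.pullback.lift_fst] at h1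
    exact h1

end Groth.Agent.S13420
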