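import Groth.Statements.S13421
import Mathlib
import Groth.Agent.Lib.Helper14.Neron3

set_option autoImplicit false
universe u
open CategoryTheory AlgebraicGeometry
open NeronHD

namespace Groth.Agent.S13421

/-- Let T be a locally Noetherian scheme over a field of characteristic 0 and T₀ ⊆ T a
scheme-theoretically dense open. Let f : S → T be étale and such that S, viewed as a T-scheme, has
the Néron mapping property for T₀ ⊆ T, and let g : N → S be smooth and such that N, viewed as an
S-scheme, has the Néron mapping property for f⁻¹(T₀) ⊆ S (restriction of morphisms from smooth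
schemes over the base is bijective). Then N → T, the composite g ≫ f, has the Néron mapping property
for T₀ ⊆ T. (Case of schemes, with smooth test schemes, of a statement about algebraic spaces.) -/
theorem result {k : Type u} [Field k] [CharZero k] {T : Scheme.{u}} (τ : T ⟶ Spec (CommRingCat.of k)) [IsLocallyNoetherian T] (T₀ : T.Opens) (hT₀ : CInt.IsSchematicallyDense T₀)
    {S N : Scheme.{u}} (f : S ⟶ T) [Etale f] (g : N ⟶ S) [Smooth g]
    (hS : ∀ Z : Over T, Smooth Z.hom → Function.Bijective (fun g : Z ⟶ Over.mk f => (Over.pullback T₀.ι).map g))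
    (hN : ∀ Z : Over S, Smooth Z.hom → Function.Bijective (fun g : Z ⟶ Over.mk g => (Over.pullback (f ⁻¹ᵁ T₀).ι).map g)) :
    ∀ Z : Over T, Smooth Z.hom → Function.Bijective (fun g : Z ⟶ Over.mk (g ≫ f) => (Over.pullback T₀.ι).map g) := by
  intro Z hZ
  rw [Groth.Agent.Lib.Helper14.Neron.bijective_iff]
  obtain ⟨hSi, hSs⟩ := (Groth.Agent.Lib.Helper14.Neron.bijective_iff T₀.ι Z (Over.mk f)).1 (hS Z hZ)
  let g' : Over.mk (g ≫ f) ⟶ Over.mk f := Over.homMk g
  constructor
  · intro u v e
    have e1 : u ≫ g' = v ≫ g' := hSi _ _ (by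
      simp only [Over.comp_left, g', Over.homMk_left]
      rw [← Category.assoc, e, Category.assoc])
    have e1' : v.left ≫ g = u.left ≫ g := (congrArg (fun t => t.left) e1).symm
    have hwu : (u.left ≫ g) ≫ f = Z.hom := by
      rw [Category.assoc]; exact Over.w u
    have hsm : Smooth (Over.mk (u.left ≫ g)).hom := by
      have : Smooth ((u.left ≫ g) ≫ f) := by rw [hwu]; exact hZ
      exact Groth.Agent.Lib.Helper14.Neron.smooth_of_comp_etale (u.left ≫ g) f
    obtain ⟨hNi, -⟩ := (Groth.Agent.Lib.Helper14.Neron.bijective_iff (f ⁻¹ᵁ T₀).ι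
      (Over.mk (u.left ≫ g)) (Over.mk g)).1 (hN _ hsm)
    have key := hNi (Over.homMk u.left rfl) (Over.homMk v.left e1') (by
      simp only [Over.homMk_left, Over.mk_hom]
      rw [← Groth.Agent.Lib.Helper14.Neron.theta'_hom_fst T₀ f (u.left ≫ g) Z.hom hwu,
        Category.assoc, Category.assoc, e])
    ext
    exact congrArg (fun t => t.left) key
  · intro h hh
    have hh' : h ≫ g ≫ f = Limits.pullback.fst Z.hom T₀.ι ≫ Z.hom := by simpa using hh
    obtain ⟨a, ha⟩ := hSs (h ≫ g) (by rw [Category.assoc]; exact hh')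
    have hwa : a.left ≫ f = Z.hom := Over.w a
    have hsm : Smooth (Over.mk a.left).hom := by
      have : Smooth (a.left ≫ f) := by rw [hwa]; exact hZ
      exact Groth.Agent.Lib.Helper14.Neron.smooth_of_comp_etale a.left f
    obtain ⟨-, hNs⟩ := (Groth.Agent.Lib.Helper14.Neron.bijective_iff (f ⁻¹ᵁ T₀).ι
      (Over.mk a.left) (Over.mk g)).1 (hN _ hsm)
    obtain ⟨b, hb⟩ := hNs ((Groth.Agent.Lib.Helper14.Neron.theta' T₀ f a.left Z.hom hwa).hom ≫ h) (by
      simp only [Over.mk_hom]
      rw [Category.assoc, ← ha, Groth.Agent.Lib.Helper14.Neron.theta'_hom_fst_assoc])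
    have hwb : b.left ≫ g = a.left := Over.w b
    refine ⟨Over.homMk b.left (by
      simp only [Over.mk_hom]
      rw [← Category.assoc, hwb, hwa]), ?_⟩
    simp only [Over.homMk_left, Over.mk_hom] at hb ⊢
    rw [← Groth.Agent.Lib.Helper14.Neron.theta'_inv_fst T₀ f a.left Z.hom hwa, Category.assoc, hb,
      Iso.inv_hom_id_assoc]

end Groth.Agent.S13421
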