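import Groth.Statements.S13427
import Mathlib
import Groth.Agent.Lib.Helper14.Neron1

set_option autoImplicit false
universe u
open CategoryTheory AlgebraicGeometry
open NeronHD

namespace Groth.Agent.S13427

/-- Let S be a locally Noetherian scheme over a field of characteristic 0, S₀ ⊆ S a scheme-theoretically
dense open, and G, H smooth S-schemes with the Néron mapping property for S₀ ⊆ S (restriction to S₀
of S-morphisms from smooth S-schemes is bijective). Let f : G → H be an S-morphism and e : S → H a
section of H → S, and let K = G ×_H S be the fibre of f over e (the case in view: f a homomorphism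
of smooth group schemes, e the unit, K the kernel, so that 1 → K → G → H is left exact). If K → S is
smooth, then K has the Néron mapping property for S₀ ⊆ S. (Case of schemes, with smooth test
schemes, of a statement about group algebraic spaces.) -/
theorem result {k : Type u} [Field k] [CharZero k] {S : Scheme.{u}} (σ : S ⟶ Spec (CommRingCat.of k)) [IsLocallyNoetherian S] (S₀ : S.Opens) (hS₀ : CInt.IsSchematicallyDense S₀)
    (G H : Over S) [Smooth G.hom] [Smooth H.hom]
    (hG : ∀ Z : Over S, Smooth Z.hom → Function.Bijective (fun g : Z ⟶ G => (Over.pullback S₀.ι).map g))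
    (hH : ∀ Z : Over S, Smooth Z.hom → Function.Bijective (fun g : Z ⟶ H => (Over.pullback S₀.ι).map g))
    (f : G ⟶ H) (e : S ⟶ H.left) (he : e ≫ H.hom = 𝟙 S)
    [Smooth (Limits.pullback.snd f.left e)] :
    ∀ Z : Over S, Smooth Z.hom → Function.Bijective (fun g : Z ⟶ Over.mk (Limits.pullback.snd f.left e) => (Over.pullback S₀.ι).map g) := by
  intro Z hZ
  rw [Groth.Agent.Lib.Helper14.Neron.bijective_iff]
  obtain ⟨hGi, hGs⟩ := (Groth.Agent.Lib.Helper14.Neron.bijective_iff S₀.ι Z G).1 (hG Z hZ)
  obtain ⟨hHi, hHs⟩ := (Groth.Agent.Lib.Helper14.Neron.bijective_iff S₀.ι Z H).1 (hH Z hZ)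
  have hk : Limits.pullback.fst f.left e ≫ G.hom = Limits.pullback.snd f.left e := by
    rw [← Over.w f, ← Category.assoc, Limits.pullback.condition, Category.assoc, he,
      Category.comp_id]
  let k₁ : Over.mk (Limits.pullback.snd f.left e) ⟶ G :=
    Over.homMk (Limits.pullback.fst f.left e) hk
  constructor
  · intro g g' e'
    have e1 : g ≫ k₁ = g' ≫ k₁ := hGi _ _ (by
      simp only [Over.comp_left, k₁, Over.homMk_left]
      rw [← Category.assoc, e', Category.assoc])
    ext
    apply Limits.pullback.hom_ext
    · exact congrArg (fun t => t.left) e1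
    · have h1 := Over.w g
      have h2 := Over.w g'
      simp only [Over.mk_hom] at h1 h2
      rw [h1, h2]
  · intro h hh
    have hh' : h ≫ Limits.pullback.snd f.left e = Limits.pullback.fst Z.hom S₀.ι ≫ Z.hom := by
      simpa using hh
    obtain ⟨g₁, hg₁⟩ := hGs (h ≫ Limits.pullback.fst f.left e) (by
      rw [Category.assoc, hk]; exact hh')
    have e2 : g₁ ≫ f = Over.homMk (Z.hom ≫ e) (by rw [Category.assoc, he, Category.comp_id]) :=
      hHi _ _ (by
        simp only [Over.comp_left, Over.homMk_left]
        rw [← Category.assoc, hg₁, Category.assoc, Limits.pullback.condition, ← Category.assoc,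
          hh', Category.assoc])
    have e3 : g₁.left ≫ f.left = Z.hom ≫ e := congrArg (fun t => t.left) e2
    refine ⟨Over.homMk (Limits.pullback.lift g₁.left Z.hom e3) (by
      simp only [Over.mk_hom]
      rw [Limits.pullback.lift_snd]), ?_⟩
    apply Limits.pullback.hom_ext
    · simp only [Over.homMk_left, Category.assoc]
      rw [Limits.pullback.lift_fst, hg₁]
    · simp only [Over.homMk_left, Category.assoc]
      rw [Limits.pullback.lift_snd, hh']

end Groth.Agent.S13427
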