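import Groth.Statements.S1343
import Groth.Agent.Lib.Helper5.CMQF12
import Groth.Agent.Lib.Helper3.FibreDimNat

set_option autoImplicit false
universe u
open FlatMor

namespace Groth.Agent.S1343

open AlgebraicGeometry CategoryTheory Limits in
/-- (1) ⇔ (3): let f be flat and locally of finite presentation and let x be a point whose fibre has
local dimension d at x. Then f is Cohen–Macaulay at x if and only if some open neighbourhood of x
admits a flat, locally quasi-finite morphism to affine d-space over the base, compatible with the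
structure morphisms. -/
theorem result {X S : Scheme.{u}} (f : X ⟶ S) [Flat f] [LocallyOfFinitePresentation f]
    (x : X) (d : ℕ) (hd : FlatMor.fibreDimAt f x = d) :
    MoreMor.IsCMAt f x ↔ ∃ (U : X.Opens) (g : (U : Scheme.{u}) ⟶ 𝔸(ULift.{u} (Fin d); S)), x ∈ U ∧
      g ≫ (𝔸(ULift.{u} (Fin d); S) ↘ S) = U.ι ≫ f ∧ Flat g ∧ LocallyQuasiFinite g := by
  constructor
  · intro hcm
    obtain ⟨r, d', U, hx, g, h1, h2, h3, h4, h5⟩ :=
      Groth.Agent.Lib.helper5.CMQF.exists_flat_quasiFinite_of_isCMAt f x hcm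
    obtain ⟨a, b, ha, hb, hab⟩ := Groth.Agent.Lib.helper3.DimFibre.fibreDimAt_eq_add f x
    have har : a = r := by
      rw [ha] at h4
      exact_mod_cast h4
    have hbd : b = d' := by
      rw [hb] at h5
      exact_mod_cast h5
    have hdd : d = r + d' := by
      rw [hab, har, hbd] at hd
      exact_mod_cast hd.symm
    subst hdd
    exact ⟨U, g, hx, h1, h3, h2⟩
  · rintro ⟨U, g, hx, h1, h2, h3⟩
    haveI := h2
    haveI := h3
    have h4 := Groth.Agent.Lib.helper5.CMQF.isCMAt_of_quasiFinite_flat (U.ι ≫ f)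
      (ULift.{u} (Fin d)) g h1 ⟨x, hx⟩ (AlgebraicGeometry.Flat.stalkMap g _)
    exact (Groth.Agent.Lib.helper5.CMQF.isCMAt_comp_iff_of_isOpenImmersion U.ι f ⟨x, hx⟩).mp h4

end Groth.Agent.S1343
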