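import Groth.Statements.S13438
import Mathlib
import Groth.Agent.Lib.Helper10.TgtSocle

set_option autoImplicit false
universe u
open W4c1hilbpn

namespace Groth.Agent.S13438

set_option linter.style.haveILetI false
set_option linter.unusedSectionVars false
open MvPolynomial W4c1hilbpn Groth.Agent.Lib.helper10.TgtMono

theorem e3_zero (a b c : ℕ) : e3 a b c 0 = a := rfl
theorem e3_one (a b c : ℕ) : e3 a b c 1 = b := rfl
theorem e3_two (a b c : ℕ) : e3 a b c 2 = c := rfl

theorem eq_e3 (β : Fin 3 →₀ ℕ) : β = e3 (β 0) (β 1) (β 2) := by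
  ext i
  fin_cases i <;> rfl

theorem e3_le_iff (a b c : ℕ) (γ : Fin 3 →₀ ℕ) : e3 a b c ≤ γ ↔ a ≤ γ 0 ∧ b ≤ γ 1 ∧ c ≤ γ 2 := by
  constructor
  · intro h
    exact ⟨h 0, h 1, h 2⟩
  · rintro ⟨h0, h1, h2⟩ i
    fin_cases i
    · exact h0
    · exact h1
    · exact h2

/-- generic case: generator `g`, the two indices `p q` of its support, third index `s`. -/
theorem core (k : Type u) [Field k]
    (I : Ideal (MvPolynomial (Fin 3) k)) (hI : IsMonomial I)
    [Module.Finite k (MvPolynomial (Fin 3) k ⧸ I)]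
    (p q s : Fin 3) (hpq : p ≠ q) (hps : p ≠ s) (hqs : q ≠ s)
    (g γ0 : Fin 3 →₀ ℕ) (hg : g ∈ exps I) (hgs : g s = 0)
    (hmin : ∀ i, ∀ β0 : Fin 3 →₀ ℕ, g = β0 + Finsupp.single i 1 → β0 ∉ exps I)
    (hγ0 : γ0 ∉ exps I)
    (hbox : ∀ γ : Fin 3 →₀ ℕ, γ0 ≤ γ → γ ∉ exps I → γ p < g p ∧ γ q < g q) :
    sigPiece I ({p, q} : Set (Fin 3)) ≠ ⊥ := by
  apply sigPiece_ne_bot_of_box hI ({p, q} : Set (Fin 3)) hg hmin hγ0
  · intro γ h1 h2 i hi
    rcases hi with rfl | hi
    · exact (hbox γ h1 h2).1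
    · rw [Set.mem_singleton_iff] at hi
      subst hi
      exact (hbox γ h1 h2).2
  · intro i hi
    have : i = s := by
      have h1 : i ≠ p := fun e => hi (by rw [e]; exact Set.mem_insert _ _)
      have h2 : i ≠ q := fun e => hi (by rw [e]; exact Set.mem_insert_of_mem _ rfl)
      fin_cases i <;> fin_cases p <;> fin_cases q <;> fin_cases s <;> simp_all
    rw [this]
    exact hgs

theorem main (k : Type u) [Field k] [Infinite k]
    (I : Ideal (MvPolynomial (Fin 3) k)) (hI : IsMonomial I) [Module.Finite k (MvPolynomial (Fin 3) k ⧸ I)]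
    (a1 a2 b1 b3 c2 c3 : ℕ) (ha1 : 0 < a1) (ha2 : 0 < a2) (hb1 : 0 < b1) (hb3 : 0 < b3)
    (hc2 : 0 < c2) (hc3 : 0 < c3)
    (hA : e3 a1 a2 0 ∈ exps I ∧ e3 (a1 - 1) a2 0 ∉ exps I ∧ e3 a1 (a2 - 1) 0 ∉ exps I)
    (hB : e3 b1 0 b3 ∈ exps I ∧ e3 (b1 - 1) 0 b3 ∉ exps I ∧ e3 b1 0 (b3 - 1) ∉ exps I)
    (hC : e3 0 c2 c3 ∈ exps I ∧ e3 0 (c2 - 1) c3 ∉ exps I ∧ e3 0 c2 (c3 - 1) ∉ exps I)
    (hcase : (b1 ≤ a1 ∧ c2 ≤ a2) ∨ (a1 ≤ b1 ∧ c3 ≤ b3) ∨ (a2 ≤ c2 ∧ b3 ≤ c3)) :
    sigPiece I ({0, 1} : Set (Fin 3)) ≠ ⊥ ∨ sigPiece I ({0, 2} : Set (Fin 3)) ≠ ⊥ ∨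
      sigPiece I ({1, 2} : Set (Fin 3)) ≠ ⊥ := by
  -- pure powers not in the ideal
  have hnotle : ∀ {γ γ' : Fin 3 →₀ ℕ}, γ' ∉ exps I → γ ≤ γ' → γ ∉ exps I :=
    fun h hle hγ => h (exps_of_le hγ hle)
  rcases hcase with ⟨h1, h2⟩ | ⟨h1, h2⟩ | ⟨h1, h2⟩
  · left
    refine core k I hI 0 1 2 (by decide) (by decide) (by decide) (e3 a1 a2 0)
      (e3 0 0 (max b3 c3)) hA.1 rfl ?_ ?_ ?_
    · intro i β0 e
      have e0 := DFunLike.congr_fun e 0
      have e1 := DFunLike.congr_fun e 1
      have e2 := DFunLike.congr_fun e 2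
      rw [Finsupp.add_apply, e3_zero] at e0
      rw [Finsupp.add_apply, e3_one] at e1
      rw [Finsupp.add_apply, e3_two] at e2
      fin_cases i
      · have : β0 = e3 (a1 - 1) a2 0 := by
          rw [eq_e3 β0]
          simp only [Fin.zero_eta, Finsupp.single_eq_same] at e0
          rw [Finsupp.single_eq_of_ne (by decide)] at e1 e2
          congr <;> omega
        rw [this]
        exact hA.2.1
      · have : β0 = e3 a1 (a2 - 1) 0 := by
          rw [eq_e3 β0]
          simp only [Fin.mk_one, Finsupp.single_eq_same] at e1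
          rw [Finsupp.single_eq_of_ne (by decide)] at e0 e2
          congr <;> omega
        rw [this]
        exact hA.2.2
      · simp only [Fin.reduceFinMk, Finsupp.single_eq_same] at e2
        omega
    · rcases max_choice b3 c3 with h | h
      · rw [h]
        exact hnotle hB.2.1 ((e3_le_iff _ _ _ _).mpr ⟨Nat.zero_le _, le_refl _, le_refl _⟩)
      · rw [h]
        exact hnotle hC.2.1 ((e3_le_iff _ _ _ _).mpr ⟨le_refl _, Nat.zero_le _, le_refl _⟩)
    · intro γ hle hγ
      rw [e3_le_iff] at hle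
      rw [e3_zero, e3_one]
      constructor
      · by_contra h
        apply hγ
        apply exps_of_le hB.1
        rw [e3_le_iff]
        exact ⟨by omega, Nat.zero_le _, (le_max_left _ _).trans hle.2.2⟩
      · by_contra h
        apply hγ
        apply exps_of_le hC.1
        rw [e3_le_iff]
        exact ⟨Nat.zero_le _, by omega, (le_max_right _ _).trans hle.2.2⟩
  · right; left
    refine core k I hI 0 2 1 (by decide) (by decide) (by decide) (e3 b1 0 b3)
      (e3 0 (max a2 c2) 0) hB.1 rfl ?_ ?_ ?_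
    · intro i β0 e
      have e0 := DFunLike.congr_fun e 0
      have e1 := DFunLike.congr_fun e 1
      have e2 := DFunLike.congr_fun e 2
      rw [Finsupp.add_apply, e3_zero] at e0
      rw [Finsupp.add_apply, e3_one] at e1
      rw [Finsupp.add_apply, e3_two] at e2
      fin_cases i
      · have : β0 = e3 (b1 - 1) 0 b3 := by
          rw [eq_e3 β0]
          simp only [Fin.zero_eta, Finsupp.single_eq_same] at e0
          rw [Finsupp.single_eq_of_ne (by decide)] at e1 e2
          congr <;> omega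
        rw [this]
        exact hB.2.1
      · simp only [Fin.mk_one, Finsupp.single_eq_same] at e1
        omega
      · have : β0 = e3 b1 0 (b3 - 1) := by
          rw [eq_e3 β0]
          simp only [Fin.reduceFinMk, Finsupp.single_eq_same] at e2
          rw [Finsupp.single_eq_of_ne (by decide)] at e0 e1
          congr <;> omega
        rw [this]
        exact hB.2.2
    · rcases max_choice a2 c2 with h | h
      · rw [h]
        exact hnotle hA.2.1 ((e3_le_iff _ _ _ _).mpr ⟨Nat.zero_le _, le_refl _, le_refl _⟩)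
      · rw [h]
        exact hnotle hC.2.2 ((e3_le_iff _ _ _ _).mpr ⟨le_refl _, le_refl _, Nat.zero_le _⟩)
    · intro γ hle hγ
      rw [e3_le_iff] at hle
      rw [e3_zero, e3_two]
      constructor
      · by_contra h
        apply hγ
        apply exps_of_le hA.1
        rw [e3_le_iff]
        exact ⟨by omega, (le_max_left _ _).trans hle.2.1, Nat.zero_le _⟩
      · by_contra h
        apply hγ
        apply exps_of_le hC.1
        rw [e3_le_iff]
        exact ⟨Nat.zero_le _, (le_max_right _ _).trans hle.2.1, by omega⟩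
  · right; right
    refine core k I hI 1 2 0 (by decide) (by decide) (by decide) (e3 0 c2 c3)
      (e3 (max a1 b1) 0 0) hC.1 rfl ?_ ?_ ?_
    · intro i β0 e
      have e0 := DFunLike.congr_fun e 0
      have e1 := DFunLike.congr_fun e 1
      have e2 := DFunLike.congr_fun e 2
      rw [Finsupp.add_apply, e3_zero] at e0
      rw [Finsupp.add_apply, e3_one] at e1
      rw [Finsupp.add_apply, e3_two] at e2
      fin_cases i
      · simp only [Fin.zero_eta, Finsupp.single_eq_same] at e0
        omega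
      · have : β0 = e3 0 (c2 - 1) c3 := by
          rw [eq_e3 β0]
          simp only [Fin.mk_one, Finsupp.single_eq_same] at e1
          rw [Finsupp.single_eq_of_ne (by decide)] at e0 e2
          congr <;> omega
        rw [this]
        exact hC.2.1
      · have : β0 = e3 0 c2 (c3 - 1) := by
          rw [eq_e3 β0]
          simp only [Fin.reduceFinMk, Finsupp.single_eq_same] at e2
          rw [Finsupp.single_eq_of_ne (by decide)] at e0 e1
          congr <;> omega
        rw [this]
        exact hC.2.2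
    · rcases max_choice a1 b1 with h | h
      · rw [h]
        exact hnotle hA.2.2 ((e3_le_iff _ _ _ _).mpr ⟨le_refl _, Nat.zero_le _, le_refl _⟩)
      · rw [h]
        exact hnotle hB.2.2 ((e3_le_iff _ _ _ _).mpr ⟨le_refl _, le_refl _, Nat.zero_le _⟩)
    · intro γ hle hγ
      rw [e3_le_iff] at hle
      rw [e3_one, e3_two]
      constructor
      · by_contra h
        apply hγ
        apply exps_of_le hA.1
        rw [e3_le_iff]
        exact ⟨(le_max_left _ _).trans hle.1, by omega, Nat.zero_le _⟩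
      · by_contra h
        apply hγ
        apply exps_of_le hB.1
        rw [e3_le_iff]
        exact ⟨(le_max_right _ _).trans hle.1, Nat.zero_le _, by omega⟩



open W4c1hilbpn in
/-- Let k be an infinite field, S = k[x,y,z], and T(I) = Hom_S(I, S/I) graded by triples of integers (a
graded piece is indexed by its multidegree; its sign pattern records which of the three entries are
negative); let I be a monomial ideal of finite colength whose minimal monomial generators include
x^a1 y^a2, x^b1 z^b3 and y^c2 z^c3 with all six exponents positive, and assume a1 ≥ b1 and a2 ≥ c2,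
or b1 ≥ a1 and b3 ≥ c3, or c2 ≥ a2 and c3 ≥ b3. Then T(I) has a nonzero graded piece whose sign
pattern is negative at exactly two of the three variables. (The published statement draws the
conclusion that the corresponding point of the Hilbert scheme of points of affine 3-space is
singular; this row records the nonvanishing of a tangent piece of forbidden sign pattern, from which
singularity follows by the smoothness criterion for monomial points.) -/
theorem result (k : Type u) [Field k] [Infinite k]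
    (I : Ideal (MvPolynomial (Fin 3) k)) (hI : IsMonomial I) [Module.Finite k (MvPolynomial (Fin 3) k ⧸ I)]
    (a1 a2 b1 b3 c2 c3 : ℕ) (ha1 : 0 < a1) (ha2 : 0 < a2) (hb1 : 0 < b1) (hb3 : 0 < b3)
    (hc2 : 0 < c2) (hc3 : 0 < c3)
    (hA : e3 a1 a2 0 ∈ exps I ∧ e3 (a1 - 1) a2 0 ∉ exps I ∧ e3 a1 (a2 - 1) 0 ∉ exps I)
    (hB : e3 b1 0 b3 ∈ exps I ∧ e3 (b1 - 1) 0 b3 ∉ exps I ∧ e3 b1 0 (b3 - 1) ∉ exps I)
    (hC : e3 0 c2 c3 ∈ exps I ∧ e3 0 (c2 - 1) c3 ∉ exps I ∧ e3 0 c2 (c3 - 1) ∉ exps I)
    (hcase : (b1 ≤ a1 ∧ c2 ≤ a2) ∨ (a1 ≤ b1 ∧ c3 ≤ b3) ∨ (a2 ≤ c2 ∧ b3 ≤ c3)) :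
    sigPiece I ({0, 1} : Set (Fin 3)) ≠ ⊥ ∨ sigPiece I ({0, 2} : Set (Fin 3)) ≠ ⊥ ∨
      sigPiece I ({1, 2} : Set (Fin 3)) ≠ ⊥ := by
  exact main k I hI a1 a2 b1 b3 c2 c3 ha1 ha2 hb1 hb3 hc2 hc3 hA hB hC hcase

end Groth.Agent.S13438
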