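import Groth.Statements.S13439
import Mathlib
import Groth.Agent.Lib.Helper10.TgtSocle
import Groth.Agent.S13438

set_option autoImplicit false
universe u
open W4c1hilbpn

namespace Groth.Agent.S13439

set_option linter.style.haveILetI false
set_option linter.unusedSectionVars false
open MvPolynomial W4c1hilbpn Groth.Agent.Lib.helper10.TgtMono
open scoped Classical

theorem e3_zero (a b c : ℕ) : e3 a b c 0 = a := rfl
theorem e3_one (a b c : ℕ) : e3 a b c 1 = b := rfl
theorem e3_two (a b c : ℕ) : e3 a b c 2 = c := rfl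

theorem e3_le_iff (a b c : ℕ) (γ : Fin 3 →₀ ℕ) : e3 a b c ≤ γ ↔ a ≤ γ 0 ∧ b ≤ γ 1 ∧ c ≤ γ 2 := by
  constructor
  · intro h
    exact ⟨h 0, h 1, h 2⟩
  · rintro ⟨h0, h1, h2⟩ i
    fin_cases i
    · exact h0
    · exact h1
    · exact h2

theorem e3_ext {β β' : Fin 3 →₀ ℕ} (h0 : β 0 = β' 0) (h1 : β 1 = β' 1) (h2 : β 2 = β' 2) :
    β = β' := by
  ext i
  fin_cases i
  · exact h0
  · exact h1
  · exact h2

theorem forward (k : Type u) [Field k]
    (I : Ideal (MvPolynomial (Fin 3) k)) (hI : IsMonomial I)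
    [Module.Finite k (MvPolynomial (Fin 3) k ⧸ I)]
    (hx : (MvPolynomial.X 0 : MvPolynomial (Fin 3) k) ∈ I) :
    (sigPiece I ({1, 2} : Set (Fin 3)) = ⊥ ∧ sigPiece I ({0, 2} : Set (Fin 3)) = ⊥ ∧
        sigPiece I ({0, 1} : Set (Fin 3)) = ⊥) := by
  have hx' : Finsupp.single (0 : Fin 3) 1 ∈ exps I := hx
  refine ⟨?_, ?_, ?_⟩
  · rw [sigPiece_eq_bot_iff]
    intro α hα
    have h0 : ¬ α 0 < 0 := fun h => by
      have := (hα 0).mp h
      simp at this
    have h1 : α 1 < 0 := (hα 1).mpr (by simp)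
    have h2 : α 2 < 0 := (hα 2).mpr (by simp)
    by_cases hpos : 0 < α 0
    · exact tPiece_eq_bot_of_var_pos hI hx' hpos
    · refine tPiece_eq_bot_of_nonpos hI ?_ (i0 := 1) (j0 := 2) (by decide) h1 h2
      intro i
      fin_cases i
      · simp only [Fin.zero_eta]; omega
      · exact h1.le
      · exact h2.le
  · rw [sigPiece_eq_bot_iff]
    intro α hα
    have h0 : α 0 < 0 := (hα 0).mpr (by simp)
    have h2 : α 2 < 0 := (hα 2).mpr (by simp)
    exact tPiece_eq_bot_of_var_neg hI hx' h0 h2 (by decide)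
  · rw [sigPiece_eq_bot_iff]
    intro α hα
    have h0 : α 0 < 0 := (hα 0).mpr (by simp)
    have h1 : α 1 < 0 := (hα 1).mpr (by simp)
    exact tPiece_eq_bot_of_var_neg hI hx' h0 h1 (by decide)

theorem main (k : Type u) [Field k] [Infinite k]
    (I : Ideal (MvPolynomial (Fin 3) k)) (hI : IsStronglyStable I) [Module.Finite k (MvPolynomial (Fin 3) k ⧸ I)] :
    (MvPolynomial.X 0 : MvPolynomial (Fin 3) k) ∈ I ↔
      (sigPiece I ({1, 2} : Set (Fin 3)) = ⊥ ∧ sigPiece I ({0, 2} : Set (Fin 3)) = ⊥ ∧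
        sigPiece I ({0, 1} : Set (Fin 3)) = ⊥) := by
  refine ⟨forward k I hI.1, fun hbot => ?_⟩
  by_contra hx
  have hmono := hI.1
  have hx' : e3 1 0 0 ∉ exps I := by
    intro h
    apply hx
    have e : Finsupp.single (0 : Fin 3) 1 = e3 1 0 0 := by
      apply e3_ext <;> simp [e3_zero, e3_one, e3_two]
    have : (X 0 : MvPolynomial (Fin 3) k) = monomial (e3 1 0 0) 1 := by
      rw [X, e]
    rw [this]
    exact h
  -- stability moves
  have st01 : ∀ a b c : ℕ, e3 a (b + 1) c ∈ exps I → e3 (a + 1) b c ∈ exps I := by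
    intro a b c h
    have := hI.2 _ h 0 1 (by decide) (by rw [e3_one]; omega)
    convert this using 1
    apply e3_ext <;> simp [e3_zero, e3_one, e3_two]
  have st02 : ∀ a b c : ℕ, e3 a b (c + 1) ∈ exps I → e3 (a + 1) b c ∈ exps I := by
    intro a b c h
    have := hI.2 _ h 0 2 (by decide) (by rw [e3_two]; omega)
    convert this using 1
    apply e3_ext <;> simp [e3_zero, e3_one, e3_two]
  have st12 : ∀ a b c : ℕ, e3 a b (c + 1) ∈ exps I → e3 a (b + 1) c ∈ exps I := by
    intro a b c h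
    have := hI.2 _ h 1 2 (by decide) (by rw [e3_two]; omega)
    convert this using 1
    apply e3_ext <;> simp [e3_zero, e3_one, e3_two]
  have hy' : e3 0 1 0 ∉ exps I := fun h => hx' (st01 0 0 0 h)
  -- the three exponents
  obtain ⟨N1, hN1⟩ := exists_single_mem hmono (1 : Fin 3)
  obtain ⟨N2, hN2⟩ := exists_single_mem hmono (2 : Fin 3)
  have hexA : ∃ a, e3 1 a 0 ∈ exps I := by
    refine ⟨N1, exps_of_le hN1 fun l => ?_⟩
    fin_cases l <;> simp [e3_zero, e3_one, e3_two]
  have hexB : ∃ b, e3 1 0 b ∈ exps I := by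
    refine ⟨N2, exps_of_le hN2 fun l => ?_⟩
    fin_cases l <;> simp [e3_zero, e3_one, e3_two]
  have hexC : ∃ c, e3 0 1 c ∈ exps I := by
    refine ⟨N2, exps_of_le hN2 fun l => ?_⟩
    fin_cases l <;> simp [e3_zero, e3_one, e3_two]
  have hA1 := Nat.find_spec hexA
  have hB1 := Nat.find_spec hexB
  have hC1 := Nat.find_spec hexC
  have hA0 : Nat.find hexA ≠ 0 := fun e => hx' (by rw [e] at hA1; exact hA1)
  have hB0 : Nat.find hexB ≠ 0 := fun e => hx' (by rw [e] at hB1; exact hB1)
  have hC0 : Nat.find hexC ≠ 0 := fun e => hy' (by rw [e] at hC1; exact hC1)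
  obtain ⟨a, ha⟩ := Nat.exists_eq_succ_of_ne_zero hA0
  obtain ⟨b, hb⟩ := Nat.exists_eq_succ_of_ne_zero hB0
  obtain ⟨c, hc⟩ := Nat.exists_eq_succ_of_ne_zero hC0
  have hA2 : e3 1 a 0 ∉ exps I := Nat.find_min hexA (by omega)
  have hB2 : e3 1 0 b ∉ exps I := Nat.find_min hexB (by omega)
  have hC2 : e3 0 1 c ∉ exps I := Nat.find_min hexC (by omega)
  rw [ha] at hA1
  rw [hb] at hB1
  rw [hc] at hC1
  have hA3 : e3 0 (a + 1) 0 ∉ exps I := fun h => hA2 (st01 0 a 0 h)
  have hB3 : e3 0 0 (b + 1) ∉ exps I := fun h => hB2 (st02 0 0 b h)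
  have hC3 : e3 0 0 (c + 1) ∉ exps I := fun h => hC2 (st12 0 0 c h)
  have key := Groth.Agent.S13438.result k I hmono 1 (a + 1) 1 (b + 1) 1 (c + 1)
    (by omega) (by omega) (by omega) (by omega) (by omega) (by omega)
    ⟨hA1, hA3, hA2⟩ ⟨hB1, hB3, hB2⟩ ⟨hC1, hC3, hC2⟩ (Or.inl ⟨le_refl _, by omega⟩)
  rcases key with h | h | h
  · exact h hbot.2.2
  · exact h hbot.2.1
  · exact h hbot.1



open W4c1hilbpn in
/-- Let k be an infinite field, S = k[x,y,z], and T(I) = Hom_S(I, S/I) graded by triples of integers (a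
graded piece is indexed by its multidegree; its sign pattern records which of the three entries are
negative); let I be a strongly stable ideal of finite colength (variables ordered x > y > z). Then x
lies in I if and only if the three graded pieces of T(I) whose sign pattern is negative at exactly
two of the three variables all vanish. (The published statement phrases the right-hand side as
smoothness of the corresponding point of the Hilbert scheme of points of affine 3-space, which for a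
monomial point is equivalent to this vanishing; the row records the vanishing condition, which is
what the argument establishes.) -/
theorem result (k : Type u) [Field k] [Infinite k]
    (I : Ideal (MvPolynomial (Fin 3) k)) (hI : IsStronglyStable I) [Module.Finite k (MvPolynomial (Fin 3) k ⧸ I)] :
    (MvPolynomial.X 0 : MvPolynomial (Fin 3) k) ∈ I ↔
      (sigPiece I ({1, 2} : Set (Fin 3)) = ⊥ ∧ sigPiece I ({0, 2} : Set (Fin 3)) = ⊥ ∧
        sigPiece I ({0, 1} : Set (Fin 3)) = ⊥) := by
  exact main k I hI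

end Groth.Agent.S13439
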