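import Groth.Statements.S1344
import Groth.Agent.Lib.Helper5.CMQF13
import Groth.Agent.S9359
import Groth.Agent.Lib.Helper3.RelDim
import Groth.Agent.Lib.Helper5.FibreDimLocal

set_option autoImplicit false
universe u
open FlatMor

namespace Groth.Agent.S1344

open AlgebraicGeometry CategoryTheory Limits in
/-- Let f be locally of finite type between locally Noetherian schemes and Cohen–Macaulay at every
point. Then for every point x of the source with image y, the local dimension of the source at x
equals the local dimension of the target at y plus the local dimension at x of the fibre over y. -/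
theorem result {X Y : Scheme.{u}} (f : X ⟶ Y) [IsLocallyNoetherian X] [IsLocallyNoetherian Y] [LocallyOfFiniteType f]
    (hf : ∀ x : X, MoreMor.IsCMAt f x) (x : X) :
    FlatMor.localDim ↑X x = FlatMor.localDim ↑Y (f x) + FlatMor.fibreDimAt f x := by
  obtain ⟨U, hxU, hU⟩ :=
    Groth.Agent.Lib.helper5.CMQF.exists_open_isCMAt_fibreDimAt_const f x (hf x)
  obtain ⟨n, hn⟩ := Groth.Agent.Lib.helper3.DimFibre.exists_nat_fibreDimAt f x
  haveI : Flat (U.ι ≫ f) := by
    rw [Flat.iff_flat_stalkMap]
    intro u
    rw [Groth.Agent.Lib.helper5.FibCrit.flat_comp_left_iff U.ι f u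
      (Groth.Agent.Lib.helper5.FibCrit.bijective_stalkMap_of_isOpenImmersion U.ι u)]
    exact (hf _).1
  have hrel : Cyc.HasRelDim (U.ι ≫ f) n := by
    rw [Groth.Agent.Lib.helper3.RelDim.hasRelDim_iff]
    intro u
    rw [Groth.Agent.Lib.helper3.EquidimAt.fibreDimAt_comp_opens_ι f U u]
    have h3 : FlatMor.fibreDimAt f (U.ι u) = FlatMor.fibreDimAt f x := (hU (U.ι u) u.2).2
    rw [h3, hn]
  have h1 := Groth.Agent.S9359.result (U.ι ≫ f) n hrel ⟨x, hxU⟩
  have h2 := Groth.Agent.Lib.helper5.FibreDimLocal.localDim_eq_of_isOpenEmbedding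
    (X := ↥(U : Scheme.{u})) (Y := ↥X) U.ι U.ι.isOpenEmbedding ⟨x, hxU⟩
  rw [hn]
  rw [h2] at h1
  exact h1

end Groth.Agent.S1344
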