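import Groth.Statements.S13440
import Mathlib
import Groth.Agent.Lib.Helper10.TgtStair

set_option autoImplicit false
universe u
open W4c1hilbpn

namespace Groth.Agent.S13440

set_option linter.style.haveILetI false
set_option linter.unusedSectionVars false
open MvPolynomial W4c1hilbpn Groth.Agent.Lib.helper10.TgtMono
open scoped Classical

theorem e3_zero (a b c : ℕ) : e3 a b c 0 = a := rfl
theorem e3_one (a b c : ℕ) : e3 a b c 1 = b := rfl
theorem e3_two (a b c : ℕ) : e3 a b c 2 = c := rfl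

theorem e3_ext {β β' : Fin 3 →₀ ℕ} (h0 : β 0 = β' 0) (h1 : β 1 = β' 1) (h2 : β 2 = β' 2) :
    β = β' := by
  ext i
  fin_cases i
  · exact h0
  · exact h1
  · exact h2

theorem e3_le_e3 {a b c a' b' c' : ℕ} (ha : a ≤ a') (hb : b ≤ b') (hc : c ≤ c') :
    e3 a b c ≤ e3 a' b' c' := by
  intro i
  fin_cases i
  · exact ha
  · exact hb
  · exact hc

variable {k : Type u} [Field k]

/-- `stairZ` is the threshold of the `z`-column. -/
theorem mem_exps_e3_iff {I : Ideal (MvPolynomial (Fin 3) k)} (hI : IsMonomial I)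
    [Module.Finite k (MvPolynomial (Fin 3) k ⧸ I)] (i j w : ℕ) :
    e3 i j w ∈ exps I ↔ stairZ I i j ≤ w := by
  have hfin : {c : ℕ | e3 i j c ∉ exps I}.Finite := by
    haveI := finite_std hI
    let F : {c : ℕ | e3 i j c ∉ exps I} → {γ : Fin 3 →₀ ℕ // γ ∉ exps I} :=
      fun c => ⟨e3 i j c.1, c.2⟩
    have hinj : Function.Injective F := by
      intro c c' e
      apply Subtype.ext
      have := DFunLike.congr_fun (congrArg Subtype.val e) 2
      exact this
    exact Set.finite_coe_iff.mp (Finite.of_injective F hinj)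
  have hdown : ∀ c c', c ≤ c' → c' ∈ {c : ℕ | e3 i j c ∉ exps I} →
      c ∈ {c : ℕ | e3 i j c ∉ exps I} := by
    intro c c' hcc hc' hc
    exact hc' (exps_of_le hc (e3_le_e3 le_rfl le_rfl hcc))
  have := mem_iff_lt_card_of_downward hfin hdown w
  unfold stairZ
  change e3 i j w ∉ exps I ↔ w < Nat.card { c // e3 i j c ∉ exps I } at this
  rw [← not_lt, ← this, not_not]

/-- the degrees `(a1, a2, -c)`. -/
def αc (a1 a2 c : ℕ) : Fin 3 → ℤ := ![(a1 : ℤ), (a2 : ℤ), -(c : ℤ)]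

theorem αc_zero (a1 a2 c : ℕ) : αc a1 a2 c 0 = a1 := rfl
theorem αc_one (a1 a2 c : ℕ) : αc a1 a2 c 1 = a2 := rfl
theorem αc_two (a1 a2 c : ℕ) : αc a1 a2 c 2 = -(c : ℤ) := rfl

/-- the `xy`-socle points beyond `(a1, a2)`. -/
def SocSet (I : Ideal (MvPolynomial (Fin 3) k)) (a1 a2 : ℕ) : Set (Fin 3 →₀ ℕ) :=
  {γ | a1 ≤ γ 0 ∧ a2 ≤ γ 1 ∧ γ ∉ exps I ∧ γ + Finsupp.single 0 1 ∈ exps I ∧
    γ + Finsupp.single 1 1 ∈ exps I}

theorem finite_socSet {I : Ideal (MvPolynomial (Fin 3) k)} (hI : IsMonomial I)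
    [Module.Finite k (MvPolynomial (Fin 3) k ⧸ I)] (a1 a2 : ℕ) : (SocSet I a1 a2).Finite := by
  apply Set.Finite.subset (Set.finite_coe_iff.mp (finite_std hI))
  intro γ hγ
  exact hγ.2.2.1

theorem toN_upv {γ : Fin 3 → ℤ} (hnn : ∀ l, 0 ≤ γ l) (i : Fin 3) (t : ℕ) :
    toN (upv γ i t) = toN γ + Finsupp.single i t := by
  ext l
  rw [Finsupp.add_apply, toN_apply, toN_apply]
  unfold upv
  have := hnn l
  by_cases hl : l = i
  · subst hl
    rw [if_pos rfl, Finsupp.single_eq_same]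
    omega
  · rw [if_neg hl, Finsupp.single_eq_of_ne hl, add_zero]

section main
variable {I : Ideal (MvPolynomial (Fin 3) k)} (hI : IsMonomial I)
  [Module.Finite k (MvPolynomial (Fin 3) k ⧸ I)] (a1 a2 : ℕ)

/-- the chosen corner of a good component. -/
noncomputable def corner (c : ℕ) (K : Good I (αc a1 a2 c)) : ↥(region I (αc a1 a2 c)) :=
  Classical.choose (exists_corner hI (αc a1 a2 c) 2 K)

theorem corner_spec (c : ℕ) (K : Good I (αc a1 a2 c)) :
    (rG I (αc a1 a2 c)).connectedComponentMk (corner hI a1 a2 c K) = K.1 ∧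
      (∀ i, i ≠ 2 → toN (upv (corner hI a1 a2 c K).1 i 1) ∈ exps I) ∧
      (∀ β0 : Fin 3 →₀ ℕ, pre (corner hI a1 a2 c K).1 (αc a1 a2 c) = β0 + Finsupp.single 2 1 →
        β0 ∉ exps I) :=
  Classical.choose_spec (exists_corner hI (αc a1 a2 c) 2 K)

theorem corner_nn (c : ℕ) (K : Good I (αc a1 a2 c)) (l : Fin 3) :
    0 ≤ (corner hI a1 a2 c K).1 l :=
  K.2 _ (corner_spec hI a1 a2 c K).1 l

theorem corner_mem_soc (c : ℕ) (K : Good I (αc a1 a2 c)) :
    toN (corner hI a1 a2 c K).1 ∈ SocSet I a1 a2 := by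
  set v := corner hI a1 a2 c K with hv
  have hnn := corner_nn hI a1 a2 c K
  obtain ⟨_, h2, _⟩ := corner_spec hI a1 a2 c K
  obtain ⟨hpre, hvtx⟩ := region_first_of_mem v
  have e0 := congrFun hvtx 0
  have e1 := congrFun hvtx 1
  simp only [vtx, αc_zero, αc_one] at e0 e1
  refine ⟨?_, ?_, toN_notMem_of_mem_region v.2 hnn, ?_, ?_⟩
  · rw [toN_apply]
    have : (0 : ℤ) ≤ (pre v.1 (αc a1 a2 c)) 0 := by positivity
    omega
  · rw [toN_apply]
    have : (0 : ℤ) ≤ (pre v.1 (αc a1 a2 c)) 1 := by positivity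
    omega
  · rw [← toN_upv hnn]
    exact h2 0 (by decide)
  · rw [← toN_upv hnn]
    exact h2 1 (by decide)

theorem corner_lt_aux {c1 c2 : ℕ} (hc : c1 < c2) (K1 : Good I (αc a1 a2 c1))
    (K2 : Good I (αc a1 a2 c2))
    (e : toN (corner hI a1 a2 c1 K1).1 = toN (corner hI a1 a2 c2 K2).1) : False := by
  have hnn1 := corner_nn hI a1 a2 c1 K1
  have hnn2 := corner_nn hI a1 a2 c2 K2
  have hv := toN_injOn hnn1 hnn2 e
  obtain ⟨hpre1, hvtx1⟩ := region_first_of_mem (corner hI a1 a2 c1 K1)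
  obtain ⟨_, _, h3⟩ := corner_spec hI a1 a2 c2 K2
  have h2pos : 1 ≤ pre (corner hI a1 a2 c2 K2).1 (αc a1 a2 c2) 2 := by
    rw [pre_apply, αc_two]
    have := hnn2 2
    omega
  obtain ⟨β0, hβ0⟩ := exists_sub_single h2pos
  apply h3 β0 hβ0
  apply exps_of_le hpre1
  intro l
  have el := DFunLike.congr_fun hβ0 l
  rw [Finsupp.add_apply, pre_apply, ← hv] at el
  rw [pre_apply]
  fin_cases l
  · simp only [Fin.zero_eta, αc_zero] at el ⊢
    rw [Finsupp.single_eq_of_ne (by decide)] at el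
    omega
  · simp only [Fin.mk_one, αc_one] at el ⊢
    rw [Finsupp.single_eq_of_ne (by decide)] at el
    omega
  · simp only [Fin.reduceFinMk, αc_two] at el ⊢
    rw [Finsupp.single_eq_same] at el
    have := hnn1 2
    omega

theorem corner_injective (Z : ℕ) :
    Function.Injective fun p : (Σ t : Fin Z, Good I (αc a1 a2 (t.1 + 1))) =>
      (⟨toN (corner hI a1 a2 (p.1.1 + 1) p.2).1, corner_mem_soc hI a1 a2 _ p.2⟩ :
        ↥(SocSet I a1 a2)) := by
  rintro ⟨t1, K1⟩ ⟨t2, K2⟩ e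
  have e' : toN (corner hI a1 a2 (t1.1 + 1) K1).1 = toN (corner hI a1 a2 (t2.1 + 1) K2).1 :=
    congrArg Subtype.val e
  have ht : t1 = t2 := by
    apply Fin.ext
    rcases lt_trichotomy t1.1 t2.1 with h | h | h
    · exact (corner_lt_aux hI a1 a2 (by omega) K1 K2 e').elim
    · exact h
    · exact (corner_lt_aux hI a1 a2 (by omega) K2 K1 e'.symm).elim
  subst ht
  congr 1
  apply Subtype.ext
  have hv : (corner hI a1 a2 (t1.1 + 1) K1) = (corner hI a1 a2 (t1.1 + 1) K2) :=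
    Subtype.ext (toN_injOn (corner_nn hI a1 a2 _ K1) (corner_nn hI a1 a2 _ K2) e')
  rw [← (corner_spec hI a1 a2 _ K1).1, ← (corner_spec hI a1 a2 _ K2).1, hv]

end main


section count
variable {I : Ideal (MvPolynomial (Fin 3) k)} (hI : IsMonomial I)
  [Module.Finite k (MvPolynomial (Fin 3) k ⧸ I)] (a1 a2 : ℕ)

theorem e3_add_single_zero (i j w : ℕ) : e3 i j w + Finsupp.single 0 1 = e3 (i + 1) j w := by
  apply e3_ext <;> simp [e3_zero, e3_one, e3_two]

theorem e3_add_single_one (i j w : ℕ) : e3 i j w + Finsupp.single 1 1 = e3 i (j + 1) w := by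
  apply e3_ext <;> simp [e3_zero, e3_one, e3_two]

theorem eq_e3 (β : Fin 3 →₀ ℕ) : β = e3 (β 0) (β 1) (β 2) := by
  apply e3_ext <;> rfl

include hI

theorem e3_mem_socSet_iff (i j w : ℕ) : e3 i j w ∈ SocSet I a1 a2 ↔
    (a1 ≤ i ∧ a2 ≤ j) ∧ w ∈ Finset.Ico (max (stairZ I (i + 1) j) (stairZ I i (j + 1)))
      (stairZ I i j) := by
  unfold SocSet
  rw [Set.mem_ofPred_eq, e3_zero, e3_one, e3_add_single_zero, e3_add_single_one,
    mem_exps_e3_iff hI, mem_exps_e3_iff hI, mem_exps_e3_iff hI, Finset.mem_Ico, max_le_iff]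
  constructor
  · rintro ⟨h1, h2, h3, h4, h5⟩
    exact ⟨⟨h1, h2⟩, ⟨h4, h5⟩, not_le.mp h3⟩
  · rintro ⟨⟨h1, h2⟩, ⟨h4, h5⟩, h3⟩
    exact ⟨h1, h2, not_le.mpr h3, h4, h5⟩

/-- the summand on the right-hand side. -/
noncomputable def gfn (I : Ideal (MvPolynomial (Fin 3) k)) (a1 a2 : ℕ) (p : ℕ × ℕ) : ℕ :=
  if a1 ≤ p.1 ∧ a2 ≤ p.2
    then stairZ I p.1 p.2 - max (stairZ I (p.1 + 1) p.2) (stairZ I p.1 (p.2 + 1)) else 0

theorem card_socSet : Nat.card ↥(SocSet I a1 a2) = ∑ᶠ p : ℕ × ℕ, gfn I a1 a2 p := by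
  have hfin := finite_socSet hI a1 a2
  rw [Nat.card_coe_set_eq, Set.ncard_eq_toFinset_card _ hfin]
  let f : (Fin 3 →₀ ℕ) → ℕ × ℕ := fun γ => (γ 0, γ 1)
  rw [Finset.card_eq_sum_card_image f hfin.toFinset]
  have hfib : ∀ p : ℕ × ℕ, (hfin.toFinset.filter fun γ => f γ = p).card = gfn I a1 a2 p := by
    rintro ⟨i, j⟩
    unfold gfn
    split_ifs with hc
    · have : (hfin.toFinset.filter fun γ => f γ = (i, j)) =
          (Finset.Ico (max (stairZ I (i + 1) j) (stairZ I i (j + 1))) (stairZ I i j)).image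
            (e3 i j) := by
        ext γ
        rw [Finset.mem_filter, Set.Finite.mem_toFinset, Finset.mem_image]
        constructor
        · rintro ⟨h1, h2⟩
          have h0 : γ 0 = i := congrArg Prod.fst h2
          have h1' : γ 1 = j := congrArg Prod.snd h2
          have e := eq_e3 γ
          rw [h0, h1'] at e
          rw [e, e3_mem_socSet_iff hI] at h1
          exact ⟨γ 2, h1.2, e.symm⟩
        · rintro ⟨w, hw, rfl⟩
          refine ⟨(e3_mem_socSet_iff hI a1 a2 i j w).mpr ⟨hc, hw⟩, rfl⟩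
      rw [this, Finset.card_image_of_injective, Nat.card_Ico]
      intro w w' e
      exact DFunLike.congr_fun e 2
    · rw [Finset.card_eq_zero, Finset.filter_eq_empty_iff]
      intro γ hγ e
      rw [Set.Finite.mem_toFinset] at hγ
      apply hc
      have h0 : γ 0 = i := congrArg Prod.fst e
      have h1' : γ 1 = j := congrArg Prod.snd e
      rw [← h0, ← h1']
      exact ⟨hγ.1, hγ.2.1⟩
  rw [Finset.sum_congr rfl fun p _ => hfib p]
  symm
  apply finsum_eq_sum_of_support_subset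
  rintro ⟨i, j⟩ hp
  rw [Function.mem_support] at hp
  unfold gfn at hp
  split_ifs at hp with hc
  · dsimp only at hp hc
    have hlt : max (stairZ I (i + 1) j) (stairZ I i (j + 1)) < stairZ I i j := by omega
    rw [Finset.mem_coe, Finset.mem_image]
    refine ⟨e3 i j (max (stairZ I (i + 1) j) (stairZ I i (j + 1))), ?_, rfl⟩
    rw [Set.Finite.mem_toFinset, e3_mem_socSet_iff hI]
    exact ⟨hc, Finset.mem_Ico.mpr ⟨le_refl _, hlt⟩⟩
  · exact absurd rfl hp

end count

theorem main (k : Type u) [Field k] [Infinite k]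
    (I : Ideal (MvPolynomial (Fin 3) k)) (hI : IsMonomial I) [Module.Finite k (MvPolynomial (Fin 3) k ⧸ I)] (a1 a2 : ℕ) :
    Module.finrank k ↥(⨆ α : {α : Fin 3 → ℤ // α 0 = (a1 : ℤ) ∧ α 1 = (a2 : ℤ) ∧ α 2 < 0}, tPiece I α.1) ≤
      ∑ᶠ p : ℕ × ℕ, (if a1 ≤ p.1 ∧ a2 ≤ p.2
        then stairZ I p.1 p.2 - max (stairZ I (p.1 + 1) p.2) (stairZ I p.1 (p.2 + 1)) else 0) := by
  obtain ⟨Z, hZ⟩ := exists_single_mem hI (2 : Fin 3)
  have hinj : Function.Injective fun t : ℕ => αc a1 a2 (t + 1) := by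
    intro t t' e
    have := congrFun e 2
    simp only [αc_two] at this
    omega
  rw [finrank_iSup_subtype hI (fun α : Fin 3 → ℤ => α 0 = (a1 : ℤ) ∧ α 1 = (a2 : ℤ) ∧ α 2 < 0)
    ((Finset.range Z).image fun t => αc a1 a2 (t + 1))]
  · rw [Finset.sum_image (fun t _ t' _ e => hinj e)]
    have h1 : ∑ t ∈ Finset.range Z, Module.finrank k ↥(tPiece I (αc a1 a2 (t + 1))) =
        ∑ t : Fin Z, Nat.card (Good I (αc a1 a2 (t.1 + 1))) := by
      rw [Finset.sum_range]
      refine Finset.sum_congr rfl fun t _ => ?_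
      exact finrank_tPiece_eq_card_good hI _
    haveI : ∀ t : Fin Z, Finite (Good I (αc a1 a2 (t.1 + 1))) := fun t => finite_good hI _
    rw [h1, ← Nat.card_sigma]
    haveI : Finite ↥(SocSet I a1 a2) := Set.finite_coe_iff.mpr (finite_socSet hI a1 a2)
    have h2 := Nat.card_le_card_of_injective _ (corner_injective hI a1 a2 Z)
    refine h2.trans (le_of_eq ?_)
    exact card_socSet hI a1 a2
  · intro α hα
    rw [Finset.mem_image] at hα
    obtain ⟨t, _, rfl⟩ := hα
    refine ⟨rfl, rfl, ?_⟩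
    rw [αc_two]
    omega
  · rintro α ⟨h0, h1, h2⟩ hα
    apply tPiece_eq_bot_of_lt hI hZ
    by_contra hge
    apply hα
    rw [Finset.mem_image]
    refine ⟨(-α 2).toNat - 1, Finset.mem_range.mpr (by omega), ?_⟩
    funext l
    fin_cases l
    · exact h0.symm
    · exact h1.symm
    · change αc a1 a2 ((-α 2).toNat - 1 + 1) 2 = α 2
      rw [αc_two]
      omega
  · intro α _
    exact finite_tPiece hI α



open W4c1hilbpn in
/-- Let k be an infinite field, S = k[x,y,z], and T(I) = Hom_S(I, S/I) graded by triples of integers (a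
graded piece is indexed by its multidegree; its sign pattern records which of the three entries are
negative); let I be a monomial ideal of finite colength with staircase numbers b_{i,j} = the number
of c with x^i y^j z^c outside I. For all natural numbers a1, a2, the span of the graded pieces of
T(I) of multidegrees (a1, a2, c) with c < 0 has dimension at most the sum, over all i ≥ a1 and j ≥
a2, of b_{i,j} - max(b_{i+1,j}, b_{i,j+1}) (a sum with finitely many nonzero terms). -/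
theorem result (k : Type u) [Field k] [Infinite k]
    (I : Ideal (MvPolynomial (Fin 3) k)) (hI : IsMonomial I) [Module.Finite k (MvPolynomial (Fin 3) k ⧸ I)] (a1 a2 : ℕ) :
    Module.finrank k ↥(⨆ α : {α : Fin 3 → ℤ // α 0 = (a1 : ℤ) ∧ α 1 = (a2 : ℤ) ∧ α 2 < 0}, tPiece I α.1) ≤
      ∑ᶠ p : ℕ × ℕ, (if a1 ≤ p.1 ∧ a2 ≤ p.2
        then stairZ I p.1 p.2 - max (stairZ I (p.1 + 1) p.2) (stairZ I p.1 (p.2 + 1)) else 0) := by
  exact main k I hI a1 a2

end Groth.Agent.S13440
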