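import Groth.Statements.S13441
import Mathlib
-- import your own Groth.Agent.* helpers here

set_option autoImplicit false
universe u
open W4c1hilbpn

namespace Groth.Agent.S13441

open MvPolynomial in
theorem indep_of_isMonomial {k : Type u} [Field k] (I : Ideal (MvPolynomial (Fin 3) k))
    (hI : IsMonomial I) :
    LinearIndependent k (fun β : {β : Fin 3 →₀ ℕ // β ∉ exps I} =>
      Ideal.Quotient.mk I (monomial β.1 (1 : k))) := by
  classical
  rw [linearIndependent_iff']
  intro s g hg β hβ
  by_contra hne
  set p : MvPolynomial (Fin 3) k := ∑ γ ∈ s, monomial γ.1 (g γ) with hp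
  have hpI : p ∈ I := by
    rw [← Ideal.Quotient.eq_zero_iff_mem, hp, map_sum]
    rw [← hg]
    refine Finset.sum_congr rfl fun γ _ => ?_
    have h1 : monomial γ.1 (g γ) = g γ • monomial γ.1 (1 : k) := by
      rw [MvPolynomial.smul_monomial, smul_eq_mul, mul_one]
    rw [h1]
    exact (map_smul (Ideal.Quotient.mkₐ k I) _ _).symm
  have hcoeff : p.coeff β.1 = g β := by
    rw [hp, MvPolynomial.coeff_sum]
    rw [Finset.sum_eq_single β]
    · simp
    · intro γ _ hγ
      rw [MvPolynomial.coeff_monomial, if_neg]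
      intro h
      exact hγ (Subtype.ext h)
    · intro h; exact absurd hβ h
  have hsupp : β.1 ∈ p.support := by
    rw [MvPolynomial.mem_support_iff, hcoeff]; exact hne
  exact β.2 (hI p hpI β.1 hsupp)

theorem finite_compl_exps {k : Type u} [Field k] (I : Ideal (MvPolynomial (Fin 3) k))
    (hI : IsMonomial I) [Module.Finite k (MvPolynomial (Fin 3) k ⧸ I)] :
    Finite {β : Fin 3 →₀ ℕ // β ∉ exps I} :=
  (indep_of_isMonomial I hI).finite

theorem e3_injective_c (a b : ℕ) : Function.Injective (fun c => e3 a b c) := by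
  intro c c' h
  have := DFunLike.congr_fun h 2
  simpa [e3] using this

theorem e3_injective_b (a c : ℕ) : Function.Injective (fun b => e3 a b c) := by
  intro b b' h
  have := DFunLike.congr_fun h 1
  simpa [e3] using this

theorem e3_apply0 (a b c : ℕ) : e3 a b c 0 = a := rfl
theorem e3_apply1 (a b c : ℕ) : e3 a b c 1 = b := rfl
theorem e3_apply2 (a b c : ℕ) : e3 a b c 2 = c := rfl

theorem fin3_cases (P : Fin 3 → Prop) (h0 : P 0) (h1 : P 1) (h2 : P 2) : ∀ i, P i := by
  intro i; fin_cases i <;> assumption

theorem e3_shift_y (a b c : ℕ) :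
    e3 a (b + 1) c - Finsupp.single 1 1 + Finsupp.single 0 1 = e3 (a + 1) b c := by
  ext i
  revert i
  apply fin3_cases
  · rw [Finsupp.add_apply, Finsupp.tsub_apply, e3_apply0, e3_apply0, Finsupp.single_apply,
      Finsupp.single_apply, if_neg (by decide), if_pos rfl, Nat.sub_zero]
  · rw [Finsupp.add_apply, Finsupp.tsub_apply, e3_apply1, e3_apply1, Finsupp.single_apply,
      Finsupp.single_apply, if_pos rfl, if_neg (by decide), Nat.add_sub_cancel, Nat.add_zero]
  · rw [Finsupp.add_apply, Finsupp.tsub_apply, e3_apply2, e3_apply2, Finsupp.single_apply,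
      Finsupp.single_apply, if_neg (by decide), if_neg (by decide), Nat.sub_zero, Nat.add_zero]

theorem e3_shift_z (a b c : ℕ) :
    e3 a b (c + 1) - Finsupp.single 2 1 + Finsupp.single 0 1 = e3 (a + 1) b c := by
  ext i
  revert i
  apply fin3_cases
  · rw [Finsupp.add_apply, Finsupp.tsub_apply, e3_apply0, e3_apply0, Finsupp.single_apply,
      Finsupp.single_apply, if_neg (by decide), if_pos rfl, Nat.sub_zero]
  · rw [Finsupp.add_apply, Finsupp.tsub_apply, e3_apply1, e3_apply1, Finsupp.single_apply,
      Finsupp.single_apply, if_neg (by decide), if_neg (by decide), Nat.sub_zero, Nat.add_zero]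
  · rw [Finsupp.add_apply, Finsupp.tsub_apply, e3_apply2, e3_apply2, Finsupp.single_apply,
      Finsupp.single_apply, if_pos rfl, if_neg (by decide), Nat.add_sub_cancel, Nat.add_zero]

open W4c1hilbpn in
/-- Let k be an infinite field, S = k[x,y,z] with variables ordered x > y > z, and I a strongly stable
ideal of finite colength, with staircase numbers b^z_{i,j} = the number of c with x^i y^j z^c
outside I and b^y_{i,j} = the number of b with x^i y^b z^j outside I. Then b^z_{i+1,j} ≤ b^z_{i,j+1}
and b^y_{i+1,j} ≤ b^y_{i,j+1} for all i and j (equivalently the maximum of the two neighbouring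
staircase numbers is the second one). -/
theorem result (k : Type u) [Field k] [Infinite k]
    (I : Ideal (MvPolynomial (Fin 3) k)) (hI : IsStronglyStable I) [Module.Finite k (MvPolynomial (Fin 3) k ⧸ I)] (i j : ℕ) :
    stairZ I (i + 1) j ≤ stairZ I i (j + 1) ∧ stairY I (i + 1) j ≤ stairY I i (j + 1) := by
  have hfin := finite_compl_exps I hI.1
  constructor
  · have hfinT : Set.Finite {c : ℕ | e3 i (j + 1) c ∉ exps I} := by
      have : Finite {c : ℕ // e3 i (j + 1) c ∉ exps I} :=
        Finite.of_injective (fun c => (⟨e3 i (j + 1) c.1, c.2⟩ : {β : Fin 3 →₀ ℕ // β ∉ exps I}))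
          (fun c c' h => Subtype.ext (e3_injective_c i (j + 1) (congrArg Subtype.val h)))
      exact Set.finite_coe_iff.mp this
    have hsub : {c : ℕ | e3 (i + 1) j c ∉ exps I} ⊆ {c : ℕ | e3 i (j + 1) c ∉ exps I} := by
      intro c hc hmem
      apply hc
      have := hI.2 _ hmem 0 1 (by decide) (by simp [e3])
      rwa [e3_shift_y] at this
    exact Nat.card_mono hfinT hsub
  · have hfinT : Set.Finite {b : ℕ | e3 i b (j + 1) ∉ exps I} := by
      have : Finite {b : ℕ // e3 i b (j + 1) ∉ exps I} :=
        Finite.of_injective (fun b => (⟨e3 i b.1 (j + 1), b.2⟩ : {β : Fin 3 →₀ ℕ // β ∉ exps I}))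
          (fun b b' h => Subtype.ext (e3_injective_b i (j + 1) (congrArg Subtype.val h)))
      exact Set.finite_coe_iff.mp this
    have hsub : {b : ℕ | e3 (i + 1) b j ∉ exps I} ⊆ {b : ℕ | e3 i b (j + 1) ∉ exps I} := by
      intro b hb hmem
      apply hb
      have := hI.2 _ hmem 0 2 (by decide) (by simp [e3])
      rwa [e3_shift_z] at this
    exact Nat.card_mono hfinT hsub

end Groth.Agent.S13441
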