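import Groth.Statements.S13442
import Mathlib
import Groth.Agent.Lib.Helper10.TgtPow3

set_option autoImplicit false
universe u
open W4c1hilbpn

namespace Groth.Agent.S13442

set_option linter.style.haveILetI false
set_option linter.unusedSectionVars false
open MvPolynomial W4c1hilbpn Groth.Agent.Lib.helper10.TgtMono

theorem main (k : Type u) [Field k] [Infinite k] (r : ℕ)
    (i : Fin 3) :
    Module.finrank k ↥(sigPiece ((Ideal.span (Set.range (MvPolynomial.X : Fin 3 → MvPolynomial (Fin 3) k))) ^ r) {i}) = Nat.choose (r + 3) 4 ∧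
      Module.finrank k ↥(sigPiece ((Ideal.span (Set.range (MvPolynomial.X : Fin 3 → MvPolynomial (Fin 3) k))) ^ r) ({i}ᶜ : Set (Fin 3))) = Nat.choose (r + 2) 4 ∧
        Module.finrank k (Tgt ((Ideal.span (Set.range (MvPolynomial.X : Fin 3 → MvPolynomial (Fin 3) k))) ^ r)) = Nat.choose (r + 2) 2 * Nat.choose (r + 1) 2 := by
  have hij : i ≠ i + 1 := by fin_cases i <;> decide
  have hil : i ≠ i + 2 := by fin_cases i <;> decide
  have hjl : i + 1 ≠ i + 2 := by fin_cases i <;> decide
  refine ⟨finrank_sigPiece_mPow_single hij hil hjl r, finrank_sigPiece_mPow_compl hij hil hjl r, ?_⟩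
  have h := finrank_tgt_mPow (σ := Fin 3) (k := k) r
  change Module.finrank k (Tgt (mPow (Fin 3) k r)) = _
  rw [h, Fintype.card_fin]
  rcases Nat.eq_zero_or_pos r with hr | hr
  · subst hr
    simp
  · rw [if_neg (by omega), mul_one]
    have e1 : (3 + r - 1).choose r = (r + 2).choose 2 := by
      have : 3 + r - 1 = r + 2 := by omega
      rw [this, Nat.choose_symm_add]
    have e2 : (3 + (r - 1) - 1).choose (r - 1) = (r + 1).choose 2 := by
      have : 3 + (r - 1) - 1 = (r - 1) + 2 := by omega
      rw [this, Nat.choose_symm_add]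
      congr 1
      omega
    rw [e1, e2]



open W4c1hilbpn in
/-- Let k be an infinite field, S = k[x,y,z], and T(I) = Hom_S(I, S/I) graded by triples of integers (a
graded piece is indexed by its multidegree; its sign pattern records which of the three entries are
negative); let m = (x,y,z) and r a natural number. For each variable index i, the span of the graded
pieces of T(m^r) negative exactly at i has dimension C(r+3, 4), the span of those negative exactly
at the other two indices has dimension C(r+2, 4), and T(m^r) itself has dimension C(r+2, 2) · C(r+1,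
2). -/
theorem result (k : Type u) [Field k] [Infinite k] (r : ℕ)
    (i : Fin 3) :
    Module.finrank k ↥(sigPiece ((Ideal.span (Set.range (MvPolynomial.X : Fin 3 → MvPolynomial (Fin 3) k))) ^ r) {i}) = Nat.choose (r + 3) 4 ∧
      Module.finrank k ↥(sigPiece ((Ideal.span (Set.range (MvPolynomial.X : Fin 3 → MvPolynomial (Fin 3) k))) ^ r) ({i}ᶜ : Set (Fin 3))) = Nat.choose (r + 2) 4 ∧
        Module.finrank k (Tgt ((Ideal.span (Set.range (MvPolynomial.X : Fin 3 → MvPolynomial (Fin 3) k))) ^ r)) = Nat.choose (r + 2) 2 * Nat.choose (r + 1) 2 := by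
  exact main k r i

end Groth.Agent.S13442
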