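import Groth.Statements.S13444
import Mathlib
import Groth.Agent.Lib.Helper19.HomIdealLen

set_option autoImplicit false
universe u
open W4c1hilbpn

namespace Groth.Agent.S13444




/-- Let R be a regular local ring of Krull dimension 2 and I, J ideals of R such that R/I and R/J have
finite length. Then the length of Hom_R(I, R/J) equals the length of R/J plus the length of (I :
J)/I; here the last length is moved to the other side as the length of R/(I : J), using that I ⊆ (I
: J) and all lengths are finite. -/
theorem result (R : Type u) [CommRing R]
    [IsRegularLocalRing R] (hdim : ringKrullDim R = 2) (I J : Ideal R)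
    (hI : Module.length R (R ⧸ I) < ⊤) (hJ : Module.length R (R ⧸ J) < ⊤) :
    Module.length R (↥I →ₗ[R] (R ⧸ J)) + Module.length R (R ⧸ I.colon J) =
      Module.length R (R ⧸ J) + Module.length R (R ⧸ I) := by
  classical
  exact Groth.Agent.Lib.helper19.HomIdealLen.main R hdim I J hI hJ

end Groth.Agent.S13444
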