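import Groth.Statements.S1345
import Mathlib
import Groth.Agent.Lib.Helper17.CMBaseChange

set_option autoImplicit false
set_option linter.style.haveILetI false
universe u
open FlatMor

namespace Groth.Agent.S1345

open AlgebraicGeometry CategoryTheory Limits in
/-- Let f have locally Noetherian fibres and let f' be its base change along a morphism locally of
finite type. If f is Cohen–Macaulay at the image of a point x' of the new source, then f' is
Cohen–Macaulay at x'. -/
theorem result {X Y X' Y' : Scheme.{u}} (f : X ⟶ Y) (hN : ∀ y : Y, IsLocallyNoetherian (f.fiber y))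
    (f' : X' ⟶ Y') (g' : X' ⟶ X) (g : Y' ⟶ Y) [LocallyOfFiniteType g] (hc : IsPullback g' f' f g) (x' : X')
    (h : MoreMor.IsCMAt f (g' x')) : MoreMor.IsCMAt f' x' := by
  haveI := hN (g (f' x'))
  have hF := Groth.Agent.Lib.helper17.CMBaseChange.isPullback_fibreMap hc (f' x')
  have hφ := Groth.Agent.Lib.helper17.FieldBC.essFiniteType_residueFieldMap g (f' x')
  haveI : IsNoetherianRing ((f'.fiber (f' x')).presheaf.stalk (f'.asFiber x')) :=
    Groth.Agent.Lib.helper17.FieldBC.isNoetherianRing_stalk hF (f'.asFiber x') hφ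
  let ψ : Y.residueField (g (f' x')) ⟶ (f.fiber (g (f' x'))).residueField
      (Groth.Agent.Lib.helper17.FibreBC.fibreMap hc (f' x') (f'.asFiber x')) :=
    Spec.preimage ((f.fiber (g (f' x'))).fromSpecResidueField
      (Groth.Agent.Lib.helper17.FibreBC.fibreMap hc (f' x') (f'.asFiber x')) ≫
      f.fiberToSpecResidueField (g (f' x')))
  have hψ : (f.fiber (g (f' x'))).fromSpecResidueField
      (Groth.Agent.Lib.helper17.FibreBC.fibreMap hc (f' x') (f'.asFiber x')) ≫
      f.fiberToSpecResidueField (g (f' x')) = Spec.map ψ := (Spec.map_preimage _).symm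
  exact Groth.Agent.Lib.helper17.CMBaseChange.isCMAt_of_isPullback hc x' ψ hψ (Or.inr hφ) h

end Groth.Agent.S1345
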