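import Groth.Statements.S13451
import Mathlib
import Groth.Agent.Lib.Helper10.TgtPlanes

set_option autoImplicit false
universe u
open W4c1hilbpn

namespace Groth.Agent.S13451

set_option linter.style.haveILetI false
set_option linter.unusedSectionVars false
open MvPolynomial W4c1hilbpn Groth.Agent.Lib.helper10.TgtMono
open scoped Classical

variable {k : Type u} [Field k]

/-- the exponent set of the generators. -/
def GSet (n c d : ℕ) : Set (Fin (n + 1) →₀ ℕ) :=
  {g | ∃ i j : Fin (n + 1), i.val + 1 ≤ c ∧ n + 1 ≤ j.val + d ∧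
    g = Finsupp.single i 1 + Finsupp.single j 1}

theorem ideal_eq (n c d : ℕ) :
    Ideal.span {f : MvPolynomial (Fin (n + 1)) k | ∃ i j : Fin (n + 1), i.val + 1 ≤ c ∧
      n + 1 ≤ j.val + d ∧ f = MvPolynomial.X i * MvPolynomial.X j} =
    Ideal.span ((fun s => monomial s (1 : k)) '' GSet n c d) := by
  congr 1
  ext f
  constructor
  · rintro ⟨i, j, hi, hj, rfl⟩
    refine ⟨Finsupp.single i 1 + Finsupp.single j 1, ⟨i, j, hi, hj, rfl⟩, ?_⟩
    change monomial _ (1 : k) = X i * X j
    rw [X, X, monomial_mul, one_mul]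
  · rintro ⟨g, ⟨i, j, hi, hj, rfl⟩, rfl⟩
    refine ⟨i, j, hi, hj, ?_⟩
    change monomial _ (1 : k) = X i * X j
    rw [X, X, monomial_mul, one_mul]

theorem single_add_single_le_iff {σ : Type*} {i j : σ} (hij : i ≠ j) (β : σ →₀ ℕ) :
    Finsupp.single i 1 + Finsupp.single j 1 ≤ β ↔ 1 ≤ β i ∧ 1 ≤ β j := by
  constructor
  · intro h
    have h1 := h i
    have h2 := h j
    rw [Finsupp.add_apply, Finsupp.single_eq_same, Finsupp.single_eq_of_ne hij] at h1
    rw [Finsupp.add_apply, Finsupp.single_eq_same, Finsupp.single_eq_of_ne hij.symm] at h2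
    exact ⟨by omega, by omega⟩
  · rintro ⟨h1, h2⟩ x
    rw [Finsupp.add_apply]
    by_cases hx : x = i
    · rw [hx, Finsupp.single_eq_same, Finsupp.single_eq_of_ne hij]
      omega
    · rw [Finsupp.single_eq_of_ne hx, zero_add]
      by_cases hx2 : x = j
      · rw [hx2, Finsupp.single_eq_same]
        exact h2
      · rw [Finsupp.single_eq_of_ne hx2]
        exact Nat.zero_le _

theorem main (k : Type u) [Field k] [IsAlgClosed k] (hchar : ringChar k ≠ 2)
    (n c d : ℕ) (hc : 2 ≤ c) (hcd : c ≤ d) (hn : c + d ≤ n) :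
    Module.finrank k ↥(⨆ α : {α : Fin (n + 1) → ℤ // ∑ i, α i = 0},
      tPiece (Ideal.span {f : MvPolynomial (Fin (n + 1)) k | ∃ i j : Fin (n + 1), i.val + 1 ≤ c ∧ n + 1 ≤ j.val + d ∧
        f = MvPolynomial.X i * MvPolynomial.X j}) α.1) = c * (n - c + 1) + d * (n - d + 1) := by
  rw [ideal_eq]
  set I : Ideal (MvPolynomial (Fin (n + 1)) k) :=
    Ideal.span ((fun s => monomial s (1 : k)) '' GSet n c d) with hIdef
  let A : Finset (Fin (n + 1)) := Finset.univ.filter fun i => i.val + 1 ≤ c
  let B : Finset (Fin (n + 1)) := Finset.univ.filter fun j => n + 1 ≤ j.val + d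
  have hmemA : ∀ i, i ∈ A ↔ i.val + 1 ≤ c := fun i => by
    change i ∈ Finset.univ.filter _ ↔ _
    rw [Finset.mem_filter]
    simp
  have hmemB : ∀ j, j ∈ B ↔ n + 1 ≤ j.val + d := fun j => by
    change j ∈ Finset.univ.filter _ ↔ _
    rw [Finset.mem_filter]
    simp
  have hAB : Disjoint A B := by
    rw [Finset.disjoint_left]
    intro i hiA hiB
    rw [hmemA] at hiA
    rw [hmemB] at hiB
    omega
  have hmem : ∀ β : Fin (n + 1) →₀ ℕ, monomial β (1 : k) ∈ I ↔
      (∃ i ∈ A, 1 ≤ β i) ∧ (∃ j ∈ B, 1 ≤ β j) := by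
    intro β
    rw [hIdef, mem_ideal_span_monomial_image]
    constructor
    · intro h
      obtain ⟨g, ⟨i, j, hi, hj, rfl⟩, hle⟩ := h β (by
        rw [support_monomial, if_neg one_ne_zero]
        exact Finset.mem_singleton_self _)
      have hij : i ≠ j := by
        intro e
        rw [e] at hi
        omega
      rw [single_add_single_le_iff hij] at hle
      exact ⟨⟨i, (hmemA i).mpr hi, hle.1⟩, ⟨j, (hmemB j).mpr hj, hle.2⟩⟩
    · rintro ⟨⟨i, hi, h1⟩, ⟨j, hj, h2⟩⟩ xi hxi
      rw [support_monomial, if_neg one_ne_zero, Finset.mem_singleton] at hxi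
      rw [hxi]
      have hij : i ≠ j := fun e => (Finset.disjoint_left.mp hAB) hi (e ▸ hj)
      exact ⟨_, ⟨i, j, (hmemA i).mp hi, (hmemB j).mp hj, rfl⟩,
        (single_add_single_le_iff hij β).mpr ⟨h1, h2⟩⟩
  have hI : IsMonomial I := by
    intro p hp β hβ
    rw [hmem]
    rw [hIdef, mem_ideal_span_monomial_image] at hp
    obtain ⟨g, ⟨i, j, hi, hj, rfl⟩, hle⟩ := hp β hβ
    have hij : i ≠ j := by
      intro e
      rw [e] at hi
      omega
    rw [single_add_single_le_iff hij] at hle
    exact ⟨⟨i, (hmemA i).mpr hi, hle.1⟩, ⟨j, (hmemB j).mpr hj, hle.2⟩⟩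
  have hE : exps I = EAB A B := by
    ext β
    exact hmem β
  have hcardA : A.card = c := by
    have h1 : A = Finset.univ.filter fun i : Fin (n + 1) => (i : ℕ) < c := by
      ext i
      rw [hmemA, Finset.mem_filter]
      simp only [Finset.mem_univ, true_and]
      omega
    rw [h1, Fin.card_filter_val_lt]
    omega
  have hcardB : B.card = d := by
    have h1 : B = Finset.univ.filter fun j : Fin (n + 1) => ¬ ((j : ℕ) < n + 1 - d) := by
      ext j
      rw [hmemB, Finset.mem_filter]
      simp only [Finset.mem_univ, true_and]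
      omega
    have h2 := Finset.card_filter_add_card_filter_not (s := (Finset.univ :
      Finset (Fin (n + 1)))) (fun j : Fin (n + 1) => (j : ℕ) < n + 1 - d)
    rw [Fin.card_filter_val_lt, Finset.card_univ, Fintype.card_fin] at h2
    rw [h1]
    omega
  rw [finrank_hom0_AB hAB hI hE (by omega) (by omega), hcardA, hcardB, Fintype.card_fin]
  have e1 : n + 1 - c = n - c + 1 := by omega
  have e2 : n + 1 - d = n - d + 1 := by omega
  rw [e1, e2]



open W4c1hilbpn in
/-- Let k be an algebraically closed field of characteristic different from 2, S = k[x_0, ..., x_n] with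
its standard grading, 2 ≤ c ≤ d with n ≥ c + d, and I = (x_0, ..., x_{c-1})·(x_{n-d+1}, ..., x_n),
the ideal of the union of two coordinate linear spaces of codimensions c and d meeting transversely
and not spanning the ambient space. Then the degree-0 homomorphisms Hom_S(I, S/I)_0 form a space of
dimension c(n-c+1) + d(n-d+1). (The published statement gives this number as the dimension of the
tangent space to the Hilbert scheme at the pair of planes, for every n; the row records the count of
degree-0 homomorphisms in the non-spanning range n ≥ c + d, where that tangent space is Hom_S(I,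
S/I)_0.) -/
theorem result (k : Type u) [Field k] [IsAlgClosed k] (hchar : ringChar k ≠ 2)
    (n c d : ℕ) (hc : 2 ≤ c) (hcd : c ≤ d) (hn : c + d ≤ n) :
    Module.finrank k ↥(⨆ α : {α : Fin (n + 1) → ℤ // ∑ i, α i = 0},
      tPiece (Ideal.span {f : MvPolynomial (Fin (n + 1)) k | ∃ i j : Fin (n + 1), i.val + 1 ≤ c ∧ n + 1 ≤ j.val + d ∧
        f = MvPolynomial.X i * MvPolynomial.X j}) α.1) = c * (n - c + 1) + d * (n - d + 1) := by
  exact main k hchar n c d hc hcd hn

end Groth.Agent.S13451
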