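import Groth.Statements.S13453
import Mathlib

set_option autoImplicit false
universe u
open W4c1hilbpn

namespace Groth.Agent.S13453

open MvPolynomial

theorem mono_mul_mem_iff {σ : Type*} {k : Type*} [Field k] (I : Ideal (MvPolynomial σ k))
    (hI : IsMonomial I) (δ : σ →₀ ℕ) (g : MvPolynomial σ k) :
    monomial δ (1 : k) * g ∈ I ↔ ∀ γ ∈ g.support, monomial (δ + γ) (1 : k) ∈ I := by
  classical
  constructor
  · intro h γ hγ
    apply hI _ h
    rw [mem_support_iff] at hγ ⊢
    rw [coeff_monomial_mul, one_mul]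
    exact hγ
  · intro h
    have hg := support_sum_monomial_coeff g
    have : monomial δ (1 : k) * g =
        ∑ γ ∈ g.support, C (coeff γ g) * monomial (δ + γ) (1 : k) := by
      calc monomial δ (1 : k) * g
          = monomial δ (1 : k) * ∑ v ∈ g.support, monomial v (coeff v g) := by rw [hg]
        _ = ∑ γ ∈ g.support, C (coeff γ g) * monomial (δ + γ) (1 : k) := by
            rw [Finset.mul_sum]
            refine Finset.sum_congr rfl (fun γ _ => ?_)
            rw [monomial_mul, one_mul, C_mul_monomial, mul_one]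
    rw [this]
    exact Ideal.sum_mem _ (fun γ hγ => Ideal.mul_mem_left _ _ (h γ hγ))

noncomputable def lift3 (a : ℕ) (β : Fin 2 →₀ ℕ) : Fin 3 →₀ ℕ :=
  Finsupp.single 0 a + Finsupp.mapDomain Fin.succ β

theorem lift3_zero (a : ℕ) (β : Fin 2 →₀ ℕ) : lift3 a β 0 = a := by
  unfold lift3
  rw [Finsupp.add_apply, Finsupp.single_eq_same, Finsupp.mapDomain_notin_range, add_zero]
  rintro ⟨i, hi⟩
  exact Fin.succ_ne_zero i hi

theorem lift3_succ (a : ℕ) (β : Fin 2 →₀ ℕ) (i : Fin 2) : lift3 a β i.succ = β i := by
  unfold lift3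
  rw [Finsupp.add_apply, Finsupp.single_apply, if_neg (Fin.succ_ne_zero i).symm,
    Finsupp.mapDomain_apply (Fin.succ_injective _), zero_add]

theorem lift3_shift (a : ℕ) (β : Fin 2 →₀ ℕ) (p q : Fin 2) :
    lift3 a (β - Finsupp.single q 1 + Finsupp.single p 1) =
      lift3 a β - Finsupp.single q.succ 1 + Finsupp.single p.succ 1 := by
  ext j
  refine Fin.cases ?_ (fun j' => ?_) j
  · simp [lift3_zero, Finsupp.single_apply, Fin.succ_ne_zero]
  · simp [lift3_succ, Finsupp.single_apply]

theorem lift3_add_X (a : ℕ) (β : Fin 2 →₀ ℕ) :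
    lift3 a (β + Finsupp.single 0 1) - Finsupp.single (Fin.succ 0) 1 + Finsupp.single 0 1 =
      lift3 (a + 1) β := by
  ext j
  refine Fin.cases ?_ (fun j' => ?_) j
  · simp [lift3_zero, Finsupp.single_apply, Fin.succ_ne_zero]
  · have h0 : ((0 : Fin 3) = j'.succ) = False := by
      simp [(Fin.succ_ne_zero j').symm]
    simp only [Finsupp.add_apply, Finsupp.tsub_apply, lift3_succ, Finsupp.single_apply,
      Fin.succ_inj, h0, if_false]
    split_ifs <;> omega

theorem mem_sliceX_iff {k : Type*} [Field k] (I : Ideal (MvPolynomial (Fin 3) k))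
    (hI : IsMonomial I) (a : ℕ) (f : MvPolynomial (Fin 2) k) :
    f ∈ sliceX I a ↔ ∀ β ∈ f.support, lift3 a β ∈ exps I := by
  classical
  unfold sliceX
  rw [Ideal.mem_comap, Submodule.mem_colon_singleton, smul_eq_mul]
  have h1 : (rename Fin.succ).toRingHom f * X 0 ^ a =
      monomial (Finsupp.single 0 a) (1 : k) * rename Fin.succ f := by
    rw [X_pow_eq_monomial, mul_comm]
    rfl
  rw [h1, mono_mul_mem_iff I hI, support_rename_of_injective (Fin.succ_injective _)]
  constructor
  · intro h β hβ
    exact h _ (Finset.mem_image_of_mem _ hβ)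
  · intro h γ hγ
    obtain ⟨β, hβ, rfl⟩ := Finset.mem_image.1 hγ
    exact h β hβ


open W4c1hilbpn in
/-- Let k be an infinite field, S = k[x,y,z] with variables ordered x > y > z, and I a strongly stable
ideal of finite colength; write I_i for the ideal of polynomials f in k[y,z] with x^i f in I (so I
is the direct sum of the x^i I_i). Then each I_i is a strongly stable ideal of k[y,z] (with y > z)
and the ideal quotient (I_i : y) is contained in I_{i+1}. -/
theorem result (k : Type u) [Field k] [Infinite k]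
    (I : Ideal (MvPolynomial (Fin 3) k)) (hI : IsStronglyStable I) [Module.Finite k (MvPolynomial (Fin 3) k ⧸ I)] (i : ℕ) :
    IsStronglyStable (sliceX I i) ∧
      (sliceX I i).colon {(MvPolynomial.X 0 : MvPolynomial (Fin 2) k)} ≤ sliceX I (i + 1) := by
  classical
  have hmon := hI.1
  have hexp : ∀ (a : ℕ) (β : Fin 2 →₀ ℕ), β ∈ exps (sliceX I a) ↔ lift3 a β ∈ exps I := by
    intro a β
    show MvPolynomial.monomial β (1 : k) ∈ sliceX I a ↔ _
    rw [mem_sliceX_iff I hmon]
    constructor
    · intro h
      apply h β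
      rw [MvPolynomial.mem_support_iff, MvPolynomial.coeff_monomial, if_pos rfl]
      exact one_ne_zero
    · intro h β' hβ'
      have h2 : β' = β := by
        have := MvPolynomial.support_monomial_subset hβ'
        simpa using this
      rw [h2]
      exact h
  refine ⟨⟨?_, ?_⟩, ?_⟩
  · intro f hf β hβ
    have := (mem_sliceX_iff I hmon i f).1 hf β hβ
    exact (hexp i β).2 this
  · intro β hβ p q hpq hq
    rw [hexp] at hβ ⊢
    rw [lift3_shift]
    refine hI.2 _ hβ p.succ q.succ (Fin.succ_lt_succ_iff.2 hpq) ?_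
    rw [lift3_succ]
    exact hq
  · intro f hf
    rw [Submodule.mem_colon_singleton, smul_eq_mul] at hf
    rw [mem_sliceX_iff I hmon] at hf ⊢
    intro β hβ
    have h1 : β + Finsupp.single 0 1 ∈ (f * MvPolynomial.X 0).support := by
      rw [MvPolynomial.support_mul_X]
      exact Finset.mem_map.2 ⟨β, hβ, rfl⟩
    have h2 := hf _ h1
    have h3 := hI.2 _ h2 (0 : Fin 3) (Fin.succ 0) (by decide) (by
      rw [lift3_succ, Finsupp.add_apply, Finsupp.single_eq_same]
      omega)
    rwa [lift3_add_X] at h3


end Groth.Agent.S13453
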