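import Groth.Statements.S13454
import Mathlib
import Groth.Agent.S13453

set_option autoImplicit false
universe u
open W4c1hilbpn

namespace Groth.Agent.S13454

open MvPolynomial
open Groth.Agent.S13453 (lift3 lift3_zero lift3_succ mem_sliceX_iff)

/-! ### Combinatorial core -/

/-- pairs `(b, c)` with `b + c < n` -/
def tri (n : ℕ) : Finset (ℕ × ℕ) :=
  (Finset.range n ×ˢ Finset.range n).filter (fun p => p.1 + p.2 < n)

theorem mem_tri (n : ℕ) (p : ℕ × ℕ) : p ∈ tri n ↔ p.1 + p.2 < n := by
  unfold tri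
  rw [Finset.mem_filter, Finset.mem_product, Finset.mem_range, Finset.mem_range]
  constructor
  · exact fun h => h.2
  · intro h
    exact ⟨⟨by omega, by omega⟩, h⟩

theorem choose_two_succ (n : ℕ) : Nat.choose (n + 2) 2 = (n + 1) + Nat.choose (n + 1) 2 := by
  have := Nat.choose_succ_succ' (n + 1) 1
  rw [Nat.choose_one_right] at this
  exact this

theorem card_tri (n : ℕ) : (tri n).card = Nat.choose (n + 1) 2 := by
  induction n with
  | zero =>
    have : tri 0 = ∅ := by
      rw [Finset.eq_empty_iff_forall_notMem]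
      intro p hp
      rw [mem_tri] at hp
      omega
    rw [this]
    rfl
  | succ n ih =>
    have hu : tri (n + 1) = tri n ∪ Finset.HasAntidiagonal.antidiagonal n := by
      ext p
      rw [Finset.mem_union, mem_tri, mem_tri, Finset.HasAntidiagonal.mem_antidiagonal]
      omega
    have hd : Disjoint (tri n) (Finset.HasAntidiagonal.antidiagonal n) := by
      rw [Finset.disjoint_left]
      intro p hp hq
      rw [mem_tri] at hp
      rw [Finset.HasAntidiagonal.mem_antidiagonal] at hq
      omega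
    rw [hu, Finset.card_union_of_disjoint hd, ih, Finset.Nat.card_antidiagonal, choose_two_succ]
    omega

theorem sum_choose (r : ℕ) :
    ∑ i ∈ Finset.range r, Nat.choose (r - i + 1) 2 = Nat.choose (r + 2) 3 := by
  induction r with
  | zero => rfl
  | succ r ih =>
    rw [Finset.sum_range_succ']
    simp only [Nat.add_sub_add_right, Nat.sub_zero]
    rw [ih]
    have h : Nat.choose (r + 1 + 2) 3 = Nat.choose (r + 1 + 1) 2 + Nat.choose (r + 2) 3 :=
      Nat.choose_succ_succ' (r + 2) 2
    omega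

/-- the simplex `a + b + c < r` -/
def simp3 (r : ℕ) : Finset (ℕ × ℕ × ℕ) :=
  (Finset.range r).biUnion fun a => (tri (r - a)).image fun bc => (a, bc.1, bc.2)

theorem mem_simp3 (r : ℕ) (p : ℕ × ℕ × ℕ) : p ∈ simp3 r ↔ p.1 + p.2.1 + p.2.2 < r := by
  unfold simp3
  rw [Finset.mem_biUnion]
  constructor
  · rintro ⟨a, ha, hp⟩
    obtain ⟨bc, hbc, rfl⟩ := Finset.mem_image.mp hp
    rw [mem_tri] at hbc
    rw [Finset.mem_range] at ha
    simp only
    omega
  · intro h
    refine ⟨p.1, Finset.mem_range.mpr (by omega),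
      Finset.mem_image.mpr ⟨(p.2.1, p.2.2), ?_, rfl⟩⟩
    rw [mem_tri]
    simp only
    omega

theorem card_simp3 (r : ℕ) : (simp3 r).card = Nat.choose (r + 2) 3 := by
  unfold simp3
  rw [Finset.card_biUnion]
  · rw [← sum_choose r]
    refine Finset.sum_congr rfl fun a _ => ?_
    rw [Finset.card_image_of_injective _ (fun x y h => by
      simp only [Prod.mk.injEq] at h
      exact Prod.ext h.2.1 h.2.2), card_tri]
  · intro a _ a' _ hne
    simp only [Function.onFun]
    rw [Finset.disjoint_left]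
    intro p hp hp'
    obtain ⟨bc, _, rfl⟩ := Finset.mem_image.mp hp
    obtain ⟨bc', _, h⟩ := Finset.mem_image.mp hp'
    exact hne (congrArg Prod.fst h).symm

section Core

variable (L : Finset (ℕ × ℕ × ℕ))
  (h1 : ∀ a b c a' b' c', (a, b, c) ∈ L → a' ≤ a → b' ≤ b → c' ≤ c → (a', b', c') ∈ L)
  (h2 : ∀ a b c, (a + 1, b, c) ∈ L → (a, b + 1, c) ∈ L)
  (h3 : ∀ a b c, (a, b + 1, c) ∈ L → (a, b, c + 1) ∈ L)

include h2 in
theorem iter2 (d : ℕ) : ∀ a b c, (a + d, b, c) ∈ L → (a, b + d, c) ∈ L := by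
  induction d with
  | zero => intro a b c h; exact h
  | succ d ih =>
    intro a b c h
    have s1 : (a + d, b + 1, c) ∈ L := h2 (a + d) b c h
    have s2 := ih a (b + 1) c s1
    have e : b + 1 + d = b + (d + 1) := by omega
    rw [e] at s2
    exact s2

include h3 in
theorem iter3 (d : ℕ) : ∀ a b c, (a, b + d, c) ∈ L → (a, b, c + d) ∈ L := by
  induction d with
  | zero => intro a b c h; exact h
  | succ d ih =>
    intro a b c h
    have s1 : (a, b + d, c + 1) ∈ L := h3 a (b + d) c h
    have s2 := ih a b (c + 1) s1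
    have e : c + 1 + d = c + (d + 1) := by omega
    rw [e] at s2
    exact s2

include h1 h2 h3 in
theorem borel {a b c a' b' c' : ℕ} (h : (a, b, c) ∈ L) (ha : a' ≤ a) (hab : a' + b' ≤ a + b)
    (habc : a' + b' + c' ≤ a + b + c) : (a', b', c') ∈ L := by
  obtain ⟨d1, rfl⟩ := Nat.exists_eq_add_of_le ha
  have s1 := iter2 L h2 d1 a' b c h
  obtain ⟨d2, hd2⟩ := Nat.exists_eq_add_of_le (show b' ≤ b + d1 by omega)
  rw [hd2] at s1
  have s2 := iter3 L h3 d2 a' b' c s1
  exact h1 _ _ _ _ _ _ s2 le_rfl le_rfl (by omega)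

theorem sum_slices_le (r : ℕ) :
    ∑ i ∈ Finset.range r, (L.filter (fun p => p.1 = i)).card ≤ L.card := by
  rw [← Finset.card_biUnion]
  · apply Finset.card_le_card
    rw [Finset.biUnion_subset]
    intro i _
    exact Finset.filter_subset _ _
  · intro i _ i' _ hne
    simp only [Function.onFun]
    rw [Finset.disjoint_left]
    intro p hp hp'
    exact hne ((Finset.mem_filter.mp hp).2.symm.trans (Finset.mem_filter.mp hp').2)

include h1 h2 h3 in
theorem step (a s : ℕ)
    (h : Nat.choose (s + 1) 2 < (L.filter (fun p => p.1 = a + 1)).card) :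
    Nat.choose (s + 2) 2 < (L.filter (fun p => p.1 = a)).card := by
  have hne : (L.filter (fun p => p.1 = a + 1)).Nonempty := Finset.card_pos.mp (by omega)
  obtain ⟨q, hq, hmax⟩ := Finset.exists_max_image (L.filter (fun p => p.1 = a + 1))
    (fun p => p.2.1 + p.2.2) hne
  obtain ⟨m, hm⟩ : ∃ m, m = q.2.1 + q.2.2 := ⟨_, rfl⟩
  have hqL : (a + 1, q.2.1, q.2.2) ∈ L := by
    obtain ⟨h1', h2'⟩ := Finset.mem_filter.mp hq
    rw [← h2']
    exact h1'
  have hsub : L.filter (fun p => p.1 = a + 1) ⊆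
      (tri (m + 1)).image (fun bc => (a + 1, bc.1, bc.2)) := by
    intro p hp
    have hp' := Finset.mem_filter.mp hp
    rw [Finset.mem_image]
    refine ⟨(p.2.1, p.2.2), ?_, ?_⟩
    · rw [mem_tri]
      have := hmax p hp
      simp only at this ⊢
      omega
    · rw [← hp'.2]
  have hc1 : (L.filter (fun p => p.1 = a + 1)).card ≤ Nat.choose (m + 2) 2 := by
    calc (L.filter (fun p => p.1 = a + 1)).card
        ≤ ((tri (m + 1)).image (fun bc => (a + 1, bc.1, bc.2))).card := Finset.card_le_card hsub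
      _ ≤ (tri (m + 1)).card := Finset.card_image_le
      _ = _ := card_tri (m + 1)
  have hms : s ≤ m := by
    by_contra hlt
    push Not at hlt
    have : Nat.choose (m + 2) 2 ≤ Nat.choose (s + 1) 2 := Nat.choose_le_choose 2 (by omega)
    omega
  have hA : ((L.filter (fun p => p.1 = a + 1)).image (fun p => (a, p.2.1 + 1, p.2.2))) ∪
      ((Finset.range (m + 2)).image (fun c => ((a, 0, c) : ℕ × ℕ × ℕ))) ⊆
      L.filter (fun p => p.1 = a) := by
    intro p hp
    rw [Finset.mem_union] at hp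
    rw [Finset.mem_filter]
    rcases hp with hp | hp
    · obtain ⟨p', hp', rfl⟩ := Finset.mem_image.mp hp
      have hp'' := Finset.mem_filter.mp hp'
      refine ⟨?_, rfl⟩
      apply h2
      rw [← hp''.2]
      exact hp''.1
    · obtain ⟨c, hc, rfl⟩ := Finset.mem_image.mp hp
      rw [Finset.mem_range] at hc
      refine ⟨?_, rfl⟩
      have e1 : (a + 1, 0, m) ∈ L := borel L h1 h2 h3 hqL le_rfl (by omega) (by omega)
      have e2 : (a, 0 + 1, m) ∈ L := h2 _ _ _ e1
      have e3 : (a, 0, m + 1) ∈ L := h3 _ _ _ e2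
      exact h1 _ _ _ _ _ _ e3 le_rfl le_rfl (by omega)
  have hdisj : Disjoint ((L.filter (fun p => p.1 = a + 1)).image (fun p => (a, p.2.1 + 1, p.2.2)))
      ((Finset.range (m + 2)).image (fun c => ((a, 0, c) : ℕ × ℕ × ℕ))) := by
    rw [Finset.disjoint_left]
    intro p hp hq'
    obtain ⟨p', _, rfl⟩ := Finset.mem_image.mp hp
    obtain ⟨c, _, hc⟩ := Finset.mem_image.mp hq'
    have := congrArg (fun t : ℕ × ℕ × ℕ => t.2.1) hc
    simp only at this
    omega
  have hinj1 : Set.InjOn (fun p : ℕ × ℕ × ℕ => ((a, p.2.1 + 1, p.2.2) : ℕ × ℕ × ℕ))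
      (L.filter (fun p => p.1 = a + 1) : Set (ℕ × ℕ × ℕ)) := by
    intro p hp p' hp' heq
    have hp1 := (Finset.mem_filter.mp hp).2
    have hp1' := (Finset.mem_filter.mp hp').2
    simp only [Prod.mk.injEq] at heq
    apply Prod.ext
    · rw [hp1, hp1']
    · apply Prod.ext
      · omega
      · exact heq.2.2
  have hcard := Finset.card_le_card hA
  rw [Finset.card_union_of_disjoint hdisj, Finset.card_image_of_injOn hinj1,
    Finset.card_image_of_injective _ (fun c c' h => by
      simp only [Prod.mk.injEq] at h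
      exact h.2.2), Finset.card_range] at hcard
  have hch := choose_two_succ s
  omega

include h1 h2 h3 in
theorem core_i (r : ℕ) (hcard : L.card ≤ Nat.choose (r + 2) 3) (j : ℕ) (hj : j ≤ r) :
    ∑ i ∈ Finset.Ico j r, (L.filter (fun p => p.1 = i)).card ≤
      ∑ i ∈ Finset.Ico j r, Nat.choose (r - i + 1) 2 := by
  by_contra hlt
  push Not at hlt
  obtain ⟨a₀, ha₀, hgt⟩ := Finset.exists_lt_of_sum_lt hlt
  rw [Finset.mem_Ico] at ha₀
  have hall : ∀ d a, a + d = a₀ →
      Nat.choose (r - a + 1) 2 < (L.filter (fun p => p.1 = a)).card := by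
    intro d
    induction d with
    | zero =>
      intro a ha
      rw [add_zero] at ha
      rw [ha]
      exact hgt
    | succ d ih =>
      intro a ha
      have h' := ih (a + 1) (by omega)
      have := step L h1 h2 h3 a (r - (a + 1)) h'
      have e : r - (a + 1) + 2 = r - a + 1 := by omega
      rw [e] at this
      exact this
  have hhead : ∑ i ∈ Finset.range j, Nat.choose (r - i + 1) 2 ≤
      ∑ i ∈ Finset.range j, (L.filter (fun p => p.1 = i)).card := by
    apply Finset.sum_le_sum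
    intro i hi
    rw [Finset.mem_range] at hi
    exact (hall (a₀ - i) i (by omega)).le
  have htot := sum_slices_le L r
  have e1 := Finset.sum_range_add_sum_Ico (fun i => (L.filter (fun p => p.1 = i)).card) hj
  have e2 := Finset.sum_range_add_sum_Ico (fun i => Nat.choose (r - i + 1) 2) hj
  have e3 := sum_choose r
  beta_reduce at e1 e2
  omega

include h1 h2 h3 in
theorem core_ii (r : ℕ) (hcard : L.card ≤ Nat.choose (r + 2) 3)
    (heq : ∀ j, j < r → ∑ i ∈ Finset.Ico j r, (L.filter (fun p => p.1 = i)).card =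
      ∑ i ∈ Finset.Ico j r, Nat.choose (r - i + 1) 2) :
    ∀ a b c, (a, b, c) ∈ L ↔ a + b + c < r := by
  have hsub : simp3 r ⊆ L := by
    intro p hp
    rw [mem_simp3] at hp
    have hr : 0 < r := by omega
    have := heq (r - 1) (by omega)
    have hI : Finset.Ico (r - 1) r = {r - 1} := by
      ext x
      rw [Finset.mem_Ico, Finset.mem_singleton]
      omega
    rw [hI, Finset.sum_singleton, Finset.sum_singleton] at this
    have h1' : r - (r - 1) + 1 = 2 := by omega
    rw [h1', Nat.choose_self] at this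
    have hpos : 0 < (L.filter (fun p => p.1 = r - 1)).card := by omega
    obtain ⟨q, hq⟩ := Finset.card_pos.mp hpos
    have hq' := Finset.mem_filter.mp hq
    have hqL : (r - 1, q.2.1, q.2.2) ∈ L := by
      rw [← hq'.2]
      exact hq'.1
    have : (p.1, p.2.1, p.2.2) ∈ L :=
      borel L h1 h2 h3 hqL (by omega) (by omega) (by omega)
    exact this
  have hLeq : simp3 r = L := Finset.eq_of_subset_of_card_le hsub (by rw [card_simp3]; exact hcard)
  intro a b c
  rw [← hLeq, mem_simp3]

end Core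

/-! ### Monomial ideals -/

section Alg

variable {k : Type*} [Field k]

theorem exps_of_le' {σ : Type*} {I : Ideal (MvPolynomial σ k)} {β β' : σ →₀ ℕ}
    (hβ : β ∈ exps I) (h : β ≤ β') : β' ∈ exps I := by
  have e : β' = β + (β' - β) := by
    ext i
    have := h i
    simp only [Finsupp.coe_add, Finsupp.coe_tsub, Pi.add_apply, Pi.sub_apply]
    omega
  have hm : monomial β' (1 : k) = monomial β 1 * monomial (β' - β) 1 := by
    rw [monomial_mul, one_mul, ← e]
  show monomial β' (1 : k) ∈ I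
  rw [hm]
  exact I.mul_mem_right _ hβ

theorem exists_basis {σ : Type*} (J : Ideal (MvPolynomial σ k)) (hJ : IsMonomial J) :
    Nonempty (Module.Basis {β : σ →₀ ℕ // β ∉ exps J} k (MvPolynomial σ k ⧸ J)) := by
  classical
  obtain ⟨v, hv⟩ : ∃ v : {β : σ →₀ ℕ // β ∉ exps J} → (MvPolynomial σ k ⧸ J),
      v = fun β => Ideal.Quotient.mkₐ k J (monomial β.1 1) := ⟨_, rfl⟩
  have hli : LinearIndependent k v := by
    rw [linearIndependent_iff']
    intro s g hg i hi
    by_contra hgi
    have hp : (∑ j ∈ s, monomial j.1 (g j) : MvPolynomial σ k) ∈ J := by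
      have : Ideal.Quotient.mkₐ k J (∑ j ∈ s, monomial j.1 (g j)) = 0 := by
        rw [map_sum, ← hg]
        refine Finset.sum_congr rfl fun j _ => ?_
        rw [hv]
        simp only
        rw [← map_smul, smul_monomial, smul_eq_mul, mul_one]
      rwa [Ideal.Quotient.mkₐ_eq_mk, Ideal.Quotient.eq_zero_iff_mem] at this
    have hc : coeff i.1 (∑ j ∈ s, monomial j.1 (g j) : MvPolynomial σ k) = g i := by
      rw [coeff_sum, Finset.sum_eq_single i]
      · rw [coeff_monomial, if_pos rfl]
      · intro j _ hji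
        rw [coeff_monomial, if_neg]
        intro h
        exact hji (Subtype.ext h)
      · intro h
        exact absurd hi h
    apply i.2
    apply hJ _ hp
    rw [mem_support_iff, hc]
    exact hgi
  have hsp : ⊤ ≤ Submodule.span k (Set.range v) := by
    rintro x -
    obtain ⟨p, rfl⟩ := Ideal.Quotient.mkₐ_surjective k J x
    rw [← support_sum_monomial_coeff p, map_sum]
    apply Submodule.sum_mem
    intro β hβ
    by_cases hβJ : β ∈ exps J
    · have h0 : Ideal.Quotient.mkₐ k J (monomial β (coeff β p)) = 0 := by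
        rw [Ideal.Quotient.mkₐ_eq_mk, Ideal.Quotient.eq_zero_iff_mem]
        have : monomial β (coeff β p) = C (coeff β p) * monomial β (1 : k) := by
          rw [C_mul_monomial, mul_one]
        rw [this]
        exact J.mul_mem_left _ hβJ
      rw [h0]
      exact Submodule.zero_mem _
    · have h1 : Ideal.Quotient.mkₐ k J (monomial β (coeff β p)) = coeff β p • v ⟨β, hβJ⟩ := by
        rw [hv]
        simp only
        rw [← map_smul, smul_monomial, smul_eq_mul, mul_one]
      rw [h1]
      exact Submodule.smul_mem _ _ (Submodule.subset_span ⟨_, rfl⟩)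
  exact ⟨Module.Basis.mk hli hsp⟩

theorem finrank_quot {σ : Type*} (J : Ideal (MvPolynomial σ k)) (hJ : IsMonomial J) :
    Module.finrank k (MvPolynomial σ k ⧸ J) = Nat.card {β : σ →₀ ℕ // β ∉ exps J} := by
  obtain ⟨b⟩ := exists_basis J hJ
  exact Module.finrank_eq_nat_card_basis b

noncomputable def e2 (b c : ℕ) : Fin 2 →₀ ℕ := Finsupp.equivFunOnFinite.symm ![b, c]

theorem e2_0 (b c : ℕ) : e2 b c 0 = b := by simp [e2]
theorem e2_1 (b c : ℕ) : e2 b c 1 = c := by simp [e2]
theorem e2_eta (β : Fin 2 →₀ ℕ) : e2 (β 0) (β 1) = β := by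
  ext i
  fin_cases i
  · exact e2_0 _ _
  · exact e2_1 _ _
theorem e3_0 (a b c : ℕ) : e3 a b c 0 = a := by simp [e3]
theorem e3_1 (a b c : ℕ) : e3 a b c 1 = b := by simp [e3]
theorem e3_2 (a b c : ℕ) : e3 a b c 2 = c := by simp [e3]
theorem e3_eta (β : Fin 3 →₀ ℕ) : e3 (β 0) (β 1) (β 2) = β := by
  ext i
  fin_cases i
  · exact e3_0 _ _ _
  · exact e3_1 _ _ _
  · exact e3_2 _ _ _
theorem e3_inj {a b c a' b' c' : ℕ} (h : e3 a b c = e3 a' b' c') : a = a' ∧ b = b' ∧ c = c' := by
  have h0 := DFunLike.congr_fun h 0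
  have h1 := DFunLike.congr_fun h 1
  have h2 := DFunLike.congr_fun h 2
  rw [e3_0, e3_0] at h0
  rw [e3_1, e3_1] at h1
  rw [e3_2, e3_2] at h2
  exact ⟨h0, h1, h2⟩

theorem lift3_eq (a : ℕ) (β : Fin 2 →₀ ℕ) : lift3 a β = e3 a (β 0) (β 1) := by
  ext i
  refine Fin.cases ?_ (fun j => ?_) i
  · rw [lift3_zero, e3_0]
  · rw [lift3_succ]
    fin_cases j
    · exact (e3_1 _ _ _).symm
    · exact (e3_2 _ _ _).symm

theorem exps_slice (I : Ideal (MvPolynomial (Fin 3) k)) (hI : IsMonomial I) (a : ℕ)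
    (β : Fin 2 →₀ ℕ) : β ∈ exps (sliceX I a) ↔ lift3 a β ∈ exps I := by
  classical
  show MvPolynomial.monomial β (1 : k) ∈ sliceX I a ↔ _
  rw [mem_sliceX_iff I hI]
  constructor
  · intro h
    apply h β
    rw [MvPolynomial.mem_support_iff, MvPolynomial.coeff_monomial, if_pos rfl]
    exact one_ne_zero
  · intro h β' hβ'
    have h2 : β' = β := by
      have := MvPolynomial.support_monomial_subset hβ'
      simpa using this
    rw [h2]
    exact h

theorem slice_monomial (I : Ideal (MvPolynomial (Fin 3) k)) (hI : IsMonomial I) (a : ℕ) :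
    IsMonomial (sliceX I a) := by
  intro f hf β hβ
  have := (mem_sliceX_iff I hI a f).1 hf β hβ
  exact (exps_slice I hI a β).2 this

/-- exponent triples of the monomials outside `I` -/
def Lset (I : Ideal (MvPolynomial (Fin 3) k)) : Set (ℕ × ℕ × ℕ) :=
  {p | e3 p.1 p.2.1 p.2.2 ∉ exps I}

theorem Lset_h1 (I : Ideal (MvPolynomial (Fin 3) k)) (a b c a' b' c' : ℕ)
    (h : (a, b, c) ∈ Lset I) (ha : a' ≤ a) (hb : b' ≤ b) (hc : c' ≤ c) :
    (a', b', c') ∈ Lset I := by
  intro hmem
  apply h
  have hmem' : e3 a' b' c' ∈ exps I := hmem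
  show e3 a b c ∈ exps I
  refine exps_of_le' hmem' ?_
  rw [Finsupp.le_def]
  intro i
  fin_cases i
  · show e3 a' b' c' 0 ≤ e3 a b c 0
    rw [e3_0, e3_0]
    exact ha
  · show e3 a' b' c' 1 ≤ e3 a b c 1
    rw [e3_1, e3_1]
    exact hb
  · show e3 a' b' c' 2 ≤ e3 a b c 2
    rw [e3_2, e3_2]
    exact hc

theorem Lset_h2 (I : Ideal (MvPolynomial (Fin 3) k)) (hI : IsStronglyStable I) (a b c : ℕ)
    (h : (a + 1, b, c) ∈ Lset I) : (a, b + 1, c) ∈ Lset I := by
  intro hmem
  apply h
  have hmem' : e3 a (b + 1) c ∈ exps I := hmem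
  have := hI.2 _ hmem' 0 1 (by decide) (by rw [e3_1]; omega)
  have e : e3 a (b + 1) c - Finsupp.single 1 1 + Finsupp.single 0 1 = e3 (a + 1) b c := by
    ext i
    fin_cases i
    · show (e3 a (b + 1) c - Finsupp.single 1 1 + Finsupp.single 0 1 : Fin 3 →₀ ℕ) 0 = e3 (a + 1) b c 0
      simp [e3_0]
    · show (e3 a (b + 1) c - Finsupp.single 1 1 + Finsupp.single 0 1 : Fin 3 →₀ ℕ) 1 = e3 (a + 1) b c 1
      simp [e3_1]
    · show (e3 a (b + 1) c - Finsupp.single 1 1 + Finsupp.single 0 1 : Fin 3 →₀ ℕ) 2 = e3 (a + 1) b c 2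
      simp [e3_2]
  rw [e] at this
  exact this

theorem Lset_h3 (I : Ideal (MvPolynomial (Fin 3) k)) (hI : IsStronglyStable I) (a b c : ℕ)
    (h : (a, b + 1, c) ∈ Lset I) : (a, b, c + 1) ∈ Lset I := by
  intro hmem
  apply h
  have hmem' : e3 a b (c + 1) ∈ exps I := hmem
  have := hI.2 _ hmem' 1 2 (by decide) (by rw [e3_2]; omega)
  have e : e3 a b (c + 1) - Finsupp.single 2 1 + Finsupp.single 1 1 = e3 a (b + 1) c := by
    ext i
    fin_cases i
    · show (e3 a b (c + 1) - Finsupp.single 2 1 + Finsupp.single 1 1 : Fin 3 →₀ ℕ) 0 = e3 a (b + 1) c 0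
      simp [e3_0]
    · show (e3 a b (c + 1) - Finsupp.single 2 1 + Finsupp.single 1 1 : Fin 3 →₀ ℕ) 1 = e3 a (b + 1) c 1
      simp [e3_1]
    · show (e3 a b (c + 1) - Finsupp.single 2 1 + Finsupp.single 1 1 : Fin 3 →₀ ℕ) 2 = e3 a (b + 1) c 2
      simp [e3_2]
  rw [e] at this
  exact this

theorem Lset_finite (I : Ideal (MvPolynomial (Fin 3) k)) (hI : IsMonomial I)
    [Module.Finite k (MvPolynomial (Fin 3) k ⧸ I)] : (Lset I).Finite := by
  obtain ⟨b⟩ := exists_basis I hI
  have hfin : Finite {β : Fin 3 →₀ ℕ // β ∉ exps I} := Module.Finite.finite_basis b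
  have hs : {β : Fin 3 →₀ ℕ | β ∉ exps I}.Finite := Set.finite_coe_iff.mp hfin
  have hpre : Lset I = (fun p : ℕ × ℕ × ℕ => e3 p.1 p.2.1 p.2.2) ⁻¹' {β | β ∉ exps I} := rfl
  rw [hpre]
  apply Set.Finite.preimage _ hs
  intro p _ p' _ h
  obtain ⟨h0, h1, h2⟩ := e3_inj h
  exact Prod.ext h0 (Prod.ext h1 h2)

theorem card_Lset (I : Ideal (MvPolynomial (Fin 3) k)) (hI : IsMonomial I)
    (hfin : (Lset I).Finite) :
    hfin.toFinset.card = Module.finrank k (MvPolynomial (Fin 3) k ⧸ I) := by
  rw [finrank_quot I hI, ← Nat.card_eq_finsetCard]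
  apply Nat.card_congr
  exact
    { toFun := fun p => ⟨e3 p.1.1 p.1.2.1 p.1.2.2, hfin.mem_toFinset.mp p.2⟩
      invFun := fun β => ⟨(β.1 0, β.1 1, β.1 2), hfin.mem_toFinset.mpr (by
        show e3 (β.1 0) (β.1 1) (β.1 2) ∉ exps I
        rw [e3_eta]
        exact β.2)⟩
      left_inv := fun p => by
        apply Subtype.ext
        simp only
        rw [e3_0, e3_1, e3_2]
      right_inv := fun β => by
        apply Subtype.ext
        simp only
        exact e3_eta _ }

theorem card_slice (I : Ideal (MvPolynomial (Fin 3) k)) (hI : IsMonomial I)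
    (hfin : (Lset I).Finite) (a : ℕ) :
    Module.finrank k (MvPolynomial (Fin 2) k ⧸ sliceX I a) =
      (hfin.toFinset.filter (fun p => p.1 = a)).card := by
  rw [finrank_quot (sliceX I a) (slice_monomial I hI a), ← Nat.card_eq_finsetCard]
  apply Nat.card_congr
  exact
    { toFun := fun β => ⟨(a, β.1 0, β.1 1), by
        rw [Finset.mem_filter, Set.Finite.mem_toFinset]
        refine ⟨?_, rfl⟩
        show e3 a (β.1 0) (β.1 1) ∉ exps I
        rw [← lift3_eq, ← exps_slice I hI a]
        exact β.2⟩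
      invFun := fun p => ⟨e2 p.1.2.1 p.1.2.2, by
        have hp := Finset.mem_filter.mp p.2
        have hL : e3 p.1.1 p.1.2.1 p.1.2.2 ∉ exps I := hfin.mem_toFinset.mp hp.1
        rw [hp.2] at hL
        rw [exps_slice I hI a, lift3_eq, e2_0, e2_1]
        exact hL⟩
      left_inv := fun β => by
        apply Subtype.ext
        simp only
        exact e2_eta _
      right_inv := fun p => by
        apply Subtype.ext
        have hp := Finset.mem_filter.mp p.2
        simp only
        rw [e2_0, e2_1]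
        exact Prod.ext hp.2.symm rfl }

end Alg



open W4c1hilbpn in
/-- Let k be an infinite field, S = k[x,y,z] with variables ordered x > y > z and irrelevant ideal m, r
a natural number, and I a strongly stable ideal of colength at most C(r+2, 3) = dim S/m^r; write I_i
for the ideal of polynomials f in k[y,z] with x^i f in I. Then for every j ≤ r the sum over j ≤ i <
r of dim k[y,z]/I_i is at most the sum over the same i of C(r-i+1, 2) = dim k[y,z]/(y,z)^{r-i}, and
if equality holds for every j < r then I = m^r. -/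
theorem result (k : Type u) [Field k] [Infinite k] (r : ℕ)
    (I : Ideal (MvPolynomial (Fin 3) k)) (hI : IsStronglyStable I) [Module.Finite k (MvPolynomial (Fin 3) k ⧸ I)]
    (hd : Module.finrank k (MvPolynomial (Fin 3) k ⧸ I) ≤ Nat.choose (r + 2) 3) :
    (∀ j, j ≤ r → ∑ i ∈ Finset.Ico j r, Module.finrank k (MvPolynomial (Fin 2) k ⧸ sliceX I i) ≤
        ∑ i ∈ Finset.Ico j r, Nat.choose (r - i + 1) 2) ∧
    ((∀ j, j < r → ∑ i ∈ Finset.Ico j r, Module.finrank k (MvPolynomial (Fin 2) k ⧸ sliceX I i) =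
        ∑ i ∈ Finset.Ico j r, Nat.choose (r - i + 1) 2) → I = (Ideal.span (Set.range (MvPolynomial.X : Fin 3 → MvPolynomial (Fin 3) k))) ^ r) := by
  classical
  have hfin := Lset_finite I hI.1
  obtain ⟨L, hL⟩ : ∃ L : Finset (ℕ × ℕ × ℕ), L = hfin.toFinset := ⟨_, rfl⟩
  have hmem : ∀ p : ℕ × ℕ × ℕ, p ∈ L ↔ e3 p.1 p.2.1 p.2.2 ∉ exps I := by
    intro p
    rw [hL, Set.Finite.mem_toFinset]
    rfl
  have h1 : ∀ a b c a' b' c', (a, b, c) ∈ L → a' ≤ a → b' ≤ b → c' ≤ c → (a', b', c') ∈ L := by
    intro a b c a' b' c' h ha hb hc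
    rw [hL, Set.Finite.mem_toFinset] at h ⊢
    exact Lset_h1 I a b c a' b' c' h ha hb hc
  have h2 : ∀ a b c, (a + 1, b, c) ∈ L → (a, b + 1, c) ∈ L := by
    intro a b c h
    rw [hL, Set.Finite.mem_toFinset] at h ⊢
    exact Lset_h2 I hI a b c h
  have h3 : ∀ a b c, (a, b + 1, c) ∈ L → (a, b, c + 1) ∈ L := by
    intro a b c h
    rw [hL, Set.Finite.mem_toFinset] at h ⊢
    exact Lset_h3 I hI a b c h
  have hcard : L.card ≤ Nat.choose (r + 2) 3 := by
    rw [hL, card_Lset I hI.1 hfin]
    exact hd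
  have hsl : ∀ i, Module.finrank k (MvPolynomial (Fin 2) k ⧸ sliceX I i) =
      (L.filter (fun p => p.1 = i)).card := by
    intro i
    rw [hL]
    exact card_slice I hI.1 hfin i
  simp only [hsl]
  refine ⟨fun j hj => core_i L h1 h2 h3 r hcard j hj, fun heq => ?_⟩
  have hiff := core_ii L h1 h2 h3 r hcard heq
  have hexp : ∀ β : Fin 3 →₀ ℕ, β ∈ exps I ↔ r ≤ β.degree := by
    intro β
    have := hiff (β 0) (β 1) (β 2)
    rw [hmem] at this
    simp only at this
    rw [e3_eta] at this
    rw [Finsupp.degree_eq_sum, Fin.sum_univ_three]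
    constructor
    · intro h
      by_contra hlt
      exact (this.mpr (by omega)) h
    · intro h
      by_contra hn
      have := this.mp hn
      omega
  apply le_antisymm
  · intro p hp
    show p ∈ MvPolynomial.idealOfVars (Fin 3) k ^ r
    rw [MvPolynomial.mem_pow_idealOfVars_iff]
    intro β hβ
    exact (hexp β).mp (hI.1 p hp β hβ)
  · intro p hp
    have hp' : p ∈ MvPolynomial.idealOfVars (Fin 3) k ^ r := hp
    rw [MvPolynomial.mem_pow_idealOfVars_iff] at hp'
    rw [← MvPolynomial.support_sum_monomial_coeff p]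
    apply Ideal.sum_mem
    intro β hβ
    have hβI : MvPolynomial.monomial β (1 : k) ∈ I := (hexp β).mpr (hp' β hβ)
    have : MvPolynomial.monomial β (MvPolynomial.coeff β p)
        = MvPolynomial.C (MvPolynomial.coeff β p) * MvPolynomial.monomial β (1 : k) := by
      rw [MvPolynomial.C_mul_monomial, mul_one]
    rw [this]
    exact I.mul_mem_left _ hβI


end Groth.Agent.S13454
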