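import Groth.Statements.S13455
import Mathlib

set_option autoImplicit false
universe u
open W4c1hilbpn

namespace Groth.Agent.S13455

open MvPolynomial

theorem two_single_le {σ : Type*} [DecidableEq σ] {p q : σ} (hpq : p ≠ q) (β : σ →₀ ℕ) :
    Finsupp.single p 1 + Finsupp.single q 1 ≤ β ↔ 1 ≤ β p ∧ 1 ≤ β q := by
  constructor
  · intro h
    exact ⟨Finsupp.single_le_iff.1 (le_self_add.trans h), Finsupp.single_le_iff.1 (le_add_self.trans h)⟩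
  · rintro ⟨h1, h2⟩ i
    simp only [Finsupp.add_apply, Finsupp.single_apply]
    by_cases hip : p = i
    · subst hip
      rw [if_pos rfl, if_neg (Ne.symm hpq)]
      omega
    · by_cases hiq : q = i
      · subst hiq
        rw [if_neg hip, if_pos rfl]
        omega
      · rw [if_neg hip, if_neg hiq]
        omega

theorem core (n k0 e1 e2 : ℕ) (hn : 2 * k0 ≤ n + 1) (he : e1 ≤ e2) (he2 : e2 + 1 ≤ k0)
    (β : Fin (n + 1) →₀ ℕ) :
    (∃ s ∈ ({s : Fin (n + 1) →₀ ℕ | ∃ p q : Fin (n + 1), e1 ≤ p.val ∧ p.val ≤ e2 ∧ e1 ≤ q.val ∧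
          q.val ≤ e2 ∧ s = Finsupp.single p 1 + Finsupp.single q 1} ∪
        {s : Fin (n + 1) →₀ ℕ | ∃ p q m : Fin (n + 1), e1 ≤ p.val ∧ p.val < q.val ∧ q.val ≤ e2 ∧
          m.val + k0 = n + 1 + q.val ∧ s = Finsupp.single p 1 + Finsupp.single m 1}), s ≤ β) ↔
    ∀ j : Fin (n + 1), e1 ≤ j.val ∧ j.val ≤ e2 →
      ∃ s ∈ ({s : Fin (n + 1) →₀ ℕ | ∃ i : Fin (n + 1), e1 ≤ i.val ∧ i.val ≤ e2 ∧ i ≠ j ∧
            s = Finsupp.single i 1} ∪ {Finsupp.single j 2} ∪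
          {s : Fin (n + 1) →₀ ℕ | ∃ q m : Fin (n + 1), j.val < q.val ∧ q.val ≤ e2 ∧
            m.val + k0 = n + 1 + q.val ∧ s = Finsupp.single m 1}), s ≤ β := by
  constructor
  · rintro ⟨s, hs, hsβ⟩ j ⟨hj1, hj2⟩
    rcases hs with ⟨p, q, hp1, hp2, hq1, hq2, rfl⟩ | ⟨p, q, m, hp1, hpq, hq2, hm, rfl⟩
    · by_cases hpj : p = j
      · by_cases hqj : q = j
        · rw [hpj, hqj, ← Finsupp.single_add] at hsβ
          exact ⟨Finsupp.single j 2, Or.inl (Or.inr rfl), hsβ⟩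
        · exact ⟨Finsupp.single q 1, Or.inl (Or.inl ⟨q, hq1, hq2, hqj, rfl⟩),
            le_add_self.trans hsβ⟩
      · exact ⟨Finsupp.single p 1, Or.inl (Or.inl ⟨p, hp1, hp2, hpj, rfl⟩),
          le_self_add.trans hsβ⟩
    · by_cases hpj : p = j
      · subst hpj
        exact ⟨Finsupp.single m 1, Or.inr ⟨q, m, hpq, hq2, hm, rfl⟩, le_add_self.trans hsβ⟩
      · exact ⟨Finsupp.single p 1, Or.inl (Or.inl ⟨p, hp1, by omega, hpj, rfl⟩),
          le_self_add.trans hsβ⟩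
  · intro h
    by_cases hA : ∃ p q : Fin (n + 1), e1 ≤ p.val ∧ p.val ≤ e2 ∧ e1 ≤ q.val ∧ q.val ≤ e2 ∧ p ≠ q ∧
        1 ≤ β p ∧ 1 ≤ β q
    · obtain ⟨p, q, hp1, hp2, hq1, hq2, hpq, hbp, hbq⟩ := hA
      exact ⟨_, Or.inl ⟨p, q, hp1, hp2, hq1, hq2, rfl⟩, (two_single_le hpq β).2 ⟨hbp, hbq⟩⟩
    · by_cases hB : ∃ p : Fin (n + 1), e1 ≤ p.val ∧ p.val ≤ e2 ∧ 1 ≤ β p
      · obtain ⟨p, hp1, hp2, hbp⟩ := hB
        obtain ⟨s, hs, hsβ⟩ := h p ⟨hp1, hp2⟩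
        rcases hs with (⟨i, hi1, hi2, hip, rfl⟩ | hs) | ⟨q, m, hpq, hq2, hm, rfl⟩
        · exact absurd ⟨i, p, hi1, hi2, hp1, hp2, hip, Finsupp.single_le_iff.1 hsβ, hbp⟩ hA
        · rw [Set.mem_singleton_iff] at hs
          subst hs
          refine ⟨_, Or.inl ⟨p, p, hp1, hp2, hp1, hp2, rfl⟩, ?_⟩
          rwa [← Finsupp.single_add]
        · have hpm : p ≠ m := by
            intro hpm
            have := congrArg Fin.val hpm
            omega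
          exact ⟨_, Or.inr ⟨p, q, m, hp1, hpq, hq2, hm, rfl⟩,
            (two_single_le hpm β).2 ⟨hbp, Finsupp.single_le_iff.1 hsβ⟩⟩
      · exfalso
        obtain ⟨s, hs, hsβ⟩ := h ⟨e2, by omega⟩ ⟨he, le_rfl⟩
        rcases hs with (⟨i, hi1, hi2, _, rfl⟩ | hs) | ⟨q, m, hpq, hq2, hm, rfl⟩
        · exact hB ⟨i, hi1, hi2, Finsupp.single_le_iff.1 hsβ⟩
        · rw [Set.mem_singleton_iff] at hs
          subst hs
          exact hB ⟨⟨e2, by omega⟩, he, le_rfl, by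
            have := Finsupp.single_le_iff.1 hsβ
            omega⟩
        · simp only at hpq
          omega



/-- Let k be an algebraically closed field of characteristic different from 2, k0 ≥ 1 and n ≥ 2k0 - 1
natural numbers, S = k[x_0, ..., x_n], and e1 ≤ e2 ≤ k0 - 1. The ideal generated by all products x_p
x_q with e1 ≤ p, q ≤ e2 together with the products x_p x_{n-k0+1+q} for e1 ≤ p < q ≤ e2 is the
intersection, over j from e1 to e2, of the ideals generated by the variables x_i with e1 ≤ i ≤ e2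
and i ≠ j, the square x_j^2, and the variables x_{n-k0+1+q} for j < q ≤ e2 (a primary decomposition
of this monomial ideal). -/
theorem result (k : Type u) [Field k] [IsAlgClosed k] (hchar : ringChar k ≠ 2)
    (n k0 e1 e2 : ℕ) (hk : 1 ≤ k0) (hn : 2 * k0 ≤ n + 1) (he : e1 ≤ e2) (he2 : e2 + 1 ≤ k0) :
    Ideal.span ({f : MvPolynomial (Fin (n + 1)) k | ∃ p q : Fin (n + 1), e1 ≤ p.val ∧ p.val ≤ e2 ∧ e1 ≤ q.val ∧ q.val ≤ e2 ∧
        f = MvPolynomial.X p * MvPolynomial.X q} ∪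
      {f : MvPolynomial (Fin (n + 1)) k | ∃ p q m : Fin (n + 1), e1 ≤ p.val ∧ p.val < q.val ∧ q.val ≤ e2 ∧
        m.val + k0 = n + 1 + q.val ∧ f = MvPolynomial.X p * MvPolynomial.X m}) =
    ⨅ j : Fin (n + 1), ⨅ (_ : e1 ≤ j.val ∧ j.val ≤ e2),
      Ideal.span ({f : MvPolynomial (Fin (n + 1)) k | ∃ i : Fin (n + 1), e1 ≤ i.val ∧ i.val ≤ e2 ∧ i ≠ j ∧ f = MvPolynomial.X i} ∪
        {MvPolynomial.X j ^ 2} ∪
        {f : MvPolynomial (Fin (n + 1)) k | ∃ q m : Fin (n + 1), j.val < q.val ∧ q.val ≤ e2 ∧ m.val + k0 = n + 1 + q.val ∧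
          f = MvPolynomial.X m}) := by
  have hXX : ∀ p q : Fin (n + 1), (X p * X q : MvPolynomial (Fin (n + 1)) k) =
      monomial (Finsupp.single p 1 + Finsupp.single q 1) (1 : k) := by
    intro p q
    rw [X, X, monomial_mul, one_mul]
  have hL : ({f : MvPolynomial (Fin (n + 1)) k | ∃ p q : Fin (n + 1), e1 ≤ p.val ∧ p.val ≤ e2 ∧
        e1 ≤ q.val ∧ q.val ≤ e2 ∧ f = MvPolynomial.X p * MvPolynomial.X q} ∪
      {f : MvPolynomial (Fin (n + 1)) k | ∃ p q m : Fin (n + 1), e1 ≤ p.val ∧ p.val < q.val ∧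
        q.val ≤ e2 ∧ m.val + k0 = n + 1 + q.val ∧ f = MvPolynomial.X p * MvPolynomial.X m}) =
      (fun s => monomial s (1 : k)) '' ({s : Fin (n + 1) →₀ ℕ | ∃ p q : Fin (n + 1), e1 ≤ p.val ∧
          p.val ≤ e2 ∧ e1 ≤ q.val ∧ q.val ≤ e2 ∧ s = Finsupp.single p 1 + Finsupp.single q 1} ∪
        {s : Fin (n + 1) →₀ ℕ | ∃ p q m : Fin (n + 1), e1 ≤ p.val ∧ p.val < q.val ∧ q.val ≤ e2 ∧
          m.val + k0 = n + 1 + q.val ∧ s = Finsupp.single p 1 + Finsupp.single m 1}) := by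
    ext f
    constructor
    · rintro (⟨p, q, h1, h2, h3, h4, rfl⟩ | ⟨p, q, m, h1, h2, h3, h4, rfl⟩)
      · exact ⟨_, Or.inl ⟨p, q, h1, h2, h3, h4, rfl⟩, (hXX p q).symm⟩
      · exact ⟨_, Or.inr ⟨p, q, m, h1, h2, h3, h4, rfl⟩, (hXX p m).symm⟩
    · rintro ⟨s, (⟨p, q, h1, h2, h3, h4, rfl⟩ | ⟨p, q, m, h1, h2, h3, h4, rfl⟩), rfl⟩
      · exact Or.inl ⟨p, q, h1, h2, h3, h4, (hXX p q).symm⟩
      · exact Or.inr ⟨p, q, m, h1, h2, h3, h4, (hXX p m).symm⟩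
  have hJ : ∀ j : Fin (n + 1),
      ({f : MvPolynomial (Fin (n + 1)) k | ∃ i : Fin (n + 1), e1 ≤ i.val ∧ i.val ≤ e2 ∧ i ≠ j ∧
          f = MvPolynomial.X i} ∪ {MvPolynomial.X j ^ 2} ∪
        {f : MvPolynomial (Fin (n + 1)) k | ∃ q m : Fin (n + 1), j.val < q.val ∧ q.val ≤ e2 ∧
          m.val + k0 = n + 1 + q.val ∧ f = MvPolynomial.X m}) =
      (fun s => monomial s (1 : k)) '' ({s : Fin (n + 1) →₀ ℕ | ∃ i : Fin (n + 1), e1 ≤ i.val ∧
            i.val ≤ e2 ∧ i ≠ j ∧ s = Finsupp.single i 1} ∪ {Finsupp.single j 2} ∪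
          {s : Fin (n + 1) →₀ ℕ | ∃ q m : Fin (n + 1), j.val < q.val ∧ q.val ≤ e2 ∧
            m.val + k0 = n + 1 + q.val ∧ s = Finsupp.single m 1}) := by
    intro j
    ext f
    constructor
    · rintro ((⟨i, h1, h2, h3, rfl⟩ | hf) | ⟨q, m, h1, h2, h3, rfl⟩)
      · exact ⟨_, Or.inl (Or.inl ⟨i, h1, h2, h3, rfl⟩), rfl⟩
      · rw [Set.mem_singleton_iff] at hf
        subst hf
        exact ⟨_, Or.inl (Or.inr rfl), (X_pow_eq_monomial).symm⟩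
      · exact ⟨_, Or.inr ⟨q, m, h1, h2, h3, rfl⟩, rfl⟩
    · rintro ⟨s, ((⟨i, h1, h2, h3, rfl⟩ | hs) | ⟨q, m, h1, h2, h3, rfl⟩), rfl⟩
      · exact Or.inl (Or.inl ⟨i, h1, h2, h3, rfl⟩)
      · rw [Set.mem_singleton_iff] at hs
        subst hs
        exact Or.inl (Or.inr (X_pow_eq_monomial).symm)
      · exact Or.inr ⟨q, m, h1, h2, h3, rfl⟩
  ext f
  rw [hL, mem_ideal_span_monomial_image]
  simp only [Ideal.mem_iInf]
  constructor
  · intro h j hj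
    rw [hJ j, mem_ideal_span_monomial_image]
    intro β hβ
    exact (core n k0 e1 e2 hn he he2 β).1 (h β hβ) j hj
  · intro h β hβ
    refine (core n k0 e1 e2 hn he he2 β).2 (fun j hj => ?_)
    have := h j hj
    rw [hJ j, mem_ideal_span_monomial_image] at this
    exact this β hβ


end Groth.Agent.S13455
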