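import Groth.Statements.S13459
import Groth.Agent.Lib.Helper7.SurfCurveImm
import Groth.Agent.Lib.Helper19.ProjSpaceProper
import Groth.Agent.Lib.Helper11.AmpleAffine

set_option autoImplicit false
universe u
open CategoryTheory CategoryTheory.Limits AlgebraicGeometry
open Surf

namespace Groth.Agent.S13459

/-- Let k be a field and S an integral surface (dimension two) which is smooth over k and projective (a
closed immersion into some P^n_k over k). Let i : C → S be the closed immersion of an integral curve
(dimension one) all of whose local rings are regular, with ideal sheaf I ⊆ O_S, and let L be an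
invertible O_S-module with an inverse L' (L ⊗ L' ≅ O_S). Then the intersection number of O_S(C) with
L, namely the alternating sum χ(O_S) − χ(I) − χ(L') + χ(I ⊗ L') formed with the inverses I = O_S(−C)
and L' (packaged as FGA.intNum), equals the degree of the restriction of L to C, the degree of a
module M on C being χ(M) − χ(O_C). -/
theorem result (k : Type u) [Field k] (S : Scheme.{u}) [S.Over (Spec (CommRingCat.of k))]
    [IsIntegral S] (hdim : topologicalKrullDim S = 2) [Smooth (S ↘ (Spec (CommRingCat.of k)))]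
    (hproj : ∃ (n : ℕ) (ι : S ⟶ CohB1.ProjSpace n k), IsClosedImmersion ι ∧ ι ≫ CohB1.ProjSpace.toSpec n k = (S ↘ (Spec (CommRingCat.of k))))
    (C : Scheme.{u}) (i : C ⟶ S) [IsClosedImmersion i] [IsIntegral C] (hC : topologicalKrullDim C = 1)
    (hCreg : ∀ c : C, IsRegularLocalRing (C.presheaf.stalk c))
    (L L' : S.Modules) (hL : PicF.IsInvertible L) (hLL' : Nonempty (CohB1.tensorMod L L' ≅ Coh.structureModule S)) :
    letI : C.Over (Spec (CommRingCat.of k)) := ⟨i ≫ (S ↘ (Spec (CommRingCat.of k)))⟩
    FGA.intNum k S 2 ![ClSub.idealMod i.ker, L'] (Coh.structureModule S) =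
      Curv2.deg k C ((Scheme.Modules.pullback i).obj L) 1 := by
  obtain ⟨n, ι, hι, hcomp⟩ := hproj
  haveI : IsProper (S ↘ Spec (CommRingCat.of k)) := by
    rw [← hcomp]
    haveI := Groth.Agent.Lib.helper19.ProjSpaceProper.proper_toSpec n k
    infer_instance
  have hd : topologicalKrullDim S ≤ ((2 : ℕ) : WithBot ℕ∞) := by rw [hdim]; rfl
  have hreg : ∀ x : S, IsRegularLocalRing (S.presheaf.stalk x) := fun x =>
    Groth.Agent.Lib.helper7.SurfCartier.isRegularLocalRing_stalk_of_smooth
      (S ↘ Spec (CommRingCat.of k)) x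
  obtain ⟨hI, h1⟩ := Groth.Agent.Lib.helper7.SurfCurveImm.P_idealMod_ker k S hdim hreg i hC hL
  obtain ⟨e⟩ := hLL'
  have hL' : PicF.IsInvertible L' :=
    Groth.Agent.Lib.helper11.AmpleAffine.isInvertible_of_isInverseOf hL ⟨e⟩
  have h2 : Groth.Agent.Lib.helper7.SurfHodge.P k S (ClSub.idealMod i.ker) L' =
      - Groth.Agent.Lib.helper7.SurfHodge.P k S (ClSub.idealMod i.ker) L :=
    Groth.Agent.Lib.helper7.SurfHodge.P_inv_right k S hd hI hL hL' e
  have h3 : Groth.Agent.Lib.helper7.SurfHodge.P k S (ClSub.idealMod i.ker) L =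
      Groth.Agent.Lib.helper7.SurfHodge.P k S L (ClSub.idealMod i.ker) :=
    Groth.Agent.Lib.helper7.SurfHodge.P_symm k S hd _ _
  have h4 : FGA.intNum k S 2 ![ClSub.idealMod i.ker, L'] (Coh.structureModule S) =
      - Groth.Agent.Lib.helper7.SurfHodge.P k S (ClSub.idealMod i.ker) L := h2
  rw [h4, h3, h1]
  unfold Curv2.deg
  simp only [Nat.cast_one, one_mul, neg_neg]

end Groth.Agent.S13459
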