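import Groth.Statements.S1346
import Mathlib
import Groth.Agent.Lib.Helper17.FibreBC
import Groth.Agent.Lib.Helper24.FlatDepth4

set_option autoImplicit false
set_option linter.style.haveILetI false
universe u
open FlatMor

namespace Groth.Agent.S1346

open AlgebraicGeometry CategoryTheory Limits in
/-- Let f have locally Noetherian fibres and let f' be its base change along a morphism locally of
finite type. Given a point x' with image x, flatness of f at x together with the Cohen–Macaulay
property of f' at x' implies that f is Cohen–Macaulay at x. -/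
theorem result {X Y X' Y' : Scheme.{u}} (f : X ⟶ Y) (hN : ∀ y : Y, IsLocallyNoetherian (f.fiber y))
    (f' : X' ⟶ Y') (g' : X' ⟶ X) (g : Y' ⟶ Y) [LocallyOfFiniteType g] (hc : IsPullback g' f' f g) (x' : X')
    (hflat : (f.stalkMap (g' x')).hom.Flat) (h : MoreMor.IsCMAt f' x') : MoreMor.IsCMAt f (g' x') := by
  obtain ⟨ψ, hψ, hloc⟩ := Groth.Agent.Lib.helper17.FibreBC.exists_flat_local_hom hc x'
  obtain ⟨-, hCM⟩ := h
  haveI := hN (f (g' x'))
  haveI : IsNoetherianRing ((f.fiber (f (g' x'))).presheaf.stalk (f.asFiber (g' x'))) :=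
    inferInstance
  algebraize [ψ]
  haveI : IsLocalHom (algebraMap ((f.fiber (f (g' x'))).presheaf.stalk (f.asFiber (g' x')))
      ((f'.fiber (f' x')).presheaf.stalk (f'.asFiber x'))) := hloc
  exact ⟨hflat, ((Groth.Agent.Lib.Helper24.FlatDepth.cm_iff_of_flat
    ((f.fiber (f (g' x'))).presheaf.stalk (f.asFiber (g' x')))
    ((f'.fiber (f' x')).presheaf.stalk (f'.asFiber x'))).mp hCM).1⟩

end Groth.Agent.S1346
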