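import Groth.Statements.S1347
import Mathlib
import Groth.Agent.Lib.Helper17.FlatStalkBC
import Groth.Agent.Lib.Helper17.CMComp
import Groth.Agent.S1346

set_option autoImplicit false
set_option linter.style.haveILetI false
universe u
open FlatMor

namespace Groth.Agent.S1347

open AlgebraicGeometry CategoryTheory Limits in
/-- Let f have locally Noetherian fibres and let f' be its base change along a morphism g locally of
finite type. Given a point x' at which f' is Cohen–Macaulay, with g flat at f'(x'), the morphism f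
is Cohen–Macaulay at the image g'(x') of x'. -/
theorem result {X Y X' Y' : Scheme.{u}} (f : X ⟶ Y) (hN : ∀ y : Y, IsLocallyNoetherian (f.fiber y))
    (f' : X' ⟶ Y') (g' : X' ⟶ X) (g : Y' ⟶ Y) [LocallyOfFiniteType g] (hc : IsPullback g' f' f g) (x' : X')
    (hflat : (g.stalkMap (f' x')).hom.Flat) (h : MoreMor.IsCMAt f' x') : MoreMor.IsCMAt f (g' x') := by
  have hfl' : (f'.stalkMap x').hom.Flat := h.1
  have hB : (g'.stalkMap x').hom.Flat :=
    Groth.Agent.Lib.helper17.FlatStalkBC.flat_stalkMap_of_isPullback hc x' hflat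
  have hpt : (g' ≫ f) x' = (f' ≫ g) x' := by rw [hc.w]
  have e1 : (g' ≫ f).stalkMap x' = f.stalkMap (g' x') ≫ g'.stalkMap x' :=
    Scheme.Hom.stalkMap_comp g' f x'
  have e2 : (f' ≫ g).stalkMap x' = g.stalkMap (f' x') ≫ f'.stalkMap x' :=
    Scheme.Hom.stalkMap_comp f' g x'
  have e3 : (g' ≫ f).stalkMap x' =
      (Y.presheaf.stalkCongr (.of_eq hpt)).hom ≫ (f' ≫ g).stalkMap x' :=
    Scheme.Hom.stalkMap_congr_hom _ _ hc.w x'
  have hAC : ((g' ≫ f).stalkMap x').hom.Flat := by
    rw [e3, e2]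
    refine RingHom.Flat.comp ?_ (RingHom.Flat.comp hflat hfl')
    exact RingHom.Flat.of_bijective
      (ConcreteCategory.bijective_of_isIso (Y.presheaf.stalkCongr (.of_eq hpt)).hom)
  letI algAB : Algebra (Y.presheaf.stalk ((g' ≫ f) x')) (X.presheaf.stalk (g' x')) :=
    (f.stalkMap (g' x')).hom.toAlgebra
  letI algBC : Algebra (X.presheaf.stalk (g' x')) (X'.presheaf.stalk x') :=
    (g'.stalkMap x').hom.toAlgebra
  letI algAC : Algebra (Y.presheaf.stalk ((g' ≫ f) x')) (X'.presheaf.stalk x') :=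
    ((g' ≫ f).stalkMap x').hom.toAlgebra
  haveI : IsScalarTower (Y.presheaf.stalk ((g' ≫ f) x')) (X.presheaf.stalk (g' x'))
      (X'.presheaf.stalk x') :=
    IsScalarTower.of_algebraMap_eq' congr($(e1).hom)
  haveI : IsLocalHom (algebraMap (X.presheaf.stalk (g' x')) (X'.presheaf.stalk x')) :=
    inferInstanceAs (IsLocalHom (g'.stalkMap x').hom)
  haveI : Module.Flat (X.presheaf.stalk (g' x')) (X'.presheaf.stalk x') := hB
  haveI : Module.Flat (Y.presheaf.stalk ((g' ≫ f) x')) (X'.presheaf.stalk x') := hAC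
  haveI : Module.FaithfullyFlat (X.presheaf.stalk (g' x')) (X'.presheaf.stalk x') :=
    Module.FaithfullyFlat.of_flat_of_isLocalHom
  have hfl : (f.stalkMap (g' x')).hom.Flat :=
    Groth.Agent.Lib.helper17.CMComp.flat_of_comp_of_faithfullyFlat
      (Y.presheaf.stalk ((g' ≫ f) x')) (X.presheaf.stalk (g' x')) (X'.presheaf.stalk x')
  exact Groth.Agent.S1346.result f hN f' g' g hc x' hfl h

end Groth.Agent.S1347
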