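import Groth.Statements.S1348
import Groth.Agent.Lib.Helper5.CMSliceSch3

set_option autoImplicit false
universe u
open FlatMor

namespace Groth.Agent.S1348

open AlgebraicGeometry CategoryTheory Limits in
/-- Let f be locally of finite presentation and flat at a point x with image s, and let h be an element
of the maximal ideal of the local ring at x whose image in the local ring of the fibre (the local
ring at x modulo the ideal generated by the maximal ideal at s) is a nonzerodivisor. Then there is
an affine open neighbourhood U of x and a nonzerodivisor of its coordinate ring with germ h at x (so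
its zero locus is an effective Cartier divisor of U through x) whose zero scheme is flat and locally
of finite presentation over the base. -/
theorem result {X S : Scheme.{u}} (f : X ⟶ S) [LocallyOfFinitePresentation f] (x : X)
    (hflat : (f.stalkMap x).hom.Flat) (h : X.presheaf.stalk x) (hm : h ∈ IsLocalRing.maximalIdeal (X.presheaf.stalk x))
    (hreg : Ideal.Quotient.mk (Ideal.map (f.stalkMap x).hom (IsLocalRing.maximalIdeal (S.presheaf.stalk (f x)))) h ∈
      nonZeroDivisors (X.presheaf.stalk x ⧸ Ideal.map (f.stalkMap x).hom (IsLocalRing.maximalIdeal (S.presheaf.stalk (f x))))) :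
    ∃ (U : X.Opens) (hU : IsAffineOpen U) (hx : x ∈ U) (h' : Γ(X, U)), X.presheaf.germ U x hx h' = h ∧ h' ∈ nonZeroDivisors Γ(X, U) ∧
      Flat (Spec.map (CommRingCat.ofHom (Ideal.Quotient.mk (Ideal.span {h'}))) ≫ hU.fromSpec ≫ f) ∧
      LocallyOfFinitePresentation (Spec.map (CommRingCat.ofHom (Ideal.Quotient.mk (Ideal.span {h'}))) ≫ hU.fromSpec ≫ f) := by
  classical
  have hreg' : RingTheory.Sequence.IsWeaklyRegular (↑(X.presheaf.stalk x) ⧸
        Ideal.map (f.stalkMap x).hom (IsLocalRing.maximalIdeal ↑(S.presheaf.stalk (f x))))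
      ([h].map (Ideal.Quotient.mk
        (Ideal.map (f.stalkMap x).hom (IsLocalRing.maximalIdeal ↑(S.presheaf.stalk (f x)))))) := by
    rw [List.map_cons, List.map_nil, RingTheory.Sequence.isWeaklyRegular_cons_iff]
    refine ⟨?_, RingTheory.Sequence.IsWeaklyRegular.nil _ _⟩
    exact ((isRegular_iff_mem_nonZeroDivisors).mpr hreg).left.isSMulRegular
  obtain ⟨V, hV, W, hW, e, hxV, ys, hys, H⟩ :=
    Groth.Agent.Lib.helper5.CMSliceSch.exists_affine_regFlat f x hflat [h] hreg'
  letI algAC : Algebra Γ(S, W) Γ(X, V) := (f.appLE W V e).hom.toAlgebra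
  haveI hfp : Algebra.FinitePresentation Γ(S, W) Γ(X, V) :=
    HasRingHomProperty.appLE (P := @LocallyOfFinitePresentation) f inferInstance ⟨W, hW⟩ ⟨V, hV⟩ e
  obtain ⟨h', rfl⟩ : ∃ h' : Γ(X, V), ys = [h'] := by
    match ys, hys with
    | [y], _ => exact ⟨y, rfl⟩
  have hgerm : X.presheaf.germ V x hxV h' = h := by
    simpa using hys
  have hcomp : Spec.map (CommRingCat.ofHom (Ideal.Quotient.mk (Ideal.span {h'}))) ≫
      hV.fromSpec ≫ f =
      Spec.map (CommRingCat.ofHom (algebraMap Γ(S, W) (Γ(X, V) ⧸ Ideal.span {h'}))) ≫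
        hW.fromSpec := by
    rw [← IsAffineOpen.SpecMap_appLE_fromSpec f hW hV e, ← Category.assoc]
    congr 1
    rw [← Spec.map_comp]
    rfl
  have hspan : Ideal.ofList [h'] = Ideal.span {h'} := Ideal.ofList_singleton h'
  refine ⟨V, hV, hxV, h', hgerm, ?_, ?_, ?_⟩
  · have h1 := H.1
    rw [RingTheory.Sequence.isWeaklyRegular_cons_iff] at h1
    have h2 : IsSMulRegular Γ(X, V) h' := h1.1
    exact (isRegular_iff_mem_nonZeroDivisors).mp (isLeftRegular_iff_isRegular.mp h2.isLeftRegular)
  · rw [hcomp]
    haveI : Module.Flat Γ(S, W) (Γ(X, V) ⧸ Ideal.span {h'}) := by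
      have := H.flat_quotient
      rwa [hspan] at this
    haveI : Flat (Spec.map (CommRingCat.ofHom
        (algebraMap Γ(S, W) (Γ(X, V) ⧸ Ideal.span {h'})))) := by
      rw [HasRingHomProperty.Spec_iff (P := @Flat)]
      exact RingHom.flat_algebraMap_iff.mpr inferInstance
    infer_instance
  · rw [hcomp]
    haveI : Algebra.FinitePresentation Γ(S, W) (Γ(X, V) ⧸ Ideal.span {h'}) :=
      Algebra.FinitePresentation.quotient ⟨{h'}, by simp⟩
    haveI : LocallyOfFinitePresentation (Spec.map (CommRingCat.ofHom
        (algebraMap Γ(S, W) (Γ(X, V) ⧸ Ideal.span {h'})))) := by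
      rw [HasRingHomProperty.Spec_iff (P := @LocallyOfFinitePresentation)]
      exact RingHom.finitePresentation_algebraMap.mpr inferInstance
    infer_instance

end Groth.Agent.S1348
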