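import Groth.Statements.S1349
import Groth.Agent.Lib.Helper5.CMSliceSch1
import Groth.Agent.Lib.Helper5.CMSliceSch2

set_option autoImplicit false
universe u
open FlatMor

namespace Groth.Agent.S1349

open AlgebraicGeometry CategoryTheory Limits in
/-- Let f be locally of finite presentation and Cohen–Macaulay at a point x which is closed in its
fibre. Then there are an open neighbourhood V of x and a regular closed immersion i into V whose
image contains x, such that the composite Z ⟶ V ⟶ X ⟶ S is flat, locally of finite presentation and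
locally quasi-finite, and x is the only point of (the image of) Z lying over the image of x. -/
theorem result {X S : Scheme.{u}} (f : X ⟶ S) [LocallyOfFinitePresentation f] (x : X)
    (hcm : MoreMor.IsCMAt f x) (hcl : IsClosed ({f.asFiber x} : Set ↑(f.fiber (f x)))) :
    ∃ (V : X.Opens) (Z : Scheme.{u}) (i : Z ⟶ (V : Scheme.{u})), Mor2.IsRegularClosedImmersion i ∧ x ∈ Set.range ⇑(i ≫ V.ι) ∧
      Flat (i ≫ V.ι ≫ f) ∧ LocallyOfFinitePresentation (i ≫ V.ι ≫ f) ∧ LocallyQuasiFinite (i ≫ V.ι ≫ f) ∧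
      ∀ z : Z, f (V.ι (i z)) = f x → V.ι (i z) = x := by
  classical
  obtain ⟨V, hV, W, hW, e, hxV, ys, ⟨H1, H2⟩, hvanx, huniq⟩ :=
    Groth.Agent.Lib.helper5.CMSliceSch.exists_affine_slice f x hcm hcl
  letI algAC : Algebra Γ(S, W) Γ(X, V) := (f.appLE W V e).hom.toAlgebra
  haveI hfp : Algebra.FinitePresentation Γ(S, W) Γ(X, V) :=
    HasRingHomProperty.appLE (P := @LocallyOfFinitePresentation) f inferInstance ⟨W, hW⟩ ⟨V, hV⟩ e
  let σ : Spec (CommRingCat.of (Γ(X, V) ⧸ Ideal.ofList ys)) ⟶ Spec Γ(X, V) :=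
    Spec.map (CommRingCat.ofHom (Ideal.Quotient.mk (Ideal.ofList ys)))
  let i : Spec (CommRingCat.of (Γ(X, V) ⧸ Ideal.ofList ys)) ⟶ (V : Scheme.{u}) :=
    σ ≫ hV.isoSpec.inv
  have hiι : i ≫ V.ι = σ ≫ hV.fromSpec := by
    change (σ ≫ hV.isoSpec.inv) ≫ V.ι = _
    rw [Category.assoc, IsAffineOpen.isoSpec_inv_ι]
  have hcomp : i ≫ V.ι ≫ f =
      Spec.map (CommRingCat.ofHom (algebraMap Γ(S, W) (Γ(X, V) ⧸ Ideal.ofList ys))) ≫
        hW.fromSpec := by
    rw [← Category.assoc, hiι, Category.assoc, ← IsAffineOpen.SpecMap_appLE_fromSpec f hW hV e,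
      ← Category.assoc]
    congr 1
    change Spec.map _ ≫ Spec.map _ = _
    rw [← Spec.map_comp]
    rfl
  have hpt : ∀ z : Spec (CommRingCat.of (Γ(X, V) ⧸ Ideal.ofList ys)),
      V.ι (i z) = hV.fromSpec (σ z) := by
    intro z
    have := congrArg (fun g => g z) hiι
    simpa using this
  refine ⟨V, _, i, ?_, ?_, ?_, ?_, ?_, ?_⟩
  · exact Groth.Agent.S1661.result σ hV.isoSpec.inv
      (Groth.Agent.Lib.helper5.CMSliceSch.isRegularClosedImmersion_SpecMap_mk ys H1.1)
      (Groth.Agent.Lib.helper5.CMSliceSch.isRegularClosedImmersion_of_isIso _)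
  · -- x is in the image
    set Q := hV.primeIdealOf ⟨x, hxV⟩ with hQ
    have hle : Ideal.ofList ys ≤ Q.asIdeal := by
      rw [Ideal.ofList, Ideal.span_le]
      intro y hy
      have h1 := hvanx y hy
      rw [Groth.Agent.Lib.helper5.CMSliceSch.mem_basicOpen_iff_notMem_primeIdealOf hV x hxV y,
        not_not] at h1
      exact h1
    have hker : RingHom.ker (Ideal.Quotient.mk (Ideal.ofList ys)) ≤ Q.asIdeal := by
      rw [Ideal.mk_ker]
      exact hle
    haveI hprime : (Q.asIdeal.map (Ideal.Quotient.mk (Ideal.ofList ys))).IsPrime :=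
      Ideal.map_isPrime_of_surjective Ideal.Quotient.mk_surjective hker
    let z : Spec (CommRingCat.of (Γ(X, V) ⧸ Ideal.ofList ys)) :=
      ⟨Q.asIdeal.map (Ideal.Quotient.mk (Ideal.ofList ys)), hprime⟩
    have hσz : σ z = Q := by
      apply PrimeSpectrum.ext
      change (Q.asIdeal.map (Ideal.Quotient.mk (Ideal.ofList ys))).comap
        (Ideal.Quotient.mk (Ideal.ofList ys)) = Q.asIdeal
      rw [Ideal.comap_map_of_surjective _ Ideal.Quotient.mk_surjective, sup_eq_left]
      exact hker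
    refine ⟨z, ?_⟩
    change V.ι (i z) = x
    rw [hpt z, hσz, hQ, hV.fromSpec_primeIdealOf ⟨x, hxV⟩]
  · rw [hcomp]
    haveI : Module.Flat Γ(S, W) (Γ(X, V) ⧸ Ideal.ofList ys) := H1.flat_quotient
    haveI : Flat (Spec.map (CommRingCat.ofHom
        (algebraMap Γ(S, W) (Γ(X, V) ⧸ Ideal.ofList ys)))) := by
      rw [HasRingHomProperty.Spec_iff (P := @Flat)]
      exact RingHom.flat_algebraMap_iff.mpr inferInstance
    infer_instance
  · rw [hcomp]
    haveI : Algebra.FinitePresentation Γ(S, W) (Γ(X, V) ⧸ Ideal.ofList ys) :=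
      Algebra.FinitePresentation.quotient ⟨ys.toFinset, by
        rw [List.coe_toFinset]⟩
    haveI : LocallyOfFinitePresentation (Spec.map (CommRingCat.ofHom
        (algebraMap Γ(S, W) (Γ(X, V) ⧸ Ideal.ofList ys)))) := by
      rw [HasRingHomProperty.Spec_iff (P := @LocallyOfFinitePresentation)]
      exact RingHom.finitePresentation_algebraMap.mpr inferInstance
    infer_instance
  · rw [hcomp]
    haveI : LocallyQuasiFinite (Spec.map (CommRingCat.ofHom
        (algebraMap Γ(S, W) (Γ(X, V) ⧸ Ideal.ofList ys)))) := by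
      rw [HasRingHomProperty.Spec_iff (P := @LocallyQuasiFinite)]
      exact RingHom.quasiFinite_algebraMap.mpr H2
    infer_instance
  · intro z hz
    rw [hpt z] at hz ⊢
    refine huniq _ (Groth.Agent.Lib.helper5.CMSliceSch.fromSpec_mem hV (σ z)) ?_ hz
    intro y hy
    rw [Groth.Agent.Lib.helper5.CMSliceSch.mem_basicOpen_iff_notMem_primeIdealOf hV _
      (Groth.Agent.Lib.helper5.CMSliceSch.fromSpec_mem hV (σ z)) y, not_not,
      Groth.Agent.Lib.helper5.CMSliceSch.primeIdealOf_fromSpec hV (σ z)]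
    change y ∈ z.asIdeal.comap (Ideal.Quotient.mk (Ideal.ofList ys))
    rw [Ideal.mem_comap]
    have : Ideal.Quotient.mk (Ideal.ofList ys) y = 0 :=
      Ideal.Quotient.eq_zero_iff_mem.mpr (Ideal.subset_span hy)
    rw [this]
    exact zero_mem _

end Groth.Agent.S1349
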