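import Groth.Statements.S13499
import Mathlib
import Groth.Agent.S7744
import Groth.Agent.Lib.Helper1.DivInj
-- import your own Groth.Agent.* helpers here

set_option autoImplicit false
universe u
open CategoryTheory CategoryTheory.Limits AlgebraicGeometry Opposite
open GalCoh

namespace Groth.Agent.S13499

section Helpers

open CategoryTheory.Limits Opposite

/-- lift an additive map to `ULift`s -/
noncomputable def ul {A B : Type} [AddCommGroup A] [AddCommGroup B] (f : A →+ B) :
    AddCommGrpCat.of (ULift.{u + 1} A) ⟶ AddCommGrpCat.of (ULift.{u + 1} B) :=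
  AddCommGrpCat.ofHom ((AddEquiv.ulift.symm.toAddMonoidHom).comp
    (f.comp AddEquiv.ulift.toAddMonoidHom))

lemma ul_apply {A B : Type} [AddCommGroup A] [AddCommGroup B] (f : A →+ B) (x : ULift.{u + 1} A) :
    (ul.{u} f) x = ULift.up (f x.down) := rfl

/-- the short complex `ℤ → ℚ → ℚ/ℤ` -/
noncomputable def S₀ : ShortComplex AddCommGrpCat.{u + 1} :=
  ShortComplex.mk (ul.{u} (Int.castAddHom ℚ))
    (ul.{u} (QuotientAddGroup.mk' (AddSubgroup.zmultiples (1 : ℚ)))) (by
      ext x
      show (((x.down : ℤ) : ℚ) : ℚ ⧸ AddSubgroup.zmultiples (1 : ℚ)) = 0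
      rw [QuotientAddGroup.eq_zero_iff]
      exact ⟨x.down, by simp⟩)

lemma S₀_shortExact : (S₀.{u}).ShortExact := by
  have hf : Mono (S₀.{u}).f := by
    rw [AddCommGrpCat.mono_iff_injective]
    intro x y h
    apply ULift.ext
    have h1 : ((x.down : ℤ) : ℚ) = (y.down : ℤ) := congrArg ULift.down h
    exact_mod_cast h1
  have hg : Epi (S₀.{u}).g := by
    rw [AddCommGrpCat.epi_iff_surjective]
    intro y
    obtain ⟨q, hq⟩ := QuotientAddGroup.mk'_surjective (AddSubgroup.zmultiples (1 : ℚ)) y.down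
    exact ⟨ULift.up q, ULift.ext _ _ hq⟩
  refine ShortComplex.ShortExact.mk' ?_ hf hg
  rw [ShortComplex.ab_exact_iff]
  intro x hx
  have h1 : ((x.down : ℚ) : ℚ ⧸ AddSubgroup.zmultiples (1 : ℚ)) = 0 := congrArg ULift.down hx
  rw [QuotientAddGroup.eq_zero_iff] at h1
  obtain ⟨n, hn⟩ := h1
  refine ⟨ULift.up n, ULift.ext _ _ ?_⟩
  show ((n : ℤ) : ℚ) = x.down
  rw [← hn]
  simp

section Main

variable (k : Type u) [Field k]

/-- the constant sheaf functor on `Spec k` -/
noncomputable abbrev C : AddCommGrpCat.{u + 1} ⥤ EtCoh.Ab (Spec (CommRingCat.of k)) :=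
  constantSheaf (Spec (CommRingCat.of k)).smallEtaleTopology AddCommGrpCat.{u + 1}

instance : PreservesFiniteColimits (C k) := by
  have : PreservesColimitsOfSize.{0, 0} (C k) :=
    (EtCore.constAdj (Spec (CommRingCat.of k))).leftAdjoint_preservesColimits
  exact PreservesColimitsOfSize.preservesFiniteColimits _

lemma isIso_nsmul_rat (n : ℕ) (hn : 0 < n) :
    IsIso (n • 𝟙 (AddCommGrpCat.of (ULift.{u + 1} ℚ))) := by
  rw [ConcreteCategory.isIso_iff_bijective]
  have h1 : ∀ x : ULift.{u + 1} ℚ,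
      (n • 𝟙 (AddCommGrpCat.of (ULift.{u + 1} ℚ)) : _ ⟶ _) x = n • x := fun x => rfl
  have hn' : (n : ℚ) ≠ 0 := by exact_mod_cast hn.ne'
  constructor
  · intro x y h
    rw [h1, h1] at h
    apply ULift.ext
    have h2 : n • x.down = n • y.down := congrArg ULift.down h
    rw [nsmul_eq_mul, nsmul_eq_mul] at h2
    exact mul_left_cancel₀ hn' h2
  · intro y
    refine ⟨ULift.up (y.down / n), ?_⟩
    rw [h1]
    apply ULift.ext
    show n • (y.down / n) = y.down
    rw [nsmul_eq_mul]
    field_simp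

lemma hdiv (n : ℕ) (hn : 0 < n) :
    IsIso (n • 𝟙 (EtCoh.const (Spec (CommRingCat.of k)) ℚ)) := by
  haveI := isIso_nsmul_rat.{u} n hn
  have h : (C k).map (n • 𝟙 (AddCommGrpCat.of (ULift.{u + 1} ℚ))) = n • 𝟙 _ := by
    rw [Functor.map_nsmul, CategoryTheory.Functor.map_id]
  rw [← h]
  infer_instance

end Main

end Helpers

/-- For a field k and i ≥ 2 there is an isomorphism between H^i(Spec k, Z) and H^{i-1}(Spec k, Q/Z),
étale cohomology of Spec k with coefficients in the constant sheaves Z and Q/Z (existence of an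
additive isomorphism only; the published statement is for an arbitrary profinite group with trivial
action and identifies the two groups through the boundary map of 0 → Z → Q → Q/Z → 0). -/
theorem result (k : Type u) [Field k] (i : ℕ) (hi : 2 ≤ i) :
    Nonempty (EtCoh.H (Spec (CommRingCat.of k)) (EtCoh.const (Spec (CommRingCat.of k)) ℤ) i ≃+
      EtCoh.H (Spec (CommRingCat.of k))
        (EtCoh.const (Spec (CommRingCat.of k)) (ℚ ⧸ AddSubgroup.zmultiples (1 : ℚ))) (i - 1)) := by
  obtain ⟨j, rfl⟩ : ∃ j, i = j + 2 := ⟨i - 2, by omega⟩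
  have hS : ((S₀.{u}).map (C k)).ShortExact := (S₀_shortExact.{u}).map_of_exact (C k)
  have h1 : Subsingleton (EtCoh.H (Spec (CommRingCat.of k))
      (EtCoh.const (Spec (CommRingCat.of k)) ℚ) (j + 1)) :=
    Groth.Agent.S7744.result k _ (hdiv k) (j + 1) (by omega)
  have h2 : Subsingleton (EtCoh.H (Spec (CommRingCat.of k))
      (EtCoh.const (Spec (CommRingCat.of k)) ℚ) (j + 2)) :=
    Groth.Agent.S7744.result k _ (hdiv k) (j + 2) (by omega)
  let δ : EtCoh.H (Spec (CommRingCat.of k))
        (EtCoh.const (Spec (CommRingCat.of k)) (ℚ ⧸ AddSubgroup.zmultiples (1 : ℚ))) (j + 1) →+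
      EtCoh.H (Spec (CommRingCat.of k)) (EtCoh.const (Spec (CommRingCat.of k)) ℤ) (j + 2) :=
    hS.extClass.postcomp _ (rfl : j + 1 + 1 = j + 2)
  have hδ : Function.Bijective δ := by
    constructor
    · rw [injective_iff_map_eq_zero]
      intro x₃ hx₃
      obtain ⟨x₂, hx₂⟩ := Abelian.Ext.covariant_sequence_exact₃ _ hS x₃ rfl hx₃
      have hx0 : x₂ = 0 := h1.elim x₂ 0
      rw [hx0, Abelian.Ext.zero_comp] at hx₂
      exact hx₂.symm
    · intro x₁
      exact Abelian.Ext.covariant_sequence_exact₁ _ hS x₁ (h2.elim _ _) rfl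
  exact ⟨(AddEquiv.ofBijective δ hδ).symm⟩

end Groth.Agent.S13499
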