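import Groth.Statements.S13501
import Groth.Agent.Lib.Helper1.TorsColim

set_option autoImplicit false
universe u
open CategoryTheory CategoryTheory.Limits AlgebraicGeometry Opposite
open EtPBC

namespace Groth.Agent.S13501

open Groth.Agent.H1.TorsColim Groth.Agent.Lib.helper21.Constr

/-- a retract of a constructible sheaf is constructible -/
theorem isConstructible_of_retract {X : Scheme.{u}} {F G : EtCoh.Ab X} (s : F ⟶ G) (m : G ⟶ F)
    (h : s ≫ m = 𝟙 F) (hG : EtPBC.IsConstructible G) : EtPBC.IsConstructible F := by
  have w : s ≫ (𝟙 G - m ≫ s) = 0 := by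
    rw [Preadditive.comp_sub, Category.comp_id, ← Category.assoc, h, Category.id_comp, sub_self]
  haveI : Mono s := SplitMono.mono ⟨m, h⟩
  have hl : IsLimit (KernelFork.ofι s w) :=
    KernelFork.IsLimit.ofι s w (fun {T} x hx => x ≫ m)
      (fun {T} x hx => by
        rw [Preadditive.comp_sub, Category.comp_id, sub_eq_zero] at hx
        rw [Category.assoc]
        exact hx.symm)
      (fun {T} x hx b hb => by
        rw [← hb, Category.assoc, h, Category.comp_id])
  have e : F ≅ kernel (𝟙 G - m ≫ s) :=
    hl.conePointUniqueUpToIso (limit.isLimit _)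
  exact Groth.Agent.H1.ExtZero.isConstructible_of_iso e.symm
    (constr_kernel_cokernel (𝟙 G - m ≫ s) hG hG).1

theorem main (X : Scheme.{u}) [CompactSpace X]
    [QuasiSeparatedSpace X] (F : EtCoh.Ab X) (hF : EtCoh.IsTorsion F)
    (hc : ∀ (J : Type (u + 1)) [SmallCategory J] [IsFiltered J],
      PreservesColimitsOfShape J (coyoneda.obj (op F))) :
    EtPBC.IsConstructible F := by
  haveI := isIso_ρ F hF
  haveI := hc (JObj F)
  have hcol : IsColimit ((coyoneda.obj (op F)).mapCocone (colimit.cocone (D F))) :=
    isColimitOfPreserves _ (colimit.isColimit (D F))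
  obtain ⟨j, s, hs⟩ := Types.jointly_surjective_of_isColimit hcol (inv (ρ F))
  have hs' : s ≫ colimit.ι (D F) j = inv (ρ F) := hs
  have h1 : s ≫ j.m = 𝟙 F := by
    rw [← ι_ρ F j, ← Category.assoc, hs', IsIso.inv_hom_id]
  exact isConstructible_of_retract s j.m h1 j.hc

/-- Let X be a quasi-compact and quasi-separated scheme and F a torsion abelian sheaf on X_et. If Hom(F,
-) commutes with filtered colimits (of shape any small filtered category in the universe of the
sheaf category's morphisms), then F is constructible. This is the converse of the compactness of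
constructible sheaves. -/
theorem result (X : Scheme.{u}) [CompactSpace X]
    [QuasiSeparatedSpace X] (F : EtCoh.Ab X) (hF : EtCoh.IsTorsion F)
    (hc : ∀ (J : Type (u + 1)) [SmallCategory J] [IsFiltered J],
      PreservesColimitsOfShape J (coyoneda.obj (op F))) :
    EtPBC.IsConstructible F := by
  exact main X F hF hc

end Groth.Agent.S13501
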