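import Groth.Statements.S3244
import Groth.Agent.S0108

set_option autoImplicit false
universe u
open CategoryTheory AlgebraicGeometry
open Dix

namespace Groth.Agent.S3244

open CategoryTheory.Limits Opposite

theorem isUnit_of_invertibleOn (X : Scheme.{u}) (n : ℕ) (hX : Dix.InvertibleOn X n) :
    IsUnit (n : Γ(X, ⊤)) := by
  apply X.toRingedSpace.isUnit_of_isUnit_germ ⊤
  intro x hx
  rw [map_natCast]
  have h := hX x
  have e : (n : X.residueField x) = IsLocalRing.residue (X.presheaf.stalk x) (n : X.presheaf.stalk x) :=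
    (map_natCast _ n).symm
  rw [e] at h
  exact (IsLocalRing.residue_ne_zero_iff_isUnit _).1 h

/-- the Kummer short complex -/
noncomputable def kummer (X : Scheme.{u}) (n : ℕ) : ShortComplex (EtCoh.Ab X) :=
  ShortComplex.mk (EtCoh.muι X n) (EtCoh.powMap X n) (kernel.condition _)

theorem kummer_shortExact (X : Scheme.{u}) (n : ℕ) (hn : IsUnit (n : Γ(X, ⊤))) :
    (kummer X n).ShortExact := by
  have : Epi (EtCoh.powMap X n) := Groth.Agent.S0108.main X n hn
  have : Mono (EtCoh.muι X n) :=
    mono_of_isLimit_fork (c := Fork.ofι (kernel.ι (EtCoh.powMap X n)) (by simp))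
      (kernelIsKernel (EtCoh.powMap X n))
  exact { exact := ShortComplex.exact_of_f_is_kernel _ (kernelIsKernel (EtCoh.powMap X n))
          mono_f := this
          epi_g := ‹_› }

theorem H_map_powMap (X : Scheme.{u}) (n i : ℕ) (ξ : EtCoh.H X (EtCoh.Gm X) i) :
    Sheaf.H.map (EtCoh.powMap X n) i ξ = n • ξ := by
  unfold EtCoh.powMap
  induction n with
  | zero =>
    rw [zero_nsmul, zero_nsmul]
    rw [Sheaf.H.map_apply, Abelian.Ext.mk₀_zero, Abelian.Ext.comp_zero]
  | succ m ih =>
    rw [succ_nsmul, succ_nsmul, Sheaf.H.map_add_apply, ih, Sheaf.H.map_id_apply]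

theorem main (X : Scheme.{u}) (n : ℕ) (hX : Dix.InvertibleOn X n) (i : ℕ) :
    Set.range ⇑((EtCoh.HF X i).map (EtCoh.muι X n)) =
      {ξ : (EtCoh.HF X i).obj (EtCoh.Gm X) | n • ξ = 0} := by
  have hS := kummer_shortExact X n (isUnit_of_invertibleOn X n hX)
  ext ξ
  constructor
  · rintro ⟨x, rfl⟩
    change n • (Sheaf.H.map (EtCoh.muι X n) i x) = 0
    rw [← H_map_powMap, ← Sheaf.H.map_comp_apply]
    have : EtCoh.muι X n ≫ EtCoh.powMap X n = 0 := (kummer X n).zero
    rw [this, Sheaf.H.map_apply, Abelian.Ext.mk₀_zero, Abelian.Ext.comp_zero]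
  · intro hξ
    change n • ξ = 0 at hξ
    have h1 : Sheaf.H.map (EtCoh.powMap X n) i ξ = 0 := (H_map_powMap X n i ξ).trans hξ
    obtain ⟨x₁, hx₁⟩ := Abelian.Ext.covariant_sequence_exact₂ _ hS (n := i) ξ h1
    exact ⟨x₁, hx₁⟩

/-- Kummer theory at finite level: let n > 0 be an integer invertible on the scheme X (nonzero in every
residue field). Then for every i ≥ 1 the image of H^i(X_ét, μ_n) → H^i(X_ét, G_m), induced by the
inclusion μ_n → G_m, is exactly the subgroup of elements of H^i(X_ét, G_m) killed by n; in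
particular H²(X_ét, μ_n) maps onto the n-torsion of the cohomological Brauer group H²(X_ét, G_m).
(The published statement gives exact sequences obtained as the colimit of these over the powers n =
ℓ^m of a prime ℓ.) -/
theorem result (X : Scheme.{u}) (n : ℕ) (hn : 0 < n) (hX : Dix.InvertibleOn X n) (i : ℕ) (hi : 1 ≤ i) : Set.range ⇑((EtCoh.HF X i).map (EtCoh.muι X n)) = {ξ : (EtCoh.HF X i).obj (EtCoh.Gm X) | n • ξ = 0} := by
  exact main X n hX i

end Groth.Agent.S3244
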