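import Groth.Statements.S3246
import Groth.Agent.S3244

set_option autoImplicit false
universe u
open CategoryTheory AlgebraicGeometry
open Dix

namespace Groth.Agent.S3246

open CategoryTheory.Limits Opposite Abelian

section General

universe w v' u'
variable {C : Type u'} [Category.{v'} C] [Abelian C] [HasExt.{w} C]

/-- the short complex `ker φ → G → im φ` -/
noncomputable abbrev sc1 {G G' : C} (φ : G ⟶ G') : ShortComplex C :=
  ShortComplex.mk (kernel.ι φ) (Abelian.factorThruImage φ) (by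
    rw [← cancel_mono (Abelian.image.ι φ), Category.assoc, Abelian.image.fac, kernel.condition,
      zero_comp])

theorem sc1_shortExact {G G' : C} (φ : G ⟶ G') : (sc1 φ).ShortExact := by
  let S₂ : ShortComplex C := ShortComplex.mk (kernel.ι φ) φ (kernel.condition φ)
  have h2 : S₂.Exact := ShortComplex.exact_of_f_is_kernel _ (kernelIsKernel φ)
  let α : sc1 φ ⟶ S₂ :=
    { τ₁ := 𝟙 _
      τ₂ := 𝟙 _
      τ₃ := Abelian.image.ι φ
      comm₁₂ := by simp [sc1, S₂]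
      comm₂₃ := by simp [sc1, S₂] }
  have : Epi α.τ₁ := (inferInstance : Epi (𝟙 (kernel φ)))
  have : IsIso α.τ₂ := (inferInstance : IsIso (𝟙 G))
  have : Mono α.τ₃ := (inferInstance : Mono (Abelian.image.ι φ))
  have h1 : (sc1 φ).Exact := (ShortComplex.exact_iff_of_epi_of_isIso_of_mono α).2 h2
  exact { exact := h1
          mono_f := by dsimp [sc1]; infer_instance
          epi_g := by dsimp [sc1]; infer_instance }

/-- the short complex `im φ → G' → coker φ` -/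
noncomputable abbrev sc2 {G G' : C} (φ : G ⟶ G') : ShortComplex C :=
  ShortComplex.mk (Abelian.image.ι φ) (cokernel.π φ) (kernel.condition _)

theorem sc2_shortExact {G G' : C} (φ : G ⟶ G') : (sc2 φ).ShortExact :=
  { exact := ShortComplex.exact_of_f_is_kernel _ (kernelIsKernel (cokernel.π φ))
    mono_f := by dsimp [sc2]; infer_instance
    epi_g := by dsimp [sc2]; infer_instance }

theorem eq_zero_of_comp_eq_zero {A G G' : C} (φ : G ⟶ G') (i i' : ℕ) (hi : i' + 1 = i)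
    (h1 : ∀ x : Ext A (kernel φ) i, x = 0) (h2 : ∀ x : Ext A (cokernel φ) i', x = 0)
    (ξ : Ext A G i) (hξ : ξ.comp (Ext.mk₀ φ) (add_zero i) = 0) : ξ = 0 := by
  have e : Ext.mk₀ φ = (Ext.mk₀ (Abelian.factorThruImage φ)).comp
      (Ext.mk₀ (Abelian.image.ι φ)) (add_zero 0) := by
    rw [Ext.mk₀_comp_mk₀, Abelian.image.fac]
  rw [e, ← Ext.comp_assoc_of_third_deg_zero] at hξ
  -- first `ξ.comp e = 0`
  have hη : ξ.comp (Ext.mk₀ (Abelian.factorThruImage φ)) (add_zero i) = 0 := by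
    obtain ⟨x₃, hx₃⟩ := Ext.covariant_sequence_exact₁ A (sc2_shortExact φ)
      (ξ.comp (Ext.mk₀ (Abelian.factorThruImage φ)) (add_zero i)) hξ hi
    have e3 : x₃ = 0 := h2 x₃
    rw [← hx₃, e3, Ext.zero_comp]
  obtain ⟨x₁, hx₁⟩ := Ext.covariant_sequence_exact₂ A (sc1_shortExact φ) ξ hη
  have e1 : x₁ = 0 := h1 x₁
  rw [← hx₁, e1, Ext.zero_comp]

theorem eq_zero_of_comp_eq_zero_of_epi {A G G' : C} (φ : G ⟶ G') [Epi φ] (i : ℕ)
    (h1 : ∀ x : Ext A (kernel φ) i, x = 0)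
    (ξ : Ext A G i) (hξ : ξ.comp (Ext.mk₀ φ) (add_zero i) = 0) : ξ = 0 := by
  let S : ShortComplex C := ShortComplex.mk (kernel.ι φ) φ (kernel.condition φ)
  have hS : S.ShortExact :=
    { exact := ShortComplex.exact_of_f_is_kernel _ (kernelIsKernel φ)
      mono_f := by dsimp [S]; infer_instance
      epi_g := by dsimp [S]; infer_instance }
  obtain ⟨x₁, hx₁⟩ := Ext.covariant_sequence_exact₂ A hS ξ hξ
  have e1 : x₁ = 0 := h1 x₁
  rw [← hx₁, e1, Ext.zero_comp]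

end General

section Etale

variable {X : Scheme.{u}}

theorem exists_of_mem_smallEtaleTopology (V : X.Etale) (R : Sieve V)
    (hR : R ∈ X.smallEtaleTopology V) (x : V.left) :
    ∃ (W : X.Etale) (f : W ⟶ V) (y : W.left), R f ∧ f.left.base y = x := by
  have eY : X.smallEtaleTopology =
      (X.smallPretopology (P := EtCoh.etaleMP) (Q := EtCoh.etaleMP)).toGrothendieck :=
    Scheme.smallGrothendieckTopology_eq_toGrothendieck_smallPretopology X le_rfl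
  rw [eY] at hR
  obtain ⟨W, f, y, hf, -, hy⟩ := (Scheme.mem_toGrothendieck_smallPretopology V R).1 hR x
  exact ⟨W, f, y, hf, hy⟩

theorem injective_app_of_mono {F G : EtCoh.Ab X} (a : F ⟶ G) [Mono a] (U : X.Etale) :
    Function.Injective (a.hom.app (op U)) := by
  have h1 : Mono a.hom := inferInstance
  have h2 : Mono (a.hom.app (op U)) := inferInstance
  exact (AddCommGrpCat.mono_iff_injective _).1 h2

theorem smul_id_app (F : EtCoh.Ab X) (m : ℕ) (U : X.Etale) (s : F.obj.obj (op U)) :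
    (m • 𝟙 F).hom.app (op U) s = m • s := by
  induction m with
  | zero => rw [zero_nsmul, zero_nsmul]; rfl
  | succ m ih =>
    rw [succ_nsmul, succ_nsmul, ← ih]
    rfl

theorem comp_app_apply {F G H : EtCoh.Ab X} (a : F ⟶ G) (b : G ⟶ H) (U : X.Etale)
    (s : F.obj.obj (op U)) : (a ≫ b).hom.app (op U) s = b.hom.app (op U) (a.hom.app (op U) s) :=
  rfl

theorem smul_eq_zero_kernel (F : EtCoh.Ab X) (m : ℕ) (U : X.Etale)
    (s : (kernel (m • 𝟙 F)).obj.obj (op U)) : m • s = 0 := by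
  apply injective_app_of_mono (kernel.ι (m • 𝟙 F)) U
  rw [map_nsmul, map_zero, ← smul_id_app, ← comp_app_apply, kernel.condition]
  rfl

theorem isPrimaryTorsion_kernel (F : EtCoh.Ab X) (ℓ k : ℕ) :
    Dix.IsPrimaryTorsion ℓ (kernel ((ℓ ^ k) • 𝟙 F)) := by
  intro U s x
  exact ⟨U, 𝟙 U, ⟨x, rfl⟩, k, smul_eq_zero_kernel F (ℓ ^ k) U _⟩

theorem isPrimaryTorsion_cokernel (F : EtCoh.Ab X) (ℓ k : ℕ) :
    Dix.IsPrimaryTorsion ℓ (cokernel ((ℓ ^ k) • 𝟙 F)) := by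
  intro U s x
  have hepi : Epi (cokernel.π ((ℓ ^ k) • 𝟙 F)) := inferInstance
  have hls : Sheaf.IsLocallySurjective (cokernel.π ((ℓ ^ k) • 𝟙 F)) :=
    (Sheaf.isLocallySurjective_iff_epi' _ _).2 hepi
  have hmem := Presheaf.imageSieve_mem X.smallEtaleTopology (cokernel.π ((ℓ ^ k) • 𝟙 F)).hom s
  obtain ⟨V, g, v, ⟨t, ht⟩, hv⟩ := exists_of_mem_smallEtaleTopology U _ hmem x
  refine ⟨V, g, ⟨v, hv⟩, k, ?_⟩
  rw [← ht, ← map_nsmul, ← smul_id_app, ← comp_app_apply, cokernel.condition]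
  rfl

end Etale

theorem main (X : Scheme.{u}) (ℓ : ℕ) (n : ℕ) (hcd : Dix.CohDimLEAt X ℓ n) :
    (∀ i : ℕ, n + 1 < i → ∀ ξ : EtCoh.H X (EtCoh.Gm X) i, (∃ k : ℕ, ℓ ^ k • ξ = 0) → ξ = 0) ∧
    (Dix.InvertibleOn X ℓ → ∀ i : ℕ, n < i → ∀ ξ : EtCoh.H X (EtCoh.Gm X) i,
      (∃ k : ℕ, ℓ ^ k • ξ = 0) → ξ = 0) := by
  have key : ∀ (k i : ℕ) (ξ : EtCoh.H X (EtCoh.Gm X) i), ℓ ^ k • ξ = 0 →
      ξ.comp (Ext.mk₀ ((ℓ ^ k) • 𝟙 (EtCoh.Gm X))) (add_zero i) = 0 := by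
    intro k i ξ h
    have := Groth.Agent.S3244.H_map_powMap X (ℓ ^ k) i ξ
    rw [h] at this
    exact this
  constructor
  · rintro i hi ξ ⟨k, hk⟩
    obtain ⟨i', rfl⟩ : ∃ i', i = i' + 1 := ⟨i - 1, by omega⟩
    have s1 := hcd _ (isPrimaryTorsion_kernel (EtCoh.Gm X) ℓ k) (i' + 1) (by omega)
    have s2 := hcd _ (isPrimaryTorsion_cokernel (EtCoh.Gm X) ℓ k) i' (by omega)
    exact eq_zero_of_comp_eq_zero ((ℓ ^ k) • 𝟙 (EtCoh.Gm X)) (i' + 1) i' rfl
      (fun x => Subsingleton.elim _ _) (fun x => Subsingleton.elim _ _) ξ (key k _ ξ hk)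
  · rintro hinv i hi ξ ⟨k, hk⟩
    have hinv' : Dix.InvertibleOn X (ℓ ^ k) := by
      intro x
      rw [Nat.cast_pow]
      exact pow_ne_zero _ (hinv x)
    have hepi : Epi ((ℓ ^ k) • 𝟙 (EtCoh.Gm X)) :=
      Groth.Agent.S0108.main X (ℓ ^ k) (Groth.Agent.S3244.isUnit_of_invertibleOn X (ℓ ^ k) hinv')
    have s1 := hcd _ (isPrimaryTorsion_kernel (EtCoh.Gm X) ℓ k) i hi
    exact eq_zero_of_comp_eq_zero_of_epi ((ℓ ^ k) • 𝟙 (EtCoh.Gm X)) i
      (fun x => Subsingleton.elim _ _) ξ (key k _ ξ hk)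

/-- Let X be a scheme, ℓ a prime and n an integer with cd_ℓ(X) ≤ n (étale cohomology of ℓ-primary
torsion sheaves vanishes above degree n). Then the ℓ-primary torsion of H^i(X_ét, G_m) is zero for i
> n + 1; if moreover ℓ is invertible on X, it is zero for i > n. -/
theorem result (X : Scheme.{u}) (ℓ : ℕ) (hℓ : ℓ.Prime) (n : ℕ) (hcd : Dix.CohDimLEAt X ℓ n) : (∀ i : ℕ, n + 1 < i → ∀ ξ : EtCoh.H X (EtCoh.Gm X) i, (∃ k : ℕ, ℓ ^ k • ξ = 0) → ξ = 0) ∧ (Dix.InvertibleOn X ℓ → ∀ i : ℕ, n < i → ∀ ξ : EtCoh.H X (EtCoh.Gm X) i, (∃ k : ℕ, ℓ ^ k • ξ = 0) → ξ = 0) := by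
  exact main X ℓ n hcd

end Groth.Agent.S3246
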