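import Groth.Statements.S13507
import Groth.Agent.Lib.Helper1.GmSec
import Groth.Agent.Lib.Helper1.CycloRing
import Groth.Agent.Lib.Helper1.EtGerm
import Groth.Agent.S3246

set_option autoImplicit false
universe u
open CategoryTheory CategoryTheory.Limits AlgebraicGeometry
open EtCore

namespace Groth.Agent.S13507

open Groth.Agent.H1.GmSec Groth.Agent.H1.CycloRing Groth.Agent.H1.EtGerm Opposite

variable {S : Scheme.{u}} (n : ℕ) (hn : 1 ≤ n) (hunit : IsUnit (n : Γ(S, ⊤))) (ζ : Γ(S, ⊤))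
  (hζ : Polynomial.aeval ζ (Polynomial.cyclotomic n ℤ) = 0)

/-- the image of `ζ` in the global functions of an etale `S`-scheme -/
noncomputable def zU (U : S.Etale) : Γ(U.left, ⊤) := U.hom.appTop.hom ζ

include hζ in
theorem aeval_zU (U : S.Etale) :
    Polynomial.aeval (zU ζ U) (Polynomial.cyclotomic n ℤ) = 0 := by
  have := Polynomial.aeval_algHom_apply (U.hom.appTop.hom.toIntAlgHom) ζ
    (Polynomial.cyclotomic n ℤ)
  rw [hζ, map_zero] at this
  exact this

include hunit in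
theorem isUnit_n (U : S.Etale) : IsUnit (n : Γ(U.left, ⊤)) := by
  have := hunit.map U.hom.appTop.hom
  rwa [map_natCast] at this

theorem zU_map {U V : S.Etale} (k : V ⟶ U) : k.left.appTop.hom (zU ζ U) = zU ζ V := by
  have e : k.left ≫ U.hom = V.hom := MorphismProperty.Over.w k
  have : V.hom.appTop = U.hom.appTop ≫ k.left.appTop := by
    rw [← Scheme.Hom.comp_appTop, e]
  change k.left.appTop.hom (U.hom.appTop.hom ζ) = V.hom.appTop.hom ζ
  rw [this]
  rfl

include hn hζ in
theorem zU_pow (U : S.Etale) : zU ζ U ^ n = 1 :=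
  pow_eq_one n hn (zU ζ U) (aeval_zU n ζ hζ U)

/-- the image of `ζ` as a unit -/
noncomputable def zUnit (U : S.Etale) : Γ(U.left, ⊤)ˣ :=
  Units.mkOfMulEqOne (zU ζ U) (zU ζ U ^ (n - 1)) (by
    rw [← pow_succ', Nat.sub_add_cancel hn]
    exact zU_pow n hn ζ hζ U)

theorem zUnit_val (U : S.Etale) : (zUnit n hn ζ hζ U : Γ(U.left, ⊤)) = zU ζ U := rfl

theorem zUnit_pow (U : S.Etale) : zUnit n hn ζ hζ U ^ n = 1 := by
  apply Units.ext
  rw [Units.val_pow_eq_pow_val, zUnit_val]
  exact zU_pow n hn ζ hζ U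

theorem zUnit_map {U V : S.Etale} (k : V ⟶ U) :
    Units.map (k.left.appTop).hom.toMonoidHom (zUnit n hn ζ hζ U) = zUnit n hn ζ hζ V := by
  apply Units.ext
  exact zU_map ζ k

/-- the homomorphism `ℤ/n → G_m(U)`, `m ↦ ζ^m` -/
noncomputable def gHom (U : S.Etale) : ZMod n →+ Additive Γ(U.left, ⊤)ˣ :=
  ZMod.lift n ⟨zmultiplesHom _ (Additive.ofMul (zUnit n hn ζ hζ U)), by
    change (n : ℤ) • Additive.ofMul (zUnit n hn ζ hζ U) = 0
    rw [natCast_zsmul, ← ofMul_pow, zUnit_pow]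
    rfl⟩

theorem gHom_natCast (U : S.Etale) (k : ℕ) :
    gHom n hn ζ hζ U (k : ZMod n) = Additive.ofMul (zUnit n hn ζ hζ U ^ k) := by
  have := ZMod.lift_coe n (⟨zmultiplesHom _ (Additive.ofMul (zUnit n hn ζ hζ U)), by
    change (n : ℤ) • Additive.ofMul (zUnit n hn ζ hζ U) = 0
    rw [natCast_zsmul, ← ofMul_pow, zUnit_pow]
    rfl⟩ : {f : ℤ →+ Additive Γ(U.left, ⊤)ˣ // f n = 0}) (k : ℤ)
  rw [Int.cast_natCast] at this
  refine this.trans ?_
  change (k : ℤ) • Additive.ofMul (zUnit n hn ζ hζ U) = _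
  rw [natCast_zsmul, ← ofMul_pow]

/-- the value group -/
abbrev Mn : AddCommGrpCat.{u + 1} := AddCommGrpCat.of (ULift.{u + 1} (ZMod n))

/-- the constant presheaf -/
abbrev Pn (S : Scheme.{u}) : S.Etaleᵒᵖ ⥤ AddCommGrpCat.{u + 1} := (Functor.const _).obj (Mn n)

/-- components of the map from the constant presheaf to `G_m` -/
noncomputable def a0App (U : S.Etale) : Mn.{u} n ⟶ (EtCoh.Gm S).obj.obj (op U) :=
  AddCommGrpCat.ofHom ((AddEquiv.ulift.symm.toAddMonoidHom.comp (gHom n hn ζ hζ U)).comp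
    AddEquiv.ulift.toAddMonoidHom)

theorem ofGm_a0App_natCast (U : S.Etale) (k : ℕ) :
    ofGm U (a0App n hn ζ hζ U (ULift.up (k : ZMod n))) = zUnit n hn ζ hζ U ^ k := by
  change Additive.toMul (gHom n hn ζ hζ U (k : ZMod n)) = _
  rw [gHom_natCast]
  rfl

theorem a0App_natCast (U : S.Etale) (k : ℕ) :
    a0App n hn ζ hζ U (ULift.up (k : ZMod n)) = toGm U (zUnit n hn ζ hζ U ^ k) :=
  congrArg (toGm U) (ofGm_a0App_natCast n hn ζ hζ U k)

include hn in
theorem exists_natCast (m : ULift.{u + 1} (ZMod n)) : ∃ k : ℕ, k < n ∧ m = ULift.up (k : ZMod n) := by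
  have : NeZero n := ⟨by omega⟩
  exact ⟨m.down.val, ZMod.val_lt _, by rw [ZMod.natCast_zmod_val]⟩

/-- the map from the constant presheaf to `G_m` -/
noncomputable def a0 : Pn n S ⟶ (EtCoh.Gm S).obj where
  app U := a0App n hn ζ hζ U.unop
  naturality := by
    intro U V k
    induction U using Opposite.rec with | _ U => ?_
    induction V using Opposite.rec with | _ V => ?_
    obtain ⟨k, rfl⟩ : ∃ k' : V ⟶ U, k = k'.op := ⟨k.unop, rfl⟩
    ext m
    obtain ⟨j, -, rfl⟩ := exists_natCast n hn m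
    change a0App n hn ζ hζ V (ULift.up (j : ZMod n)) =
      (EtCoh.Gm S).obj.map k.op (a0App n hn ζ hζ U (ULift.up (j : ZMod n)))
    rw [a0App_natCast, a0App_natCast]
    have : ofGm V ((EtCoh.Gm S).obj.map k.op (toGm U (zUnit n hn ζ hζ U ^ j))) =
        zUnit n hn ζ hζ V ^ j := by
      rw [ofGm_map, ofGm_toGm, map_pow, zUnit_map]
    exact (congrArg (toGm V) this).symm

/-- the map from the constant sheaf to `G_m` -/
noncomputable def ψ0 : EtCoh.const S (ZMod n) ⟶ EtCoh.Gm S :=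
  ⟨sheafifyLift S.smallEtaleTopology (a0 n hn ζ hζ) (EtCoh.Gm S).property⟩

theorem toSheafify_ψ0 :
    toSheafify S.smallEtaleTopology (Pn n S) ≫ (ψ0 n hn ζ hζ).hom = a0 n hn ζ hζ :=
  toSheafify_sheafifyLift _ _ _

theorem ψ0_powMap : ψ0 n hn ζ hζ ≫ EtCoh.powMap S n = 0 := by
  apply Sheaf.hom_ext
  apply sheafify_hom_ext _ _ _ (EtCoh.Gm S).property
  change toSheafify S.smallEtaleTopology (Pn n S) ≫ (ψ0 n hn ζ hζ).hom ≫ (EtCoh.powMap S n).hom = _
  rw [← Category.assoc, toSheafify_ψ0]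
  ext U m
  induction U using Opposite.rec with | _ U => ?_
  obtain ⟨j, -, rfl⟩ := exists_natCast n hn m
  change (EtCoh.powMap S n).hom.app (op U) (a0App n hn ζ hζ U (ULift.up (j : ZMod n))) = 0
  rw [powMap_app, a0App_natCast]
  have : ofGm U (n • toGm U (zUnit n hn ζ hζ U ^ j)) = 1 := by
    rw [ofGm_nsmul, ofGm_toGm, ← pow_mul, mul_comm, pow_mul, zUnit_pow, one_pow]
  exact congrArg (toGm U) this

/-- the map from the constant sheaf to `μ_n` -/
noncomputable def ψ : EtCoh.const S (ZMod n) ⟶ EtCoh.mu S n :=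
  kernel.lift (EtCoh.powMap S n) (ψ0 n hn ζ hζ) (ψ0_powMap n hn ζ hζ)

theorem ψ_muι : ψ n hn ζ hζ ≫ EtCoh.muι S n = ψ0 n hn ζ hζ :=
  kernel.lift_ι _ _ _

/-- the map from the constant presheaf to `μ_n` -/
noncomputable def a1 : Pn n S ⟶ (EtCoh.mu S n).obj :=
  toSheafify S.smallEtaleTopology (Pn n S) ≫ (ψ n hn ζ hζ).hom

theorem a1_muι : a1 n hn ζ hζ ≫ (EtCoh.muι S n).hom = a0 n hn ζ hζ := by
  have : (ψ n hn ζ hζ).hom ≫ (EtCoh.muι S n).hom = (ψ0 n hn ζ hζ).hom :=
    congrArg (fun f => f.hom) (ψ_muι n hn ζ hζ)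
  exact (Category.assoc _ _ _).trans ((congrArg
    (toSheafify S.smallEtaleTopology (Pn n S) ≫ ·) this).trans (toSheafify_ψ0 n hn ζ hζ))

theorem isEmpty_of_subsingleton (Y : Scheme.{u}) (h : Subsingleton Γ(Y, ⊤)) : IsEmpty Y := by
  constructor
  intro y
  have h1 : Y.basicOpen (1 : Γ(Y, ⊤)) = ⊤ := Y.basicOpen_of_isUnit isUnit_one
  have h2 : Y.basicOpen (0 : Γ(Y, ⊤)) = ⊥ := Y.basicOpen_zero _
  have h3 : (1 : Γ(Y, ⊤)) = 0 := Subsingleton.elim _ _
  rw [h3, h2] at h1
  have : y ∈ (⊤ : Y.Opens) := trivial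
  rw [← h1] at this
  exact this

include hunit in
theorem isEmpty_of_pow_eq (U : S.Etale) (i j : ℕ) (hij : i < j) (hj : j < n)
    (h : zUnit n hn ζ hζ U ^ i = zUnit n hn ζ hζ U ^ j) : IsEmpty U.left := by
  apply isEmpty_of_subsingleton
  have h1 : (zUnit n hn ζ hζ U) ^ (j - i) = 1 := by
    have : zUnit n hn ζ hζ U ^ i * zUnit n hn ζ hζ U ^ (j - i) = zUnit n hn ζ hζ U ^ i * 1 := by
      rw [← pow_add, Nat.add_sub_cancel' hij.le, mul_one, h]
    exact mul_left_cancel this
  have h2 : zU ζ U ^ (j - i) = 1 := by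
    have := congrArg Units.val h1
    rwa [Units.val_pow_eq_pow_val, zUnit_val, Units.val_one] at this
  have h3 : IsUnit (1 - zU ζ U ^ (j - i)) :=
    isUnit_one_sub_pow n hn (zU ζ U) (aeval_zU n ζ hζ U) (isUnit_n n hunit U) (j - i)
      (by omega) (by omega)
  rw [h2, sub_self] at h3
  exact subsingleton_of_zero_eq_one (isUnit_zero_iff.1 h3)

include hunit in
theorem isLocallyInjective_a0 :
    Presheaf.IsLocallyInjective S.smallEtaleTopology (a0 n hn ζ hζ) := by
  constructor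
  intro U a b hab
  induction U using Opposite.rec with | _ U => ?_
  by_cases h : a = b
  · subst h
    rw [Presheaf.equalizerSieve_self_eq_top]
    exact S.smallEtaleTopology.top_mem _
  · have hempty : IsEmpty U.left := by
      obtain ⟨i, hi, rfl⟩ := exists_natCast n hn a
      obtain ⟨j, hj, rfl⟩ := exists_natCast n hn b
      have hij : i ≠ j := fun e => h (by rw [e])
      have hab' : zUnit n hn ζ hζ U ^ i = zUnit n hn ζ hζ U ^ j := by
        rw [← ofGm_a0App_natCast, ← ofGm_a0App_natCast]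
        exact congrArg (ofGm U) hab
      rcases Nat.lt_or_gt_of_ne hij with hlt | hgt
      · exact isEmpty_of_pow_eq n hn hunit ζ hζ U i j hlt hj hab'
      · exact isEmpty_of_pow_eq n hn hunit ζ hζ U j i hgt hi hab'.symm
    apply Groth.Agent.H1.ClosedDense.mem_smallEtaleTopology
    intro x
    exact (hempty.false x).elim

theorem isUnit_of_basicOpen_eq_top (Y : Scheme.{u}) (f : Γ(Y, ⊤)) (h : Y.basicOpen f = ⊤) :
    IsUnit f := by
  apply Y.toRingedSpace.isUnit_of_isUnit_germ ⊤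
  intro y hy
  have : y ∈ Y.basicOpen f := by rw [h]; trivial
  exact (Y.mem_basicOpen_top f y).1 this

theorem isUnit_res_basicOpen (Y : Scheme.{u}) (f : Γ(Y, ⊤)) :
    IsUnit ((Y.basicOpen f).ι.appTop.hom f) := by
  apply isUnit_of_basicOpen_eq_top
  rw [← Scheme.preimage_basicOpen_top]
  exact Scheme.Opens.ι_preimage_self _

theorem mono_muι : Mono (EtCoh.muι S n) :=
  mono_of_isLimit_fork (c := Fork.ofι (kernel.ι (EtCoh.powMap S n)) (by simp))
    (kernelIsKernel (EtCoh.powMap S n))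

theorem muι_pow (U : S.Etale) (s : (EtCoh.mu S n).obj.obj (op U)) :
    ofGm U ((EtCoh.muι S n).hom.app (op U) s) ^ n = 1 := by
  have h1 : (EtCoh.powMap S n).hom.app (op U) ((EtCoh.muι S n).hom.app (op U) s) = 0 := by
    have : EtCoh.muι S n ≫ EtCoh.powMap S n = 0 := kernel.condition _
    rw [← Groth.Agent.S3246.comp_app_apply, this]
    rfl
  rw [powMap_app] at h1
  rw [← ofGm_nsmul, h1]
  rfl

include hunit in
theorem exists_mem_basicOpen (U : S.Etale) (e : ℕ → Γ(U.left, ⊤))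
    (he : ∑ j ∈ Finset.range n, e j = n) (x : U.left) :
    ∃ j, j < n ∧ x ∈ U.left.basicOpen (e j) := by
  by_contra hcon
  push Not at hcon
  have h0 : ∀ j ∈ Finset.range n, (U.left.Γevaluation x).hom (e j) = 0 := by
    intro j hj
    exact (U.left.evaluation_eq_zero_iff_notMem_basicOpen (U := ⊤) x trivial (e j)).2
      (hcon j (Finset.mem_range.1 hj))
  have h1 : (U.left.Γevaluation x).hom (∑ j ∈ Finset.range n, e j) = 0 := by
    rw [map_sum]
    exact Finset.sum_eq_zero h0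
  rw [he] at h1
  have h2 : IsUnit ((U.left.Γevaluation x).hom (n : Γ(U.left, ⊤))) :=
    (isUnit_n n hunit U).map _
  rw [h1] at h2
  exact not_isUnit_zero h2

include hunit in
theorem isLocallySurjective_a1 :
    Presheaf.IsLocallySurjective S.smallEtaleTopology (a1 n hn ζ hζ) := by
  constructor
  intro U s
  apply Groth.Agent.H1.ClosedDense.mem_smallEtaleTopology
  intro x
  -- the section as a unit
  obtain ⟨t, ht⟩ : ∃ t : Γ(U.left, ⊤)ˣ, t = ofGm U ((EtCoh.muι S n).hom.app (op U) s) := ⟨_, rfl⟩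
  have htn : (t : Γ(U.left, ⊤)) ^ n = 1 := by
    rw [← Units.val_pow_eq_pow_val, ht, muι_pow]
    rfl
  obtain ⟨e, he1, he2⟩ := exists_partition n hn (zU ζ U) (aeval_zU n ζ hζ U) (isUnit_n n hunit U)
    (t : Γ(U.left, ⊤)) htn
  obtain ⟨j, hj, hx⟩ := exists_mem_basicOpen n hunit U e he1 x
  obtain ⟨W, hW⟩ : ∃ W : U.left.Opens, W = U.left.basicOpen (e j) := ⟨_, rfl⟩
  have hxW : x ∈ W := hW ▸ hx
  refine ⟨restrictOpen U W, restrictOpenι U W, ⟨x, hxW⟩, ?_, rfl⟩
  refine ⟨ULift.up (((n - j : ℕ) : ZMod n)), ?_⟩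
  have := mono_muι (S := S) n
  apply Groth.Agent.S3246.injective_app_of_mono (EtCoh.muι S n) (restrictOpen U W)
  -- left side
  have hl : (EtCoh.muι S n).hom.app (op (restrictOpen U W))
      ((a1 n hn ζ hζ).app (op (restrictOpen U W)) (ULift.up (((n - j : ℕ) : ZMod n)))) =
      toGm (restrictOpen U W) (zUnit n hn ζ hζ (restrictOpen U W) ^ (n - j)) := by
    have h1 := congrArg (fun f => f.app (op (restrictOpen U W))
      (ULift.up (((n - j : ℕ) : ZMod n)))) (a1_muι n hn ζ hζ)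
    exact h1.trans (a0App_natCast n hn ζ hζ (restrictOpen U W) (n - j))
  -- right side
  have hr : (EtCoh.muι S n).hom.app (op (restrictOpen U W))
      ((EtCoh.mu S n).obj.map (restrictOpenι U W).op s) =
      (EtCoh.Gm S).obj.map (restrictOpenι U W).op ((EtCoh.muι S n).hom.app (op U) s) :=
    (NatTrans.naturality_apply (EtCoh.muι S n).hom (restrictOpenι U W).op s)
  refine hl.trans (Eq.trans ?_ hr.symm)
  -- compare units
  have key : ofGm (restrictOpen U W) ((EtCoh.Gm S).obj.map (restrictOpenι U W).op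
      ((EtCoh.muι S n).hom.app (op U) s)) = zUnit n hn ζ hζ (restrictOpen U W) ^ (n - j) := by
    rw [ofGm_map, ← ht]
    obtain ⟨r, hr⟩ : ∃ r : Γ(U.left, ⊤) →+* Γ((restrictOpen U W).left, ⊤),
        r = (restrictOpenι U W).left.appTop.hom := ⟨_, rfl⟩
    have hre : IsUnit (r (e j)) := by
      rw [hr, hW]
      exact isUnit_res_basicOpen U.left (e j)
    have h1 : (r t * r (zU ζ U) ^ j - 1) * r (e j) = 0 := by
      have := congrArg r (he2 j)
      rwa [map_mul, map_sub, map_mul, map_pow, map_one, map_zero] at this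
    have h2 : r t * r (zU ζ U) ^ j = 1 := by
      have := (hre.mul_left_eq_zero).1 h1
      exact sub_eq_zero.1 this
    have h3 : r (zU ζ U) = zU ζ (restrictOpen U W) := by
      rw [hr]
      exact zU_map ζ (restrictOpenι U W)
    rw [h3] at h2
    have h4 : Units.map r.toMonoidHom t * zUnit n hn ζ hζ (restrictOpen U W) ^ j = 1 := by
      apply Units.ext
      rw [Units.val_mul, Units.val_pow_eq_pow_val, zUnit_val]
      exact h2
    have h5 : zUnit n hn ζ hζ (restrictOpen U W) ^ j *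
        zUnit n hn ζ hζ (restrictOpen U W) ^ (n - j) = 1 := by
      rw [← pow_add, Nat.add_sub_cancel' hj.le, zUnit_pow]
    have h6 : Units.map r.toMonoidHom t = zUnit n hn ζ hζ (restrictOpen U W) ^ (n - j) := by
      calc Units.map r.toMonoidHom t
          = Units.map r.toMonoidHom t * (zUnit n hn ζ hζ (restrictOpen U W) ^ j *
            zUnit n hn ζ hζ (restrictOpen U W) ^ (n - j)) := by rw [h5, mul_one]
        _ = (Units.map r.toMonoidHom t * zUnit n hn ζ hζ (restrictOpen U W) ^ j) *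
            zUnit n hn ζ hζ (restrictOpen U W) ^ (n - j) := (mul_assoc _ _ _).symm
        _ = _ := by rw [h4, one_mul]
    rw [← h6, hr]
  exact (congrArg (toGm (restrictOpen U W)) key).symm

include hunit in
theorem isIso_ψ : IsIso (ψ n hn ζ hζ) := by
  have i0 := isLocallyInjective_a0 n hn hunit ζ hζ
  have s1 := isLocallySurjective_a1 n hn hunit ζ hζ
  have i1 : Presheaf.IsLocallyInjective S.smallEtaleTopology (a1 n hn ζ hζ) :=
    Presheaf.isLocallyInjective_of_isLocallyInjective_fac S.smallEtaleTopology (a1_muι n hn ζ hζ)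
  obtain ⟨ts, hts0⟩ : ∃ ts : Pn n S ⟶ (EtCoh.const S (ZMod n)).obj,
      ts = toSheafify S.smallEtaleTopology (Pn n S) := ⟨_, rfl⟩
  have hts : Presheaf.IsLocallySurjective S.smallEtaleTopology ts := by
    rw [hts0]
    exact Presheaf.isLocallySurjective_toSheafify' S.smallEtaleTopology (Pn n S)
  have fac : ts ≫ (ψ n hn ζ hζ).hom = a1 n hn ζ hζ := by
    rw [hts0]
    rfl
  have h2 : Sheaf.IsLocallyInjective (ψ n hn ζ hζ) :=
    Presheaf.isLocallyInjective_of_isLocallyInjective_of_isLocallySurjective_fac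
      S.smallEtaleTopology (a1 n hn ζ hζ) fac
  have h3 : Sheaf.IsLocallySurjective (ψ n hn ζ hζ) :=
    Presheaf.isLocallySurjective_of_isLocallySurjective_fac S.smallEtaleTopology fac
  exact (Sheaf.isLocallyBijective_iff_isIso _).1 ⟨h2, h3⟩

include hn hunit hζ in
theorem main : Nonempty (EtCoh.mu S n ≅ EtCoh.const S (ZMod n)) := by
  have := isIso_ψ n hn hunit ζ hζ
  exact ⟨(asIso (ψ n hn ζ hζ)).symm⟩

/-- Let S be a scheme and n ≥ 1 with n invertible in the ring of global functions Γ(S, O_S). If Γ(S,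
O_S) contains a root ζ of the n-th cyclotomic polynomial, then the sheaf μ_n of n-th roots of unity
on the small étale site of S is isomorphic to the constant sheaf with value Z/n (existence of an
isomorphism only; the published isomorphism is the one sending 1 to ζ). -/
theorem result (S : Scheme.{u}) (n : ℕ) (hn : 1 ≤ n)
    (hunit : IsUnit (n : Γ(S, ⊤))) (ζ : Γ(S, ⊤))
    (hζ : Polynomial.aeval ζ (Polynomial.cyclotomic n ℤ) = 0) :
    Nonempty (EtCoh.mu S n ≅ EtCoh.const S (ZMod n)) := by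
  exact main n hn hunit ζ hζ

end Groth.Agent.S13507
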