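import Groth.Statements.S1351
import Groth.Agent.Lib.Helper3.LocCrit7

set_option autoImplicit false
set_option linter.style.haveILetI false
universe u
open FlatMor

namespace Groth.Agent.S1351

/-- Let A be a valuation ring, A → B a local homomorphism of local rings essentially of finite type, and
u : N → M a B-linear map of finite B-modules with M flat over A. If u is injective after tensoring
with the residue field of A (that is, modulo the maximal ideal of A), then u is injective and its
cokernel is flat over A. -/
theorem result {A B : Type u} [CommRing A] [IsDomain A] [ValuationRing A] [CommRing B] [IsLocalRing B]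
    [Algebra A B] [IsLocalHom (algebraMap A B)] [Algebra.EssFiniteType A B]
    {N M : Type u} [AddCommGroup N] [Module B N] [Module A N] [IsScalarTower A B N] [Module.Finite B N]
    [AddCommGroup M] [Module B M] [Module A M] [IsScalarTower A B M] [Module.Finite B M] [Module.Flat A M]
    (u : N →ₗ[B] M)
    (hu : Function.Injective (Submodule.mapQ (IsLocalRing.maximalIdeal A • ⊤ : Submodule A N) (IsLocalRing.maximalIdeal A • ⊤ : Submodule A M) (u.restrictScalars A)
      (fun n hn => Submodule.smul_top_le_comap_smul_top _ _ hn))) :
    Function.Injective u ∧ Module.Flat A (M ⧸ LinearMap.range u) := by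
  classical
  obtain ⟨n, ψ, hψ⟩ := Algebra.FiniteType.iff_quotient_mvPolynomial''.mp
    (inferInstance : Algebra.FiniteType A (Algebra.EssFiniteType.subalgebra A B))
  let φ : MvPolynomial (Fin n) A →+* B :=
    (algebraMap (Algebra.EssFiniteType.subalgebra A B) B).comp ψ.toRingHom
  have hφ : ∀ p, φ p = algebraMap (Algebra.EssFiniteType.subalgebra A B) B (ψ p) := fun p => rfl
  let q : Ideal (MvPolynomial (Fin n) A) := (IsLocalRing.maximalIdeal B).comap φ
  haveI : q.IsPrime := Ideal.comap_isPrime _ _
  have hunits : ∀ y : q.primeCompl, IsUnit (φ y) := fun y => by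
    by_contra h
    exact y.2 ((IsLocalRing.mem_maximalIdeal _).mpr h)
  let χ : Localization.AtPrime q →+* B := IsLocalization.lift hunits
  have hχ : ∀ p, χ (algebraMap _ (Localization.AtPrime q) p) = φ p := IsLocalization.lift_eq hunits
  have hχsurj : Function.Surjective χ := by
    intro b
    obtain ⟨⟨b₀, t⟩, h⟩ := IsLocalization.surj (Algebra.EssFiniteType.submonoid A B) b
    obtain ⟨p, hp⟩ := hψ b₀
    obtain ⟨g, hg⟩ := hψ (t : Algebra.EssFiniteType.subalgebra A B)
    have hgu : IsUnit (φ g) := by
      rw [hφ, hg]; exact IsLocalization.map_units B t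
    have hgq : g ∈ q.primeCompl := fun hgq => (IsLocalRing.mem_maximalIdeal _).mp hgq hgu
    refine ⟨IsLocalization.mk' (Localization.AtPrime q) p ⟨g, hgq⟩, ?_⟩
    have h1 : χ (IsLocalization.mk' (Localization.AtPrime q) p ⟨g, hgq⟩) * φ g = φ p := by
      rw [← hχ g, ← map_mul]
      have := IsLocalization.mk'_spec (Localization.AtPrime q) p (⟨g, hgq⟩ : q.primeCompl)
      rw [this, hχ]
    have h2 : b * φ g = φ p := by
      rw [hφ, hφ, hg, hp]; exact h
    exact hgu.mul_left_injective (h1.trans h2.symm)
  letI : Algebra (Localization.AtPrime q) B := χ.toAlgebra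
  have hχalg : ∀ s, algebraMap (Localization.AtPrime q) B s = χ s := fun s => rfl
  haveI : IsScalarTower A (Localization.AtPrime q) B := IsScalarTower.of_algebraMap_eq (fun a => by
    rw [hχalg, IsScalarTower.algebraMap_apply A (MvPolynomial (Fin n) A) (Localization.AtPrime q),
      hχ, hφ, ψ.commutes, ← IsScalarTower.algebraMap_apply])
  haveI : IsLocalHom (algebraMap A (Localization.AtPrime q)) := ⟨fun a ha => by
    have : IsUnit (algebraMap A B a) := by
      rw [IsScalarTower.algebraMap_apply A (Localization.AtPrime q) B]; exact ha.map _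
    exact isUnit_of_map_unit (algebraMap A B) a this⟩
  letI : Module (Localization.AtPrime q) N := Module.compHom N χ
  letI : Module (Localization.AtPrime q) M := Module.compHom M χ
  haveI : IsScalarTower (Localization.AtPrime q) B N :=
    IsScalarTower.of_algebraMap_smul (fun _ _ => rfl)
  haveI : IsScalarTower (Localization.AtPrime q) B M :=
    IsScalarTower.of_algebraMap_smul (fun _ _ => rfl)
  haveI : IsScalarTower A (Localization.AtPrime q) M := IsScalarTower.of_algebraMap_smul (fun a m => by
    rw [← algebraMap_smul B (algebraMap A (Localization.AtPrime q) a) m,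
      ← IsScalarTower.algebraMap_apply A (Localization.AtPrime q) B, algebraMap_smul])
  haveI : IsScalarTower A (Localization.AtPrime q) N := IsScalarTower.of_algebraMap_smul (fun a m => by
    rw [← algebraMap_smul B (algebraMap A (Localization.AtPrime q) a) m,
      ← IsScalarTower.algebraMap_apply A (Localization.AtPrime q) B, algebraMap_smul])
  have hfin : ∀ (X : Type u) [AddCommGroup X] [Module B X] [Module (Localization.AtPrime q) X]
      [IsScalarTower (Localization.AtPrime q) B X] [Module.Finite B X],
      Module.Finite (Localization.AtPrime q) X := by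
    intro X _ _ _ _ hX
    obtain ⟨s, hs⟩ := hX.fg_top
    refine ⟨⟨s, ?_⟩⟩
    rw [← Submodule.restrictScalars_span (Localization.AtPrime q) B hχsurj, hs,
      Submodule.restrictScalars_top]
  haveI := hfin N
  haveI := hfin M
  let uS : N →ₗ[Localization.AtPrime q] M :=
    { toFun := u, map_add' := u.map_add, map_smul' := fun s x => u.map_smul (χ s) x }
  have hS : ∃ (S₀ : Type u) (_ : CommRing S₀) (_ : Algebra A S₀)
      (_ : Algebra S₀ (Localization.AtPrime q)) (_ : IsScalarTower A S₀ (Localization.AtPrime q))
      (T : Submonoid S₀), Algebra.FinitePresentation A S₀ ∧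
        IsLocalization T (Localization.AtPrime q) :=
    ⟨MvPolynomial (Fin n) A, inferInstance, inferInstance, inferInstance, inferInstance,
      q.primeCompl, inferInstance, inferInstance⟩
  have huS : ∀ x : N, uS x ∈ (IsLocalRing.maximalIdeal A).map
      (algebraMap A (Localization.AtPrime q)) • (⊤ : Submodule (Localization.AtPrime q) M) →
      x ∈ (IsLocalRing.maximalIdeal A).map (algebraMap A (Localization.AtPrime q)) •
        (⊤ : Submodule (Localization.AtPrime q) N) := by
    intro x hx
    rw [← Groth.Agent.Lib.helper3.LocCrit.smul_top_iff (R := A)] at hx ⊢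
    have h0 : Submodule.mapQ (IsLocalRing.maximalIdeal A • ⊤ : Submodule A N)
        (IsLocalRing.maximalIdeal A • ⊤ : Submodule A M) (u.restrictScalars A)
        (fun n hn => Submodule.smul_top_le_comap_smul_top _ _ hn) (Submodule.Quotient.mk x) = 0 := by
      rw [Submodule.mapQ_apply]
      exact (Submodule.Quotient.mk_eq_zero _).mpr hx
    have := hu (h0.trans (map_zero _).symm)
    exact (Submodule.Quotient.mk_eq_zero _).mp this
  obtain ⟨h1, h2⟩ :=
    Groth.Agent.Lib.helper3.LocCrit.injective_and_flat_coker_valuation hS uS huS
  refine ⟨h1, ?_⟩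
  let e1 := Submodule.Quotient.restrictScalarsEquiv A (LinearMap.range uS)
  let e2 := Submodule.Quotient.restrictScalarsEquiv A (LinearMap.range u)
  have heq : (LinearMap.range u).restrictScalars A = (LinearMap.range uS).restrictScalars A := by
    ext y
    rfl
  let e3 := Submodule.quotEquivOfEq _ _ heq
  exact Module.Flat.of_linearEquiv ((e2.symm.trans e3).trans e1)

end Groth.Agent.S1351
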