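import Groth.Statements.S13515
import Groth.Agent.Lib.Helper14.FibSite16

set_option autoImplicit false
universe u
open CategoryTheory CategoryTheory.Limits Opposite Pseudofunctor.CoGrothendieck
open scoped CategoryTheory.Pseudofunctor.StrongTrans
open FibSite

namespace Groth.Agent.S13515

/-- Let `F` and `G` be fibred sites over a small category `𝒮` with small fibres and let `α : G ⟶ F` be a
strong transformation of pseudofunctors, i.e. a cartesian functor `∫ᶜ G ⥤ ∫ᶜ F` over `𝒮`, which is a
morphism of fibred sites: on each fibre the functor `α_S : G(S) ⥤ F(S)` is a morphism of sites from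
`(F(S), J S)` to `(G(S), K S)` (continuous, with left exact inverse image on sheaves of sets). Then
the induced functor between the total categories is a morphism of sites from the total site of `F`
to the total site of `G`: it is continuous for the total topologies and the inverse image of sheaves
of sets along it exists and is left exact. -/
theorem result {𝒮 : Type u} [SmallCategory 𝒮]
    (F G : Pseudofunctor (LocallyDiscrete 𝒮ᵒᵖ) Cat.{u, u}) (J : FibSite.Topologies F) (K : FibSite.Topologies G)
    (hF : FibSite.IsFibSite F J) (hG : FibSite.IsFibSite G K) (α : G ⟶ F)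
    (hα : ∀ S : 𝒮, ∃ (_ : (α.app ⟨op S⟩).toFunctor.IsContinuous (K S) (J S))
      (_ : ((α.app ⟨op S⟩).toFunctor.sheafPushforwardContinuous (Type u) (K S) (J S)).IsRightAdjoint),
      PreservesFiniteLimits ((α.app ⟨op S⟩).toFunctor.sheafPullback (Type u) (K S) (J S))) :
    ∃ (_ : (Pseudofunctor.CoGrothendieck.map α).IsContinuous
        (FibSite.totalTopology G K) (FibSite.totalTopology F J))
      (_ : ((Pseudofunctor.CoGrothendieck.map α).sheafPushforwardContinuous (Type u)
        (FibSite.totalTopology G K) (FibSite.totalTopology F J)).IsRightAdjoint),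
      PreservesFiniteLimits ((Pseudofunctor.CoGrothendieck.map α).sheafPullback (Type u)
        (FibSite.totalTopology G K) (FibSite.totalTopology F J)) := by
  have hFp := hF.isPreFibSite
  have hGp := hG.isPreFibSite
  have hαc : ∀ S : 𝒮, (α.app ⟨op S⟩).toFunctor.IsContinuous (K S) (J S) :=
    fun S => (hα S).elim fun h _ => h
  have hm := Groth.Agent.Lib.Helper14.FibSite.isContinuous_map J K hFp hGp α hαc
  have hr : ((Pseudofunctor.CoGrothendieck.map α).sheafPushforwardContinuous (Type u)
      (FibSite.totalTopology G K) (FibSite.totalTopology F J)).IsRightAdjoint := inferInstance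
  refine ⟨hm, hr, ?_⟩
  have hιF : ∀ S : 𝒮, (ι F S).IsContinuous (J S) (FibSite.totalTopology F J) :=
    fun S => Groth.Agent.Lib.Helper14.FibSite.isContinuous_ι F J hFp S
  have hιF' : ∀ S : 𝒮, (ι F S).IsCocontinuous (J S) (FibSite.totalTopology F J) :=
    fun S => Groth.Agent.Lib.Helper14.FibSite.isCocontinuous_ι F J hFp S
  have hιG : ∀ S : 𝒮, (ι G S).IsContinuous (K S) (FibSite.totalTopology G K) :=
    fun S => Groth.Agent.Lib.Helper14.FibSite.isContinuous_ι G K hGp S
  have hιG' : ∀ S : 𝒮, (ι G S).IsCocontinuous (K S) (FibSite.totalTopology G K) :=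
    fun S => Groth.Agent.Lib.Helper14.FibSite.isCocontinuous_ι G K hGp S
  apply Groth.Agent.Lib.Helper14.FibSite.preservesFiniteLimits_of_forall_comp_restr F J
  intro T
  obtain ⟨hc, hra, hlex⟩ := hα T
  have h1 : PreservesFiniteLimits (FibSite.restr G K (Type u) T) := inferInstance
  have h2 : PreservesFiniteLimits (FibSite.restr G K (Type u) T ⋙
      (α.app ⟨op T⟩).toFunctor.sheafPullback (Type u) (K T) (J T)) :=
    comp_preservesFiniteLimits _ _
  exact preservesFiniteLimits_of_natIso
    (Groth.Agent.Lib.Helper14.FibSite.pullbackRestrIso J K α T).symm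

end Groth.Agent.S13515
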