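import Groth.Statements.S13516
import Groth.Agent.Lib.Helper14.FibSite24

set_option autoImplicit false
universe u
open CategoryTheory CategoryTheory.Limits Opposite Pseudofunctor.CoGrothendieck
open scoped CategoryTheory.Pseudofunctor.StrongTrans
open FibSite

namespace Groth.Agent.S13516

/-- Let `F` and `G` be fibred sites over a small category `𝒮` with small fibres and let `α : G ⟶ F` be a
strong transformation of pseudofunctors, i.e. a cartesian functor `∫ᶜ G ⥤ ∫ᶜ F` over `𝒮`. If the
induced functor between the total categories is a morphism of sites from the total site of `F` to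
the total site of `G` (continuous, with left exact inverse image on sheaves of sets), then `α` is a
morphism of fibred sites: for every `S` the fibre functor `α_S : G(S) ⥤ F(S)` is a morphism of sites
from `(F(S), J S)` to `(G(S), K S)`. (The published statement is for an arbitrary functor over `𝒮`
between the total categories; this row takes a cartesian one.) -/
theorem result {𝒮 : Type u} [SmallCategory 𝒮]
    (F G : Pseudofunctor (LocallyDiscrete 𝒮ᵒᵖ) Cat.{u, u}) (J : FibSite.Topologies F) (K : FibSite.Topologies G)
    (hF : FibSite.IsFibSite F J) (hG : FibSite.IsFibSite G K) (α : G ⟶ F)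
    (hα : ∃ (_ : (Pseudofunctor.CoGrothendieck.map α).IsContinuous
        (FibSite.totalTopology G K) (FibSite.totalTopology F J))
      (_ : ((Pseudofunctor.CoGrothendieck.map α).sheafPushforwardContinuous (Type u)
        (FibSite.totalTopology G K) (FibSite.totalTopology F J)).IsRightAdjoint),
      PreservesFiniteLimits ((Pseudofunctor.CoGrothendieck.map α).sheafPullback (Type u)
        (FibSite.totalTopology G K) (FibSite.totalTopology F J))) (S : 𝒮) :
    ∃ (_ : (α.app ⟨op S⟩).toFunctor.IsContinuous (K S) (J S))
      (_ : ((α.app ⟨op S⟩).toFunctor.sheafPushforwardContinuous (Type u) (K S) (J S)).IsRightAdjoint),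
      PreservesFiniteLimits ((α.app ⟨op S⟩).toFunctor.sheafPullback (Type u) (K S) (J S)) := by
  obtain ⟨hm, hr, hlex⟩ := hα
  have hFp := hF.isPreFibSite
  have hGp := hG.isPreFibSite
  have hιF : ∀ S : 𝒮, (ι F S).IsContinuous (J S) (FibSite.totalTopology F J) :=
    fun S => Groth.Agent.Lib.Helper14.FibSite.isContinuous_ι F J hFp S
  have hιF' : ∀ S : 𝒮, (ι F S).IsCocontinuous (J S) (FibSite.totalTopology F J) :=
    fun S => Groth.Agent.Lib.Helper14.FibSite.isCocontinuous_ι F J hFp S
  have hιG : ∀ S : 𝒮, (ι G S).IsContinuous (K S) (FibSite.totalTopology G K) :=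
    fun S => Groth.Agent.Lib.Helper14.FibSite.isContinuous_ι G K hGp S
  have hιG' : ∀ S : 𝒮, (ι G S).IsCocontinuous (K S) (FibSite.totalTopology G K) :=
    fun S => Groth.Agent.Lib.Helper14.FibSite.isCocontinuous_ι G K hGp S
  have hFc : ∀ (R S : 𝒮) (f : R ⟶ S), (FibSite.invImage F f).IsContinuous (J S) (J R) :=
    fun R S f => hFp f
  have hGc : ∀ (R S : 𝒮) (f : R ⟶ S), (FibSite.invImage G f).IsContinuous (K S) (K R) :=
    fun R S f => hGp f
  have hc : (α.app ⟨op S⟩).toFunctor.IsContinuous (K S) (J S) :=
    Groth.Agent.Lib.Helper14.FibSite.isContinuous_app J K α S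
  have hra : ((α.app ⟨op S⟩).toFunctor.sheafPushforwardContinuous (Type u) (K S)
      (J S)).IsRightAdjoint := inferInstance
  exact ⟨hc, hra, Groth.Agent.Lib.Helper14.FibSite.preservesFiniteLimits_pullback_app J K α S⟩

end Groth.Agent.S13516
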