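import Groth.Statements.S13521
import Groth.Agent.Lib.Helper27.UcdCalc
-- import your own Groth.Agent.* helpers here

set_option autoImplicit false
universe u
open CategoryTheory CategoryTheory.Limits Opposite TopologicalSpace
open FibDesc

namespace Groth.Agent.S13521

/-- In the category of topological spaces with all abelian sheaves as coefficients, let `X' ⟶ S` and `Y'
⟶ S` be spaces over `S` and let `f : X ⟶ X'`, `g : Y ⟶ Y'` be continuous maps (maps over `S` for the
composite structure maps) which are universally of cohomological 1-descent. Then the induced map of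
fibre products over `S`, from `X ×_S Y` to `X' ×_S Y'`, is universally of cohomological 1-descent. -/
theorem result {X X' Y Y' S : TopCat.{u}} (pX : X' ⟶ S) (pY : Y' ⟶ S)
    (f : X ⟶ X') (g : Y ⟶ Y') (hf : FibDesc.IsUnivCohDescentMap f) (hg : FibDesc.IsUnivCohDescentMap g) :
    FibDesc.IsUnivCohDescentMap
      (pullback.map (f ≫ pX) (g ≫ pY) pX pY f g (𝟙 S) (Category.comp_id _) (Category.comp_id _)) := by
  -- the two factors
  let m₁ : pullback (f ≫ pX) (g ≫ pY) ⟶ pullback pX (g ≫ pY) :=
    pullback.map (f ≫ pX) (g ≫ pY) pX (g ≫ pY) f (𝟙 Y) (𝟙 S) (Category.comp_id _)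
      ((Category.comp_id _).trans (Category.id_comp _).symm)
  let m₂ : pullback pX (g ≫ pY) ⟶ pullback pX pY :=
    pullback.map pX (g ≫ pY) pX pY (𝟙 X') g (𝟙 S)
      ((Category.comp_id _).trans (Category.id_comp _).symm) (Category.comp_id _)
  have e : pullback.map (f ≫ pX) (g ≫ pY) pX pY f g (𝟙 S) (Category.comp_id _)
      (Category.comp_id _) = m₁ ≫ m₂ := by
    apply pullback.hom_ext
    · rw [pullback.lift_fst, Category.assoc, pullback.lift_fst, ← Category.assoc,
        pullback.lift_fst, Category.assoc, Category.comp_id]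
    · rw [pullback.lift_snd, Category.assoc, pullback.lift_snd, ← Category.assoc,
        pullback.lift_snd, Category.assoc, Category.id_comp]
  rw [e]
  -- the first factor is a base change of `f`
  have s₁ : IsPullback (pullback.fst (f ≫ pX) (g ≫ pY)) m₁ f (pullback.fst pX (g ≫ pY)) := by
    have big : IsPullback (m₁ ≫ pullback.snd pX (g ≫ pY)) (pullback.fst (f ≫ pX) (g ≫ pY))
        (g ≫ pY) (f ≫ pX) := by
      have : m₁ ≫ pullback.snd pX (g ≫ pY) = pullback.snd (f ≫ pX) (g ≫ pY) :=
        (pullback.lift_snd _ _ _).trans (Category.comp_id _)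
      rw [this]
      exact (IsPullback.of_hasPullback (f ≫ pX) (g ≫ pY)).flip
    exact (IsPullback.of_right big (pullback.lift_fst _ _ _)
      (IsPullback.of_hasPullback pX (g ≫ pY)).flip).flip
  -- the second factor is a base change of `g`
  have s₂ : IsPullback (pullback.snd pX (g ≫ pY)) m₂ g (pullback.snd pX pY) := by
    have big : IsPullback (m₂ ≫ pullback.fst pX pY) (pullback.snd pX (g ≫ pY))
        pX (g ≫ pY) := by
      have : m₂ ≫ pullback.fst pX pY = pullback.fst pX (g ≫ pY) :=
        (pullback.lift_fst _ _ _).trans (Category.comp_id _)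
      rw [this]
      exact IsPullback.of_hasPullback pX (g ≫ pY)
    exact (IsPullback.of_right big (pullback.lift_snd _ _ _)
      (IsPullback.of_hasPullback pX pY)).flip
  exact Groth.Agent.Lib.helper27.UcdCalc.ucd_comp m₁ m₂
    (Groth.Agent.Lib.helper27.UcdCalc.ucd_of_isPullback s₁ hf)
    (Groth.Agent.Lib.helper27.UcdCalc.ucd_of_isPullback s₂ hg)

end Groth.Agent.S13521
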