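import Groth.Statements.S13532
import Groth.Agent.Lib.Helper1.GenFinO
import Groth.Agent.Lib.Helper1.GenFinL

set_option autoImplicit false
universe u
open CategoryTheory CategoryTheory.Limits AlgebraicGeometry
open ResProp

namespace Groth.Agent.S13532

/-- A morphism of finite type between locally Noetherian schemes which is birational (an isomorphism
over a dense open of the target whose preimage is dense in the source) has finite fibres over all
points of the target of codimension at most 1, i.e. whose local ring has Krull dimension at most 1. -/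
theorem result {X Y : Scheme.{u}}
    [IsLocallyNoetherian X] [IsLocallyNoetherian Y] (f : Y ⟶ X) [LocallyOfFiniteType f] [QuasiCompact f]
    (U : X.Opens) (hU : Dense (U : Set X)) (hU' : Dense ((f ⁻¹ᵁ U : Y.Opens) : Set Y)) (hiso : IsIso (f ∣_ U))
    (x : X) (hx : ringKrullDim (X.presheaf.stalk x) ≤ 1) :
    (f.base ⁻¹' {x}).Finite := by
  apply Groth.Agent.H1.GenFin.finite_fibre_of_quasiFiniteAt f x
  intro y hy
  refine Groth.Agent.H1.GenFin.quasiFiniteAt_of_dim_le_one f x hx ?_ y hy
  intro ξ hξ _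
  have hmax : ∀ u' : Y, u' ⤳ ξ → u' = ξ := by
    intro u' hspec
    by_contra hne
    have h2 := Groth.Agent.H1.GenFin.stalk_dim_add_one_le_of_specializes u' ξ hspec hne
    rw [hξ] at h2
    have h0 : (0 : WithBot ℕ∞) ≤ ringKrullDim (Y.presheaf.stalk u') :=
      ringKrullDim_nonneg_of_nontrivial
    have h1 : (0 : WithBot ℕ∞) + 1 ≤ 0 := le_trans (add_le_add_left h0 1) h2
    rw [zero_add] at h1
    exact absurd h1 (by simp)
  have hmem : ξ ∈ (f ⁻¹ᵁ U : Y.Opens) :=
    Groth.Agent.H1.GenFin.mem_of_dense_open_of_maximal _ (f ⁻¹ᵁ U).isOpen hU' ξ hmax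
  haveI := hiso
  have h1 : ((f ⁻¹ᵁ U).ι ≫ f).QuasiFiniteAt ⟨ξ, hmem⟩ := by
    rw [← morphismRestrict_ι]
    exact Scheme.Hom.quasiFiniteAt _ _
  exact Scheme.Hom.quasiFiniteAt_comp_iff_of_isOpenImmersion.mp h1

end Groth.Agent.S13532
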