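import Groth.Statements.S13535
import Mathlib
import Groth.Agent.Lib.Helper16.ProjFormulaAff
import Groth.Agent.Lib.Helper18.HHPush
import Groth.Agent.Lib.Helper18.HHLin
import Groth.Agent.Lib.Helper2.TensorQCoh
import Groth.Agent.S0019

set_option autoImplicit false
set_option linter.style.haveILetI false
universe u
open CategoryTheory CategoryTheory.Limits AlgebraicGeometry
open ResProp

namespace Groth.Agent.S13535

/-- Let X and Y be proper over a Noetherian ring A and let f : Y ⟶ X be a finite A-morphism. If a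
sequence (E_n) of coherent modules on X is cohomologically d-ample (d a positive integer), meaning
that for every coherent F the groups H^i(X, F ⊗ E_n) vanish for all i ≥ d + 1 and all large n, then
so is the sequence of pullbacks (f^*E_n) on Y. -/
theorem result (A : Type u) [CommRing A] [IsNoetherianRing A]
    {X Y : Scheme.{u}} (pX : X ⟶ Spec (CommRingCat.of A)) (pY : Y ⟶ Spec (CommRingCat.of A))
    [IsProper pX] [IsProper pY] (f : Y ⟶ X) (hf : f ≫ pX = pY) [IsFinite f]
    (d : ℕ) (hd : 0 < d) (E : ℕ → X.Modules) (hE : ∀ n, Coh.IsCoh (E n))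
    (hamp : ∀ F : X.Modules, Coh.IsCoh F → ∃ n₀ : ℕ, ∀ n : ℕ, n₀ ≤ n → ∀ i : ℕ, d + 1 ≤ i →
        Subsingleton (Coh.HH X (CohB1.tensorMod F (E n)) i)) :
    ∀ F : Y.Modules, Coh.IsCoh F → ∃ n₀ : ℕ, ∀ n : ℕ, n₀ ≤ n → ∀ i : ℕ, d + 1 ≤ i →
        Subsingleton (Coh.HH Y (CohB1.tensorMod F ((Scheme.Modules.pullback f).obj (E n))) i) := by
  intro F hF
  haveI : IsLocallyNoetherian (Spec (CommRingCat.of A)) := inferInstance
  haveI : IsLocallyNoetherian X := LocallyOfFiniteType.isLocallyNoetherian pX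
  have hG : Coh.IsCoh ((Coh.push f).obj F) := Groth.Agent.S0019.result f F hF
  obtain ⟨n₀, hn₀⟩ := hamp _ hG
  refine ⟨n₀, fun n hn i hi => ?_⟩
  haveI : F.IsQuasicoherent := hF.1
  haveI : (E n).IsQuasicoherent := (hE n).1
  haveI : ((Scheme.Modules.pullback f).obj (E n)).IsQuasicoherent :=
    Groth.Agent.Lib.helper16.QCohPullback.isQuasicoherent_pullback f (E n)
  haveI : (CohB1.tensorMod F ((Scheme.Modules.pullback f).obj (E n))).IsQuasicoherent :=
    Groth.Agent.Lib.helper2.TensorQCoh.isQuasicoherent_tensorMod _ _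
  have h1 : Subsingleton (Coh.HH X (CohB1.tensorMod ((Coh.push f).obj F) (E n)) i) := hn₀ n hn i hi
  haveI := Groth.Agent.Lib.helper16.ProjFormulaAff.isIso_projHom f F (E n)
  let e := asIso (Groth.Agent.Lib.Helper18.ProjFormulaLF.projHom f F (E n))
  have h2 : Subsingleton (Coh.HH X ((Scheme.Modules.pushforward f).obj
      (CohB1.tensorMod F ((Scheme.Modules.pullback f).obj (E n)))) i) :=
    @Equiv.subsingleton _ _
      ((Groth.Agent.Lib.Helper18.HH.functor X i).mapIso e).toLinearEquiv.symm.toEquiv h1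
  exact @Equiv.subsingleton _ _
    (Groth.Agent.Lib.Helper18.HH.pushEquivAdd f
      (CohB1.tensorMod F ((Scheme.Modules.pullback f).obj (E n))) i).symm.toEquiv h2

end Groth.Agent.S13535
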