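import Groth.Statements.S8269
import Groth.Agent.Lib.Helper28.SymAlgUP
import Groth.Agent.Lib.Helper28.RelSpecLocal
import Groth.Agent.Lib.Helper16.QCAlg4
import Groth.Agent.Lib.Helper12.FiniteProj
-- import your own Groth.Agent.* helpers here

set_option autoImplicit false
universe u
open CategoryTheory CategoryTheory.Limits AlgebraicGeometry Opposite TopologicalSpace
open EGA2

namespace Groth.Agent.S8269

/-- Let Y be either a quasi-compact separated scheme or a scheme with Noetherian underlying space, and X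
affine and of finite type over Y. Then X is Y-isomorphic to a closed subscheme of a vector bundle
V(E) with E a quasi-coherent O_Y-module of finite type: there are such an E, its symmetric algebra
A, and a closed immersion X → Spec(A) over Y. -/
theorem result {X Y : Scheme.{u}}
    (hY : (CompactSpace Y ∧ Y.IsSeparated) ∨ NoetherianSpace Y) (f : X ⟶ Y) [IsAffineHom f]
    [LocallyOfFiniteType f] :
    ∃ (E : Y.Modules) (_ : Coh.IsCoh E) (A : RelSpec.QCAlg Y) (j : E ⟶ A.toModule)
      (_ : RelSpec.IsSymAlg E A j) (i : X ⟶ A.spec), IsClosedImmersion i ∧ i ≫ A.π = f := by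
  have hqcqs : CompactSpace Y ∧ QuasiSeparatedSpace Y := by
    rcases hY with ⟨h1, h2⟩ | h
    · exact ⟨h1, inferInstance⟩
    · exact ⟨inferInstance, inferInstance⟩
  obtain ⟨hc, hqs⟩ := hqcqs
  let B : RelSpec.QCAlg Y := RelSpec.QCAlg.directImage f
  have hB : ∀ U : Y.affineOpens, (B.str.app (op (U : Y.Opens))).hom.FiniteType := by
    intro U
    have h := Scheme.Hom.finiteType_appLE f U.2 (U.2.preimage f) le_rfl
    rwa [← Scheme.Hom.app_eq_appLE] at h
  obtain ⟨E, j, hm, hq, hft, hgen⟩ :=
    Groth.Agent.Lib.helper16.QCAlg.exists_generating_ft_sub B hB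
  have : E.IsQuasicoherent := hq
  obtain ⟨ψ, hψ, -⟩ := Groth.Agent.Lib.helper28.SymAlg.isSymAlg E B j
  obtain ⟨c, hcf⟩ := Groth.Agent.Lib.helper12.FiniteProj.exists_iso_spec_directImage f
  have hsurj : ∀ U : Y.AffineZariskiSite, Function.Surjective (ψ.hom.app (op U.1)).hom := by
    intro U b
    have hb : b ∈ Groth.Agent.Lib.helper16.QCAlg.genSub B j U.1 := by
      rw [hgen ⟨U.1, U.2⟩]; trivial
    change b ∈ (ψ.hom.app (op U.1)).hom.range
    refine (Subring.closure_le (t := (ψ.hom.app (op U.1)).hom.range)).mpr ?_ hb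
    rintro x (⟨r, rfl⟩ | ⟨e, rfl⟩)
    · refine ⟨((Groth.Agent.Lib.helper28.SymAlg.symAlg E).str.app (op U.1)).hom r, ?_⟩
      exact congrArg (fun k => (k.app (op U.1)).hom r) ψ.comm
    · refine ⟨((Groth.Agent.Lib.helper28.SymAlg.j E).app U.1).hom e, ?_⟩
      exact congrArg (fun k => (k.app U.1).hom e) hψ
  have hci : IsClosedImmersion (RelSpec.QCAlg.specMap ψ) :=
    Groth.Agent.Lib.helper28.RelSpecLocal.specMap_of_affine @IsClosedImmersion ψ fun U =>
      IsClosedImmersion.spec_of_surjective _ (hsurj U)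
  refine ⟨E, ⟨hq, hft⟩, Groth.Agent.Lib.helper28.SymAlg.symAlg E,
    Groth.Agent.Lib.helper28.SymAlg.j E, Groth.Agent.Lib.helper28.SymAlg.isSymAlg E,
    c.hom ≫ RelSpec.QCAlg.specMap ψ, inferInstance, ?_⟩
  rw [Category.assoc, RelSpec.QCAlg.specMap_π, hcf]

end Groth.Agent.S8269
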