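import Groth.Statements.S13541
import Groth.Agent.S8269
import Groth.Agent.Lib.Helper28.SymProj1Sh
import Groth.Agent.Lib.Helper28.SymProps
import Groth.Agent.Lib.Helper16.FLF2
-- import your own Groth.Agent.* helpers here

set_option autoImplicit false
universe u
open CategoryTheory CategoryTheory.Limits AlgebraicGeometry
open ResProp

namespace Groth.Agent.S13541

/-- In the case of schemes, a Noetherian scheme S has the resolution property exactly when each affine
finite-type morphism X ⟶ S factors over S through a closed immersion of X into a vector bundle V(E)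
= Spec Sym(E), E a finite locally free module on S (V(E) is given as the relative spectrum of a
quasi-coherent algebra A with a map E ⟶ A making A the symmetric algebra of E). (The published
statement is for Noetherian algebraic stacks; this row is the case of schemes.) -/
theorem result (S : Scheme.{u}) [IsNoetherian S] :
    PerfAux.HasResolutionProperty S ↔
      ∀ (X : Scheme.{u}) (f : X ⟶ S) [IsAffineHom f] [LocallyOfFiniteType f],
        ∃ (E : S.Modules) (A : RelSpec.QCAlg S) (j : E ⟶ A.toModule) (i : X ⟶ A.spec),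
          Coh.IsQCoh E ∧ FlatMod.IsFinLocFree E ∧ RelSpec.IsSymAlg E A j ∧ IsClosedImmersion i ∧ i ≫ A.π = f := by
  constructor
  · intro hres X f _ _
    obtain ⟨E₀, hE₀, A₀, j₀, hA₀, i₀, hi₀, hi₀f⟩ :=
      Groth.Agent.S8269.result (Or.inr inferInstance) f
    obtain ⟨E, π, hE, hπ⟩ := hres E₀ hE₀.1 hE₀.2
    have : E₀.IsQuasicoherent := hE₀.1
    have : E.IsQuasicoherent :=
      Groth.Agent.Lib.helper16.FLF.isQuasicoherent_of_isFinLocFree E hE
    obtain ⟨ψ, hψ, -⟩ := Groth.Agent.Lib.helper28.SymAlg.isSymAlg E A₀ (π ≫ j₀)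
    have hci : IsClosedImmersion (RelSpec.QCAlg.specMap ψ) :=
      Groth.Agent.Lib.helper28.SymProps.isClosedImmersion_specMap E
        (Groth.Agent.Lib.helper28.SymAlg.symAlg E) (Groth.Agent.Lib.helper28.SymAlg.j E)
        E₀ π A₀ j₀ hA₀ ψ hψ
    refine ⟨E, Groth.Agent.Lib.helper28.SymAlg.symAlg E, Groth.Agent.Lib.helper28.SymAlg.j E,
      i₀ ≫ RelSpec.QCAlg.specMap ψ, this, hE, Groth.Agent.Lib.helper28.SymAlg.isSymAlg E,
      inferInstance, ?_⟩
    rw [Category.assoc, RelSpec.QCAlg.specMap_π, hi₀f]
  · intro h M hM hMft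
    have : M.IsQuasicoherent := hM
    have hft : LocallyOfFiniteType (Groth.Agent.Lib.helper28.SymAlg.symAlg M).π :=
      Groth.Agent.Lib.helper28.SymProps.locallyOfFiniteType_π M
        (Groth.Agent.Lib.helper28.SymAlg.symAlg M) (Groth.Agent.Lib.helper28.SymAlg.j M)
        (Groth.Agent.Lib.helper28.SymAlg.isSymAlg M) hMft
    obtain ⟨E, A, j, i, hEq, hE, hA, hi, hiπ⟩ :=
      h (Groth.Agent.Lib.helper28.SymAlg.symAlg M).spec (Groth.Agent.Lib.helper28.SymAlg.symAlg M).π
    have : E.IsQuasicoherent := hEq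
    exact ⟨E, _, hE,
      Groth.Agent.Lib.helper28.SymProj1Sh.epi_of_isClosedImmersion E M A j hA i hiπ⟩

end Groth.Agent.S13541
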