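import Groth.Statements.S13543
import Groth.Agent.Lib.Helper28.SymProj1Sh
import Groth.Agent.Lib.Helper28.SymProps
import Groth.Agent.Lib.Helper28.FinSubCoprod
import Groth.Agent.Lib.Helper16.QCAlg4
import Groth.Agent.Lib.Helper12.FiniteProj
import Groth.Agent.Lib.Helper25.QCohCoprod
-- import your own Groth.Agent.* helpers here

set_option autoImplicit false
universe u
open CategoryTheory CategoryTheory.Limits AlgebraicGeometry
open ResProp

namespace Groth.Agent.S13543

open Opposite in
/-- closed immersion `Y → V(E')` over `X` from a map `E' → E₀` surjective on affine opens onto a module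
`E₀ → f_* O_Y` generating the algebra `f_* O_Y` -/
theorem exists_closedImmersion {X Y : Scheme.{u}} (f : Y ⟶ X) [IsAffineHom f]
    (E' : X.Modules) [E'.IsQuasicoherent] (E₀ : X.Modules)
    (v : E' ⟶ E₀) (hv : ∀ U : X.affineOpens, Function.Surjective (v.app U.1).hom)
    (j : E₀ ⟶ (RelSpec.QCAlg.directImage f).toModule)
    (hgen : ∀ U : X.affineOpens,
      Groth.Agent.Lib.helper16.QCAlg.genSub (RelSpec.QCAlg.directImage f) j U.1 = ⊤) :
    ∃ c : Y ⟶ (Groth.Agent.Lib.helper28.SymAlg.symAlg E').spec,
      IsClosedImmersion c ∧ c ≫ (Groth.Agent.Lib.helper28.SymAlg.symAlg E').π = f := by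
  obtain ⟨ψ, hψ, -⟩ := Groth.Agent.Lib.helper28.SymAlg.isSymAlg E'
    (RelSpec.QCAlg.directImage f) (v ≫ j)
  obtain ⟨c, hcf⟩ := Groth.Agent.Lib.helper12.FiniteProj.exists_iso_spec_directImage f
  have hsurj : ∀ U : X.AffineZariskiSite, Function.Surjective (ψ.hom.app (op U.1)).hom := by
    intro U b
    have hb : b ∈ Groth.Agent.Lib.helper16.QCAlg.genSub (RelSpec.QCAlg.directImage f) j U.1 := by
      rw [hgen ⟨U.1, U.2⟩]; trivial
    change b ∈ (ψ.hom.app (op U.1)).hom.range
    refine (Subring.closure_le (t := (ψ.hom.app (op U.1)).hom.range)).mpr ?_ hb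
    rintro x (⟨r, rfl⟩ | ⟨e, rfl⟩)
    · refine ⟨((Groth.Agent.Lib.helper28.SymAlg.symAlg E').str.app (op U.1)).hom r, ?_⟩
      exact congrArg (fun k => (k.app (op U.1)).hom r) ψ.comm
    · obtain ⟨e', rfl⟩ := hv ⟨U.1, U.2⟩ e
      refine ⟨((Groth.Agent.Lib.helper28.SymAlg.j E').app U.1).hom e', ?_⟩
      exact congrArg (fun k => (k.app U.1).hom e') hψ
  have hci : IsClosedImmersion (RelSpec.QCAlg.specMap ψ) :=
    Groth.Agent.Lib.helper28.RelSpecLocal.specMap_of_affine @IsClosedImmersion ψ fun U =>
      IsClosedImmersion.spec_of_surjective _ (hsurj U)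
  refine ⟨c.hom ≫ RelSpec.QCAlg.specMap ψ, inferInstance, ?_⟩
  rw [Category.assoc, RelSpec.QCAlg.specMap_π, hcf]

/-- In the case of schemes, on a quasi-compact quasi-separated scheme X let (E_i) be a family of
finitely presented quasi-coherent modules closed (up to isomorphism) under binary tensor products
and binary direct sums. Then (E_i) is a generating family, i.e. every quasi-coherent module is a
quotient of a direct sum of copies of the E_i, if and only if every affine morphism Y ⟶ X factors
over X through a closed immersion of Y into the vector bundle V(E) = Spec Sym(E) of a direct sum E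
of copies of members of the family, with finitely many summands whenever Y ⟶ X is of finite type
(V(E) is given as the relative spectrum of a quasi-coherent algebra that is the symmetric algebra of
E). (The published statement is for quasi-compact quasi-separated algebraic stacks and takes E to be
the direct sum of a subfamily without repeated members; this row is the case of schemes and allows
repetitions, as the printed argument produces: for the generating family of free modules k, k^2,
k^3, … on a point and the affine morphism from the spectrum of a polynomial ring in uncountably many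
variables, no direct sum of distinct members works.) -/
theorem result (X : Scheme.{u}) [CompactSpace X] [QuasiSeparatedSpace X]
    {ι : Type u} (E : ι → X.Modules) (hE : ∀ i, Coh.IsQCoh (E i) ∧ CohB1.IsFP (E i))
    (htens : ∀ i i' : ι, ∃ i'' : ι, Nonempty (E i'' ≅ CohB1.tensorMod (E i) (E i')))
    (hsum : ∀ i i' : ι, ∃ i'' : ι, Nonempty (E i'' ≅ E i ⊞ E i')) :
    (∀ M : X.Modules, Coh.IsQCoh M → ∃ (κ : Type u) (j : κ → ι) (π : (∐ fun k : κ => E (j k)) ⟶ M), Epi π) ↔
    (∀ (Y : Scheme.{u}) (f : Y ⟶ X) [IsAffineHom f],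
      ∃ (κ : Type u) (j : κ → ι) (B : RelSpec.QCAlg X) (φ : (∐ fun k : κ => E (j k)) ⟶ B.toModule) (c : Y ⟶ B.spec),
        RelSpec.IsSymAlg (∐ fun k : κ => E (j k)) B φ ∧ IsClosedImmersion c ∧ c ≫ B.π = f ∧
        (LocallyOfFiniteType f → Finite κ)) := by
  classical
  have hEq : ∀ i, (E i).IsQuasicoherent := fun i => (hE i).1
  constructor
  · intro hgen Y f _
    have hBq : (RelSpec.QCAlg.directImage f).toModule.IsQuasicoherent :=
      Groth.Agent.Lib.helper16.QCAlg.isQuasicoherent_toModule _
    by_cases hft : LocallyOfFiniteType f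
    · -- finite type: a finite type generating submodule, then finitely many summands
      have hB : ∀ U : X.affineOpens,
          ((RelSpec.QCAlg.directImage f).str.app (Opposite.op (U : X.Opens))).hom.FiniteType := by
        intro U
        have h := Scheme.Hom.finiteType_appLE f U.2 (U.2.preimage f) le_rfl
        rwa [← Scheme.Hom.app_eq_appLE] at h
      obtain ⟨E₀, j₀, -, hq₀, hft₀, hgen₀⟩ :=
        Groth.Agent.Lib.helper16.QCAlg.exists_generating_ft_sub (RelSpec.QCAlg.directImage f) hB
      have : E₀.IsQuasicoherent := hq₀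
      obtain ⟨κ, j, π, hπ⟩ := hgen E₀ hq₀
      obtain ⟨T, hT⟩ := Groth.Agent.Lib.helper28.FinSubCoprod.exists_finset_epi
        (fun k : κ => E (j k)) (fun k => hEq (j k)) E₀ π hft₀
      have hq' : (∐ fun k : T => E (j k.1)).IsQuasicoherent :=
        Groth.Agent.Lib.helper25.QCohCoprod.isQuasicoherent_coproduct X _ (fun k => hEq (j k.1))
      obtain ⟨c, hc, hcf⟩ := exists_closedImmersion f (∐ fun k : T => E (j k.1)) E₀
        (Groth.Agent.Lib.helper28.FinSubCoprod.sub (fun k : κ => E (j k)) T ≫ π)
        (fun U => Groth.Agent.Lib.helper16.QCohEpi.surjective_app_of_epi _ U.2) j₀ hgen₀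
      exact ⟨T, fun k => j k.1, _, Groth.Agent.Lib.helper28.SymAlg.j _, c,
        Groth.Agent.Lib.helper28.SymAlg.isSymAlg _, hc, hcf, fun _ => inferInstance⟩
    · obtain ⟨κ, j, π, hπ⟩ := hgen _ hBq
      have hq' : (∐ fun k : κ => E (j k)).IsQuasicoherent :=
        Groth.Agent.Lib.helper25.QCohCoprod.isQuasicoherent_coproduct X _ (fun k => hEq (j k))
      obtain ⟨c, hc, hcf⟩ := exists_closedImmersion f (∐ fun k : κ => E (j k)) _ π
        (fun U => Groth.Agent.Lib.helper16.QCohEpi.surjective_app_of_epi _ U.2) (𝟙 _)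
        (fun U => eq_top_iff.mpr fun b _ => Subring.subset_closure (Or.inr ⟨b, rfl⟩))
      exact ⟨κ, j, _, Groth.Agent.Lib.helper28.SymAlg.j _, c,
        Groth.Agent.Lib.helper28.SymAlg.isSymAlg _, hc, hcf, fun h => absurd h hft⟩
  · intro h M hM
    have : M.IsQuasicoherent := hM
    obtain ⟨κ, j, B, φ, c, hB, hc, hcπ, -⟩ :=
      h (Groth.Agent.Lib.helper28.SymAlg.symAlg M).spec (Groth.Agent.Lib.helper28.SymAlg.symAlg M).π
    have hq' : (∐ fun k : κ => E (j k)).IsQuasicoherent :=
      Groth.Agent.Lib.helper25.QCohCoprod.isQuasicoherent_coproduct X _ (fun k => hEq (j k))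
    exact ⟨κ, j, _,
      Groth.Agent.Lib.helper28.SymProj1Sh.epi_of_isClosedImmersion _ M B φ hB c hcπ⟩

end Groth.Agent.S13543
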