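import Groth.Statements.S13549
import Mathlib
import Groth.Agent.S13564
import Groth.Agent.Lib.Helper23.Binders2
import Groth.Agent.Lib.Helper23.Binders4
import Groth.Agent.Lib.Helper23.Binders5
import Groth.Agent.Lib.Helper13.PerfInd7
-- import your own Groth.Agent.* helpers here

set_option autoImplicit false
universe u
open CategoryTheory
attribute [local instance] HasDerivedCategory.standard
open Dual2

namespace Groth.Agent.S13549

/-- Let R → A and R → R' be ring maps and A' = A ⊗_R R', with A perfect as an R-module and A, R' tor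
independent over R (Tor_p^R(A, R') = 0 for p ≥ 1). The derived base-change functors − ⊗^L_R R' and −
⊗^L_A A' (left adjoint to restriction) and the trivial-duality functors R Hom(A, −) : D(R) ⥤ D(A), R
Hom(A', −) : D(R') ⥤ D(A') (right adjoint to restriction) are given as adjunction data. Then for
every K in D(R), and every proof that the comparison map (K|_R) ⊗^L_R R' → (K ⊗^L_A A')|_{R'} at R
Hom(A, K) is an isomorphism, the base-change map of trivial duality R Hom(A, K) ⊗^L_A A' → R Hom(A',
K ⊗^L_R R') is an isomorphism. -/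
theorem result (R A R' A' : Type u) [CommRing R] [CommRing A] [CommRing R'] [CommRing A']
    [Algebra R A] [Algebra R R'] [Algebra A A'] [Algebra R' A'] [Algebra R A'] [IsScalarTower R A A'] [IsScalarTower R R' A']
    [Algebra.IsPushout R A R' A']
    (hperf : DRing.IsPerfectModule R A)
    (htor : ∀ p : ℕ, 1 ≤ p → Subsingleton (DRing.Tor R p A R'))
    [DRing.HasLBaseChange (algebraMap R R')] [DRing.HasLBaseChange (algebraMap A A')]
    (adjρ : DRing.LBaseChange (algebraMap R R') ⊣ DRing.restrictD (algebraMap R R'))
    (adjα : DRing.LBaseChange (algebraMap A A') ⊣ DRing.restrictD (algebraMap A A'))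
    (h : (algebraMap A A').comp (algebraMap R A) = (algebraMap R' A').comp (algebraMap R R'))
    (Rφ : Dual.D R ⥤ Dual.D A) (adj : DRing.restrictD (algebraMap R A) ⊣ Rφ)
    (Rφ' : Dual.D R' ⥤ Dual.D A') (adj' : DRing.restrictD (algebraMap R' A') ⊣ Rφ')
    (K : Dual.D R) (hc : IsIso (TrivBC.cmp adjρ adjα h (Rφ.obj K))) :
    IsIso (TrivBC.bcMap adjρ adjα h adj adj' K hc) := by
  haveI : DTen.HasLTen R := Groth.Agent.Lib.helper23.Binders.hasLTen R
  haveI : DTen.HasLTen₃ R := Groth.Agent.Lib.helper23.Binders.hasLTen₃ R
  haveI : DTen.IsSymMonoidal R := Groth.Agent.Lib.helper23.Binders.isSymMonoidal R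
  haveI : DTen.HasRHom R := Groth.Agent.Lib.helper23.Binders.hasRHom R
  refine (Groth.Agent.S13564.result R A R' A' htor adjρ adjα h Rφ adj Rφ' adj' K hc).2 ?_
  exact Groth.Agent.Lib.helper13.PerfInd.isIso_evalTen_of_isPerfect_hom _ _ _
    (Groth.Agent.Lib.helper23.Binders.isPerfect_restrict_unit hperf)

end Groth.Agent.S13549
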