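import Groth.Statements.S1355
-- import your own Groth.Agent.* helpers here
import Groth.Agent.Lib.Helper9.GeomConnGen1
import Groth.Agent.Lib.Helper13.EL5

set_option linter.style.haveILetI false
set_option backward.isDefEq.respectTransparency false

set_option autoImplicit false
universe u
open FlatMor

namespace Groth.Agent.S1355

open AlgebraicGeometry CategoryTheory Limits in
/-- Let f : X → S and s a point of S. The fibre of f over s is geometrically connected if and only if
for every étale morphism U → S and every point u over s, the fibre over u of the base change of f to
U is connected. -/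
theorem result {X S : Scheme.{u}} (f : X ⟶ S) (s : S) :
    GeometricallyConnected (f.fiberToSpecResidueField s) ↔
      ∀ (U : Scheme.{u}) (g : U ⟶ S) (u : U), Etale g → g u = s → ConnectedSpace ↑((pullback.snd f g).fiber u) := by
  constructor
  · intro h U g u hg hu
    subst hu
    have sq := isPullback_fiberToSpecResidueField_of_isPullback (IsPullback.of_hasPullback f g) u
    exact h.geometrically_connectedSpace (K := U.residueField u) _ _ _ sq
  · intro H
    refine Groth.Agent.Lib.helper9.GeomConnGen.geometricallyConnected_of_forall_finite_separable
      (k := S.residueField s) (f.fiberToSpecResidueField s) ?_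
    intro K _ _ _ _
    obtain ⟨U, g, u, hu, hg, a, ha, hcomp⟩ :=
      Groth.Agent.Lib.helper13.EL.exists_etale_nbhd_residueField S s K
    have hconn := H U g u hg hu
    subst hu
    have sq := isPullback_fiberToSpecResidueField_of_isPullback (IsPullback.of_hasPullback f g) u
    rw [Scheme.residueFieldCongr_refl, Iso.refl_inv, Category.id_comp] at hcomp
    haveI : IsIso a := by
      rw [ConcreteCategory.isIso_iff_bijective]
      exact ha
    have hy : Spec.map (CommRingCat.ofHom (algebraMap (S.residueField (g u)) K)) =
        Spec.map a ≫ Spec.map (g.residueFieldMap u) := by
      rw [← Spec.map_comp, hcomp]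
    have sq2 : IsPullback
        (pullback.fst ((f.fiberToSpecResidueField (g u)))
          (Spec.map (CommRingCat.ofHom (algebraMap (S.residueField (g u)) K))))
        (pullback.snd ((f.fiberToSpecResidueField (g u)))
          (Spec.map (CommRingCat.ofHom (algebraMap (S.residueField (g u)) K))) ≫ Spec.map a)
        (f.fiberToSpecResidueField (g u)) (Spec.map (g.residueFieldMap u)) := by
      refine IsPullback.of_iso (IsPullback.of_hasPullback (f.fiberToSpecResidueField (g u))
          (Spec.map (CommRingCat.ofHom (algebraMap (S.residueField (g u)) K))))
        (Iso.refl _) (Iso.refl _) (asIso (Spec.map a)) (Iso.refl _) ?_ ?_ ?_ ?_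
      · simp
      · simp
      · simp
      · simp [hy]
    let e := sq2.isoIsPullback _ _ sq
    exact e.hom.homeomorph.symm.connectedSpace_iff.mp hconn

end Groth.Agent.S1355
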