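import Groth.Statements.S13550
import Mathlib
import Groth.Agent.S13564
import Groth.Agent.Lib.Helper23.Binders2
import Groth.Agent.Lib.Helper23.Binders4
import Groth.Agent.Lib.Helper23.Binders5
import Groth.Agent.Lib.Helper23.Binders6
-- import your own Groth.Agent.* helpers here

set_option autoImplicit false
universe u
open CategoryTheory
attribute [local instance] HasDerivedCategory.standard
open Dual2

namespace Groth.Agent.S13550

/-- Let R → A and R → R' be ring maps and A' = A ⊗_R R', with A pseudo-coherent as an R-module, R' of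
finite tor dimension as an R-module, and A, R' tor independent over R (Tor_p^R(A, R') = 0 for p ≥
1). The derived base-change functors − ⊗^L_R R' and − ⊗^L_A A' (left adjoint to restriction) and the
trivial-duality functors R Hom(A, −) : D(R) ⥤ D(A), R Hom(A', −) : D(R') ⥤ D(A') (right adjoint to
restriction) are given as adjunction data. Then for every K in D^+(R) (K in D^{≥ n} for some integer
n), and every proof that the comparison map (K|_R) ⊗^L_R R' → (K ⊗^L_A A')|_{R'} at R Hom(A, K) is
an isomorphism, the base-change map of trivial duality R Hom(A, K) ⊗^L_A A' → R Hom(A', K ⊗^L_R R')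
is an isomorphism. -/
theorem result (R A R' A' : Type u) [CommRing R] [CommRing A] [CommRing R'] [CommRing A']
    [Algebra R A] [Algebra R R'] [Algebra A A'] [Algebra R' A'] [Algebra R A'] [IsScalarTower R A A'] [IsScalarTower R R' A']
    [Algebra.IsPushout R A R' A']
    (hpc : DRing.IsPseudoCoherentModule' R A)
    (hfd : DRing.HasFiniteTorDim R R')
    (htor : ∀ p : ℕ, 1 ≤ p → Subsingleton (DRing.Tor R p A R'))
    [DRing.HasLBaseChange (algebraMap R R')] [DRing.HasLBaseChange (algebraMap A A')]
    (adjρ : DRing.LBaseChange (algebraMap R R') ⊣ DRing.restrictD (algebraMap R R'))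
    (adjα : DRing.LBaseChange (algebraMap A A') ⊣ DRing.restrictD (algebraMap A A'))
    (h : (algebraMap A A').comp (algebraMap R A) = (algebraMap R' A').comp (algebraMap R R'))
    (Rφ : Dual.D R ⥤ Dual.D A) (adj : DRing.restrictD (algebraMap R A) ⊣ Rφ)
    (Rφ' : Dual.D R' ⥤ Dual.D A') (adj' : DRing.restrictD (algebraMap R' A') ⊣ Rφ')
    (K : Dual.D R) (n : ℤ) [K.IsGE n] (hc : IsIso (TrivBC.cmp adjρ adjα h (Rφ.obj K))) :
    IsIso (TrivBC.bcMap adjρ adjα h adj adj' K hc) := by
  haveI : DTen.HasLTen R := Groth.Agent.Lib.helper23.Binders.hasLTen R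
  haveI : DTen.HasLTen₃ R := Groth.Agent.Lib.helper23.Binders.hasLTen₃ R
  haveI : DTen.IsSymMonoidal R := Groth.Agent.Lib.helper23.Binders.isSymMonoidal R
  haveI : DTen.HasRHom R := Groth.Agent.Lib.helper23.Binders.hasRHom R
  haveI : DTen.HasLBase (algebraMap R R') := Groth.Agent.Lib.helper13.RKF.hasLBase _
  refine (Groth.Agent.S13564.result R A R' A' htor adjρ adjα h Rφ adj Rφ' adj' K hc).2 ?_
  obtain ⟨m, hm⟩ := Groth.Agent.Lib.helper13.RhomBC.exists_isGE_LBase_of_hasFiniteTorDim R R' hfd
  refine Groth.Agent.Lib.helper23.Binders.isIso_evalTen_of_isPseudoCoherent _ (m : ℤ) ?_ K _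
    (Groth.Agent.Lib.helper23.Binders.isPseudoCoherent_restrict_unit hpc) n
  intro X r hX
  haveI := hm X r hX
  haveI : DerivedCategory.TStructure.t.IsGE
      ((DTen.LBase (algebraMap R R') ⋙ DRing.restrictD (algebraMap R R')).obj X) (r - ↑m) :=
    Groth.Agent.Lib.helper13.RhomBC.isGE_restrictD (algebraMap R R')
      ((DTen.LBase (algebraMap R R')).obj X) (r - m)
  haveI := Groth.Agent.Lib.helper23.TrD.isIso_projL_app (algebraMap R R') (DTen.baseAdj (algebraMap R R')) X
  exact DerivedCategory.TStructure.t.isGE_of_iso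
    (asIso ((Groth.Agent.Lib.helper23.TrD.projL (algebraMap R R') (DTen.baseAdj (algebraMap R R'))).app X)).symm _

end Groth.Agent.S13550
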