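import Groth.Statements.S13567
import Groth.Agent.Lib.Helper4.PointsBasic

set_option autoImplicit false
universe u
open CategoryTheory AlgebraicGeometry
open AlgSt

namespace Groth.Agent.S13567

/-- The base change of a universally injective morphism of algebraic stacks along any morphism of
algebraic stacks is universally injective: if every base change of `f : 𝒳 ⟶ 𝒴` to an algebraic stack
is injective on points, then the same holds for the projection `𝒵 ×_𝒴 𝒳 ⟶ 𝒵` for every morphism `g :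
𝒵 ⟶ 𝒴` of algebraic stacks. -/
theorem result {S : Scheme.{u}} {𝒳 𝒴 𝒵 : AlgSt.Cat S}
    (h𝒳 : AlgSt.IsAlgStack Scheme.fppfPrecoverage 𝒳) (h𝒴 : AlgSt.IsAlgStack Scheme.fppfPrecoverage 𝒴)
    (h𝒵 : AlgSt.IsAlgStack Scheme.fppfPrecoverage 𝒵)
    (f : 𝒳 ⥤ᵇ 𝒴) (g : 𝒵 ⥤ᵇ 𝒴) (hf : AlgSt.IsUnivInjective Scheme.fppfPrecoverage f) :
    AlgSt.IsUnivInjective Scheme.fppfPrecoverage (FibCat.fpFst g f) := by
  intro 𝒲 h𝒲 a
  have hE := Groth.Agent.Lib.helper4.FibPaste.pasteL_isEquivOver a g f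
  have hinj := (Groth.Agent.Lib.helper4.PointsBasic.map_bijective_of_isEquivOver _ hE).1
  have key := hf 𝒲 h𝒲 (BasedFunctor.comp a g)
  have hcomp : ∀ z, AlgSt.Points.map (FibCat.fpFst a (FibCat.fpFst g f)) z =
      AlgSt.Points.map (FibCat.fpFst (BasedFunctor.comp a g) f)
        (AlgSt.Points.map (Groth.Agent.Lib.helper4.FibPaste.pasteL a g f) z) := by
    intro z
    rw [← Groth.Agent.Lib.helper4.PointsBasic.map_comp]
    rfl
  intro z z' hzz
  rw [hcomp, hcomp] at hzz
  exact hinj (key hzz)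

end Groth.Agent.S13567
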