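import Groth.Statements.S4646
import Mathlib
import Groth.Agent.Lib.Helper3.ResFieldBC
import Groth.Agent.Lib.Helper3.FinGalois
import Groth.Agent.Lib.Helper3.IrrPreimage
import Groth.Agent.Lib.Helper3.IrrCompImage
import Groth.Agent.Lib.Helper3.GenericFibre
import Groth.Agent.Lib.Helper3.SepClosedIn

set_option autoImplicit false
open CategoryTheory AlgebraicGeometry
universe u
open FBase

namespace Groth.Agent.S4646

/-- Let X be a scheme over a field k having finitely many irreducible components, such that for the
generic point x of each irreducible component the separable algebraic closure of k in κ(x) has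
finite degree over k. Then there is a finite separable extension L of k such that all irreducible
components of X ⊗_k L are geometrically irreducible over L: for every extension field K of L and
every irreducible component Z' of X ⊗_k L, the inverse image of Z' in (X ⊗_k L) ⊗_L K is
irreducible. (No finite-type hypothesis on X.) -/
theorem result {k : Type u} [Field k] {X : Scheme.{u}}
    (f : X ⟶ Spec (CommRingCat.of k)) [Finite ↥(irreducibleComponents ↥X)]
    (hx : ∀ (Z : Set ↥X) (hZ : Z ∈ irreducibleComponents ↥X),
      FBase.ResidueFieldProp f hZ.1.genericPoint (fun K _ _ => FiniteDimensional k (separableClosure k K))) :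
    ∃ (L : Type u) (_ : Field L) (_ : Algebra k L), FiniteDimensional k L ∧ Algebra.IsSeparable k L ∧
      ∀ (K : Type u) [Field K] [Algebra L K] (Z' : Set ↥(FBase.bc f L)), Z' ∈ irreducibleComponents ↥(FBase.bc f L) →
        IsIrreducible (⇑(FBase.bcπ (FBase.bcStr f L) K) ⁻¹' Z') := by
  classical
  let ι := ↥(irreducibleComponents ↥X)
  have hx' : ∀ i : ι, ∃ φ : k →+* X.residueField i.2.1.genericPoint,
      Spec.map (CommRingCat.ofHom φ) = X.fromSpecResidueField i.2.1.genericPoint ≫ f ∧
      (letI := φ.toAlgebra; FiniteDimensional k (separableClosure k (X.residueField i.2.1.genericPoint))) :=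
    fun i => hx i.1 i.2
  choose φ hφ hfin using hx'
  obtain ⟨L, instL, algL, hL1, hL2, hL3⟩ := @Groth.Agent.Lib.helper3.FinGalois.exists_finite_galois k _ ι _
    (fun i => ↥(@separableClosure k (X.residueField i.2.1.genericPoint) _ _ (φ i).toAlgebra))
    (fun i => inferInstance)
    (fun i => by letI := (φ i).toAlgebra; exact inferInstance)
    (fun i => hfin i)
    (fun i => by letI := (φ i).toAlgebra; exact inferInstance)
  refine ⟨L, instL, algL, hL1, inferInstance, ?_⟩
  intro K _ _ Z' hZ'
  change Z' ∈ irreducibleComponents ↥(Limits.pullback f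
    (Spec.map (CommRingCat.ofHom (algebraMap k L)))) at hZ'
  change IsIrreducible (⇑(Limits.pullback.fst (Limits.pullback.snd f
    (Spec.map (CommRingCat.ofHom (algebraMap k L))))
    (Spec.map (CommRingCat.ofHom (algebraMap L K)))) ⁻¹' Z')
  obtain ⟨ξ', hξ'⟩ := QuasiSober.sober hZ'.1 (isClosed_of_mem_irreducibleComponents _ hZ')
  apply Groth.Agent.Lib.helper3.IrrPreimage.isIrreducible_preimage_of_singleton
    (Groth.Agent.Lib.helper3.IrrPreimage.generalizingMap_fst (Limits.pullback.snd f
      (Spec.map (CommRingCat.ofHom (algebraMap k L)))) K) hξ'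
  -- the `L`-algebra structure on `κ(ξ')`
  let ψ : L →+* (Limits.pullback f
      (Spec.map (CommRingCat.ofHom (algebraMap k L)))).residueField ξ' :=
    (Spec.preimage ((Limits.pullback f
      (Spec.map (CommRingCat.ofHom (algebraMap k L)))).fromSpecResidueField ξ' ≫
        Limits.pullback.snd f (Spec.map (CommRingCat.ofHom (algebraMap k L))))).hom
  have hψ : Spec.map (CommRingCat.ofHom ψ) =
      (Limits.pullback f (Spec.map (CommRingCat.ofHom (algebraMap k L)))).fromSpecResidueField ξ' ≫
        Limits.pullback.snd f (Spec.map (CommRingCat.ofHom (algebraMap k L))) :=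
    Spec.map_preimage _
  rw [Groth.Agent.Lib.helper3.GenericFibre.isIrreducible_preimage_singleton_iff
    (Limits.pullback.snd f (Spec.map (CommRingCat.ofHom (algebraMap k L)))) ξ' ψ hψ K]
  letI : Algebra L ((Limits.pullback f
      (Spec.map (CommRingCat.ofHom (algebraMap k L)))).residueField ξ') := ψ.toAlgebra
  -- the component of `X` under `Z'`
  have hZ : (Limits.pullback.fst f (Spec.map (CommRingCat.ofHom (algebraMap k L)))) '' Z' ∈
      irreducibleComponents ↥X :=
    Groth.Agent.Lib.helper3.IrrCompImage.image_mem_irreducibleComponents f L hZ'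
  let i : ι := ⟨_, hZ⟩
  have hgen1 : IsGenericPoint ((Limits.pullback.fst f
      (Spec.map (CommRingCat.ofHom (algebraMap k L)))) ξ') i.1 := by
    have := Groth.Agent.Lib.helper3.IrrCompImage.image_eq_closure f L hZ' hξ'
    exact this.symm
  have hgen2 : IsGenericPoint i.2.1.genericPoint i.1 :=
    i.2.1.isGenericPoint_genericPoint (isClosed_of_mem_irreducibleComponents _ i.2)
  have hpt : (Limits.pullback.fst f (Spec.map (CommRingCat.ofHom (algebraMap k L)))) ξ' =
      i.2.1.genericPoint := hgen1.eq hgen2
  letI : Algebra k (X.residueField i.2.1.genericPoint) := (φ i).toAlgebra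
  have hsc : separableClosure L ((Limits.pullback f
      (Spec.map (CommRingCat.ofHom (algebraMap k L)))).residueField ξ') = ⊥ :=
    Groth.Agent.Lib.helper3.ResFieldBC.separableClosure_residueField_eq_bot f i.2.1.genericPoint L
      (hφ i).symm (hL3 i).some ξ' hpt hψ.symm
  exact Groth.Agent.Lib.helper3.SepClosedIn.geomIrr_of_separableClosure_eq_bot hsc K

end Groth.Agent.S4646
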