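import Groth.Statements.S1654
import Mathlib
import Groth.Agent.Lib.Helper3.FibreFinite
import Groth.Agent.Lib.Helper3.GeomIrrSub
import Groth.Agent.Lib.Helper3.ResMap
import Groth.Agent.S4646

set_option autoImplicit false
universe u
open CategoryTheory CategoryTheory.Limits AlgebraicGeometry
open Variety

namespace Groth.Agent.S1654

/-- Let X be a k-scheme locally of finite type, having only finitely many irreducible components. There
is then a finite separable extension k' of k such that every irreducible component of X_{k'}, with
its reduced induced structure, is geometrically irreducible over k'. -/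
theorem result (k : Type u) [Field k] (X : Scheme.{u}) [X.Over (Spec (CommRingCat.of k))] [LocallyOfFiniteType (X ↘ (Spec (CommRingCat.of k)))]
    (hirr : (irreducibleComponents (X : Type u)).Finite) :
    ∃ (k' : Type u) (_ : Field k') (_ : Algebra k k'), FiniteDimensional k k' ∧ Algebra.IsSeparable k k' ∧
      ∀ (T : Set (Curv2.bc k X k')) (hT : T ∈ irreducibleComponents (Curv2.bc k X k' : Type u)),
        GeometricallyIrreducible
          ((Scheme.IdealSheafData.vanishingIdeal ⟨T, isClosed_of_mem_irreducibleComponents T hT⟩).subschemeι ≫
            Curv2.bcSnd k X k') := by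
  have hfinI : Finite ↥(irreducibleComponents ↥X) := hirr.to_subtype
  have hx : ∀ (Z : Set ↥X) (hZ : Z ∈ irreducibleComponents ↥X),
      FBase.ResidueFieldProp (X ↘ Spec (CommRingCat.of k)) hZ.1.genericPoint
        (fun K _ _ => FiniteDimensional k (separableClosure k K)) := by
    intro Z hZ
    refine ⟨Curv2.resMap k X hZ.1.genericPoint,
      Groth.Agent.Lib.helper3.ResMap.specMap_resMap k X hZ.1.genericPoint, ?_⟩
    letI : Algebra k (X.residueField hZ.1.genericPoint) :=
      (Curv2.resMap k X hZ.1.genericPoint).toAlgebra
    have hgen : IsGenericPoint hZ.1.genericPoint Z :=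
      hZ.1.isGenericPoint_genericPoint (isClosed_of_mem_irreducibleComponents _ hZ)
    have hfin : Finite (PrimeSpectrum
        (TensorProduct k (X.residueField hZ.1.genericPoint) (AlgebraicClosure k))) :=
      Groth.Agent.Lib.helper3.FibreFinite.finite_primeSpectrum (X ↘ Spec (CommRingCat.of k))
        hZ.1.genericPoint (AlgebraicClosure k)
        (Groth.Agent.Lib.helper3.ResMap.specMap_resMap k X hZ.1.genericPoint).symm hZ hgen
    exact Groth.Agent.Lib.helper3.SepClosureFinite.finiteDimensional_separableClosure
  obtain ⟨L, instL, algL, hL1, hL2, hL3⟩ :=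
    Groth.Agent.S4646.result (X ↘ Spec (CommRingCat.of k)) hx
  refine ⟨L, instL, algL, hL1, hL2, ?_⟩
  intro T hT
  apply Groth.Agent.Lib.helper3.GeomIrrSub.geometricallyIrreducible_subschemeι
  intro K _ _
  exact hL3 K T hT

end Groth.Agent.S1654
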