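import Groth.Statements.S1357
-- import your own Groth.Agent.* helpers here
import Groth.Agent.Lib.Helper9.GenFibEt5
import Groth.Agent.Lib.Helper9.GenFibEt6
import Groth.Agent.S1654

set_option linter.style.haveILetI false
set_option backward.isDefEq.respectTransparency false

set_option autoImplicit false
universe u
open FlatMor

namespace Groth.Agent.S1357

open AlgebraicGeometry CategoryTheory Limits in
/-- Let f be of finite type with irreducible target Y. Then there are a nonempty open V of Y and a
surjective finite étale morphism g from an irreducible affine scheme Y' to V such that, for the base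
change f' of f to Y', every irreducible component of the generic fibre of f' (with its reduced
induced structure) is geometrically irreducible over the residue field of the generic point of Y'. -/
theorem result {X Y : Scheme.{u}} (f : X ⟶ Y) [IrreducibleSpace ↑Y] [LocallyOfFiniteType f] [QuasiCompact f] :
    ∃ (V : Y.Opens) (Y' : Scheme.{u}) (g : Y' ⟶ (V : Scheme.{u})) (hY' : IrreducibleSpace ↑Y'), (V : Set ↑Y).Nonempty ∧ IsAffine Y' ∧ Surjective g ∧ IsFinite g ∧ Etale g ∧
      ∀ (Z : Set ↑((pullback.snd f (g ≫ V.ι)).fiber (genericPoint ↑Y'))) (hZ : Z ∈ irreducibleComponents ↑((pullback.snd f (g ≫ V.ι)).fiber (genericPoint ↑Y'))),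
        GeometricallyIrreducible ((Scheme.IdealSheafData.vanishingIdeal (⟨Z, isClosed_of_mem_irreducibleComponents Z hZ⟩ : TopologicalSpace.Closeds _)).subschemeι ≫
          (pullback.snd f (g ≫ V.ι)).fiberToSpecResidueField (genericPoint ↑Y')) := by
  have hlft : LocallyOfFiniteType (f.fiberToSpecResidueField (genericPoint Y)) :=
    MorphismProperty.pullback_snd (P := @LocallyOfFiniteType) _ _ inferInstance
  have hqc : QuasiCompact (f.fiberToSpecResidueField (genericPoint Y)) :=
    MorphismProperty.pullback_snd (P := @QuasiCompact) _ _ inferInstance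
  letI : (f.fiber (genericPoint Y)).Over (Spec (CommRingCat.of (Y.residueField (genericPoint Y)))) :=
    ⟨f.fiberToSpecResidueField (genericPoint Y)⟩
  haveI : LocallyOfFiniteType ((f.fiber (genericPoint Y)) ↘
      Spec (CommRingCat.of (Y.residueField (genericPoint Y)))) :=
    hlft
  have hirr : (irreducibleComponents (f.fiber (genericPoint Y))).Finite := by
    haveI : IsLocallyNoetherian (f.fiber (genericPoint Y)) :=
      LocallyOfFiniteType.isLocallyNoetherian (f.fiberToSpecResidueField (genericPoint Y))
    haveI : IsNoetherian (f.fiber (genericPoint Y)) := { }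
    exact finite_irreducibleComponents_of_isNoetherian
  obtain ⟨k', _, _, hfd, hsep, H⟩ :=
    Groth.Agent.S1654.result (Y.residueField (genericPoint Y)) (f.fiber (genericPoint Y)) hirr
  obtain ⟨V, Y', g, hY', hne, haff, hsurj, hfin, het, hs, a, ha, hcomp⟩ :=
    Groth.Agent.Lib.helper9.GenFibEt.exists_finite_etale_cover Y k'
  refine ⟨V, Y', g, hY', hne, haff, hsurj, hfin, het, ?_⟩
  exact Groth.Agent.Lib.helper9.GenFibEt.components_geomIrr_of_baseChange f (g ≫ V.ι)
    (genericPoint Y') (genericPoint Y) hs k' a ha hcomp H

end Groth.Agent.S1357
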