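import Groth.Statements.S13575
import Mathlib
import Groth.Agent.Lib.Helper4.QuotSt1

set_option autoImplicit false
universe u
open CategoryTheory AlgebraicGeometry MonoidalCategory
open AlgSt

namespace Groth.Agent.S13575

set_option backward.isDefEq.respectTransparency false
set_option backward.isDefEq.respectTransparency.types false
set_option linter.unusedSimpArgs false
set_option linter.unusedSectionVars false

open CartesianMonoidalCategory MonObj GrpObj Groth.Agent.Lib.helper4.QuotSt1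
  Groth.Agent.Lib.helper4.DiagBC Groth.Agent.FibEquiv Groth.Agent.S12838 in
section
variable {S : Scheme.{u}} (G : Over S) [GrpObj G] (X : Over S) (aX : AlgGrp.Action G X)

/-- the action map as functor `G × X ⟶ X` -/
noncomputable abbrev fa : ofSp ((AlgSp.yon S).obj (G ⊗ X)) ⥤ᵇ ofSch X :=
  AlgSt.ofSpMap ((AlgSp.yon S).map aX.act)

/-- the projection as functor `G × X ⟶ X` -/
noncomputable abbrev fb : ofSp ((AlgSp.yon S).obj (G ⊗ X)) ⥤ᵇ ofSch X :=
  AlgSt.ofSpMap ((AlgSp.yon S).map (snd G X))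

noncomputable abbrev Qm : ofSch X ⥤ᵇ QuotSt Scheme.fppfPrecoverage G aX :=
  AlgSt.quotMap Scheme.fppfPrecoverage G aX

theorem fa_sec (w : (ofSp ((AlgSp.yon S).obj (G ⊗ X))).obj) :
    ((fa G X aX).obj w).sec.down = w.sec.down ≫ aX.act := rfl

theorem fb_sec (w : (ofSp ((AlgSp.yon S).obj (G ⊗ X))).obj) :
    ((fb G X).obj w).sec.down = w.sec.down ≫ snd G X := rfl

theorem hg_aux (w : (ofSp ((AlgSp.yon S).obj (G ⊗ X))).obj) :
    lift (w.sec.down ≫ fst G X) (𝟙 w.base ≫ ((fb G X).obj w).sec.down) ≫ aX.act =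
      ((fa G X aX).obj w).sec.down := by
  rw [fa_sec, fb_sec, Category.id_comp, ← comp_lift, lift_fst_snd, Category.comp_id]

/-- the component of the 2-isomorphism: right multiplication by the group component -/
noncomputable def eHom (w : (ofSp ((AlgSp.yon S).obj (G ⊗ X))).obj) :
    (Qm G X aX).obj ((fa G X aX).obj w) ⟶ (Qm G X aX).obj ((fb G X).obj w) :=
  rmulHom aX ((fa G X aX).obj w) ((fb G X).obj w) (𝟙 w.base) (w.sec.down ≫ fst G X) (hg_aux G X aX w)

theorem eHom_top (w : (ofSp ((AlgSp.yon S).obj (G ⊗ X))).obj) :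
    (eHom G X aX w).top = lift (fst G w.base * (snd G w.base ≫ w.sec.down ≫ fst G X))
      (snd G w.base ≫ 𝟙 w.base) := rfl

theorem eHom_base (w : (ofSp ((AlgSp.yon S).obj (G ⊗ X))).obj) :
    (eHom G X aX w).base = 𝟙 w.base := rfl

instance (w : (ofSp ((AlgSp.yon S).obj (G ⊗ X))).obj) : IsIso (eHom G X aX w) := by
  have : IsIso (eHom G X aX w).base := by
    rw [eHom_base]
    exact (inferInstance : IsIso (𝟙 w.base))
  exact isIso_of_isIso_base _

theorem eHom_naturality {w' w : (ofSp ((AlgSp.yon S).obj (G ⊗ X))).obj} (ψ : w' ⟶ w) :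
    (Qm G X aX).map ((fa G X aX).map ψ) ≫ eHom G X aX w =
      eHom G X aX w' ≫ (Qm G X aX).map ((fb G X).map ψ) := by
  have hψ : ψ.hom ≫ w.sec.down = w'.sec.down := congrArg ULift.down ψ.map_sec
  apply QuotObj.hom_ext
  · rw [QuotObj.comp_base, QuotObj.comp_base, eHom_base, eHom_base, quotMap_map_base,
      quotMap_map_base]
    change ψ.hom ≫ 𝟙 _ = 𝟙 _ ≫ ψ.hom
    rw [Category.comp_id, Category.id_comp]
  · rw [QuotObj.comp_top, QuotObj.comp_top, eHom_top, eHom_top, quotMap_map_top, quotMap_map_top]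
    change (G ◁ ψ.hom) ≫ _ = _ ≫ (G ◁ ψ.hom)
    rw [whisker_rmul, rmul_whisker, ← hψ]
    simp only [Category.assoc, Category.comp_id, Category.id_comp]

/-- the 2-isomorphism -/
noncomputable def eIso : BasedFunctor.comp (fa G X aX) (Qm G X aX) ≅
    BasedFunctor.comp (fb G X) (Qm G X aX) :=
  BasedNatIso.mkNatIso
    (NatIso.ofComponents (fun w => asIso (eHom G X aX w)) (fun ψ => eHom_naturality G X aX ψ))
    (fun w => by
      change (QuotSt Scheme.fppfPrecoverage G aX).p.IsHomLift (𝟙 w.base) (eHom G X aX w)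
      exact IsHomLift.of_fac' _ _ _ rfl rfl (by
        change (eHom G X aX w).base = _
        rw [eHom_base]
        simp
        rfl))

theorem eIso_app_hom (w : (ofSp ((AlgSp.yon S).obj (G ⊗ X))).obj) :
    ((FibCat.fpLift (fa G X aX) (fb G X) (eIso G X aX)).obj w).obj.iso.hom = eHom G X aX w := rfl

instance : (FibCat.fpLift (fa G X aX) (fb G X) (eIso G X aX)).toFunctor.Faithful where
  map_injective {a b} m m' h := by
    apply Stk.EltObj.hom_ext
    have h1 := congrArg (fun k => k.hom.fst.hom) h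
    exact h1

theorem full_aux {w' w : (ofSp ((AlgSp.yon S).obj (G ⊗ X))).obj} (h1 h2 : w'.base ⟶ w.base)
    (hs2 : h2 ≫ w.sec.down ≫ snd G X = w'.sec.down ≫ snd G X)
    (hb : h1 ≫ 𝟙 w.base = 𝟙 w'.base ≫ h2)
    (ht : (G ◁ h1) ≫ lift (fst G w.base * (snd G w.base ≫ w.sec.down ≫ fst G X))
        (snd G w.base ≫ 𝟙 w.base) =
      lift (fst G w'.base * (snd G w'.base ≫ w'.sec.down ≫ fst G X)) (snd G w'.base ≫ 𝟙 w'.base) ≫
        (G ◁ h2)) :
    h1 = h2 ∧ h1 ≫ w.sec.down = w'.sec.down := by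
  have e1 : h1 = h2 := by simpa using hb
  subst e1
  rw [whisker_rmul, rmul_whisker] at ht
  have e3 : h1 ≫ w.sec.down ≫ fst G X = w'.sec.down ≫ fst G X := rmul_elt_eq _ _ _ _ ht
  refine ⟨rfl, ?_⟩
  apply CartesianMonoidalCategory.hom_ext
  · simpa using e3
  · simpa using hs2

instance : (FibCat.fpLift (fa G X aX) (fb G X) (eIso G X aX)).toFunctor.Full where
  map_surjective {w' w} n := by
    have hw : (Qm G X aX).map n.hom.fst ≫ eHom G X aX w =
        eHom G X aX w' ≫ (Qm G X aX).map n.hom.snd := n.hom.w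
    obtain ⟨e1, e5⟩ := full_aux G X (w' := w') (w := w) n.hom.fst.hom n.hom.snd.hom
      (congrArg ULift.down n.hom.snd.map_sec) (congrArg (fun k => k.base) hw)
      (congrArg (fun k => k.top) hw)
    refine ⟨⟨n.hom.fst.hom, congrArg ULift.up e5⟩, ?_⟩
    apply fp_hom_ext
    · apply Stk.EltObj.hom_ext
      rfl
    · apply Stk.EltObj.hom_ext
      exact e1

theorem ess_surj (z : (FibCat.fp (Qm G X aX) (Qm G X aX)).obj) :
    ∃ (ξ : (ofSp ((AlgSp.yon S).obj (G ⊗ X))).obj)
      (e : (FibCat.fpLift (fa G X aX) (fb G X) (eIso G X aX)).toFunctor.obj ξ ≅ z),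
      (FibCat.fp (Qm G X aX) (Qm G X aX)).p.IsHomLift
        (𝟙 ((FibCat.fp (Qm G X aX) (Qm G X aX)).p.obj z)) e.hom := by
  obtain ⟨⟨x, x', iso⟩, hprop⟩ := z
  obtain ⟨T, ⟨s⟩⟩ := x
  obtain ⟨T', ⟨s'⟩⟩ := x'
  have hprop' : (QuotSt Scheme.fppfPrecoverage G aX).p.IsHomLift (𝟙 T) iso.hom := hprop
  have hT : T' = T := IsHomLift.codomain_eq (QuotSt Scheme.fppfPrecoverage G aX).p (𝟙 T) iso.hom
  subst hT
  have hbase : iso.hom.base = 𝟙 T' := by
    exact IsHomLift.fac' (QuotSt Scheme.fppfPrecoverage G aX).p (𝟙 T') iso.hom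
  obtain ⟨g, hg1, hg2⟩ := exists_rmul (K := Scheme.fppfPrecoverage) (aX := aX)
    (⟨T', ⟨s⟩⟩ : (ofSch X).obj) ⟨T', ⟨s'⟩⟩ iso.hom
  rw [hbase] at hg1 hg2
  have hg1' : lift g s' ≫ aX.act = s := by simpa using hg1
  let ξ : (ofSp ((AlgSp.yon S).obj (G ⊗ X))).obj := ⟨T', ⟨lift g s'⟩⟩
  let i1 : ((fa G X aX).obj ξ) ≅ (⟨T', ⟨s⟩⟩ : (ofSch X).obj) :=
    { hom := ⟨𝟙 T', by
        change ULift.up (𝟙 T' ≫ s) = ULift.up (lift g s' ≫ aX.act)
        rw [Category.id_comp, hg1']⟩
      inv := ⟨𝟙 T', by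
        change ULift.up (𝟙 T' ≫ lift g s' ≫ aX.act) = ULift.up s
        rw [Category.id_comp, hg1']⟩
      hom_inv_id := by apply Stk.EltObj.hom_ext; change 𝟙 T' ≫ 𝟙 T' = 𝟙 T'; simp
      inv_hom_id := by apply Stk.EltObj.hom_ext; change 𝟙 T' ≫ 𝟙 T' = 𝟙 T'; simp }
  let i2 : ((fb G X).obj ξ) ≅ (⟨T', ⟨s'⟩⟩ : (ofSch X).obj) :=
    { hom := ⟨𝟙 T', by
        change ULift.up (𝟙 T' ≫ s') = ULift.up (lift g s' ≫ snd G X)
        rw [Category.id_comp, lift_snd]⟩
      inv := ⟨𝟙 T', by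
        change ULift.up (𝟙 T' ≫ lift g s' ≫ snd G X) = ULift.up s'
        rw [Category.id_comp, lift_snd]⟩
      hom_inv_id := by apply Stk.EltObj.hom_ext; change 𝟙 T' ≫ 𝟙 T' = 𝟙 T'; simp
      inv_hom_id := by apply Stk.EltObj.hom_ext; change 𝟙 T' ≫ 𝟙 T' = 𝟙 T'; simp }
  refine ⟨ξ, fpIsoMk (Qm G X aX) (Qm G X aX) i1 i2 ?_, ?_⟩
  · change (Qm G X aX).map i1.hom ≫ iso.hom = eHom G X aX ξ ≫ (Qm G X aX).map i2.hom
    apply QuotObj.hom_ext
    · rw [QuotObj.comp_base, QuotObj.comp_base, eHom_base, quotMap_map_base, quotMap_map_base, hbase]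
    · rw [QuotObj.comp_top, QuotObj.comp_top, eHom_top, quotMap_map_top, quotMap_map_top, hg2]
      change (G ◁ 𝟙 T') ≫ lift (fst G T' * (snd G T' ≫ g)) (snd G T' ≫ 𝟙 T') =
        lift (fst G T' * (snd G T' ≫ lift g s' ≫ fst G X)) (snd G T' ≫ 𝟙 T') ≫ (G ◁ 𝟙 T')
      rw [whisker_rmul, rmul_whisker, lift_fst]
      simp only [Category.id_comp, Category.comp_id]
  · apply Groth.Agent.FibFp.lift_to
    change (ofSch X).p.IsHomLift (𝟙 T') i1.hom
    exact IsHomLift.of_fac' _ _ _ rfl rfl (by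
      change 𝟙 T' = _
      simp
      rfl)

end

/-- For a group action: let a group scheme `G` over `S` act on a scheme `X` over `S` and let `π : X ⟶
[X/G]` be the canonical morphism to the quotient stack. Then the square with vertices `G ×_S X`,
`X`, `X`, `[X/G]`, whose sides are the action and the projection `G ×_S X ⟶ X` followed by `π`, is
2-cartesian for some 2-isomorphism `π ∘ a ≅ π ∘ pr₂`: the induced functor from `G ×_S X` to the
2-fibre product `X ×_{[X/G]} X` is an equivalence over `(Sch/S)`. Existence of the 2-isomorphism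
only; the canonical one is right multiplication by the group element. (The published statement is
for a groupoid in algebraic spaces; this row is the action groupoid of a group scheme, with torsors
given as schemes.) -/
theorem result {S : Scheme.{u}} (G : Over S) [GrpObj G]
    (X : Over S) (aX : AlgGrp.Action G X) :
    ∃ e : BasedFunctor.comp (AlgSt.ofSpMap ((AlgSp.yon S).map aX.act)) (AlgSt.quotMap Scheme.fppfPrecoverage G aX) ≅
        BasedFunctor.comp (AlgSt.ofSpMap ((AlgSp.yon S).map (CartesianMonoidalCategory.snd G X)))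
          (AlgSt.quotMap Scheme.fppfPrecoverage G aX),
      FibCat.IsTwoCartOver (AlgSt.ofSpMap ((AlgSp.yon S).map aX.act))
        (AlgSt.ofSpMap ((AlgSp.yon S).map (CartesianMonoidalCategory.snd G X))) e := by
  refine ⟨eIso G X aX, ?_⟩
  exact Groth.Agent.FibEquiv.isEquivOver_of _ (ess_surj G X aX)

end Groth.Agent.S13575
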