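import Groth.Statements.S13580
import Mathlib
import Groth.Agent.Lib.Helper21.QuotRestr
import Groth.Agent.Lib.Helper21.DerivedComm
import Groth.Agent.Lib.Helper21.ModGroth
import Groth.Agent.Lib.Helper21.ExtZeroHom
import Groth.Agent.Lib.Helper27.ExtAdj
-- import your own Groth.Agent.* helpers here

set_option autoImplicit false
universe w' w u
open CategoryTheory CategoryTheory.Limits
open ExtSupp

namespace Groth.Agent.S13580

/-- Let `U`, `V` be objects of a ringed site which together cover it, with `V` subterminal (every object
has at most one morphism to `V`, so that `V` is an open of the topos and the closed complement `Z`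
of `U` is contained in it), and let `M`, `N` be sheaves of modules. Then `Ext^i_Z(M, N)` computed on
the whole site is isomorphic to `Ext^i_{Z}(V; M|_V, N|_V)`, the Ext group with supports computed on
the localised site over `V` with support the complement of `U × V ⟶ V`. Existence of an isomorphism
of groups in each degree only. (The published statement is for a ringed space, where every open set
is subterminal, a locally closed `Z` and an isomorphism of cohomological functors; this row is the
closed case on a ringed site, degree by degree, with the subterminality of `V` made an explicit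
hypothesis. Without the covering hypothesis the statement fails, e.g. for `V = U`; without the
subterminality of `V` it fails already in degree `0`, because restricting to the localised site over
an object that receives two different morphisms from one object can enlarge the group of sections.) -/
theorem result {C : Type u} [SmallCategory C] [HasBinaryProducts C]
    {J : GrothendieckTopology C} {O : Sheaf J CommRingCat.{u}} [HasExt.{w} (ModSite.Mod O)]
    (U V : C) [HasExt.{w'} (ModSite.Mod (O.over V))]
    (hV : ∀ X : C, Subsingleton (X ⟶ V)) (hUV : J.CoversTop (fun b : Bool => cond b U V)) (M N : ModSite.Mod O)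
    (i : ℕ) :
    Nonempty (ExtSupp.ExtZ U M N i ≃+ ExtSupp.ExtZover V (Over.mk (prod.snd : U ⨯ V ⟶ V)) M N i) := by
  haveI : EnoughInjectives (ModSite.Mod O) :=
    Groth.Agent.Lib.Helper21.ModGroth.enoughInjectives_mod (ModSite.ringSh O)
  haveI : (ModSite.restr O V).Additive := ⟨rfl⟩
  haveI : PreservesFiniteLimits (ModSite.restr O V) := inferInstance
  haveI : PreservesFiniteColimits (ModSite.restr O V) :=
    Groth.Agent.Lib.helper21.QuotRestr.preservesFiniteColimits_restr O V
  haveI : (ModSite.restr O V).PreservesHomology := inferInstance
  haveI : PreservesFiniteLimits (ModSite.extZero O V) :=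
    Groth.Agent.Lib.Helper21.ExtZeroS.preservesFiniteLimits_extZero O V
  haveI : PreservesFiniteColimits (ModSite.extZero O V) := by
    haveI : PreservesColimitsOfSize.{0, 0} (ModSite.extZero O V) :=
      (ModSite.extZeroAdj O V).leftAdjoint_preservesColimits
    infer_instance
  have hN : ∀ i : ℕ, 0 < i → IsZero (((ModSite.restr O V).rightDerived i).obj N) := by
    intro i hi
    obtain ⟨j, rfl⟩ : ∃ j, i = j + 1 := ⟨i - 1, by omega⟩
    exact Groth.Agent.Lib.Helper21.DerivedComm.isZero_rightDerived_of_exact _ j N
  let Q : ModSite.Mod O := (ModSite.quotOn O U).obj M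
  let A : ModSite.Mod (O.over V) :=
    (ModSite.quotOn (O.over V) (Over.mk (prod.snd : U ⨯ V ⟶ V))).obj ((ModSite.restr O V).obj M)
  let εQ := (ModSite.extZeroAdj O V).counit.app Q
  haveI : Mono εQ := Groth.Agent.Lib.helper21.SubTerm.mono_extZeroAdj_counit O hV Q
  haveI : Epi εQ := Groth.Agent.Lib.helper21.QuotRestr.epi_counit_of_coversTop O U V hUV Q
    (Groth.Agent.Lib.helper21.QuotRestr.isNullOn_quotOn' O U M)
  haveI : IsIso εQ := isIso_of_mono_of_epi _
  let c : (ModSite.extZero O V).obj A ≅ Q :=
    (ModSite.extZero O V).mapIso (Groth.Agent.Lib.helper21.QuotRestr.dIso O U V M) ≪≫ asIso εQ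
  exact ⟨(Groth.Agent.Lib.helper27.ExtAdj.extIsoLeft c.symm N i).trans
    (Groth.Agent.Lib.helper27.ExtAdj.extAddEquiv (ModSite.extZeroAdj O V) A N hN i).symm⟩

end Groth.Agent.S13580
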