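import Groth.Statements.S13586
import Mathlib
import Groth.Agent.Lib.Helper21.SuppZ3
import Groth.Agent.Lib.Helper27.PshSS
-- import your own Groth.Agent.* helpers here

set_option autoImplicit false
universe u
open CategoryTheory CategoryTheory.Limits
open ExtSupp

namespace Groth.Agent.S13586

/-- On a ringed site, for an object `U` with closed complement `Z` and sheaves of modules `M`, `N`,
there is a bounded `E_2` spectral sequence of abelian groups with `E_2^{p,q}` isomorphic to
`H^p_Z(ℰxt^q_O(M, N))` for `p, q ≥ 0` and zero otherwise, together with abutment data whose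
filtrations are finite on `Ext^n_Z(M, N)` (`n ≥ 0`; zero for `n < 0`). The `E_2` identifications and
the abutment isomorphisms are asserted to exist only and are not pinned to the canonical maps, so
edge maps are not part of this statement; the internal hom out of `M`, the right adjoint of
restriction to `U` and injective resolutions of sheaves of modules are assumed to exist. (The
published statement, on a ringed topos and likewise on a ringed space, is functorial in `M`, `N` and
in an object `X` of the topos; this row is the case of the final object.) -/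
theorem result {C : Type u} [SmallCategory C]
    {J : GrothendieckTopology C} {O : Sheaf J CommRingCat.{u}} [HasExt.{u} (ModSite.Mod O)]
    (U : C) [ModSite.HasPushOver O U] (M N : ModSite.Mod O) [ModSite.HasSheafHom M]
    [HasInjectiveResolutions (ModSite.Mod O)] :
    ∃ (E : E₂CohomologicalSpectralSequence AddCommGrpCat.{u})
      (a : SpSeq.Abutment E (fun n : ℤ =>
        if 0 ≤ n then AddCommGrpCat.of (ExtSupp.ExtZ U M N n.toNat) else AddCommGrpCat.of PUnit.{u + 1})),
      (∀ n, a.IsFinite n) ∧ SpSeq.IsBounded E ∧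
      ∀ p q : ℤ, Nonempty ((E.page 2 le_rfl).X (p, q) ≅
        (if 0 ≤ p ∧ 0 ≤ q then AddCommGrpCat.of (ModSite.HZ U ((ModSite.extSh M q.toNat).obj N) p.toNat)
         else AddCommGrpCat.of PUnit.{u + 1})) := by
  classical
  haveI hlim2 : PreservesFiniteLimits (ModSite.sheafHom M) := by
    haveI := (ModSite.sheafHomAdj M).rightAdjoint_preservesLimits
    exact PreservesLimitsOfSize.preservesFiniteLimits.{u, u} _
  let T : ModSite.Mod O ⥤ ModSite.Mod O := ModSite.sheafHom M
  let S : ModSite.Mod O ⥤ AddCommGrpCat.{u} :=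
    preadditiveCoyoneda.obj (Opposite.op ((ModSite.quotOn O U).obj (ModSite.unit O)))
  haveI : PreservesFiniteLimits (T ⋙ S) := comp_preservesFiniteLimits _ _
  refine Groth.Agent.Lib.helper27.SSGroth.grothendieck_ss_nat T S ?_ N
    (fun n => AddCommGrpCat.of (ExtSupp.ExtZ U M N n)) ?_
    (fun p q => AddCommGrpCat.of (ModSite.HZ U ((ModSite.extSh M q).obj N) p)) ?_ _ _
    (AddCommGrpCat.isZero_of_subsingleton _) (AddCommGrpCat.isZero_of_subsingleton _)
  · intro Q hQ q hq
    obtain ⟨j, rfl⟩ : ∃ j, q = j + 1 := ⟨q - 1, by omega⟩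
    haveI := hQ
    obtain ⟨e2⟩ := Groth.Agent.Lib.helper27.ExtCoy.rightDerived_iso_ext S
      ((ModSite.quotOn O U).obj (ModSite.unit O)) (Iso.refl _) (j + 1) (T.obj Q)
    refine IsZero.of_iso ?_ e2.symm
    have : Subsingleton (Abelian.Ext.{u} ((ModSite.quotOn O U).obj (ModSite.unit O))
        ((ModSite.sheafHom M).obj Q) (j + 1)) :=
      subsingleton_of_forall_eq 0 fun x =>
        Groth.Agent.Lib.helper21.HomAcyc.ext_flat_sheafHom_eq_zero M Q j _
          (Groth.Agent.Lib.helper21.SuppAdj.isFlat_quotOn_unit O U) x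
    exact AddCommGrpCat.isZero_of_subsingleton
      (AddCommGrpCat.of (Abelian.Ext.{u} ((ModSite.quotOn O U).obj (ModSite.unit O))
        ((ModSite.sheafHom M).obj Q) (j + 1)))
  · intro k
    exact Groth.Agent.Lib.helper27.ExtCoy.rightDerived_iso_ext (T ⋙ S)
      ((ModSite.quotOn O U).obj M)
      (Groth.Agent.Lib.helper21.SuppAdj.coyQuotIso' U M) k N
  · intro k l
    obtain ⟨e1⟩ := Groth.Agent.Lib.helper21.SuppZ.ext_quotOn_iso_HZ U
      ((ModSite.extSh M l).obj N) k
    obtain ⟨e2⟩ := Groth.Agent.Lib.helper27.ExtCoy.rightDerived_iso_ext S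
      ((ModSite.quotOn O U).obj (ModSite.unit O)) (Iso.refl _) k ((ModSite.extSh M l).obj N)
    exact ⟨e1.symm ≪≫ e2⟩

end Groth.Agent.S13586
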