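import Groth.Statements.S13587
import Mathlib
import Groth.Agent.Lib.Helper21.SuppTensor2
import Groth.Agent.Lib.Helper27.PshSS
-- import your own Groth.Agent.* helpers here

set_option autoImplicit false
universe u
open CategoryTheory CategoryTheory.Limits
open ExtSupp

namespace Groth.Agent.S13587

/-- On a ringed site, for an object `U` with closed complement `Z` and sheaves of modules `M`, `N`,
there is a bounded `E_2` spectral sequence of abelian groups with `E_2^{p,q}` isomorphic to
`H^p(ℰxt^q_{O,Z}(M, N))` (cohomology of the site) for `p, q ≥ 0` and zero otherwise, together with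
abutment data whose filtrations are finite on `Ext^n_Z(M, N)` (`n ≥ 0`; zero for `n < 0`). The `E_2`
identifications and the abutment isomorphisms are asserted to exist only and are not pinned to the
canonical maps, so edge maps are not part of this statement; the internal hom out of `M`, the right
adjoint of restriction to `U` and injective resolutions of sheaves of modules are assumed to exist.
(The published statement, on a ringed topos and likewise on a ringed space, is functorial in `M`,
`N` and in an object `X` of the topos; this row is the case of the final object.) -/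
theorem result {C : Type u} [SmallCategory C]
    {J : GrothendieckTopology C} {O : Sheaf J CommRingCat.{u}} [HasExt.{u} (ModSite.Mod O)]
    (U : C) [ModSite.HasPushOver O U] (M N : ModSite.Mod O) [ModSite.HasSheafHom M]
    [HasInjectiveResolutions (ModSite.Mod O)] :
    ∃ (E : E₂CohomologicalSpectralSequence AddCommGrpCat.{u})
      (a : SpSeq.Abutment E (fun n : ℤ =>
        if 0 ≤ n then AddCommGrpCat.of (ExtSupp.ExtZ U M N n.toNat) else AddCommGrpCat.of PUnit.{u + 1})),
      (∀ n, a.IsFinite n) ∧ SpSeq.IsBounded E ∧
      ∀ p q : ℤ, Nonempty ((E.page 2 le_rfl).X (p, q) ≅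
        (if 0 ≤ p ∧ 0 ≤ q then AddCommGrpCat.of (ModSite.HC O ((ModSite.extZSh U M q.toNat).obj N) p.toNat)
         else AddCommGrpCat.of PUnit.{u + 1})) := by
  classical
  haveI hlim : PreservesFiniteLimits (ModSite.sectOn O U) := by
    haveI := (Groth.Agent.Lib.helper21.SuppAdj.adj O U).rightAdjoint_preservesLimits
    exact PreservesLimitsOfSize.preservesFiniteLimits.{u, u} _
  haveI hlim2 : PreservesFiniteLimits (ModSite.sheafHom M) := by
    haveI := (ModSite.sheafHomAdj M).rightAdjoint_preservesLimits
    exact PreservesLimitsOfSize.preservesFiniteLimits.{u, u} _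
  let T : ModSite.Mod O ⥤ ModSite.Mod O := ModSite.sheafHom M ⋙ ModSite.sectOn O U
  let S : ModSite.Mod O ⥤ AddCommGrpCat.{u} := Groth.Agent.Lib.helper21.HomAcyc.Γ
  haveI : PreservesFiniteLimits T := comp_preservesFiniteLimits _ _
  haveI : PreservesFiniteLimits (T ⋙ S) := comp_preservesFiniteLimits _ _
  refine Groth.Agent.Lib.helper27.SSGroth.grothendieck_ss_nat T S ?_ N
    (fun n => AddCommGrpCat.of (ExtSupp.ExtZ U M N n)) ?_
    (fun p q => AddCommGrpCat.of (ModSite.HC O ((ModSite.extZSh U M q).obj N) p)) ?_ _ _
    (AddCommGrpCat.isZero_of_subsingleton _) (AddCommGrpCat.isZero_of_subsingleton _)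
  · intro Q hQ q hq
    obtain ⟨j, rfl⟩ : ∃ j, q = j + 1 := ⟨q - 1, by omega⟩
    haveI := hQ
    haveI : Injective ((ModSite.sectOn O U).obj Q) :=
      Groth.Agent.Lib.helper21.SuppAdj.injective_sectOn O U Q
    let Y' := (ModSite.sheafHom M).obj ((ModSite.sectOn O U).obj Q)
    have eY : T.obj Q ≅ Y' := (Groth.Agent.Lib.helper21.SuppAdj.sectHomIso O U M).symm.app Q
    obtain ⟨e2⟩ := Groth.Agent.Lib.helper27.ExtCoy.rightDerived_iso_ext S (ModSite.unit O)
      (Iso.refl _) (j + 1) Y'
    refine IsZero.of_iso ?_ ((S.rightDerived (j + 1)).mapIso eY ≪≫ e2.symm)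
    have : Subsingleton (Abelian.Ext.{u} (ModSite.unit O) Y' (j + 1)) :=
      subsingleton_of_forall_eq 0 fun x =>
        Groth.Agent.Lib.helper21.HomAcyc.ext_flat_sheafHom_eq_zero M _ j _
          (Groth.Agent.Lib.helper21.HomAcyc.isFlat_unit O) x
    exact AddCommGrpCat.isZero_of_subsingleton
      (AddCommGrpCat.of (Abelian.Ext.{u} (ModSite.unit O) Y' (j + 1)))
  · intro k
    exact Groth.Agent.Lib.helper27.ExtCoy.rightDerived_iso_ext (T ⋙ S)
      ((ModSite.quotOn O U).obj M)
      (Groth.Agent.Lib.helper21.SuppAdj.coyQuotIso U M ≪≫ (Functor.associator _ _ _).symm) k N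
  · intro k l
    exact Groth.Agent.Lib.helper21.HomAcyc.rightDerived_Γ_iso ((ModSite.extZSh U M l).obj N) k

end Groth.Agent.S13587
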