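import Groth.Statements.S13588
import Mathlib
import Groth.Agent.Lib.Helper21.SuppAdj2
import Groth.Agent.Lib.Helper27.PshSS
-- import your own Groth.Agent.* helpers here

set_option autoImplicit false
universe u
open CategoryTheory CategoryTheory.Limits
open ExtSupp

namespace Groth.Agent.S13588

/-- On a ringed site, for an object `U` with closed complement `Z` and sheaves of modules `M`, `N`,
there is a bounded `E_2` spectral sequence of abelian groups with `E_2^{p,q}` isomorphic to
`Ext^p_O(M, ℋ^q_Z(N))` for `p, q ≥ 0` and zero otherwise, together with abutment data whose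
filtrations are finite on `Ext^n_Z(M, N)` (`n ≥ 0`; zero for `n < 0`). The `E_2` identifications and
the abutment isomorphisms are asserted to exist only and are not pinned to the canonical maps, so
edge maps are not part of this statement; the internal hom out of `M`, the right adjoint of
restriction to `U` and injective resolutions of sheaves of modules are assumed to exist. (The
published statement, on a ringed topos and likewise on a ringed space, is functorial in `M`, `N` and
in an object `X` of the topos; this row is the case of the final object.) -/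
theorem result {C : Type u} [SmallCategory C]
    {J : GrothendieckTopology C} {O : Sheaf J CommRingCat.{u}} [HasExt.{u} (ModSite.Mod O)]
    (U : C) [ModSite.HasPushOver O U] (M N : ModSite.Mod O) [ModSite.HasSheafHom M]
    [HasInjectiveResolutions (ModSite.Mod O)] :
    ∃ (E : E₂CohomologicalSpectralSequence AddCommGrpCat.{u})
      (a : SpSeq.Abutment E (fun n : ℤ =>
        if 0 ≤ n then AddCommGrpCat.of (ExtSupp.ExtZ U M N n.toNat) else AddCommGrpCat.of PUnit.{u + 1})),
      (∀ n, a.IsFinite n) ∧ SpSeq.IsBounded E ∧
      ∀ p q : ℤ, Nonempty ((E.page 2 le_rfl).X (p, q) ≅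
        (if 0 ≤ p ∧ 0 ≤ q then AddCommGrpCat.of (Abelian.Ext.{u} M ((ModSite.HZsh O U q.toNat).obj N) p.toNat)
         else AddCommGrpCat.of PUnit.{u + 1})) := by
  classical
  haveI hadd : (ModSite.quotOn O U).Additive :=
    (Groth.Agent.Lib.helper21.SuppAdj.adj O U).left_adjoint_additive
  haveI hlim : PreservesFiniteLimits (ModSite.sectOn O U) := by
    haveI := (Groth.Agent.Lib.helper21.SuppAdj.adj O U).rightAdjoint_preservesLimits
    exact PreservesLimitsOfSize.preservesFiniteLimits.{u, u} _
  let T := ModSite.sectOn O U
  let S : ModSite.Mod O ⥤ AddCommGrpCat.{u} := preadditiveCoyoneda.obj (Opposite.op M)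
  haveI : PreservesFiniteLimits (T ⋙ S) := comp_preservesFiniteLimits _ _
  refine Groth.Agent.Lib.helper27.SSGroth.grothendieck_ss_nat T S ?_ N
    (fun n => AddCommGrpCat.of (ExtSupp.ExtZ U M N n)) ?_
    (fun p q => AddCommGrpCat.of (Abelian.Ext.{u} M ((ModSite.HZsh O U q).obj N) p)) ?_ _ _
    (AddCommGrpCat.isZero_of_subsingleton _) (AddCommGrpCat.isZero_of_subsingleton _)
  · intro Q hQ q hq
    obtain ⟨j, rfl⟩ : ∃ j, q = j + 1 := ⟨q - 1, by omega⟩
    obtain ⟨e2⟩ := Groth.Agent.Lib.helper27.ExtCoy.rightDerived_iso_ext S M (Iso.refl _) (j + 1)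
      (T.obj Q)
    refine IsZero.of_iso ?_ e2.symm
    haveI := hQ
    haveI : Injective (T.obj Q) := Groth.Agent.Lib.helper21.SuppAdj.injective_sectOn O U Q
    have : Subsingleton (Abelian.Ext.{u} M (T.obj Q) (j + 1)) :=
      subsingleton_of_forall_eq 0 fun x => Abelian.Ext.eq_zero_of_injective x
    exact AddCommGrpCat.isZero_of_subsingleton
      (AddCommGrpCat.of (Abelian.Ext.{u} M (T.obj Q) (j + 1)))
  · intro k
    exact Groth.Agent.Lib.helper27.ExtCoy.rightDerived_iso_ext (T ⋙ S)
      ((ModSite.quotOn O U).obj M)
      (Groth.Agent.Lib.helper27.ExtCoy.adjCoyIso (Groth.Agent.Lib.helper21.SuppAdj.adj O U) M).symm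
      k N
  · intro k l
    exact Groth.Agent.Lib.helper27.ExtCoy.rightDerived_iso_ext S M (Iso.refl _) k _

end Groth.Agent.S13588
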