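import Groth.Statements.S1359
import Mathlib
import Groth.Agent.Lib.Helper18.InfNbhdSmooth

set_option autoImplicit false
universe u
open FlatMor

namespace Groth.Agent.S1359

open Groth.Agent.Lib.Helper18.InfNbhd

open AlgebraicGeometry CategoryTheory Limits in
/-- Let S be locally Noetherian, f : X → S of finite type, and Z the closed subscheme of S cut out by an
ideal sheaf I, with infinitesimal neighbourhoods cut out by the powers of I. If the base change of f
to every infinitesimal neighbourhood is smooth, then every point of X lying over Z is in the smooth
locus of f. -/
theorem result {X S : Scheme.{u}} (f : X ⟶ S) [IsLocallyNoetherian S] [LocallyOfFinitePresentation f] [QuasiCompact f]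
    (I : S.IdealSheafData) (h : ∀ n : ℕ, Smooth (pullback.snd f (I ^ (n + 1)).subschemeι)) (x : X) (hx : f x ∈ I.support) :
    x ∈ f.smoothLocus := by
  exact formallySmooth_stalk_of_smooth_infinitesimal f I h x hx

end Groth.Agent.S1359
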