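import Groth.Statements.S13599
import Mathlib
import Groth.Agent.Lib.Helper15.NormalBC

set_option autoImplicit false
set_option linter.style.haveILetI false
universe u
open CategoryTheory AlgebraicGeometry
open CategoryTheory.Limits
open Cyc

namespace Groth.Agent.S13599

open Groth.Agent.Lib.helper15.NormalBC Groth.Agent.Lib.helper15.TensLen
  Groth.Agent.Lib.helper17.FibreStalk

/-- Let k be a field, X a separated k-scheme of finite type, and k' a finite normal extension field of
k, with G the group of k-automorphisms of k'; put X' = X ×_k Spec k' with first projection p. The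
group G acts on X' over X (σ acts through Spec σ on the second factor). If Z' is a cycle on X' (an
integer-valued function on the points of X' with locally finite support) invariant under every σ ∈
G, then there is exactly one cycle Z on X with [k' : k]_insep · Z' = p^*Z, where [k' : k]_insep is
the inseparable degree and p^*Z is the flat pullback of cycles along p: its coefficient at x' is Z(p
x') times the length of the Artinian local ring O_{X',x'}/𝔪_{p x'}O_{X',x'} (p has discrete fibres,
so there is no dimension condition; the two auxiliary dimension functions are taken to be zero). -/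
theorem result
    {k : Type u} [Field k] {k' : Type u} [Field k'] [Algebra k k'] [FiniteDimensional k k'] [Normal k k']
    {X : Scheme.{u}} (f : X ⟶ Spec (CommRingCat.of k)) [LocallyOfFiniteType f] [QuasiCompact f]
    [IsSeparated f]
    (Z' : AlgebraicCycle (pullback f (Spec.map (CommRingCat.ofHom (algebraMap k k')))) ℤ)
    (hZ' : ∀ (σ : k' ≃ₐ[k] k')
      (t : pullback f (Spec.map (CommRingCat.ofHom (algebraMap k k'))) ⟶
        pullback f (Spec.map (CommRingCat.ofHom (algebraMap k k')))),
      t ≫ pullback.fst f _ = pullback.fst f _ →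
      t ≫ pullback.snd f _ = pullback.snd f _ ≫ Spec.map (CommRingCat.ofHom σ.toAlgHom.toRingHom) →
      ∀ x', Z' (t.base x') = Z' x') :
    ∃! Z : AlgebraicCycle X ℤ, ∀ x' : ↥(pullback f (Spec.map (CommRingCat.ofHom (algebraMap k k')))),
      (Field.finInsepDegree k k' : ℤ) * Z' x' =
        Cyc.pullFun (pullback.fst f (Spec.map (CommRingCat.ofHom (algebraMap k k'))))
          (fun _ => 0) (fun _ => 0) 0 ⇑Z x' := by
  classical
  have hc : IsPullback (pullback.fst f (Spec.map (CommRingCat.ofHom (algebraMap k k'))))
      (pullback.snd f (Spec.map (CommRingCat.ofHom (algebraMap k k')))) f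
      (Spec.map (CommRingCat.ofHom (algebraMap k k'))) := IsPullback.of_hasPullback _ _
  have hsurj := surjective_of_isPullback (algebraMap k k') hc
  have halg : (algebraMap k k').toAlgebra = ‹Algebra k k'› := Algebra.algebra_ext _ _ (fun r => rfl)
  -- lengths of the closed fibre rings
  have hlen : ∀ x' : ↥(pullback f (Spec.map (CommRingCat.ofHom (algebraMap k k')))),
      ∃ a : ℕ, Module.length ((pullback f (Spec.map (CommRingCat.ofHom
        (algebraMap k k')))).presheaf.stalk x')
        (FibRing (pullback.fst f (Spec.map (CommRingCat.ofHom (algebraMap k k')))) x') = (a : ℕ∞) ∧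
        a ∣ Field.finInsepDegree k k' := by
    intro x'
    have := length_fibRing_dvd (algebraMap k k') (by rw [halg]; infer_instance) hc x'
    rw [halg] at this
    exact this
  choose a ha hadvd using hlen
  have hd0 : Field.finInsepDegree k k' ≠ 0 := by
    have : 0 < Field.finInsepDegree k k' := Module.finrank_pos
    omega
  have ha0 : ∀ x', a x' ≠ 0 := by
    intro x' h0
    have := hadvd x'
    rw [h0, zero_dvd_iff] at this
    exact hd0 this
  -- invariance along the fibres
  have hinv : ∀ x₁ x₂ : ↥(pullback f (Spec.map (CommRingCat.ofHom (algebraMap k k')))),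
      pullback.fst f (Spec.map (CommRingCat.ofHom (algebraMap k k'))) x₁ =
        pullback.fst f (Spec.map (CommRingCat.ofHom (algebraMap k k'))) x₂ →
      Z' x₁ = Z' x₂ ∧ a x₁ = a x₂ := by
    intro x₁ x₂ h
    obtain ⟨σ, hσ⟩ := exists_aut_of_fst_eq f x₁ x₂ h
    constructor
    · rw [← hσ]
      exact (hZ' σ (tAut f σ) (tAut_fst f σ) (tAut_snd f σ) x₁).symm
    · obtain ⟨e⟩ := nonempty_fibRing_equiv_of_isIso (tAut f σ)
        (pullback.fst f (Spec.map (CommRingCat.ofHom (algebraMap k k'))))
        (pullback.fst f (Spec.map (CommRingCat.ofHom (algebraMap k k')))) (tAut_fst f σ) x₁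
      have h1 := ha x₁
      have h2 := ha (tAut f σ x₁)
      rw [Module.length_eq_of_surjective
        (R := FibRing (pullback.fst f (Spec.map (CommRingCat.ofHom (algebraMap k k')))) x₁)
        (M := FibRing (pullback.fst f (Spec.map (CommRingCat.ofHom (algebraMap k k')))) x₁)
        Ideal.Quotient.mk_surjective] at h1
      rw [Module.length_eq_of_surjective
        (R := FibRing (pullback.fst f (Spec.map (CommRingCat.ofHom (algebraMap k k'))))
          (tAut f σ x₁))
        (M := FibRing (pullback.fst f (Spec.map (CommRingCat.ofHom (algebraMap k k'))))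
          (tAut f σ x₁))
        Ideal.Quotient.mk_surjective] at h2
      rw [length_self_ringEquiv e, h1] at h2
      rw [← hσ]
      exact_mod_cast h2
  -- finiteness of the support
  have hfin : (Function.support Z').Finite := by
    have := LocallyFiniteSupport.finite_inter_support_of_isCompact
      (Function.locallyFinsupp.locallyFiniteSupport Z') (CompactSpace.isCompact_univ)
    simpa using this
  set s := Function.surjInv hsurj with hsdef
  have hs : ∀ x, pullback.fst f (Spec.map (CommRingCat.ofHom (algebraMap k k'))) (s x) = x :=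
    Function.surjInv_eq hsurj
  set Zf : X → ℤ := fun x => ((Field.finInsepDegree k k' / a (s x) : ℕ) : ℤ) * Z' (s x) with hZf
  have hZsupp : (Function.support Zf).Finite := by
    refine (hfin.image (pullback.fst f (Spec.map (CommRingCat.ofHom (algebraMap k k'))))).subset ?_
    intro x hx
    refine ⟨s x, ?_, hs x⟩
    intro h0
    apply hx
    have h0' : Z' (s x) = 0 := h0
    simp only [hZf, h0', mul_zero]
  let Z : AlgebraicCycle X ℤ :=
    ⟨Zf, by simp, fun z _ => ⟨Set.univ, Filter.univ_mem, by simpa using hZsupp⟩⟩
  have hpull : ∀ (W : AlgebraicCycle X ℤ)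
      (x' : ↥(pullback f (Spec.map (CommRingCat.ofHom (algebraMap k k'))))),
      Cyc.pullFun (pullback.fst f (Spec.map (CommRingCat.ofHom (algebraMap k k'))))
        (fun _ => 0) (fun _ => 0) 0 ⇑W x' =
      W (pullback.fst f (Spec.map (CommRingCat.ofHom (algebraMap k k'))) x') * (a x' : ℤ) := by
    intro W x'
    unfold Cyc.pullFun
    rw [if_pos (by simp)]
    have hl := ha x'
    unfold Groth.Agent.Lib.helper17.FibreStalk.FibRing at hl
    rw [hl]
    simp
  refine ⟨Z, ?_, ?_⟩
  · intro x'
    rw [hpull Z x']
    change _ = Zf _ * _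
    obtain ⟨h1, h2⟩ := hinv (s (pullback.fst f (Spec.map (CommRingCat.ofHom
      (algebraMap k k'))) x')) x' (hs _)
    simp only [hZf]
    rw [h1, h2]
    obtain ⟨c, hc'⟩ := hadvd x'
    rw [hc', Nat.mul_div_cancel_left c (Nat.pos_of_ne_zero (ha0 x'))]
    push_cast
    ring
  · intro W hW
    apply DFunLike.ext
    intro x
    have e1 := hW (s x)
    have e2 : (Field.finInsepDegree k k' : ℤ) * Z' (s x) = Zf x * (a (s x) : ℤ) := by
      simp only [hZf]
      obtain ⟨c, hc'⟩ := hadvd (s x)
      rw [hc', Nat.mul_div_cancel_left c (Nat.pos_of_ne_zero (ha0 (s x)))]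
      push_cast
      ring
    rw [hpull W (s x), hs x, e2] at e1
    have ha' : (a (s x) : ℤ) ≠ 0 := by exact_mod_cast ha0 (s x)
    exact (mul_right_cancel₀ ha' e1).symm

end Groth.Agent.S13599
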