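import Groth.Statements.S1360
import Mathlib
import Groth.Agent.Lib.Helper18.InfNbhdSmooth

set_option autoImplicit false
universe u
open FlatMor

namespace Groth.Agent.S1360

open Groth.Agent.Lib.Helper18.InfNbhd Groth.Agent.Lib.Helper18.RelSmoothFiber
  Groth.Agent.Lib.Helper18.PullbackStalk H18Stalk

open AlgebraicGeometry CategoryTheory Limits in
/-- Let S be locally Noetherian, f : X → S of finite type, and Z the closed subscheme of S cut out by an
ideal sheaf I. If the base change of f to every infinitesimal neighbourhood of Z is étale, then
every point of X over Z has an open neighbourhood on which f is étale. -/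
theorem result {X S : Scheme.{u}} (f : X ⟶ S) [IsLocallyNoetherian S] [LocallyOfFinitePresentation f] [QuasiCompact f]
    (I : S.IdealSheafData) (h : ∀ n : ℕ, Etale (pullback.snd f (I ^ (n + 1)).subschemeι)) (x : X) (hx : f x ∈ I.support) :
    ∃ U : X.Opens, x ∈ U ∧ Etale (U.ι ≫ f) := by
  rw [exists_etale_nhd_iff_smooth_unram]
  refine ⟨formallySmooth_stalk_of_smooth_infinitesimal f I
    (fun n => by have := h n; infer_instance) x hx, ?_⟩
  have hfib : Etale (pullback.snd f (S.fromSpecResidueField (f x))) :=
    fiber_of_subscheme @Etale f I (h 0) (f x) hx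
  have H := IsPullback.of_hasPullback f (S.fromSpecResidueField (f x))
  have h3 : pullback.fst f (S.fromSpecResidueField (f x)) (f.asFiber x) = x := f.fiberι_asFiber x
  have h1 := FormallyUnramified.stalkMap (pullback.snd f (S.fromSpecResidueField (f x)))
    (f.asFiber x)
  have h2 := (unram_stalk_iff_of_isPullback H (f.asFiber x)).mp h1
  rwa [h3] at h2

end Groth.Agent.S1360
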