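import Groth.Statements.S13603
import Mathlib
-- import your own Groth.Agent.* helpers here

set_option autoImplicit false
universe u v
open CAlg

namespace Groth.Agent.S13603

/-- Let a group G act on a commutative ring B by ring automorphisms so that every element of B has a
finite orbit, and let S ⊆ B be a multiplicative set of G-fixed elements (so each g ∈ G induces an
endomorphism of the localization S⁻¹B; the hypothesis that g maps S into S is implied by the
previous one and is only carried to name that endomorphism). Then an element of S⁻¹B is fixed by all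
of G if and only if it is a fraction b/s with b fixed by G and s ∈ S: the canonical map S⁻¹(B^G) →
(S⁻¹B)^G is onto. -/
theorem result {B : Type u} [CommRing B]
    {G : Type v} [Group G] [MulSemiringAction G B] (hfin : ∀ b : B, (MulAction.orbit G b).Finite)
    (S : Submonoid B) (hS : ∀ (g : G) (s : B), s ∈ S → g • s = s)
    (hS' : ∀ g : G, S ≤ S.comap (MulSemiringAction.toRingHom G B g)) (x : Localization S) :
    (∀ g : G, IsLocalization.map (Localization S) (MulSemiringAction.toRingHom G B g) (hS' g) x = x) ↔
      ∃ (b : B) (s : S), (∀ g : G, g • b = b) ∧ x = IsLocalization.mk' (Localization S) b s := by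
  classical
  have hmap : ∀ (g : G) (b : B) (s : S),
      IsLocalization.map (Localization S) (MulSemiringAction.toRingHom G B g) (hS' g)
        (IsLocalization.mk' (Localization S) b s) = IsLocalization.mk' (Localization S) (g • b) s := by
    intro g b s
    rw [IsLocalization.map_mk']
    congr 1
    exact Subtype.ext (hS g s s.2)
  constructor
  · intro hx
    obtain ⟨b, s, rfl⟩ := IsLocalization.exists_mk'_eq S x
    have key : ∀ b' : B, ∃ t : B, t ∈ S ∧ (b' ∈ MulAction.orbit G b → t * b' = t * b) := by
      intro b'
      by_cases hb' : b' ∈ MulAction.orbit G b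
      · obtain ⟨g, rfl⟩ := hb'
        have h1 := hx g
        rw [hmap, IsLocalization.eq] at h1
        obtain ⟨c, hc⟩ := h1
        refine ⟨c * s, S.mul_mem c.2 s.2, fun _ => ?_⟩
        simpa [mul_assoc] using hc
      · exact ⟨1, S.one_mem, fun h => absurd h hb'⟩
    choose t htS ht using key
    set O : Finset B := (hfin b).toFinset with hO
    set T : B := ∏ b' ∈ O, t b' with hT
    have hTS : T ∈ S := Submonoid.prod_mem _ fun b' _ => htS b'
    have hTb : ∀ b' ∈ MulAction.orbit G b, T * b' = T * b := by
      intro b' hb'
      have hmem : b' ∈ O := by rw [hO, Set.Finite.mem_toFinset]; exact hb'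
      obtain ⟨c, hc⟩ := Finset.dvd_prod_of_mem t hmem
      rw [← hT] at hc
      rw [hc, mul_comm (t b') c, mul_assoc, mul_assoc, ht b' hb']
    refine ⟨T * b, ⟨T, hTS⟩ * s, ?_, ?_⟩
    · intro g
      rw [smul_mul', hS g T hTS]
      exact hTb _ ⟨g, rfl⟩
    · rw [IsLocalization.mk'_eq_iff_eq]
      congr 1
      simp only [Submonoid.coe_mul]
      ring
  · rintro ⟨b, s, hb, rfl⟩ g
    rw [hmap, hb]

end Groth.Agent.S13603
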