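import Groth.Statements.S13608
import Mathlib

set_option autoImplicit false
universe u v
open CAlg

namespace Groth.Agent.S13608


section
variable {A : Type u} [CommRing A] (I : Ideal A)

lemma smodEq_map {N N' : Type*} [AddCommGroup N] [Module A N] [AddCommGroup N'] [Module A N']
    (g : N →ₗ[A] N') {x y : N} {n : ℕ}
    (h : x ≡ y [SMOD (I ^ n • ⊤ : Submodule A N)]) :
    g x ≡ g y [SMOD (I ^ n • ⊤ : Submodule A N')] := by
  refine (h.map g).mono ?_
  rw [Submodule.map_smul'']
  exact Submodule.smul_mono le_rfl le_top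

lemma isAdicComplete_of_retract {N N' : Type*} [AddCommGroup N] [Module A N] [AddCommGroup N']
    [Module A N'] [IsAdicComplete I N'] (ι : N →ₗ[A] N') (ρ : N' →ₗ[A] N)
    (h : ∀ x, ρ (ι x) = x) : IsAdicComplete I N := by
  have h1 : IsHausdorff I N := ⟨fun x hx => by
    have h0 : ι x = 0 := IsHausdorff.haus' (I := I) (ι x) (fun n => by
      simpa using smodEq_map I ι (hx n))
    rw [← h x, h0, map_zero]⟩
  have h2 : IsPrecomplete I N := ⟨fun f hf => by
    obtain ⟨y, hy⟩ := IsPrecomplete.prec' (I := I) (fun n => ι (f n))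
      (fun {m n} hmn => smodEq_map I ι (hf hmn))
    refine ⟨ρ y, fun n => ?_⟩
    have h3 := smodEq_map I ρ (hy n)
    simpa [h] using h3⟩
  exact { toIsHausdorff := h1, toIsPrecomplete := h2 }

end


/-- Let A be a commutative ring, I a finitely generated ideal of A and (M_n) an inverse system of
A-modules with transition maps f_n : M_(n+1) → M_n such that I^(n+1) M_n = 0 for every n. If L is an
inverse limit of the system (projections π_n compatible with the f_n, jointly injective, and such
that every compatible family of elements lifts to L), then L is complete and separated for the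
I-adic topology. No surjectivity of the transition maps is assumed. -/
theorem result
    (A : Type u) [CommRing A] (I : Ideal A) (hI : I.FG)
    (M : ℕ → Type v) [∀ n, AddCommGroup (M n)] [∀ n, Module A (M n)]
    (f : ∀ n, M (n + 1) →ₗ[A] M n)
    (hkill : ∀ n, I ^ (n + 1) • (⊤ : Submodule A (M n)) = ⊥)
    (L : Type v) [AddCommGroup L] [Module A L] (π : ∀ n, L →ₗ[A] M n)
    (hπ : ∀ n, f n ∘ₗ π (n + 1) = π n)
    (hinj : ∀ x : L, (∀ n, π n x = 0) → x = 0)
    (hlift : ∀ y : (∀ n, M n), (∀ n, f n (y (n + 1)) = y n) → ∃ x : L, ∀ n, π n x = y n) :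
    IsAdicComplete I L := by
  classical
  have : IsAdicComplete I (AdicCompletion I L) := AdicCompletion.isAdicComplete hI
  let Pi : L →ₗ[A] (∀ n, M n) := LinearMap.pi π
  have hPi_inj : Function.Injective Pi := by
    rw [← LinearMap.ker_eq_bot, LinearMap.ker_eq_bot']
    intro x hx
    apply hinj
    intro n
    exact congrFun hx n
  have hle : ∀ n, (I ^ (n + 1) • ⊤ : Submodule A L) ≤ LinearMap.ker (π n) := by
    intro n
    rw [Submodule.smul_le]
    intro a ha x _
    rw [LinearMap.mem_ker, map_smul]
    have h1 : a • π n x ∈ I ^ (n + 1) • (⊤ : Submodule A (M n)) :=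
      Submodule.smul_mem_smul ha trivial
    rw [hkill n] at h1
    exact (Submodule.mem_bot A).mp h1
  let μn : ∀ n, AdicCompletion I L →ₗ[A] M n := fun n =>
    (Submodule.liftQ _ (π n) (hle n)) ∘ₗ (AdicCompletion.eval I L (n + 1))
  let μ : AdicCompletion I L →ₗ[A] (∀ n, M n) := LinearMap.pi μn
  have hμ_range : ∀ y, μ y ∈ LinearMap.range Pi := by
    intro y
    have hcompat : ∀ n, f n (μ y (n + 1)) = μ y n := by
      intro n
      have h1 := AdicCompletion.transitionMap_comp_eval_apply (I := I) (M := L)
        (Nat.le_succ (n + 1)) y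
      obtain ⟨w, hw⟩ := Submodule.mkQ_surjective _ (y.val (n + 1 + 1))
      show f n (Submodule.liftQ _ (π (n + 1)) (hle (n + 1)) (y.val (n + 1 + 1))) =
        Submodule.liftQ _ (π n) (hle n) (y.val (n + 1))
      rw [← h1, ← hw]
      show f n (π (n + 1) w) = π n w
      rw [← hπ n]
      rfl
    obtain ⟨x, hx⟩ := hlift (μ y) hcompat
    exact ⟨x, funext hx⟩
  let e := LinearEquiv.ofInjective Pi hPi_inj
  let ρ : AdicCompletion I L →ₗ[A] L :=
    e.symm.toLinearMap ∘ₗ (μ.codRestrict (LinearMap.range Pi) hμ_range)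
  refine isAdicComplete_of_retract I (AdicCompletion.of I L) ρ ?_
  intro x
  apply hPi_inj
  have h1 : Pi (ρ (AdicCompletion.of I L x)) = μ (AdicCompletion.of I L x) := by
    show ((e (e.symm ⟨μ _, _⟩) : LinearMap.range Pi) : ∀ n, M n) = _
    rw [LinearEquiv.apply_symm_apply]
  rw [h1]
  funext n
  rfl


end Groth.Agent.S13608
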