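import Groth.Statements.S13609
-- import your own Groth.Agent.* helpers here

set_option autoImplicit false
universe u v
open CAlg

namespace Groth.Agent.S13609

theorem smodEq_map_pow {A : Type*} [CommRing A] (I : Ideal A) {M N : Type*}
    [AddCommGroup M] [Module A M] [AddCommGroup N] [Module A N] (φ : M →ₗ[A] N) {n : ℕ}
    {x y : M} (h : x ≡ y [SMOD (I ^ n • ⊤ : Submodule A M)]) :
    φ x ≡ φ y [SMOD (I ^ n • ⊤ : Submodule A N)] := by
  refine (h.map φ).mono ?_
  rw [Submodule.map_smul'']
  exact Submodule.smul_mono le_rfl le_top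

/-- A direct summand of a module that is complete and separated for the I-adic topology is again
complete and separated: for a commutative ring A, an ideal I and A-modules M₁, M₂, if M₁ × M₂ is
I-adically complete then so is M₁. -/
theorem result (A : Type u) [CommRing A] (I : Ideal A)
    (M₁ M₂ : Type v) [AddCommGroup M₁] [Module A M₁] [AddCommGroup M₂] [Module A M₂]
    [IsAdicComplete I (M₁ × M₂)] : IsAdicComplete I M₁ := by
  have hH : IsHausdorff I (M₁ × M₂) := inferInstance
  have hP : IsPrecomplete I (M₁ × M₂) := inferInstance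
  refine { toIsHausdorff := ⟨fun x hx => ?_⟩, toIsPrecomplete := ⟨fun f hf => ?_⟩ }
  · have h0 : (LinearMap.inl A M₁ M₂) x = 0 := by
      apply hH.haus
      intro n
      have := smodEq_map_pow I (LinearMap.inl A M₁ M₂) (hx n)
      rwa [map_zero] at this
    have := congrArg Prod.fst h0
    simpa using this
  · obtain ⟨L, hL⟩ := hP.prec' (fun n => (LinearMap.inl A M₁ M₂) (f n))
      (fun {m n} hmn => smodEq_map_pow I (LinearMap.inl A M₁ M₂) (hf hmn))
    refine ⟨L.1, fun n => ?_⟩
    have := smodEq_map_pow I (LinearMap.fst A M₁ M₂) (hL n)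
    simpa using this

end Groth.Agent.S13609
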