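import Groth.Statements.S13621
import Mathlib
-- import your own Groth.Agent.* helpers here

set_option autoImplicit false
open CategoryTheory CategoryTheory.Limits Opposite
universe v u
open ARSys

namespace Groth.Agent.S13621

/-- The inverse limit is a well-defined functor on projective systems up to translation. Concretely: in
an abelian category with limits of shape ℕᵒᵖ, a morphism u : X ⟶ Y of projective systems indexed by
the natural numbers whose kernel and cokernel are null up to translation induces an isomorphism lim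
X ⟶ lim Y. (The published statement is the functoriality of lim on the category of systems up to
translation; combined with the description of isomorphisms there as the morphisms with null kernel
and cokernel, this is the form stated.) -/
theorem result {C : Type u} [Category.{v} C] [Abelian C] [HasLimitsOfShape ℕᵒᵖ C]
    {X Y : ARSys.PS C} (u : X ⟶ Y) (hu : ARSys.IsARIso u) : IsIso (limMap u) := by
  obtain ⟨⟨r, hr⟩, ⟨s, hs⟩⟩ := hu
  have hr' : ∀ n : ℕ, (kernel u).map (homOfLE (Nat.le_add_right n r)).op = 0 := hr
  have hs' : ∀ n : ℕ, (cokernel u).map (homOfLE (Nat.le_add_right n s)).op = 0 := hs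
  have hcomp : ∀ (Z : ARSys.PS C) {a b c : ℕ} (h₁ : a ≤ b) (h₂ : b ≤ c),
      Z.map (homOfLE h₂).op ≫ Z.map (homOfLE h₁).op = Z.map (homOfLE (h₁.trans h₂)).op := by
    intro Z a b c h₁ h₂
    rw [← Z.map_comp]
    rfl
  have hnat : ∀ {a b : ℕ} (h : a ≤ b),
      X.map (homOfLE h).op ≫ u.app (op a) = u.app (op b) ≫ Y.map (homOfLE h).op := by
    intro a b h
    exact u.naturality _
  -- L1 : maps killed by u die after r steps
  have L1 : ∀ (n : ℕ) {W : C} (g : W ⟶ X.obj (op (n + r))), g ≫ u.app (op (n + r)) = 0 →
      g ≫ X.map (homOfLE (Nat.le_add_right n r)).op = 0 := by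
    intro n W g hg
    let T : ShortComplex (ARSys.PS C) := ShortComplex.mk (kernel.ι u) u (kernel.condition u)
    have hT : T.Exact := ShortComplex.exact_of_f_is_kernel T (kernelIsKernel u)
    have hTk : (T.map ((evaluation ℕᵒᵖ C).obj (op (n + r)))).Exact := hT.map _
    have : Mono (T.map ((evaluation ℕᵒᵖ C).obj (op (n + r)))).f := by
      show Mono ((kernel.ι u).app (op (n + r)))
      exact (NatTrans.mono_iff_mono_app _).1 inferInstance _
    obtain ⟨l, hl⟩ : ∃ l : W ⟶ (kernel u).obj (op (n + r)),
        l ≫ (kernel.ι u).app (op (n + r)) = g := ⟨hTk.lift g hg, hTk.lift_f g hg⟩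
    have hn : (kernel u).map (homOfLE (Nat.le_add_right n r)).op ≫ (kernel.ι u).app (op n) =
        (kernel.ι u).app (op (n + r)) ≫ X.map (homOfLE (Nat.le_add_right n r)).op :=
      (kernel.ι u).naturality _
    rw [← hl, Category.assoc, ← hn, hr' n, zero_comp, comp_zero]
  have L2 : ∀ (n : ℕ) {W : C} (g : Y.obj (op n) ⟶ W), u.app (op n) ≫ g = 0 →
      Y.map (homOfLE (Nat.le_add_right n s)).op ≫ g = 0 := by
    intro n W g hg
    let T : ShortComplex (ARSys.PS C) := ShortComplex.mk u (cokernel.π u) (cokernel.condition u)
    have hT : T.Exact := ShortComplex.exact_of_g_is_cokernel T (cokernelIsCokernel u)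
    have hTk : (T.map ((evaluation ℕᵒᵖ C).obj (op n))).Exact := hT.map _
    have : Epi (T.map ((evaluation ℕᵒᵖ C).obj (op n))).g := by
      show Epi ((cokernel.π u).app (op n))
      exact (NatTrans.epi_iff_epi_app _).1 inferInstance _
    obtain ⟨l, hl⟩ : ∃ l : (cokernel u).obj (op n) ⟶ W,
        (cokernel.π u).app (op n) ≫ l = g := ⟨hTk.desc g hg, hTk.g_desc g hg⟩
    have hn : Y.map (homOfLE (Nat.le_add_right n s)).op ≫ (cokernel.π u).app (op n) =
        (cokernel.π u).app (op (n + s)) ≫ (cokernel u).map (homOfLE (Nat.le_add_right n s)).op :=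
      (cokernel.π u).naturality _
    rw [← hl, ← Category.assoc, hn, hs' n, comp_zero, zero_comp]
  -- mono
  have hmono : Mono (limMap u) := by
    apply Preadditive.mono_of_cancel_zero
    intro W g hg
    apply limit.hom_ext
    intro j
    obtain ⟨n⟩ := j
    rw [zero_comp]
    have h1 : (g ≫ limit.π X (op (n + r))) ≫ u.app (op (n + r)) = 0 := by
      have : limMap u ≫ limit.π Y (op (n + r)) = limit.π X (op (n + r)) ≫ u.app (op (n + r)) :=
        limMap_π _ _
      rw [Category.assoc, ← this, ← Category.assoc, hg, zero_comp]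
    have h2 := L1 n _ h1
    rw [Category.assoc, limit.w] at h2
    exact h2
  -- approximate inverse
  have hv : ∀ n : ℕ, ∃ v : Y.obj (op (n + r + s)) ⟶ X.obj (op n),
      v ≫ u.app (op n) = Y.map (homOfLE (show n ≤ n + r + s by omega)).op := by
    intro n
    let e := Abelian.factorThruImage (u.app (op (n + r)))
    let m := Abelian.image.ι (u.app (op (n + r)))
    have hem : e ≫ m = u.app (op (n + r)) := Abelian.image.fac _
    have ha : Y.map (homOfLE (Nat.le_add_right (n + r) s)).op ≫
        cokernel.π (u.app (op (n + r))) = 0 :=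
      L2 (n + r) _ (cokernel.condition _)
    let a : Y.obj (op (n + r + s)) ⟶ Abelian.image (u.app (op (n + r))) :=
      kernel.lift _ _ ha
    have ham : a ≫ m = Y.map (homOfLE (Nat.le_add_right (n + r) s)).op := kernel.lift_ι _ _ _
    have hb : kernel.ι e ≫ X.map (homOfLE (Nat.le_add_right n r)).op = 0 := by
      apply L1
      calc kernel.ι e ≫ u.app (op (n + r)) = (kernel.ι e ≫ e) ≫ m := by
            rw [Category.assoc, hem]
        _ = 0 := by rw [kernel.condition, zero_comp]
    let b : Abelian.image (u.app (op (n + r))) ⟶ X.obj (op n) := Abelian.epiDesc e _ hb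
    have heb : e ≫ b = X.map (homOfLE (Nat.le_add_right n r)).op := Abelian.comp_epiDesc _ _ _
    have hbu : b ≫ u.app (op n) = m ≫ Y.map (homOfLE (Nat.le_add_right n r)).op := by
      rw [← cancel_epi e, ← Category.assoc, heb, hnat, ← Category.assoc, hem]
    refine ⟨a ≫ b, ?_⟩
    rw [Category.assoc, hbu, ← Category.assoc, ham, hcomp Y]
  choose v hv using hv
  let w : ∀ n : ℕ, limit Y ⟶ X.obj (op n) := fun n =>
    limit.π Y (op (n + r + r + s)) ≫ v (n + r) ≫ X.map (homOfLE (Nat.le_add_right n r)).op
  have hw : ∀ (n m : ℕ) (h : n ≤ m), w m ≫ X.map (homOfLE h).op = w n := by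
    intro n m h
    have hD : (v (m + r) ≫ X.map (homOfLE (show n + r ≤ m + r by omega)).op -
        Y.map (homOfLE (show n + r + r + s ≤ m + r + r + s by omega)).op ≫ v (n + r)) ≫
          u.app (op (n + r)) = 0 := by
      rw [Preadditive.sub_comp, Category.assoc, Category.assoc, hnat, ← Category.assoc,
        hv (m + r), hv (n + r), hcomp Y, hcomp Y, sub_self]
    have h3 := L1 n _ hD
    rw [Preadditive.sub_comp, sub_eq_zero, Category.assoc, Category.assoc, hcomp X] at h3
    show (limit.π Y (op (m + r + r + s)) ≫ v (m + r) ≫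
        X.map (homOfLE (Nat.le_add_right m r)).op) ≫ X.map (homOfLE h).op =
      limit.π Y (op (n + r + r + s)) ≫ v (n + r) ≫ X.map (homOfLE (Nat.le_add_right n r)).op
    rw [Category.assoc, Category.assoc, hcomp X, h3, ← Category.assoc, limit.w]
  let cn : Cone X :=
    { pt := limit Y
      π :=
        { app := fun j => w j.unop
          naturality := by
            intro j j' φ
            have hφ : φ = (homOfLE (leOfHom φ.unop)).op := Subsingleton.elim _ _
            rw [hφ]
            simp only [Functor.const_obj_obj, Functor.const_obj_map, Category.id_comp]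
            exact (hw j'.unop j.unop (leOfHom φ.unop)).symm } }
  have hsplit : limit.lift X cn ≫ limMap u = 𝟙 _ := by
    apply limit.hom_ext
    intro j
    obtain ⟨n⟩ := j
    rw [Category.assoc, limMap_π, ← Category.assoc, limit.lift_π, Category.id_comp]
    show (limit.π Y (op (n + r + r + s)) ≫ v (n + r) ≫
        X.map (homOfLE (Nat.le_add_right n r)).op) ≫ u.app (op n) = limit.π Y (op n)
    rw [Category.assoc, Category.assoc, hnat, ← Category.assoc (v (n + r)), hv (n + r), hcomp Y,
      limit.w]
  have : IsSplitEpi (limMap u) := IsSplitEpi.mk' ⟨limit.lift X cn, hsplit⟩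
  exact isIso_of_mono_of_isSplitEpi _

end Groth.Agent.S13621
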