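import Groth.Statements.S13622
import Mathlib
import Groth.Agent.S2291

set_option autoImplicit false
universe u v
open CAlg

namespace Groth.Agent.S13622


lemma isPrecomplete_pi {S : Type u} [CommRing S] (J : Ideal S) [IsPrecomplete J S] (r : ℕ) :
    IsPrecomplete J (Fin r → S) := by
  refine ⟨fun f hf => ?_⟩
  have hcomp : ∀ i : Fin r, ∃ ℓ : S, ∀ n, (f n) i ≡ ℓ [SMOD (J ^ n • ⊤ : Submodule S S)] := by
    intro i
    refine IsPrecomplete.prec' (I := J) (fun n => f n i) (fun {m n} hmn => ?_)
    exact Groth.Agent.S13608.smodEq_map J (LinearMap.proj i) (hf hmn)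
  choose ℓ hℓ using hcomp
  refine ⟨ℓ, fun n => ?_⟩
  rw [SModEq.sub_mem]
  have e : f n - ℓ = ∑ i, Pi.single i ((f n - ℓ) i) := (Finset.univ_sum_single _).symm
  rw [e]
  refine Submodule.sum_mem _ (fun i _ => ?_)
  have h1 : (f n - ℓ) i ∈ (J ^ n • ⊤ : Submodule S S) := (SModEq.sub_mem).mp (hℓ i n)
  have h2 := Submodule.mem_map_of_mem (f := LinearMap.single S (fun _ : Fin r => S) i) h1
  rw [Submodule.map_smul''] at h2
  exact Submodule.smul_mono le_rfl le_top h2


/-- Let A be a commutative ring, I a finitely generated ideal and (M_n) an inverse system of finitely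
generated A-modules whose transition maps f_n : M_(n+1) → M_n are surjective with kernel I^(n+1)
M_(n+1), and with I^(n+1) M_n = 0 for all n. If L is an inverse limit of the system (projections π_n
compatible with the f_n, jointly injective, every compatible family lifting to L), endowed with a
module structure over the I-adic completion A^ of A that is compatible with its A-module structure,
then L is finitely generated as an A^-module. No completeness of A is assumed. -/
theorem result
    (A : Type u) [CommRing A] (I : Ideal A) (hI : I.FG)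
    (M : ℕ → Type v) [∀ n, AddCommGroup (M n)] [∀ n, Module A (M n)] [∀ n, Module.Finite A (M n)]
    (f : ∀ n, M (n + 1) →ₗ[A] M n) (hf : ∀ n, Function.Surjective (f n))
    (hker : ∀ n, LinearMap.ker (f n) = I ^ (n + 1) • (⊤ : Submodule A (M (n + 1))))
    (hkill : ∀ n, I ^ (n + 1) • (⊤ : Submodule A (M n)) = ⊥)
    (L : Type v) [AddCommGroup L] [Module A L] (π : ∀ n, L →ₗ[A] M n)
    (hπ : ∀ n, f n ∘ₗ π (n + 1) = π n)
    (hinj : ∀ x : L, (∀ n, π n x = 0) → x = 0)
    (hlift : ∀ y : (∀ n, M n), (∀ n, f n (y (n + 1)) = y n) → ∃ x : L, ∀ n, π n x = y n)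
    [Module (AdicCompletion I A) L] [IsScalarTower A (AdicCompletion I A) L] :
    Module.Finite (AdicCompletion I A) L := by
  classical
  obtain ⟨hcompl, hπker, -⟩ := Groth.Agent.S2291.result A I hI M f hf hker L π hπ hinj hlift
  have hc1 : IsAdicComplete I (AdicCompletion I A) := AdicCompletion.isAdicComplete hI
  have hpre : IsPrecomplete (I.map (algebraMap A (AdicCompletion I A))) (AdicCompletion I A) :=
    IsPrecomplete.map_algebraMap_iff.mpr hc1.toIsPrecomplete
  have hhaus : IsHausdorff (I.map (algebraMap A (AdicCompletion I A))) L :=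
    IsHausdorff.map_algebraMap_iff.mpr hcompl.toIsHausdorff
  obtain ⟨r, s, hs⟩ := Module.Finite.exists_fin (R := A) (M := M 0)
  have hpi := isPrecomplete_pi (I.map (algebraMap A (AdicCompletion I A))) r
  choose x hx using fun k => (hπker 0).1 (s k)
  let F : (Fin r → AdicCompletion I A) →ₗ[AdicCompletion I A] L :=
    Fintype.linearCombination (AdicCompletion I A) x
  have hF : Function.Surjective F := by
    apply surjective_of_mkQ_comp_surjective (I := I.map (algebraMap A (AdicCompletion I A)))
    intro q
    obtain ⟨y, rfl⟩ := Submodule.mkQ_surjective _ q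
    have h1 : π 0 y ∈ Submodule.span A (Set.range s) := by
      rw [hs]
      trivial
    obtain ⟨c, hc⟩ := (Submodule.mem_span_range_iff_exists_fun A).mp h1
    have h2 : y - ∑ i, c i • x i ∈ LinearMap.ker (π 0) := by
      rw [LinearMap.mem_ker, map_sub, map_sum]
      simp only [map_smul, hx]
      rw [hc, sub_self]
    rw [(hπker 0).2] at h2
    refine ⟨fun i => algebraMap A (AdicCompletion I A) (c i), ?_⟩
    rw [LinearMap.comp_apply]
    symm
    rw [Submodule.mkQ_apply, Submodule.mkQ_apply, Submodule.Quotient.eq]
    have h3 : F (fun i => algebraMap A (AdicCompletion I A) (c i)) = ∑ i, c i • x i := by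
      rw [Fintype.linearCombination_apply]
      simp only [algebraMap_smul]
    rw [h3]
    have hle : (I ^ (0 + 1) • ⊤ : Submodule A L) ≤
        ((I.map (algebraMap A (AdicCompletion I A))) •
          (⊤ : Submodule (AdicCompletion I A) L)).restrictScalars A := by
      rw [Submodule.smul_le]
      intro a ha w _
      rw [Submodule.restrictScalars_mem, ← algebraMap_smul (AdicCompletion I A) a w]
      exact Submodule.smul_mem_smul (Ideal.mem_map_of_mem _ (by simpa using ha)) trivial
    exact hle h2
  exact Module.Finite.of_surjective F hF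


end Groth.Agent.S13622
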