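import Groth.Statements.S13623
import Mathlib

set_option autoImplicit false
universe u
open TensorProduct
open CAlg

namespace Groth.Agent.S13623



/-- Let A be a commutative ring and B a commutative A-algebra, graded by A-submodules B_m (m ≥ 0)
forming a graded-algebra structure, such that every B_m is a finitely generated A-module. If for
every algebraically closed field k and every A-algebra structure on k the k-algebra k ⊗_A B is
generated by the image of B_1 under b ↦ 1 ⊗ b, then its degree-one part B_1 generates the A-algebra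
B. (Algebraically closed fields are taken in the universe of A.) -/
theorem result
    (A : Type u) [CommRing A] (B : Type u) [CommRing B] [Algebra A B]
    (𝒜 : ℕ → Submodule A B) [GradedAlgebra 𝒜]
    (hfin : ∀ m : ℕ, Module.Finite A (𝒜 m))
    (hgen : ∀ (k : Type u) [Field k] [IsAlgClosed k] [Algebra A k],
      Algebra.adjoin k ((Algebra.TensorProduct.includeRight : B →ₐ[A] k ⊗[A] B) '' (𝒜 1 : Set B)) = ⊤) :
    Algebra.adjoin A (𝒜 1 : Set B) = ⊤ := by
  classical
  suffices h : ∀ m, 𝒜 m ≤ Subalgebra.toSubmodule (Algebra.adjoin A (𝒜 1 : Set B)) by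
    rw [eq_top_iff]
    intro b _
    rw [← DirectSum.sum_support_decompose 𝒜 b]
    exact Subalgebra.sum_mem _ (fun i _ => h i (SetLike.coe_mem _))
  intro m
  by_contra hm
  -- closure elements are homogeneous
  have hhom : ∀ x ∈ Submonoid.closure (𝒜 1 : Set B), ∃ j, x ∈ 𝒜 j := by
    intro x hx
    induction hx using Submonoid.closure_induction with
    | mem x h => exact ⟨1, h⟩
    | one => exact ⟨0, SetLike.one_mem_graded 𝒜⟩
    | mul x y _ _ ihx ihy =>
      obtain ⟨i, hi⟩ := ihx
      obtain ⟨j, hj⟩ := ihy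
      exact ⟨i + j, SetLike.mul_mem_graded hi hj⟩
  have hclC : ∀ x ∈ Submonoid.closure (𝒜 1 : Set B), x ∈ Algebra.adjoin A (𝒜 1 : Set B) := by
    intro x hx
    have : Submonoid.closure (𝒜 1 : Set B) ≤ (Algebra.adjoin A (𝒜 1 : Set B)).toSubmonoid :=
      Submonoid.closure_le.mpr Algebra.subset_adjoin
    exact this hx
  let Wm : Submodule A (𝒜 m) :=
    (Subalgebra.toSubmodule (Algebra.adjoin A (𝒜 1 : Set B))).comap (𝒜 m).subtype
  have hWm : Wm ≠ ⊤ := by
    intro htop
    apply hm
    intro t ht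
    have : (⟨t, ht⟩ : 𝒜 m) ∈ Wm := by rw [htop]; trivial
    exact this
  have : Nontrivial ((𝒜 m) ⧸ Wm) := Submodule.Quotient.nontrivial_iff.mpr hWm
  have := hfin m
  let projm : B →ₗ[A] 𝒜 m :=
    (DirectSum.component A ℕ (fun i => 𝒜 i) m) ∘ₗ (DirectSum.decomposeLinearEquiv 𝒜).toLinearMap
  have hproj : ∀ b, projm b = DirectSum.decompose 𝒜 b m := fun b => rfl
  let π : B →ₗ[A] (𝒜 m) ⧸ Wm := Wm.mkQ ∘ₗ projm
  have hπsurj : Function.Surjective π := by
    intro q
    obtain ⟨t, rfl⟩ := Wm.mkQ_surjective q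
    refine ⟨(t : B), ?_⟩
    show Wm.mkQ (projm (t : B)) = Wm.mkQ t
    congr 1
    rw [hproj]
    exact Subtype.ext (DirectSum.decompose_of_mem_same 𝒜 t.2)
  have hπC : ∀ x ∈ Submonoid.closure (𝒜 1 : Set B), π x = 0 := by
    intro x hx
    obtain ⟨j, hj⟩ := hhom x hx
    show Wm.mkQ (projm x) = 0
    by_cases hjm : j = m
    · subst hjm
      have h1 : projm x = ⟨x, hj⟩ := by
        rw [hproj]
        exact Subtype.ext (DirectSum.decompose_of_mem_same 𝒜 hj)
      rw [h1, Submodule.mkQ_apply, Submodule.Quotient.mk_eq_zero]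
      exact hclC x hx
    · have h1 : projm x = 0 := by
        rw [hproj]
        exact Subtype.ext (DirectSum.decompose_of_mem_ne 𝒜 hj hjm)
      rw [h1, map_zero]
  -- find a geometric point
  obtain ⟨p, hp⟩ := Module.nonempty_support_of_nontrivial (R := A) (M := (𝒜 m) ⧸ Wm)
  have : Nontrivial (p.asIdeal.ResidueField ⊗[A] ((𝒜 m) ⧸ Wm)) :=
    (Module.mem_support_iff_nontrivial_residueField_tensorProduct p).mp hp
  have hkQ : Nontrivial (AlgebraicClosure p.asIdeal.ResidueField ⊗[A] ((𝒜 m) ⧸ Wm)) :=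
    (TensorProduct.AlgebraTensorModule.cancelBaseChange A p.asIdeal.ResidueField
      (AlgebraicClosure p.asIdeal.ResidueField) (AlgebraicClosure p.asIdeal.ResidueField)
      ((𝒜 m) ⧸ Wm)).symm.toEquiv.nontrivial
  have htop := hgen (AlgebraicClosure p.asIdeal.ResidueField)
  have hcl' : ∀ x ∈ Submonoid.closure ((Algebra.TensorProduct.includeRight :
      B →ₐ[A] (AlgebraicClosure p.asIdeal.ResidueField) ⊗[A] B) '' (𝒜 1 : Set B)),
      ∃ y ∈ Submonoid.closure (𝒜 1 : Set B),
        x = (1 : AlgebraicClosure p.asIdeal.ResidueField) ⊗ₜ[A] y := by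
    intro x hx
    induction hx using Submonoid.closure_induction with
    | mem x h =>
      obtain ⟨b, hb, rfl⟩ := h
      exact ⟨b, Submonoid.subset_closure hb, rfl⟩
    | one => exact ⟨1, one_mem _, rfl⟩
    | mul x y _ _ ihx ihy =>
      obtain ⟨a, ha, rfl⟩ := ihx
      obtain ⟨b, hb, rfl⟩ := ihy
      exact ⟨a * b, mul_mem ha hb, by rw [Algebra.TensorProduct.tmul_mul_tmul, one_mul]⟩
  have hzero : ∀ z : (AlgebraicClosure p.asIdeal.ResidueField) ⊗[A] B,
      π.baseChange (AlgebraicClosure p.asIdeal.ResidueField) z = 0 := by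
    intro z
    have hz : z ∈ Subalgebra.toSubmodule (Algebra.adjoin (AlgebraicClosure p.asIdeal.ResidueField)
        ((Algebra.TensorProduct.includeRight :
          B →ₐ[A] (AlgebraicClosure p.asIdeal.ResidueField) ⊗[A] B) '' (𝒜 1 : Set B))) := by
      rw [htop, Algebra.top_toSubmodule]
      exact Submodule.mem_top
    rw [Algebra.adjoin_eq_span] at hz
    induction hz using Submodule.span_induction with
    | mem x h =>
      obtain ⟨y, hy, rfl⟩ := hcl' x h
      rw [LinearMap.baseChange_tmul, hπC y hy, TensorProduct.tmul_zero]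
    | zero => exact map_zero _
    | add x y _ _ hx hy => rw [map_add, hx, hy, add_zero]
    | smul a x _ hx => rw [map_smul, hx, smul_zero]
  have hsurj : Function.Surjective (π.baseChange (AlgebraicClosure p.asIdeal.ResidueField)) := by
    rw [LinearMap.baseChange_eq_ltensor]
    exact LinearMap.lTensor_surjective _ hπsurj
  obtain ⟨q, hq⟩ := exists_ne (0 : AlgebraicClosure p.asIdeal.ResidueField ⊗[A] ((𝒜 m) ⧸ Wm))
  obtain ⟨z, rfl⟩ := hsurj q
  exact hq (hzero z)


end Groth.Agent.S13623
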