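import Groth.Statements.S13626
import Mathlib
import Groth.Agent.Lib.Helper11.ProjFormulaC
import Groth.Agent.Lib.Helper11.RpushAbBridge
import Groth.Agent.Lib.Helper18.HHPush

set_option autoImplicit false
universe u
open CategoryTheory CategoryTheory.Limits AlgebraicGeometry
open Coh

namespace Groth.Agent.S13626

open Groth.Agent.Lib.helper27 Groth.Agent.Lib.Helper18.HH in
/-- `H^p(S, f_* M) ≃ H^p(X, M)` when the higher direct images of the underlying abelian sheaf of `M`
vanish -/
noncomputable def pushEquivAdd' {X S : Scheme.{u}} (f : X ⟶ S) (M : X.Modules)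
    (h : ∀ i : ℕ, 0 < i → IsZero (((CohTop.push f.base).rightDerived i).obj (Coh.toAb M))) (p : ℕ) :
    Coh.HH S ((Coh.push f).obj M) p ≃+ Coh.HH X M p :=
  (ExtAdj.extAddEquiv.{u, u} (PullConst.pbAdj f.base) (ZZ' S) (Coh.toAb M) h p).trans
    (ExtAdj.extIsoLeft.{u} ((PullConst.pullConstIso f.base).app (AddCommGrpCat.of (ULift ℤ)))
      (Coh.toAb M) p)

theorem isZero_rpushAb_of_isZero_rpush {X S : Scheme.{u}} (f : X ⟶ S)
    [HasInjectiveResolutions X.Modules] (p : ℕ) (G : X.Modules)
    (h : IsZero ((Coh.Rpush f p).obj G)) : IsZero ((Coh.RpushAb f p).obj (Coh.toAb G)) := by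
  obtain ⟨e⟩ := Groth.Agent.Lib.helper11.RpushAbBridge.nonempty_rpush_toSheaf_iso f p
  have addS : (SheafOfModules.toSheaf.{u} S.ringCatSheaf).Additive := { map_add := by intros; rfl }
  have h1 : IsZero ((SheafOfModules.toSheaf.{u} S.ringCatSheaf).obj ((Coh.Rpush f p).obj G)) :=
    (SheafOfModules.toSheaf.{u} S.ringCatSheaf).map_isZero h
  exact IsZero.of_iso h1 (e.app G).symm


/-- Let f : X → Y be a morphism of schemes with R^i f_* O_X = 0 for every i ≥ 1 and f_* O_X ≅ O_Y. Then
for every invertible O_Y-module L and every p ≥ 0 the groups H^p(X, f^* L) and H^p(Y, L) are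
isomorphic (existence of a group isomorphism; the higher direct images are the right derived
functors of f_* on O_X-modules, under the instance argument recording that O_X-modules have
injective resolutions). -/
theorem result
    {X Y : Scheme.{u}} (f : X ⟶ Y) [HasInjectiveResolutions X.Modules]
    (hR : ∀ i : ℕ, IsZero ((Coh.Rpush f (i + 1)).obj (Coh.structureModule X)))
    (h0 : Nonempty ((Coh.push f).obj (Coh.structureModule X) ≅ Coh.structureModule Y))
    (L : Y.Modules) (hL : PicF.IsInvertible L) (p : ℕ) :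
    Nonempty (Coh.HH X ((Scheme.Modules.pullback f).obj L) p ≃+ Coh.HH Y L p) := by
  have hE : FlatMod.IsFinLocFree L := Groth.Agent.Lib.helper16.FLF.isFinLocFree_of_isInvertible hL
  -- `R^q f_*(f^*L) ≅ R^q f_* O_X ⊗ L`
  have key : ∀ q : ℕ, Nonempty (CohB1.tensorMod ((Coh.Rpush f q).obj (Coh.structureModule X)) L ≅
      (Coh.Rpush f q).obj ((Scheme.Modules.pullback f).obj L)) := by
    intro q
    obtain ⟨e⟩ := Groth.Agent.Lib.helper11.ProjFormula.nonempty_rpush_tensor_iso f
      (Coh.structureModule X) hE q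
    exact ⟨e ≪≫ (Coh.Rpush f q).mapIso (Groth.Agent.Lib.Lead.ModTensor.leftUnitor _)⟩
  -- vanishing of the higher direct images of `f^*L`
  have hvan : ∀ i : ℕ, 0 < i →
      IsZero (((CohTop.push f.base).rightDerived i).obj
        (Coh.toAb ((Scheme.Modules.pullback f).obj L))) := by
    intro i hi
    obtain ⟨j, rfl⟩ : ∃ j, i = j + 1 := ⟨i - 1, by omega⟩
    apply isZero_rpushAb_of_isZero_rpush f (j + 1)
    obtain ⟨e⟩ := key (j + 1)
    refine IsZero.of_iso ?_ e.symm
    have : (Groth.Agent.Lib.Helper20.TensorEquiv.tensorRight L).Additive :=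
      Groth.Agent.Lib.helper12.TensorCocont.additive_tensorRight L
    exact (Groth.Agent.Lib.Helper20.TensorEquiv.tensorRight L).map_isZero (hR j)
  -- `f_* f^* L ≅ L`
  obtain ⟨e0⟩ := key 0
  obtain ⟨h0⟩ := h0
  have e1 : (Coh.push f).obj ((Scheme.Modules.pullback f).obj L) ≅ L :=
    ((Scheme.Modules.pushforward f).rightDerivedZeroIsoSelf.app _).symm ≪≫ e0.symm ≪≫
      Groth.Agent.Lib.Lead.ModTensor.tensorIso
        ((Scheme.Modules.pushforward f).rightDerivedZeroIsoSelf.app _ ≪≫ h0) (Iso.refl L) ≪≫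
      Groth.Agent.Lib.Lead.ModTensor.leftUnitor L
  have e2 := pushEquivAdd' f ((Scheme.Modules.pullback f).obj L) hvan p
  let e1' := (SheafOfModules.toSheaf.{u} Y.ringCatSheaf).mapIso e1
  have e3 : Coh.HH Y ((Coh.push f).obj ((Scheme.Modules.pullback f).obj L)) p ≃+ Coh.HH Y L p :=
    { toFun := Sheaf.H.map e1'.hom p
      invFun := Sheaf.H.map e1'.inv p
      left_inv := fun x => by
        rw [← Sheaf.H.map_comp_apply, e1'.hom_inv_id, Sheaf.H.map_id_apply]
      right_inv := fun x => by
        rw [← Sheaf.H.map_comp_apply, e1'.inv_hom_id, Sheaf.H.map_id_apply]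
      map_add' := fun x y => map_add _ x y }
  exact ⟨e2.symm.trans e3⟩

end Groth.Agent.S13626
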