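import Groth.Statements.S13627
import Mathlib

set_option autoImplicit false
universe u
open CategoryTheory CategoryTheory.Limits AlgebraicGeometry Opposite
open FBase

namespace Groth.Agent.S13627


/-- transport along the pasting isomorphism -/
theorem paste
    (P : ∀ (k : Type u) [Field k] (Z : Scheme.{u}), (Z ⟶ Spec (CommRingCat.of k)) → Prop)
    (hiso : ∀ (k : Type u) [Field k] (Z Z' : Scheme.{u}) (e : Z ≅ Z') (g : Z' ⟶ Spec (CommRingCat.of k)),
      P k Z' g → P k Z (e.hom ≫ g))
    (hext : ∀ (k K : Type u) [Field k] [Field K] (i : k →+* K) (Z : Scheme.{u}) (g : Z ⟶ Spec (CommRingCat.of k)),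
      P k Z g → P K (pullback g (Spec.map (CommRingCat.ofHom i))) (pullback.snd g (Spec.map (CommRingCat.ofHom i))))
    {X T : Scheme.{u}} (f : X ⟶ T) (k K : Type u) [Field k] [Field K] (i : k →+* K)
    (τ : Spec (CommRingCat.of k) ⟶ T) (h : P k (pullback f τ) (pullback.snd f τ)) :
    P K (pullback f (Spec.map (CommRingCat.ofHom i) ≫ τ))
      (pullback.snd f (Spec.map (CommRingCat.ofHom i) ≫ τ)) := by
  have h1 := hext k K i (pullback f τ) (pullback.snd f τ) h
  have h2 := hiso K _ _ (pullbackLeftPullbackSndIso f τ (Spec.map (CommRingCat.ofHom i))).symm _ h1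
  rw [Iso.symm_hom, pullbackLeftPullbackSndIso_inv_snd_snd] at h2
  exact h2

/-- Let P be a property of schemes over fields, invariant under isomorphisms of schemes over the base
field and ascending along every field extension k → K (if Z over k has P then Z ×_k Spec K over K
has P). For a morphism of schemes f : X → T, these conditions are equivalent: (1) for every
algebraically closed field k and every morphism Spec k → T the fibre X ×_T Spec k has P over k; (2)
for every point t of T the fibre of f over Spec of an algebraic closure of the residue field κ(t)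
has P. (Fields are taken in the universe of the schemes. The published statement also treats a
morphism from an algebraic space X to a scheme T; this row treats morphisms of schemes.) -/
theorem result
    (P : ∀ (k : Type u) [Field k] (Z : Scheme.{u}), (Z ⟶ Spec (CommRingCat.of k)) → Prop)
    (hiso : ∀ (k : Type u) [Field k] (Z Z' : Scheme.{u}) (e : Z ≅ Z') (g : Z' ⟶ Spec (CommRingCat.of k)),
      P k Z' g → P k Z (e.hom ≫ g))
    (hext : ∀ (k K : Type u) [Field k] [Field K] (i : k →+* K) (Z : Scheme.{u}) (g : Z ⟶ Spec (CommRingCat.of k)),
      P k Z g → P K (pullback g (Spec.map (CommRingCat.ofHom i))) (pullback.snd g (Spec.map (CommRingCat.ofHom i))))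
    {X T : Scheme.{u}} (f : X ⟶ T) :
    (∀ (k : Type u) [Field k] [IsAlgClosed k] (σ : Spec (CommRingCat.of k) ⟶ T),
        P k (pullback f σ) (pullback.snd f σ)) ↔
      ∀ t : T, P (AlgebraicClosure ↥(T.residueField t))
        (pullback f (Spec.map (CommRingCat.ofHom (algebraMap ↥(T.residueField t) (AlgebraicClosure ↥(T.residueField t)))) ≫
          T.fromSpecResidueField t))
        (pullback.snd f (Spec.map (CommRingCat.ofHom (algebraMap ↥(T.residueField t) (AlgebraicClosure ↥(T.residueField t)))) ≫
          T.fromSpecResidueField t)) := by
  constructor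
  · intro h t
    exact h (AlgebraicClosure (T.residueField t)) _
  · intro h k _ _ σ
    have key : ∀ (t : T) (φ : T.residueField t ⟶ CommRingCat.of k),
        P k (pullback f (Spec.map φ ≫ T.fromSpecResidueField t))
          (pullback.snd f (Spec.map φ ≫ T.fromSpecResidueField t)) := by
      intro t φ
      let _ : Algebra (T.residueField t) k := φ.hom.toAlgebra
      let ψ : AlgebraicClosure (T.residueField t) →ₐ[T.residueField t] k := IsAlgClosed.lift
      have hψ : (ψ : AlgebraicClosure (T.residueField t) →+* k).comp
          (algebraMap (T.residueField t) (AlgebraicClosure (T.residueField t))) = φ.hom :=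
        ψ.comp_algebraMap
      have e : Spec.map φ ≫ T.fromSpecResidueField t =
          Spec.map (CommRingCat.ofHom (ψ : AlgebraicClosure (T.residueField t) →+* k)) ≫
            (Spec.map (CommRingCat.ofHom (algebraMap (T.residueField t)
              (AlgebraicClosure (T.residueField t)))) ≫ T.fromSpecResidueField t) := by
        rw [← Category.assoc, ← Spec.map_comp, ← CommRingCat.ofHom_comp, hψ]
        rfl
      rw [e]
      exact paste P hiso hext f _ k _ _ (h t)
    have h1 := key (σ (IsLocalRing.closedPoint k))
      (T.descResidueField (Scheme.stalkClosedPointTo σ))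
    rw [Scheme.descResidueField_stalkClosedPointTo_fromSpecResidueField k T σ] at h1
    exact h1

end Groth.Agent.S13627
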