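import Groth.Statements.S13629
import Groth.Agent.Lib.Lead.IntNumLC

set_option autoImplicit false
universe u
open CategoryTheory CategoryTheory.Limits AlgebraicGeometry Opposite
open FGA

namespace Groth.Agent.S13629

/-- Let f : X → Y be a proper, flat morphism of schemes, locally of finite presentation, whose
scheme-theoretic fibres X_y all have Krull dimension at most 2, and let L be an invertible
O_X-module with a tensor inverse M (M ⊗ L ≅ O_X). Then the self-intersection number (L_y · L_y) of
the restriction of L to the fibre X_y over κ(y), namely the alternating sum χ(O_{X_y}) − 2χ(M_y) +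
χ(M_y ⊗ M_y) of Euler characteristics in degrees ≤ 2, is a locally constant function of y: every
point y₀ of Y has an open neighbourhood on which it equals its value at y₀. (The published statement
is the case where the fibres are integral normal Gorenstein surfaces and L is the relative dualizing
sheaf, so that the number is the self-intersection K² of the canonical class of the fibre; the fibre
X_y is regarded as a scheme over Spec κ(y) through the second projection.) -/
theorem result
    {X Y : Scheme.{u}} (f : X ⟶ Y) [IsProper f] [Flat f] [LocallyOfFinitePresentation f]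
    (hdim : ∀ y : Y, topologicalKrullDim ↥(f.fiber y) ≤ 2)
    (L M : X.Modules) (hL : PicF.IsInvertible L) (hM : ClSub.IsInverseOf M L) (y₀ : Y) :
    ∃ U : Y.Opens, y₀ ∈ U ∧ ∀ y : Y, y ∈ U →
      @FGA.intNum ↥(Y.residueField y) _ (f.fiber y) ⟨f.fiberToSpecResidueField y⟩ 2 2
            ![(Scheme.Modules.pullback (f.fiberι y)).obj M, (Scheme.Modules.pullback (f.fiberι y)).obj M]
            (Coh.structureModule (f.fiber y)) =
        @FGA.intNum ↥(Y.residueField y₀) _ (f.fiber y₀) ⟨f.fiberToSpecResidueField y₀⟩ 2 2
            ![(Scheme.Modules.pullback (f.fiberι y₀)).obj M, (Scheme.Modules.pullback (f.fiberι y₀)).obj M]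
            (Coh.structureModule (f.fiber y₀)) := by
  have hMinv : PicF.IsInvertible M :=
    Groth.Agent.Lib.helper12.TensorInvLocal.isInvertible_of_tensor_iso M L hM.some
  obtain ⟨U, hU, h⟩ := Groth.Agent.Lib.Lead.IntNumLC.intNum_locallyConstant f 2 hdim ![M, M]
    (by intro i; fin_cases i <;> exact hMinv) y₀
  refine ⟨U, hU, fun y hy => ?_⟩
  have e : ∀ y : Y, (![(Scheme.Modules.pullback (f.fiberι y)).obj M,
      (Scheme.Modules.pullback (f.fiberι y)).obj M] : Fin 2 → (f.fiber y).Modules) =
      fun i => (Scheme.Modules.pullback (f.fiberι y)).obj (![M, M] i) := by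
    intro y
    funext i
    fin_cases i <;> rfl
  rw [e y, e y₀]
  exact h y hy

end Groth.Agent.S13629
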