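import Groth.Statements.S13631
import Mathlib

set_option autoImplicit false
universe u v w
open CAlg

namespace Groth.Agent.S13631

open Matrix

/-- Let k be a field, R an integral domain which is a k-algebra of infinite dimension over k, M a finite
free R-module, σ a ring automorphism of R mapping the image of k onto itself, and φ : M → M a
σ-semilinear map. If the cokernel of φ is finite-dimensional over k, in the sense that some finitely
generated k-subspace N of M satisfies M = N + φ(M), then φ is injective. -/
theorem result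
    {k : Type u} {R : Type v} {M : Type w} [Field k] [CommRing R] [IsDomain R] [Algebra k R]
    (hR : ¬ Module.Finite k R)
    [AddCommGroup M] [Module R M] [Module k M] [IsScalarTower k R M]
    [Module.Finite R M] [Module.Free R M]
    (σ : R ≃+* R)
    (hσ : ∀ x : k, ∃ y : k, σ (algebraMap k R x) = algebraMap k R y)
    (hσ' : ∀ y : k, ∃ x : k, σ (algebraMap k R x) = algebraMap k R y)
    (φ : M →ₛₗ[(σ : R →+* R)] M)
    (hcoker : ∃ N : Submodule k M, N.FG ∧ ∀ m : M, ∃ n ∈ N, ∃ m' : M, m = n + φ m') :
    Function.Injective φ := by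
  classical
  let b := Module.Free.chooseBasis R M
  let a : Matrix (Module.Free.ChooseBasisIndex R M) (Module.Free.ChooseBasisIndex R M) R :=
    fun j i => b.repr (φ (b i)) j
  have hφrepr : ∀ m : M, ∀ j, b.repr (φ m) j = (a *ᵥ (fun i => σ (b.repr m i))) j := by
    intro m j
    conv_lhs => rw [← b.sum_repr m]
    rw [map_sum, map_sum, Finsupp.finsetSum_apply]
    simp only [Matrix.mulVec, dotProduct, a]
    apply Finset.sum_congr rfl
    intro i _
    rw [LinearMap.map_smulₛₗ, map_smul, Finsupp.smul_apply, smul_eq_mul]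
    simp [mul_comm]
  rw [injective_iff_map_eq_zero]
  intro m hm
  by_contra hm0
  have hr0 : (fun i => σ (b.repr m i)) ≠ 0 := by
    intro h0
    apply hm0
    apply b.repr.injective
    ext i
    have := congrFun h0 i
    simp only [Pi.zero_apply] at this
    rw [map_zero, Finsupp.zero_apply]
    exact (map_eq_zero_iff σ σ.injective).mp this
  have hav : a *ᵥ (fun i => σ (b.repr m i)) = 0 := by
    ext j
    rw [← hφrepr, hm, map_zero]
    rfl
  have hdet : a.det = 0 := Matrix.exists_mulVec_eq_zero_iff.mp ⟨_, hr0, hav⟩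
  obtain ⟨l, hl0, hla⟩ := Matrix.exists_vecMul_eq_zero_iff.mpr hdet
  let Λ : M →ₗ[R] R := ∑ j, (l j) • (b.coord j)
  have hΛ : ∀ x : M, Λ x = ∑ j, l j * b.repr x j := by
    intro x
    simp [Λ, LinearMap.sum_apply]
  have hΛφ : ∀ x : M, Λ (φ x) = 0 := by
    intro x
    rw [hΛ]
    simp_rw [hφrepr x]
    have h1 : ∑ j, l j * (a *ᵥ fun i => σ (b.repr x i)) j =
        dotProduct (l ᵥ* a) (fun i => σ (b.repr x i)) := by
      rw [← Matrix.dotProduct_mulVec]
      rfl
    rw [h1, hla, zero_dotProduct]
  obtain ⟨N, hNfg, hN⟩ := hcoker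
  let W : Submodule k R := N.map (Λ.restrictScalars k)
  have hW : ∀ x : M, Λ x ∈ W := by
    intro x
    obtain ⟨n, hn, x', rfl⟩ := hN x
    rw [map_add, hΛφ, add_zero]
    exact ⟨n, hn, rfl⟩
  have hWfg : W.FG := hNfg.map _
  obtain ⟨j₀, hj₀⟩ : ∃ j, l j ≠ 0 := by
    by_contra hall
    push Not at hall
    exact hl0 (funext hall)
  have hc : Λ (b j₀) = l j₀ := by
    rw [hΛ]
    simp [Finsupp.single_apply]
  let F : R →ₗ[k] W :=
    { toFun := fun r => ⟨Λ (r • b j₀), hW _⟩
      map_add' := fun r s => by
        apply Subtype.ext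
        simp [add_smul]
      map_smul' := fun c r => by
        apply Subtype.ext
        simp [smul_assoc] }
  have hFinj : Function.Injective F := by
    rw [injective_iff_map_eq_zero]
    intro r hr
    have h1 : Λ (r • b j₀) = 0 := congrArg Subtype.val hr
    rw [map_smul, hc, smul_eq_mul] at h1
    rcases mul_eq_zero.mp h1 with h | h
    · exact h
    · exact absurd h hj₀
  have : Module.Finite k W := Module.Finite.iff_fg.mpr hWfg
  exact hR (Module.Finite.of_injective F hFinj)

end Groth.Agent.S13631
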