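import Groth.Statements.S13634
import Mathlib.CategoryTheory.Sites.EpiMono
import Mathlib.CategoryTheory.Sites.SubcanonicalOver
import Mathlib.AlgebraicGeometry.Sites.Fpqc

set_option autoImplicit false
universe u
open CategoryTheory CategoryTheory.Limits MonoidalCategory CartesianMonoidalCategory MonObj AlgebraicGeometry
open MultSch

namespace Groth.Agent.S13634

section aux
variable {C : Type*} [Category C] [CartesianMonoidalCategory C]

lemma comp_tuple {M T T' : C} (f : T' ⟶ T) : ∀ {n : ℕ} (x : Fin n → (T ⟶ M)),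
    f ≫ MultSch.tuple x = MultSch.tuple (fun l => f ≫ x l)
  | 0, _ => toUnit_unique _ _
  | n + 1, x => by
    change f ≫ lift (x 0) (MultSch.tuple fun i => x i.succ) = lift (f ≫ x 0) (MultSch.tuple fun i => f ≫ x i.succ)
    rw [comp_lift, comp_tuple f]

end aux

/-- local lifting of finitely many sections along a locally surjective map -/
lemma exists_cover_lifts {S : Scheme.{u}} (K : Precoverage Scheme.{u}) [(QuotSh.J K S).Subcanonical]
    {M M'' : Over S}
    [GrpObj M] [IsCommMonObj M] [GrpObj M''] [IsCommMonObj M'']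
    (π : M ⟶ M'') [IsMonHom π] (hπ : Sheaf.IsLocallySurjective (CGrpSh.ptsMap K π))
    {T : Over S} {r : ℕ} (x : Fin r → (T ⟶ M'')) :
    ∃ R : Sieve T, R ∈ QuotSh.J K S T ∧ ∀ ⦃T' : Over S⦄ (f : T' ⟶ T), R f →
      ∃ z : Fin r → (T' ⟶ M), ∀ l, z l ≫ π = f ≫ x l := by
  classical
  let y : Fin r → (CGrpSh.pts K M'').obj.obj (Opposite.op T) := fun l => ULift.up (Additive.ofMul (x l))
  refine ⟨⨅ l : Fin r, Presheaf.imageSieve (CGrpSh.ptsMap K π).hom (y l), ?_, ?_⟩
  · rw [← Finset.inf_univ_eq_iInf]
    refine Finset.induction_on (motive := fun s => s.inf (fun l => Presheaf.imageSieve (CGrpSh.ptsMap K π).hom (y l)) ∈ QuotSh.J K S T) Finset.univ ?_ ?_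
    · rw [Finset.inf_empty]
      exact GrothendieckTopology.top_mem _ _
    · intro a s _ ih
      rw [Finset.inf_insert]
      exact GrothendieckTopology.intersection_covering _ (Presheaf.imageSieve_mem _ _ _) ih
  · intro T' f hf
    have hf' : ∀ l, (Presheaf.imageSieve (CGrpSh.ptsMap K π).hom (y l)) f := by
      intro l
      exact (iInf_le (fun l => Presheaf.imageSieve (CGrpSh.ptsMap K π).hom (y l)) l) _ hf
    choose z hz using hf'
    refine ⟨fun l => (z l).down.toMul, fun l => ?_⟩
    have := congrArg (fun w => w.down.toMul) (hz l)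
    exact this

/-- Let π : M → M'' be a homomorphism of commutative group schemes over a scheme S which is an
epimorphism of fppf sheaves, H a commutative group scheme over S and φ : (M'')^r → H a multilinear
morphism. If the composite of φ with π^r : M^r → (M'')^r is alternating, then φ is alternating. (The
published statement is for module schemes over a ring R and an R-multilinear φ; the ring action
plays no role, so this row states it for commutative group schemes, which contains that case.) -/
theorem result
    {S : Scheme.{u}} {M M'' H : Over S}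
    [GrpObj M] [IsCommMonObj M] [GrpObj M''] [IsCommMonObj M''] [GrpObj H] [IsCommMonObj H]
    (π : M ⟶ M'') [IsMonHom π] (hπ : Epi (CGrpSh.ptsMap Scheme.fppfPrecoverage π))
    {r : ℕ} (φ : MultSch.pow M'' r ⟶ H) (hφ : MultSch.IsMultilinear φ)
    (halt : ∀ (T : Over S) (x : Fin r → (T ⟶ M)) (i j : Fin r), i ≠ j → x i = x j →
      MultSch.tuple (fun l => x l ≫ π) ≫ φ = 1) :
    MultSch.IsAlternating φ := by
  have hls : Sheaf.IsLocallySurjective (CGrpSh.ptsMap Scheme.fppfPrecoverage π) :=
    (Sheaf.isLocallySurjective_iff_epi' (φ := CGrpSh.ptsMap Scheme.fppfPrecoverage π)).mpr hπ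
  intro T x i j hij hx
  obtain ⟨R, hR, hlift⟩ := exists_cover_lifts Scheme.fppfPrecoverage π hls x
  have hsep : Presieve.IsSeparated (QuotSh.J Scheme.fppfPrecoverage S) (yoneda.obj H) :=
    (GrothendieckTopology.Subcanonical.isSheaf_of_isRepresentable (yoneda.obj H)).isSeparated
  refine (hsep R hR).ext (t₁ := (MultSch.tuple x ≫ φ : T ⟶ H)) (t₂ := (1 : T ⟶ H)) ?_
  intro T' f hf
  obtain ⟨z, hz⟩ := hlift f hf
  change f ≫ MultSch.tuple x ≫ φ = f ≫ 1
  rw [MonObj.comp_one, ← Category.assoc, comp_tuple]
  have h1 := halt T' (Function.update z j (z i)) i j hij (by simp [Function.update_of_ne hij])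
  rw [← h1]
  congr 2
  funext l
  by_cases hl : l = j
  · subst hl
    rw [Function.update_self, hz, hx]
  · rw [Function.update_of_ne hl, hz]

end Groth.Agent.S13634
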