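import Groth.Statements.S1364
import Groth.Agent.Lib.Helper18.EtGR10

set_option autoImplicit false
universe u
open FlatMor

namespace Groth.Agent.S1364

open AlgebraicGeometry CategoryTheory Limits in
/-- For a flat proper morphism of finite presentation whose geometric fibres are reduced, the function
on the target counting the connected components of the geometric fibres is locally constant. -/
theorem result {X S : Scheme.{u}} (f : X ⟶ S) [IsProper f] [Flat f] [LocallyOfFinitePresentation f] [GeometricallyReduced f] :
    IsLocallyConstant (fun s : ↑S => MoreMor.nGeomConnComp f s) := by
  have hfl := Groth.Agent.Lib.helper21.GCStein.isFlatOver_structureModule f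
  exact Groth.Agent.Lib.Helper18.EtGR.isLocallyConstant_nGeomConnComp f
    (Groth.Agent.Lib.Helper18.EtGR.etaleH0_of_geometricallyReduced f) hfl

end Groth.Agent.S1364
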