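import Groth.Statements.S13642
import Mathlib

set_option autoImplicit false
open CategoryTheory
universe u
open FSch

namespace Groth.Agent.S13642

/-- Let f : 𝔛 ⟶ 𝔜 be a finite morphism of locally Noetherian formal schemes (adic, with finite morphism
of smallest levels). Then for every open U of 𝔜 the restriction f⁻¹(U) ⟶ U of f to the induced
formal schemes on U and on its inverse image is a finite morphism. -/
theorem result (𝔛 𝔜 : FSch.Sys.{u}) (h𝔛 : 𝔛.IsLocNoethFormal) (h𝔜 : 𝔜.IsLocNoethFormal)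
    (f : 𝔛 ⟶ 𝔜) (hf : FSch.IsFiniteHom f) (U : (𝔜.X 0).Opens) :
    FSch.IsFiniteHom (FSch.Hom.restrictOpen f h𝔛.1 h𝔜.1 U) := by
  obtain ⟨hadic, hfin⟩ := hf
  refine ⟨fun n => ?_, ?_⟩
  · have H := hadic n
    exact AlgebraicGeometry.Scheme.Hom.isPullback_resLE H
      (US := 𝔜.lvU h𝔜.1 (n + 1) U) (UT := 𝔜.lvU h𝔜.1 n U)
      (UX := 𝔛.lvU h𝔛.1 (n + 1) ((TopologicalSpace.Opens.map ((f : FSch.Hom 𝔛 𝔜).app 0).base).obj U))
      (𝔜.lvU_le h𝔜.1 n U) (FSch.Hom.lvU_preimage f h𝔛.1 h𝔜.1 (n + 1) U).ge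
      (UY := 𝔛.lvU h𝔛.1 n ((TopologicalSpace.Opens.map ((f : FSch.Hom 𝔛 𝔜).app 0).base).obj U))
      (by
        rw [𝔛.lvU_succ h𝔛.1 n, FSch.Hom.lvU_preimage f h𝔛.1 h𝔜.1 n U, inf_idem])
  · change AlgebraicGeometry.IsFinite (((f : FSch.Hom 𝔛 𝔜).app 0).resLE (𝔜.lvU h𝔜.1 0 U)
      (𝔛.lvU h𝔛.1 0 ((TopologicalSpace.Opens.map ((f : FSch.Hom 𝔛 𝔜).app 0).base).obj U)) _)
    rw [AlgebraicGeometry.Scheme.Hom.resLE_congr _ _ rfl
      (FSch.Hom.lvU_preimage f h𝔛.1 h𝔜.1 0 U).symm @AlgebraicGeometry.IsFinite,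
      AlgebraicGeometry.Scheme.Hom.resLE_eq_morphismRestrict]
    have : AlgebraicGeometry.IsFinite ((f : FSch.Hom 𝔛 𝔜).app 0) := hfin
    infer_instance

end Groth.Agent.S13642
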