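import Groth.Statements.S13663
import Mathlib

set_option autoImplicit false
universe u
open GrRing

namespace Groth.Agent.S13663


open DirectSum

theorem hom_coeffs {R A : Type u} [CommRing R] [CommRing A] [Algebra R A]
    (𝒜 : ℤ → Submodule R A) [GradedAlgebra 𝒜] {p : ℕ} (h : Fin p → A) (δ : Fin p → ℤ)
    (hh : ∀ i, h i ∈ 𝒜 (δ i)) {M : ℤ} {a : A}
    (ha : a ∈ 𝒜 M) (haI : a ∈ Ideal.span (Set.range h)) :
    ∃ b : Fin p → A, (∀ i, b i ∈ 𝒜 (M - δ i)) ∧ a = ∑ i, b i * h i := by
  obtain ⟨c, hc⟩ := Ideal.mem_span_range_iff_exists_fun.mp haI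
  refine ⟨fun i => (decompose 𝒜 (c i) (M - δ i) : A), fun i => SetLike.coe_mem _, ?_⟩
  have h1 : (decompose 𝒜 a M : A) = a := decompose_of_mem_same 𝒜 ha
  have h2 := map_sum (GradedRing.proj 𝒜 M) (fun i => c i * h i) Finset.univ
  simp only [GradedRing.proj_apply] at h2
  calc a = (decompose 𝒜 a M : A) := h1.symm
    _ = (decompose 𝒜 (∑ i, c i * h i) M : A) := by rw [hc]
    _ = ∑ i, (decompose 𝒜 (c i * h i) M : A) := h2
    _ = ∑ i, (decompose 𝒜 (c i) (M - δ i) : A) * h i := by
      refine Finset.sum_congr rfl fun i _ => ?_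
      have h3 := coe_decompose_mul_add_of_right_mem 𝒜 (a := c i) (i := M - δ i) (hh i)
      rwa [sub_add_cancel] at h3


/-- Let A be a commutative ring graded by the integers whose ideal generated by the homogeneous elements
of positive degree has homogeneous generators f_1, …, f_p, of positive degrees d_1, …, d_p, and let
d be a positive integer divisible by each d_i. Then A_N = A_d · A_{N-d} for every integer N > dp -
(d_1 + ⋯ + d_p). -/
theorem result {R A : Type u} [CommRing R] [CommRing A] [Algebra R A]
    (𝒜 : ℤ → Submodule R A) [GradedAlgebra 𝒜]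
    {p : ℕ} (f : Fin p → A) (deg : Fin p → ℤ) (hdeg : ∀ i, 0 < deg i) (hf : ∀ i, f i ∈ 𝒜 (deg i))
    (hgen : Ideal.span {a : A | ∃ n : ℤ, 0 < n ∧ a ∈ 𝒜 n} = Ideal.span (Set.range f))
    (d : ℤ) (hd : 0 < d) (hdvd : ∀ i, deg i ∣ d) (N : ℤ) (hN : d * p - ∑ i, deg i < N) :
    𝒜 N = 𝒜 d * 𝒜 (N - d) := by
  classical
  have hediv : ∀ i, 0 ≤ d / deg i := fun i => Int.ediv_nonneg hd.le (hdeg i).le
  set e : Fin p → ℕ := fun i => (d / deg i).toNat with he
  have hemul : ∀ i, (e i : ℤ) * deg i = d := by
    intro i
    show ((d / deg i).toNat : ℤ) * deg i = d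
    rw [Int.toNat_of_nonneg (hediv i), Int.ediv_mul_cancel (hdvd i)]
  have he1 : ∀ i, 1 ≤ e i := by
    intro i
    by_contra hlt
    have h0 : e i = 0 := by omega
    have h := hemul i
    rw [h0] at h
    simp at h
    omega
  have hpos : ∀ M : ℤ, 0 < M → ∀ a ∈ 𝒜 M, a ∈ Ideal.span (Set.range f) := by
    intro M hM a ha
    rw [← hgen]
    exact Ideal.subset_span ⟨M, hM, ha⟩
  have claim : ∀ n : ℕ, ∀ ε : Fin p → ℕ, (∀ i, 1 ≤ ε i) → ∑ i, ε i = n → ∀ M : ℤ,
      ∑ i, ((ε i : ℤ) - 1) * deg i < M → ∀ a ∈ 𝒜 M,
      a ∈ Ideal.span (Set.range fun i => f i ^ ε i) := by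
    intro n
    induction n using Nat.strong_induction_on with
    | _ n ih =>
      intro ε hε hsum M hM a ha
      by_cases hall : ∀ i, ε i = 1
      · have hr : (fun i => f i ^ ε i) = f := by
          funext i
          rw [hall i, pow_one]
        rw [hr]
        refine hpos M ?_ a ha
        have h0 : ∑ i, ((ε i : ℤ) - 1) * deg i = 0 := by
          refine Finset.sum_eq_zero fun i _ => ?_
          rw [hall i]; simp
        omega
      · push Not at hall
        obtain ⟨j, hj⟩ := hall
        have hj2 : 2 ≤ ε j := by have := hε j; omega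
        have key : ∀ v : ℕ, ∑ i, (((Function.update ε j v i : ℕ) : ℤ) - 1) * deg i =
            ∑ i, ((ε i : ℤ) - 1) * deg i + ((v : ℤ) - ε j) * deg j := by
          intro v
          rw [← Finset.add_sum_erase _ _ (Finset.mem_univ j),
            ← Finset.add_sum_erase _ (fun i => ((ε i : ℤ) - 1) * deg i) (Finset.mem_univ j)]
          rw [Function.update_self]
          have : ∑ i ∈ Finset.univ.erase j, (((Function.update ε j v i : ℕ) : ℤ) - 1) * deg i
              = ∑ i ∈ Finset.univ.erase j, ((ε i : ℤ) - 1) * deg i :=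
            Finset.sum_congr rfl fun i hi => by
              rw [Function.update_of_ne (Finset.ne_of_mem_erase hi)]
          rw [this]
          ring
        have hlt : ∀ v : ℕ, v < ε j → ∑ i, Function.update ε j v i < n := by
          intro v hv
          rw [← hsum]
          refine Finset.sum_lt_sum (fun i _ => ?_) ⟨j, Finset.mem_univ j, ?_⟩
          · by_cases hij : i = j
            · subst hij; rw [Function.update_self]; exact hv.le
            · rw [Function.update_of_ne hij]
          · rw [Function.update_self]; exact hv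
        have hge : ∀ v : ℕ, 1 ≤ v → ∀ i, 1 ≤ Function.update ε j v i := by
          intro v hv i
          by_cases hij : i = j
          · subst hij; rw [Function.update_self]; exact hv
          · rw [Function.update_of_ne hij]; exact hε i
        have hdj := hdeg j
        have h1 := ih _ (hlt (ε j - 1) (by omega)) (Function.update ε j (ε j - 1))
          (hge _ (by omega)) rfl M (by
            rw [key]
            have : ((ε j - 1 : ℕ) : ℤ) - ε j = -1 := by omega
            rw [this]; linarith) a ha
        have hmem : ∀ (η : Fin p → ℕ) (i : Fin p), f i ^ η i ∈ 𝒜 ((η i : ℤ) * deg i) := by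
          intro η i
          have h := SetLike.pow_mem_graded (η i) (hf i)
          rwa [nsmul_eq_mul] at h
        obtain ⟨b, hb, hab⟩ := hom_coeffs 𝒜
          (fun i => f i ^ (Function.update ε j (ε j - 1) i))
          (fun i => ((Function.update ε j (ε j - 1) i : ℕ) : ℤ) * deg i)
          (hmem _) ha h1
        rw [hab]
        refine Ideal.sum_mem _ fun i _ => ?_
        by_cases hij : i = j
        · subst hij
          have hbi := hb i
          simp only [Function.update_self] at hbi ⊢
          have h2 := ih _ (hlt 1 (by omega)) (Function.update ε i 1) (hge 1 le_rfl) rfl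
            (M - ((ε i - 1 : ℕ) : ℤ) * deg i) (by
              rw [key]
              push_cast [Nat.cast_sub (hε i)]
              linarith) (b i) hbi
          obtain ⟨c, hc⟩ := Ideal.mem_span_range_iff_exists_fun.mp h2
          rw [← hc, Finset.sum_mul]
          refine Ideal.sum_mem _ fun l _ => ?_
          rw [mul_assoc]
          refine Ideal.mul_mem_left _ _ ?_
          show f l ^ Function.update ε i 1 l * f i ^ (ε i - 1) ∈ _
          by_cases hli : l = i
          · subst hli
            rw [Function.update_self, pow_one, ← pow_succ', Nat.sub_add_cancel (hε l)]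
            exact Ideal.subset_span ⟨l, rfl⟩
          · rw [Function.update_of_ne hli]
            exact Ideal.mul_mem_right _ _ (Ideal.subset_span ⟨l, rfl⟩)
        · show b i * f i ^ Function.update ε j (ε j - 1) i ∈ _
          rw [Function.update_of_ne hij]
          exact Ideal.mul_mem_left _ _ (Ideal.subset_span ⟨i, rfl⟩)
  have hbound : ∑ i, ((e i : ℤ) - 1) * deg i = d * p - ∑ i, deg i := by
    have : ∀ i, ((e i : ℤ) - 1) * deg i = d - deg i := fun i => by
      rw [sub_mul, hemul i, one_mul]
    rw [Finset.sum_congr rfl fun i _ => this i, Finset.sum_sub_distrib, Finset.sum_const,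
      Finset.card_univ, Fintype.card_fin, nsmul_eq_mul, mul_comm (p : ℤ) d]
  have hg : ∀ i, f i ^ e i ∈ 𝒜 d := by
    intro i
    have h := SetLike.pow_mem_graded (e i) (hf i)
    rwa [nsmul_eq_mul, hemul i] at h
  refine le_antisymm ?_ ?_
  · intro a ha
    have haJ := claim _ e he1 rfl N (by rw [hbound]; exact hN) a ha
    obtain ⟨b, hb, hab⟩ := hom_coeffs 𝒜 (fun i => f i ^ e i) (fun _ => d) hg ha haJ
    rw [hab]
    refine Submodule.sum_mem _ fun i _ => ?_
    rw [mul_comm (b i)]
    exact Submodule.mul_mem_mul (hg i) (hb i)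
  · refine Submodule.mul_le.mpr fun x hx y hy => ?_
    have h := SetLike.mul_mem_graded hx hy
    rwa [add_sub_cancel] at h


end Groth.Agent.S13663
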