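import Groth.Statements.S13664
import Mathlib
import Groth.Agent.S13663

set_option autoImplicit false
universe u
open GrRing

namespace Groth.Agent.S13664

open DirectSum

variable {R A : Type u} [CommRing R] [CommRing A] [Algebra R A] (𝒜 : ℤ → Submodule R A)
  [GradedAlgebra 𝒜]

theorem pow_le_graded' (d : ℤ) (n : ℕ) : (𝒜 d) ^ n ≤ 𝒜 ((n : ℤ) * d) := by
  induction n with
  | zero =>
    rw [pow_zero, Nat.cast_zero, zero_mul, Submodule.one_le]
    exact SetLike.GradedOne.one_mem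
  | succ n ih =>
    rw [pow_succ, Submodule.mul_le]
    intro a ha b hb
    have h := SetLike.GradedMul.mul_mem (ih ha) hb
    have e : ((n + 1 : ℕ) : ℤ) * d = (n : ℤ) * d + d := by push_cast; ring
    rw [e]; exact h

theorem gam_of_pow_kill {p : ℕ} (f : Fin p → A) {M : Type u} [AddCommGroup M] [Module A M]
    (x : M) (m : Fin p → ℕ) (h : ∀ i, f i ^ m i • x = 0) :
    x ∈ GrLC.gam (Ideal.span (Set.range f)) M := by
  have hle : Ideal.span (Set.range f) ≤ (Ideal.torsionOf A M x).radical := by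
    rw [Ideal.span_le]
    rintro _ ⟨i, rfl⟩
    exact Ideal.mem_radical_iff.mpr ⟨m i, (Ideal.mem_torsionOf_iff x _).mpr (h i)⟩
  obtain ⟨N, hN⟩ := Ideal.exists_pow_le_of_le_radical_of_fg hle
    (Submodule.fg_span (Set.finite_range f))
  show ∃ n : ℕ, ∀ r ∈ Ideal.span (Set.range f) ^ n, r • x = 0
  exact ⟨N, fun r hr => (Ideal.mem_torsionOf_iff x r).mp (hN hr)⟩

theorem deg_le_pow {p : ℕ} (f : Fin p → A) (deg : Fin p → ℤ) (hdeg : ∀ i, 0 < deg i)
    (hf : ∀ i, f i ∈ 𝒜 (deg i))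
    (hgen : Ideal.span {a : A | ∃ n : ℤ, 0 < n ∧ a ∈ 𝒜 n} = Ideal.span (Set.range f)) (N : ℕ) :
    ∃ s : ℤ, ∀ n : ℤ, s ≤ n → ∀ a ∈ 𝒜 n, a ∈ Ideal.span (Set.range f) ^ N := by
  induction N with
  | zero => exact ⟨0, fun n _ a _ => by rw [pow_zero, Ideal.one_eq_top]; trivial⟩
  | succ N ih =>
    obtain ⟨s, hs⟩ := ih
    refine ⟨max (s + ∑ i, deg i) 1, fun n hn a ha => ?_⟩
    have hn1 : 0 < n := by have := le_max_right (s + ∑ i, deg i) 1; omega
    have haI : a ∈ Ideal.span (Set.range f) := by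
      rw [← hgen]; exact Ideal.subset_span ⟨n, hn1, ha⟩
    obtain ⟨b, hb, hab⟩ := Groth.Agent.S13663.hom_coeffs 𝒜 f deg hf ha haI
    rw [hab]
    refine Ideal.sum_mem _ (fun i _ => ?_)
    rw [pow_succ]
    refine Ideal.mul_mem_mul (hs (n - deg i) ?_ (b i) (hb i)) (Ideal.subset_span ⟨i, rfl⟩)
    have hsum : deg i ≤ ∑ j, deg j :=
      Finset.single_le_sum (fun j _ => (hdeg j).le) (Finset.mem_univ i)
    have := le_max_left (s + ∑ i, deg i) 1
    omega



/-- Let A be a commutative ring graded by the integers whose ideal I generated by the homogeneous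
elements of positive degree has homogeneous generators f_1, …, f_p, of positive degrees d_1, …, d_p,
let d be a positive integer divisible by each d_i, and let x be an element of an A-module M. The
following are equivalent: x is annihilated by some power of I; x is annihilated by (A_d)^n for all
sufficiently large n; there is an integer s such that A_n x = 0 for all n ≥ s. (The published
statement is for a homogeneous element of a graded module; this row drops both the grading of M and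
the homogeneity of x, which play no role.) -/
theorem result {R A : Type u} [CommRing R] [CommRing A] [Algebra R A]
    (𝒜 : ℤ → Submodule R A) [GradedAlgebra 𝒜]
    {p : ℕ} (f : Fin p → A) (deg : Fin p → ℤ) (hdeg : ∀ i, 0 < deg i) (hf : ∀ i, f i ∈ 𝒜 (deg i))
    (hgen : Ideal.span {a : A | ∃ n : ℤ, 0 < n ∧ a ∈ 𝒜 n} = Ideal.span (Set.range f))
    (d : ℤ) (hd : 0 < d) (hdvd : ∀ i, deg i ∣ d)
    {M : Type u} [AddCommGroup M] [Module A M] (x : M) :
    [x ∈ GrLC.gam (Ideal.span (Set.range f)) M,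
     ∃ n₀ : ℕ, ∀ n : ℕ, n₀ ≤ n → ∀ r ∈ (𝒜 d) ^ n, r • x = 0,
     ∃ s : ℤ, ∀ n : ℤ, s ≤ n → ∀ r ∈ 𝒜 n, r • x = 0].TFAE := by
  have hediv : ∀ i, 0 ≤ d / deg i := fun i => Int.ediv_nonneg hd.le (hdeg i).le
  have hemul : ∀ i, (((d / deg i).toNat : ℕ) : ℤ) * deg i = d := by
    intro i
    rw [Int.toNat_of_nonneg (hediv i), Int.ediv_mul_cancel (hdvd i)]
  have hg : ∀ i, f i ^ (d / deg i).toNat ∈ 𝒜 d := by
    intro i
    have h := SetLike.pow_mem_graded (d / deg i).toNat (hf i)
    rwa [nsmul_eq_mul, hemul i] at h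
  tfae_have 1 → 3 := by
    rintro ⟨N, hN⟩
    obtain ⟨s, hs⟩ := deg_le_pow 𝒜 f deg hdeg hf hgen N
    exact ⟨s, fun n hn r hr => hN r (hs n hn r hr)⟩
  tfae_have 3 → 2 := by
    rintro ⟨s, hs⟩
    refine ⟨s.toNat, fun n hn r hr => ?_⟩
    have hr' := pow_le_graded' 𝒜 d n hr
    refine hs ((n : ℤ) * d) ?_ r hr'
    have h1 : s ≤ (s.toNat : ℤ) := Int.self_le_toNat s
    have h2 : (s.toNat : ℤ) ≤ n := by exact_mod_cast hn
    have h3 : (n : ℤ) ≤ n * d :=
      le_mul_of_one_le_right (Int.natCast_nonneg n) (by omega)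
    omega
  tfae_have 2 → 1 := by
    rintro ⟨n₀, hn₀⟩
    refine gam_of_pow_kill f x (fun i => (d / deg i).toNat * n₀) (fun i => ?_)
    refine hn₀ n₀ le_rfl _ ?_
    rw [pow_mul]
    exact Submodule.pow_mem_pow _ (hg i) n₀
  tfae_finish


end Groth.Agent.S13664
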