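import Groth.Statements.S13665
import Mathlib

set_option autoImplicit false
universe u
open GrRing

namespace Groth.Agent.S13665

section
variable {R A : Type u} [CommRing R] [CommRing A] [Algebra R A] (𝒜 : ℤ → Submodule R A) [GradedAlgebra 𝒜]

/-- component extraction -/
theorem comp_of_sum (t : Finset A) (deg : A → ℤ) (hdeg : ∀ x ∈ t, x ∈ 𝒜 (deg x)) (f : A → A) (m : ℤ)
    (y : A) (hy : y ∈ 𝒜 m) (h : ∑ x ∈ t, f x • x = y) :
    ∃ g : A → A, (∀ x ∈ t, g x ∈ 𝒜 (m - deg x)) ∧ y = ∑ x ∈ t, g x * x := by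
  refine ⟨fun x => ((DirectSum.decompose 𝒜 (f x) (m - deg x) : 𝒜 _) : A), fun x _ => SetLike.coe_mem _, ?_⟩
  have h1 := congrArg (GradedRing.proj 𝒜 m) h
  rw [map_sum, GradedRing.proj_apply, DirectSum.decompose_of_mem_same _ hy] at h1
  rw [← h1]
  refine Finset.sum_congr rfl fun x hx => ?_
  rw [GradedRing.proj_apply, smul_eq_mul]
  have h2 := DirectSum.coe_decompose_mul_add_of_right_mem 𝒜 (i := m - deg x) (a := f x) (hdeg x hx)
  rw [sub_add_cancel] at h2
  exact h2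

variable (H : ∀ I : Ideal A, I.IsHomogeneous 𝒜 → I.FG)

include H in
theorem piece_fg (n : ℤ) : ∃ t : Finset A, (↑t ⊆ (𝒜 n : Set A)) ∧
    ∀ y ∈ 𝒜 n, y ∈ Submodule.span (𝒜 0) (t : Set A) := by
  have hJ : (Ideal.span (𝒜 n : Set A)).IsHomogeneous 𝒜 :=
    Ideal.homogeneous_span 𝒜 _ (fun x hx => ⟨n, hx⟩)
  obtain ⟨t, ht, hspan⟩ := (Submodule.fg_span_iff_fg_span_finset_subset _).mp (H _ hJ)
  refine ⟨t, ht, fun y hy => ?_⟩
  have hy' : y ∈ Submodule.span A (t : Set A) := by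
    rw [← hspan]; exact Submodule.subset_span hy
  obtain ⟨f, -, hf⟩ := Submodule.mem_span_finset.mp hy'
  obtain ⟨g, hg, hy2⟩ := comp_of_sum 𝒜 t (fun _ => n) (fun x hx => ht hx) f n y hy hf
  rw [hy2]
  refine Submodule.sum_mem _ fun x hx => ?_
  have hgx : g x ∈ 𝒜 0 := by simpa using hg x hx
  have : g x * x = (⟨g x, hgx⟩ : 𝒜 0) • x := by
    rw [Algebra.smul_def]; rfl
  rw [this]
  exact Submodule.smul_mem _ _ (Submodule.subset_span hx)

include H in
theorem zero_noeth : IsNoetherianRing (𝒜 0) := by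
  rw [isNoetherianRing_iff_ideal_fg]
  intro I₀
  have hJ : (Ideal.span ((fun x : 𝒜 0 => (x : A)) '' (I₀ : Set (𝒜 0)))).IsHomogeneous 𝒜 :=
    Ideal.homogeneous_span 𝒜 _ (by rintro _ ⟨x, _, rfl⟩; exact ⟨0, x.2⟩)
  obtain ⟨t, ht, hspan⟩ := (Submodule.fg_span_iff_fg_span_finset_subset _).mp (H _ hJ)
  classical
  -- pull back `t` to a finset of `𝒜 0`
  have ht0 : ∀ x ∈ t, x ∈ 𝒜 0 := by
    intro x hx
    obtain ⟨z, _, rfl⟩ := ht hx
    exact z.2
  let t₀ : Finset (𝒜 0) := t.attach.image (fun x => ⟨x.1, ht0 x.1 x.2⟩)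
  refine ⟨t₀, le_antisymm ?_ ?_⟩
  · rw [Ideal.span_le]
    intro z hz
    simp only [t₀, Finset.coe_image, Set.mem_image, Finset.mem_coe, Finset.mem_attach, true_and] at hz
    obtain ⟨x, rfl⟩ := hz
    obtain ⟨z, hz, hzx⟩ := ht x.2
    have : (⟨x.1, ht0 x.1 x.2⟩ : 𝒜 0) = z := Subtype.ext hzx.symm
    rw [this]; exact hz
  · intro y hy
    have hy' : (y : A) ∈ Submodule.span A (t : Set A) := by
      rw [← hspan]; exact Submodule.subset_span ⟨y, hy, rfl⟩
    obtain ⟨f, -, hf⟩ := Submodule.mem_span_finset.mp hy'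
    obtain ⟨g, hg, hy2⟩ := comp_of_sum 𝒜 t (fun _ => 0) (fun x hx => ht0 x hx) f 0 y y.2 hf
    have hg0 : ∀ x ∈ t, g x ∈ 𝒜 0 := fun x hx => by simpa using hg x hx
    have : y = ∑ x ∈ t.attach, (⟨g x.1, hg0 x.1 x.2⟩ : 𝒜 0) * ⟨x.1, ht0 x.1 x.2⟩ := by
      apply Subtype.ext
      rw [hy2, ← Finset.sum_attach]
      simp
    rw [this]
    refine Ideal.sum_mem _ fun x _ => Ideal.mul_mem_left _ _ (Ideal.subset_span ?_)
    simp only [t₀, Finset.coe_image, Set.mem_image, Finset.mem_coe, Finset.mem_attach, true_and]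
    exact ⟨x, rfl⟩


include H in
theorem half_fg (ε : ℤ) :
    (Algebra.adjoin (𝒜 0) {a : A | ∃ n : ℕ, a ∈ 𝒜 (ε * n)}).FG := by
  classical
  choose tn htn_sub htn_span using piece_fg 𝒜 H
  have hJ : (Ideal.span {a : A | ∃ n : ℕ, 0 < n ∧ a ∈ 𝒜 (ε * n)}).IsHomogeneous 𝒜 :=
    Ideal.homogeneous_span 𝒜 _ (by rintro x ⟨n, _, hx⟩; exact ⟨_, hx⟩)
  obtain ⟨t, ht, hspan⟩ := (Submodule.fg_span_iff_fg_span_finset_subset _).mp (H _ hJ)
  let k : A → ℕ := fun x => if h : ∃ n : ℕ, 0 < n ∧ x ∈ 𝒜 (ε * n) then h.choose else 1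
  have hk : ∀ x ∈ t, 0 < k x ∧ x ∈ 𝒜 (ε * k x) := by
    intro x hx
    have h : ∃ n : ℕ, 0 < n ∧ x ∈ 𝒜 (ε * n) := ht hx
    simp only [k, dif_pos h]
    exact h.choose_spec
  let d : ℕ := t.sup k + 1
  let G : Finset A := t ∪ (Finset.range d).biUnion (fun n => tn (ε * n))
  have hG_sub : (G : Set A) ⊆ {a : A | ∃ n : ℕ, a ∈ 𝒜 (ε * n)} := by
    intro x hx
    simp only [G, Finset.coe_union, Finset.coe_biUnion, Set.mem_union, Finset.mem_coe,
      Set.mem_iUnion] at hx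
    rcases hx with hx | ⟨n, _, hx⟩
    · exact ⟨k x, (hk x hx).2⟩
    · exact ⟨n, htn_sub _ hx⟩
  have claim : ∀ n : ℕ, ∀ y ∈ 𝒜 (ε * n), y ∈ Algebra.adjoin (𝒜 0) (G : Set A) := by
    intro n
    induction n using Nat.strong_induction_on with
    | _ n ih =>
      intro y hy
      by_cases hn : n < d
      · have h1 := htn_span (ε * n) y hy
        have h2 : Submodule.span (𝒜 0) (tn (ε * n) : Set A) ≤
            Subalgebra.toSubmodule (Algebra.adjoin (𝒜 0) (G : Set A)) := by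
          rw [Submodule.span_le]
          intro x hx
          apply Algebra.subset_adjoin
          simp only [G, Finset.coe_union, Finset.coe_biUnion, Set.mem_union, Finset.mem_coe,
            Set.mem_iUnion]
          exact Or.inr ⟨n, Finset.mem_range.mpr hn, hx⟩
        exact h2 h1
      · rw [not_lt] at hn
        have hn0 : 0 < n := by omega
        have hy' : y ∈ Submodule.span A (t : Set A) := by
          rw [← hspan]; exact Submodule.subset_span ⟨n, hn0, hy⟩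
        obtain ⟨f, -, hf⟩ := Submodule.mem_span_finset.mp hy'
        obtain ⟨g, hg, hy2⟩ := comp_of_sum 𝒜 t (fun x => ε * k x) (fun x hx => (hk x hx).2) f
          (ε * n) y hy hf
        rw [hy2]
        refine Subalgebra.sum_mem _ fun x hx => Subalgebra.mul_mem _ ?_ ?_
        · have hkx : k x ≤ t.sup k := Finset.le_sup hx
          have hkx0 := (hk x hx).1
          have h3 : ε * (n : ℤ) - ε * (k x : ℤ) = ε * ((n - k x : ℕ) : ℤ) := by
            rw [Nat.cast_sub (by omega)]; ring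
          have h4 : g x ∈ 𝒜 (ε * (n : ℤ) - ε * (k x : ℤ)) := hg x hx
          rw [h3] at h4
          exact ih (n - k x) (by omega) _ h4
        · apply Algebra.subset_adjoin
          simp only [G, Finset.coe_union, Set.mem_union, Finset.mem_coe]
          exact Or.inl hx
  refine ⟨G, le_antisymm (Algebra.adjoin_mono hG_sub) ?_⟩
  apply Algebra.adjoin_le
  rintro y ⟨n, hy⟩
  exact claim n y hy

end

theorem main {R A : Type u} [CommRing R] [CommRing A] [Algebra R A]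
    (𝒜 : ℤ → Submodule R A) [GradedAlgebra 𝒜] :
    [IsNoetherianRing A,
     ∀ I : Ideal A, I.IsHomogeneous 𝒜 → I.FG,
     IsNoetherianRing (𝒜 0) ∧ (Algebra.adjoin (𝒜 0) {a : A | ∃ n : ℤ, 0 ≤ n ∧ a ∈ 𝒜 n}).FG ∧
       (Algebra.adjoin (𝒜 0) {a : A | ∃ n : ℤ, n ≤ 0 ∧ a ∈ 𝒜 n}).FG,
     IsNoetherianRing (𝒜 0) ∧ Algebra.FiniteType (𝒜 0) A].TFAE := by
  tfae_have 1 → 2 := fun h I _ => (isNoetherianRing_iff_ideal_fg A).mp h I
  tfae_have 2 → 3 := by
    intro H
    refine ⟨zero_noeth 𝒜 H, ?_, ?_⟩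
    · have e : {a : A | ∃ n : ℤ, 0 ≤ n ∧ a ∈ 𝒜 n} = {a : A | ∃ n : ℕ, a ∈ 𝒜 (1 * n)} := by
        ext a
        constructor
        · rintro ⟨n, hn, ha⟩
          refine ⟨n.toNat, ?_⟩
          rwa [one_mul, Int.toNat_of_nonneg hn]
        · rintro ⟨n, ha⟩
          exact ⟨n, Int.natCast_nonneg n, by simpa using ha⟩
      rw [e]; exact half_fg 𝒜 H 1
    · have e : {a : A | ∃ n : ℤ, n ≤ 0 ∧ a ∈ 𝒜 n} = {a : A | ∃ n : ℕ, a ∈ 𝒜 (-1 * n)} := by
        ext a
        constructor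
        · rintro ⟨n, hn, ha⟩
          refine ⟨(-n).toNat, ?_⟩
          rw [Int.toNat_of_nonneg (by omega)]
          simpa using ha
        · rintro ⟨n, ha⟩
          exact ⟨-1 * n, by have := Int.natCast_nonneg n; omega, ha⟩
      rw [e]; exact half_fg 𝒜 H (-1)
  tfae_have 3 → 4 := by
    rintro ⟨h0, hp, hm⟩
    refine ⟨h0, ⟨?_⟩⟩
    have h1 := Subalgebra.FG.sup hp hm
    rw [← Algebra.adjoin_union] at h1
    convert h1
    symm
    rw [eq_top_iff]
    rintro a -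
    induction a using DirectSum.Decomposition.inductionOn 𝒜 with
    | zero => exact Subalgebra.zero_mem _
    | @homogeneous n a =>
      apply Algebra.subset_adjoin
      rcases le_total 0 n with hn | hn
      · exact Or.inl ⟨n, hn, a.2⟩
      · exact Or.inr ⟨n, hn, a.2⟩
    | add a b ha hb => exact Subalgebra.add_mem _ ha hb
  tfae_have 4 → 1 := by
    rintro ⟨h0, hft⟩
    exact Algebra.FiniteType.isNoetherianRing (𝒜 0) A
  tfae_finish




/-- For a commutative ring A graded by the integers, with degree-zero subring A_0, the following are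
equivalent: A is Noetherian; each homogeneous ideal of A has a finite generating set; A_0 is
Noetherian and the subalgebras A_{≥0}, A_{≤0} are each of finite type over A_0; A_0 is Noetherian
and A is an A_0-algebra of finite type. -/
theorem result {R A : Type u} [CommRing R] [CommRing A] [Algebra R A]
    (𝒜 : ℤ → Submodule R A) [GradedAlgebra 𝒜] :
    [IsNoetherianRing A,
     ∀ I : Ideal A, I.IsHomogeneous 𝒜 → I.FG,
     IsNoetherianRing (𝒜 0) ∧ (Algebra.adjoin (𝒜 0) {a : A | ∃ n : ℤ, 0 ≤ n ∧ a ∈ 𝒜 n}).FG ∧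
       (Algebra.adjoin (𝒜 0) {a : A | ∃ n : ℤ, n ≤ 0 ∧ a ∈ 𝒜 n}).FG,
     IsNoetherianRing (𝒜 0) ∧ Algebra.FiniteType (𝒜 0) A].TFAE := by
  exact main 𝒜

end Groth.Agent.S13665
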