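import Groth.Statements.S13682
import Mathlib

set_option autoImplicit false
universe u v w
open scoped BigOperators
open BTGrp

namespace Groth.Agent.S13682


open scoped TensorProduct

section Aux

variable {A : Type*} [CommRing A] {r : ℕ} {M : Fin r → Type*} {N : Type*}
  [∀ i, AddCommGroup (M i)] [∀ i, Module A (M i)] [AddCommGroup N] [Module A N]

/-- the hybrid vector -/
def hyb (u z v : ∀ k, M k) (i : Fin r) : ∀ k, M k :=
  fun k => if k < i then u k else if k = i then z k else v k

/-- the two-block vector -/
def base (u v : ∀ k, M k) (i : ℕ) : ∀ k, M k :=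
  fun k => if (k : ℕ) < i then u k else v k

lemma hyb_eq_update (u z v : ∀ k, M k) (i : Fin r) :
    hyb u z v i = Function.update (base u v i) i (z i) := by
  funext k
  by_cases hk : k = i
  · subst hk
    rw [Function.update_self]
    unfold hyb
    rw [if_neg (lt_irrefl k), if_pos rfl]
  · rw [Function.update_of_ne hk]
    unfold hyb base
    rw [if_neg hk]
    by_cases h : k < i
    · rw [if_pos h, if_pos (Fin.lt_def.mp h)]
    · rw [if_neg h, if_neg (fun h' => h (Fin.lt_def.mpr h'))]

lemma base_succ (u v : ∀ k, M k) (i : Fin r) :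
    base u v ((i : ℕ) + 1) = Function.update (base u v i) i (u i) := by
  funext k
  by_cases hk : k = i
  · subst hk
    rw [Function.update_self]
    unfold base
    rw [if_pos (Nat.lt_succ_self _)]
  · rw [Function.update_of_ne hk]
    unfold base
    have hne : (k : ℕ) ≠ (i : ℕ) := fun h => hk (Fin.ext h)
    by_cases h : (k : ℕ) < (i : ℕ)
    · rw [if_pos h, if_pos (by omega)]
    · rw [if_neg h, if_neg (by omega)]

lemma base_self (u v : ∀ k, M k) (i : Fin r) :
    Function.update (base u v i) i (v i) = base u v i := by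
  have h : base u v (i : ℕ) i = v i := if_neg (lt_irrefl _)
  rw [← h, Function.update_eq_self]

lemma tele (φ : MultilinearMap A M N) (u v : ∀ k, M k) :
    ∑ i : Fin r, φ (hyb u (fun k => u k - v k) v i) = φ u - φ v := by
  have h1 : ∀ i : Fin r, φ (hyb u (fun k => u k - v k) v i) =
      φ (base u v ((i : ℕ) + 1)) - φ (base u v (i : ℕ)) := by
    intro i
    rw [hyb_eq_update, MultilinearMap.map_update_sub, ← base_succ, base_self]
  rw [Finset.sum_congr rfl (fun i _ => h1 i),
    Fin.sum_univ_eq_sum_range (fun i => φ (base u v (i + 1)) - φ (base u v i)) r,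
    Finset.sum_range_sub (fun i => φ (base u v i))]
  have hr : base u v r = u := by
    funext k
    unfold base
    rw [if_pos k.isLt]
  have h0 : base u v 0 = v := by
    funext k
    unfold base
    rw [if_neg (Nat.not_lt_zero _)]
  rw [hr, h0]

lemma smul_hyb (φ : MultilinearMap A M N) (c : A) (u z v : ∀ k, M k) (i : Fin r) :
    c • φ (hyb u z v i) = φ (hyb u (fun k => c • z k) v i) := by
  rw [hyb_eq_update, hyb_eq_update, MultilinearMap.map_update_smul]

lemma sum_hyb (φ : MultilinearMap A M N) {ι : Type*} (s : Finset ι) (u v : ∀ k, M k)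
    (z : ι → ∀ k, M k) (i : Fin r) :
    ∑ j ∈ s, φ (hyb u (z j) v i) = φ (hyb u (fun k => ∑ j ∈ s, z j k) v i) := by
  rw [hyb_eq_update, MultilinearMap.map_update_sum]
  refine Finset.sum_congr rfl (fun j _ => ?_)
  rw [hyb_eq_update]

/-- the identity after multiplying by `α` -/
lemma smul_identity (α : A) (φ : MultilinearMap A M N) (n : ℕ)
    (y w : ∀ i, ℕ → M i) (hw : ∀ i, ∀ j < n, w i (j + 1) = w i j + α • y i j) :
    α • (∑ i : Fin r, ∑ j ∈ Finset.range n,
        φ (hyb (fun k => w k (j + 1)) (fun k => y k j) (fun k => w k j) i)) =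
      α • ∑ i : Fin r, ∑ j ∈ Finset.range n,
        φ (hyb (fun k => w k n) (fun k => y k j) (fun k => w k 0) i) := by
  have hL : α • (∑ i : Fin r, ∑ j ∈ Finset.range n,
        φ (hyb (fun k => w k (j + 1)) (fun k => y k j) (fun k => w k j) i)) =
      φ (fun k => w k n) - φ (fun k => w k 0) := by
    rw [Finset.sum_comm, Finset.smul_sum]
    rw [← Finset.sum_range_sub (fun j => φ (fun k => w k j)) n]
    refine Finset.sum_congr rfl (fun j hj => ?_)
    have hj' : j < n := Finset.mem_range.mp hj
    rw [Finset.smul_sum, ← tele φ (fun k => w k (j + 1)) (fun k => w k j)]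
    refine Finset.sum_congr rfl (fun i _ => ?_)
    rw [smul_hyb]
    congr 2
    funext k
    rw [hw k j hj', add_sub_cancel_left]
  have hR : α • (∑ i : Fin r, ∑ j ∈ Finset.range n,
        φ (hyb (fun k => w k n) (fun k => y k j) (fun k => w k 0) i)) =
      φ (fun k => w k n) - φ (fun k => w k 0) := by
    rw [Finset.smul_sum, ← tele φ (fun k => w k n) (fun k => w k 0)]
    refine Finset.sum_congr rfl (fun i _ => ?_)
    rw [Finset.smul_sum]
    have h1 : ∀ j ∈ Finset.range n,
        α • φ (hyb (fun k => w k n) (fun k => y k j) (fun k => w k 0) i) =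
          φ (hyb (fun k => w k n) (fun k => α • y k j) (fun k => w k 0) i) := by
      intro j _
      rw [smul_hyb]
    rw [Finset.sum_congr rfl h1,
      sum_hyb φ (Finset.range n) (fun k => w k n) (fun k => w k 0) (fun j k => α • y k j) i]
    congr 2
    funext k
    rw [← Finset.sum_range_sub (fun j => w k j) n]
    refine Finset.sum_congr rfl (fun j hj => ?_)
    rw [hw k j (Finset.mem_range.mp hj), add_sub_cancel_left]
  rw [hL, hR]

end Aux

section Lift

variable {A : Type u} [CommRing A]

/-- generic path in the free module -/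
noncomputable def wgen (α : A) : ℕ → (ℕ →₀ A)
  | 0 => Finsupp.single 0 1
  | j + 1 => wgen α j + α • Finsupp.single (j + 1) 1

/-- generic step in the free module -/
noncomputable def ygen (j : ℕ) : ℕ →₀ A := Finsupp.single (j + 1) 1

lemma free_identity (α : A) (hα : α ∈ nonZeroDivisors A) (r n : ℕ) :
    (∑ i : Fin r, ∑ j ∈ Finset.range n,
        PiTensorProduct.tprod A (hyb (M := fun _ : Fin r => (ℕ →₀ A))
          (fun _ => wgen α (j + 1)) (fun _ => ygen j) (fun _ => wgen α j) i)) =
      ∑ i : Fin r, ∑ j ∈ Finset.range n,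
        PiTensorProduct.tprod A (hyb (M := fun _ : Fin r => (ℕ →₀ A))
          (fun _ => wgen α n) (fun _ => ygen j) (fun _ => wgen α 0) i) := by
  have hfree : Module.Free A (⨂[A] _ : Fin r, (ℕ →₀ A)) :=
    Module.Free.of_basis (Basis.piTensorProduct (fun _ : Fin r => Finsupp.basisSingleOne))
  have hreg := Module.Flat.isSMulRegular_of_nonZeroDivisors
    (M := ⨂[A] _ : Fin r, (ℕ →₀ A)) hα
  apply hreg
  exact smul_identity (M := fun _ : Fin r => (ℕ →₀ A)) α (PiTensorProduct.tprod A) n
    (fun _ j => ygen j) (fun _ j => wgen α j) (fun _ j _ => rfl)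

end Lift


/-- Let A be a commutative ring, α ∈ A a non-zero-divisor, M_1, …, M_r and N modules over A and φ : M_1
× ⋯ × M_r → N an A-multilinear map. Let n be a natural number and let y_{i,j} (j < n) and w_{i,j} (j
≤ n) be elements of M_i with w_{i,j+1} = w_{i,j} + α y_{i,j} for all i and all j < n. Then Σ_i
Σ_{j<n} φ(w_{1,j+1}, …, w_{i-1,j+1}, y_{i,j}, w_{i+1,j}, …, w_{r,j}) = Σ_i Σ_{j<n} φ(w_{1,n}, …,
w_{i-1,n}, y_{i,j}, w_{i+1,0}, …, w_{r,0}). (The published statement takes n ≥ 1; for n = 0 both
sides are empty sums. The families y, w are indexed by all natural numbers here and only the indices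
named above enter.) -/
theorem result {A : Type u} [CommRing A] (α : A) (hα : α ∈ nonZeroDivisors A)
    {r : ℕ} (M : Fin r → Type v) (N : Type w) [∀ i, AddCommGroup (M i)] [∀ i, Module A (M i)]
    [AddCommGroup N] [Module A N] (φ : MultilinearMap A M N) (n : ℕ)
    (y w : ∀ i, ℕ → M i) (hw : ∀ i, ∀ j < n, w i (j + 1) = w i j + α • y i j) :
    (∑ i : Fin r, ∑ j ∈ Finset.range n,
        φ (fun k => if k < i then w k (j + 1) else if k = i then y k j else w k j)) =
      ∑ i : Fin r, ∑ j ∈ Finset.range n,
        φ (fun k => if k < i then w k n else if k = i then y k j else w k 0) := by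
  classical
  -- generators
  have hgen : ∃ gen : ∀ k : Fin r, ℕ → M k, (∀ k, gen k 0 = w k 0) ∧ ∀ k j, gen k (j + 1) = y k j :=
    ⟨fun k t => Nat.casesOn t (w k 0) (fun j => y k j), fun _ => rfl, fun _ _ => rfl⟩
  obtain ⟨gen, hgen0, hgenS⟩ := hgen
  obtain ⟨π, hπ⟩ : ∃ π : ∀ k : Fin r, (ℕ →₀ A) →ₗ[A] M k,
      ∀ k, π k = Finsupp.linearCombination A (gen k) := ⟨_, fun _ => rfl⟩
  have hπy : ∀ k j, π k (ygen j) = y k j := by
    intro k j
    unfold ygen
    rw [hπ, Finsupp.linearCombination_single, one_smul, hgenS]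
  have hπw : ∀ k j, j ≤ n → π k (wgen α j) = w k j := by
    intro k j
    induction j with
    | zero =>
      intro _
      show π k (Finsupp.single 0 1) = w k 0
      rw [hπ, Finsupp.linearCombination_single, one_smul, hgen0]
    | succ j ih =>
      intro hj
      show π k (wgen α j + α • Finsupp.single (j + 1) 1) = w k (j + 1)
      rw [map_add, map_smul, ih (by omega), hw k j (by omega)]
      congr 2
      exact hπy k j
  have hfree := free_identity α hα r n
  have hΦ := congrArg (PiTensorProduct.lift (φ.compLinearMap π)) hfree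
  simp only [map_sum, PiTensorProduct.lift.tprod, MultilinearMap.compLinearMap_apply] at hΦ
  have hpush : ∀ (u z v : ∀ _ : Fin r, (ℕ →₀ A)) (i : Fin r),
      (fun k => π k (hyb (M := fun _ : Fin r => (ℕ →₀ A)) u z v i k)) =
        hyb (fun k => π k (u k)) (fun k => π k (z k)) (fun k => π k (v k)) i := by
    intro u z v i
    funext k
    unfold hyb
    split_ifs <;> rfl
  simp only [hpush] at hΦ
  have hL : ∀ i : Fin r, ∀ j ∈ Finset.range n,
      φ (hyb (fun k => π k (wgen α (j + 1))) (fun k => π k (ygen j)) (fun k => π k (wgen α j)) i) =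
        φ (fun k => if k < i then w k (j + 1) else if k = i then y k j else w k j) := by
    intro i j hj
    have hj' : j < n := Finset.mem_range.mp hj
    have e1 : (fun k => π k (wgen α (j + 1))) = fun k => w k (j + 1) :=
      funext fun k => hπw k (j + 1) (by omega)
    have e2 : (fun k => π k (ygen j)) = fun k => y k j := funext fun k => hπy k j
    have e3 : (fun k => π k (wgen α j)) = fun k => w k j := funext fun k => hπw k j (by omega)
    rw [e1, e2, e3]
    rfl
  have hR : ∀ i : Fin r, ∀ j ∈ Finset.range n,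
      φ (hyb (fun k => π k (wgen α n)) (fun k => π k (ygen j)) (fun k => π k (wgen α 0)) i) =
        φ (fun k => if k < i then w k n else if k = i then y k j else w k 0) := by
    intro i j hj
    have e1 : (fun k => π k (wgen α n)) = fun k => w k n := funext fun k => hπw k n le_rfl
    have e2 : (fun k => π k (ygen j)) = fun k => y k j := funext fun k => hπy k j
    have e3 : (fun k => π k (wgen α 0)) = fun k => w k 0 :=
      funext fun k => hπw k 0 (Nat.zero_le _)
    rw [e1, e2, e3]
    rfl
  rw [Finset.sum_congr rfl (fun i _ => Finset.sum_congr rfl (hL i)),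
    Finset.sum_congr rfl (fun i _ => Finset.sum_congr rfl (hR i))] at hΦ
  exact hΦ


end Groth.Agent.S13682
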