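import Groth.Statements.S13683
-- import your own Groth.Agent.* helpers here

set_option autoImplicit false
universe u v
open BTGrp

namespace Groth.Agent.S13683

theorem iter_VF {G : Type*} [AddCommGroup G] (p : ℕ) (F V : G →+ G)
    (hVF : ∀ x, V (F x) = p • x) (n : ℕ) (x : G) :
    (⇑V)^[n] ((⇑F)^[n] x) = p ^ n • x := by
  induction n generalizing x with
  | zero => simp
  | succ n ih =>
    rw [Function.iterate_succ_apply, Function.iterate_succ_apply', hVF,
      iterate_map_nsmul, ih, pow_succ, mul_smul, smul_comm]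

/-- Let p be a natural number and r ≥ 1; let M_1, …, M_r and N be abelian groups carrying additive
endomorphisms F_i, V_i (on M_i) and F_0, V_0 (on N) with V_i ∘ F_i and V_0 ∘ F_0 equal to
multiplication by p and V_0 injective; let φ : M_1 × ⋯ × M_r → N be additive in each variable with
φ(V_1 x_1, …, V_r x_r) = V_0 φ(x_1, …, x_r). If y_i, z_i ∈ M_i satisfy F_i^N z_i = V_i^M y_i for all
i, then for every d ∈ N^r one has F_0^N (p^{(r-1)N} φ(V_1^{d_1} z_1, …, V_r^{d_r} z_r)) = V_0^M
φ(V_1^{d_1} y_1, …, V_r^{d_r} y_r). (The published statement is the case of Dieudonné modules over a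
perfect field of characteristic p, with F and V the Frobenius and Verschiebung and φ a multilinear
morphism of the associated displays; only the structure listed here enters its proof. For r = 0 the
assertion fails, so r ≥ 1 is required.) -/
theorem result (p : ℕ) {r : ℕ} (hr : 0 < r)
    (M : Fin r → Type u) (N : Type v) [∀ i, AddCommGroup (M i)] [AddCommGroup N]
    (F V : ∀ i, M i →+ M i) (F₀ V₀ : N →+ N)
    (hVF : ∀ i (x : M i), V i (F i x) = p • x) (hVF₀ : ∀ x : N, V₀ (F₀ x) = p • x)
    (hV₀ : Function.Injective V₀)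
    (φ : MultilinearMap ℤ M N) (hφ : ∀ x : ∀ i, M i, φ (fun i => V i (x i)) = V₀ (φ x))
    (Nn Mm : ℕ) (d : Fin r → ℕ) (y z : ∀ i, M i)
    (hyz : ∀ i, (⇑(F i))^[Nn] (z i) = (⇑(V i))^[Mm] (y i)) :
    (⇑F₀)^[Nn] (p ^ ((r - 1) * Nn) • φ (fun i => (⇑(V i))^[d i] (z i))) =
      (⇑V₀)^[Mm] (φ (fun i => (⇑(V i))^[d i] (y i))) := by
  -- V₀^k φ x = φ (V^k x)
  have hφk : ∀ (k : ℕ) (x : ∀ i, M i), (⇑V₀)^[k] (φ x) = φ (fun i => (⇑(V i))^[k] (x i)) := by
    intro k
    induction k with
    | zero => intro x; simp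
    | succ k ih =>
      intro x
      rw [Function.iterate_succ_apply', ih, ← hφ]
      congr 1
      funext i
      rw [Function.iterate_succ_apply']
  apply hV₀.iterate Nn
  rw [iter_VF p F₀ V₀ hVF₀, ← Function.iterate_add_apply, hφk]
  -- simplify the argument on the right
  have harg : ∀ i, (⇑(V i))^[Nn + Mm] ((⇑(V i))^[d i] (y i)) =
      ((p : ℤ) ^ Nn) • (⇑(V i))^[d i] (z i) := by
    intro i
    rw [← Function.iterate_add_apply, show Nn + Mm + d i = d i + (Nn + Mm) by ring,
      Function.iterate_add_apply, Function.iterate_add_apply (⇑(V i)) Nn Mm, ← hyz i,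
      iter_VF p (F i) (V i) (hVF i), iterate_map_nsmul]
    rw [← Nat.cast_pow, natCast_zsmul]
  have : (fun i => (⇑(V i))^[Nn + Mm] ((⇑(V i))^[d i] (y i))) =
      fun i => ((p : ℤ) ^ Nn) • (⇑(V i))^[d i] (z i) := funext harg
  rw [this, MultilinearMap.map_smul_univ]
  rw [Finset.prod_const, Finset.card_univ, Fintype.card_fin, ← pow_mul, ← Nat.cast_pow,
    natCast_zsmul, smul_smul, ← pow_add]
  congr 2
  obtain ⟨r', rfl⟩ : ∃ r', r = r' + 1 := ⟨r - 1, by omega⟩
  simp only [Nat.add_sub_cancel]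
  ring

end Groth.Agent.S13683
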