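import Groth.Statements.S13684
import Mathlib
import Groth.Agent.Lib.Helper10.MkDisp
import Groth.Agent.Lib.Helper10.ExtPowSemi
import Groth.Agent.Lib.Helper10.DispRigid
import Groth.Agent.S16535

set_option autoImplicit false
universe u v
open Disp

namespace Groth.Agent.S13684

set_option linter.style.haveILetI false
set_option linter.unusedSectionVars false

open WittVector W4c1extbt610 Dieu Groth.Agent.S16538 Groth.Agent.Lib.helper10.MkDisp
  Groth.Agent.Lib.helper10.ExtPowSemi

section General

variable {A : Type u} [CommRing A] {P : Type v} [AddCommGroup P] [Module A P]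

lemma projective_extPow (r : ℕ) [Module.Finite A P] [Module.Projective A P] :
    Module.Projective A (⋀[A]^r P) := by
  obtain ⟨n, f, g, -, -, hfg⟩ := Module.Finite.exists_comp_eq_id_of_projective A P
  refine Module.Projective.of_split (exteriorPower.map r g) (exteriorPower.map r f) ?_
  rw [← exteriorPower.map_comp, hfg, exteriorPower.map_id]

/-- projections attached to an idempotent endomorphism -/
lemma proj_range_of_idem {N : Type*} [AddCommGroup N] [Module A N] (e : N →ₗ[A] N)
    (he : ∀ x, e (e x) = e x) :
    ∃ h : IsCompl (LinearMap.range e) (LinearMap.ker e),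
      (∀ x, (LinearMap.range e).projection (LinearMap.ker e) h x = e x) ∧
      (∀ x, (LinearMap.ker e).projection (LinearMap.range e) h.symm x = x - e x) := by
  have h : IsCompl (LinearMap.range e) (LinearMap.ker e) := by
    constructor
    · rw [Submodule.disjoint_def]
      rintro x ⟨y, rfl⟩ hx
      rw [LinearMap.mem_ker, he] at hx
      exact hx
    · rw [codisjoint_iff, eq_top_iff]
      intro x _
      have : x = e x + (x - e x) := by abel
      rw [this]
      refine Submodule.add_mem _ (Submodule.mem_sup_left ⟨x, rfl⟩) (Submodule.mem_sup_right ?_)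
      rw [LinearMap.mem_ker, map_sub, he, sub_self]
  have hk : ∀ x, x - e x ∈ LinearMap.ker e := fun x => by
    rw [LinearMap.mem_ker, map_sub, he, sub_self]
  refine ⟨h, fun x => ?_, fun x => ?_⟩
  · have : x = e x + (x - e x) := by abel
    conv_lhs => rw [this, map_add, Submodule.projection_apply_of_mem_left h ⟨x, rfl⟩,
      Submodule.projection_apply_of_mem_right h (hk x), add_zero]
  · have : x = e x + (x - e x) := by abel
    conv_lhs => rw [this, map_add, Submodule.projection_apply_of_mem_right h.symm ⟨x, rfl⟩,
      Submodule.projection_apply_of_mem_left h.symm (hk x), zero_add]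

end General

section PsiSum

variable {p : ℕ} [Fact p.Prime] {R : Type u} [CommRing R]
  {M M' : Type v} [AddCommGroup M] [Module (WittVector p R) M] [AddCommGroup M']
  [Module (WittVector p R) M']
  (G : M →ₛₗ[(WittVector.frobenius : WittVector p R →+* WittVector p R)] M')
  (s : M →ₗ[WittVector p R] (M →₀ WittVector p R))

lemma Psi_sum {ι : Type*} (S : Finset ι) (m : ι → M) (hm : ∀ i ∈ S, VV s (m i)) :
    VV s (∑ i ∈ S, m i) ∧ Psi G s (∑ i ∈ S, m i) = ∑ i ∈ S, Psi G s (m i) := by
  classical
  induction S using Finset.induction_on with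
  | empty =>
    refine ⟨?_, ?_⟩
    · rw [Finset.sum_empty]; exact VV_zero s
    · rw [Finset.sum_empty, Finset.sum_empty]
      have := Psi_smul G s (VV_zero s) (0 : WittVector p R)
      rw [zero_smul, map_zero, zero_smul] at this
      exact this
  | insert a S ha ih =>
    obtain ⟨h1, h2⟩ := ih (fun i hi => hm i (Finset.mem_insert_of_mem hi))
    have h3 := hm a (Finset.mem_insert_self a S)
    refine ⟨?_, ?_⟩
    · rw [Finset.sum_insert ha]; exact VV_add s h3 h1
    · rw [Finset.sum_insert ha, Finset.sum_insert ha, Psi_add G s h3 h1, h2]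

end PsiSum


section Main

variable {p : ℕ} [hp : Fact p.Prime] {R : Type u} [CommRing R]
  {P : Type v} [AddCommGroup P] [Module (WittVector p R) P] (D : Display3n p R P)
  (L T : Submodule (WittVector p R) P) (hLT : IsCompl L T) (hQ : D.Q = L ⊔ IV p R • T)
  (eT : T ≃ₗ[WittVector p R] WittVector p R) (r : ℕ)

/-- the generator of `T` -/
noncomputable def tt0 : P := (eT.symm 1 : T)

/-- the coordinate along `t` -/
noncomputable def tau : P →ₗ[WittVector p R] WittVector p R :=
  eT.toLinearMap ∘ₗ (T.projectionOnto L hLT.symm)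

lemma tt0_mem : tt0 T eT ∈ T := (eT.symm 1).2

lemma projT_eq (x : P) : T.projection L hLT.symm x = tau L T hLT eT x • tt0 T eT := by
  rw [← Submodule.coe_projectionOnto_apply]
  set y : T := T.projectionOnto L hLT.symm x with hy
  have h1 : y = eT y • eT.symm 1 := by
    apply eT.injective
    rw [map_smul, LinearEquiv.apply_symm_apply, smul_eq_mul, mul_one]
  show (y : P) = eT y • ((eT.symm 1 : T) : P)
  conv_lhs => rw [h1]
  rfl

lemma decomp (x : P) : x = L.projection T hLT x + tau L T hLT eT x • tt0 T eT := by
  rw [← projT_eq, Submodule.projection_add_projection_eq_self hLT x]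

lemma tau_of_mem_L {l : P} (hl : l ∈ L) : tau L T hLT eT l = 0 := by
  show eT (T.projectionOnto L hLT.symm l) = 0
  rw [Submodule.projectionOnto_apply_of_mem_right hLT.symm hl, map_zero]

include hQ in
lemma tau_mem_IV {q : P} (hq : q ∈ D.Q) : tau L T hLT eT q ∈ IV p R := by
  rw [hQ] at hq
  obtain ⟨l, hl, y, hy, rfl⟩ := Submodule.mem_sup.1 hq
  rw [map_add, tau_of_mem_L L T hLT eT hl, zero_add]
  exact Groth.Agent.Lib.helper10.DispRigid.functional_mem _ hy

lemma projL_tt0 : L.projection T hLT (tt0 T eT) = 0 :=
  Submodule.projection_apply_of_mem_right hLT (tt0_mem T eT)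

/-- the idempotent `⋀^r π_L` -/
noncomputable def ee : ⋀[WittVector p R]^r P →ₗ[WittVector p R] ⋀[WittVector p R]^r P :=
  exteriorPower.map r (L.projection T hLT)

lemma ee_ιMulti (v : Fin r → P) :
    ee L T hLT r (exteriorPower.ιMulti (WittVector p R) r v) =
      exteriorPower.ιMulti (WittVector p R) r (fun i => L.projection T hLT (v i)) := by
  rw [ee, exteriorPower.map_apply_ιMulti]
  rfl

lemma ee_idem (x : ⋀[WittVector p R]^r P) : ee L T hLT r (ee L T hLT r x) = ee L T hLT r x := by
  have h : (L.projection T hLT) ∘ₗ (L.projection T hLT) = L.projection T hLT := by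
    ext y
    exact Submodule.projection_apply_of_mem_left hLT (Submodule.projection_apply_mem hLT y)
  show ((exteriorPower.map r (L.projection T hLT)) ∘ₗ (exteriorPower.map r (L.projection T hLT))) x = _
  rw [← exteriorPower.map_comp, h]
  rfl

/-- the wedge with `t` in slot `k` and `π_L v` elsewhere -/
noncomputable def yk (v : Fin r → P) (k : Fin r) : ⋀[WittVector p R]^r P :=
  exteriorPower.ιMulti (WittVector p R) r
    (Function.update (fun i => L.projection T hLT (v i)) k (tt0 T eT))

lemma ee_yk (v : Fin r → P) (k : Fin r) : ee L T hLT r (yk L T hLT eT r v k) = 0 := by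
  rw [yk, ee_ιMulti]
  refine (exteriorPower.ιMulti (WittVector p R) r).map_coord_zero k ?_
  show L.projection T hLT
    (Function.update (fun i => L.projection T hLT (v i)) k (tt0 T eT) k) = 0
  rw [Function.update_self, projL_tt0]

lemma wedge_expand (v : Fin r → P) :
    exteriorPower.ιMulti (WittVector p R) r v =
      exteriorPower.ιMulti (WittVector p R) r (fun i => L.projection T hLT (v i)) +
        ∑ k, tau L T hLT eT (v k) • yk L T hLT eT r v k := by
  have h := alt_expand (exteriorPower.ιMulti (WittVector p R) r)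
    (fun i => L.projection T hLT (v i)) (fun i => tau L T hLT eT (v i)) (tt0 T eT)
  unfold yk
  rw [← h]
  congr 1
  ext i
  exact decomp L T hLT eT (v i)

lemma sub_ee (v : Fin r → P) :
    exteriorPower.ιMulti (WittVector p R) r v -
      ee L T hLT r (exteriorPower.ιMulti (WittVector p R) r v) =
      ∑ k, tau L T hLT eT (v k) • yk L T hLT eT r v k := by
  rw [ee_ιMulti]
  conv_lhs => rw [wedge_expand L T hLT eT r v]
  abel

/-- the span of the wedges of elements of `Q` -/
noncomputable def QW : Submodule (WittVector p R) (⋀[WittVector p R]^r P) :=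
  Submodule.span (WittVector p R)
    (Set.range fun q : Fin r → D.Q => exteriorPower.ιMulti (WittVector p R) r (fun i => (q i : P)))

include hQ in
lemma hLQ0 : L ≤ D.Q := hQ ▸ le_sup_left

include hQ eT in
lemma QW_eq : Qm (LinearMap.range (ee L T hLT r)) (LinearMap.ker (ee L T hLT r)) = QW D r := by
  have hLQ := hLQ0 D L T hQ
  apply le_antisymm
  · refine sup_le ?_ ?_
    · rintro _ ⟨z, rfl⟩
      have hz : z ∈ Submodule.span (WittVector p R)
          (Set.range (exteriorPower.ιMulti (WittVector p R) r (M := P))) := by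
        rw [exteriorPower.ιMulti_span]; exact Submodule.mem_top
      induction hz using Submodule.span_induction with
      | mem z hz =>
        obtain ⟨v, rfl⟩ := hz
        rw [ee_ιMulti]
        exact Submodule.subset_span
          ⟨fun i => ⟨L.projection T hLT (v i), hLQ (Submodule.projection_apply_mem hLT _)⟩, rfl⟩
      | zero => rw [map_zero]; exact Submodule.zero_mem _
      | add x y _ _ hx hy => rw [map_add]; exact Submodule.add_mem _ hx hy
      | smul c x _ hx => rw [map_smul]; exact Submodule.smul_mem _ c hx
    · rw [Submodule.smul_le]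
      intro a ha y hy
      have key : ∀ z : ⋀[WittVector p R]^r P, a • (z - ee L T hLT r z) ∈ QW D r := by
        intro z
        have hz : z ∈ Submodule.span (WittVector p R)
            (Set.range (exteriorPower.ιMulti (WittVector p R) r (M := P))) := by
          rw [exteriorPower.ιMulti_span]; exact Submodule.mem_top
        induction hz using Submodule.span_induction with
        | mem z hz =>
          obtain ⟨v, rfl⟩ := hz
          rw [sub_ee L T hLT eT r v, Finset.smul_sum]
          refine Submodule.sum_mem _ fun k _ => ?_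
          rw [smul_comm]
          refine Submodule.smul_mem _ _ ?_
          have hupd : a • yk L T hLT eT r v k = exteriorPower.ιMulti (WittVector p R) r
              (Function.update (fun i => L.projection T hLT (v i)) k (a • tt0 T eT)) := by
            rw [yk, AlternatingMap.map_update_smul]
          rw [hupd]
          have hmem : ∀ i, Function.update (fun i => L.projection T hLT (v i)) k
              (a • tt0 T eT) i ∈ D.Q := by
            intro i
            by_cases hi : i = k
            · subst hi
              rw [Function.update_self]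
              exact D.IV_smul_le (Submodule.smul_mem_smul ha Submodule.mem_top)
            · rw [Function.update_of_ne hi]
              exact hLQ (Submodule.projection_apply_mem hLT _)
          exact Submodule.subset_span ⟨fun i => ⟨_, hmem i⟩, rfl⟩
        | zero => rw [map_zero, sub_zero, smul_zero]; exact Submodule.zero_mem _
        | add x y _ _ hx hy =>
          have : a • (x + y - ee L T hLT r (x + y)) =
              a • (x - ee L T hLT r x) + a • (y - ee L T hLT r y) := by
            rw [map_add, ← smul_add]; congr 1; abel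
          rw [this]; exact Submodule.add_mem _ hx hy
        | smul c x _ hx =>
          have : a • (c • x - ee L T hLT r (c • x)) = c • (a • (x - ee L T hLT r x)) := by
            rw [map_smul]
            simp only [smul_sub]
            rw [smul_comm a c x, smul_comm a c (ee L T hLT r x)]
          rw [this]; exact Submodule.smul_mem _ c hx
      have h := key y
      rw [LinearMap.mem_ker.1 hy, sub_zero] at h
      exact h
  · rw [QW, Submodule.span_le]
    rintro _ ⟨q, rfl⟩
    show exteriorPower.ιMulti (WittVector p R) r (fun i => (q i : P)) ∈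
      Qm (LinearMap.range (ee L T hLT r)) (LinearMap.ker (ee L T hLT r))
    rw [wedge_expand L T hLT eT r (fun i => (q i : P))]
    refine Submodule.add_mem _ (Submodule.mem_sup_left ?_) (Submodule.mem_sup_right ?_)
    · rw [← ee_ιMulti]
      exact ⟨_, rfl⟩
    · refine Submodule.sum_mem _ fun k _ => ?_
      exact Submodule.smul_mem_smul (tau_mem_IV D L T hLT hQ eT (q k).2)
        (LinearMap.mem_ker.2 (ee_yk L T hLT eT r _ k))


include hQ in
lemma Vinv_eq (q : D.Q) :
    D.Vinv q = GS D L T hLT hQ (L.projection T hLT q) +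
      (tau L T hLT eT q).shift 1 • GS D L T hLT hQ (tt0 T eT) := by
  have hLQ := hLQ0 D L T hQ
  have hl : L.projection T hLT (q : P) ∈ L := Submodule.projection_apply_mem hLT _
  have hc := tau_mem_IV D L T hLT hQ eT q.2
  have hc' : verschiebung ((tau L T hLT eT q).shift 1) = tau L T hLT eT q :=
    eq_versch _ (IV_coeff_zero _ hc)
  have hmem : verschiebung ((tau L T hLT eT q).shift 1) • tt0 T eT ∈ D.Q :=
    D.IV_smul_le (Submodule.smul_mem_smul (verschiebung_mem_IV p R _) Submodule.mem_top)
  have hsplit : q = ⟨L.projection T hLT (q : P), hLQ hl⟩ +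
      ⟨verschiebung ((tau L T hLT eT q).shift 1) • tt0 T eT, hmem⟩ := by
    apply Subtype.ext
    show (q : P) = L.projection T hLT (q : P) +
      verschiebung ((tau L T hLT eT q).shift 1) • tt0 T eT
    rw [hc']
    exact decomp L T hLT eT (q : P)
  conv_lhs => rw [hsplit, map_add, D.Vinv_verschiebung_smul]
  rw [GS_of_mem_L D L T hLT hQ _ hl, GS_of_mem_T D L T hLT hQ _ (tt0_mem T eT)]

include hQ in
lemma span_range_GS : Submodule.span (WittVector p R) (Set.range (GS D L T hLT hQ)) = ⊤ := by
  rw [eq_top_iff]
  rintro x -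
  obtain ⟨z, rfl⟩ := Groth.Agent.S16535.Phi_surjective D L T hLT hQ x
  induction z using BC.induction_on with
  | zero => rw [map_zero]; exact Submodule.zero_mem _
  | tmul b y =>
    rw [Groth.Agent.S16535.Phi_tmul]
    exact Submodule.smul_mem _ _ (Submodule.subset_span ⟨y, rfl⟩)
  | add z₁ z₂ h₁ h₂ => rw [map_add]; exact Submodule.add_mem _ h₁ h₂

end Main

theorem main (p : ℕ) [Fact p.Prime] (R : Type u) [CommRing R]
    (P : Type v) [AddCommGroup P] [Module (WittVector p R) P] (D : W4c1extbt610.Display3n p R P)
    (hT : ∃ L T : Submodule (WittVector p R) P, IsCompl L T ∧ D.Q = L ⊔ W4c1extbt610.IV p R • T ∧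
      Nonempty (T ≃ₗ[WittVector p R] WittVector p R))
    (r : ℕ) :
    ∃ E : W4c1extbt610.Display3n p R (⋀[WittVector p R]^r P), W4c1extbt610.IsExtPow D r E ∧
      ∀ E' : W4c1extbt610.Display3n p R (⋀[WittVector p R]^r P), W4c1extbt610.IsExtPow D r E' → E' = E := by
  classical
  obtain ⟨L, T, hLT, hQ, ⟨eT⟩⟩ := hT
  haveI := D.finite
  haveI := D.projective
  haveI hproj : Module.Projective (WittVector p R) (⋀[WittVector p R]^r P) := projective_extPow r
  obtain ⟨s, hs⟩ := Module.projective_def'.mp hproj
  obtain ⟨hcompl, hpL, hpT⟩ := proj_range_of_idem (ee L T hLT r) (ee_idem L T hLT r)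
  have hΦ := span_range_mapSL (WittVector.frobenius : WittVector p R →+* WittVector p R) r
    (GS D L T hLT hQ) (span_range_GS D L T hLT hQ)
  let ΛG := mapSL (WittVector.frobenius : WittVector p R →+* WittVector p R) r (GS D L T hLT hQ)
  let E : Display3n p R (⋀[WittVector p R]^r P) :=
    mkDisp (LinearMap.range (ee L T hLT r)) (LinearMap.ker (ee L T hLT r)) hcompl ΛG s hs hΦ
  have hEQ : E.Q = QW D r := QW_eq D L T hLT hQ eT r
  have hEV : ∀ (q : Fin r → D.Q)
      (hq : exteriorPower.ιMulti (WittVector p R) r (fun i => (q i : P)) ∈ E.Q),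
      E.Vinv ⟨_, hq⟩ = exteriorPower.ιMulti (WittVector p R) r (fun i => D.Vinv (q i)) := by
    intro q hq
    set qv : Fin r → P := fun i => (q i : P) with hqv
    set l : Fin r → P := fun i => L.projection T hLT (qv i) with hl
    set w : Fin r → WittVector p R := fun i => (tau L T hLT eT (qv i)).shift 1 with hw
    have hcw : ∀ i, tau L T hLT eT (qv i) = verschiebung (w i) := fun i =>
      (eq_versch _ (IV_coeff_zero _ (tau_mem_IV D L T hLT hQ eT (q i).2))).symm
    show vM (LinearMap.range (ee L T hLT r)) (LinearMap.ker (ee L T hLT r)) hcompl ΛG s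
      (exteriorPower.ιMulti (WittVector p R) r qv) = _
    rw [vM, hpL, hpT, sub_ee L T hLT eT r qv, ee_ιMulti]
    -- the `L`-part
    have h1 : ΛG (exteriorPower.ιMulti (WittVector p R) r fun i => L.projection T hLT (qv i)) =
        exteriorPower.ιMulti (WittVector p R) r (fun i => GS D L T hLT hQ (l i)) :=
      mapSL_ιMulti _ r _ _
    -- the `T`-part
    have hVV : ∀ k ∈ (Finset.univ : Finset (Fin r)),
        VV s (tau L T hLT eT (qv k) • yk L T hLT eT r qv k) := fun k _ =>
      VV_of_mem s (Submodule.smul_mem_smul (tau_mem_IV D L T hLT hQ eT (q k).2) Submodule.mem_top)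
    have h2 := (Psi_sum ΛG s Finset.univ
      (fun k => tau L T hLT eT (qv k) • yk L T hLT eT r qv k) hVV).2
    have h3 : ∀ k, Psi ΛG s (tau L T hLT eT (qv k) • yk L T hLT eT r qv k) =
        w k • exteriorPower.ιMulti (WittVector p R) r
          (Function.update (fun i => GS D L T hLT hQ (l i)) k (GS D L T hLT hQ (tt0 T eT))) := by
      intro k
      rw [hcw k, Psi_versch ΛG s hs]
      congr 1
      show ΛG (exteriorPower.ιMulti (WittVector p R) r
        (Function.update (fun i => L.projection T hLT (qv i)) k (tt0 T eT))) = _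
      rw [show ΛG = mapSL _ r (GS D L T hLT hQ) from rfl, mapSL_ιMulti]
      congr 1
      ext i
      by_cases hi : i = k
      · subst hi; simp
      · simp [Function.update_of_ne hi, hl]
    rw [h1, h2]
    simp only [h3]
    -- the right-hand side
    have h4 : (fun i => D.Vinv (q i)) =
        fun i => GS D L T hLT hQ (l i) + w i • GS D L T hLT hQ (tt0 T eT) := by
      ext i
      exact Vinv_eq D L T hLT hQ eT (q i)
    rw [h4, alt_expand]
  refine ⟨E, ⟨hEQ, hEV⟩, ?_⟩
  intro E' hE'
  have hQ' : E'.Q = E.Q := hE'.1.trans hEQ.symm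
  have hV : ∀ (x : ⋀[WittVector p R]^r P) (h1 : x ∈ E'.Q) (h2 : x ∈ E.Q),
      E'.Vinv ⟨x, h1⟩ = E.Vinv ⟨x, h2⟩ := by
    have key : ∀ x : ⋀[WittVector p R]^r P, x ∈ QW D r →
        ∃ (a1 : x ∈ E'.Q) (a2 : x ∈ E.Q), E'.Vinv ⟨x, a1⟩ = E.Vinv ⟨x, a2⟩ := by
      intro x hx
      unfold QW at hx
      induction hx using Submodule.span_induction with
      | mem x hx =>
        obtain ⟨q, rfl⟩ := hx
        have a2 : exteriorPower.ιMulti (WittVector p R) r (fun i => (q i : P)) ∈ E.Q := by
          rw [hEQ]; exact Submodule.subset_span ⟨q, rfl⟩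
        have a1 : exteriorPower.ιMulti (WittVector p R) r (fun i => (q i : P)) ∈ E'.Q := by
          rw [hQ']; exact a2
        exact ⟨a1, a2, (hE'.2 q a1).trans (hEV q a2).symm⟩
      | zero =>
        refine ⟨E'.Q.zero_mem, E.Q.zero_mem, ?_⟩
        have e1 : (⟨0, E'.Q.zero_mem⟩ : E'.Q) = 0 := rfl
        have e2 : (⟨0, E.Q.zero_mem⟩ : E.Q) = 0 := rfl
        rw [e1, e2, map_zero, map_zero]
      | add a b _ _ ha hb =>
        obtain ⟨a1, a2, ea⟩ := ha
        obtain ⟨b1, b2, eb⟩ := hb
        refine ⟨E'.Q.add_mem a1 b1, E.Q.add_mem a2 b2, ?_⟩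
        have e1 : (⟨a + b, E'.Q.add_mem a1 b1⟩ : E'.Q) = ⟨a, a1⟩ + ⟨b, b1⟩ := rfl
        have e2 : (⟨a + b, E.Q.add_mem a2 b2⟩ : E.Q) = ⟨a, a2⟩ + ⟨b, b2⟩ := rfl
        rw [e1, e2, map_add, map_add, ea, eb]
      | smul c a _ ha =>
        obtain ⟨a1, a2, ea⟩ := ha
        refine ⟨E'.Q.smul_mem c a1, E.Q.smul_mem c a2, ?_⟩
        have e1 : (⟨c • a, E'.Q.smul_mem c a1⟩ : E'.Q) = c • ⟨a, a1⟩ := rfl
        have e2 : (⟨c • a, E.Q.smul_mem c a2⟩ : E.Q) = c • ⟨a, a2⟩ := rfl
        rw [e1, e2, map_smulₛₗ, map_smulₛₗ, ea]
    intro x h1 h2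
    obtain ⟨_, _, e⟩ := key x (hEQ ▸ h2)
    exact e
  refine disp_ext E' E hQ' ?_ hV
  apply LinearMap.ext
  intro x
  have h1 := E'.Vinv_verschiebung_smul 1 x
  have h2 := E.Vinv_verschiebung_smul 1 x
  rw [one_smul] at h1 h2
  rw [← h1, ← h2]
  exact hV _ _ _



/-- Let p be a prime, R a commutative ring, W its ring of p-typical Witt vectors and D = (P, Q, F, V⁻¹)
a 3n-display over R whose tangent module has rank one, in the sense that some normal decomposition P
= L ⊕ T, Q = L + I_R T has T free of rank one over W. Then for every natural number r the exterior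
power ⋀^r P carries exactly one 3n-display structure whose distinguished submodule is spanned by the
wedges q_1 ∧ ⋯ ∧ q_r of elements of Q and whose V⁻¹ sends each such wedge to V⁻¹q_1 ∧ ⋯ ∧ V⁻¹q_r.
(The published statement allows T projective of rank one and also records the height and rank of the
new 3n-display, that it is a display when D is, and compatibility with base change; this row takes T
free of rank one and keeps only the existence and uniqueness of the structure.) -/
theorem result (p : ℕ) [Fact p.Prime] (R : Type u) [CommRing R]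
    (P : Type v) [AddCommGroup P] [Module (WittVector p R) P] (D : W4c1extbt610.Display3n p R P)
    (hT : ∃ L T : Submodule (WittVector p R) P, IsCompl L T ∧ D.Q = L ⊔ W4c1extbt610.IV p R • T ∧
      Nonempty (T ≃ₗ[WittVector p R] WittVector p R))
    (r : ℕ) :
    ∃ E : W4c1extbt610.Display3n p R (⋀[WittVector p R]^r P), W4c1extbt610.IsExtPow D r E ∧
      ∀ E' : W4c1extbt610.Display3n p R (⋀[WittVector p R]^r P), W4c1extbt610.IsExtPow D r E' → E' = E := by
  exact main p R P D hT r

end Groth.Agent.S13684
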