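import Groth.Statements.S13685
import Mathlib

set_option autoImplicit false
universe u v w
open Disp

namespace Groth.Agent.S13685

set_option linter.style.haveILetI false

open W4c1extbt610

variable {p : ℕ} [Fact p.Prime] {R : Type u} [CommRing R]
  {P : Type v} [AddCommGroup P] [Module (WittVector p R) P]

lemma Vinv_congr (D : Display3n p R P) {x y : P} (hx : x ∈ D.Q) (hy : y ∈ D.Q) (h : x = y) :
    D.Vinv ⟨x, hx⟩ = D.Vinv ⟨y, hy⟩ := by
  subst h; rfl

lemma V_smul_mem (D : Display3n p R P) (w : WittVector p R) (x : P) :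
    WittVector.verschiebung w • x ∈ D.Q :=
  D.IV_smul_le (Submodule.smul_mem_smul (verschiebung_mem_IV p R w) Submodule.mem_top)

lemma F_eq (D : Display3n p R P) (x : P) :
    D.F x = D.Vinv ⟨WittVector.verschiebung (1 : WittVector p R) • x, V_smul_mem D 1 x⟩ := by
  have := D.Vinv_verschiebung_smul 1 x
  rw [one_smul] at this
  exact this.symm

variable {P' : Type w} [AddCommGroup P'] [Module (WittVector p R) P']

/-- a linear map commuting with `Vinv` commutes with `F` -/
lemma comm_F_of_comm_Vinv (D : Display3n p R P) (D' : Display3n p R P')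
    (ψ : P →ₗ[WittVector p R] P') (hmaps : ∀ q : P, q ∈ D.Q → ψ q ∈ D'.Q)
    (hV : ∀ q : D.Q, ψ (D.Vinv q) = D'.Vinv ⟨ψ q, hmaps q q.2⟩) (x : P) :
    ψ (D.F x) = D'.F (ψ x) := by
  rw [F_eq D x, F_eq D' (ψ x), hV]
  exact Vinv_congr D' _ _ (map_smul ψ _ x)

theorem part1 (D : Display3n p R P) (r : ℕ) (E : Display3n p R (⋀[WittVector p R]^r P))
    (hE : IsExtPow D r E) : IsAltMult D E (exteriorPower.ιMulti (WittVector p R) r) := by
  have hmaps : ∀ q : Fin r → D.Q,
      exteriorPower.ιMulti (WittVector p R) r (fun i => (q i : P)) ∈ E.Q := by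
    intro q
    rw [hE.1]
    exact Submodule.subset_span ⟨q, rfl⟩
  refine ⟨hmaps, fun q => hE.2 q (hmaps q), fun i x q => ?_⟩
  classical
  rw [F_eq E]
  let q' : Fin r → D.Q := Function.update q i ⟨_, V_smul_mem D 1 x⟩
  have h1 : (fun j => ((q' j : D.Q) : P)) =
      Function.update (fun j => (q j : P)) i (WittVector.verschiebung (1 : WittVector p R) • x) := by
    funext j
    by_cases h : j = i
    · subst h; simp [q']
    · simp [q', h]
  have h2 : (fun j => D.Vinv (q' j)) =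
      Function.update (fun j => D.Vinv (q j)) i (D.F x) := by
    funext j
    by_cases h : j = i
    · subst h
      simp only [q', Function.update_self]
      exact (F_eq D x).symm
    · simp [q', h]
  have h3 := hE.2 q' (hmaps q')
  rw [h2] at h3
  rw [← h3]
  apply Vinv_congr
  rw [h1, AlternatingMap.map_update_smul]

theorem part2 (D : Display3n p R P) (r : ℕ) (E : Display3n p R (⋀[WittVector p R]^r P))
    (hE : IsExtPow D r E) (D' : Display3n p R P')
    (φ : P [⋀^Fin r]→ₗ[WittVector p R] P') (hφ : IsAltMult D D' φ) :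
    ∃! ψ : ⋀[WittVector p R]^r P →ₗ[WittVector p R] P',
      IsHom E D' ψ ∧ ψ.compAlternatingMap (exteriorPower.ιMulti (WittVector p R) r) = φ := by
  let ψ := exteriorPower.alternatingMapLinearEquiv φ
  have hψ : ∀ m : Fin r → P, ψ (exteriorPower.ιMulti (WittVector p R) r m) = φ m :=
    fun m => exteriorPower.alternatingMapLinearEquiv_apply_ιMulti φ m
  have hmaps : ∀ y, y ∈ E.Q → ψ y ∈ D'.Q := by
    intro y hy
    rw [hE.1] at hy
    induction hy using Submodule.span_induction with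
    | mem y hy =>
      obtain ⟨q, rfl⟩ := hy
      rw [hψ]
      exact hφ.mapsTo q
    | zero => rw [map_zero]; exact D'.Q.zero_mem
    | add x y _ _ hx hy => rw [map_add]; exact D'.Q.add_mem hx hy
    | smul a x _ hx => rw [map_smul]; exact D'.Q.smul_mem a hx
  have hV : ∀ (y : ⋀[WittVector p R]^r P) (hy : y ∈ E.Q),
      ψ (E.Vinv ⟨y, hy⟩) = D'.Vinv ⟨ψ y, hmaps y hy⟩ := by
    intro y hy
    have hy' := hy
    rw [hE.1] at hy'
    induction hy' using Submodule.span_induction with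
    | mem y hy0 =>
      obtain ⟨q, rfl⟩ := hy0
      rw [hE.2 q hy, hψ, ← hφ.vCond q]
      exact Vinv_congr D' _ _ (hψ _).symm
    | zero =>
      have h1 : E.Vinv ⟨0, hy⟩ = 0 := map_zero E.Vinv
      have h2 : D'.Vinv ⟨ψ 0, hmaps 0 hy⟩ = 0 := by
        rw [Vinv_congr D' (hmaps 0 hy) D'.Q.zero_mem (map_zero ψ)]
        exact map_zero D'.Vinv
      rw [h1, h2, map_zero]
    | add x y hx0 hy0 hx hy1 =>
      have hxQ : x ∈ E.Q := by rw [hE.1]; exact hx0
      have hyQ : y ∈ E.Q := by rw [hE.1]; exact hy0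
      have h1 : E.Vinv ⟨x + y, hy⟩ = E.Vinv ⟨x, hxQ⟩ + E.Vinv ⟨y, hyQ⟩ :=
        map_add E.Vinv ⟨x, hxQ⟩ ⟨y, hyQ⟩
      have h2 : D'.Vinv ⟨ψ (x + y), hmaps _ hy⟩ =
          D'.Vinv ⟨ψ x, hmaps x hxQ⟩ + D'.Vinv ⟨ψ y, hmaps y hyQ⟩ := by
        rw [← map_add D'.Vinv]
        exact Vinv_congr D' _ _ (map_add ψ x y)
      rw [h1, h2, map_add, hx hxQ, hy1 hyQ]
    | smul a x hx0 hx =>
      have hxQ : x ∈ E.Q := by rw [hE.1]; exact hx0
      have h1 : E.Vinv ⟨a • x, hy⟩ = WittVector.frobenius a • E.Vinv ⟨x, hxQ⟩ :=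
        E.Vinv.map_smulₛₗ a ⟨x, hxQ⟩
      have h2 : D'.Vinv ⟨ψ (a • x), hmaps _ hy⟩ =
          WittVector.frobenius a • D'.Vinv ⟨ψ x, hmaps x hxQ⟩ := by
        rw [← D'.Vinv.map_smulₛₗ a ⟨ψ x, hmaps x hxQ⟩]
        exact Vinv_congr D' _ _ (map_smul ψ a x)
      rw [h1, h2, map_smul, hx hxQ]
  refine ⟨ψ, ⟨⟨hmaps, ?_, fun q => hV q.1 q.2⟩, exteriorPower.alternatingMapLinearEquiv_comp_ιMulti φ⟩, ?_⟩
  · exact comm_F_of_comm_Vinv E D' ψ hmaps (fun q => hV q.1 q.2)
  · rintro ψ' ⟨-, hψ'⟩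
    apply exteriorPower.linearMap_ext
    rw [hψ', exteriorPower.alternatingMapLinearEquiv_comp_ιMulti]



/-- Let p be a prime, R a commutative ring, W its ring of p-typical Witt vectors, D = (P, Q, F, V⁻¹) a
3n-display over R with a normal decomposition P = L ⊕ T, Q = L + I_R T in which T is free of rank
one over W, and E the 3n-display structure on ⋀^r P whose distinguished submodule is spanned by the
wedges of elements of Q and whose V⁻¹ sends q_1 ∧ ⋯ ∧ q_r to V⁻¹q_1 ∧ ⋯ ∧ V⁻¹q_r. Then the wedge map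
λ : P^r → ⋀^r P is an alternating multilinear morphism of 3n-displays from D to E, and for every
3n-display D' = (P', Q', F', V'⁻¹) and every alternating multilinear morphism of 3n-displays φ : P^r
→ P' (W-multilinear alternating, φ(Q^r) ⊆ Q', V'⁻¹(φ(q)) = φ(V⁻¹q_1, …, V⁻¹q_r), F'(φ(q_1, …, x_i,
…, q_r)) = φ(V⁻¹q_1, …, F x_i, …, V⁻¹q_r)) there is a unique W-linear ψ : ⋀^r P → P' that is a
morphism of 3n-displays from E to D' (ψ maps E's submodule into Q' and commutes with F and V⁻¹) with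
ψ ∘ λ = φ. (The published statement has T projective of rank one; this row takes T free of rank
one.) -/
theorem result (p : ℕ) [Fact p.Prime] (R : Type u) [CommRing R]
    (P : Type v) [AddCommGroup P] [Module (WittVector p R) P] (D : W4c1extbt610.Display3n p R P)
    (hT : ∃ L T : Submodule (WittVector p R) P, IsCompl L T ∧ D.Q = L ⊔ W4c1extbt610.IV p R • T ∧
      Nonempty (T ≃ₗ[WittVector p R] WittVector p R))
    (r : ℕ) (E : W4c1extbt610.Display3n p R (⋀[WittVector p R]^r P)) (hE : W4c1extbt610.IsExtPow D r E) :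
    W4c1extbt610.IsAltMult D E (exteriorPower.ιMulti (WittVector p R) r) ∧
      ∀ (P' : Type w) [AddCommGroup P'] [Module (WittVector p R) P'] (D' : W4c1extbt610.Display3n p R P')
        (φ : P [⋀^Fin r]→ₗ[WittVector p R] P'), W4c1extbt610.IsAltMult D D' φ →
        ∃! ψ : ⋀[WittVector p R]^r P →ₗ[WittVector p R] P',
          W4c1extbt610.IsHom E D' ψ ∧ ψ.compAlternatingMap (exteriorPower.ιMulti (WittVector p R) r) = φ := by
  exact ⟨part1 D r E hE, fun P' _ _ D' φ hφ => part2 D r E hE D' φ hφ⟩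

end Groth.Agent.S13685
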