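import Groth.Statements.S13686
import Mathlib
import Groth.Agent.Lib.Helper10.DispRigid

set_option autoImplicit false
universe u v
open Disp

namespace Groth.Agent.S13686

set_option linter.style.haveILetI false
set_option linter.unusedSectionVars false

open WittVector W4c1extbt610 Module Set Set.powersetCard

section Count

/-- subsets not containing the last element -/
noncomputable def notLastEquiv (m r : ℕ) :
    powersetCard (Fin m) r ≃ {s : powersetCard (Fin (m + 1)) r // ¬ Fin.last m ∈ s} := by
  refine Equiv.ofBijective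
    (fun u => ⟨powersetCard.map r Fin.castSuccEmb u, ?_⟩) ⟨?_, ?_⟩
  · rw [mem_map_iff_mem_range]
    rintro ⟨a, -, ha⟩
    exact (Fin.castSucc_lt_last a).ne ha
  · intro u u' h
    have h0 := congrArg (fun x => (x.1 : powersetCard (Fin (m + 1)) r)) h
    have h1 : (powersetCard.map r Fin.castSuccEmb u).val =
        (powersetCard.map r Fin.castSuccEmb u').val := congrArg Subtype.val h0
    rw [val_map, val_map] at h1
    exact Subtype.ext (Finset.map_injective _ h1)
  · rintro ⟨s, hs⟩
    have hsub : ∀ i ∈ s.val, ∃ j : Fin m, Fin.castSucc j = i := by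
      intro i hi
      rw [Fin.exists_castSucc_eq]
      rintro rfl
      exact hs hi
    let u : Finset (Fin m) := Finset.univ.filter (fun j => Fin.castSucc j ∈ s.val)
    have hmap : u.map Fin.castSuccEmb = s.val := by
      ext i
      constructor
      · intro hi
        rw [Finset.mem_map] at hi
        obtain ⟨j, hj, rfl⟩ := hi
        exact (Finset.mem_filter.1 hj).2
      · intro hi
        obtain ⟨j, rfl⟩ := hsub i hi
        rw [Finset.mem_map]
        exact ⟨j, Finset.mem_filter.2 ⟨Finset.mem_univ _, hi⟩, rfl⟩
    have hcard : u.card = r := by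
      rw [← Finset.card_map Fin.castSuccEmb, hmap]
      exact s.prop
    refine ⟨⟨u, hcard⟩, ?_⟩
    apply Subtype.ext
    apply Subtype.ext
    exact hmap

lemma card_mem_last (m r : ℕ) (hr : 1 ≤ r) :
    Nat.card {s : powersetCard (Fin (m + 1)) r // Fin.last m ∈ s} = m.choose (r - 1) := by
  have h1 : Nat.card {s : powersetCard (Fin (m + 1)) r // ¬ Fin.last m ∈ s} = m.choose r := by
    rw [← Nat.card_congr (notLastEquiv m r), powersetCard.card, Nat.card_fin]
  have h2 : Nat.card (powersetCard (Fin (m + 1)) r) = (m + 1).choose r := by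
    rw [powersetCard.card, Nat.card_fin]
  have h3 : Nat.card {s : powersetCard (Fin (m + 1)) r // Fin.last m ∈ s} +
      Nat.card {s : powersetCard (Fin (m + 1)) r // ¬ Fin.last m ∈ s} =
      Nat.card (powersetCard (Fin (m + 1)) r) := by
    classical
    rw [← Nat.card_sum]
    exact Nat.card_congr (Equiv.sumCompl _)
  obtain ⟨k, hk⟩ : ∃ k, r = k + 1 := ⟨r - 1, by omega⟩
  subst hk
  rw [h1, h2, Nat.choose_succ_succ] at h3
  simp only [Nat.succ_eq_add_one] at h3
  have : k + 1 - 1 = k := by omega
  rw [this]
  omega

end Count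


section Det

lemma det_mem_of_col {A : Type*} [CommRing A] {r : ℕ} (M : Matrix (Fin r) (Fin r) A)
    (I : Ideal A) (j₀ : Fin r) (h : ∀ i, M i j₀ ∈ I) : M.det ∈ I := by
  rw [Matrix.det_apply']
  refine Ideal.sum_mem _ fun σ _ => ?_
  refine Ideal.mul_mem_left _ _ ?_
  rw [← Finset.mul_prod_erase Finset.univ _ (Finset.mem_univ j₀)]
  exact I.mul_mem_right _ (h (σ j₀))

end Det

theorem main (p : ℕ) [Fact p.Prime] (R : Type u) [CommRing R] [Nontrivial R]
    (P : Type v) [AddCommGroup P] [Module (WittVector p R) P] (D : W4c1extbt610.Display3n p R P) (m : ℕ)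
    (L T : Submodule (WittVector p R) P) (hLT : IsCompl L T) (hQ : D.Q = L ⊔ W4c1extbt610.IV p R • T)
    (hL : Module.Free (WittVector p R) L) (hLr : Module.finrank (WittVector p R) L = m)
    (hT : Nonempty (T ≃ₗ[WittVector p R] WittVector p R))
    (r : ℕ) (hr : 1 ≤ r) (E : W4c1extbt610.Display3n p R (⋀[WittVector p R]^r P)) (hE : W4c1extbt610.IsExtPow D r E) :
    ∃ L' T' : Submodule (WittVector p R) (⋀[WittVector p R]^r P), IsCompl L' T' ∧
      E.Q = L' ⊔ W4c1extbt610.IV p R • T' ∧ Module.Free (WittVector p R) T' ∧
      Module.finrank (WittVector p R) T' = m.choose (r - 1) := by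
  classical
  haveI := D.finite
  haveI : Nontrivial (WittVector p R) :=
    (WittVector.constantCoeff : WittVector p R →+* R).domain_nontrivial
  haveI : Module.Finite (WittVector p R) L :=
    Module.Finite.of_surjective (L.projectionOnto T hLT) (Submodule.projectionOnto_surjective hLT)
  let bL : Basis (Fin m) (WittVector p R) L := Module.finBasisOfFinrankEq (WittVector p R) L hLr
  obtain ⟨eT⟩ := hT
  let bT : Basis (Fin 1) (WittVector p R) T :=
    Basis.ofEquivFun (eT.trans (LinearEquiv.funUnique (Fin 1) (WittVector p R) (WittVector p R)).symm)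
  let φ := Submodule.prodEquivOfIsCompl L T hLT
  let b : Basis (Fin (m + 1)) (WittVector p R) P := ((bL.prod bT).map φ).reindex finSumFinEquiv
  have hb_cs : ∀ i : Fin m, b (Fin.castSucc i) = (bL i : P) := by
    intro i
    have h1 : finSumFinEquiv.symm (Fin.castSucc i) = (Sum.inl i : Fin m ⊕ Fin 1) :=
      finSumFinEquiv_symm_apply_castAdd i
    show ((bL.prod bT).map φ).reindex finSumFinEquiv (Fin.castSucc i) = _
    rw [Basis.reindex_apply, h1, Basis.map_apply]
    show φ ((bL.prod bT) (Sum.inl i)) = _
    rw [Submodule.coe_prodEquivOfIsCompl']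
    simp [Basis.prod_apply]
  have hb_last : b (Fin.last m) = (bT 0 : P) := by
    have h1 : finSumFinEquiv.symm (Fin.last m) = (Sum.inr 0 : Fin m ⊕ Fin 1) :=
      finSumFinEquiv_symm_last
    show ((bL.prod bT).map φ).reindex finSumFinEquiv (Fin.last m) = _
    rw [Basis.reindex_apply, h1, Basis.map_apply]
    show φ ((bL.prod bT) (Sum.inr 0)) = _
    rw [Submodule.coe_prodEquivOfIsCompl']
    simp [Basis.prod_apply]
  have hLQ : L ≤ D.Q := by rw [hQ]; exact le_sup_left
  have hb_L : ∀ i : Fin (m + 1), i ≠ Fin.last m → b i ∈ L := by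
    intro i hi
    obtain ⟨j, rfl⟩ := Fin.exists_castSucc_eq.2 hi
    rw [hb_cs]
    exact (bL j).2
  have hb_T : b (Fin.last m) ∈ T := by rw [hb_last]; exact (bT 0).2
  -- the coordinate at `t`
  let lamT : P →ₗ[WittVector p R] WittVector p R := b.coord (Fin.last m)
  have hlam_b : ∀ i : Fin (m + 1), i ≠ Fin.last m → lamT (b i) = 0 := by
    intro i hi
    show b.coord (Fin.last m) (b i) = 0
    rw [Basis.coord_apply, Basis.repr_self, Finsupp.single_eq_of_ne hi.symm]
  have hlam_L : ∀ l ∈ L, lamT l = 0 := by
    intro l hl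
    have h1 : l = ∑ i, bL.repr ⟨l, hl⟩ i • b (Fin.castSucc i) := by
      have := congrArg (L.subtype) (bL.sum_repr ⟨l, hl⟩)
      rw [map_sum] at this
      simp only [map_smul, Submodule.subtype_apply] at this
      refine this.symm.trans ?_
      exact Finset.sum_congr rfl fun i _ => by rw [hb_cs]
    rw [h1, map_sum]
    refine Finset.sum_eq_zero fun i _ => ?_
    rw [map_smul, hlam_b _ (Fin.castSucc_lt_last i).ne, smul_zero]
  have hlam_Q : ∀ q ∈ D.Q, lamT q ∈ IV p R := by
    intro q hq
    rw [hQ] at hq
    obtain ⟨l, hl, y, hy, rfl⟩ := Submodule.mem_sup.1 hq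
    rw [map_add, hlam_L l hl, zero_add]
    exact Groth.Agent.Lib.helper10.DispRigid.functional_mem lamT hy
  -- the basis of the exterior power
  let B : Basis (powersetCard (Fin (m + 1)) r) (WittVector p R) (⋀[WittVector p R]^r P) :=
    b.exteriorPower r
  have hB : ∀ s, B s = exteriorPower.ιMulti (WittVector p R) r (b ∘ (ofFinEmbEquiv.symm s)) :=
    fun s => exteriorPower.basis_apply (WittVector p R) r b s
  let S₂ : Set (powersetCard (Fin (m + 1)) r) := {s | Fin.last m ∈ s}
  let L' : Submodule (WittVector p R) (⋀[WittVector p R]^r P) := Submodule.span _ (B '' S₂ᶜ)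
  let T' : Submodule (WittVector p R) (⋀[WittVector p R]^r P) := Submodule.span _ (B '' S₂)
  have hcompl : IsCompl L' T' := by
    constructor
    · exact B.linearIndependent.disjoint_span_image disjoint_compl_left
    · rw [codisjoint_iff]
      show Submodule.span _ (B '' S₂ᶜ) ⊔ Submodule.span _ (B '' S₂) = ⊤
      rw [← Submodule.span_union, ← Set.image_union, Set.compl_union_self, Set.image_univ,
        B.span_eq]
  -- generators of `L'` lie in `E.Q`
  have hL'Q : L' ≤ E.Q := by
    show Submodule.span _ (B '' S₂ᶜ) ≤ E.Q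
    rw [Submodule.span_le]
    rintro _ ⟨s, hs, rfl⟩
    have hne : ∀ k, ofFinEmbEquiv.symm s k ≠ Fin.last m := by
      intro k hk
      apply hs
      show Fin.last m ∈ s
      rw [← mem_range_ofFinEmbEquiv_symm_iff_mem]
      exact ⟨k, hk⟩
    rw [SetLike.mem_coe, hE.1, hB]
    refine Submodule.subset_span
      ⟨fun k => ⟨b (ofFinEmbEquiv.symm s k), hLQ (hb_L _ (hne k))⟩, rfl⟩
  have hT'Q : IV p R • T' ≤ E.Q := by
    rw [Submodule.smul_le]
    intro a ha y hy
    induction hy using Submodule.span_induction with
    | mem y hy =>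
      obtain ⟨s, hs, rfl⟩ := hy
      obtain ⟨k₀, hk₀⟩ := (mem_range_ofFinEmbEquiv_symm_iff_mem s (Fin.last m)).2 hs
      have hinj : Function.Injective (ofFinEmbEquiv.symm s) := (ofFinEmbEquiv.symm s).injective
      rw [hB]
      have hupd : a • exteriorPower.ιMulti (WittVector p R) r (b ∘ (ofFinEmbEquiv.symm s)) =
          exteriorPower.ιMulti (WittVector p R) r
            (Function.update (b ∘ (ofFinEmbEquiv.symm s)) k₀
              (a • (b ∘ (ofFinEmbEquiv.symm s)) k₀)) := by
        rw [AlternatingMap.map_update_smul, Function.update_eq_self]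
      rw [hupd, hE.1]
      have hmem : ∀ k, Function.update (b ∘ (ofFinEmbEquiv.symm s)) k₀
          (a • (b ∘ (ofFinEmbEquiv.symm s)) k₀) k ∈ D.Q := by
        intro k
        by_cases hk : k = k₀
        · subst hk
          rw [Function.update_self]
          exact D.IV_smul_le (Submodule.smul_mem_smul ha Submodule.mem_top)
        · rw [Function.update_of_ne hk]
          refine hLQ (hb_L _ ?_)
          intro h
          exact hk (hinj (h.trans hk₀.symm))
      exact Submodule.subset_span ⟨fun k => ⟨_, hmem k⟩, rfl⟩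
    | zero => rw [smul_zero]; exact E.Q.zero_mem
    | add x y _ _ hx hy => rw [smul_add]; exact E.Q.add_mem hx hy
    | smul c x _ hx => rw [smul_comm]; exact E.Q.smul_mem c hx
  have hQE : E.Q = L' ⊔ IV p R • T' := by
    apply le_antisymm
    · rw [hE.1, Submodule.span_le]
      rintro _ ⟨q, rfl⟩
      show (exteriorPower.ιMulti (WittVector p R) r fun i => (q i : P)) ∈ L' ⊔ IV p R • T'
      rw [← B.sum_repr (exteriorPower.ιMulti (WittVector p R) r fun i => (q i : P))]
      refine Submodule.sum_mem _ fun s _ => ?_
      by_cases hs : Fin.last m ∈ s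
      · refine Submodule.mem_sup_right (Submodule.smul_mem_smul ?_
          (Submodule.subset_span ⟨s, hs, rfl⟩))
        show B.repr _ s ∈ IV p R
        have hrepr : B.repr (exteriorPower.ιMulti (WittVector p R) r fun i => (q i : P)) s =
            (Matrix.of fun i j => b.coord (ofFinEmbEquiv.symm s j) ((q i : P))).det := by
          show (b.exteriorPower r).repr _ s = _
          rw [exteriorPower.basis_repr_apply, exteriorPower.ιMultiDual_apply_ιMulti]
        rw [hrepr]
        obtain ⟨k₀, hk₀⟩ := (mem_range_ofFinEmbEquiv_symm_iff_mem s (Fin.last m)).2 hs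
        refine det_mem_of_col _ _ k₀ fun i => ?_
        rw [Matrix.of_apply, hk₀]
        exact hlam_Q _ (q i).2
      · exact Submodule.mem_sup_left
          (Submodule.smul_mem _ _ (Submodule.subset_span ⟨s, hs, rfl⟩))
    · exact sup_le hL'Q hT'Q
  -- basis of `T'`
  have hli : LinearIndependent (WittVector p R) (fun s : S₂ => B s.1) :=
    B.linearIndependent.comp _ Subtype.val_injective
  have hrange : Set.range (fun s : S₂ => B s.1) = B '' S₂ := by
    ext x
    constructor
    · rintro ⟨s, rfl⟩; exact ⟨s.1, s.2, rfl⟩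
    · rintro ⟨s, hs, rfl⟩; exact ⟨⟨s, hs⟩, rfl⟩
  let bT' : Basis S₂ (WittVector p R) (Submodule.span (WittVector p R)
      (Set.range (fun s : S₂ => B s.1))) := Basis.span hli
  have hT'eq : T' = Submodule.span (WittVector p R) (Set.range (fun s : S₂ => B s.1)) := by
    rw [hrange]
  refine ⟨L', T', hcompl, hQE, ?_, ?_⟩
  · rw [hT'eq]
    exact Module.Free.of_basis bT'
  · rw [hT'eq, Module.finrank_eq_nat_card_basis bT']
    exact card_mem_last m r hr



/-- Let p be a prime, R a nontrivial commutative ring, W its ring of p-typical Witt vectors and D = (P,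
Q, F, V⁻¹) a 3n-display over R with a normal decomposition P = L ⊕ T, Q = L + I_R T in which L is
free of rank m and T is free of rank one over W (so P is free of rank m + 1, the height). For r ≥ 1
let E be the 3n-display structure on ⋀^r P whose distinguished submodule is spanned by the wedges of
elements of Q and whose V⁻¹ acts factorwise on them. Then E admits a normal decomposition ⋀^r P = L'
⊕ T', with distinguished submodule L' + I_R T', in which T' is free of rank (m choose r−1) over W:
with h = m + 1 the height, the tangent module of the exterior power has rank (h−1 choose r−1). (The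
published statement has T projective of rank one and P of height h; this row takes L and T free, R
nontrivial and r ≥ 1.) -/
theorem result (p : ℕ) [Fact p.Prime] (R : Type u) [CommRing R] [Nontrivial R]
    (P : Type v) [AddCommGroup P] [Module (WittVector p R) P] (D : W4c1extbt610.Display3n p R P) (m : ℕ)
    (L T : Submodule (WittVector p R) P) (hLT : IsCompl L T) (hQ : D.Q = L ⊔ W4c1extbt610.IV p R • T)
    (hL : Module.Free (WittVector p R) L) (hLr : Module.finrank (WittVector p R) L = m)
    (hT : Nonempty (T ≃ₗ[WittVector p R] WittVector p R))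
    (r : ℕ) (hr : 1 ≤ r) (E : W4c1extbt610.Display3n p R (⋀[WittVector p R]^r P)) (hE : W4c1extbt610.IsExtPow D r E) :
    ∃ L' T' : Submodule (WittVector p R) (⋀[WittVector p R]^r P), IsCompl L' T' ∧
      E.Q = L' ⊔ W4c1extbt610.IV p R • T' ∧ Module.Free (WittVector p R) T' ∧
      Module.finrank (WittVector p R) T' = m.choose (r - 1) := by
  exact main p R P D m L T hLT hQ hL hLr hT r hr E hE

end Groth.Agent.S13686
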