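import Groth.Statements.S4790
import Groth.Agent.Lib.Helper11.HomDescMain
import Groth.Agent.Lib.Helper11.LimStageMod
import Groth.Agent.Lib.Helper16.QCohPullback2

set_option autoImplicit false
universe u
open CategoryTheory AlgebraicGeometry
open Lim8

namespace Groth.Agent.S4790

/-- Let S = lim S_i be a cofiltered limit of schemes with affine transition maps and S_{i₀} a
quasi-compact quasi-separated stage; let F₀ and G₀ be quasi-coherent O-modules of finite
presentation on S_{i₀}. Then the pullbacks of F₀ and G₀ along S ⟶ S_{i₀} are isomorphic if and only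
if, for some index j over i₀, their pullbacks along S_j ⟶ S_{i₀} are isomorphic. -/
theorem result {I : Type u} [SmallCategory I] [IsCofiltered I]
    (D : I ⥤ Scheme.{u}) (c : Limits.Cone D) (hc : Limits.IsLimit c)
    [∀ (i j : I) (f : i ⟶ j), IsAffineHom (D.map f)] (i₀ : I) [CompactSpace (D.obj i₀)]
    [QuasiSeparatedSpace (D.obj i₀)] (F₀ G₀ : (D.obj i₀).Modules)
    [Coh.IsQCoh F₀] (hF₀fp : CohB1.IsFP F₀)
    [Coh.IsQCoh G₀] (hG₀fp : CohB1.IsFP G₀) :
    Nonempty ((Scheme.Modules.pullback (c.π.app i₀)).obj F₀ ≅ (Scheme.Modules.pullback (c.π.app i₀)).obj G₀) ↔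
      ∃ (j : I) (φ : j ⟶ i₀),
        Nonempty ((Scheme.Modules.pullback (D.map φ)).obj F₀ ≅ (Scheme.Modules.pullback (D.map φ)).obj G₀) := by
  constructor
  · rintro ⟨e⟩
    obtain ⟨j, φ, hj, hhj⟩ := Groth.Agent.Lib.helper11.HomDescMain.exists_hom_stage D c hc i₀ F₀ G₀
      hF₀fp e.hom
    -- `hj` pulls back to an isomorphism on the limit
    have h1 : IsIso ((Scheme.Modules.pullback (c.π.app j)).map hj) := by
      have h2 : (Scheme.Modules.pullback (c.π.app j)).map hj =
          (Groth.Agent.Lib.helper11.HomDescPP.ηcomp (c.π.app j) (D.map φ) (c.π.app i₀)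
            (c.w φ)).hom.app F₀ ≫ e.hom ≫
          (Groth.Agent.Lib.helper11.HomDescPP.ηcomp (c.π.app j) (D.map φ) (c.π.app i₀)
            (c.w φ)).inv.app G₀ := by
        rw [← hhj]
        unfold Groth.Agent.Lib.helper11.HomDescPP.conjPull
        simp only [Category.assoc, Iso.hom_inv_id_app, Iso.hom_inv_id_app_assoc]
        exact (Category.comp_id _).symm
      rw [h2]
      infer_instance
    haveI : QuasiCompact (D.map φ) := inferInstance
    haveI : CompactSpace (D.obj j) := by
      have := QuasiCompact.isCompact_preimage (f := D.map φ) Set.univ isOpen_univ isCompact_univ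
      rw [Set.preimage_univ] at this
      exact isCompact_univ_iff.mp this
    haveI : ((Scheme.Modules.pullback (D.map φ)).obj F₀).IsQuasicoherent :=
      Groth.Agent.Lib.helper16.QCohPullback.isQuasicoherent_pullback (D.map φ) F₀
    haveI : ((Scheme.Modules.pullback (D.map φ)).obj G₀).IsQuasicoherent :=
      Groth.Agent.Lib.helper16.QCohPullback.isQuasicoherent_pullback (D.map φ) G₀
    have hFj : CohB1.IsFT ((Scheme.Modules.pullback (D.map φ)).obj F₀) := by
      haveI : SheafOfModules.IsFinitePresentation (R := (D.obj j).ringCatSheaf)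
          ((Scheme.Modules.pullback (D.map φ)).obj F₀) :=
        Groth.Agent.Lib.helper16.QCohPullback2.isFinitePresentation_pullback (D.map φ) F₀ hF₀fp
      infer_instance
    have hGj : CohB1.IsFP ((Scheme.Modules.pullback (D.map φ)).obj G₀) :=
      Groth.Agent.Lib.helper16.QCohPullback2.isFinitePresentation_pullback (D.map φ) G₀ hG₀fp
    obtain ⟨k, ψ, hk⟩ := (Groth.Agent.Lib.helper11.LimStageMod.isIso_iff D c hc j hj hFj hGj).mp h1
    haveI := hk
    refine ⟨k, ψ ≫ φ, ⟨?_⟩⟩
    exact ((Groth.Agent.Lib.helper11.HomDescPP.ηcomp (D.map ψ) (D.map φ) (D.map (ψ ≫ φ))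
        (D.map_comp ψ φ).symm).app F₀).symm ≪≫
      asIso ((Scheme.Modules.pullback (D.map ψ)).map hj) ≪≫
      (Groth.Agent.Lib.helper11.HomDescPP.ηcomp (D.map ψ) (D.map φ) (D.map (ψ ≫ φ))
        (D.map_comp ψ φ).symm).app G₀
  · rintro ⟨j, φ, ⟨e⟩⟩
    exact ⟨((Groth.Agent.Lib.helper11.HomDescPP.ηcomp (c.π.app j) (D.map φ) (c.π.app i₀)
        (c.w φ)).app F₀).symm ≪≫
      (Scheme.Modules.pullback (c.π.app j)).mapIso e ≪≫
      (Groth.Agent.Lib.helper11.HomDescPP.ηcomp (c.π.app j) (D.map φ) (c.π.app i₀)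
        (c.w φ)).app G₀⟩

end Groth.Agent.S4790
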