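import Groth.Statements.S4823
import Mathlib
import Groth.Agent.S4790
import Groth.Agent.Lib.Helper5.FGDescent
import Groth.Agent.Lib.Helper16.QCohPullback2

set_option autoImplicit false
open CategoryTheory AlgebraicGeometry
universe u
open Cons9

namespace Groth.Agent.S4823

open CategoryTheory.Limits in
/-- Let k be a field, Ω an algebraically closed extension field of k, X a scheme of finite type over k
and F, G two coherent O_X-modules (quasi-coherent of finite presentation). If the pullbacks of F and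
G to X ⊗_k Ω are isomorphic, then there is a finite extension k' of k such that the pullbacks of F
and G to X ⊗_k k' are already isomorphic (base changes are the chosen fibre products with Spec of
the extension, and the modules are pulled back along the first projection). -/
theorem result {k : Type u} [Field k] {X : Scheme.{u}}
    (p : X ⟶ Spec (CommRingCat.of k)) [LocallyOfFiniteType p] [QuasiCompact p]
    (F G : X.Modules) [Coh.IsQCoh F] [Coh.IsQCoh G] (hF : CohB1.IsFP F) (hG : CohB1.IsFP G)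
    (Ω : Type u) [Field Ω] [Algebra k Ω] [IsAlgClosed Ω]
    (e : (Scheme.Modules.pullback (pullback.fst p (Spec.map (CommRingCat.ofHom (algebraMap k Ω))))).obj F ≅
      (Scheme.Modules.pullback (pullback.fst p (Spec.map (CommRingCat.ofHom (algebraMap k Ω))))).obj G) :
    ∃ (k' : Type u) (_ : Field k') (_ : Algebra k k') (_ : Module.Finite k k'),
      Nonempty ((Scheme.Modules.pullback (pullback.fst p (Spec.map (CommRingCat.ofHom (algebraMap k k'))))).obj F ≅
        (Scheme.Modules.pullback (pullback.fst p (Spec.map (CommRingCat.ofHom (algebraMap k k'))))).obj G) := by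
  classical
  have : IsLocallyNoetherian X := LocallyOfFiniteType.isLocallyNoetherian p
  have : QuasiSeparated p := inferInstance
  -- the limit presentation `X_Ω = lim X_{k[s]}`
  have hc := Groth.Agent.Lib.helper5.PBLimit.isLimitPbCone
    (Groth.Agent.Lib.helper5.FGLimit.specDiagram k Ω)
    (Groth.Agent.Lib.helper5.FGLimit.specτ k Ω (𝟙 (Spec (CommRingCat.of k)))) p
    (Groth.Agent.Lib.helper5.FGLimit.specCone k Ω)
    (Groth.Agent.Lib.helper5.FGLimit.tK k Ω (𝟙 (Spec (CommRingCat.of k))))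
    (Groth.Agent.Lib.helper5.FGLimit.specCone_specτ k Ω (𝟙 (Spec (CommRingCat.of k))))
    (Groth.Agent.Lib.helper5.FGLimit.isLimitSpecCone k Ω)
  set D := Groth.Agent.Lib.helper5.PBLimit.pbDiagram
    (Groth.Agent.Lib.helper5.FGLimit.specDiagram k Ω)
    (Groth.Agent.Lib.helper5.FGLimit.specτ k Ω (𝟙 (Spec (CommRingCat.of k)))) p with hD
  set c := Groth.Agent.Lib.helper5.PBLimit.pbCone
    (Groth.Agent.Lib.helper5.FGLimit.specDiagram k Ω)
    (Groth.Agent.Lib.helper5.FGLimit.specτ k Ω (𝟙 (Spec (CommRingCat.of k)))) p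
    (Groth.Agent.Lib.helper5.FGLimit.specCone k Ω)
    (Groth.Agent.Lib.helper5.FGLimit.tK k Ω (𝟙 (Spec (CommRingCat.of k))))
    (Groth.Agent.Lib.helper5.FGLimit.specCone_specτ k Ω (𝟙 (Spec (CommRingCat.of k)))) with hcdef
  let i₀ : (Finset Ω)ᵒᵖ := Opposite.op ∅
  -- the projections to `X`
  let a : ∀ s : (Finset Ω)ᵒᵖ, D.obj s ⟶ X := fun s => pullback.fst p
    ((Groth.Agent.Lib.helper5.FGLimit.specτ k Ω (𝟙 (Spec (CommRingCat.of k)))).app s)
  have ha : ∀ {s t : (Finset Ω)ᵒᵖ} (φ : s ⟶ t), D.map φ ≫ a t = a s := by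
    intro s t φ
    exact (pullback.lift_fst _ _ _).trans (Category.comp_id _)
  have hta : Groth.Agent.Lib.helper5.FGLimit.tK k Ω (𝟙 (Spec (CommRingCat.of k))) =
      Spec.map (CommRingCat.ofHom (algebraMap k Ω)) := Category.comp_id _
  have hca : c.π.app i₀ ≫ a i₀ =
      pullback.fst p (Groth.Agent.Lib.helper5.FGLimit.tK k Ω (𝟙 (Spec (CommRingCat.of k)))) :=
    (pullback.lift_fst _ _ _).trans (Category.comp_id _)
  -- the modules on the stage `i₀`
  haveI hF₀q : Coh.IsQCoh ((Scheme.Modules.pullback (a i₀)).obj F) :=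
    Groth.Agent.Lib.helper16.QCohPullback.isQuasicoherent_pullback (a i₀) F
  haveI hG₀q : Coh.IsQCoh ((Scheme.Modules.pullback (a i₀)).obj G) :=
    Groth.Agent.Lib.helper16.QCohPullback.isQuasicoherent_pullback (a i₀) G
  have hF₀ : CohB1.IsFP ((Scheme.Modules.pullback (a i₀)).obj F) :=
    Groth.Agent.Lib.helper16.QCohPullback2.isFinitePresentation_pullback (a i₀) F hF
  have hG₀ : CohB1.IsFP ((Scheme.Modules.pullback (a i₀)).obj G) :=
    Groth.Agent.Lib.helper16.QCohPullback2.isFinitePresentation_pullback (a i₀) G hG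
  -- transport `e`
  have key : ∀ {Y Z : Scheme.{u}} (f : Y ⟶ Z) (g : Z ⟶ X) (h : Y ⟶ X) (hh : f ≫ g = h)
      (M : X.Modules),
      Nonempty ((Scheme.Modules.pullback f).obj ((Scheme.Modules.pullback g).obj M) ≅
        (Scheme.Modules.pullback h).obj M) := by
    intro Y Z f g h hh M
    subst hh
    exact ⟨(Scheme.Modules.pullbackComp f g).app M⟩
  have e' : Nonempty ((Scheme.Modules.pullback (pullback.fst p
      (Groth.Agent.Lib.helper5.FGLimit.tK k Ω (𝟙 (Spec (CommRingCat.of k)))))).obj F ≅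
      (Scheme.Modules.pullback (pullback.fst p
      (Groth.Agent.Lib.helper5.FGLimit.tK k Ω (𝟙 (Spec (CommRingCat.of k)))))).obj G) := by
    rw [hta]
    exact ⟨e⟩
  have h1 : Nonempty ((Scheme.Modules.pullback (c.π.app i₀)).obj
      ((Scheme.Modules.pullback (a i₀)).obj F) ≅
      (Scheme.Modules.pullback (c.π.app i₀)).obj ((Scheme.Modules.pullback (a i₀)).obj G)) := by
    obtain ⟨e0⟩ := e'
    obtain ⟨e1⟩ := key (c.π.app i₀) (a i₀) _ hca F
    obtain ⟨e2⟩ := key (c.π.app i₀) (a i₀) _ hca G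
    exact ⟨e1 ≪≫ e0 ≪≫ e2.symm⟩
  obtain ⟨j, φ, ⟨e₂⟩⟩ := (Groth.Agent.S4790.result D c hc i₀ _ _ hF₀ hG₀).mp h1
  -- the stage `j`
  obtain ⟨e3⟩ := key (D.map φ) (a i₀) (a j) (ha φ) F
  obtain ⟨e4⟩ := key (D.map φ) (a i₀) (a j) (ha φ) G
  have e₅ : (Scheme.Modules.pullback (a j)).obj F ≅ (Scheme.Modules.pullback (a j)).obj G :=
    e3.symm ≪≫ e₂ ≪≫ e4
  -- a maximal ideal of the finitely generated subalgebra
  obtain ⟨𝔪, h𝔪⟩ := Ideal.exists_maximal (Groth.Agent.Lib.helper5.FGLimit.adj k Ω j.unop)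
  haveI := h𝔪
  letI : Field (Groth.Agent.Lib.helper5.FGLimit.adj k Ω j.unop ⧸ 𝔪) := Ideal.Quotient.field 𝔪
  have hft : Algebra.FiniteType k (Groth.Agent.Lib.helper5.FGLimit.adj k Ω j.unop) :=
    (Subalgebra.fg_iff_finiteType _).mp (Subalgebra.fg_adjoin_finset j.unop)
  haveI : Algebra.FiniteType k (Groth.Agent.Lib.helper5.FGLimit.adj k Ω j.unop ⧸ 𝔪) :=
    Algebra.FiniteType.of_surjective (Ideal.Quotient.mkₐ k 𝔪) (Ideal.Quotient.mkₐ_surjective k 𝔪)
  have hfin : Module.Finite k (Groth.Agent.Lib.helper5.FGLimit.adj k Ω j.unop ⧸ 𝔪) :=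
    finite_of_finite_type_of_isJacobsonRing k _
  refine ⟨Groth.Agent.Lib.helper5.FGLimit.adj k Ω j.unop ⧸ 𝔪, inferInstance, inferInstance,
    hfin, ?_⟩
  let r : Spec (CommRingCat.of (Groth.Agent.Lib.helper5.FGLimit.adj k Ω j.unop ⧸ 𝔪)) ⟶
      Spec (CommRingCat.of (Groth.Agent.Lib.helper5.FGLimit.adj k Ω j.unop)) :=
    Spec.map (CommRingCat.ofHom (Ideal.Quotient.mk 𝔪))
  have ht' : r ≫ Groth.Agent.Lib.helper5.FGLimit.pS k Ω (𝟙 (Spec (CommRingCat.of k))) j.unop =
      Spec.map (CommRingCat.ofHom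
        (algebraMap k (Groth.Agent.Lib.helper5.FGLimit.adj k Ω j.unop ⧸ 𝔪))) := by
    unfold Groth.Agent.Lib.helper5.FGLimit.pS
    rw [Category.comp_id, ← Spec.map_comp]
    rfl
  let ρ : pullback p (Spec.map (CommRingCat.ofHom
      (algebraMap k (Groth.Agent.Lib.helper5.FGLimit.adj k Ω j.unop ⧸ 𝔪)))) ⟶ D.obj j :=
    pullback.map p _ p (Groth.Agent.Lib.helper5.FGLimit.pS k Ω (𝟙 (Spec (CommRingCat.of k))) j.unop)
      (𝟙 X) r (𝟙 _) (by simp) (by rw [Category.comp_id, ht'])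
  have hρ : ρ ≫ a j = pullback.fst p (Spec.map (CommRingCat.ofHom
      (algebraMap k (Groth.Agent.Lib.helper5.FGLimit.adj k Ω j.unop ⧸ 𝔪)))) :=
    (pullback.lift_fst _ _ _).trans (Category.comp_id _)
  obtain ⟨e6⟩ := key ρ (a j) _ hρ F
  obtain ⟨e7⟩ := key ρ (a j) _ hρ G
  exact ⟨e6.symm ≪≫ (Scheme.Modules.pullback ρ).mapIso e₅ ≪≫ e7⟩

end Groth.Agent.S4823
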