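import Groth.Statements.S13687
import Mathlib
import Groth.Agent.S4823
import Groth.Agent.Lib.Helper12.FinBC3
import Groth.Agent.Lib.Helper16.CohFinite

set_option autoImplicit false
universe u
open CategoryTheory CategoryTheory.Limits AlgebraicGeometry
open ASBun

namespace Groth.Agent.S13687

open W4c1astiltbs12 in
/-- Let X be a scheme proper over a field k, F and G coherent O_X-modules (quasi-coherent of finite
type; X is Noetherian) and K an algebraic field extension of k, with projection π : X_K → X. If π^*F
and π^*G are isomorphic, then F and G are isomorphic (existence of an isomorphism). (The published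
statement takes K to be an algebraic closure of k; the argument treats a finite extension and passes
to the limit over finite subextensions, which covers every algebraic extension.) -/
theorem result (k : Type u) [Field k] {X : Scheme.{u}}
    (p : X ⟶ Spec (CommRingCat.of k)) [IsProper p] (K : Type u) [Field K] [Algebra k K]
    [Algebra.IsAlgebraic k K] (F G : X.Modules) (hF : Coh.IsCoh F) (hG : Coh.IsCoh G)
    (e : bcMod p K F ≅ bcMod p K G) : Nonempty (F ≅ G) := by
  let sK := Spec.map (CommRingCat.ofHom (algebraMap k K))
  let sΩ := Spec.map (CommRingCat.ofHom (algebraMap k (AlgebraicClosure K)))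
  let sKΩ := Spec.map (CommRingCat.ofHom (algebraMap K (AlgebraicClosure K)))
  have hs : sKΩ ≫ sK = sΩ := by
    change Spec.map _ ≫ Spec.map _ = Spec.map _
    rw [← Spec.map_comp, ← CommRingCat.ofHom_comp]
    congr 2
  let t : pullback p sΩ ⟶ pullback p sK :=
    pullback.lift (pullback.fst p sΩ) (pullback.snd p sΩ ≫ sKΩ)
      (by rw [Category.assoc, hs, pullback.condition])
  have ht : t ≫ pullback.fst p sK = pullback.fst p sΩ := pullback.lift_fst _ _ _
  have key : ∀ {Y Z : Scheme.{u}} (f : Y ⟶ Z) (g : Z ⟶ X) (h : Y ⟶ X) (hh : f ≫ g = h)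
      (M : X.Modules),
      Nonempty ((Scheme.Modules.pullback f).obj ((Scheme.Modules.pullback g).obj M) ≅
        (Scheme.Modules.pullback h).obj M) := by
    intro Y Z f g h hh M
    subst hh
    exact ⟨(Scheme.Modules.pullbackComp f g).app M⟩
  obtain ⟨e1⟩ := key t (pullback.fst p sK) (pullback.fst p sΩ) ht F
  obtain ⟨e2⟩ := key t (pullback.fst p sK) (pullback.fst p sΩ) ht G
  have eΩ : (Scheme.Modules.pullback (pullback.fst p sΩ)).obj F ≅
      (Scheme.Modules.pullback (pullback.fst p sΩ)).obj G :=
    e1.symm ≪≫ (Scheme.Modules.pullback t).mapIso e ≪≫ e2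
  have : IsLocallyNoetherian X := LocallyOfFiniteType.isLocallyNoetherian p
  have : Coh.IsQCoh F := hF.1
  have : Coh.IsQCoh G := hG.1
  have hF' : CohB1.IsFP F :=
    Groth.Agent.Lib.helper16.CohFinite.isFinitePresentation_of_isCoh F hF
  have hG' : CohB1.IsFP G :=
    Groth.Agent.Lib.helper16.CohFinite.isFinitePresentation_of_isCoh G hG
  obtain ⟨k', _, _, _, ⟨e'⟩⟩ := Groth.Agent.S4823.result p F G hF' hG' (AlgebraicClosure K) eΩ
  exact Groth.Agent.Lib.helper12.FinBC.nonempty_iso_of_bcMod_iso_finite k p k' F G hF hG e'

end Groth.Agent.S13687
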