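import Groth.Statements.S13696
import Mathlib
import Groth.Agent.Lib.Helper6.CHLaw2

set_option autoImplicit false
universe u
open scoped TensorProduct
open ZeroCyc

namespace Groth.Agent.S13696


open Groth.Agent.Lib.helper6.CHLaw Groth.Agent.Lib.helper6.CHLaw2



/-- Let F : B → A be a multiplicative polynomial law homogeneous of degree d, where B is a commutative
algebra over the commutative ring A. For b ∈ B the characteristic polynomial of b with respect to F
is χ_b = F_{A[X]}(1 ⊗ b − X ⊗ 1) ∈ A[X] ⊗_A A = A[X], and the Cayley–Hamilton ideal of F is the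
ideal of B generated by the elements χ_b(b), b ∈ B. Then the Cayley–Hamilton ideal is contained in
the kernel of F, and the kernel of F is contained in the radical of the Cayley–Hamilton ideal. -/
theorem result {A : Type u} [CommRing A] {B : Type u} [CommRing B] [Algebra A B]
    {d : ℕ} (F : PolLaw.MulLaw A B A d) (χ : B → Polynomial A)
    (hχ : ∀ b : B, χ b = TensorProduct.rid A (Polynomial A)
      (F.law.toFun' (Polynomial A) ((1 : Polynomial A) ⊗ₜ[A] b - Polynomial.X ⊗ₜ[A] (1 : B)))) :
    Ideal.span (Set.range fun b : B => Polynomial.aeval b (χ b)) ≤ PolLaw.ker F.law ∧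
      PolLaw.ker F.law ≤ (Ideal.span (Set.range fun b : B => Polynomial.aeval b (χ b))).radical := by
  have hχ' : ∀ b, χ b = chi0 F b := hχ
  constructor
  · rw [Ideal.span_le]
    rintro _ ⟨b, rfl⟩
    show Polynomial.aeval b (χ b) ∈ PolLaw.ker F.law
    rw [hχ' b]
    exact ch F b
  · intro b hb
    have h1 : chi0 F b = (-Polynomial.X) ^ d := chi0_of_mem_ker F b hb
    have h2 : Polynomial.aeval b (χ b) = (-b) ^ d := by
      rw [hχ' b, h1]
      exact aeval_neg_X_pow b
    have h3 : (-b) ^ d ∈ Ideal.span (Set.range fun b : B => Polynomial.aeval b (χ b)) := by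
      rw [← h2]
      exact Ideal.subset_span ⟨b, rfl⟩
    exact (Ideal.neg_mem_iff _).mp (Ideal.mem_radical_iff.mpr ⟨d, h3⟩)


end Groth.Agent.S13696
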