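import Groth.Statements.S13698
import Groth.Agent.S13699
import Mathlib

set_option autoImplicit false
universe u
open scoped TensorProduct
open ZeroCyc

namespace Groth.Agent.S13698

section aux
open MvPolynomial

attribute [local instance] MvPolynomial.algebraMvPolynomial

/-- the scaling homomorphism `X_i ↦ X_i`, `U_i ↦ c * U_i` -/
noncomputable def tau {A : Type u} [CommRing A] {σ₁ σ₂ : Type}
    (c : MvPolynomial (σ₁ ⊕ σ₂) A) : MvPolynomial (σ₁ ⊕ σ₂) A →ₐ[A] MvPolynomial (σ₁ ⊕ σ₂) A :=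
  aeval (Sum.elim (fun i => X (Sum.inl i)) (fun i => c * X (Sum.inr i)))

/-- the universal scaling homomorphism `U_i ↦ T * U_i` -/
noncomputable def tauT {A : Type u} [CommRing A] {σ₁ σ₂ : Type} :
    MvPolynomial (σ₁ ⊕ σ₂) A →ₐ[A] Polynomial (MvPolynomial (σ₁ ⊕ σ₂) A) :=
  aeval (Sum.elim (fun i => Polynomial.C (X (Sum.inl i)))
    (fun i => Polynomial.X * Polynomial.C (X (Sum.inr i))))

theorem eval_tauT {A : Type u} [CommRing A] {σ₁ σ₂ : Type} (c p : MvPolynomial (σ₁ ⊕ σ₂) A) :
    Polynomial.eval c (tauT p) = tau c p := by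
  induction p using MvPolynomial.induction_on with
  | C a =>
    show Polynomial.eval c (aeval _ (C a)) = aeval _ (C a)
    rw [aeval_C, aeval_C, Polynomial.algebraMap_apply, Polynomial.eval_C]
  | add p q hp hq => rw [map_add, Polynomial.eval_add, hp, hq, map_add]
  | mul_X p i hp =>
    rw [map_mul, Polynomial.eval_mul, hp, map_mul]
    congr 1
    rcases i with i | i
    · simp [tauT, tau]
    · simp only [tauT, tau, aeval_X, Sum.elim_inr, Polynomial.eval_mul, Polynomial.eval_X,
        Polynomial.eval_C]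

theorem tauT_C {A : Type u} [CommRing A] {σ₁ σ₂ : Type} (t : A) :
    tauT (C t : MvPolynomial (σ₁ ⊕ σ₂) A) = Polynomial.C (C t) := by
  show aeval _ (C t) = _
  rw [aeval_C, Polynomial.algebraMap_apply]
  rfl

theorem poly_key {A : Type u} [CommRing A] (M : Submonoid A) (A' : Type u) [CommRing A'] [Algebra A A']
    [IsLocalization M A'] {σ₁ σ₂ : Type}
    (Δ : MvPolynomial (σ₁ ⊕ σ₂) A)
    (h0 : tau (0 : MvPolynomial (σ₁ ⊕ σ₂) A) Δ = 0)
    (hloc : MvPolynomial.map (algebraMap A A') Δ = 0) :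
    ∃ t ∈ M, tau (C t : MvPolynomial (σ₁ ⊕ σ₂) A) Δ = 0 := by
  classical
  have hloc' : algebraMap (MvPolynomial (σ₁ ⊕ σ₂) A) (MvPolynomial (σ₁ ⊕ σ₂) A') Δ = 0 := hloc
  rw [IsLocalization.map_eq_zero_iff (M.map (C (σ := σ₁ ⊕ σ₂))) (MvPolynomial (σ₁ ⊕ σ₂) A')] at hloc'
  obtain ⟨⟨_, t, ht, rfl⟩, htΔ⟩ := hloc'
  refine ⟨t, ht, ?_⟩
  change C t * Δ = 0 at htΔ
  have h1 : (tauT Δ).coeff 0 = 0 := by
    rw [Polynomial.coeff_zero_eq_eval_zero, eval_tauT, h0]
  have h2 : Polynomial.C (C t : MvPolynomial (σ₁ ⊕ σ₂) A) * tauT Δ = 0 := by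
    have : tauT (C t * Δ) = 0 := by rw [htΔ, map_zero]
    rwa [map_mul, tauT_C] at this
  have h3 : tauT Δ = Polynomial.divX (tauT Δ) * Polynomial.X := by
    have := Polynomial.divX_mul_X_add (tauT Δ)
    rw [h1, map_zero, add_zero] at this
    exact this.symm
  have h4 : Polynomial.C (C t : MvPolynomial (σ₁ ⊕ σ₂) A) * Polynomial.divX (tauT Δ) = 0 := by
    rw [← Polynomial.divX_C_mul, h2, Polynomial.divX_zero]
  rw [← eval_tauT, h3, Polynomial.eval_mul, Polynomial.eval_X, mul_comm]
  have := congrArg (Polynomial.eval (C t : MvPolynomial (σ₁ ⊕ σ₂) A)) h4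
  rw [Polynomial.eval_mul, Polynomial.eval_C, Polynomial.eval_zero] at this
  exact this

variable {A : Type u} [CommRing A] {B : Type u} [CommRing B] [Algebra A B]

/-- universal elements -/
noncomputable def x0 {m : ℕ} (g : Fin m → B) : MvPolynomial (Fin m ⊕ Fin m) A ⊗[A] B :=
  ∑ i, X (Sum.inl i) ⊗ₜ[A] g i

noncomputable def w0 {m : ℕ} (g : Fin m → B) : MvPolynomial (Fin m ⊕ Fin m) A ⊗[A] B :=
  ∑ i, X (Sum.inr i) ⊗ₜ[A] g i

theorem exists_rep {m : ℕ} (g : Fin m → B) (hg : Submodule.span A (Set.range g) = ⊤)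
    (S : Type u) [CommSemiring S] [Algebra A S] (x : S ⊗[A] B) :
    ∃ s : Fin m → S, x = ∑ i, s i ⊗ₜ[A] g i := by
  induction x using TensorProduct.induction_on with
  | zero => exact ⟨0, by simp⟩
  | tmul a b =>
    have hb : b ∈ Submodule.span A (Set.range g) := by rw [hg]; trivial
    obtain ⟨c, rfl⟩ := (Submodule.mem_span_range_iff_exists_fun A).1 hb
    refine ⟨fun i => c i • a, ?_⟩
    rw [TensorProduct.tmul_sum]
    refine Finset.sum_congr rfl (fun i _ => ?_)
    rw [TensorProduct.tmul_smul, TensorProduct.smul_tmul']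
  | add x y hx hy =>
    obtain ⟨s, rfl⟩ := hx
    obtain ⟨s', rfl⟩ := hy
    refine ⟨s + s', ?_⟩
    rw [← Finset.sum_add_distrib]
    refine Finset.sum_congr rfl (fun i _ => ?_)
    rw [Pi.add_apply, TensorProduct.add_tmul]

theorem compat (F : B →ₚₗ[A] A) {S S' : Type u} [CommSemiring S] [Algebra A S] [CommSemiring S']
    [Algebra A S'] (φ : S →ₐ[A] S') (y : S ⊗[A] B) :
    F.toFun' S' (Algebra.TensorProduct.map φ (AlgHom.id A B) y) =
      φ.toLinearMap.rTensor A (F.toFun' S y) := by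
  rw [← Groth.Agent.S13699.rTensor_algHom_apply']
  exact (congrFun (F.isCompat' φ) y).symm

theorem mem_ker_of_univ (F : B →ₚₗ[A] A) {m : ℕ} (g : Fin m → B)
    (hg : Submodule.span A (Set.range g) = ⊤) (b : B)
    (h : F.toFun' (MvPolynomial (Fin m ⊕ Fin m) A) (x0 g + w0 g * (1 ⊗ₜ[A] b)) =
      F.toFun' (MvPolynomial (Fin m ⊕ Fin m) A) (x0 g)) : b ∈ PolLaw.ker F := by
  show ∀ (S : Type u) [CommSemiring S] [Algebra A S] (x w : S ⊗[A] B),
    F.toFun' S (x + w * (1 ⊗ₜ[A] b)) = F.toFun' S x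
  intro S _ _ x w
  obtain ⟨s, rfl⟩ := exists_rep g hg S x
  obtain ⟨v, rfl⟩ := exists_rep g hg S w
  let φ : MvPolynomial (Fin m ⊕ Fin m) A →ₐ[A] S := aeval (Sum.elim s v)
  have e0 : Algebra.TensorProduct.map φ (AlgHom.id A B) (x0 g) = ∑ i, s i ⊗ₜ[A] g i := by
    simp [x0, φ]
  have e1 : Algebra.TensorProduct.map φ (AlgHom.id A B) (x0 g + w0 g * (1 ⊗ₜ[A] b)) =
      ∑ i, s i ⊗ₜ[A] g i + (∑ i, v i ⊗ₜ[A] g i) * (1 ⊗ₜ[A] b) := by
    simp [x0, w0, φ]
  rw [← e1, ← e0, compat, compat, h]

/-- compatibility of `rid` -/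
theorem rid_rTensor {S S' : Type u} [CommRing S] [Algebra A S] [CommRing S'] [Algebra A S']
    (φ : S →ₐ[A] S') (z : S ⊗[A] A) :
    TensorProduct.rid A S' (φ.toLinearMap.rTensor A z) = φ (TensorProduct.rid A S z) := by
  induction z using TensorProduct.induction_on with
  | zero => simp
  | tmul p a => simp
  | add x y hx hy => simp [hx, hy]

theorem compat' (F : B →ₚₗ[A] A) {S S' : Type u} [CommRing S] [Algebra A S] [CommRing S']
    [Algebra A S'] (φ : S →ₐ[A] S') (y : S ⊗[A] B) :
    TensorProduct.rid A S' (F.toFun' S' (Algebra.TensorProduct.map φ (AlgHom.id A B) y)) =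
      φ (TensorProduct.rid A S (F.toFun' S y)) := by
  rw [compat, rid_rTensor]

theorem exists_smul_univ (F : B →ₚₗ[A] A) (M : Submonoid A) (A' : Type u) [CommRing A']
    [Algebra A A'] [IsLocalization M A'] {m : ℕ} (g : Fin m → B) (b : B)
    (hb : (1 : A') ⊗ₜ[A] b ∈ PolLaw.kerBC F A') :
    ∃ t ∈ M, F.toFun' (MvPolynomial (Fin m ⊕ Fin m) A) (x0 g + w0 g * (1 ⊗ₜ[A] (t • b))) =
      F.toFun' (MvPolynomial (Fin m ⊕ Fin m) A) (x0 g) := by
  set P := MvPolynomial (Fin m ⊕ Fin m) A with hP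
  set D := F.toFun' P (x0 g + w0 g * (1 ⊗ₜ[A] b)) with hD
  set D₀ := F.toFun' P (x0 g) with hD₀
  set Δ : P := TensorProduct.rid A P D - TensorProduct.rid A P D₀ with hΔ
  -- (i) localisation
  have h1 : MvPolynomial.map (algebraMap A A') Δ = 0 := by
    let R := MvPolynomial (Fin m ⊕ Fin m) A'
    let ψ : P →ₐ[A] R := MvPolynomial.mapAlgHom (Algebra.ofId A A')
    have hb' : ∀ (R : Type u) [CommSemiring R] [Algebra A R] [Algebra A' R] [IsScalarTower A A' R]
        (x w : R ⊗[A] B),
        F.toFun' R (x + w * Algebra.TensorProduct.map (IsScalarTower.toAlgHom A A' R)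
          (AlgHom.id A B) ((1 : A') ⊗ₜ[A] b)) = F.toFun' R x := hb
    have h := hb' R (Algebra.TensorProduct.map ψ (AlgHom.id A B) (x0 g))
      (Algebra.TensorProduct.map ψ (AlgHom.id A B) (w0 g))
    have e1 : Algebra.TensorProduct.map ψ (AlgHom.id A B) (x0 g) +
        Algebra.TensorProduct.map ψ (AlgHom.id A B) (w0 g) *
          Algebra.TensorProduct.map (IsScalarTower.toAlgHom A A' R) (AlgHom.id A B)
            ((1 : A') ⊗ₜ[A] b) =
        Algebra.TensorProduct.map ψ (AlgHom.id A B) (x0 g + w0 g * (1 ⊗ₜ[A] b)) := by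
      simp
    rw [e1] at h
    have h' := congrArg (TensorProduct.rid A R) h
    rw [compat', compat'] at h'
    have : ψ Δ = 0 := by rw [hΔ, map_sub, h', sub_self]
    exact this
  -- (ii) U = 0
  have h2 : tau (0 : P) Δ = 0 := by
    have ex : Algebra.TensorProduct.map (tau (0 : P)) (AlgHom.id A B) (x0 g) = x0 g := by
      simp [x0, tau]
    have ew : Algebra.TensorProduct.map (tau (0 : P)) (AlgHom.id A B) (w0 g) = 0 := by
      simp [w0, tau]
    have e1 : Algebra.TensorProduct.map (tau (0 : P)) (AlgHom.id A B)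
        (x0 g + w0 g * (1 ⊗ₜ[A] b)) = x0 g := by
      rw [map_add, map_mul, ex, ew, zero_mul, add_zero]
    have a1 := compat' F (tau (0 : P)) (x0 g + w0 g * (1 ⊗ₜ[A] b))
    have a2 := compat' F (tau (0 : P)) (x0 g)
    rw [e1] at a1
    rw [ex] at a2
    rw [hΔ, map_sub, ← a1, ← a2, sub_self]
  obtain ⟨t, ht, h3⟩ := poly_key M A' Δ h2 h1
  refine ⟨t, ht, ?_⟩
  have ex : Algebra.TensorProduct.map (tau (C t : P)) (AlgHom.id A B) (x0 g) = x0 g := by
    simp [x0, tau]
  have e1 : Algebra.TensorProduct.map (tau (C t : P)) (AlgHom.id A B)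
      (x0 g + w0 g * (1 ⊗ₜ[A] b)) = x0 g + w0 g * (1 ⊗ₜ[A] (t • b)) := by
    rw [map_add, map_mul, ex]
    congr 1
    simp only [w0, map_sum, Algebra.TensorProduct.map_tmul, tau, aeval_X, Sum.elim_inr,
      AlgHom.coe_id, id_eq, map_one, Finset.sum_mul, Algebra.TensorProduct.tmul_mul_tmul, mul_one]
    refine Finset.sum_congr rfl (fun i _ => ?_)
    rw [mul_smul_comm, ← TensorProduct.smul_tmul, MvPolynomial.smul_eq_C_mul]
  have a1 := compat' F (tau (C t : P)) (x0 g + w0 g * (1 ⊗ₜ[A] b))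
  have a2 := compat' F (tau (C t : P)) (x0 g)
  rw [e1] at a1
  rw [ex] at a2
  apply (TensorProduct.rid A P).injective
  rw [a1, a2, ← sub_eq_zero, ← map_sub]
  exact h3

end aux


/-- Let F : B → A be a multiplicative polynomial law homogeneous of degree d over the commutative ring
A, on a commutative A-algebra B which is finite as an A-module, and let A' be a localization of A at
a submonoid M. Then the kernel of the base change of F to A' is the ideal of A' ⊗_A B generated by
the kernel of F: the kernel (hence the image of a family of zero-cycles) commutes with localization.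
(The published statement has no finiteness hypothesis on B and is false without one: for a suitable
algebra B that is not finitely generated the conditions cutting out the kernel at an element are
infinitely many elements of A annihilated by elements of M but by no single one, and the kernel of
the localised law is then strictly larger than the localised kernel; the published proof's reduction
to finite B does not go through. This row assumes B finite over A, the case that proof establishes.) -/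
theorem result {A : Type u} [CommRing A] {B : Type u} [CommRing B] [Algebra A B]
    [Module.Finite A B] {d : ℕ} (F : PolLaw.MulLaw A B A d) (M : Submonoid A) (A' : Type u) [CommRing A'] [Algebra A A']
    [IsLocalization M A'] :
    (PolLaw.ker F.law).map (Algebra.TensorProduct.includeRight : B →ₐ[A] A' ⊗[A] B) =
      PolLaw.kerBC F.law A' := by
  apply le_antisymm (Groth.Agent.S13699.map_ker_le_kerBC F.law A')
  intro z hz
  obtain ⟨m, g, hg⟩ := Module.Finite.exists_fin (R := A) (M := B)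
  -- clear denominators
  have hrep : ∀ z : A' ⊗[A] B, ∃ (s : A) (_ : s ∈ M) (b : B), s • z = (1 : A') ⊗ₜ[A] b := by
    intro z
    induction z using TensorProduct.induction_on with
    | zero => exact ⟨1, M.one_mem, 0, by simp⟩
    | tmul a' b =>
      obtain ⟨a, s, rfl⟩ := IsLocalization.exists_mk'_eq M a'
      refine ⟨s, s.2, a • b, ?_⟩
      rw [TensorProduct.smul_tmul', Algebra.smul_def, IsLocalization.mul_mk'_eq_mk'_of_mul,
        mul_comm, IsLocalization.mk'_mul_cancel_right, ← mul_one (algebraMap A A' a),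
        ← Algebra.smul_def, TensorProduct.smul_tmul]
    | add x y hx hy =>
      obtain ⟨s, hs, b, h⟩ := hx
      obtain ⟨s', hs', b', h'⟩ := hy
      refine ⟨s * s', M.mul_mem hs hs', s' • b + s • b', ?_⟩
      rw [smul_add, TensorProduct.tmul_add, TensorProduct.tmul_smul, TensorProduct.tmul_smul, ← h,
        ← h', mul_smul, smul_comm s s' x, mul_smul]
  obtain ⟨s, hs, b, hsz⟩ := hrep z
  have hb : (1 : A') ⊗ₜ[A] b ∈ PolLaw.kerBC F.law A' := by
    rw [← hsz, Algebra.smul_def]
    exact Ideal.mul_mem_left _ _ hz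
  obtain ⟨t, ht, hu⟩ := exists_smul_univ F.law M A' g b hb
  have htb : t • b ∈ PolLaw.ker F.law := mem_ker_of_univ F.law g hg (t • b) hu
  have hJ : (1 : A') ⊗ₜ[A] (t • b) ∈ (PolLaw.ker F.law).map
      (Algebra.TensorProduct.includeRight : B →ₐ[A] A' ⊗[A] B) :=
    Ideal.mem_map_of_mem _ htb
  have hts : (t * s) • z = (1 : A') ⊗ₜ[A] (t • b) := by
    rw [mul_smul, hsz, TensorProduct.tmul_smul]
  rw [← hts] at hJ
  have hunit : IsUnit (algebraMap A A' (t * s)) :=
    IsLocalization.map_units A' (⟨t * s, M.mul_mem ht hs⟩ : M)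
  obtain ⟨v, hv⟩ := hunit
  have hz' : z = ((↑v⁻¹ : A') ⊗ₜ[A] (1 : B)) * ((t * s) • z) := by
    rw [Algebra.smul_def, ← mul_assoc, Algebra.TensorProduct.algebraMap_apply,
      Algebra.TensorProduct.tmul_mul_tmul, mul_one, ← hv, Units.inv_mul, ← Algebra.TensorProduct.one_def,
      one_mul]
  rw [hz']
  exact Ideal.mul_mem_left _ _ hJ

end Groth.Agent.S13698
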