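import Groth.Statements.S13701
import Groth.Agent.Lib.Helper22.PolLawDeriv

set_option autoImplicit false
universe u
open scoped TensorProduct
open ZeroCyc

namespace Groth.Agent.S13701

/-- Let A be a commutative ℚ-algebra, F : B → A a multiplicative polynomial law homogeneous of degree d
on a commutative A-algebra B which is finite as an A-module, and A' a commutative A-algebra which is
flat as an A-module. Then the kernel of the base change of F to A' is the ideal of A' ⊗_A B
generated by the kernel of F. (In positive characteristic this fails even for finite free base
change. The published statement has no finiteness hypothesis on B and is false without one: a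
localisation of A is flat, and for a suitable algebra B that is not finitely generated the kernel
does not commute with it; the published proof's reduction to finite B does not go through. This row
assumes B finite over A, the case that proof establishes: there the kernel is the intersection of
finitely many kernels of A-linear maps on B, which commutes with flat base change.) -/
theorem result {A : Type u} [CommRing A] [Algebra ℚ A] {B : Type u} [CommRing B] [Algebra A B]
    [Module.Finite A B] {d : ℕ} (F : PolLaw.MulLaw A B A d) (A' : Type u) [CommRing A'] [Algebra A A'] [Module.Flat A A'] :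
    (PolLaw.ker F.law).map (Algebra.TensorProduct.includeRight : B →ₐ[A] A' ⊗[A] B) =
      PolLaw.kerBC F.law A' := by
  classical
  obtain ⟨m, g, hg⟩ := Module.Finite.exists_fin (R := A) (M := B)
  apply le_antisymm (Groth.Agent.S13699.map_ker_le_kerBC F.law A')
  intro z hz
  have hz0 : (Groth.Agent.Lib.helper22.PolLawDeriv.lam F.law g).lTensor A' z = 0 := by
    apply (MvPolynomial.algebraTensorAlgEquiv A A').injective
    rw [Groth.Agent.Lib.helper22.PolLawDeriv.lTensor_lam_eq,
      Groth.Agent.Lib.helper22.PolLawDeriv.D_eq_zero_of_mem_kerBC F.law g A' z hz, map_zero]
  have hex := Module.Flat.lTensor_exact A'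
    (LinearMap.exact_subtype_ker_map (Groth.Agent.Lib.helper22.PolLawDeriv.lam F.law g))
  obtain ⟨w, rfl⟩ := (hex z).1 hz0
  clear hz hz0
  induction w using TensorProduct.induction_on with
  | zero => simp
  | add x y hx hy =>
    rw [map_add]
    exact Ideal.add_mem _ hx hy
  | tmul a k =>
    rw [LinearMap.lTensor_tmul]
    have hk : (k : B) ∈ PolLaw.ker F.law :=
      Groth.Agent.Lib.helper22.PolLawDeriv.mem_ker_of_lam_eq_zero F.law g hg k k.2
    have e : a ⊗ₜ[A] ((LinearMap.ker (Groth.Agent.Lib.helper22.PolLawDeriv.lam F.law g)).subtype k) =
        (a ⊗ₜ[A] (1 : B)) * (Algebra.TensorProduct.includeRight : B →ₐ[A] A' ⊗[A] B) (k : B) := by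
      simp
    rw [e]
    exact Ideal.mul_mem_left _ _ (Ideal.mem_map_of_mem _ hk)

end Groth.Agent.S13701
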