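import Groth.Statements.S13702
import Mathlib

set_option autoImplicit false
universe u
open ZeroCyc

namespace Groth.Agent.S13702

section aux
open Polynomial

/-- field-level: the matrix of coefficients of `X^{q i} mod g` is nonsingular. -/
theorem field_key {k : Type*} [Field k] (p : ℕ) [Fact p.Prime] [CharP k p] (g : k[X]) (hg : g.Monic)
    (hsep : g.Separable) (s : ℕ) (n : ℕ) (hn : g.natDegree = n) :
    (Matrix.of fun (j i : Fin n) => ((X : k[X]) ^ (p ^ s * (i : ℕ)) %ₘ g).coeff j).det ≠ 0 := by
  classical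
  intro hdet
  rcases Nat.eq_zero_or_pos n with hn0 | hnpos
  · subst hn0
    rw [Matrix.det_isEmpty] at hdet
    exact one_ne_zero hdet
  have hg1 : g ≠ 1 := by
    rintro rfl
    rw [natDegree_one] at hn
    omega
  obtain ⟨c, hc0, hc⟩ := Matrix.exists_mulVec_eq_zero_iff.mpr hdet
  set H : k[X] := ∑ i : Fin n, C (c i) * X ^ (p ^ s * (i : ℕ)) with hH
  have hHmod : H %ₘ g = 0 := by
    have h1 : H %ₘ g = ∑ i : Fin n, c i • (X ^ (p ^ s * (i : ℕ)) %ₘ g) := by
      rw [hH, ← Polynomial.modByMonicHom_apply, map_sum]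
      refine Finset.sum_congr rfl fun i _ => ?_
      rw [← smul_eq_C_mul, map_smul]
      rfl
    ext j
    rw [coeff_zero]
    by_cases hj : j < n
    · have := congrFun hc ⟨j, hj⟩
      simp only [Matrix.mulVec, dotProduct, Matrix.of_apply, Pi.zero_apply] at this
      rw [h1, finsetSum_coeff]
      simp only [coeff_smul, smul_eq_mul]
      rw [← this]
      exact Finset.sum_congr rfl fun i _ => mul_comm _ _
    · apply coeff_eq_zero_of_natDegree_lt
      have := natDegree_modByMonic_lt H hg hg1
      omega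
  have hdvd : g ∣ H := (modByMonic_eq_zero_iff_dvd hg).mp hHmod
  -- roots in the algebraic closure
  let Ω := AlgebraicClosure k
  have : CharP Ω p := charP_of_injective_algebraMap (algebraMap k Ω).injective p
  have : ExpChar Ω p := ExpChar.prime (Fact.out)
  set h' : Polynomial Ω := ∑ i : Fin n, C (algebraMap k Ω (c i)) * X ^ (i : ℕ) with hh'
  have hdeg : h'.degree < n := degree_sum_fin_lt _
  have hcard : Fintype.card (g.rootSet Ω) = n := by
    rw [card_rootSet_eq_natDegree hsep (IsAlgClosed.splits _), hn]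
  have hroot : ∀ α : g.rootSet Ω, h'.eval ((α : Ω) ^ (p ^ s)) = 0 := by
    intro α
    have hα : aeval (α : Ω) g = 0 := ((mem_rootSet).mp α.2).2
    obtain ⟨D, hD⟩ := hdvd
    have h2 : aeval (α : Ω) H = 0 := by rw [hD, map_mul, hα, zero_mul]
    rw [hH, map_sum] at h2
    rw [hh', eval_finsetSum, ← h2]
    refine Finset.sum_congr rfl fun i _ => ?_
    simp only [eval_mul, eval_C, eval_pow, eval_X, map_mul, aeval_C, map_pow, aeval_X, pow_mul]
  have hinj : Function.Injective (fun α : g.rootSet Ω => (α : Ω) ^ (p ^ s)) := by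
    intro α β hαβ
    apply Subtype.ext
    exact iterateFrobenius_inj Ω p s (by simpa [iterateFrobenius_def] using hαβ)
  have hzero : h' = 0 := by
    by_contra hne
    have hnat : h'.natDegree < Fintype.card (g.rootSet Ω) := by
      rw [hcard]
      exact (natDegree_lt_iff_degree_lt hne).mpr hdeg
    exact hne (eq_zero_of_natDegree_lt_card_of_eval_eq_zero h' hinj hroot hnat)
  apply hc0
  ext i
  have h3 := congrArg (fun P : Polynomial Ω => P.coeff (i : ℕ)) hzero
  simp only [hh', finsetSum_coeff, coeff_C_mul, coeff_X_pow, coeff_zero] at h3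
  rw [Finset.sum_eq_single i] at h3
  · simp only [if_true, mul_one] at h3
    rw [Pi.zero_apply]
    exact (map_eq_zero_iff _ (algebraMap k Ω).injective).mp h3
  · intro j _ hji
    rw [if_neg, mul_zero]
    intro h
    exact hji (Fin.ext h.symm)
  · intro h
    exact absurd (Finset.mem_univ i) h

theorem main {A : Type u} [CommRing A] [IsLocalRing A] (p : ℕ) [Fact p.Prime]
    [CharP (IsLocalRing.ResidueField A) p] (g : Polynomial A) (hg : g.Monic) (hsep : g.Separable)
    (s : ℕ) :
    ∃ b : Module.Basis (Fin g.natDegree) A (AdjoinRoot g),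
      ∀ i : Fin g.natDegree, b i = AdjoinRoot.root g ^ (p ^ s * (i : ℕ)) := by
  classical
  let b₀ := AdjoinRoot.powerBasisAux' hg
  let Φ : AdjoinRoot g →ₗ[A] AdjoinRoot g :=
    b₀.constr A (fun i => AdjoinRoot.root g ^ (p ^ s * (i : ℕ)))
  have hM : LinearMap.toMatrix b₀ b₀ Φ =
      Matrix.of fun (j i : Fin g.natDegree) => ((X : A[X]) ^ (p ^ s * (i : ℕ)) %ₘ g).coeff j := by
    ext j i
    rw [LinearMap.toMatrix_apply, Module.Basis.constr_basis, Matrix.of_apply,
      AdjoinRoot.powerBasisAux'_repr_apply_to_fun, ← AdjoinRoot.mk_X, ← map_pow,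
      AdjoinRoot.modByMonicHom_mk]
  have hdet : IsUnit (LinearMap.toMatrix b₀ b₀ Φ).det := by
    rw [hM, ← IsLocalRing.residue_ne_zero_iff_isUnit, RingHom.map_det]
    have h2 := field_key p (g.map (IsLocalRing.residue A)) (hg.map _) hsep.map s g.natDegree
      (hg.natDegree_map _)
    have hmat : (IsLocalRing.residue A).mapMatrix (Matrix.of fun (j i : Fin g.natDegree) =>
        ((X : A[X]) ^ (p ^ s * (i : ℕ)) %ₘ g).coeff j) =
        Matrix.of fun (j i : Fin g.natDegree) =>
          ((X : (IsLocalRing.ResidueField A)[X]) ^ (p ^ s * (i : ℕ)) %ₘ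
            g.map (IsLocalRing.residue A)).coeff j := by
      ext j i
      simp only [RingHom.mapMatrix_apply, Matrix.map_apply, Matrix.of_apply]
      rw [← coeff_map, map_modByMonic _ hg, Polynomial.map_pow, map_X]
    rw [hmat]
    exact h2
  let e : AdjoinRoot g ≃ₗ[A] AdjoinRoot g := LinearEquiv.ofIsUnitDet hdet
  refine ⟨b₀.map e, fun i => ?_⟩
  rw [Module.Basis.map_apply]
  have : e (b₀ i) = Φ (b₀ i) := by
    have := LinearEquiv.coe_ofIsUnitDet hdet
    exact LinearMap.congr_fun this (b₀ i)
  rw [this, Module.Basis.constr_basis]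

end aux

/-- Let A be a local ring with residue field of characteristic p > 0, let g ∈ A[X] be monic and
separable of degree n, so that A' = A[X]/(g) is an étale A-algebra, and let q = p^s with s ≥ 0. Then
the powers 1, t^q, t^{2q}, …, t^{(n-1)q} of the class t of X form a basis of A' as an A-module. -/
theorem result {A : Type u} [CommRing A] [IsLocalRing A] (p : ℕ) [Fact p.Prime]
    [CharP (IsLocalRing.ResidueField A) p] (g : Polynomial A) (hg : g.Monic) (hsep : g.Separable) (s : ℕ) :
    ∃ b : Module.Basis (Fin g.natDegree) A (AdjoinRoot g),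
      ∀ i : Fin g.natDegree, b i = AdjoinRoot.root g ^ (p ^ s * (i : ℕ)) := by
  exact main p g hg hsep s

end Groth.Agent.S13702
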