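import Groth.Statements.S13703
import Mathlib
import Groth.Agent.Lib.Helper6.CHSat
import Groth.Agent.S13695

set_option autoImplicit false
universe u
open scoped TensorProduct
open ZeroCyc

namespace Groth.Agent.S13703


open Groth.Agent.Lib.helper6.CHLaw Groth.Agent.Lib.helper6.CHSat



/-- Let A be an integral domain, B a commutative A-algebra and F : B → A a multiplicative polynomial law
homogeneous of degree d. For every prime ideal P of B minimal among those containing the kernel of
F, the contraction of P to A is zero and every prime of A is the contraction of a prime of B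
containing P. Geometrically: every irreducible component of the support of the family of zero-cycles
on Spec B defined by F maps onto Spec A. (The published statement is over an arbitrary algebraic
space S, every irreducible component of the support mapping onto an irreducible component of S, and
its proof reduces to an integral affine base; this row is that case.) -/
theorem result {A : Type u} [CommRing A] [IsDomain A] {B : Type u} [CommRing B] [Algebra A B]
    {d : ℕ} (F : PolLaw.MulLaw A B A d) {P : Ideal B} (hP : P ∈ (PolLaw.ker F.law).minimalPrimes) :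
    P.comap (algebraMap A B) = ⊥ ∧
      ∀ q : Ideal A, q.IsPrime → ∃ Q : Ideal B, Q.IsPrime ∧ P ≤ Q ∧ Q.comap (algebraMap A B) = q := by
  classical
  have hint : Algebra.IsIntegral A (B ⧸ PolLaw.ker F.law) := Groth.Agent.S13695.result F
  obtain ⟨P', hP', rfl⟩ : ∃ P' ∈ minimalPrimes (B ⧸ PolLaw.ker F.law),
      Ideal.comap (Ideal.Quotient.mk (PolLaw.ker F.law)) P' = P := by
    have h := hP
    rw [Ideal.minimalPrimes_eq_comap] at h
    exact h
  haveI hP'prime : P'.IsPrime := hP'.1.1
  have h1 : (Ideal.comap (Ideal.Quotient.mk (PolLaw.ker F.law)) P').comap (algebraMap A B) = ⊥ := by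
    rw [eq_bot_iff]
    intro a ha
    rw [Ideal.mem_bot]
    by_contra hne
    have hmem : Ideal.Quotient.mk (PolLaw.ker F.law) (algebraMap A B a) ∈ P' := ha
    have hnzd : Ideal.Quotient.mk (PolLaw.ker F.law) (algebraMap A B a) ∈
        nonZeroDivisors (B ⧸ PolLaw.ker F.law) := by
      rw [mem_nonZeroDivisors_iff_right]
      intro z hz
      obtain ⟨y, rfl⟩ := Ideal.Quotient.mk_surjective z
      rw [← map_mul, Ideal.Quotient.eq_zero_iff_mem, mul_comm] at hz
      rw [Ideal.Quotient.eq_zero_iff_mem]
      exact ker_saturated F a hne y hz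
    exact Set.disjoint_left.mp (Ideal.disjoint_nonZeroDivisors_of_mem_minimalPrimes hP') hmem hnzd
  refine ⟨h1, fun q hq => ?_⟩
  haveI := hq
  have hle : P'.comap (algebraMap A (B ⧸ PolLaw.ker F.law)) ≤ q := by
    intro a ha
    have h2 : a ∈ (Ideal.comap (Ideal.Quotient.mk (PolLaw.ker F.law)) P').comap (algebraMap A B) := ha
    rw [h1, Ideal.mem_bot] at h2
    rw [h2]
    exact zero_mem _
  obtain ⟨Q', hQ'ge, hQ'prime, hQ'q⟩ := Ideal.exists_ideal_over_prime_of_isIntegral q P' hle
  haveI := hQ'prime
  refine ⟨Q'.comap (Ideal.Quotient.mk (PolLaw.ker F.law)), inferInstance, Ideal.comap_mono hQ'ge, ?_⟩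
  rw [← hQ'q]
  rfl


end Groth.Agent.S13703
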