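import Groth.Statements.S13704
import Mathlib
import Groth.Agent.Lib.Helper6.CHGen

set_option autoImplicit false
universe u
open scoped TensorProduct
open ZeroCyc

namespace Groth.Agent.S13704


open Groth.Agent.Lib.helper6.CHGen



/-- Let F : B → A be a multiplicative polynomial law homogeneous of degree d over the commutative ring A
and let Z = Spec(B/ker F) be the image of the corresponding family of zero-cycles on Spec B over
Spec A. Then Z → Spec A is universally generizing: for every commutative A-algebra A', along the map
Spec(A' ⊗_A (B/ker F)) → Spec A' every generization of the image of a point lifts to a generization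
of the point. (The published statement is for X affine over an algebraic space S and for the support
of the family; this row is the case of an affine base, stated for the image, which has the same
underlying space as the support since generizing is a topological property.) -/
theorem result {A : Type u} [CommRing A] {B : Type u} [CommRing B] [Algebra A B]
    {d : ℕ} (F : PolLaw.MulLaw A B A d) (A' : Type u) [CommRing A'] [Algebra A A'] :
    GeneralizingMap (PrimeSpectrum.comap (algebraMap A' (A' ⊗[A] PolLaw.image F.law))) := by
  rw [← Algebra.HasGoingDown.iff_generalizingMap_primeSpectrumComap]
  refine ⟨fun {p} hp Q hQ hlt => ?_⟩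
  haveI := hp
  haveI := hQ
  obtain ⟨P, hPQ, hPprime, hPp⟩ := going_down_aux F A' p Q hlt.le
  exact ⟨P, hPQ, hPprime, ⟨hPp.symm⟩⟩


end Groth.Agent.S13704
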