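import Groth.Statements.S13706
import Mathlib
import Groth.Agent.Lib.Helper6.CHPoly
import Groth.Agent.Lib.Helper6.CHMonic

set_option autoImplicit false
universe u
open scoped TensorProduct
open ZeroCyc

namespace Groth.Agent.S13706


open Groth.Agent.Lib.helper6.CHLaw Groth.Agent.Lib.helper6.CHLaw2 Groth.Agent.Lib.helper6.CHPoly
  Groth.Agent.Lib.helper6.CHMonic



/-- Let A be a commutative ring, B an A-algebra of finite type and F : B → A a multiplicative polynomial
law homogeneous of degree d. Then there is a finitely generated ideal J of B, contained in the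
kernel of F and with the same radical; thus the support of the family of zero-cycles defined by F is
carried by a bijective closed immersion into Spec(B/J), a scheme of finite presentation over A. -/
theorem result {A : Type u} [CommRing A] {B : Type u} [CommRing B] [Algebra A B]
    [Algebra.FiniteType A B] {d : ℕ} (F : PolLaw.MulLaw A B A d) :
    ∃ J : Ideal B, J.FG ∧ J ≤ PolLaw.ker F.law ∧ J.radical = (PolLaw.ker F.law).radical := by
  classical
  obtain ⟨s, hs⟩ := (Algebra.FiniteType.out : (⊤ : Subalgebra A B).FG)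
  let p : B → Polynomial A := fun b => Polynomial.C ((-1 : A) ^ d) * chi0 F b
  let J₀ : Ideal B := Ideal.span ((fun b => Polynomial.aeval b (p b)) '' (s : Set B))
  have hJ₀fg : J₀.FG := ⟨s.image (fun b => Polynomial.aeval b (p b)), by rw [Finset.coe_image]⟩
  have hJ₀le : J₀ ≤ PolLaw.ker F.law := by
    rw [Ideal.span_le]
    rintro _ ⟨b, _, rfl⟩
    exact aeval_monic_mem_ker F b
  let π : B →ₐ[A] B ⧸ J₀ := Ideal.Quotient.mkₐ A J₀
  have hπ : Function.Surjective π := Ideal.Quotient.mkₐ_surjective A J₀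
  have hπ0 : ∀ x, π x = 0 ↔ x ∈ J₀ := fun x => Ideal.Quotient.eq_zero_iff_mem
  haveI hint : Algebra.IsIntegral A (B ⧸ J₀) := by
    rw [← integralClosure_eq_top_iff, eq_top_iff]
    have h1 : (⊤ : Subalgebra A (B ⧸ J₀)) = Algebra.adjoin A (π '' (s : Set B)) := by
      rw [← AlgHom.map_adjoin, hs, Algebra.map_top]
      exact ((AlgHom.range_eq_top π).mpr hπ).symm
    rw [h1]
    apply Algebra.adjoin_le
    rintro _ ⟨b, hb, rfl⟩
    refine ⟨p b, chi0_monic F b, ?_⟩
    rw [← Polynomial.aeval_def, Polynomial.aeval_algHom_apply]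
    exact (hπ0 _).mpr (Ideal.subset_span ⟨b, hb, rfl⟩)
  haveI : Algebra.FiniteType A (B ⧸ J₀) := Algebra.FiniteType.of_surjective π hπ
  haveI : Module.Finite A (B ⧸ J₀) := Algebra.IsIntegral.finite
  obtain ⟨n, mbar, hmbar⟩ := Module.Finite.exists_fin (R := A) (M := B ⧸ J₀)
  choose m hm using fun j => hπ (mbar j)
  have hdec : ∀ b : B, ∃ a : Fin n → A, b - ∑ j, a j • m j ∈ J₀ := by
    intro b
    have hb : π b ∈ Submodule.span A (Set.range mbar) := by
      rw [hmbar]
      trivial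
    obtain ⟨a, ha⟩ := (Submodule.mem_span_range_iff_exists_fun A).mp hb
    refine ⟨a, (hπ0 _).mp ?_⟩
    rw [map_sub, map_sum, ← ha]
    simp only [map_smul, hm, sub_self]
  let T : MvPolynomial (Fin n) A ⊗[A] B := ∑ j, (MvPolynomial.X j) ⊗ₜ[A] m j
  have hZ : Polynomial.aeval T (chi F (MvPolynomial (Fin n) A) T) ∈
      Submodule.span (MvPolynomial (Fin n) A ⊗[A] B)
        ((Algebra.TensorProduct.includeRight : B →ₐ[A] MvPolynomial (Fin n) A ⊗[A] B) ''
          (PolLaw.ker F.law : Set B)) := ch_ext F (MvPolynomial (Fin n) A) T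
  obtain ⟨K', hK'sub, hZK'⟩ := Submodule.mem_span_finite_of_mem_span hZ
  obtain ⟨K, hKsub, rfl⟩ := Finset.subset_set_image_iff.mp hK'sub
  rw [Finset.coe_image] at hZK'
  have hJle : J₀ ⊔ Ideal.span (K : Set B) ≤ PolLaw.ker F.law :=
    sup_le hJ₀le (Ideal.span_le.mpr hKsub)
  refine ⟨J₀ ⊔ Ideal.span (K : Set B), Submodule.FG.sup hJ₀fg ⟨K, rfl⟩, hJle, ?_⟩
  apply le_antisymm (Ideal.radical_mono hJle)
  rw [Ideal.radical_le_radical_iff]
  intro b hb
  obtain ⟨a, ha⟩ := hdec b
  have hJ₀J : J₀ ≤ (J₀ ⊔ Ideal.span (K : Set B)).radical := le_sup_left.trans Ideal.le_radical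
  have hb' : ∑ j, a j • m j ∈ PolLaw.ker F.law := by
    have h := sub_mem hb (hJ₀le ha)
    rwa [sub_sub_cancel] at h
  obtain ⟨b', hb'def⟩ : ∃ b', b' = ∑ j, a j • m j := ⟨_, rfl⟩
  rw [← hb'def] at ha hb'
  let φ : MvPolynomial (Fin n) A →ₐ[A] A := MvPolynomial.aeval a
  have hT : Algebra.TensorProduct.map φ (AlgHom.id A B) T = (1 : A) ⊗ₜ[A] b' := by
    simp only [T, φ, map_sum, Algebra.TensorProduct.map_tmul, MvPolynomial.aeval_X,
      AlgHom.id_apply, hb'def, TensorProduct.tmul_sum]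
    refine Finset.sum_congr rfl fun j _ => ?_
    rw [← TensorProduct.smul_tmul, smul_eq_mul, mul_one]
  let Ψ : MvPolynomial (Fin n) A ⊗[A] B →ₐ[A] B :=
    (Algebra.TensorProduct.lid A B).toAlgHom.comp (Algebra.TensorProduct.map φ (AlgHom.id A B))
  have hΨZ : Ψ (Polynomial.aeval T (chi F (MvPolynomial (Fin n) A) T)) = (-b') ^ d := by
    show Algebra.TensorProduct.lid A B (Algebra.TensorProduct.map φ (AlgHom.id A B) _) = _
    rw [map_aeval, ← chi_map, hT, chi_one_tmul, chi0_of_mem_ker F b' hb', aeval_neg_X_pow,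
      map_pow, map_neg, Algebra.TensorProduct.lid_tmul, one_smul]
  have hle : Ideal.span ((Algebra.TensorProduct.includeRight :
      B →ₐ[A] MvPolynomial (Fin n) A ⊗[A] B) '' (K : Set B)) ≤
      (Ideal.span (K : Set B)).comap Ψ := by
    rw [Ideal.span_le]
    rintro _ ⟨k, hk, rfl⟩
    show Ψ ((Algebra.TensorProduct.includeRight :
        B →ₐ[A] MvPolynomial (Fin n) A ⊗[A] B) k) ∈ Ideal.span (K : Set B)
    have h : Ψ ((Algebra.TensorProduct.includeRight :
        B →ₐ[A] MvPolynomial (Fin n) A ⊗[A] B) k) = k := by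
      simp [Ψ]
    rw [h]
    exact Ideal.subset_span hk
  have h5 : (-b') ^ d ∈ Ideal.span (K : Set B) := by
    rw [← hΨZ]
    exact hle hZK'
  have h6 : b' ∈ (J₀ ⊔ Ideal.span (K : Set B)).radical :=
    (Ideal.neg_mem_iff _).mp (Ideal.mem_radical_iff.mpr
      ⟨d, (le_sup_right : Ideal.span (K : Set B) ≤ J₀ ⊔ Ideal.span (K : Set B)) h5⟩)
  have hbb : b = b' + (b - b') := by ring
  rw [hbb]
  exact add_mem h6 (hJ₀J ha)


end Groth.Agent.S13706
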