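import Groth.Statements.S13707
import Mathlib
import Groth.Agent.S13695
import Groth.Agent.S13723

set_option autoImplicit false
universe u
open scoped TensorProduct
open ZeroCyc

namespace Groth.Agent.S13707




/-- Let k be a field, B a commutative k-algebra and F : B → k a multiplicative polynomial law
homogeneous of degree d. Then the spectrum of B/ker F (the image of the family of zero-cycles of
degree d on Spec B defined by F) is a finite set of at most d closed points, and the residue field
at each of them has finite separable degree over k. -/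
theorem result {k : Type u} [Field k] {B : Type u} [CommRing B] [Algebra k B]
    {d : ℕ} (F : PolLaw.MulLaw k B k d) :
    Finite (PrimeSpectrum (PolLaw.image F.law)) ∧ Nat.card (PrimeSpectrum (PolLaw.image F.law)) ≤ d ∧
      ∀ P : PrimeSpectrum (PolLaw.image F.law), P.asIdeal.IsMaximal ∧
        Finite (Field.Emb k P.asIdeal.ResidueField) := by
  classical
  haveI hint : Algebra.IsIntegral k (B ⧸ PolLaw.ker F.law) := Groth.Agent.S13695.result F
  have h1 := Groth.Agent.S13723.result F k
  let E₀ : PrimeSpectrum (k ⊗[k] (B ⧸ PolLaw.ker F.law)) ≃ PrimeSpectrum (B ⧸ PolLaw.ker F.law) :=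
    (PrimeSpectrum.comapEquiv
      (Algebra.TensorProduct.lid k (B ⧸ PolLaw.ker F.law)).toRingEquiv).toEquiv
  haveI := h1.1
  refine ⟨Finite.of_equiv _ E₀, ?_, ?_⟩
  · rw [← Nat.card_congr E₀]
    exact h1.2
  · intro P
    haveI := P.isPrime
    have hPmax : P.asIdeal.IsMaximal := by
      have hbot : P.asIdeal.comap (algebraMap k (B ⧸ PolLaw.ker F.law)) = ⊥ := by
        rcases Ideal.eq_bot_or_top
          (P.asIdeal.comap (algebraMap k (B ⧸ PolLaw.ker F.law))) with h | h
        · exact h
        · exact absurd h (Ideal.IsPrime.ne_top inferInstance)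
      exact Ideal.isMaximal_of_isIntegral_of_isMaximal_comap (R := k) P.asIdeal
        (hbot ▸ Ideal.bot_isMaximal)
    refine ⟨hPmax, ?_⟩
    haveI := hPmax
    haveI hfin := (Groth.Agent.S13723.result F (AlgebraicClosure P.asIdeal.ResidueField)).1
    let β : (B ⧸ PolLaw.ker F.law) →ₐ[k] P.asIdeal.ResidueField :=
      IsScalarTower.toAlgHom k (B ⧸ PolLaw.ker F.law) P.asIdeal.ResidueField
    have hβ : Function.Surjective β := Ideal.algebraMap_residueField_surjective P.asIdeal
    have key : ∀ σ : Field.Emb k P.asIdeal.ResidueField,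
        ∃ Q : PrimeSpectrum (AlgebraicClosure P.asIdeal.ResidueField ⊗[k]
            (B ⧸ PolLaw.ker F.law)),
          (∀ b : B ⧸ PolLaw.ker F.law,
            ((1 : AlgebraicClosure P.asIdeal.ResidueField) ⊗ₜ[k] b -
              σ (β b) ⊗ₜ[k] (1 : B ⧸ PolLaw.ker F.law)) ∈ Q.asIdeal) ∧
          ∀ x : AlgebraicClosure P.asIdeal.ResidueField,
            x ⊗ₜ[k] (1 : B ⧸ PolLaw.ker F.law) ∈ Q.asIdeal → x = 0 := by
      intro σ
      let σt : AlgebraicClosure P.asIdeal.ResidueField ⊗[k] (B ⧸ PolLaw.ker F.law) →ₐ[k]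
          AlgebraicClosure P.asIdeal.ResidueField :=
        Algebra.TensorProduct.productMap (AlgHom.id k _) (σ.comp β)
      refine ⟨⟨RingHom.ker σt.toRingHom, RingHom.ker_isPrime _⟩, fun b => ?_, fun x hx => ?_⟩
      · show σt _ = 0
        rw [map_sub, Algebra.TensorProduct.productMap_apply_tmul,
          Algebra.TensorProduct.productMap_apply_tmul]
        simp
      · have h2 : σt (x ⊗ₜ[k] (1 : B ⧸ PolLaw.ker F.law)) = 0 := hx
        rw [Algebra.TensorProduct.productMap_apply_tmul] at h2
        simpa using h2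
    choose Ψ hΨ using key
    refine Finite.of_injective Ψ ?_
    intro σ τ h
    apply AlgHom.ext
    intro e
    obtain ⟨b, rfl⟩ := hβ e
    have h2 := (hΨ σ).1 b
    have h3 := (hΨ τ).1 b
    rw [h] at h2
    have h4 := sub_mem h2 h3
    have h5 : ((1 : AlgebraicClosure P.asIdeal.ResidueField) ⊗ₜ[k] b -
        σ (β b) ⊗ₜ[k] (1 : B ⧸ PolLaw.ker F.law)) -
        ((1 : AlgebraicClosure P.asIdeal.ResidueField) ⊗ₜ[k] b -
          τ (β b) ⊗ₜ[k] (1 : B ⧸ PolLaw.ker F.law)) =
        (τ (β b) - σ (β b)) ⊗ₜ[k] (1 : B ⧸ PolLaw.ker F.law) := by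
      rw [TensorProduct.sub_tmul]
      abel
    rw [h5] at h4
    have h6 := (hΨ τ).2 _ h4
    exact (sub_eq_zero.mp h6).symm


end Groth.Agent.S13707
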