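import Groth.Statements.S13708
import Mathlib

set_option autoImplicit false
universe u
open CategoryTheory CategoryTheory.Limits AlgebraicGeometry
open ZeroCyc

namespace Groth.Agent.S13708

section aux

open Scheme Pullback

variable {X Y : Scheme.{u}} (f : X ⟶ Y)
variable (𝒰 : Y.OpenCover) (𝒱 : ∀ i, (pullback f (𝒰.f i)).OpenCover)

set_option backward.isDefEq.respectTransparency.types false in
lemma isClosedImmersion_diagonal_restrict'
    [∀ i j, IsAffine ((𝒱 i).X j)] :
    IsClosedImmersion (pullback.diagonal f ∣_ diagonalCoverDiagonalRange f 𝒰 𝒱) := by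
  let U : (Σ i, (𝒱 i).I₀) → (diagonalCoverDiagonalRange f 𝒰 𝒱).toScheme.Opens := fun i ↦
    (diagonalCoverDiagonalRange f 𝒰 𝒱).ι ⁻¹ᵁ ((diagonalCover f 𝒰 𝒱).f ⟨i.1, i.2, i.2⟩).opensRange
  have hU (i) : (diagonalCoverDiagonalRange f 𝒰 𝒱).ι ''ᵁ U i =
      ((diagonalCover f 𝒰 𝒱).f ⟨i.1, i.2, i.2⟩).opensRange := by
    rw [Scheme.Hom.image_preimage_eq_opensRange_inf, inf_eq_right, Opens.opensRange_ι]
    exact le_iSup (fun i : Σ i, (𝒱 i).I₀ ↦ ((diagonalCover f 𝒰 𝒱).f ⟨i.1, i.2, i.2⟩).opensRange) i
  have hf : iSup U = ⊤ := (TopologicalSpace.Opens.map_iSup _ _).symm.trans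
    (diagonalCoverDiagonalRange f 𝒰 𝒱).ι_preimage_self
  rw [IsZariskiLocalAtTarget.iff_of_iSup_eq_top (P := @IsClosedImmersion) _ hf]
  intro i
  rw [MorphismProperty.arrow_mk_iso_iff (P := @IsClosedImmersion) (morphismRestrictRestrict _ _ _),
    MorphismProperty.arrow_mk_iso_iff (P := @IsClosedImmersion) (morphismRestrictEq _ (hU i)),
    MorphismProperty.arrow_mk_iso_iff (P := @IsClosedImmersion) (diagonalRestrictIsoDiagonal ..)]
  infer_instance

lemma isSeparated_of_range_eq_top [∀ i j, IsAffine ((𝒱 i).X j)]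
    (h : diagonalCoverDiagonalRange f 𝒰 𝒱 = ⊤) : IsSeparated f := by
  constructor
  refine IsZariskiLocalAtTarget.of_iSup_eq_top (fun i : PUnit.{0} ↦ ⊤) (by simp) fun _ ↦ ?_
  rw [← h]
  exact isClosedImmersion_diagonal_restrict' f 𝒰 𝒱


end aux


set_option backward.defeqAttrib.useBackward true in
set_option backward.isDefEq.respectTransparency false in
open Scheme Pullback in
/-- Let X be a scheme over S such that every finite set of points of X over a common point of S lies in
some affine open subscheme of X (the condition (AF)). Then X is separated over S. (The published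
condition (AF) asks for an open U with U → S quasi-affine rather than U affine; with U affine, as
here, the same argument applies verbatim, and the two conditions agree over a quasi-separated base.) -/
theorem result {X S : Scheme.{u}} (f : X ⟶ S) (hX : SymProd.IsAF f) :
    IsSeparated f := by
  classical
  let 𝒰 : S.OpenCover := Scheme.coverOfIsIso (𝟙 S)
  let A : X.OpenCover := X.openCoverOfIsOpenCover _ (iSup_affineOpens_eq_top X)
  have hiso : ∀ i, IsIso (pullback.fst f (𝒰.f i)) := fun i => by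
    show IsIso (pullback.fst f (𝟙 S))
    infer_instance
  let 𝒱 : ∀ i, (pullback f (𝒰.f i)).OpenCover :=
    fun i => A.pushforwardIso (inv (pullback.fst f (𝒰.f i)))
  have : ∀ i j, IsAffine ((𝒱 i).X j) := fun i j => j.2
  apply isSeparated_of_range_eq_top f 𝒰 𝒱
  rw [← top_le_iff]
  rintro x -
  simp only [diagonalCoverDiagonalRange, openCoverOfBase_I₀, openCoverOfBase_X,
    openCoverOfLeftRight_I₀, TopologicalSpace.Opens.iSup_mk, TopologicalSpace.Opens.carrier_eq_coe, Hom.coe_opensRange, TopologicalSpace.Opens.mem_mk,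
    Set.mem_iUnion, Set.mem_range, Sigma.exists]
  obtain ⟨U, hU, hUx⟩ := hX (f.base (pullback.fst f f x)) {pullback.fst f f x, pullback.snd f f x} (by
    intro y hy
    simp only [Finset.mem_insert, Finset.mem_singleton] at hy
    rcases hy with rfl | rfl
    · rfl
    · rw [← Scheme.Hom.comp_apply, ← Scheme.Hom.comp_apply, pullback.condition])
  refine ⟨PUnit.unit, ⟨U, hU⟩, ?_⟩
  simp_rw [diagonalCover_map]
  change x ∈ Set.range _
  simp only [diagonalCover, openCoverOfBase_I₀,
    Precoverage.ZeroHypercover.pullback₁_toPreZeroHypercover, PreZeroHypercover.pullback₁_X,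
    Precoverage.ZeroHypercover.bind_toPreZeroHypercover, openCoverOfBase_X,
    PreZeroHypercover.bind_X, openCoverOfLeftRight_I₀, openCoverOfLeftRight_X]
  rw [range_map]
  have key : (𝒱 PUnit.unit).f ⟨U, hU⟩ ≫ pullback.fst f (𝒰.f PUnit.unit) = U.ι := by
    simp [𝒱, A]
  rw [key]
  exact ⟨⟨⟨_, hUx _ (by simp)⟩, rfl⟩, ⟨⟨_, hUx _ (by simp)⟩, rfl⟩⟩

end Groth.Agent.S13708
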