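import Groth.Statements.S5133
import Groth.Agent.S2488
-- import your own Groth.Agent.* helpers here

set_option autoImplicit false
open CategoryTheory CategoryTheory.Limits AlgebraicGeometry
universe u
open SGA1

namespace Groth.Agent.S5133

/-- For a quasi-compact morphism f : X ⟶ Y and a flat surjective base change g : Y' ⟶ Y, with no
quasi-compactness asked of g, if the base change of f along g is a homeomorphism onto its image then
f is a homeomorphism onto its image. -/
theorem result {X Y Y' : Scheme.{u}} (f : X ⟶ Y)
    (g : Y' ⟶ Y) [QuasiCompact f] [Flat g] [Surjective g]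
    (h : Topology.IsEmbedding (pullback.snd f g).base) : Topology.IsEmbedding f.base := by
  have hpb : IsPullback (pullback.snd f g) (pullback.fst f g) g f :=
    (IsPullback.of_hasPullback f g).flip
  have hinj : Function.Injective f :=
    (Groth.Agent.S2489.result.{u}).of_isPullback hpb ‹Surjective g› h.injective
  have hind : Topology.IsInducing (pullback.fst g f) := by
    have heq : pullback.fst g f = (pullbackSymmetry g f).hom ≫ pullback.snd f g := by simp
    rw [heq]
    have h1 : Topology.IsInducing (pullback.snd f g) := h.isInducing
    have h2 : Topology.IsInducing (pullbackSymmetry g f).hom :=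
      (pullbackSymmetry g f).hom.homeomorph.isInducing
    have : ⇑((pullbackSymmetry g f).hom ≫ pullback.snd f g)
        = ⇑(pullback.snd f g) ∘ ⇑(pullbackSymmetry g f).hom := by
      funext x; exact Scheme.Hom.comp_apply _ _ x
    rw [this]
    exact h1.comp h2
  exact ⟨Groth.Agent.S2488.isInducing_of_pullback_fst g f hind, hinj⟩

end Groth.Agent.S5133
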