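import Groth.Statements.S13709
import Groth.Agent.S5133

set_option autoImplicit false
universe u
open CategoryTheory CategoryTheory.Limits AlgebraicGeometry
open ZeroCyc

namespace Groth.Agent.S13709

/-- Let f : X → Y be a quasi-compact morphism of schemes and g : Y' → Y a faithfully flat morphism, i.e.
flat and surjective, with no quasi-compactness assumption on g. If the base change X ×_Y Y' → Y' of
f along g is a homeomorphism on underlying spaces, then so is f. -/
theorem result {X Y Y' : Scheme.{u}} (f : X ⟶ Y) (g : Y' ⟶ Y)
    [Flat g] [Surjective g] [QuasiCompact f] (h : IsHomeomorph (pullback.snd f g).base) :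
    IsHomeomorph f.base := by
  have hemb : Topology.IsEmbedding f.base :=
    Groth.Agent.S5133.result f g h.isEmbedding
  have hsurj : Function.Surjective f.base := by
    intro y
    obtain ⟨y', rfl⟩ := g.surjective y
    obtain ⟨z, hz⟩ := h.surjective y'
    refine ⟨pullback.fst f g z, ?_⟩
    have h1 : (pullback.fst f g ≫ f) z = (pullback.snd f g ≫ g) z := by rw [pullback.condition]
    simp only [Scheme.Hom.comp_apply] at h1
    rw [h1, hz]
  exact (isHomeomorph_iff_isEmbedding_surjective).2 ⟨hemb, hsurj⟩

end Groth.Agent.S13709
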