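import Groth.Statements.S4366
import Mathlib.AlgebraicGeometry.Morphisms.Flat
import Mathlib.AlgebraicGeometry.Morphisms.Preimmersion
import Mathlib.RingTheory.Flat.FaithfullyFlat.Algebra
-- import your own Groth.Agent.* helpers here

set_option autoImplicit false
universe u
open SchMor

namespace Groth.Agent.S4366

open AlgebraicGeometry CategoryTheory CategoryTheory.Limits

/-- The canonical morphism `Spec O_{X,x} ⟶ X` is flat. -/
theorem flat_fromSpecStalk (X : Scheme.{u}) (x : X) : Flat (X.fromSpecStalk x) := by
  obtain ⟨U, hU, hxU⟩ : ∃ U : X.Opens, IsAffineOpen U ∧ x ∈ U := by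
    obtain ⟨_, ⟨U, hU, rfl⟩, hx, -⟩ :=
      X.isBasis_affineOpens.exists_subset_of_mem_open (Set.mem_univ x) isOpen_univ
    exact ⟨U, hU, hx⟩
  rw [← hU.fromSpecStalk_eq_fromSpecStalk hxU]
  unfold IsAffineOpen.fromSpecStalk
  have : Flat (Spec.map (X.presheaf.germ U x hxU)) := by
    rw [HasRingHomProperty.Spec_iff (P := @Flat)]
    have h1 := hU.isLocalization_stalk ⟨x, hxU⟩
    let _ := TopCat.Presheaf.algebra_section_stalk X.presheaf (⟨x, hxU⟩ : U)
    have h2 : Module.Flat Γ(X, U) (X.presheaf.stalk x) :=
      IsLocalization.flat _ (hU.primeIdealOf ⟨x, hxU⟩).asIdeal.primeCompl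
    exact h2
  infer_instance

open AlgebraicGeometry in
open CategoryTheory in
open CategoryTheory.Limits in
/-- Let f : X -> Y be a morphism, y a point of Y and Z = Spec O_{Y,y} the local scheme of Y at y with
its canonical morphism to Y. Then the projection p : X x_Y Z -> X induces isomorphisms on all local
rings: for every point t of X x_Y Z the homomorphism O_{X, p t} -> O_{X x_Y Z, t} is bijective. (The
published statement also asserts that p is a homeomorphism onto the preimage of Z; that part is not
stated here.) -/
theorem result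
    {X Y : Scheme.{u}} (f : X ⟶ Y) (y : Y) (t : ↑(pullback f (Y.fromSpecStalk y))) :
    IsIso ((pullback.fst f (Y.fromSpecStalk y)).stalkMap t) := by
  have hflat : Flat (Y.fromSpecStalk y) := flat_fromSpecStalk Y y
  have h1 : Flat (pullback.fst f (Y.fromSpecStalk y)) := inferInstance
  have h2 : IsPreimmersion (pullback.fst f (Y.fromSpecStalk y)) := inferInstance
  have hsurj : Function.Surjective ((pullback.fst f (Y.fromSpecStalk y)).stalkMap t).hom :=
    (pullback.fst f (Y.fromSpecStalk y)).stalkMap_surjective t
  have hfl : ((pullback.fst f (Y.fromSpecStalk y)).stalkMap t).hom.Flat :=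
    (Flat.iff_flat_stalkMap _).1 h1 t
  have hinj : Function.Injective ((pullback.fst f (Y.fromSpecStalk y)).stalkMap t).hom := by
    algebraize [((pullback.fst f (Y.fromSpecStalk y)).stalkMap t).hom]
    have : IsLocalHom (algebraMap (X.presheaf.stalk ((pullback.fst f (Y.fromSpecStalk y)) t))
        ((pullback f (Y.fromSpecStalk y)).presheaf.stalk t)) := by
      change IsLocalHom ((pullback.fst f (Y.fromSpecStalk y)).stalkMap t).hom
      infer_instance
    have : Module.FaithfullyFlat (X.presheaf.stalk ((pullback.fst f (Y.fromSpecStalk y)) t))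
        ((pullback f (Y.fromSpecStalk y)).presheaf.stalk t) :=
      Module.FaithfullyFlat.of_flat_of_isLocalHom
    exact FaithfulSMul.algebraMap_injective _ _
  exact (ConcreteCategory.isIso_iff_bijective _).2 ⟨hinj, hsurj⟩

end Groth.Agent.S4366
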