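import Groth.Statements.S13710
import Groth.Agent.S13709
import Groth.Agent.S4366
import Mathlib.AlgebraicGeometry.Morphisms.FlatDescent
-- import your own Groth.Agent.* helpers here

set_option autoImplicit false
universe u
open CategoryTheory CategoryTheory.Limits AlgebraicGeometry
open ZeroCyc

namespace Groth.Agent.S13710

/-- Stalk maps of a flat preimmersion are isomorphisms. -/
theorem isIso_stalkMap_of_flat_of_isPreimmersion {X Y : Scheme.{u}} (p : X ⟶ Y) [Flat p]
    [IsPreimmersion p] (t : X) : IsIso (p.stalkMap t) := by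
  have hsurj : Function.Surjective (p.stalkMap t).hom := p.stalkMap_surjective t
  have hfl : (p.stalkMap t).hom.Flat := (Flat.iff_flat_stalkMap _).1 inferInstance t
  have hinj : Function.Injective (p.stalkMap t).hom := by
    algebraize [(p.stalkMap t).hom]
    have : IsLocalHom (algebraMap (Y.presheaf.stalk (p t)) (X.presheaf.stalk t)) := by
      change IsLocalHom (p.stalkMap t).hom
      infer_instance
    have : Module.FaithfullyFlat (Y.presheaf.stalk (p t)) (X.presheaf.stalk t) :=
      Module.FaithfullyFlat.of_flat_of_isLocalHom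
    exact FaithfulSMul.algebraMap_injective _ _
  exact (ConcreteCategory.isIso_iff_bijective _).2 ⟨hinj, hsurj⟩

/-- For flat `g`, `Spec` of a stalk map is an fpqc covering. -/
theorem fpqc_SpecMap_stalkMap {Y' Y : Scheme.{u}} (g : Y' ⟶ Y) [Flat g] (y' : Y') :
    (@Surjective ⊓ @Flat ⊓ @QuasiCompact : MorphismProperty Scheme.{u})
      (Spec.map (g.stalkMap y')) := by
  have hfl : (g.stalkMap y').hom.Flat := (Flat.iff_flat_stalkMap _).1 inferInstance y'
  have hff : (g.stalkMap y').hom.FaithfullyFlat := by
    algebraize [(g.stalkMap y').hom]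
    have : IsLocalHom (algebraMap (Y.presheaf.stalk (g y')) (Y'.presheaf.stalk y')) := by
      change IsLocalHom (g.stalkMap y').hom
      infer_instance
    exact Module.FaithfullyFlat.of_flat_of_isLocalHom
  obtain ⟨h1, h2⟩ := (flat_and_surjective_SpecMap_iff (g.stalkMap y')).2 hff
  exact ⟨⟨h2, h1⟩, inferInstance⟩

/-- Descent of isomorphisms in a commutative square of base changes. -/
theorem isIso_of_square {X Y Y' S S' : Scheme.{u}} (f : X ⟶ Y) (g : Y' ⟶ Y)
    [IsIso (pullback.snd f g)] (j : S ⟶ Y) (j' : S' ⟶ Y') (σ : S' ⟶ S) (hσ : σ ≫ j = j' ≫ g)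
    (hfpqc : (@Surjective ⊓ @Flat ⊓ @QuasiCompact : MorphismProperty Scheme.{u}) σ) :
    IsIso (pullback.snd f j) := by
  have hA : IsPullback (pullback.snd σ (pullback.snd f j) ≫ pullback.fst f j)
      (pullback.fst σ (pullback.snd f j)) f (σ ≫ j) :=
    (IsPullback.of_hasPullback σ (pullback.snd f j)).flip.paste_horiz
      (IsPullback.of_hasPullback f j)
  rw [hσ] at hA
  have hw : (pullback.snd σ (pullback.snd f j) ≫ pullback.fst f j) ≫ f =
      (pullback.fst σ (pullback.snd f j) ≫ j') ≫ g := by
    rw [hA.w, Category.assoc]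
  have hB : IsPullback (pullback.lift _ _ hw) (pullback.fst σ (pullback.snd f j))
      (pullback.snd f g) j' :=
    IsPullback.of_right (by rw [pullback.lift_fst]; exact hA) (pullback.lift_snd _ _ _)
      (IsPullback.of_hasPullback f g)
  have hiso : IsIso (pullback.fst σ (pullback.snd f j)) := hB.isIso_snd_of_isIso
  exact (MorphismProperty.isomorphisms Scheme.{u}).of_isPullback_of_descendsAlong
    (Q := @Surjective ⊓ @Flat ⊓ @QuasiCompact)
    (IsPullback.of_hasPullback σ (pullback.snd f j)) hfpqc hiso

/-- If the base change of `f` along flat `g` is an isomorphism, then so is the base change of `f`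
to the local scheme `Spec O_{Y, g y'}`. -/
theorem isIso_pullback_snd_fromSpecStalk {X Y Y' : Scheme.{u}} (f : X ⟶ Y) (g : Y' ⟶ Y) [Flat g]
    [IsIso (pullback.snd f g)] (y' : Y') :
    IsIso (pullback.snd f (Y.fromSpecStalk (g y'))) :=
  isIso_of_square f g (Y.fromSpecStalk (g y')) (Y'.fromSpecStalk y') (Spec.map (g.stalkMap y'))
    (Scheme.SpecMap_stalkMap_fromSpecStalk g) (fpqc_SpecMap_stalkMap g y')

theorem isIso_stalkMap {X Y Y' : Scheme.{u}} (f : X ⟶ Y) (g : Y' ⟶ Y) [Flat g] [Surjective g]
    [IsIso (pullback.snd f g)] (x : X) : IsIso (f.stalkMap x) := by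
  obtain ⟨y', hy'⟩ := g.surjective (f x)
  have hiso : IsIso (pullback.snd f (Y.fromSpecStalk (g y'))) :=
    isIso_pullback_snd_fromSpecStalk f g y'
  generalize g y' = y at hy' hiso
  subst hy'
  obtain ⟨t, ht, -⟩ := Scheme.Pullback.exists_preimage_pullback (f := f)
    (g := Y.fromSpecStalk (f x)) x (IsLocalRing.closedPoint _)
    (by rw [Scheme.fromSpecStalk_closedPoint])
  have hflat : Flat (Y.fromSpecStalk (f x)) := Groth.Agent.S4366.flat_fromSpecStalk Y (f x)
  have i1 : IsIso ((pullback.fst f (Y.fromSpecStalk (f x))).stalkMap t) :=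
    Groth.Agent.S4366.result f (f x) t
  have i2 : IsIso ((Y.fromSpecStalk (f x)).stalkMap
      ((pullback.snd f (Y.fromSpecStalk (f x))) t)) :=
    isIso_stalkMap_of_flat_of_isPreimmersion _ _
  have i3 : IsIso ((pullback.snd f (Y.fromSpecStalk (f x))).stalkMap t) := inferInstance
  have e1 := Scheme.Hom.stalkMap_comp (pullback.fst f (Y.fromSpecStalk (f x))) f t
  have e2 := Scheme.Hom.stalkMap_comp (pullback.snd f (Y.fromSpecStalk (f x)))
    (Y.fromSpecStalk (f x)) t
  have e3 := Scheme.Hom.stalkMap_congr_hom _ _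
    (pullback.condition (f := f) (g := Y.fromSpecStalk (f x))) t
  have i4 : IsIso (f.stalkMap ((pullback.fst f (Y.fromSpecStalk (f x))) t) ≫
      (pullback.fst f (Y.fromSpecStalk (f x))).stalkMap t) := by
    rw [← e1, e3, e2]
    exact IsIso.comp_isIso' inferInstance (IsIso.comp_isIso' i2 i3)
  have key : IsIso (f.stalkMap ((pullback.fst f (Y.fromSpecStalk (f x))) t)) :=
    IsIso.of_isIso_comp_right _ ((pullback.fst f (Y.fromSpecStalk (f x))).stalkMap t)
  have e4 := Scheme.Hom.stalkMap_congr_point f _ _ ht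
  have i5 : IsIso (f.stalkMap ((pullback.fst f (Y.fromSpecStalk (f x))) t) ≫
      (X.presheaf.stalkCongr (.of_eq ht)).hom) := inferInstance
  rw [e4] at i5
  exact @IsIso.of_isIso_comp_left _ _ _ _ _ _ (f.stalkMap x) inferInstance i5

/-- Let f : X → Y be a morphism of schemes and g : Y' → Y a faithfully flat morphism (flat and
surjective, not assumed quasi-compact). Then f is an isomorphism exactly when it is quasi-compact
and its base change X ×_Y Y' → Y' along g is an isomorphism. -/
theorem result {X Y Y' : Scheme.{u}} (f : X ⟶ Y) (g : Y' ⟶ Y)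
    [Flat g] [Surjective g] :
    IsIso f ↔ QuasiCompact f ∧ IsIso (pullback.snd f g) := by
  constructor
  · intro h
    exact ⟨inferInstance, inferInstance⟩
  · rintro ⟨hqc, hiso⟩
    have hhomeo : IsHomeomorph f.base :=
      Groth.Agent.S13709.result f g (pullback.snd f g).homeomorph.isHomeomorph
    have : ∀ x, IsIso (f.stalkMap x) := fun x => isIso_stalkMap f g x
    have : IsOpenImmersion f := IsOpenImmersion.of_isIso_stalkMap f hhomeo.isOpenEmbedding
    have : Epi f.base := (TopCat.epi_iff_surjective _).2 hhomeo.surjective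
    exact IsOpenImmersion.isIso f

end Groth.Agent.S13710
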