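import Groth.Statements.S13711
import Groth.Agent.S13710
import Mathlib.AlgebraicGeometry.Morphisms.Flat
import Mathlib.AlgebraicGeometry.Morphisms.IsIso
import Mathlib.AlgebraicGeometry.Morphisms.Affine

set_option autoImplicit false
universe u
open CategoryTheory CategoryTheory.Limits AlgebraicGeometry
open ZeroCyc

namespace Groth.Agent.S13711

theorem isIso_app_of_isIso_appLE {X Y : Scheme.{u}} (f : X ⟶ Y) (U U' : Y.Opens) (V : X.Opens)
    (e : V ≤ f ⁻¹ᵁ U) (hV : V = f ⁻¹ᵁ U) (hU : U = U') [IsIso (f.appLE U V e)] :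
    IsIso (f.app U') := by
  subst hV hU
  have : f.appLE U (f ⁻¹ᵁ U) e = f.app U := by simp [Scheme.Hom.appLE]
  rw [← this]; infer_instance

theorem isIso_app_of_isIso_app {X Y : Scheme.{u}} (f : X ⟶ Y) (U U' : Y.Opens)
    (hU : U = U') [IsIso (f.app U)] : IsIso (f.app U') := by
  subst hU; infer_instance

/-- Key section-level computation. -/
theorem isIso_app_of_squares {X Y Y' B Z Q : Scheme.{u}} [IsAffine Y] [IsAffine B]
    [CompactSpace X] [QuasiSeparatedSpace X]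
    (h : X ⟶ B) (π : B ⟶ Y) (g : Y' ⟶ Y) [Flat g] [IsIso h.appTop]
    (pZ : Z ⟶ B) (qZ : Z ⟶ Y') (HZ : IsPullback pZ qZ π g)
    (pQ : Q ⟶ X) (u : Q ⟶ Z) (HQ : IsPullback pQ u h pZ)
    (W : Y'.Opens) (hW : IsAffineOpen W) :
    IsIso (u.app (qZ ⁻¹ᵁ W)) := by
  have Hbig : IsPullback pQ (u ≫ qZ) (h ≫ π) g := (HQ.flip.paste_horiz HZ.flip).flip
  have hUST : W ≤ g ⁻¹ᵁ (⊤ : Y.Opens) := le_top
  have hUSX₁ : (⊤ : B.Opens) ≤ π ⁻¹ᵁ (⊤ : Y.Opens) := le_top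
  have hUSX₂ : (⊤ : X.Opens) ≤ (h ≫ π) ⁻¹ᵁ (⊤ : Y.Opens) := le_top
  have i1 := isIso_pushoutSection_of_isAffineOpen HZ hUST hUSX₁
    (UY := pZ ⁻¹ᵁ ⊤ ⊓ qZ ⁻¹ᵁ W) rfl (isAffineOpen_top Y) hW (isAffineOpen_top B)
  have i2 := isIso_pushoutSection_of_isQuasiSeparated_of_flat_right Hbig hUST hUSX₂
    (UY := pQ ⁻¹ᵁ ⊤ ⊓ (u ≫ qZ) ⁻¹ᵁ W) rfl (isAffineOpen_top Y) hW
    (by simpa using CompactSpace.isCompact_univ) (by simpa using isQuasiSeparated_univ)
  rw [isIso_pushoutSection_iff] at i1 i2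
  have e1 : (pQ ⁻¹ᵁ ⊤ ⊓ (u ≫ qZ) ⁻¹ᵁ W) ≤ u ⁻¹ᵁ (pZ ⁻¹ᵁ ⊤ ⊓ qZ ⁻¹ᵁ W) := by
    simp
  have e0 : (⊤ : X.Opens) ≤ h ⁻¹ᵁ ⊤ := le_top
  have c1 : (h ≫ π).appLE ⊤ ⊤ hUSX₂ = π.appLE ⊤ ⊤ hUSX₁ ≫ h.appLE ⊤ ⊤ e0 := by
    rw [Scheme.Hom.appLE_comp_appLE]
  have c2 : (u ≫ qZ).appLE W (pQ ⁻¹ᵁ ⊤ ⊓ (u ≫ qZ) ⁻¹ᵁ W) (by simp) =
      qZ.appLE W (pZ ⁻¹ᵁ ⊤ ⊓ qZ ⁻¹ᵁ W) (by simp) ≫
        u.appLE (pZ ⁻¹ᵁ ⊤ ⊓ qZ ⁻¹ᵁ W) (pQ ⁻¹ᵁ ⊤ ⊓ (u ≫ qZ) ⁻¹ᵁ W) e1 := by
    rw [Scheme.Hom.appLE_comp_appLE]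
  rw [c1, c2] at i2
  have i3 := IsPushout.of_left i2 (by
    rw [Scheme.Hom.appLE_comp_appLE, Scheme.Hom.appLE_comp_appLE]
    congr 1
    exact HQ.w) i1
  have : IsIso (h.appLE ⊤ ⊤ e0) := by
    have : h.appLE ⊤ ⊤ e0 = h.appTop := by simp [Scheme.Hom.appLE, Scheme.Hom.appTop]
    rw [this]; infer_instance
  have i4 := i3.isIso_inr_of_isIso
  exact isIso_app_of_isIso_appLE u _ _ _ e1 (by ext; simp) (by simp)

theorem isAffine_of_affine_target {X Y Y' : Scheme.{u}} [IsAffine Y] (f : X ⟶ Y) (g : Y' ⟶ Y)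
    [Flat g] [Surjective g] [QuasiCompact f] [QuasiSeparated f]
    [IsAffineHom (pullback.snd f g)] : IsAffine X := by
  have : CompactSpace X := QuasiCompact.compactSpace_of_compactSpace f
  have : QuasiSeparatedSpace X := quasiSeparatedSpace_of_quasiSeparated f
  let B := Spec Γ(X, ⊤)
  let h : X ⟶ B := X.toSpecΓ
  let π : B ⟶ Y := Spec.map f.appTop ≫ Y.isoSpec.inv
  have hπ : h ≫ π = f := by
    simp only [h, π, ← Scheme.toSpecΓ_naturality_assoc]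
    simp [Scheme.isoSpec]
  have : IsIso h.appTop := by rw [Scheme.toSpecΓ_appTop]; infer_instance
  let Z := pullback π g
  let pZ : Z ⟶ B := pullback.fst π g
  let qZ : Z ⟶ Y' := pullback.snd π g
  let Q := pullback h pZ
  let pQ : Q ⟶ X := pullback.fst h pZ
  let u : Q ⟶ Z := pullback.snd h pZ
  have HZ : IsPullback pZ qZ π g := .of_hasPullback _ _
  have HQ : IsPullback pQ u h pZ := .of_hasPullback _ _
  have Hbig : IsPullback pQ (u ≫ qZ) f g := hπ ▸ (HQ.flip.paste_horiz HZ.flip).flip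
  have hπa : IsAffineHom π := inferInstance
  have hqZ : IsAffineHom qZ := MorphismProperty.pullback_snd (P := @IsAffineHom) _ _ hπa
  have huq : IsAffineHom (u ≫ qZ) := by
    have : u ≫ qZ = Hbig.isoPullback.hom ≫ pullback.snd f g := by simp
    rw [this]; infer_instance
  have hu : IsIso u := by
    refine HasAffineProperty.of_iSup_eq_top (P := MorphismProperty.isomorphisms Scheme) (f := u)
      (fun W : Y'.affineOpens => ⟨qZ ⁻¹ᵁ W.1, W.2.preimage qZ⟩) ?_ (fun W => ⟨?_, ?_⟩)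
    · change ⨆ W : Y'.affineOpens, qZ ⁻¹ᵁ W.1 = ⊤
      rw [← Scheme.Hom.preimage_iSup, iSup_affineOpens_eq_top, Scheme.Hom.preimage_top]
    · exact (W.2.preimage (u ≫ qZ) :)
    · change IsIso (u ∣_ (qZ ⁻¹ᵁ W.1)).appTop
      rw [morphismRestrict_appTop]
      have := isIso_app_of_squares h π g pZ qZ HZ pQ u HQ W.1 W.2
      have : IsIso (u.app ((qZ ⁻¹ᵁ W.1).ι ''ᵁ ⊤)) :=
        isIso_app_of_isIso_app u _ _ (Scheme.Opens.ι_image_top _).symm
      exact IsIso.comp_isIso' this (Functor.map_isIso _ _)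
  have hqc : QuasiCompact h := inferInstance
  have : IsIso h := (Groth.Agent.S13710.result h pZ).2 ⟨hqc, hu⟩
  exact ⟨this⟩

theorem isAffineHom_snd_restrict {X Y Y' : Scheme.{u}} (f : X ⟶ Y) (g : Y' ⟶ Y)
    [IsAffineHom (pullback.snd f g)] (V : Y.Opens) :
    IsAffineHom (pullback.snd (f ∣_ V) (g ∣_ V)) := by
  have h1 : IsPullback (pullback.fst (f ∣_ V) (g ∣_ V)) (pullback.snd (f ∣_ V) (g ∣_ V))
      (f ∣_ V) (g ∣_ V) := .of_hasPullback _ _
  have h2 : IsPullback (f ⁻¹ᵁ V).ι (f ∣_ V) f V.ι := (isPullback_morphismRestrict f V).flip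
  have h3 := h1.paste_horiz h2
  rw [morphismRestrict_ι] at h3
  have h4 := IsPullback.of_right' h3 (IsPullback.of_hasPullback f g)
  exact MorphismProperty.of_isPullback (P := @IsAffineHom) h4 inferInstance

theorem result' {X Y Y' : Scheme.{u}} (f : X ⟶ Y) (g : Y' ⟶ Y)
    [Flat g] [Surjective g] :
    IsAffineHom f ↔ QuasiCompact f ∧ QuasiSeparated f ∧ IsAffineHom (pullback.snd f g) := by
  constructor
  · intro h
    exact ⟨inferInstance, inferInstance, MorphismProperty.pullback_snd (P := @IsAffineHom) _ _ h⟩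
  · rintro ⟨hqc, hqs, haff⟩
    refine HasAffineProperty.of_iSup_eq_top (P := @IsAffineHom) (fun V : Y.affineOpens => V)
      (iSup_affineOpens_eq_top Y) (fun V => ?_)
    have : IsAffine V.1 := V.2
    have := isAffineHom_snd_restrict f g V.1
    have : Surjective (g ∣_ V.1) := IsZariskiLocalAtTarget.restrict (P := @Surjective) ‹_› V.1
    exact isAffine_of_affine_target (f ∣_ V.1) (g ∣_ V.1)

/-- Let f : X → Y be a morphism of schemes and g : Y' → Y a faithfully flat morphism (flat and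
surjective, not assumed quasi-compact). Then f is affine exactly when it is quasi-compact,
quasi-separated, and its base change X ×_Y Y' → Y' along g is affine. -/
theorem result {X Y Y' : Scheme.{u}} (f : X ⟶ Y) (g : Y' ⟶ Y)
    [Flat g] [Surjective g] :
    IsAffineHom f ↔ QuasiCompact f ∧ QuasiSeparated f ∧ IsAffineHom (pullback.snd f g) := by
  exact result' f g

end Groth.Agent.S13711
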