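import Groth.Statements.S13712
import Groth.Agent.S0593
-- import your own Groth.Agent.* helpers here

set_option autoImplicit false
set_option backward.isDefEq.respectTransparency false
universe u
open CategoryTheory CategoryTheory.Limits AlgebraicGeometry
open ZeroCyc

namespace Groth.Agent.S13712

/-- Let f : X → Y and g : Y → S be morphisms of schemes with g separated, such that the composite X → S
is integral with topologically finite fibres (every fibre is a finite set). Then the
scheme-theoretic image Y' of f, with its closed immersion Y' → Y, is integral over S, and Y' → S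
again has topologically finite fibres. (The published statement is for algebraic spaces; this row is
the case of schemes.) -/
theorem result {X Y S : Scheme.{u}} (f : X ⟶ Y) (g : Y ⟶ S)
    [IsSeparated g] [IsIntegralHom (f ≫ g)] (hfin : ∀ s : S, Set.Finite ((f ≫ g).base ⁻¹' {s})) :
    IsIntegralHom (f.imageι ≫ g) ∧ ∀ s : S, Set.Finite ((f.imageι ≫ g).base ⁻¹' {s}) := by
  have : IsIntegralHom f := IsIntegralHom.of_comp f g
  have hth : f.toImage ≫ (f.imageι ≫ g) = f ≫ g := by
    rw [← Category.assoc, f.toImage_imageι]
  have : IsSeparated (f.imageι ≫ g) := inferInstance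
  have : IsIntegralHom (f.toImage ≫ (f.imageι ≫ g)) := by rw [hth]; infer_instance
  have : IsIntegralHom f.toImage := IsIntegralHom.of_comp f.toImage (f.imageι ≫ g)
  have hsurj : Surjective f.toImage := by
    constructor
    have hcl : IsClosedMap f.toImage.base := f.toImage.isClosedMap
    have hd : DenseRange f.toImage.base := f.toImage.denseRange
    rw [← Set.range_eq_univ, ← hcl.isClosed_range.closure_eq]
    exact hd.closure_range
  have : UniversallyClosed (f.imageι ≫ g) := by
    have : UniversallyClosed (f.toImage ≫ (f.imageι ≫ g)) := inferInstance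
    exact UniversallyClosed.of_comp_surjective f.toImage (f.imageι ≫ g)
  refine ⟨?_, ?_⟩
  · rw [IsIntegralHom.iff_universallyClosed_and_isAffineHom]
    refine ⟨inferInstance, ?_⟩
    rw [isAffineHom_iff]
    intro V hV
    have haff : IsAffineOpen ((f.toImage ≫ (f.imageι ≫ g)) ⁻¹ᵁ V) := hV.preimage _
    have haff' : IsAffineOpen (f.toImage ⁻¹ᵁ ((f.imageι ≫ g) ⁻¹ᵁ V)) := haff
    have : IsAffine (f.toImage ⁻¹ᵁ ((f.imageι ≫ g) ⁻¹ᵁ V)).toScheme := haff'
    have : Surjective (f.toImage ∣_ ((f.imageι ≫ g) ⁻¹ᵁ V)) :=
      IsZariskiLocalAtTarget.restrict ‹_› _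
    have : UniversallyClosed (f.toImage ∣_ ((f.imageι ≫ g) ⁻¹ᵁ V)) :=
      IsZariskiLocalAtTarget.restrict (inferInstance : UniversallyClosed f.toImage) _
    exact Groth.Agent.S0593.result _ _ (f.toImage ∣_ ((f.imageι ≫ g) ⁻¹ᵁ V))
  · intro s
    refine ((hfin s).image f.toImage.base).subset ?_
    intro y hy
    obtain ⟨x, rfl⟩ := hsurj.surj y
    refine ⟨x, ?_, rfl⟩
    simp only [Set.mem_preimage, Set.mem_singleton_iff] at hy ⊢
    rw [← hy, ← hth]
    rfl


end Groth.Agent.S13712
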