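import Groth.Statements.S13717
import Mathlib
import Groth.Agent.Lib.Helper6.GammaGen

set_option autoImplicit false
universe u
open scoped TensorProduct
open ZeroCyc

namespace Groth.Agent.S13717



/-- Let π : B → B' be a surjective map of commutative A-algebras and let (C, γ) and (C', γ') be the
degree-d divided power algebras Γ^d_A(B) and Γ^d_A(B') with their universal multiplicative laws
homogeneous of degree d. If φ : C → C' is the A-algebra map with φ ∘ γ = γ' ∘ π, then φ is
surjective; geometrically, for a closed subscheme X of an affine Y over an affine S, Γ^d(X/S) →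
Γ^d(Y/S) is a closed immersion. (The published statement is for Y affine over an algebraic space S;
this row is the case of an affine base.) -/
theorem result {A : Type u} [CommRing A] {B : Type u} [CommRing B] [Algebra A B]
    {B' : Type u} [CommRing B'] [Algebra A B'] {C : Type u} [CommRing C] [Algebra A C] {C' : Type u} [CommRing C'] [Algebra A C']
    {d : ℕ} (γ : PolLaw.MulLaw A B C d) (hγ : PolLaw.IsGammaD γ) (γ' : PolLaw.MulLaw A B' C' d) (hγ' : PolLaw.IsGammaD γ')
    (π : B →ₐ[A] B') (hπ : Function.Surjective π) (φ : C →ₐ[A] C')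
    (hφ : PolLaw.postcomp φ.toLinearMap γ.law = (γ'.precomp π).law) :
    Function.Surjective φ := by
  classical
  have hL : Groth.Agent.Lib.helper6.GammaGen.HasLifts γ' φ.range := by
    intro σ x'
    obtain ⟨x, rfl⟩ := LinearMap.lTensor_surjective (MvPolynomial σ A) (g := π.toLinearMap) hπ x'
    have h1 : γ'.law.toFun' (MvPolynomial σ A) (π.toLinearMap.lTensor (MvPolynomial σ A) x) =
        φ.toLinearMap.lTensor (MvPolynomial σ A) (γ.law.toFun' (MvPolynomial σ A) x) :=
      (congrArg (fun L : B →ₚₗ[A] C' => L.toFun' (MvPolynomial σ A) x) hφ).symm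
    rw [h1]
    have h2 : φ.toLinearMap = φ.range.val.toLinearMap ∘ₗ φ.rangeRestrict.toLinearMap := rfl
    rw [h2, LinearMap.lTensor_comp, LinearMap.comp_apply]
    exact LinearMap.mem_range_self _ _
  have htop := Groth.Agent.Lib.helper6.GammaGen.eq_top_of_hasLifts hγ' hL
  exact (AlgHom.range_eq_top φ).mp htop


end Groth.Agent.S13717
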