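import Groth.Statements.S13713
import Mathlib
import Groth.Agent.Lib.Helper6.GammaFT
import Groth.Agent.Lib.Helper6.TSFlat2
import Groth.Agent.S13717

set_option autoImplicit false
universe u
open scoped TensorProduct
open ZeroCyc

namespace Groth.Agent.S13713

open Groth.Agent.Lib.helper6.GammaFT Groth.Agent.Lib.helper6.GammaUniv
open Groth.Agent.Lib.helper6.TSFlat



/-- Let (C, γ) be the algebra of divided powers Γ^d_A(B) of a commutative A-algebra B with its universal
multiplicative law γ : B → C homogeneous of degree d (every multiplicative law B → C' homogeneous of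
degree d factors uniquely through γ by an algebra map C → C'). If B is of finite type over A then so
is C = Γ^d_A(B). -/
theorem result {A : Type u} [CommRing A] {B : Type u} [CommRing B] [Algebra A B] {C : Type u} [CommRing C] [Algebra A C]
    {d : ℕ} (γ : PolLaw.MulLaw A B C d) (hγ : PolLaw.IsGammaD γ) [Algebra.FiniteType A B] :
    Algebra.FiniteType A C := by
  letI : Algebra (ULift.{u} ℤ) A := ULift.algebra' ℤ A
  obtain ⟨n, f, hf⟩ := Algebra.FiniteType.iff_quotient_mvPolynomial''.1
    (inferInstance : Algebra.FiniteType A B)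
  haveI : IsNoetherianRing (ULift.{u} ℤ) := isNoetherianRing_of_ringEquiv ℤ ULift.ringEquiv.symm
  have h0 : Algebra.FiniteType (ULift.{u} ℤ)
      (SymTen.TS (ULift.{u} ℤ) (MvPolynomial (Fin n) (ULift.{u} ℤ)) d) :=
    finiteType_TS (ULift.{u} ℤ) (MvPolynomial (Fin n) (ULift.{u} ℤ)) d
  have h1 : Algebra.FiniteType A
      (SymTen.TS A (A ⊗[ULift.{u} ℤ] MvPolynomial (Fin n) (ULift.{u} ℤ)) d) :=
    finiteType_TS_bc A d
      ((MvPolynomial.basisMonomials (Fin n) (ULift.{u} ℤ)).reindex Equiv.ulift.{u, 0}.symm) h0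
  let π : A ⊗[ULift.{u} ℤ] MvPolynomial (Fin n) (ULift.{u} ℤ) →ₐ[A] B :=
    f.comp (MvPolynomial.algebraTensorAlgEquiv (ULift.{u} ℤ) A).toAlgHom
  have hπ : Function.Surjective π :=
    hf.comp (MvPolynomial.algebraTensorAlgEquiv (ULift.{u} ℤ) A).surjective
  have hG := isGammaD_tsLaw_of_flat A
    (A ⊗[ULift.{u} ℤ] MvPolynomial (Fin n) (ULift.{u} ℤ)) d
  obtain ⟨φ, hφ, -⟩ := hG C (γ.precomp π)
  have hsurj : Function.Surjective φ :=
    Groth.Agent.S13717.result (tsLaw A _ d) hG γ hγ π hπ φ hφ
  exact Algebra.FiniteType.of_surjective φ hsurj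


end Groth.Agent.S13713
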