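import Groth.Statements.S13729
import Mathlib
import Groth.Agent.Lib.Helper6.TSFlat2
import Groth.Agent.Lib.Helper6.TSFlatMod

set_option autoImplicit false
universe u
open scoped TensorProduct
open ZeroCyc

namespace Groth.Agent.S13729

open Groth.Agent.Lib.helper6.GammaUniv Groth.Agent.Lib.helper6.TSFlatMod in
theorem flat_TS (A : Type u) [CommRing A] (B : Type u) [CommRing B] [Algebra A B]
    [Module.Flat A B] (d : ℕ) : Module.Flat A (SymTen.TS A B d) := by
  have := flat_tsM A B d
  let e : (SymTen.TS A B d) ≃ₗ[A] ↥(tsM A B d) :=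
    { toFun := fun y => ⟨y.1, (mem_tsM y.1).2 ((SymTen.mem_TS_iff A B d y.1).1 y.2)⟩
      invFun := fun x => ⟨x.1, (SymTen.mem_TS_iff A B d x.1).2 ((mem_tsM x.1).1 x.2)⟩
      map_add' := fun _ _ => rfl
      map_smul' := fun _ _ => rfl
      left_inv := fun _ => rfl
      right_inv := fun _ => rfl }
  exact Module.Flat.of_linearEquiv e

theorem algEquiv_of_isGammaD {A : Type u} [CommRing A] {B : Type u} [CommRing B] [Algebra A B]
    {C D : Type u} [CommRing C] [Algebra A C] [CommRing D] [Algebra A D] {d : ℕ}
    (γ : PolLaw.MulLaw A B C d) (hγ : PolLaw.IsGammaD γ) (τ : PolLaw.MulLaw A B D d)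
    (hτ : PolLaw.IsGammaD τ) : Nonempty (C ≃ₐ[A] D) := by
  obtain ⟨f, hf, -⟩ := hγ D τ
  obtain ⟨g, hg, -⟩ := hτ C γ
  have hf' : ∀ (S : Type u) [CommSemiring S] [Algebra A S] (x : S ⊗[A] B),
      f.toLinearMap.lTensor S (γ.law.toFun' S x) = τ.law.toFun' S x := by
    intro S _ _ x
    rw [← hf]
    rfl
  have hg' : ∀ (S : Type u) [CommSemiring S] [Algebra A S] (x : S ⊗[A] B),
      g.toLinearMap.lTensor S (τ.law.toFun' S x) = γ.law.toFun' S x := by
    intro S _ _ x
    rw [← hg]
    rfl
  have h1 : g.comp f = AlgHom.id A C := by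
    obtain ⟨k, -, huniq⟩ := hγ C γ
    have e1 : g.comp f = k := by
      apply huniq
      apply PolynomialLaw.ext
      funext S _ _ x
      show (g.comp f).toLinearMap.lTensor S (γ.law.toFun' S x) = γ.law.toFun' S x
      rw [AlgHom.comp_toLinearMap, LinearMap.lTensor_comp, LinearMap.comp_apply, hf', hg']
    have e2 : AlgHom.id A C = k := by
      apply huniq
      apply PolynomialLaw.ext
      funext S _ _ x
      show (AlgHom.id A C).toLinearMap.lTensor S (γ.law.toFun' S x) = γ.law.toFun' S x
      rw [show (AlgHom.id A C).toLinearMap = LinearMap.id from rfl, LinearMap.lTensor_id,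
        LinearMap.id_apply]
    exact e1.trans e2.symm
  have h2 : f.comp g = AlgHom.id A D := by
    obtain ⟨k, -, huniq⟩ := hτ D τ
    have e1 : f.comp g = k := by
      apply huniq
      apply PolynomialLaw.ext
      funext S _ _ x
      show (f.comp g).toLinearMap.lTensor S (τ.law.toFun' S x) = τ.law.toFun' S x
      rw [AlgHom.comp_toLinearMap, LinearMap.lTensor_comp, LinearMap.comp_apply, hg', hf']
    have e2 : AlgHom.id A D = k := by
      apply huniq
      apply PolynomialLaw.ext
      funext S _ _ x
      show (AlgHom.id A D).toLinearMap.lTensor S (τ.law.toFun' S x) = τ.law.toFun' S x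
      rw [show (AlgHom.id A D).toLinearMap = LinearMap.id from rfl, LinearMap.lTensor_id,
        LinearMap.id_apply]
    exact e1.trans e2.symm
  exact ⟨AlgEquiv.ofAlgHom f g h2 h1⟩



/-- Let (C, γ) be the algebra of divided powers Γ^d_A(B) of a commutative A-algebra B with its universal
multiplicative law γ : B → C homogeneous of degree d (every multiplicative law B → C' homogeneous of
degree d factors uniquely through γ by an algebra map C → C'). If B is flat over A then C = Γ^d_A(B)
is flat over A. (The published statement is that Γ^d(X/S) → S inherits flatness from X → S for any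
separated algebraic space X over S; this row is the case X and S affine, where Γ^d(X/S) = Spec
Γ^d_A(B).) -/
theorem result {A : Type u} [CommRing A] {B : Type u} [CommRing B] [Algebra A B] {C : Type u} [CommRing C] [Algebra A C]
    {d : ℕ} (γ : PolLaw.MulLaw A B C d) (hγ : PolLaw.IsGammaD γ) [Module.Flat A B] :
    Module.Flat A C := by
  obtain ⟨e⟩ := algEquiv_of_isGammaD γ hγ (Groth.Agent.Lib.helper6.GammaUniv.tsLaw A B d)
    (Groth.Agent.Lib.helper6.TSFlat.isGammaD_tsLaw_of_flat A B d)
  have := flat_TS A B d
  exact Module.Flat.of_linearEquiv e.toLinearEquiv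


end Groth.Agent.S13729
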