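import Groth.Statements.S13714
import Mathlib
import Groth.Agent.Lib.Helper6.GammaFT
import Groth.Agent.Lib.Helper6.TSFlat2
import Groth.Agent.Lib.Helper6.GammaBC2
import Groth.Agent.Lib.Helper6.GammaEx
import Groth.Agent.S13729

set_option autoImplicit false
universe u
open scoped TensorProduct
open ZeroCyc

namespace Groth.Agent.S13714

open Groth.Agent.Lib.helper6.GammaFT Groth.Agent.Lib.helper6.GammaUniv
open Groth.Agent.Lib.helper6.TSFlat Groth.Agent.Lib.helper6.GammaBC
open Groth.Agent.Lib.helper6.GammaEx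

/-- abstract core: descent to a noetherian base. -/
theorem fp_core {A₀ A B₀ B C C₀ : Type u} [CommRing A₀] [IsNoetherianRing A₀] [CommRing A]
    [Algebra A₀ A] [CommRing B₀] [Algebra A₀ B₀] [CommRing B] [Algebra A B] [CommRing C]
    [Algebra A C] [CommRing C₀] [Algebra A₀ C₀] {d : ℕ}
    (γ₀ : PolLaw.MulLaw A₀ B₀ C₀ d) (hγ₀ : PolLaw.IsGammaD γ₀) (hfg : Algebra.FiniteType A₀ C₀)
    (e : A ⊗[A₀] B₀ ≃ₐ[A] B) (γ : PolLaw.MulLaw A B C d) (hγ : PolLaw.IsGammaD γ) :
    Algebra.FinitePresentation A C := by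
  haveI : Algebra.FinitePresentation A₀ C₀ := Algebra.FinitePresentation.of_finiteType.1 hfg
  have h1 := isGammaD_bc A γ₀ hγ₀
  have h2 := isGammaD_precomp_equiv (mulLawBC A γ₀) h1 e
  obtain ⟨ε⟩ := Groth.Agent.S13729.algEquiv_of_isGammaD γ hγ _ h2
  haveI : Algebra.FinitePresentation A (A ⊗[A₀] C₀) := inferInstance
  exact Algebra.FinitePresentation.equiv ε.symm

/-- existence of a finitely generated `Γ^d` for a quotient of a polynomial ring over a noetherian
ring. -/
theorem exists_gamma_quot_fg (A₀ : Type u) [CommRing A₀] [IsNoetherianRing A₀] (n : ℕ)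
    (I₀ : Ideal (MvPolynomial (Fin n) A₀)) (d : ℕ) :
    ∃ (C₀ : Type u) (_ : CommRing C₀) (_ : Algebra A₀ C₀)
      (γ₀ : PolLaw.MulLaw A₀ (MvPolynomial (Fin n) A₀ ⧸ I₀) C₀ d),
      PolLaw.IsGammaD γ₀ ∧ Algebra.FiniteType A₀ C₀ := by
  have hτ := isGammaD_tsLaw_of_flat A₀ (MvPolynomial (Fin n) A₀) d
  have hT : Algebra.FiniteType A₀ (SymTen.TS A₀ (MvPolynomial (Fin n) A₀) d) :=
    finiteType_TS A₀ (MvPolynomial (Fin n) A₀) d
  obtain ⟨J, γ₀, hγ₀, -⟩ := exists_isGammaD_quot (tsLaw A₀ (MvPolynomial (Fin n) A₀) d) I₀ hτ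
  exact ⟨_, inferInstance, inferInstance, γ₀, hγ₀,
    Algebra.FiniteType.of_surjective (Ideal.Quotient.mkₐ A₀ J) (Ideal.Quotient.mkₐ_surjective A₀ J)⟩



/-- Let (C, γ) be the algebra of divided powers Γ^d_A(B) of a commutative A-algebra B with its universal
multiplicative law γ : B → C homogeneous of degree d (every multiplicative law B → C' homogeneous of
degree d factors uniquely through γ by an algebra map C → C'). If B is of finite presentation over A
then so is C = Γ^d_A(B). -/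
theorem result {A : Type u} [CommRing A] {B : Type u} [CommRing B] [Algebra A B] {C : Type u} [CommRing C] [Algebra A C]
    {d : ℕ} (γ : PolLaw.MulLaw A B C d) (hγ : PolLaw.IsGammaD γ) [Algebra.FinitePresentation A B] :
    Algebra.FinitePresentation A C := by
  let Pr := Algebra.Presentation.ofFinitePresentation A B
  haveI : IsNoetherianRing Pr.Core := Algebra.FiniteType.isNoetherianRing ℤ Pr.Core
  obtain ⟨C₀, _, _, γ₀, hγ₀, hfg⟩ := exists_gamma_quot_fg Pr.Core _
    (Ideal.span (Set.range (Pr.relationOfHasCoeffs Pr.Core))) d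
  exact fp_core γ₀ hγ₀ hfg (Pr.tensorModelOfHasCoeffsEquiv Pr.Core) γ hγ


end Groth.Agent.S13714
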