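import Groth.Statements.S13715
import Mathlib
import Groth.Agent.Lib.Helper6.GammaCoef

set_option autoImplicit false
universe u
open scoped TensorProduct
open ZeroCyc

namespace Groth.Agent.S13715



/-- Let (C, γ) be the algebra of divided powers Γ^d_A(B) of a commutative A-algebra B with its universal
multiplicative law γ : B → C homogeneous of degree d (every multiplicative law B → C' homogeneous of
degree d factors uniquely through γ by an algebra map C → C'). If B is finite (as a module) over A
then so is C = Γ^d_A(B). -/
theorem result {A : Type u} [CommRing A] {B : Type u} [CommRing B] [Algebra A B] {C : Type u} [CommRing C] [Algebra A C]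
    {d : ℕ} (γ : PolLaw.MulLaw A B C d) (hγ : PolLaw.IsGammaD γ) [Module.Finite A B] :
    Module.Finite A C := by
  classical
  obtain ⟨G, hG⟩ := Module.finite_def.mp (inferInstance : Module.Finite A B)
  have hs : Submodule.span A (Set.range (Subtype.val : (↥G) → B)) = ⊤ := by
    rw [Subtype.range_coe_subtype]
    exact hG
  have hfg := Groth.Agent.Lib.helper6.GammaGen.Ccan_fg γ (Subtype.val : (↥G) → B) hs
  rw [Groth.Agent.Lib.helper6.GammaGen.Ccan_eq_top γ hγ, Algebra.top_toSubmodule] at hfg
  exact Module.finite_def.mpr hfg


end Groth.Agent.S13715
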