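import Groth.Statements.S13716
import Mathlib
import Groth.Agent.Lib.Helper6.GammaCoef

set_option autoImplicit false
universe u
open scoped TensorProduct
open ZeroCyc

namespace Groth.Agent.S13716

open Groth.Agent.Lib.helper6.GammaGen in
theorem exists_finset_lift {A : Type u} [CommRing A] {B : Type u} [CommRing B] [Algebra A B]
    (S : Type u) [CommSemiring S] [Algebra A S] (x : S ⊗[A] B) :
    ∃ (s : Finset B) (x₁ : S ⊗[A] (Algebra.adjoin A (↑s : Set B))),
      (Algebra.adjoin A (↑s : Set B)).val.toLinearMap.lTensor S x₁ = x := by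
  classical
  induction x using TensorProduct.induction_on with
  | zero => exact ⟨∅, 0, map_zero _⟩
  | tmul r b =>
    exact ⟨{b}, r ⊗ₜ[A] (⟨b, Algebra.subset_adjoin
      (Finset.mem_coe.mpr (Finset.mem_singleton_self b))⟩ : Algebra.adjoin A (↑({b} : Finset B) : Set B)), by
      rw [LinearMap.lTensor_tmul]
      rfl⟩
  | add x y hx hy =>
    obtain ⟨s, x₁, rfl⟩ := hx
    obtain ⟨s', y₁, rfl⟩ := hy
    have h1 : Algebra.adjoin A (↑s : Set B) ≤ Algebra.adjoin A (↑(s ∪ s') : Set B) :=
      Algebra.adjoin_mono (Finset.coe_subset.mpr Finset.subset_union_left)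
    have h2 : Algebra.adjoin A (↑s' : Set B) ≤ Algebra.adjoin A (↑(s ∪ s') : Set B) :=
      Algebra.adjoin_mono (Finset.coe_subset.mpr Finset.subset_union_right)
    have e1 : (Algebra.adjoin A (↑(s ∪ s') : Set B)).val.toLinearMap ∘ₗ
        (Subalgebra.inclusion h1).toLinearMap = (Algebra.adjoin A (↑s : Set B)).val.toLinearMap :=
      LinearMap.ext fun _ => rfl
    have e2 : (Algebra.adjoin A (↑(s ∪ s') : Set B)).val.toLinearMap ∘ₗ
        (Subalgebra.inclusion h2).toLinearMap = (Algebra.adjoin A (↑s' : Set B)).val.toLinearMap :=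
      LinearMap.ext fun _ => rfl
    refine ⟨s ∪ s', (Subalgebra.inclusion h1).toLinearMap.lTensor S x₁ +
      (Subalgebra.inclusion h2).toLinearMap.lTensor S y₁, ?_⟩
    rw [map_add, ← LinearMap.comp_apply, ← LinearMap.comp_apply, ← LinearMap.lTensor_comp,
      ← LinearMap.lTensor_comp, e1, e2]



/-- Let (C, γ) be the algebra of divided powers Γ^d_A(B) of a commutative A-algebra B with its universal
multiplicative law γ : B → C homogeneous of degree d (every multiplicative law B → C' homogeneous of
degree d factors uniquely through γ by an algebra map C → C'). If B is integral over A then so is C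
= Γ^d_A(B). -/
theorem result {A : Type u} [CommRing A] {B : Type u} [CommRing B] [Algebra A B] {C : Type u} [CommRing C] [Algebra A C]
    {d : ℕ} (γ : PolLaw.MulLaw A B C d) (hγ : PolLaw.IsGammaD γ) [Algebra.IsIntegral A B] :
    Algebra.IsIntegral A C := by
  classical
  constructor
  intro c
  have hc : c ∈ Groth.Agent.Lib.helper6.GammaGen.Ccan γ := by
    rw [Groth.Agent.Lib.helper6.GammaGen.Ccan_eq_top γ hγ]
    exact Algebra.mem_top
  rw [Groth.Agent.Lib.helper6.GammaGen.mem_Ccan] at hc
  have hle : Submodule.span A (Groth.Agent.Lib.helper6.GammaGen.coefSet γ) ≤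
      Subalgebra.toSubmodule (integralClosure A C) := by
    rw [Submodule.span_le]
    rintro _ ⟨S, _, _, lam, x, rfl⟩
    show IsIntegral A _
    obtain ⟨s, x₁, hx₁⟩ := exists_finset_lift S x
    have hB₁fg : (Subalgebra.toSubmodule (Algebra.adjoin A (↑s : Set B))).FG :=
      fg_adjoin_of_finite s.finite_toSet (fun b _ => Algebra.IsIntegral.isIntegral b)
    haveI : Module.Finite A (Algebra.adjoin A (↑s : Set B)) := Module.Finite.of_fg hB₁fg
    obtain ⟨G, hG⟩ := Module.finite_def.mp
      (inferInstance : Module.Finite A (Algebra.adjoin A (↑s : Set B)))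
    have hs : Submodule.span A (Set.range (Subtype.val : (↥G) → (Algebra.adjoin A (↑s : Set B)))) = ⊤ := by
      rw [Subtype.range_coe_subtype]
      exact hG
    have hfg := Groth.Agent.Lib.helper6.GammaGen.Ccan_fg
      (γ.precomp (Algebra.adjoin A (↑s : Set B)).val) (Subtype.val : (↥G) → _) hs
    refine IsIntegral.of_mem_of_fg _ hfg _ ?_
    rw [Groth.Agent.Lib.helper6.GammaGen.mem_Ccan]
    refine Submodule.subset_span ⟨S, inferInstance, inferInstance, lam, x₁, ?_⟩
    rw [← hx₁]
    rfl
  exact hle hc


end Groth.Agent.S13716
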