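import Groth.Statements.S13718
import Mathlib
import Groth.Agent.Lib.Helper6.CHLaw2

set_option autoImplicit false
universe u
open scoped TensorProduct
open ZeroCyc

namespace Groth.Agent.S13718


open Groth.Agent.Lib.helper6.CHLaw Groth.Agent.Lib.helper6.CHLaw2



/-- Let φ : B' → B be a map of commutative algebras over the commutative ring A and F : B → A a
multiplicative polynomial law homogeneous of degree d, with push-forward the law F ∘ φ : B' → A.
Then the radical of the kernel of F ∘ φ equals the radical of the inverse image under φ of the
kernel of F: the support of the pushed-forward family of zero-cycles on Spec B' is the image of the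
support of the family on Spec B. (The published statement is for affine morphisms X → Y → S of
algebraic spaces; this row is the case of an affine base.) -/
theorem result {A : Type u} [CommRing A] {B : Type u} [CommRing B] [Algebra A B]
    {B' : Type u} [CommRing B'] [Algebra A B'] {d : ℕ} (F : PolLaw.MulLaw A B A d) (φ : B' →ₐ[A] B) :
    (PolLaw.ker (F.precomp φ).law).radical = ((PolLaw.ker F.law).comap φ).radical := by
  apply le_antisymm
  · rw [Ideal.radical_le_radical_iff]
    intro b' hb'
    have h1 : chi0 (F.precomp φ) b' = (-Polynomial.X) ^ d := chi0_of_mem_ker _ b' hb'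
    have h2 : chi0 (F.precomp φ) b' = chi0 F (φ b') := chi0_precomp F φ b'
    have h3 := ch F (φ b')
    rw [← h2, h1, aeval_neg_X_pow] at h3
    have h4 : (-b') ^ d ∈ (PolLaw.ker F.law).comap φ := by
      rw [Ideal.mem_comap, map_pow, map_neg]
      exact h3
    exact (Ideal.neg_mem_iff _).mp (Ideal.mem_radical_iff.mpr ⟨d, h4⟩)
  · apply Ideal.radical_mono
    intro b' hb'
    exact mem_ker_precomp F φ b' (Ideal.mem_comap.mp hb')


end Groth.Agent.S13718
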