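import Groth.Statements.S13719
import Groth.Agent.Lib.Helper22.PolLawIdem

set_option autoImplicit false
universe u
open scoped TensorProduct
open ZeroCyc

namespace Groth.Agent.S13719

section aux
open Groth.Agent.Lib.helper22.PolLawIdem

variable {A : Type u} [CommRing A] {B : Type u} [CommRing B] [Algebra A B]
  {C : Type u} [CommRing C] [Algebra A C]

theorem lTensor_smul' (j : C →ₗ[A] B) (S : Type u) [CommSemiring S] [Algebra A S] (s : S)
    (x : S ⊗[A] C) : j.lTensor S (s • x) = s • j.lTensor S x := by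
  induction x using TensorProduct.induction_on with
  | zero => simp
  | tmul a c => rw [TensorProduct.smul_tmul', LinearMap.lTensor_tmul, LinearMap.lTensor_tmul,
      TensorProduct.smul_tmul']
  | add x y hx hy => rw [smul_add, map_add, map_add, smul_add, hx, hy]

theorem lTensor_mul' (j : C →ₗ[A] B) (hjm : ∀ x y, j (x * y) = j x * j y)
    (S : Type u) [CommSemiring S] [Algebra A S] (x y : S ⊗[A] C) :
    j.lTensor S (x * y) = j.lTensor S x * j.lTensor S y := by
  induction x using TensorProduct.induction_on with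
  | zero => simp
  | add x x' hx hx' => rw [add_mul, map_add, map_add, add_mul, hx, hx']
  | tmul a c =>
    induction y using TensorProduct.induction_on with
    | zero => simp
    | add y y' hy hy' => rw [mul_add, map_add, map_add, mul_add, hy, hy']
    | tmul a' c' =>
      rw [Algebra.TensorProduct.tmul_mul_tmul, LinearMap.lTensor_tmul, LinearMap.lTensor_tmul,
        LinearMap.lTensor_tmul, Algebra.TensorProduct.tmul_mul_tmul, hjm]

/-- the multiplicative law `x ↦ F (j x + (1 - ε))` for a multiplicative linear map `j` with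
`j 1 = ε` -/
noncomputable def mkLaw {d : ℕ} (F : PolLaw.MulLaw A B A d) (ε : B) (hε : IsIdempotentElem ε)
    (j : C →ₗ[A] B) (hj1 : j 1 = ε) (hjm : ∀ x y, j (x * y) = j x * j y) (k' : ℕ) (hkd : k' ≤ d)
    (hk' : ∀ (S : Type u) [CommSemiring S] [Algebra A S] (s : S),
      F.law.toFun' S ((1 : S) ⊗ₜ[A] ε + s ⊗ₜ[A] (1 - ε)) = (s ^ k') ⊗ₜ[A] (1 : A)) :
    PolLaw.MulLaw A C A (d - k') where
  law := PolLaw.precomp (cut F.law ε) j
  homog S _ _ s x := by
    show (cut F.law ε).toFun' S (j.lTensor S (s • x)) =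
      s ^ (d - k') • (cut F.law ε).toFun' S (j.lTensor S x)
    rw [lTensor_smul']
    exact cut_homog F.law F.mult F.homog ε hε k' hkd hk' S s _
  mult S _ _ := by
    refine ⟨?_, fun x y => ?_⟩
    · show (cut F.law ε).toFun' S (j.lTensor S 1) = 1
      rw [Algebra.TensorProduct.one_def, LinearMap.lTensor_tmul, hj1, cut_apply,
        eh_mul_eh S ε hε, eh_add_eh', (F.mult S).1]
    · show (cut F.law ε).toFun' S (j.lTensor S (x * y)) =
        (cut F.law ε).toFun' S (j.lTensor S x) * (cut F.law ε).toFun' S (j.lTensor S y)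
      rw [lTensor_mul' j hjm, ((cut_mult F.law F.mult ε hε) S).2]

theorem mkLaw_apply {d : ℕ} (F : PolLaw.MulLaw A B A d) (ε : B) (hε : IsIdempotentElem ε)
    (j : C →ₗ[A] B) (hj1 : j 1 = ε) (hjm : ∀ x y, j (x * y) = j x * j y) (k' : ℕ) (hkd : k' ≤ d)
    (hk' : ∀ (S : Type u) [CommSemiring S] [Algebra A S] (s : S),
      F.law.toFun' S ((1 : S) ⊗ₜ[A] ε + s ⊗ₜ[A] (1 - ε)) = (s ^ k') ⊗ₜ[A] (1 : A))
    (S : Type u) [CommSemiring S] [Algebra A S] (x : S ⊗[A] C) :
    (mkLaw F ε hε j hj1 hjm k' hkd hk').law.toFun' S x =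
      F.law.toFun' S (j.lTensor S x * ((1 : S) ⊗ₜ[A] ε) + (1 : S) ⊗ₜ[A] (1 - ε)) := rfl

end aux

/-- Let A be a commutative ring whose prime spectrum is connected, B₁, B₂ commutative A-algebras and F :
B₁ × B₂ → A a multiplicative polynomial law homogeneous of degree d (a family of zero-cycles of
degree d on the disjoint union Spec B₁ ⊔ Spec B₂ over Spec A). Then there are natural numbers d₁ +
d₂ = d, the multiplicities of the family on the two pieces, and multiplicative laws F₁ : B₁ → A, F₂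
: B₂ → A homogeneous of degrees d₁, d₂ with F(x) = F₁(x₁) F₂(x₂) for every test algebra S and x ∈ S
⊗ (B₁ × B₂) with components x₁, x₂; and the degrees d₁, d₂ of any such factorisation are uniquely
determined. (The published statement is for finitely many algebraic spaces affine over a connected
algebraic space S; this row is the case of two pieces over an affine base.) -/
theorem result {A : Type u} [CommRing A] [ConnectedSpace (PrimeSpectrum A)]
    {B₁ : Type u} [CommRing B₁] [Algebra A B₁] {B₂ : Type u} [CommRing B₂] [Algebra A B₂]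
    {d : ℕ} (F : PolLaw.MulLaw A (B₁ × B₂) A d) :
    ∃ d₁ d₂ : ℕ, d₁ + d₂ = d ∧
      (∃ (F₁ : PolLaw.MulLaw A B₁ A d₁) (F₂ : PolLaw.MulLaw A B₂ A d₂),
        ∀ (S : Type u) [CommSemiring S] [Algebra A S] (x : S ⊗[A] (B₁ × B₂)),
          F.law.toFun' S x = F₁.law.toFun' S (LinearMap.lTensor S (LinearMap.fst A B₁ B₂) x) *
            F₂.law.toFun' S (LinearMap.lTensor S (LinearMap.snd A B₁ B₂) x)) ∧
      ∀ (e₁ e₂ : ℕ) (G₁ : PolLaw.MulLaw A B₁ A e₁) (G₂ : PolLaw.MulLaw A B₂ A e₂),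
        (∀ (S : Type u) [CommSemiring S] [Algebra A S] (x : S ⊗[A] (B₁ × B₂)),
          F.law.toFun' S x = G₁.law.toFun' S (LinearMap.lTensor S (LinearMap.fst A B₁ B₂) x) *
            G₂.law.toFun' S (LinearMap.lTensor S (LinearMap.snd A B₁ B₂) x)) → e₁ = d₁ ∧ e₂ = d₂ := by
  classical
  open Groth.Agent.Lib.helper22.PolLawIdem in
  have hnt : Nontrivial A := by
    by_contra h
    rw [not_nontrivial_iff_subsingleton] at h
    exact (PrimeSpectrum.instIsEmptyOfSubsingleton (R := A)).false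
      (Classical.arbitrary (PrimeSpectrum A))
  set e₁ : B₁ × B₂ := (1, 0) with he₁
  set e₂ : B₁ × B₂ := (0, 1) with he₂
  have hi₁ : IsIdempotentElem e₁ := by
    show e₁ * e₁ = e₁
    simp [he₁]
  have hi₂ : IsIdempotentElem e₂ := by
    show e₂ * e₂ = e₂
    simp [he₂]
  have h12 : 1 - e₁ = e₂ := by simp [he₁, he₂, Prod.ext_iff]
  have h21 : 1 - e₂ = e₁ := by simp [he₁, he₂, Prod.ext_iff]
  have hmul12 : e₁ * e₂ = 0 := by simp [he₁, he₂]
  have hadd12 : e₁ + e₂ = 1 := by simp [he₁, he₂, Prod.ext_iff]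
  obtain ⟨d₁, h₁⟩ := exists_deg F.law F.mult e₁ hi₁
  obtain ⟨d₂, h₂⟩ := exists_deg F.law F.mult e₂ hi₂
  rw [h12] at h₁
  rw [h21] at h₂
  -- d₁ + d₂ = d
  have hsum : d₁ + d₂ = d := by
    have hx : ((1 : Polynomial A) ⊗ₜ[A] e₂ + (Polynomial.X : Polynomial A) ⊗ₜ[A] e₁) *
        ((1 : Polynomial A) ⊗ₜ[A] e₁ + (Polynomial.X : Polynomial A) ⊗ₜ[A] e₂) =
        (Polynomial.X : Polynomial A) • (1 : Polynomial A ⊗[A] (B₁ × B₂)) := by
      rw [add_mul, mul_add, mul_add, Algebra.TensorProduct.tmul_mul_tmul,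
        Algebra.TensorProduct.tmul_mul_tmul, Algebra.TensorProduct.tmul_mul_tmul,
        Algebra.TensorProduct.tmul_mul_tmul, mul_comm e₂ e₁, hmul12, hi₁.eq, hi₂.eq,
        TensorProduct.tmul_zero, TensorProduct.tmul_zero, add_zero, zero_add, one_mul, mul_one,
        add_comm, ← TensorProduct.tmul_add, hadd12, Algebra.TensorProduct.one_def,
        TensorProduct.smul_tmul', smul_eq_mul, mul_one]
    have h3 := (F.mult (Polynomial A)).2 ((1 : Polynomial A) ⊗ₜ[A] e₂ + Polynomial.X ⊗ₜ[A] e₁)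
      ((1 : Polynomial A) ⊗ₜ[A] e₁ + Polynomial.X ⊗ₜ[A] e₂)
    rw [hx, F.homog (Polynomial A), (F.mult (Polynomial A)).1, h₁ (Polynomial A) Polynomial.X,
      h₂ (Polynomial A) Polynomial.X, Algebra.TensorProduct.tmul_mul_tmul, mul_one, ← pow_add,
      Algebra.TensorProduct.one_def, TensorProduct.smul_tmul', smul_eq_mul, mul_one] at h3
    have h4 := tmul_one_injective (Polynomial A) h3
    have h5 := congrArg Polynomial.natDegree h4
    rw [Polynomial.natDegree_X_pow, Polynomial.natDegree_X_pow] at h5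
    exact h5.symm
  have hd₁ : d₁ ≤ d := by omega
  have hd₂ : d₂ ≤ d := by omega
  -- the two laws
  have hk₁ : ∀ (S : Type u) [CommSemiring S] [Algebra A S] (s : S),
      F.law.toFun' S ((1 : S) ⊗ₜ[A] e₁ + s ⊗ₜ[A] (1 - e₁)) = (s ^ d₂) ⊗ₜ[A] (1 : A) := by
    intro S _ _ s
    rw [h12]
    exact h₂ S s
  have hk₂ : ∀ (S : Type u) [CommSemiring S] [Algebra A S] (s : S),
      F.law.toFun' S ((1 : S) ⊗ₜ[A] e₂ + s ⊗ₜ[A] (1 - e₂)) = (s ^ d₁) ⊗ₜ[A] (1 : A) := by
    intro S _ _ s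
    rw [h21]
    exact h₁ S s
  let F₁ : PolLaw.MulLaw A B₁ A (d - d₂) :=
    mkLaw F e₁ hi₁ (LinearMap.inl A B₁ B₂) (by simp [he₁]) (by intro x y; simp) d₂ hd₂ hk₁
  let F₂ : PolLaw.MulLaw A B₂ A (d - d₁) :=
    mkLaw F e₂ hi₂ (LinearMap.inr A B₁ B₂) (by simp [he₂]) (by intro x y; simp) d₁ hd₁ hk₂
  refine ⟨d - d₂, d - d₁, by omega, ⟨F₁, F₂, ?_⟩, ?_⟩
  · intro S _ _ x
    have hj₁ : ∀ x : S ⊗[A] (B₁ × B₂),
        (LinearMap.inl A B₁ B₂).lTensor S ((LinearMap.fst A B₁ B₂).lTensor S x) =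
        x * ((1 : S) ⊗ₜ[A] e₁) := by
      intro x
      induction x using TensorProduct.induction_on with
      | zero => simp
      | tmul a b =>
        rw [LinearMap.lTensor_tmul, LinearMap.lTensor_tmul, Algebra.TensorProduct.tmul_mul_tmul,
          mul_one]
        congr 1
        ext <;> simp [he₁]
      | add x y hx hy => rw [map_add, map_add, add_mul, hx, hy]
    have hj₂ : ∀ x : S ⊗[A] (B₁ × B₂),
        (LinearMap.inr A B₁ B₂).lTensor S ((LinearMap.snd A B₁ B₂).lTensor S x) =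
        x * ((1 : S) ⊗ₜ[A] e₂) := by
      intro x
      induction x using TensorProduct.induction_on with
      | zero => simp
      | tmul a b =>
        rw [LinearMap.lTensor_tmul, LinearMap.lTensor_tmul, Algebra.TensorProduct.tmul_mul_tmul,
          mul_one]
        congr 1
        ext <;> simp [he₂]
      | add x y hx hy => rw [map_add, map_add, add_mul, hx, hy]
    show F.law.toFun' S x = (mkLaw F e₁ hi₁ _ _ _ d₂ hd₂ hk₁).law.toFun' S _ *
      (mkLaw F e₂ hi₂ _ _ _ d₁ hd₁ hk₂).law.toFun' S _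
    rw [mkLaw_apply, mkLaw_apply, hj₁ x, hj₂ x, h12, h21, ← (F.mult S).2]
    congr 1
    have e12 : ((1 : S) ⊗ₜ[A] e₁) * ((1 : S) ⊗ₜ[A] e₂) = 0 := by
      rw [Algebra.TensorProduct.tmul_mul_tmul, hmul12, TensorProduct.tmul_zero]
    have e11 := eh_mul_eh (A := A) S e₁ hi₁
    have e22 := eh_mul_eh (A := A) S e₂ hi₂
    have eadd : ((1 : S) ⊗ₜ[A] e₁) + ((1 : S) ⊗ₜ[A] e₂) = 1 := by
      rw [← TensorProduct.tmul_add, hadd12, Algebra.TensorProduct.one_def]
    have : (x * ((1 : S) ⊗ₜ[A] e₁) * ((1 : S) ⊗ₜ[A] e₁) + (1 : S) ⊗ₜ[A] e₂) *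
        (x * ((1 : S) ⊗ₜ[A] e₂) * ((1 : S) ⊗ₜ[A] e₂) + (1 : S) ⊗ₜ[A] e₁) =
        x * x * (((1 : S) ⊗ₜ[A] e₁) * ((1 : S) ⊗ₜ[A] e₁)) * (((1 : S) ⊗ₜ[A] e₂) * ((1 : S) ⊗ₜ[A] e₂)) *
          0 + x * x * (((1 : S) ⊗ₜ[A] e₁) * ((1 : S) ⊗ₜ[A] e₂)) *
            (((1 : S) ⊗ₜ[A] e₁) * ((1 : S) ⊗ₜ[A] e₂)) +
        x * ((((1 : S) ⊗ₜ[A] e₁) * ((1 : S) ⊗ₜ[A] e₁)) * ((1 : S) ⊗ₜ[A] e₁)) +
        x * ((((1 : S) ⊗ₜ[A] e₂) * ((1 : S) ⊗ₜ[A] e₂)) * ((1 : S) ⊗ₜ[A] e₂)) +
        ((1 : S) ⊗ₜ[A] e₁) * ((1 : S) ⊗ₜ[A] e₂) := by ring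
    rw [this, e12, e11, e22, e11, e22, mul_zero, mul_zero, zero_add, zero_add, add_zero,
      ← mul_add, eadd, mul_one]
  · intro e₁' e₂' G₁ G₂ hG
    have hfst1 : (LinearMap.fst A B₁ B₂).lTensor (Polynomial A)
        ((1 : Polynomial A) ⊗ₜ[A] e₂ + (Polynomial.X : Polynomial A) ⊗ₜ[A] e₁) =
        (Polynomial.X : Polynomial A) • (1 : Polynomial A ⊗[A] B₁) := by
      simp [he₁, he₂, Algebra.TensorProduct.one_def, TensorProduct.smul_tmul']
    have hsnd1 : (LinearMap.snd A B₁ B₂).lTensor (Polynomial A)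
        ((1 : Polynomial A) ⊗ₜ[A] e₂ + (Polynomial.X : Polynomial A) ⊗ₜ[A] e₁) = 1 := by
      simp [he₁, he₂, Algebra.TensorProduct.one_def]
    have hfst2 : (LinearMap.fst A B₁ B₂).lTensor (Polynomial A)
        ((1 : Polynomial A) ⊗ₜ[A] e₁ + (Polynomial.X : Polynomial A) ⊗ₜ[A] e₂) = 1 := by
      simp [he₁, he₂, Algebra.TensorProduct.one_def]
    have hsnd2 : (LinearMap.snd A B₁ B₂).lTensor (Polynomial A)
        ((1 : Polynomial A) ⊗ₜ[A] e₁ + (Polynomial.X : Polynomial A) ⊗ₜ[A] e₂) =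
        (Polynomial.X : Polynomial A) • (1 : Polynomial A ⊗[A] B₂) := by
      simp [he₁, he₂, Algebra.TensorProduct.one_def, TensorProduct.smul_tmul']
    have g1 := hG (Polynomial A) ((1 : Polynomial A) ⊗ₜ[A] e₂ + Polynomial.X ⊗ₜ[A] e₁)
    rw [hfst1, hsnd1, h₁ (Polynomial A) Polynomial.X, G₁.homog (Polynomial A),
      (G₁.mult (Polynomial A)).1, (G₂.mult (Polynomial A)).1, mul_one,
      Algebra.TensorProduct.one_def, TensorProduct.smul_tmul', smul_eq_mul, mul_one] at g1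
    have g2 := hG (Polynomial A) ((1 : Polynomial A) ⊗ₜ[A] e₁ + Polynomial.X ⊗ₜ[A] e₂)
    rw [hfst2, hsnd2, h₂ (Polynomial A) Polynomial.X, G₂.homog (Polynomial A),
      (G₁.mult (Polynomial A)).1, (G₂.mult (Polynomial A)).1, one_mul,
      Algebra.TensorProduct.one_def, TensorProduct.smul_tmul', smul_eq_mul, mul_one] at g2
    have g1' := congrArg Polynomial.natDegree (tmul_one_injective (Polynomial A) g1)
    have g2' := congrArg Polynomial.natDegree (tmul_one_injective (Polynomial A) g2)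
    rw [Polynomial.natDegree_X_pow, Polynomial.natDegree_X_pow] at g1' g2'
    omega

end Groth.Agent.S13719
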