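import Groth.Statements.S13720
import Mathlib
-- import your own Groth.Agent.* helpers here

set_option autoImplicit false
universe u
open scoped TensorProduct
open ZeroCyc

namespace Groth.Agent.S13720

section
variable {A : Type u} [CommRing A] {B : Type u} [CommRing B] [Algebra A B]
    {ι : Type u} [Preorder ι] [IsDirected ι (fun i j => i ≤ j)] [Nonempty ι]
    (Bi : ι → Type u) [∀ i, CommRing (Bi i)] [∀ i, Algebra A (Bi i)]
    (t : ∀ i j : ι, i ≤ j → (Bi i →ₐ[A] Bi j)) (φ : ∀ i : ι, Bi i →ₐ[A] B)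
    (hcomp : ∀ (i j : ι) (h : i ≤ j), (φ j).comp (t i j h) = φ i)
    (hsurj : ∀ b : B, ∃ (i : ι) (x : Bi i), φ i x = b)

include hcomp in
theorem transport (S : Type u) [CommSemiring S] [Algebra A S] (j k : ι) (h : j ≤ k) (y' : S ⊗[A] Bi j) :
    (φ k).toLinearMap.lTensor S ((t j k h).toLinearMap.lTensor S y') = (φ j).toLinearMap.lTensor S y' := by
  rw [← LinearMap.comp_apply, ← LinearMap.lTensor_comp]
  congr 2
  rw [← hcomp j k h]
  rfl

include hcomp hsurj in
theorem lift1 (S : Type u) [CommSemiring S] [Algebra A S] (y : S ⊗[A] B) :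
    ∃ (j : ι) (y' : S ⊗[A] Bi j), (φ j).toLinearMap.lTensor S y' = y := by
  induction y using TensorProduct.induction_on with
  | zero =>
    obtain ⟨j⟩ := (inferInstance : Nonempty ι)
    exact ⟨j, 0, by simp⟩
  | tmul s b =>
    obtain ⟨j, x, hx⟩ := hsurj b
    exact ⟨j, s ⊗ₜ x, by simp [hx]⟩
  | add y₁ y₂ h₁ h₂ =>
    obtain ⟨j₁, y₁', hy₁⟩ := h₁
    obtain ⟨j₂, y₂', hy₂⟩ := h₂
    obtain ⟨k, hk₁, hk₂⟩ := exists_ge_ge j₁ j₂
    refine ⟨k, (t j₁ k hk₁).toLinearMap.lTensor S y₁' + (t j₂ k hk₂).toLinearMap.lTensor S y₂', ?_⟩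
    rw [map_add, transport Bi t φ hcomp, transport Bi t φ hcomp, hy₁, hy₂]

include hcomp hsurj in
theorem lift2 (S : Type u) [CommSemiring S] [Algebra A S] (i : ι) (y w : S ⊗[A] B) :
    ∃ (j : ι) (_ : i ≤ j) (y' w' : S ⊗[A] Bi j), (φ j).toLinearMap.lTensor S y' = y ∧
      (φ j).toLinearMap.lTensor S w' = w := by
  obtain ⟨j₁, y₁', hy₁⟩ := lift1 Bi t φ hcomp hsurj S y
  obtain ⟨j₂, y₂', hy₂⟩ := lift1 Bi t φ hcomp hsurj S w
  obtain ⟨k₀, hk₁, hk₂⟩ := exists_ge_ge j₁ j₂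
  obtain ⟨k, hk₀, hki⟩ := exists_ge_ge k₀ i
  refine ⟨k, hki, (t j₁ k (hk₁.trans hk₀)).toLinearMap.lTensor S y₁',
    (t j₂ k (hk₂.trans hk₀)).toLinearMap.lTensor S y₂', ?_, ?_⟩
  · rw [transport Bi t φ hcomp, hy₁]
  · rw [transport Bi t φ hcomp, hy₂]

end

theorem main {A : Type u} [CommRing A] {B : Type u} [CommRing B] [Algebra A B]
    {C : Type u} [CommRing C] [Algebra A C] {ι : Type u} [Preorder ι] [IsDirected ι (fun i j => i ≤ j)] [Nonempty ι]
    (Bi : ι → Type u) [∀ i, CommRing (Bi i)] [∀ i, Algebra A (Bi i)]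
    (t : ∀ i j : ι, i ≤ j → (Bi i →ₐ[A] Bi j)) (φ : ∀ i : ι, Bi i →ₐ[A] B)
    (hcomp : ∀ (i j : ι) (h : i ≤ j), (φ j).comp (t i j h) = φ i)
    (hsurj : ∀ b : B, ∃ (i : ι) (x : Bi i), φ i x = b)
    {d : ℕ} (F : PolLaw.MulLaw A B C d) (b : B) :
    b ∈ PolLaw.ker F.law ↔ ∃ (i : ι) (x : Bi i), φ i x = b ∧
      ∀ (j : ι) (h : i ≤ j), t i j h x ∈ PolLaw.ker (F.precomp (φ j)).law := by
  constructor
  · intro hb
    obtain ⟨i, x, hx⟩ := hsurj b
    refine ⟨i, x, hx, fun j h S _ _ y w => ?_⟩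
    show F.law.toFun' S ((φ j).toLinearMap.lTensor S (y + w * (1 ⊗ₜ[A] (t i j h x)))) =
      F.law.toFun' S ((φ j).toLinearMap.lTensor S y)
    have hb' : φ j (t i j h x) = b := by rw [← hx, ← hcomp i j h]; rfl
    rw [PolLaw.lTensor_algHom_apply, PolLaw.lTensor_algHom_apply, map_add, map_mul,
      Algebra.TensorProduct.map_tmul, hb']
    exact hb S _ _
  · rintro ⟨i, x, hx, hker⟩ S _ _ y w
    obtain ⟨j, hij, y', w', hy, hw⟩ := lift2 Bi t φ hcomp hsurj S i y w
    have h1 := hker j hij S y' w'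
    change F.law.toFun' S ((φ j).toLinearMap.lTensor S (y' + w' * (1 ⊗ₜ[A] (t i j hij x)))) =
      F.law.toFun' S ((φ j).toLinearMap.lTensor S y') at h1
    have hb' : φ j (t i j hij x) = b := by rw [← hx, ← hcomp i j hij]; rfl
    rw [PolLaw.lTensor_algHom_apply, PolLaw.lTensor_algHom_apply, map_add, map_mul,
      Algebra.TensorProduct.map_tmul, hb', ← PolLaw.lTensor_algHom_apply, ← PolLaw.lTensor_algHom_apply,
      hy, hw] at h1
    simpa using h1

/-- Let B be the filtered direct limit of a directed system (B_i, t_ij : B_i → B_j) of commutative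
algebras over the commutative ring A, with structure maps φ_i : B_i → B (jointly surjective, and an
element of B_i vanishing in B already vanishes in some B_j), and let F : B → C be a multiplicative
polynomial law homogeneous of degree d, with restrictions F_i = F ∘ φ_i. Then an element b of B lies
in the kernel of F if and only if it is the image of some x ∈ B_i whose images in B_j lie in the
kernel of F_j for every j ≥ i; that is, the kernel of F is the direct limit of the kernels of the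
F_i. -/
theorem result {A : Type u} [CommRing A] {B : Type u} [CommRing B] [Algebra A B]
    {C : Type u} [CommRing C] [Algebra A C] {ι : Type u} [Preorder ι] [IsDirected ι (fun i j => i ≤ j)] [Nonempty ι]
    (Bi : ι → Type u) [∀ i, CommRing (Bi i)] [∀ i, Algebra A (Bi i)]
    (t : ∀ i j : ι, i ≤ j → (Bi i →ₐ[A] Bi j)) (φ : ∀ i : ι, Bi i →ₐ[A] B)
    (hcomp : ∀ (i j : ι) (h : i ≤ j), (φ j).comp (t i j h) = φ i)
    (hsurj : ∀ b : B, ∃ (i : ι) (x : Bi i), φ i x = b)
    (hzero : ∀ (i : ι) (x : Bi i), φ i x = 0 → ∃ (j : ι) (h : i ≤ j), t i j h x = 0)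
    {d : ℕ} (F : PolLaw.MulLaw A B C d) (b : B) :
    b ∈ PolLaw.ker F.law ↔ ∃ (i : ι) (x : Bi i), φ i x = b ∧
      ∀ (j : ι) (h : i ≤ j), t i j h x ∈ PolLaw.ker (F.precomp (φ j)).law := by
  exact main Bi t φ hcomp hsurj F b

end Groth.Agent.S13720
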