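import Groth.Statements.S13721
import Groth.Agent.Lib.Helper22.KerBCUniv

set_option autoImplicit false
universe u
open scoped TensorProduct
open ZeroCyc

namespace Groth.Agent.S13721

section aux
open Groth.Agent.Lib.helper22.KerBCUniv

/-- finitely many elements killed in the limit are killed at a finite stage -/
theorem exists_kill {A : Type u} [CommRing A] {A' : Type u} [CommRing A'] [Algebra A A']
    {ι : Type u} [Preorder ι] [IsDirected ι (fun i j => i ≤ j)]
    (Ai : ι → Type u) [∀ i, CommRing (Ai i)] [∀ i, Algebra A (Ai i)]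
    (t : ∀ i j : ι, i ≤ j → (Ai i →ₐ[A] Ai j)) (φ : ∀ i : ι, Ai i →ₐ[A] A')
    (hzero : ∀ (i : ι) (x : Ai i), φ i x = 0 → ∃ (j : ι) (h : i ≤ j), t i j h x = 0)
    (htrans : ∀ (i j k : ι) (hij : i ≤ j) (hjk : j ≤ k),
      (t j k hjk).comp (t i j hij) = t i k (hij.trans hjk))
    (i : ι) (xs : Finset (Ai i)) (hxs : ∀ x ∈ xs, φ i x = 0) :
    ∃ (j : ι) (h : i ≤ j), ∀ x ∈ xs, t i j h x = 0 := by
  classical
  induction xs using Finset.induction_on with
  | empty => exact ⟨i, le_refl i, by simp⟩
  | insert a s _ ih =>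
    obtain ⟨j, hj, hs⟩ := ih (fun x hx => hxs x (Finset.mem_insert_of_mem hx))
    obtain ⟨j', hj', ha⟩ := hzero i a (hxs a (Finset.mem_insert_self a s))
    obtain ⟨k, hjk, hj'k⟩ := directed_of (fun i j : ι => i ≤ j) j j'
    refine ⟨k, hj.trans hjk, fun x hx => ?_⟩
    rcases Finset.mem_insert.1 hx with rfl | hx
    · rw [← htrans i j' k hj' hj'k, AlgHom.comp_apply, ha, map_zero]
    · rw [← htrans i j k hj hjk, AlgHom.comp_apply, hs x hx, map_zero]

/-- a polynomial killed in the limit is killed at a finite stage -/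
theorem exists_kill_poly {A : Type u} [CommRing A] {A' : Type u} [CommRing A'] [Algebra A A']
    {ι : Type u} [Preorder ι] [IsDirected ι (fun i j => i ≤ j)]
    (Ai : ι → Type u) [∀ i, CommRing (Ai i)] [∀ i, Algebra A (Ai i)]
    (t : ∀ i j : ι, i ≤ j → (Ai i →ₐ[A] Ai j)) (φ : ∀ i : ι, Ai i →ₐ[A] A')
    (hzero : ∀ (i : ι) (x : Ai i), φ i x = 0 → ∃ (j : ι) (h : i ≤ j), t i j h x = 0)
    (htrans : ∀ (i j k : ι) (hij : i ≤ j) (hjk : j ≤ k),
      (t j k hjk).comp (t i j hij) = t i k (hij.trans hjk))
    {σ : Type} (i : ι) (p : MvPolynomial σ (Ai i))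
    (hp : MvPolynomial.map (φ i : Ai i →+* A') p = 0) :
    ∃ (j : ι) (h : i ≤ j), MvPolynomial.map (t i j h : Ai i →+* Ai j) p = 0 := by
  classical
  obtain ⟨j, hj, hs⟩ := exists_kill Ai t φ hzero htrans i (p.support.image (fun s => p.coeff s))
    (by
      intro x hx
      obtain ⟨s, _, rfl⟩ := Finset.mem_image.1 hx
      have := congrArg (MvPolynomial.coeff s) hp
      rwa [MvPolynomial.coeff_map, MvPolynomial.coeff_zero] at this)
  refine ⟨j, hj, ?_⟩
  ext s
  rw [MvPolynomial.coeff_map, MvPolynomial.coeff_zero]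
  by_cases h : s ∈ p.support
  · exact hs _ (Finset.mem_image_of_mem _ h)
  · rw [MvPolynomial.notMem_support_iff.1 h, map_zero]

/-- every element of `A' ⊗ B` comes from a finite stage -/
theorem exists_lift {A : Type u} [CommRing A] {B : Type u} [CommRing B] [Algebra A B]
    {A' : Type u} [CommRing A'] [Algebra A A']
    {ι : Type u} [Preorder ι] [IsDirected ι (fun i j => i ≤ j)] [Nonempty ι]
    (Ai : ι → Type u) [∀ i, CommRing (Ai i)] [∀ i, Algebra A (Ai i)]
    (t : ∀ i j : ι, i ≤ j → (Ai i →ₐ[A] Ai j)) (φ : ∀ i : ι, Ai i →ₐ[A] A')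
    (hcomp : ∀ (i j : ι) (h : i ≤ j), (φ j).comp (t i j h) = φ i)
    (hsurj : ∀ a : A', ∃ (i : ι) (x : Ai i), φ i x = a) (z : A' ⊗[A] B) :
    ∃ (i : ι) (zi : Ai i ⊗[A] B), Algebra.TensorProduct.map (φ i) (AlgHom.id A B) zi = z := by
  induction z using TensorProduct.induction_on with
  | zero => exact ⟨Classical.arbitrary ι, 0, map_zero _⟩
  | tmul a b =>
    obtain ⟨i, x, rfl⟩ := hsurj a
    exact ⟨i, x ⊗ₜ[A] b, by simp⟩
  | add x y hx hy =>
    obtain ⟨i, xi, rfl⟩ := hx
    obtain ⟨j, yj, rfl⟩ := hy
    obtain ⟨k, hik, hjk⟩ := directed_of (fun i j : ι => i ≤ j) i j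
    refine ⟨k, Algebra.TensorProduct.map (t i k hik) (AlgHom.id A B) xi +
      Algebra.TensorProduct.map (t j k hjk) (AlgHom.id A B) yj, ?_⟩
    rw [map_add, map_map_apply, map_map_apply, hcomp, hcomp]

end aux

/-- Let F : B → A be a multiplicative polynomial law homogeneous of degree d over the commutative ring
A, on a commutative A-algebra B which is finite as an A-module, and let A' be the filtered direct
limit of a directed system (A'_i, t_ij) of commutative A-algebras (t_ii the identity, t_jk ∘ t_ij =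
t_ik) with structure maps φ_i : A'_i → A' (compatible with the t_ij, jointly surjective, and an
element of A'_i vanishing in A' already vanishes in some A'_j). Then the kernel of the base change
of F to A', an ideal of A' ⊗_A B, is the supremum over i of the extensions along φ_i ⊗ B of the
kernels of the base changes of F to the A'_i: the kernel of the base-changed law is the direct limit
of the kernels. (The published statement has no finiteness hypothesis on B and is false without one:
for a suitable algebra B that is not finitely generated and a suitable directed system of quotients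
of A, an element of A' ⊗_A B lies in the kernel over the limit although it comes from the kernel at
no finite stage, because the conditions cutting out the kernel at an element are infinitely many and
die one at a time along the system; the published proof's reduction to finite B does not go through.
This row assumes B finite over A, the case that proof establishes.) -/
theorem result {A : Type u} [CommRing A] {B : Type u} [CommRing B] [Algebra A B]
    [Module.Finite A B] {A' : Type u} [CommRing A'] [Algebra A A'] {ι : Type u} [Preorder ι] [IsDirected ι (fun i j => i ≤ j)] [Nonempty ι]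
    (Ai : ι → Type u) [∀ i, CommRing (Ai i)] [∀ i, Algebra A (Ai i)]
    (t : ∀ i j : ι, i ≤ j → (Ai i →ₐ[A] Ai j)) (φ : ∀ i : ι, Ai i →ₐ[A] A')
    (hcomp : ∀ (i j : ι) (h : i ≤ j), (φ j).comp (t i j h) = φ i)
    (hsurj : ∀ a : A', ∃ (i : ι) (x : Ai i), φ i x = a)
    (hzero : ∀ (i : ι) (x : Ai i), φ i x = 0 → ∃ (j : ι) (h : i ≤ j), t i j h x = 0)
    (hid : ∀ (i : ι) (h : i ≤ i), t i i h = AlgHom.id A (Ai i))
    (htrans : ∀ (i j k : ι) (hij : i ≤ j) (hjk : j ≤ k), (t j k hjk).comp (t i j hij) = t i k (hij.trans hjk))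
    {d : ℕ} (F : PolLaw.MulLaw A B A d) :
    PolLaw.kerBC F.law A' =
      ⨆ i : ι, (PolLaw.kerBC F.law (Ai i)).map (Algebra.TensorProduct.map (φ i) (AlgHom.id A B)) := by
  classical
  obtain ⟨m, g, hg⟩ := Module.Finite.exists_fin (R := A) (M := B)
  apply le_antisymm
  · intro z hz
    obtain ⟨i, zi, rfl⟩ := exists_lift Ai t φ hcomp hsurj z
    have h0 : MvPolynomial.map (φ i : Ai i →+* A')
        (Groth.Agent.Lib.helper22.KerBCUniv.delta F.law g (Ai i) zi) = 0 := by
      rw [← Groth.Agent.Lib.helper22.KerBCUniv.map_delta]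
      exact (Groth.Agent.Lib.helper22.KerBCUniv.mem_kerBC_iff_delta F.law g hg A' _).1 hz
    obtain ⟨j, hij, hj⟩ := exists_kill_poly Ai t φ hzero htrans i _ h0
    rw [← Groth.Agent.Lib.helper22.KerBCUniv.map_delta] at hj
    have hzj := (Groth.Agent.Lib.helper22.KerBCUniv.mem_kerBC_iff_delta F.law g hg (Ai j) _).2 hj
    have e : Algebra.TensorProduct.map (φ i) (AlgHom.id A B) zi =
        Algebra.TensorProduct.map (φ j) (AlgHom.id A B)
          (Algebra.TensorProduct.map (t i j hij) (AlgHom.id A B) zi) := by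
      rw [Groth.Agent.Lib.helper22.KerBCUniv.map_map_apply, hcomp]
    rw [e]
    exact Ideal.mem_iSup_of_mem j (Ideal.mem_map_of_mem _ hzj)
  · refine iSup_le (fun i => ?_)
    rw [Ideal.map_le_iff_le_comap]
    intro zi hzi
    rw [Ideal.mem_comap, Groth.Agent.S13699.mem_kerBC_iff]
    intro R _ _ ψ x w
    rw [Groth.Agent.Lib.helper22.KerBCUniv.map_map_apply]
    exact (Groth.Agent.S13699.mem_kerBC_iff F.law (Ai i) zi).1 hzi R (ψ.comp (φ i)) x w

end Groth.Agent.S13721
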