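import Groth.Statements.S13722
import Mathlib

set_option autoImplicit false
universe u
open scoped TensorProduct
open ZeroCyc

namespace Groth.Agent.S13722

open Polynomial

section

variable {A : Type u} [CommRing A] {B : Type u} [CommRing B] [Algebra A B]
  {C : Type u} [CommRing C] [Algebra A C]

theorem poly_const {R : Type u} [CommRing R] [IsReduced R] (P : R[X]) (r : R)
    (h : P * P.comp (-X) = Polynomial.C r) : P = Polynomial.C (P.coeff 0) := by
  by_contra hne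
  have hn0 : P.natDegree ≠ 0 := fun h0 => hne (Polynomial.eq_C_of_natDegree_eq_zero h0)
  have hX : (-X : R[X]) = Polynomial.C (-1) * X := by
    rw [Polynomial.C_neg, Polynomial.C_1, neg_one_mul]
  have hQdeg : (P.comp (-X)).natDegree ≤ P.natDegree := by
    refine (Polynomial.natDegree_comp_le).trans ?_
    have h1 : (-X : R[X]).natDegree ≤ 1 := by
      rw [Polynomial.natDegree_neg]; exact Polynomial.natDegree_X_le
    calc P.natDegree * (-X : R[X]).natDegree ≤ P.natDegree * 1 := Nat.mul_le_mul_left _ h1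
      _ = P.natDegree := Nat.mul_one _
  have h1 := Polynomial.coeff_mul_add_eq_of_natDegree_le (le_refl P.natDegree) hQdeg
  rw [h, Polynomial.coeff_C_of_ne_zero (by omega : P.natDegree + P.natDegree ≠ 0), hX,
    Polynomial.comp_C_mul_X_coeff] at h1
  have hs : ((-1 : R) ^ P.natDegree) * (-1) ^ P.natDegree = 1 := by
    rw [← mul_pow, neg_one_mul, neg_neg, one_pow]
  have h2 : P.coeff P.natDegree ^ 2 = 0 := by
    calc P.coeff P.natDegree ^ 2
        = (P.coeff P.natDegree * (P.coeff P.natDegree * (-1) ^ P.natDegree)) *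
            (-1) ^ P.natDegree := by
          calc P.coeff P.natDegree ^ 2 = P.coeff P.natDegree * P.coeff P.natDegree * 1 := by ring
            _ = P.coeff P.natDegree * P.coeff P.natDegree *
                  (((-1 : R) ^ P.natDegree) * (-1) ^ P.natDegree) := by rw [hs]
            _ = _ := by ring
      _ = 0 := by rw [← h1, zero_mul]
  have h3 : P.coeff P.natDegree = 0 := IsReduced.eq_zero _ ⟨2, h2⟩
  have hP0 : P = 0 := Polynomial.leadingCoeff_eq_zero.mp h3
  exact hn0 (by rw [hP0]; exact Polynomial.natDegree_zero)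

theorem rT_apply {M : Type u} [CommRing M] [Algebra A M]
    {S S' : Type u} [CommSemiring S] [Algebra A S] [CommSemiring S']
    [Algebra A S'] (φ : S →ₐ[A] S') (x : S ⊗[A] M) :
    φ.toLinearMap.rTensor M x = Algebra.TensorProduct.map φ (AlgHom.id A M) x := by
  induction x using TensorProduct.induction_on with
  | zero => simp
  | tmul a b => rfl
  | add a b ha hb => simp [ha, hb]

theorem compat (F : B →ₚₗ[A] C) {S S' : Type u} [CommSemiring S] [Algebra A S]
    [CommSemiring S'] [Algebra A S'] (φ : S →ₐ[A] S') (z : S ⊗[A] B) :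
    Algebra.TensorProduct.map φ (AlgHom.id A C) (F.toFun' S z) =
      F.toFun' S' (Algebra.TensorProduct.map φ (AlgHom.id A B) z) := by
  rw [← rT_apply, ← rT_apply, F.isCompat_apply']

theorem map_map_id {M : Type u} [CommRing M] [Algebra A M]
    {S S' S'' : Type u} [CommSemiring S] [Algebra A S] [CommSemiring S']
    [Algebra A S'] [CommSemiring S''] [Algebra A S''] (φ : S →ₐ[A] S') (ψ : S' →ₐ[A] S'')
    (z : S ⊗[A] M) :
    Algebra.TensorProduct.map ψ (AlgHom.id A M) (Algebra.TensorProduct.map φ (AlgHom.id A M) z) =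
      Algebra.TensorProduct.map (ψ.comp φ) (AlgHom.id A M) z := by
  rw [← AlgHom.comp_apply, ← Algebra.TensorProduct.map_comp, AlgHom.comp_id]

noncomputable def Psi (T₀ : Type u) [CommRing T₀] [Algebra A T₀] :
    T₀[X] ⊗[A] C →ₐ[A] (T₀ ⊗[A] C)[X] :=
  Algebra.TensorProduct.productMap
    (Polynomial.mapAlgHom (Algebra.TensorProduct.includeLeft : T₀ →ₐ[A] T₀ ⊗[A] C))
    ((CAlgHom : (T₀ ⊗[A] C) →ₐ[A] (T₀ ⊗[A] C)[X]).comp
      (Algebra.TensorProduct.includeRight : C →ₐ[A] T₀ ⊗[A] C))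

theorem Psi_tmul (T₀ : Type u) [CommRing T₀] [Algebra A T₀] (p : T₀[X]) (c : C) :
    Psi (A := A) (C := C) T₀ (p ⊗ₜ[A] c) =
      Polynomial.map ((Algebra.TensorProduct.includeLeft : T₀ →ₐ[A] T₀ ⊗[A] C) :
        T₀ →+* T₀ ⊗[A] C) p * Polynomial.C ((1 : T₀) ⊗ₜ[A] c) := by
  unfold Psi
  rw [Algebra.TensorProduct.productMap_apply_tmul]
  rfl

theorem Psi_const (T₀ : Type u) [CommRing T₀] [Algebra A T₀] (ιC : T₀ →ₐ[A] T₀[X])
    (hιC : ∀ s, ιC s = Polynomial.C s) (z : T₀ ⊗[A] C) :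
    Psi (A := A) (C := C) T₀ (Algebra.TensorProduct.map ιC (AlgHom.id A C) z) =
      Polynomial.C z := by
  induction z using TensorProduct.induction_on with
  | zero => rw [map_zero, map_zero, map_zero]
  | tmul s c =>
    rw [Algebra.TensorProduct.map_tmul, Psi_tmul, hιC, Polynomial.map_C, ← Polynomial.C_mul]
    congr 1
    show (s ⊗ₜ[A] (1 : C)) * ((1 : T₀) ⊗ₜ[A] c) = s ⊗ₜ[A] c
    rw [Algebra.TensorProduct.tmul_mul_tmul, mul_one, one_mul]
  | add a b ha hb => rw [map_add, map_add, ha, hb, map_add]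

theorem Psi_neg (T₀ : Type u) [CommRing T₀] [Algebra A T₀] (ν : T₀[X] →ₐ[A] T₀[X])
    (hν : ∀ p, ν p = p.comp (-X)) (q : T₀[X] ⊗[A] C) :
    Psi (A := A) (C := C) T₀ (Algebra.TensorProduct.map ν (AlgHom.id A C) q) =
      (Psi (A := A) (C := C) T₀ q).comp (-X) := by
  induction q using TensorProduct.induction_on with
  | zero => rw [map_zero, map_zero, Polynomial.zero_comp]
  | tmul p c =>
    rw [Algebra.TensorProduct.map_tmul, Psi_tmul, Psi_tmul, hν, Polynomial.mul_comp,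
      Polynomial.C_comp, Polynomial.map_comp, Polynomial.map_neg, Polynomial.map_X]
    rfl
  | add a b ha hb => rw [map_add, map_add, ha, hb, map_add, Polynomial.add_comp]

theorem Psi_eval (T₀ : Type u) [CommRing T₀] [Algebra A T₀] (a : T₀) (ε : T₀[X] →ₐ[A] T₀)
    (hε : ∀ p, ε p = Polynomial.eval a p) (q : T₀[X] ⊗[A] C) :
    Polynomial.eval (a ⊗ₜ[A] (1 : C)) (Psi (A := A) (C := C) T₀ q) =
      Algebra.TensorProduct.map ε (AlgHom.id A C) q := by
  induction q using TensorProduct.induction_on with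
  | zero => rw [map_zero, map_zero, Polynomial.eval_zero]
  | tmul p c =>
    rw [Algebra.TensorProduct.map_tmul, Psi_tmul, Polynomial.eval_mul, Polynomial.eval_C, hε]
    have h1 : Polynomial.eval (a ⊗ₜ[A] (1 : C))
        (Polynomial.map ((Algebra.TensorProduct.includeLeft : T₀ →ₐ[A] T₀ ⊗[A] C) :
          T₀ →+* T₀ ⊗[A] C) p) = (Polynomial.eval a p) ⊗ₜ[A] (1 : C) := by
      rw [Polynomial.eval_map]
      exact Polynomial.eval₂_at_apply _ a
    rw [h1, Algebra.TensorProduct.tmul_mul_tmul, mul_one, one_mul]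
    rfl
  | add a' b ha hb => rw [map_add, map_add, Polynomial.eval_add, ha, hb]

theorem key_step {d : ℕ} (F : PolLaw.MulLaw A B C d) (b : B) (hb : b ^ 2 ∈ PolLaw.ker F.law)
    (T₀ : Type u) [CommRing T₀] [Algebra A T₀] [IsReduced (T₀ ⊗[A] C)] (x w : T₀ ⊗[A] B) :
    F.law.toFun' T₀ (x + w * (1 ⊗ₜ[A] b)) = F.law.toFun' T₀ x := by
  have hb' : ∀ (S : Type u) [CommSemiring S] [Algebra A S] (x w : S ⊗[A] B),
      F.law.toFun' S (x + w * (1 ⊗ₜ[A] (b ^ 2))) = F.law.toFun' S x := hb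
  obtain ⟨ιC, hιC⟩ : ∃ ιC : T₀ →ₐ[A] T₀[X], ∀ s, ιC s = Polynomial.C s :=
    ⟨CAlgHom, fun _ => rfl⟩
  obtain ⟨ε, hε⟩ : ∃ ε : T₀ → (T₀[X] →ₐ[A] T₀), ∀ a p, ε a p = Polynomial.eval a p :=
    ⟨fun a => (aeval a).restrictScalars A, fun a p =>
      congrFun (Polynomial.coe_aeval_eq_eval a) p⟩
  obtain ⟨ν, hν⟩ : ∃ ν : T₀[X] →ₐ[A] T₀[X], ∀ p, ν p = p.comp (-X) :=
    ⟨(aeval (-X : T₀[X])).restrictScalars A, fun p => rfl⟩
  have hει : ∀ a, (ε a).comp ιC = AlgHom.id A T₀ := by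
    intro a
    ext s
    rw [AlgHom.comp_apply, hιC, hε, Polynomial.eval_C, AlgHom.id_apply]
  have hνι : ν.comp ιC = ιC := by
    ext s
    rw [AlgHom.comp_apply, hιC, hν, Polynomial.C_comp]
  -- the elements
  obtain ⟨ξ, hξ⟩ : ∃ ξ, ξ = Algebra.TensorProduct.map ιC (AlgHom.id A B) x := ⟨_, rfl⟩
  obtain ⟨ω, hω⟩ : ∃ ω, ω = Algebra.TensorProduct.map ιC (AlgHom.id A B) w := ⟨_, rfl⟩
  obtain ⟨τ, hτ⟩ : ∃ τ : T₀[X] ⊗[A] B, τ = (X : T₀[X]) ⊗ₜ[A] (1 : B) := ⟨_, rfl⟩
  obtain ⟨bb, hbb⟩ : ∃ bb : T₀[X] ⊗[A] B, bb = (1 : T₀[X]) ⊗ₜ[A] b := ⟨_, rfl⟩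
  have hεξ : ∀ a, Algebra.TensorProduct.map (ε a) (AlgHom.id A B) ξ = x := by
    intro a
    rw [hξ, map_map_id, hει, Algebra.TensorProduct.map_id, AlgHom.id_apply]
  have hεω : ∀ a, Algebra.TensorProduct.map (ε a) (AlgHom.id A B) ω = w := by
    intro a
    rw [hω, map_map_id, hει, Algebra.TensorProduct.map_id, AlgHom.id_apply]
  have hετ : ∀ a, Algebra.TensorProduct.map (ε a) (AlgHom.id A B) τ = a ⊗ₜ[A] (1 : B) := by
    intro a
    rw [hτ, Algebra.TensorProduct.map_tmul, hε, Polynomial.eval_X, AlgHom.id_apply]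
  have hεb : ∀ a, Algebra.TensorProduct.map (ε a) (AlgHom.id A B) bb = (1 : T₀) ⊗ₜ[A] b := by
    intro a
    rw [hbb, Algebra.TensorProduct.map_tmul, map_one, AlgHom.id_apply]
  have hνξ : Algebra.TensorProduct.map ν (AlgHom.id A B) ξ = ξ := by
    rw [hξ, map_map_id, hνι]
  have hνω : Algebra.TensorProduct.map ν (AlgHom.id A B) ω = ω := by
    rw [hω, map_map_id, hνι]
  have hντ : Algebra.TensorProduct.map ν (AlgHom.id A B) τ = -τ := by
    rw [hτ, Algebra.TensorProduct.map_tmul, hν, Polynomial.X_comp, AlgHom.id_apply,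
      TensorProduct.neg_tmul]
  have hνb : Algebra.TensorProduct.map ν (AlgHom.id A B) bb = bb := by
    rw [hbb, Algebra.TensorProduct.map_tmul, map_one, AlgHom.id_apply]
  obtain ⟨y, hy⟩ : ∃ y, y = ξ + τ * (ω * bb) := ⟨_, rfl⟩
  obtain ⟨P, hP⟩ : ∃ P, P = F.law.toFun' T₀[X] y := ⟨_, rfl⟩
  obtain ⟨c, hc⟩ : ∃ c, c = F.law.toFun' T₀ x := ⟨_, rfl⟩
  have hεy : ∀ a, Algebra.TensorProduct.map (ε a) (AlgHom.id A B) y =
      x + (a ⊗ₜ[A] (1 : B)) * (w * ((1 : T₀) ⊗ₜ[A] b)) := by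
    intro a
    rw [hy, map_add, map_mul, map_mul, hεξ, hεω, hετ, hεb]
  have hνy : Algebra.TensorProduct.map ν (AlgHom.id A B) y = ξ + (-τ) * (ω * bb) := by
    rw [hy, map_add, map_mul, map_mul, hνξ, hνω, hντ, hνb]
  have hbb2 : bb * bb = (1 : T₀[X]) ⊗ₜ[A] (b ^ 2) := by
    rw [hbb, Algebra.TensorProduct.tmul_mul_tmul, mul_one, pow_two]
  have hFξ : F.law.toFun' T₀[X] ξ = Algebra.TensorProduct.map ιC (AlgHom.id A C) c := by
    rw [hξ, hc, compat]
  have hPP : P * Algebra.TensorProduct.map ν (AlgHom.id A C) P =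
      Algebra.TensorProduct.map ιC (AlgHom.id A C) (c * c) := by
    rw [hP, compat, hνy, ← (F.mult T₀[X]).2]
    have h1 : y * (ξ + (-τ) * (ω * bb)) =
        ξ * ξ + (-(τ * τ * (ω * ω))) * ((1 : T₀[X]) ⊗ₜ[A] (b ^ 2)) := by
      rw [← hbb2, hy]
      ring
    rw [h1, hb' T₀[X], (F.mult T₀[X]).2, hFξ, map_mul]
  have hU := poly_const (Psi (A := A) (C := C) T₀ P) (c * c) (by
    rw [← Psi_neg T₀ ν hν, ← map_mul, hPP, Psi_const T₀ ιC hιC])
  have e1 := Psi_eval (A := A) (C := C) T₀ 1 (ε 1) (hε 1) P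
  have e0 := Psi_eval (A := A) (C := C) T₀ 0 (ε 0) (hε 0) P
  rw [hU, Polynomial.eval_C] at e1 e0
  have h2 : Algebra.TensorProduct.map (ε 1) (AlgHom.id A C) P =
      Algebra.TensorProduct.map (ε 0) (AlgHom.id A C) P := e1.symm.trans e0
  rw [hP, compat, compat, hεy, hεy, TensorProduct.zero_tmul, zero_mul, add_zero,
    ← Algebra.TensorProduct.one_def, one_mul] at h2
  exact h2

theorem isReduced_mvPoly_tensor (σ : Type u) [IsReduced C] :
    IsReduced (MvPolynomial σ A ⊗[A] C) := by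
  let e1 : MvPolynomial σ A ⊗[A] C ≃+* C ⊗[A] MvPolynomial σ A :=
    (Algebra.TensorProduct.comm A (MvPolynomial σ A) C).toRingEquiv
  let e2 : C ⊗[A] MvPolynomial σ A ≃+* MvPolynomial σ C :=
    (MvPolynomial.scalarRTensorAlgEquiv (R := A) (N := C) (σ := σ)).toRingEquiv
  exact isReduced_of_injective (e1.trans e2) (e1.trans e2).injective

end



/-- Let B and C be commutative algebras over the commutative ring A and F : B → C a multiplicative
polynomial law homogeneous of degree d. If C is reduced, then the quotient of B by the kernel of F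
is reduced. In particular the image of a family of zero-cycles parametrised by a reduced base is
reduced. -/
theorem result {A : Type u} [CommRing A] {B : Type u} [CommRing B] [Algebra A B]
    {C : Type u} [CommRing C] [Algebra A C] [IsReduced C] {d : ℕ} (F : PolLaw.MulLaw A B C d) :
    IsReduced (PolLaw.image F.law) := by
  show IsReduced (B ⧸ PolLaw.ker F.law)
  rw [← Ideal.isRadical_iff_quotient_reduced, Ideal.isRadical_iff_pow_one_lt 2 (by norm_num)]
  intro b hb
  show ∀ (S : Type u) [CommSemiring S] [Algebra A S] (x w : S ⊗[A] B),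
    F.law.toFun' S (x + w * (1 ⊗ₜ[A] b)) = F.law.toFun' S x
  intro S _ _ x w
  haveI : IsReduced (MvPolynomial S A ⊗[A] C) := isReduced_mvPoly_tensor S
  obtain ⟨φ, hφ⟩ : ∃ φ : MvPolynomial S A →ₐ[A] S, ∀ s, φ (MvPolynomial.X s) = s :=
    ⟨MvPolynomial.aeval id, fun s => MvPolynomial.aeval_X _ s⟩
  have hsurj : Function.Surjective φ := fun s => ⟨MvPolynomial.X s, hφ s⟩
  have hsurj' : Function.Surjective (Algebra.TensorProduct.map φ (AlgHom.id A B)) := by
    intro z
    obtain ⟨z', hz'⟩ := LinearMap.rTensor_surjective B (g := φ.toLinearMap) hsurj z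
    exact ⟨z', by rw [← rT_apply]; exact hz'⟩
  obtain ⟨x', rfl⟩ := hsurj' x
  obtain ⟨w', rfl⟩ := hsurj' w
  have h1 : Algebra.TensorProduct.map φ (AlgHom.id A B) x' +
      Algebra.TensorProduct.map φ (AlgHom.id A B) w' * (1 ⊗ₜ[A] b) =
      Algebra.TensorProduct.map φ (AlgHom.id A B) (x' + w' * (1 ⊗ₜ[A] b)) := by
    rw [map_add, map_mul, Algebra.TensorProduct.map_tmul, map_one, AlgHom.id_apply]
  rw [h1, ← compat, ← compat, key_step F b hb (MvPolynomial S A) x' w']


end Groth.Agent.S13722
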