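import Groth.Statements.S13724
import Mathlib
import Groth.Agent.S13695
import Groth.Agent.S13723

set_option autoImplicit false
universe u
open scoped TensorProduct
open ZeroCyc

namespace Groth.Agent.S13724




/-- Let A be a commutative ring with finitely many maximal ideals, B a commutative A-algebra and F : B →
A a multiplicative polynomial law homogeneous of degree d. Then B/ker F, the coordinate ring of the
image of the family of zero-cycles defined by F, has finitely many maximal ideals. -/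
theorem result {A : Type u} [CommRing A] [Finite (MaximalSpectrum A)] {B : Type u} [CommRing B] [Algebra A B]
    {d : ℕ} (F : PolLaw.MulLaw A B A d) :
    Finite (MaximalSpectrum (PolLaw.image F.law)) := by
  classical
  haveI hint : Algebra.IsIntegral A (B ⧸ PolLaw.ker F.law) := Groth.Agent.S13695.result F
  have hfib : ∀ 𝔪 : MaximalSpectrum A,
      {M : MaximalSpectrum (B ⧸ PolLaw.ker F.law) |
        M.asIdeal.comap (algebraMap A (B ⧸ PolLaw.ker F.law)) = 𝔪.asIdeal}.Finite := by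
    intro 𝔪
    haveI := 𝔪.isMaximal
    have hfin : Finite (PrimeSpectrum ((A ⧸ 𝔪.asIdeal) ⊗[A] (B ⧸ PolLaw.ker F.law))) := by
      letI : Field (A ⧸ 𝔪.asIdeal) := Ideal.Quotient.field 𝔪.asIdeal
      exact (Groth.Agent.S13723.result F (A ⧸ 𝔪.asIdeal)).1
    rw [← Set.finite_coe_iff]
    have key : ∀ M : {M : MaximalSpectrum (B ⧸ PolLaw.ker F.law) |
        M.asIdeal.comap (algebraMap A (B ⧸ PolLaw.ker F.law)) = 𝔪.asIdeal},
        ∃ P : PrimeSpectrum ((A ⧸ 𝔪.asIdeal) ⊗[A] (B ⧸ PolLaw.ker F.law)),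
          P.asIdeal.comap (Algebra.TensorProduct.includeRight :
            (B ⧸ PolLaw.ker F.law) →ₐ[A] (A ⧸ 𝔪.asIdeal) ⊗[A] (B ⧸ PolLaw.ker F.law)) =
            M.1.asIdeal := by
      rintro ⟨M, hM⟩
      haveI := M.isMaximal
      haveI : M.asIdeal.IsPrime := M.isMaximal.isPrime
      have h0 : ∀ a ∈ 𝔪.asIdeal,
          (Algebra.ofId A ((B ⧸ PolLaw.ker F.law) ⧸ M.asIdeal)) a = 0 := by
        intro a ha
        have ha' : a ∈ M.asIdeal.comap (algebraMap A (B ⧸ PolLaw.ker F.law)) := by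
          rw [hM]
          exact ha
        show Ideal.Quotient.mk M.asIdeal (algebraMap A (B ⧸ PolLaw.ker F.law) a) = 0
        exact Ideal.Quotient.eq_zero_iff_mem.mpr ha'
      let ψ : (A ⧸ 𝔪.asIdeal) ⊗[A] (B ⧸ PolLaw.ker F.law) →ₐ[A]
          (B ⧸ PolLaw.ker F.law) ⧸ M.asIdeal :=
        Algebra.TensorProduct.productMap
          (Ideal.Quotient.liftₐ 𝔪.asIdeal (Algebra.ofId A _) h0)
          (Ideal.Quotient.mkₐ A M.asIdeal)
      refine ⟨⟨RingHom.ker ψ.toRingHom, RingHom.ker_isPrime _⟩, ?_⟩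
      ext x
      rw [Ideal.mem_comap]
      show ψ ((1 : A ⧸ 𝔪.asIdeal) ⊗ₜ[A] x) = 0 ↔ _
      rw [Algebra.TensorProduct.productMap_apply_tmul, map_one, one_mul,
        Ideal.Quotient.mkₐ_eq_mk, Ideal.Quotient.eq_zero_iff_mem]
    choose Φ hΦ using key
    refine Finite.of_injective Φ ?_
    intro M M' h
    apply Subtype.ext
    apply MaximalSpectrum.ext
    rw [← hΦ M, ← hΦ M', h]
  have huniv : (Set.univ : Set (MaximalSpectrum (B ⧸ PolLaw.ker F.law))) =
      ⋃ 𝔪 : MaximalSpectrum A, {M : MaximalSpectrum (B ⧸ PolLaw.ker F.law) |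
        M.asIdeal.comap (algebraMap A (B ⧸ PolLaw.ker F.law)) = 𝔪.asIdeal} := by
    ext M
    simp only [Set.mem_univ, Set.mem_iUnion, Set.mem_setOf_eq, true_iff]
    haveI := M.isMaximal
    exact ⟨⟨M.asIdeal.comap (algebraMap A (B ⧸ PolLaw.ker F.law)),
      Ideal.isMaximal_comap_of_isIntegral_of_isMaximal (R := A) M.asIdeal⟩, rfl⟩
  rw [← Set.finite_univ_iff, huniv]
  exact Set.finite_iUnion hfib


end Groth.Agent.S13724
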