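import Groth.Statements.S13726
import Mathlib

set_option autoImplicit false
universe u
open scoped TensorProduct
open ZeroCyc

namespace Groth.Agent.S13726

section aux
variable (k : Type u) [Field k] (p : ℕ) [Fact p.Prime] [CharP k p]

theorem add_pow_of_cast_zero {R : Type*} [CommSemiring R] (h : ((p : ℕ) : R) = 0) (x y : R) :
    (x + y) ^ p = x ^ p + y ^ p := by
  obtain ⟨r, hr⟩ := exists_add_pow_prime_eq (Fact.out : p.Prime) x y
  rw [hr, h, zero_mul, zero_mul, zero_mul, add_zero]

theorem lemA {R : Type*} [CommSemiring R] (h : ((p : ℕ) : R) = 0) (x w y : R) (hy : y ^ p = 0) :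
    (x + w * y) ^ p = x ^ p := by
  rw [add_pow_of_cast_zero p h, mul_pow, hy, mul_zero, add_zero]

theorem lemB {R : Type*} [CommSemiring R] (y : R) (h : (0 + 1 * y) ^ p = 0 ^ p) : y ^ p = 0 := by
  rwa [zero_add, one_mul, zero_pow (Fact.out : p.Prime).ne_zero] at h

/-- the ideal `(t_i ^ p)` -/
noncomputable abbrev J : Ideal (MvPolynomial ℕ k) :=
  Ideal.span (Set.range fun i : ℕ => (MvPolynomial.X i : MvPolynomial ℕ k) ^ p)

/-- the ring `k[t_i]/(t_i^p)` -/
noncomputable abbrev Q : Type u := MvPolynomial ℕ k ⧸ J k p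

/-- the ideal generated by the classes of the variables -/
noncomputable abbrev mm : Ideal (Q k p) :=
  (Ideal.span (Set.range fun i : ℕ => (MvPolynomial.X i : MvPolynomial ℕ k))).map
    (Ideal.Quotient.mk (J k p))

theorem p_ne_zero : p ≠ 0 := (Fact.out : p.Prime).ne_zero

theorem J_le : J k p ≤ RingHom.ker (MvPolynomial.constantCoeff : MvPolynomial ℕ k →+* k) := by
  apply Ideal.span_le.mpr
  rintro _ ⟨i, rfl⟩
  show (MvPolynomial.X i : MvPolynomial ℕ k) ^ p ∈ RingHom.ker MvPolynomial.constantCoeff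
  rw [RingHom.mem_ker, map_pow, MvPolynomial.constantCoeff_X, zero_pow (p_ne_zero p)]

theorem cast_p_Q : ((p : ℕ) : Q k p) = 0 := by
  rw [← map_natCast (algebraMap k (Q k p)) p, CharP.cast_eq_zero k p, map_zero]

theorem natCast_eq_zero_of_algebra {R : Type*} [CommSemiring R] [Algebra (Q k p) R] :
    ((p : ℕ) : R) = 0 := by
  rw [← map_natCast (algebraMap (Q k p) R) p, cast_p_Q, map_zero]

theorem mem_of_pow_eq_zero (b : Q k p) (hb : b ^ p = 0) : b ∈ mm k p := by
  obtain ⟨f, rfl⟩ := Ideal.Quotient.mk_surjective b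
  rw [← map_pow, Ideal.Quotient.eq_zero_iff_mem] at hb
  have h1 := J_le k p hb
  rw [RingHom.mem_ker, map_pow] at h1
  have h2 : MvPolynomial.constantCoeff f = 0 := (pow_eq_zero_iff (p_ne_zero p)).mp h1
  apply Ideal.mem_map_of_mem
  rw [← Set.image_univ, MvPolynomial.mem_ideal_span_X_image]
  intro m hm
  by_contra hcon
  push Not at hcon
  have h3 : m = 0 := by
    ext i
    simpa using hcon i (Set.mem_univ i)
  subst h3
  rw [MvPolynomial.mem_support_iff] at hm
  rw [MvPolynomial.constantCoeff_eq] at h2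
  exact hm h2

/-- the ideal of elements with vanishing `p`-th power -/
def Nil : Ideal (Q k p) where
  carrier := {b | b ^ p = 0}
  zero_mem' := zero_pow (p_ne_zero p)
  add_mem' {a b} ha hb := by
    have ha' : a ^ p = 0 := ha
    have hb' : b ^ p = 0 := hb
    show (a + b) ^ p = 0
    rw [add_pow_of_cast_zero p (cast_p_Q k p), ha', hb', add_zero]
  smul_mem' c {b} hb := by
    have hb' : b ^ p = 0 := hb
    show (c • b) ^ p = 0
    rw [smul_eq_mul, mul_pow, hb', mul_zero]

theorem mm_le_Nil : mm k p ≤ Nil k p := by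
  rw [Ideal.map_le_iff_le_comap]
  apply Ideal.span_le.mpr
  rintro _ ⟨i, rfl⟩
  show (Ideal.Quotient.mk (J k p) (MvPolynomial.X i)) ^ p = 0
  rw [← map_pow, Ideal.Quotient.eq_zero_iff_mem]
  exact Ideal.subset_span ⟨i, rfl⟩

theorem ker_eq : PolLaw.ker (PolLaw.MulLaw.pow (Q k p) (Q k p) p).law = mm k p := by
  apply le_antisymm
  · intro b hb
    have hb' : ∀ (S : Type u) [CommSemiring S] [Algebra (Q k p) S] (x w : S ⊗[Q k p] Q k p),
        (x + w * ((1 : S) ⊗ₜ[Q k p] b)) ^ p = x ^ p := hb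
    have h3 := lemB p (R := Q k p ⊗[Q k p] Q k p) _ (hb' (Q k p) 0 1)
    rw [Algebra.TensorProduct.tmul_pow, one_pow] at h3
    have h4 := congrArg (TensorProduct.lid (Q k p) (Q k p)) h3
    rw [TensorProduct.lid_tmul, one_smul, map_zero] at h4
    exact mem_of_pow_eq_zero k p b h4
  · intro b hb
    have hbp : b ^ p = 0 := mm_le_Nil k p hb
    show ∀ (S : Type u) [CommSemiring S] [Algebra (Q k p) S] (x w : S ⊗[Q k p] Q k p),
        (x + w * ((1 : S) ⊗ₜ[Q k p] b)) ^ p = x ^ p
    intro S _ _ x w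
    have hy : ((1 : S) ⊗ₜ[Q k p] b) ^ p = 0 := by
      rw [Algebra.TensorProduct.tmul_pow, hbp, TensorProduct.tmul_zero]
    exact lemA p (R := S ⊗[Q k p] Q k p) (natCast_eq_zero_of_algebra k p) x w _ hy

theorem not_fg : ¬ (mm k p).FG := by
  classical
  intro hfg
  have hm : mm k p = Ideal.span (Set.range fun i : ℕ =>
      Ideal.Quotient.mk (J k p) (MvPolynomial.X i : MvPolynomial ℕ k)) := by
    show Ideal.map _ (Ideal.span _) = _
    rw [Ideal.map_span, ← Set.range_comp]
    rfl
  rw [hm] at hfg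
  obtain ⟨s', hs', hspan⟩ := (Submodule.fg_span_iff_fg_span_finset_subset _).mp hfg
  rw [← Set.image_univ] at hs'
  obtain ⟨t, -, ht⟩ := Finset.subset_set_image_iff.mp hs'
  obtain ⟨N, hN⟩ : ∃ N : ℕ, ∀ i ∈ t, i ≠ N := by
    refine ⟨t.sup id + 1, fun i hi h => ?_⟩
    have h1 : i ≤ t.sup id := Finset.le_sup (f := id) hi
    omega
  let φ : ℕ → DualNumber k := fun i => if i = N then DualNumber.eps else 0
  have hφ : ∀ i, φ i ^ p = 0 := by
    intro i
    show (if i = N then DualNumber.eps else 0 : DualNumber k) ^ p = 0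
    split_ifs
    · exact pow_eq_zero_of_le (Fact.out : p.Prime).two_le
        (by rw [pow_two]; exact DualNumber.eps_mul_eps)
    · exact zero_pow (p_ne_zero p)
  have hJ : ∀ a ∈ J k p, MvPolynomial.aeval φ a = 0 := by
    have h1 : J k p ≤ RingHom.ker (MvPolynomial.aeval φ : MvPolynomial ℕ k →ₐ[k] DualNumber k) := by
      apply Ideal.span_le.mpr
      rintro _ ⟨i, rfl⟩
      show (MvPolynomial.X i : MvPolynomial ℕ k) ^ p ∈ RingHom.ker (MvPolynomial.aeval φ)
      rw [RingHom.mem_ker, map_pow, MvPolynomial.aeval_X]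
      exact hφ i
    intro a ha
    exact h1 ha
  let ψ : Q k p →ₐ[k] DualNumber k := Ideal.Quotient.liftₐ (J k p) (MvPolynomial.aeval φ) hJ
  have hψ : ∀ i : ℕ, ψ (Ideal.Quotient.mk (J k p) (MvPolynomial.X i)) = φ i := by
    intro i
    have h1 : ψ (Ideal.Quotient.mk (J k p) (MvPolynomial.X i)) =
        MvPolynomial.aeval φ (MvPolynomial.X i : MvPolynomial ℕ k) := rfl
    rw [h1, MvPolynomial.aeval_X]
  have hle : Ideal.span (↑s' : Set (Q k p)) ≤ RingHom.ker ψ := by
    apply Ideal.span_le.mpr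
    intro y hy
    rw [← ht] at hy
    obtain ⟨i, hi, rfl⟩ := Finset.mem_image.mp (Finset.mem_coe.mp hy)
    show _ ∈ RingHom.ker ψ
    rw [RingHom.mem_ker, hψ]
    show (if i = N then DualNumber.eps else 0 : DualNumber k) = 0
    rw [if_neg (hN i hi)]
  have hmem : Ideal.Quotient.mk (J k p) (MvPolynomial.X N : MvPolynomial ℕ k) ∈
      Ideal.span (↑s' : Set (Q k p)) := by
    have h1 : Ideal.Quotient.mk (J k p) (MvPolynomial.X N : MvPolynomial ℕ k) ∈
        Submodule.span (Q k p) (Set.range fun i : ℕ =>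
          Ideal.Quotient.mk (J k p) (MvPolynomial.X i : MvPolynomial ℕ k)) :=
      Submodule.subset_span ⟨N, rfl⟩
    rw [hspan] at h1
    exact h1
  have h5 := hle hmem
  rw [RingHom.mem_ker, hψ] at h5
  have h6 : (DualNumber.eps : DualNumber k) = 0 := by
    have h7 : φ N = DualNumber.eps := if_pos rfl
    rw [← h7]; exact h5
  have h8 := congrArg TrivSqZeroExt.snd h6
  rw [DualNumber.snd_eps, TrivSqZeroExt.snd_zero] at h8
  exact one_ne_zero h8

end aux



/-- Let k be a field of characteristic p > 0 and A = k[t_i : i ∈ ℕ]/(t_i^p : i ∈ ℕ). The law x ↦ x^p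
from A to A is multiplicative and homogeneous of degree p over A; its kernel is the ideal generated
by the classes of the variables t_i, and this ideal is not finitely generated. Hence the image of a
family of zero-cycles need not be of finite presentation over the base even when X → S is. -/
theorem result {k : Type u} [Field k] (p : ℕ) [Fact p.Prime] [CharP k p] :
    PolLaw.ker (PolLaw.MulLaw.pow
        (MvPolynomial ℕ k ⧸ Ideal.span (Set.range fun i : ℕ => (MvPolynomial.X i : MvPolynomial ℕ k) ^ p))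
        (MvPolynomial ℕ k ⧸ Ideal.span (Set.range fun i : ℕ => (MvPolynomial.X i : MvPolynomial ℕ k) ^ p)) p).law =
      (Ideal.span (Set.range fun i : ℕ => (MvPolynomial.X i : MvPolynomial ℕ k))).map
        (Ideal.Quotient.mk (Ideal.span (Set.range fun i : ℕ => (MvPolynomial.X i : MvPolynomial ℕ k) ^ p))) ∧
    ¬ (PolLaw.ker (PolLaw.MulLaw.pow
        (MvPolynomial ℕ k ⧸ Ideal.span (Set.range fun i : ℕ => (MvPolynomial.X i : MvPolynomial ℕ k) ^ p))
        (MvPolynomial ℕ k ⧸ Ideal.span (Set.range fun i : ℕ => (MvPolynomial.X i : MvPolynomial ℕ k) ^ p)) p).law).FG := by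
  have h1 := ker_eq k p
  refine ⟨h1, ?_⟩
  intro hfg
  exact not_fg k p (h1 ▸ hfg)


end Groth.Agent.S13726
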