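import Groth.Statements.S13727
import Mathlib
import Groth.Agent.Lib.Helper6.CHConn
import Groth.Agent.Lib.Helper6.QuotLaw

set_option autoImplicit false
universe u
open scoped TensorProduct
open ZeroCyc

namespace Groth.Agent.S13727



/-- Let A be a commutative ring whose prime spectrum is connected, B a commutative A-algebra and F : B →
A a multiplicative polynomial law homogeneous of degree d. Then Spec(B/ker F), the support of the
family of zero-cycles of degree d defined by F, has at most d connected components (in particular
finitely many). -/
theorem result {A : Type u} [CommRing A] [ConnectedSpace (PrimeSpectrum A)]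
    {B : Type u} [CommRing B] [Algebra A B] {d : ℕ} (F : PolLaw.MulLaw A B A d) :
    Finite (ConnectedComponents (PrimeSpectrum (PolLaw.image F.law))) ∧
      Nat.card (ConnectedComponents (PrimeSpectrum (PolLaw.image F.law))) ≤ d := by
  exact Groth.Agent.Lib.helper6.CHConn.card_connectedComponents_le
    (Groth.Agent.Lib.helper6.QuotLaw.quotMul F (PolLaw.ker F.law) le_rfl)
    (Groth.Agent.Lib.helper6.QuotLaw.ker_quot_eq_bot F.law)


end Groth.Agent.S13727
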