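import Groth.Statements.S13730
import Mathlib
import Groth.Agent.Lib.Helper6.TSFlat2
import Groth.Agent.Lib.Helper6.GammaBC2
import Groth.Agent.Lib.Helper6.RedTensor
import Groth.Agent.S13729

set_option autoImplicit false
universe u
open scoped TensorProduct
open ZeroCyc

namespace Groth.Agent.S13730

open Groth.Agent.Lib.helper6.GammaUniv Groth.Agent.Lib.helper6.TSFlat
open Groth.Agent.Lib.helper6.GammaBC Groth.Agent.Lib.helper6.RedTensor



/-- Let (C, γ) be the algebra of divided powers Γ^d_A(B) of a commutative A-algebra B with its universal
multiplicative law γ : B → C homogeneous of degree d (every multiplicative law B → C' homogeneous of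
degree d factors uniquely through γ by an algebra map C → C'). If B is flat over A and K ⊗_A B is
reduced for every field K receiving a ring map from A (X = Spec B → S = Spec A is flat with
geometrically reduced fibres), then K ⊗_A C is reduced for every such K: Γ^d_A(B) again has
geometrically reduced fibres over A. (The published statement is for a flat morphism of algebraic
spaces X → S with geometrically reduced fibres and also records that Γ^d(X/S) → S is flat; this row
is the affine case and states only the reducedness of the fibres, flatness of Γ^d_A(B) for flat B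
being a separate statement.) -/
theorem result {A : Type u} [CommRing A] {B : Type u} [CommRing B] [Algebra A B] {C : Type u} [CommRing C] [Algebra A C]
    {d : ℕ} (γ : PolLaw.MulLaw A B C d) (hγ : PolLaw.IsGammaD γ) [Module.Flat A B]
    (hred : ∀ (K : Type u) [Field K] [Algebra A K], IsReduced (K ⊗[A] B)) :
    ∀ (K : Type u) [Field K] [Algebra A K], IsReduced (K ⊗[A] C) := by
  intro K _ _
  have hR : ∀ (L : Type u) [Field L] [Algebra K L], IsReduced ((K ⊗[A] B) ⊗[K] L) := by
    intro L _ _
    letI : Algebra A L := Algebra.compHom L (algebraMap A K)
    haveI : IsScalarTower A K L := IsScalarTower.of_algebraMap_eq (fun _ => rfl)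
    haveI := hred L
    exact isReduced_of_injective
      ((Algebra.TensorProduct.comm K (K ⊗[A] B) L).trans
        (Algebra.TensorProduct.cancelBaseChange A K K L B))
      ((Algebra.TensorProduct.comm K (K ⊗[A] B) L).trans
        (Algebra.TensorProduct.cancelBaseChange A K K L B)).injective
  haveI : IsReduced (⨂[K] _ : Fin d, K ⊗[A] B) := isReduced_tpower K (K ⊗[A] B) hR d
  haveI : IsReduced (SymTen.TS K (K ⊗[A] B) d) :=
    isReduced_of_injective (SymTen.TS K (K ⊗[A] B) d).val Subtype.val_injective
  obtain ⟨ε⟩ := Groth.Agent.S13729.algEquiv_of_isGammaD (mulLawBC K γ) (isGammaD_bc K γ hγ)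
    (tsLaw K (K ⊗[A] B) d) (isGammaD_tsLaw_of_flat K (K ⊗[A] B) d)
  exact isReduced_of_injective ε ε.injective


end Groth.Agent.S13730
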