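import Groth.Statements.S13757
import Mathlib
-- import your own Groth.Agent.* helpers here

set_option autoImplicit false
universe u
open LabGraph

namespace Groth.Agent.S13757

/-- Let G be a finite connected multigraph (loops and multiple edges allowed) with vertex set V, edge
set E, endpoint map E → V × V and a labelling of the edges by positive integers l. A vertex
labelling φ : V → ℤ is Cartier when l(e) divides the difference of the values of φ at the two
endpoints of every edge e; its multidegree is the vertex labelling whose value at v is the sum, over
the edge-ends at v, of (value of φ at the other endpoint − φ(v)) / l(e). Then the Cartier vertex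
labellings of multidegree zero are exactly the constant ones: the kernel of the multidegree operator
on Cartier labellings is ℤ, embedded as the constants. -/
theorem result
    {V E : Type u} [Fintype V] [Fintype E] [DecidableEq V] [DecidableEq E]
    (ends : E → V × V) (l : E → ℕ) (hl : ∀ e, 0 < l e) (hconn : LabGraph.Connected ends)
    (φ : V → ℤ) (hφ : LabGraph.IsCartier ends l φ) :
    (∀ v : V, LabGraph.mdeg ends l φ v = 0) ↔ ∀ v w : V, φ v = φ w := by
  obtain ⟨⟨v₀⟩, hc⟩ := hconn
  constructor
  · intro hm
    obtain ⟨vm, -, hvm⟩ := Finset.exists_max_image Finset.univ φ ⟨v₀, Finset.mem_univ _⟩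
    have hadj : ∀ v w, LabGraph.Adj ends v w → φ v = φ vm → φ w = φ vm := by
      rintro v w ⟨e, he⟩ hv
      have hsum := hm v
      unfold LabGraph.mdeg at hsum
      have hA : ∀ e' : E, (if (ends e').1 = v then (φ (ends e').2 - φ (ends e').1) / (l e' : ℤ)
          else 0) ≤ 0 := by
        intro e'
        have hl' : (0:ℤ) < l e' := by exact_mod_cast hl e'
        split_ifs with h1
        · apply Int.ediv_nonpos_of_nonpos_of_neg _ hl'
          rw [h1, hv]; linarith [hvm (ends e').2 (Finset.mem_univ _)]
        · exact le_refl 0
      have hB : ∀ e' : E, (if (ends e').2 = v then (φ (ends e').1 - φ (ends e').2) / (l e' : ℤ)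
          else 0) ≤ 0 := by
        intro e'
        have hl' : (0:ℤ) < l e' := by exact_mod_cast hl e'
        split_ifs with h2
        · apply Int.ediv_nonpos_of_nonpos_of_neg _ hl'
          rw [h2, hv]; linarith [hvm (ends e').1 (Finset.mem_univ _)]
        · exact le_refl 0
      have hz := (Finset.sum_eq_zero_iff_of_nonpos
        (fun e' _ => add_nonpos (hA e') (hB e'))).mp hsum e (Finset.mem_univ _)
      have hAe := hA e
      have hBe := hB e
      have hdvd := hφ e
      rcases he with he | he
      · have h1 : (ends e).1 = v := by rw [he]
        have h2 : (ends e).2 = w := by rw [he]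
        rw [if_pos h1] at hz hAe
        have hA0 : (φ (ends e).2 - φ (ends e).1) / (l e : ℤ) = 0 := by linarith
        have := Int.eq_zero_of_ediv_eq_zero ((dvd_sub_comm).mp hdvd) hA0
        rw [h1, h2] at this
        linarith
      · have h1 : (ends e).1 = w := by rw [he]
        have h2 : (ends e).2 = v := by rw [he]
        rw [if_pos h2] at hz hBe
        have hB0 : (φ (ends e).1 - φ (ends e).2) / (l e : ℤ) = 0 := by linarith
        have := Int.eq_zero_of_ediv_eq_zero hdvd hB0
        rw [h1, h2] at this
        linarith
    have hall : ∀ w, φ w = φ vm := by
      intro w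
      have h := hc vm w
      induction h with
      | refl => rfl
      | tail _ hbc ih => exact hadj _ _ hbc ih
    intro v w
    rw [hall v, hall w]
  · intro hconst v
    unfold LabGraph.mdeg
    apply Finset.sum_eq_zero
    intro e _
    rw [hconst (ends e).2 (ends e).1]
    simp

end Groth.Agent.S13757
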