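import Groth.Statements.S13758
import Mathlib
import Groth.Agent.Lib.Helper28.GraphJoin2
-- import your own Groth.Agent.* helpers here

set_option autoImplicit false
universe u
open LabGraph

namespace Groth.Agent.S13758

/-- Let G be a finite connected multigraph with vertex set V, edge set E, endpoint map E → V × V (whose
component order fixes an orientation) and positive integer edge labels l. Then the labels along
every circuit of G have greatest common divisor 1 (G is circuit-coprime) if and only if, for every
integer edge vector x, there is an integer edge vector y such that x − l·y is orthogonal to every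
integer cycle: Σ_e γ(e) (x(e) − l(e) y(e)) = 0 for all γ : E → ℤ with zero boundary. (The published
statement says that the r nonzero diagonal entries of the Smith normal form of the labelled circuit
matrix, r the first Betti number, are all equal to 1; since the fundamental circuits of a spanning
tree form a basis of the lattice of integer cycles, this is the surjectivity of x ↦ (γ ↦ Σ_e γ(e)
l(e) x(e)) from ℤ^E onto the dual of the cycle lattice, which is the condition stated here.) -/
theorem result
    {V E : Type u} [Fintype V] [Fintype E] [DecidableEq V] [DecidableEq E]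
    (ends : E → V × V) (l : E → ℕ) (hl : ∀ e, 0 < l e) (hconn : LabGraph.Connected ends) :
    LabGraph.IsCircuitCoprime ends l ↔
      ∀ x : E → ℤ, ∃ y : E → ℤ, ∀ γ : E → ℤ, (∀ v : V, LabGraph.boundary ends γ v = 0) →
        ∑ e : E, γ e * (x e - (l e : ℤ) * y e) = 0 := by
  constructor
  · intro hcop x
    have hN : 0 < ∏ e, l e := Finset.prod_pos (fun e _ => hl e)
    have hfor : ∀ p : ℕ, p.Prime → ∀ C : Finset E,
        C ⊆ Finset.univ.filter (fun e => p ∣ l e) → ¬ LabGraph.IsCircuit ends C := by
      intro p hp C hC hcirc
      have h1 := hcop C hcirc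
      have h2 : p ∣ C.gcd l := Finset.dvd_gcd (fun e he => (Finset.mem_filter.1 (hC he)).2)
      rw [h1] at h2
      exact hp.one_lt.ne' (Nat.dvd_one.1 h2)
    obtain ⟨g, hg⟩ := Groth.Agent.Lib.helper28.GJ.sol ends _ hN l
      (fun e => Finset.dvd_prod_of_mem l (Finset.mem_univ e)) hfor x
    choose y hy using hg
    refine ⟨y, fun γ hγ => ?_⟩
    have h1 := Groth.Agent.Lib.helper28.GJ.sum_mul_dg ends γ hγ g
    rw [← h1]
    refine Finset.sum_congr rfl (fun e _ => ?_)
    have h2 := hy e
    congr 1
    linarith
  · intro h C hC
    by_contra hne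
    obtain ⟨e0, he0⟩ := hC.1
    obtain ⟨p, hp, hpd⟩ := Nat.exists_prime_and_dvd hne
    obtain ⟨γ, hsupp, hγ0, hγ⟩ := Groth.Agent.Lib.helper28.GJ.exists_cycle_of_circuit ends hC he0
    obtain ⟨y, hy⟩ := h (Pi.single (M := fun _ : E => ℤ) e0 (1 : ℤ))
    have h1 := hy γ hγ
    have h2 : ∑ e, γ e * (Pi.single (M := fun _ : E => ℤ) e0 (1 : ℤ) e - (l e : ℤ) * y e) =
        1 - ∑ e ∈ C, γ e * ((l e : ℤ) * y e) := by
      simp only [mul_sub, Finset.sum_sub_distrib]
      congr 1
      · rw [Finset.sum_eq_single e0]
        · simp [hγ0]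
        · intro e _ he
          simp [Pi.single_apply, he]
        · intro h'; exact absurd (Finset.mem_univ _) h'
      · symm
        apply Finset.sum_subset (Finset.subset_univ _)
        intro e _ he
        rw [hsupp e he, zero_mul]
    rw [h2] at h1
    have h3 : (p : ℤ) ∣ ∑ e ∈ C, γ e * ((l e : ℤ) * y e) := Finset.dvd_sum (fun e he => by
      have h4 : (p : ℤ) ∣ (l e : ℤ) := Int.natCast_dvd_natCast.2 (hpd.trans (Finset.gcd_dvd he))
      exact Dvd.dvd.mul_left (Dvd.dvd.mul_right h4 _) _)
    have h4 : (p : ℤ) ∣ 1 := by
      have h5 : (1 : ℤ) = ∑ e ∈ C, γ e * ((l e : ℤ) * y e) := by linarith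
      rw [h5]; exact h3
    have h6 : p ∣ 1 := by exact_mod_cast h4
    exact hp.one_lt.ne' (Nat.dvd_one.1 h6)

end Groth.Agent.S13758
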