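import Groth.Statements.S13759
import Mathlib
import Groth.Agent.Lib.Helper28.BlowUp
-- import your own Groth.Agent.* helpers here

set_option autoImplicit false
universe u
open LabGraph

namespace Groth.Agent.S13759

/-- Let G be a finite connected multigraph with vertex set V, edge set E, endpoint map E → V × V and
positive integer edge labels l, and let G̃ be its total blow-up graph: every edge e is replaced by a
path of l(e) edges through l(e) − 1 new vertices, all new edges labelled 1 (so every vertex
labelling of G̃ is Cartier and its multidegree is the sum over edge-ends of the differences of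
values). Let H, resp. H̃, be the cokernel of the multidegree operator from Cartier vertex labellings
of G to ℤ^V, resp. of G̃ to ℤ^Ṽ, and ε : H → H̃ the map induced by extending vertex labellings of G
by zero on the new vertices. Then ε is injective: if a vertex labelling α of G, extended by zero, is
the multidegree of some vertex labelling of G̃, then α is the multidegree of some Cartier vertex
labelling of G. -/
theorem result
    {V E : Type u} [Fintype V] [Fintype E] [DecidableEq V] [DecidableEq E]
    (ends : E → V × V) (l : E → ℕ) (hl : ∀ e, 0 < l e) (hconn : LabGraph.Connected ends)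
    (α : V → ℤ) (ψ : LabGraph.BlVert V E l → ℤ)
    (hψ : ∀ w : LabGraph.BlVert V E l,
      LabGraph.mdeg (LabGraph.blEnds ends l) (fun _ => 1) ψ w = Sum.elim α (fun _ => (0 : ℤ)) w) :
    ∃ φ : V → ℤ, LabGraph.IsCartier ends l φ ∧ ∀ v : V, LabGraph.mdeg ends l φ v = α v := by
  classical
  have hrec : ∀ e i, i + 2 ≤ l e →
      ψ (pathVert ends l e i) + ψ (pathVert ends l e (i + 2))
        - 2 * ψ (pathVert ends l e (i + 1)) + (fun _ : ℕ => (0 : ℤ)) i = 0 := by
    intro e i hi
    have h1 := hψ (Sum.inr ⟨e, ⟨i, by omega⟩⟩)
    rw [Groth.Agent.Lib.helper28.BU.mdeg_inr] at h1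
    simp only [Sum.elim_inr] at h1
    simp only [add_zero]
    exact h1
  have hclosed : ∀ e k, k ≤ l e → ψ (pathVert ends l e k) =
      ψ (pathVert ends l e 0) + (k : ℤ) * (ψ (pathVert ends l e 1) - ψ (pathVert ends l e 0)) := by
    intro e k hk
    have := Groth.Agent.Lib.helper28.BU.seq_closed (fun j => ψ (pathVert ends l e j))
      (fun _ => 0) (l e) (hrec e) k hk
    simpa using this
  have h0 : ∀ e, ψ (pathVert ends l e 0) = ψ (Sum.inl (ends e).1) := by
    intro e; rw [Groth.Agent.Lib.helper28.BU.pathVert_zero]
  have hL : ∀ e, ψ (pathVert ends l e (l e)) = ψ (Sum.inl (ends e).2) := by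
    intro e
    rw [Groth.Agent.Lib.helper28.BU.pathVert_end ends l e (l e) (hl e).ne' le_rfl]
  refine ⟨fun v => ψ (Sum.inl v), ?_, ?_⟩
  · intro e
    have h1 := hclosed e (l e) le_rfl
    refine ⟨-(ψ (pathVert ends l e 1) - ψ (pathVert ends l e 0)), ?_⟩
    simp only
    rw [← h0, ← hL, h1]; ring
  · intro v
    have h1 := hψ (Sum.inl v)
    rw [Groth.Agent.Lib.helper28.BU.mdeg_inl ends l hl] at h1
    simp only [Sum.elim_inl] at h1
    rw [← h1]
    unfold mdeg
    refine Finset.sum_congr rfl (fun e _ => ?_)
    have hle : (l e : ℤ) ≠ 0 := by exact_mod_cast (hl e).ne'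
    have h2 := hclosed e (l e) le_rfl
    have h3 := hclosed e (l e - 1) (by omega)
    have hc : ((l e - 1 : ℕ) : ℤ) = (l e : ℤ) - 1 := by
      have := hl e
      push_cast [Nat.cast_sub this]; ring
    rw [hc] at h3
    simp only
    rw [← h0, ← hL]
    have e1 : ψ (pathVert ends l e (l e)) - ψ (pathVert ends l e 0) =
        (l e : ℤ) * (ψ (pathVert ends l e 1) - ψ (pathVert ends l e 0)) := by
      rw [h2]; ring
    have e2 : ψ (pathVert ends l e 0) - ψ (pathVert ends l e (l e)) =
        (l e : ℤ) * (ψ (pathVert ends l e (l e - 1)) - ψ (pathVert ends l e (l e))) := by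
      rw [h2, h3]; ring
    rw [e1, e2, Int.mul_ediv_cancel_left _ hle, Int.mul_ediv_cancel_left _ hle]

end Groth.Agent.S13759
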