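import Groth.Statements.S13760
import Mathlib
import Groth.Agent.Lib.Helper28.BlowUp
-- import your own Groth.Agent.* helpers here

set_option autoImplicit false
universe u
open LabGraph

namespace Groth.Agent.S13760

lemma sum_supp0 (y : ℤ) (L : ℕ) (hL : 0 < L) :
    ∑ j ∈ Finset.range L, ∑ i ∈ Finset.range j, (if i = 0 then y else 0) = ((L : ℤ) - 1) * y := by
  obtain ⟨m, rfl⟩ : ∃ m, L = m + 1 := ⟨L - 1, by omega⟩
  rw [Finset.sum_range_succ']
  simp only [Finset.range_zero, Finset.sum_empty, add_zero]
  have : ∀ j ∈ Finset.range m, ∑ i ∈ Finset.range (j + 1), (if i = 0 then y else 0) = y := by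
    intro j _
    rw [Finset.sum_ite_eq']
    simp
  rw [Finset.sum_congr rfl this]
  simp

/-- Let G be a finite connected multigraph with vertex set V, edge set E, endpoint map E → V × V and
positive integer edge labels l, let G̃ be its total blow-up graph (every edge e replaced by a path
of l(e) edges through l(e) − 1 new vertices, all labelled 1), and let ε : H → H̃ be the map from the
cokernel of the multidegree operator on Cartier vertex labellings of G to the cokernel of the
multidegree operator on vertex labellings of G̃ induced by extension by zero. Then ε is surjective —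
every vertex labelling β of G̃ can be corrected by the multidegree of a vertex labelling of G̃ so as
to vanish at all new vertices — if and only if G is circuit-coprime (the labels along every circuit
have greatest common divisor 1). (The published statement is 'ε is an isomorphism if and only if the
labelled graph is circuit-coprime'; injectivity of ε holds for every labelled graph, so the content
is the equivalence for surjectivity, stated here with the cokernels unpacked.) -/
theorem result
    {V E : Type u} [Fintype V] [Fintype E] [DecidableEq V] [DecidableEq E]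
    (ends : E → V × V) (l : E → ℕ) (hl : ∀ e, 0 < l e) (hconn : LabGraph.Connected ends) :
    (∀ β : LabGraph.BlVert V E l → ℤ, ∃ (ψ : LabGraph.BlVert V E l → ℤ) (α : V → ℤ),
        ∀ w : LabGraph.BlVert V E l,
          LabGraph.mdeg (LabGraph.blEnds ends l) (fun _ => 1) ψ w + β w = Sum.elim α (fun _ => (0 : ℤ)) w) ↔
      LabGraph.IsCircuitCoprime ends l := by
  classical
  rw [Groth.Agent.Lib.helper28.BU.coprime_iff_sol ends l hl]
  constructor
  · intro h x
    obtain ⟨ψ, α, hψ⟩ := h (Sum.elim (fun _ => 0) (fun p => if p.2.val = 0 then -(x p.1) else 0))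
    refine ⟨fun v => ψ (Sum.inl v), fun e => ?_⟩
    have hrec : ∀ i, i + 2 ≤ l e →
        ψ (pathVert ends l e i) + ψ (pathVert ends l e (i + 2))
          - 2 * ψ (pathVert ends l e (i + 1)) + (fun i : ℕ => if i = 0 then -(x e) else 0) i = 0 := by
      intro i hi
      have h1 := hψ (Sum.inr ⟨e, ⟨i, by omega⟩⟩)
      rw [Groth.Agent.Lib.helper28.BU.mdeg_inr] at h1
      simp only [Sum.elim_inr] at h1
      exact h1
    have h2 := Groth.Agent.Lib.helper28.BU.seq_closed (fun j => ψ (pathVert ends l e j))
      _ (l e) hrec (l e) le_rfl
    rw [sum_supp0 _ _ (hl e)] at h2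
    rw [Groth.Agent.Lib.helper28.BU.pathVert_zero,
      Groth.Agent.Lib.helper28.BU.pathVert_end ends l e (l e) (hl e).ne' le_rfl] at h2
    refine ⟨ψ (pathVert ends l e 1) - ψ (Sum.inl (ends e).1) + x e, ?_⟩
    simp only
    rw [h2]; ring
  · intro hsol β
    set b : E → ℕ → ℤ := fun e i => if h : i < l e - 1 then β (Sum.inr ⟨e, ⟨i, h⟩⟩) else 0 with hb
    obtain ⟨g, hg⟩ := hsol (fun e => ∑ j ∈ Finset.range (l e), ∑ i ∈ Finset.range j, b e i)
    choose s hs using hg
    set u : E → ℕ → ℤ := fun e k => g (ends e).1 + (k : ℤ) * s e
      - ∑ j ∈ Finset.range k, ∑ i ∈ Finset.range j, b e i with hu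
    have hu0 : ∀ e, u e 0 = g (ends e).1 := by intro e; simp [hu]
    have huL : ∀ e, u e (l e) = g (ends e).2 := by
      intro e
      have := hs e
      simp only [hu]
      linarith
    have hu2 : ∀ e i, u e i + u e (i + 2) - 2 * u e (i + 1) + b e i = 0 := by
      intro e i
      simp only [hu]
      have e1 : i + 2 = (i + 1) + 1 := rfl
      rw [e1, Finset.sum_range_succ (n := i + 1), Finset.sum_range_succ (n := i),
        Finset.sum_range_succ (n := i)]
      push_cast
      ring
    set ψ : BlVert V E l → ℤ := Sum.elim g (fun p => u p.1 (p.2.val + 1)) with hψdef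
    have hpv : ∀ e j, j ≤ l e → ψ (pathVert ends l e j) = u e j := by
      intro e j hj
      by_cases h0 : j = 0
      · subst h0
        rw [Groth.Agent.Lib.helper28.BU.pathVert_zero, hu0]
        rfl
      · by_cases h1 : j < l e
        · rw [Groth.Agent.Lib.helper28.BU.pathVert_mid ends l e j h0 h1]
          simp only [hψdef, Sum.elim_inr]
          congr 1
          omega
        · have : j = l e := by omega
          subst this
          rw [Groth.Agent.Lib.helper28.BU.pathVert_end ends l e (l e) h0 le_rfl, huL]
          rfl
    refine ⟨ψ, fun v => mdeg (blEnds ends l) (fun _ => 1) ψ (Sum.inl v) + β (Sum.inl v), ?_⟩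
    intro w
    cases w with
    | inl v => rfl
    | inr p =>
      obtain ⟨e, i⟩ := p
      have hi := i.isLt
      rw [Groth.Agent.Lib.helper28.BU.mdeg_inr]
      simp only [Sum.elim_inr]
      rw [hpv e i.val (by omega), hpv e (i.val + 2) (by omega), hpv e (i.val + 1) (by omega)]
      have h1 := hu2 e i.val
      have h2 : b e i.val = β (Sum.inr ⟨e, i⟩) := by
        simp only [hb]
        rw [dif_pos hi]
      rw [h2] at h1
      exact h1

end Groth.Agent.S13760
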