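import Groth.Statements.S1377
import Mathlib

set_option autoImplicit false
universe u
open FlatMor

namespace Groth.Agent.S1377

open AlgebraicGeometry CategoryTheory Limits in
theorem main {S V : Scheme.{u}} (U : S.Opens) [QuasiCompact U.ι]
    (v : V ⟶ (U : Scheme.{u})) [IsIntegralHom v] [Surjective v] :
    ∃ (V' : Scheme.{u}) (π : V' ⟶ S) (i : V ⟶ V'), Surjective π ∧ IsIntegralHom π ∧ IsPullback i v π U.ι := by
  set f : V ⟶ S := v ≫ U.ι with hf
  haveI : QuasiCompact f := inferInstance
  haveI : QuasiSeparated f := inferInstance
  set ν := f.fromNormalization with hν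
  -- the base change of f to U
  have hsnd : pullback.fst f U.ι ≫ v = pullback.snd f U.ι := by
    rw [← cancel_mono U.ι, Category.assoc, ← hf, pullback.condition]
  haveI hfst : IsIso (pullback.fst f U.ι) := by
    refine ⟨pullback.lift (𝟙 V) v (by rw [Category.id_comp]), ?_, pullback.lift_fst _ _ _⟩
    apply pullback.hom_ext
    · rw [Category.assoc, pullback.lift_fst, Category.comp_id, Category.id_comp]
    · rw [Category.assoc, pullback.lift_snd, Category.id_comp, hsnd]
  haveI : IsIntegralHom (pullback.snd f U.ι) := by
    rw [← hsnd]; infer_instance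
  haveI : IsIso (pullback.snd f U.ι).toNormalization := inferInstance
  haveI : IsIso (f.normalizationPullback U.ι) := inferInstance
  have key := Scheme.Hom.toNormalization_normalizationPullback_fst f U.ι
  -- toNormalization is an open immersion
  have htoN : f.toNormalization = inv (pullback.fst f U.ι) ≫ (pullback.snd f U.ι).toNormalization ≫
      f.normalizationPullback U.ι ≫ pullback.fst ν U.ι := by
    rw [key, IsIso.inv_hom_id_assoc]
  haveI : IsOpenImmersion f.toNormalization := by
    rw [htoN]; infer_instance
  have hrange : Set.range f.toNormalization = ν ⁻¹' (U : Set S) := by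
    rw [htoN]
    have e1 : Set.range (inv (pullback.fst f U.ι) ≫ (pullback.snd f U.ι).toNormalization ≫
      f.normalizationPullback U.ι ≫ pullback.fst ν U.ι) = Set.range (pullback.fst ν U.ι) := by
      have : inv (pullback.fst f U.ι) ≫ (pullback.snd f U.ι).toNormalization ≫
        f.normalizationPullback U.ι ≫ pullback.fst ν U.ι =
        (inv (pullback.fst f U.ι) ≫ (pullback.snd f U.ι).toNormalization ≫
        f.normalizationPullback U.ι) ≫ pullback.fst ν U.ι := by simp
      rw [this, Scheme.Hom.comp_base, TopCat.coe_comp, Set.range_comp]
      have hs : Function.Surjective (inv (pullback.fst f U.ι) ≫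
          (pullback.snd f U.ι).toNormalization ≫ f.normalizationPullback U.ι) :=
        (inv (pullback.fst f U.ι) ≫
          (pullback.snd f U.ι).toNormalization ≫ f.normalizationPullback U.ι).surjective
      rw [hs.range_eq, Set.image_univ]
    rw [e1, IsOpenImmersion.range_pullbackFst]
    simp
  -- the closed complement
  let Zc : TopologicalSpace.Closeds S := ⟨(U : Set S)ᶜ, U.2.isClosed_compl⟩
  let I : S.IdealSheafData := Scheme.IdealSheafData.vanishingIdeal Zc
  have hζrange : Set.range I.subschemeι = (U : Set S)ᶜ := by
    rw [Scheme.IdealSheafData.range_subschemeι, Scheme.IdealSheafData.coe_support_vanishingIdeal]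
    rfl
  let π : f.normalization ⨿ I.subscheme ⟶ S := coprod.desc ν I.subschemeι
  let i : V ⟶ f.normalization ⨿ I.subscheme := f.toNormalization ≫ coprod.inl
  have hiπ : i ≫ π = v ≫ U.ι := by
    simp only [i, π, Category.assoc, coprod.inl_desc]
    rw [hν, Scheme.Hom.toNormalization_fromNormalization]
  refine ⟨_, π, i, ?_, inferInstance, ?_⟩
  · constructor
    intro s
    by_cases hs : s ∈ (U : Set S)
    · obtain ⟨x, hx⟩ := v.surjective ⟨s, hs⟩
      refine ⟨i x, ?_⟩
      rw [← Scheme.Hom.comp_apply, hiπ, Scheme.Hom.comp_apply, hx]
      rfl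
    · have : s ∈ Set.range I.subschemeι := by rw [hζrange]; exact hs
      obtain ⟨z, hz⟩ := this
      refine ⟨(coprod.inr : I.subscheme ⟶ f.normalization ⨿ I.subscheme) z, ?_⟩
      rw [← Scheme.Hom.comp_apply]
      simp only [π, coprod.inr_desc]
      exact hz
  · refine (IsOpenImmersion.isPullback v i U.ι π hiπ ?_).flip
    ext y
    simp only [Scheme.Opens.opensRange_ι]
    obtain ⟨y', rfl⟩ := (coprodMk f.normalization I.subscheme).surjective y
    constructor
    · intro hy
      cases y' with
      | inl n =>
        rw [coprodMk_inl] at hy ⊢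
        have hn : ν n ∈ (U : Set S) := by
          have : π ((coprod.inl : f.normalization ⟶ f.normalization ⨿ I.subscheme) n) = ν n := by
            rw [← Scheme.Hom.comp_apply]; simp only [π, coprod.inl_desc]
          rw [← this]; exact hy
        have : n ∈ Set.range f.toNormalization := by rw [hrange]; exact hn
        obtain ⟨x, rfl⟩ := this
        exact ⟨x, rfl⟩
      | inr z =>
        rw [coprodMk_inr] at hy
        exfalso
        have : π ((coprod.inr : I.subscheme ⟶ f.normalization ⨿ I.subscheme) z) = I.subschemeι z := by
          rw [← Scheme.Hom.comp_apply]; simp only [π, coprod.inr_desc]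
        have h2 : I.subschemeι z ∈ (U : Set S) := by rw [← this]; exact hy
        have h3 : I.subschemeι z ∈ (U : Set S)ᶜ := by rw [← hζrange]; exact ⟨z, rfl⟩
        exact h3 h2
    · rintro ⟨x, hx⟩
      have : π (i x) = (v ≫ U.ι) x := by rw [← Scheme.Hom.comp_apply, hiπ]
      show π _ ∈ U
      rw [← hx, this, Scheme.Hom.comp_apply]
      exact (v x).2

open AlgebraicGeometry CategoryTheory Limits in
/-- Let S be a scheme, U ⊆ S an open subscheme whose inclusion U → S is quasi-compact (U retrocompact in
S), and V → U a surjective integral morphism. Then there are a scheme V' and a surjective integral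
morphism V' → S whose base change to U is V → U. (The published statement puts no condition on U,
and in that generality it is false: e.g. S = Spec ∏_i ℤ/4^i with U = D(2) ∪ ⋃_i D(e_i), e_i the
idempotents, and V equal to U except that over D(2) it is cut out by x = (2^i)_i. Stated here with U
→ S quasi-compact, under which hypothesis the published argument applies.) -/
theorem result {S V : Scheme.{u}} (U : S.Opens) [QuasiCompact U.ι]
    (v : V ⟶ (U : Scheme.{u})) [IsIntegralHom v] [Surjective v] :
    ∃ (V' : Scheme.{u}) (π : V' ⟶ S) (i : V ⟶ V'), Surjective π ∧ IsIntegralHom π ∧ IsPullback i v π U.ι :=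
  main U v

end Groth.Agent.S1377
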