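import Groth.Statements.S14870
-- import your own Groth.Agent.* helpers here

set_option autoImplicit false
universe u v w
open PLie

namespace Groth.Agent.S14870

theorem map_ad_pow {k : Type u} [CommRing k] {L : Type v} [LieRing L] [LieAlgebra k L]
    {L' : Type w} [LieRing L'] [LieAlgebra k L'] (f : L →ₗ⁅k⁆ L') (x y : L) (n : ℕ) :
    f ((LieAlgebra.ad k L x ^ n) y) = (LieAlgebra.ad k L' (f x) ^ n) (f y) := by
  induction n generalizing y with
  | zero => simp
  | succ n ih =>
    rw [pow_succ, pow_succ, Module.End.mul_apply, Module.End.mul_apply, ih]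
    simp [LieAlgebra.ad_apply]

/-- Let `L` be a Lie algebra over a field of characteristic `p` equipped with a `p`-mapping `φ`, and let
`f : L → L'` be a surjective morphism of Lie algebras onto a Lie algebra with zero centre. Then the
kernel of `f` is stable under `φ`, i.e. it is a `p`-ideal. (The published statement is for
finite-dimensional Lie algebras; no finiteness is assumed in this row.) -/
theorem result
    (k : Type u) [Field k] (p : ℕ) [Fact p.Prime] [CharP k p]
    (L : Type v) [LieRing L] [LieAlgebra k L] (L' : Type w) [LieRing L'] [LieAlgebra k L']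
    (φ : PLie.PMap k p L) (f : L →ₗ⁅k⁆ L') (hf : Function.Surjective f)
    (hz : LieAlgebra.center k L' = ⊥) (x : L) (hx : f x = 0) :
    f (φ x) = 0 := by
  have hc : f (φ x) ∈ LieAlgebra.center k L' := by
    rw [LieModule.mem_maxTrivSubmodule]
    intro y'
    obtain ⟨y, rfl⟩ := hf y'
    have h1 : ⁅φ x, y⁆ = (LieAlgebra.ad k L x ^ p) y := by
      rw [← φ.ad_map x, LieAlgebra.ad_apply]
    have h2 : f ⁅φ x, y⁆ = 0 := by
      rw [h1, map_ad_pow, hx]
      have hp : p ≠ 0 := (Fact.out : p.Prime).ne_zero
      rw [map_zero, zero_pow hp]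
      simp
    rw [← lie_skew, ← LieHom.map_lie, h2, neg_zero]
  rw [hz] at hc
  simpa using hc


end Groth.Agent.S14870
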