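import Groth.Statements.S13771
import Groth.Agent.S14870
-- import your own Groth.Agent.* helpers here

set_option autoImplicit false
universe u v w
open PLie

namespace Groth.Agent.S13771

theorem map_bracketWord {R : Type u} [CommRing R] {L : Type v} [LieRing L] [LieAlgebra R L]
    {L' : Type w} [LieRing L'] [LieAlgebra R L'] (g : L →ₗ⁅R⁆ L') {ι : Type} (x : ι → L) (x₁ : L)
    (l : List ι) :
    g (PLie.bracketWord x x₁ l) = PLie.bracketWord (fun i => g (x i)) (g x₁) l := by
  induction l with
  | nil => rfl
  | cons i l ih =>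
    rw [PLie.bracketWord_cons, PLie.bracketWord_cons, LieHom.map_lie, ih]

theorem map_jacobson {R : Type u} [CommRing R] (p : ℕ) [CharP R p] {L : Type v} [LieRing L]
    [LieAlgebra R L] {L' : Type w} [LieRing L'] [LieAlgebra R L'] (g : L →ₗ⁅R⁆ L') (a b : L) :
    g (PLie.jacobson R p a b) = PLie.jacobson R p (g a) (g b) := by
  unfold PLie.jacobson
  rw [map_sum]
  refine Finset.sum_congr rfl fun t _ => ?_
  rw [map_smul, map_bracketWord]
  congr 2
  funext i
  cases i <;> rfl

theorem bracketWord_zero {L : Type v} [LieRing L] {ι : Type} (x : ι → L) (l : List ι) :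
    PLie.bracketWord x 0 l = 0 := by
  induction l with
  | nil => rfl
  | cons i l ih => rw [PLie.bracketWord_cons, ih, lie_zero]

theorem jacobson_zero {R : Type u} [CommRing R] (p : ℕ) [CharP R p] {L : Type v} [LieRing L]
    [LieAlgebra R L] (a : L) : PLie.jacobson R p a 0 = 0 := by
  unfold PLie.jacobson
  refine Finset.sum_eq_zero fun t _ => ?_
  rw [bracketWord_zero, smul_zero]

theorem pmap_ext {R : Type u} [CommRing R] {p : ℕ} [CharP R p] {L : Type v} [LieRing L]
    [LieAlgebra R L] (ψ ψ' : PLie.PMap R p L) (h : ∀ x, ψ x = ψ' x) : ψ = ψ' := by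
  cases ψ with
  | mk f1 a1 b1 c1 =>
    cases ψ' with
    | mk f2 a2 b2 c2 =>
      have : f1 = f2 := funext h
      subst this
      rfl

theorem existsUnique_of_surjective (R : Type u) [CommRing R] (p : ℕ) [Fact p.Prime] [CharP R p]
    (L₁ : Type v) [LieRing L₁] [LieAlgebra R L₁] (L' : Type w) [LieRing L'] [LieAlgebra R L']
    (φ : PLie.PMap R p L₁) (g : L₁ →ₗ⁅R⁆ L') (hg : Function.Surjective g)
    (hker : ∀ x : L₁, g x = 0 → g (φ x) = 0) :
    ∃! ψ : PLie.PMap R p L', PLie.IsPHom φ ψ g := by
  have key : ∀ x x' : L₁, g x = g x' → g (φ x) = g (φ x') := by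
    intro x x' h
    have hd : g (x - x') = 0 := by rw [map_sub, h, sub_self]
    have h1 : φ x = φ x' + φ (x - x') - PLie.jacobson R p x' (x - x') := by
      have := φ.map_add x' (x - x')
      rw [add_sub_cancel] at this
      exact this
    rw [h1, map_sub, map_add, hker _ hd, map_jacobson, hd, jacobson_zero, add_zero, sub_zero]
  choose s hs using hg
  have hψ : ∀ x, g (φ (s (g x))) = g (φ x) := fun x => key _ _ (hs (g x))
  let ψ : PLie.PMap R p L' :=
    { toFun := fun y => g (φ (s y))
      map_smul := by
        intro c y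
        have h1 : g (φ (s (c • y))) = g (φ (c • s y)) := by
          apply key
          rw [hs, map_smul, hs]
        rw [h1]
        have h2 : φ (c • s y) = c ^ p • φ (s y) := φ.map_smul c (s y)
        rw [h2, map_smul]
      ad_map := by
        intro y
        ext z
        obtain ⟨w, rfl⟩ : ∃ w, g w = z := ⟨s z, hs z⟩
        rw [LieAlgebra.ad_apply, ← LieHom.map_lie]
        have h1 : ⁅φ (s y), w⁆ = (LieAlgebra.ad R L₁ (s y) ^ p) w := by
          rw [← φ.ad_map (s y), LieAlgebra.ad_apply]
        rw [h1, Groth.Agent.S14870.map_ad_pow, hs]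
      map_add := by
        intro y y'
        have h1 : g (φ (s (y + y'))) = g (φ (s y + s y')) := by
          apply key
          rw [hs, map_add, hs, hs]
        rw [h1]
        have h2 : φ (s y + s y') = φ (s y) + φ (s y') - PLie.jacobson R p (s y) (s y') :=
          φ.map_add _ _
        rw [h2, map_sub, map_add, map_jacobson, hs, hs] }
  refine ⟨ψ, ?_, ?_⟩
  · intro x
    exact (hψ x).symm
  · intro ψ' hψ'
    apply pmap_ext
    intro y
    have := hψ' (s y)
    rw [hs] at this
    exact this.symm

/-- Let R be a commutative ring of prime characteristic p, L₁ and L₂ Lie algebras over R, φ a p-mapping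
on L₁ and f : L₁ → L₂ a morphism of Lie algebras whose kernel is stable under φ (a p-ideal). Then
the image f(L₁), a Lie subalgebra of L₂, carries exactly one p-mapping ψ for which the corestriction
of f to its image is a morphism of p-Lie algebras, i.e. ψ (f x) = f (φ x) for all x. -/
theorem result (R : Type u) [CommRing R] (p : ℕ) [Fact p.Prime] [CharP R p]
    (L₁ : Type v) [LieRing L₁] [LieAlgebra R L₁] (L₂ : Type w) [LieRing L₂] [LieAlgebra R L₂]
    (φ : PLie.PMap R p L₁) (f : L₁ →ₗ⁅R⁆ L₂) (hker : ∀ x : L₁, f x = 0 → f (φ x) = 0) :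
    ∃! ψ : PLie.PMap R p f.range, PLie.IsPHom φ ψ f.rangeRestrict := by
  apply existsUnique_of_surjective R p L₁ f.range φ f.rangeRestrict f.surjective_rangeRestrict
  intro x hx
  have h1 : f x = 0 := by
    have := congrArg Subtype.val hx
    simpa using this
  apply Subtype.ext
  simpa using hker x h1


end Groth.Agent.S13771
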