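import Groth.Statements.S13775
-- import your own Groth.Agent.* helpers here

set_option autoImplicit false
universe u v
open PLie

namespace Groth.Agent.S13775

/-- Let R be a commutative ring of prime characteristic p and L a Lie algebra over R, free as a module
with basis x = bs 0, y = bs 1, z = bs 2 and brackets [x,y] = y, [x,z] = y + z, [y,z] = 0. Then L
carries no p-mapping. (The published statement is the corresponding entry of the classification
table of three-dimensional Lie algebras over an algebraically closed field of characteristic p; this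
row states it over every commutative ring of characteristic p.) -/
theorem result (R : Type u) [CommRing R] (p : ℕ) [Fact p.Prime] [CharP R p]
    (L : Type v) [LieRing L] [LieAlgebra R L] (bs : Module.Basis (Fin 3) R L)
    (hxy : ⁅bs 0, bs 1⁆ = bs 1) (hxz : ⁅bs 0, bs 2⁆ = bs 1 + bs 2) (hyz : ⁅bs 1, bs 2⁆ = 0) :
    IsEmpty (PLie.PMap R p L) := by
  refine ⟨fun φ => ?_⟩
  have hR : Nontrivial R := CharP.nontrivial_of_char_ne_one (R := R) (Fact.out : p.Prime).ne_one
  -- (ad x)^n z = n • y + z and (ad x)^n y = y
  have hy : ∀ n : ℕ, (LieAlgebra.ad R L (bs 0) ^ n) (bs 1) = bs 1 := by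
    intro n
    induction n with
    | zero => simp
    | succ n ih => rw [pow_succ', Module.End.mul_apply, ih, LieAlgebra.ad_apply, hxy]
  have hz : ∀ n : ℕ, (LieAlgebra.ad R L (bs 0) ^ n) (bs 2) = (n : R) • bs 1 + bs 2 := by
    intro n
    induction n with
    | zero => simp
    | succ n ih =>
      rw [pow_succ', Module.End.mul_apply, ih, LieAlgebra.ad_apply, lie_add, lie_smul, hxy, hxz]
      push_cast
      module
  have hzp : (LieAlgebra.ad R L (bs 0) ^ p) (bs 2) = bs 2 := by
    rw [hz, CharP.cast_eq_zero, zero_smul, zero_add]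
  -- write φ x in the basis
  set w := φ (bs 0) with hw
  have had : LieAlgebra.ad R L w = LieAlgebra.ad R L (bs 0) ^ p := φ.ad_map (bs 0)
  have hwexp : w = bs.repr w 0 • bs 0 + bs.repr w 1 • bs 1 + bs.repr w 2 • bs 2 := by
    have := bs.sum_repr w
    rw [Fin.sum_univ_three] at this
    exact this.symm
  have h1 : ⁅w, bs 2⁆ = bs 2 := by
    rw [← LieAlgebra.ad_apply (R := R), had, hzp]
  rw [hwexp, add_lie, add_lie, smul_lie, smul_lie, smul_lie, hxz, hyz, lie_self] at h1
  -- coefficients
  have h2 := congrArg (fun v => bs.repr v) h1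
  simp only [map_add, map_smul, Module.Basis.repr_self, smul_zero, add_zero] at h2
  have h3 := congrArg (fun v => v 1) h2
  have h4 := congrArg (fun v => v 2) h2
  simp at h3 h4
  rw [h3] at h4
  exact zero_ne_one h4

end Groth.Agent.S13775
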