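import Groth.Statements.S13776
import Mathlib
import Groth.Agent.Lib.Helper13.Jac3
-- import your own Groth.Agent.* helpers here

set_option autoImplicit false
universe u v
open PLie

namespace Groth.Agent.S13776

/-- Let R be a commutative ring of prime characteristic p, t ∈ R, and L a Lie algebra over R, free as a
module with basis x = bs 0, y = bs 1, z = bs 2 and brackets [x,y] = y, [x,z] = t • z, [y,z] = 0.
Then L carries a p-mapping if and only if t ^ p = t. (The published statement is the corresponding
entry of the classification table over an algebraically closed field of characteristic p, where the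
condition reads: t lies in the prime field; this row states it over every commutative ring of
characteristic p.) -/
theorem result (R : Type u) [CommRing R] (p : ℕ) [Fact p.Prime] [CharP R p] (t : R)
    (L : Type v) [LieRing L] [LieAlgebra R L] (bs : Module.Basis (Fin 3) R L)
    (hxy : ⁅bs 0, bs 1⁆ = bs 1) (hxz : ⁅bs 0, bs 2⁆ = t • bs 2) (hyz : ⁅bs 1, bs 2⁆ = 0) :
    Nonempty (PLie.PMap R p L) ↔ t ^ p = t := by
  have hprime : p.Prime := Fact.out
  have hp2 : 2 ≤ p := hprime.two_le
  have hyx : ⁅bs 1, bs 0⁆ = -bs 1 := by rw [← lie_skew, hxy]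
  have hzx : ⁅bs 2, bs 0⁆ = -(t • bs 2) := by rw [← lie_skew, hxz]
  have hzy : ⁅bs 2, bs 1⁆ = 0 := by rw [← lie_skew, hyz, neg_zero]
  have hxpow : ∀ n : ℕ, (LieAlgebra.ad R L (bs 0) ^ (n + 1)) (bs 0) = 0 ∧
      (LieAlgebra.ad R L (bs 0) ^ (n + 1)) (bs 1) = bs 1 ∧
      (LieAlgebra.ad R L (bs 0) ^ (n + 1)) (bs 2) = t ^ (n + 1) • bs 2 := by
    intro n
    induction n with
    | zero => simp [LieAlgebra.ad_apply, hxy, hxz]
    | succ n ih =>
      obtain ⟨h0, h1, h2⟩ := ih
      refine ⟨?_, ?_, ?_⟩
      · rw [pow_succ', Module.End.mul_apply, h0, map_zero]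
      · rw [pow_succ', Module.End.mul_apply, h1, LieAlgebra.ad_apply, hxy]
      · rw [pow_succ', Module.End.mul_apply, h2, map_smul, LieAlgebra.ad_apply, hxz, smul_smul,
          ← pow_succ]
  have hp1 : p - 1 + 1 = p := Nat.sub_add_cancel hprime.one_le
  have hxp := hxpow (p - 1)
  rw [hp1] at hxp
  constructor
  · rintro ⟨φ⟩
    have had := φ.ad_map (bs 0)
    set w := φ.toFun (bs 0) with hw
    have hwsum : w = bs.repr w 0 • bs 0 + bs.repr w 1 • bs 1 + bs.repr w 2 • bs 2 := by
      conv_lhs => rw [← bs.sum_repr w, Fin.sum_univ_three]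
    have h1 : ⁅w, bs 1⁆ = bs 1 := by
      have := congrArg (fun T : Module.End R L => T (bs 1)) had
      simp only [LieAlgebra.ad_apply] at this
      rw [this, hxp.2.1]
    have h2 : ⁅w, bs 2⁆ = t ^ p • bs 2 := by
      have := congrArg (fun T : Module.End R L => T (bs 2)) had
      simp only [LieAlgebra.ad_apply] at this
      rw [this, hxp.2.2]
    have e1 : ⁅w, bs 1⁆ = bs.repr w 0 • bs 1 := by
      conv_lhs => rw [hwsum]
      simp [add_lie, smul_lie, hxy, hzy]
    have e2 : ⁅w, bs 2⁆ = (bs.repr w 0 * t) • bs 2 := by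
      conv_lhs => rw [hwsum]
      simp [add_lie, smul_lie, hxz, hyz, smul_smul]
    have ha : bs.repr w 0 = 1 := by
      have := congrArg (fun v => bs.repr v 1) (e1.symm.trans h1)
      simpa using this
    have := congrArg (fun v => bs.repr v 2) (e2.symm.trans h2)
    simp [ha] at this
    exact this.symm
  · intro ht
    have hy2 : LieAlgebra.ad R L (bs 1) ^ 2 = 0 := by
      refine bs.ext fun i => ?_
      fin_cases i
      · simp [pow_succ, Module.End.mul_apply, LieAlgebra.ad_apply, hyx]
      · simp [pow_succ, Module.End.mul_apply, LieAlgebra.ad_apply]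
      · simp [pow_succ, Module.End.mul_apply, LieAlgebra.ad_apply, hyz]
    have hz2 : LieAlgebra.ad R L (bs 2) ^ 2 = 0 := by
      refine bs.ext fun i => ?_
      fin_cases i
      · simp [pow_succ, Module.End.mul_apply, LieAlgebra.ad_apply, hzx]
      · simp [pow_succ, Module.End.mul_apply, LieAlgebra.ad_apply, hzy]
      · simp [pow_succ, Module.End.mul_apply, LieAlgebra.ad_apply]
    have hpow0 : ∀ (T : Module.End R L), T ^ 2 = 0 → T ^ p = 0 := by
      intro T hT
      have : p = 2 + (p - 2) := by omega
      rw [this, pow_add, hT, zero_mul]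
    let y : Fin 3 → L := ![bs 0, 0, 0]
    have hy : ∀ i : Fin 3, LieAlgebra.ad R L (bs i) ^ p = LieAlgebra.ad R L (y i) := by
      intro i
      fin_cases i
      · change LieAlgebra.ad R L (bs 0) ^ p = LieAlgebra.ad R L (bs 0)
        refine bs.ext fun j => ?_
        fin_cases j
        · simp [hxp.1, LieAlgebra.ad_apply]
        · simp [hxp.2.1, LieAlgebra.ad_apply, hxy]
        · simp [hxp.2.2, LieAlgebra.ad_apply, hxz, ht]
      · change LieAlgebra.ad R L (bs 1) ^ p = LieAlgebra.ad R L 0
        rw [map_zero]; exact hpow0 _ hy2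
      · change LieAlgebra.ad R L (bs 2) ^ p = LieAlgebra.ad R L 0
        rw [map_zero]; exact hpow0 _ hz2
    obtain ⟨φ, _, _⟩ := Groth.Agent.Lib.helper13.Jac.existsUnique_pmap_basis bs p y hy
    exact ⟨φ⟩

end Groth.Agent.S13776
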