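import Groth.Statements.S13778
import Mathlib
import Groth.Agent.Lib.Helper13.Jac3
-- import your own Groth.Agent.* helpers here

set_option autoImplicit false
set_option linter.unusedSimpArgs false
set_option linter.unnecessarySeqFocus false
set_option linter.unusedTactic false
set_option linter.unreachableTactic false
set_option linter.unusedSectionVars false
set_option linter.unusedVariables false
universe u v
open PLie

namespace Groth.Agent.S13778

section Aux
open DualNumber

variable {K : Type u} [Field K] {L : Type v} [LieRing L] [LieAlgebra (DualNumber K) L]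
  (bs : Module.Basis (Fin 3) (DualNumber K) L)

/-- equality in `L` can be checked on the `K`-coordinates -/
theorem coord_eq {u v : L}
    (h : ∀ j : Fin 3, (TrivSqZeroExt.fst (bs.repr u j) = TrivSqZeroExt.fst (bs.repr v j)) ∧
      (TrivSqZeroExt.snd (bs.repr u j) = TrivSqZeroExt.snd (bs.repr v j))) : u = v := by
  apply bs.repr.injective
  ext j
  · exact (h j).1
  · exact (h j).2

theorem lin_ext {F G : L →ₗ[DualNumber K] L} (h0 : F (bs 0) = G (bs 0)) (h1 : F (bs 1) = G (bs 1))
    (h2 : F (bs 2) = G (bs 2)) : F = G := by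
  refine bs.ext fun j => ?_
  fin_cases j
  · exact h0
  · exact h1
  · exact h2

variable (t a b c d e f g h i : K)
  (hxy : ⁅bs 0, bs 1⁆ = (a • ε : DualNumber K) • bs 0 + (1 + b • ε : DualNumber K) • bs 1 + (c • ε : DualNumber K) • bs 2)
  (hxz : ⁅bs 0, bs 2⁆ = (d • ε : DualNumber K) • bs 0 + (e • ε : DualNumber K) • bs 1 +
      (algebraMap K (DualNumber K) t + f • ε) • bs 2)
  (hyz : ⁅bs 1, bs 2⁆ = (g • ε : DualNumber K) • bs 0 + (h • ε : DualNumber K) • bs 1 + (i • ε : DualNumber K) • bs 2)

include hxy in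
theorem hyx : ⁅bs 1, bs 0⁆ = -((a • ε : DualNumber K) • bs 0 + (1 + b • ε : DualNumber K) • bs 1 + (c • ε : DualNumber K) • bs 2) := by
  rw [← lie_skew, hxy]

include hxz in
theorem hzx : ⁅bs 2, bs 0⁆ = -((d • ε : DualNumber K) • bs 0 + (e • ε : DualNumber K) • bs 1 +
      (algebraMap K (DualNumber K) t + f • ε) • bs 2) := by
  rw [← lie_skew, hxz]

include hyz in
theorem hzy : ⁅bs 2, bs 1⁆ = -((g • ε : DualNumber K) • bs 0 + (h • ε : DualNumber K) • bs 1 + (i • ε : DualNumber K) • bs 2) := by
  rw [← lie_skew, hyz]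

include hxy hxz hyz

/-- the Jacobi identity forces `d = t h` -/
theorem jacobi_d : d = t * h := by
  have hJ := lie_jacobi (bs 0) (bs 1) (bs 2)
  rw [hyz, hzx bs t d e f hxz, hxy] at hJ
  simp only [lie_add, lie_smul, lie_neg, lie_self, hxy, hxz, hyz, hyx bs a b c hxy,
    hzx bs t d e f hxz, hzy bs g h i hyz] at hJ
  have h1 := congrArg (fun u => TrivSqZeroExt.snd (bs.repr u 1)) hJ
  simp [TrivSqZeroExt.algebraMap_eq_inl] at h1
  linear_combination h1

theorem adY_cube : LieAlgebra.ad (DualNumber K) L (bs 1) ^ (1 + 1 + 1) = 0 := by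
  apply lin_ext bs
  ·
    simp only [pow_succ, pow_zero, one_mul, Module.End.mul_apply, LieAlgebra.ad_apply,
      LinearMap.zero_apply, map_smul, map_neg, LinearMap.smul_apply, LinearMap.neg_apply, smul_lie,
      neg_lie, lie_add, lie_smul, lie_neg, lie_self, lie_zero, smul_zero, neg_zero, hxy, hxz, hyz,
      hyx bs a b c hxy, hzx bs t d e f hxz, hzy bs g h i hyz]
    try (apply coord_eq bs; intro j; fin_cases j <;> (refine ⟨?_, ?_⟩ <;> simp [TrivSqZeroExt.algebraMap_eq_inl] <;> ring))
  ·
    simp only [pow_succ, pow_zero, one_mul, Module.End.mul_apply, LieAlgebra.ad_apply,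
      LinearMap.zero_apply, map_smul, map_neg, LinearMap.smul_apply, LinearMap.neg_apply, smul_lie,
      neg_lie, lie_add, lie_smul, lie_neg, lie_self, lie_zero, smul_zero, neg_zero, hxy, hxz, hyz,
      hyx bs a b c hxy, hzx bs t d e f hxz, hzy bs g h i hyz]
    try (apply coord_eq bs; intro j; fin_cases j <;> (refine ⟨?_, ?_⟩ <;> simp [TrivSqZeroExt.algebraMap_eq_inl] <;> ring))
  ·
    simp only [pow_succ, pow_zero, one_mul, Module.End.mul_apply, LieAlgebra.ad_apply,
      LinearMap.zero_apply, map_smul, map_neg, LinearMap.smul_apply, LinearMap.neg_apply, smul_lie,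
      neg_lie, lie_add, lie_smul, lie_neg, lie_self, lie_zero, smul_zero, neg_zero, hxy, hxz, hyz,
      hyx bs a b c hxy, hzx bs t d e f hxz, hzy bs g h i hyz]
    try (apply coord_eq bs; intro j; fin_cases j <;> (refine ⟨?_, ?_⟩ <;> simp [TrivSqZeroExt.algebraMap_eq_inl] <;> ring))

theorem adZ_cube : LieAlgebra.ad (DualNumber K) L (bs 2) ^ (1 + 1 + 1) = 0 := by
  apply lin_ext bs
  ·
    simp only [pow_succ, pow_zero, one_mul, Module.End.mul_apply, LieAlgebra.ad_apply,
      LinearMap.zero_apply, map_smul, map_neg, LinearMap.smul_apply, LinearMap.neg_apply, smul_lie,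
      neg_lie, lie_add, lie_smul, lie_neg, lie_self, lie_zero, smul_zero, neg_zero, hxy, hxz, hyz,
      hyx bs a b c hxy, hzx bs t d e f hxz, hzy bs g h i hyz]
    try (apply coord_eq bs; intro j; fin_cases j <;> (refine ⟨?_, ?_⟩ <;> simp [TrivSqZeroExt.algebraMap_eq_inl] <;> ring))
  ·
    simp only [pow_succ, pow_zero, one_mul, Module.End.mul_apply, LieAlgebra.ad_apply,
      LinearMap.zero_apply, map_smul, map_neg, LinearMap.smul_apply, LinearMap.neg_apply, smul_lie,
      neg_lie, lie_add, lie_smul, lie_neg, lie_self, lie_zero, smul_zero, neg_zero, hxy, hxz, hyz,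
      hyx bs a b c hxy, hzx bs t d e f hxz, hzy bs g h i hyz]
    try (apply coord_eq bs; intro j; fin_cases j <;> (refine ⟨?_, ?_⟩ <;> simp [TrivSqZeroExt.algebraMap_eq_inl] <;> ring))
  ·
    simp only [pow_succ, pow_zero, one_mul, Module.End.mul_apply, LieAlgebra.ad_apply,
      LinearMap.zero_apply, map_smul, map_neg, LinearMap.smul_apply, LinearMap.neg_apply, smul_lie,
      neg_lie, lie_add, lie_smul, lie_neg, lie_self, lie_zero, smul_zero, neg_zero, hxy, hxz, hyz,
      hyx bs a b c hxy, hzx bs t d e f hxz, hzy bs g h i hyz]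
    try (apply coord_eq bs; intro j; fin_cases j <;> (refine ⟨?_, ?_⟩ <;> simp [TrivSqZeroExt.algebraMap_eq_inl] <;> ring))

theorem adY_sq : g = 0 → LieAlgebra.ad (DualNumber K) L (bs 1) ^ (1 + 1) =
      LieAlgebra.ad (DualNumber K) L (-((a • ε : DualNumber K) • bs 1)) := by
  intro hg
  apply lin_ext bs
  ·
    simp only [pow_succ, pow_zero, one_mul, Module.End.mul_apply, LieAlgebra.ad_apply,
      LinearMap.zero_apply, map_smul, map_neg, LinearMap.smul_apply, LinearMap.neg_apply, smul_lie,
      neg_lie, lie_add, lie_smul, lie_neg, lie_self, lie_zero, smul_zero, neg_zero, hxy, hxz, hyz,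
      hyx bs a b c hxy, hzx bs t d e f hxz, hzy bs g h i hyz]
    try (apply coord_eq bs; intro j; fin_cases j <;> (refine ⟨?_, ?_⟩ <;> simp [TrivSqZeroExt.algebraMap_eq_inl, hg] <;> ring))
  ·
    simp only [pow_succ, pow_zero, one_mul, Module.End.mul_apply, LieAlgebra.ad_apply,
      LinearMap.zero_apply, map_smul, map_neg, LinearMap.smul_apply, LinearMap.neg_apply, smul_lie,
      neg_lie, lie_add, lie_smul, lie_neg, lie_self, lie_zero, smul_zero, neg_zero, hxy, hxz, hyz,
      hyx bs a b c hxy, hzx bs t d e f hxz, hzy bs g h i hyz]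
    try (apply coord_eq bs; intro j; fin_cases j <;> (refine ⟨?_, ?_⟩ <;> simp [TrivSqZeroExt.algebraMap_eq_inl, hg] <;> ring))
  ·
    simp only [pow_succ, pow_zero, one_mul, Module.End.mul_apply, LieAlgebra.ad_apply,
      LinearMap.zero_apply, map_smul, map_neg, LinearMap.smul_apply, LinearMap.neg_apply, smul_lie,
      neg_lie, lie_add, lie_smul, lie_neg, lie_self, lie_zero, smul_zero, neg_zero, hxy, hxz, hyz,
      hyx bs a b c hxy, hzx bs t d e f hxz, hzy bs g h i hyz]
    try (apply coord_eq bs; intro j; fin_cases j <;> (refine ⟨?_, ?_⟩ <;> simp [TrivSqZeroExt.algebraMap_eq_inl, hg] <;> ring))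

theorem adZ_sq : g = 0 → LieAlgebra.ad (DualNumber K) L (bs 2) ^ (1 + 1) =
      LieAlgebra.ad (DualNumber K) L (-((d • ε : DualNumber K) • bs 2)) := by
  intro hg
  apply lin_ext bs
  ·
    simp only [pow_succ, pow_zero, one_mul, Module.End.mul_apply, LieAlgebra.ad_apply,
      LinearMap.zero_apply, map_smul, map_neg, LinearMap.smul_apply, LinearMap.neg_apply, smul_lie,
      neg_lie, lie_add, lie_smul, lie_neg, lie_self, lie_zero, smul_zero, neg_zero, hxy, hxz, hyz,
      hyx bs a b c hxy, hzx bs t d e f hxz, hzy bs g h i hyz]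
    try (apply coord_eq bs; intro j; fin_cases j <;> (refine ⟨?_, ?_⟩ <;> simp [TrivSqZeroExt.algebraMap_eq_inl, hg] <;> ring))
  ·
    simp only [pow_succ, pow_zero, one_mul, Module.End.mul_apply, LieAlgebra.ad_apply,
      LinearMap.zero_apply, map_smul, map_neg, LinearMap.smul_apply, LinearMap.neg_apply, smul_lie,
      neg_lie, lie_add, lie_smul, lie_neg, lie_self, lie_zero, smul_zero, neg_zero, hxy, hxz, hyz,
      hyx bs a b c hxy, hzx bs t d e f hxz, hzy bs g h i hyz]
    try (apply coord_eq bs; intro j; fin_cases j <;> (refine ⟨?_, ?_⟩ <;> simp [TrivSqZeroExt.algebraMap_eq_inl, hg] <;> ring))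
  ·
    simp only [pow_succ, pow_zero, one_mul, Module.End.mul_apply, LieAlgebra.ad_apply,
      LinearMap.zero_apply, map_smul, map_neg, LinearMap.smul_apply, LinearMap.neg_apply, smul_lie,
      neg_lie, lie_add, lie_smul, lie_neg, lie_self, lie_zero, smul_zero, neg_zero, hxy, hxz, hyz,
      hyx bs a b c hxy, hzx bs t d e f hxz, hzy bs g h i hyz]
    try (apply coord_eq bs; intro j; fin_cases j <;> (refine ⟨?_, ?_⟩ <;> simp [TrivSqZeroExt.algebraMap_eq_inl, hg] <;> ring))

theorem adX_pow_x (n : ℕ) : (LieAlgebra.ad (DualNumber K) L (bs 0) ^ (n + 1)) (bs 0) = 0 := by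
  rw [pow_succ, Module.End.mul_apply, LieAlgebra.ad_apply, lie_self, map_zero]

theorem adX_pow_y (G : ℕ → K) (hG1 : G 1 = 1) (hG : ∀ n, G (n + 1) = t * G n + 1) (n : ℕ) :
    (LieAlgebra.ad (DualNumber K) L (bs 0) ^ (n + 1)) (bs 1) =
      (a • ε : DualNumber K) • bs 0 + (1 + (((n + 1 : ℕ) : K) * b) • ε : DualNumber K) • bs 1 +
        ((c * G (n + 1)) • ε : DualNumber K) • bs 2 := by
  induction n with
  | zero =>
    rw [zero_add, pow_one, LieAlgebra.ad_apply, hxy, hG1, mul_one, Nat.cast_one, one_mul]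
  | succ n ih =>
    rw [pow_succ', Module.End.mul_apply, ih, hG (n + 1)]
    simp only [LieAlgebra.ad_apply, lie_add, lie_smul, lie_self, smul_zero, hxy, hxz]
    apply coord_eq bs
    intro j
    fin_cases j <;> (refine ⟨?_, ?_⟩ <;> simp [TrivSqZeroExt.algebraMap_eq_inl] <;> ring)

theorem adX_pow_z (G : ℕ → K) (hG1 : G 1 = 1) (hG : ∀ n, G (n + 1) = G n + t ^ n) (n : ℕ) :
    (LieAlgebra.ad (DualNumber K) L (bs 0) ^ (n + 1)) (bs 2) =
      ((d * t ^ n) • ε : DualNumber K) • bs 0 + ((e * G (n + 1)) • ε : DualNumber K) • bs 1 +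
        (algebraMap K (DualNumber K) (t ^ (n + 1)) + (f * ((n + 1 : ℕ) : K) * t ^ n) • ε) • bs 2 := by
  induction n with
  | zero =>
    rw [zero_add, pow_one, LieAlgebra.ad_apply, hxz, hG1]
    simp only [mul_one, Nat.cast_one, pow_zero, pow_one, zero_add]
  | succ n ih =>
    rw [pow_succ', Module.End.mul_apply, ih, hG (n + 1)]
    simp only [LieAlgebra.ad_apply, lie_add, lie_smul, lie_self, smul_zero, hxy, hxz]
    apply coord_eq bs
    intro j
    fin_cases j <;> (refine ⟨?_, ?_⟩ <;> simp [TrivSqZeroExt.algebraMap_eq_inl] <;> ring)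

end Aux

end Groth.Agent.S13778

namespace Groth.Agent.S13778

open DualNumber in
/-- Let K be a field of prime characteristic p, K[ε] the ring of dual numbers (taken with its
characteristic-p structure), t ∈ K with t ^ p = t (an element of the prime field), and a, …, i ∈ K.
Let L be a Lie algebra over K[ε], free as a module with basis x = bs 0, y = bs 1, z = bs 2 and
brackets [x,y] = aε x + (1 + bε) y + cε z, [x,z] = dε x + eε y + (t + fε) z, [y,z] = gε x + hε y +
iε z. Then L carries a p-mapping over K[ε] if and only if b t = f, c = e = 0 when t = 1, and g = 0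
when p = 2. (The published statement determines the singular locus of the restrictable locus in the
centreless stratum of the moduli scheme of based three-dimensional Lie algebras, for t non-zero, and
the rank-one-centre stratum treats t = 0; this row states the restrictability criterion for the
first-order deformations of l_t that the proofs compute, over any field of characteristic p in place
of the prime field and for every t in the prime field.) -/
theorem result (K : Type u) [Field K] (p : ℕ) [Fact p.Prime] [CharP K p]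
    [CharP (DualNumber K) p] (t a b c d e f g h i : K) (ht : t ^ p = t)
    (L : Type v) [LieRing L] [LieAlgebra (DualNumber K) L] (bs : Module.Basis (Fin 3) (DualNumber K) L)
    (hxy : ⁅bs 0, bs 1⁆ = (a • ε : DualNumber K) • bs 0 + (1 + b • ε : DualNumber K) • bs 1 + (c • ε : DualNumber K) • bs 2)
    (hxz : ⁅bs 0, bs 2⁆ = (d • ε : DualNumber K) • bs 0 + (e • ε : DualNumber K) • bs 1 +
      (algebraMap K (DualNumber K) t + f • ε) • bs 2)
    (hyz : ⁅bs 1, bs 2⁆ = (g • ε : DualNumber K) • bs 0 + (h • ε : DualNumber K) • bs 1 + (i • ε : DualNumber K) • bs 2) :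
    Nonempty (PLie.PMap (DualNumber K) p L) ↔ (b * t = f ∧ (t = 1 → c = 0 ∧ e = 0) ∧ (p = 2 → g = 0)) := by
  classical
  have hp := (Fact.out : p.Prime)
  have hd : d = t * h := jacobi_d bs t a b c d e f g h i hxy hxz hyz
  obtain ⟨G, hGdef⟩ : ∃ G : ℕ → K, G = fun m => ∑ j ∈ Finset.range m, t ^ j := ⟨_, rfl⟩
  have hG1 : G 1 = 1 := by simp [hGdef]
  have hGa : ∀ n, G (n + 1) = t * G n + 1 := fun n => by rw [hGdef]; exact geom_sum_succ
  have hGb : ∀ n, G (n + 1) = G n + t ^ n := fun n => by
    rw [hGdef]; exact Finset.sum_range_succ _ _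
  obtain ⟨m, hm⟩ : ∃ m, p = m + 1 := ⟨p - 1, (Nat.succ_pred_eq_of_pos hp.pos).symm⟩
  subst hm
  have hcast : (((m + 1 : ℕ) : K)) = 0 := CharP.cast_eq_zero K (m + 1)
  have hGp : t ≠ 1 → G (m + 1) = 1 := by
    intro ht1
    have h1 := mul_geom_sum t (m + 1)
    rw [ht] at h1
    have h2 : t - 1 ≠ 0 := sub_ne_zero.2 ht1
    rw [hGdef]
    exact mul_left_cancel₀ h2 (by rw [mul_one]; exact h1)
  have hGp1 : t = 1 → G (m + 1) = 0 := by
    intro ht1
    rw [hGdef]
    simp only [ht1, one_pow, Finset.sum_const, Finset.card_range, nsmul_eq_mul, mul_one]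
    exact hcast
  have hXp := adX_pow_x bs t a b c d e f g h i hxy hxz hyz m
  have hYp := adX_pow_y bs t a b c d e f g h i hxy hxz hyz G hG1 hGa m
  have hZp := adX_pow_z bs t a b c d e f g h i hxy hxz hyz G hG1 hGb m
  rw [hcast, zero_mul, zero_smul, add_zero, one_smul] at hYp
  rw [hcast, mul_zero, zero_mul, zero_smul, add_zero, ht] at hZp
  constructor
  · rintro ⟨φ⟩
    have hX := φ.ad_map (bs 0)
    obtain ⟨α, β, γ, hw⟩ : ∃ α β γ : DualNumber K,
        φ.toFun (bs 0) = α • bs 0 + β • bs 1 + γ • bs 2 :=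
      ⟨_, _, _, by rw [← Fin.sum_univ_three (fun j => bs.repr _ j • bs j), bs.sum_repr]⟩
    have EX := congrArg (fun F => F (bs 0)) hX
    have EY := congrArg (fun F => F (bs 1)) hX
    have EZ := congrArg (fun F => F (bs 2)) hX
    simp only [hXp, hYp, hZp] at EX EY EZ
    simp only [LieAlgebra.ad_apply, hw, add_lie, smul_lie,
      lie_add, lie_smul, lie_neg, lie_self, lie_zero, smul_zero, neg_zero, hxy, hxz, hyz,
      hyx bs a b c hxy, hzx bs t d e f hxz, hzy bs g h i hyz] at EX EY EZ
    have e1 := congrArg (fun u => TrivSqZeroExt.fst (bs.repr u 1)) EX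
    have e2 := congrArg (fun u => TrivSqZeroExt.fst (bs.repr u 2)) EX
    have e3 := congrArg (fun u => TrivSqZeroExt.fst (bs.repr u 1)) EY
    have e4 := congrArg (fun u => TrivSqZeroExt.snd (bs.repr u 1)) EY
    have e5 := congrArg (fun u => TrivSqZeroExt.snd (bs.repr u 2)) EY
    have e6 := congrArg (fun u => TrivSqZeroExt.snd (bs.repr u 2)) EZ
    have e7 := congrArg (fun u => TrivSqZeroExt.snd (bs.repr u 1)) EZ
    simp [TrivSqZeroExt.algebraMap_eq_inl] at e1 e2 e3 e4 e5 e6 e7
    have hβ : TrivSqZeroExt.fst β = 0 := e1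
    have hγ : TrivSqZeroExt.fst γ * t = 0 := mul_eq_zero.2 e2
    rw [e3] at e4 e5 e6 e7
    rw [hβ] at e6 e7
    refine ⟨?_, ?_, ?_⟩
    · linear_combination t * e4 - e6 + h * hγ
    · intro ht1
      rw [hGp1 ht1] at e5 e7
      rw [ht1, mul_one] at hγ
      rw [hγ] at e5
      constructor
      · linear_combination e5
      · linear_combination e7
    · intro hm2
      have hm1 : m = 1 := by omega
      subst hm1
      have hY := φ.ad_map (bs 1)
      obtain ⟨α', β', γ', hw'⟩ : ∃ α β γ : DualNumber K,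
          φ.toFun (bs 1) = α • bs 0 + β • bs 1 + γ • bs 2 :=
        ⟨_, _, _, by rw [← Fin.sum_univ_three (fun j => bs.repr _ j • bs j), bs.sum_repr]⟩
      have EX' := congrArg (fun F => F (bs 0)) hY
      have EY' := congrArg (fun F => F (bs 1)) hY
      have EZ' := congrArg (fun F => F (bs 2)) hY
      simp only [pow_succ, pow_zero, one_mul, Module.End.mul_apply, LieAlgebra.ad_apply, hw',
        add_lie, smul_lie, lie_add, lie_smul, lie_neg, lie_self, lie_zero, smul_zero, neg_zero,
        hxy, hxz, hyz,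
      hyx bs a b c hxy, hzx bs t d e f hxz, hzy bs g h i hyz] at EX' EY' EZ'
      have e1' := congrArg (fun u => TrivSqZeroExt.snd (bs.repr u 1)) EZ'
      have e2' := congrArg (fun u => TrivSqZeroExt.fst (bs.repr u 1)) EY'
      have e3' := congrArg (fun u => TrivSqZeroExt.fst (bs.repr u 1)) EX'
      simp [TrivSqZeroExt.algebraMap_eq_inl] at e1' e2' e3'
      rw [e2', e3'] at e1'
      linear_combination e1'
  · rintro ⟨hbt, h1, h2⟩
    have hcG : c * G (m + 1) = c := by
      by_cases ht1 : t = 1
      · rw [(h1 ht1).1, zero_mul]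
      · rw [hGp ht1, mul_one]
    have heG : e * G (m + 1) = e := by
      by_cases ht1 : t = 1
      · rw [(h1 ht1).2, zero_mul]
      · rw [hGp ht1, mul_one]
    have hdt : d * t ^ m = d := by
      by_cases ht0 : t = 0
      · rw [hd, ht0, zero_mul, zero_mul]
      · have h3 : t ^ m * t = 1 * t := by rw [← pow_succ, ht, one_mul]
        rw [mul_right_cancel₀ ht0 h3, mul_one]
    rw [hcG] at hYp
    rw [hdt, heG] at hZp
    have hXall : LieAlgebra.ad (DualNumber K) L (bs 0) ^ (m + 1) =
        LieAlgebra.ad (DualNumber K) L ((1 - b • ε : DualNumber K) • bs 0) := by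
      apply lin_ext bs
      · rw [hXp, LieAlgebra.ad_apply, smul_lie, lie_self, smul_zero]
      · rw [hYp, LieAlgebra.ad_apply, smul_lie, hxy]
        apply coord_eq bs
        intro j
        fin_cases j <;> (refine ⟨?_, ?_⟩ <;> simp [TrivSqZeroExt.algebraMap_eq_inl] <;> ring)
      · rw [hZp, LieAlgebra.ad_apply, smul_lie, hxz, ← hbt]
        apply coord_eq bs
        intro j
        fin_cases j <;> (refine ⟨?_, ?_⟩ <;> simp [TrivSqZeroExt.algebraMap_eq_inl] <;> ring)
    by_cases hm2 : m + 1 = 2
    · have hm1 : m = 1 := by omega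
      subst hm1
      have hg := h2 rfl
      have hY2 := adY_sq bs t a b c d e f g h i hxy hxz hyz hg
      have hZ2 := adZ_sq bs t a b c d e f g h i hxy hxz hyz hg
      have hy : ∀ j : Fin 3, LieAlgebra.ad (DualNumber K) L (bs j) ^ (1 + 1) =
          LieAlgebra.ad (DualNumber K) L
            ((![(1 - b • ε : DualNumber K) • bs 0, -((a • ε : DualNumber K) • bs 1),
              -((d • ε : DualNumber K) • bs 2)] : Fin 3 → L) j) := by
        intro j
        fin_cases j
        · exact hXall
        · exact hY2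
        · exact hZ2
      exact ⟨(Groth.Agent.Lib.helper13.Jac.existsUnique_pmap_basis bs (1 + 1) _ hy).exists.choose⟩
    · have hm3 : 1 + 1 + 1 ≤ m + 1 := by
        have := hp.two_le
        omega
      have hY3 := adY_cube bs t a b c d e f g h i hxy hxz hyz
      have hZ3 := adZ_cube bs t a b c d e f g h i hxy hxz hyz
      have hy : ∀ j : Fin 3, LieAlgebra.ad (DualNumber K) L (bs j) ^ (m + 1) =
          LieAlgebra.ad (DualNumber K) L
            ((![(1 - b • ε : DualNumber K) • bs 0, 0, 0] : Fin 3 → L) j) := by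
        intro j
        fin_cases j
        · exact hXall
        · change _ = LieAlgebra.ad (DualNumber K) L 0
          rw [map_zero]
          exact pow_eq_zero_of_le hm3 hY3
        · change _ = LieAlgebra.ad (DualNumber K) L 0
          rw [map_zero]
          exact pow_eq_zero_of_le hm3 hZ3
      exact ⟨(Groth.Agent.Lib.helper13.Jac.existsUnique_pmap_basis bs (m + 1) _ hy).exists.choose⟩

end Groth.Agent.S13778
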