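import Groth.Statements.S13779
import Mathlib
import Groth.Agent.Lib.Helper13.Jac3
-- import your own Groth.Agent.* helpers here

set_option autoImplicit false
universe u v
open PLie

namespace Groth.Agent.S13779

/-- Let p be an odd prime, R a commutative ring of characteristic p, t ∈ R, and L a Lie algebra over R,
free as a module with basis x = bs 0, y = bs 1, z = bs 2 and brackets [x,y] = z, [x,z] = t • y,
[y,z] = 0. Then L carries a p-mapping φ with φ x = t ^ ((p - 1) / 2) • x, φ y = 0 and φ z = 0. (The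
published statement concerns the Lie algebra with these brackets over a field of Laurent series
k((t)), k algebraically closed of odd characteristic, t the variable; this row states its
restrictability over every commutative ring of odd prime characteristic and every t.) -/
theorem result (R : Type u) [CommRing R] (p : ℕ) [Fact p.Prime] [CharP R p] (hp : p ≠ 2)
    (t : R) (L : Type v) [LieRing L] [LieAlgebra R L] (bs : Module.Basis (Fin 3) R L)
    (hxy : ⁅bs 0, bs 1⁆ = bs 2) (hxz : ⁅bs 0, bs 2⁆ = t • bs 1) (hyz : ⁅bs 1, bs 2⁆ = 0) :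
    ∃ φ : PLie.PMap R p L, φ (bs 0) = t ^ ((p - 1) / 2) • bs 0 ∧ φ (bs 1) = 0 ∧ φ (bs 2) = 0 := by
  have hpp : (Fact.out : p.Prime) = (Fact.out : p.Prime) := rfl
  have hprime : p.Prime := Fact.out
  have hyx : ⁅bs 1, bs 0⁆ = -bs 2 := by rw [← lie_skew, hxy]
  have hzx : ⁅bs 2, bs 0⁆ = -(t • bs 1) := by rw [← lie_skew, hxz]
  have hzy : ⁅bs 2, bs 1⁆ = 0 := by rw [← lie_skew, hyz, neg_zero]
  -- ad x
  have hx3 : LieAlgebra.ad R L (bs 0) ^ 3 = t • LieAlgebra.ad R L (bs 0) := by
    refine bs.ext fun i => ?_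
    fin_cases i
    · simp [pow_succ, Module.End.mul_apply, LieAlgebra.ad_apply]
    · simp [pow_succ, Module.End.mul_apply, LieAlgebra.ad_apply, hxy, hxz]
    · simp [pow_succ, Module.End.mul_apply, LieAlgebra.ad_apply, hxy, hxz]
  have hxodd : ∀ m : ℕ, LieAlgebra.ad R L (bs 0) ^ (2 * m + 1) = t ^ m • LieAlgebra.ad R L (bs 0) := by
    intro m
    induction m with
    | zero => simp
    | succ m ih =>
      have e : 2 * (m + 1) + 1 = 2 * m + 3 := by ring
      rw [e, pow_add, hx3, mul_smul_comm, ← pow_succ, ih, smul_smul, pow_succ']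
  have hy2 : LieAlgebra.ad R L (bs 1) ^ 2 = 0 := by
    refine bs.ext fun i => ?_
    fin_cases i
    · simp [pow_succ, Module.End.mul_apply, LieAlgebra.ad_apply, hyx, hyz]
    · simp [pow_succ, Module.End.mul_apply, LieAlgebra.ad_apply]
    · simp [pow_succ, Module.End.mul_apply, LieAlgebra.ad_apply, hyz]
  have hz2 : LieAlgebra.ad R L (bs 2) ^ 2 = 0 := by
    refine bs.ext fun i => ?_
    fin_cases i
    · simp [pow_succ, Module.End.mul_apply, LieAlgebra.ad_apply, hzx, hzy]
    · simp [pow_succ, Module.End.mul_apply, LieAlgebra.ad_apply, hzy]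
    · simp [pow_succ, Module.End.mul_apply, LieAlgebra.ad_apply]
  have hp2 : 2 ≤ p := hprime.two_le
  have hodd : p = 2 * ((p - 1) / 2) + 1 := by
    have := hprime.eq_one_or_self_of_dvd 2
    have hodd : p % 2 = 1 := by
      rcases Nat.mod_two_eq_zero_or_one p with h | h
      · exfalso
        have h2 : 2 ∣ p := Nat.dvd_of_mod_eq_zero h
        rcases this h2 with h3 | h3
        · omega
        · exact hp h3.symm
      · exact h
    omega
  have hpow0 : ∀ (T : Module.End R L), T ^ 2 = 0 → T ^ p = 0 := by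
    intro T hT
    have : p = 2 + (p - 2) := by omega
    rw [this, pow_add, hT, zero_mul]
  let y : Fin 3 → L := ![t ^ ((p - 1) / 2) • bs 0, 0, 0]
  have hy : ∀ i : Fin 3, LieAlgebra.ad R L (bs i) ^ p = LieAlgebra.ad R L (y i) := by
    intro i
    fin_cases i
    · change LieAlgebra.ad R L (bs 0) ^ p = LieAlgebra.ad R L (t ^ ((p - 1) / 2) • bs 0)
      rw [map_smul]
      conv_lhs => rw [hodd]
      exact hxodd _
    · change LieAlgebra.ad R L (bs 1) ^ p = LieAlgebra.ad R L 0
      rw [map_zero]; exact hpow0 _ hy2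
    · change LieAlgebra.ad R L (bs 2) ^ p = LieAlgebra.ad R L 0
      rw [map_zero]; exact hpow0 _ hz2
  obtain ⟨φ, hφ, _⟩ := Groth.Agent.Lib.helper13.Jac.existsUnique_pmap_basis bs p y hy
  exact ⟨φ, hφ 0, hφ 1, hφ 2⟩

end Groth.Agent.S13779
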