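import Groth.Statements.S13781
import Groth.Agent.S0560
import Groth.Agent.Lib.Helper24.FibreRegular
import Groth.Agent.Lib.Helper24.FiniteEtaleLift
import Groth.Agent.Lib.Helper15.Regular
-- import your own Groth.Agent.* helpers here

set_option autoImplicit false
universe u
open CAlg

namespace Groth.Agent.S13781

open Polynomial IsLocalRing

/-- a reduced Artinian ring is regular -/
lemma isRegularRing_of_artinian_reduced (S : Type u) [CommRing S] [IsArtinianRing S] [IsReduced S] :
    IsRegularRing S := by
  rw [isRegularRing_iff]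
  intro q hq
  have hf : IsField (Localization.AtPrime q) :=
    IsArtinianRing.isField_of_isReduced_of_isLocalRing _
  let _ : Field (Localization.AtPrime q) := hf.toField
  infer_instance

section fibre

open Groth.Agent.Lib.Helper24.FiniteEtaleLift

variable (A : Type u) [CommRing A] (s : A) (e : ℕ)

lemma isRegularRing_fiber (he : 0 < e) (heu : IsUnit (e : A)) (p : Ideal A) [p.IsPrime]
    (hsp : s ∉ p) :
    IsRegularRing (p.Fiber (AdjoinRoot (X ^ e - C s : A[X]))) := by
  let G : (p.ResidueField)[X] := X ^ e - C (algebraMap A p.ResidueField s)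
  have hG : (X ^ e - C s : A[X]).map (algebraMap A p.ResidueField) = G := by simp [G]
  have hs0 : algebraMap A p.ResidueField s ≠ 0 := by
    rwa [Ne, Ideal.algebraMap_residueField_eq_zero]
  have he0 : (e : p.ResidueField) ≠ 0 := by
    have := heu.map (algebraMap A p.ResidueField)
    rw [map_natCast] at this
    exact this.ne_zero
  have hsep : G.Separable := separable_X_pow_sub_C _ he0 hs0
  have hmon : G.Monic := monic_X_pow_sub_C _ he.ne'
  have : Algebra.Etale p.ResidueField (AdjoinRoot G) := etale_adjoinRoot G hmon hsep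
  have : Module.Finite p.ResidueField (AdjoinRoot G) := hmon.finite_adjoinRoot
  have : IsArtinianRing (AdjoinRoot G) := IsArtinianRing.of_finite p.ResidueField _
  have : IsReduced (AdjoinRoot G) :=
    Algebra.FormallyUnramified.isReduced_of_field p.ResidueField _
  have := isRegularRing_of_artinian_reduced (AdjoinRoot G)
  exact IsRegularRing.of_ringEquiv (tensorEquiv _ G hG).symm.toRingEquiv

end fibre

section quot

variable (A : Type u) [CommRing A] (s : A) (e : ℕ)

/-- `A[t]/(t^e - s)` modulo `t` is `A/(s)`. -/
noncomputable def quotRootEquiv (he : 0 < e) :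
    (AdjoinRoot (X ^ e - C s : A[X]) ⧸ Ideal.span {AdjoinRoot.root (X ^ e - C s : A[X])}) ≃+*
      (A ⧸ Ideal.span {s}) :=
  RingEquiv.ofRingHom
    (Ideal.Quotient.lift _
      (AdjoinRoot.lift (Ideal.Quotient.mk (Ideal.span {s})) 0 (by
        simp [zero_pow he.ne']))
      (by
        intro a ha
        obtain ⟨b, rfl⟩ := Ideal.mem_span_singleton'.1 ha
        simp))
    (Ideal.Quotient.lift _
      ((Ideal.Quotient.mk (Ideal.span {AdjoinRoot.root (X ^ e - C s : A[X])})).comp
        (AdjoinRoot.of (X ^ e - C s : A[X])))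
      (by
        intro a ha
        obtain ⟨b, rfl⟩ := Ideal.mem_span_singleton'.1 ha
        have h1 : AdjoinRoot.of (X ^ e - C s : A[X]) s =
            AdjoinRoot.root (X ^ e - C s : A[X]) ^ e := by
          have h := AdjoinRoot.eval₂_root (X ^ e - C s : A[X])
          simp only [eval₂_sub, eval₂_X_pow, eval₂_C, sub_eq_zero] at h
          exact h.symm
        rw [RingHom.comp_apply, map_mul, h1, Ideal.Quotient.eq_zero_iff_mem]
        refine Ideal.mul_mem_left _ _ ?_
        exact Ideal.pow_mem_of_mem _ (Ideal.mem_span_singleton_self _) _ he))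
    (by
      apply Ideal.Quotient.ringHom_ext
      ext a
      simp)
    (by
      apply Ideal.Quotient.ringHom_ext
      apply AdjoinRoot.ringHom_ext
      · ext a
        simp
      · simp)

end quot

section quotloc

/-- localization of a regular quotient -/
lemma regular_quot_loc (B : Type u) [CommRing B] (I Q : Ideal B) [Q.IsPrime] (hIQ : I ≤ Q)
    (hreg : IsRegularRing (B ⧸ I)) :
    IsRegularLocalRing (Localization.AtPrime Q ⧸ I.map (algebraMap B (Localization.AtPrime Q))) := by
  have hsurj : Function.Surjective (Ideal.Quotient.mk I) := Ideal.Quotient.mk_surjective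
  have hQ' : (Q.map (Ideal.Quotient.mk I)).IsPrime :=
    Ideal.map_isPrime_of_surjective hsurj (by rwa [Ideal.mk_ker])
  have hsub : Algebra.algebraMapSubmonoid (B ⧸ I) Q.primeCompl =
      (Q.map (Ideal.Quotient.mk I)).primeCompl := by
    ext x
    obtain ⟨b0, rfl⟩ := hsurj x
    rw [Ideal.mem_primeCompl_iff, Ideal.mem_quotient_iff_mem hIQ]
    constructor
    · rintro ⟨b, hb, hbb⟩
      intro hb0
      apply hb
      have h1 : b - b0 ∈ I := by
        rw [← Ideal.Quotient.eq_zero_iff_mem, map_sub, sub_eq_zero]
        exact hbb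
      have h2 : b = (b - b0) + b0 := by ring
      rw [h2]
      exact Q.add_mem (hIQ h1) hb0
    · intro hb0
      exact ⟨b0, hb0, rfl⟩
  have : IsLocalization.AtPrime
      (Localization.AtPrime Q ⧸ I.map (algebraMap B (Localization.AtPrime Q)))
      (Q.map (Ideal.Quotient.mk I)) := by
    have h : IsLocalization (Algebra.algebraMapSubmonoid (B ⧸ I) Q.primeCompl)
      (Localization.AtPrime Q ⧸ I.map (algebraMap B (Localization.AtPrime Q))) := inferInstance
    rwa [hsub] at h
  have : IsRegularLocalRing (Localization.AtPrime (Q.map (Ideal.Quotient.mk I))) :=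
    IsRegularRing.isRegularLocalRing_localization _
  exact IsRegularLocalRing.of_ringEquiv
    (IsLocalization.algEquiv (Q.map (Ideal.Quotient.mk I)).primeCompl
      (Localization.AtPrime (Q.map (Ideal.Quotient.mk I)))
      (Localization.AtPrime Q ⧸ I.map (algebraMap B (Localization.AtPrime Q)))).toRingEquiv

end quotloc

section main

variable (A : Type u) [CommRing A] (s : A) (e : ℕ)

lemma of_eq_root_pow : AdjoinRoot.of (X ^ e - C s : A[X]) s =
    AdjoinRoot.root (X ^ e - C s : A[X]) ^ e := by
  have h := AdjoinRoot.eval₂_root (X ^ e - C s : A[X])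
  simp only [eval₂_sub, eval₂_X_pow, eval₂_C, sub_eq_zero] at h
  exact h.symm

lemma root_mem_nonZeroDivisors [IsDomain A] (hs : s ≠ 0) (he : 0 < e) :
    AdjoinRoot.root (X ^ e - C s : A[X]) ∈ nonZeroDivisors (AdjoinRoot (X ^ e - C s : A[X])) := by
  have hmon : (X ^ e - C s : A[X]).Monic := monic_X_pow_sub_C s he.ne'
  have : Module.Free A (AdjoinRoot (X ^ e - C s : A[X])) := hmon.free_adjoinRoot
  rw [mem_nonZeroDivisors_iff_right]
  intro x hx
  have h1 : s • x = 0 := by
    rw [Algebra.smul_def, AdjoinRoot.algebraMap_eq, of_eq_root_pow, mul_comm]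
    have h2 : AdjoinRoot.root (X ^ e - C s : A[X]) ^ e =
        AdjoinRoot.root (X ^ e - C s : A[X]) * AdjoinRoot.root (X ^ e - C s : A[X]) ^ (e - 1) := by
      rw [← pow_succ', Nat.sub_add_cancel he]
    rw [h2, ← mul_assoc, hx, zero_mul]
  exact (smul_eq_zero.1 h1).resolve_left hs

lemma regular_of_mem [IsDomain A] (hs : s ≠ 0) (he : 0 < e)
    (hreg : IsRegularRing (A ⧸ Ideal.span {s}))
    (Q : Ideal (AdjoinRoot (X ^ e - C s : A[X]))) [Q.IsPrime]
    [IsNoetherianRing (AdjoinRoot (X ^ e - C s : A[X]))]
    (hsQ : AdjoinRoot.of (X ^ e - C s : A[X]) s ∈ Q) :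
    IsRegularLocalRing (Localization.AtPrime Q) := by
  have htQ : AdjoinRoot.root (X ^ e - C s : A[X]) ∈ Q := by
    rw [of_eq_root_pow] at hsQ
    exact Ideal.IsPrime.mem_of_pow_mem inferInstance e hsQ
  have hnzd := root_mem_nonZeroDivisors A s e hs he
  have ht'm : algebraMap _ (Localization.AtPrime Q) (AdjoinRoot.root (X ^ e - C s : A[X])) ∈
      maximalIdeal (Localization.AtPrime Q) :=
    (IsLocalization.AtPrime.to_map_mem_maximal_iff (Localization.AtPrime Q) Q _).2 htQ
  have ht'r : algebraMap _ (Localization.AtPrime Q) (AdjoinRoot.root (X ^ e - C s : A[X])) ∈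
      nonZeroDivisors (Localization.AtPrime Q) :=
    IsLocalization.map_nonZeroDivisors_le Q.primeCompl (Localization.AtPrime Q)
      ⟨_, hnzd, rfl⟩
  have : IsRegularLocalRing (Localization.AtPrime Q ⧸
      Ideal.span {algebraMap _ (Localization.AtPrime Q) (AdjoinRoot.root (X ^ e - C s : A[X]))}) := by
    have hI : (Ideal.span {AdjoinRoot.root (X ^ e - C s : A[X])}).map
        (algebraMap _ (Localization.AtPrime Q)) =
        Ideal.span {algebraMap _ (Localization.AtPrime Q) (AdjoinRoot.root (X ^ e - C s : A[X]))} := by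
      rw [Ideal.map_span, Set.image_singleton]
    rw [← hI]
    exact regular_quot_loc _ (Ideal.span {AdjoinRoot.root (X ^ e - C s : A[X])}) Q
      ((Ideal.span_singleton_le_iff_mem _).2 htQ)
      (IsRegularRing.of_ringEquiv (quotRootEquiv A s e he).symm)
  exact Groth.Agent.S0560.result (Localization.AtPrime Q) _ ht'm ht'r

end main


/-- Let A be a regular local ring, s a non-zero element of A such that A/(s) is regular, and e a
positive integer invertible in A. Then A[t]/(t^e - s) is regular. (Regularity of a ring is taken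
throughout as: Noetherian, with every localization at a prime ideal a regular local ring; the
hypotheses on A and on A/(s) and the conclusion on A[t]/(t^e - s) are all read this way, which for
the local rings A and A/(s) is the usual notion once localizations of regular local rings are known
to be regular.) -/
theorem result (A : Type u) [CommRing A] [IsLocalRing A]
    [IsRegularRing A] (s : A) (hs : s ≠ 0) (hreg : IsRegularRing (A ⧸ Ideal.span {s}))
    (e : ℕ) (he : 0 < e) (heu : IsUnit (e : A)) :
    IsRegularRing (AdjoinRoot (Polynomial.X ^ e - Polynomial.C s)) := by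
  have : IsRegularLocalRing A := IsRegularLocalRing.of_isRegularRing_of_isLocalRing A
  have : IsDomain A := Groth.Agent.Lib.helper15.isDomain_of_isRegularLocalRing A
  have hmon : (X ^ e - C s : A[X]).Monic := monic_X_pow_sub_C s he.ne'
  have : Module.Free A (AdjoinRoot (X ^ e - C s : A[X])) := hmon.free_adjoinRoot
  have : Module.Finite A (AdjoinRoot (X ^ e - C s : A[X])) := hmon.finite_adjoinRoot
  have : IsNoetherianRing (AdjoinRoot (X ^ e - C s : A[X])) := IsNoetherianRing.of_finite A _
  rw [isRegularRing_iff]
  intro Q hQ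
  by_cases hsQ : AdjoinRoot.of (X ^ e - C s : A[X]) s ∈ Q
  · exact regular_of_mem A s e hs he hreg Q hsQ
  · have := isRegularRing_fiber A s e he heu (Q.under A) (by
      rw [Ideal.under_def, Ideal.mem_comap]
      exact hsQ)
    exact Groth.Agent.Lib.Helper24.FibreRegular.isRegularLocalRing_atPrime_of_fibre A _ (Q.under A) Q

end Groth.Agent.S13781
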