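import Groth.Statements.S13782
import Groth.Agent.LibHyperSurf29
import Groth.Agent.Lib.Helper24.SmoothRegular
import Groth.Agent.Lib.Helper15.Regular
import Mathlib.RingTheory.Derivation.MapCoeffs
import Mathlib.RingTheory.AdjoinRoot
-- import your own Groth.Agent.* helpers here

set_option autoImplicit false
universe u
open CAlg

namespace Groth.Agent.S13782

open Polynomial Groth.Agent.LibHyperSurf29

/-- in a Noetherian ring whose localizations at maximal ideals are domains, an irreducible element
is a nonzerodivisor -/
lemma eq_zero_of_mul_irreducible {A : Type u} [CommRing A] [IsNoetherianRing A]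
    (hdom : ∀ (m : Ideal A) [m.IsMaximal], IsDomain (Localization.AtPrime m))
    (s : A) (hs : Irreducible s) (u : A) (hu : u * s = 0) : u = 0 := by
  classical
  let I : Ideal A := LinearMap.ker (LinearMap.mul A A s)
  have hI : ∀ x, x ∈ I ↔ s * x = 0 := fun x => by
    change LinearMap.mul A A s x = 0 ↔ _
    rw [LinearMap.mul_apply']
  let K : Ideal A := Submodule.annihilator I
  have hK : ∀ r, r ∈ K ↔ ∀ x ∈ I, r * x = 0 := fun r => Submodule.mem_annihilator
  have hsup : I ⊔ K = ⊤ := by
    by_contra hne
    obtain ⟨m, hm, hle⟩ := Ideal.exists_le_maximal _ hne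
    have := hm
    have := hdom m
    by_cases h0 : algebraMap A (Localization.AtPrime m) s = 0
    · obtain ⟨w, hw⟩ := (IsLocalization.map_eq_zero_iff m.primeCompl _ s).mp h0
      have : (w : A) ∈ I := by rw [hI, mul_comm]; exact hw
      exact w.2 (hle (Ideal.mem_sup_left this))
    · have hx : ∀ x ∈ I, ∃ w : m.primeCompl, (w : A) * x = 0 := by
        intro x hx
        rw [hI] at hx
        have h1 : algebraMap A (Localization.AtPrime m) s *
            algebraMap A (Localization.AtPrime m) x = 0 := by rw [← map_mul, hx, map_zero]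
        have h2 := (mul_eq_zero.mp h1).resolve_left h0
        exact (IsLocalization.map_eq_zero_iff m.primeCompl _ x).mp h2
      obtain ⟨T, hT⟩ : I.FG := IsNoetherian.noetherian I
      choose! w hw using hx
      have hTI : ∀ x ∈ T, x ∈ I := fun x hx => hT ▸ Ideal.subset_span hx
      let W : A := ∏ x ∈ T, (w x : A)
      have hWm : W ∉ m := by
        intro hmem
        obtain ⟨x, _, hx⟩ := (Ideal.IsPrime.prod_mem_iff).mp hmem
        exact (w x).2 hx
      have hWK : W ∈ K := by
        rw [hK]
        intro y hy
        rw [← hT] at hy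
        refine Submodule.span_induction ?_ ?_ ?_ ?_ hy
        · intro x hxT
          obtain ⟨c, hc⟩ := Finset.dvd_prod_of_mem (fun x => (w x : A)) hxT
          rw [show W = (w x : A) * c from hc, mul_comm (w x : A) c, mul_assoc,
            hw x (hTI x hxT), mul_zero]
        · exact mul_zero _
        · intro x y _ _ hx hy
          rw [mul_add, hx, hy, add_zero]
        · intro a x _ hx
          rw [smul_eq_mul, mul_left_comm, hx, mul_zero]
      exact hWm (hle (Ideal.mem_sup_right hWK))
  obtain ⟨a, ha, b, hb, hab⟩ := Submodule.mem_sup.mp (hsup ▸ Submodule.mem_top : (1 : A) ∈ I ⊔ K)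
  have hba : b * a = 0 := (hK b).mp hb a ha
  have hsa : s * a = 0 := (hI a).mp ha
  have hsb : s = b * s := by
    calc s = (a + b) * s := by rw [hab, one_mul]
      _ = s * a + b * s := by ring
      _ = b * s := by rw [hsa, zero_add]
  have hbu : IsUnit b := (hs.isUnit_or_isUnit hsb).resolve_right hs.not_isUnit
  have ha0 : a = 0 := by
    obtain ⟨c, hc⟩ := hbu.exists_left_inv
    have : a = c * (b * a) := by rw [← mul_assoc, hc, one_mul]
    rw [this, hba, mul_zero]
  have hb1 : b = 1 := by rw [← hab, ha0, zero_add]
  have huI : u ∈ I := by rw [hI, mul_comm]; exact hu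
  have := (hK b).mp hb u huI
  rwa [hb1, one_mul] at this

lemma isDomain_localization_of_smooth (k A : Type u) [Field k] [CommRing A] [Algebra k A]
    [Algebra.Smooth k A] (m : Ideal A) [m.IsPrime] : IsDomain (Localization.AtPrime m) := by
  have : IsRegularRing A := Groth.Agent.Lib.Helper24.SmoothRegular.isRegularRing_of_smooth k A
  exact Groth.Agent.Lib.helper15.isDomain_of_isRegularLocalRing _

/-- the `k`-derivation of `A` obtained from a `k`-derivation of `A[X]` by restricting to constants
and evaluating at `0` -/
noncomputable def derZero {k A : Type u} [CommRing k] [CommRing A] [Algebra k A]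
    (D : Derivation k A[X] A[X]) : Derivation k A A :=
  Derivation.mk' (((lcoeff A 0).restrictScalars k) ∘ₗ (D : A[X] →ₗ[k] A[X]) ∘ₗ
    (CAlgHom (R := k) (A := A)).toLinearMap) (by
    intro a b
    change (D (C (a * b))).coeff 0 = a • (D (C b)).coeff 0 + b • (D (C a)).coeff 0
    rw [C_mul, D.leibniz, coeff_add, smul_eq_mul, smul_eq_mul, coeff_C_mul, coeff_C_mul,
      smul_eq_mul, smul_eq_mul])

lemma derZero_apply {k A : Type u} [CommRing k] [CommRing A] [Algebra k A]
    (D : Derivation k A[X] A[X]) (a : A) : derZero D a = (D (C a)).coeff 0 := rfl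

/-- the `k`-derivation of `A[X]` acting through a `k`-derivation of `A` on the coefficients -/
noncomputable def derCoeff {k A : Type u} [CommRing k] [CommRing A] [Algebra k A]
    (D' : Derivation k A A) : Derivation k A[X] A[X] :=
  PolynomialModule.equivPolynomialSelf.compDer D'.mapCoeffs

lemma derCoeff_coeff {k A : Type u} [CommRing k] [CommRing A] [Algebra k A]
    (D' : Derivation k A A) (p : A[X]) (i : ℕ) : (derCoeff D' p).coeff i = D' (p.coeff i) := rfl


/-- Let k be a field, A a smooth k-algebra, s an irreducible element of A and e an integer, at least 2,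
that is invertible in k. Then the k-algebra A[t]/(t^e - s) is smooth exactly when the quotient ring
A/(s) is a smooth k-algebra. (Smooth over k means formally smooth and of finite presentation over
k.) -/
theorem result (k A : Type u) [Field k] [CommRing A] [Algebra k A]
    [Algebra.Smooth k A] (s : A) (hs : Irreducible s) (e : ℕ) (he : 2 ≤ e) (hek : (e : k) ≠ 0) :
    Algebra.Smooth k (AdjoinRoot (Polynomial.X ^ e - Polynomial.C s)) ↔
      Algebra.Smooth k (A ⧸ Ideal.span {s}) := by
  have he1 : e ≠ 0 := by omega
  set f : A[X] := X ^ e - C s with hf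
  have hmonic : f.Monic := monic_X_pow_sub_C s he1
  letI : Algebra A[X] (AdjoinRoot f) := (AdjoinRoot.mk f).toAlgebra
  have : IsScalarTower k A[X] (AdjoinRoot f) := IsScalarTower.of_algebraMap_eq (fun x => rfl)
  have hsurjX : Function.Surjective (algebraMap A[X] (AdjoinRoot f)) := AdjoinRoot.mk_surjective
  have hkerX : RingHom.ker (algebraMap A[X] (AdjoinRoot f)) = Ideal.span {f} := Ideal.mk_ker
  have hsurjA : Function.Surjective (algebraMap A (A ⧸ Ideal.span {s})) :=
    Ideal.Quotient.mk_surjective
  have hkerA : RingHom.ker (algebraMap A (A ⧸ Ideal.span {s})) = Ideal.span {s} := Ideal.mk_ker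
  have : Algebra.FormallySmooth k A[X] := Algebra.FormallySmooth.comp k A A[X]
  have : IsNoetherianRing A := Algebra.FiniteType.isNoetherianRing k A
  have hnzd : ∀ u : A, u * s = 0 → u = 0 :=
    eq_zero_of_mul_irreducible (fun m _ => isDomain_localization_of_smooth k A m) s hs
  have hmkf : ∀ p : A[X], algebraMap A[X] (AdjoinRoot f) p = AdjoinRoot.mk f p := fun p => rfl
  constructor
  · intro hsm
    have := hsm
    -- `ψ : AdjoinRoot f → A/(s)`, `root ↦ 0`
    let ψ : AdjoinRoot f →+* A ⧸ Ideal.span {s} := AdjoinRoot.lift (Ideal.Quotient.mk _) 0 (by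
      rw [hf, eval₂_sub, eval₂_pow, eval₂_X, eval₂_C, zero_pow he1, zero_sub, neg_eq_zero,
        Ideal.Quotient.eq_zero_iff_mem]
      exact Ideal.mem_span_singleton_self s)
    have hψ : ∀ p : A[X], ψ (AdjoinRoot.mk f p) = Ideal.Quotient.mk _ (p.coeff 0) := by
      intro p
      rw [AdjoinRoot.lift_mk, eval₂_at_zero]
    refine ⟨?_, Algebra.FinitePresentation.quotient ⟨{s}, by simp⟩⟩
    refine formallySmooth_of_forall_maximal_derivation hsurjA s hkerA (fun m hm => ?_)
    have := hm
    let Q : Ideal (AdjoinRoot f) := m.comap ψ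
    have : Q.IsPrime := Ideal.comap_isPrime ψ m
    have hQfs : Algebra.FormallySmooth k (Localization.AtPrime Q) := by
      have : Algebra.FormallySmooth (AdjoinRoot f) (Localization.AtPrime Q) :=
        Algebra.FormallySmooth.of_isLocalization Q.primeCompl
      exact Algebra.FormallySmooth.comp k (AdjoinRoot f) _
    obtain ⟨D, hD⟩ := exists_derivation_of_formallySmooth hsurjX f hkerX Q (fun u hu => by
      rw [(hmonic.mul_left_eq_zero_iff).mp hu, map_zero]
      exact zero_mem _) hQfs
    refine ⟨derZero D, ?_⟩
    intro hmem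
    apply hD
    change ψ (AdjoinRoot.mk f (D f)) ∈ m
    rw [hψ]
    have h1 : (D f).coeff 0 = - derZero D s := by
      rw [hf, map_sub, D.leibniz_pow, coeff_sub, derZero_apply, smul_eq_mul, coeff_smul,
        mul_coeff_zero, coeff_X_pow, if_neg (by omega), zero_mul, smul_zero, zero_sub]
    rw [h1, map_neg, neg_mem_iff]
    exact hmem
  · intro hsm
    have := hsm
    refine ⟨?_, inferInstance⟩
    refine formallySmooth_of_forall_maximal_derivation hsurjX f hkerX (fun Q hQ => ?_)
    have := hQ
    by_cases hX : AdjoinRoot.root f ∈ Q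
    · let 𝔭 : Ideal A := Q.comap (AdjoinRoot.of f)
      have : 𝔭.IsPrime := Ideal.comap_isPrime _ Q
      have hs𝔭 : s ∈ 𝔭 := by
        change AdjoinRoot.of f s ∈ Q
        have h0 : AdjoinRoot.mk f f = 0 := AdjoinRoot.mk_self
        rw [hf, map_sub, map_pow, AdjoinRoot.mk_X, AdjoinRoot.mk_C, sub_eq_zero] at h0
        rw [← h0]
        exact Ideal.pow_mem_of_mem Q hX e (by omega)
      have hle : Ideal.span {s} ≤ 𝔭 := by
        rw [Ideal.span_le, Set.singleton_subset_iff]
        exact hs𝔭
      let 𝔭' : Ideal (A ⧸ Ideal.span {s}) := 𝔭.map (Ideal.Quotient.mk _)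
      have : 𝔭'.IsPrime := Ideal.map_isPrime_of_surjective Ideal.Quotient.mk_surjective (by
        rw [Ideal.mk_ker]; exact hle)
      have hfs : Algebra.FormallySmooth k (Localization.AtPrime 𝔭') := by
        have : Algebra.FormallySmooth (A ⧸ Ideal.span {s}) (Localization.AtPrime 𝔭') :=
          Algebra.FormallySmooth.of_isLocalization 𝔭'.primeCompl
        exact Algebra.FormallySmooth.comp k (A ⧸ Ideal.span {s}) _
      obtain ⟨D', hD'⟩ := exists_derivation_of_formallySmooth hsurjA s hkerA 𝔭' (fun u hu => by
        rw [hnzd u hu, map_zero]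
        exact zero_mem _) hfs
      have hD's : D' s ∉ 𝔭 := by
        intro hmem
        exact hD' (Ideal.mem_map_of_mem _ hmem)
      refine ⟨derCoeff D', ?_⟩
      have hDf : derCoeff D' f = - C (D' s) := by
        ext i
        rw [derCoeff_coeff, coeff_neg, coeff_C, hf, coeff_sub, coeff_X_pow, coeff_C, map_sub]
        by_cases hi : i = 0
        · subst hi
          rw [if_neg (by omega), if_pos rfl, if_pos rfl, map_zero, zero_sub]
        · rw [if_neg hi, if_neg hi, map_zero, sub_zero, neg_zero]
          split_ifs
          · exact D'.map_one_eq_zero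
          · exact map_zero _
      rw [hDf, map_neg, neg_mem_iff, hmkf, AdjoinRoot.mk_C]
      exact hD's
    · refine ⟨(Polynomial.derivative' : Derivation A A[X] A[X]).restrictScalars k, ?_⟩
      change AdjoinRoot.mk f (derivative f) ∉ Q
      have hder : derivative f = C ((e : ℕ) : A) * X ^ (e - 1) := by
        rw [hf, derivative_sub, derivative_X_pow, derivative_C, sub_zero]
      rw [hder, map_mul, map_pow, AdjoinRoot.mk_X, AdjoinRoot.mk_C]
      intro hmem
      rcases (Ideal.IsPrime.mem_or_mem inferInstance hmem) with h1 | h1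
      · have hu : IsUnit (AdjoinRoot.of f ((e : ℕ) : A)) := by
          have : AdjoinRoot.of f ((e : ℕ) : A) = algebraMap k (AdjoinRoot f) (e : k) := by
            rw [map_natCast, map_natCast]
          rw [this]
          exact (IsUnit.mk0 _ hek).map _
        exact (Ideal.IsPrime.ne_top inferInstance) (Ideal.eq_top_of_isUnit_mem Q h1 hu)
      · exact hX (Ideal.IsPrime.mem_of_pow_mem inferInstance _ h1)

end Groth.Agent.S13782
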