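import Groth.Statements.S13783
import Mathlib

set_option autoImplicit false
universe u
open Curves

namespace Groth.Agent.S13783

open Matrix Projectivization W4c1stackycurves

local notation "GL2" => Matrix.GeneralLinearGroup (Fin 2)

section gen
variable {K : Type u} [Field K]

/-- 2×2 determinant of two vectors -/
def d2 (v w : Fin 2 → K) : K := v 0 * w 1 - v 1 * w 0

lemma mk_congr {v w : Fin 2 → K} (h : v = w) (hv : v ≠ 0) (hw : w ≠ 0) :
    Projectivization.mk K v hv = Projectivization.mk K w hw := by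
  subst h; rfl

lemma ne_zero_cases {w : Fin 2 → K} (hw : w ≠ 0) : w 0 ≠ 0 ∨ w 1 ≠ 0 := by
  by_contra h
  push_neg at h
  apply hw
  funext i
  revert i
  rw [Fin.forall_fin_two]
  exact ⟨h.1, h.2⟩

lemma mk_eq_iff_d2 (v w : Fin 2 → K) (hv : v ≠ 0) (hw : w ≠ 0) :
    Projectivization.mk K v hv = Projectivization.mk K w hw ↔ d2 v w = 0 := by
  rw [Projectivization.mk_eq_mk_iff' K v w hv hw]
  constructor
  · rintro ⟨a, rfl⟩
    simp only [d2, Pi.smul_apply, smul_eq_mul]
    ring
  · intro h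
    unfold d2 at h
    rcases ne_zero_cases hw with h0 | h1
    · refine ⟨v 0 / w 0, ?_⟩
      funext i
      revert i
      rw [Fin.forall_fin_two]
      constructor
      · show v 0 / w 0 * w 0 = v 0
        field_simp
      · show v 0 / w 0 * w 1 = v 1
        field_simp
        linear_combination h
    · refine ⟨v 1 / w 1, ?_⟩
      funext i
      revert i
      rw [Fin.forall_fin_two]
      constructor
      · show v 1 / w 1 * w 0 = v 0
        field_simp
        linear_combination -h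
      · show v 1 / w 1 * w 1 = v 1
        field_simp

def sv : Fin 3 → (Fin 2 → K) := ![![1, 0], ![0, 1], ![1, 1]]

lemma sv_ne (i : Fin 3) : (sv i : Fin 2 → K) ≠ 0 := by
  intro h
  have h0 := congrFun h 0
  have h1 := congrFun h 1
  revert h0 h1
  fin_cases i <;> simp [sv]

def std (i : Fin 3) : Projectivization K (Fin 2 → K) := Projectivization.mk K (sv i) (sv_ne i)

lemma std_injective : Function.Injective (std : Fin 3 → Projectivization K (Fin 2 → K)) := by
  intro i j h
  have := (mk_eq_iff_d2 _ _ _ _).mp h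
  revert this
  fin_cases i <;> fin_cases j <;> simp [d2, sv]

lemma act_vec (M : GL2 K) (v : Fin 2 → K) :
    (Matrix.GeneralLinearGroup.toLin M) • v = M.1 *ᵥ v := by
  rw [Units.smul_def, Module.End.smul_def, Matrix.GeneralLinearGroup.coe_toLin,
    Matrix.mulVecLin_apply]

lemma mv_ne (M : GL2 K) {v : Fin 2 → K} (hv : v ≠ 0) : M.1 *ᵥ v ≠ 0 := by
  rw [← act_vec]; exact (smul_ne_zero_iff_ne _).mpr hv

lemma act_mk (M : GL2 K) (v : Fin 2 → K) (hv : v ≠ 0) :
    (Matrix.GeneralLinearGroup.toLin M) • Projectivization.mk K v hv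
      = Projectivization.mk K (M.1 *ᵥ v) (mv_ne M hv) := by
  rw [Projectivization.smul_mk]
  exact mk_congr (act_vec M v) _ _

lemma mv2 (M : Matrix (Fin 2) (Fin 2) K) (v : Fin 2 → K) (i : Fin 2) :
    (M *ᵥ v) i = M i 0 * v 0 + M i 1 * v 1 := by
  simp [Matrix.mulVec, dotProduct, Fin.sum_univ_two]

lemma d2_mulVec (M : Matrix (Fin 2) (Fin 2) K) (v w : Fin 2 → K) :
    d2 (M *ᵥ v) w = (M 0 0 * v 0 + M 0 1 * v 1) * w 1 - (M 1 0 * v 0 + M 1 1 * v 1) * w 0 := by
  unfold d2; rw [mv2, mv2]

lemma exists_frame (v : Fin 3 → (Fin 2 → K))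
    (h01 : d2 (v 0) (v 1) ≠ 0) (h02 : d2 (v 0) (v 2) ≠ 0) (h21 : d2 (v 2) (v 1) ≠ 0) :
    ∃ M : GL2 K, ∀ i, d2 (M.1 *ᵥ sv i) (v i) = 0 := by
  let M₀ : Matrix (Fin 2) (Fin 2) K :=
    Matrix.of ![![d2 (v 2) (v 1) * v 0 0, d2 (v 0) (v 2) * v 1 0],
      ![d2 (v 2) (v 1) * v 0 1, d2 (v 0) (v 2) * v 1 1]]
  have hdet : M₀.det ≠ 0 := by
    have : M₀.det = d2 (v 2) (v 1) * d2 (v 0) (v 2) * d2 (v 0) (v 1) := by
      rw [Matrix.det_fin_two]
      show d2 (v 2) (v 1) * v 0 0 * (d2 (v 0) (v 2) * v 1 1)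
        - d2 (v 0) (v 2) * v 1 0 * (d2 (v 2) (v 1) * v 0 1) = _
      unfold d2; ring
    rw [this]; exact mul_ne_zero (mul_ne_zero h21 h02) h01
  refine ⟨Matrix.GeneralLinearGroup.mkOfDetNeZero M₀ hdet, ?_⟩
  intro i
  show d2 (M₀ *ᵥ sv i) (v i) = 0
  rw [d2_mulVec]
  fin_cases i
  · show (d2 (v 2) (v 1) * v 0 0 * 1 + d2 (v 0) (v 2) * v 1 0 * 0) * v 0 1
      - (d2 (v 2) (v 1) * v 0 1 * 1 + d2 (v 0) (v 2) * v 1 1 * 0) * v 0 0 = 0
    ring
  · show (d2 (v 2) (v 1) * v 0 0 * 0 + d2 (v 0) (v 2) * v 1 0 * 1) * v 1 1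
      - (d2 (v 2) (v 1) * v 0 1 * 0 + d2 (v 0) (v 2) * v 1 1 * 1) * v 1 0 = 0
    ring
  · show (d2 (v 2) (v 1) * v 0 0 * 1 + d2 (v 0) (v 2) * v 1 0 * 1) * v 2 1
      - (d2 (v 2) (v 1) * v 0 1 * 1 + d2 (v 0) (v 2) * v 1 1 * 1) * v 2 0 = 0
    unfold d2; ring

lemma exists_frame_pt (p : Fin 3 → Projectivization K (Fin 2 → K)) (hp : Function.Injective p) :
    ∃ M : GL2 K, ∀ i, (Matrix.GeneralLinearGroup.toLin M) • (std i) = p i := by
  have hne : ∀ i j, i ≠ j → d2 (p i).rep (p j).rep ≠ 0 := by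
    intro i j hij h
    apply hij; apply hp
    rw [← mk_rep (p i), ← mk_rep (p j)]
    exact (mk_eq_iff_d2 _ _ _ _).mpr h
  obtain ⟨M, hM⟩ := exists_frame (fun i => (p i).rep) (hne 0 1 (by decide)) (hne 0 2 (by decide))
    (hne 2 1 (by decide))
  refine ⟨M, fun i => ?_⟩
  refine (act_mk M _ _).trans ?_
  refine Eq.trans ?_ (mk_rep (p i))
  exact (mk_eq_iff_d2 _ _ _ _).mpr (hM i)

lemma scalar_of_fix (M : GL2 K)
    (h : ∀ i, (Matrix.GeneralLinearGroup.toLin M) • (std i : Projectivization K (Fin 2 → K))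
      = std i) :
    ∃ c : K, M.1 = c • (1 : Matrix (Fin 2) (Fin 2) K) := by
  have h' : ∀ i, d2 (M.1 *ᵥ sv i) (sv i) = 0 := by
    intro i
    have := (act_mk M (sv i) (sv_ne i)).symm.trans (h i)
    exact (mk_eq_iff_d2 _ _ _ _).mp this
  have e0 := h' 0
  have e1 := h' 1
  have e2 := h' 2
  rw [d2_mulVec] at e0 e1 e2
  have e0' : M.1 1 0 = 0 := by
    have : (M.1 0 0 * 1 + M.1 0 1 * 0) * 0 - (M.1 1 0 * 1 + M.1 1 1 * 0) * 1 = 0 := e0
    linear_combination -this
  have e1' : M.1 0 1 = 0 := by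
    have : (M.1 0 0 * 0 + M.1 0 1 * 1) * 1 - (M.1 1 0 * 0 + M.1 1 1 * 1) * 0 = 0 := e1
    linear_combination this
  have e2' : M.1 0 0 = M.1 1 1 := by
    have : (M.1 0 0 * 1 + M.1 0 1 * 1) * 1 - (M.1 1 0 * 1 + M.1 1 1 * 1) * 1 = 0 := e2
    linear_combination this - e1' + e0'
  refine ⟨M.1 0 0, ?_⟩
  rw [← Matrix.ext_iff]
  simp only [Fin.forall_fin_two]
  refine ⟨⟨?_, ?_⟩, ?_, ?_⟩
  · simp
  · simp [e1']
  · simp [e0']
  · simp [← e2']

lemma prop_of_agree (M M' : GL2 K) (p : Fin 3 → Projectivization K (Fin 2 → K))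
    (hp : Function.Injective p)
    (h : ∀ i, (Matrix.GeneralLinearGroup.toLin M) • p i
      = (Matrix.GeneralLinearGroup.toLin M') • p i) :
    ∃ c : K, M'.1 = c • M.1 := by
  obtain ⟨N, hN⟩ := exists_frame_pt p hp
  obtain ⟨U, hU⟩ : ∃ U : GL2 K, U = N⁻¹ * M⁻¹ * M' * N := ⟨_, rfl⟩
  have hfix : ∀ i, (Matrix.GeneralLinearGroup.toLin U) •
      (std i : Projectivization K (Fin 2 → K)) = std i := by
    intro i
    rw [hU, map_mul, map_mul, map_mul, map_inv, map_inv, mul_smul, mul_smul, mul_smul, hN i,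
      ← h i, inv_smul_smul, inv_smul_eq_iff, hN i]
  obtain ⟨c, hc⟩ := scalar_of_fix U hfix
  refine ⟨c, ?_⟩
  have e : M' = M * N * U * N⁻¹ := by rw [hU]; group
  have e' : M'.1 = M.1 * N.1 * U.1 * (N⁻¹).1 := by
    conv_lhs => rw [e]
    simp only [Units.val_mul]
  rw [e', hc, Matrix.mul_smul, Matrix.mul_one, Matrix.smul_mul, Matrix.mul_assoc, Units.mul_inv,
    Matrix.mul_one]

lemma act_eq_of_smul (M M₁ : GL2 K) (μ : K) (h : M.1 = μ • M₁.1)
    (x : Projectivization K (Fin 2 → K)) :
    (Matrix.GeneralLinearGroup.toLin M) • x = (Matrix.GeneralLinearGroup.toLin M₁) • x := by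
  induction x using Projectivization.ind with
  | h v hv =>
    rw [act_mk, act_mk, Projectivization.mk_eq_mk_iff']
    exact ⟨μ, by rw [h, Matrix.smul_mulVec]⟩

end gen

section gal
variable {k K : Type u} [Field k] [Field K] [Algebra k K]

lemma gv_ne (σ : K ≃ₐ[k] K) {v : Fin 2 → K} (hv : v ≠ 0) : galVec σ (Fin 2) v ≠ 0 := by
  intro h
  apply hv
  apply galVec_injective σ (Fin 2)
  rw [h, map_zero]

lemma galP_mk (σ : K ≃ₐ[k] K) (v : Fin 2 → K) (hv : v ≠ 0) :
    galP σ (Projectivization.mk K v hv)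
      = Projectivization.mk K (galVec σ (Fin 2) v) (gv_ne σ hv) := rfl

lemma galP_act (σ : K ≃ₐ[k] K) (M : GL2 K) (x : Projectivization K (Fin 2 → K)) :
    galP σ ((Matrix.GeneralLinearGroup.toLin M) • x)
      = (Matrix.GeneralLinearGroup.toLin (Matrix.GeneralLinearGroup.map (σ : K →+* K) M))
        • galP σ x := by
  induction x using Projectivization.ind with
  | h v hv =>
    rw [act_mk, galP_mk, galP_mk, act_mk]
    apply mk_congr
    funext i
    rw [galVec_apply, mv2, mv2]
    simp only [galVec_apply, map_add, map_mul]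
    rfl

lemma galP_injective (σ : K ≃ₐ[k] K) :
    Function.Injective (fun x : Projectivization K (Fin 2 → K) => galP σ x) := by
  intro x y h
  have key : ∀ z : Projectivization K (Fin 2 → K), galP σ.symm (galP σ z) = z := by
    intro z
    induction z using Projectivization.ind with
    | h v hv =>
      rw [galP_mk, galP_mk]
      apply mk_congr
      funext i
      rw [galVec_apply, galVec_apply]
      exact σ.symm_apply_apply (v i)
  have h' : galP σ x = galP σ y := h
  calc x = galP σ.symm (galP σ x) := (key x).symm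
    _ = galP σ.symm (galP σ y) := by rw [h']
    _ = y := key y

lemma galP_std (σ : K ≃ₐ[k] K) (i : Fin 3) :
    galP σ (std i : Projectivization K (Fin 2 → K)) = std i := by
  show galP σ (Projectivization.mk K (sv i) (sv_ne i)) = Projectivization.mk K (sv i) (sv_ne i)
  rw [galP_mk]
  apply mk_congr
  funext j
  rw [galVec_apply]
  fin_cases i <;> fin_cases j <;> simp [sv]

lemma descent [FiniteDimensional k K] [IsGalois k K] (M : GL2 K)
    (h : ∀ σ : K ≃ₐ[k] K, ∃ c : K, ∀ i j, σ (M.1 i j) = c * M.1 i j) :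
    ∃ (M₀ : GL2 k) (μ : K), M.1 = μ • (Matrix.GeneralLinearGroup.map (algebraMap k K) M₀).1 := by
  have hdet : M.1.det ≠ 0 := Matrix.GeneralLinearGroup.det_ne_zero M
  obtain ⟨i₀, j₀, hμ⟩ : ∃ i₀ j₀, M.1 i₀ j₀ ≠ 0 := by
    by_contra hcon
    push_neg at hcon
    apply hdet
    have : M.1 = 0 := by ext i j; exact hcon i j
    rw [this]
    exact Matrix.det_zero
  obtain ⟨μ, hμdef⟩ : ∃ μ : K, μ = M.1 i₀ j₀ := ⟨_, rfl⟩
  rw [← hμdef] at hμ
  have hfixed : ∀ i j, ∀ σ : K ≃ₐ[k] K, σ (μ⁻¹ * M.1 i j) = μ⁻¹ * M.1 i j := by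
    intro i j σ
    obtain ⟨c, hc⟩ := h σ
    have hcμ : σ μ = c * μ := by rw [hμdef]; exact hc i₀ j₀
    have hσμ : σ μ ≠ 0 := by
      intro h0
      exact hμ ((EmbeddingLike.map_eq_zero_iff).mp h0)
    have hc0 : c ≠ 0 := by
      intro h0; rw [h0, zero_mul] at hcμ; exact hσμ hcμ
    rw [map_mul, map_inv₀, hc i j, hcμ]
    field_simp
  have hmem : ∀ i j, ∃ a : k, algebraMap k K a = μ⁻¹ * M.1 i j := by
    intro i j
    exact (IsGalois.mem_range_algebraMap_iff_fixed (F := k) (E := K) (μ⁻¹ * M.1 i j)).mpr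
      (hfixed i j)
  choose m₀ hm₀ using hmem
  let A : Matrix (Fin 2) (Fin 2) k := Matrix.of m₀
  have hA : A.map (algebraMap k K) = μ⁻¹ • M.1 := by
    ext i j
    rw [Matrix.map_apply, Matrix.smul_apply, smul_eq_mul]
    exact hm₀ i j
  have hAdet : A.det ≠ 0 := by
    intro h0
    have h1 : (A.map (algebraMap k K)).det = 0 := by
      have := RingHom.map_det (algebraMap k K) A
      rw [RingHom.mapMatrix_apply] at this
      rw [← this, h0, map_zero]
    rw [hA, Matrix.det_smul] at h1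
    have : μ⁻¹ ^ Fintype.card (Fin 2) ≠ 0 := pow_ne_zero _ (inv_ne_zero hμ)
    exact (mul_ne_zero this hdet) h1
  refine ⟨Matrix.GeneralLinearGroup.mkOfDetNeZero A hAdet, μ, ?_⟩
  show M.1 = μ • A.map (algebraMap k K)
  rw [hA, smul_smul, mul_inv_cancel₀ hμ, one_smul]

lemma core [FiniteDimensional k K] [IsGalois k K]
    (p q : Fin 3 → Projectivization K (Fin 2 → K)) (hp : Function.Injective p)
    (hq : Function.Injective q)
    (heq : ∀ (σ : K ≃ₐ[k] K) (i : Fin 3), ∃ j, galP σ (p i) = p j ∧ galP σ (q i) = q j) :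
    ∃ g : GL2 k, ∀ i, (Matrix.GeneralLinearGroup.toLin
      (Matrix.GeneralLinearGroup.map (algebraMap k K) g)) • p i = q i := by
  obtain ⟨Np, hNp⟩ := exists_frame_pt p hp
  obtain ⟨Nq, hNq⟩ := exists_frame_pt q hq
  obtain ⟨M, hMdef⟩ : ∃ M : GL2 K, M = Nq * Np⁻¹ := ⟨_, rfl⟩
  have hM : ∀ i, (Matrix.GeneralLinearGroup.toLin M) • p i = q i := by
    intro i
    rw [hMdef, map_mul, map_inv, mul_smul, ← hNp i, inv_smul_smul, hNq i]
  have hfix : ∀ σ : K ≃ₐ[k] K, ∃ c : K, ∀ i j, σ (M.1 i j) = c * M.1 i j := by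
    intro σ
    choose f hf using heq σ
    have hfinj : Function.Injective f := by
      intro i i' hii
      apply hp
      apply galP_injective σ
      show galP σ (p i) = galP σ (p i')
      rw [(hf i).1, (hf i').1, hii]
    have hfsurj : Function.Surjective f := Finite.injective_iff_surjective.mp hfinj
    have hagree : ∀ j, (Matrix.GeneralLinearGroup.toLin M) • p j
        = (Matrix.GeneralLinearGroup.toLin
          (Matrix.GeneralLinearGroup.map (σ : K →+* K) M)) • p j := by
      intro j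
      obtain ⟨i, rfl⟩ := hfsurj j
      calc (Matrix.GeneralLinearGroup.toLin M) • p (f i) = q (f i) := hM (f i)
        _ = galP σ (q i) := (hf i).2.symm
        _ = galP σ ((Matrix.GeneralLinearGroup.toLin M) • p i) := by rw [hM i]
        _ = (Matrix.GeneralLinearGroup.toLin
              (Matrix.GeneralLinearGroup.map (σ : K →+* K) M)) • galP σ (p i) :=
            galP_act σ M (p i)
        _ = _ := by rw [(hf i).1]
    obtain ⟨c, hc⟩ := prop_of_agree M _ p hp hagree
    refine ⟨c, fun i j => ?_⟩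
    have := congrFun (congrFun hc i) j
    rw [Matrix.smul_apply, smul_eq_mul] at this
    exact this
  obtain ⟨M₀, μ, hμ⟩ := descent M hfix
  refine ⟨M₀, fun i => ?_⟩
  rw [← act_eq_of_smul M _ μ hμ, hM i]

/-- the inductive invariant -/
def Phi (k : Type u) {K : Type u} [Field k] [Field K] [Algebra k K] (n : ℕ)
    (p q : Fin n → Projectivization K (Fin 2 → K)) : Prop :=
  Function.Injective p ∧ Function.Injective q ∧
    ∀ (σ : K ≃ₐ[k] K) (i : Fin n), ∃ j, galP σ (p i) = p j ∧ galP σ (q i) = q j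

lemma exists_std_notin {n : ℕ} (hn : n < 3) (p : Fin n → Projectivization K (Fin 2 → K)) :
    ∃ i : Fin 3, (std i : Projectivization K (Fin 2 → K)) ∉ Set.range p := by
  by_contra hcon
  push_neg at hcon
  choose f hf using hcon
  have hinj : Function.Injective f := by
    intro i i' hii
    apply std_injective (K := K)
    rw [← hf i, ← hf i', hii]
  have := Fintype.card_le_of_injective f hinj
  simp at this
  omega

lemma extend {n : ℕ} (hn : n < 3) (p q : Fin n → Projectivization K (Fin 2 → K))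
    (h : Phi k n p q) :
    ∃ p' q' : Fin (n + 1) → Projectivization K (Fin 2 → K), Phi k (n + 1) p' q' ∧
      ∀ i : Fin n, p' i.castSucc = p i ∧ q' i.castSucc = q i := by
  obtain ⟨hp, hq, heq⟩ := h
  obtain ⟨a, ha⟩ := exists_std_notin hn p
  obtain ⟨b, hb⟩ := exists_std_notin hn q
  refine ⟨Fin.snoc (α := fun _ => Projectivization K (Fin 2 → K)) p (std a),
    Fin.snoc (α := fun _ => Projectivization K (Fin 2 → K)) q (std b),
    ⟨Fin.snoc_injective_of_injective hp ha, Fin.snoc_injective_of_injective hq hb, ?_⟩, ?_⟩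
  · intro σ i
    induction i using Fin.lastCases with
    | last =>
      refine ⟨Fin.last n, ?_, ?_⟩
      · simp only [Fin.snoc_last]; exact galP_std σ a
      · simp only [Fin.snoc_last]; exact galP_std σ b
    | cast i =>
      obtain ⟨j, hj1, hj2⟩ := heq σ i
      refine ⟨j.castSucc, ?_, ?_⟩
      · simp only [Fin.snoc_castSucc]; exact hj1
      · simp only [Fin.snoc_castSucc]; exact hj2
  · intro i
    refine ⟨?_, ?_⟩
    · simp only [Fin.snoc_castSucc]
    · simp only [Fin.snoc_castSucc]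

lemma main_aux [FiniteDimensional k K] [IsGalois k K] :
    ∀ (d n : ℕ) (_ : n + d = 3) (p q : Fin n → Projectivization K (Fin 2 → K)),
    Phi k n p q → ∃ g : GL2 k, ∀ i, (Matrix.GeneralLinearGroup.toLin
      (Matrix.GeneralLinearGroup.map (algebraMap k K) g)) • p i = q i := by
  intro d
  induction d with
  | zero =>
    intro n hn p q h
    have hn3 : n = 3 := by omega
    subst hn3
    exact core p q h.1 h.2.1 h.2.2
  | succ d ih =>
    intro n hn p q h
    obtain ⟨p', q', h', hpq⟩ := extend (by omega) p q h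
    obtain ⟨g, hg⟩ := ih (n + 1) (by omega) p' q' h'
    refine ⟨g, fun i => ?_⟩
    rw [← (hpq i).1, ← (hpq i).2]
    exact hg i.castSucc

end gal



/-- Let k be a field and K a finite Galois extension of k. Let S be a finite set of at most three
K-points of the projective line that is stable under the Galois group of K over k, and let b be a
Galois-equivariant bijection from S onto another set S' of K-points. Then some element of GL_2(k)
maps S onto S'. (This is the statement that two closed subschemes of the projective line over k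
which are etale over k of the same degree at most 3 and have isomorphic k-algebras of functions are
exchanged by a k-automorphism of the line, written for their sets of points over a finite Galois
extension K of k splitting both; an isomorphism of the function algebras is the same as a
Galois-equivariant bijection of these point sets.) -/
theorem result (k K : Type u) [Field k] [Field K]
    [Algebra k K] [FiniteDimensional k K] [IsGalois k K]
    (S S' : Set (Projectivization K (Fin 2 → K))) (hfin : S.Finite) (h3 : S.ncard ≤ 3)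
    (hS : ∀ (σ : K ≃ₐ[k] K) (x : Projectivization K (Fin 2 → K)), x ∈ S → W4c1stackycurves.galP σ x ∈ S)
    (b : S ≃ S')
    (hb : ∀ (σ : K ≃ₐ[k] K) (x : S),
      (b ⟨W4c1stackycurves.galP σ x.1, hS σ x.1 x.2⟩ : Projectivization K (Fin 2 → K)) =
        W4c1stackycurves.galP σ (b x).1) :
    ∃ g : Matrix.GeneralLinearGroup (Fin 2) k,
      (fun x => (Matrix.GeneralLinearGroup.toLin ((Matrix.GeneralLinearGroup.map (algebraMap k K)) g)) • x) '' S = S' := by
  classical
  haveI : Finite S := hfin.to_subtype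
  let e : S ≃ Fin (Nat.card S) := Finite.equivFin S
  have hcard : Nat.card S ≤ 3 := by rw [Nat.card_coe_set_eq]; exact h3
  let p : Fin (Nat.card S) → Projectivization K (Fin 2 → K) := fun i => (e.symm i).1
  let q : Fin (Nat.card S) → Projectivization K (Fin 2 → K) := fun i => (b (e.symm i)).1
  have hPhi : Phi k (Nat.card S) p q := by
    refine ⟨?_, ?_, ?_⟩
    · intro i j hij
      exact e.symm.injective (Subtype.ext hij)
    · intro i j hij
      exact e.symm.injective (b.injective (Subtype.ext hij))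
    · intro σ i
      refine ⟨e ⟨W4c1stackycurves.galP σ (e.symm i).1, hS σ _ (e.symm i).2⟩, ?_, ?_⟩
      · show W4c1stackycurves.galP σ (e.symm i).1 = (e.symm (e _)).1
        rw [Equiv.symm_apply_apply]
      · show W4c1stackycurves.galP σ (b (e.symm i)).1 = (b (e.symm (e _))).1
        rw [Equiv.symm_apply_apply]
        exact (hb σ (e.symm i)).symm
  obtain ⟨d, hd⟩ : ∃ d, Nat.card S + d = 3 := ⟨3 - Nat.card S, by omega⟩
  obtain ⟨g, hg⟩ := main_aux d _ hd p q hPhi
  refine ⟨g, ?_⟩
  ext y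
  constructor
  · rintro ⟨x, hx, rfl⟩
    have := hg (e ⟨x, hx⟩)
    simp only [p, q, Equiv.symm_apply_apply] at this
    show (Matrix.GeneralLinearGroup.toLin
      ((Matrix.GeneralLinearGroup.map (algebraMap k K)) g)) • x ∈ S'
    rw [this]
    exact (b ⟨x, hx⟩).2
  · intro hy
    refine ⟨(b.symm ⟨y, hy⟩).1, (b.symm ⟨y, hy⟩).2, ?_⟩
    have := hg (e (b.symm ⟨y, hy⟩))
    simp only [p, q, Equiv.symm_apply_apply, Equiv.apply_symm_apply] at this
    exact this


end Groth.Agent.S13783
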