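import Groth.Statements.S13784
import Mathlib.RingTheory.IntegralDomain
import Mathlib.RingTheory.LocalRing.ResidueField.Basic
import Mathlib.Algebra.Ring.GeomSum
-- import your own Groth.Agent.* helpers here

set_option autoImplicit false
universe u
open CAlg

namespace Groth.Agent.S13784

/-- Let A be a commutative local ring and G a finite subgroup of Aˣ. If the order of G is invertible in
A, then G is cyclic. -/
theorem result {A : Type u} [CommRing A] [IsLocalRing A]
    (G : Subgroup Aˣ) [Finite G] (hG : IsUnit ((Nat.card G : ℕ) : A)) : IsCyclic G := by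
  classical
  let f : G →* IsLocalRing.ResidueField A :=
    { toFun := fun g => IsLocalRing.residue A ((g : Aˣ) : A)
      map_one' := by simp
      map_mul' := by intro a b; simp }
  refine isCyclic_of_injective_ringHom f ?_
  rw [injective_iff_map_eq_one]
  intro g hg
  have hg1 : IsLocalRing.residue A ((g : Aˣ) : A) = 1 := hg
  set x : A := ((g : Aˣ) : A) with hx
  have hpow : x ^ Nat.card G = 1 := by
    have h1 : g ^ Nat.card G = 1 := pow_card_eq_one'
    have h2 : (((g ^ Nat.card G : G) : Aˣ) : A) = ((1 : G) : Aˣ) := by rw [h1]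
    rw [hx]
    push_cast at h2
    exact h2
  have hgeom := mul_geom_sum x (Nat.card G)
  rw [hpow, sub_self] at hgeom
  have hunit : IsUnit (∑ i ∈ Finset.range (Nat.card G), x ^ i) := by
    rw [← IsLocalRing.residue_ne_zero_iff_isUnit]
    rw [map_sum]
    simp only [map_pow, hg1, one_pow, Finset.sum_const, Finset.card_range, nsmul_eq_mul, mul_one]
    have : IsLocalRing.residue A ((Nat.card G : ℕ) : A) ≠ 0 :=
      (IsLocalRing.residue_ne_zero_iff_isUnit _).mpr hG
    simpa using this
  have hx1 : x - 1 = 0 := hunit.mul_left_eq_zero.mp hgeom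
  have hx1' : x = 1 := sub_eq_zero.mp hx1
  apply Subtype.ext
  apply Units.ext
  simpa [hx] using hx1'

end Groth.Agent.S13784
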