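import Groth.Statements.S13785
import Mathlib
-- import your own Groth.Agent.* helpers here

set_option autoImplicit false
universe u
open CAlg

namespace Groth.Agent.S13785

/-- For any commutative ring A, the determinant of the generic n × n matrix is a nonzerodivisor of the
polynomial ring over A in the n² matrix entries. -/
theorem result (A : Type u) [CommRing A] (n : ℕ) :
    (Matrix.mvPolynomialX (Fin n) (Fin n) A).det ∈ nonZeroDivisors (MvPolynomial (Fin n × Fin n) A) := by
  classical
  set M := Matrix.mvPolynomialX (Fin n) (Fin n) A with hM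
  let ψ : MvPolynomial (Fin n × Fin n) A →ₐ[A] Polynomial (MvPolynomial (Fin n × Fin n) A) :=
    MvPolynomial.aeval (fun p : Fin n × Fin n => M.charmatrix p.1 p.2)
  have hψM : ψ.mapMatrix M = M.charmatrix :=
    Matrix.mvPolynomialX_mapMatrix_aeval A M.charmatrix
  have hdet : ψ M.det = M.charpoly := by
    rw [Matrix.charpoly, ← hψM, AlgHom.map_det]
  let ψ' : Polynomial (MvPolynomial (Fin n × Fin n) A) →+* Polynomial (MvPolynomial (Fin n × Fin n) A) :=
    Polynomial.eval₂RingHom ψ.toRingHom Polynomial.X
  have hcomp : ψ'.comp ψ.toRingHom = Polynomial.C := by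
    apply MvPolynomial.ringHom_ext
    · intro a
      simp [ψ', ψ]
    · intro ij
      obtain ⟨i, j⟩ := ij
      simp only [ψ', ψ, RingHom.coe_comp, Function.comp_apply, AlgHom.toRingHom_eq_coe,
        RingHom.coe_coe, MvPolynomial.aeval_X, Matrix.charmatrix_apply, hM,
        Matrix.mvPolynomialX_apply, Polynomial.coe_eval₂RingHom, Polynomial.eval₂_sub,
        Polynomial.eval₂_C]
      by_cases hij : i = j
      · subst hij
        simp [Matrix.charmatrix_apply]
      · simp [Matrix.charmatrix_apply, hij]
  have hinj : Function.Injective ψ := by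
    intro x y hxy
    have h1 : ψ'.comp ψ.toRingHom x = ψ'.comp ψ.toRingHom y := by
      simp only [RingHom.coe_comp, Function.comp_apply]
      exact congrArg ψ' hxy
    rw [hcomp] at h1
    exact Polynomial.C_injective h1
  rw [mem_nonZeroDivisors_iff_right]
  intro g hg
  have h2 : ψ g * M.charpoly = 0 := by
    rw [← hdet, ← map_mul, hg, map_zero]
  have h3 : ψ g = 0 := (M.charpoly_monic.mem_nonZeroDivisors |> mem_nonZeroDivisors_iff_right.mp) _ h2
  exact hinj (by rw [h3, map_zero])

end Groth.Agent.S13785
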