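import Groth.Statements.S13786
import Mathlib
-- import your own Groth.Agent.* helpers here

set_option autoImplicit false
universe u
open CAlg

namespace Groth.Agent.S13786

/-- For a commutative ring A and n ≥ 1, with det the determinant of the generic n × n matrix in the
polynomial ring A[X] in n² indeterminates, the A-algebra A[X]/(det) is faithfully flat over A. (For
n = 0 the determinant is 1 and the quotient is the zero ring, so n ≥ 1 is required.) -/
theorem result (A : Type u) [CommRing A] (n : ℕ) (hn : 0 < n) :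
    Module.FaithfullyFlat A
      (MvPolynomial (Fin n × Fin n) A ⧸ Ideal.span {(Matrix.mvPolynomialX (Fin n) (Fin n) A).det}) := by
  classical
  set M := Matrix.mvPolynomialX (Fin n) (Fin n) A with hM
  set d := M.det with hd
  have hg : M.charpoly.Monic := M.charpoly_monic
  -- AdjoinRoot of the characteristic polynomial is free over A
  have : Module.Free (MvPolynomial (Fin n × Fin n) A) (AdjoinRoot M.charpoly) :=
    Module.Free.of_basis (AdjoinRoot.powerBasis' hg).basis
  have : Module.Free A (AdjoinRoot M.charpoly) :=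
    Module.Free.trans (R := A) (S := MvPolynomial (Fin n × Fin n) A) (M := AdjoinRoot M.charpoly)
  -- the substitution X ↦ T - X
  let ψ : MvPolynomial (Fin n × Fin n) A →ₐ[A] Polynomial (MvPolynomial (Fin n × Fin n) A) :=
    MvPolynomial.aeval (fun p : Fin n × Fin n => M.charmatrix p.1 p.2)
  have hψM : ψ.mapMatrix M = M.charmatrix :=
    Matrix.mvPolynomialX_mapMatrix_aeval A M.charmatrix
  have hdet : ψ d = M.charpoly := by
    rw [Matrix.charpoly, ← hψM, AlgHom.map_det]
  let χ₀ : MvPolynomial (Fin n × Fin n) A →ₐ[A] AdjoinRoot M.charpoly :=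
    ((AdjoinRoot.mkₐ M.charpoly).restrictScalars A).comp ψ
  have hχ₀ : ∀ a ∈ Ideal.span {d}, χ₀ a = 0 := by
    intro a ha
    obtain ⟨c, rfl⟩ := Ideal.mem_span_singleton.mp ha
    have : χ₀ d = 0 := by
      change AdjoinRoot.mk M.charpoly (ψ d) = 0
      rw [hdet, AdjoinRoot.mk_self]
    rw [map_mul, this, zero_mul]
  let χ : (MvPolynomial (Fin n × Fin n) A ⧸ Ideal.span {d}) →ₐ[A] AdjoinRoot M.charpoly :=
    Ideal.Quotient.liftₐ (Ideal.span {d}) χ₀ hχ₀
  -- the retraction
  let i₀ : MvPolynomial (Fin n × Fin n) A →ₐ[A] (MvPolynomial (Fin n × Fin n) A ⧸ Ideal.span {d}) :=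
    (Ideal.Quotient.mkₐ A (Ideal.span {d})).comp
      (MvPolynomial.aeval (fun p : Fin n × Fin n => -(MvPolynomial.X p : MvPolynomial (Fin n × Fin n) A)))
  have hi₀ : M.charpoly.eval₂ (i₀ : MvPolynomial (Fin n × Fin n) A →+* (MvPolynomial (Fin n × Fin n) A ⧸ Ideal.span {d})) 0 = 0 := by
    rw [Matrix.charpoly, ← Polynomial.coe_eval₂RingHom, RingHom.map_det]
    have : (Polynomial.eval₂RingHom (i₀ : MvPolynomial (Fin n × Fin n) A →+* (MvPolynomial (Fin n × Fin n) A ⧸ Ideal.span {d})) 0).mapMatrix M.charmatrix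
        = (Ideal.Quotient.mk (Ideal.span {d})).mapMatrix M := by
      ext a b
      simp only [RingHom.mapMatrix_apply, Matrix.map_apply, Matrix.charmatrix_apply,
        Polynomial.coe_eval₂RingHom, Polynomial.eval₂_sub, Polynomial.eval₂_C]
      by_cases hab : a = b
      · subst hab
        simp [i₀, hM]
      · simp [i₀, hM, hab]
    rw [this, ← RingHom.map_det]
    exact Ideal.Quotient.eq_zero_iff_mem.mpr (Ideal.mem_span_singleton_self d)
  let ρ : AdjoinRoot M.charpoly →ₐ[A] (MvPolynomial (Fin n × Fin n) A ⧸ Ideal.span {d}) :=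
    AdjoinRoot.liftAlgHom M.charpoly i₀ 0 hi₀
  have hρχ : ρ.comp χ = AlgHom.id A _ := by
    apply Ideal.Quotient.algHom_ext
    apply MvPolynomial.algHom_ext
    rintro ⟨a, b⟩
    simp only [AlgHom.comp_apply, Ideal.Quotient.mkₐ_eq_mk, AlgHom.id_apply, χ,
      Ideal.Quotient.liftₐ_apply, Ideal.Quotient.lift_mk]
    change ρ (AdjoinRoot.mk M.charpoly (ψ (MvPolynomial.X (a, b)))) = _
    simp only [ψ, MvPolynomial.aeval_X, ρ, Matrix.charmatrix_apply]
    by_cases hab : a = b
    · subst hab
      simp [i₀, hM]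
    · simp [i₀, hM, hab]
  have : Module.Projective A (MvPolynomial (Fin n × Fin n) A ⧸ Ideal.span {d}) :=
    Module.Projective.of_split χ.toLinearMap ρ.toLinearMap (by
      ext x
      exact congrArg (fun f : _ →ₐ[A] _ => f x) hρχ)
  -- faithful: a retraction of rings
  have hn' : Nonempty (Fin n) := ⟨⟨0, hn⟩⟩
  let r₀ : MvPolynomial (Fin n × Fin n) A →ₐ[A] A := MvPolynomial.aeval (fun _ => (0 : A))
  have hr₀ : ∀ a ∈ Ideal.span {d}, r₀ a = 0 := by
    intro a ha
    obtain ⟨c, rfl⟩ := Ideal.mem_span_singleton.mp ha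
    have : r₀ d = 0 := by
      rw [hd, AlgHom.map_det]
      have : r₀.mapMatrix M = 0 := by
        ext a b
        simp [r₀, hM]
      rw [this, Matrix.det_zero]
    rw [map_mul, this, zero_mul]
  let r : (MvPolynomial (Fin n × Fin n) A ⧸ Ideal.span {d}) →ₐ[A] A :=
    Ideal.Quotient.liftₐ (Ideal.span {d}) r₀ hr₀
  apply Module.FaithfullyFlat.of_comap_surjective
  intro q
  refine ⟨PrimeSpectrum.comap r.toRingHom q, ?_⟩
  rw [← PrimeSpectrum.comap_comp_apply]
  have : r.toRingHom.comp (algebraMap A (MvPolynomial (Fin n × Fin n) A ⧸ Ideal.span {d})) =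
      RingHom.id A := by
    ext x
    simp
  rw [this]
  simp

end Groth.Agent.S13786
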