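import Groth.Statements.S13787
import Groth.Agent.S13785
import Mathlib
-- import your own Groth.Agent.* helpers here

set_option autoImplicit false
universe u
open CAlg

namespace Groth.Agent.S13787

theorem constantCoeff_det (A : Type u) [CommRing A] (n : ℕ) (hn : 0 < n) :
    MvPolynomial.constantCoeff (Matrix.mvPolynomialX (Fin n) (Fin n) A).det = 0 := by
  have : Nonempty (Fin n) := ⟨⟨0, hn⟩⟩
  rw [RingHom.map_det]
  have : (MvPolynomial.constantCoeff (R := A) (σ := Fin n × Fin n)).mapMatrix
      (Matrix.mvPolynomialX (Fin n) (Fin n) A) = 0 := by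
    ext i j
    simp
  rw [this, Matrix.det_zero]

theorem aux (A : Type u) [CommRing A] [Nontrivial A] (n : ℕ) (hn : 0 < n) (c : Aˣ) (m : ℕ)
    (h : algebraMap A (Localization.Away (Matrix.mvPolynomialX (Fin n) (Fin n) A).det) c =
      (algebraMap (MvPolynomial (Fin n × Fin n) A)
        (Localization.Away (Matrix.mvPolynomialX (Fin n) (Fin n) A).det)
        (Matrix.mvPolynomialX (Fin n) (Fin n) A).det) ^ m) : m = 0 ∧ c = 1 := by
  set d := (Matrix.mvPolynomialX (Fin n) (Fin n) A).det with hd
  have hdnz : d ∈ nonZeroDivisors (MvPolynomial (Fin n × Fin n) A) :=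
    Groth.Agent.S13785.result A n
  have hinj : Function.Injective (algebraMap (MvPolynomial (Fin n × Fin n) A) (Localization.Away d)) :=
    IsLocalization.injective (Localization.Away d) ((Submonoid.powers_le).mpr hdnz)
  rw [IsScalarTower.algebraMap_apply A (MvPolynomial (Fin n × Fin n) A) (Localization.Away d),
    ← map_pow] at h
  have h1 := hinj h
  have h2 := congrArg MvPolynomial.constantCoeff h1
  rw [map_pow, constantCoeff_det A n hn, MvPolynomial.algebraMap_eq, MvPolynomial.constantCoeff_C] at h2
  rcases Nat.eq_zero_or_pos m with hm | hm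
  · subst hm
    refine ⟨rfl, ?_⟩
    rw [pow_zero] at h2
    exact Units.ext h2
  · exfalso
    rw [zero_pow hm.ne'] at h2
    exact c.ne_zero h2

/-- Let A be a nonzero commutative ring and n ≥ 1, let det be the determinant of the generic n × n
matrix in the polynomial ring A[X] in its n² entries, and let A[X, 1/det] be the localization at det
(the coordinate ring of GL_n over A). The homomorphism Aˣ × ℤ → (A[X, 1/det])ˣ sending (a, e) to a ·
det^e is injective. (The published statement takes the exponent in the group of locally constant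
ℤ-valued functions on Spec A, which also covers A = 0; with integer exponents as here, A must be
nonzero and n ≥ 1.) -/
theorem result (A : Type u) [CommRing A] [Nontrivial A] (n : ℕ) (hn : 0 < n) :
    Function.Injective (fun p : Aˣ × ℤ =>
        Units.map (algebraMap A (Localization.Away (Matrix.mvPolynomialX (Fin n) (Fin n) A).det)).toMonoidHom p.1 *
          (IsLocalization.Away.algebraMap_isUnit (S := Localization.Away (Matrix.mvPolynomialX (Fin n) (Fin n) A).det)
            (Matrix.mvPolynomialX (Fin n) (Fin n) A).det).unit ^ p.2) := by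
  set d := (Matrix.mvPolynomialX (Fin n) (Fin n) A).det with hd
  set u : (Localization.Away d)ˣ :=
    (IsLocalization.Away.algebraMap_isUnit (S := Localization.Away d) d).unit with hu
  set U : Aˣ →* (Localization.Away d)ˣ :=
    Units.map (algebraMap A (Localization.Away d)).toMonoidHom with hU
  have huval : (u : Localization.Away d) = algebraMap (MvPolynomial (Fin n × Fin n) A) _ d := rfl
  have key : ∀ (c : Aˣ) (m : ℕ), U c = u ^ m → m = 0 ∧ c = 1 := by
    intro c m h
    apply aux A n hn c m
    have := congrArg (fun x : (Localization.Away d)ˣ => (x : Localization.Away d)) h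
    simpa [hU, huval] using this
  rintro ⟨a, e⟩ ⟨a', e'⟩ h
  change U a * u ^ e = U a' * u ^ e' at h
  have h1 : U (a'⁻¹ * a) = u ^ (e' - e) := by
    rw [map_mul, map_inv, zpow_sub]
    rw [inv_mul_eq_iff_eq_mul, ← mul_assoc, ← h, mul_assoc, mul_inv_cancel, mul_one]
  obtain ⟨m, hm | hm⟩ := Int.eq_nat_or_neg (e' - e)
  · rw [hm, zpow_natCast] at h1
    obtain ⟨hm0, hc⟩ := key _ _ h1
    subst hm0
    have he : e' = e := by simpa [sub_eq_zero] using hm
    have ha : a = a' := by
      have := inv_mul_eq_one.mp hc
      exact this.symm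
    rw [ha, he]
  · rw [hm, zpow_neg, zpow_natCast] at h1
    have h2 : U (a'⁻¹ * a)⁻¹ = u ^ m := by rw [map_inv, h1, inv_inv]
    obtain ⟨hm0, hc⟩ := key _ _ h2
    subst hm0
    have he : e' = e := by simpa [sub_eq_zero] using hm
    have ha : a = a' := by
      have := inv_mul_eq_one.mp (inv_eq_one.mp hc)
      exact this.symm
    rw [ha, he]

end Groth.Agent.S13787
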