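import Groth.Statements.S6485
import Mathlib

set_option autoImplicit false
universe u
open IntMult

namespace Groth.Agent.S6485


section Aux
open MvPolynomial Matrix

variable (k : Type u) [Field k] (n : ℕ)

/-- the algebra map setting the variable `i0` to zero -/
noncomputable def kill (i0 : Fin n × Fin n) :
    MvPolynomial (Fin n × Fin n) k →ₐ[k] MvPolynomial (Fin n × Fin n) k :=
  aeval (fun p => if p = i0 then 0 else X p)

lemma not_mem_vars_kill (i0 : Fin n × Fin n) (p : MvPolynomial (Fin n × Fin n) k) :
    i0 ∉ (kill k n i0 p).vars := by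
  classical
  intro h
  have h1 := vars_bind₁ (fun p => if p = i0 then (0 : MvPolynomial (Fin n × Fin n) k) else X p) p h
  rw [Finset.mem_biUnion] at h1
  obtain ⟨q, _, hq⟩ := h1
  by_cases hq0 : q = i0
  · simp [hq0] at hq
  · simp only [hq0, if_false, vars_X, Finset.mem_singleton] at hq
    exact hq0 hq.symm

lemma decomp (m : ℕ) (r c : Fin (m + 1) → Fin n) (hr : Function.Injective r)
    (hc : Function.Injective c) :
    det (of fun i j => (X (r i, c j) : MvPolynomial (Fin n × Fin n) k)) =
      det ((of fun i j => (X (r i, c j) : MvPolynomial (Fin n × Fin n) k)).submatrix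
        Fin.succ Fin.succ) * X (r 0, c 0) +
        kill k n (r 0, c 0) (det (of fun i j => (X (r i, c j) : MvPolynomial (Fin n × Fin n) k))) ∧
    kill k n (r 0, c 0) (det ((of fun i j => (X (r i, c j) : MvPolynomial (Fin n × Fin n) k)).submatrix
        Fin.succ Fin.succ)) =
      det ((of fun i j => (X (r i, c j) : MvPolynomial (Fin n × Fin n) k)).submatrix
        Fin.succ Fin.succ) := by
  set A : Matrix (Fin (m + 1)) (Fin (m + 1)) (MvPolynomial (Fin n × Fin n) k) :=
    of fun i j => X (r i, c j) with hA
  have hminor : ∀ cc : Fin m → Fin (m + 1),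
      kill k n (r 0, c 0) (det (A.submatrix Fin.succ cc)) = det (A.submatrix Fin.succ cc) := by
    intro cc
    rw [AlgHom.map_det]
    congr 1
    ext i j
    simp only [AlgHom.mapMatrix_apply, map_apply, submatrix_apply, hA, of_apply, kill, aeval_X]
    rw [if_neg]
    intro h
    exact Fin.succ_ne_zero i (hr (Prod.ext_iff.mp h).1)
  refine ⟨?_, hminor _⟩
  have h1 := det_succ_row_zero A
  have h2 : kill k n (r 0, c 0) (det A) = ∑ j : Fin (m + 1),
      (-1) ^ (j : ℕ) * kill k n (r 0, c 0) (A 0 j) * det (A.submatrix Fin.succ j.succAbove) := by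
    conv_lhs => rw [h1]
    rw [map_sum]
    refine Finset.sum_congr rfl fun j _ => ?_
    rw [map_mul, map_mul, hminor, map_pow, map_neg, map_one]
  have h3 : kill k n (r 0, c 0) (A 0 0) = 0 := by simp [hA, kill]
  have h4 : ∀ j : Fin m, kill k n (r 0, c 0) (A 0 j.succ) = A 0 j.succ := by
    intro j
    simp only [hA, of_apply, kill, aeval_X]
    rw [if_neg]
    intro h
    exact Fin.succ_ne_zero j (hc (Prod.ext_iff.mp h).2)
  rw [h2, h1, Fin.sum_univ_succ, Fin.sum_univ_succ, h3]
  simp only [h4, Fin.succAbove_zero, Fin.val_zero, pow_zero]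
  have h5 : A 0 0 = X (r 0, c 0) := rfl
  rw [h5]
  ring

theorem irreducible_det_aux : ∀ (m : ℕ) (r c : Fin (m + 1) → Fin n), Function.Injective r →
    Function.Injective c →
    Irreducible (det (of fun i j => (X (r i, c j) : MvPolynomial (Fin n × Fin n) k))) := by
  intro m
  induction m with
  | zero =>
    intro r c hr hc
    obtain ⟨h1, h2⟩ := decomp k n 0 r c hr hc
    rw [h1]
    apply irreducible_mul_X_add
    · rw [det_isEmpty]; exact one_ne_zero
    · rw [← h2]; exact not_mem_vars_kill k n _ _
    · exact not_mem_vars_kill k n _ _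
    · rw [det_isEmpty]; exact isRelPrime_one_left
  | succ m ih =>
    intro r c hr hc
    obtain ⟨h1, h2⟩ := decomp k n (m + 1) r c hr hc
    have hf : Irreducible (det ((of fun i j =>
        (X (r i, c j) : MvPolynomial (Fin n × Fin n) k)).submatrix Fin.succ Fin.succ)) :=
      ih (r ∘ Fin.succ) (c ∘ Fin.succ) (hr.comp (Fin.succ_injective _))
        (hc.comp (Fin.succ_injective _))
    have hdet : ¬ det ((of fun i j =>
        (X (r i, c j) : MvPolynomial (Fin n × Fin n) k)).submatrix Fin.succ Fin.succ) ∣
        det (of fun i j => (X (r i, c j) : MvPolynomial (Fin n × Fin n) k)) := by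
      rintro ⟨h, hh⟩
      classical
      set P : Matrix (Fin (m + 2)) (Fin (m + 2)) k := (finRotate (m + 2)).permMatrix k with hP
      let ev : Fin n × Fin n → k :=
        Function.extend (Prod.map r c) (fun ij => P ij.1 ij.2) 0
      have hev : ∀ i j, ev (r i, c j) = P i j := fun i j =>
        (hr.prodMap hc).extend_apply (fun ij => P ij.1 ij.2) 0 (i, j)
      have e1 : aeval ev (det (of fun i j =>
          (X (r i, c j) : MvPolynomial (Fin n × Fin n) k))) = det P := by
        rw [AlgHom.map_det]
        congr 1
        ext i j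
        simp [hev]
      have e2 : aeval ev (det ((of fun i j =>
          (X (r i, c j) : MvPolynomial (Fin n × Fin n) k)).submatrix Fin.succ Fin.succ)) = 0 := by
        rw [AlgHom.map_det]
        apply det_eq_zero_of_row_eq_zero (Fin.last m)
        intro j
        simp only [AlgHom.mapMatrix_apply, map_apply, submatrix_apply, of_apply, aeval_X, hev]
        rw [hP, Fin.succ_last]
        change PEquiv.toMatrix (finRotate (m + 2)).toPEquiv (Fin.last (m + 1)) j.succ = 0
        rw [PEquiv.toMatrix_apply, Equiv.toPEquiv_apply, finRotate_last]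
        rw [if_neg]
        intro hmem
        exact Fin.succ_ne_zero j (Option.mem_some_iff.mp hmem).symm
      have e3 := congrArg (aeval ev) hh
      rw [map_mul, e1, e2, zero_mul, hP, det_permutation] at e3
      rcases Int.units_eq_one_or (Equiv.Perm.sign (finRotate (m + 2))) with h' | h' <;>
        rw [h'] at e3 <;> simp at e3
    rw [h1]
    apply irreducible_mul_X_add
    · exact hf.ne_zero
    · rw [← h2]; exact not_mem_vars_kill k n _ _
    · exact not_mem_vars_kill k n _ _
    · rw [hf.isRelPrime_iff_not_dvd]
      intro hdvd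
      apply hdet
      rw [h1]
      exact dvd_add (dvd_mul_right _ _) hdvd

end Aux

/-- Let k be a field and n ≥ 1. Then the determinant of the generic matrix (x_{ij})_{1 ≤ i, j ≤ n} is an
irreducible element of the polynomial ring k[x_{ij}] (Mathlib's Matrix.mvPolynomialX is the generic
matrix over MvPolynomial (Fin n × Fin n) k). -/
theorem result (k : Type u) [Field k] (n : ℕ) (hn : 1 ≤ n) : Irreducible (Matrix.mvPolynomialX (Fin n) (Fin n) k).det := by
  obtain ⟨m, rfl⟩ : ∃ m, n = m + 1 := ⟨n - 1, by omega⟩
  exact irreducible_det_aux k (m + 1) m id id Function.injective_id Function.injective_id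

end Groth.Agent.S6485
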