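import Groth.Statements.S13788
import Groth.Agent.S13785
import Groth.Agent.S13787
import Groth.Agent.S6485
import Mathlib

set_option autoImplicit false
universe u
open CAlg

namespace Groth.Agent.S13788

section aux
open MvPolynomial

/-- the generic determinant -/
noncomputable abbrev Dd (B : Type u) [CommRing B] (n : ℕ) : MvPolynomial (Fin n × Fin n) B :=
  (Matrix.mvPolynomialX (Fin n) (Fin n) B).det

theorem map_Dd {A B : Type u} [CommRing A] [CommRing B] (ρ : A →+* B) (n : ℕ) :
    MvPolynomial.map ρ (Dd A n) = Dd B n := by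
  unfold Dd
  rw [RingHom.map_det]
  congr 1
  ext i j
  simp [Matrix.mvPolynomialX]

/-- evaluation at `diag(t,1,…,1)` -/
noncomputable def ev (B : Type u) [CommRing B] (n : ℕ) (hn : 0 < n) :
    MvPolynomial (Fin n × Fin n) B →ₐ[B] Polynomial B :=
  MvPolynomial.aeval (fun x : Fin n × Fin n =>
    if x.1 = x.2 then (if x.1 = ⟨0, hn⟩ then Polynomial.X else 1) else 0)

theorem ev_Dd (B : Type u) [CommRing B] (n : ℕ) (hn : 0 < n) :
    ev B n hn (Dd B n) = Polynomial.X := by
  unfold Dd
  rw [AlgHom.map_det]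
  have : (ev B n hn).mapMatrix (Matrix.mvPolynomialX (Fin n) (Fin n) B) =
      Matrix.diagonal (fun i : Fin n => if i = ⟨0, hn⟩ then (Polynomial.X : Polynomial B) else 1) := by
    ext i j
    simp only [AlgHom.mapMatrix_apply, Matrix.map_apply, Matrix.mvPolynomialX_apply, ev,
      MvPolynomial.aeval_X, Matrix.diagonal_apply]
  rw [this, Matrix.det_diagonal, Finset.prod_ite_eq' Finset.univ (⟨0, hn⟩ : Fin n)]
  simp

theorem ev_X00 (B : Type u) [CommRing B] (n : ℕ) (hn : 0 < n) :
    ev B n hn (X (⟨0, hn⟩, ⟨0, hn⟩)) = Polynomial.X := by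
  simp [ev]

theorem ev_C (B : Type u) [CommRing B] (n : ℕ) (hn : 0 < n) (b : B) :
    ev B n hn (C b) = Polynomial.C b := by
  simp [ev]

theorem ev_map {A B : Type u} [CommRing A] [CommRing B] (ρ : A →+* B) (n : ℕ) (hn : 0 < n)
    (f : MvPolynomial (Fin n × Fin n) A) :
    Polynomial.map ρ (ev A n hn f) = ev B n hn (MvPolynomial.map ρ f) := by
  have : (Polynomial.mapRingHom ρ).comp (ev A n hn).toRingHom =
      (ev B n hn).toRingHom.comp (MvPolynomial.map ρ) := by
    apply MvPolynomial.ringHom_ext
    · intro a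
      simp [ev]
    · intro x
      simp only [ev, RingHom.coe_comp, Function.comp_apply, AlgHom.toRingHom_eq_coe,
        RingHom.coe_coe, aeval_X, Polynomial.coe_mapRingHom, map_X]
      split_ifs <;> simp
  exact congrArg (fun φ => φ f) this

theorem field_case (k : Type u) [Field k] (n : ℕ) (hn : 0 < n)
    (f g : MvPolynomial (Fin n × Fin n) k) (m : ℕ) (h : f * g = Dd k n ^ m) :
    ∃ (c : k) (e : ℕ), c ≠ 0 ∧ e ≤ m ∧ f = C c * Dd k n ^ e := by
  have hirr : Irreducible (Dd k n) := Groth.Agent.S6485.result k n hn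
  have hp : Prime (Dd k n) := hirr.prime
  obtain ⟨e, he, hass⟩ := (dvd_prime_pow hp m).1 ⟨g, h.symm⟩
  obtain ⟨u, hu⟩ := hass.symm
  obtain ⟨c, hc, hcu⟩ := (MvPolynomial.isUnit_iff_eq_C_of_isReduced).1 u.isUnit
  refine ⟨c, e, hc.ne_zero, he, ?_⟩
  rw [← hu, hcu, mul_comm]

theorem Dd_ne_zero (k : Type u) [Field k] (n : ℕ) : Dd k n ≠ 0 :=
  Matrix.det_mvPolynomialX_ne_zero (Fin n) k

/-- both factors over a field -/
theorem field_case2 (k : Type u) [Field k] (n : ℕ) (hn : 0 < n)
    (f g : MvPolynomial (Fin n × Fin n) k) (m : ℕ) (h : f * g = Dd k n ^ m) :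
    ∃ (c : k) (e : ℕ), c ≠ 0 ∧ e ≤ m ∧ f = C c * Dd k n ^ e ∧ g = C c⁻¹ * Dd k n ^ (m - e) := by
  obtain ⟨c, e, hc, he, hf⟩ := field_case k n hn f g m h
  refine ⟨c, e, hc, he, hf, ?_⟩
  have h2 : (C c * Dd k n ^ e) * (C c⁻¹ * Dd k n ^ (m - e)) = Dd k n ^ m := by
    have : C c * Dd k n ^ e * (C c⁻¹ * Dd k n ^ (m - e)) =
        (C c * C c⁻¹) * (Dd k n ^ e * Dd k n ^ (m - e)) := by ring
    rw [this, ← pow_add, ← C_mul, mul_inv_cancel₀ hc, C_1, one_mul, Nat.add_sub_cancel' he]
  have h1 : (C c * Dd k n ^ e) * g = (C c * Dd k n ^ e) * (C c⁻¹ * Dd k n ^ (m - e)) := by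
    rw [h2, ← h, hf]
  have hne : C c * Dd k n ^ e ≠ 0 :=
    mul_ne_zero (by simpa using hc) (pow_ne_zero _ (Dd_ne_zero k n))
  exact mul_left_cancel₀ hne h1

theorem eq_of_forall_prime {A : Type u} [CommRing A] [IsReduced A] (x y : A)
    (h : ∀ (p : Ideal A) [p.IsPrime], algebraMap A p.ResidueField x = algebraMap A p.ResidueField y) :
    x = y := by
  rw [← sub_eq_zero]
  apply IsReduced.eq_zero
  rw [nilpotent_iff_mem_prime]
  intro p hp
  rw [← Ideal.algebraMap_residueField_eq_zero, map_sub, sub_eq_zero]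
  exact h p

theorem global_case (A : Type u) [CommRing A] [Nontrivial A] [IsReduced A]
    (hconn : ∀ e : A, IsIdempotentElem e → e = 0 ∨ e = 1) (n : ℕ) (hn : 0 < n)
    (f g : MvPolynomial (Fin n × Fin n) A) (m : ℕ) (h : f * g = Dd A n ^ m) :
    ∃ (a : Aˣ) (e : ℕ), f = C (a : A) * Dd A n ^ e := by
  classical
  set F := ev A n hn f with hF
  set G := ev A n hn g with hG
  -- local data at every prime
  have hloc : ∀ (p : Ideal A) [p.IsPrime], ∃ (c : p.ResidueField) (e : ℕ), c ≠ 0 ∧ e ≤ m ∧
      MvPolynomial.map (algebraMap A p.ResidueField) f = C c * Dd p.ResidueField n ^ e ∧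
      (∀ i, algebraMap A p.ResidueField (F.coeff i) = if i = e then c else 0) ∧
      (∀ j, algebraMap A p.ResidueField (G.coeff j) = if j = m - e then c⁻¹ else 0) := by
    intro p _
    have h' : MvPolynomial.map (algebraMap A p.ResidueField) f *
        MvPolynomial.map (algebraMap A p.ResidueField) g = Dd p.ResidueField n ^ m := by
      rw [← map_mul, h, map_pow, map_Dd]
    obtain ⟨c, e, hc, he, hf, hg⟩ := field_case2 p.ResidueField n hn _ _ m h'
    refine ⟨c, e, hc, he, hf, ?_, ?_⟩
    · intro i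
      rw [← Polynomial.coeff_map, hF, ev_map, hf, map_mul, map_pow, ev_Dd, ev_C,
        Polynomial.coeff_C_mul, Polynomial.coeff_X_pow]
      split_ifs <;> simp
    · intro j
      rw [← Polynomial.coeff_map, hG, ev_map, hg, map_mul, map_pow, ev_Dd, ev_C,
        Polynomial.coeff_C_mul, Polynomial.coeff_X_pow]
      split_ifs <;> simp
  set ε : ℕ → A := fun i => F.coeff i * G.coeff (m - i) with hε
  have hεloc : ∀ (p : Ideal A) [p.IsPrime], ∃ (e : ℕ), e ≤ m ∧
      ∀ i, i ≤ m → algebraMap A p.ResidueField (ε i) = if i = e then 1 else 0 := by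
    intro p _
    obtain ⟨c, e, hc, he, -, h1, h2⟩ := hloc p
    refine ⟨e, he, fun i hi => ?_⟩
    rw [hε]
    simp only [map_mul, h1, h2]
    by_cases hie : i = e
    · subst hie
      simp [hc]
    · have : m - i ≠ m - e := by omega
      simp [hie]
  have hidem : ∀ i, i ≤ m → IsIdempotentElem (ε i) := by
    intro i hi
    apply eq_of_forall_prime
    intro p _
    obtain ⟨e, -, he⟩ := hεloc p
    rw [map_mul, he i hi]
    split_ifs <;> simp
  have hsum : ∑ i ∈ Finset.range (m + 1), ε i = 1 := by
    apply eq_of_forall_prime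
    intro p _
    obtain ⟨e, hem, he⟩ := hεloc p
    rw [map_sum, map_one]
    rw [Finset.sum_congr rfl (fun i hi => he i (by simpa [Nat.lt_succ_iff] using hi))]
    rw [Finset.sum_ite_eq' (Finset.range (m + 1)) e]
    simp [hem]
  obtain ⟨e, hem, hεe⟩ : ∃ e, e ≤ m ∧ ε e = 1 := by
    by_contra hcon
    push Not at hcon
    have : ∑ i ∈ Finset.range (m + 1), ε i = 0 := by
      apply Finset.sum_eq_zero
      intro i hi
      have him : i ≤ m := by simpa [Nat.lt_succ_iff] using hi
      rcases hconn _ (hidem i him) with h0 | h1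
      · exact h0
      · exact absurd h1 (hcon i him)
    rw [this] at hsum
    exact zero_ne_one hsum
  have hunit : IsUnit (F.coeff e) := IsUnit.of_mul_eq_one _ hεe
  refine ⟨hunit.unit, e, ?_⟩
  rw [IsUnit.unit_spec]
  ext s
  apply eq_of_forall_prime
  intro p _
  obtain ⟨c, e', hc, he', hf, h1, h2⟩ := hloc p
  obtain ⟨e'', -, he''⟩ := hεloc p
  -- e' = e
  have hee : e' = e := by
    have hA : algebraMap A p.ResidueField (ε e) = 1 := by rw [hεe, map_one]
    have hB : algebraMap A p.ResidueField (ε e) = if e = e' then 1 else 0 := by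
      rw [hε]
      simp only [map_mul, h1, h2]
      by_cases hie : e = e'
      · subst hie
        simp [hc]
      · have : m - e ≠ m - e' := by omega
        simp [hie]
    rw [hA] at hB
    by_contra hne
    rw [if_neg (fun h => hne h.symm)] at hB
    exact one_ne_zero hB
  subst hee
  have hc' : algebraMap A p.ResidueField (F.coeff e') = c := by rw [h1, if_pos rfl]
  rw [← MvPolynomial.coeff_map, ← MvPolynomial.coeff_map, hf, map_mul, map_pow, map_Dd,
    MvPolynomial.map_C, hc']

theorem algMap_inj (A : Type u) [CommRing A] (n : ℕ) :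
    Function.Injective (algebraMap (MvPolynomial (Fin n × Fin n) A) (Localization.Away (Dd A n))) :=
  IsLocalization.injective (Localization.Away (Dd A n))
    ((Submonoid.powers_le).mpr (Groth.Agent.S13785.result A n))

theorem surj_of_reduced (A : Type u) [CommRing A] [Nontrivial A] [IsReduced A]
    (hconn : ∀ e : A, IsIdempotentElem e → e = 0 ∨ e = 1) (n : ℕ) (hn : 0 < n)
    (v : (Localization.Away (Dd A n))ˣ) :
    ∃ (a : Aˣ) (e : ℤ), Units.map (algebraMap A (Localization.Away (Dd A n))).toMonoidHom a *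
      (IsLocalization.Away.algebraMap_isUnit (S := Localization.Away (Dd A n)) (Dd A n)).unit ^ e = v := by
  have huDval : (((IsLocalization.Away.algebraMap_isUnit (S := Localization.Away (Dd A n)) (Dd A n)).unit :
      (Localization.Away (Dd A n))ˣ) : Localization.Away (Dd A n)) =
      algebraMap (MvPolynomial (Fin n × Fin n) A) _ (Dd A n) := rfl
  obtain ⟨k, f, hf⟩ := IsLocalization.Away.surj (Dd A n) (v : Localization.Away (Dd A n))
  obtain ⟨l, g, hg⟩ := IsLocalization.Away.surj (Dd A n)
    ((v⁻¹ : (Localization.Away (Dd A n))ˣ) : Localization.Away (Dd A n))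
  have hfg : f * g = Dd A n ^ (k + l) := by
    apply algMap_inj A n
    rw [map_mul, ← hf, ← hg, map_pow, pow_add]
    have : (v : Localization.Away (Dd A n)) * ((v⁻¹ : (Localization.Away (Dd A n))ˣ) :
        Localization.Away (Dd A n)) = 1 := by simp
    calc (v : Localization.Away (Dd A n)) * algebraMap _ _ (Dd A n) ^ k *
          (((v⁻¹ : (Localization.Away (Dd A n))ˣ) : Localization.Away (Dd A n)) *
            algebraMap _ _ (Dd A n) ^ l)
        = ((v : Localization.Away (Dd A n)) * ((v⁻¹ : (Localization.Away (Dd A n))ˣ) :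
            Localization.Away (Dd A n))) *
            (algebraMap _ _ (Dd A n) ^ k * algebraMap _ _ (Dd A n) ^ l) := by ring
      _ = _ := by rw [this, one_mul]
  obtain ⟨a, e, hfa⟩ := global_case A hconn n hn f g (k + l) hfg
  refine ⟨a, (e : ℤ) - k, ?_⟩
  rw [zpow_sub, zpow_natCast, zpow_natCast, ← mul_assoc, mul_inv_eq_iff_eq_mul]
  apply Units.ext
  rw [Units.val_mul, Units.val_mul, Units.val_pow_eq_pow_val, Units.val_pow_eq_pow_val, huDval, hf, hfa,
    map_mul, map_pow]
  congr 1

theorem reduced_of_surj (A : Type u) [CommRing A] [Nontrivial A] (n : ℕ) (hn : 0 < n)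
    (hs : ∀ v : (Localization.Away (Dd A n))ˣ, ∃ (a : Aˣ) (e : ℤ),
      Units.map (algebraMap A (Localization.Away (Dd A n))).toMonoidHom a *
      (IsLocalization.Away.algebraMap_isUnit (S := Localization.Away (Dd A n)) (Dd A n)).unit ^ e = v) :
    IsReduced A := by
  have huDval : (((IsLocalization.Away.algebraMap_isUnit (S := Localization.Away (Dd A n)) (Dd A n)).unit :
      (Localization.Away (Dd A n))ˣ) : Localization.Away (Dd A n)) =
      algebraMap (MvPolynomial (Fin n × Fin n) A) _ (Dd A n) := rfl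
  refine ⟨fun x hx => ?_⟩
  set w : MvPolynomial (Fin n × Fin n) A := 1 + C x * X (⟨0, hn⟩, ⟨0, hn⟩) with hw
  have hwu : IsUnit w := by
    apply IsNilpotent.isUnit_one_add
    exact (Commute.all _ _).isNilpotent_mul_right (hx.map C)
  have hevw : ev A n hn w = 1 + Polynomial.C x * Polynomial.X := by
    rw [hw, map_add, map_one, map_mul, ev_C, ev_X00]
  obtain ⟨a, e, hae⟩ := hs (hwu.map (algebraMap _ (Localization.Away (Dd A n)))).unit
  rcases le_or_gt 0 e with he | he
  · obtain ⟨k, hk⟩ := Int.eq_ofNat_of_zero_le he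
    rw [hk, zpow_natCast] at hae
    have h1 := congrArg (fun z : (Localization.Away (Dd A n))ˣ => (z : Localization.Away (Dd A n))) hae
    simp only [Units.val_mul, Units.val_pow_eq_pow_val, huDval, IsUnit.unit_spec] at h1
    have h2 : C (a : A) * Dd A n ^ k = w := by
      apply algMap_inj A n
      rw [map_mul, map_pow, ← h1]
      congr 1
    have h3 := congrArg (ev A n hn) h2
    rw [map_mul, map_pow, ev_Dd, ev_C, hevw] at h3
    rcases Nat.eq_zero_or_pos k with hk0 | hk0
    · subst hk0
      have h4 := congrArg (fun P => Polynomial.coeff P 1) h3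
      simp [Polynomial.coeff_one] at h4
      exact h4.symm
    · exfalso
      have h4 := congrArg (fun P => Polynomial.coeff P 0) h3
      simp [hk0.ne] at h4
  · exfalso
    obtain ⟨k, hk⟩ := Int.eq_negSucc_of_lt_zero he
    rw [hk, zpow_negSucc, mul_inv_eq_iff_eq_mul] at hae
    have h1 := congrArg (fun z : (Localization.Away (Dd A n))ˣ => (z : Localization.Away (Dd A n))) hae
    simp only [Units.val_mul, Units.val_pow_eq_pow_val, huDval, IsUnit.unit_spec] at h1
    have h2 : C (a : A) = w * Dd A n ^ (k + 1) := by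
      apply algMap_inj A n
      rw [map_mul, map_pow, ← h1]
      rfl
    have h3 := congrArg (ev A n hn) h2
    rw [map_mul, map_pow, ev_Dd, ev_C, hevw] at h3
    have h4 := congrArg (fun P => Polynomial.coeff P 0) h3
    simp [pow_succ, ← mul_assoc] at h4

end aux


/-- Units of GL_n: let A be a nonzero commutative ring whose only idempotents are 0 and 1, let n ≥ 1,
let det be the determinant of the generic n × n matrix in the polynomial ring A[X] in its n²
entries, and let A[X, 1/det] be the coordinate ring of GL_n over A. The homomorphism Aˣ × ℤ → (A[X,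
1/det])ˣ, (a, e) ↦ a · det^e, is bijective if and only if A is reduced. (The published statement
allows Spec A disconnected, with exponents locally constant ℤ-valued functions on Spec A; this row
is the connected case, to which the published proof reduces.) -/
theorem result (A : Type u) [CommRing A] [Nontrivial A]
    (hconn : ∀ e : A, IsIdempotentElem e → e = 0 ∨ e = 1) (n : ℕ) (hn : 0 < n) :
    Function.Bijective (fun p : Aˣ × ℤ =>
        Units.map (algebraMap A (Localization.Away (Matrix.mvPolynomialX (Fin n) (Fin n) A).det)).toMonoidHom p.1 *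
          (IsLocalization.Away.algebraMap_isUnit (S := Localization.Away (Matrix.mvPolynomialX (Fin n) (Fin n) A).det)
            (Matrix.mvPolynomialX (Fin n) (Fin n) A).det).unit ^ p.2) ↔ IsReduced A := by
  constructor
  · intro hb
    refine reduced_of_surj A n hn (fun v => ?_)
    obtain ⟨⟨a, e⟩, hae⟩ := hb.2 v
    exact ⟨a, e, hae⟩
  · intro hred
    refine ⟨Groth.Agent.S13787.result A n hn, fun v => ?_⟩
    obtain ⟨a, e, hae⟩ := surj_of_reduced A hconn n hn v
    exact ⟨⟨a, e⟩, hae⟩

end Groth.Agent.S13788
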