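import Groth.Statements.S13792
import Mathlib
import Groth.Agent.Lib.Helper18.GenericRank
import Groth.Agent.Lib.Helper18.AbsCurveDiv

set_option autoImplicit false
universe u
open CategoryTheory AlgebraicGeometry
open Curves

namespace Groth.Agent.S13792



/-- Let k be a field and E an integral k-scheme of finite type whose underlying space has dimension 1,
and let ι : G → E be a closed immersion. Then either ι is an isomorphism or G is finite over k. (The
published statement is about a closed subgroup scheme of an elliptic curve and its proof states this
fact for E geometrically integral; this row assumes only that E is integral.) -/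
theorem result {k : Type u} [Field k]
    {E G : Scheme.{u}} (f : E ⟶ Spec (CommRingCat.of k)) [LocallyOfFiniteType f] [QuasiCompact f]
    [IsIntegral E] (hdim : topologicalKrullDim ↥E = 1) (ι : G ⟶ E) [IsClosedImmersion ι] :
    IsIso ι ∨ IsFinite (ι ≫ f) := by
  haveI : IsLocallyNoetherian E := LocallyOfFiniteType.isLocallyNoetherian f
  haveI : CompactSpace E := QuasiCompact.compactSpace_of_compactSpace f
  haveI : IsNoetherian E := {}
  have hcl : IsClosed (Set.range ι) := ι.isClosedEmbedding.isClosed_range
  by_cases hη : genericPoint E ∈ Set.range ι
  · left
    haveI : Surjective ι := by
      constructor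
      rw [← Set.range_eq_univ]
      have h1 : closure {genericPoint E} ⊆ Set.range ι :=
        hcl.closure_subset_iff.mpr (Set.singleton_subset_iff.mpr hη)
      rw [(genericPoint_spec E : closure {genericPoint E} = Set.univ)] at h1
      exact Set.univ_subset_iff.mp h1
    exact isIso_of_isClosedImmersion_of_surjective ι
  · right
    have hfin : (Set.range ι).Finite := by
      have := Groth.Agent.Lib.Helper18.AbsCurveDiv.finite_inter_of_forall_isClosed_singleton
        (Set.range ι) Set.univ hcl isOpen_univ (fun x hx =>
          Groth.Agent.Lib.Helper18.GenericRank.isClosed_singleton_of_ne_genericPoint hdim.le x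
            (fun h => hη (h ▸ hx.1)))
      rwa [Set.inter_univ] at this
    haveI : LocallyQuasiFinite (ι ≫ f) := by
      apply LocallyQuasiFinite.of_finite_preimage_singleton
      intro x
      have : Finite G := by
        have := hfin.preimage (f := ι) ι.isClosedEmbedding.injective.injOn
        rw [Set.preimage_range] at this
        exact Set.finite_univ_iff.mp this
      exact Set.toFinite _
    exact IsFinite.of_locallyQuasiFinite (ι ≫ f)

end Groth.Agent.S13792
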