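import Groth.Statements.S13793
import Mathlib

set_option autoImplicit false
universe u
open CAlg

namespace Groth.Agent.S13793

open AddMonoidAlgebra

variable {A : Type u} [CommRing A]

/-- explicit coface maps -/
def d0 : (Fin 2 → ℤ) →+ (Fin 3 → ℤ) where
  toFun n := ![0, n 0, n 1]
  map_zero' := by funext i; fin_cases i <;> simp
  map_add' x y := by funext i; fin_cases i <;> simp

def d1 : (Fin 2 → ℤ) →+ (Fin 3 → ℤ) where
  toFun n := ![n 0, n 0, n 1]
  map_zero' := by funext i; fin_cases i <;> simp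
  map_add' x y := by funext i; fin_cases i <;> simp

def d2 : (Fin 2 → ℤ) →+ (Fin 3 → ℤ) where
  toFun n := ![n 0, n 1, n 1]
  map_zero' := by funext i; fin_cases i <;> simp
  map_add' x y := by funext i; fin_cases i <;> simp

def d3 : (Fin 2 → ℤ) →+ (Fin 3 → ℤ) where
  toFun n := ![n 0, n 1, 0]
  map_zero' := by funext i; fin_cases i <;> simp
  map_add' x y := by funext i; fin_cases i <;> simp

def e0 : (Fin 1 → ℤ) →+ (Fin 2 → ℤ) where
  toFun n := ![0, n 0]
  map_zero' := by funext i; fin_cases i <;> simp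
  map_add' x y := by funext i; fin_cases i <;> simp

def e1 : (Fin 1 → ℤ) →+ (Fin 2 → ℤ) where
  toFun n := ![n 0, n 0]
  map_zero' := by funext i; fin_cases i <;> simp
  map_add' x y := by funext i; fin_cases i <;> simp

def e2 : (Fin 1 → ℤ) →+ (Fin 2 → ℤ) where
  toFun n := ![n 0, 0]
  map_zero' := by funext i; fin_cases i <;> simp
  map_add' x y := by funext i; fin_cases i <;> simp

theorem d0_apply (n : Fin 2 → ℤ) : d0 n = ![0, n 0, n 1] := rfl
theorem d1_apply (n : Fin 2 → ℤ) : d1 n = ![n 0, n 0, n 1] := rfl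
theorem d2_apply (n : Fin 2 → ℤ) : d2 n = ![n 0, n 1, n 1] := rfl
theorem d3_apply (n : Fin 2 → ℤ) : d3 n = ![n 0, n 1, 0] := rfl
theorem e0_apply (n : Fin 1 → ℤ) : e0 n = ![0, n 0] := rfl
theorem e1_apply (n : Fin 1 → ℤ) : e1 n = ![n 0, n 0] := rfl
theorem e2_apply (n : Fin 1 → ℤ) : e2 n = ![n 0, 0] := rfl

theorem M0_eq : (Matrix.mulVecLin (!![0, 0; 1, 0; 0, 1] : Matrix (Fin 3) (Fin 2) ℤ)).toAddMonoidHom = d0 := by
  refine AddMonoidHom.ext fun n => funext fun i => ?_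
  fin_cases i <;> simp [d0_apply, Matrix.mulVec, dotProduct, Fin.sum_univ_two]

theorem M1_eq : (Matrix.mulVecLin (!![1, 0; 1, 0; 0, 1] : Matrix (Fin 3) (Fin 2) ℤ)).toAddMonoidHom = d1 := by
  refine AddMonoidHom.ext fun n => funext fun i => ?_
  fin_cases i <;> simp [d1_apply, Matrix.mulVec, dotProduct, Fin.sum_univ_two]

theorem M2_eq : (Matrix.mulVecLin (!![1, 0; 0, 1; 0, 1] : Matrix (Fin 3) (Fin 2) ℤ)).toAddMonoidHom = d2 := by
  refine AddMonoidHom.ext fun n => funext fun i => ?_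
  fin_cases i <;> simp [d2_apply, Matrix.mulVec, dotProduct, Fin.sum_univ_two]

theorem M3_eq : (Matrix.mulVecLin (!![1, 0; 0, 1; 0, 0] : Matrix (Fin 3) (Fin 2) ℤ)).toAddMonoidHom = d3 := by
  refine AddMonoidHom.ext fun n => funext fun i => ?_
  fin_cases i <;> simp [d3_apply, Matrix.mulVec, dotProduct, Fin.sum_univ_two]

theorem N0_eq : (Matrix.mulVecLin (!![0; 1] : Matrix (Fin 2) (Fin 1) ℤ)).toAddMonoidHom = e0 := by
  refine AddMonoidHom.ext fun n => funext fun i => ?_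
  fin_cases i <;> simp [e0_apply, Matrix.mulVec, dotProduct]

theorem N1_eq : (Matrix.mulVecLin (!![1; 1] : Matrix (Fin 2) (Fin 1) ℤ)).toAddMonoidHom = e1 := by
  refine AddMonoidHom.ext fun n => funext fun i => ?_
  fin_cases i <;> simp [e1_apply, Matrix.mulVec, dotProduct]

theorem N2_eq : (Matrix.mulVecLin (!![1; 0] : Matrix (Fin 2) (Fin 1) ℤ)).toAddMonoidHom = e2 := by
  refine AddMonoidHom.ext fun n => funext fun i => ?_
  fin_cases i <;> simp [e2_apply, Matrix.mulVec, dotProduct]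

/-- cosimplicial identities -/
theorem cs1 : d0.comp e0 = d1.comp e0 := by
  refine AddMonoidHom.ext fun n => funext fun i => ?_
  fin_cases i <;> rfl
theorem cs2 : d0.comp e1 = d2.comp e0 := by
  refine AddMonoidHom.ext fun n => funext fun i => ?_
  fin_cases i <;> rfl
theorem cs3 : d0.comp e2 = d3.comp e0 := by
  refine AddMonoidHom.ext fun n => funext fun i => ?_
  fin_cases i <;> rfl
theorem cs4 : d1.comp e1 = d2.comp e1 := by
  refine AddMonoidHom.ext fun n => funext fun i => ?_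
  fin_cases i <;> rfl
theorem cs5 : d1.comp e2 = d3.comp e1 := by
  refine AddMonoidHom.ext fun n => funext fun i => ?_
  fin_cases i <;> rfl
theorem cs6 : d2.comp e2 = d3.comp e2 := by
  refine AddMonoidHom.ext fun n => funext fun i => ?_
  fin_cases i <;> rfl

theorem coeff_md_eq {p q : ℕ} (f : (Fin p → ℤ) →+ (Fin q → ℤ)) (hf : Function.Injective f)
    (x : AddMonoidAlgebra A (Fin p → ℤ)) (n : Fin p → ℤ) :
    (mapDomainRingHom A f x).coeff (f n) = x.coeff n := by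
  rw [mapDomainRingHom_apply, coeff_mapDomain]
  exact Finsupp.mapDomain_apply hf _ _

theorem coeff_md_ne {p q : ℕ} (f : (Fin p → ℤ) →+ (Fin q → ℤ))
    (x : AddMonoidAlgebra A (Fin p → ℤ)) (m : Fin q → ℤ) (h : ∀ n, f n ≠ m) :
    (mapDomainRingHom A f x).coeff m = 0 := by
  rw [mapDomainRingHom_apply, coeff_mapDomain]
  exact Finsupp.mapDomain_of_notMem_range _ _ (by rintro ⟨n, hn⟩; exact h n hn)

theorem md_single {p q : ℕ} (f : (Fin p → ℤ) →+ (Fin q → ℤ)) (n : Fin p → ℤ) (r : A) :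
    mapDomainRingHom A f (single n r) = single (f n) r := by
  rw [mapDomainRingHom_apply, mapDomain_single]

theorem md_comp {p q s : ℕ} (f : (Fin q → ℤ) →+ (Fin s → ℤ)) (g : (Fin p → ℤ) →+ (Fin q → ℤ))
    (x : AddMonoidAlgebra A (Fin p → ℤ)) :
    mapDomainRingHom A f (mapDomainRingHom A g x) = mapDomainRingHom A (f.comp g) x := by
  rw [mapDomainRingHom_comp]; rfl

/-- units of group rings over domains are monomials -/
theorem unit_monomial {D : Type*} [CommRing D] [IsDomain D] {p : ℕ}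
    (u v : AddMonoidAlgebra D (Fin p → ℤ)) (huv : u * v = 1) :
    ∃ n r, u = single n r := by
  classical
  have hu : u ≠ 0 := by rintro rfl; rw [zero_mul] at huv; exact zero_ne_one huv
  have hv : v ≠ 0 := by rintro rfl; rw [mul_zero] at huv; exact zero_ne_one huv
  have hsu : u.coeff.support.Nonempty :=
    Finsupp.support_nonempty_iff.mpr (fun h => hu (coeff_eq_zero.mp h))
  have hsv : v.coeff.support.Nonempty :=
    Finsupp.support_nonempty_iff.mpr (fun h => hv (coeff_eq_zero.mp h))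
  by_cases hc : 1 < u.coeff.support.card * v.coeff.support.card
  · exfalso
    obtain ⟨p1, hp1, p2, hp2, hne, h1, h2⟩ := TwoUniqueSums.uniqueAdd_of_one_lt_card hc
    have c1 := coeff_mul_add_of_uniqueAdd h1
    have c2 := coeff_mul_add_of_uniqueAdd h2
    rw [huv] at c1 c2
    have m1 := Finset.mem_product.mp hp1
    have m2 := Finset.mem_product.mp hp2
    have n1 : u.coeff p1.1 * v.coeff p1.2 ≠ 0 :=
      mul_ne_zero (Finsupp.mem_support_iff.mp m1.1) (Finsupp.mem_support_iff.mp m1.2)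
    have n2 : u.coeff p2.1 * v.coeff p2.2 ≠ 0 :=
      mul_ne_zero (Finsupp.mem_support_iff.mp m2.1) (Finsupp.mem_support_iff.mp m2.2)
    have z1 : p1.1 + p1.2 = 0 := by
      by_contra hz
      apply n1
      rw [← c1, one_def, coeff_single, Finsupp.single_apply, if_neg (Ne.symm hz)]
    have z2 : p2.1 + p2.2 = 0 := by
      by_contra hz
      apply n2
      rw [← c2, one_def, coeff_single, Finsupp.single_apply, if_neg (Ne.symm hz)]
    have := h1 m2.1 m2.2 (z2.trans z1.symm)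
    exact hne (Prod.ext this.1.symm this.2.symm)
  · have h1 : u.coeff.support.card = 1 := by
      have a1 := Finset.card_pos.mpr hsu
      have a2 := Finset.card_pos.mpr hsv
      push_neg at hc
      nlinarith
    obtain ⟨n, b, -, hb⟩ := Finsupp.card_support_eq_one'.mp h1
    exact ⟨n, b, coeff_injective (by rw [hb, coeff_single])⟩

theorem d0_inj : Function.Injective d0 := fun n n' h => by
  funext i; fin_cases i
  · exact congrFun h 1
  · exact congrFun h 2
theorem d1_inj : Function.Injective d1 := fun n n' h => by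
  funext i; fin_cases i
  · exact congrFun h 0
  · exact congrFun h 2
theorem d2_inj : Function.Injective d2 := fun n n' h => by
  funext i; fin_cases i
  · exact congrFun h 0
  · exact congrFun h 1
theorem d3_inj : Function.Injective d3 := fun n n' h => by
  funext i; fin_cases i
  · exact congrFun h 0
  · exact congrFun h 1
theorem e0_inj : Function.Injective e0 := fun n n' h => by
  funext i; fin_cases i
  exact congrFun h 1
theorem e1_inj : Function.Injective e1 := fun n n' h => by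
  funext i; fin_cases i
  exact congrFun h 0
theorem e2_inj : Function.Injective e2 := fun n n' h => by
  funext i; fin_cases i
  exact congrFun h 0

noncomputable abbrev D0 (A : Type u) [CommRing A] :
    AddMonoidAlgebra A (Fin 2 → ℤ) →+* AddMonoidAlgebra A (Fin 3 → ℤ) := mapDomainRingHom A d0
noncomputable abbrev D1 (A : Type u) [CommRing A] :
    AddMonoidAlgebra A (Fin 2 → ℤ) →+* AddMonoidAlgebra A (Fin 3 → ℤ) := mapDomainRingHom A d1
noncomputable abbrev D2 (A : Type u) [CommRing A] :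
    AddMonoidAlgebra A (Fin 2 → ℤ) →+* AddMonoidAlgebra A (Fin 3 → ℤ) := mapDomainRingHom A d2
noncomputable abbrev D3 (A : Type u) [CommRing A] :
    AddMonoidAlgebra A (Fin 2 → ℤ) →+* AddMonoidAlgebra A (Fin 3 → ℤ) := mapDomainRingHom A d3
noncomputable abbrev E0 (A : Type u) [CommRing A] :
    AddMonoidAlgebra A (Fin 1 → ℤ) →+* AddMonoidAlgebra A (Fin 2 → ℤ) := mapDomainRingHom A e0
noncomputable abbrev E1 (A : Type u) [CommRing A] :
    AddMonoidAlgebra A (Fin 1 → ℤ) →+* AddMonoidAlgebra A (Fin 2 → ℤ) := mapDomainRingHom A e1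
noncomputable abbrev E2 (A : Type u) [CommRing A] :
    AddMonoidAlgebra A (Fin 1 → ℤ) →+* AddMonoidAlgebra A (Fin 2 → ℤ) := mapDomainRingHom A e2

def IsCoc (x : AddMonoidAlgebra A (Fin 2 → ℤ)) : Prop := D0 A x * D2 A x = D1 A x * D3 A x

def Cf {p : ℕ} (I : Ideal A) (x : AddMonoidAlgebra A (Fin p → ℤ)) : Prop := ∀ n, x.coeff n ∈ I

theorem Cf.add {p : ℕ} {I : Ideal A} {x y : AddMonoidAlgebra A (Fin p → ℤ)}
    (hx : Cf I x) (hy : Cf I y) : Cf I (x + y) :=
  fun n => by rw [coeff_add, Finsupp.add_apply]; exact I.add_mem (hx n) (hy n)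

theorem Cf.sub {p : ℕ} {I : Ideal A} {x y : AddMonoidAlgebra A (Fin p → ℤ)}
    (hx : Cf I x) (hy : Cf I y) : Cf I (x - y) :=
  fun n => by rw [coeff_sub, Finsupp.sub_apply]; exact I.sub_mem (hx n) (hy n)

theorem Cf.mono {p : ℕ} {I J : Ideal A} {x : AddMonoidAlgebra A (Fin p → ℤ)}
    (h : I ≤ J) (hx : Cf I x) : Cf J x := fun n => h (hx n)

theorem Cf.mul {p : ℕ} {I J : Ideal A} {x y : AddMonoidAlgebra A (Fin p → ℤ)}
    (hx : Cf I x) (hy : Cf J y) : Cf (I * J) (x * y) := by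
  classical
  intro n
  rw [coeff_mul, Finsupp.sum]
  refine Ideal.sum_mem _ fun a _ => ?_
  rw [Finsupp.sum]
  refine Ideal.sum_mem _ fun b _ => ?_
  split_ifs
  · exact Ideal.mul_mem_mul (hx a) (hy b)
  · exact (I * J).zero_mem

theorem Cf.mul_right {p : ℕ} {I : Ideal A} {x : AddMonoidAlgebra A (Fin p → ℤ)}
    (hx : Cf I x) (z : AddMonoidAlgebra A (Fin p → ℤ)) : Cf I (x * z) := by
  have := Cf.mul hx (show Cf ⊤ z from fun n => Submodule.mem_top)
  rwa [Ideal.mul_top] at this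

theorem Cf.md {p q : ℕ} {I : Ideal A} (f : (Fin p → ℤ) →+ (Fin q → ℤ)) (hf : Function.Injective f)
    {x : AddMonoidAlgebra A (Fin p → ℤ)} (hx : Cf I x) : Cf I (mapDomainRingHom A f x) := by
  intro m
  by_cases h : ∃ n, f n = m
  · obtain ⟨n, rfl⟩ := h
    rw [coeff_md_eq f hf]; exact hx n
  · push_neg at h
    rw [coeff_md_ne f x m h]; exact I.zero_mem

theorem Cf.pow {p : ℕ} {I : Ideal A} {x : AddMonoidAlgebra A (Fin p → ℤ)}
    (hx : Cf I x) (k : ℕ) : Cf (I ^ k) (x ^ k) := by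
  induction k with
  | zero => rw [pow_zero, pow_zero, Ideal.one_eq_top]; exact fun n => Submodule.mem_top
  | succ k ih => rw [pow_succ, pow_succ]; exact Cf.mul ih hx

theorem Cf.eq_zero {p : ℕ} {x : AddMonoidAlgebra A (Fin p → ℤ)} (hx : Cf (⊥ : Ideal A) x) : x = 0 := by
  apply coeff_injective
  ext n
  simpa using Ideal.mem_bot.mp (hx n)

theorem IsCoc.mul {x z : AddMonoidAlgebra A (Fin 2 → ℤ)} (hx : IsCoc x) (hz : IsCoc z) :
    IsCoc (x * z) := by
  unfold IsCoc at *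
  simp only [map_mul]
  linear_combination (D0 A z * D2 A z) * hx + (D1 A x * D3 A x) * hz

theorem isCoc_single (r : A) : IsCoc (single (0 : Fin 2 → ℤ) r) := by
  unfold IsCoc
  rw [md_single, md_single, md_single, md_single, map_zero, map_zero, map_zero, map_zero]

noncomputable def cob (y yi : AddMonoidAlgebra A (Fin 1 → ℤ)) : AddMonoidAlgebra A (Fin 2 → ℤ) :=
  E0 A y * E1 A yi * E2 A y

theorem cob_mul_cob {y yi : AddMonoidAlgebra A (Fin 1 → ℤ)} (h : y * yi = 1) :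
    cob y yi * cob yi y = 1 := by
  have h0 : E0 A y * E0 A yi = 1 := by rw [← map_mul, h, map_one]
  have h1 : E1 A yi * E1 A y = 1 := by rw [← map_mul, mul_comm, h, map_one]
  have h2 : E2 A y * E2 A yi = 1 := by rw [← map_mul, h, map_one]
  unfold cob
  linear_combination (E1 A yi * E1 A y * (E2 A y * E2 A yi)) * h0 + (E2 A y * E2 A yi) * h1 + h2

theorem isCoc_cob {y yi : AddMonoidAlgebra A (Fin 1 → ℤ)} (h : y * yi = 1) : IsCoc (cob y yi) := by
  have hb : mapDomainRingHom A (d0.comp e1) yi * mapDomainRingHom A (d0.comp e1) y = 1 := by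
    rw [← map_mul, mul_comm, h, map_one]
  have he : mapDomainRingHom A (d1.comp e2) y * mapDomainRingHom A (d1.comp e2) yi = 1 := by
    rw [← map_mul, h, map_one]
  unfold IsCoc cob
  simp only [map_mul, md_comp]
  rw [← cs1, ← cs2, ← cs3, ← cs4, ← cs5, ← cs6]
  linear_combination (mapDomainRingHom A (d0.comp e0) y * mapDomainRingHom A (d0.comp e2) y *
    mapDomainRingHom A (d1.comp e1) yi * mapDomainRingHom A (d2.comp e2) y) * (hb - he)

/-- the degree-zero part in the first variable -/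
noncomputable def gpart (ν : AddMonoidAlgebra A (Fin 2 → ℤ)) : AddMonoidAlgebra A (Fin 1 → ℤ) :=
  AddMonoidAlgebra.ofCoeff (Finsupp.comapDomain e0 ν.coeff e0_inj.injOn)

theorem coeff_md_ite {p q : ℕ} (f : (Fin p → ℤ) →+ (Fin q → ℤ)) (hf : Function.Injective f)
    (x : AddMonoidAlgebra A (Fin p → ℤ)) (m : Fin q → ℤ) (P : Prop) [Decidable P] (n : Fin p → ℤ)
    (h1 : P → f n = m) (h2 : ¬ P → ∀ n', f n' ≠ m) :
    (mapDomainRingHom A f x).coeff m = if P then x.coeff n else 0 := by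
  by_cases hP : P
  · rw [if_pos hP, ← h1 hP, coeff_md_eq f hf]
  · rw [if_neg hP, coeff_md_ne f x m (h2 hP)]

theorem step_coeff (ν : AddMonoidAlgebra A (Fin 2 → ℤ)) (m : Fin 2 → ℤ) :
    (ν - (E0 A (gpart ν) - E1 A (gpart ν) + E2 A (gpart ν))).coeff m =
      (D0 A ν - D1 A ν + D2 A ν - D3 A ν).coeff (d0 m) := by
  have a0 : (D0 A ν).coeff (d0 m) = ν.coeff m := coeff_md_eq d0 d0_inj ν m
  have a1 : (D1 A ν).coeff (d0 m) = if m 0 = 0 then ν.coeff ![0, m 1] else 0 :=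
    coeff_md_ite d1 d1_inj ν (d0 m) (m 0 = 0) ![0, m 1]
      (fun h => by funext i; fin_cases i <;> simp [d0_apply, d1_apply, h])
      (fun h n' hn => h (by
        have h0 : n' 0 = 0 := congrFun hn 0
        have h1 : n' 0 = m 0 := congrFun hn 1
        rw [← h1, h0]))
  have a2 : (D2 A ν).coeff (d0 m) = if m 0 = m 1 then ν.coeff ![0, m 0] else 0 :=
    coeff_md_ite d2 d2_inj ν (d0 m) (m 0 = m 1) ![0, m 0]
      (fun h => by funext i; fin_cases i <;> simp [d0_apply, d2_apply, h])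
      (fun h n' hn => h (by
        have h1 : n' 1 = m 0 := congrFun hn 1
        have h2 : n' 1 = m 1 := congrFun hn 2
        rw [← h1, h2]))
  have a3 : (D3 A ν).coeff (d0 m) = if m 1 = 0 then ν.coeff ![0, m 0] else 0 :=
    coeff_md_ite d3 d3_inj ν (d0 m) (m 1 = 0) ![0, m 0]
      (fun h => by funext i; fin_cases i <;> simp [d0_apply, d3_apply, h])
      (fun h n' hn => h (by
        have h2 : (0:ℤ) = m 1 := congrFun hn 2
        exact h2.symm))
  have b0 : (E0 A (gpart ν)).coeff m = if m 0 = 0 then ν.coeff ![0, m 1] else 0 := by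
    rw [coeff_md_ite e0 e0_inj (gpart ν) m (m 0 = 0) ![m 1]
      (fun h => by funext i; fin_cases i <;> simp [e0_apply, h])
      (fun h n' hn => h (by
        have h0 : (0:ℤ) = m 0 := congrFun hn 0
        exact h0.symm))]
    rfl
  have b1 : (E1 A (gpart ν)).coeff m = if m 0 = m 1 then ν.coeff ![0, m 0] else 0 := by
    rw [coeff_md_ite e1 e1_inj (gpart ν) m (m 0 = m 1) ![m 0]
      (fun h => by funext i; fin_cases i <;> simp [e1_apply, h])
      (fun h n' hn => h (by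
        have h0 : n' 0 = m 0 := congrFun hn 0
        have h1 : n' 0 = m 1 := congrFun hn 1
        rw [← h0, h1]))]
    rfl
  have b2 : (E2 A (gpart ν)).coeff m = if m 1 = 0 then ν.coeff ![0, m 0] else 0 := by
    rw [coeff_md_ite e2 e2_inj (gpart ν) m (m 1 = 0) ![m 0]
      (fun h => by funext i; fin_cases i <;> simp [e2_apply, h])
      (fun h n' hn => h (by
        have h1 : (0:ℤ) = m 1 := congrFun hn 1
        exact h1.symm))]
    rfl
  simp only [coeff_sub, coeff_add, Finsupp.sub_apply, Finsupp.add_apply]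
  rw [a0, a1, a2, a3, b0, b1, b2]
  ring

theorem step {I : Ideal A} {k : ℕ} (hk : 1 ≤ k) {x : AddMonoidAlgebra A (Fin 2 → ℤ)}
    (hx : IsCoc x) (hν : Cf (I ^ k) (x - 1)) :
    Cf (I ^ k) (gpart (x - 1)) ∧
    Cf (I ^ (k + 1))
      ((x - 1) - (E0 A (gpart (x - 1)) - E1 A (gpart (x - 1)) + E2 A (gpart (x - 1)))) := by
  obtain ⟨ν, hνdef⟩ : ∃ ν, ν = x - 1 := ⟨_, rfl⟩
  rw [← hνdef] at hν ⊢
  have hxe : x = 1 + ν := by rw [hνdef]; ring
  have hle : I ^ k * I ^ k ≤ I ^ (k + 1) := by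
    rw [← pow_add]; exact Ideal.pow_le_pow_right (by omega)
  refine ⟨fun n => hν (e0 n), fun m => ?_⟩
  rw [step_coeff]
  have hτ : D0 A ν - D1 A ν + D2 A ν - D3 A ν = D1 A ν * D3 A ν - D0 A ν * D2 A ν := by
    unfold IsCoc at hx
    rw [hxe] at hx
    simp only [map_add, map_one] at hx
    linear_combination hx
  rw [hτ]
  have h13 : Cf (I ^ (k + 1)) (D1 A ν * D3 A ν) :=
    Cf.mono hle (Cf.mul (Cf.md d1 d1_inj hν) (Cf.md d3 d3_inj hν))
  have h02 : Cf (I ^ (k + 1)) (D0 A ν * D2 A ν) :=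
    Cf.mono hle (Cf.mul (Cf.md d0 d0_inj hν) (Cf.md d2 d2_inj hν))
  exact (h13.sub h02) (d0 m)

theorem main_ind (I : Ideal A) (N : ℕ) (hN : I ^ N = ⊥) :
    ∀ j k : ℕ, 1 ≤ k → N ≤ k + j → ∀ x xi : AddMonoidAlgebra A (Fin 2 → ℤ), x * xi = 1 → IsCoc x →
      Cf (I ^ k) (x - 1) →
      ∃ y yi : AddMonoidAlgebra A (Fin 1 → ℤ), y * yi = 1 ∧ x * E1 A y = E0 A y * E2 A y := by
  intro j
  induction j with
  | zero =>
    intro k hk hNk x xi hxi hx hν
    have hbot : I ^ k ≤ ⊥ := by rw [← hN]; exact Ideal.pow_le_pow_right (by omega)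
    have h0 : x - 1 = 0 := Cf.eq_zero (Cf.mono hbot hν)
    have hx1 : x = 1 := sub_eq_zero.mp h0
    refine ⟨1, 1, one_mul 1, ?_⟩
    rw [hx1, map_one, map_one, map_one]
  | succ j ih =>
    intro k hk hNk x xi hxi hx hν
    obtain ⟨hg, hρ0⟩ := step hk hx hν
    obtain ⟨ν, hνdef⟩ : ∃ ν, ν = x - 1 := ⟨_, rfl⟩
    rw [← hνdef] at hν hg hρ0
    obtain ⟨g, hgdef⟩ : ∃ g, g = gpart ν := ⟨_, rfl⟩
    rw [← hgdef] at hg hρ0
    have hxe : x = 1 + ν := by rw [hνdef]; ring
    have hgI : Cf I g := Cf.mono (Ideal.pow_le_self (by omega)) hg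
    have hgN : g ^ N = 0 := Cf.eq_zero (by rw [← hN]; exact Cf.pow hgI N)
    have hgu : IsUnit (1 + g) := IsNilpotent.isUnit_one_add ⟨N, hgN⟩
    obtain ⟨u, hu⟩ := hgu
    obtain ⟨y', hy'⟩ : ∃ y', y' = 1 + g := ⟨_, rfl⟩
    obtain ⟨yi', hyi'⟩ : ∃ yi', yi' = ((u⁻¹ : (AddMonoidAlgebra A (Fin 1 → ℤ))ˣ) :
        AddMonoidAlgebra A (Fin 1 → ℤ)) := ⟨_, rfl⟩
    have hyy : y' * yi' = 1 := by rw [hy', hyi', ← hu]; exact u.mul_inv
    have hyy' : yi' * y' = 1 := by rw [mul_comm]; exact hyy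
    have hE0 : E0 A y' * E0 A yi' = 1 := by rw [← map_mul, hyy, map_one]
    have hE2 : E2 A y' * E2 A yi' = 1 := by rw [← map_mul, hyy, map_one]
    have hle : I ^ k * I ^ k ≤ I ^ (k + 1) := by
      rw [← pow_add]; exact Ideal.pow_le_pow_right (by omega)
    obtain ⟨ρ, hρdef⟩ : ∃ ρ, ρ = x * E1 A y' - E0 A y' * E2 A y' := ⟨_, rfl⟩
    have hρ : Cf (I ^ (k + 1)) ρ := by
      have e : ρ = (ν - (E0 A g - E1 A g + E2 A g)) + ν * E1 A g - E0 A g * E2 A g := by
        rw [hρdef, hxe, hy']; simp only [map_add, map_one]; ring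
      rw [e]
      exact (hρ0.add (Cf.mono hle (Cf.mul hν (Cf.md e1 e1_inj hg)))).sub
        (Cf.mono hle (Cf.mul (Cf.md e0 e0_inj hg) (Cf.md e2 e2_inj hg)))
    have hx'c : IsCoc (x * cob yi' y') := hx.mul (isCoc_cob hyy')
    have hx'i : (x * cob yi' y') * (xi * cob y' yi') = 1 := by
      have := cob_mul_cob (A := A) hyy'
      linear_combination (cob yi' y' * cob y' yi') * hxi + this
    have hx'ν : Cf (I ^ (k + 1)) (x * cob yi' y' - 1) := by
      have e : x * cob yi' y' - 1 = ρ * (E0 A yi' * E2 A yi') := by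
        rw [hρdef]; unfold cob
        linear_combination (E2 A y' * E2 A yi') * hE0 + hE2
      rw [e]; exact hρ.mul_right _
    obtain ⟨y'', yi'', hyy'', hIH⟩ := ih (k + 1) (by omega) (by omega) _ _ hx'i hx'c hx'ν
    refine ⟨y' * y'', yi' * yi'', by linear_combination (y'' * yi'') * hyy + hyy'', ?_⟩
    simp only [map_mul]
    unfold cob at hIH
    linear_combination (E0 A y' * E2 A y') * hIH -
      (x * E1 A y' * E1 A y'') * ((E2 A y' * E2 A yi') * hE0 + hE2)

theorem prime_facts (x xi : AddMonoidAlgebra A (Fin 2 → ℤ)) (hxi : x * xi = 1) (hx : IsCoc x)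
    (P : Ideal A) [P.IsPrime] :
    (∀ m : Fin 2 → ℤ, m ≠ 0 → x.coeff m ∈ P) ∧ x.coeff 0 ∉ P := by
  obtain ⟨Φ2, hΦ2⟩ : ∃ Φ : AddMonoidAlgebra A (Fin 2 → ℤ) →+* AddMonoidAlgebra (A ⧸ P) (Fin 2 → ℤ),
      Φ = mapRingHom (Fin 2 → ℤ) (Ideal.Quotient.mk P) := ⟨_, rfl⟩
  obtain ⟨Φ3, hΦ3⟩ : ∃ Φ : AddMonoidAlgebra A (Fin 3 → ℤ) →+* AddMonoidAlgebra (A ⧸ P) (Fin 3 → ℤ),
      Φ = mapRingHom (Fin 3 → ℤ) (Ideal.Quotient.mk P) := ⟨_, rfl⟩
  have hu : Φ2 x * Φ2 xi = 1 := by rw [← map_mul, hxi, map_one]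
  obtain ⟨n, r, hnr⟩ := unit_monomial (Φ2 x) (Φ2 xi) hu
  have hr : r ≠ 0 := by
    rintro rfl
    rw [single_zero] at hnr
    rw [hnr, zero_mul] at hu
    exact zero_ne_one hu
  have comm : ∀ (f : (Fin 2 → ℤ) →+ (Fin 3 → ℤ)),
      Φ3 (mapDomainRingHom A f x) = mapDomainRingHom (A ⧸ P) f (Φ2 x) := by
    intro f
    rw [hΦ2, hΦ3]
    exact RingHom.congr_fun (mapRingHom_comp_mapDomainRingHom (Ideal.Quotient.mk P) f) x
  have hx' : D0 A x * D2 A x = D1 A x * D3 A x := hx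
  have hc := congrArg Φ3 hx'
  rw [map_mul, map_mul, comm, comm, comm, comm, hnr, md_single, md_single, md_single, md_single,
    single_mul_single, single_mul_single] at hc
  have hrr : r * r ≠ 0 := mul_ne_zero hr hr
  have hn : d0 n + d2 n = d1 n + d3 n := by
    have := congrArg AddMonoidAlgebra.coeff hc
    rw [coeff_single, coeff_single] at this
    exact (Finsupp.single_left_inj hrr).mp this
  have hn0 : n 0 = 0 := by
    have h' : (0:ℤ) + n 0 = n 0 + n 0 := congrFun hn 0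
    linarith
  have hn1 : n 1 = 0 := by
    have h' : n 1 + n 1 = n 1 + 0 := congrFun hn 2
    linarith
  have hn00 : n = 0 := by
    funext i; fin_cases i
    · exact hn0
    · exact hn1
  subst hn00
  have hcoef : ∀ m, Ideal.Quotient.mk P (x.coeff m) = (single (0 : Fin 2 → ℤ) r).coeff m := by
    intro m
    rw [← hnr, hΦ2, coeff_mapRingHom]
  constructor
  · intro m hm
    have := hcoef m
    rw [coeff_single, Finsupp.single_apply, if_neg (Ne.symm hm)] at this
    exact Ideal.Quotient.eq_zero_iff_mem.mp this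
  · intro hmem
    have := hcoef 0
    rw [coeff_single, Finsupp.single_eq_same, Ideal.Quotient.eq_zero_iff_mem.mpr hmem] at this
    exact hr this.symm

theorem ring_main (x xi : AddMonoidAlgebra A (Fin 2 → ℤ)) (hxi : x * xi = 1) (hx : IsCoc x) :
    ∃ y yi : AddMonoidAlgebra A (Fin 1 → ℤ), y * yi = 1 ∧ x * E1 A y = E0 A y * E2 A y := by
  classical
  have hprime := fun (P : Ideal A) (hP : P.IsPrime) => @prime_facts A _ x xi hxi hx P hP
  have hc0 : IsUnit (x.coeff 0) := by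
    by_contra hnu
    obtain ⟨M, hM, hmem⟩ := exists_max_ideal_of_mem_nonunits hnu
    exact (hprime M hM.isPrime).2 hmem
  obtain ⟨c0u, hc0u⟩ := hc0
  obtain ⟨c0, hc0def⟩ : ∃ c, c = x.coeff 0 := ⟨_, rfl⟩
  obtain ⟨c0i, hc0i⟩ : ∃ c, c = ((c0u⁻¹ : Aˣ) : A) := ⟨_, rfl⟩
  have hcc : c0 * c0i = 1 := by rw [hc0def, hc0i, ← hc0u]; exact c0u.mul_inv
  have hss : single (0 : Fin 2 → ℤ) c0i * single (0 : Fin 2 → ℤ) c0 =
      (1 : AddMonoidAlgebra A (Fin 2 → ℤ)) := by
    rw [single_mul_single, add_zero, mul_comm, hcc]; rfl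
  obtain ⟨x1, hx1⟩ : ∃ x1, x1 = x * single (0 : Fin 2 → ℤ) c0i := ⟨_, rfl⟩
  have hx1i : x1 * (xi * single (0 : Fin 2 → ℤ) c0) = 1 := by
    rw [hx1]
    linear_combination (single (0 : Fin 2 → ℤ) c0i * single (0 : Fin 2 → ℤ) c0) * hxi + hss
  have hx1c : IsCoc x1 := by rw [hx1]; exact hx.mul (isCoc_single c0i)
  have hx1coef : ∀ m, x1.coeff m = x.coeff m * c0i := by
    intro m; rw [hx1, coeff_mul_single_zero]
  obtain ⟨ν, hν⟩ : ∃ ν, ν = x1 - 1 := ⟨_, rfl⟩
  have hνnil : ∀ m, IsNilpotent (ν.coeff m) := by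
    intro m
    rw [hν, coeff_sub, Finsupp.sub_apply, hx1coef]
    by_cases hm : m = 0
    · subst hm
      rw [← hc0def, hcc, one_def, coeff_single, Finsupp.single_eq_same, sub_self]
      exact IsNilpotent.zero
    · rw [one_def, coeff_single, Finsupp.single_apply, if_neg (Ne.symm hm), sub_zero]
      have : IsNilpotent (x.coeff m) :=
        nilpotent_iff_mem_prime.mpr fun P hP => (hprime P hP).1 m hm
      exact mem_nilradical.mp ((nilradical A).mul_mem_right c0i (mem_nilradical.mpr this))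
  obtain ⟨I, hI⟩ : ∃ I : Ideal A,
      I = Ideal.span ((ν.coeff.support.image ν.coeff : Finset A) : Set A) := ⟨_, rfl⟩
  have hIfg : I.FG := ⟨ν.coeff.support.image ν.coeff, hI.symm⟩
  have hIle : I ≤ nilradical A := by
    rw [hI, Ideal.span_le]
    intro a ha
    obtain ⟨m, -, rfl⟩ := Finset.mem_image.mp (Finset.mem_coe.mp ha)
    exact mem_nilradical.mpr (hνnil m)
  obtain ⟨N, hN⟩ := hIfg.isNilpotent_iff_le_nilradical.mpr hIle
  have hCf : Cf (I ^ 1) ν := by
    rw [pow_one]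
    intro m
    by_cases hm : m ∈ ν.coeff.support
    · rw [hI]; exact Ideal.subset_span (Finset.mem_coe.mpr (Finset.mem_image_of_mem _ hm))
    · rw [Finsupp.notMem_support_iff.mp hm]; exact I.zero_mem
  rw [hν] at hCf
  obtain ⟨y1, yi1, hyy1, hy1⟩ :=
    main_ind I N (show I ^ N = ⊥ from hN) N 1 le_rfl (by omega) x1 _ hx1i hx1c hCf
  refine ⟨y1 * single (0 : Fin 1 → ℤ) c0, yi1 * single (0 : Fin 1 → ℤ) c0i, ?_, ?_⟩
  · have hs1 : single (0 : Fin 1 → ℤ) c0 * single (0 : Fin 1 → ℤ) c0i =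
        (1 : AddMonoidAlgebra A (Fin 1 → ℤ)) := by
      rw [single_mul_single, add_zero, hcc]; rfl
    linear_combination (single (0 : Fin 1 → ℤ) c0 * single (0 : Fin 1 → ℤ) c0i) * hyy1 + hs1
  · simp only [map_mul]
    rw [md_single, md_single, md_single, map_zero, map_zero, map_zero]
    have hxx : x = x1 * single (0 : Fin 2 → ℤ) c0 := by
      rw [hx1, mul_assoc, hss, mul_one]
    rw [hxx]
    linear_combination (single (0 : Fin 2 → ℤ) c0 * single (0 : Fin 2 → ℤ) c0) * hy1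


/-- For any commutative ring A, the second cohomology of the complex of unit groups A[t₁^±]ˣ → A[t₁^±,
t₂^±]ˣ → A[t₁^±, t₂^±, t₃^±]ˣ → ⋯ attached to the cosimplicial ring of Laurent polynomial rings
(coface maps (t₁, t₂) ↦ (t₂, t₃), (t₁t₂, t₃), (t₁, t₂t₃), (t₁, t₂) and t₁ ↦ t₂, t₁t₂, t₁) vanishes:
every unit ξ of A[t₁^±, t₂^±] with ξ(t₂,t₃) ξ(t₁t₂,t₃)⁻¹ ξ(t₁,t₂t₃) ξ(t₁,t₂)⁻¹ = 1 is of the form
η(t₂) η(t₁t₂)⁻¹ η(t₁) for a unit η of A[t^±]. Laurent polynomial rings are written as group algebras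
of ℤ^p and the coface maps as the maps induced by the corresponding additive maps ℤ^p → ℤ^(p+1). -/
theorem result (A : Type u) [CommRing A] (ξ : (AddMonoidAlgebra A (Fin 2 → ℤ))ˣ)
    (hξ : Units.map (AddMonoidAlgebra.mapDomainRingHom A
          (Matrix.mulVecLin (!![0, 0; 1, 0; 0, 1] : Matrix (Fin 3) (Fin 2) ℤ)).toAddMonoidHom).toMonoidHom ξ *
        (Units.map (AddMonoidAlgebra.mapDomainRingHom A
          (Matrix.mulVecLin (!![1, 0; 1, 0; 0, 1] : Matrix (Fin 3) (Fin 2) ℤ)).toAddMonoidHom).toMonoidHom ξ)⁻¹ *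
        Units.map (AddMonoidAlgebra.mapDomainRingHom A
          (Matrix.mulVecLin (!![1, 0; 0, 1; 0, 1] : Matrix (Fin 3) (Fin 2) ℤ)).toAddMonoidHom).toMonoidHom ξ *
        (Units.map (AddMonoidAlgebra.mapDomainRingHom A
          (Matrix.mulVecLin (!![1, 0; 0, 1; 0, 0] : Matrix (Fin 3) (Fin 2) ℤ)).toAddMonoidHom).toMonoidHom ξ)⁻¹ = 1) :
    ∃ η : (AddMonoidAlgebra A (Fin 1 → ℤ))ˣ,
      ξ = Units.map (AddMonoidAlgebra.mapDomainRingHom A
          (Matrix.mulVecLin (!![0; 1] : Matrix (Fin 2) (Fin 1) ℤ)).toAddMonoidHom).toMonoidHom η *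
        (Units.map (AddMonoidAlgebra.mapDomainRingHom A
          (Matrix.mulVecLin (!![1; 1] : Matrix (Fin 2) (Fin 1) ℤ)).toAddMonoidHom).toMonoidHom η)⁻¹ *
        Units.map (AddMonoidAlgebra.mapDomainRingHom A
          (Matrix.mulVecLin (!![1; 0] : Matrix (Fin 2) (Fin 1) ℤ)).toAddMonoidHom).toMonoidHom η := by
  rw [M0_eq, M1_eq, M2_eq, M3_eq] at hξ
  rw [N0_eq, N1_eq, N2_eq]
  have h02 : Units.map (AddMonoidAlgebra.mapDomainRingHom A d0).toMonoidHom ξ *
      Units.map (AddMonoidAlgebra.mapDomainRingHom A d2).toMonoidHom ξ =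
      Units.map (AddMonoidAlgebra.mapDomainRingHom A d1).toMonoidHom ξ *
      Units.map (AddMonoidAlgebra.mapDomainRingHom A d3).toMonoidHom ξ := by
    rw [← div_eq_one, ← hξ]
    simp only [div_eq_mul_inv, mul_inv_rev]
    ac_rfl
  have hcoc : IsCoc (ξ : AddMonoidAlgebra A (Fin 2 → ℤ)) := congrArg Units.val h02
  obtain ⟨y, yi, hyy, hy⟩ := ring_main (ξ : AddMonoidAlgebra A (Fin 2 → ℤ))
    ((ξ⁻¹ : (AddMonoidAlgebra A (Fin 2 → ℤ))ˣ) : AddMonoidAlgebra A (Fin 2 → ℤ)) ξ.mul_inv hcoc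
  have hyy' : yi * y = 1 := by rw [mul_comm]; exact hyy
  refine ⟨⟨y, yi, hyy, hyy'⟩, ?_⟩
  have key : ξ * Units.map (AddMonoidAlgebra.mapDomainRingHom A e1).toMonoidHom ⟨y, yi, hyy, hyy'⟩ =
      Units.map (AddMonoidAlgebra.mapDomainRingHom A e0).toMonoidHom ⟨y, yi, hyy, hyy'⟩ *
      Units.map (AddMonoidAlgebra.mapDomainRingHom A e2).toMonoidHom ⟨y, yi, hyy, hyy'⟩ :=
    Units.ext hy
  rw [mul_right_comm, ← key, mul_inv_cancel_right]


end Groth.Agent.S13793
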