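import Groth.Statements.S13794
import Mathlib
-- import your own Groth.Agent.* helpers here

set_option autoImplicit false
universe u
open Polynomial
open Curves

namespace Groth.Agent.S13794

/-- Let k be a field of characteristic not 3 and β ∈ k. If a line ax + by + c = 0 with a³ ≠ b³ is the
tangent line at a flex point of the affine cubic x³ + y³ + β = 3xy, then β is a cube in k. Here the
line is normalised to b ≠ 0 (the roles of x and y are symmetric) and the flex-tangency is expressed
by the restriction of the cubic to the line being λ (x − x₀)³. -/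
theorem result {k : Type u} [Field k] (h3 : (3 : k) ≠ 0)
    (β a b c : k) (hb : b ≠ 0) (hab : a ^ 3 ≠ b ^ 3) (lam x₀ : k)
    (hflex : (X : k[X]) ^ 3 + (C (-a / b) * X + C (-c / b)) ^ 3 + C β - 3 * X * (C (-a / b) * X + C (-c / b)) =
      C lam * (X - C x₀) ^ 3) :
    ∃ γ : k, β = γ ^ 3 := by
  set m : k := -a / b with hm
  set n : k := -c / b with hn
  -- normal forms of both sides
  have hL : (X : k[X]) ^ 3 + (C m * X + C n) ^ 3 + C β - 3 * X * (C m * X + C n) =
      C (1 + m ^ 3) * X ^ 3 + C (3 * m ^ 2 * n - 3 * m) * X ^ 2 + C (3 * m * n ^ 2 - 3 * n) * X +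
        C (n ^ 3 + β) := by
    simp only [map_add, map_mul, map_pow, map_sub, map_one, map_ofNat]
    ring
  have hR : C lam * (X - C x₀) ^ 3 =
      C lam * X ^ 3 + C (-3 * lam * x₀) * X ^ 2 + C (3 * lam * x₀ ^ 2) * X + C (-lam * x₀ ^ 3) := by
    simp only [map_add, map_mul, map_pow, map_sub, map_one, map_ofNat, map_neg]
    ring
  rw [hL, hR] at hflex
  have e3 := congrArg (fun q => Polynomial.coeff q 3) hflex
  have e2 := congrArg (fun q => Polynomial.coeff q 2) hflex
  have e1 := congrArg (fun q => Polynomial.coeff q 1) hflex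
  have e0 := congrArg (fun q => Polynomial.coeff q 0) hflex
  simp only [coeff_add, coeff_C_mul, coeff_X_pow, coeff_X, coeff_C] at e3 e2 e1 e0
  norm_num at e3 e2 e1 e0
  have hlam : lam ≠ 0 := by
    rw [← e3, hm]
    intro h
    apply hab
    have hb3 : b ^ 3 ≠ 0 := pow_ne_zero 3 hb
    field_simp at h
    linear_combination (-1 : k) * h
  clear_value m n
  have e2' : m ^ 2 * n - m = -(lam * x₀) := by
    apply mul_left_cancel₀ h3
    linear_combination e2
  have e1' : m * n ^ 2 - n = lam * x₀ ^ 2 := by
    apply mul_left_cancel₀ h3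
    linear_combination e1
  have key : (m * x₀ + n) * (m * n - 1) = 0 := by
    linear_combination x₀ * e2' + e1'
  rcases mul_eq_zero.mp key with hy | hq
  · -- y₀ = 0
    refine ⟨-x₀, ?_⟩
    have hn' : n = -(m * x₀) := by linear_combination hy
    rw [hn'] at e0
    linear_combination e0 + x₀ ^ 3 * e3
  · -- q = 0, so x₀ = 0
    have hx0 : lam * x₀ = 0 := by linear_combination (-m) * hq + e2'
    have hx0' : x₀ = 0 := (mul_eq_zero.mp hx0).resolve_left hlam
    refine ⟨-n, ?_⟩
    rw [hx0'] at e0
    linear_combination e0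

end Groth.Agent.S13794
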