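import Groth.Statements.S13795
import Mathlib

set_option autoImplicit false
universe u
open TensorProduct
open Brauer

namespace Groth.Agent.S13795

section Morita

variable {A : Type u} [CommRing A] {F G : Type u} [AddCommGroup F] [Module A F]
  [AddCommGroup G] [Module A G]

theorem exists_dualBasis [Module.Finite A F] [Module.Projective A F] :
    ∃ (m : ℕ) (x : Fin m → F) (f : Fin m → Module.Dual A F),
      ∀ z : F, ∑ k, f k z • x k = z := by
  classical
  obtain ⟨m, π, hπ⟩ := Module.Finite.exists_fin' A F
  obtain ⟨s, hs⟩ := Module.projective_lifting_property π LinearMap.id hπ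
  refine ⟨m, fun k => π (Pi.single k 1), fun k => (LinearMap.proj k) ∘ₗ s, fun z => ?_⟩
  have h1 : π (s z) = z := LinearMap.congr_fun hs z
  have h2 : s z = ∑ k, (s z k) • (Pi.single k (1 : A) : Fin m → A) := by
    funext j
    rw [Finset.sum_apply, Finset.sum_eq_single j]
    · rw [Pi.smul_apply, Pi.single_eq_same, smul_eq_mul, mul_one]
    · intro k _ hk
      rw [Pi.smul_apply, Pi.single_eq_of_ne (Ne.symm hk), smul_zero]
    · intro h; exact absurd (Finset.mem_univ j) h
  conv_rhs => rw [← h1, h2]
  rw [map_sum]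
  refine Finset.sum_congr rfl fun k _ => ?_
  rw [map_smul]
  rfl

theorem exists_trace_one [Module.Finite A F] [Module.Projective A F]
    [Module.FaithfullyFlat A F] :
    ∃ t : Module.Dual A F ⊗[A] F, contractLeft A F t = 1 := by
  obtain ⟨m, x, f, hxf⟩ := exists_dualBasis (A := A) (F := F)
  have htop : LinearMap.range (contractLeft A F) = ⊤ := by
    by_contra hne
    obtain ⟨𝔪, h𝔪, hle⟩ := Ideal.exists_le_maximal (LinearMap.range (contractLeft A F)) hne
    apply Module.FaithfullyFlat.submodule_ne_top (R := A) (M := F) h𝔪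
    rw [eq_top_iff]
    intro z _
    rw [← hxf z]
    refine Submodule.sum_mem _ fun k _ =>
      Submodule.smul_mem_smul (hle ⟨f k ⊗ₜ z, ?_⟩) Submodule.mem_top
    exact contractLeft_apply (f k) z
  have h1 : (1 : A) ∈ LinearMap.range (contractLeft A F) := by
    rw [htop]; exact Submodule.mem_top
  exact LinearMap.mem_range.mp h1

variable (φ : Module.End A F →ₐ[A] Module.End A G)

/-- the module of `End F`-linear maps from `F` to `G` -/
def Lmod : Submodule A (F →ₗ[A] G) where
  carrier := {l | ∀ f : Module.End A F, l ∘ₗ f = φ f ∘ₗ l}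
  zero_mem' := fun f => by rw [LinearMap.zero_comp, LinearMap.comp_zero]
  add_mem' := by
    intro a b ha hb f
    rw [LinearMap.add_comp, LinearMap.comp_add, ha f, hb f]
  smul_mem' := by
    intro c a ha f
    rw [LinearMap.smul_comp, LinearMap.comp_smul, ha f]

theorem Lmod_apply (l : Lmod φ) (f : Module.End A F) (x : F) :
    (l : F →ₗ[A] G) (f x) = φ f ((l : F →ₗ[A] G) x) :=
  LinearMap.congr_fun (l.2 f) x

theorem smulRight_comp (h : Module.Dual A F) (x : F) (f : Module.End A F) :
    h.smulRight (f x) = f * h.smulRight x := by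
  apply LinearMap.ext
  intro z
  rw [LinearMap.smulRight_apply, Module.End.mul_apply, LinearMap.smulRight_apply, map_smul]

noncomputable def lamL (h : Module.Dual A F) : G →ₗ[A] Lmod φ where
  toFun w := ⟨{ toFun := fun x => φ (h.smulRight x) w
                map_add' := fun x y => by
                  have h1 : h.smulRight (x + y) = h.smulRight x + h.smulRight y := by
                    apply LinearMap.ext
                    intro z
                    rw [LinearMap.add_apply, LinearMap.smulRight_apply,
                      LinearMap.smulRight_apply, LinearMap.smulRight_apply, smul_add]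
                  rw [h1, map_add, LinearMap.add_apply]
                map_smul' := fun c x => by
                  have h1 : h.smulRight (c • x) = c • h.smulRight x := by
                    apply LinearMap.ext
                    intro z
                    rw [LinearMap.smul_apply, LinearMap.smulRight_apply,
                      LinearMap.smulRight_apply, smul_comm]
                  rw [h1, map_smul, LinearMap.smul_apply, RingHom.id_apply] }, by
    intro f
    apply LinearMap.ext
    intro x
    show φ (h.smulRight (f x)) w = φ f (φ (h.smulRight x) w)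
    rw [smulRight_comp, map_mul, Module.End.mul_apply]⟩
  map_add' w w' := by
    apply Subtype.ext
    apply LinearMap.ext
    intro x
    show φ (h.smulRight x) (w + w') = φ (h.smulRight x) w + φ (h.smulRight x) w'
    rw [map_add]
  map_smul' c w := by
    apply Subtype.ext
    apply LinearMap.ext
    intro x
    show φ (h.smulRight x) (c • w) = c • φ (h.smulRight x) w
    rw [map_smul]

theorem lamL_apply (h : Module.Dual A F) (w : G) (x : F) :
    ((lamL φ h w : Lmod φ) : F →ₗ[A] G) x = φ (h.smulRight x) w := rfl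

noncomputable def xiMap : F ⊗[A] Lmod φ →ₗ[A] G :=
  TensorProduct.lift (LinearMap.mk₂ A (fun (x : F) (l : Lmod φ) => (l : F →ₗ[A] G) x)
    (fun x y l => map_add _ x y) (fun c x l => map_smul _ c x)
    (fun x l l' => rfl) (fun c x l => rfl))

theorem xiMap_tmul (x : F) (l : Lmod φ) : xiMap φ (x ⊗ₜ l) = (l : F →ₗ[A] G) x := rfl

theorem xi_bijective [Module.Finite A F] [Module.Projective A F] :
    Function.Bijective (xiMap φ) := by
  classical
  obtain ⟨m, x, f, hxf⟩ := exists_dualBasis (A := A) (F := F)
  have hid : ∑ k, (f k).smulRight (x k) = (1 : Module.End A F) := by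
    apply LinearMap.ext
    intro z
    rw [LinearMap.sum_apply, Module.End.one_apply]
    exact hxf z
  obtain ⟨ζ, hζ⟩ : ∃ ζ : G →ₗ[A] F ⊗[A] Lmod φ,
      ∀ w, ζ w = ∑ k, x k ⊗ₜ[A] lamL φ (f k) w :=
    ⟨∑ k, (TensorProduct.mk A F (Lmod φ) (x k)) ∘ₗ (lamL φ (f k)), fun w => by
      rw [LinearMap.sum_apply]; rfl⟩
  have h1 : ∀ w, xiMap φ (ζ w) = w := by
    intro w
    rw [hζ, map_sum]
    have h2 : ∀ k, xiMap φ (x k ⊗ₜ[A] lamL φ (f k) w) = φ ((f k).smulRight (x k)) w :=
      fun k => rfl
    rw [Finset.sum_congr rfl fun k _ => h2 k, ← LinearMap.sum_apply, ← map_sum, hid, map_one,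
      Module.End.one_apply]
  have h3 : ∀ s, ζ (xiMap φ s) = s := by
    intro s
    induction s using TensorProduct.induction_on with
    | zero => rw [map_zero, map_zero]
    | add a b ha hb => rw [map_add, map_add, ha, hb]
    | tmul y l =>
      rw [xiMap_tmul, hζ]
      have h4 : ∀ k, lamL φ (f k) ((l : F →ₗ[A] G) y) = f k y • l := by
        intro k
        apply Subtype.ext
        apply LinearMap.ext
        intro z
        show φ ((f k).smulRight z) ((l : F →ₗ[A] G) y) = f k y • (l : F →ₗ[A] G) z
        rw [← Lmod_apply φ l, LinearMap.smulRight_apply, map_smul]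
      have h5 : ∀ k, x k ⊗ₜ[A] lamL φ (f k) ((l : F →ₗ[A] G) y) = (f k y • x k) ⊗ₜ[A] l := by
        intro k
        rw [h4 k, TensorProduct.tmul_smul, TensorProduct.smul_tmul']
      rw [Finset.sum_congr rfl fun k _ => h5 k, ← TensorProduct.sum_tmul, hxf]
  exact ⟨Function.LeftInverse.injective h3, Function.RightInverse.surjective h1⟩

theorem xi_intertwine (f : Module.End A F) (s : F ⊗[A] Lmod φ) :
    xiMap φ (TensorProduct.map f LinearMap.id s) = φ f (xiMap φ s) := by
  induction s using TensorProduct.induction_on with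
  | zero => rw [map_zero, map_zero, map_zero]
  | add a b ha hb => rw [map_add, map_add, ha, hb, map_add, map_add]
  | tmul y l =>
    rw [TensorProduct.map_tmul, xiMap_tmul, xiMap_tmul, LinearMap.id_apply]
    exact Lmod_apply φ l f y

theorem Lmod_finite_projective [Module.Finite A F] [Module.Projective A F]
    [Module.FaithfullyFlat A F] [Module.Finite A G] [Module.Projective A G] :
    Module.Finite A (Lmod φ) ∧ Module.Projective A (Lmod φ) := by
  obtain ⟨t, ht⟩ := exists_trace_one (A := A) (F := F)
  obtain ⟨ξ, -⟩ : ∃ ξ : F ⊗[A] Lmod φ ≃ₗ[A] G, True :=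
    ⟨LinearEquiv.ofBijective (xiMap φ) (xi_bijective φ), trivial⟩
  obtain ⟨i, hi⟩ : ∃ i : Lmod φ →ₗ[A] Module.Dual A F ⊗[A] G,
      ∀ l, i l = (LinearEquiv.lTensor (Module.Dual A F) ξ)
        (TensorProduct.assoc A (Module.Dual A F) F (Lmod φ) (t ⊗ₜ l)) :=
    ⟨(LinearEquiv.lTensor (Module.Dual A F) ξ).toLinearMap ∘ₗ
      (TensorProduct.assoc A (Module.Dual A F) F (Lmod φ)).toLinearMap ∘ₗ
      (TensorProduct.mk A (Module.Dual A F ⊗[A] F) (Lmod φ) t), fun l => rfl⟩
  obtain ⟨p, hp⟩ : ∃ p : Module.Dual A F ⊗[A] G →ₗ[A] Lmod φ,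
      ∀ s, p s = TensorProduct.lid A (Lmod φ) (LinearMap.rTensor (Lmod φ) (contractLeft A F)
        ((TensorProduct.assoc A (Module.Dual A F) F (Lmod φ)).symm
          ((LinearEquiv.lTensor (Module.Dual A F) ξ).symm s))) :=
    ⟨(TensorProduct.lid A (Lmod φ)).toLinearMap ∘ₗ
      (LinearMap.rTensor (Lmod φ) (contractLeft A F)) ∘ₗ
      (TensorProduct.assoc A (Module.Dual A F) F (Lmod φ)).symm.toLinearMap ∘ₗ
      (LinearEquiv.lTensor (Module.Dual A F) ξ).symm.toLinearMap, fun s => rfl⟩
  have hpi : ∀ l, p (i l) = l := by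
    intro l
    rw [hp, hi, LinearEquiv.symm_apply_apply, LinearEquiv.symm_apply_apply,
      LinearMap.rTensor_tmul, ht, TensorProduct.lid_tmul, one_smul]
  constructor
  · exact Module.Finite.of_surjective p (fun l => ⟨i l, hpi l⟩)
  · exact Module.Projective.of_split i p (LinearMap.ext hpi)

theorem rank_pos [Module.Finite A F] [Module.Projective A F] [Module.FaithfullyFlat A F]
    (p : PrimeSpectrum A) : 0 < Module.rankAtStalk F p := by
  rw [Module.rankAtStalk_pos_iff_mem_support]
  by_contra hp
  rw [Module.notMem_support_iff] at hp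
  haveI : Subsingleton (F ⊗[A] Localization.AtPrime p.asIdeal) := by
    have e1 := (LocalizedModule.equivTensorProduct p.asIdeal.primeCompl F).symm
    have e2 := TensorProduct.comm A F (Localization.AtPrime p.asIdeal)
    exact (e2.toEquiv.trans e1.toEquiv).subsingleton
  have h1 := Module.FaithfullyFlat.lTensor_reflects_triviality A F
    (Localization.AtPrime p.asIdeal)
  exact not_subsingleton (Localization.AtPrime p.asIdeal) h1

theorem central_smul (t : Module.Dual A F ⊗[A] F) (z : Module.End A F)
    (hz : ∀ f : Module.End A F, z * f = f * z) (x : F) :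
    contractLeft A F t • z x =
      contractLeft A F (LinearMap.lTensor (Module.Dual A F) z t) • x := by
  induction t using TensorProduct.induction_on with
  | zero => rw [map_zero, map_zero, map_zero, zero_smul, zero_smul]
  | add a b ha hb => rw [map_add, map_add, map_add, add_smul, add_smul, ha, hb]
  | tmul g y =>
    rw [LinearMap.lTensor_tmul, contractLeft_apply, contractLeft_apply]
    have h1 := LinearMap.congr_fun (hz (g.smulRight x)) y
    rw [Module.End.mul_apply, Module.End.mul_apply, LinearMap.smulRight_apply,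
      LinearMap.smulRight_apply, map_smul] at h1
    exact h1

end Morita

section Main

variable {A : Type u} [CommRing A] {F G : Type u} [AddCommGroup F] [Module A F]
  [AddCommGroup G] [Module A G]

theorem main [Module.Finite A F] [Module.Projective A F] [Module.FaithfullyFlat A F]
    [Module.Finite A G] [Module.Projective A G] [Module.FaithfullyFlat A G]
    (φ : Module.End A F ≃ₐ[A] Module.End A G) :
    Module.Invertible A (Lmod φ.toAlgHom) := by
  rcases subsingleton_or_nontrivial A with hA | hA
  · haveI : Subsingleton (Lmod φ.toAlgHom) := Module.subsingleton A _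
    haveI : Subsingleton (Module.Dual A (Lmod φ.toAlgHom) ⊗[A] (Lmod φ.toAlgHom)) :=
      Module.subsingleton A _
    exact ⟨⟨fun x y _ => Subsingleton.elim x y, fun y => ⟨0, Subsingleton.elim _ _⟩⟩⟩
  obtain ⟨hLf, hLp⟩ := Lmod_finite_projective φ.toAlgHom
  obtain ⟨hL'f, hL'p⟩ := Lmod_finite_projective φ.symm.toAlgHom
  haveI := hLf
  haveI := hLp
  haveI := hL'f
  haveI := hL'p
  obtain ⟨ξ, hξ⟩ : ∃ ξ : F ⊗[A] Lmod φ.toAlgHom ≃ₗ[A] G, ∀ s, ξ s = xiMap φ.toAlgHom s :=
    ⟨LinearEquiv.ofBijective _ (xi_bijective φ.toAlgHom), fun s => rfl⟩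
  obtain ⟨ξ', hξ'⟩ : ∃ ξ' : G ⊗[A] Lmod φ.symm.toAlgHom ≃ₗ[A] F,
      ∀ s, ξ' s = xiMap φ.symm.toAlgHom s :=
    ⟨LinearEquiv.ofBijective _ (xi_bijective φ.symm.toAlgHom), fun s => rfl⟩
  have hr : ∀ p : PrimeSpectrum A, Module.rankAtStalk (Lmod φ.toAlgHom) p = 1 ∧
      Module.rankAtStalk (Lmod φ.symm.toAlgHom) p = 1 := by
    intro p
    have h1 : Module.rankAtStalk F p * Module.rankAtStalk (Lmod φ.toAlgHom) p =
        Module.rankAtStalk G p := by
      rw [← Pi.mul_apply, ← Module.rankAtStalk_tensorProduct, Module.rankAtStalk_eq_of_equiv ξ]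
    have h2 : Module.rankAtStalk G p * Module.rankAtStalk (Lmod φ.symm.toAlgHom) p =
        Module.rankAtStalk F p := by
      rw [← Pi.mul_apply, ← Module.rankAtStalk_tensorProduct, Module.rankAtStalk_eq_of_equiv ξ']
    have h3 := rank_pos (A := A) (F := F) p
    have h4 : Module.rankAtStalk F p * (Module.rankAtStalk (Lmod φ.toAlgHom) p *
        Module.rankAtStalk (Lmod φ.symm.toAlgHom) p) = Module.rankAtStalk F p * 1 := by
      rw [← mul_assoc, h1, h2, mul_one]
    exact mul_eq_one.mp (Nat.eq_of_mul_eq_mul_left h3 h4)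
  obtain ⟨t, ht⟩ := exists_trace_one (A := A) (F := F)
  obtain ⟨c, hc⟩ : ∃ c : Lmod φ.symm.toAlgHom ⊗[A] Lmod φ.toAlgHom →ₗ[A] A,
      ∀ (μ : Lmod φ.symm.toAlgHom) (l : Lmod φ.toAlgHom), c (μ ⊗ₜ l) =
        contractLeft A F (LinearMap.lTensor (Module.Dual A F)
          ((μ : G →ₗ[A] F) ∘ₗ (l : F →ₗ[A] G)) t) :=
    ⟨((contractLeft A F) ∘ₗ (LinearMap.lTensorHom (Module.Dual A F)).flip t) ∘ₗ
      TensorProduct.lift ((LinearMap.llcomp A F G F).domRestrict₁₂
        (Lmod φ.symm.toAlgHom) (Lmod φ.toAlgHom)), fun μ l => rfl⟩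
  have hcx : ∀ (μ : Lmod φ.symm.toAlgHom) (l : Lmod φ.toAlgHom) (x : F),
      c (μ ⊗ₜ l) • x = (μ : G →ₗ[A] F) ((l : F →ₗ[A] G) x) := by
    intro μ l x
    have hz : ∀ f : Module.End A F, ((μ : G →ₗ[A] F) ∘ₗ (l : F →ₗ[A] G)) * f =
        f * ((μ : G →ₗ[A] F) ∘ₗ (l : F →ₗ[A] G)) := by
      intro f
      apply LinearMap.ext
      intro y
      show (μ : G →ₗ[A] F) ((l : F →ₗ[A] G) (f y)) =
        f ((μ : G →ₗ[A] F) ((l : F →ₗ[A] G) y))
      have e1 := Lmod_apply φ.toAlgHom l f y
      have e2 := Lmod_apply φ.symm.toAlgHom μ (φ.toAlgHom f) ((l : F →ₗ[A] G) y)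
      rw [e1, e2]
      show φ.symm (φ f) _ = _
      rw [φ.symm_apply_apply]
    have h1 := central_smul t _ hz x
    rw [ht, one_smul] at h1
    rw [hc]
    exact h1.symm
  have hcs : Function.Surjective c := by
    have htop : LinearMap.range c = ⊤ := by
      by_contra hne
      obtain ⟨𝔪, h𝔪, hle⟩ := Ideal.exists_le_maximal (LinearMap.range c) hne
      apply Module.FaithfullyFlat.submodule_ne_top (R := A) (M := F) h𝔪
      rw [eq_top_iff]
      rintro y -
      obtain ⟨s, rfl⟩ := ξ'.surjective y
      rw [hξ']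
      induction s using TensorProduct.induction_on with
      | zero => rw [map_zero]; exact Submodule.zero_mem _
      | add a b ha hb => rw [map_add]; exact Submodule.add_mem _ ha hb
      | tmul w μ =>
        rw [xiMap_tmul]
        obtain ⟨s', rfl⟩ := ξ.surjective w
        rw [hξ]
        induction s' using TensorProduct.induction_on with
        | zero => rw [map_zero, map_zero]; exact Submodule.zero_mem _
        | add a b ha hb => rw [map_add, map_add]; exact Submodule.add_mem _ ha hb
        | tmul x l =>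
          rw [xiMap_tmul, ← hcx μ l x]
          exact Submodule.smul_mem_smul (hle ⟨μ ⊗ₜ l, rfl⟩) Submodule.mem_top
    intro a
    have h1 : a ∈ LinearMap.range c := by rw [htop]; exact Submodule.mem_top
    exact LinearMap.mem_range.mp h1
  have hcb : Function.Bijective c := by
    refine Module.bijective_of_surjective_of_rankAtStalk_eq
      (M := Lmod φ.symm.toAlgHom ⊗[A] Lmod φ.toAlgHom) (N := A) (φ := c) hcs fun m _ => ?_
    rw [Module.rankAtStalk_tensorProduct, Pi.mul_apply, (hr _).1, (hr _).2,
      Module.rankAtStalk_self]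
    rfl
  exact Module.Invertible.right (LinearEquiv.ofBijective c hcb)

end Main



/-- In the case of an affine scheme — let A be a commutative ring, F and G finitely generated projective
A-modules of everywhere positive rank, and φ an A-algebra isomorphism from End_A(F) to End_A(G).
Then there are an invertible A-module L and an A-linear isomorphism ξ : F ⊗ L ≅ G which induces φ:
for every endomorphism f of F, φ(f) = ξ ∘ (f ⊗ 1) ∘ ξ⁻¹. (The published statement is for finite
locally free modules of positive rank on any locally ringed site; this row is the case of the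
Zariski site of Spec A, written in terms of modules.) -/
theorem result (A : Type u) [CommRing A]
    (F G : Type u) [AddCommGroup F] [Module A F] [Module.Finite A F] [Module.Projective A F] [Module.FaithfullyFlat A F]
    [AddCommGroup G] [Module A G] [Module.Finite A G] [Module.Projective A G] [Module.FaithfullyFlat A G]
    (φ : Module.End A F ≃ₐ[A] Module.End A G) :
    ∃ (L : Type u) (_ : AddCommGroup L) (_ : Module A L), Module.Invertible A L ∧
      ∃ ξ : F ⊗[A] L ≃ₗ[A] G, ∀ f : Module.End A F, φ f = ξ.conj (TensorProduct.map f LinearMap.id) := by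
  obtain ⟨ξ, hξ⟩ : ∃ ξ : F ⊗[A] Lmod φ.toAlgHom ≃ₗ[A] G, ∀ s, ξ s = xiMap φ.toAlgHom s :=
    ⟨LinearEquiv.ofBijective _ (xi_bijective φ.toAlgHom), fun s => rfl⟩
  refine ⟨Lmod φ.toAlgHom, inferInstance, inferInstance, main φ, ξ, fun f => ?_⟩
  apply LinearMap.ext
  intro w
  rw [LinearEquiv.conj_apply, LinearMap.comp_apply, LinearMap.comp_apply, LinearEquiv.coe_coe,
    LinearEquiv.coe_coe, hξ, xi_intertwine, ← hξ, ξ.apply_symm_apply]
  rfl


end Groth.Agent.S13795
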