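import Groth.Statements.S13796
import Mathlib
import Groth.Agent.Lib.Helper10.KronPsi
import Groth.Agent.Lib.Helper10.AzSplitGlobal
import Groth.Agent.Lib.Helper10.TPowSplit

set_option autoImplicit false
universe u
open scoped TensorProduct
open Brauer

namespace Groth.Agent.S13796

set_option linter.style.haveILetI false
set_option linter.unusedSectionVars false
open scoped TensorProduct
open Groth.Agent.Lib.helper8.Az Groth.Agent.Lib.Helper10.KronPow Groth.Agent.Lib.Helper10.KronPsi
  Groth.Agent.Lib.Helper10.AzHomRank Groth.Agent.Lib.Helper10.TPowAz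
  Groth.Agent.Lib.Helper10.AzSplitGlobal Groth.Agent.Lib.Helper10.TPowSplit
  Groth.Agent.Lib.Helper10.BrauerCorner


theorem main (R : Type u) [CommRing R] (A : Type u) [Ring A] [Algebra R A]
    [IsAzumaya R A] (n : ℕ) (hrk : ∀ p : PrimeSpectrum R, Module.rankAtStalk (R := R) A p = n ^ 2) :
    ∃ (E : Type u) (_ : AddCommGroup E) (_ : Module R E), Module.Finite R E ∧ Module.Projective R E ∧
      (∀ p : PrimeSpectrum R, Module.rankAtStalk (R := R) E p = n ^ n) ∧
      Nonempty ((⨂[R] _ : Fin n, A) ≃ₐ[R] Module.End R E) := by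
  classical
  rcases subsingleton_or_nontrivial R with hR | hR
  · -- trivial ring
    refine ⟨PUnit.{u+1}, inferInstance, inferInstance, inferInstance, inferInstance,
      fun p => ?_, ?_⟩
    · exfalso
      exact p.isPrime.ne_top (Subsingleton.elim _ _)
    · haveI : Subsingleton (⨂[R] _ : Fin n, A) := Module.subsingleton R _
      haveI : Subsingleton (Module.End R PUnit.{u+1}) := Module.subsingleton R _
      exact ⟨{ toFun := fun _ => 0
               invFun := fun _ => 0
               left_inv := fun _ => Subsingleton.elim _ _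
               right_inv := fun _ => Subsingleton.elim _ _
               map_mul' := fun _ _ => Subsingleton.elim _ _
               map_add' := fun _ _ => Subsingleton.elim _ _
               commutes' := fun _ => Subsingleton.elim _ _ }⟩
  have hn : 0 < n := by
    rcases Nat.eq_zero_or_pos n with h0 | h0
    · exfalso
      subst h0
      have h1 : Module.rankAtStalk (R := R) A = 0 := funext fun p => by rw [hrk]; rfl
      have hA : Subsingleton A := Module.rankAtStalk_eq_zero_iff_subsingleton.mp h1
      have h2 : (1 : R) = 0 :=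
        FaithfulSMul.eq_of_smul_eq_smul (α := A) fun a => Subsingleton.elim _ _
      exact one_ne_zero h2
    · exact h0
  obtain ⟨S, _, _, hff, ⟨h⟩⟩ := exists_faithfullyFlat_algHom R A n hrk
  haveI := hff
  have hΨ := Psi_bijective R A n hn hrk S h
  obtain ⟨sS, hsS⟩ := hΨ.2 (Pm S n)
  -- equalizer
  let j₀ : S →ₐ[R] S ⊗[R] S := Algebra.TensorProduct.includeLeft
  let j₁ : S →ₐ[R] S ⊗[R] S := Algebra.TensorProduct.includeRight
  let d₀ := Algebra.TensorProduct.map j₀ (AlgHom.id R (⨂[R] _ : Fin n, A))
  let d₁ := Algebra.TensorProduct.map j₁ (AlgHom.id R (⨂[R] _ : Fin n, A))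
  have e0 : Psi R A n (S ⊗[R] S) (j₀.mapMatrix.comp h) (d₀ sS) = Pm (S ⊗[R] S) n := by
    rw [Psi_map, hsS]
    exact Pm_map (j₀ : S →+* S ⊗[R] S)
  have e1 : Psi R A n (S ⊗[R] S) (j₁.mapMatrix.comp h) (d₁ sS) = Pm (S ⊗[R] S) n := by
    rw [Psi_map, hsS]
    exact Pm_map (j₁ : S →+* S ⊗[R] S)
  have e01 := Psi_eq_Pm_of_Psi_eq_Pm R A n hn hrk (S ⊗[R] S) _ (j₁.mapMatrix.comp h) (d₀ sS) e0
  have hd : d₀ sS = d₁ sS :=
    (Psi_bijective R A n hn hrk (S ⊗[R] S) (j₁.mapMatrix.comp h)).1 (e01.trans e1.symm)
  have hsub : ∀ x : S ⊗[R] (⨂[R] _ : Fin n, A),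
      (Algebra.TensorProduct.includeLeftSubRight R S).rTensor (⨂[R] _ : Fin n, A) x =
        d₀ x - d₁ x := by
    intro x
    induction x using TensorProduct.induction_on with
    | zero => simp
    | add a b ha hb => rw [map_add, map_add, map_add, ha, hb]; abel
    | tmul c t =>
      rw [LinearMap.rTensor_tmul, Algebra.TensorProduct.includeLeftSubRight_apply,
        TensorProduct.sub_tmul]
      rfl
  haveI : IsAzumaya R (⨂[R] _ : Fin n, A) := isAzumaya_tpow R A n
  obtain ⟨s, hs⟩ := exists_of_equalizer R S (⨂[R] _ : Fin n, A) sS (by rw [hsub, hd, sub_self])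
  -- the module `E`
  let εv : Idx n → S := fun I => ((eps I : ℤ) : S)
  have hPm : Pm S n = Matrix.vecMulVec εv εv := by
    ext J I
    rw [Pm_apply, Matrix.vecMulVec_apply]
  have hid : εv (id : Fin n → Fin n) = 1 := by
    show ((eps (id : Idx n) : ℤ) : S) = 1
    have h1 : eps (id : Idx n) = 1 := by
      have := eps_perm (1 : Equiv.Perm (Fin n))
      simpa using this
    rw [h1, Int.cast_one]
  have hs' : Psi R A n S h ((1 : S) ⊗ₜ[R] s) = Matrix.vecMulVec εv εv := by
    rw [← hs, hsS, hPm]
  have hcol := colMap_bijective R (⨂[R] _ : Fin n, A) s S (Psi R A n S h) hΨ εv εv id id hid hid hs'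
  let e : S ⊗[R] (leftIdeal R (⨂[R] _ : Fin n, A) s) ≃ₗ[S] (Idx n → S) :=
    LinearEquiv.ofBijective _ hcol
  obtain ⟨hproj, hrank⟩ := projective_and_rank_of_equiv R S (leftIdeal R (⨂[R] _ : Fin n, A) s) e
  haveI := hproj
  have hcard : Fintype.card (Idx n) = n ^ n := by simp
  haveI : Module.Finite R (leftIdeal R (⨂[R] _ : Fin n, A) s) := finite_leftIdeal R _ s
  haveI : FaithfulSMul R (leftIdeal R (⨂[R] _ : Fin n, A) s) :=
    faithfulSMul_of_rankAtStalk_pos _ (fun p => by rw [hrank, hcard]; positivity)
  haveI : IsAzumaya R (Module.End R (leftIdeal R (⨂[R] _ : Fin n, A) s)) := isAzumaya_end R _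
  have hbij : Function.Bijective (leftMul R (⨂[R] _ : Fin n, A) s) := by
    refine bijective_algHom_of_rankAtStalk_eq R (⨂[R] _ : Fin n, A)
      (Module.End R (leftIdeal R (⨂[R] _ : Fin n, A) s)) (fun p => ?_) _
    rw [rankAtStalk_tpow, hrk, rankAtStalk_end, hrank, hcard, ← pow_mul, ← pow_mul, mul_comm]
  exact ⟨leftIdeal R (⨂[R] _ : Fin n, A) s, inferInstance, inferInstance, inferInstance, hproj,
    fun p => by rw [hrank, hcard], ⟨AlgEquiv.ofBijective _ hbij⟩⟩



/-- In the case of an affine scheme — let R be a commutative ring and A an Azumaya R-algebra of constant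
rank n². Then there exist a finitely generated projective R-module E of constant rank n^n and an
R-algebra isomorphism from the n-fold tensor power A ⊗ ⋯ ⊗ A to End_R(E) (existence of an
isomorphism only), so the Brauer class of A is n-torsion. For n = 0 the hypotheses force R = 0,
where the statement holds trivially. (The published statement is for Azumaya algebras of constant
rank n² on any locally ringed site; this row is the case of the étale site of Spec R, written in
terms of modules: an Azumaya algebra here is one in the usual, étale-local sense.) -/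
theorem result (R : Type u) [CommRing R] (A : Type u) [Ring A] [Algebra R A]
    [IsAzumaya R A] (n : ℕ) (hrk : ∀ p : PrimeSpectrum R, Module.rankAtStalk (R := R) A p = n ^ 2) :
    ∃ (E : Type u) (_ : AddCommGroup E) (_ : Module R E), Module.Finite R E ∧ Module.Projective R E ∧
      (∀ p : PrimeSpectrum R, Module.rankAtStalk (R := R) E p = n ^ n) ∧
      Nonempty ((⨂[R] _ : Fin n, A) ≃ₐ[R] Module.End R E) := by
  exact main R A n hrk

end Groth.Agent.S13796
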