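import Groth.Statements.S16199
import Mathlib

set_option autoImplicit false
universe u
open DivAlg

namespace Groth.Agent.S16199

open scoped TensorProduct
open Matrix

section Rank
variable {R : Type u} [CommRing R]

theorem finite_of_pow_equiv {n : ℕ} (hn : 1 ≤ n) (X : Type u) [AddCommGroup X] [Module R X]
    (e : (Fin n → X) ≃ₗ[R] (Fin n → R)) : Module.Finite R X := by
  have hs : Function.Surjective ((LinearMap.proj (⟨0, hn⟩ : Fin n) : (Fin n → X) →ₗ[R] X) ∘ₗ
      e.symm.toLinearMap) := by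
    intro x
    refine ⟨e (Pi.single ⟨0, hn⟩ x), ?_⟩
    rw [LinearMap.comp_apply, LinearEquiv.coe_coe, e.symm_apply_apply, LinearMap.proj_apply,
      Pi.single_eq_same]
  exact Module.Finite.of_surjective _ hs

theorem projective_of_pow_equiv {n : ℕ} (hn : 1 ≤ n) (X : Type u) [AddCommGroup X] [Module R X]
    (e : (Fin n → X) ≃ₗ[R] (Fin n → R)) : Module.Projective R X := by
  have : Module.Projective R (Fin n → X) := Module.Projective.of_equiv e.symm
  refine Module.Projective.of_split (LinearMap.single R (fun _ : Fin n => X) ⟨0, hn⟩)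
    (LinearMap.proj ⟨0, hn⟩) ?_
  apply LinearMap.ext
  intro x
  show (Pi.single (⟨0, hn⟩ : Fin n) x : Fin n → X) ⟨0, hn⟩ = x
  exact Pi.single_eq_same _ _

theorem rank_of_pow_equiv [Nontrivial R] {n : ℕ} (hn : 1 ≤ n) (X : Type u) [AddCommGroup X]
    [Module R X] [Module.Finite R X] [Module.Flat R X]
    (e : (Fin n → X) ≃ₗ[R] (Fin n → R)) (p : PrimeSpectrum R) : Module.rankAtStalk X p = 1 := by
  have h1 : Module.rankAtStalk (Fin n → X) p = Module.rankAtStalk (Fin n → R) p := by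
    rw [Module.rankAtStalk_eq_of_equiv e]
  have h2 : Module.rankAtStalk (Fin n → R) p = n := by
    rw [Module.rankAtStalk_eq_finrank_of_free]
    simp
  rw [Module.rankAtStalk_pi (fun _ : Fin n => X) p, h2, finsum_eq_sum_of_fintype,
    Finset.sum_const, Finset.card_univ, Fintype.card_fin, smul_eq_mul] at h1
  exact Nat.eq_of_mul_eq_mul_left (by omega : 0 < n) (by rw [h1, mul_one])

end Rank

section Main
variable {R : Type u} [CommRing R] {n : ℕ}

theorem inner_of_free (hn : 1 ≤ n)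
    (φ : Matrix (Fin n) (Fin n) R ≃ₐ[R] Matrix (Fin n) (Fin n) R)
    (H : ∀ (N : Type u) [AddCommGroup N] [Module R N] [Module.Invertible R N],
        Nonempty ((Fin n → N) ≃ₗ[R] (Fin n → R)) → Module.Free R N) :
    ∃ P : GL (Fin n) R, ∀ A : Matrix (Fin n) (Fin n) R, φ A = P.1 * A * (P⁻¹).1 := by
  classical
  rcases subsingleton_or_nontrivial R with hR | hR
  · exact ⟨1, fun A => Subsingleton.elim _ _⟩
  obtain ⟨F, hFdef⟩ : ∃ F : Fin n → Fin n → Matrix (Fin n) (Fin n) R,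
      ∀ i j, F i j = φ (Matrix.single i j 1) := ⟨_, fun _ _ => rfl⟩
  have hFmul : ∀ i j k l, F i j * F k l = if j = k then F i l else 0 := by
    intro i j k l
    rw [hFdef, hFdef, ← map_mul]
    by_cases hjk : j = k
    · rw [if_pos hjk, hjk, Matrix.single_mul_single_same, mul_one, hFdef]
    · rw [if_neg hjk, Matrix.single_mul_single_of_ne _ _ _ _ hjk _, map_zero]
  have hFsum : ∑ i, F i i = 1 := by
    have h1 : ∑ i, F i i = φ (∑ i, Matrix.single i i 1) := by
      rw [map_sum]; exact Finset.sum_congr rfl fun i _ => hFdef i i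
    rw [h1, Matrix.sum_single_one, map_one]
  have hφF : ∀ A : Matrix (Fin n) (Fin n) R, φ A = ∑ k, ∑ l, A k l • F k l := by
    intro A
    refine (congrArg φ (Matrix.matrix_eq_sum_single A)).trans ?_
    rw [map_sum]
    refine Finset.sum_congr rfl fun k _ => ?_
    rw [map_sum]
    refine Finset.sum_congr rfl fun l _ => ?_
    rw [hFdef, ← map_smul, Matrix.smul_single, smul_eq_mul, mul_one]
  obtain ⟨o, ho⟩ : ∃ o : Fin n, o = ⟨0, hn⟩ := ⟨_, rfl⟩
  have hFv : ∀ i j k l (v : Fin n → R),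
      F i j *ᵥ (F k l *ᵥ v) = if j = k then F i l *ᵥ v else 0 := by
    intro i j k l v
    rw [Matrix.mulVec_mulVec, hFmul]
    by_cases hjk : j = k
    · rw [if_pos hjk, if_pos hjk]
    · rw [if_neg hjk, if_neg hjk, Matrix.zero_mulVec]
  have hsumv : ∀ v : Fin n → R, ∑ i, F i i *ᵥ v = v := by
    intro v
    rw [← Matrix.sum_mulVec, hFsum, Matrix.one_mulVec]
  obtain ⟨N, hN⟩ : ∃ N : Submodule R (Fin n → R),
      N = LinearMap.range (Matrix.mulVecLin (F o o)) := ⟨_, rfl⟩
  have hmemN : ∀ j (w : Fin n → R), F o j *ᵥ w ∈ N := by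
    intro j w
    rw [hN]
    refine ⟨F o j *ᵥ w, ?_⟩
    rw [Matrix.mulVecLin_apply, hFv, if_pos rfl]
  have hNfix : ∀ v ∈ N, F o o *ᵥ v = v := by
    intro v hv
    rw [hN] at hv
    obtain ⟨w, rfl⟩ := hv
    rw [Matrix.mulVecLin_apply, hFv, if_pos rfl]
  obtain ⟨f, hf⟩ : ∃ f : (Fin n → N) →ₗ[R] (Fin n → R),
      ∀ x, f x = ∑ i, F i o *ᵥ ((x i : N) : Fin n → R) :=
    ⟨∑ i, (Matrix.mulVecLin (F i o)) ∘ₗ N.subtype ∘ₗ (LinearMap.proj i), fun x => by
      rw [LinearMap.sum_apply]; rfl⟩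
  obtain ⟨g, hg⟩ : ∃ g : (Fin n → R) →ₗ[R] (Fin n → N),
      ∀ w i, ((g w i : N) : Fin n → R) = F o i *ᵥ w :=
    ⟨LinearMap.pi fun i => LinearMap.codRestrict N (Matrix.mulVecLin (F o i))
      (fun w => hmemN i w), fun w i => rfl⟩
  have hfg : ∀ w, f (g w) = w := by
    intro w
    rw [hf]
    have h1 : ∀ i, F i o *ᵥ ((g w i : N) : Fin n → R) = F i i *ᵥ w := by
      intro i
      rw [hg, hFv, if_pos rfl]
    rw [Finset.sum_congr rfl fun i _ => h1 i, hsumv]
  have hgf : ∀ x, g (f x) = x := by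
    intro x
    funext i
    apply Subtype.ext
    rw [hg, hf, Matrix.mulVec_sum]
    have h1 : ∀ j, F o i *ᵥ (F j o *ᵥ ((x j : N) : Fin n → R)) =
        if i = j then ((x j : N) : Fin n → R) else 0 := by
      intro j
      rw [hFv]
      by_cases hij : i = j
      · rw [if_pos hij, if_pos hij, hNfix _ (x j).2]
      · rw [if_neg hij, if_neg hij]
    rw [Finset.sum_congr rfl fun j _ => h1 j, Finset.sum_ite_eq Finset.univ i,
      if_pos (Finset.mem_univ i)]
  obtain ⟨Ψ, -⟩ : ∃ Ψ : (Fin n → N) ≃ₗ[R] (Fin n → R), ∀ x, Ψ x = f x :=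
    ⟨{ f with invFun := g, left_inv := hgf, right_inv := hfg }, fun x => rfl⟩
  haveI hNfin : Module.Finite R N := finite_of_pow_equiv hn N Ψ
  haveI hNproj : Module.Projective R N := projective_of_pow_equiv hn N Ψ
  obtain ⟨Ψ', -⟩ : ∃ Ψ' : (Fin n → Module.Dual R N) ≃ₗ[R] (Fin n → R), True :=
    ⟨(LinearMap.lsum R (fun _ : Fin n => N) R).trans
      (Ψ.symm.dualMap.trans (Pi.basisFun R (Fin n)).toDualEquiv.symm), trivial⟩
  -- surjectivity of the contraction
  have hsurj : Function.Surjective (contractLeft R N) := by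
    obtain ⟨G, hG⟩ := φ.surjective (Matrix.single o o 1)
    obtain ⟨fd, hfd⟩ : ∃ fd : Fin n → Module.Dual R N,
        ∀ i (v : N), fd i v = (F i o *ᵥ (v : Fin n → R)) o :=
      ⟨fun i => (LinearMap.proj o) ∘ₗ (Matrix.mulVecLin (F i o)) ∘ₗ N.subtype, fun i v => rfl⟩
    obtain ⟨vd, hvd⟩ : ∃ vd : Fin n → N,
        ∀ j, ((vd j : N) : Fin n → R) = F o j *ᵥ (Pi.single o 1) :=
      ⟨fun j => ⟨F o j *ᵥ (Pi.single o 1), hmemN j _⟩, fun j => rfl⟩
    have hone : contractLeft R N (∑ i, ∑ j, G i j • (fd i ⊗ₜ[R] vd j)) = 1 := by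
      rw [map_sum]
      have h1 : ∀ i, contractLeft R N (∑ j, G i j • (fd i ⊗ₜ[R] vd j)) =
          ∑ j, G i j * (F i j) o o := by
        intro i
        rw [map_sum]
        refine Finset.sum_congr rfl fun j _ => ?_
        rw [map_smul, contractLeft_apply, hfd, hvd, hFv, if_pos rfl, smul_eq_mul,
          Matrix.mulVec_single_one]
        rfl
      rw [Finset.sum_congr rfl fun i _ => h1 i]
      have h2 : (φ G) o o = ∑ i, ∑ j, G i j * (F i j) o o := by
        rw [hφF G, Matrix.sum_apply]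
        refine Finset.sum_congr rfl fun i _ => ?_
        rw [Matrix.sum_apply]
        refine Finset.sum_congr rfl fun j _ => ?_
        rw [Matrix.smul_apply, smul_eq_mul]
      rw [← h2, hG, Matrix.single_apply_same]
    intro c
    refine ⟨c • ∑ i, ∑ j, G i j • (fd i ⊗ₜ[R] vd j), ?_⟩
    rw [map_smul, hone, smul_eq_mul, mul_one]
  haveI hNinv : Module.Invertible R N := by
    refine ⟨Module.bijective_of_surjective_of_rankAtStalk_eq (M := Module.Dual R N ⊗[R] N) (N := R)
      (φ := contractLeft R N) hsurj fun m _ => ?_⟩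
    rw [Module.rankAtStalk_tensorProduct, Pi.mul_apply,
      rank_of_pow_equiv hn (Module.Dual R N) Ψ', rank_of_pow_equiv hn N Ψ,
      Module.rankAtStalk_self]
    rfl
  haveI hfree : Module.Free R N := H N ⟨Ψ⟩
  obtain ⟨e⟩ := Module.Invertible.free_iff_linearEquiv.mp hfree
  obtain ⟨v₀, hv₀⟩ : ∃ v₀ : N, v₀ = e.symm 1 := ⟨_, rfl⟩
  have hgen : ∀ x : N, x = e x • v₀ := by
    intro x
    rw [hv₀, ← map_smul, smul_eq_mul, mul_one, e.symm_apply_apply]
  obtain ⟨P, hP⟩ : ∃ P : Matrix (Fin n) (Fin n) R,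
      ∀ i j, P i j = (F j o *ᵥ ((v₀ : N) : Fin n → R)) i :=
    ⟨Matrix.of fun i j => (F j o *ᵥ ((v₀ : N) : Fin n → R)) i, fun i j => rfl⟩
  have hPc : ∀ c : Fin n → R, P *ᵥ c = ∑ j, c j • (F j o *ᵥ ((v₀ : N) : Fin n → R)) := by
    intro c
    funext i
    show ∑ j, P i j * c j = (∑ j, c j • (F j o *ᵥ ((v₀ : N) : Fin n → R))) i
    rw [Finset.sum_apply]
    refine Finset.sum_congr rfl fun j _ => ?_
    rw [hP, Pi.smul_apply, smul_eq_mul, mul_comm]
  have hPsurj : Function.Surjective P.mulVec := by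
    intro w
    refine ⟨fun j => e ⟨F o j *ᵥ w, hmemN j w⟩, ?_⟩
    rw [hPc]
    have h1 : ∀ j, (e ⟨F o j *ᵥ w, hmemN j w⟩) • (F j o *ᵥ ((v₀ : N) : Fin n → R)) =
        F j j *ᵥ w := by
      intro j
      rw [← Matrix.mulVec_smul]
      have h2 : (e ⟨F o j *ᵥ w, hmemN j w⟩) • ((v₀ : N) : Fin n → R) = F o j *ᵥ w := by
        have h3 := hgen ⟨F o j *ᵥ w, hmemN j w⟩
        exact (congrArg (fun x : N => (x : Fin n → R)) h3).symm
      rw [h2, hFv, if_pos rfl]
    rw [Finset.sum_congr rfl fun j _ => h1 j, hsumv]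
  have hcomm : ∀ A : Matrix (Fin n) (Fin n) R, φ A * P = P * A := by
    intro A
    ext i j
    have hcol : (fun k => P k j) = F j o *ᵥ ((v₀ : N) : Fin n → R) := by
      funext k; exact hP k j
    have hL : (φ A * P) i j = (φ A *ᵥ (F j o *ᵥ ((v₀ : N) : Fin n → R))) i := by
      rw [← hcol]; rfl
    rw [hL, hφF A, Matrix.sum_mulVec]
    have h1 : ∀ k, (∑ l, A k l • F k l) *ᵥ (F j o *ᵥ ((v₀ : N) : Fin n → R)) =
        A k j • (F k o *ᵥ ((v₀ : N) : Fin n → R)) := by
      intro k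
      rw [Matrix.sum_mulVec]
      have h2 : ∀ l, (A k l • F k l) *ᵥ (F j o *ᵥ ((v₀ : N) : Fin n → R)) =
          if l = j then A k j • (F k o *ᵥ ((v₀ : N) : Fin n → R)) else 0 := by
        intro l
        rw [Matrix.smul_mulVec, hFv]
        by_cases hlj : l = j
        · rw [if_pos hlj, if_pos hlj, hlj]
        · rw [if_neg hlj, if_neg hlj, smul_zero]
      rw [Finset.sum_congr rfl fun l _ => h2 l, Finset.sum_ite_eq' Finset.univ j,
        if_pos (Finset.mem_univ j)]
    rw [Finset.sum_congr rfl fun k _ => h1 k, Finset.sum_apply, Matrix.mul_apply]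
    refine Finset.sum_congr rfl fun k _ => ?_
    rw [Pi.smul_apply, smul_eq_mul, hP, mul_comm]
  have hPu : IsUnit P := Matrix.mulVec_surjective_iff_isUnit.mp hPsurj
  obtain ⟨u, hu⟩ : ∃ u : (Matrix (Fin n) (Fin n) R)ˣ, (u : Matrix (Fin n) (Fin n) R) = P :=
    ⟨hPu.unit, hPu.unit_spec⟩
  refine ⟨u, fun A => ?_⟩
  calc φ A = φ A * ((u : Matrix (Fin n) (Fin n) R) *
        ((u⁻¹ : (Matrix (Fin n) (Fin n) R)ˣ) : Matrix (Fin n) (Fin n) R)) := by
        rw [Units.mul_inv, mul_one]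
    _ = (φ A * P) * ((u⁻¹ : (Matrix (Fin n) (Fin n) R)ˣ) : Matrix (Fin n) (Fin n) R) := by
        rw [← mul_assoc, hu]
    _ = u.1 * A * (u⁻¹).1 := by rw [hcomm A, hu]

theorem free_of_inner (hn : 1 ≤ n)
    (H : ∀ φ : Matrix (Fin n) (Fin n) R ≃ₐ[R] Matrix (Fin n) (Fin n) R,
        ∃ P : GL (Fin n) R, ∀ A : Matrix (Fin n) (Fin n) R, φ A = P.1 * A * (P⁻¹).1)
    (N : Type u) [AddCommGroup N] [Module R N] [Module.Invertible R N]
    (θ : (Fin n → N) ≃ₗ[R] (Fin n → R)) : Module.Free R N := by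
  classical
  obtain ⟨o, ho⟩ : ∃ o : Fin n, o = ⟨0, hn⟩ := ⟨_, rfl⟩
  have hbij : Function.Bijective (Algebra.ofId R (Module.End R N)) := by
    have h1 := Module.Invertible.toModuleEnd_bijective R N
    have h2 : ⇑(Algebra.ofId R (Module.End R N)) = ⇑(Module.toModuleEnd R (S := R) N) := by
      funext r
      apply LinearMap.ext
      intro x
      exact (Module.algebraMap_end_apply R R N r x).trans rfl
    rw [h2]; exact h1
  obtain ⟨ρ, hρ⟩ : ∃ ρ : R ≃ₐ[R] Module.End R N, ∀ (r : R) (x : N), ρ r x = r • x :=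
    ⟨AlgEquiv.ofBijective (Algebra.ofId R (Module.End R N)) hbij,
      fun r x => Module.algebraMap_end_apply R R N r x⟩
  obtain ⟨Φ, hΦ⟩ : ∃ Φ : Matrix (Fin n) (Fin n) R ≃ₐ[R] Matrix (Fin n) (Fin n) R,
      ∀ A : Matrix (Fin n) (Fin n) R, Matrix.toLinAlgEquiv' (Φ A) =
        θ.toLinearMap ∘ₗ ((endVecAlgEquivMatrixEnd (Fin n) R R N).symm (A.map ρ)) ∘ₗ
          θ.symm.toLinearMap := by
    refine ⟨(AlgEquiv.mapMatrix ρ).trans ((endVecAlgEquivMatrixEnd (Fin n) R R N).symm.trans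
      ((θ.conjAlgEquiv R).trans LinearMap.toMatrixAlgEquiv')), fun A => ?_⟩
    show Matrix.toLinAlgEquiv' (LinearMap.toMatrixAlgEquiv' (θ.conjAlgEquiv R
      ((endVecAlgEquivMatrixEnd (Fin n) R R N).symm (AlgEquiv.mapMatrix ρ A)))) = _
    rw [Matrix.toLinAlgEquiv'_toMatrixAlgEquiv']
    rfl
  have hT : ∀ (A : Matrix (Fin n) (Fin n) R) (x : Fin n → N) (i : Fin n),
      ((endVecAlgEquivMatrixEnd (Fin n) R R N).symm (A.map ρ)) x i = ∑ j, A i j • x j := by
    intro A x i
    show ∑ j, (A.map ρ) i j (x j) = ∑ j, A i j • x j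
    refine Finset.sum_congr rfl fun j _ => ?_
    rw [Matrix.map_apply, hρ]
  obtain ⟨P, hP⟩ := H Φ
  obtain ⟨p, hp⟩ : ∃ p : Module.End R (Fin n → R), p = Matrix.toLinAlgEquiv' (P.1) :=
    ⟨_, rfl⟩
  obtain ⟨p', hp'⟩ : ∃ p' : Module.End R (Fin n → R), p' = Matrix.toLinAlgEquiv' ((P⁻¹).1) :=
    ⟨_, rfl⟩
  have hpp' : ∀ w, p (p' w) = w := by
    intro w
    rw [hp, hp', ← Module.End.mul_apply, ← map_mul, Units.mul_inv, map_one]
    rfl
  have hp'p : ∀ w, p' (p w) = w := by
    intro w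
    rw [hp, hp', ← Module.End.mul_apply, ← map_mul, Units.inv_mul, map_one]
    rfl
  have hE : ∀ w : Fin n → R, Matrix.single o o (1 : R) *ᵥ w = Pi.single o (w o) := by
    intro w
    rw [Matrix.single_mulVec, one_mul]
    rfl
  have hTE : ∀ x : Fin n → N, ((endVecAlgEquivMatrixEnd (Fin n) R R N).symm
      ((Matrix.single o o (1 : R)).map ρ)) x = Pi.single o (x o) := by
    intro x
    funext i
    rw [hT]
    by_cases hi : i = o
    · rw [hi, Pi.single_eq_same, Finset.sum_eq_single o]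
      · rw [Matrix.single_apply_same, one_smul]
      · intro j _ hj
        rw [Matrix.single_apply_of_ne, zero_smul]
        exact fun h => hj h.2.symm
      · intro h; exact absurd (Finset.mem_univ o) h
    · rw [Pi.single_eq_of_ne hi]
      refine Finset.sum_eq_zero fun j _ => ?_
      rw [Matrix.single_apply_of_ne, zero_smul]
      exact fun h => hi h.1.symm
  have hkey : ∀ w : Fin n → R, θ (((endVecAlgEquivMatrixEnd (Fin n) R R N).symm
      ((Matrix.single o o (1 : R)).map ρ)) (θ.symm w)) =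
      p (Matrix.single o o (1 : R) *ᵥ (p' w)) := by
    intro w
    have h1 := hΦ (Matrix.single o o 1)
    rw [hP (Matrix.single o o 1), map_mul, map_mul] at h1
    have h2 := LinearMap.congr_fun h1 w
    rw [hp, hp']
    exact h2.symm
  obtain ⟨α, hα⟩ : ∃ α : N →ₗ[R] R, ∀ x, α x = p' (θ (Pi.single o x)) o :=
    ⟨(LinearMap.proj o) ∘ₗ p' ∘ₗ θ.toLinearMap ∘ₗ (LinearMap.single R (fun _ : Fin n => N) o),
      fun x => rfl⟩
  obtain ⟨β, hβ⟩ : ∃ β : R →ₗ[R] N, ∀ c, β c = θ.symm (p (Pi.single o c)) o :=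
    ⟨(LinearMap.proj o) ∘ₗ θ.symm.toLinearMap ∘ₗ p ∘ₗ
      (LinearMap.single R (fun _ : Fin n => R) o), fun c => rfl⟩
  have hy : ∀ x : N, p' (θ (Pi.single o x)) = Pi.single o (α x) := by
    intro x
    have h1 := hkey (θ (Pi.single o x))
    rw [θ.symm_apply_apply, hTE, Pi.single_eq_same] at h1
    have h2 : p' (θ (Pi.single o x)) =
        Matrix.single o o (1 : R) *ᵥ p' (θ (Pi.single o x)) := by
      conv_lhs => rw [h1]
      rw [hp'p]
    rw [hα, ← hE]
    exact h2
  have hz : ∀ c : R, θ.symm (p (Pi.single o c)) = Pi.single o (β c) := by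
    intro c
    have h1 := hkey (p (Pi.single o c))
    rw [hp'p, hE, Pi.single_eq_same, hTE] at h1
    have h2 := congrArg θ.symm h1
    rw [θ.symm_apply_apply] at h2
    rw [hβ]
    exact h2.symm
  have hβα : ∀ x, β (α x) = x := by
    intro x
    rw [hβ, ← hy x, hpp', θ.symm_apply_apply, Pi.single_eq_same]
  have hαβ : ∀ c, α (β c) = c := by
    intro c
    rw [hα, ← hz c, θ.apply_symm_apply, hp'p, Pi.single_eq_same]
  exact Module.Free.of_equiv (LinearEquiv.ofLinearMap β α (LinearMap.ext hβα)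
    (LinearMap.ext hαβ))

end Main



/-- Let R be a commutative ring and n ≥ 1. The natural map from GL_n(R) to the R-algebra automorphisms
of M_n(R) is surjective (every automorphism is inner) if and only if Pic_(n)(R) = 0, i.e. every
invertible R-module N with N^n ≅ R^n is free. (For n = 0 the left side holds trivially while the
right side fails whenever Pic(R) ≠ 0, so this row assumes n ≥ 1, which the published statement
leaves implicit; invertible modules are quantified in the universe of R, which loses nothing since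
every invertible module is finitely generated.) -/
theorem result {R : Type u} [CommRing R] (n : ℕ)
    (hn : 1 ≤ n) :
    (∀ φ : Matrix (Fin n) (Fin n) R ≃ₐ[R] Matrix (Fin n) (Fin n) R,
        ∃ P : GL (Fin n) R, ∀ A : Matrix (Fin n) (Fin n) R, φ A = P.1 * A * (P⁻¹).1) ↔
      (∀ (N : Type u) [AddCommGroup N] [Module R N] [Module.Invertible R N],
        Nonempty ((Fin n → N) ≃ₗ[R] (Fin n → R)) → Module.Free R N) := by
  constructor
  · intro H N _ _ _ hN
    obtain ⟨θ⟩ := hN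
    exact free_of_inner hn H N θ
  · intro H φ
    exact inner_of_free hn φ H


end Groth.Agent.S16199
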