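import Groth.Statements.S13797
import Mathlib
import Groth.Agent.S16199

set_option autoImplicit false
universe u
open scoped TensorProduct
open Brauer

namespace Groth.Agent.S13797

open Matrix

section MatUnits

variable {A : Type u} [CommRing A] {n : ℕ}
  (α : Matrix (Fin n) (Fin n) A ≃ₐ[A] Matrix (Fin n) (Fin n) A)

/-- images of the matrix units -/
noncomputable def Fm (i j : Fin n) : Matrix (Fin n) (Fin n) A := α (Matrix.single i j 1)

theorem Fm_mul (i j k l : Fin n) : Fm α i j * Fm α k l = if j = k then Fm α i l else 0 := by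
  unfold Fm
  rw [← map_mul]
  by_cases hjk : j = k
  · rw [if_pos hjk, hjk, Matrix.single_mul_single_same, mul_one]
  · rw [if_neg hjk, Matrix.single_mul_single_of_ne _ _ _ _ hjk _, map_zero]

theorem Fm_sum : ∑ i, Fm α i i = 1 := by
  have h1 : ∑ i, Fm α i i = α (∑ i, Matrix.single i i 1) := by
    rw [map_sum]; rfl
  rw [h1, Matrix.sum_single_one, map_one]

theorem alpha_eq_sum (M : Matrix (Fin n) (Fin n) A) : α M = ∑ k, ∑ l, M k l • Fm α k l := by
  refine (congrArg α (Matrix.matrix_eq_sum_single M)).trans ?_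
  rw [map_sum]
  refine Finset.sum_congr rfl fun k _ => ?_
  rw [map_sum]
  refine Finset.sum_congr rfl fun l _ => ?_
  unfold Fm
  rw [← map_smul, Matrix.smul_single, smul_eq_mul, mul_one]

theorem Fm_mulVec (i j k l : Fin n) (v : Fin n → A) :
    Fm α i j *ᵥ (Fm α k l *ᵥ v) = if j = k then Fm α i l *ᵥ v else 0 := by
  rw [Matrix.mulVec_mulVec, Fm_mul]
  by_cases hjk : j = k
  · rw [if_pos hjk, if_pos hjk]
  · rw [if_neg hjk, if_neg hjk, Matrix.zero_mulVec]

theorem sum_Fm_mulVec (v : Fin n → A) : ∑ i, Fm α i i *ᵥ v = v := by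
  rw [← Matrix.sum_mulVec, Fm_sum, Matrix.one_mulVec]

variable (o : Fin n)

/-- the rank one summand -/
noncomputable def N0 : Submodule A (Fin n → A) := LinearMap.range (Matrix.mulVecLin (Fm α o o))

theorem mem_N0 (j : Fin n) (w : Fin n → A) : Fm α o j *ᵥ w ∈ N0 α o := by
  refine ⟨Fm α o j *ᵥ w, ?_⟩
  rw [Matrix.mulVecLin_apply, Fm_mulVec, if_pos rfl]

theorem N0_fix (v : Fin n → A) (hv : v ∈ N0 α o) : Fm α o o *ᵥ v = v := by
  obtain ⟨w, rfl⟩ := hv
  rw [Matrix.mulVecLin_apply, Fm_mulVec, if_pos rfl]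

theorem exists_Psi : Nonempty ((Fin n → N0 α o) ≃ₗ[A] (Fin n → A)) := by
  classical
  obtain ⟨f, hf⟩ : ∃ f : (Fin n → N0 α o) →ₗ[A] (Fin n → A),
      ∀ x, f x = ∑ i, Fm α i o *ᵥ ((x i : N0 α o) : Fin n → A) :=
    ⟨∑ i, (Matrix.mulVecLin (Fm α i o)) ∘ₗ (N0 α o).subtype ∘ₗ (LinearMap.proj i), fun x => by
      rw [LinearMap.sum_apply]; rfl⟩
  obtain ⟨g, hg⟩ : ∃ g : (Fin n → A) →ₗ[A] (Fin n → N0 α o),
      ∀ w i, ((g w i : N0 α o) : Fin n → A) = Fm α o i *ᵥ w :=
    ⟨LinearMap.pi fun i => LinearMap.codRestrict (N0 α o) (Matrix.mulVecLin (Fm α o i))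
      (fun w => mem_N0 α o i w), fun w i => rfl⟩
  have hfg : ∀ w, f (g w) = w := by
    intro w
    rw [hf]
    have h1 : ∀ i, Fm α i o *ᵥ ((g w i : N0 α o) : Fin n → A) = Fm α i i *ᵥ w := by
      intro i
      rw [hg, Fm_mulVec, if_pos rfl]
    rw [Finset.sum_congr rfl fun i _ => h1 i, sum_Fm_mulVec]
  have hgf : ∀ x, g (f x) = x := by
    intro x
    funext i
    apply Subtype.ext
    rw [hg, hf, Matrix.mulVec_sum]
    have h1 : ∀ j, Fm α o i *ᵥ (Fm α j o *ᵥ ((x j : N0 α o) : Fin n → A)) =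
        if i = j then ((x j : N0 α o) : Fin n → A) else 0 := by
      intro j
      rw [Fm_mulVec]
      by_cases hij : i = j
      · rw [if_pos hij, if_pos hij, N0_fix α o _ (x j).2]
      · rw [if_neg hij, if_neg hij]
    rw [Finset.sum_congr rfl fun j _ => h1 j, Finset.sum_ite_eq Finset.univ i,
      if_pos (Finset.mem_univ i)]
  exact ⟨{ f with invFun := g, left_inv := hgf, right_inv := hfg }⟩

theorem N0_invertible [Nontrivial A] (hn : 1 ≤ n) : Module.Invertible A (N0 α o) := by
  classical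
  obtain ⟨Ψ⟩ := exists_Psi α o
  haveI hNfin : Module.Finite A (N0 α o) := Groth.Agent.S16199.finite_of_pow_equiv hn _ Ψ
  haveI hNproj : Module.Projective A (N0 α o) :=
    Groth.Agent.S16199.projective_of_pow_equiv hn _ Ψ
  obtain ⟨Ψ', -⟩ : ∃ Ψ' : (Fin n → Module.Dual A (N0 α o)) ≃ₗ[A] (Fin n → A), True :=
    ⟨(LinearMap.lsum A (fun _ : Fin n => N0 α o) A).trans
      (Ψ.symm.dualMap.trans (Pi.basisFun A (Fin n)).toDualEquiv.symm), trivial⟩
  have hsurj : Function.Surjective (contractLeft A (N0 α o)) := by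
    obtain ⟨G, hG⟩ := α.surjective (Matrix.single o o 1)
    obtain ⟨fd, hfd⟩ : ∃ fd : Fin n → Module.Dual A (N0 α o),
        ∀ i (v : N0 α o), fd i v = (Fm α i o *ᵥ (v : Fin n → A)) o :=
      ⟨fun i => (LinearMap.proj o) ∘ₗ (Matrix.mulVecLin (Fm α i o)) ∘ₗ (N0 α o).subtype,
        fun i v => rfl⟩
    obtain ⟨vd, hvd⟩ : ∃ vd : Fin n → N0 α o,
        ∀ j, ((vd j : N0 α o) : Fin n → A) = Fm α o j *ᵥ (Pi.single o 1) :=
      ⟨fun j => ⟨Fm α o j *ᵥ (Pi.single o 1), mem_N0 α o j _⟩, fun j => rfl⟩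
    have hone : contractLeft A (N0 α o) (∑ i, ∑ j, G i j • (fd i ⊗ₜ[A] vd j)) = 1 := by
      rw [map_sum]
      have h1 : ∀ i, contractLeft A (N0 α o) (∑ j, G i j • (fd i ⊗ₜ[A] vd j)) =
          ∑ j, G i j * (Fm α i j) o o := by
        intro i
        rw [map_sum]
        refine Finset.sum_congr rfl fun j _ => ?_
        rw [map_smul, contractLeft_apply, hfd, hvd, Fm_mulVec, if_pos rfl, smul_eq_mul,
          Matrix.mulVec_single_one]
        rfl
      rw [Finset.sum_congr rfl fun i _ => h1 i]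
      have h2 : (α G) o o = ∑ i, ∑ j, G i j * (Fm α i j) o o := by
        rw [alpha_eq_sum α G, Matrix.sum_apply]
        refine Finset.sum_congr rfl fun i _ => ?_
        rw [Matrix.sum_apply]
        refine Finset.sum_congr rfl fun j _ => ?_
        rw [Matrix.smul_apply, smul_eq_mul]
      rw [← h2, hG, Matrix.single_apply_same]
    intro c
    refine ⟨c • ∑ i, ∑ j, G i j • (fd i ⊗ₜ[A] vd j), ?_⟩
    rw [map_smul, hone, smul_eq_mul, mul_one]
  refine ⟨Module.bijective_of_surjective_of_rankAtStalk_eq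
    (M := Module.Dual A (N0 α o) ⊗[A] (N0 α o)) (N := A)
    (φ := contractLeft A (N0 α o)) hsurj fun m _ => ?_⟩
  rw [Module.rankAtStalk_tensorProduct, Pi.mul_apply,
    Groth.Agent.S16199.rank_of_pow_equiv hn (Module.Dual A (N0 α o)) Ψ',
    Groth.Agent.S16199.rank_of_pow_equiv hn (N0 α o) Ψ, Module.rankAtStalk_self]
  rfl

/-- the module of liftings -/
abbrev Lk : Submodule A (Matrix (Fin n) (Fin n) A) :=
  LinearMap.ker (LinearMap.mul A (Matrix (Fin n) (Fin n) A) -
    (LinearMap.lcomp A (Matrix (Fin n) (Fin n) A) α.toLinearMap).comp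
      (LinearMap.mul A (Matrix (Fin n) (Fin n) A)).flip)

theorem mem_Lk (M : Matrix (Fin n) (Fin n) A) : M ∈ Lk α ↔ ∀ N, M * N = α N * M := by
  rw [LinearMap.mem_ker]
  constructor
  · intro h N
    have h1 := LinearMap.congr_fun h N
    rw [LinearMap.sub_apply, LinearMap.sub_apply] at h1
    exact sub_eq_zero.mp h1
  · intro h
    apply LinearMap.ext
    intro N
    rw [LinearMap.sub_apply, LinearMap.sub_apply, LinearMap.zero_apply, sub_eq_zero]
    exact h N

/-- the matrix with columns `F j o v` -/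
noncomputable def Mv (v : Fin n → A) : Matrix (Fin n) (Fin n) A :=
  Matrix.of fun a j => (Fm α j o *ᵥ v) a

theorem Mv_apply (v : Fin n → A) (a j : Fin n) : Mv α o v a j = (Fm α j o *ᵥ v) a := rfl

theorem Mv_mem (v : Fin n → A) : Mv α o v ∈ Lk α := by
  classical
  rw [mem_Lk]
  intro M
  symm
  ext i j
  have hL : (α M * Mv α o v) i j = (α M *ᵥ (Fm α j o *ᵥ v)) i := rfl
  rw [hL, alpha_eq_sum α M, Matrix.sum_mulVec]
  have h1 : ∀ k, (∑ l, M k l • Fm α k l) *ᵥ (Fm α j o *ᵥ v) = M k j • (Fm α k o *ᵥ v) := by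
    intro k
    rw [Matrix.sum_mulVec]
    have h2 : ∀ l, (M k l • Fm α k l) *ᵥ (Fm α j o *ᵥ v) =
        if l = j then M k j • (Fm α k o *ᵥ v) else 0 := by
      intro l
      rw [Matrix.smul_mulVec, Fm_mulVec]
      by_cases hlj : l = j
      · rw [if_pos hlj, if_pos hlj, hlj]
      · rw [if_neg hlj, if_neg hlj, smul_zero]
    rw [Finset.sum_congr rfl fun l _ => h2 l, Finset.sum_ite_eq' Finset.univ j,
      if_pos (Finset.mem_univ j)]
  rw [Finset.sum_congr rfl fun k _ => h1 k, Finset.sum_apply, Matrix.mul_apply]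
  refine Finset.sum_congr rfl fun k _ => ?_
  rw [Pi.smul_apply, smul_eq_mul, Mv_apply, mul_comm]

theorem col_of_mem_Lk (M : Matrix (Fin n) (Fin n) A) (hM : M ∈ Lk α) (j : Fin n) :
    (fun a => M a j) = Fm α j o *ᵥ (fun a => M a o) := by
  classical
  funext a
  have h1 := (mem_Lk α M).mp hM (Matrix.single j o 1)
  have h2 := congr_fun (congr_fun h1 a) o
  rw [Matrix.mul_single_apply_same, mul_one] at h2
  rw [h2]
  rfl

theorem col_o_mem (M : Matrix (Fin n) (Fin n) A) (hM : M ∈ Lk α) :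
    (fun a => M a o) ∈ N0 α o := by
  refine ⟨fun a => M a o, ?_⟩
  rw [Matrix.mulVecLin_apply]
  exact (col_of_mem_Lk α o M hM o).symm

theorem exists_iota : Nonempty (N0 α o ≃ₗ[A] Lk α) := by
  classical
  refine ⟨{ toFun := fun v => ⟨Mv α o (v : Fin n → A), Mv_mem α o _⟩
            map_add' := ?_
            map_smul' := ?_
            invFun := fun M => ⟨fun a => (M : Matrix (Fin n) (Fin n) A) a o,
              col_o_mem α o M M.2⟩
            left_inv := ?_
            right_inv := ?_ }⟩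
  · intro v w
    apply Subtype.ext
    ext a j
    show (Fm α j o *ᵥ ((v : Fin n → A) + (w : Fin n → A))) a =
      (Fm α j o *ᵥ (v : Fin n → A)) a + (Fm α j o *ᵥ (w : Fin n → A)) a
    rw [Matrix.mulVec_add, Pi.add_apply]
  · intro c v
    apply Subtype.ext
    ext a j
    show (Fm α j o *ᵥ (c • (v : Fin n → A))) a = c • (Fm α j o *ᵥ (v : Fin n → A)) a
    rw [Matrix.mulVec_smul, Pi.smul_apply]
  · intro v
    apply Subtype.ext
    show (fun a => (Fm α o o *ᵥ (v : Fin n → A)) a) = (v : Fin n → A)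
    exact N0_fix α o _ v.2
  · intro M
    apply Subtype.ext
    ext a j
    show (Fm α j o *ᵥ (fun a => (M : Matrix (Fin n) (Fin n) A) a o)) a =
      (M : Matrix (Fin n) (Fin n) A) a j
    exact (congr_fun (col_of_mem_Lk α o M M.2 j) a).symm

end MatUnits

section TP

variable {A : Type u} [CommRing A]

theorem tensorPower_invertible (L : Type u) [AddCommGroup L] [Module A L]
    [Module.Invertible A L] : ∀ m : ℕ, Module.Invertible A (⨂[A] _ : Fin m, L)
  | 0 => Module.Invertible.congr (TensorPower.algebraMap₀ (R := A) (M := L))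
  | m + 1 => by
    haveI := tensorPower_invertible L m
    haveI : Module.Invertible A (⨂[A] _ : Fin 1, L) :=
      Module.Invertible.congr
        (PiTensorProduct.subsingletonEquiv (0 : Fin 1) : (⨂[A] _ : Fin 1, L) ≃ₗ[A] L).symm
    exact Module.Invertible.congr (TensorPower.mulEquiv (R := A) (M := L) (n := m) (m := 1))

end TP

section Dpart

variable {A : Type u} [CommRing A] {n : ℕ}
  (α : Matrix (Fin n) (Fin n) A ≃ₐ[A] Matrix (Fin n) (Fin n) A)

noncomputable def colMap (j : Fin n) : Matrix (Fin n) (Fin n) A →ₗ[A] (Fin n → A) :=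
  LinearMap.pi fun i => Matrix.entryLinearMap A A i j

noncomputable def Dmul : MultilinearMap A (fun _ : Fin n => Lk α) A :=
  (Matrix.detRowAlternating (R := A) (n := Fin n)).toMultilinearMap.compLinearMap
    (fun j => (colMap j) ∘ₗ (Lk α).subtype)

theorem Dmul_apply (Ms : Fin n → Lk α) :
    Dmul α Ms = Matrix.detRowAlternating
      (fun j => fun i => ((Ms j : Lk α) : Matrix (Fin n) (Fin n) A) i j) := rfl

theorem detRow_eq_zero_of_missing (hn : 1 ≤ n) (i₀ : Fin n) (r : Fin n → Fin n → A)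
    (hr : ∀ k, Fm α i₀ i₀ *ᵥ r k = 0) : Matrix.detRowAlternating r = 0 := by
  classical
  obtain ⟨C, hC⟩ : ∃ C : Matrix (Fin n) (Fin n) A, ∀ a k, C a k = r k a :=
    ⟨Matrix.of fun a k => r k a, fun a k => rfl⟩
  have hdet : Matrix.detRowAlternating r = C.det := by
    have h1 : C = (Matrix.of r)ᵀ := by
      ext a k
      rw [hC]; rfl
    rw [h1, Matrix.det_transpose]
    rfl
  have hFC : Fm α i₀ i₀ * C = 0 := by
    ext a k
    have h1 := congr_fun (hr k) a
    show ∑ b, Fm α i₀ i₀ a b * C b k = 0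
    rw [Finset.sum_congr rfl fun b _ => by rw [hC b k]]
    exact h1
  have h2 : C.det • Fm α i₀ i₀ = 0 := by
    have h3 : Fm α i₀ i₀ * (C * C.adjugate) = (Fm α i₀ i₀ * C) * C.adjugate :=
      (mul_assoc _ _ _).symm
    rw [Matrix.mul_adjugate, hFC, zero_mul, Matrix.mul_smul, mul_one] at h3
    exact h3
  have h4 : ∀ i, C.det • Fm α i i = 0 := by
    intro i
    have h5 : Fm α i i = Fm α i i₀ * Fm α i₀ i₀ * Fm α i₀ i := by
      rw [Fm_mul, if_pos rfl, Fm_mul, if_pos rfl]
    rw [h5, ← Matrix.smul_mul, ← Matrix.mul_smul, h2, mul_zero, zero_mul]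
  have h6 : C.det • (1 : Matrix (Fin n) (Fin n) A) = 0 := by
    rw [← Fm_sum α, Finset.smul_sum]
    exact Finset.sum_eq_zero fun i _ => h4 i
  have h7 := congr_fun (congr_fun h6 ⟨0, hn⟩) ⟨0, hn⟩
  rw [Matrix.smul_apply, Matrix.one_apply_eq, smul_eq_mul, mul_one, Matrix.zero_apply] at h7
  rw [hdet]; exact h7

theorem one_mem_range (hn : 1 ≤ n) :
    (1 : A) ∈ LinearMap.range (PiTensorProduct.lift (Dmul α)) := by
  classical
  obtain ⟨o, -⟩ : ∃ o : Fin n, o = ⟨0, hn⟩ := ⟨_, rfl⟩
  have h1 : (1 : A) = (Matrix.detRowAlternating (R := A) (n := Fin n)).toMultilinearMap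
      (fun k : Fin n => ∑ i, Fm α i i *ᵥ (Pi.single k (1 : A))) := by
    have h2 : (fun k : Fin n => ∑ i, Fm α i i *ᵥ (Pi.single k (1 : A))) =
        (1 : Matrix (Fin n) (Fin n) A) := by
      funext k
      rw [sum_Fm_mulVec]
      funext j
      rw [Matrix.one_apply, Pi.single_apply]
      by_cases h : k = j
      · rw [if_pos h, if_pos h.symm]
      · rw [if_neg h, if_neg (fun h' => h h'.symm)]
    rw [h2]
    exact (Matrix.det_one).symm
  rw [h1, MultilinearMap.map_sum]
  refine Submodule.sum_mem _ fun σ _ => ?_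
  show Matrix.detRowAlternating (fun k => Fm α (σ k) (σ k) *ᵥ (Pi.single k (1 : A))) ∈ _
  by_cases hσ : Function.Bijective σ
  · obtain ⟨τ, hτ⟩ : ∃ τ : Equiv.Perm (Fin n), ∀ k, τ k = σ k :=
      ⟨Equiv.ofBijective σ hσ, fun k => rfl⟩
    have h4 : (fun k => Fm α (σ k) (σ k) *ᵥ (Pi.single k (1 : A))) =
        (fun j => Fm α j j *ᵥ (Pi.single (τ.symm j) (1 : A))) ∘ τ := by
      funext k
      show _ = Fm α (τ k) (τ k) *ᵥ Pi.single (τ.symm (τ k)) 1
      rw [τ.symm_apply_apply, hτ]
    rw [h4, AlternatingMap.map_perm]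
    have h5 : Matrix.detRowAlternating
        (fun j => Fm α j j *ᵥ (Pi.single (τ.symm j) (1 : A))) ∈
        LinearMap.range (PiTensorProduct.lift (Dmul α)) := by
      refine ⟨PiTensorProduct.tprod A (fun j =>
        (⟨Mv α o (Fm α o j *ᵥ Pi.single (τ.symm j) 1), Mv_mem α o _⟩ : Lk α)), ?_⟩
      rw [PiTensorProduct.lift.tprod, Dmul_apply]
      refine congrArg _ ?_
      funext j
      funext i
      show (Fm α j o *ᵥ (Fm α o j *ᵥ Pi.single (τ.symm j) 1)) i = _
      rw [Fm_mulVec, if_pos rfl]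
    rcases Int.units_eq_one_or (Equiv.Perm.sign τ) with hs | hs
    · rw [hs, one_smul]; exact h5
    · rw [hs, Units.neg_smul, one_smul]; exact Submodule.neg_mem _ h5
  · have hns : ¬ Function.Surjective σ :=
      fun hs => hσ ⟨Finite.injective_iff_surjective.mpr hs, hs⟩
    obtain ⟨i₀, hi₀⟩ : ∃ i₀, ∀ k, σ k ≠ i₀ := by
      by_contra hcon
      apply hns
      intro i₀
      by_contra h2
      exact hcon ⟨i₀, fun k hk => h2 ⟨k, hk⟩⟩
    have h6 : Matrix.detRowAlternating
        (fun k => Fm α (σ k) (σ k) *ᵥ (Pi.single k (1 : A))) = 0 :=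
      detRow_eq_zero_of_missing α hn i₀ _
        (fun k => by rw [Fm_mulVec, if_neg (hi₀ k).symm])
    rw [h6]; exact Submodule.zero_mem _

theorem tensorPower_equiv [Module.Invertible A (Lk α)] (hn : 1 ≤ n) :
    Nonempty ((⨂[A] _ : Fin n, Lk α) ≃ₗ[A] A) := by
  haveI : Module.Invertible A (⨂[A] _ : Fin n, Lk α) := tensorPower_invertible _ n
  have hsurj : Function.Surjective (PiTensorProduct.lift (Dmul α)) := by
    intro c
    obtain ⟨x, hx⟩ := one_mem_range α hn
    exact ⟨c • x, by rw [map_smul, hx, smul_eq_mul, mul_one]⟩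
  exact ⟨LinearEquiv.ofBijective _ (Module.Invertible.bijective_of_surjective hsurj)⟩

end Dpart



/-- In the case of an affine scheme — let A be a commutative ring, n ≥ 1 and α an A-algebra automorphism
of the n × n matrix algebra over A. The A-module L of matrices M with M N = α(N) M for every matrix
N (the module of sections of the line bundle attached to the torsor of liftings of α to GL_n) is
invertible, and its class in the Picard group of A is n-torsion: the n-fold tensor power of L is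
isomorphic to A (existence of an isomorphism only). (The published statement is for an automorphism
of End(O^n) on any locally ringed site, in the form: the sheaf of liftings is a 𝔾_m-torsor whose
class in Pic is n-torsion; this row is the affine case.) -/
theorem result (A : Type u) [CommRing A] (n : ℕ) (hn : 0 < n)
    (α : Matrix (Fin n) (Fin n) A ≃ₐ[A] Matrix (Fin n) (Fin n) A) :
    Module.Invertible A
        (LinearMap.ker (LinearMap.mul A (Matrix (Fin n) (Fin n) A) -
          (LinearMap.lcomp A (Matrix (Fin n) (Fin n) A) α.toLinearMap).comp (LinearMap.mul A (Matrix (Fin n) (Fin n) A)).flip)) ∧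
      Nonempty ((⨂[A] _ : Fin n,
          LinearMap.ker (LinearMap.mul A (Matrix (Fin n) (Fin n) A) -
            (LinearMap.lcomp A (Matrix (Fin n) (Fin n) A) α.toLinearMap).comp (LinearMap.mul A (Matrix (Fin n) (Fin n) A)).flip)) ≃ₗ[A] A) := by
  have hn1 : 1 ≤ n := hn
  rcases subsingleton_or_nontrivial A with hA | hA
  · haveI : Subsingleton (LinearMap.ker (LinearMap.mul A (Matrix (Fin n) (Fin n) A) -
        (LinearMap.lcomp A (Matrix (Fin n) (Fin n) A) α.toLinearMap).comp
          (LinearMap.mul A (Matrix (Fin n) (Fin n) A)).flip)) := Module.subsingleton A _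
    haveI : Subsingleton (⨂[A] _ : Fin n,
        LinearMap.ker (LinearMap.mul A (Matrix (Fin n) (Fin n) A) -
          (LinearMap.lcomp A (Matrix (Fin n) (Fin n) A) α.toLinearMap).comp
            (LinearMap.mul A (Matrix (Fin n) (Fin n) A)).flip)) := Module.subsingleton A _
    haveI : Subsingleton (Module.Dual A (LinearMap.ker (LinearMap.mul A (Matrix (Fin n) (Fin n) A) -
        (LinearMap.lcomp A (Matrix (Fin n) (Fin n) A) α.toLinearMap).comp
          (LinearMap.mul A (Matrix (Fin n) (Fin n) A)).flip)) ⊗[A]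
        (LinearMap.ker (LinearMap.mul A (Matrix (Fin n) (Fin n) A) -
        (LinearMap.lcomp A (Matrix (Fin n) (Fin n) A) α.toLinearMap).comp
          (LinearMap.mul A (Matrix (Fin n) (Fin n) A)).flip))) := Module.subsingleton A _
    exact ⟨⟨⟨fun x y _ => Subsingleton.elim x y, fun y => ⟨0, Subsingleton.elim _ _⟩⟩⟩,
      ⟨LinearEquiv.ofSubsingleton _ _⟩⟩
  · obtain ⟨ι⟩ := exists_iota α (⟨0, hn1⟩ : Fin n)
    haveI := N0_invertible α (⟨0, hn1⟩ : Fin n) hn1
    haveI hL : Module.Invertible A (Lk α) := Module.Invertible.congr ι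
    exact ⟨hL, tensorPower_equiv α hn1⟩


end Groth.Agent.S13797
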