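import Groth.Statements.S13801
-- import your own Groth.Agent.* helpers here

set_option autoImplicit false
open ChowMon

namespace Groth.Agent.S13801

/-- For a prime p and positive natural numbers a_1, ..., a_k with sum n one has v_p(a_1!) + ... +
v_p(a_k!) ≤ v_p(n!), and the inequality is strict whenever some a_i is not divisible by p^(v_p(n)). -/
theorem result {k : ℕ} (p : ℕ) [Fact p.Prime]
    (a : Fin k → ℕ) (ha : ∀ i, 0 < a i) :
    (∑ i, padicValNat p (a i).factorial ≤ padicValNat p (∑ i, a i).factorial) ∧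
      ((∃ i, ¬ p ^ padicValNat p (∑ j, a j) ∣ a i) →
        ∑ i, padicValNat p (a i).factorial < padicValNat p (∑ i, a i).factorial) := by
  classical
  set n := ∑ i, a i with hn
  obtain ⟨b, hb⟩ : ∃ b, Nat.log p n < b := ⟨_, Nat.lt_succ_self _⟩
  have hp := (Fact.out : p.Prime)
  have hle : ∀ i, a i ≤ n := fun i =>
    Finset.single_le_sum (f := a) (fun _ _ => Nat.zero_le _) (Finset.mem_univ i)
  have hlog : ∀ i, Nat.log p (a i) < b := fun i =>
    lt_of_le_of_lt (Nat.log_mono_right (hle i)) hb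
  have hL : padicValNat p n.factorial = ∑ j ∈ Finset.Ico 1 b, n / p ^ j :=
    padicValNat_factorial hb
  have hLi : ∀ i, padicValNat p (a i).factorial = ∑ j ∈ Finset.Ico 1 b, a i / p ^ j := fun i =>
    padicValNat_factorial (hlog i)
  have hsum : ∑ i, padicValNat p (a i).factorial = ∑ j ∈ Finset.Ico 1 b, ∑ i, a i / p ^ j := by
    simp_rw [hLi]; exact Finset.sum_comm
  -- key inequality: sum of floors ≤ floor of sum
  have hdivgen : ∀ (c : ℕ) (s : Finset (Fin k)), ∑ i ∈ s, a i / c ≤ (∑ i ∈ s, a i) / c := by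
    intro c s
    induction s using Finset.induction_on with
    | empty => simp
    | insert x s hx ih =>
      rw [Finset.sum_insert hx, Finset.sum_insert hx]
      exact (Nat.add_le_add_left ih _).trans Nat.div_add_div_le_add_div
  have hdiv : ∀ j, ∑ i, a i / p ^ j ≤ n / p ^ j := fun j => hdivgen _ _
  constructor
  · rw [hsum, hL]
    exact Finset.sum_le_sum fun j _ => hdiv j
  · rintro ⟨i₀, hi₀⟩
    rw [hsum, hL]
    set v := padicValNat p n with hv
    have hnpos : 0 < n := lt_of_lt_of_le (ha i₀) (hle i₀)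
    have hv1 : 1 ≤ v := by
      by_contra h
      have : v = 0 := by omega
      rw [this, pow_zero] at hi₀
      exact hi₀ (one_dvd _)
    have hvb : v < b := lt_of_le_of_lt (padicValNat_le_nat_log n) hb
    have hvmem : v ∈ Finset.Ico 1 b := Finset.mem_Ico.mpr ⟨hv1, hvb⟩
    refine Finset.sum_lt_sum (fun j _ => hdiv j) ⟨v, hvmem, ?_⟩
    have hpv : 0 < p ^ v := pow_pos hp.pos v
    have hdvd : p ^ v ∣ n := pow_padicValNat_dvd
    -- p^v * (sum of floors) < n
    have h1 : p ^ v * ∑ i, a i / p ^ v < n := by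
      rw [Finset.mul_sum]
      have h2 : ∀ i, p ^ v * (a i / p ^ v) ≤ a i := fun i => Nat.mul_div_le _ _
      have h3 : p ^ v * (a i₀ / p ^ v) < a i₀ := by
        apply lt_of_le_of_ne (h2 i₀)
        intro h
        exact hi₀ ⟨_, h.symm⟩
      exact Finset.sum_lt_sum (fun i _ => h2 i) ⟨i₀, Finset.mem_univ _, h3⟩
    have h4 : p ^ v * (n / p ^ v) = n := Nat.mul_div_cancel' hdvd
    rw [← h4] at h1
    exact lt_of_mul_lt_mul_left h1 (Nat.zero_le _)

end Groth.Agent.S13801
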