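import Groth.Statements.S13815
import Groth.Agent.Lib.Helper2.EtaPtSpec
import Groth.Agent.S13802
import Groth.Agent.S13812

set_option autoImplicit false
universe u
open EtaPt

namespace Groth.Agent.S13815


open Groth.Agent.Lib.helper2.EtaPtLib

theorem Nmap_q_eq_t (η : EtaPt.FieldEndo.{u}) (A : Type u) [CommRing A]
    (hA : (minimalPrimes A).Finite) (x : η.M A) :
    η.Nmap (η.q A) (x : η.N A) = η.t (η.M A) x := by
  funext Q
  rw [Nmap_apply η (η.q A) _ Q (PrimeSpectrum.comap (η.q A) Q) rfl, t_apply]
  obtain ⟨φ, hφ1, hφ2⟩ := exists_residue_factor' η hA Q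
  apply (η.map φ).injective
  rw [← RingHom.comp_apply (η.map φ), ← η.map_comp, hφ1, ← eta_obj_eq, eta_natural_apply, hφ2]

/-- For a commutative ring A with finitely many minimal prime ideals, the two maps M_η(A) → M_η(M_η(A)),
namely q at the ring M_η(A) and the restriction of N_η(q_A), coincide, and this map is bijective.
Here η is a natural transformation from the identity of the category of fields to an endofunctor F
with F(η_K) bijective and η_K purely inseparable for every field K, N_η(A) is the product of the
F(k(p)) over the primes p of A with diagonal map t_A, and M_η(A) ⊆ N_η(A) is the subring of elements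
sent into the range of t_R by every ring map from A to a valuation ring R at whose fraction field η
is bijective; q_A : A → M_η(A) is the corestriction of t_A. -/
theorem result (η : EtaPt.FieldEndo.{u}) (A : Type u) [CommRing A] (hA : (minimalPrimes A).Finite) :
    (∀ x : η.M A, η.Nmap (η.q A) (x : η.N A) = η.t (η.M A) x) ∧ Function.Bijective (η.q (η.M A)) := by
  classical
  refine ⟨Nmap_q_eq_t η A hA, ?_, ?_⟩
  · intro x y hxy
    have h1 : η.t (η.M A) x = η.t (η.M A) y := congrArg Subtype.val hxy
    rw [← Nmap_q_eq_t η A hA, ← Nmap_q_eq_t η A hA] at h1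
    exact Subtype.ext ((Nmap_q_bijective η hA).injective h1)
  · rintro ⟨z, hz⟩
    have hbijOn := Groth.Agent.S13812.result η (η.q A) (Groth.Agent.S13802.result η A hA)
      (Nmap_q_bijective η hA)
    obtain ⟨x, hx, hxz⟩ := hbijOn.surjOn hz
    refine ⟨⟨x, hx⟩, Subtype.ext ?_⟩
    show η.t (η.M A) ⟨x, hx⟩ = z
    rw [← Nmap_q_eq_t η A hA]
    exact hxz

end Groth.Agent.S13815
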