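import Groth.Statements.S13805
import Groth.Agent.Lib.Helper2.EtaPtSpec
import Groth.Agent.S13815
import Groth.Agent.S13812
import Mathlib.RingTheory.Nilpotent.Lemmas
import Mathlib.RingTheory.Nilpotent.Lemmas

set_option autoImplicit false
universe u
open EtaPt

namespace Groth.Agent.S13805


open Groth.Agent.Lib.helper2.EtaPtLib

theorem t_injective_of_isReduced (η : EtaPt.FieldEndo.{u}) (B : Type u) [CommRing B]
    [IsReduced B] : Function.Injective (η.t B) := by
  rw [injective_iff_map_eq_zero]
  intro b hb
  apply IsNilpotent.eq_zero
  rw [nilpotent_iff_mem_prime]
  intro J hJ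
  have := congrFun hb ⟨J, hJ⟩
  rw [t_apply] at this
  have h2 := (map_eq_zero (η.eta _)).1 this
  exact Ideal.algebraMap_residueField_eq_zero.1 h2

/-- For a commutative ring A with finitely many minimal prime ideals, every integral ring map f from
M_η(A) to a reduced ring B with N_η(f) bijective is itself bijective. Here η is a natural
transformation from the identity of the category of fields to an endofunctor F with F(η_K) bijective
and η_K purely inseparable for every field K, N_η(A) is the product of the F(k(p)) over the primes p
of A with diagonal map t_A, and M_η(A) ⊆ N_η(A) is the subring of elements sent into the range of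
t_R by every ring map from A to a valuation ring R at whose fraction field η is bijective; q_A : A →
M_η(A) is the corestriction of t_A. -/
theorem result (η : EtaPt.FieldEndo.{u}) (A : Type u) [CommRing A]
    (hA : (minimalPrimes A).Finite) (B : Type u) [CommRing B] [IsReduced B] (f : η.M A →+* B)
    (hf : f.IsIntegral) (hN : Function.Bijective (η.Nmap f)) : Function.Bijective f := by
  classical
  have hq := (Groth.Agent.S13815.result η A hA).2
  have hbijOn := Groth.Agent.S13812.result η f hf hN
  have htinj := t_injective_of_isReduced η B
  constructor
  · intro y y' hyy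
    have h1 : η.t B (f y) = η.t B (f y') := by rw [hyy]
    rw [← η.Nmap_t_apply, ← η.Nmap_t_apply] at h1
    have h2 := hN.injective h1
    exact hq.injective (Subtype.ext h2)
  · intro b
    obtain ⟨z, hz, hzb⟩ := hbijOn.surjOn (η.t_mem_M B b)
    obtain ⟨y, hy⟩ := hq.surjective ⟨z, hz⟩
    refine ⟨y, htinj ?_⟩
    rw [← η.Nmap_t_apply, ← hzb]
    have : η.t (η.M A) y = z := congrArg Subtype.val hy
    rw [this]

end Groth.Agent.S13805
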