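import Groth.Statements.S13806
import Groth.Agent.Lib.Helper2.EtaPtLib
import Groth.Agent.S13811
import Groth.Agent.S13812

set_option autoImplicit false
universe u
open EtaPt

namespace Groth.Agent.S13806


open Groth.Agent.Lib.helper2.EtaPtLib

/-- If `Nmap g` is surjective then `Spec g` is injective. -/
theorem comap_injective_of_surjective_Nmap (η : EtaPt.FieldEndo.{u}) {A B : Type u} [CommRing A]
    [CommRing B] (g : A →+* B) (hN : Function.Surjective (η.Nmap g)) :
    Function.Injective (PrimeSpectrum.comap g) := by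
  classical
  intro Q1 Q2 h12
  by_contra hne
  obtain ⟨x, hx⟩ := hN (Pi.single Q1 1)
  have e1 := congrFun hx Q1
  have e2 := congrFun hx Q2
  rw [Nmap_apply η g x Q1 (PrimeSpectrum.comap g Q1) rfl] at e1
  rw [Nmap_apply η g x Q2 (PrimeSpectrum.comap g Q1) (congrArg PrimeSpectrum.asIdeal h12)] at e2
  have h1 : (Pi.single Q1 1 : η.N B) Q1 = 1 :=
    Pi.single_eq_same (M := fun q : PrimeSpectrum B => η.obj q.asIdeal.ResidueField) Q1 1
  have h2 : (Pi.single Q1 1 : η.N B) Q2 = 0 := Pi.single_eq_of_ne (Ne.symm hne) _
  rw [h1] at e1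
  rw [h2] at e2
  have h3 : x (PrimeSpectrum.comap g Q1) = 0 :=
    (η.map (Ideal.ResidueField.map (PrimeSpectrum.comap g Q1).asIdeal Q2.asIdeal g
      (congrArg PrimeSpectrum.asIdeal h12))).injective (by rw [e2, map_zero])
  rw [h3, map_zero] at e1
  exact zero_ne_one e1

/-- Key uniqueness: two ring maps `B → F(k(Q))` agreeing on `g(A)`, one of them the canonical one,
agree, when `g` is such that `Nmap g` is bijective. -/
theorem hom_ext_of_bijective_Nmap (η : EtaPt.FieldEndo.{u}) {A B : Type u} [CommRing A]
    [CommRing B] (g : A →+* B) (hN : Function.Bijective (η.Nmap g)) (Q : PrimeSpectrum B)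
    (β : B →+* η.obj Q.asIdeal.ResidueField)
    (hβ : ∀ a, β (g a) = η.eta _ (algebraMap B Q.asIdeal.ResidueField (g a))) (b : B) :
    β b = η.eta _ (algebraMap B Q.asIdeal.ResidueField b) := by
  classical
  let P : PrimeSpectrum A := PrimeSpectrum.comap g Q
  let φ := Ideal.ResidueField.map P.asIdeal Q.asIdeal g rfl
  have hbij := Groth.Agent.S13811.map_residue_bijective η g hN.surjective P Q rfl
  -- kernel of β is Q
  have hkp : (RingHom.ker β).IsPrime := RingHom.ker_isPrime β
  let Q' : PrimeSpectrum B := ⟨RingHom.ker β, hkp⟩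
  have hQ' : PrimeSpectrum.comap g Q' = PrimeSpectrum.comap g Q := by
    apply PrimeSpectrum.ext
    ext a
    show β (g a) = 0 ↔ g a ∈ Q.asIdeal
    rw [hβ, map_eq_zero, Ideal.algebraMap_residueField_eq_zero]
  have hQQ : Q' = Q := comap_injective_of_surjective_Nmap η g hN.surjective hQ'
  have hker : RingHom.ker β = Q.asIdeal := congrArg PrimeSpectrum.asIdeal hQQ
  have hβ1 : Q.asIdeal ≤ RingHom.ker β := hker.ge
  have hβ2 : Q.asIdeal.primeCompl ≤ (IsUnit.submonoid _).comap β := by
    intro s hs
    show IsUnit (β s)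
    apply IsUnit.mk0
    intro h0
    exact hs (hker ▸ (RingHom.mem_ker.2 h0))
  let βbar : Q.asIdeal.ResidueField →+* η.obj Q.asIdeal.ResidueField :=
    Ideal.ResidueField.lift Q.asIdeal β hβ1 hβ2
  have hβbar : ∀ b, βbar (algebraMap B _ b) = β b :=
    Ideal.ResidueField.lift_algebraMap Q.asIdeal β hβ1 hβ2
  -- βbar and η agree on φ(k(P))
  have hagree : βbar.comp φ = (η.eta Q.asIdeal.ResidueField).comp φ := by
    apply Ideal.ResidueField.ringHom_ext
    ext a
    simp only [RingHom.comp_apply]
    rw [show φ (algebraMap A P.asIdeal.ResidueField a) = algebraMap B _ (g a) from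
      Ideal.ResidueField.map_algebraMap P.asIdeal Q.asIdeal g rfl a, hβbar, hβ]
  -- pure inseparability
  have hz : ∀ z : Q.asIdeal.ResidueField, βbar z = η.eta _ z := by
    intro z
    obtain ⟨w, hw⟩ := hbij.surjective (η.eta _ z)
    obtain ⟨n, c, hc⟩ := η.exists_pow_mem_range_eta _ w
    have hzc : z ^ (ringExpChar P.asIdeal.ResidueField ^ n) = φ c := by
      apply (η.eta Q.asIdeal.ResidueField).injective
      rw [map_pow, ← hw, ← map_pow, ← hc, eta_natural_apply]
    apply pow_expChar_pow_inj η φ n
    rw [← map_pow, ← map_pow, hzc]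
    exact congrArg (fun h => h c) hagree
  rw [← hβbar, hz]

/-- For a commutative ring A with finitely many minimal prime ideals and an integral ring map g : A → B
with N_η(g) bijective, there is exactly one ring map g' : B → M_η(A) with g' ∘ g = q_A. Here η is a
natural transformation from the identity of the category of fields to an endofunctor F with F(η_K)
bijective and η_K purely inseparable for every field K, N_η(A) is the product of the F(k(p)) over
the primes p of A with diagonal map t_A, and M_η(A) ⊆ N_η(A) is the subring of elements sent into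
the range of t_R by every ring map from A to a valuation ring R at whose fraction field η is
bijective; q_A : A → M_η(A) is the corestriction of t_A. -/
theorem result (η : EtaPt.FieldEndo.{u}) (A : Type u) [CommRing A]
    (hA : (minimalPrimes A).Finite) (B : Type u) [CommRing B] (g : A →+* B)
    (hg : g.IsIntegral) (hN : Function.Bijective (η.Nmap g)) :
    ∃! g' : B →+* η.M A, g'.comp g = η.q A := by
  classical
  let E : η.N A ≃+* η.N B := RingEquiv.ofBijective (η.Nmap g) hN
  have hbijOn := Groth.Agent.S13812.result η g hg hN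
  have hmem : ∀ b : B, ((E.symm : η.N B →+* η.N A).comp (η.t B)) b ∈ η.M A := by
    intro b
    obtain ⟨x, hx, hxb⟩ := hbijOn.surjOn (η.t_mem_M B b)
    have : E.symm (η.t B b) = x := by
      rw [← hxb]
      exact E.symm_apply_apply x
    show E.symm (η.t B b) ∈ η.M A
    rw [this]
    exact hx
  let g' : B →+* η.M A := ((E.symm : η.N B →+* η.N A).comp (η.t B)).codRestrict (η.M A) hmem
  refine ⟨g', ?_, ?_⟩
  · refine RingHom.ext fun a => ?_
    apply Subtype.ext
    show E.symm (η.t B (g a)) = η.t A a
    rw [← η.Nmap_t_apply g a]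
    exact E.symm_apply_apply _
  · intro g'' hg''
    refine RingHom.ext fun b => ?_
    apply Subtype.ext
    show ((g'' b : η.M A) : η.N A) = E.symm (η.t B b)
    rw [RingEquiv.eq_symm_apply]
    show η.Nmap g (g'' b : η.N A) = η.t B b
    funext Q
    rw [Nmap_apply η g _ Q (PrimeSpectrum.comap g Q) rfl, t_apply]
    let β : B →+* η.obj Q.asIdeal.ResidueField :=
      (η.map (Ideal.ResidueField.map (PrimeSpectrum.comap g Q).asIdeal Q.asIdeal g rfl)).comp
        ((Pi.evalRingHom (fun p : PrimeSpectrum A => η.obj p.asIdeal.ResidueField)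
          (PrimeSpectrum.comap g Q)).comp ((η.M A).subtype.comp g''))
    have hβ : ∀ a, β (g a) = η.eta _ (algebraMap B Q.asIdeal.ResidueField (g a)) := by
      intro a
      have h1 : g'' (g a) = η.q A a := congrArg (fun h => h a) hg''
      show η.map _ (((g'' (g a) : η.M A) : η.N A) (PrimeSpectrum.comap g Q)) = _
      rw [h1]
      show η.map _ (η.t A a (PrimeSpectrum.comap g Q)) = _
      rw [t_apply, eta_natural_apply, Ideal.ResidueField.map_algebraMap]
    exact hom_ext_of_bijective_Nmap η g hN Q β hβ b

end Groth.Agent.S13806
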