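import Groth.Statements.S13807
import Groth.Agent.Lib.Helper2.EtaPtLib

set_option autoImplicit false
universe u
open EtaPt

namespace Groth.Agent.S13807

/-- For a field K the pointwise ring M_η(K) is all of N_η(K) = F(k((0))). Here η is a natural
transformation from the identity of the category of fields to an endofunctor F with F(η_K) bijective
and η_K purely inseparable for every field K, N_η(A) is the product of the F(k(p)) over the primes p
of A with diagonal map t_A, and M_η(A) ⊆ N_η(A) is the subring of elements sent into the range of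
t_R by every ring map from A to a valuation ring R at whose fraction field η is bijective; q_A : A →
M_η(A) is the corestriction of t_A. -/
theorem result (η : EtaPt.FieldEndo.{u}) (K : Type u) [Field K] : η.M K = ⊤ := by
  classical
  rw [eq_top_iff]
  rintro x -
  intro R _ _ _ hR g
  let p0 : PrimeSpectrum K := ⟨⊥, Ideal.isPrime_bot⟩
  have hsub : ∀ p : PrimeSpectrum K, p = p0 := fun p => Subsingleton.elim _ _
  have hq : ∀ q : PrimeSpectrum R, p0.asIdeal = q.asIdeal.comap g := fun q =>
    congrArg PrimeSpectrum.asIdeal (hsub (PrimeSpectrum.comap g q)).symm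
  let φ : ∀ q : PrimeSpectrum R, p0.asIdeal.ResidueField →+* q.asIdeal.ResidueField :=
    fun q => Ideal.ResidueField.map p0.asIdeal q.asIdeal g (hq q)
  have hN : ∀ q, η.Nmap g x q = η.map (φ q) (x p0) := fun q =>
    Lib.helper2.EtaPtLib.Nmap_apply η g x q p0 (hq q)
  obtain ⟨n, a', ha'⟩ := η.exists_pow_mem_range_eta _ (x p0)
  obtain ⟨a, rfl⟩ : ∃ a : K, algebraMap K _ a = a' :=
    (Ideal.algEquivResidueFieldOfField p0.asIdeal).surjective a'
  have hpow : ∀ q, (η.map (φ q) (x p0)) ^ (ringExpChar p0.asIdeal.ResidueField ^ n) =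
      η.eta _ (algebraMap R q.asIdeal.ResidueField (g a)) := by
    intro q
    rw [← map_pow, ← ha', ← RingHom.comp_apply, η.eta_natural, RingHom.comp_apply,
      Ideal.ResidueField.map_algebraMap]
  let q0 : PrimeSpectrum R := ⟨⊥, Ideal.isPrime_bot⟩
  have hbij : Function.Bijective (η.eta q0.asIdeal.ResidueField) :=
    Lib.helper2.EtaPtLib.eta_bijective_of_InV η hR (⊥ : Ideal R).ResidueField
  obtain ⟨y, hy⟩ := hbij.surjective (η.map (φ q0) (x p0))
  have hy_pow : y ^ (ringExpChar p0.asIdeal.ResidueField ^ n) =
      algebraMap R q0.asIdeal.ResidueField (g a) := by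
    apply hbij.injective
    rw [map_pow, hy, hpow]
  have hepos := Lib.helper2.EtaPtLib.ringExpChar_pow_pos p0.asIdeal.ResidueField n
  obtain ⟨r, hr⟩ := IsIntegrallyClosed.exists_algebraMap_eq_of_isIntegral_pow (R := R)
    (K := (⊥ : Ideal R).ResidueField) hepos (x := y) (by
      rw [hy_pow]; exact isIntegral_algebraMap)
  have hr_pow : r ^ (ringExpChar p0.asIdeal.ResidueField ^ n) = g a := by
    apply IsFractionRing.injective R (⊥ : Ideal R).ResidueField
    rw [map_pow, hr]
    exact hy_pow
  refine ⟨r, ?_⟩
  funext q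
  rw [hN, Lib.helper2.EtaPtLib.t_apply]
  apply Lib.helper2.EtaPtLib.pow_expChar_pow_inj η (φ q) n
  rw [hpow, ← map_pow, ← map_pow, hr_pow]

end Groth.Agent.S13807
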