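import Groth.Statements.S13808
import Groth.Agent.Lib.Helper2.EtaPtLib
import Mathlib.RingTheory.Valuation.LocalSubring

set_option autoImplicit false
universe u
open EtaPt

namespace Groth.Agent.S13808

/-- For an integral domain A such that η is bijective at the fraction field of A, the projection of
N_η(A) onto its factor F(k((0))) at the generic point is injective on M_η(A). Here η is a natural
transformation from the identity of the category of fields to an endofunctor F with F(η_K) bijective
and η_K purely inseparable for every field K, N_η(A) is the product of the F(k(p)) over the primes p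
of A with diagonal map t_A, and M_η(A) ⊆ N_η(A) is the subring of elements sent into the range of
t_R by every ring map from A to a valuation ring R at whose fraction field η is bijective; q_A : A →
M_η(A) is the corestriction of t_A. -/
theorem result (η : EtaPt.FieldEndo.{u}) (A : Type u) [CommRing A] [IsDomain A] (hA : η.InV A) :
    Set.InjOn (fun x : η.N A => x ⟨⊥, Ideal.isPrime_bot⟩) (η.M A) := by
  classical
  intro x hx x' hx' hxx'
  simp only at hxx'
  funext p
  have hunit : ∀ y : p.asIdeal.primeCompl, IsUnit (algebraMap A (FractionRing A) y) := by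
    intro y
    apply IsUnit.mk0
    intro h
    have h0 : (y : A) = 0 := (IsFractionRing.injective A (FractionRing A)) (by rw [h, map_zero])
    exact y.2 (h0 ▸ p.asIdeal.zero_mem)
  let f : Localization.AtPrime p.asIdeal →+* FractionRing A :=
    IsLocalization.lift (M := p.asIdeal.primeCompl) hunit
  have hf : ∀ a, f (algebraMap A (Localization.AtPrime p.asIdeal) a) =
      algebraMap A (FractionRing A) a := IsLocalization.lift_eq _
  obtain ⟨V, hV, hloc⟩ := IsLocalRing.exists_factor_valuationRing f
  let g : A →+* V := (f.codRestrict V.toSubring hV).comp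
    (algebraMap A (Localization.AtPrime p.asIdeal))
  have hg : ∀ a, ((g a : V) : FractionRing A) = algebraMap A (FractionRing A) a := fun a => hf a
  have hginj : Function.Injective g := by
    intro a b hab
    apply IsFractionRing.injective A (FractionRing A)
    rw [← hg, ← hg, hab]
  have hVin : η.InV V := Lib.helper2.EtaPtLib.InV_of_eta_bijective η (FractionRing A) hA
  obtain ⟨r, hr⟩ := hx V hVin g
  obtain ⟨r', hr'⟩ := hx' V hVin g
  let q0 : PrimeSpectrum V := ⟨⊥, Ideal.isPrime_bot⟩
  let p0 : PrimeSpectrum A := ⟨⊥, Ideal.isPrime_bot⟩
  have h0 : p0.asIdeal = q0.asIdeal.comap g := by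
    show (⊥ : Ideal A) = Ideal.comap g ⊥
    rw [← RingHom.ker_eq_comap_bot, (RingHom.injective_iff_ker_eq_bot g).1 hginj]
  have hrr' : r = r' := by
    have e1 := congrFun hr q0
    have e2 := congrFun hr' q0
    rw [Lib.helper2.EtaPtLib.Nmap_apply η g _ q0 p0 h0, Lib.helper2.EtaPtLib.t_apply] at e1 e2
    have hxx'' : x p0 = x' p0 := hxx'
    rw [hxx''] at e1
    have := e1.trans e2.symm
    exact IsFractionRing.injective V (⊥ : Ideal V).ResidueField ((η.eta _).injective this)
  let m : PrimeSpectrum V := ⟨IsLocalRing.maximalIdeal V, inferInstance⟩
  have hm : p.asIdeal = m.asIdeal.comap g := by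
    show p.asIdeal = Ideal.comap ((f.codRestrict V.toSubring hV).comp
      (algebraMap A (Localization.AtPrime p.asIdeal))) (IsLocalRing.maximalIdeal V)
    rw [← Ideal.comap_comap, IsLocalRing.maximalIdeal_comap]
    exact (Localization.AtPrime.under_maximalIdeal).symm
  have e1 := congrFun hr m
  have e2 := congrFun hr' m
  rw [Lib.helper2.EtaPtLib.Nmap_apply η g _ m p hm] at e1 e2
  rw [hrr'] at e1
  exact (η.map _).injective (e1.symm.trans e2)

end Groth.Agent.S13808
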