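import Groth.Statements.S13809
import Groth.Agent.Lib.Helper2.EtaPtLib
import Groth.Agent.S13808
import Mathlib.RingTheory.Valuation.LocalSubring
import Mathlib.RingTheory.Polynomial.Basic

set_option autoImplicit false
universe u
open EtaPt

namespace Groth.Agent.S13809


open Groth.Agent.Lib.helper2.EtaPtLib

theorem isIntegrallyClosedIn_range (A : Type u) [CommRing A] [IsDomain A] [IsIntegrallyClosed A]
    (K : Type u) [Field K] [Algebra A K] [IsFractionRing A K] :
    IsIntegrallyClosedIn (algebraMap A K).range K := by
  rw [Subring.isIntegrallyClosedIn_iff]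
  intro x hx
  have hsurj : Function.Surjective (algebraMap A K).rangeRestrict :=
    (algebraMap A K).rangeRestrict_surjective
  obtain ⟨p, hpm, hpx⟩ := hx
  have hlift : p ∈ Polynomial.lifts (algebraMap A K).rangeRestrict := by
    rw [Polynomial.mem_lifts]
    exact Polynomial.map_surjective _ hsurj p
  obtain ⟨q, hq, -, hqm⟩ := Polynomial.lifts_and_degree_eq_and_monic hlift hpm
  have hint : IsIntegral A x := by
    refine ⟨q, hqm, ?_⟩
    rw [← hq, Polynomial.eval₂_map] at hpx
    exact hpx
  obtain ⟨a, ha⟩ := IsIntegrallyClosed.algebraMap_eq_of_integral hint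
  exact ⟨a, ha⟩

/-- For an integrally closed domain A such that η is bijective at the fraction field of A, the map q_A :
A → M_η(A) is bijective. Here η is a natural transformation from the identity of the category of
fields to an endofunctor F with F(η_K) bijective and η_K purely inseparable for every field K,
N_η(A) is the product of the F(k(p)) over the primes p of A with diagonal map t_A, and M_η(A) ⊆
N_η(A) is the subring of elements sent into the range of t_R by every ring map from A to a valuation
ring R at whose fraction field η is bijective; q_A : A → M_η(A) is the corestriction of t_A. -/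
theorem result (η : EtaPt.FieldEndo.{u}) (A : Type u) [CommRing A] [IsDomain A] [IsIntegrallyClosed A]
    (hA : η.InV A) : Function.Bijective (η.q A) := by
  classical
  let p0 : PrimeSpectrum A := ⟨⊥, Ideal.isPrime_bot⟩
  have hb : Function.Bijective (η.eta (⊥ : Ideal A).ResidueField) :=
    eta_bijective_of_InV η hA _
  constructor
  · intro a b hab
    have h1 : η.t A a = η.t A b := congrArg Subtype.val hab
    have h2 := congrFun h1 p0
    rw [t_apply, t_apply] at h2
    exact IsFractionRing.injective A (⊥ : Ideal A).ResidueField ((η.eta _).injective h2)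
  · rintro ⟨x, hx⟩
    obtain ⟨y, hy⟩ := hb.surjective (x p0)
    have hyA : y ∈ (algebraMap A (⊥ : Ideal A).ResidueField).range := by
      by_contra hyR
      have := isIntegrallyClosedIn_range A (⊥ : Ideal A).ResidueField
      obtain ⟨V, hV, hyV⟩ := Subring.exists_le_valuationSubring_of_isIntegrallyClosedIn hyR
      apply hyV
      let g : A →+* V := (algebraMap A (⊥ : Ideal A).ResidueField).codRestrict V.toSubring
        (fun a => hV ⟨a, rfl⟩)
      have hVin : η.InV V := InV_of_eta_bijective η (⊥ : Ideal A).ResidueField hb
      obtain ⟨r, hr⟩ := hx V hVin g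
      let q0 : PrimeSpectrum V := ⟨⊥, Ideal.isPrime_bot⟩
      have hginj : Function.Injective g := by
        intro a b hab
        apply IsFractionRing.injective A (⊥ : Ideal A).ResidueField
        exact congrArg Subtype.val hab
      have h0 : p0.asIdeal = q0.asIdeal.comap g := by
        show (⊥ : Ideal A) = Ideal.comap g ⊥
        rw [← RingHom.ker_eq_comap_bot, (RingHom.injective_iff_ker_eq_bot g).1 hginj]
      have e1 := congrFun hr q0
      rw [Nmap_apply η g _ q0 p0 h0, t_apply, ← hy, eta_natural_apply] at e1
      have e2 := (η.eta q0.asIdeal.ResidueField).injective e1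
      let ψ : (⊥ : Ideal A).ResidueField ≃ₐ[V] (⊥ : Ideal V).ResidueField :=
        IsLocalization.algEquiv (nonZeroDivisors V) _ _
      have hφψ : Ideal.ResidueField.map p0.asIdeal q0.asIdeal g h0 =
          (ψ : (⊥ : Ideal A).ResidueField →+* (⊥ : Ideal V).ResidueField) := by
        apply Ideal.ResidueField.ringHom_ext
        ext a
        rw [RingHom.comp_apply, RingHom.comp_apply, Ideal.ResidueField.map_algebraMap]
        exact (ψ.commutes (g a)).symm
      rw [hφψ] at e2
      have e3 : ψ (algebraMap V _ r) = ψ y := by
        rw [ψ.commutes]; exact e2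
      have e4 := ψ.injective e3
      rw [← e4]
      exact r.2
    obtain ⟨a, ha⟩ := hyA
    refine ⟨a, Subtype.ext ?_⟩
    apply Groth.Agent.S13808.result η A hA (η.t_mem_M A a) hx
    show η.t A a p0 = x p0
    rw [t_apply, ← hy]
    exact congrArg _ ha

end Groth.Agent.S13809
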