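import Groth.Statements.S13810
import Groth.Agent.Lib.Helper2.EtaPtLib
import Mathlib.RingTheory.Spectrum.Prime.Topology
import Mathlib.RingTheory.SurjectiveOnStalks

set_option autoImplicit false
universe u
open EtaPt

namespace Groth.Agent.S13810


open Groth.Agent.Lib.helper2.EtaPtLib

theorem prime_cases {A B : Type u} [CommRing A] [CommRing B] (P : PrimeSpectrum (A × B)) :
    (∃ q : PrimeSpectrum A, P = PrimeSpectrum.comap (RingHom.fst A B) q) ∨
      (∃ q : PrimeSpectrum B, P = PrimeSpectrum.comap (RingHom.snd A B) q) := by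
  obtain ⟨s, rfl⟩ := (PrimeSpectrum.primeSpectrumProd A B).symm.surjective P
  rcases s with q | q
  · exact Or.inl ⟨q, PrimeSpectrum.primeSpectrumProd_symm_inl q⟩
  · exact Or.inr ⟨q, PrimeSpectrum.primeSpectrumProd_symm_inr q⟩

theorem fst_ne_snd {A B : Type u} [CommRing A] [CommRing B] (q : PrimeSpectrum A)
    (q' : PrimeSpectrum B) :
    (PrimeSpectrum.comap (RingHom.fst A B) q).asIdeal ≠ q'.asIdeal.comap (RingHom.snd A B) := by
  intro h
  have h1 : ((1 : A), (0 : B)) ∈ q'.asIdeal.comap (RingHom.snd A B) := by
    show (0 : B) ∈ q'.asIdeal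
    exact q'.asIdeal.zero_mem
  rw [← h] at h1
  have h2 : (1 : A) ∈ q.asIdeal := h1
  exact q.isPrime.ne_top ((Ideal.eq_top_iff_one _).2 h2)

theorem injective_pair (η : EtaPt.FieldEndo.{u}) (A B : Type u) [CommRing A] [CommRing B] :
    Function.Injective (fun x : η.N (A × B) =>
      (η.Nmap (RingHom.fst A B) x, η.Nmap (RingHom.snd A B) x)) := by
  intro x x' h
  have h1 : η.Nmap (RingHom.fst A B) x = η.Nmap (RingHom.fst A B) x' := congrArg Prod.fst h
  have h2 : η.Nmap (RingHom.snd A B) x = η.Nmap (RingHom.snd A B) x' := congrArg Prod.snd h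
  funext P
  rcases prime_cases P with ⟨q, rfl⟩ | ⟨q, rfl⟩
  · have := congrFun h1 q
    rw [Nmap_apply η _ x q (PrimeSpectrum.comap (RingHom.fst A B) q) rfl,
      Nmap_apply η _ x' q (PrimeSpectrum.comap (RingHom.fst A B) q) rfl] at this
    exact (η.map _).injective this
  · have := congrFun h2 q
    rw [Nmap_apply η _ x q (PrimeSpectrum.comap (RingHom.snd A B) q) rfl,
      Nmap_apply η _ x' q (PrimeSpectrum.comap (RingHom.snd A B) q) rfl] at this
    exact (η.map _).injective this

theorem exists_component (η : EtaPt.FieldEndo.{u}) (A B : Type u) [CommRing A] [CommRing B]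
    (y : η.N A) (z : η.N B) (P : PrimeSpectrum (A × B)) :
    ∃ w : η.obj P.asIdeal.ResidueField,
      (∀ (q : PrimeSpectrum A) (h : P.asIdeal = q.asIdeal.comap (RingHom.fst A B)),
        η.map (Ideal.ResidueField.map P.asIdeal q.asIdeal (RingHom.fst A B) h) w = y q) ∧
      (∀ (q : PrimeSpectrum B) (h : P.asIdeal = q.asIdeal.comap (RingHom.snd A B)),
        η.map (Ideal.ResidueField.map P.asIdeal q.asIdeal (RingHom.snd A B) h) w = z q) := by
  rcases prime_cases P with ⟨q0, rfl⟩ | ⟨q0, rfl⟩
  · have hb := map_bijective_of_bijective η _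
      ((RingHom.surjectiveOnStalks_of_surjective
        (f := RingHom.fst A B) Prod.fst_surjective).residueFieldMap_bijective
        (PrimeSpectrum.comap (RingHom.fst A B) q0).asIdeal q0.asIdeal rfl)
    obtain ⟨w, hw⟩ := hb.surjective (y q0)
    refine ⟨w, ?_, ?_⟩
    · intro q h
      have hq : q0 = q := PrimeSpectrum.comap_injective_of_surjective (RingHom.fst A B)
        Prod.fst_surjective (PrimeSpectrum.ext h)
      subst hq
      exact hw
    · intro q h
      exact absurd h (fst_ne_snd q0 q)
  · have hb := map_bijective_of_bijective η _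
      ((RingHom.surjectiveOnStalks_of_surjective
        (f := RingHom.snd A B) Prod.snd_surjective).residueFieldMap_bijective
        (PrimeSpectrum.comap (RingHom.snd A B) q0).asIdeal q0.asIdeal rfl)
    obtain ⟨w, hw⟩ := hb.surjective (z q0)
    refine ⟨w, ?_, ?_⟩
    · intro q h
      exact absurd h.symm (fst_ne_snd q q0)
    · intro q h
      have hq : q0 = q := PrimeSpectrum.comap_injective_of_surjective (RingHom.snd A B)
        Prod.snd_surjective (PrimeSpectrum.ext h)
      subst hq
      exact hw

theorem mem_M_of_factor (η : EtaPt.FieldEndo.{u}) (A B : Type u) [CommRing A] [CommRing B]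
    (x : η.N (A × B)) (hy : η.Nmap (RingHom.fst A B) x ∈ η.M A)
    (hz : η.Nmap (RingHom.snd A B) x ∈ η.M B) : x ∈ η.M (A × B) := by
  intro R _ _ _ hR g
  have h0 : g (1, 0) * g (0, 1) = 0 := by
    rw [← map_mul, Prod.mk_mul_mk, mul_zero, zero_mul, Prod.mk_zero_zero, map_zero]
  have h1 : g (1, 0) + g (0, 1) = 1 := by
    rw [← map_add, Prod.mk_add_mk, add_zero, zero_add, Prod.mk_one_one, map_one]
  rcases mul_eq_zero.1 h0 with h | h
  · -- factor through snd
    have hg : ∀ a b, g (a, b) = g (0, b) := by
      intro a b
      have : ((a, b) : A × B) = (1, 0) * (a, 0) + (0, b) := by simp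
      rw [this, map_add, map_mul, h, zero_mul, zero_add]
    let gB : B →+* R :=
      { toFun := fun b => g (0, b)
        map_one' := by rw [← hg 1 1]; exact map_one g
        map_mul' := fun b b' => by rw [← map_mul]; simp
        map_zero' := by
          show g (0, 0) = 0
          rw [Prod.mk_zero_zero, map_zero]
        map_add' := fun b b' => by rw [← map_add]; simp }
    have hfac : g = gB.comp (RingHom.snd A B) := by
      ext ⟨a, b⟩
      · exact hg a b
    rw [hfac, Nmap_comp]
    exact hz R hR gB
  · have hg : ∀ a b, g (a, b) = g (a, 0) := by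
      intro a b
      have : ((a, b) : A × B) = (a, 0) + (0, 1) * (0, b) := by simp
      rw [this, map_add, map_mul, h, zero_mul, add_zero]
    let gA : A →+* R :=
      { toFun := fun a => g (a, 0)
        map_one' := by rw [← hg 1 1]; exact map_one g
        map_mul' := fun a a' => by rw [← map_mul]; simp
        map_zero' := by
          show g (0, 0) = 0
          rw [Prod.mk_zero_zero, map_zero]
        map_add' := fun a a' => by rw [← map_add]; simp }
    have hfac : g = gA.comp (RingHom.fst A B) := by
      ext ⟨a, b⟩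
      · exact hg a b
    rw [hfac, Nmap_comp]
    exact hy R hR gA

/-- For commutative rings A and B, the pair of maps N_η of the two projections restricts to a bijection
from M_η(A × B) onto M_η(A) × M_η(B). Here η is a natural transformation from the identity of the
category of fields to an endofunctor F with F(η_K) bijective and η_K purely inseparable for every
field K, N_η(A) is the product of the F(k(p)) over the primes p of A with diagonal map t_A, and
M_η(A) ⊆ N_η(A) is the subring of elements sent into the range of t_R by every ring map from A to a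
valuation ring R at whose fraction field η is bijective; q_A : A → M_η(A) is the corestriction of
t_A. -/
theorem result (η : EtaPt.FieldEndo.{u}) (A B : Type u) [CommRing A] [CommRing B] :
    Set.BijOn (fun x : η.N (A × B) => (η.Nmap (RingHom.fst A B) x, η.Nmap (RingHom.snd A B) x))
      (η.M (A × B)) ((η.M A : Set (η.N A)) ×ˢ (η.M B : Set (η.N B))) := by
  classical
  refine ⟨?_, (injective_pair η A B).injOn, ?_⟩
  · intro x hx
    exact Set.mem_prod.2 ⟨Nmap_mem_M η _ hx, Nmap_mem_M η _ hx⟩
  · rintro ⟨y, z⟩ hyz
    obtain ⟨hy, hz⟩ := Set.mem_prod.1 hyz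
    choose x hx1 hx2 using exists_component η A B y z
    have e1 : η.Nmap (RingHom.fst A B) x = y := by
      funext q
      rw [Nmap_apply η _ x q (PrimeSpectrum.comap (RingHom.fst A B) q) rfl]
      exact hx1 _ q rfl
    have e2 : η.Nmap (RingHom.snd A B) x = z := by
      funext q
      rw [Nmap_apply η _ x q (PrimeSpectrum.comap (RingHom.snd A B) q) rfl]
      exact hx2 _ q rfl
    refine ⟨x, ?_, ?_⟩
    · exact mem_M_of_factor η A B x (e1 ▸ hy) (e2 ▸ hz)
    · show (η.Nmap (RingHom.fst A B) x, η.Nmap (RingHom.snd A B) x) = (y, z)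
      rw [e1, e2]

end Groth.Agent.S13810
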