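import Groth.Statements.S13813
import Groth.Agent.Lib.Helper2.EtaPtVal

set_option autoImplicit false
universe u
open EtaPt

namespace Groth.Agent.S13813


open Groth.Agent.Lib.helper2.EtaPtLib

theorem injOn_generic (η : EtaPt.FieldEndo.{u}) (R : Type u) [CommRing R] [IsDomain R] :
    Set.InjOn (fun x : η.N R => x ⟨⊥, Ideal.isPrime_bot⟩) (η.M R) := by
  intro x hx x' hx' hxx'
  simp only at hxx'
  have hsub : x - x' ∈ η.M R := Subring.sub_mem _ hx hx'
  funext P
  have h0 : (x - x') ⟨⊥, Ideal.isPrime_bot⟩ = 0 := by
    show x _ - x' _ = 0
    rw [hxx', sub_self]
  have := eq_zero_of_le η hsub ⟨⊥, Ideal.isPrime_bot⟩ P bot_le h0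
  exact sub_eq_zero.1 this

/-- The image of generic evaluation on `M R`, for a valuation ring `R` under the hypothesis. -/
theorem exists_of_isIntegral (η : EtaPt.FieldEndo.{u}) (R : Type u) [CommRing R] [IsDomain R]
    [ValuationRing R]
    (hη : η.InV R ∨ ∀ (k : Type u) [Field k], ringChar k = ringChar R →
      Function.Bijective (η.eta k) → PerfectField k)
    (y : η.obj (⊥ : Ideal R).ResidueField)
    (hy : (jmap η R ⟨⊥, Ideal.isPrime_bot⟩).IsIntegralElem y) :
    ∃ x ∈ η.M R, x ⟨⊥, Ideal.isPrime_bot⟩ = y := by
  classical
  have hInVcase : η.InV R → ∃ x ∈ η.M R, x ⟨⊥, Ideal.isPrime_bot⟩ = y := by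
    intro hInV
    obtain ⟨r, hr⟩ := exists_of_isIntegral_of_InV η hInV y hy
    exact ⟨η.t R r, η.t_mem_M R r, hr⟩
  rcases hη with hInV | hH
  · exact hInVcase hInV
  · by_cases h0 : ringChar R = 0
    · apply hInVcase
      have hcz : CharZero R := (CharP.ringChar_zero_iff_CharZero R).1 h0
      have : CharZero (⊥ : Ideal R).ResidueField :=
        charZero_of_injective_algebraMap (IsFractionRing.injective R _)
      apply InV_of_eta_bijective η (⊥ : Ideal R).ResidueField
      refine ⟨RingHom.injective _, fun z => ?_⟩
      obtain ⟨n, c, hc⟩ := η.exists_pow_mem_range_eta _ z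
      rw [ringExpChar.eq_one, one_pow, pow_one] at hc
      exact ⟨c, hc⟩
    · have hp : (ringChar R).Prime :=
        (CharP.char_is_prime_or_zero R (ringChar R)).resolve_right h0
      exact exists_of_isIntegral_of_perfect η (ringChar R) hp hH y hy

/-- Let R be a valuation ring with fraction field K such that η is bijective at K, or such that every
field of the same characteristic as R at which η is bijective is perfect. Then evaluation at the
generic point maps M_η(R) injectively into F(K), with image exactly the elements of F(K) integral
over R (through η_K composed with R → K); here K is realised as the residue field of R at (0). (The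
published statement assumes nothing about η beyond the standing conditions, and then fails: for the
endofunctor equal to the perfect closure on the fields of characteristic 2 and transcendence degree
at least 2 over the prime field and to the identity on every other field, and R = F_2(s)[t]
localised at (t), the element s^(1/2) of F(K) is integral over R but is the generic component of no
element of M_η(R). This row assumes that η is bijective at Frac R, or that every field of the same
characteristic as R at which η is bijective is perfect; both the identity and the perfect closure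
satisfy this.) Here η is a natural transformation from the identity of the category of fields to an
endofunctor F with F(η_K) bijective and η_K purely inseparable for every field K, N_η(A) is the
product of the F(k(p)) over the primes p of A with diagonal map t_A, and M_η(A) ⊆ N_η(A) is the
subring of elements sent into the range of t_R by every ring map from A to a valuation ring R at
whose fraction field η is bijective; q_A : A → M_η(A) is the corestriction of t_A. -/
theorem result (η : EtaPt.FieldEndo.{u}) (R : Type u) [CommRing R] [IsDomain R] [ValuationRing R]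
    (hη : η.InV R ∨ ∀ (k : Type u) [Field k], ringChar k = ringChar R →
      Function.Bijective (η.eta k) → PerfectField k) :
    Set.InjOn (fun x : η.N R => x ⟨⊥, Ideal.isPrime_bot⟩) (η.M R) ∧
      (fun x : η.N R => x ⟨⊥, Ideal.isPrime_bot⟩) '' (η.M R : Set (η.N R)) =
        {y | ((η.eta (⊥ : Ideal R).ResidueField).comp (algebraMap R (⊥ : Ideal R).ResidueField)).IsIntegralElem y} := by
  classical
  refine ⟨injOn_generic η R, ?_⟩
  apply Set.eq_of_subset_of_subset
  · rintro y ⟨x, hx, hxy⟩
    have h1 : (jmap η R ⟨⊥, Ideal.isPrime_bot⟩).IsIntegralElem (x ⟨⊥, Ideal.isPrime_bot⟩) :=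
      isIntegralElem_jmap η hx ⟨⊥, Ideal.isPrime_bot⟩
    have h2 : x ⟨⊥, Ideal.isPrime_bot⟩ = y := hxy
    rw [h2] at h1
    exact h1
  · intro y hy
    have hy' : (jmap η R ⟨⊥, Ideal.isPrime_bot⟩).IsIntegralElem y := hy
    obtain ⟨x, hx, hxy⟩ := exists_of_isIntegral η R hη y hy'
    exact ⟨x, hx, hxy⟩

end Groth.Agent.S13813
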