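import Groth.Statements.S13814
import Groth.Agent.Lib.Helper2.EtaPtVal
import Groth.Agent.S13813

set_option autoImplicit false
universe u
open EtaPt

namespace Groth.Agent.S13814


open Groth.Agent.Lib.helper2.EtaPtLib

section Aux

variable (η : EtaPt.FieldEndo.{u}) (R : Type u) [CommRing R] [IsDomain R] [ValuationRing R]
  (hη : η.InV R ∨ ∀ (k : Type u) [Field k], ringChar k = ringChar R →
      Function.Bijective (η.eta k) → PerfectField k)

theorem ev_injective :
    Function.Injective (proj η R ⟨⊥, Ideal.isPrime_bot⟩) := by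
  intro a b hab
  exact Subtype.ext (Groth.Agent.S13813.injOn_generic η R a.2 b.2 hab)

include hη in
/-- every element of `F(K)` or its inverse is a generic component of an element of `M R`. -/
theorem exists_ev_or_inv (y : η.obj (⊥ : Ideal R).ResidueField) :
    (∃ z : η.M R, proj η R ⟨⊥, Ideal.isPrime_bot⟩ z = y) ∨
      (∃ z : η.M R, proj η R ⟨⊥, Ideal.isPrime_bot⟩ z = y⁻¹) := by
  obtain ⟨n, c, hc⟩ := η.exists_pow_mem_range_eta _ y
  have hpos := ringExpChar_pow_pos (⊥ : Ideal R).ResidueField n
  have key : ∀ (w : η.obj (⊥ : Ideal R).ResidueField) (r : R),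
      w ^ (ringExpChar (⊥ : Ideal R).ResidueField ^ n) = jmap η R ⟨⊥, Ideal.isPrime_bot⟩ r →
      ∃ z : η.M R, proj η R ⟨⊥, Ideal.isPrime_bot⟩ z = w := by
    intro w r hw
    have h1 : (jmap η R ⟨⊥, Ideal.isPrime_bot⟩).IsIntegralElem
        (w ^ (ringExpChar (⊥ : Ideal R).ResidueField ^ n)) := by
      rw [hw]
      exact RingHom.isIntegralElem_map _
    have h2 := isIntegralElem_of_pow _ hpos h1
    obtain ⟨x, hx, hxw⟩ := Groth.Agent.S13813.exists_of_isIntegral η R hη w h2
    exact ⟨⟨x, hx⟩, hxw⟩
  rcases ValuationRing.isInteger_or_isInteger R c with ⟨r, hr⟩ | ⟨r, hr⟩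
  · left
    apply key y r
    rw [← hc, ← hr]
    rfl
  · right
    apply key y⁻¹ r
    rw [inv_pow, ← hc, ← map_inv₀, ← hr]
    rfl

end Aux

/-- Let R be a valuation ring with fraction field K = k((0)) such that η is bijective at K, or such that
every field of the same characteristic as R at which η is bijective is perfect. Then the ring M_η(R)
is again a valuation ring, every element of F(K) is a quotient of generic components of elements of
M_η(R), and an element of F(K) that is both the generic component of an element of M_η(R) and in the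
image of K comes from R. (The published statement assumes nothing about η beyond the standing
conditions, and then fails: for the endofunctor equal to the perfect closure on the fields of
characteristic 2 and transcendence degree at least 2 over the prime field and to the identity on
every other field, and R = F_2(s)[t] localised at (t), neither of the elements (s^(1/2) t, 0) and
(t, 0) of M_η(R) ⊆ F(K) × F_2(s) divides the other, so M_η(R) is not a valuation ring. This row
assumes that η is bijective at Frac R, or that every field of the same characteristic as R at which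
η is bijective is perfect; both the identity and the perfect closure satisfy this.) Here η is a
natural transformation from the identity of the category of fields to an endofunctor F with F(η_K)
bijective and η_K purely inseparable for every field K, N_η(A) is the product of the F(k(p)) over
the primes p of A with diagonal map t_A, and M_η(A) ⊆ N_η(A) is the subring of elements sent into
the range of t_R by every ring map from A to a valuation ring R at whose fraction field η is
bijective; q_A : A → M_η(A) is the corestriction of t_A. -/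
theorem result (η : EtaPt.FieldEndo.{u}) (R : Type u) [CommRing R] [IsDomain R] [ValuationRing R]
    (hη : η.InV R ∨ ∀ (k : Type u) [Field k], ringChar k = ringChar R →
      Function.Bijective (η.eta k) → PerfectField k) :
    IsDomain (η.M R) ∧ PreValuationRing (η.M R) ∧
      (∀ y : η.obj (⊥ : Ideal R).ResidueField, ∃ a b : η.M R,
        (b : η.N R) ⟨⊥, Ideal.isPrime_bot⟩ ≠ 0 ∧
          y * (b : η.N R) ⟨⊥, Ideal.isPrime_bot⟩ = (a : η.N R) ⟨⊥, Ideal.isPrime_bot⟩) ∧
      (fun x : η.N R => x ⟨⊥, Ideal.isPrime_bot⟩) '' (η.M R : Set (η.N R)) ∩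
          Set.range (η.eta (⊥ : Ideal R).ResidueField) =
        Set.range ((η.eta (⊥ : Ideal R).ResidueField).comp (algebraMap R (⊥ : Ideal R).ResidueField)) := by
  classical
  have hinj := ev_injective η R
  have hdom : IsDomain (η.M R) := Function.Injective.isDomain _ hinj
  refine ⟨hdom, ⟨fun a b => ?_⟩, ?_, ?_⟩
  · -- PreValuationRing
    by_cases ha : proj η R ⟨⊥, Ideal.isPrime_bot⟩ a = 0
    · have : a = 0 := hinj (ha.trans (map_zero _).symm)
      exact ⟨0, Or.inr (by rw [this, mul_zero])⟩
    · rcases exists_ev_or_inv η R hη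
          (proj η R ⟨⊥, Ideal.isPrime_bot⟩ b / proj η R ⟨⊥, Ideal.isPrime_bot⟩ a) with
          ⟨z, hz⟩ | ⟨z, hz⟩
      · refine ⟨z, Or.inl (hinj ?_)⟩
        rw [map_mul, hz, mul_div_cancel₀ _ ha]
      · by_cases hb : proj η R ⟨⊥, Ideal.isPrime_bot⟩ b = 0
        · have : b = 0 := hinj (hb.trans (map_zero _).symm)
          exact ⟨0, Or.inl (by rw [this, mul_zero])⟩
        · refine ⟨z, Or.inr (hinj ?_)⟩
          rw [map_mul, hz, inv_div, mul_div_cancel₀ _ hb]
  · -- fractions
    intro y
    rcases exists_ev_or_inv η R hη y with ⟨z, hz⟩ | ⟨z, hz⟩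
    · refine ⟨z, 1, ?_, ?_⟩
      · show proj η R ⟨⊥, Ideal.isPrime_bot⟩ 1 ≠ 0
        rw [map_one]
        exact one_ne_zero
      · show y * proj η R ⟨⊥, Ideal.isPrime_bot⟩ 1 = proj η R ⟨⊥, Ideal.isPrime_bot⟩ z
        rw [map_one, mul_one, hz]
    · by_cases hy : y = 0
      · refine ⟨0, 1, ?_, ?_⟩
        · show proj η R ⟨⊥, Ideal.isPrime_bot⟩ 1 ≠ 0
          rw [map_one]
          exact one_ne_zero
        · show y * proj η R ⟨⊥, Ideal.isPrime_bot⟩ 1 = proj η R ⟨⊥, Ideal.isPrime_bot⟩ 0
          rw [map_one, mul_one, map_zero, hy]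
      · refine ⟨1, z, ?_, ?_⟩
        · show proj η R ⟨⊥, Ideal.isPrime_bot⟩ z ≠ 0
          rw [hz]
          exact inv_ne_zero hy
        · show y * proj η R ⟨⊥, Ideal.isPrime_bot⟩ z = proj η R ⟨⊥, Ideal.isPrime_bot⟩ 1
          rw [hz, map_one, mul_inv_cancel₀ hy]
  · -- image ∩ range
    apply Set.eq_of_subset_of_subset
    · rintro y ⟨⟨x, hx, hxy⟩, ⟨c, hc⟩⟩
      have h1 : (jmap η R ⟨⊥, Ideal.isPrime_bot⟩).IsIntegralElem (x ⟨⊥, Ideal.isPrime_bot⟩) :=
        isIntegralElem_jmap η hx ⟨⊥, Ideal.isPrime_bot⟩
      have h2 : x ⟨⊥, Ideal.isPrime_bot⟩ = y := hxy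
      rw [h2, ← hc] at h1
      have h3 := isIntegral_of_jmap_eta η ⟨⊥, Ideal.isPrime_bot⟩ c h1
      obtain ⟨r, hr⟩ := IsIntegrallyClosed.algebraMap_eq_of_integral h3
      refine ⟨r, ?_⟩
      rw [← hc, ← hr]
      rfl
    · rintro y ⟨r, hr⟩
      refine ⟨⟨η.t R r, η.t_mem_M R r, hr⟩, ⟨algebraMap R _ r, hr⟩⟩

end Groth.Agent.S13814
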