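import Groth.Statements.S13816
import Groth.Agent.Lib.Helper2.EtaPtVal
import Groth.Agent.Lib.Helper2.ExtendHom
import Mathlib.RingTheory.Valuation.LocalSubring

set_option autoImplicit false
universe u
open EtaPt

namespace Groth.Agent.S13816

open Groth.Agent.Lib.helper2.EtaPtLib

theorem eta_bijective_of_perfectField (η : EtaPt.FieldEndo.{u}) (Ω : Type u) [Field Ω]
    [PerfectField Ω] : Function.Bijective (η.eta Ω) := by
  refine ⟨(η.eta Ω).injective, fun z => ?_⟩
  obtain ⟨n, c, hc⟩ := η.exists_pow_mem_range_eta Ω z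
  obtain ⟨w, hw⟩ := exists_pow_eq_of_perfectField Ω (ringExpChar Ω) n c
  refine ⟨w, ?_⟩
  apply pow_expChar_pow_inj η (RingHom.id Ω) n
  rw [← map_pow, hw, hc]

/-- For a prime `𝔭'` of a domain `R` embedded in a field `Ω`, there is a valuation subring of `Ω`
containing `R` whose maximal ideal contracts to `𝔭'`. -/
theorem exists_valuationSubring_dominating {R Ω : Type u} [CommRing R] [Field Ω]
    (ι : R →+* Ω) (hι : Function.Injective ι) (𝔭' : PrimeSpectrum R) :
    ∃ (V : ValuationSubring Ω) (j : R →+* V), (∀ r, ((j r : V) : Ω) = ι r) ∧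
      𝔭'.asIdeal = (IsLocalRing.maximalIdeal V).comap j := by
  classical
  have hunit : ∀ y : 𝔭'.asIdeal.primeCompl, IsUnit (ι y) := by
    intro y
    apply IsUnit.mk0
    intro h
    have : (y : R) = 0 := hι (h.trans (map_zero ι).symm)
    exact y.2 (this ▸ 𝔭'.asIdeal.zero_mem)
  let f : Localization.AtPrime 𝔭'.asIdeal →+* Ω := IsLocalization.lift (M := 𝔭'.asIdeal.primeCompl) hunit
  have hf : ∀ a, f (algebraMap R (Localization.AtPrime 𝔭'.asIdeal) a) = ι a :=
    IsLocalization.lift_eq _
  obtain ⟨V, hV, hloc⟩ := IsLocalRing.exists_factor_valuationRing f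
  refine ⟨V, (f.codRestrict V.toSubring hV).comp (algebraMap R (Localization.AtPrime 𝔭'.asIdeal)),
    fun r => hf r, ?_⟩
  rw [← Ideal.comap_comap, IsLocalRing.maximalIdeal_comap]
  exact (Localization.AtPrime.under_maximalIdeal).symm

section compare

variable (η : EtaPt.FieldEndo.{u}) {R : Type u} [CommRing R] {Ω : Type u} [Field Ω]
  (V : ValuationSubring Ω) (j : R →+* V) (hj : Function.Injective j)

include hj in
theorem bot_eq_comap_bot : (⊥ : Ideal R) = (⊥ : Ideal V).comap j := by
  rw [← RingHom.ker_eq_comap_bot, (RingHom.injective_iff_ker_eq_bot j).1 hj]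

theorem algebraMap_bot_injective (S : Type u) [CommRing S] [IsDomain S] :
    Function.Injective (algebraMap S (⊥ : Ideal S).ResidueField) := by
  rw [injective_iff_map_eq_zero]
  intro x hx
  exact (Ideal.algebraMap_residueField_eq_zero).1 hx

variable [IsDomain R]

/-- (a) the generic component. -/
theorem generic_compare (y : η.N R) (v : V) (hv : η.t V v = η.Nmap j y)
    (c₀ : (⊥ : Ideal R).ResidueField) (hc₀ : y ⟨⊥, Ideal.isPrime_bot⟩ = η.eta _ c₀) :
    algebraMap V (⊥ : Ideal V).ResidueField v =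
      Ideal.ResidueField.map (⊥ : Ideal R) (⊥ : Ideal V) j (bot_eq_comap_bot V j hj) c₀ := by
  have h1 := congrFun hv ⟨⊥, Ideal.isPrime_bot⟩
  rw [Nmap_apply η j y ⟨⊥, Ideal.isPrime_bot⟩ ⟨⊥, Ideal.isPrime_bot⟩ (bot_eq_comap_bot V j hj),
    t_apply, hc₀, eta_natural_apply] at h1
  exact (η.eta _).injective h1

include hj in
/-- (b) -/
theorem eq_of_generic (y : η.N R) (v : V) (hv : η.t V v = η.Nmap j y) (r₀ : R)
    (hc₀ : y ⟨⊥, Ideal.isPrime_bot⟩ = η.eta _ (algebraMap R (⊥ : Ideal R).ResidueField r₀)) :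
    v = j r₀ := by
  have h1 := generic_compare η V j hj y v hv _ hc₀
  rw [Ideal.ResidueField.map_algebraMap] at h1
  exact algebraMap_bot_injective V h1

omit [IsDomain R] in
/-- (c) -/
theorem component_compare (y : η.N R) (r₀ : R) (hv : η.t V (j r₀) = η.Nmap j y)
    (𝔭' : PrimeSpectrum R) (h𝔭' : 𝔭'.asIdeal = (IsLocalRing.maximalIdeal V).comap j) :
    y 𝔭' = η.t R r₀ 𝔭' := by
  have h0 : η.Nmap j (y - η.t R r₀) = 0 := by
    rw [map_sub, η.Nmap_t_apply, hv, sub_self]
  have h1 := congrFun h0 ⟨IsLocalRing.maximalIdeal V, inferInstance⟩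
  rw [Nmap_apply η j _ ⟨IsLocalRing.maximalIdeal V, inferInstance⟩ 𝔭' h𝔭'] at h1
  have h2 : (y - η.t R r₀) 𝔭' = 0 := (map_eq_zero _).1 h1
  exact sub_eq_zero.1 h2

end compare

/-- If `V` dominates the valuation ring `R`, generic components in `V` come from `R`. -/
theorem exists_of_dominating {R : Type u} [CommRing R] [IsDomain R]
    [ValuationRing R] {Ω : Type u} [Field Ω] (V : ValuationSubring Ω) (j : R →+* V)
    (hj : Function.Injective j)
    (hdom : IsLocalRing.maximalIdeal R = (IsLocalRing.maximalIdeal V).comap j)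
    (c₀ : (⊥ : Ideal R).ResidueField) (v : V)
    (hv : algebraMap V (⊥ : Ideal V).ResidueField v =
      Ideal.ResidueField.map (⊥ : Ideal R) (⊥ : Ideal V) j (bot_eq_comap_bot V j hj) c₀) :
    ∃ r₀ : R, algebraMap R (⊥ : Ideal R).ResidueField r₀ = c₀ := by
  rcases ValuationRing.isInteger_or_isInteger R c₀ with ⟨r₀, hr₀⟩ | ⟨m, hm⟩
  · exact ⟨r₀, hr₀⟩
  · by_cases hc0 : c₀ = 0
    · exact ⟨0, by rw [hc0, map_zero]⟩
    by_cases hmu : IsUnit m
    · obtain ⟨u, rfl⟩ := hmu
      refine ⟨(↑u⁻¹ : R), ?_⟩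
      have h1 : algebraMap R (⊥ : Ideal R).ResidueField (↑u⁻¹ : R) *
          algebraMap R (⊥ : Ideal R).ResidueField (u : R) = 1 := by
        rw [← map_mul, Units.inv_mul, map_one]
      rw [hm] at h1
      have h2 : c₀ * c₀⁻¹ = 1 := mul_inv_cancel₀ hc0
      have h3 : c₀⁻¹ ≠ 0 := inv_ne_zero hc0
      exact mul_right_cancel₀ h3 (h1.trans h2.symm)
    · exfalso
      have hm𝔪 : m ∈ IsLocalRing.maximalIdeal R := (IsLocalRing.mem_maximalIdeal m).2 hmu
      rw [hdom, Ideal.mem_comap] at hm𝔪
      have h1 : Ideal.ResidueField.map (⊥ : Ideal R) (⊥ : Ideal V) j (bot_eq_comap_bot V j hj) c₀ *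
          Ideal.ResidueField.map (⊥ : Ideal R) (⊥ : Ideal V) j (bot_eq_comap_bot V j hj) c₀⁻¹
          = 1 := by
        rw [← map_mul, mul_inv_cancel₀ hc0, map_one]
      rw [← hm, Ideal.ResidueField.map_algebraMap, ← hv, ← map_mul] at h1
      have h2 : v * j m = 1 := algebraMap_bot_injective V (h1.trans (map_one _).symm)
      have h3 : IsUnit (j m) := IsUnit.of_mul_eq_one v (by rw [mul_comm]; exact h2)
      exact (IsLocalRing.mem_maximalIdeal _).1 hm𝔪 h3

/-- If f : A → B is an integral ring map with Spec(f) surjective, then an element of N_η(A) lies in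
M_η(A) if and only if its image under N_η(f) lies in M_η(B). Here η is a natural transformation from
the identity of the category of fields to an endofunctor F with F(η_K) bijective and η_K purely
inseparable for every field K, N_η(A) is the product of the F(k(p)) over the primes p of A with
diagonal map t_A, and M_η(A) ⊆ N_η(A) is the subring of elements sent into the range of t_R by every
ring map from A to a valuation ring R at whose fraction field η is bijective; q_A : A → M_η(A) is
the corestriction of t_A. -/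
theorem result (η : EtaPt.FieldEndo.{u}) {A B : Type u} [CommRing A] [CommRing B] (f : A →+* B)
    (hf : f.IsIntegral) (hs : Function.Surjective (PrimeSpectrum.comap f)) (x : η.N A) :
    x ∈ η.M A ↔ η.Nmap f x ∈ η.M B := by
  refine ⟨fun hx => Nmap_mem_M η f hx, fun hx => ?_⟩
  intro R _ _ _ hR g
  classical
  let K := FractionRing R
  let Ω := AlgebraicClosure K
  let ι : R →+* Ω := (algebraMap K Ω).comp (algebraMap R K)
  have hι : Function.Injective ι :=
    (algebraMap K Ω).injective.comp (IsFractionRing.injective R K)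
  obtain ⟨gt, hgt⟩ := Groth.Agent.Lib.helper2.ExtendHom.exists_extension_of_surjective f hf hs K ((algebraMap R K).comp g)
  have hgt' : ∀ a, gt (f a) = ι (g a) := fun a => congrArg (fun h => h a) hgt
  have hΩ : Function.Bijective (η.eta Ω) := eta_bijective_of_perfectField η Ω
  set y := η.Nmap g x with hy
  have key : ∀ 𝔭' : PrimeSpectrum R, ∃ (V : ValuationSubring Ω) (j : R →+* V) (v : V),
      Function.Injective j ∧ 𝔭'.asIdeal = (IsLocalRing.maximalIdeal V).comap j ∧
        η.t V v = η.Nmap j y := by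
    intro 𝔭'
    obtain ⟨V, j, hjι, hdom⟩ := exists_valuationSubring_dominating ι hι 𝔭'
    have hjinj : Function.Injective j := by
      intro a b hab
      apply hι
      rw [← hjι, ← hjι, hab]
    have hgtV : ∀ b : B, gt b ∈ V.toSubring := by
      intro b
      obtain ⟨P, hPm, hP⟩ := hf b
      have h1 : Polynomial.eval₂ (gt.comp f) (gt b) P = 0 := by
        rw [← Polynomial.hom_eval₂, hP, map_zero]
      have h2 : gt.comp f = (V.subtype).comp (j.comp g) := by
        refine RingHom.ext (fun a => ?_)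
        exact (hgt' a).trans (hjι (g a)).symm
      rw [h2, ← Polynomial.eval₂_map] at h1
      have h3 : IsIntegral V (gt b) := ⟨P.map (j.comp g), hPm.map _, h1⟩
      obtain ⟨w, hw⟩ := IsIntegrallyClosed.isIntegral_iff.1 h3
      rw [← hw]
      exact w.2
    let g' : B →+* V := gt.codRestrict V.toSubring hgtV
    have hsq : g'.comp f = j.comp g := by
      refine RingHom.ext (fun a => ?_)
      apply Subtype.ext
      exact (hgt' a).trans (hjι (g a)).symm
    have hVin : η.InV V := InV_of_eta_bijective η Ω hΩ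
    obtain ⟨v, hv⟩ := hx V hVin g'
    refine ⟨V, j, v, hjinj, hdom, ?_⟩
    rw [hv, ← Nmap_comp, hsq, Nmap_comp]
  have hb0 : Function.Bijective (η.eta (⊥ : Ideal R).ResidueField) := eta_bijective_of_InV η hR _
  obtain ⟨c₀, hc₀⟩ := hb0.2 (y ⟨⊥, Ideal.isPrime_bot⟩)
  obtain ⟨V, j, v, hjinj, hdom, hv⟩ := key ⟨IsLocalRing.maximalIdeal R, inferInstance⟩
  obtain ⟨r₀, hr₀⟩ := exists_of_dominating V j hjinj hdom c₀ v
    (generic_compare η V j hjinj y v hv c₀ hc₀.symm)
  refine ⟨r₀, ?_⟩
  funext 𝔭'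
  obtain ⟨V', j', v', hj'inj, hdom', hv'⟩ := key 𝔭'
  have h1 : v' = j' r₀ := eq_of_generic η V' j' hj'inj y v' hv' r₀ (by rw [hr₀]; exact hc₀.symm)
  rw [h1] at hv'
  exact (component_compare η V' j' y r₀ hv' 𝔭' hdom').symm


end Groth.Agent.S13816
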