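import Groth.Statements.S13818
import Groth.Agent.Lib.Helper2.EtaPtRel

set_option autoImplicit false
universe u
open EtaPt

namespace Groth.Agent.S13818


open Groth.Agent.Lib.helper2.EtaPtLib

theorem exists_factor_rel (η : EtaPt.FieldEndo.{u}) {A B : Type u} [CommRing A] [CommRing B]
    (hA : (minimalPrimes A).Finite) (f : A →+* B)
    (hs : Function.Surjective (PrimeSpectrum.comap f)) (Q : PrimeSpectrum (η.rel f)) :
    ∃ φ : Q.asIdeal.ResidueField →+* η.obj (PrimeSpectrum.comap (η.qRel f) Q).asIdeal.ResidueField,
      φ.comp (Ideal.ResidueField.map (PrimeSpectrum.comap (η.qRel f) Q).asIdeal Q.asIdeal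
        (η.qRel f) rfl) = η.eta (PrimeSpectrum.comap (η.qRel f) Q).asIdeal.ResidueField := by
  let π : η.rel f →+* η.obj (PrimeSpectrum.comap (η.qRel f) Q).asIdeal.ResidueField :=
    (proj η A (PrimeSpectrum.comap (η.qRel f) Q)).comp (sigma η f hs)
  have hQ : Q.asIdeal = RingHom.ker π := by
    have h := congrArg PrimeSpectrum.asIdeal (eq_comap_sigma_Qp η f hs hA Q)
    rw [h]
    rfl
  have h1 : Q.asIdeal ≤ RingHom.ker π := hQ.le
  have h2 : Q.asIdeal.primeCompl ≤ (IsUnit.submonoid _).comap π := by
    intro s hs'
    show IsUnit (π s)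
    apply IsUnit.mk0
    intro h0
    apply hs'
    show s ∈ Q.asIdeal
    rw [hQ]
    exact RingHom.mem_ker.2 h0
  refine ⟨Ideal.ResidueField.lift Q.asIdeal π h1 h2, ?_⟩
  apply Ideal.ResidueField.ringHom_ext
  ext a
  simp only [RingHom.comp_apply]
  rw [Ideal.ResidueField.map_algebraMap, Ideal.ResidueField.lift_algebraMap]
  show proj η A _ (sigma η f hs (η.qRel f a)) = _
  rw [sigma_qRel]
  rfl

/-- For a ring map f : A → B with A having finitely many minimal prime ideals and Spec(f) surjective:
for every prime Q of (B/A)_η over the prime P of A, η at k(P) factors through the residue field map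
k(P) → k(Q), and N_η(q_{B/A}) is bijective. Here η is a natural transformation from the identity of
the category of fields to an endofunctor F with F(η_K) bijective and η_K purely inseparable for
every field K, N_η(A) is the product of the F(k(p)) over the primes p of A with diagonal map t_A,
and M_η(A) ⊆ N_η(A) is the subring of elements sent into the range of t_R by every ring map from A
to a valuation ring R at whose fraction field η is bijective; q_A : A → M_η(A) is the corestriction
of t_A. For a ring map f : A → B, (B/A)_η ⊆ B denotes the subring of elements b with t_B(b) in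
N_η(f)(M_η(A)) (the image in B of the fibre product of M_η(A) and B over M_η(B)), and q_{B/A} : A →
(B/A)_η the corestriction of f. -/
theorem result (η : EtaPt.FieldEndo.{u}) {A B : Type u} [CommRing A] [CommRing B] (hA : (minimalPrimes A).Finite)
    (f : A →+* B) (hs : Function.Surjective (PrimeSpectrum.comap f)) :
    (∀ Q : PrimeSpectrum (η.rel f),
        ∃ φ : Q.asIdeal.ResidueField →+* η.obj (PrimeSpectrum.comap (η.qRel f) Q).asIdeal.ResidueField,
          φ.comp (Ideal.ResidueField.map (PrimeSpectrum.comap (η.qRel f) Q).asIdeal Q.asIdeal (η.qRel f) rfl) =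
            η.eta (PrimeSpectrum.comap (η.qRel f) Q).asIdeal.ResidueField) ∧
      Function.Bijective (η.Nmap (η.qRel f)) := by
  classical
  refine ⟨fun Q => exists_factor_rel η hA f hs Q, ?_⟩
  apply Nmap_bijective_of
  · refine ⟨fun Q1 Q2 h12 => ?_, fun p => ?_⟩
    · rw [eq_comap_sigma_Qp η f hs hA Q1, eq_comap_sigma_Qp η f hs hA Q2, h12]
    · obtain ⟨Q, rfl⟩ := hs p
      exact ⟨PrimeSpectrum.comap (η.rel f).subtype Q, PrimeSpectrum.ext rfl⟩
  · intro Q
    obtain ⟨φ, hφ⟩ := exists_factor_rel η hA f hs Q
    exact map_bijective_of_factor η _ φ hφ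

end Groth.Agent.S13818
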