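import Groth.Statements.S13820
import Groth.Agent.Lib.Helper2.EtaPtRel
import Groth.Agent.Lib.Helper2.EtaPtCore

set_option autoImplicit false
universe u
open EtaPt

namespace Groth.Agent.S13820

open Groth.Agent.Lib.helper2.EtaPtLib

/-- Let A have finitely many minimal prime ideals and let B be an A-algebra with Spec B → Spec A
surjective, C the integral closure of A in B; then the inclusion C ⊆ B carries (C/A)_η onto (B/A)_η.
Here η is a natural transformation from the identity of the category of fields to an endofunctor F
with F(η_K) bijective and η_K purely inseparable for every field K, N_η(A) is the product of the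
F(k(p)) over the primes p of A with diagonal map t_A, and M_η(A) ⊆ N_η(A) is the subring of elements
sent into the range of t_R by every ring map from A to a valuation ring R at whose fraction field η
is bijective; q_A : A → M_η(A) is the corestriction of t_A. For a ring map f : A → B, (B/A)_η ⊆ B
denotes the subring of elements b with t_B(b) in N_η(f)(M_η(A)) (the image in B of the fibre product
of M_η(A) and B over M_η(B)), and q_{B/A} : A → (B/A)_η the corestriction of f. -/
theorem result (η : EtaPt.FieldEndo.{u}) (A B : Type u) [CommRing A] [CommRing B] [Algebra A B]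
    (hA : (minimalPrimes A).Finite) (hs : Function.Surjective (PrimeSpectrum.comap (algebraMap A B))) :
    (η.rel (algebraMap A (integralClosure A B))).map (integralClosure A B).val.toRingHom =
      η.rel (algebraMap A B) := by
  classical
  set C := integralClosure A B with hC
  set ι : C →+* B := C.val.toRingHom with hι
  set fC : A →+* C := algebraMap A C with hfC
  set fB : A →+* B := algebraMap A B with hfB
  have hcomp : ι.comp fC = fB := by
    ext a
    rfl
  have hιinj : Function.Injective ι := Subtype.val_injective
  ext b
  constructor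
  · rintro ⟨c, hc, rfl⟩
    obtain ⟨x, hx, hxc⟩ := (mem_rel_iff η fC c).1 hc
    refine (mem_rel_iff η fB (ι c)).2 ⟨x, hx, ?_⟩
    rw [← hcomp, Nmap_comp, hxc, η.Nmap_t_apply]
  · intro hb
    obtain ⟨x, hx, hxb⟩ := (mem_rel_iff η fB b).1 hb
    -- `b` is integral over `A`
    have hbint : IsIntegral A b := by
      obtain ⟨P, hPm, hP⟩ := qRel_isIntegral η fB hs hA ⟨b, hb⟩
      refine ⟨P, hPm, ?_⟩
      have h1 := congrArg (η.rel fB).subtype hP
      rw [Polynomial.hom_eval₂, map_zero] at h1
      exact h1
    let c : C := ⟨b, hbint⟩
    refine ⟨c, ?_, rfl⟩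
    refine (mem_rel_iff η fC c).2 ⟨x, hx, ?_⟩
    -- the difference lies in `M C` and vanishes at minimal primes
    set d : η.N C := η.t C c - η.Nmap fC x with hd
    have hdM : d ∈ η.M C := Subring.sub_mem _ (η.t_mem_M C c) (Nmap_mem_M η fC hx)
    have hNd : η.Nmap ι d = 0 := by
      rw [hd, map_sub, η.Nmap_t_apply, ← Nmap_comp, hcomp, hxb]
      exact sub_self _
    have hd0 : d = 0 := by
      funext P
      obtain ⟨P0, hP0min, hP0le⟩ := Ideal.exists_minimalPrimes_le (I := (⊥ : Ideal C))
        (J := P.asIdeal) bot_le
      have hP0 : P0.IsPrime := hP0min.1.1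
      have hmin' : P0 ∈ ((⊥ : Ideal B).comap ι).minimalPrimes := by
        rw [Ideal.comap_bot_of_injective ι hιinj]
        exact hP0min
      obtain ⟨Q, hQ, -, hQP0⟩ := Ideal.exists_comap_eq_of_mem_minimalPrimes ι P0 hmin'
      have h1 := congrFun hNd ⟨Q, hQ⟩
      rw [Nmap_apply η ι d ⟨Q, hQ⟩ ⟨P0, hP0⟩ hQP0.symm] at h1
      have h2 : d ⟨P0, hP0⟩ = 0 := by
        have := (map_eq_zero (η.map (Ideal.ResidueField.map P0 Q ι hQP0.symm))).1 h1
        exact this
      exact eq_zero_of_le η hdM ⟨P0, hP0⟩ P hP0le h2
    have := sub_eq_zero.1 hd0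
    exact this.symm

end Groth.Agent.S13820
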