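import Groth.Statements.S13821
import Groth.Agent.Lib.Helper2.EtaPtRel

set_option autoImplicit false
universe u
open EtaPt

namespace Groth.Agent.S13821


open Groth.Agent.Lib.helper2.EtaPtLib

/-- Let A and B have finitely many minimal prime ideals and let f : A → B, g : B → C be ring maps with
Spec(f) and Spec(g) surjective. If q_{B/A} and q_{C/B} are bijective then so is q_{C/A}; and if g is
injective and q_{C/A} is bijective then q_{B/A} is bijective. Here η is a natural transformation
from the identity of the category of fields to an endofunctor F with F(η_K) bijective and η_K purely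
inseparable for every field K, N_η(A) is the product of the F(k(p)) over the primes p of A with
diagonal map t_A, and M_η(A) ⊆ N_η(A) is the subring of elements sent into the range of t_R by every
ring map from A to a valuation ring R at whose fraction field η is bijective; q_A : A → M_η(A) is
the corestriction of t_A. For a ring map f : A → B, (B/A)_η ⊆ B denotes the subring of elements b
with t_B(b) in N_η(f)(M_η(A)) (the image in B of the fibre product of M_η(A) and B over M_η(B)), and
q_{B/A} : A → (B/A)_η the corestriction of f. (The published statement assumes finitely many minimal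
primes only for A; this row also assumes it for B, under which the relative ring of g is
introduced.) -/
theorem result (η : EtaPt.FieldEndo.{u}) {A B C : Type u} [CommRing A] [CommRing B] [CommRing C]
    (hA : (minimalPrimes A).Finite) (hB : (minimalPrimes B).Finite) (f : A →+* B) (g : B →+* C)
    (hf : Function.Surjective (PrimeSpectrum.comap f)) (hg : Function.Surjective (PrimeSpectrum.comap g)) :
    (Function.Bijective (η.qRel f) → Function.Bijective (η.qRel g) → Function.Bijective (η.qRel (g.comp f))) ∧
      (Function.Injective g → Function.Bijective (η.qRel (g.comp f)) → Function.Bijective (η.qRel f)) := by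
  classical
  constructor
  · intro hbf hbg
    have hfinj : Function.Injective f := fun a a' h =>
      hbf.injective (Subtype.ext h)
    have hginj : Function.Injective g := fun b b' h =>
      hbg.injective (Subtype.ext h)
    constructor
    · intro a a' h
      have h1 : g (f a) = g (f a') := congrArg Subtype.val h
      exact hfinj (hginj h1)
    · rintro ⟨c, hc⟩
      obtain ⟨x, hx, hxc⟩ := (mem_rel_iff η (g.comp f) c).1 hc
      rw [Nmap_comp] at hxc
      have hcg : c ∈ η.rel g := (mem_rel_iff η g c).2 ⟨η.Nmap f x, Nmap_mem_M η f hx, hxc⟩
      obtain ⟨b, hb⟩ := hbg.surjective ⟨c, hcg⟩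
      have hbc : g b = c := congrArg Subtype.val hb
      have h2 : η.Nmap g (η.t B b) = η.Nmap g (η.Nmap f x) := by
        rw [η.Nmap_t_apply, hbc, hxc]
      have h3 := Nmap_injective_of_surjective η g hg h2
      have hbf' : b ∈ η.rel f := (mem_rel_iff η f b).2 ⟨x, hx, h3.symm⟩
      obtain ⟨a, ha⟩ := hbf.surjective ⟨b, hbf'⟩
      have hab : f a = b := congrArg Subtype.val ha
      refine ⟨a, Subtype.ext ?_⟩
      show g (f a) = c
      rw [hab, hbc]
  · intro hginj hb
    constructor
    · intro a a' h
      have h1 : f a = f a' := congrArg Subtype.val h
      exact hb.injective (Subtype.ext (by show g (f a) = g (f a'); rw [h1]))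
    · rintro ⟨b, hbm⟩
      obtain ⟨x, hx, hxb⟩ := (mem_rel_iff η f b).1 hbm
      have hgb : g b ∈ η.rel (g.comp f) := by
        refine (mem_rel_iff η (g.comp f) (g b)).2 ⟨x, hx, ?_⟩
        rw [Nmap_comp, hxb, η.Nmap_t_apply]
      obtain ⟨a, ha⟩ := hb.surjective ⟨g b, hgb⟩
      have hab : g (f a) = g b := congrArg Subtype.val ha
      exact ⟨a, Subtype.ext (hginj hab)⟩

end Groth.Agent.S13821
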