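import Groth.Statements.S13822
import Groth.Agent.Lib.Helper2.EtaPtRel
import Mathlib.RingTheory.Flat.FaithfullyFlat.Algebra

set_option autoImplicit false
universe u
open scoped TensorProduct
open EtaPt

namespace Groth.Agent.S13822

open Groth.Agent.Lib.helper2.EtaPtLib

/-- Let A → A' be faithfully flat with A and A' having finitely many minimal prime ideals, and B an
A-algebra with Spec B → Spec A surjective; if q_{(A' ⊗ B)/A'} is bijective then q_{B/A} is
bijective. Here η is a natural transformation from the identity of the category of fields to an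
endofunctor F with F(η_K) bijective and η_K purely inseparable for every field K, N_η(A) is the
product of the F(k(p)) over the primes p of A with diagonal map t_A, and M_η(A) ⊆ N_η(A) is the
subring of elements sent into the range of t_R by every ring map from A to a valuation ring R at
whose fraction field η is bijective; q_A : A → M_η(A) is the corestriction of t_A. For a ring map f
: A → B, (B/A)_η ⊆ B denotes the subring of elements b with t_B(b) in N_η(f)(M_η(A)) (the image in B
of the fibre product of M_η(A) and B over M_η(B)), and q_{B/A} : A → (B/A)_η the corestriction of f. -/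
theorem result (η : EtaPt.FieldEndo.{u}) (A A' B : Type u) [CommRing A] [CommRing A'] [CommRing B]
    [Algebra A A'] [Algebra A B] [Module.FaithfullyFlat A A']
    (hA : (minimalPrimes A).Finite) (hA' : (minimalPrimes A').Finite)
    (hs : Function.Surjective (PrimeSpectrum.comap (algebraMap A B)))
    (h : Function.Bijective (η.qRel (Algebra.TensorProduct.includeLeftRingHom : A' →+* A' ⊗[A] B))) :
    Function.Bijective (η.qRel (algebraMap A B)) := by
  classical
  set φ : A →+* B := algebraMap A B with hφ
  set α : A →+* A' := algebraMap A A' with hα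
  set incL : A' →+* A' ⊗[A] B := Algebra.TensorProduct.includeLeftRingHom with hincL
  set incR : B →+* A' ⊗[A] B :=
    (Algebra.TensorProduct.includeRight : B →ₐ[A] A' ⊗[A] B).toRingHom with hincR
  have hsq : incL.comp α = incR.comp φ := Algebra.TensorProduct.includeLeftRingHom_comp_algebraMap
  have hαinj : Function.Injective α := FaithfulSMul.algebraMap_injective A A'
  have hinjL : ∀ a' : A', incL a' = 0 → a' = 0 := by
    intro a' ha'
    have h1 : η.qRel incL a' = 0 := Subtype.ext ha'
    exact h.1 (h1.trans (map_zero _).symm)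
  refine ⟨fun a₁ a₂ h12 => ?_, fun b => ?_⟩
  · rw [← sub_eq_zero]
    apply hαinj
    rw [map_zero]
    apply hinjL
    have h1 : φ (a₁ - a₂) = 0 := by
      have := congrArg Subtype.val h12
      rw [map_sub]
      exact sub_eq_zero.2 this
    have h2 : incL (α (a₁ - a₂)) = incR (φ (a₁ - a₂)) := congrArg (fun g => g (a₁ - a₂)) hsq
    rw [h2, h1, map_zero]
  · obtain ⟨b, hb⟩ := b
    obtain ⟨m, hm, hmb⟩ := (mem_rel_iff η φ b).1 hb
    -- `1 ⊗ b` lies in `rel incL`
    have hz : incR b ∈ η.rel incL := by
      refine (mem_rel_iff η incL _).2 ⟨η.Nmap α m, Nmap_mem_M η α hm, ?_⟩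
      rw [← Nmap_comp, hsq, Nmap_comp, hmb, η.Nmap_t_apply]
    obtain ⟨a', ha'⟩ := h.2 ⟨incR b, hz⟩
    have ha'' : a' ⊗ₜ[A] (1 : B) = (1 : A') ⊗ₜ[A] b := congrArg Subtype.val ha'
    -- descend along the faithfully flat `A → A'`
    let Rg : Submodule A B := LinearMap.range (Algebra.linearMap A B)
    let π : B →ₗ[A] B ⧸ Rg := Rg.mkQ
    have h1 : (1 : A') ⊗ₜ[A] π b = 0 := by
      have e1 : (LinearMap.lTensor A' π) (a' ⊗ₜ[A] (1 : B)) = a' ⊗ₜ[A] π 1 := rfl
      have e2 : (LinearMap.lTensor A' π) ((1 : A') ⊗ₜ[A] b) = (1 : A') ⊗ₜ[A] π b := rfl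
      have e3 : π 1 = 0 := by
        rw [Submodule.mkQ_apply, Submodule.Quotient.mk_eq_zero]
        exact ⟨1, by simp⟩
      rw [← e2, ← ha'', e1, e3, TensorProduct.tmul_zero]
    have h2 : π b = 0 := (Module.FaithfullyFlat.one_tmul_eq_zero_iff A (B ⧸ Rg) (π b)).1 h1
    rw [Submodule.mkQ_apply, Submodule.Quotient.mk_eq_zero] at h2
    obtain ⟨a, ha⟩ := h2
    exact ⟨a, Subtype.ext ha⟩

end Groth.Agent.S13822
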