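import Groth.Statements.S13823
import Groth.Agent.Lib.Helper2.EtaPtRel
import Mathlib.RingTheory.Flat.FaithfullyFlat.Algebra
import Mathlib.RingTheory.Flat.Basic

set_option autoImplicit false
universe u
open EtaPt

namespace Groth.Agent.S13823

open Groth.Agent.Lib.helper2.EtaPtLib

theorem map_mem_nonZeroDivisors_of_flat {A A' : Type u} [CommRing A] [CommRing A'] [Algebra A A']
    [Module.Flat A A'] {s : A} (hs : s ∈ nonZeroDivisors A) :
    algebraMap A A' s ∈ nonZeroDivisors A' := by
  have h1 : IsSMulRegular A s := by
    intro x y hxy
    have h2 : (x - y) * s = 0 := by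
      have : s * x = s * y := hxy
      rw [sub_mul, mul_comm x, mul_comm y, this, sub_self]
    exact sub_eq_zero.1 ((mem_nonZeroDivisors_iff_right.1 hs) _ h2)
  have h3 : IsSMulRegular A' (algebraMap A A' s) := IsSMulRegular.of_flat h1
  rw [mem_nonZeroDivisors_iff_right]
  intro x hx
  apply h3
  show algebraMap A A' s * x = algebraMap A A' s * 0
  rw [mul_zero, mul_comm, hx]

/-- Let A → A' be faithfully flat with A and A' having finitely many minimal prime ideals, and let Ā, Ā'
be the integral closures of A, A' in their total rings of fractions; if q_{Ā'/A'} is bijective then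
q_{Ā/A} is bijective. Here η is a natural transformation from the identity of the category of fields
to an endofunctor F with F(η_K) bijective and η_K purely inseparable for every field K, N_η(A) is
the product of the F(k(p)) over the primes p of A with diagonal map t_A, and M_η(A) ⊆ N_η(A) is the
subring of elements sent into the range of t_R by every ring map from A to a valuation ring R at
whose fraction field η is bijective; q_A : A → M_η(A) is the corestriction of t_A. For a ring map f
: A → B, (B/A)_η ⊆ B denotes the subring of elements b with t_B(b) in N_η(f)(M_η(A)) (the image in B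
of the fibre product of M_η(A) and B over M_η(B)), and q_{B/A} : A → (B/A)_η the corestriction of f. -/
theorem result (η : EtaPt.FieldEndo.{u}) (A A' : Type u) [CommRing A] [CommRing A'] [Algebra A A'] [Module.FaithfullyFlat A A']
    (hA : (minimalPrimes A).Finite) (hA' : (minimalPrimes A').Finite)
    (h : Function.Bijective (η.qRel (algebraMap A' (integralClosure A' (FractionRing A'))))) :
    Function.Bijective (η.qRel (algebraMap A (integralClosure A (FractionRing A)))) := by
  classical
  set K := FractionRing A with hK
  set K' := FractionRing A' with hK'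
  set ι : A →+* A' := algebraMap A A' with hι
  set Ab := integralClosure A K with hAb
  set Ab' := integralClosure A' K' with hAb'
  have hle : nonZeroDivisors A ≤ (nonZeroDivisors A').comap ι := fun s hs =>
    map_mem_nonZeroDivisors_of_flat hs
  set κ : K →+* K' := IsLocalization.map K' ι hle with hκ
  have hκι : ∀ a : A, κ (algebraMap A K a) = algebraMap A' K' (ι a) := fun a =>
    IsLocalization.map_eq hle a
  -- `κ` maps `Ā` into `Ā'`
  have hκint : ∀ b : K, IsIntegral A b → IsIntegral A' (κ b) := by
    intro b hb
    refine hb.map_of_comp_eq ι κ ?_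
    ext a
    exact (hκι a).symm
  let κb : Ab →+* Ab' := (κ.comp Ab.val.toRingHom).codRestrict Ab'.toSubring
    (fun b => hκint b b.2)
  set φ : A →+* Ab := algebraMap A Ab with hφ
  set φ' : A' →+* Ab' := algebraMap A' Ab' with hφ'
  have hsq : κb.comp φ = φ'.comp ι := by
    ext a
    exact hκι a
  refine ⟨fun a₁ a₂ h12 => ?_, fun b => ?_⟩
  · have h1 := congrArg Subtype.val (congrArg Subtype.val h12)
    exact IsFractionRing.injective A K h1
  · obtain ⟨b, hb⟩ := b
    obtain ⟨m, hm, hmb⟩ := (mem_rel_iff η φ b).1 hb
    have hz : κb b ∈ η.rel φ' := by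
      refine (mem_rel_iff η φ' _).2 ⟨η.Nmap ι m, Nmap_mem_M η ι hm, ?_⟩
      rw [← Nmap_comp, ← hsq, Nmap_comp, hmb, η.Nmap_t_apply]
    obtain ⟨a', ha'⟩ := h.2 ⟨κb b, hz⟩
    have ha'' : algebraMap A' K' a' = κ (b : K) :=
      congrArg Subtype.val (congrArg Subtype.val ha')
    obtain ⟨⟨x, s⟩, hxs⟩ := IsLocalization.surj (nonZeroDivisors A) (b : K)
    have hxs' : (b : K) * algebraMap A K s = algebraMap A K x := hxs
    have h1 : algebraMap A' K' (a' * ι s) = algebraMap A' K' (ι x) := by
      rw [map_mul, ha'', ← hκι, ← hκι, ← map_mul, hxs']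
    have h2 : a' * ι s = ι x := IsFractionRing.injective A' K' h1
    have h3 : x ∈ ((Ideal.span {(s : A)}).map ι).comap ι := by
      rw [Ideal.mem_comap, Ideal.map_span, Set.image_singleton, ← h2]
      exact Ideal.mul_mem_left _ _ (Ideal.subset_span rfl)
    rw [Ideal.comap_map_eq_self_of_faithfullyFlat, Ideal.mem_span_singleton'] at h3
    obtain ⟨c, hc⟩ := h3
    refine ⟨c, ?_⟩
    apply Subtype.ext
    apply Subtype.ext
    show algebraMap A K c = (b : K)
    have hu : IsUnit (algebraMap A K s) := IsLocalization.map_units K s
    apply hu.mul_left_injective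
    show algebraMap A K c * algebraMap A K s = (b : K) * algebraMap A K s
    rw [hxs', ← map_mul, hc]

end Groth.Agent.S13823
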