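import Groth.Statements.S13825
import Groth.Agent.Lib.Helper2.EtaPtLoc

set_option autoImplicit false
universe u
open EtaPt

namespace Groth.Agent.S13825

open Groth.Agent.Lib.helper2.EtaPtLib

/-- For a commutative ring A with finitely many minimal prime ideals and f ∈ A, M_η(A)[1/f] → M_η(A_f)
is bijective: every element of M_η(A_f) times a power of the image of f is the image of an element
of M_η(A), and an element of M_η(A) with zero image in N_η(A_f) is killed by a power of t_A(f). Here
η is a natural transformation from the identity of the category of fields to an endofunctor F with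
F(η_K) bijective and η_K purely inseparable for every field K, N_η(A) is the product of the F(k(p))
over the primes p of A with diagonal map t_A, and M_η(A) ⊆ N_η(A) is the subring of elements sent
into the range of t_R by every ring map from A to a valuation ring R at whose fraction field η is
bijective; q_A : A → M_η(A) is the corestriction of t_A. -/
theorem result (η : EtaPt.FieldEndo.{u}) (A : Type u) [CommRing A] (hA : (minimalPrimes A).Finite) (f : A) :
    (∀ y ∈ η.M (Localization.Away f), ∃ x ∈ η.M A, ∃ n : ℕ,
        y * η.t (Localization.Away f) (algebraMap A (Localization.Away f) f) ^ n =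
          η.Nmap (algebraMap A (Localization.Away f)) x) ∧
      ∀ x ∈ η.M A, η.Nmap (algebraMap A (Localization.Away f)) x = 0 → ∃ n : ℕ, η.t A f ^ n * x = 0 := by
  refine ⟨fun y hy => ?_, fun x _ hx0 => ?_⟩
  · obtain ⟨x, hx, n, hn⟩ := exists_mul_pow_mem_M η hA f y hy
    exact ⟨x, hx, n, hn⟩
  · refine ⟨1, ?_⟩
    rw [pow_one]
    funext p
    rw [Pi.mul_apply]
    by_cases hf : f ∈ p.asIdeal
    · have : η.t A f p = 0 := by
        rw [t_apply, (Ideal.algebraMap_residueField_eq_zero).2 hf, map_zero]
      rw [this, zero_mul]
      rfl
    · obtain ⟨Q, hQ⟩ := exists_prime_away f p hf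
      have h1 := congrFun hx0 Q
      rw [Nmap_apply η _ x Q p hQ] at h1
      have h2 : x p = 0 := (map_eq_zero _).1 h1
      rw [h2, mul_zero]
      rfl

end Groth.Agent.S13825
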