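import Groth.Statements.S13826
import Groth.Agent.Lib.Helper2.EtaPtSpec
import Groth.Agent.Lib.Helper2.SpecResidue
import Groth.Agent.S13802
import Groth.Agent.S13806

set_option autoImplicit false
universe u
open EtaPt

namespace Groth.Agent.S13826


open Groth.Agent.Lib.helper2.EtaPtLib Groth.Agent.Lib.helper2.SpecResidue

/-- For the identity endofunctor, ring maps out of `M A` to a field are determined on `A`. -/
theorem hom_ext_field (A : Type u) [CommRing A] (hA : (minimalPrimes A).Finite)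
    (K : Type u) [Field K] (φ₁ φ₂ : EtaPt.FieldEndo.ident.{u}.M A →+* K)
    (h : φ₁.comp (EtaPt.FieldEndo.ident.{u}.q A) = φ₂.comp (EtaPt.FieldEndo.ident.{u}.q A)) :
    φ₁ = φ₂ := by
  classical
  let η := EtaPt.FieldEndo.ident.{u}
  have hq : ∀ a, φ₁ (η.q A a) = φ₂ (η.q A a) := fun a => congrArg (fun f => f a) h
  let Q₁ : PrimeSpectrum (η.M A) := ⟨RingHom.ker φ₁, RingHom.ker_isPrime φ₁⟩
  let Q₂ : PrimeSpectrum (η.M A) := ⟨RingHom.ker φ₂, RingHom.ker_isPrime φ₂⟩
  have hPP : PrimeSpectrum.comap (η.q A) Q₁ = PrimeSpectrum.comap (η.q A) Q₂ := by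
    apply PrimeSpectrum.ext
    ext a
    show φ₁ (η.q A a) = 0 ↔ φ₂ (η.q A a) = 0
    rw [hq]
  have hQ₁ := eq_Qp η hA Q₁
  have hQ₂ := eq_Qp η hA Q₂
  rw [← hPP] at hQ₂
  set P := PrimeSpectrum.comap (η.q A) Q₁ with hP
  have hker₁ : ∀ z : η.M A, (z : η.N A) P = 0 → φ₁ z = 0 := by
    intro z hz
    have : z ∈ (Qp η A P).asIdeal := (mem_Qp_iff η A P z).2 hz
    rw [← hQ₁] at this
    exact this
  have hker₂ : ∀ z : η.M A, (z : η.N A) P = 0 → φ₂ z = 0 := by
    intro z hz
    have : z ∈ (Qp η A P).asIdeal := (mem_Qp_iff η A P z).2 hz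
    rw [← hQ₂] at this
    exact this
  refine RingHom.ext fun x => ?_
  obtain ⟨c', s', hs', hcs⟩ := IsFractionRing.div_surjective (A ⧸ P.asIdeal)
    (K := P.asIdeal.ResidueField) ((x : η.N A) P)
  obtain ⟨a, rfl⟩ := Ideal.Quotient.mk_surjective c'
  obtain ⟨s, rfl⟩ := Ideal.Quotient.mk_surjective s'
  have halg : ∀ b : A, algebraMap (A ⧸ P.asIdeal) P.asIdeal.ResidueField
      (Ideal.Quotient.mk _ b) = algebraMap A _ b := fun b => rfl
  rw [halg, halg] at hcs
  have hs0 : algebraMap A P.asIdeal.ResidueField s ≠ 0 := by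
    intro h0
    have h1 : algebraMap (A ⧸ P.asIdeal) P.asIdeal.ResidueField (Ideal.Quotient.mk _ s) = 0 := h0
    have h2 := (IsFractionRing.injective (A ⧸ P.asIdeal) P.asIdeal.ResidueField)
      (h1.trans (map_zero _).symm)
    exact nonZeroDivisors.ne_zero hs' h2
  have hsP : s ∉ P.asIdeal := fun hmem => hs0 (Ideal.algebraMap_residueField_eq_zero.2 hmem)
  -- z := q s * x - q a vanishes at P
  have hz : ((η.q A s * x - η.q A a : η.M A) : η.N A) P = 0 := by
    show (η.t A s) P * (x : η.N A) P - (η.t A a) P = 0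
    rw [t_apply, t_apply, ← hcs]
    show algebraMap A P.asIdeal.ResidueField s *
      (algebraMap A P.asIdeal.ResidueField a / algebraMap A P.asIdeal.ResidueField s) -
        algebraMap A P.asIdeal.ResidueField a = 0
    rw [mul_div_cancel₀ _ hs0, sub_self]
  have e1 := hker₁ _ hz
  have e2 := hker₂ _ hz
  rw [map_sub, map_mul, sub_eq_zero] at e1 e2
  have hs1 : φ₁ (η.q A s) ≠ 0 := by
    intro h0
    apply hsP
    show η.q A s ∈ Q₁.asIdeal
    exact RingHom.mem_ker.2 h0
  have : φ₁ (η.q A s) * φ₁ x = φ₁ (η.q A s) * φ₂ x := by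
    rw [e1, hq a, ← e2, hq s]
  exact mul_left_cancel₀ hs1 this

theorem residue_bijective (A : Type u) [CommRing A] (hA : (minimalPrimes A).Finite)
    (Q : PrimeSpectrum (EtaPt.FieldEndo.ident.{u}.M A)) :
    Function.Bijective (Ideal.ResidueField.map
      (PrimeSpectrum.comap (EtaPt.FieldEndo.ident.{u}.q A) Q).asIdeal Q.asIdeal
      (EtaPt.FieldEndo.ident.{u}.q A) rfl) := by
  obtain ⟨φ, hφ⟩ := exists_residue_factor EtaPt.FieldEndo.ident.{u} hA Q
  exact map_bijective_of_factor EtaPt.FieldEndo.ident.{u} _ φ hφ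

/-- For the identity endofunctor and a commutative ring A with finitely many minimal prime ideals, q_A :
A → M(A) is a seminormalization of A: Spec(q_A) is a universal homeomorphism with trivial residue
field extensions, final among ring maps out of A with these properties. Here M(A) ⊆ ∏_p k(p) is the
subring of families whose image in ∏_q k(q), for every ring map from A to a valuation ring R, is the
diagonal image of an element of R. -/
theorem result (A : Type u) [CommRing A] (hA : (minimalPrimes A).Finite) :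
    HTop.IsRingSN (EtaPt.FieldEndo.ident.{u}.q A) := by
  classical
  let η := EtaPt.FieldEndo.ident.{u}
  have hint : (η.q A).IsIntegral := Groth.Agent.S13802.result η A hA
  have hsurj : Function.Surjective (PrimeSpectrum.comap (η.q A)) := fun p =>
    ⟨Qp η A p, comap_Qp η A p⟩
  refine ⟨⟨?_, ?_⟩, ?_⟩
  · exact isUnivHomeo_Spec_of (η.q A) hint hsurj (hom_ext_field A hA)
  · rw [residueFieldsIso_Spec_iff]
    exact residue_bijective A hA
  · intro C _ ψ hψ1 hψ2
    have hψint := isIntegral_of_isUnivHomeo_Spec ψ hψ1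
    have hψbij := comap_bijective_of_isUnivHomeo_Spec ψ hψ1
    rw [residueFieldsIso_Spec_iff] at hψ2
    have hN : Function.Bijective (η.Nmap ψ) := Nmap_bijective_of η ψ hψbij hψ2
    exact Groth.Agent.S13806.result η A hA C ψ hψint hN

end Groth.Agent.S13826
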