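import Groth.Statements.S13827
import Groth.Agent.Lib.Helper2.EtaPtLoc
import Groth.Agent.S13809
import Mathlib.RingTheory.LocalProperties.Basic

set_option autoImplicit false
universe u
open EtaPt

namespace Groth.Agent.S13827

open Groth.Agent.Lib.helper2.EtaPtLib

theorem InV_atPrime (η : EtaPt.FieldEndo.{u}) (A : Type u) [CommRing A]
    (hη : ∀ p : PrimeSpectrum A, p.asIdeal ∈ minimalPrimes A →
      Function.Bijective (η.eta p.asIdeal.ResidueField))
    (𝔭 : Ideal A) [𝔭.IsPrime] [IsDomain (Localization.AtPrime 𝔭)] :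
    η.InV (Localization.AtPrime 𝔭) := by
  set L := Localization.AtPrime 𝔭 with hL
  set ℓ : A →+* L := algebraMap A L with hℓ
  let P0 : PrimeSpectrum L := ⟨⊥, Ideal.isPrime_bot⟩
  let p0 : PrimeSpectrum A := PrimeSpectrum.comap ℓ P0
  have hmin : p0.asIdeal ∈ minimalPrimes A := by
    have h1 := IsLocalization.minimalPrimes_map 𝔭.primeCompl L (⊥ : Ideal A)
    rw [Ideal.map_bot] at h1
    have h2 : (⊥ : Ideal L) ∈ (⊥ : Ideal L).minimalPrimes := by
      refine ⟨⟨Ideal.isPrime_bot, le_refl _⟩, fun J _ _ => bot_le⟩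
    rw [h1] at h2
    exact h2
  have hbij : Function.Bijective (Ideal.ResidueField.map p0.asIdeal P0.asIdeal ℓ rfl) :=
    (RingHom.surjectiveOnStalks_of_isLocalization 𝔭.primeCompl L).residueFieldMap_bijective
      p0.asIdeal P0.asIdeal rfl
  let e : p0.asIdeal.ResidueField ≃+* P0.asIdeal.ResidueField := RingEquiv.ofBijective _ hbij
  have h3 : Function.Bijective (η.eta P0.asIdeal.ResidueField) :=
    eta_bijective_of_equiv η e (hη p0 hmin)
  exact InV_of_eta_bijective η (P0.asIdeal.ResidueField) h3

/-- primes below `𝔭` come from the localization at `𝔭`. -/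
theorem exists_prime_atPrime {A : Type u} [CommRing A] (𝔭 : Ideal A) [𝔭.IsPrime]
    (p : PrimeSpectrum A) (hp : p.asIdeal ≤ 𝔭) :
    ∃ Q : PrimeSpectrum (Localization.AtPrime 𝔭),
      p.asIdeal = Q.asIdeal.comap (algebraMap A (Localization.AtPrime 𝔭)) := by
  have hdisj : Disjoint (𝔭.primeCompl : Set A) (p.asIdeal : Set A) := by
    rw [Set.disjoint_left]
    intro a ha hap
    exact ha (hp hap)
  refine ⟨⟨p.asIdeal.map (algebraMap A (Localization.AtPrime 𝔭)),
    IsLocalization.isPrime_of_isPrime_disjoint 𝔭.primeCompl _ _ p.isPrime hdisj⟩, ?_⟩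
  exact (IsLocalization.under_map_of_isPrime_disjoint 𝔭.primeCompl _ p.isPrime hdisj).symm

/-- For a normal ring A (every localization at a prime is an integrally closed domain) with finitely
many minimal prime ideals such that η is bijective at the residue field of every minimal prime, q_A
: A → M_η(A) is bijective. Here η is a natural transformation from the identity of the category of
fields to an endofunctor F with F(η_K) bijective and η_K purely inseparable for every field K,
N_η(A) is the product of the F(k(p)) over the primes p of A with diagonal map t_A, and M_η(A) ⊆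
N_η(A) is the subring of elements sent into the range of t_R by every ring map from A to a valuation
ring R at whose fraction field η is bijective; q_A : A → M_η(A) is the corestriction of t_A. -/
theorem result (η : EtaPt.FieldEndo.{u}) (A : Type u) [CommRing A] (hn : EGA4.IsNormalRing A)
    (hA : (minimalPrimes A).Finite)
    (hη : ∀ p : PrimeSpectrum A, p.asIdeal ∈ minimalPrimes A → Function.Bijective (η.eta p.asIdeal.ResidueField)) :
    Function.Bijective (η.q A) := by
  classical
  refine ⟨?_, ?_⟩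
  · rw [injective_iff_map_eq_zero]
    intro a ha
    have ha' : η.t A a = 0 := congrArg Subtype.val ha
    have hnil : IsNilpotent a := (t_eq_zero_iff η a).1 ha'
    apply eq_zero_of_localization
    intro J hJ
    haveI := hJ.isPrime
    haveI := (hn J).1
    exact (hnil.map (algebraMap A (Localization.AtPrime J))).eq_zero
  · rintro ⟨x, hx⟩
    let I : Ideal A :=
      { carrier := {r | ∃ a, η.t A r * x = η.t A a}
        add_mem' := by
          rintro r₁ r₂ ⟨a₁, h₁⟩ ⟨a₂, h₂⟩
          exact ⟨a₁ + a₂, by rw [map_add, map_add, add_mul, h₁, h₂]⟩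
        zero_mem' := ⟨0, by simp⟩
        smul_mem' := by
          rintro c r ⟨a, ha⟩
          exact ⟨c * a, by rw [smul_eq_mul, map_mul, map_mul, mul_assoc, ha]⟩ }
    suffices hI : I = ⊤ by
      have h1 : (1 : A) ∈ I := by rw [hI]; exact Submodule.mem_top
      obtain ⟨a, ha⟩ := h1
      refine ⟨a, Subtype.ext ?_⟩
      show η.t A a = x
      rw [← ha, map_one, one_mul]
    by_contra hI
    obtain ⟨𝔪, h𝔪, hle⟩ := Ideal.exists_le_maximal I hI
    haveI := h𝔪.isPrime
    haveI := (hn 𝔪).1
    haveI := (hn 𝔪).2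
    set L := Localization.AtPrime 𝔪 with hL
    set ℓ : A →+* L := algebraMap A L with hℓ
    have hInV : η.InV L := InV_atPrime η A hη 𝔪
    have hq := Groth.Agent.S13809.result η L hInV
    obtain ⟨z, hz⟩ := hq.2 ⟨η.Nmap ℓ x, Nmap_mem_M η ℓ hx⟩
    have hz' : η.t L z = η.Nmap ℓ x := congrArg Subtype.val hz
    obtain ⟨⟨a, s⟩, has⟩ := IsLocalization.surj 𝔪.primeCompl z
    have has' : z * ℓ s = ℓ a := has
    set d : η.N A := η.t A s * x - η.t A a with hd
    have hdM : d ∈ η.M A :=
      Subring.sub_mem _ (Subring.mul_mem _ (η.t_mem_M A s) hx) (η.t_mem_M A a)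
    have hNd : η.Nmap ℓ d = 0 := by
      rw [hd, map_sub, map_mul, η.Nmap_t_apply, η.Nmap_t_apply, ← hz', ← map_mul, mul_comm,
        has', sub_self]
    have hd0 : ∀ p : PrimeSpectrum A, p.asIdeal ≤ 𝔪 → d p = 0 := by
      intro p hp
      obtain ⟨Q, hQ⟩ := exists_prime_atPrime 𝔪 p hp
      have h1 := congrFun hNd Q
      rw [Nmap_apply η ℓ d Q p hQ] at h1
      exact (map_eq_zero _).1 h1
    -- the bad minimal primes
    let S : Finset (Ideal A) := hA.toFinset.filter (fun p0 => ∃ h : p0.IsPrime, d ⟨p0, h⟩ ≠ 0)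
    have hS : ¬ (S.inf (fun p0 => p0) ≤ 𝔪) := by
      rw [Ideal.IsPrime.inf_le' (inferInstance : 𝔪.IsPrime)]
      rintro ⟨p0, hp0S, hp0le⟩
      rw [Finset.mem_filter] at hp0S
      obtain ⟨-, hpr, hne⟩ := hp0S
      exact hne (hd0 ⟨p0, hpr⟩ hp0le)
    obtain ⟨s', hs'S, hs'𝔪⟩ := SetLike.not_le_iff_exists.1 hS
    have hkill : η.t A s' * d = 0 := by
      funext p
      rw [Pi.mul_apply]
      by_cases hdp : d p = 0
      · rw [hdp, mul_zero]; rfl
      · obtain ⟨p0, hp0min, hp0le⟩ := Ideal.exists_minimalPrimes_le (I := (⊥ : Ideal A))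
          (J := p.asIdeal) bot_le
        have hp0pr : p0.IsPrime := hp0min.1.1
        have hne : d ⟨p0, hp0pr⟩ ≠ 0 := fun h0 =>
          hdp (Groth.Agent.Lib.helper2.EtaPtLib.eq_zero_of_le η hdM ⟨p0, hp0pr⟩ p hp0le h0)
        have hp0S : p0 ∈ S := by
          rw [Finset.mem_filter]
          exact ⟨hA.mem_toFinset.2 hp0min, hp0pr, hne⟩
        have hs'p0 : s' ∈ p0 := by
          have := (Submodule.mem_finsetInf.1 hs'S) p0 hp0S
          exact this
        have : η.t A s' p = 0 := by
          rw [t_apply, (Ideal.algebraMap_residueField_eq_zero).2 (hp0le hs'p0), map_zero]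
        rw [this, zero_mul]
        rfl
    have hmem : s' * s ∈ I := by
      refine ⟨s' * a, ?_⟩
      have : η.t A s * x = d + η.t A a := by rw [hd]; ring
      rw [map_mul, mul_assoc, this, mul_add, hkill, zero_add, map_mul]
    have : s' * s ∈ 𝔪 := hle hmem
    rcases h𝔪.isPrime.mem_or_mem this with h | h
    · exact hs'𝔪 h
    · exact s.2 h


end Groth.Agent.S13827
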