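import Groth.Statements.S13829
import Groth.Agent.Lib.Helper2.EtaPtLoc

set_option autoImplicit false
universe u
open EtaPt

namespace Groth.Agent.S13829

open Groth.Agent.Lib.helper2.EtaPtLib

theorem eq_zero_of_Nmap_away (η : EtaPt.FieldEndo.{u}) {A : Type u} [CommRing A] (f : A)
    (d : η.N A) (h1 : η.Nmap (algebraMap A (Localization.Away f)) d = 0)
    (h2 : ∀ p : PrimeSpectrum A, f ∈ p.asIdeal → d p = 0) : d = 0 := by
  funext p
  by_cases hf : f ∈ p.asIdeal
  · exact h2 p hf
  · obtain ⟨Q, hQ⟩ := exists_prime_away f p hf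
    have h := congrFun h1 Q
    rw [Nmap_apply η _ d Q p hQ] at h
    exact (map_eq_zero _).1 h

/-- For A with finitely many minimal prime ideals, f ∈ A and a ring map φ : A → B with Spec(φ)
surjective, the localization of (B/A)_η at f is (B_f/A_f)_η: the image of (B/A)_η in B_f lies in
(B_f/A_f)_η, and every element of (B_f/A_f)_η times a power of the image of f is the image of an
element of (B/A)_η. Here η is a natural transformation from the identity of the category of fields
to an endofunctor F with F(η_K) bijective and η_K purely inseparable for every field K, N_η(A) is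
the product of the F(k(p)) over the primes p of A with diagonal map t_A, and M_η(A) ⊆ N_η(A) is the
subring of elements sent into the range of t_R by every ring map from A to a valuation ring R at
whose fraction field η is bijective; q_A : A → M_η(A) is the corestriction of t_A. For a ring map f
: A → B, (B/A)_η ⊆ B denotes the subring of elements b with t_B(b) in N_η(f)(M_η(A)) (the image in B
of the fibre product of M_η(A) and B over M_η(B)), and q_{B/A} : A → (B/A)_η the corestriction of f. -/
theorem result (η : EtaPt.FieldEndo.{u}) {A B : Type u} [CommRing A] [CommRing B] (hA : (minimalPrimes A).Finite)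
    (φ : A →+* B) (hs : Function.Surjective (PrimeSpectrum.comap φ)) (f : A) :
    (η.rel φ).map (algebraMap B (Localization.Away (φ f))) ≤ η.rel (Localization.awayMap φ f) ∧
      ∀ y ∈ η.rel (Localization.awayMap φ f), ∃ x ∈ η.rel φ, ∃ n : ℕ,
        y * algebraMap B (Localization.Away (φ f)) (φ f) ^ n = algebraMap B (Localization.Away (φ f)) x := by
  classical
  set Af := Localization.Away f with hAf
  set B' := Localization.Away (φ f) with hB'
  set ℓA : A →+* Af := algebraMap A Af with hℓA
  set ℓB : B →+* B' := algebraMap B B' with hℓB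
  set φ' : Af →+* B' := Localization.awayMap φ f with hφ'
  have hcomm : φ'.comp ℓA = ℓB.comp φ := awayMap_comp φ f
  have hcomm' : ∀ a, φ' (ℓA a) = ℓB (φ a) := fun a => congrArg (fun h => h a) hcomm
  refine ⟨?_, ?_⟩
  · rintro _ ⟨b, hb, rfl⟩
    obtain ⟨m, hm, hmb⟩ := (mem_rel_iff η φ b).1 hb
    refine (mem_rel_iff η φ' _).2 ⟨η.Nmap ℓA m, Nmap_mem_M η ℓA hm, ?_⟩
    rw [← Nmap_comp, hcomm, Nmap_comp, hmb, η.Nmap_t_apply]
  · intro y hy
    obtain ⟨m', hm', hm'y⟩ := (mem_rel_iff η φ' y).1 hy
    obtain ⟨xA, hxA, n, hn0⟩ := exists_mul_pow_mem_M η hA f m' hm'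
    have hn : m' * η.t Af (ℓA f) ^ n = η.Nmap ℓA xA := hn0
    obtain ⟨⟨b, ⟨_, k, rfl⟩⟩, hb⟩ := IsLocalization.surj (Submonoid.powers (φ f)) y
    have hb' : y * ℓB (φ f) ^ k = ℓB b := by
      rw [← map_pow]
      exact hb
    set xA' : η.N A := xA * η.t A f ^ (k + 1) with hxA'
    have hxA'M : xA' ∈ η.M A :=
      Subring.mul_mem _ hxA (Subring.pow_mem _ (η.t_mem_M A f) _)
    set b' : B := b * φ f ^ (n + 1) with hb'def
    have hrel : η.Nmap φ xA' = η.t B b' := by
      have hd := eq_zero_of_Nmap_away η (φ f) (η.Nmap φ xA' - η.t B b') ?_ ?_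
      · exact sub_eq_zero.1 hd
      · have e1 : η.Nmap ℓB (η.Nmap φ xA') =
            η.t B' y * η.t B' (ℓB (φ f)) ^ n * η.t B' (ℓB (φ f)) ^ (k + 1) := by
          rw [← Nmap_comp, ← hcomm, Nmap_comp, hxA', map_mul, map_pow, η.Nmap_t_apply, ← hn,
            map_mul, map_mul, map_pow, map_pow, η.Nmap_t_apply, hcomm', hm'y]
        have e2 : η.Nmap ℓB (η.t B b') =
            η.t B' y * η.t B' (ℓB (φ f)) ^ k * η.t B' (ℓB (φ f)) ^ (n + 1) := by
          rw [η.Nmap_t_apply, hb'def, map_mul, map_pow, ← hb', map_mul, map_mul, map_pow, map_pow]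
        show η.Nmap ℓB (η.Nmap φ xA' - η.t B b') = 0
        rw [map_sub, e1, e2, sub_eq_zero]
        ring
      · intro Q hQ
        have hmem : f ∈ (PrimeSpectrum.comap φ Q).asIdeal := hQ
        have h1 : η.Nmap φ xA' Q = 0 := by
          have ht : η.t A f (PrimeSpectrum.comap φ Q) = 0 := by
            rw [t_apply, (Ideal.algebraMap_residueField_eq_zero).2 hmem, map_zero]
          rw [Nmap_apply η φ _ Q (PrimeSpectrum.comap φ Q) rfl, hxA', Pi.mul_apply, Pi.pow_apply,
            ht, pow_succ, mul_zero, mul_zero, map_zero]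
        have h2 : η.t B b' Q = 0 := by
          have : b' ∈ Q.asIdeal := by
            rw [hb'def, pow_succ, ← mul_assoc]
            exact Q.asIdeal.mul_mem_left _ hQ
          rw [t_apply, (Ideal.algebraMap_residueField_eq_zero).2 this, map_zero]
        show η.Nmap φ xA' Q - η.t B b' Q = 0
        rw [h1, h2, sub_zero]
    refine ⟨b', (mem_rel_iff η φ b').2 ⟨xA', hxA'M, hrel⟩, k + (n + 1), ?_⟩
    show y * ℓB (φ f) ^ (k + (n + 1)) = ℓB b'
    rw [hb'def, map_mul, map_pow, ← hb', pow_add, mul_assoc]

end Groth.Agent.S13829
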