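import Groth.Statements.S1383
import Mathlib
import Groth.Agent.Lib.Helper18.ThickeningFiber
import Groth.Agent.Lib.Helper18.RelOpenImmFiber

set_option autoImplicit false
universe u
open FlatMor

namespace Groth.Agent.S1383

open Groth.Agent.Lib.Helper18.RelSmoothFiber

open AlgebraicGeometry CategoryTheory Limits in
/-- Let S ⟶ S' be an arbitrary thickening, let X' ⟶ Y' be a morphism of schemes over S' with X' flat and
locally of finite presentation over S' and Y' locally of finite type over S', and let X ⟶ Y be its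
base change to S. Then X' ⟶ Y' is an open immersion exactly when X ⟶ Y is one. -/
theorem result {X X' Y Y' S S' : Scheme.{u}} (iX : X ⟶ X') (iY : Y ⟶ Y') (iS : S ⟶ S')
    (f : X ⟶ Y) (f' : X' ⟶ Y') (g : Y ⟶ S) (g' : Y' ⟶ S')
    (hS : MoreMor.IsThickening iS) (hcX : IsPullback iX (f ≫ g) (f' ≫ g') iS) (hcY : IsPullback iY g g' iS)
    (w : iX ≫ f' = f ≫ iY) [Flat (f' ≫ g')] [LocallyOfFinitePresentation (f' ≫ g')] [LocallyOfFiniteType g'] :
    IsOpenImmersion f ↔ IsOpenImmersion f' := by
  have H : IsPullback iX f f' iY := IsPullback.of_bot hcX w hcY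
  obtain ⟨h1, h2⟩ := hS
  constructor
  · intro hf
    refine isOpenImmersion_of_fiber g' f' fun s' => ?_
    obtain ⟨θ, hθ⟩ := exists_fiberι_factor hcY s'
    exact snd_of_factor @IsOpenImmersion H hf _ θ hθ
  · intro hf'
    exact MorphismProperty.of_isPullback (P := @IsOpenImmersion) H hf'

end Groth.Agent.S1383
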