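import Groth.Statements.S13830
import Groth.Agent.Lib.Helper2.EtaPtRel
import Groth.Agent.Lib.Helper2.SpecResidue
import Groth.Agent.S13818
import Groth.Agent.S13819

set_option autoImplicit false
universe u
open AlgebraicGeometry
open EtaPt

namespace Groth.Agent.S13830


open Groth.Agent.Lib.helper2.EtaPtLib Groth.Agent.Lib.helper2.SpecResidue

/-- Ring maps out of `T` to a field are determined on `A`, when every prime of `T` is the kernel of
a map to the residue field of its contraction. -/
theorem hom_ext_field_general {A T : Type u} [CommRing A] [CommRing T] (qT : A →+* T)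
    (π : ∀ P : PrimeSpectrum A, T →+* P.asIdeal.ResidueField)
    (hπ : ∀ P a, π P (qT a) = algebraMap A _ a)
    (hQ : ∀ Q : PrimeSpectrum T, Q.asIdeal = RingHom.ker (π (PrimeSpectrum.comap qT Q)))
    (K : Type u) [Field K] (φ₁ φ₂ : T →+* K) (h : φ₁.comp qT = φ₂.comp qT) : φ₁ = φ₂ := by
  classical
  have hq : ∀ a, φ₁ (qT a) = φ₂ (qT a) := fun a => congrArg (fun f => f a) h
  let Q₁ : PrimeSpectrum T := ⟨RingHom.ker φ₁, RingHom.ker_isPrime φ₁⟩
  let Q₂ : PrimeSpectrum T := ⟨RingHom.ker φ₂, RingHom.ker_isPrime φ₂⟩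
  have hPP : PrimeSpectrum.comap qT Q₁ = PrimeSpectrum.comap qT Q₂ := by
    apply PrimeSpectrum.ext
    ext a
    show φ₁ (qT a) = 0 ↔ φ₂ (qT a) = 0
    rw [hq]
  have hQ₁ := hQ Q₁
  have hQ₂ := hQ Q₂
  rw [← hPP] at hQ₂
  set P := PrimeSpectrum.comap qT Q₁ with hP
  have hker₁ : ∀ z : T, π P z = 0 → φ₁ z = 0 := by
    intro z hz
    have : z ∈ Q₁.asIdeal := by rw [hQ₁]; exact RingHom.mem_ker.2 hz
    exact this
  have hker₂ : ∀ z : T, π P z = 0 → φ₂ z = 0 := by
    intro z hz
    have : z ∈ Q₂.asIdeal := by rw [hQ₂]; exact RingHom.mem_ker.2 hz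
    exact this
  refine RingHom.ext fun x => ?_
  obtain ⟨c', s', hs', hcs⟩ := IsFractionRing.div_surjective (A ⧸ P.asIdeal)
    (K := P.asIdeal.ResidueField) (π P x)
  obtain ⟨a, rfl⟩ := Ideal.Quotient.mk_surjective c'
  obtain ⟨s, rfl⟩ := Ideal.Quotient.mk_surjective s'
  have halg : ∀ b : A, algebraMap (A ⧸ P.asIdeal) P.asIdeal.ResidueField
      (Ideal.Quotient.mk _ b) = algebraMap A _ b := fun b => rfl
  rw [halg, halg] at hcs
  have hs0 : algebraMap A P.asIdeal.ResidueField s ≠ 0 := by
    intro h0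
    have h1 : algebraMap (A ⧸ P.asIdeal) P.asIdeal.ResidueField (Ideal.Quotient.mk _ s) = 0 := h0
    have h2 := (IsFractionRing.injective (A ⧸ P.asIdeal) P.asIdeal.ResidueField)
      (h1.trans (map_zero _).symm)
    exact nonZeroDivisors.ne_zero hs' h2
  have hsP : s ∉ P.asIdeal := fun hmem => hs0 (Ideal.algebraMap_residueField_eq_zero.2 hmem)
  have hz : π P (qT s * x - qT a) = 0 := by
    rw [map_sub, map_mul, hπ, hπ, ← hcs, mul_div_cancel₀ _ hs0, sub_self]
  have e1 := hker₁ _ hz
  have e2 := hker₂ _ hz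
  rw [map_sub, map_mul, sub_eq_zero] at e1 e2
  have hs1 : φ₁ (qT s) ≠ 0 := by
    intro h0
    apply hsP
    show qT s ∈ Q₁.asIdeal
    exact RingHom.mem_ker.2 h0
  have : φ₁ (qT s) * φ₁ x = φ₁ (qT s) * φ₂ x := by
    rw [e1, hq a, ← e2, hq s]
  exact mul_left_cancel₀ hs1 this

/-- For the identity endofunctor, a commutative ring A with finitely many minimal prime ideals and an
A-algebra B with Spec B → Spec A surjective, the subring (B/A) ⊆ B (elements b whose residue classes
(b mod q)_q come from a family in M(A) ⊆ ∏_p k(p), M(A) being the families that come from an element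
of R after any base change to a valuation ring R) is the seminormalization of A in B: Spec (B/A) →
Spec A is a universal homeomorphism with trivial residue field extensions, and every A-subalgebra C
of B with these two properties is contained in (B/A). -/
theorem result (A B : Type u) [CommRing A] [CommRing B] [Algebra A B] (hA : (minimalPrimes A).Finite)
    (hs : Function.Surjective (PrimeSpectrum.comap (algebraMap A B))) :
    (FlatMor.IsUnivHomeo (Spec.map (CommRingCat.ofHom (EtaPt.FieldEndo.ident.{u}.qRel (algebraMap A B)))) ∧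
      HTop.ResidueFieldsIso (Spec.map (CommRingCat.ofHom (EtaPt.FieldEndo.ident.{u}.qRel (algebraMap A B))))) ∧
    ∀ C : Subalgebra A B,
      FlatMor.IsUnivHomeo (Spec.map (CommRingCat.ofHom (algebraMap A C))) →
      HTop.ResidueFieldsIso (Spec.map (CommRingCat.ofHom (algebraMap A C))) →
      C.toSubring ≤ EtaPt.FieldEndo.ident.{u}.rel (algebraMap A B) := by
  classical
  let η := EtaPt.FieldEndo.ident.{u}
  have hint : (η.qRel (algebraMap A B)).IsIntegral := qRel_isIntegral η (algebraMap A B) hs hA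
  have hsurj : Function.Surjective (PrimeSpectrum.comap (η.qRel (algebraMap A B))) := by
    intro p
    obtain ⟨Q, rfl⟩ := hs p
    exact ⟨PrimeSpectrum.comap (η.rel (algebraMap A B)).subtype Q, PrimeSpectrum.ext rfl⟩
  refine ⟨⟨?_, ?_⟩, ?_⟩
  · refine isUnivHomeo_Spec_of (η.qRel (algebraMap A B)) hint hsurj ?_
    intro K _ φ₁ φ₂ h
    refine hom_ext_field_general (η.qRel (algebraMap A B))
      (fun P => (proj η A P).comp (sigma η (algebraMap A B) hs)) ?_ ?_ K φ₁ φ₂ h
    · intro P a
      show proj η A P (sigma η (algebraMap A B) hs (η.qRel (algebraMap A B) a)) = _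
      rw [sigma_qRel]
      rfl
    · intro Q
      have h := congrArg PrimeSpectrum.asIdeal (eq_comap_sigma_Qp η (algebraMap A B) hs hA Q)
      rw [h]
      rfl
  · rw [residueFieldsIso_Spec_iff]
    intro Q
    obtain ⟨φ, hφ⟩ := Groth.Agent.S13818.exists_factor_rel η hA (algebraMap A B) hs Q
    exact map_bijective_of_factor η _ φ hφ
  · intro C hC1 hC2
    have hCint := isIntegral_of_isUnivHomeo_Spec (algebraMap A C) hC1
    have hCbij := comap_bijective_of_isUnivHomeo_Spec (algebraMap A C) hC1
    rw [residueFieldsIso_Spec_iff] at hC2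
    have hN : Function.Bijective (η.Nmap (algebraMap A C)) :=
      Nmap_bijective_of η (algebraMap A C) hCbij hC2
    have h19 := Groth.Agent.S13819.result η hA (algebraMap A C) C.val.toRingHom hs hCint hN
    intro c hc
    exact h19 ⟨⟨c, hc⟩, rfl⟩

end Groth.Agent.S13830
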