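import Groth.Statements.S13831
import Mathlib
import Groth.Agent.Lib.Helper2.SpecResidue

set_option autoImplicit false
universe u
open AlgebraicGeometry
open ChowMon

namespace Groth.Agent.S13831

section helpers
open CategoryTheory

/-- residue degree bound from module generators. -/
theorem finrank_le_card_of_span {R R' K L : Type u} [CommRing R] [CommRing R'] [Field K] [Field L]
    [Algebra K L] [Algebra.IsAlgebraic K L] (ρ : R →+* R') (ev : R →+* K) (ev' : R' →+* L)
    (hcomm : ∀ r, ev' (ρ r) = algebraMap K L (ev r))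
    (s : Finset R') (hs : ∀ a' : R', ∃ c : R' → R, a' = ∑ i ∈ s, ρ (c i) * i)
    (hfrac : ∀ z : L, ∃ a b : R', ev' b ≠ 0 ∧ z * ev' b = ev' a) :
    Module.Finite K L ∧ Module.finrank K L ≤ s.card := by
  classical
  set V : Submodule K L := Submodule.span K ((s.image ev' : Finset L) : Set L) with hV
  have h1 : ∀ a' : R', ev' a' ∈ V := by
    intro a'
    obtain ⟨c, hc⟩ := hs a'
    rw [hc, map_sum]
    refine Submodule.sum_mem _ (fun i hi => ?_)
    rw [map_mul, hcomm, ← Algebra.smul_def]
    exact Submodule.smul_mem _ _ (Submodule.subset_span (Finset.mem_coe.2 (Finset.mem_image_of_mem _ hi)))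
  set W : Subalgebra K L := Algebra.adjoin K (Set.range ev') with hW
  have hWV : (W : Set L) ⊆ V := by
    intro z hz
    have hz' : z ∈ Subalgebra.toSubmodule (Algebra.adjoin K (Set.range ev')) := hz
    rw [Algebra.adjoin_eq_span] at hz'
    have hcl : (Submonoid.closure (Set.range ev') : Set L) = Set.range ev' := by
      have : Submonoid.closure (Set.range ev') = MonoidHom.mrange (ev' : R' →* L) := by
        apply le_antisymm
        · rw [Submonoid.closure_le]
          rintro _ ⟨a, rfl⟩
          exact ⟨a, rfl⟩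
        · rintro _ ⟨a, rfl⟩
          exact Submonoid.subset_closure ⟨a, rfl⟩
      rw [this]
      rfl
    rw [hcl] at hz'
    refine Submodule.span_le.2 ?_ hz'
    rintro _ ⟨a, rfl⟩
    exact h1 a
  have hWtop : ∀ z : L, z ∈ W := by
    intro z
    obtain ⟨a, b, hb, hz⟩ := hfrac z
    have hbW : ev' b ∈ W := Algebra.subset_adjoin ⟨b, rfl⟩
    have haW : ev' a ∈ W := Algebra.subset_adjoin ⟨a, rfl⟩
    have hinv : (ev' b)⁻¹ ∈ W :=
      W.inv_mem_of_algebraic (x := ⟨ev' b, hbW⟩) (Algebra.IsAlgebraic.isAlgebraic _)
    have : z = ev' a * (ev' b)⁻¹ := by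
      rw [← hz, mul_assoc, mul_inv_cancel₀ hb, mul_one]
    rw [this]
    exact W.mul_mem haW hinv
  have hVtop : V = ⊤ := by
    rw [eq_top_iff]
    intro z _
    exact hWV (hWtop z)
  have hfin : Module.Finite K L := by
    refine ⟨⟨s.image ev', ?_⟩⟩
    exact hVtop
  refine ⟨hfin, ?_⟩
  have h2 : Module.finrank K L = Module.finrank K V := by
    rw [hVtop, finrank_top]
  rw [h2]
  calc Module.finrank K V ≤ (s.image ev').card := finrank_span_finset_le_card _
    _ ≤ s.card := Finset.card_image_le

theorem exists_frac_of_isAffineOpen {X : Scheme.{u}} {U : X.Opens} (hU : IsAffineOpen U) (x : X)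
    (hx : x ∈ U) (c : X.residueField x) :
    ∃ a d : Γ(X, U), (X.evaluation U x hx).hom d ≠ 0 ∧
      c * (X.evaluation U x hx).hom d = (X.evaluation U x hx).hom a := by
  obtain ⟨z, rfl⟩ := X.residue_surjective x c
  letI := TopCat.Presheaf.algebra_section_stalk X.presheaf (⟨x, hx⟩ : U)
  haveI : IsLocalization.AtPrime (X.presheaf.stalk x) (hU.primeIdealOf ⟨x, hx⟩).asIdeal :=
    hU.isLocalization_stalk ⟨x, hx⟩
  obtain ⟨⟨a, d⟩, hzd⟩ := IsLocalization.surj (hU.primeIdealOf ⟨x, hx⟩).asIdeal.primeCompl z
  have hunit : IsUnit (X.presheaf.germ U x hx d) :=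
    IsLocalization.map_units (X.presheaf.stalk x) d
  refine ⟨a, d.1, ?_, ?_⟩
  · have := (Scheme.evaluation_ne_zero_iff_mem_basicOpen X x hx d.1).2
      ((Scheme.mem_basicOpen X d.1 x hx).2 hunit)
    exact this
  · have h1 : z * (X.presheaf.germ U x hx).hom d.1 = (X.presheaf.germ U x hx).hom a := hzd
    have h2 := congrArg (X.residue x).hom h1
    rw [map_mul] at h2
    exact h2

/-- local bound on the residue degrees of a finite universal homeomorphism. -/
theorem exists_bound_of_isAffineOpen {T' T : Scheme.{u}} (p : T' ⟶ T) [IsFinite p]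
    (hp : FlatMor.IsUnivHomeo p) (U : T.Opens) (hU : IsAffineOpen U) :
    ∃ N : ℕ, ∀ t' : T', p t' ∈ U →
      @Module.finrank (T.residueField (p t')) (T'.residueField t') _ _
          (p.residueFieldMap t').hom.toAlgebra.toModule ≠ 0 ∧
      @Module.finrank (T.residueField (p t')) (T'.residueField t') _ _
          (p.residueFieldMap t').hom.toAlgebra.toModule ≤ N := by
  classical
  have hfin : (p.app U).hom.Finite := p.finite_app U hU
  letI : Algebra Γ(T, U) Γ(T', p ⁻¹ᵁ U) := (p.app U).hom.toAlgebra
  have hfin' : Module.Finite Γ(T, U) Γ(T', p ⁻¹ᵁ U) := hfin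
  obtain ⟨s, hs⟩ := hfin'.fg_top
  refine ⟨s.card, ?_⟩
  intro t' ht'
  letI algKL : Algebra (T.residueField (p t')) (T'.residueField t') :=
    (p.residueFieldMap t').hom.toAlgebra
  have hui : UniversallyInjective p :=
    Groth.Agent.Lib.helper2.SpecResidue.universallyInjective_of_isUnivHomeo p hp
  have h02 : UniversallyInjective p → (Function.Injective p ∧
      ∀ x, (p.residueFieldMap x).hom.IsPurelyInseparable) :=
    ((tfae_universallyInjective p).out 0 2).1
  have hpi : (p.residueFieldMap t').hom.IsPurelyInseparable := (h02 hui).2 t'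
  haveI : IsPurelyInseparable (T.residueField (p t')) (T'.residueField t') := hpi
  haveI : Algebra.IsAlgebraic (T.residueField (p t')) (T'.residueField t') :=
    IsPurelyInseparable.isAlgebraic _ _
  have hres := finrank_le_card_of_span (K := T.residueField (p t')) (L := T'.residueField t')
    (p.app U).hom (T.evaluation U (p t') ht').hom (T'.evaluation (p ⁻¹ᵁ U) t' ht').hom
    (fun r => (Scheme.evaluation_naturality_apply p t' ht' r).symm) s ?_
    (exists_frac_of_isAffineOpen (hU.preimage p) t' ht')
  · obtain ⟨h1, h2⟩ := hres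
    exact ⟨(Module.finrank_pos).ne', h2⟩
  · intro a'
    have : a' ∈ Submodule.span Γ(T, U) (s : Set Γ(T', p ⁻¹ᵁ U)) := by rw [hs]; trivial
    obtain ⟨c, -, hc⟩ := Submodule.mem_span_finset.1 this
    refine ⟨c, hc.symm.trans ?_⟩
    refine Finset.sum_congr rfl (fun i _ => ?_)
    rw [Algebra.smul_def]
    rfl

end helpers

/-- For a finite universal homeomorphism p : T' → T of Noetherian schemes there is an integer d ≥ 1 such
that for every point t' of T' over t the residue field degree [k(t') : k(t)] is a power of the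
exponential characteristic of k(t) dividing d. -/
theorem result {T' T : Scheme.{u}} (p : T' ⟶ T) [IsFinite p] (hp : FlatMor.IsUnivHomeo p)
    [IsNoetherian T] [IsNoetherian T'] [T.IsSeparated] [T'.IsSeparated] :
    ∃ d : ℕ, 0 < d ∧ ∀ t' : T', ∃ e : ℕ,
      @Module.finrank (T.residueField (p t')) (T'.residueField t') _ _
          (p.residueFieldMap t').hom.toAlgebra.toModule =
        ringExpChar (T.residueField (p t')) ^ e ∧
      ringExpChar (T.residueField (p t')) ^ e ∣ d := by
  classical
  haveI : CompactSpace T := inferInstance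
  obtain ⟨F, hF⟩ := isCompact_univ.elim_finite_subcover
    (fun U : T.affineOpens => ((U : T.Opens) : Set T)) (fun U => U.1.2)
    (by
      intro x _
      have : x ∈ ((⨆ i : T.affineOpens, (i : T.Opens)) : T.Opens) := by
        rw [iSup_affineOpens_eq_top]; trivial
      rw [TopologicalSpace.Opens.mem_iSup] at this
      obtain ⟨U, hU⟩ := this
      exact Set.mem_iUnion.2 ⟨U, hU⟩)
  choose N hN using fun U : T.affineOpens => exists_bound_of_isAffineOpen p hp U.1 U.2
  refine ⟨(F.sup N).factorial, Nat.factorial_pos _, ?_⟩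
  intro t'
  have hmem : p t' ∈ ⋃ i ∈ F, ((i : T.Opens) : Set T) := hF (Set.mem_univ _)
  simp only [Set.mem_iUnion] at hmem
  obtain ⟨U, hUF, hU⟩ := hmem
  obtain ⟨h0, hle⟩ := hN U t' hU
  letI algKL : Algebra (T.residueField (p t')) (T'.residueField t') :=
    (p.residueFieldMap t').hom.toAlgebra
  have hui : UniversallyInjective p :=
    Groth.Agent.Lib.helper2.SpecResidue.universallyInjective_of_isUnivHomeo p hp
  have h02 : UniversallyInjective p → (Function.Injective p ∧
      ∀ x, (p.residueFieldMap x).hom.IsPurelyInseparable) :=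
    ((tfae_universallyInjective p).out 0 2).1
  have hpi : (p.residueFieldMap t').hom.IsPurelyInseparable := (h02 hui).2 t'
  haveI : IsPurelyInseparable (T.residueField (p t')) (T'.residueField t') := hpi
  haveI : FiniteDimensional (T.residueField (p t')) (T'.residueField t') :=
    Module.finite_of_finrank_pos (Nat.pos_of_ne_zero h0)
  obtain ⟨e, he⟩ := IsPurelyInseparable.finrank_eq_pow (F := T.residueField (p t'))
    (T'.residueField t') (ringExpChar (T.residueField (p t')))
  refine ⟨e, he, ?_⟩
  rw [← he]
  exact Nat.dvd_factorial (Nat.pos_of_ne_zero h0) (hle.trans (Finset.le_sup hUF))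

end Groth.Agent.S13831
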