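import Groth.Statements.S13833
import Mathlib
import Groth.Agent.Lib.Helper2.FiniteUH
import Groth.Agent.Lib.Helper2.SNScheme

set_option autoImplicit false
universe u
open AlgebraicGeometry CategoryTheory
open HTop

namespace Groth.Agent.S13833

open Groth.Agent.Lib.helper2.SNScheme CategoryTheory.Limits in
/-- the source of a seminormalization is reduced. -/
theorem isReduced_of_isSeminormalization {X' X : Scheme.{u}} (ν : X' ⟶ X)
    (hν : HTop.IsSeminormalization ν) : AlgebraicGeometry.IsReduced X' := by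
  have hι : SNMor (redι X') := snMor_redι X'
  have hc : SNMor (redι X' ≫ ν) := MorphismProperty.comp_mem _ _ _ hι hν.1
  obtain ⟨h, hh, -⟩ := hν.2 _ (redι X' ≫ ν) hc.1 hc.2
  obtain ⟨c, -, hcu⟩ := hν.2 _ ν hν.1.1 hν.1.2
  have e1 : h ≫ redι X' = 𝟙 X' := by
    have k1 : (h ≫ redι X') ≫ ν = ν := by rw [Category.assoc, hh]
    rw [hcu (h ≫ redι X') k1, hcu (𝟙 _) (Category.id_comp _)]
  have e2 : redι X' ≫ h = 𝟙 _ := by
    rw [← cancel_mono (redι X'), Category.assoc, e1, Category.comp_id, Category.id_comp]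
  haveI : IsIso (redι X') := ⟨h, e2, e1⟩
  exact isReduced_of_isOpenImmersion (inv (redι X'))

/-- Let S be a Noetherian scheme, X → S locally of finite type, T a Noetherian S-scheme and ν : T' → T a
seminormalization (all schemes separated). Then S-morphisms T' → X are the colimit of S-morphisms T₁
→ X over the finite universal homeomorphisms T₁ → T inducing isomorphisms on residue fields: every
S-morphism g : T' → X factors as T' → T₁ → X for such a T₁ → T, and two such factorizations through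
T₁ and T₂ become equal on some such T₃ → T dominating both. -/
theorem result {S X T T' : Scheme.{u}} [IsNoetherian S] [IsNoetherian T] [S.IsSeparated] [X.IsSeparated]
    [T.IsSeparated] [T'.IsSeparated] (fX : X ⟶ S) [LocallyOfFiniteType fX] (fT : T ⟶ S)
    (ν : T' ⟶ T) (hν : HTop.IsSeminormalization ν) :
    (∀ g : T' ⟶ X, g ≫ fX = ν ≫ fT →
      ∃ (T₁ : Scheme.{u}) (π : T₁ ⟶ T) (_ : IsFinite π) (_ : FlatMor.IsUnivHomeo π)
        (_ : HTop.ResidueFieldsIso π) (g₁ : T₁ ⟶ X) (h : T' ⟶ T₁),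
        h ≫ π = ν ∧ g₁ ≫ fX = π ≫ fT ∧ h ≫ g₁ = g) ∧
    (∀ (T₁ T₂ : Scheme.{u}) (π₁ : T₁ ⟶ T) (π₂ : T₂ ⟶ T) [IsFinite π₁] [IsFinite π₂],
      FlatMor.IsUnivHomeo π₁ → FlatMor.IsUnivHomeo π₂ →
      HTop.ResidueFieldsIso π₁ → HTop.ResidueFieldsIso π₂ →
      ∀ (g₁ : T₁ ⟶ X) (g₂ : T₂ ⟶ X) (h₁ : T' ⟶ T₁) (h₂ : T' ⟶ T₂),
        g₁ ≫ fX = π₁ ≫ fT → g₂ ≫ fX = π₂ ≫ fT → h₁ ≫ π₁ = ν → h₂ ≫ π₂ = ν → h₁ ≫ g₁ = h₂ ≫ g₂ →
        ∃ (T₃ : Scheme.{u}) (π₃ : T₃ ⟶ T) (_ : IsFinite π₃) (_ : FlatMor.IsUnivHomeo π₃)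
          (_ : HTop.ResidueFieldsIso π₃) (a₁ : T₃ ⟶ T₁) (a₂ : T₃ ⟶ T₂),
          a₁ ≫ π₁ = π₃ ∧ a₂ ≫ π₂ = π₃ ∧ a₁ ≫ g₁ = a₂ ≫ g₂) := by
  constructor
  · intro g hg
    obtain ⟨T₁, π, hfin, huh, g₁, h, e1, e2, e3, hsurj⟩ :=
      Groth.Agent.Lib.helper2.FiniteUH.exists_factor fX fT ν hν.1.1 g hg
    refine ⟨T₁, π, hfin, huh, ?_, g₁, h, e1, e2, e3⟩
    exact Groth.Agent.Lib.helper2.FiniteUH.residueFieldsIso_of_comp_surjective h π
      (by rw [e1]; exact hν.1.2)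
  · intro T₁ T₂ π₁ π₂ _ _ _ _ _ _ g₁ g₂ h₁ h₂ _ _ e₁ e₂ e
    haveI : IsReduced T' := isReduced_of_isSeminormalization ν hν
    obtain ⟨T₃, π₃, hfin, huh, a₁, a₂, h₃, k1, k2, k3, hsurj, k4⟩ :=
      Groth.Agent.Lib.helper2.FiniteUH.exists_dominating ν hν.1.1 π₁ π₂ g₁ g₂ h₁ h₂ e₁ e₂ e
    refine ⟨T₃, π₃, hfin, huh, ?_, a₁, a₂, k1, k2, k3⟩
    exact Groth.Agent.Lib.helper2.FiniteUH.residueFieldsIso_of_comp_surjective h₃ π₃
      (by rw [k4]; exact hν.1.2)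

end Groth.Agent.S13833
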