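import Groth.Statements.S13835
import Groth.Agent.Lib.Helper2.PerfSchFamily

set_option autoImplicit false
universe u
open AlgebraicGeometry CategoryTheory
open ChowMon

namespace Groth.Agent.S13835


open Limits

/-- a local factorization transports along any test object. -/
theorem key {T' T Y W' : Scheme.{u}} (p : T' ⟶ T) (f' : T' ⟶ Y) (V : T.Opens)
    (g : (V : Scheme.{u}) ⟶ Y) (hg : (p ⁻¹ᵁ V).ι ≫ f' = (p ∣_ V) ≫ g)
    (a : W' ⟶ T') (b : W' ⟶ (V : Scheme.{u})) (hab : a ≫ p = b ≫ V.ι) : a ≫ f' = b ≫ g := by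
  have hpb := isPullback_morphismRestrict p V
  let l := hpb.lift b a hab.symm
  have h1 : l ≫ (p ∣_ V) = b := hpb.lift_fst b a hab.symm
  have h2 : l ≫ (p ⁻¹ᵁ V).ι = a := hpb.lift_snd b a hab.symm
  rw [← h2, Category.assoc, hg, ← Category.assoc, h1]

/-- Let p : T' → T be a universal homeomorphism of separated schemes with T reduced and f' : T' → Y a
morphism (Y separated); if T has an open cover by affine opens U_i such that each restriction of f'
to p⁻¹(U_i) factors through p⁻¹(U_i) → U_i, then f' factors through p. -/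
theorem result {T' T Y : Scheme.{u}} (p : T' ⟶ T) (hp : FlatMor.IsUnivHomeo p) [IsReduced T]
    [T.IsSeparated] [T'.IsSeparated] [Y.IsSeparated] (f' : T' ⟶ Y)
    {ι : Type u} (U : ι → T.affineOpens) (hU : ⨆ i, (U i : T.Opens) = ⊤)
    (hloc : ∀ i, ∃ fi : ((U i : T.Opens) : Scheme.{u}) ⟶ Y, (p ⁻¹ᵁ (U i : T.Opens)).ι ≫ f' = (p ∣_ (U i : T.Opens)) ≫ fi) :
    ∃ f : T ⟶ Y, p ≫ f = f' := by
  classical
  haveI : Surjective p := Groth.Agent.Lib.helper2.PerfSchFamily.surjective_of_isUnivHomeo p hp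
  choose fi hfi using hloc
  let 𝒰 : T.OpenCover := T.openCoverOfIsOpenCover (fun i => (U i : T.Opens)) hU
  have hglue : ∀ i j : ι, pullback.fst (𝒰.f i) (𝒰.f j) ≫ fi i = pullback.snd (𝒰.f i) (𝒰.f j) ≫ fi j := by
    intro i j
    let W := pullback (𝒰.f i) (𝒰.f j)
    let w : W ⟶ T := pullback.fst (𝒰.f i) (𝒰.f j) ≫ 𝒰.f i
    haveI : IsOpenImmersion w := inferInstance
    haveI : IsReduced W := isReduced_of_isOpenImmersion w
    let q : pullback p w ⟶ W := pullback.snd p w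
    let a : pullback p w ⟶ T' := pullback.fst p w
    haveI : Surjective q := inferInstance
    refine ext_of_isDominant q ?_
    have hc : a ≫ p = q ≫ w := pullback.condition
    have h1 : a ≫ f' = (q ≫ pullback.fst (𝒰.f i) (𝒰.f j)) ≫ fi i := by
      refine key p f' (U i : T.Opens) (fi i) (hfi i) a _ ?_
      exact hc.trans (Category.assoc q (pullback.fst (𝒰.f i) (𝒰.f j)) (𝒰.f i)).symm
    have h2 : a ≫ f' = (q ≫ pullback.snd (𝒰.f i) (𝒰.f j)) ≫ fi j := by
      refine key p f' (U j : T.Opens) (fi j) (hfi j) a _ ?_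
      have hw : w = pullback.snd (𝒰.f i) (𝒰.f j) ≫ 𝒰.f j := pullback.condition
      exact (hc.trans (congrArg (fun z => q ≫ z) hw)).trans
        (Category.assoc q (pullback.snd (𝒰.f i) (𝒰.f j)) (𝒰.f j)).symm
    rw [← Category.assoc, ← Category.assoc, ← h1, ← h2]
  refine ⟨𝒰.glueMorphisms fi hglue, ?_⟩
  have hU' : TopologicalSpace.IsOpenCover (fun i => p ⁻¹ᵁ (U i : T.Opens)) := by
    show ⨆ i, p ⁻¹ᵁ (U i : T.Opens) = ⊤
    rw [← Scheme.Hom.preimage_iSup, hU]
    rfl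
  refine Scheme.Cover.hom_ext (T'.openCoverOfIsOpenCover _ hU') _ _ ?_
  intro i
  show (p ⁻¹ᵁ (U i : T.Opens)).ι ≫ p ≫ 𝒰.glueMorphisms fi hglue = (p ⁻¹ᵁ (U i : T.Opens)).ι ≫ f'
  rw [← Category.assoc, ← morphismRestrict_ι, Category.assoc]
  have : (U i : T.Opens).ι ≫ 𝒰.glueMorphisms fi hglue = fi i := 𝒰.ι_glueMorphisms fi hglue i
  rw [this, hfi i]

end Groth.Agent.S13835
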