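import Groth.Statements.S13837
import Groth.Agent.Lib.Helper2.SpecResidue
import Mathlib.FieldTheory.IsAlgClosed.AlgebraicClosure
import Mathlib.RingTheory.Ideal.GoingUp

set_option autoImplicit false
universe u
open AlgebraicGeometry
open scoped TensorProduct
open HTop

namespace Groth.Agent.S13837


open Groth.Agent.Lib.helper2.SpecResidue in
theorem exists_extension {E B : Type u} [CommRing E] [CommRing B] [Algebra E B]
    [Algebra.IsIntegral E B] (hinj : Function.Injective (algebraMap E B))
    (K : Type u) [Field K] (φ : E →+* K) :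
    ∃ ψ : B →+* AlgebraicClosure K,
      ψ.comp (algebraMap E B) = (algebraMap K (AlgebraicClosure K)).comp φ := by
  classical
  have hker : (RingHom.ker φ).IsPrime := RingHom.ker_isPrime φ
  obtain ⟨q, -, hq, hqp⟩ := Ideal.exists_ideal_over_prime_of_isIntegral (RingHom.ker φ)
    (⊥ : Ideal B)
    (by rw [← RingHom.ker_eq_comap_bot, (RingHom.injective_iff_ker_eq_bot _).1 hinj]; exact bot_le)
  let R := E ⧸ q.comap (algebraMap E B)
  let S := B ⧸ q
  let _ : Algebra R S := Ideal.quotientAlgebra
  let M := AlgebraicClosure K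
  let g : R →+* M := Ideal.Quotient.lift _ ((algebraMap K M).comp φ) (by
    intro a ha
    rw [hqp] at ha
    simp [RingHom.mem_ker.1 ha])
  let _ : Algebra R M := g.toAlgebra
  have hg : Function.Injective g := by
    rw [RingHom.injective_iff_ker_eq_bot, eq_bot_iff]
    intro x hx
    obtain ⟨a, rfl⟩ := Ideal.Quotient.mk_surjective x
    rw [RingHom.mem_ker] at hx
    have h1 : (algebraMap K M) (φ a) = 0 := hx
    have h2 : φ a = 0 := by
      have := (algebraMap K M).injective
      exact this (by rw [h1, map_zero])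
    rw [Ideal.mem_bot, Ideal.Quotient.eq_zero_iff_mem, hqp]
    exact h2
  have : IsDomain R := Ideal.Quotient.isDomain _
  have : IsDomain S := Ideal.Quotient.isDomain _
  have : Module.IsTorsionFree R S :=
    (Module.isTorsionFree_iff_algebraMap_injective).2 Ideal.algebraMap_quotient_injective
  have : Module.IsTorsionFree R M := (Module.isTorsionFree_iff_algebraMap_injective).2 hg
  have : Algebra.IsIntegral R S := inferInstance
  have : Algebra.IsAlgebraic R S := Algebra.IsIntegral.isAlgebraic
  let l : S →ₐ[R] M := IsAlgClosed.lift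
  refine ⟨l.toRingHom.comp (Ideal.Quotient.mk q), ?_⟩
  ext a
  have h1 : l (algebraMap R S (Ideal.Quotient.mk _ a)) = algebraMap R M (Ideal.Quotient.mk _ a) :=
    l.commutes _
  exact h1

/-- Let A ⊆ B be an integral ring extension where A and B have finitely many minimal prime ideals; then
the weak normalization of A in B is the equaliser of the two maps B ⇉ (B ⊗_A B)_red: the
A-subalgebra E of elements b with b ⊗ 1 − 1 ⊗ b nilpotent in B ⊗_A B has Spec E → Spec A a universal
homeomorphism, and every A-subalgebra C of B with Spec C → Spec A a universal homeomorphism is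
contained in E. -/
theorem result (A B : Type u) [CommRing A] [CommRing B] [Algebra A B] (hinj : Function.Injective (algebraMap A B))
    [Algebra.IsIntegral A B] (hA : (minimalPrimes A).Finite) (hB : (minimalPrimes B).Finite) :
    ∃ E : Subalgebra A B, (∀ b : B, b ∈ E ↔ IsNilpotent (b ⊗ₜ[A] (1 : B) - (1 : B) ⊗ₜ[A] b)) ∧
      FlatMor.IsUnivHomeo (Spec.map (CommRingCat.ofHom (algebraMap A E))) ∧
      ∀ C : Subalgebra A B, FlatMor.IsUnivHomeo (Spec.map (CommRingCat.ofHom (algebraMap A C))) → C ≤ E := by
  classical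
  -- the two maps B ⇉ (B ⊗_A B)_red
  let T := B ⊗[A] B
  let N : Ideal T := nilradical T
  let f₁ : B →ₐ[A] T ⧸ N := (Ideal.Quotient.mkₐ A N).comp Algebra.TensorProduct.includeLeft
  let f₂ : B →ₐ[A] T ⧸ N := (Ideal.Quotient.mkₐ A N).comp Algebra.TensorProduct.includeRight
  let E : Subalgebra A B := AlgHom.equalizer f₁ f₂
  have hmem : ∀ b : B, b ∈ E ↔ IsNilpotent (b ⊗ₜ[A] (1 : B) - (1 : B) ⊗ₜ[A] b) := by
    intro b
    rw [AlgHom.mem_equalizer]
    have h1 : f₁ b = Ideal.Quotient.mk N (b ⊗ₜ[A] (1 : B)) := rfl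
    have h2 : f₂ b = Ideal.Quotient.mk N ((1 : B) ⊗ₜ[A] b) := rfl
    rw [h1, h2, ← sub_eq_zero, ← map_sub, Ideal.Quotient.eq_zero_iff_mem, mem_nilradical]
  refine ⟨E, hmem, ?_, ?_⟩
  · -- universal homeomorphism
    have hEB : Function.Injective (algebraMap E B) := Subtype.val_injective
    have hAE : Function.Injective (algebraMap A E) := by
      intro a a' h
      apply hinj
      have := congrArg (algebraMap E B) h
      simpa [← IsScalarTower.algebraMap_apply] using this
    have hintE : Algebra.IsIntegral A E := by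
      refine ⟨fun e => ?_⟩
      have := Algebra.IsIntegral.isIntegral (R := A) (e : B)
      exact (isIntegral_algHom_iff E.val Subtype.val_injective).1 this
    have hintB : Algebra.IsIntegral E B := by
      refine ⟨fun b => ?_⟩
      exact (Algebra.IsIntegral.isIntegral (R := A) b).tower_top
    apply Groth.Agent.Lib.helper2.SpecResidue.isUnivHomeo_Spec_of
    · exact algebraMap_isIntegral_iff.2 hintE
    · intro P
      obtain ⟨Q, -, hQ, hQP⟩ := Ideal.exists_ideal_over_prime_of_isIntegral P.asIdeal
        (⊥ : Ideal E)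
        (by rw [← RingHom.ker_eq_comap_bot, (RingHom.injective_iff_ker_eq_bot _).1 hAE]
            exact bot_le)
      exact ⟨⟨Q, hQ⟩, PrimeSpectrum.ext hQP⟩
    · intro K _ φ₁ φ₂ h
      obtain ⟨ψ₁, hψ₁⟩ := exists_extension hEB K φ₁
      obtain ⟨ψ₂, hψ₂⟩ := exists_extension hEB K φ₂
      let M := AlgebraicClosure K
      let _ : Algebra A M := (ψ₁.comp (algebraMap A B)).toAlgebra
      let g₁ : B →ₐ[A] M := { ψ₁ with commutes' := fun a => rfl }
      have hagree : ∀ a : A, ψ₂ (algebraMap A B a) = ψ₁ (algebraMap A B a) := by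
        intro a
        have e1 : ψ₁ (algebraMap A B a) = algebraMap K M (φ₁ (algebraMap A E a)) := by
          have := congrArg (fun r => r (algebraMap A E a)) hψ₁
          simpa [← IsScalarTower.algebraMap_apply] using this
        have e2 : ψ₂ (algebraMap A B a) = algebraMap K M (φ₂ (algebraMap A E a)) := by
          have := congrArg (fun r => r (algebraMap A E a)) hψ₂
          simpa [← IsScalarTower.algebraMap_apply] using this
        have e3 : φ₁ (algebraMap A E a) = φ₂ (algebraMap A E a) :=
          congrArg (fun r => r a) h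
        rw [e1, e2, e3]
      let g₂ : B →ₐ[A] M := { ψ₂ with commutes' := fun a => hagree a }
      let pm : T →ₐ[A] M := Algebra.TensorProduct.productMap g₁ g₂
      ext e
      have hnil : IsNilpotent ((e : B) ⊗ₜ[A] (1 : B) - (1 : B) ⊗ₜ[A] (e : B)) := (hmem e).1 e.2
      have hnil' : IsNilpotent (pm ((e : B) ⊗ₜ[A] (1 : B) - (1 : B) ⊗ₜ[A] (e : B))) :=
        hnil.map pm
      have hz : pm ((e : B) ⊗ₜ[A] (1 : B) - (1 : B) ⊗ₜ[A] (e : B)) = 0 :=
        hnil'.eq_zero
      have hpm : pm ((e : B) ⊗ₜ[A] (1 : B) - (1 : B) ⊗ₜ[A] (e : B)) = ψ₁ e - ψ₂ e := by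
        rw [map_sub]
        have a1 : pm ((e : B) ⊗ₜ[A] (1 : B)) = g₁ e * g₂ 1 :=
          Algebra.TensorProduct.productMap_apply_tmul _ _ _ _
        have a2 : pm ((1 : B) ⊗ₜ[A] (e : B)) = g₁ 1 * g₂ e :=
          Algebra.TensorProduct.productMap_apply_tmul _ _ _ _
        rw [a1, a2, map_one, map_one, mul_one, one_mul]
        rfl
      rw [hpm, sub_eq_zero] at hz
      have e1 : ψ₁ (e : B) = algebraMap K M (φ₁ e) := congrArg (fun r => r e) hψ₁
      have e2 : ψ₂ (e : B) = algebraMap K M (φ₂ e) := congrArg (fun r => r e) hψ₂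
      rw [e1, e2] at hz
      exact (algebraMap K M).injective hz
  · -- maximality
    intro C hC c hc
    rw [hmem, nilpotent_iff_mem_prime]
    intro J hJ
    let L := J.ResidueField
    let χ : T →+* L := algebraMap T L
    let χ₁ : C →+* L := (χ.comp (Algebra.TensorProduct.includeLeft : B →ₐ[A] T).toRingHom).comp
      (algebraMap C B)
    let χ₂ : C →+* L := (χ.comp (Algebra.TensorProduct.includeRight : B →ₐ[A] T).toRingHom).comp
      (algebraMap C B)
    have hχ : χ₁.comp (algebraMap A C) = χ₂.comp (algebraMap A C) := by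
      ext a
      have b1 : (Algebra.TensorProduct.includeLeft : B →ₐ[A] T) (algebraMap A B a) =
          algebraMap A T a := AlgHom.commutes _ a
      have b2 : (Algebra.TensorProduct.includeRight : B →ₐ[A] T) (algebraMap A B a) =
          algebraMap A T a := AlgHom.commutes _ a
      have c1 : χ₁ (algebraMap A C a) = χ ((Algebra.TensorProduct.includeLeft : B →ₐ[A] T)
          (algebraMap A B a)) := rfl
      have c2 : χ₂ (algebraMap A C a) = χ ((Algebra.TensorProduct.includeRight : B →ₐ[A] T)
          (algebraMap A B a)) := rfl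
      change χ₁ (algebraMap A C a) = χ₂ (algebraMap A C a)
      rw [c1, c2, b1, b2]
    have heq := Groth.Agent.Lib.helper2.SpecResidue.hom_ext_of_isUnivHomeo_Spec
      (algebraMap A C) hC L χ₁ χ₂ hχ
    have h1 := congrArg (fun r => r ⟨c, hc⟩) heq
    have h2 : χ (c ⊗ₜ[A] (1 : B)) = χ ((1 : B) ⊗ₜ[A] c) := h1
    have h3 : χ (c ⊗ₜ[A] (1 : B) - (1 : B) ⊗ₜ[A] c) = 0 := by
      rw [map_sub, h2, sub_self]
    exact (Ideal.algebraMap_residueField_eq_zero).1 h3

end Groth.Agent.S13837
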