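import Groth.Statements.S13838
import Groth.Agent.Lib.Helper2.SpecResidue

set_option autoImplicit false
universe u
open AlgebraicGeometry
open HTop

namespace Groth.Agent.S13838


open Groth.Agent.Lib.helper2.SpecResidue

/-- Let A ⊆ B be an integral ring extension where A and B have finitely many minimal prime ideals, such
that every prime p of A has a prime q of B above it for which k(p) is closed under extracting
p-power roots inside k(q) (the purely inseparable closure of k(p) in k(q) is k(p)); then the semi-
and weak normalizations of A in B coincide: every A-subalgebra C of B with Spec C → Spec A a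
universal homeomorphism already induces isomorphisms on residue fields. -/
theorem result (A B : Type u) [CommRing A] [CommRing B] [Algebra A B] (hinj : Function.Injective (algebraMap A B))
    [Algebra.IsIntegral A B] (hA : (minimalPrimes A).Finite) (hB : (minimalPrimes B).Finite)
    (hpi : ∀ p : PrimeSpectrum A, ∃ q : PrimeSpectrum B, ∃ hq : p.asIdeal = Ideal.comap (algebraMap A B) q.asIdeal,
      ∀ x : q.asIdeal.ResidueField,
        (∃ n : ℕ, x ^ ringExpChar p.asIdeal.ResidueField ^ n ∈
            Set.range (Ideal.ResidueField.map p.asIdeal q.asIdeal (algebraMap A B) hq)) →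
        x ∈ Set.range (Ideal.ResidueField.map p.asIdeal q.asIdeal (algebraMap A B) hq)) :
    ∀ C : Subalgebra A B, FlatMor.IsUnivHomeo (Spec.map (CommRingCat.ofHom (algebraMap A C))) →
      HTop.ResidueFieldsIso (Spec.map (CommRingCat.ofHom (algebraMap A C))) := by
  classical
  intro C hC
  rw [residueFieldsIso_Spec_iff]
  intro Q
  have hbij := comap_bijective_of_isUnivHomeo_Spec (algebraMap A C) hC
  obtain ⟨q, hq, hclosed⟩ := hpi (PrimeSpectrum.comap (algebraMap A C) Q)
  let Q' : PrimeSpectrum C := PrimeSpectrum.comap C.val.toRingHom q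
  have hQ' : PrimeSpectrum.comap (algebraMap A C) Q' = PrimeSpectrum.comap (algebraMap A C) Q := by
    apply PrimeSpectrum.ext
    show Ideal.comap (algebraMap A C) (Ideal.comap C.val.toRingHom q.asIdeal) = _
    rw [hq, Ideal.comap_comap]
    rfl
  have hQQ : Q' = Q := hbij.injective hQ'
  have hQq : Q.asIdeal = q.asIdeal.comap C.val.toRingHom := by
    rw [← hQQ]
    rfl
  refine ⟨RingHom.injective _, fun z => ?_⟩
  obtain ⟨n, c, hc⟩ := exists_pow_mem_range_of_isUnivHomeo_Spec (algebraMap A C) hC Q z
  have hcomp : (Ideal.ResidueField.map Q.asIdeal q.asIdeal C.val.toRingHom hQq).comp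
      (Ideal.ResidueField.map (PrimeSpectrum.comap (algebraMap A C) Q).asIdeal Q.asIdeal
        (algebraMap A C) rfl) =
      Ideal.ResidueField.map (PrimeSpectrum.comap (algebraMap A C) Q).asIdeal q.asIdeal
        (algebraMap A B) hq := by
    apply Ideal.ResidueField.ringHom_ext
    ext a
    simp only [RingHom.comp_apply, Ideal.ResidueField.map_algebraMap]
    rfl
  have h1 : Ideal.ResidueField.map Q.asIdeal q.asIdeal C.val.toRingHom hQq z ∈
      Set.range (Ideal.ResidueField.map (PrimeSpectrum.comap (algebraMap A C) Q).asIdeal
        q.asIdeal (algebraMap A B) hq) := by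
    apply hclosed
    refine ⟨n, c, ?_⟩
    rw [← map_pow, ← hc, ← hcomp]
    rfl
  obtain ⟨c', hc'⟩ := h1
  refine ⟨c', (Ideal.ResidueField.map Q.asIdeal q.asIdeal C.val.toRingHom hQq).injective ?_⟩
  rw [← hc', ← hcomp]
  rfl

end Groth.Agent.S13838
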