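import Groth.Statements.S13839
import Mathlib
import Groth.Agent.Lib.Helper2.SymTenField
import Groth.Agent.Lib.Helper2.DescSection

set_option autoImplicit false
universe u
open AlgebraicGeometry
open scoped TensorProduct
open ChowMon

namespace Groth.Agent.S13839

section helpers
open Groth.Agent.Lib.helper2 Groth.Agent.Lib.helper2.SymTenField

/-- pointwise: at every prime of `C'`, the element `φ (m_d x)` is a fraction from `C`. -/
theorem pointwise (A C C' B : Type u) [CommRing A] [CommRing C] [CommRing C'] [CommRing B]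
    [Algebra A C] [Algebra A C'] [Algebra A B]
    (g : C →ₐ[A] C')
    (hg : FlatMor.IsUnivHomeo (Spec.map (CommRingCat.ofHom g.toRingHom)))
    (d : ℕ) (hd : 0 < d)
    (Q : PrimeSpectrum C')
    (hdeg :
      @Module.finrank (PrimeSpectrum.comap g.toRingHom Q).asIdeal.ResidueField Q.asIdeal.ResidueField _ _
          (Ideal.ResidueField.map (PrimeSpectrum.comap g.toRingHom Q).asIdeal Q.asIdeal g.toRingHom
            rfl).toAlgebra.toModule ∣ d)
    (φ : B →ₐ[A] C') (x : ⨂[A] _ : Fin d, B) (hx : x ∈ SymTen.TS A B d) :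
    ∃ a s : C, s ∉ (PrimeSpectrum.comap g.toRingHom Q).asIdeal ∧
      g s * φ (PiTensorProduct.lift (MultilinearMap.mkPiAlgebra A (Fin d) B) x) - g a ∈ Q.asIdeal := by
  set P := (PrimeSpectrum.comap g.toRingHom Q).asIdeal with hP
  letI algKL : Algebra P.ResidueField Q.asIdeal.ResidueField :=
    (Ideal.ResidueField.map P Q.asIdeal g.toRingHom rfl).toAlgebra
  haveI : IsScalarTower A P.ResidueField Q.asIdeal.ResidueField := by
    refine IsScalarTower.of_algebraMap_eq (fun a => ?_)
    rw [IsScalarTower.algebraMap_apply A C' Q.asIdeal.ResidueField,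
      IsScalarTower.algebraMap_apply A C P.ResidueField]
    show _ = Ideal.ResidueField.map P Q.asIdeal g.toRingHom rfl
      (algebraMap C P.ResidueField (algebraMap A C a))
    rw [Ideal.ResidueField.map_algebraMap]
    congr 1
    exact (g.commutes a).symm
  haveI : IsPurelyInseparable P.ResidueField Q.asIdeal.ResidueField := by
    rw [isPurelyInseparable_iff_pow_mem P.ResidueField (ringExpChar P.ResidueField)]
    intro z
    obtain ⟨n, hn⟩ := SpecResidue.exists_pow_mem_range_of_isUnivHomeo_Spec g.toRingHom hg Q z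
    exact ⟨n, hn⟩
  haveI : FiniteDimensional P.ResidueField Q.asIdeal.ResidueField := by
    refine Module.finite_of_finrank_pos (Nat.pos_of_ne_zero ?_)
    intro h0
    rw [h0] at hdeg
    exact hd.ne' (zero_dvd_iff.1 hdeg)
  let ψ : B →ₐ[A] Q.asIdeal.ResidueField :=
    { (algebraMap C' Q.asIdeal.ResidueField).comp φ.toRingHom with
      commutes' := fun a => by
        show (algebraMap C' Q.asIdeal.ResidueField) (φ (algebraMap A B a)) = _
        rw [φ.commutes]
        exact (IsScalarTower.algebraMap_apply A C' Q.asIdeal.ResidueField a).symm }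
  have hψ : ∀ b, ψ b = algebraMap C' Q.asIdeal.ResidueField (φ b) := fun _ => rfl
  have key := lift_mem_range_of_symmetric (K := P.ResidueField) (L := Q.asIdeal.ResidueField)
    d hdeg ψ x hx
  have hcomp : PiTensorProduct.lift ((MultilinearMap.mkPiAlgebra A (Fin d) Q.asIdeal.ResidueField).compLinearMap
      (fun _ => ψ.toLinearMap)) x =
      algebraMap C' Q.asIdeal.ResidueField
        (φ (PiTensorProduct.lift (MultilinearMap.mkPiAlgebra A (Fin d) B) x)) := by
    have : PiTensorProduct.lift ((MultilinearMap.mkPiAlgebra A (Fin d) Q.asIdeal.ResidueField).compLinearMap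
        (fun _ => ψ.toLinearMap)) =
        ψ.toLinearMap ∘ₗ PiTensorProduct.lift (MultilinearMap.mkPiAlgebra A (Fin d) B) := by
      apply PiTensorProduct.ext
      ext v
      simp
    rw [this]
    rfl
  rw [hcomp] at key
  obtain ⟨k, hk⟩ := key
  obtain ⟨a, s, hs, hks⟩ := UnivHomeoElem.exists_frac P k
  refine ⟨a, s, hs, ?_⟩
  rw [← Ideal.algebraMap_residueField_eq_zero, map_sub, map_mul, sub_eq_zero, ← hk]
  have h1 := congrArg (algebraMap P.ResidueField Q.asIdeal.ResidueField) hks
  rw [map_mul] at h1
  have h2 : ∀ c : C, algebraMap P.ResidueField Q.asIdeal.ResidueField (algebraMap C P.ResidueField c) =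
      algebraMap C' Q.asIdeal.ResidueField (g c) := fun c =>
    Ideal.ResidueField.map_algebraMap P Q.asIdeal g.toRingHom rfl c
  rw [h2, h2] at h1
  rw [mul_comm]
  exact h1

/-- a seminormal ring contains every element of a reduced finite universally homeomorphic extension
that is pointwise a fraction. -/
theorem mem_range_of_pointwise {C C' : Type u} [CommRing C] [CommRing C']
    (hC : HTop.IsSeminormalRing C) (g : C →+* C') [IsReduced C'] (hint : g.IsIntegral)
    (hg : FlatMor.IsUnivHomeo (Spec.map (CommRingCat.ofHom g))) (c' : C')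
    (hpt : ∀ Q : PrimeSpectrum C', ∃ a s : C, s ∉ (PrimeSpectrum.comap g Q).asIdeal ∧
      g s * c' - g a ∈ Q.asIdeal) : c' ∈ g.range := by
  haveI := AWNRing.isReduced_of_isSeminormalRing hC
  have hginj : Function.Injective g := AWNRing.injective_of_isUnivHomeo_of_isReduced g hg
  letI : Algebra C C' := g.toAlgebra
  have halg : ∀ c : C, algebraMap C C' c = g c := fun _ => rfl
  haveI : Algebra.IsIntegral C C' := algebraMap_isIntegral_iff.1 hint
  let D : Subalgebra C C' := Algebra.adjoin C {c'}
  have hc'D : c' ∈ D := Algebra.subset_adjoin (Set.mem_singleton c')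
  let ψ : C →+* D := algebraMap C D
  have hψ : ∀ c : C, ((ψ c : D) : C') = g c := fun _ => rfl
  haveI : IsReduced D := isReduced_of_injective D.val Subtype.val_injective
  have hψint : ψ.IsIntegral := by
    intro y
    have h1 : IsIntegral C (y : C') := Algebra.IsIntegral.isIntegral _
    have h2 : IsIntegral C y := (isIntegral_algHom_iff D.val Subtype.val_injective).1 h1
    exact h2
  have hψinj : Function.Injective ψ := by
    intro a b hab
    apply hginj
    rw [← hψ a, ← hψ b, hab]
  have hvalint : D.val.toRingHom.IsIntegral := by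
    intro y
    have h1 : IsIntegral C y := Algebra.IsIntegral.isIntegral _
    exact IsIntegral.tower_top (A := D) h1
  have hvalsurj : Function.Surjective (PrimeSpectrum.comap D.val.toRingHom) := by
    refine FiltColimUH.comap_surjective_of_integral_of_ker D.val.toRingHom hvalint ?_
    intro y hy
    have : y = 0 := Subtype.val_injective (by simpa using hy)
    rw [this]
    exact Ideal.zero_mem _
  have hcomp : ∀ Q : PrimeSpectrum C', PrimeSpectrum.comap ψ (PrimeSpectrum.comap D.val.toRingHom Q) =
      PrimeSpectrum.comap g Q := by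
    intro Q
    ext c
    rfl
  have hQSN : SNRing.QSN ψ := by
    refine DescSection.qsn_of_pointwise ψ hψint ?_ ?_ ?_
    · intro c hc
      have : c = 0 := hψinj (by rw [RingHom.mem_ker.1 hc, map_zero])
      rw [this]
      exact Ideal.zero_mem _
    · intro q₁ q₂ h
      obtain ⟨Q₁, rfl⟩ := hvalsurj q₁
      obtain ⟨Q₂, rfl⟩ := hvalsurj q₂
      rw [hcomp, hcomp] at h
      rw [(SpecResidue.comap_bijective_of_isUnivHomeo_Spec g hg).1 h]
    · intro q a'
      obtain ⟨Q, rfl⟩ := hvalsurj q
      have hmemQ : ∀ y : D, y ∈ (PrimeSpectrum.comap D.val.toRingHom Q).asIdeal ↔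
          (y : C') ∈ Q.asIdeal := fun _ => Iff.rfl
      rw [hcomp]
      obtain ⟨a', ha'⟩ := a'
      induction ha' using Algebra.adjoin_induction with
      | mem y hy =>
        obtain rfl : y = c' := hy
        obtain ⟨a, s, hs, hmem⟩ := hpt Q
        refine ⟨a, s, hs, ?_⟩
        rw [hmemQ]
        exact hmem
      | algebraMap r =>
        refine ⟨r, 1, ?_, ?_⟩
        · intro h1
          exact (PrimeSpectrum.comap g Q).isPrime.ne_top ((Ideal.eq_top_iff_one _).2 h1)
        · rw [hmemQ]
          have : ((ψ 1 * ⟨algebraMap C C' r, Subalgebra.algebraMap_mem _ r⟩ - ψ r : D) : C') = 0 := by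
            simp [halg, hψ]
          rw [this]
          exact Ideal.zero_mem _
      | add y z hy hz ihy ihz =>
        obtain ⟨a₁, s₁, hs₁, h₁⟩ := ihy
        obtain ⟨a₂, s₂, hs₂, h₂⟩ := ihz
        refine ⟨s₂ * a₁ + s₁ * a₂, s₁ * s₂, ?_, ?_⟩
        · intro h
          rcases (PrimeSpectrum.comap g Q).isPrime.mem_or_mem h with h | h
          · exact hs₁ h
          · exact hs₂ h
        · rw [hmemQ] at h₁ h₂ ⊢
          have e : ((ψ (s₁ * s₂) * ⟨y + z, Subalgebra.add_mem _ hy hz⟩ - ψ (s₂ * a₁ + s₁ * a₂) : D) : C') =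
              g s₂ * (g s₁ * y - g a₁) + g s₁ * (g s₂ * z - g a₂) := by
            simp only [Subalgebra.coe_sub, Subalgebra.coe_mul, Subalgebra.coe_add, hψ, map_mul, map_add]
            ring
          rw [e]
          have h₁' : g s₁ * y - g a₁ ∈ Q.asIdeal := by simpa [hψ] using h₁
          have h₂' : g s₂ * z - g a₂ ∈ Q.asIdeal := by simpa [hψ] using h₂
          exact Ideal.add_mem _ (Ideal.mul_mem_left _ _ h₁') (Ideal.mul_mem_left _ _ h₂')
      | mul y z hy hz ihy ihz =>
        obtain ⟨a₁, s₁, hs₁, h₁⟩ := ihy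
        obtain ⟨a₂, s₂, hs₂, h₂⟩ := ihz
        refine ⟨a₁ * a₂, s₁ * s₂, ?_, ?_⟩
        · intro h
          rcases (PrimeSpectrum.comap g Q).isPrime.mem_or_mem h with h | h
          · exact hs₁ h
          · exact hs₂ h
        · rw [hmemQ] at h₁ h₂ ⊢
          have e : ((ψ (s₁ * s₂) * ⟨y * z, Subalgebra.mul_mem _ hy hz⟩ - ψ (a₁ * a₂) : D) : C') =
              g s₁ * y * (g s₂ * z - g a₂) + g a₂ * (g s₁ * y - g a₁) := by
            simp only [Subalgebra.coe_sub, Subalgebra.coe_mul, hψ, map_mul]
            ring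
          rw [e]
          have h₁' : g s₁ * y - g a₁ ∈ Q.asIdeal := by simpa [hψ] using h₁
          have h₂' : g s₂ * z - g a₂ ∈ Q.asIdeal := by simpa [hψ] using h₂
          exact Ideal.add_mem _ (Ideal.mul_mem_left _ _ h₂') (Ideal.mul_mem_left _ _ h₁')
  obtain ⟨c, hc⟩ := (SNRing.bijective_of_isSeminormalRing hC ψ hQSN).2 ⟨c', hc'D⟩
  refine ⟨c, ?_⟩
  rw [← hψ c, hc]

end helpers

/-- Let C be a Noetherian seminormal A-algebra, g : C → C' an A-algebra map with C' reduced such that
Spec C' → Spec C is a finite universal homeomorphism, and d ≥ 1 an integer divisible by every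
residue degree [k(q) : k(g⁻¹q)]; let B be a flat A-algebra and φ : B → C' an A-algebra map. Then for
every symmetric tensor x ∈ TS^d_A(B) the element φ(m_d(x)) of C', m_d : B^{⊗d} → B the
multiplication, lies in the image of C. (The published statement does not assume C' reduced and is
false without it: take A = C = k a field, C' = k[ε]/(ε²), d = 1, B = k[t] and φ(t) = ε; then ε is
not in k.) -/
theorem result (A C C' B : Type u) [CommRing A] [CommRing C] [CommRing C'] [CommRing B]
    [Algebra A C] [Algebra A C'] [Algebra A B] [IsNoetherianRing C] (hC : HTop.IsSeminormalRing C)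
    (g : C →ₐ[A] C') [IsReduced C'] (hfin : g.toRingHom.Finite)
    (hg : FlatMor.IsUnivHomeo (Spec.map (CommRingCat.ofHom g.toRingHom)))
    (d : ℕ) (hd : 0 < d)
    (hdeg : ∀ q : PrimeSpectrum C',
      @Module.finrank (PrimeSpectrum.comap g.toRingHom q).asIdeal.ResidueField q.asIdeal.ResidueField _ _
          (Ideal.ResidueField.map (PrimeSpectrum.comap g.toRingHom q).asIdeal q.asIdeal g.toRingHom
            rfl).toAlgebra.toModule ∣ d)
    [Module.Flat A B] (φ : B →ₐ[A] C') (x : ⨂[A] _ : Fin d, B) (hx : x ∈ SymTen.TS A B d) :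
    φ (PiTensorProduct.lift (MultilinearMap.mkPiAlgebra A (Fin d) B) x) ∈ g.range := by
  have hint : g.toRingHom.IsIntegral := hfin.to_isIntegral
  have h := mem_range_of_pointwise hC g.toRingHom hint hg
    (φ (PiTensorProduct.lift (MultilinearMap.mkPiAlgebra A (Fin d) B) x))
    (fun Q => pointwise A C C' B g hg d hd Q (hdeg Q) φ x hx)
  obtain ⟨c, hc⟩ := h
  exact ⟨c, hc⟩

end Groth.Agent.S13839
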