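import Groth.Statements.S13841
import Mathlib
import Groth.Agent.Lib.Helper12.PerIndCor
-- import your own Groth.Agent.* helpers here

set_option autoImplicit false
universe u v
open scoped TensorProduct
open Brauer

namespace Groth.Agent.S13841

/-- Let k be a field and A a finite-dimensional central simple k-algebra of period n. Then A has index n
if and only if there is a finite field extension k' of k of degree coprime to n such that the index
of the k'-algebra k' ⊗_k A divides n. (The published statement is for a class of period n in H²(X,
G_m) on a scheme X over k; this row is the case where X is the spectrum of k.) -/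
theorem result (k : Type u) [Field k] (A : Type v) [Ring A] [Algebra k A]
    [Algebra.IsCentral k A] [IsSimpleRing A] [FiniteDimensional k A] (n : ℕ) (hper : CSAGal.IsPeriod k A n) :
    CSAGal.IsIndex k A n ↔
      ∃ (k' : Type u) (_ : Field k') (_ : Algebra k k') (_ : FiniteDimensional k k'),
        Nat.Coprime n (Module.finrank k k') ∧ ∃ d' : ℕ, CSAGal.IsIndex k' (k' ⊗[k] A) d' ∧ d' ∣ n := by
  constructor
  · intro hidx
    refine ⟨k, inferInstance, inferInstance, inferInstance, ?_, ?_⟩
    · rw [Module.finrank_self]
      exact Nat.coprime_one_right n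
    · have hcB : Algebra.IsCentral k (k ⊗[k] A) :=
        Groth.Agent.Lib.helper12.CSA.isCentral_baseChange k k A
      have hsB : IsSimpleRing (k ⊗[k] A) := Groth.Agent.S0190.main k k A
      obtain ⟨d', hd'⟩ := Groth.Agent.Lib.helper12.CSA.exists_isIndex k (k ⊗[k] A)
      refine ⟨d', hd', ?_⟩
      exact (Groth.Agent.Lib.helper12.PerInd.index_dvd_of_coprime k A k n hper.1
        (by rw [Module.finrank_self]; exact Nat.coprime_one_right n) hper.2.1 n hidx d' hd').1
  · rintro ⟨k', _, _, _, hcop, d', hd', hd'n⟩
    obtain ⟨d, hd⟩ := Groth.Agent.Lib.helper12.CSA.exists_isIndex k A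
    have h1 : d ∣ n := (Groth.Agent.Lib.helper12.PerInd.index_dvd_of_coprime k A k' n hper.1
      hcop hper.2.1 d hd d' hd').2 hd'n
    have h2 : n ∣ d := Groth.Agent.Lib.helper12.PerInd.period_dvd_index k A d n hd hper
    have h3 : d = n := Nat.dvd_antisymm h1 h2
    rw [← h3]
    exact hd

end Groth.Agent.S13841
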