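import Groth.Statements.S13843
import Mathlib
import Groth.Agent.Lib.Helper21.GalCohTrace2
import Groth.Agent.Lib.Helper27.AcycComp
-- import your own Groth.Agent.* helpers here

set_option autoImplicit false
universe u
open CategoryTheory CategoryTheory.Limits AlgebraicGeometry
open GalCoh

namespace Groth.Agent.S13843

open IntermediateField

/-- a finite separable extension embeds into a finite Galois extension, which has a subfield of
degree prime to `p` under which it has `p`-power degree -/
lemma exists_sylow_field (K L : Type u) [Field K] [Field L] [Algebra K L] [FiniteDimensional K L]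
    [Algebra.IsSeparable K L] (p : ℕ) [hp : Fact p.Prime] :
    ∃ (M : Type u) (_ : Field M) (_ : Algebra K M) (_ : Algebra L M) (_ : IsScalarTower K L M)
      (_ : FiniteDimensional K M) (_ : Algebra.IsSeparable K M) (L' : IntermediateField K M),
      ¬ p ∣ Module.finrank K L' ∧ ∃ r : ℕ, Module.finrank L' M = p ^ r := by
  let Ω := AlgebraicClosure L
  haveI : IsAlgClosure K Ω := IsAlgClosure.ofAlgebraic K L Ω
  haveI : Normal K Ω := inferInstance
  let M := normalClosure K L Ω
  haveI hsep : Algebra.IsSeparable K M := by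
    have : ∀ f : L →ₐ[K] Ω, Algebra.IsSeparable K f.fieldRange := fun f =>
      AlgEquiv.Algebra.isSeparable (AlgEquiv.ofInjectiveField f)
    exact IntermediateField.isSeparable_iSup K Ω
  haveI : IsGalois K M := ⟨⟩
  let P : Sylow p (M ≃ₐ[K] M) := default
  let L' : IntermediateField K M := fixedField (P : Subgroup (M ≃ₐ[K] M))
  have h1 : Module.finrank L' M = Nat.card (P : Subgroup (M ≃ₐ[K] M)) :=
    finrank_fixedField_eq_card _
  have h2 : Module.finrank K L' * Module.finrank L' M = Module.finrank K M :=
    Module.finrank_mul_finrank K L' M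
  have h3 : Nat.card (M ≃ₐ[K] M) = Module.finrank K M := IsGalois.card_aut_eq_finrank K M
  have h4 := (P : Subgroup (M ≃ₐ[K] M)).index_mul_card
  have h5 : Module.finrank K L' = (P : Subgroup (M ≃ₐ[K] M)).index := by
    have hpos : 0 < Nat.card (P : Subgroup (M ≃ₐ[K] M)) := Nat.card_pos
    rw [← h3, ← h4, h1] at h2
    exact Nat.eq_of_mul_eq_mul_right hpos h2
  refine ⟨M, inferInstance, inferInstance, inferInstance, inferInstance, inferInstance, hsep, L',
    ?_, ?_⟩
  · rw [h5]
    exact P.not_dvd_index
  · rw [h1]
    exact ⟨_, P.card_eq_multiplicity⟩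

/-- Let K be a field, F an abelian sheaf on the small étale site of Spec K, i > 0 and α a class in
H^i(Spec K, F) which pulls back to zero over some finite separable field extension L of K. If p is a
prime not dividing the order of α, then there is a finite separable field extension L' of K whose
degree is not divisible by p and over which α pulls back to zero. Hence the period and the index of
α have the same prime factors. (Exactness of pullback of abelian sheaves, which always holds, is
carried as an instance hypothesis, in the conclusion for every such instance.) -/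
theorem result (K : Type u) [Field K] (F : EtCoh.Ab (Spec (CommRingCat.of K))) (i : ℕ)
    (hi : 0 < i) (α : EtCoh.H (Spec (CommRingCat.of K)) F i) (L : Type u) [Field L] [Algebra K L] [FiniteDimensional K L]
    [Algebra.IsSeparable K L] [PreservesFiniteLimits (EtCoh.pull (Spec.map (CommRingCat.ofHom (algebraMap K L))))]
    (hα : EtCore.Hpull (Spec.map (CommRingCat.ofHom (algebraMap K L))) F i α = 0) (p : ℕ) (hp : p.Prime) (hpα : ¬ p ∣ addOrderOf α) :
    ∃ (L' : Type u) (_ : Field L') (_ : Algebra K L') (_ : FiniteDimensional K L') (_ : Algebra.IsSeparable K L'),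
      ¬ p ∣ Module.finrank K L' ∧
        ∀ [PreservesFiniteLimits (EtCoh.pull (Spec.map (CommRingCat.ofHom (algebraMap K L'))))],
          EtCore.Hpull (Spec.map (CommRingCat.ofHom (algebraMap K L'))) F i α = 0 := by
  haveI : Fact p.Prime := ⟨hp⟩
  obtain ⟨M, _, _, _, _, _, _, L', hL', r, hr⟩ := exists_sylow_field K L p
  refine ⟨L', inferInstance, inferInstance, inferInstance, inferInstance, hL', ?_⟩
  intro _
  haveI : FiniteDimensional L M := FiniteDimensional.right K L M
  haveI : Algebra.IsSeparable L M := Algebra.isSeparable_tower_top_of_isSeparable K L M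
  haveI : FiniteDimensional L' M := FiniteDimensional.right K L' M
  haveI : Algebra.IsSeparable L' M := Algebra.isSeparable_tower_top_of_isSeparable K L' M
  have w : Groth.Agent.Lib.helper21.GalCohTrace.pi L' M ≫
      Groth.Agent.Lib.helper21.GalCohTrace.pi K L' =
      Groth.Agent.Lib.helper21.GalCohTrace.pi K M := by
    rw [← Spec.map_comp, ← CommRingCat.ofHom_comp]
    exact congrArg (fun φ => Spec.map (CommRingCat.ofHom φ))
      (IsScalarTower.algebraMap_eq K L' M).symm
  have w' : Groth.Agent.Lib.helper21.GalCohTrace.pi L M ≫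
      Groth.Agent.Lib.helper21.GalCohTrace.pi K L =
      Groth.Agent.Lib.helper21.GalCohTrace.pi K M := by
    rw [← Spec.map_comp, ← CommRingCat.ofHom_comp]
    exact congrArg (fun φ => Spec.map (CommRingCat.ofHom φ))
      (IsScalarTower.algebraMap_eq K L M).symm
  obtain ⟨e', he'⟩ := Groth.Agent.Lib.helper27.AcycComp.Hpull_comp _ _ _ w' F i
  have hc : EtCore.Hpull (Groth.Agent.Lib.helper21.GalCohTrace.pi K M) F i α = 0 := by
    have h := he' α
    rw [hα, map_zero] at h
    apply (Groth.Agent.Lib.helper27.AcycComp.bijective_comp_mk₀_iso e' i).1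
    show (EtCore.Hpull (Groth.Agent.Lib.helper21.GalCohTrace.pi K M) F i α).comp
      (Abelian.Ext.mk₀ e'.hom) (add_zero i) = (0 : EtCoh.H _ _ i).comp
      (Abelian.Ext.mk₀ e'.hom) (add_zero i)
    rw [← h, Abelian.Ext.zero_comp]
  obtain ⟨e, he⟩ := Groth.Agent.Lib.helper27.AcycComp.Hpull_comp _ _ _ w F i
  have h1 : EtCore.Hpull (Groth.Agent.Lib.helper21.GalCohTrace.pi L' M) _ i
      (EtCore.Hpull (Groth.Agent.Lib.helper21.GalCohTrace.pi K L') F i α) = 0 := by
    rw [he, hc, Abelian.Ext.zero_comp]
  have h2 : p ^ r • (EtCore.Hpull (Groth.Agent.Lib.helper21.GalCohTrace.pi K L') F i α) = 0 := by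
    rw [← hr]
    exact Groth.Agent.Lib.helper21.GalCohTrace.nsmul_eq_zero_of_Hpull
      (Groth.Agent.Lib.helper21.GalCohTrace.pi L' M) _
      (Groth.Agent.Lib.helper21.GalCohTrace.finrank_pi L' M) _ i _ h1
  have h3 : addOrderOf α •
      (EtCore.Hpull (Groth.Agent.Lib.helper21.GalCohTrace.pi K L') F i α) = 0 := by
    rw [← map_nsmul, addOrderOf_nsmul_eq_zero, map_zero]
  have hcop : Nat.Coprime (p ^ r) (addOrderOf α) :=
    Nat.Coprime.pow_left r ((Nat.Prime.coprime_iff_not_dvd hp).2 hpα)
  obtain ⟨z, hz⟩ := Groth.Agent.Lib.helper21.FEtTrace3.exists_eq_nsmul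
    (EtCore.Hpull (Groth.Agent.Lib.helper21.GalCohTrace.pi K L') F i α) _ _ hcop h3
  show EtCore.Hpull (Groth.Agent.Lib.helper21.GalCohTrace.pi K L') F i α = 0
  rw [hz, smul_comm, h2, smul_zero]

end Groth.Agent.S13843
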