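import Groth.Statements.S13844
import Groth.Agent.Lib.Helper17.RegSmoothSch2

set_option autoImplicit false
set_option linter.style.haveILetI false
universe u
open CategoryTheory CategoryTheory.Limits AlgebraicGeometry
attribute [local instance] Curv2.resAlgebra
open Curves

namespace Groth.Agent.S13844

/-- Let K be a field and C a normal curve over K, namely an integral normal separated K-scheme of finite
type of dimension one, and let S be a set of closed points of C whose residue fields are separable
over K. If the structure morphism of C is smooth at every point outside S, then it is smooth. (The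
published statement takes S to be a closed subscheme finite étale over K, that is finitely many such
points; this row allows any set of closed points with separable residue fields.) -/
theorem result (K : Type u) [Field K] (C : Scheme.{u}) [C.Over (Spec (CommRingCat.of K))]
    [IsIntegral C] [IsSeparated (C ↘ (Spec (CommRingCat.of K)))] [LocallyOfFinitePresentation (C ↘ (Spec (CommRingCat.of K)))]
    [QuasiCompact (C ↘ (Spec (CommRingCat.of K)))] (hN : ∀ x : C, IsIntegrallyClosed (C.presheaf.stalk x))
    (hdim : topologicalKrullDim C = 1) (S : Set C)
    (hS : ∀ x ∈ S, IsClosed ({x} : Set C) ∧ Algebra.IsSeparable K (C.residueField x))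
    (hsm : ∀ x : C, x ∉ S → x ∈ (C ↘ (Spec (CommRingCat.of K))).smoothLocus) :
    AlgebraicGeometry.Smooth (C ↘ (Spec (CommRingCat.of K))) := by
  classical
  set f := C ↘ (Spec (CommRingCat.of K)) with hf
  rw [← Scheme.Hom.smoothLocus_eq_top_iff, ← top_le_iff]
  rintro x -
  by_cases hxS : x ∈ S
  · obtain ⟨hxc, hsepx⟩ := hS x hxS
    have hsep : letI := (Groth.Agent.Lib.helper17.RegSmooth.resMap f x).toAlgebra
        Algebra.IsSeparable K (C.residueField x) := hsepx
    rw [Groth.Agent.Lib.helper17.RegSmooth.mem_smoothLocus_iff_isRegularLocalRing f x
      (Groth.Agent.Lib.helper17.RegSmooth.formallySmooth_resMap_of_isSeparable f x hsep)]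
    have : IsLocallyNoetherian C := LocallyOfFiniteType.isLocallyNoetherian f
    have hdimB : ringKrullDim (C.presheaf.stalk x) ≤ 1 := by
      rw [← hdim, ← PrimeSpectrum.topologicalKrullDim_eq_ringKrullDim]
      exact (C.fromSpecStalk x).isEmbedding.isInducing.topologicalKrullDim_le
    haveI := hN x
    haveI hK : Ring.KrullDimLE 1 (C.presheaf.stalk x) := (Order.krullDimLE_iff 1 _).mpr hdimB
    have hmax := Ring.krullDimLE_one_iff_of_noZeroDivisors.mp hK
    haveI : IsPrincipalIdealRing (C.presheaf.stalk x) :=
      ((tfae_of_isNoetherianRing_of_isLocalRing_of_isDomain (C.presheaf.stalk x)).out 3 0 rfl rfl).mp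
        ⟨inferInstance, fun P hP hPp => IsLocalRing.eq_maximalIdeal (hmax P hP hPp)⟩
    infer_instance
  · exact hsm x hxS

end Groth.Agent.S13844
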