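import Groth.Statements.S13848
import Mathlib

set_option autoImplicit false
universe u v
open TwSh

namespace Groth.Agent.S13848

/-- Let A be a ring with A/J a simple left-Artinian ring, J the Jacobson radical, and let P be a
non-zero finitely generated projective left A-module. An A-linear automorphism u of P which commutes
with every A-linear endomorphism of P (equivalently, induces the identity on End_A(P) by
conjugation) is scalar multiplication by a unique central element a of A: u(x) = a·x for all x ∈ P,
and a is determined by u. (So the automorphisms of P acting trivially on End_A(P) are exactly the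
central units of A acting by scalars; the published assertion does not exclude P = 0, where
uniqueness fails.) -/
theorem result (A : Type u) [Ring A] [IsSimpleRing (A ⧸ Ring.jacobson A)] [IsArtinianRing (A ⧸ Ring.jacobson A)] (P : Type v) [AddCommGroup P] [Module A P] [Module.Finite A P] [Module.Projective A P] [Nontrivial P] (u : P ≃ₗ[A] P) (hu : ∀ f : Module.End A P, (u : P →ₗ[A] P) ∘ₗ f = f ∘ₗ (u : P →ₗ[A] P)) : ∃! a : A, (∀ b : A, a * b = b * a) ∧ ∀ x : P, u x = a • x := by
  classical
  set J := Ring.jacobson A with hJ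
  let π : A →+* A ⧸ J := Ideal.Quotient.mk J
  let S : Set A := {a | ∃ (f : P →ₗ[A] A) (p : P), a = f p}
  let T : Ideal A := Submodule.span A S
  have hTr : ∀ t ∈ T, ∀ a : A, t * a ∈ T := by
    intro t ht a
    induction ht using Submodule.span_induction with
    | mem s hs =>
      obtain ⟨f, p, rfl⟩ := hs
      exact Submodule.subset_span ⟨(LinearMap.mulRight A a).comp f, p, rfl⟩
    | zero => simp
    | add x y _ _ hx hy => rw [add_mul]; exact T.add_mem hx hy
    | smul b x _ hx => rw [smul_eq_mul, mul_assoc]; exact T.mul_mem_left b hx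
  have h1T : (1 : A) ∈ T := by
    by_contra h1
    let I : TwoSidedIdeal (A ⧸ J) := TwoSidedIdeal.mk' (π '' (T : Set A))
      ⟨0, T.zero_mem, map_zero π⟩
      (by
        rintro _ _ ⟨x, hx, rfl⟩ ⟨y, hy, rfl⟩
        exact ⟨x + y, T.add_mem hx hy, map_add π x y⟩)
      (by
        rintro _ ⟨x, hx, rfl⟩
        exact ⟨-x, T.neg_mem hx, map_neg π x⟩)
      (by
        rintro b _ ⟨x, hx, rfl⟩
        obtain ⟨a, rfl⟩ := Ideal.Quotient.mk_surjective b
        exact ⟨a * x, T.mul_mem_left a hx, map_mul π a x⟩)
      (by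
        rintro _ b ⟨x, hx, rfl⟩
        obtain ⟨a, rfl⟩ := Ideal.Quotient.mk_surjective b
        exact ⟨x * a, hTr x hx a, map_mul π x a⟩)
    have hmemI : ∀ y : A ⧸ J, y ∈ I ↔ y ∈ π '' (T : Set A) := fun y =>
      TwoSidedIdeal.mem_mk' _ _ _ _ _ _ y
    rcases eq_bot_or_eq_top I with hI | hI
    · have hfp : ∀ (f : P →ₗ[A] A) (p : P), f p ∈ J := by
        intro f p
        have h2 : π (f p) ∈ I := (hmemI _).mpr ⟨f p, Submodule.subset_span ⟨f, p, rfl⟩, rfl⟩
        rw [hI] at h2
        have h3 : π (f p) = 0 := (TwoSidedIdeal.mem_bot _).mp h2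
        exact Ideal.Quotient.eq_zero_iff_mem.mp h3
      obtain ⟨n, F, g, -, -, hFg⟩ := Module.Finite.exists_comp_eq_id_of_projective A P
      have htop : (⊤ : Submodule A P) ≤ J • (⊤ : Submodule A P) := by
        intro x _
        have hx : x = F (g x) := by rw [← LinearMap.comp_apply, hFg]; rfl
        rw [hx, LinearMap.pi_apply_eq_sum_univ]
        refine Submodule.sum_mem _ fun j _ => Submodule.smul_mem_smul ?_ trivial
        exact hfp ((LinearMap.proj j).comp g) x
      have h4 := Submodule.FG.eq_bot_of_le_jacobson_smul (Module.Finite.fg_top) htop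
      exact top_ne_bot h4
    · obtain ⟨M, hM, hTM⟩ := Ideal.exists_le_maximal T ((Ideal.ne_top_iff_one T).mpr h1)
      have h1I : (1 : A ⧸ J) ∈ I := hI ▸ trivial
      obtain ⟨t, ht, ht1⟩ := (hmemI _).mp h1I
      have hJM : J ≤ M := Ring.jacobson_le_of_isMaximal M
      have h5 : (1 : A) - t ∈ J := by
        rw [← Ideal.Quotient.eq_zero_iff_mem, map_sub]
        show π 1 - π t = 0
        rw [ht1, map_one, sub_self]
      have h6 : (1 : A) ∈ M := by
        have := M.add_mem (hJM h5) (hTM ht)
        simpa using this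
      exact hM.ne_top ((Ideal.eq_top_iff_one M).mpr h6)
  have hkey : ∀ (f : P →ₗ[A] A) (p x : P), f p • u x = f (u p) • x := by
    intro f p x
    have h2 := LinearMap.congr_fun (hu (f.smulRight x)) p
    simp only [LinearMap.comp_apply, LinearMap.smulRight_apply, LinearEquiv.coe_coe,
      map_smul] at h2
    exact h2
  have hex : ∀ t ∈ T, ∃ a : A, ∀ x : P, t • u x = a • x := by
    intro t ht
    induction ht using Submodule.span_induction with
    | mem s hs =>
      obtain ⟨f, p, rfl⟩ := hs
      exact ⟨f (u p), fun x => hkey f p x⟩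
    | zero => exact ⟨0, fun x => by simp⟩
    | add x y _ _ hx hy =>
      obtain ⟨a, ha⟩ := hx
      obtain ⟨b, hb⟩ := hy
      exact ⟨a + b, fun z => by rw [add_smul, add_smul, ha, hb]⟩
    | smul b x _ hx =>
      obtain ⟨a, ha⟩ := hx
      exact ⟨b * a, fun z => by rw [smul_eq_mul, mul_smul, mul_smul, ha]⟩
  have hfaith : ∀ t ∈ T, ∀ c : A, (∀ x : P, c • x = 0) → c * t = 0 := by
    intro t ht
    induction ht using Submodule.span_induction with
    | mem s hs =>
      obtain ⟨f, p, rfl⟩ := hs
      intro c hc
      rw [← smul_eq_mul, ← map_smul, hc, map_zero]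
    | zero => intro c _; simp
    | add x y _ _ hx hy => intro c hc; rw [mul_add, hx c hc, hy c hc, add_zero]
    | smul b x _ hx =>
      intro c hc
      rw [smul_eq_mul, ← mul_assoc]
      exact hx (c * b) (fun z => by rw [mul_smul, hc])
  have hfaith1 : ∀ c : A, (∀ x : P, c • x = 0) → c = 0 := fun c hc => by
    simpa using hfaith 1 h1T c hc
  obtain ⟨a, ha⟩ := hex 1 h1T
  simp only [one_smul] at ha
  refine ⟨a, ⟨fun b => ?_, ha⟩, ?_⟩
  · have h7 : a * b - b * a = 0 := hfaith1 _ (fun x => by
      rw [sub_smul, mul_smul, mul_smul, ← ha, ← ha, map_smul, sub_self])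
    exact sub_eq_zero.mp h7
  · rintro a' ⟨-, ha'⟩
    have h8 : a' - a = 0 := hfaith1 _ (fun x => by rw [sub_smul, ← ha, ← ha', sub_self])
    exact sub_eq_zero.mp h8

end Groth.Agent.S13848
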