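import Groth.Statements.S13860
import Mathlib

set_option autoImplicit false
universe u v w
open ModRep

namespace Groth.Agent.S13860

/-- For k a field of characteristic p > 0, G a finite group and P a Sylow p-subgroup of G, a short exact
sequence of k[G]-modules has a k[G]-linear splitting exactly when it has a k[P]-linear one. Stated
here for the surjection of the sequence: a G-equivariant k-linear map g : B → C between k-linear
representations of G admits a G-equivariant k-linear section if and only if it admits a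
P-equivariant k-linear section. -/
theorem result {k : Type u} [Field k] (p : ℕ) [Fact p.Prime]
    [CharP k p] {G : Type v} [Group G] [Finite G] (P : Sylow p G)
    {B C : Type w} [AddCommGroup B] [Module k B] [AddCommGroup C] [Module k C]
    (ρB : Representation k G B) (ρC : Representation k G C)
    (g : B →ₗ[k] C) (hg : ∀ x : G, g ∘ₗ ρB x = ρC x ∘ₗ g) :
    (∃ s : C →ₗ[k] B, g ∘ₗ s = LinearMap.id ∧ ∀ x : G, s ∘ₗ ρC x = ρB x ∘ₗ s) ↔
      (∃ s : C →ₗ[k] B, g ∘ₗ s = LinearMap.id ∧ ∀ x : G, x ∈ P → s ∘ₗ ρC x = ρB x ∘ₗ s) := by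
  constructor
  · rintro ⟨s, hs, hsG⟩
    exact ⟨s, hs, fun x _ => hsG x⟩
  · rintro ⟨s, hs, hsP⟩
    classical
    have : Fintype (G ⧸ (P : Subgroup G)) := Fintype.ofFinite _
    have hρC : ∀ (a b : G) (c : C), ρC a (ρC b c) = ρC (a * b) c := by
      intro a b c; rw [map_mul]; rfl
    have hρB : ∀ (a b : G) (c : B), ρB a (ρB b c) = ρB (a * b) c := by
      intro a b c; rw [map_mul]; rfl
    have hρC1 : ∀ c : C, ρC 1 c = c := by
      intro c; rw [map_one]; rfl
    have hgρ : ∀ (x : G) (b : B), g (ρB x b) = ρC x (g b) := fun x b =>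
      LinearMap.congr_fun (hg x) b
    have hgs : ∀ c : C, g (s c) = c := fun c => LinearMap.congr_fun hs c
    have hsρ : ∀ (h : G), h ∈ P → ∀ c : C, ρB h (s c) = s (ρC h c) := fun h hh c =>
      (LinearMap.congr_fun (hsP h hh) c).symm
    -- the conjugates of `s`
    let T : G → (C →ₗ[k] B) := fun x => ρB x ∘ₗ s ∘ₗ ρC x⁻¹
    have hTapp : ∀ (x : G) (c : C), T x c = ρB x (s (ρC x⁻¹ c)) := fun x c => rfl
    have hT' : ∀ x h : G, h ∈ (P : Subgroup G) → T (x * h) = T x := by
      intro x h hh
      ext c
      rw [hTapp, hTapp, mul_inv_rev, ← hρB, ← hρC, hsρ h hh, hρC, mul_inv_cancel, hρC1]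
    have hT : ∀ x y : G, x⁻¹ * y ∈ (P : Subgroup G) → T x = T y := by
      intro x y hxy
      have := hT' x (x⁻¹ * y) hxy
      rw [mul_inv_cancel_left] at this
      exact this.symm
    let Tq : G ⧸ (P : Subgroup G) → (C →ₗ[k] B) := fun q =>
      Quotient.liftOn' q T (fun x y hxy => hT x y (QuotientGroup.leftRel_apply.mp hxy))
    have hTq : ∀ x : G, Tq (x : G ⧸ (P : Subgroup G)) = T x := fun x => rfl
    have hTconj : ∀ (y : G) (q : G ⧸ (P : Subgroup G)) (c : C),
        ρB y (Tq q (ρC y⁻¹ c)) = Tq (y • q) c := by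
      intro y q c
      induction q using QuotientGroup.induction_on with
      | H x =>
        rw [MulAction.Quotient.smul_mk, hTq, hTq, hTapp, hTapp, hρB, hρC, smul_eq_mul,
          mul_inv_rev]
    -- the index is invertible in `k`
    let n : ℕ := Fintype.card (G ⧸ (P : Subgroup G))
    have hn : (n : k) ≠ 0 := by
      intro h0
      rw [CharP.cast_eq_zero_iff k p] at h0
      have : n = (P : Subgroup G).index := by
        rw [Subgroup.index, Nat.card_eq_fintype_card]
      rw [this] at h0
      exact P.not_dvd_index h0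
    let S : C →ₗ[k] B := ∑ q : G ⧸ (P : Subgroup G), Tq q
    have hSapp : ∀ c : C, S c = ∑ q : G ⧸ (P : Subgroup G), Tq q c := fun c =>
      LinearMap.sum_apply _ _ _
    have hgT : ∀ (q : G ⧸ (P : Subgroup G)) (c : C), g (Tq q c) = c := by
      intro q c
      induction q using QuotientGroup.induction_on with
      | H x =>
        rw [hTq, hTapp, hgρ, hgs, hρC, mul_inv_cancel, hρC1]
    refine ⟨(n : k)⁻¹ • S, ?_, ?_⟩
    · ext c
      simp only [LinearMap.comp_apply, LinearMap.smul_apply, LinearMap.id_apply, map_smul]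
      rw [hSapp, map_sum]
      simp only [hgT, Finset.sum_const, Finset.card_univ]
      rw [← Nat.cast_smul_eq_nsmul k, smul_smul, inv_mul_cancel₀ hn, one_smul]
    · intro y
      have hSy : ∀ c : C, ρB y (S (ρC y⁻¹ c)) = S c := by
        intro c
        rw [hSapp, hSapp, map_sum]
        simp only [hTconj]
        exact Equiv.sum_comp (MulAction.toPerm y : G ⧸ (P : Subgroup G) ≃ G ⧸ (P : Subgroup G))
          (fun q => Tq q c)
      ext c
      simp only [LinearMap.comp_apply, LinearMap.smul_apply, map_smul]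
      congr 1
      rw [← hSy (ρC y c), hρC, inv_mul_cancel, hρC1]

end Groth.Agent.S13860
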