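import Groth.Statements.S15051
import Mathlib

set_option autoImplicit false
universe u
open LubinTate

namespace Groth.Agent.S15051


section Lib
open MvPowerSeries

variable {R : Type*} [CommRing R] {σ τ : Type*}

/-- vanishing of all coefficients in degree `< m`. -/
def V (m : ℕ) (g : MvPowerSeries σ R) : Prop :=
  ∀ d : σ →₀ ℕ, d.degree < m → coeff d g = 0

theorem V_zero (m : ℕ) : V m (0 : MvPowerSeries σ R) := fun d _ => map_zero _

theorem V_add {m : ℕ} {g h : MvPowerSeries σ R} (hg : V m g) (hh : V m h) :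
    V m (g + h) := fun d hd => by rw [map_add, hg d hd, hh d hd, add_zero]

theorem V_sub {m : ℕ} {g h : MvPowerSeries σ R} (hg : V m g) (hh : V m h) :
    V m (g - h) := fun d hd => by rw [map_sub, hg d hd, hh d hd, sub_zero]

theorem V_neg {m : ℕ} {g : MvPowerSeries σ R} (hg : V m g) : V m (-g) :=
  fun d hd => by rw [map_neg, hg d hd, neg_zero]

theorem V_smul {m : ℕ} (c : R) {g : MvPowerSeries σ R} (hg : V m g) : V m (c • g) :=
  fun d hd => by rw [map_smul, hg d hd, smul_zero]

theorem V_sum {ι : Type*} {m : ℕ} (s : Finset ι) (g : ι → MvPowerSeries σ R)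
    (hg : ∀ i ∈ s, V m (g i)) : V m (∑ i ∈ s, g i) :=
  fun d hd => by rw [map_sum]; exact Finset.sum_eq_zero (fun i hi => hg i hi d hd)

theorem V_mono {m m' : ℕ} (h : m' ≤ m) {g : MvPowerSeries σ R} (hg : V m g) : V m' g :=
  fun d hd => hg d (lt_of_lt_of_le hd h)

theorem V_mul {a b : ℕ} {g h : MvPowerSeries σ R} (hg : V a g) (hh : V b h) :
    V (a + b) (g * h) := by
  classical
  intro d hd
  rw [coeff_mul]
  apply Finset.sum_eq_zero
  rintro ⟨p, q⟩ hpq
  have hpq' : p + q = d := Finset.HasAntidiagonal.mem_antidiagonal.mp hpq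
  have hdeg : p.degree + q.degree = d.degree := by rw [← hpq', map_add]
  by_cases hp : p.degree < a
  · show coeff p g * coeff q h = 0
    rw [hg p hp, zero_mul]
  · have hq : q.degree < b := by omega
    show coeff p g * coeff q h = 0
    rw [hh q hq, mul_zero]

theorem V_X (i : σ) : V 1 (X i : MvPowerSeries σ R) := by
  classical
  intro d hd
  rw [coeff_X, if_neg]
  rintro rfl
  rw [Finsupp.degree_single] at hd
  exact absurd hd (by decide)

theorem V_one_of_cc {g : MvPowerSeries σ R} (hg : constantCoeff g = 0) : V 1 g := by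
  intro d hd
  have hd0 : d.degree = 0 := by omega
  have h0 : d = 0 := (Finsupp.degree_eq_zero_iff d).mp hd0
  rw [h0, coeff_zero_eq_constantCoeff_apply, hg]

theorem cc_of_V {m : ℕ} (hm : 1 ≤ m) {g : MvPowerSeries σ R} (hg : V m g) :
    constantCoeff g = 0 := by
  rw [← coeff_zero_eq_constantCoeff_apply]
  apply hg
  rw [map_zero]; omega

theorem eq_zero_of_V {g : MvPowerSeries σ R} (hg : ∀ m, V m g) : g = 0 := by
  ext d
  rw [map_zero]
  exact hg (d.degree + 1) d (Nat.lt_succ_self _)

theorem V_pow {g : MvPowerSeries σ R} (hg : V 1 g) (k : ℕ) : V k (g ^ k) := by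
  induction k with
  | zero => exact fun d hd => absurd hd (Nat.not_lt_zero _)
  | succ k ih => rw [pow_succ]; exact V_mul ih hg

theorem V_pow_sub {m : ℕ} {x y : MvPowerSeries σ R} (hx : V 1 x) (hy : V 1 y)
    (h : V m (x - y)) (j : ℕ) : V (m + j) (x ^ (j + 1) - y ^ (j + 1)) := by
  induction j with
  | zero => rw [zero_add, pow_one, pow_one, add_zero]; exact h
  | succ j ih =>
    have e : x ^ (j + 1 + 1) - y ^ (j + 1 + 1) =
        x * (x ^ (j + 1) - y ^ (j + 1)) + (x - y) * y ^ (j + 1) := by ring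
    rw [e]
    refine V_add ?_ ?_
    · exact V_mono (by omega) (V_mul hx ih)
    · exact V_mono (by omega) (V_mul h (V_pow hy (j + 1)))

theorem V_iff {m : ℕ} {g : MvPowerSeries σ R} : V m g ↔ (m : ℕ∞) ≤ g.order :=
  ⟨fun h => nat_le_order h,
   fun h d hd => coeff_of_lt_order (lt_of_lt_of_le (by exact_mod_cast hd) h)⟩

theorem V_subst {a : σ → MvPowerSeries τ R} (ha : HasSubst a) (ha1 : ∀ s, V 1 (a s))
    {m : ℕ} {H : MvPowerSeries σ R} (hH : V m H) : V m (subst a H) := by
  rw [V_iff] at hH ⊢
  refine le_trans ?_ (le_order_subst ha H)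
  have h1 : (1 : ℕ∞) ≤ ⨅ i, (a i).order := le_iInf fun i => by
    have := V_iff.mp (ha1 i)
    rwa [Nat.cast_one] at this
  calc (m : ℕ∞) = 1 * m := (one_mul _).symm
    _ ≤ _ := mul_le_mul' h1 hH

theorem V_ps {m : ℕ} {g : PowerSeries R} (h : ∀ k, k < m → PowerSeries.coeff k g = 0) :
    V m (g : MvPowerSeries Unit R) := by
  intro d hd
  have hd' : d = Finsupp.single () (d ()) := Finsupp.unique_single d
  rw [hd'] at hd ⊢
  rw [Finsupp.degree_single] at hd
  exact h _ hd

theorem V2_sub_lin [Fintype σ] {H : MvPowerSeries σ R} (hH : constantCoeff H = 0) :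
    V 2 (H - ∑ s, coeff (Finsupp.single s 1) H • (X s : MvPowerSeries σ R)) := by
  classical
  intro d hd
  rw [map_sub, map_sum]
  have hterm : ∀ s, coeff d (coeff (Finsupp.single s 1) H • (X s : MvPowerSeries σ R)) =
      if d = Finsupp.single s 1 then coeff (Finsupp.single s 1) H else 0 := by
    intro s
    rw [map_smul, coeff_X, smul_eq_mul, mul_ite, mul_one, mul_zero]
  rw [Finset.sum_congr rfl (fun s _ => hterm s)]
  by_cases h0 : d.degree = 0
  · have hd0 : d = 0 := (Finsupp.degree_eq_zero_iff d).mp h0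
    rw [hd0, coeff_zero_eq_constantCoeff_apply, hH, zero_sub, neg_eq_zero]
    apply Finset.sum_eq_zero
    intro s _
    rw [if_neg]
    intro h
    have := congrArg Finsupp.degree h
    rw [map_zero, Finsupp.degree_single] at this
    exact absurd this (by decide)
  · have h1 : d.degree = 1 := by omega
    have hmem : d ∈ {d : σ →₀ ℕ | d.degree = 1} := h1
    rw [← Finsupp.range_single_one] at hmem
    obtain ⟨t, rfl⟩ := hmem
    rw [Finset.sum_eq_single t]
    · rw [if_pos rfl, sub_self]
    · intro s _ hs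
      rw [if_neg]
      intro h
      apply hs
      exact ((Finsupp.single_left_inj one_ne_zero).mp h).symm
    · intro h; exact absurd (Finset.mem_univ t) h

theorem V2_subst_sub_lin [Fintype σ] {a : σ → MvPowerSeries τ R} (ha : HasSubst a)
    (ha1 : ∀ s, constantCoeff (a s) = 0) {H : MvPowerSeries σ R} (hH : constantCoeff H = 0) :
    V 2 (subst a H - ∑ s, coeff (Finsupp.single s 1) H • a s) := by
  have h1 := V_subst ha (fun s => V_one_of_cc (ha1 s)) (V2_sub_lin hH)
  have e : subst a (∑ s, coeff (Finsupp.single s 1) H • (X s : MvPowerSeries σ R)) =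
      ∑ s, coeff (Finsupp.single s 1) H • a s := by
    rw [← substAlgHom_apply ha, map_sum]
    refine Finset.sum_congr rfl fun s _ => ?_
    rw [map_smul, substAlgHom_X]
  rw [subst_sub ha, e] at h1
  exact h1

theorem V2_ps_subst_sub_lin (G : MvPowerSeries τ R) (hG : constantCoeff G = 0)
    (g : PowerSeries R) (hg : PowerSeries.constantCoeff g = 0) :
    V 2 (subst (fun _ : Unit => G) g - PowerSeries.coeff 1 g • G) := by
  have h := V2_subst_sub_lin (a := fun _ : Unit => G)
    (hasSubst_of_constantCoeff_zero (fun _ => hG)) (fun _ => hG) (H := g) hg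
  rw [Fintype.sum_unique] at h
  exact h

theorem coeff_subst_top {a u : σ → MvPowerSeries σ R} (ha : HasSubst a) (c : R)
    (hau : ∀ s, a s = X s * u s) (hu : ∀ s, constantCoeff (u s) = c)
    {m : ℕ} {H : MvPowerSeries σ R} (hH : V m H) {e : σ →₀ ℕ} (he : e.degree = m) :
    coeff e (subst a H) = c ^ m * coeff e H := by
  classical
  rw [coeff_subst ha H e]
  have hprod : ∀ d : σ →₀ ℕ, (d.prod fun s k => a s ^ k) =
      monomial d (1 : R) * d.prod fun s k => u s ^ k := by
    intro d
    rw [monomial_one_eq, ← Finsupp.prod_mul]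
    refine Finsupp.prod_congr fun s _ => ?_
    rw [hau, mul_pow]
  rw [finsum_eq_single _ e]
  · rw [hprod, coeff_monomial_mul, if_pos le_rfl, one_mul, tsub_self,
      coeff_zero_eq_constantCoeff_apply, map_finsuppProd]
    have h3 : (e.prod fun s k => constantCoeff (u s ^ k)) = c ^ m := by
      rw [← he, Finsupp.degree_apply, Finsupp.prod, ← Finset.prod_pow_eq_pow_sum]
      refine Finset.prod_congr rfl fun s _ => ?_
      rw [map_pow, hu]
    rw [h3, smul_eq_mul, mul_comm]
  · intro d hd
    by_cases hdm : d.degree < m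
    · rw [hH d hdm, zero_smul]
    · rw [hprod, coeff_monomial_mul, if_neg, smul_zero]
      intro hle
      apply hd
      have h1 : d + (e - d) = e := add_tsub_cancel_of_le hle
      have h2 : d.degree + (e - d).degree = e.degree := by rw [← map_add, h1]
      have h3 : (e - d).degree = 0 := by omega
      have h4 : e - d = 0 := (Finsupp.degree_eq_zero_iff _).mp h3
      rw [← h1, h4, add_zero]

theorem uniq_core [IsDomain R] {a u : σ → MvPowerSeries σ R} (ha : HasSubst a) (c : R)
    (hc : ∀ m : ℕ, 2 ≤ m → c ^ m ≠ c)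
    (hau : ∀ s, a s = X s * u s) (hu : ∀ s, constantCoeff (u s) = c)
    (H : MvPowerSeries σ R) (h2 : V 2 H)
    (hstep : ∀ m, 2 ≤ m → V m H → V (m + 1) (subst a H - c • H)) : H = 0 := by
  apply eq_zero_of_V
  have key : ∀ m, V (m + 2) H := by
    intro m
    induction m with
    | zero => exact h2
    | succ m ih =>
      intro e he
      by_cases h : e.degree < m + 2
      · exact ih e h
      · have hem : e.degree = m + 2 := by omega
        have h1 := hstep (m + 2) (by omega) ih e (by omega)
        rw [map_sub, coeff_subst_top ha c hau hu ih hem, map_smul, smul_eq_mul] at h1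
        have h3 : (c ^ (m + 2) - c) * coeff e H = 0 := by rw [sub_mul]; exact h1
        rcases mul_eq_zero.mp h3 with h4 | h4
        · exact absurd (sub_eq_zero.mp h4) (hc _ (by omega))
        · exact h4
  intro m
  exact V_mono (by omega) (key m)

theorem lt_uniq [IsDomain R] {a u : σ → MvPowerSeries σ R} (ha : HasSubst a) (c : R)
    (hc : ∀ m : ℕ, 2 ≤ m → c ^ m ≠ c)
    (hau : ∀ s, a s = X s * u s) (hu : ∀ s, constantCoeff (u s) = c) (q : ℕ) (hq : 2 ≤ q)
    (G G' : MvPowerSeries σ R) (hG : V 1 G) (hG' : V 1 G') (h2 : V 2 (G - G'))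
    (eG : c • G + G ^ q = subst a G) (eG' : c • G' + G' ^ q = subst a G') : G = G' := by
  refine sub_eq_zero.mp (uniq_core ha c hc hau hu (G - G') h2 (fun m hm hV => ?_))
  have e : subst a (G - G') - c • (G - G') = G ^ q - G' ^ q := by
    rw [subst_sub ha, ← eG, ← eG', smul_sub]; abel
  rw [e]
  obtain ⟨j, rfl⟩ : ∃ j, q = j + 1 := ⟨q - 1, by omega⟩
  exact V_mono (by omega) (V_pow_sub hG hG' hV j)

theorem LT_cc {c : R} {q : ℕ} (hq : 2 ≤ q) {f : PowerSeries R}
    (hf : f = c • PowerSeries.X + PowerSeries.X ^ q) : PowerSeries.constantCoeff f = 0 := by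
  rw [← PowerSeries.coeff_zero_eq_constantCoeff_apply, hf, map_add, map_smul,
    PowerSeries.coeff_zero_X, smul_zero, zero_add, PowerSeries.coeff_X_pow, if_neg (by omega)]

theorem LT_subst {c : R} {q : ℕ} {f : PowerSeries R}
    (hf : f = c • PowerSeries.X + PowerSeries.X ^ q) (G : MvPowerSeries τ R)
    (hG : constantCoeff G = 0) : PowerSeries.subst G f = c • G + G ^ q := by
  have h : PowerSeries.HasSubst G := PowerSeries.HasSubst.of_constantCoeff_zero hG
  rw [hf, PowerSeries.subst_add h, PowerSeries.subst_smul h, PowerSeries.subst_pow h,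
    PowerSeries.subst_X h]

theorem LT_factor {c : R} {q : ℕ} (hq : 2 ≤ q) (x : MvPowerSeries τ R) :
    c • x + x ^ q = x * (C c + x ^ (q - 1)) := by
  obtain ⟨k, rfl⟩ : ∃ k, q = k + 1 := ⟨q - 1, by omega⟩
  rw [Nat.add_sub_cancel, smul_eq_C_mul, pow_succ]; ring

theorem pi_pow_ne [IsDomain R] {π : R} (hπ : Irreducible π) :
    ∀ m : ℕ, 2 ≤ m → π ^ m ≠ π := by
  intro m hm h
  obtain ⟨k, rfl⟩ : ∃ k, m = k + 1 := ⟨m - 1, by omega⟩
  have h1 : π ^ k * π = 1 * π := by rw [one_mul, ← pow_succ]; exact h
  have h2 : π ^ k = 1 := mul_right_cancel₀ hπ.ne_zero h1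
  exact hπ.not_isUnit (IsUnit.of_pow_eq_one h2 (by omega))

/-- Lubin–Tate uniqueness in any finite number of variables. -/
theorem LT_unique [IsDomain R] [Finite τ] {c : R} (hc : ∀ m : ℕ, 2 ≤ m → c ^ m ≠ c) {q : ℕ}
    (hq : 2 ≤ q) {f : PowerSeries R} (hf : f = c • PowerSeries.X + PowerSeries.X ^ q)
    (G G' : MvPowerSeries τ R) (hG : constantCoeff G = 0) (hG' : constantCoeff G' = 0)
    (h2 : V 2 (G - G'))
    (eG : subst (fun _ : Unit => G) f =
      subst (fun i : τ => subst (fun _ : Unit => (X i : MvPowerSeries τ R)) f) G)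
    (eG' : subst (fun _ : Unit => G') f =
      subst (fun i : τ => subst (fun _ : Unit => (X i : MvPowerSeries τ R)) f) G') :
    G = G' := by
  classical
  obtain ⟨a, ha⟩ : ∃ a : τ → MvPowerSeries τ R,
      a = fun i => subst (fun _ : Unit => (X i : MvPowerSeries τ R)) f := ⟨_, rfl⟩
  rw [← ha] at eG eG'
  obtain ⟨u, hu⟩ : ∃ u : τ → MvPowerSeries τ R, u = fun i => C c + X i ^ (q - 1) := ⟨_, rfl⟩
  have hau : ∀ s, a s = X s * u s := by
    intro s
    rw [ha, hu]
    show PowerSeries.subst (X s) f = _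
    rw [LT_subst hf (X s) (constantCoeff_X s), LT_factor hq]
  have hucc : ∀ s, constantCoeff (u s) = c := by
    intro s
    rw [hu]
    show constantCoeff (C c + X s ^ (q - 1)) = c
    rw [map_add, constantCoeff_C, map_pow, constantCoeff_X, zero_pow (by omega), add_zero]
  have hacc : ∀ s, constantCoeff (a s) = 0 := by
    intro s; rw [hau, map_mul, constantCoeff_X, zero_mul]
  have has : HasSubst a := hasSubst_of_constantCoeff_zero hacc
  have e1 : c • G + G ^ q = subst a G := by
    rw [← eG]; exact (LT_subst hf G hG).symm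
  have e1' : c • G' + G' ^ q = subst a G' := by
    rw [← eG']; exact (LT_subst hf G' hG').symm
  exact lt_uniq has c hc hau hucc q hq G G' (V_one_of_cc hG) (V_one_of_cc hG') h2 e1 e1'

/-- Lubin–Tate uniqueness in one variable. -/
theorem LT_unique_one [IsDomain R] {c : R} (hc : ∀ m : ℕ, 2 ≤ m → c ^ m ≠ c) {q : ℕ}
    (hq : 2 ≤ q) {f : PowerSeries R} (hf : f = c • PowerSeries.X + PowerSeries.X ^ q)
    (g g' : PowerSeries R) (hg : PowerSeries.constantCoeff g = 0)
    (hg' : PowerSeries.constantCoeff g' = 0)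
    (h1 : PowerSeries.coeff 1 g = PowerSeries.coeff 1 g')
    (eg : subst (fun _ : Unit => g) f = subst (fun _ : Unit => f) g)
    (eg' : subst (fun _ : Unit => g') f = subst (fun _ : Unit => f) g') : g = g' := by
  have hfam : (fun i : Unit => subst (fun _ : Unit => (X i : MvPowerSeries Unit R)) f) =
      fun _ : Unit => f := by
    funext i
    exact PowerSeries.X_subst f
  have h2 : V 2 (g - g' : MvPowerSeries Unit R) := by
    apply V_ps
    intro k hk
    have hk' : k = 0 ∨ k = 1 := by omega
    rcases hk' with rfl | rfl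
    · rw [map_sub, PowerSeries.coeff_zero_eq_constantCoeff_apply,
        PowerSeries.coeff_zero_eq_constantCoeff_apply, hg, hg', sub_zero]
    · rw [map_sub, h1, sub_self]
  refine LT_unique (τ := Unit) hc hq hf g g' hg hg' h2 ?_ ?_
  · rw [hfam]; exact eg
  · rw [hfam]; exact eg'

end Lib



/-- Let O be a discrete valuation ring with finite residue field of cardinality q, π a uniformizer of O,
and f = πT + T^q ∈ O[[T]]; let F be a one-dimensional formal group law over O for which f is an
endomorphism, f(F(X,Y)) = F(f(X), f(Y)), and g ∈ O[[T]] a power series with zero constant term which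
commutes with f, g(f(T)) = f(g(T)). Then g is an endomorphism of F, that is g(F(X,Y)) = F(g(X),
g(Y)); so α ↦ [α] maps O into the endomorphisms of the Lubin–Tate formal group. (The published
statement is for the ring of integers of a finite extension of ℚ_p or of 𝔽_q((X)); completeness is
not used and any discrete valuation ring with finite residue field is allowed here.) -/
theorem result (O : Type u) [CommRing O] [IsDomain O] [IsDiscreteValuationRing O]
    [Finite (IsLocalRing.ResidueField O)] (π : O) (hπ : Irreducible π) (f : PowerSeries O)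
    (hf : f = π • PowerSeries.X + PowerSeries.X ^ Nat.card (IsLocalRing.ResidueField O))
    (F : FormalGroup O)
    (hF : PowerSeries.subst F.toPowerSeries f =
        MvPowerSeries.subst (fun i : Fin 2 => PowerSeries.subst (MvPowerSeries.X i : MvPowerSeries (Fin 2) O) f) F.toPowerSeries)
    (g : PowerSeries O) (hg0 : g.constantCoeff = 0)
    (hgf : PowerSeries.subst g f = PowerSeries.subst f g) :
    PowerSeries.subst F.toPowerSeries g =
      MvPowerSeries.subst (fun i : Fin 2 => PowerSeries.subst (MvPowerSeries.X i : MvPowerSeries (Fin 2) O) g)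
        F.toPowerSeries := by
  classical
  obtain ⟨q, hqdef⟩ : ∃ q, q = Nat.card (IsLocalRing.ResidueField O) := ⟨_, rfl⟩
  rw [← hqdef] at hf
  have hq : 2 ≤ q := by rw [hqdef]; exact Finite.one_lt_card
  have hc := pi_pow_ne hπ
  have hf0 : PowerSeries.constantCoeff f = 0 := LT_cc hq hf
  obtain ⟨Ff, hFf⟩ : ∃ Ff, Ff = F.toPowerSeries := ⟨_, rfl⟩
  have hF0 : MvPowerSeries.constantCoeff Ff = 0 := by rw [hFf]; exact F.zero_constantCoeff
  have hFX : MvPowerSeries.coeff (Finsupp.single 0 1) Ff = 1 := by rw [hFf]; exact F.lin_coeff_X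
  have hFY : MvPowerSeries.coeff (Finsupp.single 1 1) Ff = 1 := by rw [hFf]; exact F.lin_coeff_Y
  obtain ⟨fX, hfX⟩ : ∃ fX : Fin 2 → MvPowerSeries (Fin 2) O,
      fX = fun i => MvPowerSeries.subst (fun _ : Unit => (MvPowerSeries.X i : MvPowerSeries (Fin 2) O)) f :=
    ⟨_, rfl⟩
  obtain ⟨gX, hgX⟩ : ∃ gX : Fin 2 → MvPowerSeries (Fin 2) O,
      gX = fun i => MvPowerSeries.subst (fun _ : Unit => (MvPowerSeries.X i : MvPowerSeries (Fin 2) O)) g :=
    ⟨_, rfl⟩
  have hfXi : ∀ i, fX i = MvPowerSeries.subst (fun _ : Unit => (MvPowerSeries.X i : MvPowerSeries (Fin 2) O)) f := by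
    intro i; rw [hfX]
  have hgXi : ∀ i, gX i = MvPowerSeries.subst (fun _ : Unit => (MvPowerSeries.X i : MvPowerSeries (Fin 2) O)) g := by
    intro i; rw [hgX]
  have hF' : MvPowerSeries.subst (fun _ : Unit => Ff) f = MvPowerSeries.subst fX Ff := by
    rw [hFf, hfX]; exact hF
  have hgf' : MvPowerSeries.subst (fun _ : Unit => g) f = MvPowerSeries.subst (fun _ : Unit => f) g := hgf
  show MvPowerSeries.subst (fun _ : Unit => F.toPowerSeries) g =
    MvPowerSeries.subst (fun i => MvPowerSeries.subst (fun _ : Unit => (MvPowerSeries.X i : MvPowerSeries (Fin 2) O)) g) F.toPowerSeries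
  rw [← hFf, ← hgX]
  -- HasSubst facts
  have hcX : ∀ i : Fin 2, MvPowerSeries.HasSubst (fun _ : Unit => (MvPowerSeries.X i : MvPowerSeries (Fin 2) O)) :=
    fun i => MvPowerSeries.hasSubst_of_constantCoeff_zero (fun _ => MvPowerSeries.constantCoeff_X i)
  have hcF : MvPowerSeries.HasSubst (fun _ : Unit => Ff) :=
    MvPowerSeries.hasSubst_of_constantCoeff_zero (fun _ => hF0)
  have hcg : MvPowerSeries.HasSubst (fun _ : Unit => g) :=
    MvPowerSeries.hasSubst_of_constantCoeff_zero (fun _ => hg0)
  have hcf : MvPowerSeries.HasSubst (fun _ : Unit => f) :=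
    MvPowerSeries.hasSubst_of_constantCoeff_zero (fun _ => hf0)
  have hfX0 : ∀ i, MvPowerSeries.constantCoeff (fX i) = 0 := by
    intro i
    rw [hfXi]
    exact MvPowerSeries.constantCoeff_subst_eq_zero (hcX i)
      (fun _ => MvPowerSeries.constantCoeff_X i) hf0
  have hgX0 : ∀ i, MvPowerSeries.constantCoeff (gX i) = 0 := by
    intro i
    rw [hgXi]
    exact MvPowerSeries.constantCoeff_subst_eq_zero (hcX i)
      (fun _ => MvPowerSeries.constantCoeff_X i) hg0
  have hfXs : MvPowerSeries.HasSubst fX := MvPowerSeries.hasSubst_of_constantCoeff_zero hfX0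
  have hgXs : MvPowerSeries.HasSubst gX := MvPowerSeries.hasSubst_of_constantCoeff_zero hgX0
  obtain ⟨G, hGdef⟩ : ∃ G, G = MvPowerSeries.subst (fun _ : Unit => Ff) g := ⟨_, rfl⟩
  obtain ⟨G', hG'def⟩ : ∃ G', G' = MvPowerSeries.subst gX Ff := ⟨_, rfl⟩
  rw [← hGdef, ← hG'def]
  have hG0 : MvPowerSeries.constantCoeff G = 0 := by
    rw [hGdef]
    exact MvPowerSeries.constantCoeff_subst_eq_zero hcF (fun _ => hF0) hg0
  have hG'0 : MvPowerSeries.constantCoeff G' = 0 := by
    rw [hG'def]
    exact MvPowerSeries.constantCoeff_subst_eq_zero hgXs hgX0 hF0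
  -- linear parts
  obtain ⟨α, hα⟩ : ∃ α, α = PowerSeries.coeff 1 g := ⟨_, rfl⟩
  have A1 : V 2 (G - α • Ff) := by
    rw [hGdef, hα]; exact V2_ps_subst_sub_lin Ff hF0 g hg0
  have A2 : V 2 (Ff - (MvPowerSeries.X 0 + MvPowerSeries.X 1)) := by
    have h := V2_sub_lin (H := Ff) hF0
    rw [Fin.sum_univ_two, hFX, hFY, one_smul, one_smul] at h
    exact h
  have A3 : V 2 (G' - (gX 0 + gX 1)) := by
    have h := V2_subst_sub_lin hgXs hgX0 (H := Ff) hF0
    rw [Fin.sum_univ_two, hFX, hFY, one_smul, one_smul, ← hG'def] at h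
    exact h
  have A4 : ∀ i, V 2 (gX i - α • (MvPowerSeries.X i : MvPowerSeries (Fin 2) O)) := by
    intro i
    rw [hgXi, hα]
    exact V2_ps_subst_sub_lin (MvPowerSeries.X i) (MvPowerSeries.constantCoeff_X i) g hg0
  have h2 : V 2 (G - G') := by
    have e : G - G' = (G - α • Ff) + α • (Ff - (MvPowerSeries.X 0 + MvPowerSeries.X 1)) -
        (G' - (gX 0 + gX 1)) - (gX 0 - α • (MvPowerSeries.X 0 : MvPowerSeries (Fin 2) O)) -
        (gX 1 - α • (MvPowerSeries.X 1 : MvPowerSeries (Fin 2) O)) := by
      rw [smul_sub, smul_add]; abel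
    rw [e]
    exact V_sub (V_sub (V_sub (V_add A1 (V_smul α A2)) A3) (A4 0)) (A4 1)
  -- commutation with f
  have eG : MvPowerSeries.subst (fun _ : Unit => G) f = MvPowerSeries.subst fX G := by
    rw [hGdef]
    calc MvPowerSeries.subst (fun _ : Unit => MvPowerSeries.subst (fun _ : Unit => Ff) g) f
        = MvPowerSeries.subst (fun _ : Unit => Ff) (MvPowerSeries.subst (fun _ : Unit => g) f) :=
          (MvPowerSeries.subst_comp_subst_apply hcg hcF f).symm
      _ = MvPowerSeries.subst (fun _ : Unit => Ff) (MvPowerSeries.subst (fun _ : Unit => f) g) := by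
          rw [hgf']
      _ = MvPowerSeries.subst (fun _ : Unit => MvPowerSeries.subst (fun _ : Unit => Ff) f) g :=
          MvPowerSeries.subst_comp_subst_apply hcf hcF g
      _ = MvPowerSeries.subst (fun _ : Unit => MvPowerSeries.subst fX Ff) g := by rw [hF']
      _ = MvPowerSeries.subst fX (MvPowerSeries.subst (fun _ : Unit => Ff) g) :=
          (MvPowerSeries.subst_comp_subst_apply hcF hfXs g).symm
  have hswap : ∀ i, MvPowerSeries.subst gX (fX i) = MvPowerSeries.subst fX (gX i) := by
    intro i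
    have e1 : MvPowerSeries.subst gX (fX i) =
        MvPowerSeries.subst (fun _ : Unit => (MvPowerSeries.X i : MvPowerSeries (Fin 2) O))
          (MvPowerSeries.subst (fun _ : Unit => g) f) := by
      rw [hfXi, MvPowerSeries.subst_comp_subst_apply (hcX i) hgXs f,
        MvPowerSeries.subst_comp_subst_apply hcg (hcX i) f]
      congr 1
      funext _
      rw [MvPowerSeries.subst_X hgXs, hgXi]
    have e2 : MvPowerSeries.subst fX (gX i) =
        MvPowerSeries.subst (fun _ : Unit => (MvPowerSeries.X i : MvPowerSeries (Fin 2) O))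
          (MvPowerSeries.subst (fun _ : Unit => f) g) := by
      rw [hgXi, MvPowerSeries.subst_comp_subst_apply (hcX i) hfXs g,
        MvPowerSeries.subst_comp_subst_apply hcf (hcX i) g]
      congr 1
      funext _
      rw [MvPowerSeries.subst_X hfXs, hfXi]
    rw [e1, e2, hgf']
  have eG' : MvPowerSeries.subst (fun _ : Unit => G') f = MvPowerSeries.subst fX G' := by
    rw [hG'def]
    calc MvPowerSeries.subst (fun _ : Unit => MvPowerSeries.subst gX Ff) f
        = MvPowerSeries.subst gX (MvPowerSeries.subst (fun _ : Unit => Ff) f) :=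
          (MvPowerSeries.subst_comp_subst_apply hcF hgXs f).symm
      _ = MvPowerSeries.subst gX (MvPowerSeries.subst fX Ff) := by rw [hF']
      _ = MvPowerSeries.subst (fun i => MvPowerSeries.subst gX (fX i)) Ff :=
          MvPowerSeries.subst_comp_subst_apply hfXs hgXs Ff
      _ = MvPowerSeries.subst (fun i => MvPowerSeries.subst fX (gX i)) Ff := by
          congr 1; funext i; exact hswap i
      _ = MvPowerSeries.subst fX (MvPowerSeries.subst gX Ff) :=
          (MvPowerSeries.subst_comp_subst_apply hgXs hfXs Ff).symm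
  rw [hfX] at eG eG'
  exact LT_unique hc hq hf G G' hG0 hG'0 h2 eG eG'


end Groth.Agent.S15051
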