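import Groth.Statements.S15058
import Mathlib
import Groth.Agent.S15051

set_option autoImplicit false
universe u
open FmlGrp

namespace Groth.Agent.S15058


open Groth.Agent.S15051
open MvPowerSeries

section Aux
variable {R : Type*} [CommRing R] {σ τ : Type*}

theorem fixedpt1 (T : MvPowerSeries σ R → MvPowerSeries σ R)
    (hT1 : ∀ ε, V 1 ε → V 1 (T ε))
    (hTc : ∀ ε ε', V 1 ε → V 1 ε' → ∀ m, V m (ε - ε') → V (m + 1) (T ε - T ε')) :
    ∃ ε, V 1 ε ∧ T ε = ε := by
  obtain ⟨E, hE0, hEs⟩ : ∃ E : ℕ → MvPowerSeries σ R, E 0 = 0 ∧ ∀ m, E (m + 1) = T (E m) :=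
    ⟨fun m => Nat.rec 0 (fun _ e => T e) m, rfl, fun _ => rfl⟩
  have ha : ∀ m, V 1 (E m) := by
    intro m
    induction m with
    | zero => rw [hE0]; exact V_zero 1
    | succ m ih => rw [hEs]; exact hT1 _ ih
  have hc : ∀ m, V m (E (m + 1) - E m) := by
    intro m
    induction m with
    | zero => intro d hd; exact absurd hd (Nat.not_lt_zero _)
    | succ m ih =>
      have h := hTc (E (m + 1)) (E m) (ha (m + 1)) (ha m) m ih
      rw [← hEs (m + 1), ← hEs m] at h
      exact h
  have hstab : ∀ (d : σ →₀ ℕ) (m : ℕ), d.degree + 1 ≤ m →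
      coeff d (E m) = coeff d (E (d.degree + 1)) := by
    intro d m hm
    induction m, hm using Nat.le_induction with
    | base => rfl
    | succ m hm ih =>
      rw [← ih]
      have h1 := hc m d (by omega)
      rw [map_sub, sub_eq_zero] at h1
      exact h1
  obtain ⟨ε, hεdef⟩ : ∃ ε : MvPowerSeries σ R, ∀ d, coeff d ε = coeff d (E (d.degree + 1)) :=
    ⟨fun d => coeff d (E (d.degree + 1)), fun d => rfl⟩
  have he : ∀ m, V m (ε - E m) := by
    intro m d hd
    rw [map_sub, hεdef, hstab d m (by omega), sub_self]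
  have hε1 : V 1 ε := by
    intro d hd
    rw [hεdef]; exact ha _ d hd
  refine ⟨ε, hε1, ?_⟩
  have hz : T ε - ε = 0 := by
    apply eq_zero_of_V
    intro m
    have h1 : V (m + 1) (T ε - T (E m)) := hTc ε (E m) hε1 (ha m) m (he m)
    have h2 : V (m + 1) (ε - E (m + 1)) := he (m + 1)
    have h3 : T ε - ε = (T ε - T (E m)) - (ε - E (m + 1)) := by rw [hEs m]; ring
    rw [h3]
    exact V_mono (Nat.le_succ m) (V_sub h1 h2)
  exact sub_eq_zero.mp hz

theorem V_pow_sub' {m : ℕ} (hm : 1 ≤ m) {x y : MvPowerSeries σ R} (hx : V 1 x) (hy : V 1 y)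
    (h : V m (x - y)) (n : ℕ) : V (m + n - 1) (x ^ n - y ^ n) := by
  cases n with
  | zero => rw [pow_zero, pow_zero, sub_self]; exact V_zero _
  | succ j => exact V_mono (by omega) (V_pow_sub hx hy h j)

theorem V_prod_sub {ι : Type*} {m : ℕ} (hm : 1 ≤ m) (a a' : ι → MvPowerSeries σ R)
    (ha : ∀ s, V 1 (a s)) (ha' : ∀ s, V 1 (a' s)) (h : ∀ s, V m (a s - a' s)) (d : ι → ℕ)
    (S : Finset ι) :
    V (∑ s ∈ S, d s) (∏ s ∈ S, a' s ^ d s) ∧
      V (m + ∑ s ∈ S, d s - 1) (∏ s ∈ S, a s ^ d s - ∏ s ∈ S, a' s ^ d s) := by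
  classical
  induction S using Finset.induction_on with
  | empty =>
    rw [Finset.sum_empty, Finset.prod_empty, Finset.prod_empty, sub_self]
    exact ⟨fun e he => absurd he (Nat.not_lt_zero _), V_zero _⟩
  | @insert s₀ S hs₀ ih =>
    rw [Finset.sum_insert hs₀, Finset.prod_insert hs₀, Finset.prod_insert hs₀]
    refine ⟨V_mul (V_pow (ha' s₀) (d s₀)) ih.1, ?_⟩
    have e : a s₀ ^ d s₀ * ∏ s ∈ S, a s ^ d s - a' s₀ ^ d s₀ * ∏ s ∈ S, a' s ^ d s =
        a s₀ ^ d s₀ * (∏ s ∈ S, a s ^ d s - ∏ s ∈ S, a' s ^ d s) +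
        (a s₀ ^ d s₀ - a' s₀ ^ d s₀) * ∏ s ∈ S, a' s ^ d s := by ring
    rw [e]
    refine V_add ?_ ?_
    · exact V_mono (by omega) (V_mul (V_pow (ha s₀) (d s₀)) ih.2)
    · exact V_mono (by omega) (V_mul (V_pow_sub' hm (ha s₀) (ha' s₀) (h s₀) (d s₀)) ih.1)

theorem V_subst_sub {a a' : σ → MvPowerSeries τ R} (hsa : HasSubst a) (hsa' : HasSubst a')
    (ha : ∀ s, V 1 (a s)) (ha' : ∀ s, V 1 (a' s)) {m : ℕ} (hm : 1 ≤ m)
    (h : ∀ s, V m (a s - a' s)) {k : ℕ} {H : MvPowerSeries σ R} (hH : V (k + 1) H) :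
    V (m + k) (subst a H - subst a' H) := by
  classical
  intro e he
  rw [map_sub, coeff_subst hsa, coeff_subst hsa', sub_eq_zero]
  refine finsum_congr fun d => ?_
  by_cases hd : d.degree < k + 1
  · rw [hH d hd, zero_smul, zero_smul]
  · congr 1
    have hV := (V_prod_sub hm a a' ha ha' h (fun s => d s) d.support).2
    have h0 := hV e (by
      have : d.degree = ∑ s ∈ d.support, d s := Finsupp.degree_apply d
      omega)
    rw [map_sub, sub_eq_zero] at h0
    exact h0

theorem exists_zero (Φ : MvPowerSeries (Fin 2) R) (h0 : constantCoeff Φ = 0)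
    (hX : coeff (Finsupp.single 0 1) Φ = 1) (hY : coeff (Finsupp.single 1 1) Φ = 1)
    (w : MvPowerSeries Unit R → Fin 2 → MvPowerSeries Unit R)
    (w1 : ∀ g : MvPowerSeries Unit R, V 1 g → ∀ i, V 1 (w g i))
    (w2 : ∀ (g g' : MvPowerSeries Unit R) (m : ℕ), V m (g - g') → ∀ i, V m (w g i - w g' i))
    (w3 : ∀ g, w g 0 + w g 1 = (X () : MvPowerSeries Unit R) + g) :
    ∃ g : MvPowerSeries Unit R, constantCoeff g = 0 ∧ subst (w g) Φ = 0 := by
  obtain ⟨Φ₂, hΦ₂def⟩ : ∃ Φ₂, Φ₂ = Φ - (X 0 + X 1) := ⟨_, rfl⟩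
  have hΦ₂ : V 2 Φ₂ := by
    have h := V2_sub_lin (H := Φ) h0
    rw [Fin.sum_univ_two, hX, hY, one_smul, one_smul] at h
    rw [hΦ₂def]; exact h
  have hws : ∀ g : MvPowerSeries Unit R, V 1 g → HasSubst (w g) := fun g hg =>
    hasSubst_of_constantCoeff_zero (fun i => cc_of_V le_rfl (w1 g hg i))
  obtain ⟨T, hT⟩ : ∃ T : MvPowerSeries Unit R → MvPowerSeries Unit R,
      T = fun g => -(X () : MvPowerSeries Unit R) - subst (w g) Φ₂ := ⟨_, rfl⟩
  have hTg : ∀ g, T g = -(X () : MvPowerSeries Unit R) - subst (w g) Φ₂ := by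
    intro g; rw [hT]
  have hT1 : ∀ g, V 1 g → V 1 (T g) := by
    intro g hg
    rw [hTg]
    exact V_sub (V_neg (V_X ())) (V_mono (by omega) (V_subst (hws g hg) (w1 g hg) hΦ₂))
  have hTc : ∀ g g', V 1 g → V 1 g' → ∀ m, V m (g - g') → V (m + 1) (T g - T g') := by
    intro g g' hg hg' m hm
    rcases Nat.eq_zero_or_pos m with rfl | hmpos
    · exact V_sub (hT1 g hg) (hT1 g' hg')
    · have e : T g - T g' = -(subst (w g) Φ₂ - subst (w g') Φ₂) := by rw [hTg, hTg]; ring
      rw [e]
      exact V_neg (V_subst_sub (hws g hg) (hws g' hg') (w1 g hg) (w1 g' hg') hmpos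
        (w2 g g' m hm) (k := 1) hΦ₂)
  obtain ⟨g, hg1, hfix⟩ := fixedpt1 T hT1 hTc
  refine ⟨g, cc_of_V le_rfl hg1, ?_⟩
  have hΦ : Φ = Φ₂ + (X 0 + X 1) := by rw [hΦ₂def]; ring
  have hs := hws g hg1
  rw [hΦ, subst_add hs, subst_add hs, subst_X hs, subst_X hs, w3 g]
  rw [hTg] at hfix
  linear_combination (-1 : MvPowerSeries Unit R) * hfix

end Aux



/-- Let R be a commutative ring and F(X,Y) ∈ R[[X,Y]] a one-dimensional formal group law (zero constant
term, linear part X + Y, associative). Then there is a power series g(X) ∈ R[[X]] with zero constant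
term which is a two-sided inverse for F, F(X, g(X)) = 0 = F(g(X), X), and it is unique: every power
series with zero constant term which is a right inverse or a left inverse equals g. (The published
text proves this for formal group laws of any finite dimension with coefficients in a complete
Noetherian local ring; the argument is a formal degree-by-degree construction, and this row states
the one-dimensional case over an arbitrary commutative ring.) -/
theorem result (R : Type u) [CommRing R] (F : FormalGroup R) :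
    ∃ g : PowerSeries R, g.constantCoeff = 0 ∧
      F.toPowerSeries.subst ![PowerSeries.X, g] = (0 : PowerSeries R) ∧
      F.toPowerSeries.subst ![g, PowerSeries.X] = (0 : PowerSeries R) ∧
      ∀ k : PowerSeries R, k.constantCoeff = 0 →
        (F.toPowerSeries.subst ![PowerSeries.X, k] = (0 : PowerSeries R) ∨
          F.toPowerSeries.subst ![k, PowerSeries.X] = (0 : PowerSeries R)) → k = g := by
  classical
  have hF0 : constantCoeff F.toPowerSeries = 0 := F.zero_constantCoeff
  have hFX : coeff (Finsupp.single 0 1) F.toPowerSeries = 1 := F.lin_coeff_X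
  have hFY : coeff (Finsupp.single 1 1) F.toPowerSeries = 1 := F.lin_coeff_Y
  obtain ⟨gr, hgr0, hgr⟩ := exists_zero F.toPowerSeries hF0 hFX hFY
    (fun g => ![(X () : MvPowerSeries Unit R), g])
    (fun g hg => Fin.forall_fin_two.mpr ⟨V_X (), hg⟩)
    (fun g g' m h => Fin.forall_fin_two.mpr
      ⟨by show V m ((X () : MvPowerSeries Unit R) - X ()); rw [sub_self]; exact V_zero m, h⟩)
    (fun g => rfl)
  obtain ⟨gl, hgl0, hgl⟩ := exists_zero F.toPowerSeries hF0 hFX hFY
    (fun g => ![g, (X () : MvPowerSeries Unit R)])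
    (fun g hg => Fin.forall_fin_two.mpr ⟨hg, V_X ()⟩)
    (fun g g' m h => Fin.forall_fin_two.mpr
      ⟨h, by show V m ((X () : MvPowerSeries Unit R) - X ()); rw [sub_self]; exact V_zero m⟩)
    (fun g => add_comm _ _)
  have hgr' : F.toPowerSeries.subst ![(X () : MvPowerSeries Unit R), gr] = 0 := hgr
  have hgl' : F.toPowerSeries.subst ![gl, (X () : MvPowerSeries Unit R)] = 0 := hgl
  have hgrS : PowerSeries.HasSubst gr := PowerSeries.HasSubst.of_constantCoeff_zero hgr0
  have hglS : PowerSeries.HasSubst gl := PowerSeries.HasSubst.of_constantCoeff_zero hgl0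
  have hXS : PowerSeries.HasSubst (X () : MvPowerSeries Unit R) := PowerSeries.HasSubst.X ()
  have h1 := F.assoc' (σ := Unit) hglS hXS hgrS
  rw [hgl', hgr', F.zero_add hgrS, F.add_zero hglS] at h1
  refine ⟨gr, hgr0, hgr', ?_, ?_⟩
  · rw [h1]; exact hgl'
  · intro k hk0 hk
    have hkS : PowerSeries.HasSubst (k : MvPowerSeries Unit R) :=
      PowerSeries.HasSubst.of_constantCoeff_zero hk0
    rcases hk with hk | hk
    · have hk' : F.toPowerSeries.subst ![(X () : MvPowerSeries Unit R), k] = 0 := hk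
      have h2 := F.assoc' (σ := Unit) hglS hXS hkS
      rw [hgl', hk', F.zero_add hkS, F.add_zero hglS] at h2
      rw [h1]; exact h2
    · have hk' : F.toPowerSeries.subst ![k, (X () : MvPowerSeries Unit R)] = 0 := hk
      have h2 := F.assoc' (σ := Unit) hkS hXS hgrS
      rw [hk', hgr', F.zero_add hgrS, F.add_zero hkS] at h2
      exact h2.symm


end Groth.Agent.S15058
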