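import Groth.Statements.S13864
import Mathlib
import Groth.Agent.S15051
import Groth.Agent.S15058

set_option autoImplicit false
universe u
open ASCover

namespace Groth.Agent.S13864


open Groth.Agent.S15051 Groth.Agent.S15058
open PowerSeries

section Aux
variable {k : Type*} [Field k]

/-- `y ≡ 1 + α Xⁿ mod X^{n+1}` -/
def U (n : ℕ) (y : PowerSeries k) (α : k) : Prop :=
  ∃ w : PowerSeries k, y = 1 + X ^ n * w ∧ constantCoeff w = α

theorem U_one (n : ℕ) : U n (1 : PowerSeries k) 0 :=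
  ⟨0, by rw [mul_zero, add_zero], map_zero _⟩

theorem U_mul {n : ℕ} (hn : 0 < n) {y y' : PowerSeries k} {α α' : k} (h : U n y α)
    (h' : U n y' α') : U n (y * y') (α + α') := by
  obtain ⟨w, rfl, hw⟩ := h
  obtain ⟨w', rfl, hw'⟩ := h'
  refine ⟨w + w' + X ^ n * (w * w'), by ring, ?_⟩
  rw [map_add, map_add, map_mul, map_pow, constantCoeff_X, zero_pow hn.ne', zero_mul, add_zero,
    hw, hw']

theorem U_cc {n : ℕ} (hn : 0 < n) {y : PowerSeries k} {α : k} (h : U n y α) :
    constantCoeff y = 1 := by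
  obtain ⟨w, rfl, hw⟩ := h
  rw [map_add, map_one, map_mul, map_pow, constantCoeff_X, zero_pow hn.ne', zero_mul, add_zero]

theorem U_inv {n : ℕ} (hn : 0 < n) {y : (PowerSeries k)ˣ} {α : k}
    (h : U n (y : PowerSeries k) α) : U n ((y⁻¹ : (PowerSeries k)ˣ) : PowerSeries k) (-α) := by
  have hcc := U_cc hn h
  obtain ⟨w, hy, hw⟩ := h
  have h1 : (y : PowerSeries k) * ((y⁻¹ : (PowerSeries k)ˣ) : PowerSeries k) = 1 := by
    rw [← Units.val_mul, mul_inv_cancel, Units.val_one]
  have hccinv : constantCoeff ((y⁻¹ : (PowerSeries k)ˣ) : PowerSeries k) = 1 := by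
    have := congrArg constantCoeff h1
    rw [map_mul, hcc, one_mul, map_one] at this
    exact this
  refine ⟨-(w * ((y⁻¹ : (PowerSeries k)ˣ) : PowerSeries k)), ?_, ?_⟩
  · rw [hy] at h1
    linear_combination h1
  · rw [map_neg, map_mul, hw, hccinv, mul_one]

theorem U_zpow {n : ℕ} (hn : 0 < n) {y : (PowerSeries k)ˣ} {α : k}
    (h : U n (y : PowerSeries k) α) (e : ℤ) :
    U n ((y ^ e : (PowerSeries k)ˣ) : PowerSeries k) ((e : k) * α) := by
  induction e using Int.induction_on with
  | zero => rw [zpow_zero, Units.val_one, Int.cast_zero, zero_mul]; exact U_one n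
  | succ i ih =>
    rw [zpow_add_one, Units.val_mul]
    have h2 := U_mul hn ih h
    have e : ((i : ℤ) : k) * α + α = (((i : ℤ) + 1 : ℤ) : k) * α := by push_cast; ring
    rw [e] at h2
    exact h2
  | pred i ih =>
    rw [zpow_sub_one, Units.val_mul]
    have h2 := U_mul hn ih (U_inv hn h)
    have e : ((-(i : ℤ) : ℤ) : k) * α + -α = ((-(i : ℤ) - 1 : ℤ) : k) * α := by push_cast; ring
    rw [e] at h2
    exact h2

theorem U_of_root {n : ℕ} (hnk : (n : k) ≠ 0) {u : PowerSeries k}
    (hu1 : constantCoeff u = 1) (hun : u ^ n * (1 + X ^ n) = 1) : U n u (-(n : k)⁻¹) := by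
  obtain ⟨E, hE⟩ : ∃ E : PowerSeries k, E = ∑ i ∈ Finset.range n, u ^ i := ⟨_, rfl⟩
  have hEcc : constantCoeff E = (n : k) := by
    rw [hE, map_sum]
    have : ∀ i ∈ Finset.range n, constantCoeff (u ^ i) = (1 : k) := by
      intro i _; rw [map_pow, hu1, one_pow]
    rw [Finset.sum_congr rfl this, Finset.sum_const, Finset.card_range, nsmul_eq_mul, mul_one]
  have hEu : IsUnit E := by
    rw [PowerSeries.isUnit_iff_constantCoeff, hEcc]; exact IsUnit.mk0 _ hnk
  obtain ⟨Ei, hEi⟩ := hEu.exists_right_inv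
  have hEicc : constantCoeff Ei = (n : k)⁻¹ := by
    have := congrArg constantCoeff hEi
    rw [map_mul, hEcc, map_one] at this
    exact eq_inv_of_mul_eq_one_right this
  have hgeom : E * (u - 1) = u ^ n - 1 := by rw [hE]; exact geom_sum_mul u n
  refine ⟨-(u ^ n * Ei), ?_, ?_⟩
  · have h1 : u ^ n - 1 = -(X ^ n * u ^ n) := by linear_combination hun
    have h2 : u - 1 = Ei * (E * (u - 1)) := by
      rw [← mul_assoc, mul_comm Ei E, hEi, one_mul]
    rw [hgeom, h1] at h2
    linear_combination h2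
  · rw [map_neg, map_mul, map_pow, hu1, one_pow, one_mul, hEicc]

theorem coeff_of_U {n m : ℕ} (hmn : m ≤ n) {y : PowerSeries k} {α : k} (hy : U n y α)
    {c : PowerSeries k} (hc : X ^ m * c = y - 1) :
    (∀ j, j < n - m → coeff j c = 0) ∧ coeff (n - m) c = α := by
  obtain ⟨w, rfl, hw⟩ := hy
  have hc' : c = X ^ (n - m) * w := by
    have hX : (X : PowerSeries k) ^ m ≠ 0 := pow_ne_zero m X_ne_zero
    apply mul_left_cancel₀ hX
    rw [hc, ← mul_assoc, ← pow_add, Nat.add_sub_cancel' hmn]; ring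
  rw [hc']
  refine ⟨fun j hj => ?_, ?_⟩
  · rw [coeff_X_pow_mul', if_neg (by omega)]
  · rw [coeff_X_pow_mul', if_pos le_rfl, Nat.sub_self, coeff_zero_eq_constantCoeff_apply, hw]

theorem subst_sub_self {n : ℕ} {u : PowerSeries k} {α : k} (hu : U n u α)
    (h : PowerSeries k) : ∀ j, j ≤ n → coeff j (PowerSeries.subst (X * u) h - h) = 0 := by
  obtain ⟨w, hw, _⟩ := hu
  obtain ⟨h₀, hh₀⟩ : ∃ h₀ : k, h₀ = constantCoeff h := ⟨_, rfl⟩
  obtain ⟨h₁, hh₁⟩ : ∃ h₁ : PowerSeries k, h₁ = h - C h₀ := ⟨_, rfl⟩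
  have hh : h = C h₀ + h₁ := by rw [hh₁]; ring
  have hh₁0 : constantCoeff h₁ = 0 := by rw [hh₁, map_sub, constantCoeff_C, hh₀, sub_self]
  have hXu0 : constantCoeff (X * u) = 0 := by rw [map_mul, constantCoeff_X, zero_mul]
  have hs : PowerSeries.HasSubst (X * u) := HasSubst.of_constantCoeff_zero' hXu0
  have hC : PowerSeries.subst (X * u) (C h₀) = C h₀ := PowerSeries.subst_C h₀
  have e1 : PowerSeries.subst (X * u) h - h = PowerSeries.subst (X * u) h₁ - h₁ := by
    rw [hh, PowerSeries.subst_add hs, hC]; ring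
  have hdiff : V (n + 1) ((X * u - X : PowerSeries k) : MvPowerSeries Unit k) := by
    apply V_ps
    intro j hj
    have : X * u - X = X ^ (n + 1) * w := by rw [hw]; ring
    rw [this, coeff_X_pow_mul', if_neg (by omega)]
  have hV := V_subst_sub (a := fun _ : Unit => (X * u : MvPowerSeries Unit k))
    (a' := fun _ : Unit => ((X : PowerSeries k) : MvPowerSeries Unit k))
    (MvPowerSeries.hasSubst_of_constantCoeff_zero (fun _ => hXu0))
    (MvPowerSeries.hasSubst_of_constantCoeff_zero (fun _ => constantCoeff_X))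
    (fun _ => V_one_of_cc hXu0) (fun _ => V_one_of_cc constantCoeff_X) (m := n + 1) (by omega)
    (fun _ => hdiff) (k := 0) (H := h₁) (V_one_of_cc hh₁0)
  rw [show MvPowerSeries.subst (fun _ : Unit => ((X : PowerSeries k) : MvPowerSeries Unit k)) h₁ = h₁
    from PowerSeries.X_subst h₁] at hV
  intro j hj
  rw [e1]
  exact hV (Finsupp.single () j) (by rw [Finsupp.degree_single]; omega)

end Aux



/-- Let k be an algebraically closed field of characteristic p > 0, n ≥ 1 an integer prime to p, u ∈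
k[[t]] the power series with constant term 1 and u^n · (1 + t^n) = 1 (so σ(t) = t·u is a
k-automorphism of k((t)) of order p), and a an integer; σ acts on I = t^a·k[[t]], and transported to
B = k[[t]] along h ↦ t^a·h the action is h ↦ u^a · h(t·u). For 1 ≤ m ≤ n let c_m ∈ B be determined
by t^m · c_m = u^(a−m) − 1; this is the cocycle value σ(t^i) − t^i ∈ I of the element t^i, i = a −
m, divided by t^a. The published lemma says that the classes of the t^i with a − n ≤ i ≤ a − 1 and p
∤ i form a basis of H^1(⟨σ⟩, I); this row states their linear independence: if Σ λ_m c_m, summed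
over 1 ≤ m ≤ n with p ∤ a − m, equals u^a · h(t·u) − h for some h ∈ B, then every such λ_m is 0.
(Together with the dimension of this H^1, namely n − ⌊(a−1)/p⌋ + ⌊(a−1−n)/p⌋, this gives the basis
statement.) -/
theorem result {k : Type u} [Field k] [IsAlgClosed k] (p : ℕ)
    [Fact p.Prime] [CharP k p] (n : ℕ) (hn : 0 < n) (hpn : ¬ p ∣ n)
    (u : PowerSeries k) (hu1 : PowerSeries.constantCoeff u = 1)
    (hun : u ^ n * (1 + PowerSeries.X ^ n) = 1) (hu : IsUnit u) (a : ℤ)
    (c : ℕ → PowerSeries k)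
    (hc : ∀ m : ℕ, 1 ≤ m → m ≤ n →
      PowerSeries.X ^ m * c m = ((hu.unit ^ (a - m) : (PowerSeries k)ˣ) : PowerSeries k) - 1)
    (coef : ℕ → k) (h : PowerSeries k)
    (hh : ((hu.unit ^ a : (PowerSeries k)ˣ) : PowerSeries k) * PowerSeries.subst (PowerSeries.X * u) h - h =
      ∑ m ∈ (Finset.Icc 1 n).filter (fun m : ℕ => ¬ (p : ℤ) ∣ a - (m : ℤ)), coef m • c m) :
    ∀ m ∈ (Finset.Icc 1 n).filter (fun m : ℕ => ¬ (p : ℤ) ∣ a - (m : ℤ)), coef m = 0 := by
  have hnk : (n : k) ≠ 0 := by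
    intro h0
    exact hpn ((CharP.cast_eq_zero_iff k p n).mp h0)
  obtain ⟨α, hα⟩ : ∃ α : k, α = -(n : k)⁻¹ := ⟨_, rfl⟩
  have hα0 : α ≠ 0 := by rw [hα]; exact neg_ne_zero.mpr (inv_ne_zero hnk)
  have hUu : U n u α := by rw [hα]; exact U_of_root hnk hu1 hun
  have hUunit : U n ((hu.unit : (PowerSeries k)ˣ) : PowerSeries k) α := by
    rw [IsUnit.unit_spec]; exact hUu
  have hUz : ∀ e : ℤ, U n ((hu.unit ^ e : (PowerSeries k)ˣ) : PowerSeries k) ((e : k) * α) :=
    fun e => U_zpow hn hUunit e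
  have hcm : ∀ m : ℕ, 1 ≤ m → m ≤ n → (∀ j, j < n - m → coeff j (c m) = 0) ∧
      coeff (n - m) (c m) = ((a - (m : ℤ) : ℤ) : k) * α := by
    intro m hm1 hmn
    exact coeff_of_U hmn (hUz (a - m)) (hc m hm1 hmn)
  have hL : ∀ j, j < n → coeff j (((hu.unit ^ a : (PowerSeries k)ˣ) : PowerSeries k) *
      PowerSeries.subst (X * u) h - h) = 0 := by
    intro j hj
    obtain ⟨w, hw, _⟩ := hUz a
    rw [hw]
    have e : (1 + X ^ n * w) * PowerSeries.subst (X * u) h - h =
        (PowerSeries.subst (X * u) h - h) + X ^ n * (w * PowerSeries.subst (X * u) h) := by ring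
    rw [e, map_add, subst_sub_self hUu h j (by omega), zero_add, coeff_X_pow_mul',
      if_neg (by omega)]
  have key : ∀ d : ℕ, ∀ m ∈ (Finset.Icc 1 n).filter (fun m : ℕ => ¬ (p : ℤ) ∣ a - (m : ℤ)),
      n - m = d → coef m = 0 := by
    intro d
    induction d using Nat.strong_induction_on with
    | _ d ih =>
      intro m hm hd
      have hm0 := hm
      rw [Finset.mem_filter, Finset.mem_Icc] at hm
      obtain ⟨⟨hm1, hmn⟩, hpm⟩ := hm
      have h1 := congrArg (coeff d) hh
      rw [hL d (by omega), map_sum] at h1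
      rw [Finset.sum_eq_single m] at h1
      · rw [map_smul, smul_eq_mul, ← hd, (hcm m hm1 hmn).2] at h1
        have hne : ((a - (m : ℤ) : ℤ) : k) ≠ 0 := by
          intro h0
          exact hpm ((CharP.intCast_eq_zero_iff k p _).mp h0)
        rcases mul_eq_zero.mp h1.symm with h2 | h2
        · exact h2
        · exact absurd h2 (mul_ne_zero hne hα0)
      · intro m' hm' hne
        have hm'' := hm'
        rw [Finset.mem_filter, Finset.mem_Icc] at hm''
        obtain ⟨⟨hm1', hmn'⟩, _⟩ := hm''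
        rw [map_smul, smul_eq_mul]
        rcases lt_or_gt_of_ne hne with hlt | hgt
        · rw [(hcm m' hm1' hmn').1 d (by omega), mul_zero]
        · rw [ih (n - m') (by omega) m' hm' rfl, zero_mul]
      · intro hnot
        exact absurd hm0 hnot
  intro m hm
  exact key (n - m) m hm rfl


end Groth.Agent.S13864
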