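import Groth.Statements.S13863
import Mathlib
import Groth.Agent.S13864

set_option autoImplicit false
universe u
open ASCover

namespace Groth.Agent.S13863


open Groth.Agent.S13864 (U U_one U_mul U_cc U_inv U_zpow U_of_root)
open PowerSeries

section Aux
variable {k : Type*} [Field k]

theorem root_one {n : ℕ} (hnk : (n : k) ≠ 0) {v : PowerSeries k}
    (hv1 : constantCoeff v = 1) (hvn : v ^ n = 1) : v = 1 := by
  obtain ⟨E, hE⟩ : ∃ E : PowerSeries k, E = ∑ i ∈ Finset.range n, v ^ i := ⟨_, rfl⟩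
  have hEcc : constantCoeff E = (n : k) := by
    rw [hE, map_sum]
    have : ∀ i ∈ Finset.range n, constantCoeff (v ^ i) = (1 : k) := by
      intro i _; rw [map_pow, hv1, one_pow]
    rw [Finset.sum_congr rfl this, Finset.sum_const, Finset.card_range, nsmul_eq_mul, mul_one]
  have hEu : IsUnit E := by
    rw [PowerSeries.isUnit_iff_constantCoeff, hEcc]; exact IsUnit.mk0 _ hnk
  have hgeom : E * (v - 1) = v ^ n - 1 := by rw [hE]; exact geom_sum_mul v n
  rw [hvn, sub_self] at hgeom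
  exact sub_eq_zero.mp (hEu.mul_right_eq_zero.mp hgeom)

end Aux



/-- For k an algebraically closed field of characteristic p > 0, n ≥ 1 an integer prime to p, and u ∈
k[[t]] the power series with constant term 1 and u^n · (1 + t^n) = 1, the substitution σ(t) = t·u is
a k-automorphism of k((t)) of order p and, for an integer a, σ acts on the fractional ideal I =
t^a·k[[t]]; transported to B = k[[t]] along h ↦ t^a·h this action is h ↦ u^a · h(t·u). For an
integer i with a − n ≤ i ≤ a − 1 the element σ(t^i) − t^i lies in I, so t^i defines a class in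
H^1(⟨σ⟩, I); the classes with p ∤ i form a basis of this H^1, and when p divides i the class
vanishes, i.e. σ(t^i) − t^i = σ(w) − w for some w ∈ I. (The published statement of this vanishing is
printed with the condition p ∤ i, which contradicts the basis assertion of the same lemma; its proof
treats p | i, and this row states that case.) In transported form, with m = a − i ∈ [1, n] and c ∈
k[[t]] defined by t^m · c = u^i − 1: there is h ∈ k[[t]] with u^a · h(t·u) − h = c. -/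
theorem result {k : Type u} [Field k] [IsAlgClosed k] (p : ℕ)
    [Fact p.Prime] [CharP k p] (n : ℕ) (hn : 0 < n) (hpn : ¬ p ∣ n)
    (u : PowerSeries k) (hu1 : PowerSeries.constantCoeff u = 1)
    (hun : u ^ n * (1 + PowerSeries.X ^ n) = 1) (hu : IsUnit u) (a : ℤ) (m : ℕ)
    (hm1 : 1 ≤ m) (hmn : m ≤ n) (hdvd : (p : ℤ) ∣ a - m) (c : PowerSeries k)
    (hc : PowerSeries.X ^ m * c = ((hu.unit ^ (a - m) : (PowerSeries k)ˣ) : PowerSeries k) - 1) :
    ∃ h : PowerSeries k,
      ((hu.unit ^ a : (PowerSeries k)ˣ) : PowerSeries k) * PowerSeries.subst (PowerSeries.X * u) h - h = c := by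
  have hnk : (n : k) ≠ 0 := by
    intro h0
    exact hpn ((CharP.cast_eq_zero_iff k p n).mp h0)
  have hXu0 : constantCoeff (X * u) = 0 := by rw [map_mul, constantCoeff_X, zero_mul]
  have hs : PowerSeries.HasSubst (X * u) := HasSubst.of_constantCoeff_zero' hXu0
  obtain ⟨σ, hσ⟩ : ∃ σ : PowerSeries k →ₐ[k] PowerSeries k, σ = PowerSeries.substAlgHom hs :=
    ⟨_, rfl⟩
  have hσX : σ X = X * u := by rw [hσ]; exact PowerSeries.substAlgHom_X hs
  have hσapp : ∀ g, σ g = PowerSeries.subst (X * u) g := by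
    intro g; rw [hσ, PowerSeries.coe_substAlgHom hs]
  obtain ⟨ul, hul0, huls⟩ : ∃ ul : ℕ → PowerSeries k, ul 0 = 1 ∧ ∀ l, ul (l + 1) = u * σ (ul l) :=
    ⟨fun l => Nat.rec 1 (fun _ v => u * σ v) l, rfl, fun _ => rfl⟩
  have hUu : ∃ α, U n u α := ⟨_, U_of_root hnk hu1 hun⟩
  have hUσ : ∀ y : PowerSeries k, (∃ α, U n y α) → ∃ α, U n (σ y) α := by
    rintro y ⟨α, w, rfl, hw⟩
    refine ⟨_, u ^ n * σ w, ?_, rfl⟩
    rw [map_add, map_one, map_mul, map_pow, hσX]; ring
  have hUmul : ∀ y y' : PowerSeries k, (∃ α, U n y α) → (∃ α, U n y' α) → ∃ α, U n (y * y') α := by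
    rintro y y' ⟨α, h⟩ ⟨α', h'⟩; exact ⟨_, U_mul hn h h'⟩
  have hUl : ∀ l, ∃ α, U n (ul l) α := by
    intro l
    induction l with
    | zero => rw [hul0]; exact ⟨0, U_one n⟩
    | succ l ih => rw [huls]; exact hUmul _ _ hUu (hUσ _ ih)
  have hCl : ∀ l : ℕ, ul l ^ n * (1 + (l : PowerSeries k) * X ^ n) = 1 := by
    intro l
    induction l with
    | zero => rw [hul0, Nat.cast_zero, zero_mul, add_zero, one_pow, one_mul]
    | succ l ih =>
      have h1 := congrArg σ ih
      rw [map_mul, map_pow, map_add, map_one, map_mul, map_natCast, map_pow, hσX] at h1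
      rw [huls, Nat.cast_succ]
      linear_combination (σ (ul l)) ^ n * hun + h1
  have hpk : ((p : ℕ) : PowerSeries k) = 0 := by
    rw [← map_natCast (C : k →+* PowerSeries k) p, CharP.cast_eq_zero k p, map_zero]
  have hulp : ul p = 1 := by
    obtain ⟨α, hα⟩ := hUl p
    apply root_one hnk (U_cc hn hα)
    have := hCl p
    rw [hpk, zero_mul, add_zero, mul_one] at this
    exact this
  obtain ⟨P, hP⟩ : ∃ P : PowerSeries k, P = ∏ l ∈ Finset.range p, ul l := ⟨_, rfl⟩
  have hUP : ∃ α, U n P α := by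
    rw [hP]
    exact Finset.prod_induction _ (fun y => ∃ α, U n y α) hUmul ⟨0, U_one n⟩ (fun l _ => hUl l)
  have hσP : u ^ p * σ P = P := by
    rw [hP, map_prod]
    have h1 : ∏ l ∈ Finset.range p, ul (l + 1) = u ^ p * ∏ l ∈ Finset.range p, σ (ul l) := by
      rw [Finset.prod_congr rfl (fun l _ => huls l), Finset.prod_mul_distrib, Finset.prod_const,
        Finset.card_range]
    have h2 : (∏ l ∈ Finset.range p, ul (l + 1)) * ul 0 = (∏ l ∈ Finset.range p, ul l) * ul p := by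
      rw [← Finset.prod_range_succ' ul p, ← Finset.prod_range_succ ul p]
    rw [hul0, hulp, mul_one, mul_one] at h2
    rw [← h1, h2]
  obtain ⟨αP, hαP⟩ := hUP
  have hPu : IsUnit P := by
    rw [PowerSeries.isUnit_iff_constantCoeff, U_cc hn hαP]; exact isUnit_one
  have hvalP : ((hPu.unit : (PowerSeries k)ˣ) : PowerSeries k) = P := hPu.unit_spec
  have hval : ((hu.unit : (PowerSeries k)ˣ) : PowerSeries k) = u := hu.unit_spec
  obtain ⟨j, hj⟩ := hdvd
  obtain ⟨σu, hσu⟩ : ∃ σu : (PowerSeries k)ˣ →* (PowerSeries k)ˣ,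
      σu = Units.map (σ : PowerSeries k →* PowerSeries k) := ⟨_, rfl⟩
  have hσu_val : ∀ x : (PowerSeries k)ˣ,
      ((σu x : (PowerSeries k)ˣ) : PowerSeries k) = σ (x : PowerSeries k) := by
    intro x; rw [hσu]; rfl
  have h3 : ((hu.unit ^ (-(p : ℤ)) : (PowerSeries k)ˣ) : PowerSeries k) * u ^ p = 1 := by
    have h3' : ((hu.unit ^ (-(p : ℤ)) : (PowerSeries k)ˣ) : PowerSeries k) *
        ((hu.unit : (PowerSeries k)ˣ) : PowerSeries k) ^ p = 1 := by
      rw [← Units.val_pow_eq_pow_val, ← Units.val_mul, ← zpow_natCast hu.unit p, ← zpow_add,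
        neg_add_cancel, zpow_zero, Units.val_one]
    rw [hval] at h3'
    exact h3'
  have hA : σu hPu.unit = hPu.unit * hu.unit ^ (-(p : ℤ)) := by
    apply Units.ext
    rw [hσu_val, Units.val_mul, hvalP]
    linear_combination (-(σ P)) * h3 +
      ((hu.unit ^ (-(p : ℤ)) : (PowerSeries k)ˣ) : PowerSeries k) * hσP
  obtain ⟨Qj, hQj⟩ : ∃ Qj : PowerSeries k,
      Qj = ((hPu.unit ^ j : (PowerSeries k)ˣ) : PowerSeries k) := ⟨_, rfl⟩
  have hσQ : σ Qj = Qj * ((hu.unit ^ (-(p : ℤ) * j) : (PowerSeries k)ˣ) : PowerSeries k) := by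
    rw [hQj, ← hσu_val, map_zpow, hA, mul_zpow, ← zpow_mul, Units.val_mul]
  have hUQ : ∃ α, U n Qj α := by
    rw [hQj]
    exact ⟨_, U_zpow hn (y := hPu.unit) (by rw [hvalP]; exact hαP) j⟩
  obtain ⟨αQ, wQ, hwQ, _⟩ := hUQ
  obtain ⟨Ua, hUa⟩ : ∃ Ua : PowerSeries k,
      Ua = ((hu.unit ^ a : (PowerSeries k)ˣ) : PowerSeries k) := ⟨_, rfl⟩
  obtain ⟨Ui, hUi⟩ : ∃ Ui : PowerSeries k,
      Ui = ((hu.unit ^ (a - (m : ℤ)) : (PowerSeries k)ˣ) : PowerSeries k) := ⟨_, rfl⟩
  obtain ⟨Uni, hUni⟩ : ∃ Uni : PowerSeries k,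
      Uni = ((hu.unit ^ (-(p : ℤ) * j) : (PowerSeries k)ˣ) : PowerSeries k) := ⟨_, rfl⟩
  rw [← hUni] at hσQ
  rw [← hUi] at hc
  rw [← hUa]
  have r3 : Ua = Ui * u ^ m := by
    have e : a = (a - (m : ℤ)) + (m : ℤ) := by ring
    rw [hUa, hUi]
    conv_lhs => rw [e]
    rw [zpow_add, Units.val_mul, zpow_natCast, Units.val_pow_eq_pow_val, hval]
  have r4 : Ui * Uni = 1 := by
    rw [hUi, hUni, ← Units.val_mul, ← zpow_add, hj]
    have e : (p : ℤ) * j + -(p : ℤ) * j = 0 := by ring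
    rw [e, zpow_zero, Units.val_one]
  obtain ⟨h, hh⟩ : ∃ h : PowerSeries k, h = -(X ^ (n - m) * wQ) := ⟨_, rfl⟩
  have r1 : X ^ m * h = 1 - Qj := by
    rw [hh, hwQ]
    have e : (X : PowerSeries k) ^ n = X ^ m * X ^ (n - m) := by
      rw [← pow_add, Nat.add_sub_cancel' hmn]
    rw [e]; ring
  have r2 := congrArg σ r1
  rw [map_mul, map_pow, hσX, map_sub, map_one, hσQ] at r2
  refine ⟨h, ?_⟩
  rw [← hσapp h]
  have hX : (X : PowerSeries k) ^ m ≠ 0 := pow_ne_zero m X_ne_zero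
  apply mul_left_cancel₀ hX
  linear_combination (X ^ m * σ h) * r3 + Ui * r2 - Qj * r4 - r1 - hc


end Groth.Agent.S13863
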