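import Groth.Statements.S13872
import Mathlib
import Groth.Agent.Lib.Helper6.GammaPol
import Groth.Agent.Lib.Helper6.GammaCoef

set_option autoImplicit false
universe u
open scoped TensorProduct
open ZeroCyc

namespace Groth.Agent.S13872

open MvPolynomial Groth.Agent.Lib.helper6.GammaPol Groth.Agent.Lib.helper6.GammaGen

section aux
variable {A B C : Type u} [CommRing A] [CommRing B] [Algebra A B] [CommRing C] [Algebra A C]
  {d : ℕ}

theorem val_phi_cf (γ : PolLaw.MulLaw A B C d) (φ : C →ₐ[A] SymTen.TS A B d)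
    (hφ : ∀ (S : Type u) [CommSemiring S] [Algebra A S] (n : ℕ) (s : Fin n → S) (b : Fin n → B),
      ((SymTen.TS A B d).val.comp φ).toLinearMap.lTensor S
          (γ.law.toFun' S (∑ j, s j ⊗ₜ[A] b j)) =
        ∑ c : Fin d → Fin n, (∏ i, s (c i)) ⊗ₜ[A] PiTensorProduct.tprod A (fun i => b (c i)))
    {n : ℕ} (b : Fin n → B) (m : Fin n →₀ ℕ) :
    ((SymTen.TS A B d).val (φ (cf γ.law b m)) : ⨂[A] _ : Fin d, B) =
      ∑ c : Fin d → Fin n,
        (if typ c = m then PiTensorProduct.tprod A (fun i => b (c i)) else 0) := by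
  classical
  have h := hφ (MvPolynomial (Fin n) A) n (fun j => X j) b
  have h2 := congrArg (cv (N := ⨂[A] _ : Fin d, B) (MvPolynomial (Fin n) A)
    (MvPolynomial.lcoeff A m)) h
  rw [cv_lTensor, map_sum] at h2
  refine Eq.trans ?_ (h2.trans ?_)
  · rfl
  · refine Finset.sum_congr rfl fun c _ => ?_
    rw [cv_tmul, MvPolynomial.lcoeff_apply]
    have h3 : ∏ i, (X (c i) : MvPolynomial (Fin n) A) = monomial (typ c) 1 := by
      unfold typ
      rw [MvPolynomial.monomial_sum_one]
      rfl
    rw [h3, MvPolynomial.coeff_monomial]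
    split_ifs <;> simp

end aux



/-- Let A be a commutative ring, B an A-algebra and d ≥ 1; let (C, γ) be the degree-d divided power
algebra Γ^d_A(B) with its universal multiplicative law γ : B → C of degree d (every multiplicative
law of degree d out of B factors uniquely through γ), and let φ : Γ^d_A(B) → TS^d_A(B) be the
canonical homomorphism to the symmetric tensors, taken as data characterised by: after any base
change S, φ ∘ γ sends Σ_j s_j ⊗ b_j to Σ_{c : [d] → [n]} (∏_i s_{c(i)}) ⊗ (b_{c(1)} ⊗ ⋯ ⊗ b_{c(d)}),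
i.e. φ corresponds to the law x ↦ x ⊗ ⋯ ⊗ x. Then d!·x = 0 for every x in the kernel of φ, and d!·y
lies in the image of φ for every symmetric tensor y ∈ TS^d_A(B). (The published statement also
asserts x^{d!} = 0 and y^{d!} in the image of φ; those two halves are a separate result and are not
restated here.) -/
theorem result {A B C : Type u} [CommRing A] [CommRing B] [Algebra A B] [CommRing C] [Algebra A C] (d : ℕ) (hd : 0 < d)
    (γ : PolLaw.MulLaw A B C d) (hγ : PolLaw.IsGammaD γ) (φ : C →ₐ[A] SymTen.TS A B d)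
    (hφ : ∀ (S : Type u) [CommSemiring S] [Algebra A S] (n : ℕ) (s : Fin n → S) (b : Fin n → B),
      ((SymTen.TS A B d).val.comp φ).toLinearMap.lTensor S (γ.law.toFun' S (∑ j, s j ⊗ₜ[A] b j)) =
        ∑ c : Fin d → Fin n, (∏ i, s (c i)) ⊗ₜ[A] PiTensorProduct.tprod A (fun i => b (c i))) :
    (∀ x : C, φ x = 0 → d.factorial • x = 0) ∧
      (∀ y : SymTen.TS A B d, d.factorial • y ∈ φ.range) := by
  classical
  have hcf : ∀ (n : ℕ) (b : Fin n → B) (m : Fin n →₀ ℕ),
      psi γ.law d ((SymTen.TS A B d).val (φ (cf γ.law b m))) = d.factorial • cf γ.law b m := by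
    intro n b m
    rw [val_phi_cf γ φ hφ b m, map_sum]
    simp_rw [apply_ite (psi γ.law d), psi_tprod, map_zero]
    exact euler γ.law γ.homog b m
  have ha : ∀ x : C, psi γ.law d ((SymTen.TS A B d).val (φ x)) = d.factorial • x := by
    intro x
    have hx : x ∈ Submodule.span A (coefSet γ) := by
      rw [← mem_Ccan, Ccan_eq_top γ hγ]
      exact Algebra.mem_top
    induction hx using Submodule.span_induction with
    | mem g hg =>
      obtain ⟨S, _, _, lam, x', rfl⟩ := hg
      obtain ⟨n, s, b, rfl⟩ := exists_repr_fin S x'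
      obtain ⟨Fb, h0, hkp⟩ := kp γ.law b
      show psi γ.law d ((SymTen.TS A B d).val
          (φ (cv S lam (γ.law.toFun' S (∑ j, s j ⊗ₜ[A] b j))))) =
        d.factorial • cv S lam (γ.law.toFun' S (∑ j, s j ⊗ₜ[A] b j))
      rw [hkp S s, map_sum]
      simp_rw [cv_tmul]
      rw [map_sum, map_sum, map_sum, Finset.smul_sum]
      refine Finset.sum_congr rfl fun m _ => ?_
      rw [map_smul, map_smul, map_smul, hcf n b m, smul_comm]
    | zero => simp
    | add x y _ _ hx hy => rw [map_add, map_add, map_add, hx, hy, smul_add]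
    | smul a x _ hx => rw [map_smul, map_smul, map_smul, hx, smul_comm]
  have hpol : ∀ b : Fin d → B,
      ((SymTen.TS A B d).val (φ (pol γ.law d b)) : ⨂[A] _ : Fin d, B) =
        ∑ σ : Equiv.Perm (Fin d), PiTensorProduct.tprod A (fun i => b (σ i)) := by
    intro b
    show ((SymTen.TS A B d).val (φ (cf γ.law b (one' d))) : ⨂[A] _ : Fin d, B) = _
    rw [val_phi_cf γ φ hφ b (one' d)]
    exact sum_typ_one (fun c => PiTensorProduct.tprod A (fun i => b (c i)))
  have hb : ∀ w : ⨂[A] _ : Fin d, B, ∃ c : C,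
      ((SymTen.TS A B d).val (φ c) : ⨂[A] _ : Fin d, B) =
        ∑ σ : Equiv.Perm (Fin d), PiTensorProduct.reindex A (fun _ : Fin d => B) σ w := by
    intro w
    induction w using PiTensorProduct.induction_on with
    | smul_tprod a b =>
      refine ⟨a • pol γ.law d b, ?_⟩
      rw [map_smul, map_smul, hpol b, Finset.smul_sum]
      refine Fintype.sum_equiv (Equiv.inv (Equiv.Perm (Fin d))) _ _ (fun σ => ?_)
      rw [map_smul, PiTensorProduct.reindex_tprod]
      rfl
    | add x y hx hy =>
      obtain ⟨cx, hcx⟩ := hx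
      obtain ⟨cy, hcy⟩ := hy
      refine ⟨cx + cy, ?_⟩
      rw [map_add, map_add, hcx, hcy, ← Finset.sum_add_distrib]
      refine Finset.sum_congr rfl fun σ _ => ?_
      rw [map_add]
  refine ⟨?_, ?_⟩
  · intro x hx
    have h := ha x
    rw [hx, map_zero, map_zero] at h
    exact h.symm
  · intro y
    obtain ⟨c, hc⟩ := hb (y : ⨂[A] _ : Fin d, B)
    rw [AlgHom.mem_range]
    refine ⟨c, Subtype.ext ?_⟩
    have hy : ∀ σ : Equiv.Perm (Fin d),
        PiTensorProduct.reindex A (fun _ : Fin d => B) σ (y : ⨂[A] _ : Fin d, B) = y :=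
      (SymTen.mem_TS_iff A B d _).mp y.2
    have h1 : ((SymTen.TS A B d).val (φ c) : ⨂[A] _ : Fin d, B) =
        d.factorial • (y : ⨂[A] _ : Fin d, B) := by
      rw [hc, Finset.sum_congr rfl (fun σ _ => hy σ), Finset.sum_const, Finset.card_univ,
        Fintype.card_perm, Fintype.card_fin]
    exact h1


end Groth.Agent.S13872
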