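import Groth.Statements.S13874
import Mathlib
import Groth.Agent.Lib.Helper6.FieldPtsB
import Groth.Agent.S13397
import Groth.Agent.Lib.Helper2.PolyQuotUH

set_option autoImplicit false
universe u
open scoped TensorProduct
open AlgebraicGeometry
open ZeroCyc

namespace Groth.Agent.S13874

open Groth.Agent.Lib.helper6.FieldPts Groth.Agent.Lib.helper6.GammaUniv
open Groth.Agent.Lib.helper6.NormLaw Groth.Agent.Lib.helper6.GammaGen
open Groth.Agent.Lib.helper6.GammaPol

section aux

variable {A B C : Type u} [CommRing A] [CommRing B] [Algebra A B] [CommRing C] [Algebra A C]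
  (d : ℕ) (γ : PolLaw.MulLaw A B C d) (φ : C →ₐ[A] SymTen.TS A B d)

theorem postcomp_phi
    (hφ : ∀ (S : Type u) [CommSemiring S] [Algebra A S] (n : ℕ) (s : Fin n → S) (b : Fin n → B),
      ((SymTen.TS A B d).val.comp φ).toLinearMap.lTensor S
          (γ.law.toFun' S (∑ j, s j ⊗ₜ[A] b j)) =
        ∑ c : Fin d → Fin n, (∏ i, s (c i)) ⊗ₜ[A] PiTensorProduct.tprod A (fun i => b (c i))) :
    PolLaw.postcomp φ.toLinearMap γ.law = (tsLaw A B d).law := by
  apply PolynomialLaw.ext
  funext S _ _ x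
  refine law_ext_poly _ _ ?_ S x
  intro σ x
  rw [postcomp_toFun']
  apply inj_poly (SymTen.TS A B d) σ
  obtain ⟨n, s, b, rfl⟩ := exists_repr_fin (MvPolynomial σ A) x
  rw [tsLaw_sum, ← hφ, AlgHom.comp_toLinearMap, LinearMap.lTensor_comp_apply]

theorem lift_pt
    (hφ : ∀ (S : Type u) [CommSemiring S] [Algebra A S] (n : ℕ) (s : Fin n → S) (b : Fin n → B),
      ((SymTen.TS A B d).val.comp φ).toLinearMap.lTensor S
          (γ.law.toFun' S (∑ j, s j ⊗ₜ[A] b j)) =
        ∑ c : Fin d → Fin n, (∏ i, s (c i)) ⊗ₜ[A] PiTensorProduct.tprod A (fun i => b (c i)))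
    (hγ : PolLaw.IsGammaD γ) (K : Type u) [Field K] (π : C →+* K) :
    ∃ χ : SymTen.TS A B d →+* K, χ.comp φ.toRingHom = π := by
  letI : Algebra A K := (π.comp (algebraMap A C)).toAlgebra
  let π' : C →ₐ[A] K := { π with commutes' := fun _ => rfl }
  obtain ⟨χ₀, hχ₀⟩ := exists_lift_field K B d (PolLaw.MulLaw.postcomp π' γ)
  refine ⟨χ₀.toRingHom, ?_⟩
  obtain ⟨f, -, huniq⟩ := hγ K (PolLaw.MulLaw.postcomp π' γ)
  have h1 : χ₀.comp φ = f := huniq _ (by
    show PolLaw.postcomp (χ₀.comp φ).toLinearMap γ.law = (PolLaw.MulLaw.postcomp π' γ).law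
    rw [← hχ₀, ← postcomp_phi d γ φ hφ]
    apply PolynomialLaw.ext
    funext S _ _ x
    show (χ₀.comp φ).toLinearMap.lTensor S (γ.law.toFun' S x) =
      χ₀.toLinearMap.lTensor S (φ.toLinearMap.lTensor S (γ.law.toFun' S x))
    rw [AlgHom.comp_toLinearMap, LinearMap.lTensor_comp_apply])
  have h2 : π' = f := huniq _ rfl
  have h3 : χ₀.comp φ = π' := h1.trans h2.symm
  ext c
  exact congrArg (fun g : C →ₐ[A] K => g c) h3

theorem phi_integral (F : PolLaw.MulLaw A (SymTen.TS A B d) C d.factorial)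
    (hF : PolLaw.MulLaw.postcomp φ F = PolLaw.MulLaw.pow A (SymTen.TS A B d) d.factorial) :
    φ.toRingHom.IsIntegral := by
  intro y
  have hz : φ.toLinearMap.lTensor A (F.law.toFun' A (1 ⊗ₜ[A] y)) =
      (1 ⊗ₜ[A] y) ^ d.factorial :=
    congrArg (fun L : PolLaw.MulLaw A (SymTen.TS A B d) (SymTen.TS A B d) d.factorial =>
      L.law.toFun' A (1 ⊗ₜ[A] y)) hF
  have h2 : φ (TensorProduct.lid A C (F.law.toFun' A (1 ⊗ₜ[A] y))) = y ^ d.factorial := by
    have h3 := congrArg (TensorProduct.lid A (SymTen.TS A B d)) hz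
    rw [Algebra.TensorProduct.tmul_pow, one_pow, TensorProduct.lid_tmul, one_smul,
      lid_lTensor] at h3
    exact h3
  refine ⟨Polynomial.X ^ d.factorial -
      Polynomial.C (TensorProduct.lid A C (F.law.toFun' A (1 ⊗ₜ[A] y))),
    Polynomial.monic_X_pow_sub_C _ (Nat.factorial_ne_zero d), ?_⟩
  rw [Polynomial.eval₂_sub, Polynomial.eval₂_pow, Polynomial.eval₂_X, Polynomial.eval₂_C]
  show y ^ d.factorial - φ _ = 0
  rw [h2, sub_self]

theorem pts_inj (F : PolLaw.MulLaw A (SymTen.TS A B d) C d.factorial)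
    (hF : PolLaw.MulLaw.postcomp φ F = PolLaw.MulLaw.pow A (SymTen.TS A B d) d.factorial)
    (K : Type u) [Field K] (ψ₁ ψ₂ : SymTen.TS A B d →+* K)
    (h : ψ₁.comp φ.toRingHom = ψ₂.comp φ.toRingHom) : ψ₁ = ψ₂ := by
  letI : Algebra A K := ((ψ₁.comp φ.toRingHom).comp (algebraMap A C)).toAlgebra
  have hc1 : ∀ a, ψ₁ (algebraMap A (SymTen.TS A B d) a) = algebraMap A K a := by
    intro a
    rw [← φ.commutes a]
    rfl
  have hc2 : ∀ a, ψ₂ (algebraMap A (SymTen.TS A B d) a) = algebraMap A K a := by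
    intro a
    rw [← φ.commutes a]
    show (ψ₂.comp φ.toRingHom) (algebraMap A C a) = (ψ₁.comp φ.toRingHom) (algebraMap A C a)
    rw [h]
  let ψ₁' : SymTen.TS A B d →ₐ[A] K := { ψ₁ with commutes' := hc1 }
  let ψ₂' : SymTen.TS A B d →ₐ[A] K := { ψ₂ with commutes' := hc2 }
  have h12 : ψ₁'.comp φ = ψ₂'.comp φ := by
    ext c
    exact congrArg (fun g : C →+* K => g c) h
  ext y
  have hz : φ.toLinearMap.lTensor (Polynomial A) (F.law.toFun' (Polynomial A)
      ((Polynomial.X : Polynomial A) ⊗ₜ[A] 1 + 1 ⊗ₜ[A] y)) =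
      ((Polynomial.X : Polynomial A) ⊗ₜ[A] 1 + 1 ⊗ₜ[A] y) ^ d.factorial :=
    congrArg (fun L : PolLaw.MulLaw A (SymTen.TS A B d) (SymTen.TS A B d) d.factorial =>
      L.law.toFun' (Polynomial A) ((Polynomial.X : Polynomial A) ⊗ₜ[A] 1 + 1 ⊗ₜ[A] y)) hF
  have e1 : ψ₁'.toLinearMap.lTensor (Polynomial A)
        (((Polynomial.X : Polynomial A) ⊗ₜ[A] 1 + 1 ⊗ₜ[A] y) ^ d.factorial) =
      ψ₂'.toLinearMap.lTensor (Polynomial A)
        (((Polynomial.X : Polynomial A) ⊗ₜ[A] 1 + 1 ⊗ₜ[A] y) ^ d.factorial) := by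
    rw [← hz, ← LinearMap.lTensor_comp_apply, ← LinearMap.lTensor_comp_apply,
      ← AlgHom.comp_toLinearMap, ← AlgHom.comp_toLinearMap, h12]
  rw [PolLaw.lTensor_algHom_apply, PolLaw.lTensor_algHom_apply, map_pow, map_pow] at e1
  have hz1 : ∀ ψ' : SymTen.TS A B d →ₐ[A] K,
      Algebra.TensorProduct.map (AlgHom.id (Polynomial A) (Polynomial A)) ψ'
        ((Polynomial.X : Polynomial A) ⊗ₜ[A] 1 + 1 ⊗ₜ[A] y) =
      (Polynomial.X : Polynomial A) ⊗ₜ[A] 1 + 1 ⊗ₜ[A] ψ' y := by
    intro ψ'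
    simp only [map_add, Algebra.TensorProduct.map_tmul, AlgHom.coe_id, id_eq, map_one]
  rw [hz1, hz1] at e1
  have e2 := congrArg (Algebra.TensorProduct.productMap
    (Polynomial.aeval (R := A) (-(ψ₁ y))) (AlgHom.id A K)) e1
  have hε : ∀ k : K, Algebra.TensorProduct.productMap
      (Polynomial.aeval (R := A) (-(ψ₁ y))) (AlgHom.id A K)
      ((Polynomial.X : Polynomial A) ⊗ₜ[A] 1 + 1 ⊗ₜ[A] k) = -(ψ₁ y) + k := by
    intro k
    simp only [map_add, Algebra.TensorProduct.productMap_apply_tmul, Polynomial.aeval_X, map_one,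
      mul_one, one_mul, AlgHom.coe_id, id_eq]
  rw [map_pow, map_pow, hε, hε] at e2
  have e3 : (-(ψ₁ y) + ψ₁ y) ^ d.factorial = (-(ψ₁ y) + ψ₂ y) ^ d.factorial := e2
  rw [neg_add_cancel, zero_pow (Nat.factorial_ne_zero d)] at e3
  have e4 := (pow_eq_zero_iff (Nat.factorial_ne_zero d)).mp e3.symm
  exact neg_add_eq_zero.mp e4

end aux



/-- Affine form. Let A be a commutative ring, B an A-algebra and d ≥ 1; let (C, γ) be the degree-d
divided power algebra Γ^d_A(B) with its universal multiplicative law γ : B → C of degree d (every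
multiplicative law of degree d out of B factors uniquely through γ), and let φ : Γ^d_A(B) →
TS^d_A(B) be the canonical homomorphism to the symmetric tensors, taken as data characterised by:
after any base change S, φ ∘ γ sends Σ_j s_j ⊗ b_j to Σ_{c : [d] → [n]} (∏_i s_{c(i)}) ⊗ (b_{c(1)} ⊗
⋯ ⊗ b_{c(d)}), i.e. φ corresponds to the law x ↦ x ⊗ ⋯ ⊗ x. Then the morphism Spec TS^d_A(B) → Spec
Γ^d_A(B) induced by φ (the comparison map from the d-th symmetric product of Spec B over Spec A to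
the scheme of degree-d divided powers) is a universal homeomorphism inducing an isomorphism on every
residue field. (The published statement is for a separated algebraic space X over an algebraic space
S; this row is its content for X = Spec B over S = Spec A. The second assertion of the published
statement, that the map is an isomorphism when B is flat over A or A contains the rationals, is not
part of this row.) -/
theorem result {A B C : Type u} [CommRing A] [CommRing B] [Algebra A B] [CommRing C] [Algebra A C] (d : ℕ) (hd : 0 < d)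
    (γ : PolLaw.MulLaw A B C d) (hγ : PolLaw.IsGammaD γ) (φ : C →ₐ[A] SymTen.TS A B d)
    (hφ : ∀ (S : Type u) [CommSemiring S] [Algebra A S] (n : ℕ) (s : Fin n → S) (b : Fin n → B),
      ((SymTen.TS A B d).val.comp φ).toLinearMap.lTensor S (γ.law.toFun' S (∑ j, s j ⊗ₜ[A] b j)) =
        ∑ c : Fin d → Fin n, (∏ i, s (c i)) ⊗ₜ[A] PiTensorProduct.tprod A (fun i => b (c i))) :
    FlatMor.IsUnivHomeo (Spec.map (CommRingCat.ofHom φ.toRingHom)) ∧
      ∀ x : ↥(Spec (CommRingCat.of (SymTen.TS A B d))),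
        Function.Surjective ((Spec.map (CommRingCat.ofHom φ.toRingHom)).residueFieldMap x).hom := by
  obtain ⟨F, hF, -⟩ := Groth.Agent.S13397.result d γ hγ φ hφ
  have hint := phi_integral d φ F hF
  have hinj := pts_inj d φ F hF
  have hlift := lift_pt d γ φ hφ hγ
  have hsurj : Function.Surjective (PrimeSpectrum.comap φ.toRingHom) := by
    intro p
    obtain ⟨χ, hχ⟩ := hlift p.asIdeal.ResidueField (algebraMap C p.asIdeal.ResidueField)
    refine ⟨⟨RingHom.ker χ, RingHom.ker_isPrime χ⟩, ?_⟩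
    apply PrimeSpectrum.ext
    show Ideal.comap φ.toRingHom (RingHom.ker χ) = p.asIdeal
    rw [RingHom.comap_ker, hχ, Ideal.ker_algebraMap_residueField]
  have hres : Groth.Agent.Lib.helper2.UnivHomeoElem.ResSurj φ.toRingHom := by
    intro Q z
    obtain ⟨χ, hχ⟩ := hlift (PrimeSpectrum.comap φ.toRingHom Q).asIdeal.ResidueField
      (algebraMap C (PrimeSpectrum.comap φ.toRingHom Q).asIdeal.ResidueField)
    have hcomp : (Ideal.ResidueField.map (PrimeSpectrum.comap φ.toRingHom Q).asIdeal Q.asIdeal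
        φ.toRingHom rfl).comp χ = algebraMap (SymTen.TS A B d) Q.asIdeal.ResidueField := by
      apply hinj
      rw [RingHom.comp_assoc, hχ]
      ext c
      exact Ideal.ResidueField.map_algebraMap (PrimeSpectrum.comap φ.toRingHom Q).asIdeal
        Q.asIdeal φ.toRingHom rfl c
    obtain ⟨x, y, hy, rfl⟩ :=
      IsFractionRing.div_surjective (A := SymTen.TS A B d ⧸ Q.asIdeal) z
    obtain ⟨x, rfl⟩ := Ideal.Quotient.mk_surjective x
    obtain ⟨y, rfl⟩ := Ideal.Quotient.mk_surjective y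
    refine ⟨χ x / χ y, ?_⟩
    rw [map_div₀]
    have hx : (Ideal.ResidueField.map (PrimeSpectrum.comap φ.toRingHom Q).asIdeal Q.asIdeal
        φ.toRingHom rfl) (χ x) = algebraMap (SymTen.TS A B d) Q.asIdeal.ResidueField x :=
      congrArg (fun g : SymTen.TS A B d →+* Q.asIdeal.ResidueField => g x) hcomp
    have hy' : (Ideal.ResidueField.map (PrimeSpectrum.comap φ.toRingHom Q).asIdeal Q.asIdeal
        φ.toRingHom rfl) (χ y) = algebraMap (SymTen.TS A B d) Q.asIdeal.ResidueField y :=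
      congrArg (fun g : SymTen.TS A B d →+* Q.asIdeal.ResidueField => g y) hcomp
    rw [hx, hy']
    rfl
  refine ⟨Groth.Agent.Lib.helper2.SpecResidue.isUnivHomeo_Spec_of φ.toRingHom hint hsurj hinj,
    fun x => ?_⟩
  exact Groth.Agent.Lib.helper2.PolyQuotUH.residueFieldMap_surjective_of φ.toRingHom hres x


end Groth.Agent.S13874
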