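import Groth.Statements.S13877
import Mathlib

set_option autoImplicit false
universe u v
open Crimp

namespace Groth.Agent.S13877

section helpers
open Module

section general
variable {R : Type*} [CommRing R] [IsDomain R] {St : Type*} [CommRing St] [Algebra R St]
  {ι : Type*} [Fintype ι] [DecidableEq ι]

/-- trace compatibility -/
theorem trace_eq (S : Subalgebra R St) (ab : Basis ι R S) (b' : Basis ι R St) (a : ι → R)
    (ha : ∀ i, a i ≠ 0) (h : ∀ i, (ab i : St) = a i • b' i) (s : S) :
    Algebra.trace R S s = Algebra.trace R St (s : St) := by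
  rw [Algebra.trace_eq_matrix_trace ab, Algebra.trace_eq_matrix_trace b']
  simp only [Matrix.trace, Matrix.diag]
  refine Finset.sum_congr rfl fun i _ => ?_
  rw [Algebra.leftMulMatrix_eq_repr_mul, Algebra.leftMulMatrix_eq_repr_mul]
  set c := ab.repr (s * ab i) with hc
  have h0 : s * ab i = ∑ j, c j • ab j := (ab.sum_repr (s * ab i)).symm
  have h1 : (s : St) * (a i • b' i) = ∑ j, (c j * a j) • b' j := by
    have := congrArg (Subtype.val) h0
    rw [Subalgebra.coe_mul, h] at this
    rw [this]
    rw [AddSubmonoidClass.coe_finsetSum]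
    refine Finset.sum_congr rfl fun j _ => ?_
    rw [Subalgebra.coe_smul, h, smul_smul]
  have h2 := congrArg (fun x => b'.repr x i) h1
  simp only [mul_smul_comm, map_smul, Finsupp.smul_apply, smul_eq_mul] at h2
  rw [b'.repr_sum_self] at h2
  have h3 : a i * (b'.repr (↑s * b' i)) i = a i * c i := by rw [h2, mul_comm]
  exact (mul_left_cancel₀ (ha i) h3).symm

theorem discr_eq (S : Subalgebra R St) (ab : Basis ι R S) (b' : Basis ι R St) (a : ι → R)
    (ha : ∀ i, a i ≠ 0) (h : ∀ i, (ab i : St) = a i • b' i) :
    Algebra.discr R ab = (∏ i, a i) ^ 2 * Algebra.discr R b' := by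
  have hM : Algebra.traceMatrix R ab
      = Matrix.diagonal a * Algebra.traceMatrix R b' * Matrix.diagonal a := by
    ext i j
    rw [Matrix.mul_diagonal, Matrix.diagonal_mul, Algebra.traceMatrix_apply,
      Algebra.traceMatrix_apply, Algebra.traceForm_apply, Algebra.traceForm_apply,
      trace_eq S ab b' a ha h, Subalgebra.coe_mul, h, h, smul_mul_smul_comm, map_smul, smul_eq_mul]
    ring
  rw [Algebra.discr_def, Algebra.discr_def, hM, Matrix.det_mul, Matrix.det_mul, Matrix.det_diagonal]
  ring

omit [IsDomain R] in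
/-- discriminants of two bases differ by the square of a unit -/
theorem discr_basis_change {B : Type*} [CommRing B] [Algebra R B] (b1 b2 : Basis ι R B) :
    ∃ u : R, IsUnit u ∧ Algebra.discr R b2 = u ^ 2 * Algebra.discr R b1 := by
  refine ⟨(b1.toMatrix b2).det, ?_, ?_⟩
  · have := b1.isUnit_det b2
    rwa [Basis.det_apply] at this
  · rw [← Algebra.discr_of_matrix_vecMul]
    congr 1
    ext j
    rw [Matrix.vecMul, dotProduct]
    simp only [Matrix.map_apply]
    rw [← b1.sum_toMatrix_smul_self b2 j]
    refine Finset.sum_congr rfl fun i _ => ?_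
    rw [Algebra.smul_def, mul_comm]

omit [Fintype ι] in
theorem ord_prod (s : Finset ι) (a : ι → R) (ha : ∀ i, a i ≠ 0) :
    Ring.ord R (∏ i ∈ s, a i) = ∑ i ∈ s, Ring.ord R (a i) := by
  induction s using Finset.induction_on with
  | empty => simp
  | insert i s hi ih =>
    rw [Finset.prod_insert hi, Finset.sum_insert hi, Ring.ord_mul', ih]
    exact mem_nonZeroDivisors_of_ne_zero (ha i)

theorem partA [IsPrincipalIdealRing R] {d : ℕ} (bt : Basis (Fin d) R St) (S : Subalgebra R St)
    (bS : Basis (Fin d) R S) :
    ∃ δ : R, δ ≠ 0 ∧ (∀ x : St, δ • x ∈ S) ∧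
      (∃ u : R, IsUnit u ∧ Algebra.discr R bS = u * (δ ^ 2 * Algebra.discr R bt)) ∧
      Module.length R (St ⧸ Subalgebra.toSubmodule S) = Ring.ord R δ := by
  set N := Subalgebra.toSubmodule S with hN
  have hrank : Module.finrank R N = Module.finrank R St := by
    rw [Module.finrank_eq_card_basis bt,
      Module.finrank_eq_card_basis (bS.map (Subalgebra.toSubmoduleEquiv S).symm)]
  set a := Submodule.smithNormalFormCoeffs bt hrank with ha_def
  set b' := Submodule.smithNormalFormTopBasis bt hrank with hb'
  set abN := Submodule.smithNormalFormBotBasis bt hrank with habN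
  have ha : ∀ i, a i ≠ 0 := Submodule.smithNormalFormCoeffs_ne_zero bt hrank
  set ab : Basis (Fin d) R S := abN.map (Subalgebra.toSubmoduleEquiv S) with hab
  have h : ∀ i, (ab i : St) = a i • b' i := by
    intro i
    rw [hab, Basis.map_apply]
    exact Submodule.smithNormalFormBotBasis_def bt hrank i
  refine ⟨∏ i, a i, Finset.prod_ne_zero_iff.mpr fun i _ => ha i, ?_, ?_, ?_⟩
  · intro x
    rw [← b'.sum_repr x, Finset.smul_sum]
    refine Subalgebra.sum_mem _ fun i _ => ?_
    rw [smul_comm]
    refine Subalgebra.smul_mem _ ?_ _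
    rw [← Finset.mul_prod_erase Finset.univ a (Finset.mem_univ i), mul_comm, mul_smul, ← h]
    exact Subalgebra.smul_mem _ (ab i).2 _
  · obtain ⟨u1, hu1, e1⟩ := discr_basis_change ab bS
    obtain ⟨u2, hu2, e2⟩ := discr_basis_change bt b'
    refine ⟨u1 ^ 2 * u2 ^ 2, (hu1.pow 2).mul (hu2.pow 2), ?_⟩
    rw [e1, discr_eq S ab b' a ha h, e2]
    ring
  · rw [(Submodule.quotientEquivPiSpan N bt hrank).length_eq, Module.length_pi_of_fintype,
      ord_prod Finset.univ a ha]
    rfl

end general


end helpers

/-- Over R = k⟦t⟧ with k an algebraically closed field of characteristic zero, let S' be a commutative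
R-algebra with an R-basis of size d whose discriminant generates the ideal (t ^ a) (a finite cover
of the formal disk of degree d, unramified over the punctured disk, with branch divisor (t ^ a)),
and let S be an R-subalgebra of S' with an R-basis of size d whose discriminant generates (t ^ b) (a
crimp with branch divisor (t ^ b)). Then t ^ b annihilates S' / S and twice the R-length of S' / S
plus a equals b. (The published statement is for a family of such subalgebras over a k-scheme T and
also asserts T-flatness of the quotient; this row is its restriction to T a point.) -/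
theorem result {k : Type u} [Field k] [IsAlgClosed k] [CharZero k]
    {St : Type v} [CommRing St] [Algebra (PowerSeries k) St] (d a b : ℕ)
    (bt : Module.Basis (Fin d) (PowerSeries k) St)
    (ha : Ideal.span {Algebra.discr (PowerSeries k) ⇑bt} = Ideal.span {(PowerSeries.X : PowerSeries k) ^ a})
    (S : Subalgebra (PowerSeries k) St) (bS : Module.Basis (Fin d) (PowerSeries k) S)
    (hb : Ideal.span {Algebra.discr (PowerSeries k) ⇑bS} = Ideal.span {(PowerSeries.X : PowerSeries k) ^ b}) :
    (∀ q : St ⧸ Subalgebra.toSubmodule S, ((PowerSeries.X : PowerSeries k) ^ b) • q = 0) ∧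
    2 * Module.length (PowerSeries k) (St ⧸ Subalgebra.toSubmodule S) + (a : ℕ∞) = (b : ℕ∞) := by
  obtain ⟨δ, hδ, hmem, ⟨u, hu, hdisc⟩, hlen⟩ := partA bt S bS
  obtain ⟨ua, hua⟩ := Ideal.span_singleton_eq_span_singleton.mp ha
  obtain ⟨ub, hub⟩ := Ideal.span_singleton_eq_span_singleton.mp hb
  -- the key identity
  have key : (PowerSeries.X : PowerSeries k) ^ b
      = (u * δ * (PowerSeries.X ^ a * (↑ua⁻¹ : PowerSeries k)) * (↑ub : PowerSeries k)) * δ := by
    rw [← hub, hdisc, ← hua]
    have : (ua : PowerSeries k) * ↑ua⁻¹ = 1 := Units.mul_inv ua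
    linear_combination (-(u * δ ^ 2 * Algebra.discr (PowerSeries k) ⇑bt * (↑ub : PowerSeries k))) * this
  have hX : Irreducible (PowerSeries.X : PowerSeries k) := PowerSeries.X_prime.irreducible
  have hXnz : (PowerSeries.X : PowerSeries k) ∈ nonZeroDivisors (PowerSeries k) :=
    mem_nonZeroDivisors_of_ne_zero hX.ne_zero
  have hordX : ∀ n : ℕ, Ring.ord (PowerSeries k) ((PowerSeries.X : PowerSeries k) ^ n) = n := by
    intro n
    rw [Ring.ord_pow hXnz, Ring.ord_of_irreducible hX]
    simp
  constructor
  · intro q
    induction q using Submodule.Quotient.induction_on with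
    | H x =>
      rw [← Submodule.Quotient.mk_smul, Submodule.Quotient.mk_eq_zero, key, mul_smul]
      exact Subalgebra.smul_mem _ (hmem x) _
  · rw [hlen]
    have h1 := congrArg (Ring.ord (PowerSeries k)) key
    rw [hordX] at h1
    rw [h1]
    have e : (u * δ * (PowerSeries.X ^ a * (↑ua⁻¹ : PowerSeries k)) * (↑ub : PowerSeries k)) * δ
        = (u * (↑ua⁻¹ : PowerSeries k) * (↑ub : PowerSeries k)) * (δ ^ 2 * PowerSeries.X ^ a) := by ring
    rw [e, Ring.ord_mul_of_isUnit_left ((hu.mul (Units.isUnit _)).mul (Units.isUnit _)),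
      Ring.ord_mul _ (pow_mem hXnz a), hordX,
      Ring.ord_pow (mem_nonZeroDivisors_of_ne_zero hδ)]
    simp [two_mul]

end Groth.Agent.S13877
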