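import Groth.Statements.S13878
import Mathlib

set_option autoImplicit false
universe u
open Crimp

namespace Groth.Agent.S13878

section helpers
open Module

section general
variable {R : Type*} [CommRing R] [IsDomain R] [IsDiscreteValuationRing R] {t : R}

/-- embedding of `R²` as the vectors with zeroth coordinate `0` -/
def iota : (Fin 2 → R) →ₗ[R] (Fin 3 → R) where
  toFun y := ![0, y 0, y 1]
  map_add' y z := by ext i; fin_cases i <;> simp
  map_smul' c y := by ext i; fin_cases i <;> simp

omit [IsDomain R] [IsDiscreteValuationRing R] in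
theorem decomp (x : Fin 3 → R) :
    x = x 0 • (1 : Fin 3 → R) + iota (R := R) ![x 1 - x 0, x 2 - x 0] := by
  ext i
  fin_cases i <;> simp [iota]

theorem ord_unit_mul_pow (ht : Irreducible t) (u : R) (hu : IsUnit u) (p : ℕ) :
    Ring.ord R (u * t ^ p) = p := by
  rw [Ring.ord_mul_of_isUnit_left hu, Ring.ord_pow (mem_nonZeroDivisors_of_ne_zero ht.ne_zero),
    Ring.ord_of_irreducible ht]
  simp

theorem length_quot_pow (ht : Irreducible t) (p : ℕ) :
    Module.length R (R ⧸ Ideal.span {t ^ p}) = p := by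
  have := ord_unit_mul_pow ht 1 isUnit_one p
  rwa [one_mul] at this

omit [IsDomain R] [IsDiscreteValuationRing R] in
theorem mem_smul_top_dvd (z : Fin 3 → R) (hz : z ∈ Ideal.span {t} • (⊤ : Submodule R (Fin 3 → R))) (j : Fin 3) :
    t ∣ z j := by
  refine Submodule.smul_induction_on hz ?_ ?_
  · intro r hr x _
    obtain ⟨c, rfl⟩ := Ideal.mem_span_singleton'.mp hr
    exact ⟨c * x j, by simp; ring⟩
  · intro x y hx hy
    exact dvd_add hx hy

omit [IsDiscreteValuationRing R] in
omit [IsDomain R] in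
theorem kill_prod (m n : ℕ) (hmn : m ≤ n)
    (z : (R ⧸ Ideal.span {t ^ m}) × (R ⧸ Ideal.span {t ^ n})) : t ^ n • z = 0 := by
  obtain ⟨z1, z2⟩ := z
  obtain ⟨r1, rfl⟩ := Ideal.Quotient.mk_surjective z1
  obtain ⟨r2, rfl⟩ := Ideal.Quotient.mk_surjective z2
  ext
  · show t ^ n • (Ideal.Quotient.mk _ r1) = 0
    rw [← Ideal.Quotient.mk_eq_mk, ← Submodule.Quotient.mk_smul, Ideal.Quotient.mk_eq_mk,
      Ideal.Quotient.eq_zero_iff_mem, Ideal.mem_span_singleton, smul_eq_mul]
    exact Dvd.dvd.mul_right (pow_dvd_pow t hmn) _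
  · show t ^ n • (Ideal.Quotient.mk _ r2) = 0
    rw [← Ideal.Quotient.mk_eq_mk, ← Submodule.Quotient.mk_smul, Ideal.Quotient.mk_eq_mk,
      Ideal.Quotient.eq_zero_iff_mem, Ideal.mem_span_singleton, smul_eq_mul]
    exact Dvd.intro _ rfl

theorem main (ht : Irreducible t) (m n : ℕ) (hmn : m ≤ n)
    (S : Submodule R (Fin 3 → R)) (h1 : (1 : Fin 3 → R) ∈ S)
    (e : ((Fin 3 → R) ⧸ S) ≃ₗ[R] ((R ⧸ Ideal.span {t ^ m}) × (R ⧸ Ideal.span {t ^ n}))) :
    Ideal.span {t ^ n} • (⊤ : Submodule R (Fin 3 → R)) ≤ S ∧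
    ∃ f : Fin 3 → R, f ∉ Submodule.span R {(1 : Fin 3 → R)} ⊔
        Ideal.span {t} • (⊤ : Submodule R (Fin 3 → R)) ∧
      S = Submodule.span R {(1 : Fin 3 → R), t ^ m • f} ⊔
        Ideal.span {t ^ n} • (⊤ : Submodule R (Fin 3 → R)) := by
  -- L1
  have hkill : ∀ x : Fin 3 → R, t ^ n • x ∈ S := by
    intro x
    rw [← Submodule.Quotient.mk_eq_zero, Submodule.Quotient.mk_smul]
    apply e.injective
    rw [map_smul, map_zero]
    exact kill_prod m n hmn _
  have hL1 : Ideal.span {t ^ n} • (⊤ : Submodule R (Fin 3 → R)) ≤ S := by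
    rw [Submodule.smul_le]
    intro r hr x _
    obtain ⟨c, rfl⟩ := Ideal.mem_span_singleton'.mp hr
    rw [mul_smul]
    exact S.smul_mem _ (hkill x)
  refine ⟨hL1, ?_⟩
  -- the rank two submodule
  set S₀ : Submodule R (Fin 2 → R) := S.comap iota with hS₀
  have hmemS : ∀ x : Fin 3 → R, x ∈ S ↔ ![x 1 - x 0, x 2 - x 0] ∈ S₀ := by
    intro x
    rw [hS₀, Submodule.mem_comap]
    constructor
    · intro hx
      have := S.sub_mem hx (S.smul_mem (x 0) h1)
      have hd : iota (R := R) ![x 1 - x 0, x 2 - x 0] = x - x 0 • 1 := by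
        rw [eq_sub_iff_add_eq, add_comm]
        exact (decomp x).symm
      rw [hd]
      exact this
    · intro hx
      rw [decomp x]
      exact S.add_mem (S.smul_mem _ h1) hx
  have hrank : Module.finrank R S₀ = Module.finrank R (Fin 2 → R) := by
    apply le_antisymm (Submodule.finrank_le _)
    let g : (Fin 2 → R) →ₗ[R] S₀ :=
      { toFun := fun y => ⟨t ^ n • y, by
          rw [hS₀, Submodule.mem_comap, map_smul]; exact hkill _⟩
        map_add' := fun y z => by
          ext : 1
          show t ^ n • (y + z) = t ^ n • y + t ^ n • z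
          rw [smul_add]
        map_smul' := fun c y => by
          ext : 1
          show t ^ n • (c • y) = c • (t ^ n • y)
          rw [smul_comm] }
    apply LinearMap.finrank_le_finrank_of_injective (f := g)
    intro y z hyz
    have := congrArg Subtype.val hyz
    exact smul_right_injective _ (pow_ne_zero n ht.ne_zero) this
  set a := Submodule.smithNormalFormCoeffs (Pi.basisFun R (Fin 2)) hrank with ha_def
  set b' := Submodule.smithNormalFormTopBasis (Pi.basisFun R (Fin 2)) hrank with hb'
  set ab := Submodule.smithNormalFormBotBasis (Pi.basisFun R (Fin 2)) hrank with hab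
  have ha : ∀ i, a i ≠ 0 := Submodule.smithNormalFormCoeffs_ne_zero _ hrank
  have habi : ∀ i, (ab i : Fin 2 → R) = a i • b' i :=
    Submodule.smithNormalFormBotBasis_def _ hrank
  have hmem : ∀ y : Fin 2 → R, y ∈ S₀ ↔ ∃ c : Fin 2 → R, y = ∑ i, c i • a i • b' i := by
    intro y
    rw [ab.mem_submodule_iff']
    simp only [habi]
  -- orders
  have hex : ∀ i, ∃ (p : ℕ) (u : Rˣ), a i = ↑u * t ^ p := fun i =>
    IsDiscreteValuationRing.eq_unit_mul_pow_irreducible (ha i) ht
  choose p u hpu using hex
  have hord : ∀ i, Ring.ord R (a i) = p i := fun i => by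
    rw [hpu i, ord_unit_mul_pow ht _ (u i).isUnit]
  -- lengths
  have len1 : Module.length R ((Fin 2 → R) ⧸ S₀) = (p 0 : ℕ∞) + p 1 := by
    rw [(Submodule.quotientEquivPiSpan S₀ (Pi.basisFun R (Fin 2)) hrank).length_eq,
      Module.length_pi_of_fintype, Fin.sum_univ_two, ← hord 0, ← hord 1]
    rfl
  have len2 : Module.length R ((Fin 3 → R) ⧸ S) = (m : ℕ∞) + n := by
    rw [e.length_eq, Module.length_prod, length_quot_pow ht, length_quot_pow ht]
  have len3 : Module.length R ((Fin 2 → R) ⧸ S₀) = Module.length R ((Fin 3 → R) ⧸ S) := by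
    have hle : S₀ ≤ S.comap iota := le_refl _
    apply le_antisymm
    · apply Module.length_le_of_injective (Submodule.mapQ S₀ S iota hle)
      rw [← LinearMap.ker_eq_bot, Submodule.mapQ, Submodule.ker_liftQ_eq_bot']
      rw [LinearMap.ker_comp, Submodule.ker_mkQ]
    · apply Module.length_le_of_surjective (Submodule.mapQ S₀ S iota hle)
      intro q
      induction q using Submodule.Quotient.induction_on with
      | H x =>
        refine ⟨Submodule.Quotient.mk ![x 1 - x 0, x 2 - x 0], ?_⟩
        rw [Submodule.mapQ_apply, Submodule.Quotient.eq]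
        have hd : iota (R := R) ![x 1 - x 0, x 2 - x 0] = x - x 0 • 1 := by
          rw [eq_sub_iff_add_eq, add_comm]
          exact (decomp x).symm
        rw [hd, sub_sub_cancel_left]
        exact S.neg_mem (S.smul_mem _ h1)
  have hsum : p 0 + p 1 = m + n := by
    have := len1.symm.trans (len3.trans len2)
    exact_mod_cast this
  -- F2
  have hF2 : ∀ i, p i ≤ n := by
    intro i
    have h0 : t ^ n • b' i ∈ S₀ := by
      rw [hS₀, Submodule.mem_comap, map_smul]
      exact hkill _
    obtain ⟨c, hc⟩ := (hmem _).mp h0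
    have h2 := congrArg (fun y => b'.repr y i) hc
    simp only [smul_smul] at h2
    rw [b'.repr_sum_self] at h2
    simp only [map_smul, Basis.repr_self, Finsupp.smul_apply, Finsupp.single_eq_same,
      smul_eq_mul, mul_one] at h2
    rw [hpu i] at h2
    apply (pow_dvd_pow_iff ht.ne_zero ht.not_isUnit).mp
    exact ⟨c i * ↑(u i), by rw [h2]; ring⟩
  -- F3
  have hF3 : n ≤ max (p 0) (p 1) := by
    set q := max (p 0) (p 1) with hq
    have hpq : ∀ i, p i ≤ q := by
      intro i
      fin_cases i
      · exact le_max_left _ _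
      · exact le_max_right _ _
    have hb1 : ∀ i, t ^ q • b' i ∈ S₀ := by
      intro i
      have : t ^ q • b' i = (t ^ (q - p i) * (↑(u i)⁻¹ : R)) • (ab i : Fin 2 → R) := by
        rw [habi, smul_smul, hpu i]
        congr 1
        have hu1 : (↑(u i)⁻¹ : R) * ↑(u i) = 1 := Units.inv_mul (u i)
        calc t ^ q = t ^ (q - p i) * t ^ (p i) := by rw [← pow_add, Nat.sub_add_cancel (hpq i)]
          _ = t ^ (q - p i) * ((↑(u i)⁻¹ : R) * ↑(u i)) * t ^ p i := by rw [hu1, mul_one]
          _ = _ := by ring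
      rw [this]
      exact S₀.smul_mem _ (ab i).2
    have hb2 : ∀ y : Fin 2 → R, t ^ q • y ∈ S₀ := by
      intro y
      rw [← b'.sum_repr y, Finset.smul_sum]
      refine S₀.sum_mem fun i _ => ?_
      rw [smul_comm]
      exact S₀.smul_mem _ (hb1 i)
    have hb3 : ∀ x : Fin 3 → R, t ^ q • x ∈ S := by
      intro x
      rw [hmemS]
      have : ![(t ^ q • x) 1 - (t ^ q • x) 0, (t ^ q • x) 2 - (t ^ q • x) 0]
          = t ^ q • ![x 1 - x 0, x 2 - x 0] := by
        ext i
        fin_cases i <;> simp [mul_sub]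
      rw [this]
      exact hb2 _
    obtain ⟨x, hx⟩ := Submodule.Quotient.mk_surjective S
      (e.symm ((0 : R ⧸ Ideal.span {t ^ m}), Ideal.Quotient.mk (Ideal.span {t ^ n}) 1))
    have h3 : t ^ q • (Submodule.Quotient.mk x : (Fin 3 → R) ⧸ S) = 0 := by
      rw [← Submodule.Quotient.mk_smul, Submodule.Quotient.mk_eq_zero]
      exact hb3 x
    rw [hx] at h3
    have h4 := congrArg e h3
    rw [map_smul, LinearEquiv.apply_symm_apply, map_zero, Prod.smul_mk, Prod.mk_eq_zero] at h4
    have h5 := h4.2
    rw [← Ideal.Quotient.mk_eq_mk, ← Submodule.Quotient.mk_smul, Ideal.Quotient.mk_eq_mk,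
      Ideal.Quotient.eq_zero_iff_mem, Ideal.mem_span_singleton, smul_eq_mul, mul_one] at h5
    exact (pow_dvd_pow_iff ht.ne_zero ht.not_isUnit).mp h5
  -- choose the indices
  obtain ⟨i0, i1, hsum2, hp0, hp1⟩ : ∃ i0 i1 : Fin 2,
      (∀ g : Fin 2 → (Fin 2 → R), ∑ i, g i = g i0 + g i1) ∧ p i0 = m ∧ p i1 = n := by
    rcases le_max_iff.mp hF3 with h | h
    · refine ⟨1, 0, fun g => by rw [Fin.sum_univ_two, add_comm], ?_, ?_⟩
      · have := hF2 0; omega
      · have := hF2 0; omega
    · refine ⟨0, 1, fun g => Fin.sum_univ_two g, ?_, ?_⟩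
      · have := hF2 1; omega
      · have := hF2 1; omega
  have hu0 : (↑(u i0)⁻¹ : R) * ↑(u i0) = 1 := Units.inv_mul (u i0)
  have hf_mem : t ^ m • b' i0 ∈ S₀ := by
    have : t ^ m • b' i0 = (↑(u i0)⁻¹ : R) • (ab i0 : Fin 2 → R) := by
      rw [habi, smul_smul, hpu i0, hp0, ← mul_assoc, hu0, one_mul]
    rw [this]
    exact S₀.smul_mem _ (ab i0).2
  refine ⟨iota (b' i0), ?_, ?_⟩
  · -- not in span 1 + t M
    intro hf
    obtain ⟨y, hy, z, hz, hyz⟩ := Submodule.mem_sup.mp hf
    obtain ⟨c, rfl⟩ := Submodule.mem_span_singleton.mp hy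
    have hz' := mem_smul_top_dvd z hz
    have e0 : c + z 0 = 0 := by
      have := congrFun hyz 0
      simpa [iota] using this
    have hc : t ∣ c := by
      have : c = - z 0 := by linear_combination e0
      rw [this]
      exact (dvd_neg).mpr (hz' 0)
    have e1 : b' i0 0 = c + z 1 := by
      have := congrFun hyz 1
      simp [iota] at this
      exact this.symm
    have e2 : b' i0 1 = c + z 2 := by
      have := congrFun hyz 2
      simp [iota] at this
      exact this.symm
    have d1 : t ∣ b' i0 0 := e1 ▸ dvd_add hc (hz' 1)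
    have d2 : t ∣ b' i0 1 := e2 ▸ dvd_add hc (hz' 2)
    obtain ⟨w0, hw0⟩ := d1
    obtain ⟨w1, hw1⟩ := d2
    have hw : b' i0 = t • ![w0, w1] := by
      ext j
      fin_cases j
      · simpa using hw0
      · simpa using hw1
    have h3 := congrArg (fun y => b'.repr y i0) hw
    simp only [Basis.repr_self, Finsupp.single_eq_same, map_smul, Finsupp.smul_apply,
      smul_eq_mul] at h3
    exact ht.not_isUnit (IsUnit.of_mul_eq_one _ h3.symm)
  · apply le_antisymm
    · intro x hx
      have hy := (hmemS x).mp hx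
      obtain ⟨c, hc⟩ := (hmem _).mp hy
      rw [hsum2] at hc
      rw [decomp x, hc, map_add]
      have hA : x 0 • (1 : Fin 3 → R) + (iota (c i0 • a i0 • b' i0) + iota (c i1 • a i1 • b' i1))
          = (x 0 • (1 : Fin 3 → R) + (c i0 * ↑(u i0)) • (t ^ m • iota (b' i0)))
            + t ^ n • ((c i1 * ↑(u i1)) • iota (b' i1)) := by
        rw [hpu i0, hpu i1, hp0, hp1]
        simp only [map_smul, smul_smul]
        rw [add_assoc]
        congr 2
        · congr 1; ring
        · congr 1; ring
      rw [hA]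
      apply Submodule.add_mem_sup
      · apply Submodule.add_mem
        · exact Submodule.smul_mem _ _ (Submodule.subset_span (by simp))
        · exact Submodule.smul_mem _ _ (Submodule.subset_span (by simp))
      · exact Submodule.smul_mem_smul (Ideal.mem_span_singleton_self _) Submodule.mem_top
    · apply sup_le _ hL1
      rw [Submodule.span_le]
      intro x hx
      rcases hx with rfl | hx
      · exact h1
      · rw [Set.mem_singleton_iff] at hx
        rw [hx, ← map_smul]
        exact hf_mem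

end general


end helpers

/-- Over R = k⟦t⟧ with k an algebraically closed field of characteristic zero, let S' = R × R × R (the
unramified triple cover of the formal disk) and let S be an R-submodule of S' containing 1 such that
S' / S is isomorphic to R / (t ^ m) ⊕ R / (t ^ n) with m ≤ n. Then t ^ n S' is contained in S, and
there is f in S', not lying in R·1 + t S', such that S = R·1 + R·(t ^ m f) + t ^ n S'. -/
theorem result {k : Type u} [Field k] [IsAlgClosed k] [CharZero k] (m n : ℕ) (hmn : m ≤ n)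
    (S : Submodule (PowerSeries k) (Fin 3 → PowerSeries k))
    (h1 : (1 : (Fin 3 → PowerSeries k)) ∈ S)
    (e : ((Fin 3 → PowerSeries k) ⧸ S) ≃ₗ[PowerSeries k]
      ((PowerSeries k ⧸ Ideal.span {(PowerSeries.X : PowerSeries k) ^ m}) × (PowerSeries k ⧸ Ideal.span {(PowerSeries.X : PowerSeries k) ^ n}))) :
    Ideal.span {(PowerSeries.X : PowerSeries k) ^ n} • (⊤ : Submodule (PowerSeries k) (Fin 3 → PowerSeries k)) ≤ S ∧
    ∃ f : (Fin 3 → PowerSeries k),
      f ∉ Submodule.span (PowerSeries k) {(1 : (Fin 3 → PowerSeries k))} ⊔ Ideal.span {(PowerSeries.X : PowerSeries k)} • (⊤ : Submodule (PowerSeries k) (Fin 3 → PowerSeries k)) ∧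
      S = Submodule.span (PowerSeries k) {(1 : (Fin 3 → PowerSeries k)), ((PowerSeries.X : PowerSeries k) ^ m) • f} ⊔
        Ideal.span {(PowerSeries.X : PowerSeries k) ^ n} • (⊤ : Submodule (PowerSeries k) (Fin 3 → PowerSeries k)) := by
  exact main (PowerSeries.X_prime.irreducible) m n hmn S h1 e

end Groth.Agent.S13878
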