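import Groth.Statements.S13879
import Groth.Agent.Lib.Helper4.CrimpPi

set_option autoImplicit false
universe u
open Crimp

namespace Groth.Agent.S13879

open Groth.Agent.Lib.helper4 in
/-- Over R = k⟦t⟧ with k an algebraically closed field of characteristic zero, let S' = R × R × R and
let S be the R-submodule R·1 + R·(t ^ m f) + t ^ n S' of S' for some f in S' and natural numbers m,
n. Then S is closed under multiplication (equivalently, is an R-subalgebra of S') if and only if t ^
(2m) f ^ 2 lies in S. (The published statement has m ≤ n and S' / S isomorphic to R / (t ^ m) ⊕ R /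
(t ^ n), under which S has this shape; this row states the criterion for every submodule of this
shape.) -/
theorem result {k : Type u} [Field k] [IsAlgClosed k] [CharZero k] (m n : ℕ) (f : (Fin 3 → PowerSeries k))
    (S : Submodule (PowerSeries k) (Fin 3 → PowerSeries k))
    (hS : S = Submodule.span (PowerSeries k) {(1 : (Fin 3 → PowerSeries k)), ((PowerSeries.X : PowerSeries k) ^ m) • f} ⊔
        Ideal.span {(PowerSeries.X : PowerSeries k) ^ n} • (⊤ : Submodule (PowerSeries k) (Fin 3 → PowerSeries k))) :
    (∀ x ∈ S, ∀ y ∈ S, x * y ∈ S) ↔ ((PowerSeries.X : PowerSeries k) ^ (2 * m)) • (f * f) ∈ S := by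
  subst hS
  have hsq : ((PowerSeries.X : PowerSeries k) ^ m) • f * (((PowerSeries.X : PowerSeries k) ^ m) • f) =
      ((PowerSeries.X : PowerSeries k) ^ (2 * m)) • (f * f) := by
    rw [smul_mul_smul_comm, ← pow_add, two_mul]
  constructor
  · intro h
    have hu : ((PowerSeries.X : PowerSeries k) ^ m) • f ∈
        Submodule.span (PowerSeries k) {(1 : (Fin 3 → PowerSeries k)), ((PowerSeries.X : PowerSeries k) ^ m) • f} ⊔
        Ideal.span {(PowerSeries.X : PowerSeries k) ^ n} • (⊤ : Submodule (PowerSeries k) (Fin 3 → PowerSeries k)) :=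
      Submodule.mem_sup_left (Submodule.subset_span (by simp))
    rw [← hsq]
    exact h _ hu _ hu
  · intro h x hx y hy
    rw [← hsq] at h
    exact mul_mem_of_sq_mem _ _ h hx hy

end Groth.Agent.S13879
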