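import Groth.Statements.S13880
import Mathlib
import Groth.Agent.Lib.Helper6.Crimp

set_option autoImplicit false
universe u
open Crimp

namespace Groth.Agent.S13880


open Module in
theorem main {k : Type u} [Field k] [CharZero k] (b : ℕ)
    (S : Subalgebra (PowerSeries k) (Fin 2 → PowerSeries k)) :
    ((∃ bS : Module.Basis (Fin 2) (PowerSeries k) S,
      Ideal.span {Algebra.discr (PowerSeries k) ⇑bS} = Ideal.span {(PowerSeries.X : PowerSeries k) ^ b}) ↔
    ∃ n : ℕ, b = 2 * n ∧
      Subalgebra.toSubmodule S = Submodule.span (PowerSeries k) {(1 : (Fin 2 → PowerSeries k))} ⊔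
        Ideal.span {(PowerSeries.X : PowerSeries k) ^ n} • (⊤ : Submodule (PowerSeries k) (Fin 2 → PowerSeries k))) ∧
    (∀ n : ℕ, Subalgebra.toSubmodule S = Submodule.span (PowerSeries k) {(1 : (Fin 2 → PowerSeries k))} ⊔
        Ideal.span {(PowerSeries.X : PowerSeries k) ^ n} • (⊤ : Submodule (PowerSeries k) (Fin 2 → PowerSeries k)) →
      Nonempty (S ≃ₐ[PowerSeries k] AdjoinRoot (Polynomial.X ^ 2 - Polynomial.C ((PowerSeries.X : PowerSeries k) ^ (2 * n))))) := by
  classical
  have h2 : IsUnit (2 : PowerSeries k) := by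
    rw [PowerSeries.isUnit_iff_constantCoeff]
    have h : PowerSeries.constantCoeff (2 : PowerSeries k) = 2 := map_ofNat _ 2
    rw [h]
    exact isUnit_iff_ne_zero.mpr two_ne_zero
  obtain ⟨h, hh⟩ := h2.exists_right_inv
  let e : (Fin 2 → PowerSeries k) ≃ₗ[PowerSeries k] (Fin 2 → PowerSeries k) :=
    { toFun := fun s => ![h * (s 0 + s 1), h * (s 0 - s 1)]
      invFun := fun z => ![z 0 + z 1, z 0 - z 1]
      map_add' := by
        intro x y; funext i; fin_cases i <;> simp <;> ring
      map_smul' := by
        intro a x; funext i; fin_cases i <;> simp <;> ring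
      left_inv := by
        intro s; funext i; fin_cases i
        · simp only [Fin.zero_eta, Fin.isValue, Matrix.cons_val_zero, Matrix.cons_val_one]
          linear_combination (s 0) * hh
        · simp only [Fin.mk_one, Fin.isValue, Matrix.cons_val_zero, Matrix.cons_val_one]
          linear_combination (s 1) * hh
      right_inv := by
        intro z; funext i; fin_cases i
        · simp only [Fin.zero_eta, Fin.isValue, Matrix.cons_val_zero, Matrix.cons_val_one]
          linear_combination (z 0) * hh
        · simp only [Fin.mk_one, Fin.isValue, Matrix.cons_val_zero, Matrix.cons_val_one]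
          linear_combination (z 1) * hh }
  obtain ⟨β, hβ⟩ : ∃ β : Basis (Fin 2) (PowerSeries k) (Fin 2 → PowerSeries k),
      ∀ i, β i = ![(Pi.single i 1 : Fin 2 → PowerSeries k) 0 + (Pi.single i 1 : Fin 2 → PowerSeries k) 1,
        (Pi.single i 1 : Fin 2 → PowerSeries k) 0 - (Pi.single i 1 : Fin 2 → PowerSeries k) 1] := by
    refine ⟨Basis.ofEquivFun e, fun i => ?_⟩
    rw [Basis.coe_ofEquivFun]
    rfl
  have hβ0 : β 0 = 1 := by
    rw [hβ]; funext i; fin_cases i <;> simp
  have hβ1 : β 1 = ![1, -1] := by
    rw [hβ]; funext i; fin_cases i <;> simp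
  have hy : β 1 * β 1 = algebraMap (PowerSeries k) (Fin 2 → PowerSeries k) 1 := by
    rw [hβ1, map_one]; funext i; fin_cases i <;> simp
  have key := Groth.Agent.Lib.helper6.Crimp.crimp_general (PowerSeries.X : PowerSeries k)
    PowerSeries.X_prime.irreducible h2 β hβ0 1 hy 0 (by rw [pow_zero]) b S
  refine ⟨?_, ?_⟩
  · simpa using key.1
  · intro n hS
    exact key.2 n _ (one_mul _).symm hS


/-- Over R = k⟦t⟧ with k an algebraically closed field of characteristic zero, let S' = R × R, the
trivial double cover of the formal disk (branch divisor (t ^ 0)). An R-subalgebra S of S' admits an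
R-basis of size 2 whose discriminant generates (t ^ b), that is, S is a crimp with branch divisor (t
^ b), if and only if b = 2n for some n and S = R·1 + t ^ n S'. So there is exactly one such crimp
when b is even and none when b is odd; moreover the subalgebra R·1 + t ^ n S' is isomorphic as an
R-algebra to R[y] / (y ^ 2 - t ^ (2n)) (existence of an isomorphism; y ↦ (t ^ n, -t ^ n)). (The
published statement also gives the space of crimps its reduced one-point scheme structure; this row
classifies its k-points.) -/
theorem result {k : Type u} [Field k] [IsAlgClosed k] [CharZero k] (b : ℕ) (S : Subalgebra (PowerSeries k) (Fin 2 → PowerSeries k)) :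
    ((∃ bS : Module.Basis (Fin 2) (PowerSeries k) S,
      Ideal.span {Algebra.discr (PowerSeries k) ⇑bS} = Ideal.span {(PowerSeries.X : PowerSeries k) ^ b}) ↔
    ∃ n : ℕ, b = 2 * n ∧
      Subalgebra.toSubmodule S = Submodule.span (PowerSeries k) {(1 : (Fin 2 → PowerSeries k))} ⊔
        Ideal.span {(PowerSeries.X : PowerSeries k) ^ n} • (⊤ : Submodule (PowerSeries k) (Fin 2 → PowerSeries k))) ∧
    (∀ n : ℕ, Subalgebra.toSubmodule S = Submodule.span (PowerSeries k) {(1 : (Fin 2 → PowerSeries k))} ⊔
        Ideal.span {(PowerSeries.X : PowerSeries k) ^ n} • (⊤ : Submodule (PowerSeries k) (Fin 2 → PowerSeries k)) →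
      Nonempty (S ≃ₐ[PowerSeries k] AdjoinRoot (Polynomial.X ^ 2 - Polynomial.C ((PowerSeries.X : PowerSeries k) ^ (2 * n))))) := by
  exact main b S


end Groth.Agent.S13880
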