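import Groth.Statements.S13882
import Mathlib

set_option autoImplicit false
universe u
open FinCov

namespace Groth.Agent.S13882


open W4c1hurwitzcpt MvPolynomial

noncomputable section Rep

variable (K : Type u) [Field K] (d : ℕ)

abbrev Idx (d : ℕ) : Type := (Fin d × Fin d × Fin d) ⊕ Fin d

def cc (i j k : Fin d) : MvPolynomial (Idx d) K := X (Sum.inl (i, j, k))
def uu (i : Fin d) : MvPolynomial (Idx d) K := X (Sum.inr i)

def relC (q : Fin d × Fin d × Fin d) : MvPolynomial (Idx d) K :=
  cc K d q.1 q.2.1 q.2.2 - cc K d q.2.1 q.1 q.2.2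

def relA (q : Fin d × Fin d × Fin d × Fin d) : MvPolynomial (Idx d) K :=
  (∑ k, cc K d q.1 q.2.1 k * cc K d k q.2.2.1 q.2.2.2)
    - ∑ k, cc K d q.2.1 q.2.2.1 k * cc K d q.1 k q.2.2.2

def relU (q : Fin d × Fin d) : MvPolynomial (Idx d) K :=
  (∑ i, uu K d i * cc K d i q.1 q.2) - if q.1 = q.2 then 1 else 0

def II : Ideal (MvPolynomial (Idx d) K) :=
  Ideal.span (Set.range (relC K d) ∪ Set.range (relA K d) ∪ Set.range (relU K d))

abbrev BB : Type u := MvPolynomial (Idx d) K ⧸ II K d

theorem mk_relC (i j k : Fin d) :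
    (Ideal.Quotient.mk (II K d) (cc K d i j k) : BB K d) = Ideal.Quotient.mk (II K d) (cc K d j i k) := by
  have h : relC K d (i, j, k) ∈ II K d :=
    Ideal.subset_span (Or.inl (Or.inl ⟨(i, j, k), rfl⟩))
  have h2 := Ideal.Quotient.eq_zero_iff_mem.2 h
  rw [relC, map_sub, sub_eq_zero] at h2
  exact h2

theorem mk_relA (i j l m : Fin d) :
    (∑ k, (Ideal.Quotient.mk (II K d) (cc K d i j k) : BB K d)
        * Ideal.Quotient.mk (II K d) (cc K d k l m))
      = ∑ k, (Ideal.Quotient.mk (II K d) (cc K d j l k) : BB K d)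
        * Ideal.Quotient.mk (II K d) (cc K d i k m) := by
  have h : relA K d (i, j, l, m) ∈ II K d :=
    Ideal.subset_span (Or.inl (Or.inr ⟨(i, j, l, m), rfl⟩))
  have h2 := Ideal.Quotient.eq_zero_iff_mem.2 h
  rw [relA, map_sub, sub_eq_zero, map_sum, map_sum] at h2
  simp only [map_mul] at h2
  exact h2

theorem mk_relU (j m : Fin d) :
    (∑ i, (Ideal.Quotient.mk (II K d) (uu K d i) : BB K d)
        * Ideal.Quotient.mk (II K d) (cc K d i j m))
      = if j = m then 1 else 0 := by
  have h : relU K d (j, m) ∈ II K d :=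
    Ideal.subset_span (Or.inr ⟨(j, m), rfl⟩)
  have h2 := Ideal.Quotient.eq_zero_iff_mem.2 h
  rw [relU, map_sub, sub_eq_zero, map_sum] at h2
  simp only [map_mul] at h2
  rw [h2]
  split_ifs <;> simp

variable {K d} {A : Type u} [CommRing A] [Algebra K A]

def toBased (g : BB K d →ₐ[K] A) : BasedAlg d A where
  c i j k := g (Ideal.Quotient.mk (II K d) (cc K d i j k))
  u i := g (Ideal.Quotient.mk (II K d) (uu K d i))
  comm i j k := by rw [mk_relC]
  assoc i j l m := by
    have h := congrArg g (mk_relA K d i j l m)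
    simpa only [map_sum, map_mul] using h
  unit j m := by
    have h := congrArg g (mk_relU K d j m)
    simp only [map_sum, map_mul] at h
    rw [h]
    split_ifs <;> simp

def ev (s : BasedAlg d A) : MvPolynomial (Idx d) K →ₐ[K] A :=
  aeval (Sum.elim (fun q : Fin d × Fin d × Fin d => s.c q.1 q.2.1 q.2.2) s.u)

theorem ev_cc (s : BasedAlg d A) (i j k : Fin d) : ev (K := K) s (cc K d i j k) = s.c i j k := by
  simp [ev, cc]

theorem ev_uu (s : BasedAlg d A) (i : Fin d) : ev (K := K) s (uu K d i) = s.u i := by
  simp [ev, uu]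

theorem ev_kills (s : BasedAlg d A) : ∀ a : MvPolynomial (Idx d) K, a ∈ II K d → ev s a = 0 := by
  have hle : II K d ≤ RingHom.ker (ev (K := K) s : MvPolynomial (Idx d) K →+* A) := by
    rw [II, Ideal.span_le]
    rintro a ((⟨q, rfl⟩ | ⟨q, rfl⟩) | ⟨q, rfl⟩)
    · show ev s (relC K d q) = 0
      rw [relC, map_sub, ev_cc, ev_cc, s.comm, sub_self]
    · show ev s (relA K d q) = 0
      rw [relA, map_sub, map_sum, map_sum]
      simp only [map_mul, ev_cc]
      rw [s.assoc, sub_self]
    · show ev s (relU K d q) = 0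
      rw [relU, map_sub, map_sum]
      simp only [map_mul, ev_cc, ev_uu]
      rw [s.unit]
      split_ifs <;> simp
  intro a ha
  exact hle ha

def ofBased (s : BasedAlg d A) : BB K d →ₐ[K] A :=
  Ideal.Quotient.liftₐ (II K d) (ev s) (ev_kills s)

theorem ofBased_mk (s : BasedAlg d A) (a : MvPolynomial (Idx d) K) :
    ofBased s (Ideal.Quotient.mk (II K d) a) = ev s a := rfl

def eta : (BB K d →ₐ[K] A) ≃ BasedAlg d A where
  toFun := toBased
  invFun := ofBased
  left_inv g := by
    apply Ideal.Quotient.algHom_ext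
    apply MvPolynomial.algHom_ext
    intro x
    show ofBased (toBased g) (Ideal.Quotient.mk (II K d) (X x)) = g (Ideal.Quotient.mk (II K d) (X x))
    rw [ofBased_mk]
    rcases x with ⟨i, j, k⟩ | i
    · exact ev_cc (toBased g) i j k
    · exact ev_uu (toBased g) i
  right_inv s := by
    apply BasedAlg.ext
    · funext i j k
      show ofBased s (Ideal.Quotient.mk (II K d) (cc K d i j k)) = s.c i j k
      rw [ofBased_mk, ev_cc]
    · funext i
      show ofBased s (Ideal.Quotient.mk (II K d) (uu K d i)) = s.u i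
      rw [ofBased_mk, ev_uu]

end Rep

theorem main (K : Type u) [Field K] [CharZero K] (d : ℕ) :
    ∃ (B : Type u) (_ : CommRing B) (_ : Algebra K B) (_ : Algebra.FiniteType K B)
      (η : ∀ (A : Type u) [CommRing A] [Algebra K A], (B →ₐ[K] A) ≃ W4c1hurwitzcpt.BasedAlg d A),
      ∀ (A A' : Type u) [CommRing A] [Algebra K A] [CommRing A'] [Algebra K A']
        (f : A →ₐ[K] A') (g : B →ₐ[K] A),
        η A' (f.comp g) = (η A g).map f.toRingHom := by
  refine ⟨BB K d, inferInstance, inferInstance,
    Algebra.FiniteType.of_surjective (Ideal.Quotient.mkₐ K (II K d))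
      (Ideal.Quotient.mkₐ_surjective K (II K d)),
    fun A _ _ => eta, ?_⟩
  intro A A' _ _ _ _ f g
  apply W4c1hurwitzcpt.BasedAlg.ext
  · funext i j k
    rfl
  · funext i
    rfl


/-- Over a field K of characteristic zero, the functor that sends a K-scheme S to the set of isomorphism
classes of pairs (A, τ) of an O_S-algebra A and an O_S-module isomorphism τ from A to the free
module of rank d, equivalently to the set of commutative unital algebra structures on the rank-d
free module with its standard basis, is represented by an affine K-scheme of finite type. Stated on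
affine K-schemes in one universe: there is a finitely generated commutative K-algebra B with
bijections between K-algebra maps B → A and based algebra structures of rank d over A, natural in
the commutative K-algebra A. -/
theorem result (K : Type u) [Field K] [CharZero K] (d : ℕ) :
    ∃ (B : Type u) (_ : CommRing B) (_ : Algebra K B) (_ : Algebra.FiniteType K B)
      (η : ∀ (A : Type u) [CommRing A] [Algebra K A], (B →ₐ[K] A) ≃ W4c1hurwitzcpt.BasedAlg d A),
      ∀ (A A' : Type u) [CommRing A] [Algebra K A] [CommRing A'] [Algebra K A']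
        (f : A →ₐ[K] A') (g : B →ₐ[K] A),
        η A' (f.comp g) = (η A g).map f.toRingHom := by
  exact main K d


end Groth.Agent.S13882
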