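import Groth.Statements.S13885
import Mathlib
import Groth.Agent.Lib.Helper6.RootLat

set_option autoImplicit false
universe u
open Crimp

namespace Groth.Agent.S13885


open W4c1hurwitzcpt in
theorem main {k : Type u} [Field k] [IsAlgClosed k] [CharZero k]
    (M : Submodule (PowerSeries k) (W4c1hurwitzcpt.RootDisk 2 k × PowerSeries k))
    (h1 : (1 : (W4c1hurwitzcpt.RootDisk 2 k × PowerSeries k)) ∈ M)
    (bM : Module.Basis (Fin 3) (PowerSeries k) M) :
    ∃ f₁ f₂ : W4c1hurwitzcpt.RootDisk 2 k,
      ¬ Nat.ModEq 2 (PowerSeries.order (W4c1hurwitzcpt.RootDisk.val (f₁ : W4c1hurwitzcpt.RootDisk 2 k))).toNat (PowerSeries.order (W4c1hurwitzcpt.RootDisk.val (f₂ : W4c1hurwitzcpt.RootDisk 2 k))).toNat ∧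
      M = Submodule.span (PowerSeries k) {(1 : (W4c1hurwitzcpt.RootDisk 2 k × PowerSeries k)), (f₁, 0), (f₂, 0)} := by
  have hM : Module.finrank (PowerSeries k) M = 3 := by
    rw [Module.finrank_eq_card_basis bM, Fintype.card_fin]
  have : Module.Finite (PowerSeries k) M := Module.Finite.of_basis bM
  let M' : Submodule (PowerSeries k) (RootDisk 2 k) :=
    M.comap (LinearMap.inl (PowerSeries k) (RootDisk 2 k) (PowerSeries k))
  let π : M →ₗ[PowerSeries k] PowerSeries k :=
    (LinearMap.snd (PowerSeries k) (RootDisk 2 k) (PowerSeries k)).comp M.subtype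
  have hπsurj : Function.Surjective π := by
    intro r
    refine ⟨⟨r • (1 : RootDisk 2 k × PowerSeries k), M.smul_mem r h1⟩, ?_⟩
    show (r • (1 : RootDisk 2 k × PowerSeries k)).2 = r
    rw [Prod.smul_snd, Prod.snd_one, smul_eq_mul, mul_one]
  have hker : Module.finrank (PowerSeries k) (LinearMap.ker π) = 2 := by
    have h := Submodule.finrank_quotient_add_finrank (LinearMap.ker π)
    rw [(LinearMap.quotKerEquivOfSurjective π hπsurj).finrank_eq, Module.finrank_self, hM] at h
    omega
  let e : M' ≃ₗ[PowerSeries k] LinearMap.ker π :=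
    { toFun := fun f => ⟨⟨((f : RootDisk 2 k), 0), f.2⟩, rfl⟩
      map_add' := fun a b => Subtype.ext (Subtype.ext (Prod.ext rfl (add_zero 0).symm))
      map_smul' := fun r a => Subtype.ext (Subtype.ext (Prod.ext rfl (smul_zero r).symm))
      invFun := fun y => ⟨((y : M) : RootDisk 2 k × PowerSeries k).1, by
          have h : ((y : M) : RootDisk 2 k × PowerSeries k).2 = 0 := y.2
          show LinearMap.inl (PowerSeries k) (RootDisk 2 k) (PowerSeries k)
            ((y : M) : RootDisk 2 k × PowerSeries k).1 ∈ M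
          have h2 : LinearMap.inl (PowerSeries k) (RootDisk 2 k) (PowerSeries k)
              ((y : M) : RootDisk 2 k × PowerSeries k).1 = ((y : M) : RootDisk 2 k × PowerSeries k) :=
            Prod.ext rfl h.symm
          rw [h2]; exact (y : M).2⟩
      left_inv := fun f => rfl
      right_inv := fun y => by
        have h : ((y : M) : RootDisk 2 k × PowerSeries k).2 = 0 := y.2
        exact Subtype.ext (Subtype.ext (Prod.ext rfl h.symm)) }
  have hM' : Module.finrank (PowerSeries k) M' = 2 := by
    rw [e.finrank_eq, hker]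
  obtain ⟨g, hg⟩ := Groth.Agent.Lib.helper6.RootLat.exists_basis M' hM'
  refine ⟨(g 0 : M'), (g 1 : M'), hg 0 1 (by decide), ?_⟩
  have hg0 : (((g 0 : M') : RootDisk 2 k), (0 : PowerSeries k)) ∈ M := (g 0).2
  have hg1 : (((g 1 : M') : RootDisk 2 k), (0 : PowerSeries k)) ∈ M := (g 1).2
  apply le_antisymm
  · intro y hy
    have hy' : ((y.1 - y.2 • (1 : RootDisk 2 k)), (0 : PowerSeries k)) ∈ M := by
      have h3 : ((y.1 - y.2 • (1 : RootDisk 2 k)), (0 : PowerSeries k))
          = y - y.2 • (1 : RootDisk 2 k × PowerSeries k) := by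
        refine Prod.ext ?_ ?_
        · simp
        · simp
      rw [h3]
      exact M.sub_mem hy (M.smul_mem _ h1)
    have hrepr := g.sum_repr ⟨y.1 - y.2 • (1 : RootDisk 2 k), hy'⟩
    rw [Fin.sum_univ_two] at hrepr
    have hrepr' := congrArg (fun z : M' => (z : RootDisk 2 k)) hrepr
    simp only [Submodule.coe_add, Submodule.coe_smul] at hrepr'
    have h4 : y = y.2 • (1 : RootDisk 2 k × PowerSeries k)
        + (g.repr ⟨y.1 - y.2 • (1 : RootDisk 2 k), hy'⟩ 0) • (((g 0 : M') : RootDisk 2 k), (0 : PowerSeries k))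
        + (g.repr ⟨y.1 - y.2 • (1 : RootDisk 2 k), hy'⟩ 1) • (((g 1 : M') : RootDisk 2 k), (0 : PowerSeries k)) := by
      refine Prod.ext ?_ ?_
      · simp only [Prod.fst_add, Prod.smul_fst, Prod.fst_one]
        rw [add_assoc, hrepr']
        abel
      · simp
    rw [h4]
    refine Submodule.add_mem _ (Submodule.add_mem _ ?_ ?_) ?_
    · exact Submodule.smul_mem _ _ (Submodule.subset_span (by simp))
    · exact Submodule.smul_mem _ _ (Submodule.subset_span (by simp))
    · exact Submodule.smul_mem _ _ (Submodule.subset_span (by simp))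
  · rw [Submodule.span_le]
    intro y hy
    rcases hy with rfl | rfl | rfl
    · exact h1
    · exact hg0
    · exact hg1


/-- Over R = k⟦t⟧ with k an algebraically closed field of characteristic zero, let S' = k⟦x⟧ × R, where
k⟦x⟧ is regarded as an R-algebra through t ↦ x ^ 2, that is S' = R[x] / (x ^ 2 - t) ⊕ R, the smooth
simply ramified triple cover of the formal disk, with R embedded diagonally. If M is an R-submodule
of S' containing 1 which is free of rank 3, then M is spanned by 1, (f₁, 0) and (f₂, 0) for some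
power series f₁, f₂ whose x-adic valuations are distinct modulo 2. (Items (2) and (3) of the
published proposition, on the base change of M to R[s] / (s ^ 2 - t), are not restated.) -/
theorem result {k : Type u} [Field k] [IsAlgClosed k] [CharZero k]
    (M : Submodule (PowerSeries k) (W4c1hurwitzcpt.RootDisk 2 k × PowerSeries k))
    (h1 : (1 : (W4c1hurwitzcpt.RootDisk 2 k × PowerSeries k)) ∈ M)
    (bM : Module.Basis (Fin 3) (PowerSeries k) M) :
    ∃ f₁ f₂ : W4c1hurwitzcpt.RootDisk 2 k,
      ¬ Nat.ModEq 2 (PowerSeries.order (W4c1hurwitzcpt.RootDisk.val (f₁ : W4c1hurwitzcpt.RootDisk 2 k))).toNat (PowerSeries.order (W4c1hurwitzcpt.RootDisk.val (f₂ : W4c1hurwitzcpt.RootDisk 2 k))).toNat ∧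
      M = Submodule.span (PowerSeries k) {(1 : (W4c1hurwitzcpt.RootDisk 2 k × PowerSeries k)), (f₁, 0), (f₂, 0)} := by
  exact main M h1 bM


end Groth.Agent.S13885
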