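import Groth.Statements.S13886
import Groth.Agent.Lib.Helper4.CrimpPi
import Mathlib

set_option autoImplicit false
universe u
open Crimp

namespace Groth.Agent.S13886

open Groth.Agent.Lib.helper4

variable {k : Type u} [Field k]

local notation "R" => PowerSeries k
local notation "t" => (PowerSeries.X : PowerSeries k)

/-- If all differences of coordinates of `f` are non-units, `f ∈ R·1 + t R³`. -/
theorem exists_isUnit_sub (f : Fin 3 → R)
    (hf : f ∉ Submodule.span R {(1 : Fin 3 → R)} ⊔ Ideal.span {t} • (⊤ : Submodule R (Fin 3 → R))) :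
    ∃ i j : Fin 3, IsUnit (f i - f j) := by
  by_contra hcon
  push Not at hcon
  apply hf
  have hdvd : ∀ i j : Fin 3, t ∣ f i - f j := by
    intro i j
    have := hcon i j
    rw [PowerSeries.isUnit_iff_constantCoeff, isUnit_iff_ne_zero, not_not] at this
    exact PowerSeries.X_dvd_iff.mpr this
  choose w hw using fun i => hdvd i 0
  rw [Submodule.ideal_span_singleton_smul, Submodule.mem_sup]
  refine ⟨f 0 • 1, Submodule.mem_span_singleton.mpr ⟨f 0, rfl⟩, t • w,
    (Submodule.mem_smul_pointwise_iff_exists _ _ _).mpr ⟨w, Submodule.mem_top, rfl⟩, ?_⟩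
  funext i
  simp only [Pi.add_apply, Pi.smul_apply, Pi.one_apply, smul_eq_mul, mul_one]
  rw [← hw i]; ring

section general

variable {A : Type u} [CommRing A]

theorem fin3_third (i j : Fin 3) (hij : i ≠ j) :
    ∃ l : Fin 3, l ≠ i ∧ l ≠ j ∧ ∀ x : Fin 3, x = i ∨ x = j ∨ x = l := by
  revert i j; decide

theorem quot_equiv (s : A) (m n : ℕ) (hmn : m ≤ n) (f : Fin 3 → A) (i j l : Fin 3)
    (hij : i ≠ j) (hli : l ≠ i) (hlj : l ≠ j)
    (hcover : ∀ x : Fin 3, x = i ∨ x = j ∨ x = l) (δ : A) (hδ : δ * (f i - f j) = 1) :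
    Nonempty (((Fin 3 → A) ⧸ (Submodule.span A {(1 : Fin 3 → A), (s ^ m) • f} ⊔
        Ideal.span {s ^ n} • (⊤ : Submodule A (Fin 3 → A)))) ≃ₗ[A]
      ((A ⧸ Ideal.span {s ^ m}) × (A ⧸ Ideal.span {s ^ n}))) := by
  classical
  set S := Submodule.span A {(1 : Fin 3 → A), (s ^ m) • f} ⊔
        Ideal.span {s ^ n} • (⊤ : Submodule A (Fin 3 → A)) with hS
  let bL : (Fin 3 → A) →ₗ[A] A := δ • ((LinearMap.proj i : (Fin 3 → A) →ₗ[A] A) - (LinearMap.proj j : (Fin 3 → A) →ₗ[A] A))
  let aL : (Fin 3 → A) →ₗ[A] A := (LinearMap.proj i : (Fin 3 → A) →ₗ[A] A) - (f i) • bL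
  let cL : (Fin 3 → A) →ₗ[A] A := (LinearMap.proj l : (Fin 3 → A) →ₗ[A] A) - aL - (f l) • bL
  have hb : ∀ v, bL v = δ * (v i - v j) := fun v => rfl
  have ha : ∀ v, aL v = v i - f i * bL v := fun v => rfl
  have hc : ∀ v, cL v = v l - aL v - f l * bL v := fun v => rfl
  let el : Fin 3 → A := Pi.single l 1
  have hdecomp : ∀ v : Fin 3 → A, v = aL v • (1 : Fin 3 → A) + bL v • f + cL v • el := by
    intro v
    funext x
    simp only [Pi.add_apply, Pi.smul_apply, Pi.one_apply, smul_eq_mul, mul_one, el]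
    rcases hcover x with rfl | rfl | rfl
    · rw [Pi.single_eq_of_ne hli.symm, ha]; ring
    · rw [Pi.single_eq_of_ne hlj.symm, ha, hb]
      have : δ * (v i - v x) * (f i - f x) = v i - v x := by
        rw [mul_right_comm, hδ, one_mul]
      linear_combination this
    · rw [Pi.single_eq_same, hc]; ring
  let φ : (Fin 3 → A) →ₗ[A] ((A ⧸ Ideal.span {s ^ m}) × (A ⧸ Ideal.span {s ^ n})) :=
    ((Ideal.span {s ^ m}).mkQ ∘ₗ bL).prod ((Ideal.span {s ^ n}).mkQ ∘ₗ cL)
  have hφ : ∀ v, φ v = (Submodule.Quotient.mk (bL v), Submodule.Quotient.mk (cL v)) := fun v => rfl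
  have hker : LinearMap.ker φ = S := by
    apply le_antisymm
    · intro v hv
      rw [LinearMap.mem_ker, hφ, Prod.mk_eq_zero, Submodule.Quotient.mk_eq_zero,
        Submodule.Quotient.mk_eq_zero, Ideal.mem_span_singleton, Ideal.mem_span_singleton] at hv
      obtain ⟨⟨β, hβ⟩, ⟨γ, hγ⟩⟩ := hv
      rw [hS, mem_span_pair_sup_smul_top_iff]
      refine ⟨aL v, β, γ • el, ?_⟩
      conv_lhs => rw [hdecomp v]
      rw [hβ, hγ, smul_smul, smul_smul, mul_comm β]
    · rw [hS, sup_le_iff, Submodule.span_le]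
      refine ⟨?_, ?_⟩
      · rintro x (rfl | rfl)
        · rw [SetLike.mem_coe, LinearMap.mem_ker, hφ]
          have h1 : bL 1 = 0 := by rw [hb]; simp
          have h2 : cL 1 = 0 := by rw [hc, ha, h1]; simp
          rw [h1, h2]; rfl
        · rw [SetLike.mem_coe, LinearMap.mem_ker, hφ, Prod.mk_eq_zero, Submodule.Quotient.mk_eq_zero,
            Submodule.Quotient.mk_eq_zero, Ideal.mem_span_singleton, Ideal.mem_span_singleton]
          have h1 : bL (s ^ m • f) = s ^ m := by
            rw [map_smul, hb, hδ, smul_eq_mul, mul_one]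
          have h2 : cL (s ^ m • f) = 0 := by
            rw [hc, ha, h1]; simp only [Pi.smul_apply, smul_eq_mul]; ring
          rw [h1, h2]
          exact ⟨dvd_refl _, dvd_zero _⟩
      · rw [Submodule.ideal_span_singleton_smul]
        rintro x hx
        obtain ⟨w, -, rfl⟩ := (Submodule.mem_smul_pointwise_iff_exists _ _ _).mp hx
        rw [LinearMap.mem_ker, hφ, Prod.mk_eq_zero, Submodule.Quotient.mk_eq_zero,
            Submodule.Quotient.mk_eq_zero, Ideal.mem_span_singleton, Ideal.mem_span_singleton,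
            map_smul, map_smul, smul_eq_mul, smul_eq_mul]
        exact ⟨Dvd.dvd.mul_right (pow_dvd_pow s hmn) _, Dvd.intro _ rfl⟩
  have hsurj : Function.Surjective φ := by
    rintro ⟨β', γ'⟩
    obtain ⟨β, rfl⟩ := Submodule.Quotient.mk_surjective _ β'
    obtain ⟨γ, rfl⟩ := Submodule.Quotient.mk_surjective _ γ'
    refine ⟨β • f + γ • el, ?_⟩
    have h1 : bL (β • f + γ • el) = β := by
      rw [hb]
      simp only [Pi.add_apply, Pi.smul_apply, smul_eq_mul, el, Pi.single_eq_of_ne hli.symm,
        Pi.single_eq_of_ne hlj.symm]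
      linear_combination β * hδ
    have h2 : cL (β • f + γ • el) = γ := by
      rw [hc, ha, h1]
      simp only [Pi.add_apply, Pi.smul_apply, smul_eq_mul, el, Pi.single_eq_of_ne hli.symm,
        Pi.single_eq_same]
      ring
    rw [hφ, h1, h2]
  exact ⟨(Submodule.quotEquivOfEq _ _ hker.symm).trans (φ.quotKerEquivOfSurjective hsurj)⟩

end general

/-- Over R = k⟦t⟧ with k an algebraically closed field of characteristic zero, let S' = R × R × R be the
unramified triple cover of the formal disk and let m ≤ n ≤ 2m be natural numbers. For every f in S'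
not lying in R·1 + t S', the R-submodule S = R·1 + R·(t ^ m f) + t ^ n S' is closed under
multiplication, hence an R-subalgebra (a crimp), and S' / S is isomorphic to R / (t ^ m) ⊕ R / (t ^
n) (so the crimp has μ-invariant n - m and branch divisor (t ^ (2(m+n)))). Together with the
structure result for submodules with this quotient, this identifies the k-points of the space of
crimps of splitting type (m, n), 2m ≥ n, with the submodules of this shape. (The published statement
moreover asserts that this stratum is an irreducible variety of dimension n - m; that part is not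
restated.) -/
theorem result {k : Type u} [Field k] [IsAlgClosed k] [CharZero k]
    (m n : ℕ) (hmn : m ≤ n) (hn : n ≤ 2 * m)
    (f : (Fin 3 → PowerSeries k)) (hf : f ∉ Submodule.span (PowerSeries k) {(1 : (Fin 3 → PowerSeries k))} ⊔ Ideal.span {(PowerSeries.X : PowerSeries k)} • (⊤ : Submodule (PowerSeries k) (Fin 3 → PowerSeries k)))
    (S : Submodule (PowerSeries k) (Fin 3 → PowerSeries k))
    (hS : S = Submodule.span (PowerSeries k) {(1 : (Fin 3 → PowerSeries k)), ((PowerSeries.X : PowerSeries k) ^ m) • f} ⊔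
        Ideal.span {(PowerSeries.X : PowerSeries k) ^ n} • (⊤ : Submodule (PowerSeries k) (Fin 3 → PowerSeries k))) :
    (∀ x ∈ S, ∀ y ∈ S, x * y ∈ S) ∧
    Nonempty (((Fin 3 → PowerSeries k) ⧸ S) ≃ₗ[PowerSeries k]
      ((PowerSeries k ⧸ Ideal.span {(PowerSeries.X : PowerSeries k) ^ m}) × (PowerSeries k ⧸ Ideal.span {(PowerSeries.X : PowerSeries k) ^ n}))) := by
  subst hS
  refine ⟨?_, ?_⟩
  · intro x hx y hy
    refine mul_mem_of_sq_mem _ _ ?_ hx hy
    rw [mem_span_pair_sup_smul_top_iff]
    refine ⟨0, 0, ((PowerSeries.X : PowerSeries k) ^ (2 * m - n)) • (f * f), ?_⟩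
    rw [zero_smul, zero_smul, zero_add, zero_add, smul_smul, ← pow_add, Nat.add_sub_cancel' hn,
      smul_mul_smul_comm, ← pow_add, ← two_mul]
  · obtain ⟨i, j, hu⟩ := exists_isUnit_sub f hf
    have hij : i ≠ j := by
      rintro rfl
      rw [sub_self] at hu
      exact not_isUnit_zero hu
    obtain ⟨l, hli, hlj, hcover⟩ := fin3_third i j hij
    obtain ⟨δ, hδ⟩ := hu.exists_left_inv
    exact quot_equiv PowerSeries.X m n hmn f i j l hij hli hlj hcover δ hδ

end Groth.Agent.S13886
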