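import Groth.Statements.S13888

set_option autoImplicit false
universe u
open CategoryTheory CategoryTheory.Limits MonoidalCategory
attribute [local instance] HasDerivedCategory.standard
open DTen

namespace Groth.Agent.S13888

variable {A : Type u} [CommRing A] [DTen.HasLTen A] [DTen.HasLTen₃ A]
  [DTen.IsSymMonoidal A] [DTen.HasRHom A]

omit [DTen.HasRHom A] in
/-- Naturality of the associator in the first variable. -/
theorem associator_naturality_left {a a' : Dual.D A} (g : a ⟶ a') (b c : Dual.D A) :
    (LTen₂ A).map (Prod.mkHom ((LTen₂ A).map (Prod.mkHom g (𝟙 b))) (𝟙 c)) ≫ (DTen.associator a' b c).hom =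
      (DTen.associator a b c).hom ≫ (LTen₂ A).map (Prod.mkHom g (𝟙 ((LTen₂ A).obj (b, c)))) := by
  let G : (a, (b, c)) ⟶ (a', (b, c)) := Prod.mkHom g (Prod.mkHom (𝟙 b) (𝟙 c))
  have hL := (assocL A).naturality G
  have hR := (assocR A).naturality G
  have e1 : (LTenL A).map G = (LTen₂ A).map (Prod.mkHom ((LTen₂ A).map (Prod.mkHom g (𝟙 b))) (𝟙 c)) := rfl
  have e2 : (LTenR A).map G = (LTen₂ A).map (Prod.mkHom g (𝟙 ((LTen₂ A).obj (b, c)))) := by
    change (LTen₂ A).map (Prod.mkHom g ((LTen₂ A).map (Prod.mkHom (𝟙 b) (𝟙 c)))) = _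
    congr 2
    exact (LTen₂ A).map_id (b, c)
  rw [e1] at hL
  rw [e2] at hR
  have hiso : IsIso ((assocR A).app (a', (b, c))) := inferInstance
  have step1 : (LTen₂ A).map (Prod.mkHom ((LTen₂ A).map (Prod.mkHom g (𝟙 b))) (𝟙 c)) ≫
      (DTen.associator a' b c).hom ≫ (assocR A).app (a', (b, c)) =
      (assocL A).app (a, (b, c)) ≫ (LTen₃ A).map G :=
    (congrArg (fun t => (LTen₂ A).map (Prod.mkHom ((LTen₂ A).map (Prod.mkHom g (𝟙 b))) (𝟙 c)) ≫ t)
      (associator_hom_assocR a' b c)).trans hL
  have step2 : (DTen.associator a b c).hom ≫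
      (LTen₂ A).map (Prod.mkHom g (𝟙 ((LTen₂ A).obj (b, c)))) ≫ (assocR A).app (a', (b, c)) =
      (assocL A).app (a, (b, c)) ≫ (LTen₃ A).map G :=
    ((congrArg (fun t => (DTen.associator a b c).hom ≫ t) hR).trans
      (Category.assoc _ _ _).symm).trans
      (congrArg (fun t => t ≫ (LTen₃ A).map G) (associator_hom_assocR a b c))
  apply (cancel_mono ((assocR A).app (a', (b, c)))).mp
  exact ((Category.assoc _ _ _).trans step1).trans (((Category.assoc _ _ _).trans step2).symm)

/-- For a commutative ring `A` (assuming the derived tensor product on `D(A)` with its triple version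
exists, that its symmetry, unit and associativity maps are isomorphisms, and that every `- ⊗^L L`
has a right adjoint `RHom(L, -)`) and objects `K`, `L`, `M` of `D(A)`, the canonical morphism
`RHom(K ⊗^L L, M) ⟶ RHom(K, RHom(L, M))`, namely the double adjunct of the associativity isomorphism
followed by evaluation at `K ⊗^L L`, is an isomorphism. (Functoriality in the three objects is built
into the construction; the identification on `H^0` with the hom bijection of the adjunction is not
part of this row.) -/
theorem result (A : Type u) [CommRing A] [DTen.HasLTen A] [DTen.HasLTen₃ A]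
    [DTen.IsSymMonoidal A] [DTen.HasRHom A] (K L M : Dual.D A) :
    IsIso (DTen.curryHom K L M) := by
  apply isIso_of_yoneda_map_bijective
  intro N
  have key : ∀ g : N ⟶ (RHomR A ((LTen₂ A).obj (K, L))).obj M,
      g ≫ curryHom K L M =
        rhomHomEquiv N K _ (rhomHomEquiv ((LTen₂ A).obj (N, K)) L M
          ((DTen.associator N K L).hom ≫ (rhomHomEquiv N ((LTen₂ A).obj (K, L)) M).symm g)) := by
    intro g
    have n1 := (rhomAdj A K).homEquiv_naturality_left g
      ((rhomAdj A L).homEquiv _ _ (curryHomAux K L M))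
    have n2 := (rhomAdj A L).homEquiv_naturality_left ((tensorRightD A K).map g) (curryHomAux K L M)
    have h1 : (tensorRightD A L).map ((tensorRightD A K).map g) =
        (LTen₂ A).map (Prod.mkHom ((LTen₂ A).map (Prod.mkHom g (𝟙 K))) (𝟙 L)) := rfl
    have h2 : (LTen₂ A).map (Prod.mkHom ((LTen₂ A).map (Prod.mkHom g (𝟙 K))) (𝟙 L)) ≫ curryHomAux K L M =
        (DTen.associator N K L).hom ≫ (rhomHomEquiv N ((LTen₂ A).obj (K, L)) M).symm g := by
      unfold curryHomAux
      rw [← Category.assoc, associator_naturality_left, Category.assoc]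
      rfl
    change g ≫ (rhomAdj A K).homEquiv _ _ ((rhomAdj A L).homEquiv _ _ (curryHomAux K L M)) = _
    rw [← n1, ← n2, h1, h2]
    rfl
  have hfun : (fun g : N ⟶ (RHomR A ((LTen₂ A).obj (K, L))).obj M => g ≫ curryHom K L M) =
      (rhomHomEquiv N K _) ∘ (rhomHomEquiv ((LTen₂ A).obj (N, K)) L M) ∘
        (fun φ => (DTen.associator N K L).hom ≫ φ) ∘ (rhomHomEquiv N ((LTen₂ A).obj (K, L)) M).symm := by
    funext g
    exact key g
  rw [hfun]
  refine (Equiv.bijective _).comp ((Equiv.bijective _).comp (Function.Bijective.comp ?_ (Equiv.bijective _)))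
  constructor
  · intro φ ψ h
    exact (cancel_epi _).mp h
  · intro ψ
    exact ⟨(DTen.associator N K L).inv ≫ ψ, by simp⟩

end Groth.Agent.S13888
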