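import Groth.Statements.S13895
import Mathlib
import Groth.Agent.Lib.Helper23.MixD6
import Groth.Agent.Lib.Helper23.Binders4
import Groth.Agent.Lib.Helper13.DTenB
-- import your own Groth.Agent.* helpers here

set_option autoImplicit false
universe u
open CategoryTheory CategoryTheory.Limits MonoidalCategory
attribute [local instance] HasDerivedCategory.standard
open DTen

namespace Groth.Agent.S13895

/-- For a map of commutative rings `φ : R → A` with `A` perfect as an `R`-module (its image `A[0]` in
`D(R)` is isomorphic to a bounded complex of finite projective modules), the right adjoint `RHom(A,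
-) : D(R) ⥤ D(A)` of restriction is isomorphic, as a functor, to `K ↦ K ⊗^L_R M` where `M = RHom(A,
R) ∈ D(A)` and `⊗^L_R` is the mixed derived tensor product `D(R) × D(A) ⥤ D(A)`. Existence of an
isomorphism of functors only: the published statement names no map. (Existence of the right adjoint
and of the mixed derived tensor product is assumed as hypotheses.) -/
theorem result (R A : Type u) [CommRing R] [CommRing A]
    (φ : R →+* A) [DTen.HasRHomRel φ] [DTen.HasLTenMix φ]
    (hA : DRing.IsPerfect R ((DRing.restrictD φ).obj (DTen.unit A))) :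
    Nonempty (DTen.RHomRel φ ≅
      (Functor.curry.obj (DTen.LTenMix φ)).flip.obj ((DTen.RHomRel φ).obj (DTen.unit R))) := by
  haveI : DTen.HasLTen R := Groth.Agent.Lib.helper23.Binders.hasLTen R
  haveI : DTen.HasLTen₃ R := Groth.Agent.Lib.helper23.Binders.hasLTen₃ R
  haveI : DTen.IsSymMonoidal R := Groth.Agent.Lib.helper23.Binders.isSymMonoidal R
  haveI : DTen.HasRHom R := Groth.Agent.Lib.helper23.Binders.hasRHom R
  haveI : DTen.HasLTen A := Groth.Agent.Lib.helper23.Binders.hasLTen A
  haveI : DTen.HasLBase φ := Groth.Agent.Lib.helper13.RKF.hasLBase φ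
  haveI : DTen.HasResTen φ := Groth.Agent.Lib.helper23.MixD.hasResTen φ
  haveI : DTen.ResLegIso φ := Groth.Agent.Lib.helper23.MixD.resLegIso φ
  haveI := Groth.Agent.Lib.helper23.MixD.isIso_ThetaNat φ (DTen.relAdj φ) hA
  let ω : Dual.D A := (DTen.RHomRel φ).obj (DTen.unit R)
  have e1 : DTen.RHomRel φ ≅ DTen.LBase φ ⋙ DTen.tensorRightD A ω :=
    (asIso (Groth.Agent.Lib.helper23.MixD.ThetaNat φ (DTen.relAdj φ))).symm
  haveI : ∀ K : Dual.D R, IsIso ((DTen.split φ).app (K, ω)) := fun K =>
    Groth.Agent.Lib.helper13.DTenA.isIso_split_app φ K ω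
  have e2 : DTen.LBase φ ⋙ DTen.tensorRightD A ω ≅ (Functor.curry.obj (DTen.LTenMix φ)).flip.obj ω :=
    NatIso.ofComponents (fun K => asIso ((DTen.split φ).app (K, ω))) (by
      intro K K' a
      have h := (DTen.split φ).naturality (Prod.mkHom a (𝟙 ω) : (K, ω) ⟶ (K', ω))
      dsimp at h ⊢
      exact h)
  exact ⟨e1 ≪≫ e2⟩

end Groth.Agent.S13895
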