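import Groth.Statements.S13906
import Groth.Agent.Lib.Helper14.PnFibre
open Groth.Agent.Lib.Helper14.PnFibre

set_option autoImplicit false
universe u
open P1Fin

namespace Groth.Agent.S13906

open AlgebraicGeometry CategoryTheory in
/-- Let S be a scheme and g : X → P^1_S a finite, flat, locally finitely presented morphism. An open and
closed subset W of X that contains every point of X lying over the zero section of P^1_S → S is all
of X. (In the published corollary W is the locus over which a given equivariant etale morphism T → X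
of constant rank is a torsor under a finite group, an open and closed subset of X; that
open-and-closed locus is taken as the hypothesis here, and the conclusion W = X is the corollary's
content.) -/
theorem result (S X : Scheme.{u})
    (g : X ⟶ CohB1.ProjSpaceOver 1 S) [IsFinite g] [Flat g] [LocallyOfFinitePresentation g]
    (W : Set X) (hW : IsClopen W)
    (h0 : ∀ x : X, g x ∈ Set.range (P1.sect S 0) → x ∈ W) : W = Set.univ := by
  classical
  by_contra hne
  obtain ⟨x, hx⟩ : ∃ x, x ∉ W := by
    by_contra h
    push_neg at h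
    exact hne (Set.eq_univ_of_forall h)
  have hopen : IsOpenMap g := g.isOpenMap
  have hclosed : IsClosedMap g := g.isClosedMap
  have hZ : IsClopen (g '' Wᶜ) := ⟨hclosed _ hW.compl.1, hopen _ hW.compl.2⟩
  have hconn := (CohB1.ProjSpaceOver.toBase 1 S).isConnected_preimage_singleton
    (CohB1.ProjSpaceOver.toBase 1 S (g x))
  have hsub : (CohB1.ProjSpaceOver.toBase 1 S) ⁻¹' {CohB1.ProjSpaceOver.toBase 1 S (g x)} ⊆ g '' Wᶜ :=
    hconn.isPreconnected.subset_isClopen hZ ⟨g x, rfl, x, hx, rfl⟩
  have hst : P1.sect S 0 ≫ CohB1.ProjSpaceOver.toBase 1 S = 𝟙 S := by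
    unfold P1.sect CohB1.ProjSpaceOver.toBase
    exact CategoryTheory.Limits.pullback.lift_snd _ _ _
  have hsect : P1.sect S 0 (CohB1.ProjSpaceOver.toBase 1 S (g x)) ∈
      (CohB1.ProjSpaceOver.toBase 1 S) ⁻¹' {CohB1.ProjSpaceOver.toBase 1 S (g x)} := by
    rw [Set.mem_preimage, Set.mem_singleton_iff, ← Scheme.Hom.comp_apply, hst]
    rfl
  obtain ⟨y, hy, hyeq⟩ := hsub hsect
  exact hy (h0 y ⟨_, hyeq.symm⟩)

end Groth.Agent.S13906
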