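import Groth.Statements.S13903
import Mathlib


set_option autoImplicit false
universe u
open EtAlg

namespace Groth.Agent.S13903

set_option linter.style.haveILetI false

section

variable (K L : Type u) [Field K] [CommRing L] [Algebra K L] [Module.Finite K L] [IsReduced L]
  [Algebra.IsSeparable K L]

omit [Module.Finite K L] [IsReduced L] in
/-- the images of separable elements in a quotient are separable -/
theorem isSeparable_quotient (I : Ideal L) : Algebra.IsSeparable K (L ⧸ I) := by
  refine ⟨fun y => ?_⟩
  obtain ⟨x, rfl⟩ := Ideal.Quotient.mk_surjective y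
  have hx : IsSeparable K x := Algebra.IsSeparable.isSeparable K x
  have h0 : Polynomial.aeval (Ideal.Quotient.mk I x) (minpoly K x) = 0 := by
    have : Ideal.Quotient.mk I x = Ideal.Quotient.mkₐ K I x := rfl
    rw [this, Polynomial.aeval_algHom_apply, minpoly.aeval, map_zero]
  exact Polynomial.Separable.of_dvd hx (minpoly.dvd K _ h0)

/-- There are at least `finrank K L` distinct `K`-algebra maps `L → AlgebraicClosure K`. -/
theorem finrank_le_card_algHom :
    Module.finrank K L ≤ Nat.card (L →ₐ[K] AlgebraicClosure K) := by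
  classical
  haveI : IsArtinianRing L := .of_finite K L
  letI : ∀ m : MaximalSpectrum L, Field (L ⧸ m.asIdeal) := fun m => Ideal.Quotient.field _
  haveI : ∀ m : MaximalSpectrum L, Algebra.IsSeparable K (L ⧸ m.asIdeal) :=
    fun m => isSeparable_quotient K L m.asIdeal
  haveI : Fintype (MaximalSpectrum L) := Fintype.ofFinite _
  have h1 : Module.finrank K L = ∑ m : MaximalSpectrum L, Module.finrank K (L ⧸ m.asIdeal) := by
    rw [← Module.finrank_pi_fintype K]
    exact ((IsArtinianRing.equivPi L).restrictScalars K).toLinearEquiv.finrank_eq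
  have h2 : ∀ m : MaximalSpectrum L,
      Nat.card ((L ⧸ m.asIdeal) →ₐ[K] AlgebraicClosure K) = Module.finrank K (L ⧸ m.asIdeal) := by
    intro m
    rw [← Fintype.card_eq_nat_card]
    exact AlgHom.card K (L ⧸ m.asIdeal) (AlgebraicClosure K)
  let Φ : (Σ m : MaximalSpectrum L, (L ⧸ m.asIdeal) →ₐ[K] AlgebraicClosure K) →
      (L →ₐ[K] AlgebraicClosure K) := fun p => p.2.comp (Ideal.Quotient.mkₐ K p.1.asIdeal)
  have hΦ : Function.Injective Φ := by
    rintro ⟨m, τ⟩ ⟨m', τ'⟩ h
    have hker : ∀ (m : MaximalSpectrum L) (τ : (L ⧸ m.asIdeal) →ₐ[K] AlgebraicClosure K) (x : L),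
        (τ.comp (Ideal.Quotient.mkₐ K m.asIdeal)) x = 0 ↔ x ∈ m.asIdeal := by
      intro m τ x
      rw [AlgHom.comp_apply, map_eq_zero_iff τ τ.toRingHom.injective, Ideal.Quotient.mkₐ_eq_mk,
        Ideal.Quotient.eq_zero_iff_mem]
    have hm : m = m' := by
      apply MaximalSpectrum.ext
      ext x
      rw [← hker m τ, ← hker m' τ']
      change Φ ⟨m, τ⟩ x = 0 ↔ Φ ⟨m', τ'⟩ x = 0
      rw [h]
    subst hm
    congr 1
    apply AlgHom.ext
    intro y
    obtain ⟨x, rfl⟩ := Ideal.Quotient.mk_surjective y
    exact congrArg (fun f => f x) h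
  have h3 := Nat.card_le_card_of_injective Φ hΦ
  rw [Nat.card_sigma] at h3
  calc Module.finrank K L = ∑ m : MaximalSpectrum L, Module.finrank K (L ⧸ m.asIdeal) := h1
    _ = ∑ m : MaximalSpectrum L, Nat.card ((L ⧸ m.asIdeal) →ₐ[K] AlgebraicClosure K) := by
        simp_rw [h2]
    _ ≤ _ := h3

/-- An element separating all `K`-algebra maps to the algebraic closure generates `L`. -/
theorem adjoin_eq_top_of_separates (w : L)
    (hw : ∀ σ τ : L →ₐ[K] AlgebraicClosure K, σ w = τ w → σ = τ) :
    Algebra.adjoin K ({w} : Set L) = ⊤ := by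
  classical
  let B := Algebra.adjoin K ({w} : Set L)
  let ρ : (L →ₐ[K] AlgebraicClosure K) → (B →ₐ[K] AlgebraicClosure K) := fun σ => σ.comp B.val
  have hρ : Function.Injective ρ := by
    intro σ τ h
    apply hw
    have := congrArg (fun f => f ⟨w, Algebra.subset_adjoin (Set.mem_singleton w)⟩) h
    exact this
  have h1 := Nat.card_le_card_of_injective ρ hρ
  have h2 := card_algHom_le_finrank K B (AlgebraicClosure K)
  have h3 := finrank_le_card_algHom K L
  have h4 : Module.finrank K L ≤ Module.finrank K B := h3.trans (h1.trans h2)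
  have h5 : Module.finrank K (Subalgebra.toSubmodule B) = Module.finrank K L :=
    le_antisymm (Submodule.finrank_le _) h4
  exact Algebra.toSubmodule_eq_top.1 (Submodule.eq_top_of_finrank_eq h5)

end

theorem main (K L : Type u) [Field K] [CommRing L]
    [Algebra K L] [Module.Finite K L] [IsReduced L] [Algebra.IsSeparable K L] (z t : L)
    (hgen : Algebra.adjoin K ({z, t} : Set L) = ⊤) (S : Finset K)
    (hS : Module.finrank K L ^ (4 * Module.finrank K L) ≤ S.card) :
    ∃ c ∈ S, Algebra.adjoin K ({c • z + t} : Set L) = ⊤ := by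
  classical
  haveI : Fintype (L →ₐ[K] AlgebraicClosure K) := Fintype.ofFinite _
  set d := Module.finrank K L with hd
  have hN : Fintype.card (L →ₐ[K] AlgebraicClosure K) ≤ d := by
    rw [Fintype.card_eq_nat_card]
    exact card_algHom_le_finrank K L (AlgebraicClosure K)
  -- the bad scalars
  let bad : Finset K := S.filter (fun c => ∃ σ τ : L →ₐ[K] AlgebraicClosure K,
    σ ≠ τ ∧ σ (c • z + t) = τ (c • z + t))
  suffices hbad : bad.card < S.card by
    obtain ⟨c, hcS, hcb⟩ : ∃ c ∈ S, c ∉ bad := by
      by_contra hcon
      push Not at hcon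
      have : S ⊆ bad := fun c hc => hcon c hc
      exact absurd (Finset.card_le_card this) (not_le.mpr hbad)
    refine ⟨c, hcS, adjoin_eq_top_of_separates K L _ ?_⟩
    intro σ τ hστ
    by_contra hne
    apply hcb
    exact Finset.mem_filter.mpr ⟨hcS, σ, τ, hne, hστ⟩
  -- key: a pair of distinct maps has at most one bad scalar
  have key : ∀ (σ τ : L →ₐ[K] AlgebraicClosure K), σ ≠ τ → ∀ c c' : K,
      σ (c • z + t) = τ (c • z + t) → σ (c' • z + t) = τ (c' • z + t) → c = c' := by
    intro σ τ hne c c' h1 h2
    simp only [map_add, map_smul] at h1 h2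
    have hz : σ z ≠ τ z := by
      intro hz
      apply hne
      apply AlgHom.ext_of_adjoin_eq_top hgen
      intro x hx
      rcases hx with rfl | rfl
      · exact hz
      · rw [hz] at h1
        exact add_left_cancel h1
    have e1 : c • (σ z - τ z) = τ t - σ t := by
      rw [smul_sub]; linear_combination (exp := 1) h1
    have e2 : c' • (σ z - τ z) = τ t - σ t := by
      rw [smul_sub]; linear_combination (exp := 1) h2
    have e3 : (c - c') • (σ z - τ z) = 0 := by
      rw [sub_smul, e1, e2, sub_self]
    rw [smul_eq_zero] at e3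
    rcases e3 with e3 | e3
    · exact sub_eq_zero.mp e3
    · exact absurd (sub_eq_zero.mp e3) hz
  -- choose a pair for every bad scalar
  have hex : ∀ c ∈ bad, ∃ p : (L →ₐ[K] AlgebraicClosure K) × (L →ₐ[K] AlgebraicClosure K),
      p.1 ≠ p.2 ∧ p.1 (c • z + t) = p.2 (c • z + t) := by
    intro c hc
    obtain ⟨σ, τ, h1, h2⟩ := (Finset.mem_filter.mp hc).2
    exact ⟨(σ, τ), h1, h2⟩
  rcases Nat.lt_or_ge d 2 with hd2 | hd2
  · -- at most one map: no bad scalars
    have hbe : bad = ∅ := by
      rw [Finset.eq_empty_iff_forall_notMem]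
      intro c hc
      obtain ⟨p, h1, -⟩ := hex c hc
      apply h1
      have : Fintype.card (L →ₐ[K] AlgebraicClosure K) ≤ 1 := by omega
      exact Fintype.card_le_one_iff.mp this _ _
    rw [hbe, Finset.card_empty]
    have : 1 ≤ d ^ (4 * d) := by
      interval_cases d <;> simp
    omega
  · let g : {c // c ∈ bad} → (L →ₐ[K] AlgebraicClosure K) × (L →ₐ[K] AlgebraicClosure K) :=
      fun c => (hex c.1 c.2).choose
    have hg : Function.Injective g := by
      intro c c' h
      have s1 := (hex c.1 c.2).choose_spec
      have s2 := (hex c'.1 c'.2).choose_spec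
      have h' : (hex c.1 c.2).choose = (hex c'.1 c'.2).choose := h
      rw [← h'] at s2
      exact Subtype.ext (key _ _ s1.1 c.1 c'.1 s1.2 s2.2)
    have h1 : bad.card ≤ Fintype.card (L →ₐ[K] AlgebraicClosure K) *
        Fintype.card (L →ₐ[K] AlgebraicClosure K) := by
      have := Fintype.card_le_of_injective g hg
      rwa [Fintype.card_coe, Fintype.card_prod] at this
    have h2 : bad.card ≤ d * d := h1.trans (Nat.mul_le_mul hN hN)
    have h3 : d * d < d ^ (4 * d) := by
      have : d * d = d ^ 2 := (sq d).symm
      rw [this]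
      exact Nat.pow_lt_pow_right (by omega) (by omega)
    omega



/-- Let K be a field and L a finite-dimensional reduced commutative K-algebra of dimension d all of
whose elements are separable over K, generated as a K-algebra by z and t. In any finite set of at
least d^(4d) elements of K there is an element c such that c • z + t generates L as a K-algebra.
(The published statement does not require separability; for K of characteristic p and L obtained by
adjoining p-th roots of two independent indeterminates, L is a reduced finite K-algebra generated by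
two elements with no single generator, so separability over K is assumed here, as the counting in
the published proof requires.) -/
theorem result (K L : Type u) [Field K] [CommRing L]
    [Algebra K L] [Module.Finite K L] [IsReduced L] [Algebra.IsSeparable K L] (z t : L)
    (hgen : Algebra.adjoin K ({z, t} : Set L) = ⊤) (S : Finset K)
    (hS : Module.finrank K L ^ (4 * Module.finrank K L) ≤ S.card) :
    ∃ c ∈ S, Algebra.adjoin K ({c • z + t} : Set L) = ⊤ := by
  exact main K L z t hgen S hS

end Groth.Agent.S13903
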