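import Groth.Statements.S13904
import Mathlib

set_option autoImplicit false
universe u
open CAlg

namespace Groth.Agent.S13904

/-- an integral ring map does not raise Krull dimension -/
theorem krullDim_le_of_isIntegral {A B : Type*} [CommRing A] [CommRing B] (f : A →+* B)
    (hf : f.IsIntegral) : ringKrullDim B ≤ ringKrullDim A := by
  algebraize [f]
  have : Algebra.IsIntegral A B := ⟨hf⟩
  refine Order.krullDim_le_of_strictMono
    (fun p : PrimeSpectrum B => PrimeSpectrum.comap (algebraMap A B) p) ?_
  intro p q hpq
  have : p.asIdeal < q.asIdeal := hpq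
  exact Ideal.IsIntegral.comap_lt_comap (R := A) this

/-- Let k be a field, A a commutative k-algebra and φ : k[x_1, …, x_r] → A a finite k-algebra map such
that A/p has Krull dimension r for every minimal prime p of A (an equidimensional affine scheme of
dimension r, finite over affine r-space). Then for every minimal prime p of A and every prime q of
k[x_1, …, x_r] there is a prime P ⊇ p of A with φ⁻¹(P) = q: the finite map restricted to each
irreducible component of Spec A is surjective onto affine r-space. (The published statement is over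
an algebraically closed field with φ a Noether normalisation; this row allows any field and any
finite k-algebra map φ.) -/
theorem result (k : Type u) [Field k] (r : ℕ)
    (A : Type u) [CommRing A] [Algebra k A] (φ : MvPolynomial (Fin r) k →ₐ[k] A)
    (hφ : φ.toRingHom.Finite)
    (hdim : ∀ p ∈ minimalPrimes A, ringKrullDim (A ⧸ p) = r)
    (p : Ideal A) (hp : p ∈ minimalPrimes A)
    (q : Ideal (MvPolynomial (Fin r) k)) [q.IsPrime] :
    ∃ P : Ideal A, P.IsPrime ∧ p ≤ P ∧ P.comap φ.toRingHom = q := by
  have hpprime : p.IsPrime := hp.1.1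
  have hcomap : p.comap φ.toRingHom = ⊥ := by
    by_contra hne
    obtain ⟨x, hx, hx0⟩ := Submodule.exists_mem_ne_zero_of_ne_bot hne
    let ψ : MvPolynomial (Fin r) k ⧸ Ideal.span {x} →+* A ⧸ p :=
      Ideal.Quotient.lift _ ((Ideal.Quotient.mk p).comp φ.toRingHom) (by
        intro a ha
        obtain ⟨c, rfl⟩ := Ideal.mem_span_singleton'.mp ha
        rw [RingHom.comp_apply, map_mul, map_mul]
        have : Ideal.Quotient.mk p (φ.toRingHom x) = 0 := Ideal.Quotient.eq_zero_iff_mem.mpr hx
        rw [this, mul_zero])
    have hcomp : ψ.comp (Ideal.Quotient.mk (Ideal.span {x})) =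
        (Ideal.Quotient.mk p).comp φ.toRingHom := by
      ext a <;> rfl
    have hint : ((Ideal.Quotient.mk p).comp φ.toRingHom).IsIntegral :=
      RingHom.IsIntegral.trans _ _ hφ.to_isIntegral
        (RingHom.isIntegral_of_surjective _ Ideal.Quotient.mk_surjective)
    have hψint : ψ.IsIntegral := by
      apply RingHom.IsIntegral.tower_top (Ideal.Quotient.mk (Ideal.span {x})) ψ
      rw [hcomp]
      exact hint
    have h1 := krullDim_le_of_isIntegral ψ hψint
    have h2 := ringKrullDim_quotient_succ_le_of_nonZeroDivisor (mem_nonZeroDivisors_of_ne_zero hx0)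
    have h3 : ringKrullDim (MvPolynomial (Fin r) k) = r := by
      rw [MvPolynomial.ringKrullDim_of_isNoetherianRing, ringKrullDim_eq_zero_of_field, zero_add,
        Nat.card_fin]
    rw [hdim p hp] at h1
    rw [h3] at h2
    have h4 : ((r : ℕ) : WithBot ℕ∞) + 1 ≤ (r : WithBot ℕ∞) := le_trans (by gcongr) h2
    have h5 : ((r + 1 : ℕ) : WithBot ℕ∞) ≤ ((r : ℕ) : WithBot ℕ∞) := by
      push_cast
      exact h4
    have h6 : r + 1 ≤ r := by exact_mod_cast h5
    omega
  algebraize [φ.toRingHom]
  have hint : Algebra.IsIntegral (MvPolynomial (Fin r) k) A := ⟨hφ.to_isIntegral⟩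
  obtain ⟨Q, hQ, hQprime, hQcomap⟩ :=
    Ideal.exists_ideal_over_prime_of_isIntegral_of_isPrime q p (by
      change p.comap φ.toRingHom ≤ q
      rw [hcomap]; exact bot_le)
  exact ⟨Q, hQprime, hQ, hQcomap⟩

end Groth.Agent.S13904
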