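import Groth.Statements.S13905
import Mathlib
-- import your own Groth.Agent.* helpers here

set_option autoImplicit false
universe u
open ProjGeom

namespace Groth.Agent.S13905

open W4c1etcurveeff3b in
/-- Hyperplanes of projective n-space in general position, in linear-algebra form (V of dimension n + 1
over a field k, hyperplanes as n-dimensional subspaces, points as nonzero vectors): if S is a finite
set of hyperplanes in general position with at least n members and H is a hyperplane containing none
of the lines cut out by n members of S, then S with H added is again in general position. (The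
published statement is for hyperplanes of P^n_k and closed points; a closed point lying on n + 1
members is automatically one of the rational points cut out by n of them, so the condition on
nonzero vectors of V is the same condition.) -/
theorem result (k V : Type u) [Field k]
    [AddCommGroup V] [Module k V] [DecidableEq (Submodule k V)] (n : ℕ) (S : Finset (Submodule k V))
    (hS : InGeneralPosition k V n S) (hn : n ≤ S.card) (H : Submodule k V)
    (hH : Module.finrank k H = n)
    (havoid : ∀ T ⊆ S, T.card = n → ¬ (T.inf id ≤ H)) :
    InGeneralPosition k V n (insert H S) := by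
  classical
  obtain ⟨hV, hdim, hint, hpt⟩ := hS
  haveI : FiniteDimensional k V := Module.finite_of_finrank_pos (by omega)
  -- Lemma A
  have lemA : ∀ W : Submodule k V, ¬ W ≤ H → Module.finrank k ↥(H ⊓ W) + 1 = Module.finrank k W := by
    intro W hW
    have h1 := Submodule.finrank_sup_add_finrank_inf_eq H W
    have hlt : H < H ⊔ W := by
      refine lt_of_le_of_ne le_sup_left (fun h => hW ?_)
      rw [h]; exact le_sup_right
    have h2 := Submodule.finrank_lt_finrank_of_lt hlt
    have h3 : Module.finrank k ↥(H ⊔ W) ≤ Module.finrank k V := Submodule.finrank_le _
    omega
  -- Lemma B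
  have lemB : ∀ T' ⊆ S, T'.card ≤ n → ¬ (T'.inf id ≤ H) := by
    intro T' hT' hc hle
    obtain ⟨T'', h1, h2, h3⟩ := Finset.exists_subsuperset_card_eq hT' hc hn
    exact havoid T'' h2 h3 ((Finset.inf_mono h1).trans hle)
  have herase : ∀ T ⊆ insert H S, T.erase H ⊆ S := by
    intro T hT X hX
    rw [Finset.mem_erase] at hX
    rcases Finset.mem_insert.1 (hT hX.2) with h | h
    · exact absurd h hX.1
    · exact h
  refine ⟨hV, ?_, ?_, ?_⟩
  · intro H' hH'
    rcases Finset.mem_insert.1 hH' with rfl | h
    · exact hH
    · exact hdim H' h
  · intro T hT hc
    by_cases hHT : H ∈ T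
    · have hT' := herase T hT
      have hcard : (T.erase H).card + 1 = T.card := Finset.card_erase_add_one hHT
      have hc' : (T.erase H).card ≤ n := by omega
      have h1 := hint _ hT' hc'
      have h2 := lemA _ (lemB _ hT' hc')
      have h3 : T.inf id = H ⊓ (T.erase H).inf id := by
        conv_lhs => rw [← Finset.insert_erase hHT]
        rw [Finset.inf_insert, id]
      rw [h3]
      omega
    · exact hint T ((Finset.subset_insert_iff_of_notMem hHT).1 hT) hc
  · intro v hv T hT hall
    by_cases hHT : H ∈ T
    · have hT' := herase T hT
      have hcard : (T.erase H).card + 1 = T.card := Finset.card_erase_add_one hHT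
      have hc' : (T.erase H).card ≤ n :=
        hpt v hv _ hT' (fun X hX => hall X (Finset.mem_of_mem_erase hX))
      by_contra hgt
      have heq : (T.erase H).card = n := by omega
      have h1 := hint _ hT' hc'
      rw [heq] at h1
      have h1' : Module.finrank k ↥((T.erase H).inf id) = 1 := by omega
      have hvmem : v ∈ (T.erase H).inf id := by
        rw [Submodule.mem_finsetInf]
        intro X hX
        exact hall X (Finset.mem_of_mem_erase hX)
      have hvH : v ∈ H := hall H hHT
      apply havoid _ hT' heq
      intro w hw
      have hv' : (⟨v, hvmem⟩ : ↥((T.erase H).inf id)) ≠ 0 := by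
        intro h0
        exact hv (congrArg Subtype.val h0)
      obtain ⟨c, hc⟩ := (finrank_eq_one_iff_of_nonzero' _ hv').1 h1' ⟨w, hw⟩
      have : w = c • v := by
        have := congrArg Subtype.val hc
        simpa using this.symm
      rw [this]
      exact H.smul_mem c hvH
    · exact hpt v hv T ((Finset.subset_insert_iff_of_notMem hHT).1 hT) hall

end Groth.Agent.S13905
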