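import Groth.Statements.S13907
import Groth.Agent.Lib.Helper26.ProjDim8

set_option autoImplicit false
universe u
open ProjGeom
open Groth.Agent.Lib.helper26.ProjDim

namespace Groth.Agent.S13907

/-- Over an algebraically closed field k, let C be a nonempty irreducible closed subset of the
underlying space of projective n-space with homogeneous coordinates x_0, …, x_n, and for i ≤ n let
L_i be the linear subspace where x_1, …, x_i vanish. Then there is an index i ≤ n with C ∩ L_i
nonempty and of topological Krull dimension zero. -/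
theorem result (k : Type u) [Field k]
    [IsAlgClosed k] (n : ℕ) (C : Set (ProjectiveSpectrum (CohB1.polyGrading n k)))
    (hC : IsClosed C) (hirr : IsIrreducible C) :
    ∃ i : ℕ, i ≤ n ∧
      (C ∩ ProjectiveSpectrum.zeroLocus (CohB1.polyGrading n k)
          ((fun j : Fin (n + 1) => (MvPolynomial.X j : MvPolynomial (Fin (n + 1)) k)) ''
            {j : Fin (n + 1) | 1 ≤ j.val ∧ j.val ≤ i})).Nonempty ∧
      topologicalKrullDim ↥(C ∩ ProjectiveSpectrum.zeroLocus (CohB1.polyGrading n k)
          ((fun j : Fin (n + 1) => (MvPolynomial.X j : MvPolynomial (Fin (n + 1)) k)) ''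
            {j : Fin (n + 1) | 1 ≤ j.val ∧ j.val ≤ i})) = 0 := by
  classical
  obtain ⟨p, rfl⟩ := exists_eq_Ici le_iff_specializes' C hirr hC
  have hmemL : ∀ (i : ℕ) (y : ProjectiveSpectrum (CohB1.polyGrading n k)),
      y ∈ ProjectiveSpectrum.zeroLocus (CohB1.polyGrading n k)
          ((fun j : Fin (n + 1) => (MvPolynomial.X j : MvPolynomial (Fin (n + 1)) k)) ''
            {j : Fin (n + 1) | 1 ≤ j.val ∧ j.val ≤ i}) ↔
        ∀ j : Fin (n + 1), 1 ≤ j.val → j.val ≤ i →
          (MvPolynomial.X j : MvPolynomial (Fin (n + 1)) k) ∈ idl y := by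
    intro i y
    rw [mem_zeroLocus_image]
    constructor
    · intro h j h1 h2
      exact h j ⟨h1, h2⟩
    · intro h j hj
      exact h j hj.1 hj.2
  by_contra hcon
  push Not at hcon
  have hne : ∀ i, i ≤ n → (Set.Ici p ∩ ProjectiveSpectrum.zeroLocus (CohB1.polyGrading n k)
          ((fun j : Fin (n + 1) => (MvPolynomial.X j : MvPolynomial (Fin (n + 1)) k)) ''
            {j : Fin (n + 1) | 1 ≤ j.val ∧ j.val ≤ i})).Nonempty := by
    intro i
    induction i with
    | zero =>
      intro _
      exact ⟨p, Set.mem_Ici.2 le_rfl, (hmemL 0 p).2 (fun j h1 h2 => by omega)⟩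
    | succ i ih =>
      intro hi
      have hWi := ih (by omega)
      have hdim := hcon i (by omega) hWi
      rw [Ne, topologicalKrullDim_subtype_eq_zero_iff le_iff_specializes' _
        (hC.inter (ProjectiveSpectrum.isClosed_zeroLocus _ _))] at hdim
      push Not at hdim
      obtain ⟨w, hw, hwmax⟩ := hdim hWi
      have hco : Order.coheight w ≠ 0 := fun h => hwmax (Order.coheight_eq_zero.1 h)
      rw [coheight_eq] at hco
      have hlt : htN w + 1 ≤ n := by
        by_contra hge
        apply hco
        have : n - htN w = 0 := by omega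
        rw [this]
        rfl
      obtain ⟨y, hwy, hy⟩ := exists_point_ge w 1
        (fun _ => (MvPolynomial.X (⟨i + 1, by omega⟩ : Fin (n + 1)) : MvPolynomial (Fin (n + 1)) k))
        (fun _ => ⟨1, (MvPolynomial.mem_homogeneousSubmodule _ _).2
          (MvPolynomial.isHomogeneous_X k _)⟩)
        (fun _ => by rw [RingHom.mem_ker, MvPolynomial.constantCoeff_X]) hlt
      refine ⟨y, Set.mem_Ici.2 (le_trans hw.1 hwy), (hmemL (i + 1) y).2 ?_⟩
      intro j h1 h2
      by_cases hj : j.val ≤ i
      · exact idl_le_idl.2 hwy ((hmemL i w).1 hw.2 j h1 hj)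
      · have hj' : j = ⟨i + 1, by omega⟩ := Fin.ext (by simp only; omega)
        rw [hj']
        exact hy 0
  have hWn := hne n le_rfl
  apply hcon n le_rfl hWn
  rw [topologicalKrullDim_subtype_eq_zero_iff le_iff_specializes' _
    (hC.inter (ProjectiveSpectrum.isClosed_zeroLocus _ _))]
  refine ⟨hWn, fun w hw => ?_⟩
  rw [← Order.coheight_eq_zero, coheight_eq]
  have h1 := le_htN_of_X_mem w (fun j h1 => (hmemL n w).1 hw.2 j h1 (by omega))
  have h2 := htN_le w
  have h3 : n - htN w = 0 := by omega
  rw [h3]
  rfl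

end Groth.Agent.S13907
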