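import Groth.Statements.S13912
import Mathlib
import Groth.Agent.S10897

set_option autoImplicit false
universe u
open PlaneConic

namespace Groth.Agent.S13912

section helpers
section hh
open MvPolynomial Groth.Agent.S10897

variable {k : Type u} [Field k]

/-- a nonzero linear form is prime -/
theorem prime_of_homog_one {ℓ : MvPolynomial (Fin 3) k} (h : ℓ.IsHomogeneous 1) (h0 : ℓ ≠ 0) :
    Prime ℓ := by
  obtain ⟨c, hc⟩ := Groth.Agent.S12424.linear_form h
  have hcl : ℓ = lin c := hc
  have hc0 : c ≠ 0 := by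
    rintro rfl
    apply h0
    rw [hcl]
    unfold lin
    simp
  rw [hcl]
  exact (lin_irreducible c hc0).prime

/-- a linear form divisible by a nonzero linear form is a constant multiple -/
theorem const_mul_of_dvd {ℓ m : MvPolynomial (Fin 3) k} (hℓ : ℓ.IsHomogeneous 1) (hℓ0 : ℓ ≠ 0)
    (hm : m.IsHomogeneous 1) (hd : ℓ ∣ m) : ∃ a : k, m = C a * ℓ := by
  by_cases hm0 : m = 0
  · exact ⟨0, by rw [hm0]; simp⟩
  obtain ⟨q, hq⟩ := hd
  have hq0 : q ≠ 0 := by
    rintro rfl
    apply hm0
    rw [hq, mul_zero]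
  have := congrArg totalDegree hq
  rw [totalDegree_mul_of_isDomain hℓ0 hq0, hm.totalDegree hm0, hℓ.totalDegree hℓ0] at this
  have hq1 : q.totalDegree = 0 := by omega
  rw [totalDegree_eq_zero_iff_eq_C] at hq1
  exact ⟨coeff 0 q, by rw [hq, hq1]; simp [mul_comm]⟩

/-- singular pencils of 2x2 matrices of linear forms -/
theorem lemmaB (M : Matrix (Fin 2) (Fin 2) (MvPolynomial (Fin 3) k))
    (hM : ∀ a b : Fin 2, (M a b).IsHomogeneous 1) (hdet : M 0 0 * M 1 1 = M 0 1 * M 1 0) :
    (∃ c : Fin 2 → k, c ≠ 0 ∧ ∀ a, M a 0 * C (c 0) + M a 1 * C (c 1) = 0) ∨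
    (∃ r : Fin 2 → k, r ≠ 0 ∧ ∀ b, C (r 0) * M 0 b + C (r 1) * M 1 b = 0) := by
  by_cases h01 : M 0 1 = 0
  · rw [h01, zero_mul] at hdet
    rcases mul_eq_zero.mp hdet with h | h
    · right
      refine ⟨![1, 0], ?_, ?_⟩
      · intro h'
        have := congrFun h' 0
        simp at this
      · intro b
        fin_cases b <;> simp [h, h01]
    · left
      refine ⟨![0, 1], ?_, ?_⟩
      · intro h'
        have := congrFun h' 1
        simp at this
      · intro a
        fin_cases a <;> simp [h, h01]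
  · have hp := prime_of_homog_one (hM 0 1) h01
    have hdvd : M 0 1 ∣ M 0 0 * M 1 1 := ⟨M 1 0, hdet⟩
    rcases hp.dvd_or_dvd hdvd with h | h
    · obtain ⟨a, ha⟩ := const_mul_of_dvd (hM 0 1) h01 (hM 0 0) h
      have h10 : M 1 0 = C a * M 1 1 := by
        apply mul_left_cancel₀ h01
        rw [← hdet, ha]
        ring
      left
      refine ⟨![1, -a], ?_, ?_⟩
      · intro h'
        have := congrFun h' 0
        simp at this
      · intro a'
        fin_cases a'
        · simp [ha]
          ring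
        · simp [h10]
          ring
    · obtain ⟨a, ha⟩ := const_mul_of_dvd (hM 0 1) h01 (hM 1 1) h
      have h10 : M 1 0 = C a * M 0 0 := by
        apply mul_left_cancel₀ h01
        rw [← hdet, ha]
        ring
      right
      refine ⟨![-a, 1], ?_, ?_⟩
      · intro h'
        have := congrFun h' 1
        simp at this
      · intro b
        fin_cases b
        · simp [h10]
        · simp [ha]


/-- the substitution killing the linear form `lin c` -/
noncomputable def phi (c : Fin 3 → k) (j₀ : Fin 3) :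
    MvPolynomial (Fin 3) k →ₐ[k] MvPolynomial (Fin 3) k :=
  aeval (fun j => if j = j₀ then X j₀ - C (c j₀)⁻¹ * lin c else X j)

theorem phi_X (c : Fin 3 → k) (j₀ j : Fin 3) :
    phi c j₀ (X j) = if j = j₀ then X j₀ - C (c j₀)⁻¹ * lin c else X j := by
  unfold phi
  rw [aeval_X]

theorem phi_C (c : Fin 3 → k) (j₀ : Fin 3) (a : k) : phi c j₀ (C a) = C a := by
  unfold phi
  rw [← algebraMap_eq, AlgHom.commutes]

theorem phi_lin (c : Fin 3 → k) (j₀ : Fin 3) (hc : c j₀ ≠ 0) : phi c j₀ (lin c) = 0 := by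
  have h1 : phi c j₀ (lin c) = ∑ j, C (c j) * phi c j₀ (X j) := by
    unfold lin
    rw [map_sum]
    refine Finset.sum_congr rfl fun j _ => ?_
    rw [map_mul, phi_C]
  rw [h1]
  have h2 : ∀ j, C (c j) * phi c j₀ (X j) =
      C (c j) * X j - (if j = j₀ then C (c j₀) * (C (c j₀)⁻¹ * lin c) else 0) := by
    intro j
    rw [phi_X]
    split_ifs with h
    · subst h; ring
    · ring
  simp only [h2, Finset.sum_sub_distrib, Finset.sum_ite_eq', Finset.mem_univ, if_true]
  have hcc : C (c j₀) * C (c j₀)⁻¹ = (1 : MvPolynomial (Fin 3) k) := by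
    rw [← C_mul, mul_inv_cancel₀ hc, C_1]
  rw [← mul_assoc, hcc, one_mul]
  unfold lin
  exact sub_self _

theorem phi_homog (c : Fin 3 → k) (j₀ : Fin 3) {p : MvPolynomial (Fin 3) k} {n : ℕ}
    (hp : p.IsHomogeneous n) : (phi c j₀ p).IsHomogeneous n := by
  have h := IsHomogeneous.aeval (S := k) (n := 1) hp
    (fun j => if j = j₀ then X j₀ - C (c j₀)⁻¹ * lin c else X j) (fun j => by
      split_ifs
      · apply IsHomogeneous.sub (isHomogeneous_X k j₀)
        have := (isHomogeneous_C (Fin 3) (c j₀)⁻¹).mul (lin_homog c)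
        simpa using this
      · exact isHomogeneous_X k j)
  rw [one_mul] at h
  exact h

theorem dvd_sub_phi (c : Fin 3 → k) (j₀ : Fin 3) (p : MvPolynomial (Fin 3) k) :
    lin c ∣ p - phi c j₀ p := by
  induction p using MvPolynomial.induction_on with
  | C a => rw [phi_C, sub_self]; exact dvd_zero _
  | add p q hp hq =>
    rw [map_add]
    have : p + q - (phi c j₀ p + phi c j₀ q) = (p - phi c j₀ p) + (q - phi c j₀ q) := by ring
    rw [this]
    exact dvd_add hp hq
  | mul_X p j hp =>
    rw [map_mul]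
    have : p * X j - phi c j₀ p * phi c j₀ (X j)
        = (p - phi c j₀ p) * X j + phi c j₀ p * (X j - phi c j₀ (X j)) := by ring
    rw [this]
    apply dvd_add (Dvd.dvd.mul_right hp _)
    apply Dvd.dvd.mul_left
    rw [phi_X]
    split_ifs with h
    · subst h
      have : X j - (X j - C (c j)⁻¹ * lin c) = C (c j)⁻¹ * lin c := by ring
      rw [this]
      exact Dvd.intro_left _ rfl
    · rw [sub_self]; exact dvd_zero _

theorem exists_perp (v : Fin 2 → k) : ∃ r : Fin 2 → k, r ≠ 0 ∧ r 0 * v 0 + r 1 * v 1 = 0 := by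
  by_cases hv : v 0 = 0 ∧ v 1 = 0
  · refine ⟨![1, 0], ?_, by simp [hv.1]⟩
    intro h'
    have := congrFun h' 0
    simp at this
  · refine ⟨![v 1, -v 0], ?_, by simp; ring⟩
    intro h'
    apply hv
    have h0 := congrFun h' 0
    have h1 := congrFun h' 1
    simp at h0 h1
    exact ⟨h1, h0⟩

theorem exists_gl_row (r : Fin 2 → k) (hr : r ≠ 0) :
    ∃ g : GL (Fin 2) k, ∀ b, g.val 0 b = r b := by
  by_cases h0 : r 0 = 0
  · have h1 : r 1 ≠ 0 := by
      intro h1
      apply hr
      funext i
      fin_cases i <;> simp [h0, h1]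
    refine ⟨Matrix.GeneralLinearGroup.mkOfDetNeZero !![r 0, r 1; 1, 0] ?_, ?_⟩
    · rw [Matrix.det_fin_two_of]
      simpa using h1
    · intro b
      fin_cases b <;> rfl
  · refine ⟨Matrix.GeneralLinearGroup.mkOfDetNeZero !![r 0, r 1; 0, 1] ?_, ?_⟩
    · rw [Matrix.det_fin_two_of]
      simpa using h0
    · intro b
      fin_cases b <;> rfl

theorem exists_gl_col (c : Fin 2 → k) (hc : c ≠ 0) :
    ∃ h : GL (Fin 2) k, ∀ a, h.val a 1 = c a := by
  by_cases h1 : c 1 = 0
  · have h0 : c 0 ≠ 0 := by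
      intro h0
      apply hc
      funext i
      fin_cases i <;> simp [h0, h1]
    refine ⟨Matrix.GeneralLinearGroup.mkOfDetNeZero !![0, c 0; 1, c 1] ?_, ?_⟩
    · rw [Matrix.det_fin_two_of]
      simpa using h0
    · intro a
      fin_cases a <;> rfl
  · refine ⟨Matrix.GeneralLinearGroup.mkOfDetNeZero !![1, c 0; 0, c 1] ?_, ?_⟩
    · rw [Matrix.det_fin_two_of]
      simpa using h1
    · intro a
      fin_cases a <;> rfl

theorem entry_eq (g h : Matrix (Fin 2) (Fin 2) k) (M : Matrix (Fin 2) (Fin 2) (MvPolynomial (Fin 3) k))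
    (a b : Fin 2) :
    ((C : k →+* MvPolynomial (Fin 3) k).mapMatrix g * M *
        (C : k →+* MvPolynomial (Fin 3) k).mapMatrix h) a b
      = (C (g a 0) * M 0 0 + C (g a 1) * M 1 0) * C (h 0 b)
        + (C (g a 0) * M 0 1 + C (g a 1) * M 1 1) * C (h 1 b) := by
  simp [Matrix.mul_apply, Fin.sum_univ_two]

/-- the forward direction, in terms of a pair of vectors -/
theorem exists_pair [IsAlgClosed k] [CharZero k]
    (M : Matrix (Fin 2) (Fin 2) (MvPolynomial (Fin 3) k))
    (hM : ∀ a b : Fin 2, (M a b).IsHomogeneous 1)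
    (l₁ l₂ : MvPolynomial (Fin 3) k) (h1 : l₁.IsHomogeneous 1)
    (hdet : M 0 0 * M 1 1 - M 0 1 * M 1 0 = l₁ * l₂) :
    ∃ r c : Fin 2 → k, r ≠ 0 ∧ c ≠ 0 ∧
      (C (r 0) * M 0 0 + C (r 1) * M 1 0) * C (c 0)
        + (C (r 0) * M 0 1 + C (r 1) * M 1 1) * C (c 1) = 0 := by
  have h10 : (![1, 0] : Fin 2 → k) ≠ 0 := by
    intro h'
    have := congrFun h' 0
    simp at this
  by_cases hl0 : l₁ = 0
  · rw [hl0, zero_mul, sub_eq_zero] at hdet
    rcases lemmaB M hM hdet with ⟨c, hc0, hc⟩ | ⟨r, hr0, hr⟩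
    · refine ⟨![1, 0], c, h10, hc0, ?_⟩
      have := hc 0
      simp only [Matrix.cons_val_zero, Matrix.cons_val_one, map_one, map_zero, one_mul, zero_mul,
        add_zero]
      linear_combination this
    · refine ⟨r, ![1, 0], hr0, h10, ?_⟩
      have := hr 0
      simp only [Matrix.cons_val_zero, Matrix.cons_val_one, map_one, map_zero, mul_one, mul_zero,
        add_zero]
      exact this
  · obtain ⟨cc, hcc⟩ := Groth.Agent.S12424.linear_form h1
    have hcl : l₁ = lin cc := hcc
    have hcc0 : cc ≠ 0 := by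
      rintro rfl
      apply hl0
      rw [hcl]
      unfold lin
      simp
    obtain ⟨j₀, hj₀⟩ : ∃ j₀, cc j₀ ≠ 0 := by
      by_contra h
      push Not at h
      exact hcc0 (funext h)
    set φ := phi cc j₀ with hφ
    have hφl : φ l₁ = 0 := by rw [hcl]; exact phi_lin cc j₀ hj₀
    have hN : ∀ a b : Fin 2, (M.map φ a b).IsHomogeneous 1 := fun a b => phi_homog cc j₀ (hM a b)
    have hNdet : M.map φ 0 0 * M.map φ 1 1 = M.map φ 0 1 * M.map φ 1 0 := by
      have := congrArg φ hdet
      rw [map_mul, hφl, zero_mul, map_sub, map_mul, map_mul, sub_eq_zero] at this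
      exact this
    have hkey : ∀ m : MvPolynomial (Fin 3) k, m.IsHomogeneous 1 → φ m = 0 →
        ∃ a : k, m = C a * l₁ := by
      intro m hm hφm
      apply const_mul_of_dvd h1 hl0 hm
      have := dvd_sub_phi cc j₀ m
      rw [← hφ, hφm, sub_zero, ← hcl] at this
      exact this
    have hCm : ∀ (x : k) (m : MvPolynomial (Fin 3) k), m.IsHomogeneous 1 →
        (C x * m).IsHomogeneous 1 := by
      intro x m hm
      have := (isHomogeneous_C (Fin 3) x).mul hm
      simpa using this
    have hmC : ∀ (x : k) (m : MvPolynomial (Fin 3) k), m.IsHomogeneous 1 →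
        (m * C x).IsHomogeneous 1 := by
      intro x m hm
      have := hm.mul (isHomogeneous_C (Fin 3) x)
      simpa using this
    rcases lemmaB (M.map φ) hN hNdet with ⟨c, hc0, hc⟩ | ⟨r, hr0, hr⟩
    · have hv : ∀ a, ∃ v : k, M a 0 * C (c 0) + M a 1 * C (c 1) = C v * l₁ := by
        intro a
        apply hkey _ ((hmC _ _ (hM a 0)).add (hmC _ _ (hM a 1)))
        have := hc a
        simp only [Matrix.map_apply] at this
        rw [map_add, map_mul, map_mul, hφ, phi_C, phi_C]
        exact this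
      choose v hv using hv
      obtain ⟨r, hr0, hr⟩ := exists_perp v
      refine ⟨r, c, hr0, hc0, ?_⟩
      have e : (C (r 0) * M 0 0 + C (r 1) * M 1 0) * C (c 0)
          + (C (r 0) * M 0 1 + C (r 1) * M 1 1) * C (c 1)
          = C (r 0) * (M 0 0 * C (c 0) + M 0 1 * C (c 1))
            + C (r 1) * (M 1 0 * C (c 0) + M 1 1 * C (c 1)) := by ring
      rw [e, hv 0, hv 1]
      have : C (r 0) * (C (v 0) * l₁) + C (r 1) * (C (v 1) * l₁)
          = C (r 0 * v 0 + r 1 * v 1) * l₁ := by
        rw [C_add, C_mul, C_mul]; ring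
      rw [this, hr, C_0, zero_mul]
    · have hw : ∀ b, ∃ w : k, C (r 0) * M 0 b + C (r 1) * M 1 b = C w * l₁ := by
        intro b
        apply hkey _ ((hCm _ _ (hM 0 b)).add (hCm _ _ (hM 1 b)))
        have := hr b
        simp only [Matrix.map_apply] at this
        rw [map_add, map_mul, map_mul, hφ, phi_C, phi_C]
        exact this
      choose w hw using hw
      obtain ⟨c, hc0, hc⟩ := exists_perp w
      refine ⟨r, c, hr0, hc0, ?_⟩
      rw [hw 0, hw 1]
      have : C (w 0) * l₁ * C (c 0) + C (w 1) * l₁ * C (c 1)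
          = C (c 0 * w 0 + c 1 * w 1) * l₁ := by
        rw [C_add, C_mul, C_mul]; ring
      rw [this, hc, C_0, zero_mul]

end hh


end helpers

/-- Over an algebraically closed field k of characteristic zero, for a 2 × 2 matrix M of linear forms in
k[X_0, X_1, X_2] (entries homogeneous of degree 1, zero allowed), det M is a product of two linear
forms if and only if M can be brought by invertible scalar row and column operations g M h, with g,
h in GL_2(k), to a matrix with zero upper-right entry. (The published statement concerns matrices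
with nonzero determinant; this row also allows determinant zero, where both sides hold.) -/
theorem result (k : Type u) [Field k] [IsAlgClosed k] [CharZero k]
    (M : Matrix (Fin 2) (Fin 2) (MvPolynomial (Fin 3) k)) (hM : ∀ a b : Fin 2, (M a b).IsHomogeneous 1) :
    (∃ l₁ l₂ : MvPolynomial (Fin 3) k, l₁.IsHomogeneous 1 ∧ l₂.IsHomogeneous 1 ∧ M.det = l₁ * l₂) ↔
    ∃ g h : GL (Fin 2) k,
      ((MvPolynomial.C : k →+* MvPolynomial (Fin 3) k).mapMatrix g.val * M *
        (MvPolynomial.C : k →+* MvPolynomial (Fin 3) k).mapMatrix h.val) 0 1 = 0 := by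
  constructor
  · rintro ⟨l₁, l₂, h1, _, hdet⟩
    rw [Matrix.det_fin_two] at hdet
    obtain ⟨r, c, hr0, hc0, hrc⟩ := exists_pair M hM l₁ l₂ h1 hdet
    obtain ⟨g, hg⟩ := exists_gl_row r hr0
    obtain ⟨h, hh⟩ := exists_gl_col c hc0
    refine ⟨g, h, ?_⟩
    rw [entry_eq, hg 0, hg 1, hh 0, hh 1]
    exact hrc
  · rintro ⟨g, h, hgh⟩
    set N := (MvPolynomial.C : k →+* MvPolynomial (Fin 3) k).mapMatrix g.val * M *
        (MvPolynomial.C : k →+* MvPolynomial (Fin 3) k).mapMatrix h.val with hN
    have hNh : ∀ a b, (N a b).IsHomogeneous 1 := by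
      intro a b
      rw [hN, entry_eq]
      have hCm : ∀ (x : k) (m : MvPolynomial (Fin 3) k), m.IsHomogeneous 1 →
          (MvPolynomial.C x * m).IsHomogeneous 1 := by
        intro x m hm
        have := (MvPolynomial.isHomogeneous_C (Fin 3) x).mul hm
        simpa using this
      have hmC : ∀ (x : k) (m : MvPolynomial (Fin 3) k), m.IsHomogeneous 1 →
          (m * MvPolynomial.C x).IsHomogeneous 1 := by
        intro x m hm
        have := hm.mul (MvPolynomial.isHomogeneous_C (Fin 3) x)
        simpa using this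
      exact (hmC _ _ ((hCm _ _ (hM 0 0)).add (hCm _ _ (hM 1 0)))).add
        (hmC _ _ ((hCm _ _ (hM 0 1)).add (hCm _ _ (hM 1 1))))
    have hdetN : N.det = MvPolynomial.C (g.val.det * h.val.det) * M.det := by
      rw [hN, Matrix.det_mul, Matrix.det_mul, ← RingHom.map_det, ← RingHom.map_det, map_mul]
      ring
    have hdetN2 : N.det = N 0 0 * N 1 1 := by
      rw [Matrix.det_fin_two, hgh, zero_mul, sub_zero]
    have hu : g.val.det * h.val.det ≠ 0 := by
      apply mul_ne_zero
      · exact (Matrix.isUnit_iff_isUnit_det _).mp g.isUnit |>.ne_zero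
      · exact (Matrix.isUnit_iff_isUnit_det _).mp h.isUnit |>.ne_zero
    refine ⟨MvPolynomial.C (g.val.det * h.val.det)⁻¹ * N 0 0, N 1 1, ?_, hNh 1 1, ?_⟩
    · have := (MvPolynomial.isHomogeneous_C (Fin 3) (g.val.det * h.val.det)⁻¹).mul (hNh 0 0)
      simpa using this
    · have hcc : MvPolynomial.C (g.val.det * h.val.det)⁻¹ * MvPolynomial.C (g.val.det * h.val.det)
          = (1 : MvPolynomial (Fin 3) k) := by
        rw [← MvPolynomial.C_mul, inv_mul_cancel₀ hu, MvPolynomial.C_1]
      calc M.det = (MvPolynomial.C (g.val.det * h.val.det)⁻¹ * MvPolynomial.C (g.val.det * h.val.det))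
            * M.det := by rw [hcc, one_mul]
        _ = MvPolynomial.C (g.val.det * h.val.det)⁻¹ * N.det := by rw [hdetN]; ring
        _ = MvPolynomial.C (g.val.det * h.val.det)⁻¹ * N 0 0 * N 1 1 := by rw [hdetN2]; ring

end Groth.Agent.S13912
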