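import Groth.Statements.S13916
import Mathlib

set_option autoImplicit false
universe u
open PlaneConic

namespace Groth.Agent.S13916


open MvPolynomial in
theorem part1 (k : Type u) [Field k] (g h : Matrix (Fin 2) (Fin 2) k)
   (H : (MvPolynomial.C : k →+* MvPolynomial (Fin 3) k).mapMatrix g *
          !![MvPolynomial.X 1, 0; MvPolynomial.X 0, MvPolynomial.X 2] *
        (MvPolynomial.C : k →+* MvPolynomial (Fin 3) k).mapMatrix h =
      !![MvPolynomial.X 2, 0; MvPolynomial.X 0, MvPolynomial.X 1]) : False := by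
  have h10 := congrFun (congrFun H 1) 0
  have h11 := congrFun (congrFun H 1) 1
  simp [Matrix.mul_apply, Fin.sum_univ_two] at h10 h11
  have e1 := congrArg (MvPolynomial.eval ![(1:k),0,0]) h10
  have e2 := congrArg (MvPolynomial.eval ![(1:k),0,0]) h11
  have e3 := congrArg (MvPolynomial.eval ![(0:k),1,0]) h11
  simp at e1 e2 e3
  rcases e2 with e2 | e2
  · rw [e2] at e1; simp at e1
  · rw [e2] at e3; simp at e3

open MvPolynomial in
theorem part2 (k : Type u) [Field k] (α β γ : k) (hα : α ≠ 0) : ∃ g h : GL (Fin 2) k,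
      (MvPolynomial.C : k →+* MvPolynomial (Fin 3) k).mapMatrix g.val *
          !![MvPolynomial.X 1, 0;
             MvPolynomial.C α * MvPolynomial.X 0 + MvPolynomial.C β * MvPolynomial.X 1 + MvPolynomial.C γ * MvPolynomial.X 2,
             MvPolynomial.X 2] *
        (MvPolynomial.C : k →+* MvPolynomial (Fin 3) k).mapMatrix h.val =
      !![MvPolynomial.X 1, 0; MvPolynomial.X 0, MvPolynomial.X 2] := by
  refine ⟨Matrix.GeneralLinearGroup.mkOfDetNeZero !![1, 0; -β/α, 1/α] ?_,
          Matrix.GeneralLinearGroup.mkOfDetNeZero !![1, 0; -γ, α] ?_, ?_⟩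
  · simp [Matrix.det_fin_two, hα]
  · simp [Matrix.det_fin_two, hα]
  · have ha : (C α⁻¹ : MvPolynomial (Fin 3) k) * C α = 1 := by
      rw [← C_mul, inv_mul_cancel₀ hα, C_1]
    refine Matrix.ext fun i j => ?_
    fin_cases i <;> fin_cases j <;>
      simp [Matrix.mul_apply, Fin.sum_univ_two, Matrix.GeneralLinearGroup.mkOfDetNeZero, div_eq_mul_inv]
    · linear_combination (X 0) * ha
    · linear_combination (X 2) * ha


/-- Over an algebraically closed field k of characteristic zero, with u_0, u_1, u_2 the coordinate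
linear forms of k[X_0, X_1, X_2] and 2 × 2 matrices of linear forms compared up to M ↦ g M h with g,
h invertible scalar matrices: (1) the matrices with rows (u_1, 0), (u_0, u_2) and (u_2, 0), (u_0,
u_1) are not equivalent; (2) for α ≠ 0 the matrix with rows (u_1, 0), (αu_0 + βu_1 + γu_2, u_2) is
equivalent to the one with rows (u_1, 0), (u_0, u_2). -/
theorem result (k : Type u) [Field k] [IsAlgClosed k] [CharZero k] :
    (¬ ∃ g h : GL (Fin 2) k,
      (MvPolynomial.C : k →+* MvPolynomial (Fin 3) k).mapMatrix g.val *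
          !![MvPolynomial.X 1, 0; MvPolynomial.X 0, MvPolynomial.X 2] *
        (MvPolynomial.C : k →+* MvPolynomial (Fin 3) k).mapMatrix h.val =
      !![MvPolynomial.X 2, 0; MvPolynomial.X 0, MvPolynomial.X 1]) ∧
    (∀ α β γ : k, α ≠ 0 → ∃ g h : GL (Fin 2) k,
      (MvPolynomial.C : k →+* MvPolynomial (Fin 3) k).mapMatrix g.val *
          !![MvPolynomial.X 1, 0;
             MvPolynomial.C α * MvPolynomial.X 0 + MvPolynomial.C β * MvPolynomial.X 1 + MvPolynomial.C γ * MvPolynomial.X 2,
             MvPolynomial.X 2] *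
        (MvPolynomial.C : k →+* MvPolynomial (Fin 3) k).mapMatrix h.val =
      !![MvPolynomial.X 1, 0; MvPolynomial.X 0, MvPolynomial.X 2]) := by
  refine ⟨?_, fun α β γ hα => part2 k α β γ hα⟩
  rintro ⟨g, h, H⟩
  exact part1 k g.val h.val H

end Groth.Agent.S13916
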