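import Groth.Statements.S13918
import Mathlib
import Groth.Agent.Lib.Helper6.Pencil

set_option autoImplicit false
universe u
open W4c1limliniiii

namespace Groth.Agent.S13918

open Groth.Agent.Lib.helper6.Pencil Polynomial in
theorem main {k : Type u} [Field k] [IsAlgClosed k]
    (p : ℕ) (d : ℕ) (P : Fin 3 → k) (hP : Function.Injective P)
    (e : Fin 3 → ℕ) (he : W4c1limliniiii.Admissible p d e) :
    (W4c1limliniiii.ramMaps d P e).Subsingleton ∧
      (W4c1limliniiii.ramMaps d P e = ∅ ↔
        ∃ V : Submodule k k[X], V ≤ Polynomial.degreeLE k d ∧ Module.finrank k V = 2 ∧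
          ¬ W4c1limliniiii.IsSeparable V ∧
          ∀ i, ∃ s ∈ V, s ≠ 0 ∧ e i ≤ Polynomial.rootMultiplicity (P i) s) := by
  have hn : Num d e := num_of_admissible he
  have huniq : ∀ (V V' : Submodule k k[X]), V ≤ Polynomial.degreeLE k d → Module.finrank k V = 2 →
      (∀ i, ∃ s ∈ V, s ≠ 0 ∧ e i ≤ Polynomial.rootMultiplicity (P i) s) →
      V' ∈ W4c1limliniiii.ramMaps d P e → V = V' := by
    intro V V' hVle hfr hsec hV'
    have hV'' : W4c1limliniiii.IsPencil d V' ∧ W4c1limliniiii.IsSeparable V' ∧
        ∀ i, W4c1limliniiii.HasRamIdx V' (P i) (e i) := hV'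
    obtain ⟨⟨hle', hfr', hdeg', hbpf'⟩, -, hram'⟩ := hV''
    obtain ⟨F1, G1, h1, hne1, hsp1⟩ := exists_sol_of_sections hP hn hVle hfr hsec
    obtain ⟨F2, G2, h2, hne2, hsp2⟩ :=
      exists_sol_of_sections hP hn hle' hfr' (fun i => (hram' i).1)
    rw [← hsp1, ← hsp2]
    apply span_eq_of_sol hP hn h1 hne1 h2 hne2
    · apply coprime_of_bpf
      rw [hsp2]
      exact hbpf'
    · rw [hsp2]
      exact hdeg'
  refine ⟨?_, ?_, ?_⟩
  · intro V hV V' hV'
    have hV'' : W4c1limliniiii.IsPencil d V ∧ W4c1limliniiii.IsSeparable V ∧
        ∀ i, W4c1limliniiii.HasRamIdx V (P i) (e i) := hV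
    obtain ⟨⟨hle, hfr, -, -⟩, -, hram⟩ := hV''
    exact huniq V V' hle hfr (fun i => (hram i).1) hV'
  · intro hempty
    obtain ⟨F, G, hs, hne⟩ := exists_sol hn P
    refine ⟨Submodule.span k ({F, G} : Set k[X]), span_le_degreeLE hs,
      sol_finrank hP hn hs hne, ?_, sections_of_sol hP hn hs hne⟩
    intro hsep
    have := mem_ramMaps_of_sol hP hn hs hne hsep
    rw [hempty] at this
    exact this
  · rintro ⟨V, hVle, hfr, hinsep, hsec⟩
    rw [Set.eq_empty_iff_forall_notMem]
    intro V' hV'
    have hVV' : V = V' := huniq V V' hVle hfr hsec hV'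
    have hV'' : W4c1limliniiii.IsPencil d V' ∧ W4c1limliniiii.IsSeparable V' ∧
        ∀ i, W4c1limliniiii.HasRamIdx V' (P i) (e i) := hV'
    exact hinsep (hVV' ▸ hV''.2.1)



open Polynomial in
/-- Over an algebraically closed field of characteristic p (zero allowed), fix three distinct points of
the affine line, an integer d and ramification indices e_i with 2 ≤ e_i ≤ d, each e_i prime to p,
and ∑ (e_i − 1) = 2d − 2. Then there is at most one separable self-map of the projective line of
degree d, taken up to automorphisms of the target, with ramification index exactly e_i at the i-th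
point — such maps being encoded as base-point-free separable pencils of polynomials of degree at
most d — and there is none precisely when some two-dimensional space of polynomials of degree at
most d with identically vanishing Wronskian contains, for each i, a non-zero member vanishing to
order at least e_i at the i-th point (an inseparable pencil, base points allowed, with at least the
required ramification). (The three points are taken on the affine line, which is no restriction up
to a change of coordinate; the assertion that the solution, when it exists, is a reduced point of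
the parameter scheme is not restated.) -/
theorem result (k : Type u) [Field k] [IsAlgClosed k]
    (p : ℕ) [CharP k p] (d : ℕ) (P : Fin 3 → k) (hP : Function.Injective P)
    (e : Fin 3 → ℕ) (he : W4c1limliniiii.Admissible p d e) :
    (W4c1limliniiii.ramMaps d P e).Subsingleton ∧
      (W4c1limliniiii.ramMaps d P e = ∅ ↔
        ∃ V : Submodule k k[X], V ≤ Polynomial.degreeLE k d ∧ Module.finrank k V = 2 ∧
          ¬ W4c1limliniiii.IsSeparable V ∧
          ∀ i, ∃ s ∈ V, s ≠ 0 ∧ e i ≤ Polynomial.rootMultiplicity (P i) s) := by
  exact main p d P hP e he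


end Groth.Agent.S13918
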