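import Groth.Statements.S13919
import Mathlib
import Groth.Agent.Lib.Helper6.Pencil
import Groth.Agent.S13918

set_option autoImplicit false
universe u
open W4c1limliniiii

namespace Groth.Agent.S13919

open Polynomial in
lemma natDegree_eq_zero_of_derivative_eq_zero_small {k : Type u} [Field k] {p d : ℕ} [CharP k p]
    (hp : p = 0 ∨ d < p) {f : k[X]} (hf : f.natDegree ≤ d) (h : derivative f = 0) :
    f.natDegree = 0 := by
  by_contra hne
  have hn : 1 ≤ f.natDegree := Nat.one_le_iff_ne_zero.mpr hne
  have hf0 : f ≠ 0 := by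
    rintro rfl
    exact hne natDegree_zero
  have hc : (derivative f).coeff (f.natDegree - 1) = 0 := by rw [h, coeff_zero]
  rw [coeff_derivative, Nat.sub_add_cancel hn] at hc
  have hcast : ((f.natDegree - 1 : ℕ) : k) + 1 = ((f.natDegree : ℕ) : k) := by
    rw [← Nat.cast_add_one, Nat.sub_add_cancel hn]
  rw [hcast] at hc
  rcases mul_eq_zero.mp hc with h1 | h1
  · exact (leadingCoeff_ne_zero.mpr hf0) h1
  · rw [CharP.cast_eq_zero_iff k p] at h1
    rcases hp with rfl | hp
    · rw [zero_dvd_iff] at h1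
      omega
    · have := Nat.le_of_dvd (by omega) h1
      omega

open Polynomial in
lemma wronskian_ne_zero_small {k : Type u} [Field k] {p d : ℕ} [CharP k p] (hp : p = 0 ∨ d < p)
    {F G : k[X]} (hF : F.natDegree ≤ d) (hG : G.natDegree ≤ d) (hF0 : F ≠ 0)
    (hind : ∀ a : k, a • F ≠ G) : wronskian F G ≠ 0 := by
  classical
  intro hW
  have hG0 : G ≠ 0 := fun h => hind 0 (by rw [zero_smul, h])
  obtain ⟨g, hg⟩ : ∃ g, g = EuclideanDomain.gcd F G := ⟨_, rfl⟩
  have hg0 : g ≠ 0 := by
    intro h
    rw [hg] at h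
    exact hF0 ((EuclideanDomain.gcd_eq_zero_iff.mp h).1)
  obtain ⟨F1, hF1⟩ := EuclideanDomain.gcd_dvd_left F G
  obtain ⟨G1, hG1⟩ := EuclideanDomain.gcd_dvd_right F G
  have hbez := EuclideanDomain.gcd_eq_gcd_ab F G
  rw [← hg] at hF1 hG1 hbez
  have hcop : IsCoprime F1 G1 := by
    refine ⟨EuclideanDomain.gcdA F G, EuclideanDomain.gcdB F G, ?_⟩
    apply mul_left_cancel₀ hg0
    rw [mul_one]
    calc g * (EuclideanDomain.gcdA F G * F1 + EuclideanDomain.gcdB F G * G1)
        = (g * F1) * EuclideanDomain.gcdA F G + (g * G1) * EuclideanDomain.gcdB F G := by ring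
      _ = g := by rw [← hF1, ← hG1]; exact hbez.symm
  have hWfac : wronskian (g * F1) (g * G1) = g ^ 2 * wronskian F1 G1 := by
    simp only [wronskian, derivative_mul]
    ring
  have hW1 : wronskian F1 G1 = 0 := by
    rw [hF1, hG1, hWfac] at hW
    rcases mul_eq_zero.mp hW with h | h
    · exact absurd (eq_zero_of_pow_eq_zero h) hg0
    · exact h
  obtain ⟨dF1, dG1⟩ := hcop.wronskian_eq_zero_iff.mp hW1
  have hF1deg : F1.natDegree ≤ d :=
    (natDegree_le_of_dvd (Dvd.intro_left g hF1.symm) hF0).trans hF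
  have hG1deg : G1.natDegree ≤ d :=
    (natDegree_le_of_dvd (Dvd.intro_left g hG1.symm) hG0).trans hG
  have zF := natDegree_eq_zero_of_derivative_eq_zero_small hp hF1deg dF1
  have zG := natDegree_eq_zero_of_derivative_eq_zero_small hp hG1deg dG1
  obtain ⟨a, rfl⟩ : ∃ a, F1 = C a := ⟨_, eq_C_of_natDegree_eq_zero zF⟩
  obtain ⟨b, rfl⟩ : ∃ b, G1 = C b := ⟨_, eq_C_of_natDegree_eq_zero zG⟩
  have ha : a ≠ 0 := by
    intro h
    apply hF0
    rw [hF1, h, C_0, mul_zero]
  apply hind (b / a)
  rw [hF1, hG1, smul_eq_C_mul]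
  calc C (b / a) * (g * C a) = g * (C (b / a) * C a) := by ring
    _ = g * C b := by rw [← C_mul, div_mul_cancel₀ _ ha]

open Groth.Agent.Lib.helper6.Pencil Polynomial in
theorem main {k : Type u} [Field k] [IsAlgClosed k]
    (p : ℕ) [CharP k p] (d : ℕ) (P : Fin 3 → k) (hP : Function.Injective P)
    (e : Fin 3 → ℕ) (he : W4c1limliniiii.Admissible p d e) :
    (p ≠ 0 → e 0 < p → e 1 < p → p ≤ d → W4c1limliniiii.ramMaps d P e = ∅) ∧
      (p = 0 ∨ d < p → ∃ V : Submodule k k[X], W4c1limliniiii.ramMaps d P e = {V}) := by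
  have hn : Num d e := num_of_admissible he
  have h18 := Groth.Agent.S13918.result k p d P hP e he
  have h01 : P 0 ≠ P 1 := hP.ne (by decide)
  have h02 : P 0 ≠ P 2 := hP.ne (by decide)
  have h12 : P 1 ≠ P 2 := hP.ne (by decide)
  have l2 := hn.le 2
  constructor
  · intro hp0 he0 he1 hpd
    rw [h18.2]
    have hprime : p.Prime := (CharP.char_is_prime_or_zero k p).resolve_right hp0
    have : Fact p.Prime := ⟨hprime⟩
    have hY : ∀ a : k, (X - C a) ^ p = (X : k[X]) ^ p - C (a ^ p) := fun a => by
      rw [sub_pow_char, ← C_pow]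
    have hd : ∀ a : k, derivative ((X - C a) ^ p : k[X]) = 0 := fun a => by
      rw [derivative_X_sub_C_pow, CharP.cast_eq_zero k p, C_0, zero_mul]
    obtain ⟨U, hU⟩ : ∃ U : k[X], U = (X - C (P 2)) ^ (e 2 - p) := ⟨_, rfl⟩
    obtain ⟨F, hFdef⟩ : ∃ F : k[X], F = U * (C (P 2 ^ p - P 1 ^ p) * (X - C (P 0)) ^ p) :=
      ⟨_, rfl⟩
    obtain ⟨G, hGdef⟩ : ∃ G : k[X], G = U * (C (P 0 ^ p - P 2 ^ p) * (X - C (P 1)) ^ p) :=
      ⟨_, rfl⟩
    have hsum : F + G = C (P 0 ^ p - P 1 ^ p) * ((X - C (P 2)) ^ (e 2 - p) * (X - C (P 2)) ^ p) := by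
      rw [hFdef, hGdef, hU, hY, hY, hY]
      simp only [map_sub]
      ring
    have hα : P 2 ^ p - P 1 ^ p ≠ 0 := by
      rw [← sub_pow_char]
      exact pow_ne_zero _ (sub_ne_zero.mpr h12.symm)
    have hU0 : U ≠ 0 := by rw [hU]; exact lin_pow_ne_zero _ _
    have hUdeg : U.natDegree ≤ e 2 - p := by rw [hU]; exact (natDegree_lin_pow _ _).le
    have hs : Sol d P e F G :=
      { degF := by
          rw [hFdef]
          exact (natDegree_mul_le_of_le hUdeg ((natDegree_C_mul_le _ _).trans
            (natDegree_lin_pow _ _).le)).trans (by omega)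
        degG := by
          rw [hGdef]
          exact (natDegree_mul_le_of_le hUdeg ((natDegree_C_mul_le _ _).trans
            (natDegree_lin_pow _ _).le)).trans (by omega)
        dvdF := by
          rw [hFdef]
          exact Dvd.dvd.mul_left (Dvd.dvd.mul_left (pow_dvd_pow _ he0.le) _) _
        dvdG := by
          rw [hGdef]
          exact Dvd.dvd.mul_left (Dvd.dvd.mul_left (pow_dvd_pow _ he1.le) _) _
        dvdH := by
          rw [hsum, ← pow_add]
          exact Dvd.dvd.mul_left (pow_dvd_pow _ (by omega)) _ }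
    have hne : F ≠ 0 ∨ G ≠ 0 := by
      left
      rw [hFdef]
      exact mul_ne_zero hU0 (mul_ne_zero (C_ne_zero.mpr hα) (lin_pow_ne_zero _ _))
    have hWFG : wronskian F G = 0 := by
      rw [hFdef, hGdef]
      simp only [wronskian, derivative_mul, derivative_C, hd, zero_mul, mul_zero, add_zero]
      ring
    refine ⟨Submodule.span k ({F, G} : Set k[X]), span_le_degreeLE hs, sol_finrank hP hn hs hne,
      ?_, sections_of_sol hP hn hs hne⟩
    rintro ⟨F', hF', G', hG', hW⟩
    obtain ⟨a, b, rfl⟩ := Submodule.mem_span_pair.mp hF'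
    obtain ⟨c, e', rfl⟩ := Submodule.mem_span_pair.mp hG'
    apply hW
    rw [wronskian_comb, hWFG, mul_zero]
  · intro hp
    have hnonempty : (W4c1limliniiii.ramMaps d P e).Nonempty := by
      rw [Set.nonempty_iff_ne_empty]
      intro hempty
      obtain ⟨V, hVle, hfr, hinsep, hsec⟩ := h18.2.mp hempty
      obtain ⟨F, G, hs, hne, hsp⟩ := exists_sol_of_sections hP hn hVle hfr hsec
      apply hinsep
      rw [← hsp]
      have hind := sol_indep hP hn hs hne
      obtain ⟨hF0, -, -⟩ := sol_ne hP hn hs hne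
      rw [LinearIndependent.pair_iff' hF0] at hind
      exact ⟨F, Submodule.subset_span (by simp), G, Submodule.subset_span (by simp),
        wronskian_ne_zero_small hp hs.degF hs.degG hF0 hind⟩
    obtain ⟨V, hV⟩ := hnonempty
    exact ⟨V, h18.1.eq_singleton_of_mem hV⟩



open Polynomial in
/-- Over an algebraically closed field of characteristic p (zero allowed), fix three distinct points of
the affine line and indices 2 ≤ e_i ≤ d prime to p with ∑ (e_i − 1) = 2d − 2, and encode self-maps
of the projective line up to automorphisms of the target as base-point-free separable pencils of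
polynomials of degree at most d. If p is positive, the first two indices are less than p and p ≤ d,
then there is no separable degree-d self-map of the projective line with ramification index exactly
e_i at the i-th point; if p = 0 or d < p there is exactly one up to automorphisms of the target.
(The first clause includes the case d = p; with it, when all e_i are less than p, the three-point
count is one map if p = 0 or p > d and none otherwise.) -/
theorem result (k : Type u) [Field k] [IsAlgClosed k]
    (p : ℕ) [CharP k p] (d : ℕ) (P : Fin 3 → k) (hP : Function.Injective P)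
    (e : Fin 3 → ℕ) (he : W4c1limliniiii.Admissible p d e) :
    (p ≠ 0 → e 0 < p → e 1 < p → p ≤ d → W4c1limliniiii.ramMaps d P e = ∅) ∧
      (p = 0 ∨ d < p → ∃ V : Submodule k k[X], W4c1limliniiii.ramMaps d P e = {V}) := by
  exact main p d P hP e he


end Groth.Agent.S13919
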