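import Groth.Statements.S19560
import Mathlib.Algebra.Polynomial.RingDivision
import Mathlib.Algebra.Polynomial.FieldDivision

set_option autoImplicit false
universe u
open W4c1limliniiii

namespace Groth.Agent.S19560

open Polynomial in
/-- Factorisation of the Wronskian of `F` and `t = (X - a)^m * u` (with `m ≥ 1`). -/
theorem wronskian_factor {k : Type u} [Field k] (F u : k[X]) (a : k) (m : ℕ) (hm : 1 ≤ m) :
    wronskian F ((X - C a) ^ m * u) =
      (X - C a) ^ (m - 1) *
        (C (m : k) * F * u + (X - C a) * (F * derivative u - derivative F * u)) := by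
  obtain ⟨n, rfl⟩ : ∃ n, m = n + 1 := ⟨m - 1, by omega⟩
  simp only [wronskian, derivative_mul, derivative_X_sub_C_pow, Nat.add_sub_cancel]
  rw [pow_succ]
  ring

open Polynomial in
/-- Root multiplicity of the Wronskian of `F` and `t` at a point `a` where `F a ≠ 0`, `t a = 0`. -/
theorem rootMultiplicity_wronskian {k : Type u} [Field k] (F t : k[X]) (a : k)
    (hF : F.eval a ≠ 0) (hta : t.eval a = 0)
    (hW : wronskian F t ≠ 0) :
    1 ≤ rootMultiplicity a t ∧
    (((rootMultiplicity a t : ℕ) : k) ≠ 0 →
      rootMultiplicity a (wronskian F t) + 1 = rootMultiplicity a t) ∧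
    (((rootMultiplicity a t : ℕ) : k) = 0 →
      rootMultiplicity a t ≤ rootMultiplicity a (wronskian F t)) := by
  have ht : t ≠ 0 := by
    rintro rfl
    exact hW (wronskian_zero_right F)
  have hm : 1 ≤ rootMultiplicity a t := by
    have : 0 < rootMultiplicity a t := (rootMultiplicity_pos ht).mpr hta
    omega
  obtain ⟨u, hu, hdvd⟩ := exists_eq_pow_rootMultiplicity_mul_and_not_dvd t ht a
  set m := rootMultiplicity a t with hmdef
  have hua : u.eval a ≠ 0 := by
    intro h
    exact hdvd (dvd_iff_isRoot.mpr h)
  have hfac := wronskian_factor F u a m hm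
  rw [← hu] at hfac
  refine ⟨hm, ?_, ?_⟩
  · intro hmk
    set B := C (m : k) * F * u + (X - C a) * (F * derivative u - derivative F * u) with hB
    have hBa : B.eval a ≠ 0 := by
      simp only [hB, eval_add, eval_mul, eval_C, eval_sub, eval_X, sub_self, zero_mul, add_zero]
      exact mul_ne_zero (mul_ne_zero hmk hF) hua
    have hBroot : rootMultiplicity a B = 0 := rootMultiplicity_eq_zero hBa
    have hne : (X - C a) ^ (m - 1) * B ≠ 0 := by rw [← hfac]; exact hW
    rw [hfac, rootMultiplicity_mul hne, rootMultiplicity_X_sub_C_pow, hBroot]
    omega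
  · intro hmk
    rw [le_rootMultiplicity_iff hW, hfac, hmk]
    refine ⟨F * derivative u - derivative F * u, ?_⟩
    have : (X - C a) ^ m = (X - C a) ^ (m - 1) * (X - C a) := by
      rw [← pow_succ]; congr 1; omega
    rw [this]
    simp only [map_zero, zero_mul, zero_add]
    ring

open Polynomial in
/-- Let k be an algebraically closed field of characteristic p (a prime or zero) and let F, G be
polynomials spanning a base-point-free pencil V of degree d (a two-dimensional space of polynomials
of degree at most d containing one of degree d and with no common zero in k), so that V encodes a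
degree-d self-map F/G of the projective line up to automorphisms of the target. Suppose the
Wronskian W = F′G − FG′ is non-zero and vanishes at the point a to order exactly e − 1 with e ≥ 1,
and that p = 0 or e − 1 < p. Then the map is tamely ramified at a with index e: the largest order of
vanishing at a of a non-zero member of V is e, and p does not divide e. (The hypothesis W ≠ 0 makes
the order of vanishing meaningful; for W = 0 the map is inseparable.) -/
theorem result
    (k : Type u) [Field k] [IsAlgClosed k] (p : ℕ) [CharP k p]
    (d : ℕ) (F G : k[X]) (hV : W4c1limliniiii.IsPencil d (Submodule.span k {F, G}))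
    (hW : Polynomial.wronskian F G ≠ 0) (a : k) (e : ℕ)
    (he : (Polynomial.wronskian F G).rootMultiplicity a + 1 = e) (hp : p = 0 ∨ e - 1 < p) :
    W4c1limliniiii.HasRamIdx (Submodule.span k {F, G}) a e ∧ ¬ p ∣ e := by
  classical
  set V := Submodule.span k ({F, G} : Set k[X]) with hVdef
  -- a member not vanishing at `a`
  obtain ⟨s0, hs0V, hs0a⟩ := hV.2.2.2 a
  obtain ⟨α, β, hs0⟩ := Submodule.mem_span_pair.mp hs0V
  set fa := F.eval a with hfa
  set ga := G.eval a with hga
  have hs0a' : α * fa + β * ga ≠ 0 := by
    have : s0.eval a = α * fa + β * ga := by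
      rw [← hs0]; simp [eval_add, eval_smul, hfa, hga]
    rwa [this] at hs0a
  set c := α * fa + β * ga with hc
  -- the member vanishing at `a`
  set t : k[X] := C fa * G - C ga * F with ht
  have htV : t ∈ V := by
    rw [ht]
    refine Submodule.sub_mem _ ?_ ?_
    · rw [← smul_eq_C_mul]; exact Submodule.smul_mem _ _ (Submodule.subset_span (by simp))
    · rw [← smul_eq_C_mul]; exact Submodule.smul_mem _ _ (Submodule.subset_span (by simp))
  have hta : t.eval a = 0 := by
    simp [ht, eval_sub, eval_mul, eval_C, hfa, hga]; ring
  have hs0' : s0 = C α * F + C β * G := by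
    rw [← hs0, smul_eq_C_mul, smul_eq_C_mul]
  have hwr : wronskian s0 t = C c * wronskian F G := by
    rw [hs0', ht]
    simp only [wronskian, derivative_add, derivative_sub, derivative_mul, derivative_C, zero_mul,
      zero_add, hc, map_add, map_mul]
    ring
  have hwr0 : wronskian s0 t ≠ 0 := by
    rw [hwr]; exact mul_ne_zero (by simpa using hs0a') hW
  have hroot : rootMultiplicity a (wronskian s0 t) = rootMultiplicity a (wronskian F G) := by
    rw [hwr, rootMultiplicity_mul (by rw [← hwr]; exact hwr0), rootMultiplicity_C, zero_add]
  have hs0a2 : s0.eval a ≠ 0 := hs0a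
  obtain ⟨hm1, hcase1, hcase2⟩ := rootMultiplicity_wronskian s0 t a hs0a2 hta hwr0
  set m := rootMultiplicity a t with hm
  have ht0 : t ≠ 0 := by
    rintro h
    rw [h] at hwr0
    exact hwr0 (wronskian_zero_right s0)
  -- the ramification index of the pencil is `m`
  have hram : W4c1limliniiii.HasRamIdx V a m := by
    refine ⟨⟨t, htV, ht0, le_rfl⟩, ?_⟩
    intro s hsV hs0ne
    obtain ⟨x, y, hs⟩ := Submodule.mem_span_pair.mp hsV
    by_cases hsa : s.eval a = 0
    · -- then `c • s = (y α - x β) • t`
      have hsa' : x * fa + y * ga = 0 := by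
        have : s.eval a = x * fa + y * ga := by
          rw [← hs]; simp [eval_add, eval_smul, hfa, hga]
        rwa [this] at hsa
      have hrel : C c * s = C (y * α - x * β) * t := by
        rw [← hs, ht, smul_eq_C_mul, smul_eq_C_mul]
        have h1 : C c * (C x * F + C y * G) - C (y * α - x * β) * (C fa * G - C ga * F) =
            C (x * fa + y * ga) * (C α * F + C β * G) := by
          simp only [hc, map_add, map_mul, map_sub]; ring
        rw [hsa', map_zero, zero_mul] at h1
        exact sub_eq_zero.mp h1
      have hdvd : (X - C a) ^ rootMultiplicity a s ∣ t := by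
        have h1 : (X - C a) ^ rootMultiplicity a s ∣ C c * s :=
          Dvd.dvd.mul_left (pow_rootMultiplicity_dvd s a) _
        rw [hrel] at h1
        have hne : y * α - x * β ≠ 0 := by
          intro h0
          rw [h0, map_zero, zero_mul] at hrel
          rcases mul_eq_zero.mp hrel with h | h
          · exact hs0a' (by simpa using h)
          · exact hs0ne h
        have hunit : IsUnit (C (y * α - x * β) : k[X]) := isUnit_C.mpr (isUnit_iff_ne_zero.mpr hne)
        exact (hunit.dvd_mul_left).mp h1
      exact (le_rootMultiplicity_iff ht0).mpr hdvd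
    · rw [rootMultiplicity_eq_zero hsa]; exact Nat.zero_le _
  -- identify `m` with `e`
  by_cases hmk : ((m : ℕ) : k) = 0
  · exfalso
    have h1 := hcase2 hmk
    rw [hroot] at h1
    have hpm : p ∣ m := (CharP.cast_eq_zero_iff k p m).mp hmk
    rcases hp with hp0 | hplt
    · subst hp0
      have : m = 0 := by simpa using hpm
      omega
    · have hpos : 0 < m := by omega
      have := Nat.le_of_dvd hpos hpm
      omega
  · have h1 := hcase1 hmk
    rw [hroot] at h1
    have hem : e = m := by omega
    rw [hem]
    refine ⟨hram, ?_⟩
    intro hpm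
    exact hmk ((CharP.cast_eq_zero_iff k p m).mpr hpm)

end Groth.Agent.S19560
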