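import Groth.Statements.S13920
import Mathlib
import Groth.Agent.Lib.Helper6.Pencil
import Groth.Agent.S19560
import Groth.Agent.S19561

set_option autoImplicit false
universe u
open W4c1limliniiii

namespace Groth.Agent.S13920

open Polynomial in
lemma indep_of_deg {k : Type u} [Field k] {F G : k[X]} (hG0 : G ≠ 0)
    (h : G.natDegree < F.natDegree) : ∀ a : k, a • F ≠ G := by
  intro a ha
  have ha0 : a ≠ 0 := by
    rintro rfl
    rw [zero_smul] at ha
    exact hG0 ha.symm
  rw [← ha, smul_eq_C_mul, natDegree_C_mul ha0] at h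
  exact lt_irrefl _ h

open Polynomial in
lemma finrank_span_pair {k : Type u} [Field k] {F G : k[X]} (hF0 : F ≠ 0)
    (hind : ∀ a : k, a • F ≠ G) :
    Module.finrank k (Submodule.span k ({F, G} : Set k[X])) = 2 := by
  have h := finrank_span_eq_card ((LinearIndependent.pair_iff' hF0).mpr hind)
  rw [Matrix.range_cons_cons_empty] at h
  simpa using h

open Groth.Agent.Lib.helper6.Pencil Polynomial in
lemma wronskian_ne_zero_of_sep {k : Type u} [Field k] {F G : k[X]}
    (hsep : W4c1limliniiii.IsSeparable (Submodule.span k ({F, G} : Set k[X]))) :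
    wronskian F G ≠ 0 := by
  obtain ⟨F', hF', G', hG', hne'⟩ := hsep
  obtain ⟨a, b, rfl⟩ := Submodule.mem_span_pair.mp hF'
  obtain ⟨c, e', rfl⟩ := Submodule.mem_span_pair.mp hG'
  intro h0
  apply hne'
  rw [wronskian_comb, h0, mul_zero]

open Groth.Agent.Lib.helper6.Pencil Polynomial in
lemma rootMult_wronskian_of_hasRamIdx {k : Type u} [Field k] {F G : k[X]} {V : Submodule k k[X]}
    (hVspan : Submodule.span k ({F, G} : Set k[X]) = V)
    (hbpf : ∀ a : k, ∃ s ∈ V, s.eval a ≠ 0) (hW : wronskian F G ≠ 0) {a : k} {m : ℕ}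
    (hm : 1 ≤ m) (hmk : (m : k) ≠ 0) (hram : W4c1limliniiii.HasRamIdx V a m) :
    rootMultiplicity a (wronskian F G) + 1 = m := by
  obtain ⟨s0, hs0V, hs0a⟩ := hbpf a
  obtain ⟨⟨t, htV, ht0, hmt⟩, hmax⟩ := hram
  have hmt' : rootMultiplicity a t = m := le_antisymm (hmax t htV ht0) hmt
  have hta : t.eval a = 0 := by
    have hpos : 0 < rootMultiplicity a t := by omega
    exact (rootMultiplicity_pos ht0).mp hpos
  rw [← hVspan] at hs0V htV
  obtain ⟨α, β, hs0⟩ := Submodule.mem_span_pair.mp hs0V
  obtain ⟨γ, δ, ht⟩ := Submodule.mem_span_pair.mp htV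
  have hwr : wronskian s0 t = C (α * δ - β * γ) * wronskian F G := by
    rw [← hs0, ← ht]
    exact wronskian_comb F G α β γ δ
  have hdet : α * δ - β * γ ≠ 0 := by
    intro hdet
    have e1 : C δ * s0 - C β * t = C (α * δ - β * γ) * F := by
      rw [← hs0, ← ht]
      simp only [smul_eq_C_mul, map_sub, map_mul]
      ring
    have e2 : C γ * s0 - C α * t = - (C (α * δ - β * γ) * G) := by
      rw [← hs0, ← ht]
      simp only [smul_eq_C_mul, map_sub, map_mul]
      ring
    rw [hdet, C_0, zero_mul] at e1
    rw [hdet, C_0, zero_mul, neg_zero] at e2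
    have e1' := congrArg (eval a) e1
    have e2' := congrArg (eval a) e2
    simp only [eval_sub, eval_mul, eval_C, hta, mul_zero, sub_zero, eval_zero] at e1' e2'
    have hδ : δ = 0 := (mul_eq_zero.mp e1').resolve_right hs0a
    have hγ : γ = 0 := (mul_eq_zero.mp e2').resolve_right hs0a
    apply ht0
    rw [← ht, hδ, hγ, zero_smul, zero_smul, add_zero]
  have hWst : wronskian s0 t ≠ 0 := by
    rw [hwr]
    exact mul_ne_zero (C_ne_zero.mpr hdet) hW
  obtain ⟨-, hcase, -⟩ := Groth.Agent.S19560.rootMultiplicity_wronskian s0 t a hs0a hta hWst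
  have h := hcase (by rw [hmt']; exact hmk)
  rw [hwr, rootMultiplicity_mul (by rw [← hwr]; exact hWst), rootMultiplicity_C, zero_add,
    hmt'] at h
  exact h

open Groth.Agent.Lib.helper6.Pencil Polynomial in
theorem main {k : Type u} [Field k] [IsAlgClosed k] (p : ℕ) [Fact p.Prime] [CharP k p]
    (d n : ℕ) (P : Fin n → k) (e : Fin n → ℕ) (E : ℕ)
    (he : W4c1limliniiii.Admissible p d (Fin.cons E e : Fin (n + 1) → ℕ))
    (hlt : ∀ i, e i < p) (hE : p < E) :
    {V : Submodule k k[X] | V ∈ W4c1limliniiii.ramMaps d P e ∧ W4c1limliniiii.HasRamIdxInf d V E} = ∅ ∨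
      {V : Submodule k k[X] | V ∈ W4c1limliniiii.ramMaps d P e ∧
        W4c1limliniiii.HasRamIdxInf d V E}.Infinite := by
  by_cases hempty : {V : Submodule k k[X] | V ∈ W4c1limliniiii.ramMaps d P e ∧
      W4c1limliniiii.HasRamIdxInf d V E} = ∅
  · exact Or.inl hempty
  right
  obtain ⟨V, hV⟩ := Set.nonempty_iff_ne_empty.mpr hempty
  have hV' : (W4c1limliniiii.IsPencil d V ∧ W4c1limliniiii.IsSeparable V ∧
      ∀ i, W4c1limliniiii.HasRamIdx V (P i) (e i)) ∧ W4c1limliniiii.HasRamIdxInf d V E := hV
  obtain ⟨⟨⟨hle, hfr, ⟨F, hFV, hFd⟩, hbpf⟩, hsep, hram⟩, ⟨G, hGV, hG0, hGdeg⟩, hall⟩ := hV'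
  have hE2 : 2 ≤ E ∧ E ≤ d ∧ ¬ p ∣ E := by simpa using he.1 0
  have hei : ∀ i, 2 ≤ e i ∧ e i ≤ d ∧ ¬ p ∣ e i := fun i => by simpa using he.1 i.succ
  have hp0 : p ≠ 0 := (Fact.out : p.Prime).ne_zero
  have hGd : G.natDegree + E = d := le_antisymm hGdeg (hall G hGV hG0)
  have hF0 : F ≠ 0 := by
    rintro rfl
    rw [natDegree_zero] at hFd
    omega
  have hGlt : G.natDegree < F.natDegree := by omega
  have hind : ∀ a : k, a • F ≠ G := indep_of_deg hG0 hGlt
  have : Module.Finite k V := Module.finite_of_finrank_pos (by omega)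
  have hVspan : Submodule.span k ({F, G} : Set k[X]) = V := by
    apply Submodule.eq_of_le_of_finrank_eq
    · rw [Submodule.span_le]
      intro x hx
      rcases hx with rfl | rfl
      · exact hFV
      · exact hGV
    · rw [finrank_span_pair hF0 hind, hfr]
  have hW : wronskian F G ≠ 0 := wronskian_ne_zero_of_sep (by rw [hVspan]; exact hsep)
  have hTdeg : ∀ c : k, (C c * X ^ p * G).natDegree ≤ p + G.natDegree := fun c =>
    natDegree_mul_le_of_le (natDegree_C_mul_X_pow_le c p) le_rfl
  have hFcdeg : ∀ c : k, (F + C c * X ^ p * G).natDegree = d := fun c => by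
    rw [natDegree_add_eq_left_of_natDegree_lt, hFd]
    rw [hFd]
    exact lt_of_le_of_lt (hTdeg c) (by omega)
  have hWc : ∀ c : k, wronskian (F + C c * X ^ p * G) G = wronskian F G := fun c => by
    simp only [wronskian, derivative_add, derivative_mul, derivative_C, derivative_X_pow,
      CharP.cast_eq_zero k p, map_zero, zero_mul, mul_zero, add_zero, zero_add]
    ring
  have hFc0 : ∀ c : k, F + C c * X ^ p * G ≠ 0 := fun c h => by
    have := hFcdeg c
    rw [h, natDegree_zero] at this
    omega
  have hindc : ∀ c a : k, a • (F + C c * X ^ p * G) ≠ G := fun c =>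
    indep_of_deg hG0 (by rw [hFcdeg c]; omega)
  have hpen : ∀ c : k, W4c1limliniiii.IsPencil d
      (Submodule.span k ({F + C c * X ^ p * G, G} : Set k[X])) := by
    intro c
    have hFcV : F + C c * X ^ p * G ∈ Submodule.span k ({F + C c * X ^ p * G, G} : Set k[X]) :=
      Submodule.subset_span (by simp)
    have hGVc : G ∈ Submodule.span k ({F + C c * X ^ p * G, G} : Set k[X]) :=
      Submodule.subset_span (by simp)
    refine ⟨?_, finrank_span_pair (hFc0 c) (hindc c), ⟨_, hFcV, hFcdeg c⟩, ?_⟩
    · rw [Submodule.span_le]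
      intro x hx
      rcases hx with rfl | rfl
      · exact mem_degreeLE.mpr (natDegree_le_iff_degree_le.mp (hFcdeg c).le)
      · exact mem_degreeLE.mpr (natDegree_le_iff_degree_le.mp (by omega))
    · intro a
      by_cases hGa : G.eval a = 0
      · refine ⟨_, hFcV, ?_⟩
        obtain ⟨s, hsV, hsa⟩ := hbpf a
        rw [← hVspan] at hsV
        obtain ⟨α, β, rfl⟩ := Submodule.mem_span_pair.mp hsV
        have hFa : F.eval a ≠ 0 := by
          intro hFa
          apply hsa
          simp [eval_add, eval_smul, hFa, hGa]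
        simpa [eval_add, eval_mul, hGa] using hFa
      · exact ⟨G, hGVc, hGa⟩
  have hramc : ∀ (c : k) (i : Fin n), W4c1limliniiii.HasRamIdx
      (Submodule.span k ({F + C c * X ^ p * G, G} : Set k[X])) (P i) (e i) := by
    intro c i
    have hord := rootMult_wronskian_of_hasRamIdx hVspan hbpf hW (m := e i)
      (by have := (hei i).1; omega)
      ((CharP.cast_eq_zero_iff k p (e i)).not.mpr (hei i).2.2) (hram i)
    have h := Groth.Agent.S19560.result k p d (F + C c * X ^ p * G) G (hpen c)
      (by rw [hWc c]; exact hW) (P i) (e i) (by rw [hWc c]; exact hord)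
      (Or.inr (by have := hlt i; omega))
    exact h.1
  have hinfc : ∀ c : k, W4c1limliniiii.HasRamIdxInf d
      (Submodule.span k ({F + C c * X ^ p * G, G} : Set k[X])) E := by
    intro c
    have h := Groth.Agent.S19561.result k (F + C c * X ^ p * G) G
      (by rw [hFcdeg c]; omega) (by rw [hFcdeg c]; exact hpen c)
    rw [hFcdeg c] at h
    have hE' : d - G.natDegree = E := by omega
    rwa [hE'] at h
  have hinj : Function.Injective
      (fun c : k => Submodule.span k ({F + C c * X ^ p * G, G} : Set k[X])) := by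
    intro c c' hcc
    have hcc' : Submodule.span k ({F + C c * X ^ p * G, G} : Set k[X]) =
        Submodule.span k ({F + C c' * X ^ p * G, G} : Set k[X]) := hcc
    have hmem : F + C c * X ^ p * G ∈ Submodule.span k ({F + C c' * X ^ p * G, G} : Set k[X]) := by
      rw [← hcc']
      exact Submodule.subset_span (by simp)
    obtain ⟨α, β, hαβ⟩ := Submodule.mem_span_pair.mp hmem
    have hrel : C (1 - α) * F = (C (α * c' - c) * X ^ p + C β) * G := by
      simp only [smul_eq_C_mul] at hαβ
      simp only [map_sub, map_mul, map_one]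
      linear_combination (-1 : k[X]) * hαβ
    have hα1 : α = 1 := by
      by_contra hα1
      have h1 : (C (1 - α) * F).natDegree = d := by
        rw [natDegree_C_mul (sub_ne_zero.mpr (Ne.symm hα1)), hFd]
      have h2 : ((C (α * c' - c) * X ^ p + C β) * G).natDegree ≤ p + G.natDegree := by
        refine natDegree_mul_le_of_le ?_ le_rfl
        refine (natDegree_add_le _ _).trans (max_le (natDegree_C_mul_X_pow_le _ _) ?_)
        rw [natDegree_C]
        exact Nat.zero_le _
      rw [hrel] at h1
      omega
    subst hα1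
    rw [sub_self, map_zero, zero_mul] at hrel
    have hQ : C (1 * c' - c) * X ^ p + C β = 0 := by
      rcases mul_eq_zero.mp hrel.symm with h | h
      · exact h
      · exact absurd h hG0
    have hcoef : (C (1 * c' - c) * X ^ p + C β : k[X]).coeff p = 1 * c' - c := by
      rw [coeff_add, coeff_C_mul, coeff_X_pow, if_pos rfl, mul_one, coeff_C, if_neg hp0, add_zero]
    rw [hQ, coeff_zero] at hcoef
    linear_combination hcoef
  refine Set.infinite_of_injective_forall_mem hinj (fun c => ?_)
  show (W4c1limliniiii.IsPencil d _ ∧ W4c1limliniiii.IsSeparable _ ∧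
      ∀ i, W4c1limliniiii.HasRamIdx _ (P i) (e i)) ∧ W4c1limliniiii.HasRamIdxInf d _ E
  refine ⟨⟨hpen c, ⟨F + C c * X ^ p * G, Submodule.subset_span (by simp), G,
    Submodule.subset_span (by simp), by rw [hWc c]; exact hW⟩, hramc c⟩, hinfc c⟩



open Polynomial in
/-- Over an algebraically closed field of prime characteristic p, fix n points of the affine line with
ramification indices e_i < p, and at infinity an index E with p < E and E prime to p, the datum (E,
e_1, …, e_n) being admissible for degree d (each index between 2 and d, ∑ (index − 1) = 2d − 2). If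
one separable degree-d self-map of the projective line (up to automorphisms of the target, encoded
as a base-point-free separable pencil of polynomials of degree at most d) has ramification index
exactly e_i at the i-th point and exactly E at infinity, then infinitely many do: the set of such
pencils is empty or infinite. (The consequence for general points, that no such map exists, is not
restated.) -/
theorem result
    (k : Type u) [Field k] [IsAlgClosed k] (p : ℕ) [Fact p.Prime] [CharP k p]
    (d n : ℕ) (P : Fin n → k) (e : Fin n → ℕ) (E : ℕ)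
    (he : W4c1limliniiii.Admissible p d (Fin.cons E e : Fin (n + 1) → ℕ))
    (hlt : ∀ i, e i < p) (hE : p < E) :
    {V : Submodule k k[X] | V ∈ W4c1limliniiii.ramMaps d P e ∧ W4c1limliniiii.HasRamIdxInf d V E} = ∅ ∨
      {V : Submodule k k[X] | V ∈ W4c1limliniiii.ramMaps d P e ∧
        W4c1limliniiii.HasRamIdxInf d V E}.Infinite := by
  exact main p d n P e E he hlt hE


end Groth.Agent.S13920
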