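import Groth.Statements.S13926
import Mathlib

set_option autoImplicit false
universe u v w
open W4c1limliniiii

namespace Groth.Agent.S13926

theorem exists_between_finrank {k : Type*} [Field k] {E : Type*} [AddCommGroup E] [Module k E]
    [FiniteDimensional k E] (B : Submodule k E) :
    ∀ (n : ℕ) (A : Submodule k E), A ≤ B → Module.finrank k A + n ≤ Module.finrank k B →
      ∃ V : Submodule k E, A ≤ V ∧ V ≤ B ∧ Module.finrank k V = Module.finrank k A + n := by
  intro n
  induction n with
  | zero =>
    intro A hAB _
    exact ⟨A, le_rfl, hAB, rfl⟩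
  | succ n ih =>
    intro A hAB hn
    have hlt : A < B := by
      refine lt_of_le_of_ne hAB ?_
      rintro rfl
      omega
    obtain ⟨x, hxB, hxA⟩ := SetLike.exists_of_lt hlt
    have hx0 : x ≠ 0 := by
      rintro rfl
      exact hxA (Submodule.zero_mem _)
    have hdisj : A ⊓ (k ∙ x) = ⊥ := by
      rw [← disjoint_iff]
      exact (Submodule.disjoint_span_singleton' hx0).2 hxA
    have hfr : Module.finrank k ↥(A ⊔ (k ∙ x)) = Module.finrank k A + 1 := by
      have h1 := Submodule.finrank_sup_add_finrank_inf_eq A (k ∙ x)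
      rw [hdisj, finrank_bot, finrank_span_singleton hx0] at h1
      omega
    have hle : A ⊔ (k ∙ x) ≤ B := by
      refine sup_le hAB ?_
      rw [Submodule.span_singleton_le_iff_mem]
      exact hxB
    obtain ⟨V, hV1, hV2, hV3⟩ := ih (A ⊔ (k ∙ x)) hle (by omega)
    exact ⟨V, le_trans le_sup_left hV1, hV2, by omega⟩

/-- Let k be a field, E₁ and E₂ finite-dimensional vector spaces over k of the same dimension, f : E₁ →
E₂ and g : E₂ → E₁ linear maps whose composite g ∘ f is multiplication by a scalar s, and V₁ a
subspace of E₁. Then there is a subspace V₂ of E₂ of the same dimension as V₁ with f(V₁) ≤ V₂ and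
g(V₂) ≤ V₁. (The published statement is the surjectivity of the truncation morphisms of a linked
Grassmannian, with a further assertion on lifting families; this row is the lifting step over a
field — over a point the chain of linked subspaces V_1, …, V_{n'} extends one index at a time — and
assumes only g ∘ f = s.) -/
theorem result (k : Type u) [Field k]
    (E₁ : Type v) (E₂ : Type w) [AddCommGroup E₁] [Module k E₁] [FiniteDimensional k E₁]
    [AddCommGroup E₂] [Module k E₂] [FiniteDimensional k E₂]
    (hdim : Module.finrank k E₁ = Module.finrank k E₂)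
    (f : E₁ →ₗ[k] E₂) (g : E₂ →ₗ[k] E₁) (s : k) (hgf : g.comp f = s • LinearMap.id)
    (V₁ : Submodule k E₁) :
    ∃ V₂ : Submodule k E₂, Module.finrank k V₂ = Module.finrank k V₁ ∧
      Submodule.map f V₁ ≤ V₂ ∧ Submodule.map g V₂ ≤ V₁ := by
  have hAB : Submodule.map f V₁ ≤ Submodule.comap g V₁ := by
    rintro _ ⟨v, hv, rfl⟩
    rw [Submodule.mem_comap, ← LinearMap.comp_apply, hgf]
    simpa using Submodule.smul_mem _ s hv
  have hA : Module.finrank k ↥(Submodule.map f V₁) ≤ Module.finrank k V₁ :=
    Submodule.finrank_map_le f V₁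
  have hB : Module.finrank k V₁ ≤ Module.finrank k ↥(Submodule.comap g V₁) := by
    have h1 := LinearMap.finrank_range_add_finrank_ker (V₁.mkQ.comp g)
    have h2 := Submodule.finrank_quotient_add_finrank V₁
    have h3 : Module.finrank k ↥(LinearMap.range (V₁.mkQ.comp g)) ≤ Module.finrank k (E₁ ⧸ V₁) :=
      Submodule.finrank_le _
    have h4 : LinearMap.ker (V₁.mkQ.comp g) = Submodule.comap g V₁ := by
      rw [LinearMap.ker_comp, Submodule.ker_mkQ]
    rw [h4] at h1
    omega
  obtain ⟨n, hn⟩ := Nat.exists_eq_add_of_le hA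
  obtain ⟨V, hV1, hV2, hV3⟩ := exists_between_finrank (Submodule.comap g V₁) n
    (Submodule.map f V₁) hAB (by omega)
  refine ⟨V, by omega, hV1, ?_⟩
  rw [Submodule.map_le_iff_le_comap]
  exact hV2

end Groth.Agent.S13926
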