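import Groth.Statements.S13934
import Groth.Agent.Lib.Lead.VBCurve11
-- import your own Groth.Agent.* helpers here

set_option autoImplicit false
set_option backward.isDefEq.respectTransparency false
universe u
open CategoryTheory CategoryTheory.Limits AlgebraicGeometry
open W4c1limliniiii

namespace Groth.Agent.S13934

/-- On a smooth proper integral curve over an algebraically closed field (any characteristic), let 0 → L
→ E → M → 0 be a short exact sequence of O_X-modules with E finite locally free of rank 2 and degree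
0, L and M invertible and deg L > 0 (so M is det E ⊗ L⁻¹). Then: every invertible sheaf N admitting
a non-zero map N → E has deg N ≤ deg L, so L is the line bundle of maximal degree in E; every
invertible subsheaf N of E of positive degree with invertible quotient E/N coincides with L (some
isomorphism N ≅ L commutes with the inclusions); and E is not an extension of two invertible sheaves
of degree 0. Degrees are χ(−) minus rank times χ(O_X). (The published lemma is stated on a curve of
genus 2 in characteristic p; its argument uses neither, and this row assumes neither.) -/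
theorem result (k : Type u) [Field k] [IsAlgClosed k] (X : Scheme.{u}) [X.Over (Spec (CommRingCat.of k))]
    [IsIntegral X] [IsProper (X ↘ Spec (CommRingCat.of k))] [Smooth (X ↘ Spec (CommRingCat.of k))]
    (hdim : topologicalKrullDim X = 1)
    (S : ShortComplex X.Modules) (hS : S.ShortExact)
    (hE : FlatMod.IsFinLocFreeOfRank 2 S.X₂) (hE0 : Curv2.deg k X S.X₂ 2 = 0)
    (hL : PicF.IsInvertible S.X₁) (hM : PicF.IsInvertible S.X₃) (hpos : 0 < Curv2.deg k X S.X₁ 1) :
    (∀ (N : X.Modules), PicF.IsInvertible N → ∀ j : N ⟶ S.X₂, j ≠ 0 →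
        Curv2.deg k X N 1 ≤ Curv2.deg k X S.X₁ 1) ∧
    (∀ (N : X.Modules), PicF.IsInvertible N → ∀ (j : N ⟶ S.X₂), Mono j →
        PicF.IsInvertible (cokernel j) → 0 < Curv2.deg k X N 1 → ∃ φ : N ≅ S.X₁, φ.hom ≫ S.f = j) ∧
    (∀ (N N' : X.Modules), PicF.IsInvertible N → PicF.IsInvertible N' →
        Curv2.deg k X N 1 = 0 → Curv2.deg k X N' 1 = 0 →
        ∀ (a : N ⟶ S.X₂) (b : S.X₂ ⟶ N') (w : a ≫ b = 0), ¬ (ShortComplex.mk a b w).ShortExact) := by
  classical
  have hP := Groth.Agent.Lib.Lead.VBCurve.pidStalks_of_smooth k X hdim.le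
  have hd := hdim.le
  haveI := Groth.Agent.Lib.Lead.CurveEuler.isNoetherian k X
  haveI := hS.mono_f
  haveI := hS.epi_g
  have hL1 := (Groth.Agent.Lib.helper16.FLF.isInvertible_iff_isFinLocFreeOfRank_one S.X₁).mp hL
  have hM1 := (Groth.Agent.Lib.helper16.FLF.isInvertible_iff_isFinLocFreeOfRank_one S.X₃).mp hM
  have hdegE : Curv2.deg k X S.X₂ 2 = Curv2.deg k X S.X₁ 1 + Curv2.deg k X S.X₃ 1 :=
    Groth.Agent.Lib.Lead.ProperEuler.deg_additive k hS
      (Groth.Agent.Lib.Lead.RankAdd.isCoh_of_isFinLocFreeOfRank hL1)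
      (Groth.Agent.Lib.Lead.RankAdd.isCoh_of_isFinLocFreeOfRank hM1) 1 2 1 rfl
  have hMneg : Curv2.deg k X S.X₃ 1 < 0 := by linarith
  refine ⟨fun N hN j hj => ?_, fun N hN j hj hq hNpos => ?_, fun N N' hN hN' hN0 hN'0 a b w hT => ?_⟩
  · by_cases h0 : j ≫ S.g = 0
    · let u : N ⟶ S.X₁ := hS.fIsKernel.lift (KernelFork.ofι j h0)
      have hu : u ≫ S.f = j := Fork.IsLimit.lift_ι _
      have hu0 : u ≠ 0 := by
        intro h
        apply hj
        rw [← hu, h, zero_comp]
      exact Groth.Agent.Lib.Lead.VBCurve.deg_le_of_ne_zero_of_isInvertible k X hP hd hN hL u hu0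
    · have := Groth.Agent.Lib.Lead.VBCurve.deg_le_of_ne_zero_of_isInvertible k X hP hd hN hM _ h0
      linarith
  · haveI := hj
    rcases Groth.Agent.Lib.Lead.VBCurve.exists_iso_or_deg_le k X hP hd S hS hM N hN j hq with h | h
    · exact h
    · exfalso; linarith
  · haveI := hT.mono_f
    haveI := hT.epi_g
    by_cases h0 : S.f ≫ b = 0
    · let u : S.X₁ ⟶ N := hT.fIsKernel.lift (KernelFork.ofι S.f h0)
      have hu : u ≫ a = S.f := Fork.IsLimit.lift_ι _
      have hu0 : u ≠ 0 := by
        intro h
        have hf0 : S.f = 0 := by rw [← hu, h, zero_comp]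
        apply Groth.Agent.Lib.Lead.VBCurve.not_isZero_of_isInvertible X hL
        rw [IsZero.iff_id_eq_zero, ← cancel_mono S.f, hf0, comp_zero, comp_zero]
      have := Groth.Agent.Lib.Lead.VBCurve.deg_le_of_ne_zero_of_isInvertible k X hP hd hL hN u hu0
      linarith
    · have := Groth.Agent.Lib.Lead.VBCurve.deg_le_of_ne_zero_of_isInvertible k X hP hd hL hN' _ h0
      linarith

end Groth.Agent.S13934
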