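import Groth.Statements.S3811
import Mathlib

set_option autoImplicit false
universe u
open scoped TensorProduct
open PP16

namespace Groth.Agent.S3811

/-- Let B be an A-algebra with an A-algebra retraction g : B → A, and K the kernel of g. The composite
of d^n : B → P^n_{B/A} with the projection P^n_{B/A} → P^n_{B/A} / K P^n_{B/A} (base change of
P^n_{B/A} along g) is surjective with kernel K^(n+1); thus P^n_{B/A} ⊗_B A is identified with
B/K^(n+1), the class of d^n t corresponding to the class of t. -/
theorem result (n : ℕ) (A B : Type u) [CommRing A] [CommRing B] [Algebra A B]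
    (g : B →ₐ[A] A) :
    Function.Surjective ((Ideal.Quotient.mk ((RingHom.ker g).map (algebraMap B (PP16.P n A B)))).comp
        (PP16.dn n A B).toRingHom) ∧
      RingHom.ker ((Ideal.Quotient.mk ((RingHom.ker g).map (algebraMap B (PP16.P n A B)))).comp
        (PP16.dn n A B).toRingHom) = RingHom.ker g ^ (n + 1) := by
  classical
  set K : Ideal B := RingHom.ker g with hKdef
  set I : Ideal (B ⊗[A] B) := KaehlerDifferential.ideal A B with hIdef
  set KP : Ideal (PP16.P n A B) := K.map (algebraMap B (PP16.P n A B)) with hKPdef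
  set c : B →+* PP16.P n A B ⧸ KP := (Ideal.Quotient.mk KP).comp (PP16.dn n A B).toRingHom with hcdef
  have hc_apply : ∀ b, c b = Ideal.Quotient.mk KP (Ideal.Quotient.mk (I ^ (n + 1)) ((1 : B) ⊗ₜ[A] b)) :=
    fun b => rfl
  have halg_apply : ∀ b, algebraMap B (PP16.P n A B) b =
      Ideal.Quotient.mk (I ^ (n + 1)) (b ⊗ₜ[A] (1 : B)) := fun b => rfl
  have hgι : ∀ a : A, g (algebraMap A B a) = a := by
    intro a
    rw [AlgHom.commutes]
    rfl
  have hsubK : ∀ b : B, b - algebraMap A B (g b) ∈ K := by
    intro b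
    rw [hKdef, RingHom.mem_ker, map_sub, hgι, sub_self]
  have hπK : ∀ k ∈ K, Ideal.Quotient.mk KP (algebraMap B (PP16.P n A B) k) = 0 := by
    intro k hk
    rw [Ideal.Quotient.eq_zero_iff_mem]
    exact Ideal.mem_map_of_mem _ hk
  -- `π (b ⊗ 1) = c (ι (g b))`
  have hπalg : ∀ b : B, Ideal.Quotient.mk KP (algebraMap B (PP16.P n A B) b) =
      c (algebraMap A B (g b)) := by
    intro b
    have h1 : Ideal.Quotient.mk KP (algebraMap B (PP16.P n A B) b) =
        Ideal.Quotient.mk KP (algebraMap B (PP16.P n A B) (algebraMap A B (g b))) := by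
      have := hπK _ (hsubK b)
      rw [map_sub, map_sub, sub_eq_zero] at this
      exact this
    rw [h1, hc_apply, halg_apply]
    congr 2
    rw [Algebra.algebraMap_eq_smul_one, TensorProduct.smul_tmul]
  constructor
  · -- surjectivity
    intro y
    obtain ⟨x, rfl⟩ := Ideal.Quotient.mk_surjective y
    obtain ⟨t, rfl⟩ := Ideal.Quotient.mk_surjective x
    induction t using TensorProduct.induction_on with
    | zero => exact ⟨0, by simp⟩
    | tmul b b' =>
      refine ⟨algebraMap A B (g b) * b', ?_⟩
      rw [map_mul, ← hπalg, hc_apply, halg_apply, ← map_mul, ← map_mul,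
        Algebra.TensorProduct.tmul_mul_tmul, mul_one, one_mul]
    | add x y hx hy =>
      obtain ⟨x', hx'⟩ := hx
      obtain ⟨y', hy'⟩ := hy
      exact ⟨x' + y', by rw [map_add, hx', hy', map_add, map_add]⟩
  · apply le_antisymm
    · -- `ker c ≤ K^(n+1)` via a retraction
      let μ : B ⊗[A] B →ₐ[A] B :=
        Algebra.TensorProduct.lift ((Algebra.ofId A B).comp g) (AlgHom.id A B)
          (fun _ _ => Commute.all _ _)
      have hμ_tmul : ∀ b b', μ (b ⊗ₜ[A] b') = algebraMap A B (g b) * b' := by
        intro b b'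
        rw [Algebra.TensorProduct.lift_tmul]
        rfl
      have hμI : I.map μ ≤ K := by
        rw [hIdef, ← KaehlerDifferential.span_range_eq_ideal A B, Ideal.map_span, Ideal.span_le]
        rintro _ ⟨_, ⟨b, rfl⟩, rfl⟩
        rw [map_sub, hμ_tmul, hμ_tmul, map_one, map_one, one_mul, mul_one]
        exact hsubK b
      have hμIpow : ∀ t ∈ I ^ (n + 1), μ t ∈ K ^ (n + 1) := by
        intro t ht
        have h1 : μ t ∈ (I ^ (n + 1)).map μ := Ideal.mem_map_of_mem μ ht
        rw [Ideal.map_pow] at h1
        exact Ideal.pow_right_mono hμI _ h1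
      let μ₁ : PP16.P n A B →+* B ⧸ K ^ (n + 1) :=
        Ideal.Quotient.lift (I ^ (n + 1)) ((Ideal.Quotient.mk (K ^ (n + 1))).comp (μ : B ⊗[A] B →+* B))
          (fun t ht => by
            rw [RingHom.comp_apply, Ideal.Quotient.eq_zero_iff_mem]
            exact hμIpow t ht)
      have hμ₁_mk : ∀ t, μ₁ (Ideal.Quotient.mk (I ^ (n + 1)) t) =
          Ideal.Quotient.mk (K ^ (n + 1)) (μ t) := fun t => rfl
      have hKPle : ∀ x ∈ KP, μ₁ x = 0 := by
        intro x hx
        have : KP ≤ RingHom.ker μ₁ := by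
          rw [hKPdef, Ideal.map_le_iff_le_comap]
          intro k hk
          rw [Ideal.mem_comap, RingHom.mem_ker, halg_apply, hμ₁_mk, hμ_tmul, mul_one]
          have : g k = 0 := hk
          rw [this, map_zero, map_zero]
        exact this hx
      let μ₂ : PP16.P n A B ⧸ KP →+* B ⧸ K ^ (n + 1) := Ideal.Quotient.lift KP μ₁ hKPle
      have hμ₂c : ∀ b, μ₂ (c b) = Ideal.Quotient.mk (K ^ (n + 1)) b := by
        intro b
        rw [hc_apply]
        change μ₁ (Ideal.Quotient.mk (I ^ (n + 1)) ((1 : B) ⊗ₜ[A] b)) = _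
        rw [hμ₁_mk, hμ_tmul, map_one, map_one, one_mul]
      intro b hb
      have h0 : c b = 0 := hb
      have := hμ₂c b
      rw [h0, map_zero] at this
      exact Ideal.Quotient.eq_zero_iff_mem.1 this.symm
    · -- `K^(n+1) ≤ ker c`
      have hKc : K.map c ≤ (PP16.augIdeal n A B).map (Ideal.Quotient.mk KP) := by
        rw [Ideal.map_le_iff_le_comap]
        intro k hk
        rw [Ideal.mem_comap]
        have h1 : c k = Ideal.Quotient.mk KP
            (Ideal.Quotient.mk (I ^ (n + 1)) ((1 : B) ⊗ₜ[A] k - k ⊗ₜ[A] (1 : B))) := by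
          rw [map_sub, map_sub, ← halg_apply, hπK k hk, sub_zero, hc_apply]
        rw [h1]
        refine Ideal.mem_map_of_mem _ ?_
        rw [PP16.augIdeal]
        exact Ideal.mem_map_of_mem _ (KaehlerDifferential.one_smul_sub_smul_one_mem_ideal A k)
      have haug : (PP16.augIdeal n A B) ^ (n + 1) = ⊥ := by
        rw [PP16.augIdeal, ← Ideal.map_pow]
        exact Ideal.map_quotient_self _
      have h2 : (K ^ (n + 1)).map c ≤ ⊥ := by
        have hmp : (K ^ (n + 1)).map c = (K.map c) ^ (n + 1) := Ideal.map_pow c K (n + 1)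
        rw [hmp]
        refine le_trans (Ideal.pow_right_mono hKc _) ?_
        have hmp2 : ((PP16.augIdeal n A B) ^ (n + 1)).map (Ideal.Quotient.mk KP) =
            ((PP16.augIdeal n A B).map (Ideal.Quotient.mk KP)) ^ (n + 1) :=
          Ideal.map_pow (Ideal.Quotient.mk KP) (PP16.augIdeal n A B) (n + 1)
        rw [← hmp2, haug, Ideal.map_bot]
      intro b hb
      rw [RingHom.mem_ker]
      have := h2 (Ideal.mem_map_of_mem c hb)
      exact (Submodule.mem_bot _).1 this

end Groth.Agent.S3811
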