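import Groth.Statements.S13936
import Groth.Agent.S3811
import Mathlib

set_option autoImplicit false
universe u
open W4c1limliniiii

namespace Groth.Agent.S13936

open scoped TensorProduct

section
variable (n : ℕ) (A B : Type u) [CommRing A] [CommRing B] [Algebra A B]

/-- the augmentation `P^n_{B/A} → B` -/
noncomputable def aug : PP16.P n A B →+* B :=
  Ideal.Quotient.lift (KaehlerDifferential.ideal A B ^ (n + 1))
    (Algebra.TensorProduct.lmul' A : B ⊗[A] B →ₐ[A] B).toRingHom
    (fun t ht => by
      have h1 : t ∈ KaehlerDifferential.ideal A B :=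
        Ideal.pow_le_self (Nat.succ_ne_zero n) ht
      exact h1)

lemma aug_mk (t : B ⊗[A] B) :
    aug n A B (Ideal.Quotient.mk _ t) = Algebra.TensorProduct.lmul' A t := rfl

lemma aug_algebraMap (b : B) : aug n A B (algebraMap B (PP16.P n A B) b) = b := by
  change aug n A B (Ideal.Quotient.mk _ (b ⊗ₜ[A] (1 : B))) = b
  rw [aug_mk, Algebra.TensorProduct.lmul'_apply_tmul, mul_one]

lemma aug_dn (b : B) : aug n A B (PP16.dn n A B b) = b := by
  change aug n A B (Ideal.Quotient.mk _ ((1 : B) ⊗ₜ[A] b)) = b
  rw [aug_mk, Algebra.TensorProduct.lmul'_apply_tmul, one_mul]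

lemma aug_smul (b : B) (p : PP16.P n A B) : aug n A B (b • p) = b * aug n A B p := by
  rw [Algebra.smul_def, map_mul, aug_algebraMap]

lemma aug_eq_zero_of_mem {x : PP16.P n A B} (hx : x ∈ PP16.augIdeal n A B) : aug n A B x = 0 := by
  have : PP16.augIdeal n A B ≤ RingHom.ker (aug n A B) := by
    rw [PP16.augIdeal, Ideal.map_le_iff_le_comap]
    intro t ht
    rw [Ideal.mem_comap, RingHom.mem_ker, aug_mk]
    exact ht
  exact this hx

lemma sub_aug_mem (p : PP16.P n A B) :
    p - algebraMap B (PP16.P n A B) (aug n A B p) ∈ PP16.augIdeal n A B := by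
  obtain ⟨t, rfl⟩ := Ideal.Quotient.mk_surjective p
  rw [aug_mk]
  change Ideal.Quotient.mk _ t - Ideal.Quotient.mk _ ((Algebra.TensorProduct.lmul' A t) ⊗ₜ[A] (1 : B)) ∈ _
  rw [← map_sub, PP16.augIdeal]
  refine Ideal.mem_map_of_mem _ ?_
  change Algebra.TensorProduct.lmul' A (t - (Algebra.TensorProduct.lmul' A t) ⊗ₜ[A] (1 : B)) = 0
  rw [map_sub, Algebra.TensorProduct.lmul'_apply_tmul, mul_one, sub_self]

/-- `I • T` is stable under multiplication by `P`. -/
lemma mul_mem_smul_aug (I : Ideal B) (p : PP16.P n A B) {x : PP16.P n A B}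
    (hx : x ∈ I • (PP16.augIdeal n A B).restrictScalars B) :
    p * x ∈ I • (PP16.augIdeal n A B).restrictScalars B := by
  refine Submodule.smul_induction_on hx ?_ ?_
  · intro i hi τ hτ
    rw [mul_smul_comm]
    exact Submodule.smul_mem_smul hi ((PP16.augIdeal n A B).mul_mem_left p hτ)
  · intro x y hx hy
    rw [mul_add]
    exact Submodule.add_mem _ hx hy

/-- elements of `I P` are in `I • T` modulo their augmentation -/
lemma sub_aug_mem_smul (I : Ideal B) {x : PP16.P n A B}
    (hx : x ∈ I.map (algebraMap B (PP16.P n A B))) :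
    x - algebraMap B (PP16.P n A B) (aug n A B x) ∈
      I • (PP16.augIdeal n A B).restrictScalars B := by
  have hx' : x ∈ I • (⊤ : Submodule B (PP16.P n A B)) := by
    rw [Ideal.smul_top_eq_map]
    exact hx
  refine Submodule.smul_induction_on hx' ?_ ?_
  · intro i hi p _
    have : i • p - algebraMap B (PP16.P n A B) (aug n A B (i • p)) =
        i • (p - algebraMap B (PP16.P n A B) (aug n A B p)) := by
      rw [aug_smul, map_mul, smul_sub, Algebra.smul_def i (algebraMap B (PP16.P n A B) _)]
    rw [this]
    exact Submodule.smul_mem_smul hi (sub_aug_mem n A B p)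
  · intro x y hx hy
    have : x + y - algebraMap B (PP16.P n A B) (aug n A B (x + y)) =
        (x - algebraMap B (PP16.P n A B) (aug n A B x)) +
          (y - algebraMap B (PP16.P n A B) (aug n A B y)) := by
      rw [map_add, map_add]; ring
    rw [this]
    exact Submodule.add_mem _ hx hy

/-- the key equivalence, from S3811 -/
lemma dn_sub_mem_iff (g : B →ₐ[A] A) (c : B) (hc : c ∈ RingHom.ker g) :
    PP16.dn n A B c - algebraMap B (PP16.P n A B) c ∈
        RingHom.ker g • (PP16.augIdeal n A B).restrictScalars B ↔
      c ∈ RingHom.ker g ^ (n + 1) := by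
  have hS := (Groth.Agent.S3811.result n A B g).2
  have hmem : ∀ b : B, b ∈ RingHom.ker g ^ (n + 1) ↔
      PP16.dn n A B b ∈ (RingHom.ker g).map (algebraMap B (PP16.P n A B)) := by
    intro b
    rw [← hS, RingHom.mem_ker, RingHom.comp_apply, Ideal.Quotient.eq_zero_iff_mem]
    rfl
  have hcP : algebraMap B (PP16.P n A B) c ∈ (RingHom.ker g).map (algebraMap B (PP16.P n A B)) :=
    Ideal.mem_map_of_mem _ hc
  constructor
  · intro h
    rw [hmem]
    have h1 : PP16.dn n A B c - algebraMap B (PP16.P n A B) c ∈
        (RingHom.ker g).map (algebraMap B (PP16.P n A B)) := by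
      have hle : RingHom.ker g • (PP16.augIdeal n A B).restrictScalars B ≤
          ((RingHom.ker g).map (algebraMap B (PP16.P n A B))).restrictScalars B := by
        rw [Submodule.smul_le]
        intro i hi τ _
        rw [Submodule.restrictScalars_mem, Algebra.smul_def]
        exact Ideal.mul_mem_right _ _ (Ideal.mem_map_of_mem _ hi)
      exact hle h
    have := Ideal.add_mem _ h1 hcP
    rwa [sub_add_cancel] at this
  · intro h
    have h1 : PP16.dn n A B c ∈ (RingHom.ker g).map (algebraMap B (PP16.P n A B)) := (hmem c).1 h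
    have h2 := sub_aug_mem_smul n A B (RingHom.ker g) (Ideal.sub_mem _ h1 hcP)
    rw [map_sub, aug_dn, aug_algebraMap, sub_self, map_zero, sub_zero] at h2
    exact h2

end

/-- Let R be a commutative ring, S_Y → S_X a homomorphism of R-algebras (an affine piece of a morphism f
: X → Y of schemes over Spec R) and σ : S_X → R an R-algebra retraction (a section of X over the
base) with kernel I. For e ≥ 1 write T^{e−1} for the augmentation ideal of the ring of principal
parts of order e − 1 (the kernel of P^{e−1} → the algebra; for e = 2 this is the module of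
differentials). Then the natural map T^{e−1}(S_Y/R) → T^{e−1}(S_X/R) takes values in I ·
T^{e−1}(S_X/R) — that is, the induced map f^*T^{e−1}_Y → T^{e−1}_X vanishes at the section σ — if
and only if every element of S_Y whose image in S_X lies in I has image in I^e, which says that the
fibre of f through σ contains the e-th order thickening of σ. (The published statement is for a
morphism of separated schemes over a base and sections over an arbitrary base change; this row is
the affine computation it reduces to.) -/
theorem result (R SY SX : Type u)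
    [CommRing R] [CommRing SY] [CommRing SX] [Algebra R SY] [Algebra R SX] [Algebra SY SX]
    [IsScalarTower R SY SX] (σ : SX →ₐ[R] R) (e : ℕ) (he : 1 ≤ e) :
    (∀ y ∈ PP16.augIdeal (e - 1) R SY,
        PP16.map (e - 1) R SY R SX y ∈
          RingHom.ker σ.toRingHom • (PP16.augIdeal (e - 1) R SX).restrictScalars SX) ↔
      (∀ b : SY, algebraMap SY SX b ∈ RingHom.ker σ.toRingHom →
        algebraMap SY SX b ∈ RingHom.ker σ.toRingHom ^ e) := by
  obtain ⟨n, rfl⟩ : ∃ n, e = n + 1 := ⟨e - 1, by omega⟩
  change (∀ y ∈ PP16.augIdeal n R SY,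
        PP16.map n R SY R SX y ∈
          RingHom.ker σ.toRingHom • (PP16.augIdeal n R SX).restrictScalars SX) ↔ _
  have hker : RingHom.ker σ.toRingHom = RingHom.ker σ := rfl
  rw [hker]
  -- reformulate the left-hand side on generators
  have hgen : (∀ y ∈ PP16.augIdeal n R SY,
        PP16.map n R SY R SX y ∈
          RingHom.ker σ • (PP16.augIdeal n R SX).restrictScalars SX) ↔
      ∀ b : SY, PP16.dn n R SX (algebraMap SY SX b) - algebraMap SX (PP16.P n R SX) (algebraMap SY SX b) ∈
          RingHom.ker σ • (PP16.augIdeal n R SX).restrictScalars SX := by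
    constructor
    · intro h b
      have hb : PP16.dn n R SY b - algebraMap SY (PP16.P n R SY) b ∈ PP16.augIdeal n R SY := by
        rw [PP16.augIdeal]
        change Ideal.Quotient.mk _ ((1 : SY) ⊗ₜ[R] b) - Ideal.Quotient.mk _ (b ⊗ₜ[R] (1 : SY)) ∈ _
        rw [← map_sub]
        exact Ideal.mem_map_of_mem _ (KaehlerDifferential.one_smul_sub_smul_one_mem_ideal R b)
      have := h _ hb
      rw [map_sub, PP16.map_dn, PP16.map_algebraMap] at this
      exact this
    · intro h y hy
      rw [PP16.augIdeal] at hy
      obtain ⟨t, ht, rfl⟩ := (Ideal.mem_map_iff_of_surjective _ Ideal.Quotient.mk_surjective).1 hy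
      rw [← KaehlerDifferential.span_range_eq_ideal] at ht
      refine Submodule.span_induction ?_ ?_ ?_ ?_ ht
      · rintro _ ⟨b, rfl⟩
        have h1 : Ideal.Quotient.mk (KaehlerDifferential.ideal R SY ^ (n + 1))
            ((1 : SY) ⊗ₜ[R] b - b ⊗ₜ[R] (1 : SY)) =
            PP16.dn n R SY b - algebraMap SY (PP16.P n R SY) b := by
          rw [map_sub]; rfl
        beta_reduce
        rw [h1, map_sub, PP16.map_dn, PP16.map_algebraMap]
        exact h b
      · rw [map_zero, map_zero]; exact Submodule.zero_mem _
      · intro x y _ _ hx hy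
        rw [map_add, map_add]; exact Submodule.add_mem _ hx hy
      · intro a x _ hx
        rw [smul_eq_mul, map_mul, map_mul]
        exact mul_mem_smul_aug n R SX _ _ hx
  rw [hgen]
  have hσι : ∀ r : R, σ (algebraMap R SX r) = r := by
    intro r
    rw [AlgHom.commutes]; rfl
  constructor
  · intro h b hb
    exact (dn_sub_mem_iff n R SX σ _ hb).1 (h b)
  · intro h b
    -- subtract the constant `σ (φ b)`
    set r : R := σ (algebraMap SY SX b) with hr
    have hb' : algebraMap SY SX (b - algebraMap R SY r) ∈ RingHom.ker σ := by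
      rw [RingHom.mem_ker, map_sub, map_sub, ← IsScalarTower.algebraMap_apply, hσι, sub_self]
    have h1 := (dn_sub_mem_iff n R SX σ _ hb').2 (h _ hb')
    have h2 : PP16.dn n R SX (algebraMap SY SX (b - algebraMap R SY r)) -
        algebraMap SX (PP16.P n R SX) (algebraMap SY SX (b - algebraMap R SY r)) =
        PP16.dn n R SX (algebraMap SY SX b) -
          algebraMap SX (PP16.P n R SX) (algebraMap SY SX b) := by
      rw [map_sub, map_sub, map_sub, ← IsScalarTower.algebraMap_apply R SY SX,
        AlgHom.commutes, ← IsScalarTower.algebraMap_apply R SX (PP16.P n R SX)]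
      ring
    rw [h2] at h1
    exact h1

end Groth.Agent.S13936
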