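import Groth.Statements.S13937
import Mathlib
import Groth.Agent.Lib.Helper6.Pencil

set_option autoImplicit false
universe u
open W4c1limliniiii

namespace Groth.Agent.S13937

open Groth.Agent.Lib.helper6.Pencil Polynomial in
theorem main {k : Type u} [Field k]
    (p : ℕ) (d : ℕ) (P : Fin 3 → k) (hP : Function.Injective P)
    (e : Fin 3 → ℕ) (he : W4c1limliniiii.Admissible p d e) :
    ∃ L : Submodule k (k[X] × k[X]), L ≠ ⊥ ∧
      (∀ v ∈ L, v ≠ 0 →
        Submodule.span k {v.1, v.2} ≤ Polynomial.degreeLE k d ∧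
          Module.finrank k (Submodule.span k {v.1, v.2}) = 2 ∧
          ∀ i, ∃ s ∈ Submodule.span k {v.1, v.2}, s ≠ 0 ∧
            e i ≤ Polynomial.rootMultiplicity (P i) s) ∧
      (∀ V : Submodule k k[X], V ≤ Polynomial.degreeLE k d → Module.finrank k V = 2 →
        (∀ i, ∃ s ∈ V, s ≠ 0 ∧ e i ≤ Polynomial.rootMultiplicity (P i) s) →
          ∃ v ∈ L, v ≠ 0 ∧ Submodule.span k {v.1, v.2} = V) ∧
      (∀ v ∈ L, ∀ w ∈ L, v ≠ 0 → w ≠ 0 →
        Submodule.span k {v.1, v.2} = Submodule.span k {w.1, w.2} → ∃ c : k, w = c • v) := by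
  have hn : Num d e := num_of_admissible he
  have hnz : ∀ v : k[X] × k[X], v ≠ 0 → v.1 ≠ 0 ∨ v.2 ≠ 0 := by
    intro v hv
    by_contra h
    push Not at h
    exact hv (Prod.ext h.1 h.2)
  refine ⟨solSpace d P e, ?_, ?_, ?_, ?_⟩
  · obtain ⟨F, G, hs, hne⟩ := exists_sol hn P
    rw [Submodule.ne_bot_iff]
    refine ⟨(F, G), mem_solSpace.mpr hs, ?_⟩
    intro h
    rcases hne with h' | h'
    · exact h' (congrArg Prod.fst h)
    · exact h' (congrArg Prod.snd h)
  · intro v hv hv0
    have hs := mem_solSpace.mp hv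
    have hne := hnz v hv0
    exact ⟨span_le_degreeLE hs, sol_finrank hP hn hs hne, sections_of_sol hP hn hs hne⟩
  · intro V hVle hfr hsec
    obtain ⟨F, G, hs, hne, hsp⟩ := exists_sol_of_sections hP hn hVle hfr hsec
    refine ⟨(F, G), mem_solSpace.mpr hs, ?_, hsp⟩
    intro h
    rcases hne with h' | h'
    · exact h' (congrArg Prod.fst h)
    · exact h' (congrArg Prod.snd h)
  · intro v hv w hw hv0 hw0 hsp
    obtain ⟨c, h1, h2⟩ := sol_proportional hP hn (mem_solSpace.mp hv) (hnz v hv0)
      (mem_solSpace.mp hw) hsp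
    exact ⟨c, Prod.ext h1 h2⟩



open Polynomial in
/-- Over an algebraically closed field of characteristic p (zero allowed), fix three distinct points
P_1, P_2, P_3 of the affine line and admissible indices (2 ≤ e_i ≤ d, e_i prime to p, ∑ (e_i − 1) =
2d − 2). The two-dimensional spaces V of polynomials of degree at most d that contain, for each i, a
non-zero member vanishing to order at least e_i at P_i (the intersection of the three Schubert
cycles in the Grassmannian of pencils) form a projective space of some dimension m ≥ 0: there is a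
non-zero linear space L of pairs of polynomials such that sending a non-zero pair (F, G) ∈ L to the
span of F and G is a surjection onto that set of spaces under which two non-zero pairs have the same
image exactly when they are proportional. -/
theorem result (k : Type u) [Field k]
    [IsAlgClosed k] (p : ℕ) [CharP k p] (d : ℕ) (P : Fin 3 → k) (hP : Function.Injective P)
    (e : Fin 3 → ℕ) (he : W4c1limliniiii.Admissible p d e) :
    ∃ L : Submodule k (k[X] × k[X]), L ≠ ⊥ ∧
      (∀ v ∈ L, v ≠ 0 →
        Submodule.span k {v.1, v.2} ≤ Polynomial.degreeLE k d ∧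
          Module.finrank k (Submodule.span k {v.1, v.2}) = 2 ∧
          ∀ i, ∃ s ∈ Submodule.span k {v.1, v.2}, s ≠ 0 ∧
            e i ≤ Polynomial.rootMultiplicity (P i) s) ∧
      (∀ V : Submodule k k[X], V ≤ Polynomial.degreeLE k d → Module.finrank k V = 2 →
        (∀ i, ∃ s ∈ V, s ≠ 0 ∧ e i ≤ Polynomial.rootMultiplicity (P i) s) →
          ∃ v ∈ L, v ≠ 0 ∧ Submodule.span k {v.1, v.2} = V) ∧
      (∀ v ∈ L, ∀ w ∈ L, v ≠ 0 → w ≠ 0 →
        Submodule.span k {v.1, v.2} = Submodule.span k {w.1, w.2} → ∃ c : k, w = c • v) := by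
  exact main p d P hP e he


end Groth.Agent.S13937
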