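import Groth.Statements.S13953
import Mathlib

set_option autoImplicit false
universe u
open TateLoc

namespace Groth.Agent.S13953



/-- Let (R_i) be a family of local commutative rings and R = ∏ R_i. Any open cover of Spec R can be
refined by one coming from a finite partition of the index set: there is a map c from the index set
to a finite set such that, for each value m, the basic open subset of Spec R defined by the
idempotent which is 1 at the indices with c i = m and 0 elsewhere (this open is the spectrum of the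
product of the R_i over that class) is contained in some member of the cover. -/
theorem result {ι : Type u} (R : ι → Type u)
    [∀ i, CommRing (R i)] [∀ i, IsLocalRing (R i)] {J : Type u}
    (U : J → TopologicalSpace.Opens (PrimeSpectrum (∀ i, R i))) (hU : ⨆ j, U j = ⊤) :
    ∃ (n : ℕ) (c : ι → Fin n), ∀ m : Fin n, ∃ j : J,
      PrimeSpectrum.basicOpen (fun i => if c i = m then (1 : R i) else 0) ≤ U j := by
  classical
  let I : J → Ideal (∀ i, R i) := fun j => PrimeSpectrum.vanishingIdeal ((U j : Set _)ᶜ)
  have hI : ∀ j (f : ∀ i, R i), f ∈ I j → PrimeSpectrum.basicOpen f ≤ U j := by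
    intro j f hf p hp
    by_contra hpU
    have h1 : f ∈ p.asIdeal := (PrimeSpectrum.mem_vanishingIdeal _ _).mp hf p hpU
    exact hp h1
  have htop : ⨆ j, I j = ⊤ := by
    rw [← PrimeSpectrum.zeroLocus_empty_iff_eq_top, PrimeSpectrum.zeroLocus_iSup,
      Set.eq_empty_iff_forall_notMem]
    intro p hp
    have hp' : ∀ j, p ∈ PrimeSpectrum.zeroLocus (I j : Set _) := Set.mem_iInter.mp hp
    have h1 : p ∈ (⨆ j, U j : TopologicalSpace.Opens _) := by rw [hU]; trivial
    obtain ⟨j, hj⟩ := TopologicalSpace.Opens.mem_iSup.mp h1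
    have h2 := hp' j
    rw [PrimeSpectrum.zeroLocus_vanishingIdeal_eq_closure,
      IsClosed.closure_eq (U j).isOpen.isClosed_compl] at h2
    exact h2 hj
  have h1 : (1 : ∀ i, R i) ∈ ⨆ j, I j := by rw [htop]; exact Submodule.mem_top
  obtain ⟨F, hF, hsum⟩ := (Submodule.mem_iSup_iff_exists_finsupp _ _).mp h1
  have hunit : ∀ i : ι, ∃ j ∈ F.support, IsUnit (F j i) := by
    intro i
    by_contra hcon
    have hcon' : ∀ j ∈ F.support, ¬ IsUnit (F j i) := fun j hj hu => hcon ⟨j, hj, hu⟩
    have h2 : (1 : R i) ∈ IsLocalRing.maximalIdeal (R i) := by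
      have h3 : (F.sum fun _ x => x) i = 1 := by rw [hsum]; rfl
      rw [Finsupp.sum, Finset.sum_apply] at h3
      rw [← h3]
      exact Ideal.sum_mem _ (fun j hj => (IsLocalRing.mem_maximalIdeal _).mpr (hcon' j hj))
    exact (Ideal.ne_top_iff_one _).mp (IsLocalRing.maximalIdeal.isMaximal (R i)).ne_top h2
  choose jc hjc hjcu using hunit
  let e := F.support.equivFin
  refine ⟨F.support.card, fun i => e ⟨jc i, hjc i⟩, ?_⟩
  intro m
  obtain ⟨j, hj⟩ : ∃ j : F.support, e j = m := ⟨e.symm m, e.apply_symm_apply m⟩
  refine ⟨j.1, ?_⟩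
  refine le_trans ?_ (hI j.1 (F j.1) (hF j.1))
  have hmul : (fun i => if e ⟨jc i, hjc i⟩ = m then (1 : R i) else 0) =
      F j.1 * (fun i => if e ⟨jc i, hjc i⟩ = m then Ring.inverse (F j.1 i) else 0) := by
    funext i
    rw [Pi.mul_apply]
    by_cases hc : e ⟨jc i, hjc i⟩ = m
    · rw [if_pos hc, if_pos hc]
      have hji : jc i = j.1 := by
        have h2 : (⟨jc i, hjc i⟩ : F.support) = j := e.injective (hc.trans hj.symm)
        exact congrArg Subtype.val h2
      rw [← hji]
      exact (Ring.mul_inverse_cancel _ (hjcu i)).symm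
    · rw [if_neg hc, if_neg hc, mul_zero]
  rw [hmul]
  exact PrimeSpectrum.basicOpen_mul_le_left _ _


end Groth.Agent.S13953
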