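import Groth.Statements.S13954
import Groth.Agent.Lib.Helper12.PicAffSpace3
import Groth.Agent.Lib.Helper12.PicAffSpace4

set_option autoImplicit false
set_option linter.style.haveILetI false
universe u
open TateLoc

namespace Groth.Agent.S13954

open CategoryTheory AlgebraicGeometry in
/-- Let X be a reduced scheme whose invertible modules are all trivial (Pic X = 0), and n a natural
number. If for every point x of X all invertible modules on affine n-space over Spec of the local
ring of X at x are trivial, then all invertible modules on affine n-space over X are trivial. -/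
theorem result (X : Scheme.{u}) [IsReduced X] (n : ℕ)
    (hX : (∀ L : (X).Modules, PicF.IsInvertible L → Nonempty (L ≅ Coh.structureModule (X))))
    (hloc : ∀ x : X, (∀ L : (AffineSpace (ULift.{u} (Fin n)) (Spec (X.presheaf.stalk x))).Modules, PicF.IsInvertible L → Nonempty (L ≅ Coh.structureModule (AffineSpace (ULift.{u} (Fin n)) (Spec (X.presheaf.stalk x)))))) :
    (∀ L : (AffineSpace (ULift.{u} (Fin n)) X).Modules, PicF.IsInvertible L → Nonempty (L ≅ Coh.structureModule (AffineSpace (ULift.{u} (Fin n)) X))) := by
  intro L hL
  obtain ⟨τ⟩ := hX _ (Groth.Agent.Lib.helper11.InvMod.isInvertible_pullback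
    (Groth.Agent.Lib.helper12.PicAffSpace.zeroSec (ULift.{u} (Fin n)) X) hL)
  refine Groth.Agent.Lib.helper12.PicAffSpace.nonempty_iso_of_locally_trivial
    (ULift.{u} (Fin n)) L (fun x => ?_) τ
  obtain ⟨ε₀⟩ := hloc x _ (Groth.Agent.Lib.helper11.InvMod.isInvertible_pullback
    (AffineSpace.map (ULift.{u} (Fin n)) (X.fromSpecStalk x)) hL)
  exact Groth.Agent.Lib.helper12.PicAffSpace.exists_isTrivOn_of_stalk (ULift.{u} (Fin n)) X L hL x ε₀


end Groth.Agent.S13954
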