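import Groth.Statements.S13956
import Mathlib
import Groth.Agent.Lib.Helper21.UDiv4
import Groth.Agent.Lib.Helper13.Normal10
-- import your own Groth.Agent.* helpers here

set_option autoImplicit false
universe u
open TateLoc

namespace Groth.Agent.S13956

section Helpers

open CategoryTheory CategoryTheory.Limits Opposite AlgebraicGeometry TopologicalSpace Topology
open Groth.Agent.Lib.helper21 Groth.Agent.Lib.helper13

set_option linter.style.haveILetI false

/-- Noetherian induction over the clopen subsets of a Noetherian normal scheme -/
lemma key (X : Scheme.{u}) [IsLocallyNoetherian X] [CompactSpace X] (hN : Pi1.IsNormalScheme X)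
    (M : Type) [AddCommGroup M] (hM : ∀ n : ℕ, 0 < n → Function.Bijective (fun x : M => n • x))
    (i : ℕ) (hi : 0 < i) :
    ∀ (Z : Closeds X) (Y : Scheme.{u}) (a : Y ⟶ X) [IsOpenImmersion a],
      Set.range a.base = (Z : Set X) → Subsingleton (EtCoh.H Y (EtCoh.const Y M) i) := by
  haveI : IsNoetherian X := { }
  haveI : NoetherianSpace X := IsNoetherian.noetherianSpace
  intro Z
  induction Z using WellFoundedLT.induction with
  | ind Z ih =>
    intro Y a _ hZ
    haveI : IsLocallyNoetherian Y := isLocallyNoetherian_of_isOpenImmersion a
    have hY : Pi1.IsNormalScheme Y := Normal.of_etale a hN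
    by_cases hne : Nonempty Y
    · by_cases hc : PreconnectedSpace Y
      · haveI : ConnectedSpace Y := { toPreconnectedSpace := hc, toNonempty := hne }
        haveI : IsIntegral Y := Normal.isIntegral_of_connected hY
          (Normal.finite_irreducibleComponents_of_isLocallyNoetherian Y)
        exact UDiv.H_const_subsingleton_of_integral Y hY M hM i hi
      · rw [preconnectedSpace_iff_clopen] at hc
        push_neg at hc
        obtain ⟨s, hs, hs0, hs1⟩ := hc
        have hce : IsClosedEmbedding a.base :=
          ⟨a.isOpenEmbedding.isEmbedding, hZ ▸ Z.isClosed⟩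
        have hstep : ∀ t : Set Y, IsClopen t → t ≠ Set.univ → ∀ U : Y.Opens, (U : Set Y) = t →
            Subsingleton (EtCoh.H U.toScheme (EtCoh.const U.toScheme M) i) := by
          intro t ht ht1 U hU
          refine ih ⟨a.base '' t, hce.isClosedMap t ht.isClosed⟩ ?_ U.toScheme (U.ι ≫ a) ?_
          · rw [SetLike.lt_iff_le_and_exists]
            refine ⟨?_, ?_⟩
            · intro x hx
              obtain ⟨y, -, rfl⟩ := hx
              show a.base y ∈ (Z : Set X)
              rw [← hZ]
              exact ⟨y, rfl⟩
            · obtain ⟨y, hy⟩ := (Set.ne_univ_iff_exists_notMem t).1 ht1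
              refine ⟨a.base y, ?_, ?_⟩
              · show a.base y ∈ (Z : Set X)
                rw [← hZ]
                exact ⟨y, rfl⟩
              · rintro ⟨y', hy', hyy'⟩
                exact hy (hce.injective hyy' ▸ hy')
          · show Set.range (U.ι ≫ a).base = a.base '' t
            rw [Scheme.Hom.comp_base, TopCat.coe_comp, Set.range_comp, Scheme.Opens.range_ι, hU]
        have hsc1 : sᶜ ≠ Set.univ := by
          intro h
          rw [Set.compl_univ_iff] at h
          exact hs0.ne_empty h
        let U₁ : Y.Opens := ⟨s, hs.isOpen⟩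
        let U₂ : Y.Opens := ⟨sᶜ, hs.compl.isOpen⟩
        have h1 := hstep s hs hs1 U₁ rfl
        have h2 := hstep sᶜ hs.compl hsc1 U₂ rfl
        refine UDiv.H_const_subsingleton_of_clopen_cover U₁.ι U₂.ι ?_ ?_ M i h1 h2
        · rw [Scheme.Opens.range_ι, Scheme.Opens.range_ι]
          exact disjoint_compl_right
        · rw [Scheme.Opens.range_ι, Scheme.Opens.range_ι]
          exact Set.union_compl_self s
    · haveI : IsEmpty Y := not_nonempty_iff.1 hne
      exact UDiv.subsingleton_H_of_isEmpty Y _ i

end Helpers

open CategoryTheory AlgebraicGeometry in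
/-- For a Noetherian normal scheme X (quasi-compact, locally Noetherian, all local rings integrally
closed domains), the cohomology of the constant sheaf ℚ on the small etale site of X vanishes in
every positive degree. -/
theorem result (X : Scheme.{u}) [IsLocallyNoetherian X] [CompactSpace X]
    (hN : ∀ x : X, IsDomain (X.presheaf.stalk x) ∧ IsIntegrallyClosed (X.presheaf.stalk x))
    (i : ℕ) (hi : 0 < i) :
    Subsingleton (EtCoh.H X (EtCoh.const X ℚ) i) := by
  refine key X hN ℚ ?_ i hi ⊤ X (𝟙 X) ?_
  · intro n hn
    have hn' : (n : ℚ) ≠ 0 := Nat.cast_ne_zero.2 hn.ne'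
    constructor
    · intro x y hxy
      simp only [nsmul_eq_mul] at hxy
      exact mul_left_cancel₀ hn' hxy
    · intro y
      refine ⟨y / n, ?_⟩
      simp only [nsmul_eq_mul]
      field_simp
  · show Set.range (𝟙 X : X ⟶ X).base = Set.univ
    rw [Scheme.Hom.id_base]
    exact Set.range_id

end Groth.Agent.S13956
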