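import Groth.Statements.S13958
import Mathlib

set_option autoImplicit false
universe u
open TateLoc

namespace Groth.Agent.S13958

set_option linter.style.haveILetI false


open CategoryTheory ProfiniteGrp ProfiniteGrp.ProfiniteCompletion

lemma exists_finite_hom (Q : Type*) [CommGroup Q] [Group.FG Q] (q : Q) (hq : q ≠ 1) :
    ∃ (F : Type) (_ : CommGroup F) (_ : Finite F) (f : Q →* F), f q ≠ 1 := by
  classical
  obtain ⟨ι, j, _, _, p, hp, e, ⟨E⟩⟩ := CommGroup.equiv_free_prod_prod_multiplicative_zmod Q
  haveI : ∀ i, NeZero (p i ^ e i) := fun i => ⟨pow_ne_zero _ (hp i).ne_zero⟩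
  have hEq : E q ≠ 1 := fun h => hq (by simpa using h)
  by_cases h2 : (E q).2 = 1
  · have h1 : (E q).1 ≠ 1 := fun h => hEq (Prod.ext h h2)
    obtain ⟨i, hi⟩ : ∃ i, (E q).1 i ≠ 1 := by
      by_contra hcon
      push Not at hcon
      exact h1 (funext hcon)
    set a : ℤ := Multiplicative.toAdd ((E q).1 i) with ha
    have ha0 : a ≠ 0 := fun h => hi (by
      have : (E q).1 i = Multiplicative.ofAdd a := rfl
      rw [this, h]; rfl)
    let m : ℕ := a.natAbs + 1
    haveI : NeZero m := ⟨Nat.succ_ne_zero _⟩
    let g : Multiplicative ℤ →* Multiplicative (ZMod m) :=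
      AddMonoidHom.toMultiplicative (Int.castAddHom (ZMod m))
    let f : Q →* Multiplicative (ZMod m) :=
      g.comp ((Pi.evalMonoidHom (fun _ : j => Multiplicative ℤ) i).comp
        ((MonoidHom.fst _ _).comp E.toMonoidHom))
    refine ⟨Multiplicative (ZMod m), inferInstance, inferInstance, f, ?_⟩
    intro hf
    have h3 : ((a : ℤ) : ZMod m) = 0 := by
      have : f q = Multiplicative.ofAdd ((a : ℤ) : ZMod m) := rfl
      rw [this] at hf
      exact Multiplicative.ofAdd.injective hf
    rw [ZMod.intCast_zmod_eq_zero_iff_dvd] at h3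
    have h4 : (m : ℤ) ∣ a.natAbs := by
      rcases Int.natAbs_eq a with h | h
      · rw [← h]; exact h3
      · rw [h] at h3; simpa using h3
    have h5 : m ∣ a.natAbs := by exact_mod_cast h4
    have h6 : a.natAbs ≠ 0 := Int.natAbs_ne_zero.2 ha0
    have := Nat.le_of_dvd (Nat.pos_of_ne_zero h6) h5
    omega
  · let f : Q →* ((i : ι) → Multiplicative (ZMod (p i ^ e i))) :=
      (MonoidHom.snd _ _).comp E.toMonoidHom
    exact ⟨_, inferInstance, inferInstance, f, h2⟩

lemma exists_finiteIndex (A' : Type u) [CommGroup A'] [Group.FG A'] (A : Subgroup A') (x : A')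
    (hx : x ∉ A) : ∃ N : Subgroup A', N.FiniteIndex ∧ A ≤ N ∧ x ∉ N := by
  have hq : (QuotientGroup.mk x : A' ⧸ A) ≠ 1 := fun h => hx ((QuotientGroup.eq_one_iff x).1 h)
  obtain ⟨F, _, _, f, hf⟩ := exists_finite_hom (A' ⧸ A) _ hq
  refine ⟨(f.comp (QuotientGroup.mk' A)).ker, Subgroup.finiteIndex_ker _, ?_, ?_⟩
  · intro a ha
    rw [MonoidHom.mem_ker, MonoidHom.comp_apply, QuotientGroup.mk'_apply,
      (QuotientGroup.eq_one_iff a).2 ha, map_one]
  · rw [MonoidHom.mem_ker]
    exact hf

theorem main (A' : Type u) [CommGroup A'] [Group.FG A']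
    (A : Subgroup A') (x : A')
    (hx : ProfiniteGrp.ProfiniteCompletion.etaFn (GrpCat.of A') x ∈
      Set.range ⇑(ProfiniteGrp.profiniteCompletion.map (GrpCat.ofHom A.subtype)).hom) :
    x ∈ A := by
  by_contra hxA
  obtain ⟨N, hNfin, hAN, hxN⟩ := exists_finiteIndex A' A x hxA
  let Nn : FiniteIndexNormalSubgroup (GrpCat.of A') :=
    { toSubgroup := N, isNormal' := inferInstance, isFiniteIndex' := hNfin }
  obtain ⟨y, hy⟩ := hx
  set f := (ProfiniteGrp.profiniteCompletion.map (GrpCat.ofHom A.subtype)).hom with hf
  have hcont : Continuous fun y : completion (GrpCat.of A) => (f y).val Nn :=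
    ((continuous_apply Nn).comp continuous_subtype_val).comp f.continuous_toFun
  have hclosed : IsClosed {y : completion (GrpCat.of A) | (f y).val Nn = 1} :=
    isClosed_eq hcont continuous_const
  have hdense : ∀ a : A, (f (etaFn (GrpCat.of A) a)).val Nn = 1 := by
    intro a
    have h1 : f (etaFn (GrpCat.of A) a) = etaFn (GrpCat.of A') (a : A') := by
      have := lift_eta (GrpCat.ofHom A.subtype ≫ eta (GrpCat.of A'))
      exact ConcreteCategory.congr_hom this a
    rw [h1]
    exact (QuotientGroup.eq_one_iff (a : A')).2 (hAN a.2)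
  have hall : (f y).val Nn = 1 :=
    (denseRange (GrpCat.of A)).induction_on (p := fun y => (f y).val Nn = 1) y hclosed hdense
  rw [hy] at hall
  exact hxN ((QuotientGroup.eq_one_iff x).1 hall)



open CategoryTheory in
/-- Let A' be a finitely generated abelian group (written multiplicatively, discrete) and A a subgroup.
If the image of x ∈ A' in the profinite completion of A' lies in the image of the profinite
completion of A under the map induced by the inclusion, then x ∈ A. (The published statement says
that the square formed by the two completion maps and the two inclusions is Cartesian; given the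
injectivity of the induced map on completions, which holds here, that amounts to this membership
criterion.) -/
theorem result (A' : Type u) [CommGroup A'] [Group.FG A']
    (A : Subgroup A') (x : A')
    (hx : ProfiniteGrp.ProfiniteCompletion.etaFn (GrpCat.of A') x ∈
      Set.range ⇑(ProfiniteGrp.profiniteCompletion.map (GrpCat.ofHom A.subtype)).hom) :
    x ∈ A := by
  exact main A' A x hx

end Groth.Agent.S13958
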