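import Groth.Statements.S1396
import Mathlib
import Groth.Agent.Lib.Helper12.QuasiAffine
-- import your own Groth.Agent.* helpers here

set_option autoImplicit false
universe u
open FlatMor

namespace Groth.Agent.S1396

section helpers
open AlgebraicGeometry CategoryTheory Limits TopologicalSpace
open Groth.Agent.Lib.helper12

theorem main {X Y : Scheme.{u}} (f : X ⟶ Y) :
    MoreMor.IsIndQuasiAffineHom f ↔ ∀ (V : Y.Opens), IsCompact (V : Set ↑Y) →
      IsQuasiSeparated (V : Set ↑Y) →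
      ∀ (U : X.Opens) (hUV : U ≤ f ⁻¹ᵁ V), IsCompact (U : Set ↑X) →
        MoreMor.IsQuasiAffineHom (f.resLE V U hUV) := by
  constructor
  · intro h V hVc hVqs U hUV hUc
    have : CompactSpace (U : Scheme.{u}) := isCompact_iff_compactSpace.mp hUc
    have : QuasiSeparatedSpace (V : Scheme.{u}) :=
      (isQuasiSeparated_iff_quasiSeparatedSpace _ V.2).mp hVqs
    have hqc : QuasiCompact (f.resLE V U hUV) := inferInstance
    refine ⟨hqc, fun V₀ hV₀ => ?_⟩
    set r := f.resLE V U hUV with hr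
    have hc : IsCompact ((r ⁻¹ᵁ V₀ : (U : Scheme.{u}).Opens) : Set U) :=
      QuasiCompact.isCompact_preimage (f := r) _ V₀.2 hV₀.isCompact
    have : CompactSpace (r ⁻¹ᵁ V₀ : Scheme.{u}) := isCompact_iff_compactSpace.mp hc
    let V₁ : Y.Opens := V.ι ''ᵁ V₀
    have hV₁ : IsAffineOpen V₁ := hV₀.image_of_isOpenImmersion _
    let k : (r ⁻¹ᵁ V₀ : Scheme.{u}) ⟶ X := (r ⁻¹ᵁ V₀).ι ≫ U.ι
    have hk : Set.range k ⊆ Set.range (f ⁻¹ᵁ V₁).ι := by
      rintro _ ⟨p, rfl⟩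
      rw [Scheme.Opens.range_ι]
      show f (k p) ∈ V₁
      have hp : r p.1 ∈ V₀ := p.2
      have h2 : f (U.ι p.1) = V.ι (r p.1) := by
        have := congr($(Scheme.Hom.resLE_comp_ι f hUV) p.1)
        exact this.symm
      have h3 : f (k p) = V.ι (r p.1) := by rw [← h2]; rfl
      rw [h3]
      exact ⟨r p.1, hp, rfl⟩
    let j := IsOpenImmersion.lift (f ⁻¹ᵁ V₁).ι k hk
    have hj : j ≫ (f ⁻¹ᵁ V₁).ι = k := IsOpenImmersion.lift_fac _ _ _
    have : IsOpenImmersion (j ≫ (f ⁻¹ᵁ V₁).ι) := by rw [hj]; infer_instance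
    have : IsOpenImmersion j := IsOpenImmersion.of_comp j (f ⁻¹ᵁ V₁).ι
    exact qa_of_openImmersion_indQA j (h V₁ hV₁)
  · intro H V hV U' hU'
    have : CompactSpace (U' : Scheme.{u}) := isCompact_iff_compactSpace.mp hU'
    have : IsAffine (V : Scheme.{u}) := hV
    let U : X.Opens := (f ⁻¹ᵁ V).ι ''ᵁ U'
    have hUV : U ≤ f ⁻¹ᵁ V := (f ⁻¹ᵁ V).ι_image_le U'
    have hUc : IsCompact (U : Set X) := hU'.image (f ⁻¹ᵁ V).ι.continuous
    have hQA := H V hV.isCompact hV.isQuasiSeparated U hUV hUc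
    set r := f.resLE V U hUV with hr
    have hqa : Scheme.IsQuasiAffine (r ⁻¹ᵁ ⊤ : Scheme.{u}) := hQA.2 ⊤ (isAffineOpen_top _)
    let k : (U' : Scheme.{u}) ⟶ X := U'.ι ≫ (f ⁻¹ᵁ V).ι
    have hk : Set.range k ⊆ Set.range ((r ⁻¹ᵁ ⊤).ι ≫ U.ι) := by
      rintro _ ⟨p, rfl⟩
      have hpU : k p ∈ U := ⟨p.1, p.2, rfl⟩
      exact ⟨⟨⟨k p, hpU⟩, trivial⟩, rfl⟩
    let j := IsOpenImmersion.lift ((r ⁻¹ᵁ ⊤).ι ≫ U.ι) k hk
    have hj : j ≫ ((r ⁻¹ᵁ ⊤).ι ≫ U.ι) = k := IsOpenImmersion.lift_fac _ _ _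
    have : IsOpenImmersion (j ≫ ((r ⁻¹ᵁ ⊤).ι ≫ U.ι)) := by rw [hj]; infer_instance
    have : IsOpenImmersion j := IsOpenImmersion.of_comp j ((r ⁻¹ᵁ ⊤).ι ≫ U.ι)
    exact Scheme.IsQuasiAffine.of_isImmersion j
end helpers

open AlgebraicGeometry CategoryTheory Limits in
/-- (1) ⇔ (4): a morphism f : X → Y is ind-quasi-affine (the preimage of every affine open is a scheme
all of whose quasi-compact opens are quasi-affine) if and only if for every quasi-compact
quasi-separated open V of Y and every quasi-compact open U of the preimage of V, the induced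
morphism U → V is quasi-affine (quasi-compact with quasi-affine preimages of affine opens). -/
theorem result {X Y : Scheme.{u}} (f : X ⟶ Y) :
    MoreMor.IsIndQuasiAffineHom f ↔ ∀ (V : Y.Opens), IsCompact (V : Set ↑Y) → IsQuasiSeparated (V : Set ↑Y) →
      ∀ (U : X.Opens) (hUV : U ≤ f ⁻¹ᵁ V), IsCompact (U : Set ↑X) → MoreMor.IsQuasiAffineHom (f.resLE V U hUV) := by
  exact main f

end Groth.Agent.S1396
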