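import Groth.Statements.S13963
import Mathlib
-- import your own Groth.Agent.* helpers here

set_option autoImplicit false
universe u
open TateLoc

namespace Groth.Agent.S13963

/-- Let A' → A → A'' be continuous homomorphisms of locally compact, second-countable, Hausdorff abelian
topological groups which form a short exact sequence of abstract groups (the first injective, the
second surjective, image equal to kernel). If A' and A'' are compact, then A is compact. -/
theorem result (A' A A'' : Type u)
    [AddCommGroup A'] [TopologicalSpace A'] [IsTopologicalAddGroup A'] [SecondCountableTopology A'] [T2Space A']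
    [CompactSpace A']
    [AddCommGroup A] [TopologicalSpace A] [IsTopologicalAddGroup A] [LocallyCompactSpace A]
    [SecondCountableTopology A] [T2Space A]
    [AddCommGroup A''] [TopologicalSpace A''] [IsTopologicalAddGroup A''] [SecondCountableTopology A''] [T2Space A'']
    [CompactSpace A'']
    (f : A' →+ A) (g : A →+ A'') (hf : Continuous f) (hg : Continuous g)
    (hinj : Function.Injective f) (hsurj : Function.Surjective g) (hex : g.ker = f.range) :
    CompactSpace A := by
  classical
  have hopen : IsOpenMap g := AddMonoidHom.isOpenMap_of_sigmaCompact g hsurj hg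
  -- compact neighbourhood of 0
  obtain ⟨C, hCc, hC0⟩ := exists_compact_mem_nhds (0 : A)
  -- K = range f is compact
  have hK : IsCompact (Set.range f) := isCompact_range hf
  -- the sets g '' (a +ᵥ interior C) cover A''
  have hcover : (Set.univ : Set A'') ⊆ ⋃ a : A, g '' ((fun x => a + x) '' interior C) := by
    intro y _
    obtain ⟨a, rfl⟩ := hsurj y
    refine Set.mem_iUnion.mpr ⟨a, ⟨a, ⟨0, mem_interior_iff_mem_nhds.mpr hC0, add_zero a⟩, rfl⟩⟩
  have hopens : ∀ a : A, IsOpen (g '' ((fun x => a + x) '' interior C)) := by
    intro a
    exact hopen _ ((isOpenMap_add_left a) _ isOpen_interior)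
  obtain ⟨t, ht⟩ := isCompact_univ.elim_finite_subcover _ hopens hcover
  -- A is covered by finitely many compact sets
  have hA : (Set.univ : Set A) ⊆ ⋃ a ∈ t, (fun p : A × A => a + p.1 + p.2) '' (C ×ˢ Set.range f) := by
    intro x _
    have hx := ht (Set.mem_univ (g x))
    simp only [Set.mem_iUnion] at hx
    obtain ⟨a, hat, ⟨_, ⟨c, hc, rfl⟩, hgc⟩⟩ := hx
    have hker : x - (a + c) ∈ g.ker := by
      rw [AddMonoidHom.mem_ker, map_sub, hgc, sub_self]
    rw [hex] at hker
    simp only [Set.mem_iUnion]
    refine ⟨a, hat, ⟨(c, x - (a + c)), ⟨interior_subset hc, hker⟩, ?_⟩⟩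
    simp
  have hcomp : IsCompact (⋃ a ∈ t, (fun p : A × A => a + p.1 + p.2) '' (C ×ˢ Set.range f)) := by
    refine t.isCompact_biUnion fun a _ => ?_
    exact (hCc.prod hK).image (by fun_prop)
  exact ⟨hcomp.of_isClosed_subset isClosed_univ hA⟩

end Groth.Agent.S13963
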