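import Groth.Statements.S13971
import Mathlib
import Groth.Agent.LibObs29d
import Groth.Agent.Lib.Helper17.T1Core
import Groth.Agent.Lib.Helper17.ArtAct
import Groth.Agent.S12722
import Groth.Agent.S12732
import Groth.Agent.S12727

set_option autoImplicit false
universe u v
open CategoryTheory
open ArtFun

namespace Groth.Agent.S13971

open MvPowerSeries Groth.Agent.LibPS29 Groth.Agent.LibCR29 Groth.Agent.LibObs29 Groth.Agent.Lib.helper17.T1Core
open Groth.Agent.Lib.helper17.ArtAct
open ArtFun IsLocalRing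

section tsze

variable {k : Type u} [Field k]

/-- the trivial square-zero extension of an Artinian local algebra by a finite module, as an object. -/
noncomputable def tszeArt (A : Art k k) (M : Type u) [AddCommGroup M] [Module (↥A) M] [Module (↥A)ᵐᵒᵖ M]
    [IsCentralScalar (↥A) M] [Module k M] [IsScalarTower k (↥A) M] [IsScalarTower k (↥A)ᵐᵒᵖ M]
    [Module.Finite (↥A) M] : Art k k :=
  haveI : IsLocalRing (TrivSqZeroExt (↥A) M) :=
    IsLocalRing.of_isUnit_or_isUnit_one_sub_self fun x => by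
      rw [TrivSqZeroExt.isUnit_iff_isUnit_fst, TrivSqZeroExt.isUnit_iff_isUnit_fst, TrivSqZeroExt.fst_sub,
        TrivSqZeroExt.fst_one]
      exact IsLocalRing.isUnit_or_isUnit_one_sub_self _
  haveI : IsArtinianRing (TrivSqZeroExt (↥A) M) :=
    haveI : Module.Finite (↥A) (TrivSqZeroExt (↥A) M) := inferInstanceAs (Module.Finite (↥A) (↥A × M))
    IsArtinianRing.of_finite (↥A) _
  Art.of (TrivSqZeroExt (↥A) M) (A.res.comp (TrivSqZeroExt.fstHom k (↥A) M))
    (fun c => by
      obtain ⟨a, ha⟩ := A.res_surjective c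
      exact ⟨TrivSqZeroExt.inl a, ha⟩)


variable (A : Art k k) (M : Type u) [AddCommGroup M] [Module (↥A) M] [Module (↥A)ᵐᵒᵖ M]
    [IsCentralScalar (↥A) M] [Module k M] [IsScalarTower k (↥A) M] [IsScalarTower k (↥A)ᵐᵒᵖ M]
    [Module.Finite (↥A) M]

noncomputable def tszeProj : tszeArt A M ⟶ A :=
  Art.homMk (TrivSqZeroExt.fstHom k (↥A) M) rfl

noncomputable def tszeIncl : A ⟶ tszeArt A M :=
  Art.homMk (TrivSqZeroExt.inlAlgHom k (↥A) M) (by
    apply AlgHom.ext
    intro a
    rfl)

lemma tszeIncl_proj : tszeIncl A M ≫ tszeProj A M = 𝟙 A := by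
  apply Art.hom_ext
  apply AlgHom.ext
  intro a
  rfl

lemma tsze_mul_eq_zero (x y : TrivSqZeroExt (↥A) M) (hx : x.fst = 0) (hy : y.fst = 0) : x * y = 0 := by
  apply TrivSqZeroExt.ext
  · rw [TrivSqZeroExt.fst_mul, hx, zero_mul, TrivSqZeroExt.fst_zero]
  · rw [TrivSqZeroExt.snd_mul, hx, hy, zero_smul, MulOpposite.op_zero, zero_smul, add_zero,
      TrivSqZeroExt.snd_zero]

lemma ker_tszeProj_sq :
    RingHom.ker (tszeProj A M).toAlgHom * RingHom.ker (tszeProj A M).toAlgHom = ⊥ := by
  rw [eq_bot_iff, Ideal.mul_le]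
  intro x hx y hy
  have hx' : TrivSqZeroExt.fst x = 0 := hx
  have hy' : TrivSqZeroExt.fst y = 0 := hy
  rw [Ideal.mem_bot]
  exact tsze_mul_eq_zero A M x y hx' hy'

variable {A M}
variable {M' : Type u} [AddCommGroup M'] [Module (↥A) M'] [Module (↥A)ᵐᵒᵖ M']
    [IsCentralScalar (↥A) M'] [Module k M'] [IsScalarTower k (↥A) M'] [IsScalarTower k (↥A)ᵐᵒᵖ M']
    [Module.Finite (↥A) M']

noncomputable def tszeMapHom (f : M' →ₗ[↥A] M) : tszeArt A M' ⟶ tszeArt A M :=
  Art.homMk ((TrivSqZeroExt.map f).restrictScalars k) (by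
    apply AlgHom.ext
    intro x
    exact congrArg A.res (TrivSqZeroExt.fst_map f x))

lemma tszeMapHom_proj (f : M' →ₗ[↥A] M) : tszeMapHom f ≫ tszeProj A M = tszeProj A M' := by
  apply Art.hom_ext
  apply AlgHom.ext
  intro a
  exact TrivSqZeroExt.fst_map f a

lemma tszeIncl_mapHom (f : M' →ₗ[↥A] M) : tszeIncl A M' ≫ tszeMapHom f = tszeIncl A M := by
  apply Art.hom_ext
  apply AlgHom.ext
  intro a
  change (TrivSqZeroExt.map f) (TrivSqZeroExt.inl a) = TrivSqZeroExt.inl a
  rw [TrivSqZeroExt.map_inl]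

lemma tszeMapHom_surjective (f : M' →ₗ[↥A] M) (hf : Function.Surjective f) :
    Function.Surjective (tszeMapHom f) := by
  intro x
  obtain ⟨m', hm'⟩ := hf (TrivSqZeroExt.snd x)
  refine ⟨(TrivSqZeroExt.inl (TrivSqZeroExt.fst x) + TrivSqZeroExt.inr m' : TrivSqZeroExt (↥A) M'), ?_⟩
  change (TrivSqZeroExt.map f) _ = x
  apply TrivSqZeroExt.ext
  · rw [TrivSqZeroExt.fst_map, TrivSqZeroExt.fst_add, TrivSqZeroExt.fst_inl, TrivSqZeroExt.fst_inr, add_zero]
  · rw [TrivSqZeroExt.snd_map, TrivSqZeroExt.snd_add, TrivSqZeroExt.snd_inl, TrivSqZeroExt.snd_inr, zero_add, hm']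

end tsze

section aug

variable {k : Type u} [Field k]

/-- the augmentation of a complete local `k`-algebra with residue field `k` is the only `k`-algebra map to `k`. -/
lemma res_unique (R : CRing k k) (g : R.carrier →ₐ[k] k) : g = R.res := by
  have hm : ∀ x ∈ maximalIdeal R.carrier, g x = 0 := by
    intro x hx
    by_contra hc
    have hu : IsUnit (algebraMap k R.carrier (g x)) := (Ne.isUnit hc).map _
    have hnu : ¬ IsUnit (x - algebraMap k R.carrier (g x)) := by
      intro h
      have h2 := h.map g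
      rw [map_sub, AlgHom.commutes] at h2
      simp at h2
    have h3 : x - algebraMap k R.carrier (g x) ∈ maximalIdeal R.carrier := hnu
    have h4 : algebraMap k R.carrier (g x) ∈ maximalIdeal R.carrier := by
      have := Ideal.sub_mem _ hx h3
      rwa [sub_sub_cancel] at this
    exact h4 hu
  apply AlgHom.ext
  intro r
  have h1 : r - algebraMap k R.carrier (R.res r) ∈ maximalIdeal R.carrier := by
    rw [ArtFun.CRing.mem_maximalIdeal_iff, map_sub, AlgHom.commutes]
    exact sub_self _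
  have h2 := hm _ h1
  rw [map_sub, AlgHom.commutes, sub_eq_zero] at h2
  exact h2

end aug

section transfer

variable {k : Type u} [Field k]

theorem t1_transfer (F : Art k k ⥤ Type v)
    (hT1 : ∀ ⦃A A' A'' : ArtFun.Art k k⦄ (π' : A' ⟶ A) (i' : A ⟶ A') (π'' : A'' ⟶ A) (i'' : A ⟶ A'')
        (q : A'' ⟶ A'), i' ≫ π' = 𝟙 A → i'' ≫ π'' = 𝟙 A →
        RingHom.ker π'.toAlgHom * RingHom.ker π'.toAlgHom = ⊥ →
        RingHom.ker π''.toAlgHom * RingHom.ker π''.toAlgHom = ⊥ →
        q ≫ π' = π'' → i'' ≫ q = i' → Function.Surjective q → Function.Surjective (F.map q))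
    (R : CRing k k) (ξ : Family R.carrier R.res F) (hver : IsVersal ξ)
    (A : Art k k) (U : Submodule (↥A) (↥A)) (φ : R.carrier →ₐ[k] TrivSqZeroExt (↥A) ((↥A) ⧸ U)) :
    ∃ ψ : R.carrier →ₐ[k] TrivSqZeroExt (↥A) (↥A),
      ∀ r, (ψ r).fst = (φ r).fst ∧ U.mkQ (ψ r).snd = (φ r).snd := by
  let q := tszeMapHom (A := A) (M := (↥A) ⧸ U) (M' := ↥A) U.mkQ
  have hq : Function.Surjective q := tszeMapHom_surjective U.mkQ (Submodule.mkQ_surjective U)
  have hFq : Function.Surjective (F.map q) :=
    hT1 (tszeProj A _) (tszeIncl A _) (tszeProj A _) (tszeIncl A _) q (tszeIncl_proj A _) (tszeIncl_proj A _)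
      (ker_tszeProj_sq A _) (ker_tszeProj_sq A _) (tszeMapHom_proj _) (tszeIncl_mapHom _) hq
  let φ' : HomSet R.carrier R.res (tszeArt A ((↥A) ⧸ U)) := ⟨φ, res_unique R _⟩
  obtain ⟨y, hy⟩ := hFq (ξ.app _ φ')
  obtain ⟨ψ, hψ1, -⟩ := hver q hq φ' y hy
  refine ⟨ψ.1, fun r => ?_⟩
  have h1 : (TrivSqZeroExt.map U.mkQ) (ψ.1 r) = φ r :=
    congrArg (fun χ : HomSet R.carrier R.res (tszeArt A ((↥A) ⧸ U)) => χ.1 r) hψ1
  rw [← h1]
  exact ⟨(TrivSqZeroExt.fst_map _ _).symm, (TrivSqZeroExt.snd_map _ _).symm⟩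

end transfer

/-- Let k be a field of characteristic zero and F a deformation functor on Artinian local k-algebras
with residue field k — F(k) is a point and the comparison map F(A₁ ×_A A₂) → F(A₁) ×_{F(A)} F(A₂) is
bijective whenever A₂ → A is surjective — whose tangent space F(k[ε]) is finite-dimensional. Suppose
that for every object A and every surjective morphism q : A'' → A' between split square-zero
extensions of A (A' and A'' come with retractions onto A whose kernels have square zero and with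
sections from A, and q commutes with the retractions and the sections), the map F(q) : F(A'') →
F(A') is surjective. Then F is unobstructed: F(B) → F(A) is surjective for every surjective B → A.
(The published statement is for deformation categories, with the hypothesis that, for every object
over A, the functor M ↦ {isomorphism classes of its liftings to A ⊕ M} on finite A-modules carries
surjections to surjections; this row is the case of a category fibred in sets, for which a split
square-zero extension of A is A ⊕ M with M the kernel, a finite A-module, and that hypothesis is the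
displayed surjectivity.) -/
theorem result {k : Type u} [Field k] [CharZero k]
    (F : ArtFun.Art k k ⥤ Type v) [ArtFun.TangentStr F]
    (h0 : ArtFun.H0 F)
    (hRS : (∀ ⦃B A A' A'' : ArtFun.Art k k⦄ (p' : B ⟶ A') (p'' : B ⟶ A'') (f' : A' ⟶ A) (f'' : A'' ⟶ A)
        (h : ArtFun.Art.IsFibreProd p' p'' f' f''), Function.Surjective f'' → Function.Bijective (ArtFun.cmp F h)))
    (hfin : ArtFun.Hfin F)
    (hT1 : ∀ ⦃A A' A'' : ArtFun.Art k k⦄ (π' : A' ⟶ A) (i' : A ⟶ A') (π'' : A'' ⟶ A) (i'' : A ⟶ A'')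
        (q : A'' ⟶ A'), i' ≫ π' = 𝟙 A → i'' ≫ π'' = 𝟙 A →
        RingHom.ker π'.toAlgHom * RingHom.ker π'.toAlgHom = ⊥ →
        RingHom.ker π''.toAlgHom * RingHom.ker π''.toAlgHom = ⊥ →
        q ≫ π' = π'' → i'' ≫ q = i' → Function.Surjective q → Function.Surjective (F.map q)) :
    ArtFun.IsSmoothFunctor F := by
  have : IsAdicComplete (maximalIdeal k) k := by
    rw [IsLocalRing.maximalIdeal_eq_bot]
    exact IsAdicComplete.bot k
  have hS1 : S1 F := fun B A A' A'' p' p'' f' f'' h hs => (hRS p' p'' f' f'' h hs).2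
  have hHeps : Heps F := fun B A' p' p'' h => hRS p' p'' _ _ h (Art.dual k k).res_surjective
  have hk : Subsingleton (Derivation k k k) := ⟨fun D₁ D₂ => by
    ext c
    have h1 : ∀ D : Derivation k k k, D c = 0 := fun D => by
      have : c = algebraMap k k c := rfl
      rw [this, Derivation.map_algebraMap]
    rw [h1, h1]⟩
  obtain ⟨H⟩ := Groth.Agent.S12732.result hk F h0 hS1 hHeps hfin
  obtain ⟨hver, -⟩ := H.miniversal
  obtain ⟨n, φ₀, hsurj, hker⟩ := exists_ps_presentation H.ring
  have hbot : RingHom.ker φ₀ = ⊥ := by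
    apply ker_eq_bot φ₀ hker
    intro e he hIe
    let P := psCRing (kCRing k) n
    let K : Ideal P.carrier := (show Ideal (MvPowerSeries (Fin n) k) from Groth.Agent.Lib.helper17.T1Core.F k n e)
    have hK1 : K ≤ maximalIdeal P.carrier := F_le_maximalIdeal (k := k) (d := n) (e := e) (by omega)
    have hK2 : maximalIdeal P.carrier ^ e ≤ K := maximalIdeal_pow_le_F (k := k) (d := n) e
    let Ae : Art k k := artQuot P K hK1 e hK2
    let q : MvPowerSeries (Fin n) k →ₐ[k] Ae := Ideal.Quotient.mkₐ k (Groth.Agent.Lib.helper17.T1Core.F k n e)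
    have hq : RingHom.ker q = Groth.Agent.Lib.helper17.T1Core.F k n e :=
      Ideal.Quotient.mkₐ_ker k (Groth.Agent.Lib.helper17.T1Core.F k n e)
    apply step φ₀ hsurj q e (by omega) hq hker hIe
    intro U φ
    exact t1_transfer F hT1 H.ring H.family hver Ae U φ
  have hbij : Function.Bijective φ₀ :=
    ⟨(RingHom.injective_iff_ker_eq_bot φ₀.toRingHom).2 hbot, hsurj⟩
  have hsm : IsSmoothFunctor (hR H.ring.carrier H.ring.res) :=
    (Groth.Agent.S12722.result (fun c => ⟨c, rfl⟩) H.ring).2 ⟨n, ⟨(AlgEquiv.ofBijective φ₀ hbij).symm⟩⟩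
  intro B A μ hμ x
  obtain ⟨φ, rfl⟩ := Groth.Agent.S12727.surjective_app_of_isVersal h0 H.family hver A x
  obtain ⟨φ', hφ'⟩ := hsm μ hμ φ
  refine ⟨H.family.app B φ', ?_⟩
  exact (family_natural' H.family μ (show HomSet H.ring.carrier H.ring.res B from φ')).trans
    (congrArg (H.family.app A) hφ')

end Groth.Agent.S13971
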