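import Groth.Statements.S13978
import Mathlib

set_option autoImplicit false
universe u v
open CategoryTheory
open scoped TensorProduct
open ArtFun ArtFun.ObsTheory

namespace Groth.Agent.S13978

open ArtFun.Art

theorem mem_range_rTensor_of_coord {k V J : Type*} [Field k] [AddCommGroup V] [Module k V]
    [AddCommGroup J] [Module k J] (Ω : Submodule k V) {ι : Type*} (𝒞 : Module.Basis ι k J)
    (x : V ⊗[k] J)
    (h : ∀ i, TensorProduct.rid k V (LinearMap.lTensor V (𝒞.coord i) x) ∈ Ω) :
    x ∈ LinearMap.range (LinearMap.rTensor J Ω.subtype) := by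
  classical
  set b := TensorProduct.equivFinsuppOfBasisRight 𝒞 x with hbdef
  have hx : x = b.sum fun i m => m ⊗ₜ 𝒞 i := by
    rw [← TensorProduct.equivFinsuppOfBasisRight_symm_apply]
    exact ((TensorProduct.equivFinsuppOfBasisRight 𝒞).symm_apply_apply x).symm
  rw [hx]
  refine Submodule.sum_mem _ fun i _ => ?_
  have hb : b i ∈ Ω := by
    rw [hbdef, TensorProduct.equivFinsuppOfBasisRight_apply]
    exact h i
  exact ⟨(⟨b i, hb⟩ : Ω) ⊗ₜ 𝒞 i, rfl⟩

variable {k : Type u} [Field k]

/-- `k`-subspaces of a square-zero kernel are ideals. -/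
def kerIdeal {C' C : ArtFun.Art k k} (p : C' ⟶ C)
    (hJ : IsLocalRing.maximalIdeal C' * RingHom.ker p.toAlgHom = ⊥)
    (φ : ↥(RingHom.ker p.toAlgHom) →ₗ[k] k) : Ideal C' where
  carrier := {a | ∃ h : a ∈ RingHom.ker p.toAlgHom, φ ⟨a, h⟩ = 0}
  add_mem' := by
    rintro a b ⟨ha, ha'⟩ ⟨hb, hb'⟩
    refine ⟨Ideal.add_mem _ ha hb, ?_⟩
    have : (⟨a + b, Ideal.add_mem _ ha hb⟩ : ↥(RingHom.ker p.toAlgHom)) = ⟨a, ha⟩ + ⟨b, hb⟩ := rfl
    rw [this, map_add, ha', hb', add_zero]
  zero_mem' := ⟨Ideal.zero_mem _, by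
    have : (⟨0, Ideal.zero_mem _⟩ : ↥(RingHom.ker p.toAlgHom)) = 0 := rfl
    rw [this, map_zero]⟩
  smul_mem' := by
    rintro c a ⟨ha, ha'⟩
    have hmem : c • a ∈ RingHom.ker p.toAlgHom := Ideal.mul_mem_left _ c ha
    refine ⟨hmem, ?_⟩
    have h1 : c - algebraMap k C' (C'.res c) ∈ IsLocalRing.maximalIdeal C' := by
      rw [mem_maximalIdeal_iff, map_sub, AlgHom.commutes]
      simp
    have h2 : (c - algebraMap k C' (C'.res c)) * a = 0 := by
      have : (c - algebraMap k C' (C'.res c)) * a ∈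
          IsLocalRing.maximalIdeal C' * RingHom.ker p.toAlgHom := Ideal.mul_mem_mul h1 ha
      rw [hJ] at this
      exact this
    have h3 : (⟨c • a, hmem⟩ : ↥(RingHom.ker p.toAlgHom)) = (C'.res c) • ⟨a, ha⟩ := by
      apply Subtype.ext
      change c * a = (C'.res c) • a
      rw [Algebra.smul_def]
      rw [sub_mul, sub_eq_zero] at h2
      exact h2
    rw [h3, map_smul, ha', smul_zero]

/-- For obstruction theories of functors in the vector-space form, let k be a field, F a functor on
Artinian local k-algebras with residue field k and (V, ω) an obstruction theory for F — for each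
surjection p : C' → C whose kernel J is killed by the maximal ideal and each u ∈ F(C) an obstruction
ω(p, u) ∈ V ⊗_k J, zero exactly when u lifts, and compatible with replacing C' → C by C'/K → C for
ideals K ≤ J. Let Ω ⊆ V be the subspace spanned by the obstructions along tiny extensions (those p
whose kernel is one-dimensional), transported into V by the isomorphisms V ⊗ J ≅ V coming from
linear isomorphisms J ≅ k. Then for every p and u the obstruction ω(p, u) lies in the image of Ω ⊗_k
J → V ⊗_k J. (The published statement is for deformation categories and obstruction theories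
functorial along all morphisms of extensions; this row assumes functoriality along quotients C'/K
only, which is all its proof uses, and no condition on F.) -/
theorem result {k : Type u} [Field k]
    {F : ArtFun.Art k k ⥤ Type v} {V : Type u} [AddCommGroup V] [Module k V]
    (T : ArtFun.ObsTheory F V) {C' C : ArtFun.Art k k} (p : C' ⟶ C) (hp : ArtFun.Art.IsSemismallExt p)
    (u : F.obj C) :
    T.obs p hp u ∈ LinearMap.range (LinearMap.rTensor (↥(RingHom.ker p.toAlgHom))
      (Submodule.span k {v : V | ∃ (B' B : ArtFun.Art k k) (t : B' ⟶ B) (ht : ArtFun.Art.IsSmallExt t)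
          (w : F.obj B) (φ : ↥(RingHom.ker t.toAlgHom) ≃ₗ[k] k),
          v = TensorProduct.rid k V (LinearMap.lTensor V φ.toLinearMap (T.obs t ht.isSemismallExt w))}).subtype) := by
  classical
  set J := RingHom.ker p.toAlgHom with hJdef
  have hJ : IsLocalRing.maximalIdeal C' * J = ⊥ := hp.2
  let 𝒞 := Module.Basis.ofVectorSpace k ↥J
  refine mem_range_rTensor_of_coord _ 𝒞 _ fun i => ?_
  set φ : ↥J →ₗ[k] k := 𝒞.coord i with hφdef
  set e : ↥J := 𝒞 i with hedef
  have hφe : φ e = 1 := by
    rw [hφdef, hedef, Module.Basis.coord_apply, Module.Basis.repr_self, Finsupp.single_eq_same]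
  let K : Ideal C' := kerIdeal p hJ φ
  have hKJ : K ≤ RingHom.ker p.toAlgHom := fun a ha => ha.1
  have hJm : J ≤ IsLocalRing.maximalIdeal C' := by
    intro a ha
    rw [mem_maximalIdeal_iff, ← res_app p a]
    have : p.toAlgHom a = 0 := ha
    change C.res (p.toAlgHom a) = 0
    rw [this, map_zero]
  have hK : K ≤ IsLocalRing.maximalIdeal C' := hKJ.trans hJm
  set q := quotFactor hK p hKJ with hqdef
  let π : C' →ₐ[k] (quot C' K hK) := (quotMk C' K hK).toAlgHom
  have hπ_surj : Function.Surjective π := quotMk_surjective C' K hK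
  have hqπ : ∀ a : C', q.toAlgHom (π a) = p.toAlgHom a := fun a => rfl
  have hπ_zero : ∀ a : C', π a = 0 ↔ a ∈ K := fun a => Ideal.Quotient.eq_zero_iff_mem
  have hmk_mem : ∀ a : C', a ∈ J → π a ∈ RingHom.ker q.toAlgHom := by
    intro a ha
    rw [RingHom.mem_ker, hqπ]
    exact ha
  let g : ↥(RingHom.ker q.toAlgHom) := ⟨π (e : C'), hmk_mem _ e.2⟩
  have hg : g ≠ 0 := by
    intro h0
    have h1 : π (e : C') = 0 := congrArg Subtype.val h0
    rw [hπ_zero] at h1
    obtain ⟨h2, h3⟩ := h1
    have h4 : φ e = 0 := h3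
    rw [hφe] at h4
    exact one_ne_zero h4
  have hdecomp : ∀ (a : C') (ha : a ∈ J),
      (⟨π a, hmk_mem a ha⟩ : ↥(RingHom.ker q.toAlgHom)) = φ ⟨a, ha⟩ • g := by
    intro a ha
    apply Subtype.ext
    change π a = φ ⟨a, ha⟩ • π (e : C')
    have hmem : a - (φ ⟨a, ha⟩) • (e : C') ∈ K := by
      have h5 : (φ ⟨a, ha⟩) • (e : C') ∈ J := (φ ⟨a, ha⟩ • e).2
      refine ⟨J.sub_mem ha h5, ?_⟩
      have h6 : (⟨a - φ ⟨a, ha⟩ • (e : C'), J.sub_mem ha h5⟩ : ↥J) =
          ⟨a, ha⟩ - φ ⟨a, ha⟩ • e := rfl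
      rw [h6, map_sub, map_smul, hφe, smul_eq_mul, mul_one, sub_self]
    rw [← hπ_zero, map_sub, map_smul, sub_eq_zero] at hmem
    exact hmem
  have hker_q : ∀ y ∈ RingHom.ker q.toAlgHom, ∃ (a : C') (_ : a ∈ J), y = π a := by
    intro y hy
    obtain ⟨a, rfl⟩ := hπ_surj y
    rw [RingHom.mem_ker, hqπ] at hy
    exact ⟨a, hy, rfl⟩
  have hq_small : IsSmallExt q := by
    refine ⟨?_, ?_, ?_, ?_⟩
    · intro c
      obtain ⟨a, ha⟩ := hp.1 c
      exact ⟨π a, ha⟩
    · intro hbot
      apply hg
      apply Subtype.ext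
      have h1 : π (e : C') ∈ RingHom.ker q.toAlgHom := hmk_mem _ e.2
      rw [hbot] at h1
      exact h1
    · refine ⟨⟨(g : quot C' K hK), ?_⟩⟩
      apply le_antisymm
      · intro y hy
        obtain ⟨a, ha, rfl⟩ := hker_q y hy
        have h1 : π a = φ ⟨a, ha⟩ • π (e : C') := congrArg Subtype.val (hdecomp a ha)
        rw [Submodule.mem_span_singleton]
        refine ⟨algebraMap k _ (φ ⟨a, ha⟩), ?_⟩
        change algebraMap k (quot C' K hK) (φ ⟨a, ha⟩) • (π (e : C')) = π a
        rw [h1, smul_eq_mul, ← Algebra.smul_def]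
      · rw [Submodule.span_le, Set.singleton_subset_iff]
        exact g.2
    · rw [eq_bot_iff, Ideal.mul_le]
      intro r hr s hs
      obtain ⟨r', rfl⟩ := hπ_surj r
      obtain ⟨s', hs', rfl⟩ := hker_q s hs
      have hr' : r' ∈ IsLocalRing.maximalIdeal C' := by
        rw [mem_maximalIdeal_iff] at hr ⊢
        exact hr
      have h1 : r' * s' ∈ IsLocalRing.maximalIdeal C' * J := Ideal.mul_mem_mul hr' hs'
      rw [hJ, Ideal.mem_bot] at h1
      rw [← map_mul, h1, map_zero]
      exact Ideal.zero_mem _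
  let ψ : k →ₗ[k] ↥(RingHom.ker q.toAlgHom) := LinearMap.toSpanSingleton k _ g
  have hψ_bij : Function.Bijective ψ := by
    constructor
    · rw [injective_iff_map_eq_zero]
      intro c hc
      have hc' : c • g = 0 := hc
      rcases smul_eq_zero.mp hc' with h | h
      · exact h
      · exact absurd h hg
    · intro y
      obtain ⟨a, ha, hya⟩ := hker_q y.1 y.2
      refine ⟨φ ⟨a, ha⟩, ?_⟩
      change φ ⟨a, ha⟩ • g = y
      rw [← hdecomp a ha]
      exact Subtype.ext hya.symm
  let φbar : ↥(RingHom.ker q.toAlgHom) ≃ₗ[k] k := (LinearEquiv.ofBijective ψ hψ_bij).symm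
  have hcomp : φbar.toLinearMap ∘ₗ ((kerToQuot hK p hKJ).restrictScalars k) = φ := by
    apply LinearMap.ext
    intro j
    change (LinearEquiv.ofBijective ψ hψ_bij).symm (kerToQuot hK p hKJ j) = φ j
    rw [LinearEquiv.symm_apply_eq]
    change kerToQuot hK p hKJ j = φ j • g
    exact hdecomp j.1 j.2
  have hobs := T.obs_quot p hp K hK hKJ hq_small.isSemismallExt u
  have hv : TensorProduct.rid k V (LinearMap.lTensor V φ (T.obs p hp u)) =
      TensorProduct.rid k V (LinearMap.lTensor V φbar.toLinearMap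
        (T.obs q hq_small.isSemismallExt u)) := by
    rw [hobs, ← LinearMap.lTensor_comp_apply, hcomp]
  rw [hv]
  exact Submodule.subset_span ⟨quot C' K hK, C, q, hq_small, u, φbar, rfl⟩

end Groth.Agent.S13978
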