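import Groth.Statements.S1398
import Mathlib
-- import your own Groth.Agent.* helpers here

set_option autoImplicit false
universe u
open FlatMor

namespace Groth.Agent.S1398

section helpers
open AlgebraicGeometry CategoryTheory Limits
theorem qa_of_open {T : Scheme.{u}} [T.IsQuasiAffine] (U : T.Opens) (hU : IsCompact (U : Set T)) :
    Scheme.IsQuasiAffine (U : Scheme.{u}) := by
  have : CompactSpace (U : Scheme.{u}) := isCompact_iff_compactSpace.mp hU
  exact Scheme.IsQuasiAffine.of_isImmersion U.ι

theorem main {X Y : Scheme.{u}} (f : X ⟶ Y) :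
    (IsImmersion f → MoreMor.IsIndQuasiAffineHom f) ∧
      (MoreMor.IsQuasiAffineHom f → MoreMor.IsIndQuasiAffineHom f) := by
  constructor
  · intro hf V hV U hU
    have : CompactSpace (U : Scheme.{u}) := isCompact_iff_compactSpace.mp hU
    have : IsAffine (V : Scheme.{u}) := hV
    exact Scheme.IsQuasiAffine.of_isImmersion (U.ι ≫ f ∣_ V)
  · rintro ⟨_, hf⟩ V hV U hU
    have := hf V hV
    exact qa_of_open U hU
end helpers

open AlgebraicGeometry CategoryTheory Limits in
/-- An immersion is ind-quasi-affine, and so is any quasi-affine morphism. -/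
theorem result {X Y : Scheme.{u}} (f : X ⟶ Y) :
    (IsImmersion f → MoreMor.IsIndQuasiAffineHom f) ∧ (MoreMor.IsQuasiAffineHom f → MoreMor.IsIndQuasiAffineHom f) := by
  exact main f

end Groth.Agent.S1398
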