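import Groth.Statements.S13981
import Groth.Agent.LibCR29d
import Groth.Agent.S12710
import Groth.Agent.S12727
-- import your own Groth.Agent.* helpers here

set_option autoImplicit false
universe u v
open CategoryTheory
open ArtFun

namespace Groth.Agent.S13981
open Groth.Agent.LibCR29 IsLocalRing

/-- one lifting step -/
theorem step {Λ : Type u} {k : Type u} [CommRing Λ] [Field k]
    [Algebra Λ k] [IsNoetherianRing Λ] [Module.Finite Λ k]
    {F : ArtFun.Art Λ k ⥤ Type v}
    (hRS : ∀ ⦃B A A₁ A₂ : ArtFun.Art Λ k⦄ (p₁ : B ⟶ A₁) (p₂ : B ⟶ A₂) (f₁ : A₁ ⟶ A) (f₂ : A₂ ⟶ A)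
        (h : ArtFun.Art.IsFibreProd p₁ p₂ f₁ f₂), Function.Surjective f₂ → Function.Bijective (ArtFun.cmp F h))
    (R : ArtFun.CRing Λ k) (ξ : ArtFun.Family R.carrier R.res F) (hξ : ArtFun.IsVersal ξ)
    {Ap' Am' Ap Am : Art Λ k} (τ' : Ap' ⟶ Am') (τ : Ap ⟶ Am) (gp : Ap' ⟶ Ap) (gm : Am' ⟶ Am)
    (hsq : τ' ≫ gm = gp ≫ τ) (hτ : Function.Surjective τ)
    (hν : ∀ (a' : Am') (a : Ap), gm a' = τ a → ∃ b : Ap', τ' b = a' ∧ gp b = a)
    (ψm : HomSet R.carrier R.res Am') (φp : HomSet R.carrier R.res Ap)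
    (hcomp : HomSet.map gm ψm = HomSet.map τ φp)
    (y : F.obj Ap') (hy1 : F.map τ' y = ξ.app _ ψm) (hy2 : F.map gp y = ξ.app _ φp) :
    ∃ ψp : HomSet R.carrier R.res Ap', HomSet.map τ' ψp = ψm ∧ HomSet.map gp ψp = φp ∧
      ξ.app _ ψp = y := by
  obtain ⟨Q, p₁, p₂, hQ⟩ := Groth.Agent.S12710.result gm τ hτ
  obtain ⟨ν, hν1, hν2⟩ := Groth.Agent.S12727.exists_lift_hom hQ τ' gp hsq
  have hνs : Function.Surjective ν := by
    intro q
    obtain ⟨b, hb1, hb2⟩ := hν (p₁ q) (p₂ q) (hQ.w_apply q)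
    refine ⟨b, hQ.inj _ _ ?_ ?_⟩
    · have : p₁ (ν b) = τ' b := congrArg (fun h : Ap' ⟶ Am' => h b) hν1
      rw [this, hb1]
    · have : p₂ (ν b) = gp b := congrArg (fun h : Ap' ⟶ Ap => h b) hν2
      rw [this, hb2]
  obtain ⟨θ, hθ1, hθ2⟩ := Groth.Agent.S12727.exists_lift_homSet hQ ψm φp hcomp
  have hFν : F.map ν y = ξ.app _ θ := by
    apply (hRS p₁ p₂ gm τ hQ hτ).1
    apply FibProd.ext
    · change F.map p₁ (F.map ν y) = F.map p₁ (ξ.app _ θ)
      rw [← Functor.map_comp_apply, hν1, hy1, ← ξ.natural, hθ1]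
    · change F.map p₂ (F.map ν y) = F.map p₂ (ξ.app _ θ)
      rw [← Functor.map_comp_apply, hν2, hy2, ← ξ.natural, hθ2]
  obtain ⟨ψp, hψ1, hψ2⟩ := hξ ν hνs θ y hFν
  refine ⟨ψp, ?_, ?_, hψ2⟩
  · rw [← hθ1, ← hψ1, ← hν1]
    rfl
  · rw [← hθ2, ← hψ1, ← hν2]
    rfl


/-- Let F be a functor on Artinian local Λ-algebras with residue field k (Λ Noetherian, Λ → k finite and
surjective) satisfying (RS) — the comparison map for A₁ ×_A A₂ is bijective whenever A₂ → A is
surjective — and let ξ be a versal family of F over a complete local Noetherian Λ-algebra R with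
residue field k. Then the lifting property defining versality also holds along surjections of
complete local Noetherian algebras: if g : A' → A is such a surjection, η' is a formal element of F
over A' (a compatible system over the truncations A'/m^(n+1)) and φ : R → A is a map under which the
formal element of ξ becomes the pushforward of η' along g, then φ lifts to ψ : R → A' with g ∘ ψ = φ
and with ξ inducing η' along ψ. (The published statement takes Λ complete local Noetherian with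
residue field k; its proof does not use completeness of Λ, and this row assumes only Λ Noetherian
with Λ → k surjective.) -/
theorem result {Λ : Type u} {k : Type u} [CommRing Λ] [Field k]
    [Algebra Λ k] [IsNoetherianRing Λ] [Module.Finite Λ k] (hΛ : Function.Surjective (algebraMap Λ k))
    {F : ArtFun.Art Λ k ⥤ Type v}
    (hRS : ∀ ⦃B A A₁ A₂ : ArtFun.Art Λ k⦄ (p₁ : B ⟶ A₁) (p₂ : B ⟶ A₂) (f₁ : A₁ ⟶ A) (f₂ : A₂ ⟶ A)
        (h : ArtFun.Art.IsFibreProd p₁ p₂ f₁ f₂), Function.Surjective f₂ → Function.Bijective (ArtFun.cmp F h))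
    (R : ArtFun.CRing Λ k) (ξ : ArtFun.Family R.carrier R.res F) (hξ : ArtFun.IsVersal ξ)
    (A' A : ArtFun.CRing Λ k) (g : A'.carrier →ₐ[Λ] A.carrier) (hg : A.res.comp g = A'.res)
    (hgs : Function.Surjective g) (η' : ArtFun.FormalElt F A')
    (φ : R.carrier →ₐ[Λ] A.carrier) (hφ : A.res.comp φ = R.res)
    (hsq : (ξ.along φ hφ).toFormalElt = η'.push g hg) :
    ∃ (ψ : R.carrier →ₐ[Λ] A'.carrier) (hψ : A'.res.comp ψ = R.res),
      g.comp ψ = φ ∧ (ξ.along ψ hψ).toFormalElt = η' := by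
  -- the truncations of `φ`
  let φn : ∀ n, HomSet R.carrier R.res (A.trunc n) := fun n =>
    ⟨(A.truncHom n).1.comp φ, by rw [← AlgHom.comp_assoc, (A.truncHom n).2, hφ]⟩
  have hφn : ∀ n, ξ.app _ (φn n) = F.map (CRing.truncMapOfHom g hg n) (η'.elt n) := fun n =>
    congrArg (fun u : FormalElt F A => u.elt n) hsq
  have hφcompat : ∀ n, HomSet.map (A.truncMap n) (φn (n + 1)) = φn n := by
    intro n
    apply Subtype.ext
    apply AlgHom.ext
    intro r
    rfl
  have htrsurj : ∀ (B : CRing Λ k) n, Function.Surjective (B.truncMap n) := fun B n x => by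
    obtain ⟨a, rfl⟩ := Ideal.Quotient.mk_surjective x
    exact ⟨Ideal.Quotient.mk _ a, rfl⟩
  have hgloc : (maximalIdeal A'.carrier).map g = maximalIdeal A.carrier :=
    IsLocalRing.map_maximalIdeal_of_surjective g.toRingHom hgs
  -- the base case
  have h00 : ∃ ψ : HomSet R.carrier R.res (A'.trunc 0), ξ.app _ ψ = η'.elt 0 ∧
      HomSet.map (CRing.truncMapOfHom g hg 0) ψ = φn 0 := by
    let ψm : HomSet R.carrier R.res (Art.base Λ k) := ⟨R.res, AlgHom.id_comp _⟩
    have hsurj0 : Function.Surjective (Art.toBase (A.trunc 0)) := (A.trunc 0).res_surjective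
    have hbase : HomSet.map (Art.toBase (A.trunc 0)) (φn 0) = ψm := Subtype.ext (φn 0).2
    obtain ⟨ψp, -, h2, h3⟩ := step hRS R ξ hξ (Art.toBase (A'.trunc 0)) (Art.toBase (A.trunc 0))
      (CRing.truncMapOfHom g hg 0) (𝟙 (Art.base Λ k))
      (by rw [Art.eq_toBase (_ ≫ _), Art.eq_toBase (_ ≫ _)]) hsurj0
      (by
        intro a' a ha
        obtain ⟨x, rfl⟩ := Ideal.Quotient.mk_surjective a
        obtain ⟨x', rfl⟩ := hgs x
        refine ⟨Ideal.Quotient.mk _ x', ?_, rfl⟩
        change A'.res x' = a'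
        rw [← CRing.res_comp_apply g hg]
        exact ha.symm)
      ψm (φn 0) (by rw [hbase]; rfl) (η'.elt 0)
      (by
        rw [← hbase, ξ.natural, hφn 0, ← Functor.map_comp_apply,
          Art.eq_toBase (CRing.truncMapOfHom g hg 0 ≫ Art.toBase (A.trunc 0))])
      (hφn 0).symm
    exact ⟨ψp, h3, h2⟩
  -- the inductive step
  have hstep : ∀ n (ψ : {ψ : HomSet R.carrier R.res (A'.trunc n) // ξ.app _ ψ = η'.elt n ∧
        HomSet.map (CRing.truncMapOfHom g hg n) ψ = φn n}),
      ∃ ψ' : {ψ' : HomSet R.carrier R.res (A'.trunc (n + 1)) // ξ.app _ ψ' = η'.elt (n + 1) ∧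
        HomSet.map (CRing.truncMapOfHom g hg (n + 1)) ψ' = φn (n + 1)},
        HomSet.map (A'.truncMap n) ψ'.1 = ψ.1 := by
    intro n ψ
    obtain ⟨ψp, h1, h2, h3⟩ := step hRS R ξ hξ (A'.truncMap n) (A.truncMap n)
      (CRing.truncMapOfHom g hg (n + 1)) (CRing.truncMapOfHom g hg n)
      (CRing.truncMapOfHom_truncMap g hg n).symm (htrsurj A n)
      (by
        intro a' a ha
        obtain ⟨x', rfl⟩ := Ideal.Quotient.mk_surjective a'
        obtain ⟨x, rfl⟩ := Ideal.Quotient.mk_surjective a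
        have h1 : x - g x' ∈ maximalIdeal A.carrier ^ (n + 1) := by
          have : Ideal.Quotient.mk (CRing.mpow A n) (g x') = Ideal.Quotient.mk (CRing.mpow A n) x := ha
          rw [Ideal.Quotient.eq] at this
          rw [← Ideal.neg_mem_iff]
          rwa [neg_sub]
        rw [← hgloc, ← Ideal.map_pow] at h1
        obtain ⟨w, hw, hgw⟩ := (Ideal.mem_map_iff_of_surjective g hgs).1 h1
        refine ⟨Ideal.Quotient.mk _ (x' + w), ?_, ?_⟩
        · change Ideal.Quotient.mk (CRing.mpow A' n) (x' + w) = Ideal.Quotient.mk _ x'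
          rw [Ideal.Quotient.eq, add_sub_cancel_left]
          exact hw
        · change Ideal.Quotient.mk (CRing.mpow A (n + 1)) (g (x' + w)) = Ideal.Quotient.mk _ x
          rw [map_add, hgw]
          congr 1
          ring)
      ψ.1 (φn (n + 1)) (by rw [ψ.2.2, hφcompat]) (η'.elt (n + 1))
      (by rw [η'.compat, ψ.2.1]) (hφn (n + 1)).symm
    exact ⟨⟨ψp, h3, h2⟩, h1⟩
  choose next hnext using hstep
  let seq : ∀ n, {ψ : HomSet R.carrier R.res (A'.trunc n) // ξ.app _ ψ = η'.elt n ∧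
      HomSet.map (CRing.truncMapOfHom g hg n) ψ = φn n} := fun n =>
    Nat.rec ⟨h00.choose, h00.choose_spec⟩ (fun n x => next n x) n
  have hseq : ∀ n, HomSet.map (A'.truncMap n) (seq (n + 1)).1 = (seq n).1 := fun n =>
    hnext n (seq n)
  obtain ⟨ψ, hψ⟩ := exists_algHom_of_compat A' (fun n => (seq n).1.1)
    (fun n => congrArg Subtype.val (hseq n))
  have hψres : A'.res.comp ψ = R.res := by
    rw [res_comp_of_truncHom, hψ 0]; exact (seq 0).1.2
  refine ⟨ψ, hψres, ?_, ?_⟩
  · apply AlgHom.ext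
    intro r
    have hH : IsHausdorff (maximalIdeal A.carrier) A.carrier := A.isAdicComplete.toIsHausdorff
    rw [← sub_eq_zero]
    apply hH.haus'
    intro n
    rw [SModEq.zero, smul_eq_mul, Ideal.mul_top]
    have h1 := congrArg (fun h : HomSet R.carrier R.res (A.trunc n) => h.1 r) (seq n).2.2
    have h2 := congrArg (fun h : R.carrier →ₐ[Λ] (A'.trunc n).carrier => h r) (hψ n)
    change (CRing.truncMapOfHom g hg n).toAlgHom ((seq n).1.1 r) =
      Ideal.Quotient.mk (CRing.mpow A n) (φ r) at h1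
    change Ideal.Quotient.mk (CRing.mpow A' n) (ψ r) = (seq n).1.1 r at h2
    rw [← h2] at h1
    change Ideal.Quotient.mk (CRing.mpow A n) (g (ψ r)) = _ at h1
    rw [Ideal.Quotient.eq] at h1
    exact Ideal.pow_le_pow_right (Nat.le_succ n) h1
  · apply FormalElt.ext'
    intro n
    change ξ.app _ ⟨(A'.truncHom n).1.comp ψ, _⟩ = η'.elt n
    rw [← (seq n).2.1]
    congr 1
    exact Subtype.ext (hψ n)

end Groth.Agent.S13981
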