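import Groth.Statements.S13988
import Groth.Agent.Lib.Helper8.DevCenter

set_option autoImplicit false
universe u
open CategoryTheory AlgebraicGeometry
open CohGab

namespace Groth.Agent.S13988

/-- Let X be a Noetherian scheme. The canonical ring map from the global functions Γ(X, O_X) to the
centre of the category of coherent O_X-modules (the endomorphisms of its identity functor), sending
r to multiplication by r, is bijective: for every natural endomorphism φ of the identity functor of
Coh(X) there is a unique global function r such that, for every coherent module M, φ_M is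
multiplication by r (compared as maps of the underlying abelian sheaves). (The published result
builds a ringed space from Coh(X) — irreducible Serre subcategories of finite type, with the centres
of the categories Coh(U) as structure sheaf — and proves it isomorphic to X, for coherent sheaves
twisted by a class in the cohomological Brauer group and with X over a field, a hypothesis its proof
does not use; this row is the ring-theoretic content of that isomorphism on global sections, for the
trivial class; applied to the open subschemes of X it gives the statement on every open.) -/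
theorem result (X : Scheme.{u}) [IsNoetherian X]
    (φ : 𝟭 (ObjectProperty.FullSubcategory (fun M : X.Modules => Coh.IsCoh M)) ⟶ 𝟭 (ObjectProperty.FullSubcategory (fun M : X.Modules => Coh.IsCoh M))) :
    ∃! r : Coh.Γtop X, ∀ M : ObjectProperty.FullSubcategory (fun M : X.Modules => Coh.IsCoh M),
      (SheafOfModules.toSheaf X.ringCatSheaf).map (φ.app M).hom = Coh.smulAb M.obj r := by
  let ψ : ∀ M : X.Modules, Coh.IsCoh M → (M ⟶ M) := fun M hM =>
    (φ.app (⟨M, hM⟩ : ObjectProperty.FullSubcategory (fun M : X.Modules => Coh.IsCoh M))).hom
  have hnat : ∀ (A B : X.Modules) (hA : Coh.IsCoh A) (hB : Coh.IsCoh B) (f : A ⟶ B),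
      f ≫ ψ B hB = ψ A hA ≫ f := by
    intro A B hA hB f
    have := φ.naturality (ObjectProperty.homMk f :
      (⟨A, hA⟩ : ObjectProperty.FullSubcategory (fun M : X.Modules => Coh.IsCoh M)) ⟶ ⟨B, hB⟩)
    exact congrArg (fun g => g.hom) this
  have hO : Coh.IsCoh (Coh.structureModule X) :=
    Groth.Agent.Lib.helper8.Dev.isCoh_structureModule X
  let r : Coh.Γtop X := ((ψ (Coh.structureModule X) hO).app ⊤).hom (1 : Γ(X, ⊤))
  refine ⟨r, fun M => ?_, fun r' hr' => ?_⟩
  · apply Sheaf.hom_ext
    ext U m
    exact Groth.Agent.Lib.helper8.Dev.center_coh ψ hnat M.obj M.property U.unop m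
  · have h1 := hr' ⟨Coh.structureModule X, hO⟩
    have h2 := congrArg (fun g => g.hom.app (Opposite.op ⊤) (1 : Γ(X, ⊤))) h1
    have h3 : (Coh.smulAb (Coh.structureModule X) r').hom.app (Opposite.op ⊤) (1 : Γ(X, ⊤)) = r' := by
      rw [Coh.smulAb_app]
      show (Coh.resTop X (Opposite.op ⊤) r' : Γ(X, ⊤)) * 1 = r'
      rw [mul_one]
      show (X.presheaf.map (𝟙 _)) r' = r'
      rw [X.presheaf.map_id]
      rfl
    exact (h2.trans h3).symm

end Groth.Agent.S13988
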