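import Groth.Statements.S1399
import Mathlib
import Groth.Agent.Lib.Helper12.QuasiAffine
-- import your own Groth.Agent.* helpers here

set_option autoImplicit false
universe u
open FlatMor

namespace Groth.Agent.S1399

section helpers
open AlgebraicGeometry CategoryTheory Limits TopologicalSpace
open Groth.Agent.Lib.helper12

theorem main {X Y Z : Scheme.{u}} (f : X ⟶ Y) (g : Y ⟶ Z)
    (h : MoreMor.IsIndQuasiAffineHom (f ≫ g)) :
    MoreMor.IsIndQuasiAffineHom f := by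
  intro V hV U hU
  have : CompactSpace (U : Scheme.{u}) := isCompact_iff_compactSpace.mp hU
  have : IsAffine (V : Scheme.{u}) := hV
  let φ : (U : Scheme.{u}) ⟶ (V : Scheme.{u}) := U.ι ≫ f ∣_ V
  refine qa_of_affine_target φ fun x ↦ ?_
  -- choose an affine open W of Z containing the image
  obtain ⟨_, ⟨W, hW, rfl⟩, hzW, -⟩ := (Z.isBasis_affineOpens).exists_subset_of_mem_open
    (Set.mem_univ (g (V.ι (φ x)))) isOpen_univ
  -- basic open of V inside the preimage of W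
  obtain ⟨_, ⟨_, ⟨t, rfl⟩, rfl⟩, hxt, htW⟩ := (isBasis_basicOpen (V : Scheme.{u})).exists_subset_of_mem_open
    (show φ x ∈ ((V.ι ≫ g) ⁻¹ᵁ W : (V : Scheme.{u}).Opens) from hzW) ((V.ι ≫ g) ⁻¹ᵁ W).2
  refine ⟨t, hxt, ?_⟩
  have hcomp : IsCompact ((φ ⁻¹ᵁ (V : Scheme.{u}).basicOpen t : (U : Scheme.{u}).Opens) : Set U) := by
    rw [Scheme.preimage_basicOpen_top]
    simpa using isRetrocompact_basicOpen (φ.appTop t) isCompact_univ isOpen_univ
  have : CompactSpace (φ ⁻¹ᵁ (V : Scheme.{u}).basicOpen t : Scheme.{u}) :=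
    isCompact_iff_compactSpace.mp hcomp
  -- the open immersion into the preimage of W
  let k : (φ ⁻¹ᵁ (V : Scheme.{u}).basicOpen t : Scheme.{u}) ⟶ X :=
    (φ ⁻¹ᵁ (V : Scheme.{u}).basicOpen t).ι ≫ U.ι ≫ (f ⁻¹ᵁ V).ι
  have hk : Set.range k ⊆ Set.range ((f ≫ g) ⁻¹ᵁ W).ι := by
    rintro _ ⟨p, rfl⟩
    rw [Scheme.Opens.range_ι]
    show (f ≫ g) (k p) ∈ W
    have hp : φ p.1 ∈ (V : Scheme.{u}).basicOpen t := p.2
    have h1 := htW hp
    have h2 : f ((f ⁻¹ᵁ V).ι (U.ι p.1)) = V.ι (φ p.1) := by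
      have := congr($(morphismRestrict_ι f V) (U.ι p.1))
      exact this.symm
    have h3 : (f ≫ g) (k p) = g (V.ι (φ p.1)) := by
      rw [← h2]; rfl
    rw [h3]
    exact h1
  let j := IsOpenImmersion.lift ((f ≫ g) ⁻¹ᵁ W).ι k hk
  have hj : j ≫ ((f ≫ g) ⁻¹ᵁ W).ι = k := IsOpenImmersion.lift_fac _ _ _
  have : IsOpenImmersion (j ≫ ((f ≫ g) ⁻¹ᵁ W).ι) := by rw [hj]; infer_instance
  have : IsOpenImmersion j := IsOpenImmersion.of_comp j ((f ≫ g) ⁻¹ᵁ W).ι
  exact qa_of_openImmersion_indQA j (h W hW)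
end helpers

open AlgebraicGeometry CategoryTheory Limits in
/-- If g ∘ f is ind-quasi-affine then so is f. -/
theorem result {X Y Z : Scheme.{u}} (f : X ⟶ Y) (g : Y ⟶ Z) (h : MoreMor.IsIndQuasiAffineHom (f ≫ g)) :
    MoreMor.IsIndQuasiAffineHom f := by
  exact main f g h

end Groth.Agent.S1399
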