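import Groth.Statements.S13991
import Groth.Agent.Lib.Helper8.DevSerre

set_option autoImplicit false
universe u
open CategoryTheory AlgebraicGeometry
open CohGab

namespace Groth.Agent.S13991

/-- Let X be a Noetherian scheme and Z ⊆ X a closed subset. Then Z is irreducible (or empty) if and only
if Coh_Z(X), the coherent O_X-modules supported in Z, is an irreducible Serre subcategory of Coh(X),
i.e. it is not generated as a Serre subcategory by two Serre subcategories properly contained in it:
whenever J₁, J₂ are Serre classes on coherent modules (middle term of a short exact sequence of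
coherent modules belongs iff both outer terms do), both contained in Coh_Z, such that every Serre
class on coherent modules containing J₁ and J₂ contains Coh_Z, then J₁ or J₂ contains Coh_Z.
Consequently the points of X correspond to the irreducible Serre subcategories of finite type other
than the zero subcategory. (The published statement says 'Z is irreducible iff Coh_Z is irreducible'
and deduces a bijection between the points of X and all irreducible Serre subcategories of finite
type; the zero subcategory Coh_∅ is irreducible in this sense while ∅ is not an irreducible space,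
so irreducibility of Z is read here as 'irreducible or empty'. The published statement is also about
coherent sheaves twisted by a class in the second etale cohomology group of the units of the
structure sheaf; this row is its case of the trivial class.) -/
theorem result (X : Scheme.{u}) [IsNoetherian X]
    (Z : TopologicalSpace.Closeds X) :
    IsPreirreducible (↑Z : Set X) ↔
    ∀ J₁ J₂ : ObjectProperty X.Modules, (∀ S : ShortComplex X.Modules, S.ShortExact → Coh.IsCoh S.X₁ → Coh.IsCoh S.X₂ →
        Coh.IsCoh S.X₃ → (J₁ S.X₂ ↔ J₁ S.X₁ ∧ J₁ S.X₃)) → (∀ S : ShortComplex X.Modules, S.ShortExact → Coh.IsCoh S.X₁ → Coh.IsCoh S.X₂ →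
        Coh.IsCoh S.X₃ → (J₂ S.X₂ ↔ J₂ S.X₁ ∧ J₂ S.X₃)) →
      (∀ M : X.Modules, Coh.IsCoh M → J₁ M → CohB1.support M ⊆ (↑Z : Set X)) →
      (∀ M : X.Modules, Coh.IsCoh M → J₂ M → CohB1.support M ⊆ (↑Z : Set X)) →
      (∀ Q : ObjectProperty X.Modules, (∀ S : ShortComplex X.Modules, S.ShortExact → Coh.IsCoh S.X₁ → Coh.IsCoh S.X₂ →
        Coh.IsCoh S.X₃ → (Q S.X₂ ↔ Q S.X₁ ∧ Q S.X₃)) →
        (∀ M : X.Modules, Coh.IsCoh M → J₁ M → Q M) → (∀ M : X.Modules, Coh.IsCoh M → J₂ M → Q M) →
        ∀ M : X.Modules, Coh.IsCoh M → CohB1.support M ⊆ (↑Z : Set X) → Q M) →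
      (∀ M : X.Modules, Coh.IsCoh M → CohB1.support M ⊆ (↑Z : Set X) → J₁ M) ∨
        (∀ M : X.Modules, Coh.IsCoh M → CohB1.support M ⊆ (↑Z : Set X) → J₂ M) := by
  classical
  have hzero : ∀ N : X.Modules, Limits.IsZero N → CohB1.support N = ∅ := by
    intro N hN
    rw [Set.eq_empty_iff_forall_notMem]
    intro x hx
    apply hx
    refine ⟨fun a b => ?_⟩
    suffices h : ∀ t : ↑(N.presheaf.stalk x), t = 0 by rw [h a, h b]
    intro t
    obtain ⟨U, hxU, s, rfl⟩ := TopCat.Presheaf.exists_germ_eq N.presheaf t
    haveI := Groth.Agent.Lib.helper8.PinchMod.subsingleton_sections_of_isZero hN U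
    rw [Subsingleton.elim s 0, map_zero]
  obtain ⟨G₀, hG₀, hG₀s⟩ := Groth.Agent.Lib.helper8.Dev.exists_isCoh_support_eq Z
  constructor
  · intro hZ J₁ J₂ hJ₁ hJ₂ hJ₁Z hJ₂Z hgen
    -- a member of `J_k` whose support contains `Z` generates everything
    have hkey : ∀ (J : ObjectProperty X.Modules), (∀ S : ShortComplex X.Modules, S.ShortExact →
        Coh.IsCoh S.X₁ → Coh.IsCoh S.X₂ → Coh.IsCoh S.X₃ → (J S.X₂ ↔ J S.X₁ ∧ J S.X₃)) →
        ∀ M : X.Modules, Coh.IsCoh M → J M → (↑Z : Set X) ⊆ CohB1.support M →
        ∀ N : X.Modules, Coh.IsCoh N → CohB1.support N ⊆ (↑Z : Set X) → J N := by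
      intro J hJ M hM hJM hZM N hN hNZ
      exact Groth.Agent.Lib.helper8.Dev.serre_of_support_subset hJ M hM hJM N hN (hNZ.trans hZM)
    by_cases hne : (↑Z : Set X).Nonempty
    · have hirr : IsIrreducible (↑Z : Set X) := ⟨hne, hZ⟩
      let η : X := hirr.genericPoint
      have hη : closure {η} = (↑Z : Set X) := (hirr.isGenericPoint_genericPoint Z.isClosed).def
      have hηZ : η ∈ (↑Z : Set X) := by
        rw [← hη]
        exact subset_closure rfl
      have hex : ∃ M : X.Modules, Coh.IsCoh M ∧ (J₁ M ∨ J₂ M) ∧ η ∈ CohB1.support M := by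
        by_contra hcon
        push Not at hcon
        have hQ := hgen (fun M => CohB1.support M ⊆ (↑Z : Set X) \ {η})
          (Groth.Agent.Lib.helper8.Dev.isSerre_support_subset _)
          (fun M hM hJM x hx => ⟨hJ₁Z M hM hJM hx, fun hxη => hcon M hM (Or.inl hJM) (hxη ▸ hx)⟩)
          (fun M hM hJM x hx => ⟨hJ₂Z M hM hJM hx, fun hxη => hcon M hM (Or.inr hJM) (hxη ▸ hx)⟩)
          G₀ hG₀ hG₀s.le
        have h1 : η ∈ CohB1.support G₀ := by
          rw [hG₀s]
          exact hηZ
        exact (hQ h1).2 rfl
      obtain ⟨M, hM, hJM, hηM⟩ := hex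
      have hZM : (↑Z : Set X) ⊆ CohB1.support M := by
        rw [← hη]
        exact (Groth.Agent.Lib.helper8.Dev.isClosed_support_of_isCoh M hM).closure_subset_iff.mpr
          (Set.singleton_subset_iff.mpr hηM)
      rcases hJM with hJM | hJM
      · exact Or.inl (hkey J₁ hJ₁ M hM hJM hZM)
      · exact Or.inr (hkey J₂ hJ₂ M hM hJM hZM)
    · have hZe : (↑Z : Set X) = ∅ := Set.not_nonempty_iff_eq_empty.mp hne
      by_cases hex : ∃ M : X.Modules, Coh.IsCoh M ∧ (J₁ M ∨ J₂ M)
      · obtain ⟨M, hM, hJM⟩ := hex
        have hZM : (↑Z : Set X) ⊆ CohB1.support M := by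
          rw [hZe]
          exact Set.empty_subset _
        rcases hJM with hJM | hJM
        · exact Or.inl (hkey J₁ hJ₁ M hM hJM hZM)
        · exact Or.inr (hkey J₂ hJ₂ M hM hJM hZM)
      · push Not at hex
        exfalso
        exact hgen (fun _ => False) (fun S _ _ _ _ => by simp)
          (fun M hM hJM => (hex M hM).1 hJM) (fun M hM hJM => (hex M hM).2 hJM) G₀ hG₀ hG₀s.le
  · intro h
    rw [isPreirreducible_iff_isClosed_union_isClosed]
    intro A B hA hB hAB
    have hJ : ∀ C : Set X, ∀ S : ShortComplex X.Modules, S.ShortExact →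
        Coh.IsCoh S.X₁ → Coh.IsCoh S.X₂ → Coh.IsCoh S.X₃ →
        (CohB1.support S.X₂ ⊆ (↑Z : Set X) ∩ C ↔
          CohB1.support S.X₁ ⊆ (↑Z : Set X) ∩ C ∧ CohB1.support S.X₃ ⊆ (↑Z : Set X) ∩ C) :=
      fun C => Groth.Agent.Lib.helper8.Dev.isSerre_support_subset _
    have hres := h (fun M => CohB1.support M ⊆ (↑Z : Set X) ∩ A)
      (fun M => CohB1.support M ⊆ (↑Z : Set X) ∩ B) (hJ A) (hJ B)
      (fun M _ hM => hM.trans Set.inter_subset_left)
      (fun M _ hM => hM.trans Set.inter_subset_left) ?_
    · rcases hres with h1 | h1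
      · left
        have := h1 G₀ hG₀ hG₀s.le
        rw [hG₀s] at this
        exact this.trans Set.inter_subset_right
      · right
        have := h1 G₀ hG₀ hG₀s.le
        rw [hG₀s] at this
        exact this.trans Set.inter_subset_right
    · intro Q hQ hQ₁ hQ₂ M hM hMZ
      refine Groth.Agent.Lib.helper8.Dev.serre_devissage hQ (↑Z : Set X) ?_ ?_ M hM hMZ
      · intro N hN
        refine hQ₁ N (Groth.Agent.Lib.helper7.CohKer.isCoh_of_isZero hN) ?_
        show CohB1.support N ⊆ _
        rw [hzero N hN]
        exact Set.empty_subset _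
      · intro Z' i _ _ hT
        have hirr : IsIrreducible (Set.range ⇑i) := by
          rw [← Set.image_univ]
          exact (IrreducibleSpace.isIrreducible_univ Z').image i i.continuous.continuousOn
        have hcoh := Groth.Agent.Lib.helper8.Dev.isCoh_push_structureModule i
        have hs : CohB1.support ((Scheme.Modules.pushforward i).obj (Coh.structureModule Z')) ⊆
            Set.range ⇑i :=
          Groth.Agent.Lib.helper8.SchemeSupport.support_subset_range_of_iso _ i _ (Iso.refl _)
        have hξ : i (genericPoint Z') ∈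
            CohB1.support ((Scheme.Modules.pushforward i).obj (Coh.structureModule Z')) :=
          Groth.Agent.Lib.helper8.Dev.range_subset_support_push i (Coh.structureModule Z') (𝟙 _)
            (Groth.Agent.Lib.helper8.Dev.not_isZero_structureModule Z') hcoh ⟨_, rfl⟩
        refine ⟨_, hcoh, ?_, Groth.Agent.Lib.helper8.Dev.killedByIdeal_ker_push i _, hξ⟩
        rcases (isPreirreducible_iff_isClosed_union_isClosed.mp hirr.2) A B hA hB
          (hT.trans hAB) with h2 | h2
        · exact hQ₁ _ hcoh (hs.trans (Set.subset_inter hT h2))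
        · exact hQ₂ _ hcoh (hs.trans (Set.subset_inter hT h2))

end Groth.Agent.S13991
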