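import Groth.Statements.S13992
import Mathlib
import Groth.Agent.Lib.Helper19.Hyper1
import Groth.Agent.Lib.Helper19.ExtLoc1

set_option autoImplicit false
universe u
open CategoryTheory
open CAlg

namespace Groth.Agent.S13992

-- MARK
open IsLocalRing TensorProduct Groth.Agent.Lib.helper19.Hyper



/-- Let S be a regular local ring of Krull dimension two, f a non-zero element of S and R the quotient
of S by f, assumed reduced (the local ring of a reduced planar curve singularity). Let M and N be
finitely generated R-modules, each admitting a non-zero-divisor in the maximal ideal of R,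
annihilated by ideals I and J respectively, where I + J contains a power of the maximal ideal. Then
Ext²_R(M, N) = 0. (The published statement is global: Ext²(F, F') = 0 for torsion-free coherent
sheaves F and F' on a reduced projective curve over a characteristic-zero algebraically closed
field, supported on subcurves with no common irreducible component that meet only at points with
planar singularities; this row is the vanishing on stalks to which it reduces, stated over an
arbitrary two-dimensional regular local ring.) -/
theorem result (S : Type u) [CommRing S] [IsRegularLocalRing S] (hS : ringKrullDim S = 2) (f : S) (hf : f ≠ 0) (R : Type u) [CommRing R] [IsLocalRing R] [IsReduced R] (π : S →+* R) (hπ : Function.Surjective π) (hker : RingHom.ker π = Ideal.span {f}) (I J : Ideal R) (n : ℕ) (hIJ : IsLocalRing.maximalIdeal R ^ n ≤ I ⊔ J) (M N : Type u) [AddCommGroup M] [Module R M] [Module.Finite R M] [AddCommGroup N] [Module R N] [Module.Finite R N] (hI : I ≤ Module.annihilator R M) (hJ : J ≤ Module.annihilator R N) (x : R) (hx : x ∈ IsLocalRing.maximalIdeal R) (hxM : IsSMulRegular M x) (y : R) (hy : y ∈ IsLocalRing.maximalIdeal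 R) (hyN : IsSMulRegular N y) : Subsingleton (Abelian.Ext (ModuleCat.of R M) (ModuleCat.of R N) 2) := by
  classical
  letI iA : Algebra S R := π.toAlgebra
  have hsurj : Function.Surjective (algebraMap S R) := hπ
  have hker' : RingHom.ker (algebraMap S R) = Ideal.span {f} := hker
  letI iM : Module S M := Module.compHom M (algebraMap S R)
  haveI iT : IsScalarTower S R M := IsScalarTower.of_algebraMap_smul (fun r x => rfl)
  haveI : Module.Finite S R := Module.Finite.of_surjective (Algebra.linearMap S R) hsurj
  haveI : Module.Finite S M := Module.Finite.trans R M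
  obtain ⟨k, p, hp⟩ := Module.Finite.exists_fin' R M
  -- a non-zero-divisor of `M` in the maximal ideal of `S`
  obtain ⟨x', hx'⟩ := hsurj x
  have hx'm : x' ∈ maximalIdeal S := by
    rw [mem_maximalIdeal, mem_nonunits_iff]
    intro hu
    have : IsUnit x := by
      rw [← hx']
      exact hu.map (algebraMap S R)
    exact (mem_nonunits_iff.1 ((mem_maximalIdeal x).1 hx)) this
  have hx'M : IsSMulRegular M x' := by
    intro a b hab
    apply hxM
    have h1 : x' • a = x • a := by rw [← hx']; rfl
    have h2 : x' • b = x • b := by rw [← hx']; rfl
    show x • a = x • b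
    rw [← h1, ← h2]
    exact hab
  haveI hKfree : Module.Free S (LinearMap.ker (qmap S k p)) :=
    ker_free_of_dim_two S hS (qmap S k p) (qmap_surjective S k p hsurj hp) x' hx'm hx'M
  haveI : Module.Projective R (R ⊗[S] LinearMap.ker (qmap S k p)) := inferInstance
  -- the kernel of `R ⊗ K → ker p` admits no nonzero map to `N`
  have hHom : Subsingleton (LinearMap.ker (liftK S k p) →ₗ[R] N) := by
    refine ⟨fun φ ψ => ?_⟩
    have key : ∀ χ : LinearMap.ker (liftK S k p) →ₗ[R] N, χ = 0 := by
      intro χ
      apply LinearMap.ext
      intro z
      rw [LinearMap.zero_apply]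
      have hkill : ∀ c ∈ I ⊔ J, c • χ z = 0 := by
        intro c hc
        obtain ⟨a, ha, b, hb, rfl⟩ := Submodule.mem_sup.1 hc
        rw [add_smul]
        have h1 : a • χ z = 0 := by
          rw [← map_smul]
          have : a • z = 0 := by
            apply Subtype.ext
            exact smul_eq_zero_of_liftK_eq_zero S k p hsurj f hker' a (hI ha) z.1 z.2
          rw [this, map_zero]
        have h2 : b • χ z = 0 := Module.mem_annihilator.1 (hJ hb) _
        rw [h1, h2, add_zero]
      have h3 : y ^ n • χ z = 0 := hkill _ (hIJ (Ideal.pow_mem_pow hy n))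
      exact (hyN.pow n).right_eq_zero_of_smul h3
    rw [key φ, key ψ]
  -- Ext¹(ker p, N) = 0
  have hi₂ : Function.Injective (LinearMap.ker (liftK S k p)).subtype :=
    Submodule.injective_subtype _
  have hex₂ : Function.Exact (LinearMap.ker (liftK S k p)).subtype (liftK S k p) := by
    intro z
    show liftK S k p z = 0 ↔ z ∈ LinearMap.range (LinearMap.ker (liftK S k p)).subtype
    rw [Submodule.range_subtype, LinearMap.mem_ker]
  have hE1 : Subsingleton (CategoryTheory.Abelian.Ext.{u} (ModuleCat.of R (LinearMap.ker p))
      (ModuleCat.of R N) 1) :=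
    (Groth.Agent.Lib.helper19.ExtLoc.bdry_surjective (K := ↥(LinearMap.ker (liftK S k p)))
      (F := R ⊗[S] LinearMap.ker (qmap S k p)) (N := ↥(LinearMap.ker p)) N
      (LinearMap.ker (liftK S k p)).subtype
      (liftK S k p) hi₂ (liftK_surjective S k p hsurj) hex₂).subsingleton
  -- Ext²(M, N) ≃ Ext¹(ker p, N)
  have hi₁ : Function.Injective (LinearMap.ker p).subtype := Submodule.injective_subtype _
  have hex₁ : Function.Exact (LinearMap.ker p).subtype p := by
    intro z
    show p z = 0 ↔ z ∈ LinearMap.range (LinearMap.ker p).subtype
    rw [Submodule.range_subtype, LinearMap.mem_ker]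
  exact (Groth.Agent.Lib.helper19.ExtLoc.extShift N (LinearMap.ker p).subtype p hi₁ hp hex₁
    0).symm.toEquiv.subsingleton

end Groth.Agent.S13992
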