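import Groth.Statements.S13993
import Mathlib
import Groth.Agent.Lib.Helper10.ExtShift

set_option autoImplicit false
universe u
open CategoryTheory
open CAlg

namespace Groth.Agent.S13993

set_option linter.style.haveILetI false

open Abelian Groth.Agent.Lib.helper10.ExtShift

section abstract

variable {k : Type u} [Field k] {A : Type u} [CommRing A] [Algebra k A]

theorem smul_eq {X Y : ModuleCat.{u} A} {n : ℕ} (c : k) (e : Ext X Y n) :
    c • e = (algebraMap k A c) • e := by
  rw [Ext.smul_eq_comp_mk₀, Ext.smul_eq_comp_mk₀]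
  congr 2

theorem abstract_main (x y : A) (ε : A →+* k)
    (H1 : ∀ a : A, a * y = 0 → a ∈ Ideal.span {x}) (hx : ε x = 0) (hy : ε y = 0)
    (H3 : ∀ a : A, ∃ a₁ a₂ : A, a = algebraMap k A (ε a) + x * a₁ + y * a₂) :
    Module.finrank k (Ext (ModuleCat.of A (A ⧸ Ideal.span {y}))
      (ModuleCat.of A (A ⧸ Ideal.span {x})) 1) = 1 := by
  let N := A ⧸ Ideal.span {x}
  let K : Submodule A A := Ideal.span {y}
  let i : K →ₗ[A] A := K.subtype
  let p : A →ₗ[A] (A ⧸ Ideal.span {y}) := Submodule.mkQ (Ideal.span {y})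
  have hi : Function.Injective i := K.injective_subtype
  have hp : Function.Surjective p := Submodule.mkQ_surjective _
  have hip : Function.Exact i p := by
    rw [LinearMap.exact_iff]
    change LinearMap.ker (Submodule.mkQ K) = LinearMap.range K.subtype
    rw [Submodule.ker_mkQ, Submodule.range_subtype]
  obtain ⟨ψ, hψ1, hψ2⟩ := one_modules A N i p hi hip hp
  -- the constant-coefficient map on `N`
  let εN : N →+* k := Ideal.Quotient.lift (Ideal.span {x}) ε (by
    intro a ha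
    obtain ⟨b, rfl⟩ := Ideal.mem_span_singleton'.1 ha
    rw [map_mul, hx, mul_zero])
  have hyK : y ∈ K := Ideal.subset_span rfl
  -- the map `f₁ : K → N`, `y ↦ 1`
  have hf₁ : ∃ f₁ : K →ₗ[A] N, f₁ ⟨y, hyK⟩ = 1 := by
    let π : A →ₗ[A] A := LinearMap.toSpanSingleton A A y
    have hrange : LinearMap.range π = K := by
      ext a
      change a ∈ LinearMap.range (LinearMap.toSpanSingleton A A y) ↔ a ∈ Ideal.span {y}
      rw [Ideal.mem_span_singleton', LinearMap.mem_range]
      simp [LinearMap.toSpanSingleton_apply]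
    have hker : LinearMap.ker π ≤ LinearMap.ker (Submodule.mkQ (Ideal.span {x})) := by
      intro a ha
      rw [LinearMap.mem_ker, LinearMap.toSpanSingleton_apply, smul_eq_mul] at ha
      rw [Submodule.ker_mkQ]
      exact H1 a ha
    let θ : LinearMap.range π →ₗ[A] N :=
      ((LinearMap.ker π).liftQ (Submodule.mkQ (Ideal.span {x})) hker) ∘ₗ
        (LinearMap.quotKerEquivRange π).symm.toLinearMap
    have hθ : ∀ r : A, θ ⟨π r, ⟨r, rfl⟩⟩ = Submodule.mkQ (Ideal.span {x}) r := by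
      intro r
      have : (LinearMap.quotKerEquivRange π).symm ⟨π r, ⟨r, rfl⟩⟩ =
          Submodule.Quotient.mk r := by
        rw [LinearEquiv.symm_apply_eq]
        rfl
      change ((LinearMap.ker π).liftQ _ hker) ((LinearMap.quotKerEquivRange π).symm _) = _
      rw [this]
      rfl
    refine ⟨θ ∘ₗ (LinearEquiv.ofEq _ _ hrange).symm.toLinearMap, ?_⟩
    have h1 : (LinearEquiv.ofEq _ _ hrange).symm ⟨y, hyK⟩ = ⟨π 1, ⟨1, rfl⟩⟩ := by
      apply Subtype.ext
      change y = (LinearMap.toSpanSingleton A A y) 1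
      simp [LinearMap.toSpanSingleton_apply]
    rw [LinearMap.comp_apply, LinearEquiv.coe_coe, h1, hθ]
    rfl
  obtain ⟨f₁, hf₁⟩ := hf₁
  have key : ∀ f : K →ₗ[A] N, ψ f = 0 ↔ ∃ m : N, f ⟨y, hyK⟩ = y • m := by
    intro f
    rw [hψ1 f]
    constructor
    · rintro ⟨g, rfl⟩
      refine ⟨g 1, ?_⟩
      change g y = y • g 1
      rw [← map_smul, smul_eq_mul, mul_one]
    · rintro ⟨m, hm⟩
      refine ⟨LinearMap.toSpanSingleton A N m, ?_⟩
      apply LinearMap.ext
      rintro ⟨a, ha⟩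
      obtain ⟨b, rfl⟩ := Ideal.mem_span_singleton'.1 ha
      have : (⟨b * y, ha⟩ : K) = b • ⟨y, hyK⟩ := rfl
      rw [this, map_smul, map_smul, hm]
      change b • (LinearMap.toSpanSingleton A N m) y = _
      rw [LinearMap.toSpanSingleton_apply]
  have hεy : ∀ m : N, εN (y • m) = 0 := by
    intro m
    obtain ⟨a, rfl⟩ := Ideal.Quotient.mk_surjective m
    change ε (y * a) = 0
    rw [map_mul, hy, zero_mul]
  have he₀ : ψ f₁ ≠ 0 := by
    intro h
    obtain ⟨m, hm⟩ := (key f₁).1 h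
    have := hεy m
    rw [← hm, hf₁, map_one] at this
    exact one_ne_zero this
  refine (finrank_eq_one_iff_of_nonzero' (ψ f₁) he₀).2 ?_
  intro e
  obtain ⟨f, rfl⟩ := hψ2 e
  obtain ⟨a, ha⟩ := Ideal.Quotient.mk_surjective (f ⟨y, hyK⟩)
  obtain ⟨a₁, a₂, ha12⟩ := H3 a
  refine ⟨ε a, ?_⟩
  rw [smul_eq, ← map_smul, ← sub_eq_zero, ← map_sub, key]
  refine ⟨-(Ideal.Quotient.mk _ a₂), ?_⟩
  rw [LinearMap.sub_apply, LinearMap.smul_apply, hf₁, ← ha]
  have hx0 : (Ideal.Quotient.mk (Ideal.span {x})) x = 0 :=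
    Ideal.Quotient.eq_zero_iff_mem.2 (Ideal.subset_span rfl)
  have hmk : Ideal.Quotient.mk (Ideal.span {x}) a =
      Ideal.Quotient.mk (Ideal.span {x}) (algebraMap k A (ε a)) +
        Ideal.Quotient.mk (Ideal.span {x}) y * Ideal.Quotient.mk (Ideal.span {x}) a₂ := by
    conv_lhs => rw [ha12]
    simp only [map_add, map_mul, hx0, zero_mul, add_zero]
  rw [hmk, Algebra.smul_def, mul_one, Algebra.smul_def y]
  change Ideal.Quotient.mk (Ideal.span {x}) (algebraMap k A (ε a)) -
    (Ideal.Quotient.mk (Ideal.span {x}) (algebraMap k A (ε a)) + _) =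
    (Ideal.Quotient.mk (Ideal.span {x})) y * _
  ring

end abstract

section ps

variable (k : Type u) [Field k]

open MvPowerSeries

theorem ps_decomp (φ : MvPowerSeries (Fin 2) k) :
    ∃ φ₁ φ₂ : MvPowerSeries (Fin 2) k,
      φ = C (constantCoeff φ) + X 0 * φ₁ + X 1 * φ₂ := by
  classical
  set ψ := φ - C (constantCoeff φ) with hψdef
  have hψ0 : constantCoeff ψ = 0 := by
    rw [hψdef, map_sub, constantCoeff_C, sub_self]
  let ψa : MvPowerSeries (Fin 2) k := fun m => if m 0 = 0 then 0 else coeff m ψ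
  let ψb : MvPowerSeries (Fin 2) k := fun m => if m 0 = 0 then coeff m ψ else 0
  have hab : ψ = ψa + ψb := by
    ext m
    rw [map_add]
    change coeff m ψ = (if m 0 = 0 then 0 else coeff m ψ) + (if m 0 = 0 then coeff m ψ else 0)
    split_ifs <;> simp
  have ha : X 0 ∣ ψa := by
    rw [X_dvd_iff]
    intro m hm
    change (if m 0 = 0 then 0 else coeff m ψ) = 0
    rw [if_pos hm]
  have hb : X 1 ∣ ψb := by
    rw [X_dvd_iff]
    intro m hm
    change (if m 0 = 0 then coeff m ψ else 0) = 0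
    split_ifs with h0
    · have : m = 0 := by
        ext j
        fin_cases j
        · exact h0
        · exact hm
      rw [this]
      exact hψ0
    · rfl
  obtain ⟨φ₁, h1⟩ := ha
  obtain ⟨φ₂, h2⟩ := hb
  refine ⟨φ₁, φ₂, ?_⟩
  rw [← h1, ← h2, add_assoc, ← hab, hψdef]
  ring

theorem main_final : Module.finrank k (Abelian.Ext (ModuleCat.of (MvPowerSeries (Fin 2) k ⧸ Ideal.span {(MvPowerSeries.X (0 : Fin 2) : MvPowerSeries (Fin 2) k) * MvPowerSeries.X (1 : Fin 2)}) ((MvPowerSeries (Fin 2) k ⧸ Ideal.span {(MvPowerSeries.X (0 : Fin 2) : MvPowerSeries (Fin 2) k) * MvPowerSeries.X (1 : Fin 2)}) ⧸ Ideal.span {Ideal.Quotient.mk (Ideal.span {(MvPowerSeries.X (0 : Fin 2) : MvPowerSeries (Fin 2) k) * MvPowerSeries.X (1 : Fin 2)}) (MvPowerSeries.X (1 : Fin 2))})) (ModuleCat.of (MvPowerSeries (Fin 2) k ⧸ Ideal.span {(MvPowerSeries.X (0 : Fin 2) : MvPowerSeries (Fin 2) k) * MvPowerSeries.X (1 : Fin 2)}) ((MvPowerSeries (Fin 2) k ⧸ Ideal.span {(MvPowerSeries.X (0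 : Fin 2) : MvPowerSeries (Fin 2) k) * MvPowerSeries.X (1 : Fin 2)}) ⧸ Ideal.span {Ideal.Quotient.mk (Ideal.span {(MvPowerSeries.X (0 : Fin 2) : MvPowerSeries (Fin 2) k) * MvPowerSeries.X (1 : Fin 2)}) (MvPowerSeries.X (0 : Fin 2))})) 1) = 1 := by
  let P := MvPowerSeries (Fin 2) k
  let I₀ : Ideal P := Ideal.span {(X (0 : Fin 2) : P) * X (1 : Fin 2)}
  let ε : P ⧸ I₀ →+* k := Ideal.Quotient.lift I₀ (constantCoeff (σ := Fin 2) (R := k)) (by
    intro a ha
    obtain ⟨b, rfl⟩ := Ideal.mem_span_singleton'.1 ha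
    rw [map_mul, map_mul, constantCoeff_X, zero_mul, mul_zero])
  refine abstract_main (k := k) (A := P ⧸ I₀) (Ideal.Quotient.mk I₀ (X 0))
    (Ideal.Quotient.mk I₀ (X 1)) ε ?_ ?_ ?_ ?_
  · intro a ha
    obtain ⟨a', rfl⟩ := Ideal.Quotient.mk_surjective a
    rw [← map_mul, Ideal.Quotient.eq_zero_iff_mem] at ha
    obtain ⟨b, hb⟩ := Ideal.mem_span_singleton'.1 ha
    have h1 : (a' - b * X 0) * X 1 = 0 := by
      rw [sub_mul, ← hb]; ring
    have h2 : a' - b * X 0 = 0 := by
      rcases mul_eq_zero.1 h1 with h | h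
      · exact h
      · exfalso
        have h3 := congrArg (coeff (Finsupp.single (1 : Fin 2) 1)) h
        rw [coeff_X, if_pos rfl, map_zero] at h3
        exact one_ne_zero h3
    rw [Ideal.mem_span_singleton']
    refine ⟨Ideal.Quotient.mk I₀ b, ?_⟩
    rw [← map_mul, ← sub_eq_zero.1 h2]
  · change constantCoeff (X (0 : Fin 2) : P) = 0
    exact constantCoeff_X _
  · change constantCoeff (X (1 : Fin 2) : P) = 0
    exact constantCoeff_X _
  · intro a
    obtain ⟨φ, rfl⟩ := Ideal.Quotient.mk_surjective a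
    obtain ⟨φ₁, φ₂, h⟩ := ps_decomp k φ
    refine ⟨Ideal.Quotient.mk I₀ φ₁, Ideal.Quotient.mk I₀ φ₂, ?_⟩
    conv_lhs => rw [h]
    rw [map_add, map_add, map_mul, map_mul]
    rfl

end ps



/-- Let k be a field and A = k[[x,y]]/(xy) the complete local ring of a node, with branch rings A/(y)
and A/(x) viewed as A-modules. Then the first Ext group Ext¹_A(A/(y), A/(x)) has dimension one over
k. (The published statement is for the local ring at a node of a reduced curve over an algebraically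
closed field of characteristic zero, a node being a point whose complete local ring is A; this row
states the case of the complete local ring A itself, over an arbitrary field.) -/
theorem result (k : Type u) [Field k] : Module.finrank k (Abelian.Ext (ModuleCat.of (MvPowerSeries (Fin 2) k ⧸ Ideal.span {(MvPowerSeries.X (0 : Fin 2) : MvPowerSeries (Fin 2) k) * MvPowerSeries.X (1 : Fin 2)}) ((MvPowerSeries (Fin 2) k ⧸ Ideal.span {(MvPowerSeries.X (0 : Fin 2) : MvPowerSeries (Fin 2) k) * MvPowerSeries.X (1 : Fin 2)}) ⧸ Ideal.span {Ideal.Quotient.mk (Ideal.span {(MvPowerSeries.X (0 : Fin 2) : MvPowerSeries (Fin 2) k) * MvPowerSeries.X (1 : Fin 2)}) (MvPowerSeries.X (1 : Fin 2))})) (ModuleCat.of (MvPowerSeries (Fin 2) k ⧸ Ideal.span {(MvPowerSeries.X (0 : Fin 2) : MvPowerSeries (Fin 2) k) * MvPowerSeries.X (1 : Fin 2)}) ((MvPowerSeries (Fin 2) k ⧸ Ideal.span {(MvPowerSeries.X (0 : Fin 2) : MvPowerSeries (Fin 2) k) * MvPowerSeries.X (1 : Fin 2)}) ⧸ Ideal.span {Ideal.Quotient.mk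 (Ideal.span {(MvPowerSeries.X (0 : Fin 2) : MvPowerSeries (Fin 2) k) * MvPowerSeries.X (1 : Fin 2)}) (MvPowerSeries.X (0 : Fin 2))})) 1) = 1 := by
  exact main_final k

end Groth.Agent.S13993
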