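import Groth.Statements.S13994
import Mathlib
import Groth.Agent.Lib.Helper19.Hyper2
import Groth.Agent.Lib.Helper15.Regular

set_option autoImplicit false
universe u
open CategoryTheory
open CAlg

namespace Groth.Agent.S13994

-- MARK
open IsLocalRing TensorProduct Groth.Agent.Lib.helper19.Hyper



/-- Let S be a regular local ring of Krull dimension two, f a non-zero element of S and R the quotient
of S by f, assumed reduced. Let M and N be finitely generated R-modules, each admitting a
non-zero-divisor in the maximal ideal of R, annihilated by ideals I and J respectively, where I + J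
contains a power of the maximal ideal. Then Tor₁^R(M, Hom_R(N, R)) = 0. (The published claim is made
for the stalks at a common point of two subcurves without common component of a reduced projective
curve over a characteristic-zero algebraically closed field, the point being a planar singularity,
and the stalks of torsion-free sheaves supported on them; this row states it over an arbitrary
two-dimensional regular local ring. Tor is computed by resolving the second argument.) -/
theorem result (S : Type u) [CommRing S] [IsRegularLocalRing S] (hS : ringKrullDim S = 2) (f : S) (hf : f ≠ 0) (R : Type u) [CommRing R] [IsLocalRing R] [IsReduced R] (π : S →+* R) (hπ : Function.Surjective π) (hker : RingHom.ker π = Ideal.span {f}) (I J : Ideal R) (n : ℕ) (hIJ : IsLocalRing.maximalIdeal R ^ n ≤ I ⊔ J) (M N : Type u) [AddCommGroup M] [Module R M] [Module.Finite R M] [AddCommGroup N] [Module R N] [Module.Finite R N] (hI : I ≤ Module.annihilator R M) (hJ : J ≤ Module.annihilator R N) (x : R) (hx : x ∈ IsLocalRing.maximalIdeal R) (hxM : IsSMulRegular M x) (y : R) (hy : y ∈ IsLocalRing.maximalIdeal R) (hyN : IsSMulRegular N y) : Limits.IsZero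 (((Tor (ModuleCat.{u} R) 1).obj (ModuleCat.of R M)).obj (ModuleCat.of R (Module.Dual R N))) := by
  classical
  letI iA : Algebra S R := π.toAlgebra
  have hsurj : Function.Surjective (algebraMap S R) := hπ
  have hker' : RingHom.ker (algebraMap S R) = Ideal.span {f} := hker
  letI iN : Module S N := Module.compHom N (algebraMap S R)
  haveI iTN : IsScalarTower S R N := IsScalarTower.of_algebraMap_smul (fun r x => rfl)
  letI iM : Module S M := Module.compHom M (algebraMap S R)
  haveI iTM : IsScalarTower S R M := IsScalarTower.of_algebraMap_smul (fun r x => rfl)
  haveI : Module.Finite S R := Module.Finite.of_surjective (Algebra.linearMap S R) hsurj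
  haveI : Module.Finite S N := Module.Finite.trans R N
  haveI : IsDomain S := Groth.Agent.Lib.helper15.isDomain_of_isRegularLocalRing S
  haveI : IsNoetherianRing S := inferInstance
  haveI : IsNoetherianRing R := isNoetherianRing_of_surjective S R (algebraMap S R) hsurj
  obtain ⟨k, p, hp⟩ := Module.Finite.exists_fin' R N
  -- a non-zero-divisor of `N` in the maximal ideal of `S`
  obtain ⟨y', hy'⟩ := hsurj y
  have hy'm : y' ∈ maximalIdeal S := by
    rw [mem_maximalIdeal, mem_nonunits_iff]
    intro hu
    have : IsUnit y := by
      rw [← hy']
      exact hu.map (algebraMap S R)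
    exact (mem_nonunits_iff.1 ((mem_maximalIdeal y).1 hy)) this
  have hy'N : IsSMulRegular N y' := by
    intro a b hab
    apply hyN
    have h1 : y' • a = y • a := by rw [← hy']; rfl
    have h2 : y' • b = y • b := by rw [← hy']; rfl
    show y • a = y • b
    rw [← h1, ← h2]
    exact hab
  haveI hKfree : Module.Free S (LinearMap.ker (qmap S k p)) :=
    ker_free_of_dim_two S hS (qmap S k p) (qmap_surjective S k p hsurj hp) y' hy'm hy'N
  haveI : Module.Finite S (LinearMap.ker (qmap S k p)) := Module.IsNoetherian.finite S _
  have hHom : ∀ χ : N →ₗ[S] M, χ = 0 := by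
    intro χ
    apply LinearMap.ext
    intro z
    rw [LinearMap.zero_apply]
    have hχ : ∀ (b : R) (w : N), χ (b • w) = b • χ w := fun b w =>
      (χ.extendScalarsOfSurjective hsurj).map_smul b w
    have hkill : ∀ c ∈ I ⊔ J, c • χ z = 0 := by
      intro c hc
      obtain ⟨a, ha, b, hb, rfl⟩ := Submodule.mem_sup.1 hc
      rw [add_smul]
      have h1 : a • χ z = 0 := Module.mem_annihilator.1 (hI ha) _
      have h2 : b • χ z = 0 := by
        rw [← hχ, Module.mem_annihilator.1 (hJ hb) z, map_zero]
      rw [h1, h2, add_zero]
    have h3 : x ^ n • χ z = 0 := hkill _ (hIJ (Ideal.pow_mem_pow hx n))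
    exact (hxM.pow n).right_eq_zero_of_smul h3
  exact isZero_tor_one_dual S hsurj f hf hker' k p hp hHom

end Groth.Agent.S13994
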