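import Groth.Statements.S13995
import Mathlib

set_option autoImplicit false
universe u
open CAlg

namespace Groth.Agent.S13995


section aux

theorem field_of_min {R : Type u} [CommRing R] [IsReduced R] (p : Ideal R) [p.IsPrime]
    (hp : p ∈ minimalPrimes R) : IsField (Localization.AtPrime p) := by
  rw [IsLocalRing.isField_iff_maximalIdeal_eq]
  have h1 := IsLocalization.AtPrime.radical_map_of_mem_minimalPrimes (Localization.AtPrime p) p ⊥ hp
  rw [Ideal.map_bot, IsLocalization.AtPrime.map_eq_maximalIdeal p (Localization.AtPrime p)] at h1
  rw [← h1]
  exact nilradical_eq_zero (Localization.AtPrime p)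

theorem exists_smul_of_finrank_one {K V : Type*} [CommRing K] [AddCommGroup V] [Module K V]
    (hK : IsField K) (h : Module.finrank K V = 1) (v : V) (hv : v ≠ 0) (w : V) :
    ∃ c : K, c • v = w := by
  letI := hK.toField
  exact (finrank_eq_one_iff_of_nonzero' v hv).mp h w

end aux


/-- Let R be a reduced Noetherian ring, M a finitely generated R-module all of whose associated primes
are minimal primes of R and whose localization at each minimal prime p is one-dimensional over the
field R_p, and let g : M → Q be a surjection onto a finitely generated R-module Q all of whose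
associated primes are minimal primes of R. Then the kernel of g is the intersection, over the
minimal primes p of R lying in the support of Q, of the kernels of the localization maps M → M_p.
(The published statement is for a torsion-free coherent sheaf F of uniform rank one on a reduced
connected projective curve over a characteristic-zero algebraically closed field: its non-zero
torsion-free quotients are exactly the maximal torsion-free quotients F_D of the restrictions of F
to subcurves D; this row is the corresponding statement for modules over a reduced Noetherian ring,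
a subcurve being a set of minimal primes, and identifies each torsion-free quotient with F_D for D
the set of generic points of its support.) -/
theorem result (R : Type u) [CommRing R] [IsNoetherianRing R] [IsReduced R] (M : Type u) [AddCommGroup M] [Module R M] [Module.Finite R M] (hM : associatedPrimes R M ⊆ minimalPrimes R) (hrk : ∀ p : PrimeSpectrum R, p.asIdeal ∈ minimalPrimes R → Module.finrank (Localization.AtPrime p.asIdeal) (LocalizedModule p.asIdeal.primeCompl M) = 1) (Q : Type u) [AddCommGroup Q] [Module R Q] [Module.Finite R Q] (hQ : associatedPrimes R Q ⊆ minimalPrimes R) (g : M →ₗ[R] Q) (hg : Function.Surjective g) : LinearMap.ker g = ⨅ p ∈ {p : PrimeSpectrum R | p.asIdeal ∈ minimalPrimes R ∧ p ∈ Module.support R Q}, LinearMap.ker (LocalizedModule.mkLinearMap p.asIdeal.primeCompl M) := by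
  classical
  apply le_antisymm
  · intro x hx
    rw [LinearMap.mem_ker] at hx
    simp only [Submodule.mem_iInf]
    rintro p ⟨hpmin, hpsupp⟩
    rw [LinearMap.mem_ker]
    by_contra hne
    have hfield : IsField (Localization.AtPrime p.asIdeal) := field_of_min p.asIdeal hpmin
    have hspan := exists_smul_of_finrank_one hfield (hrk p hpmin) _ hne
    refine (Module.notMem_support_iff'.mpr ?_) hpsupp
    intro q
    obtain ⟨m, rfl⟩ := hg q
    obtain ⟨c, hc⟩ := hspan (LocalizedModule.mkLinearMap p.asIdeal.primeCompl M m)
    obtain ⟨a, s, rfl⟩ := IsLocalization.exists_mk'_eq p.asIdeal.primeCompl c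
    rw [LocalizedModule.mkLinearMap_apply, LocalizedModule.mkLinearMap_apply] at hc
    have hc3 : LocalizedModule.mk (a • x) (s * 1) =
        LocalizedModule.mk m (1 : p.asIdeal.primeCompl) :=
      (LocalizedModule.mk_smul_mk a x s 1).symm.trans
        ((congrArg (fun c : Localization.AtPrime p.asIdeal =>
          c • (LocalizedModule.mk x (1 : p.asIdeal.primeCompl) :
            LocalizedModule p.asIdeal.primeCompl M)) (Localization.mk_eq_mk'_apply a s)).trans hc)
    rw [LocalizedModule.mk_eq] at hc3
    obtain ⟨u, hu⟩ := hc3
    simp only [Submonoid.smul_def, one_smul, mul_one] at hu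
    refine ⟨(u : R) * (s : R), p.asIdeal.primeCompl.mul_mem u.2 s.2, ?_⟩
    rw [← map_smul, mul_smul, ← hu, map_smul, map_smul, hx, smul_zero, smul_zero]
  · intro x hx
    simp only [Submodule.mem_iInf] at hx
    rw [LinearMap.mem_ker]
    by_contra hne
    let N : Submodule R Q := Submodule.span R {g x}
    have hyN : g x ∈ N := Submodule.mem_span_singleton_self (g x)
    have hne' : (⟨g x, hyN⟩ : N) ≠ 0 := fun h => hne (congrArg Subtype.val h)
    obtain ⟨P, hP, -⟩ :=
      exists_le_isAssociatedPrime_of_isNoetherianRing (R := R) (M := N) ⟨g x, hyN⟩ hne'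
    have hPQ : P ∈ associatedPrimes R Q :=
      associatedPrimes.subset_of_injective (f := N.subtype) N.injective_subtype hP
    have hPmin : P ∈ minimalPrimes R := hQ hPQ
    obtain ⟨hPprime, z, hz⟩ := isAssociatedPrime_iff.mp hP
    obtain ⟨r, hr⟩ := Submodule.mem_span_singleton.mp z.2
    have hmemP : ∀ a : R, a ∈ P ↔ a • r • g x = 0 := by
      intro a
      rw [hz, Submodule.mem_colon_singleton, Submodule.mem_bot, hr, ← Submodule.coe_smul,
        Submodule.coe_eq_zero]
    let pp : PrimeSpectrum R := ⟨P, hPprime⟩
    have hsupp : pp ∈ Module.support R Q := by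
      rw [Module.mem_support_iff']
      exact ⟨r • g x, fun a ha h0 => ha ((hmemP a).mpr h0)⟩
    have h1 := hx pp ⟨hPmin, hsupp⟩
    rw [LinearMap.mem_ker] at h1
    obtain ⟨c, hc⟩ := (IsLocalizedModule.eq_zero_iff pp.asIdeal.primeCompl
      (LocalizedModule.mkLinearMap pp.asIdeal.primeCompl M)).mp h1
    have hc' : (c : R) • x = 0 := hc
    have hcP : (c : R) ∈ P :=
      (hmemP c).mpr (by rw [smul_comm, ← map_smul, hc', map_zero, smul_zero])
    exact c.2 hcP


end Groth.Agent.S13995
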