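import Groth.Statements.S13996
import Mathlib
-- import your own Groth.Agent.* helpers here

set_option autoImplicit false
universe u
open CAlg

namespace Groth.Agent.S13996

/-- Let R be a reduced Noetherian local ring of Krull dimension one with maximal ideal m, and M a
non-zero finitely generated R-module. Then M is torsion-free in the sense that no element of m which
is a non-zero-divisor on R is a zero-divisor on M, if and only if M has depth one, i.e. some element
of m is a non-zero-divisor on M. (The published statement is for a non-zero coherent sheaf F on a
connected reduced projective curve over a characteristic-zero algebraically closed field and asserts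
the equivalence of: F torsion-free in the above sense at every closed point; F pure of dimension
one; depth of F_p equal to one at every closed point p. This row is the equivalence of the first and
third conditions at a single closed point p with F_p ≠ 0; at points outside the support the third
condition as published cannot hold, so the row assumes the stalk non-zero.) -/
theorem result (R : Type u) [CommRing R] [IsLocalRing R] [IsNoetherianRing R] [IsReduced R] (hdim : ringKrullDim R = 1) (M : Type u) [AddCommGroup M] [Module R M] [Module.Finite R M] [Nontrivial M] : (∀ r : R, r ∈ IsLocalRing.maximalIdeal R → IsSMulRegular R r → IsSMulRegular M r) ↔ (∃ x : R, x ∈ IsLocalRing.maximalIdeal R ∧ IsSMulRegular M x) := by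
  classical
  have hht : (IsLocalRing.maximalIdeal R).height = 1 := by
    have h := IsLocalRing.maximalIdeal_height_eq_ringKrullDim (R := R)
    rw [hdim] at h
    exact_mod_cast h
  constructor
  · intro h
    -- find an `R`-regular element in `m`
    have hfin : (minimalPrimes R).Finite := minimalPrimes.finite_of_isNoetherianRing R
    have hnot : ¬ ((IsLocalRing.maximalIdeal R : Set R) ⊆
        ⋃ P ∈ (hfin.toFinset : Set (Ideal R)), (P : Set R)) := by
      intro hsub
      rw [Ideal.subset_union_prime (R := R) (f := fun P : Ideal R => P) ⊥ ⊥
        (fun P hP _ _ => ((Set.Finite.mem_toFinset hfin).1 hP).1.1)] at hsub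
      obtain ⟨P, hP, hmP⟩ := hsub
      have hPmin : P ∈ minimalPrimes R := (Set.Finite.mem_toFinset hfin).1 hP
      haveI := hPmin.1.1
      have hPm : P = IsLocalRing.maximalIdeal R :=
        le_antisymm (IsLocalRing.le_maximalIdeal hPmin.1.1.ne_top) hmP
      have h0 : P.height = 0 := Ideal.height_eq_zero_iff.2 hPmin
      rw [hPm, hht] at h0
      exact one_ne_zero h0
    rw [Set.not_subset] at hnot
    obtain ⟨r, hrm, hr⟩ := hnot
    have hrP : ∀ P ∈ minimalPrimes R, r ∉ P := by
      intro P hP hrP
      apply hr
      simp only [Set.mem_iUnion, Finset.mem_coe, Set.Finite.mem_toFinset]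
      exact ⟨P, hP, hrP⟩
    have hreg : IsSMulRegular R r := by
      rw [isSMulRegular_iff_right_eq_zero_of_smul]
      intro s hs
      have hs' : r * s = 0 := hs
      have hnil : s ∈ nilradical R := by
        rw [nilradical, ← Ideal.sInf_minimalPrimes]
        rw [Ideal.mem_sInf]
        intro P hP
        have : r * s ∈ P := hs' ▸ P.zero_mem
        exact (hP.1.1.mem_or_mem this).resolve_left (hrP P hP)
      rw [nilradical_eq_zero] at hnil
      exact hnil
    exact ⟨r, hrm, h r hrm hreg⟩
  · rintro ⟨x, hxm, hx⟩ r hrm hr
    rw [isSMulRegular_iff_right_eq_zero_of_smul]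
    intro z hz
    by_contra hz0
    obtain ⟨P, hP, hzP⟩ := exists_le_isAssociatedPrime_of_isNoetherianRing R z hz0
    haveI hPprime : P.IsPrime := hP.isPrime
    have hrP : r ∈ P := hzP (by
      rw [Submodule.mem_colon_singleton, Submodule.mem_bot]; exact hz)
    -- `x ∉ P`
    have hxP : x ∉ P := by
      intro hxP
      obtain ⟨-, y, hy⟩ := (isAssociatedPrime_iff (M := M)).1 hP
      rw [hy, Submodule.mem_colon_singleton, Submodule.mem_bot] at hxP
      have hy0 : y = 0 := (isSMulRegular_iff_right_eq_zero_of_smul.1 hx) y hxP
      apply hPprime.ne_top
      rw [hy, hy0, Ideal.eq_top_iff_one, Submodule.mem_colon_singleton, smul_zero]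
      exact Submodule.zero_mem _
    have hPlt : P < IsLocalRing.maximalIdeal R :=
      lt_of_le_of_ne (IsLocalRing.le_maximalIdeal hPprime.ne_top) (fun h => hxP (h ▸ hxm))
    have hPh : P.height < 1 := by
      rw [← hht]
      exact Ideal.height_strict_mono_of_isPrime hPlt
    have hP0 : P.height = 0 := by
      rwa [Order.lt_one_iff] at hPh
    have hPmin : P ∈ minimalPrimes R := Ideal.height_eq_zero_iff.1 hP0
    have hrnz : r ∈ nonZeroDivisors R := by
      rw [mem_nonZeroDivisors_iff_right]
      intro s hs
      exact (isSMulRegular_iff_right_eq_zero_of_smul.1 hr) s (by rw [smul_eq_mul, mul_comm]; exact hs)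
    exact notMem_nonZeroDivisors_of_mem_mem_minimalPrimes hrP hPmin hrnz

end Groth.Agent.S13996
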