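import Groth.Statements.S14000
import Mathlib

set_option autoImplicit false
universe u
open Perf

namespace Groth.Agent.S14000

open CategoryTheory

section euler
variable {L : Type u} [CommRing L] [IsLocalRing L] (M : ℤ → Type u) [∀ i, AddCommGroup (M i)]
  [∀ i, Module L (M i)] [∀ i, Module.Finite L (M i)] [∀ i, Module.Projective L (M i)]
  (d : ∀ i, M i →ₗ[L] M (i+1)) (hex : ∀ i, Function.Exact (d i) (d (i+1)))
  (s : Finset ℤ) (hs : ∀ i, i ∉ s → Subsingleton (M i))

/-- partial Euler characteristic -/
noncomputable def chi (i : ℤ) : ℤ :=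
  ∑ j ∈ s.filter (fun j => i ≤ j), ((j.negOnePow : ℤˣ) : ℤ) * (Module.finrank L (M j) : ℤ)

include hs in
theorem chi_succ (i : ℤ) :
    chi (L := L) M s i = ((i.negOnePow : ℤˣ) : ℤ) * (Module.finrank L (M i) : ℤ) + chi (L := L) M s (i+1) := by
  classical
  unfold chi
  by_cases hi : i ∈ s
  · have e : s.filter (fun j => i ≤ j) = insert i (s.filter (fun j => i + 1 ≤ j)) := by
      ext j
      simp only [Finset.mem_filter, Finset.mem_insert]
      constructor
      · rintro ⟨hj, hij⟩
        rcases eq_or_lt_of_le hij with h | h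
        · exact Or.inl h.symm
        · exact Or.inr ⟨hj, by omega⟩
      · rintro (rfl | ⟨hj, hij⟩)
        · exact ⟨hi, le_rfl⟩
        · exact ⟨hj, by omega⟩
    rw [e, Finset.sum_insert]
    simp only [Finset.mem_filter, not_and]
    intro _; omega
  · have e : s.filter (fun j => i ≤ j) = s.filter (fun j => i + 1 ≤ j) := by
      ext j
      simp only [Finset.mem_filter]
      constructor
      · rintro ⟨hj, hij⟩
        refine ⟨hj, ?_⟩
        rcases eq_or_lt_of_le hij with h | h
        · exact absurd (h ▸ hj) hi
        · omega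
      · rintro ⟨hj, hij⟩
        exact ⟨hj, by omega⟩
    haveI := hs i hi
    rw [e, Module.finrank_zero_of_subsingleton]
    simp

/-- the inductive claim -/
def C (i : ℤ) : Prop :=
  Module.Finite L (LinearMap.ker (d i)) ∧ Module.Projective L (LinearMap.ker (d i)) ∧
    ((i.negOnePow : ℤˣ) : ℤ) * (Module.finrank L (LinearMap.ker (d i)) : ℤ) = chi (L := L) M s i

include hex hs in
theorem C_step (i : ℤ) (h : C M d s (i+1)) : C M d s i := by
  obtain ⟨hfin, hproj, hrk⟩ := h
  -- surjection M i → ker (d (i+1))
  let π : M i →ₗ[L] LinearMap.ker (d (i+1)) :=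
    (d i).codRestrict _ (fun x => (hex i).apply_apply_eq_zero x)
  have hπ : Function.Surjective π := by
    rintro ⟨y, hy⟩
    obtain ⟨x, hx⟩ := (hex i y).mp hy
    exact ⟨x, Subtype.ext hx⟩
  obtain ⟨σ, hσ⟩ := Module.projective_lifting_property π LinearMap.id hπ
  have hσ' : ∀ w, π (σ w) = w := fun w => LinearMap.congr_fun hσ w
  have hker : ∀ x, π x = 0 ↔ d i x = 0 := by
    intro x
    constructor
    · intro h; exact congrArg Subtype.val h
    · intro h; exact Subtype.ext h
  -- the retraction onto ker (d i)
  let ρ : M i →ₗ[L] LinearMap.ker (d i) :=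
    (LinearMap.id - σ.comp π).codRestrict _ (fun x => by
      rw [LinearMap.mem_ker, ← hker]
      simp [hσ'])
  have hρ : ρ.comp (LinearMap.ker (d i)).subtype = LinearMap.id := by
    ext ⟨x, hx⟩
    have : π x = 0 := (hker x).mpr hx
    simp [ρ, this]
  haveI hf : Module.Finite L (LinearMap.ker (d i)) := by
    refine Module.Finite.of_surjective ρ (fun z => ⟨z, ?_⟩)
    exact LinearMap.congr_fun hρ z
  haveI hp : Module.Projective L (LinearMap.ker (d i)) :=
    Module.Projective.of_split (LinearMap.ker (d i)).subtype ρ hρ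
  refine ⟨hf, hp, ?_⟩
  -- M i ≃ ker (d i) × ker (d (i+1))
  let e : M i ≃ₗ[L] (LinearMap.ker (d i)) × (LinearMap.ker (d (i+1))) :=
    LinearEquiv.ofLinear (ρ.prod π)
      ((LinearMap.ker (d i)).subtype.coprod σ)
      (by
        apply LinearMap.ext
        rintro ⟨⟨z, hz⟩, w⟩
        have hz' : π z = 0 := (hker z).mpr hz
        apply Prod.ext
        · apply Subtype.ext
          simp [ρ, hz', hσ']
        · simp [hz', hσ'])
      (by
        apply LinearMap.ext
        intro x
        simp [ρ])
  haveI := hfin
  haveI := hproj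
  haveI : Module.Free L (LinearMap.ker (d i)) := Module.free_of_flat_of_isLocalRing
  haveI : Module.Free L (LinearMap.ker (d (i+1))) := Module.free_of_flat_of_isLocalRing
  have h1 : Module.finrank L (M i) =
      Module.finrank L (LinearMap.ker (d i)) + Module.finrank L (LinearMap.ker (d (i+1))) := by
    rw [e.finrank_eq, Module.finrank_prod]
  rw [chi_succ M s hs i, ← hrk, h1, Int.negOnePow_succ]
  push_cast
  ring

include hex hs in
theorem euler_zero : ∑ i ∈ s, ((i.negOnePow : ℤˣ) : ℤ) * (Module.finrank L (M i) : ℤ) = 0 := by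
  classical
  rcases s.eq_empty_or_nonempty with rfl | hne
  · simp
  set b := s.max' hne + 1 with hb
  set a := s.min' hne - 1 with ha
  have hCb : C M d s b := by
    have hbs : b ∉ s := fun h => by have := s.le_max' b h; omega
    haveI := hs b hbs
    refine ⟨inferInstance, inferInstance, ?_⟩
    have : chi (L := L) M s b = 0 := by
      unfold chi
      apply Finset.sum_eq_zero
      intro j hj
      simp only [Finset.mem_filter] at hj
      have := s.le_max' j hj.1
      omega
    rw [this, Module.finrank_zero_of_subsingleton]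
    simp
  have hall : ∀ k : ℕ, C M d s (b - k) := by
    intro k
    induction k with
    | zero => simpa using hCb
    | succ k ih =>
      have e : b - ((k + 1 : ℕ) : ℤ) + 1 = b - k := by push_cast; ring
      apply C_step M d hex s hs
      rw [e]; exact ih
  have hba : a ≤ b := by
    have := s.min'_le _ (s.max'_mem hne)
    omega
  have hCa : C M d s a := by
    have := hall (b - a).toNat
    rwa [Int.toNat_of_nonneg (by omega), sub_sub_cancel] at this
  obtain ⟨_, _, hrk⟩ := hCa
  have has : a ∉ s := fun h => by have := s.min'_le a h; omega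
  haveI := hs a has
  rw [Module.finrank_zero_of_subsingleton] at hrk
  have : chi (L := L) M s a = ∑ i ∈ s, ((i.negOnePow : ℤˣ) : ℤ) * (Module.finrank L (M i) : ℤ) := by
    unfold chi
    congr 1
    ext j
    simp only [Finset.mem_filter, and_iff_left_iff_imp]
    intro hj
    have := s.min'_le j hj
    omega
  rw [← this, ← hrk]
  simp

end euler

theorem cycle_boundary {A : Type u} [CommRing A] (P : CochainComplex (ModuleCat.{u} A) ℤ)
    (i j k : ℤ) (hij : i + 1 = j) (hjk : j + 1 = k)
    (S : Submonoid A) (h : Subsingleton (LocalizedModule S (P.homology j)))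
    (z : P.X j) (hz : (P.d j k).hom z = 0) : ∃ r ∈ S, ∃ y : P.X i, (P.d i j).hom y = r • z := by
  let T := P.sc' i j k
  have hi : (ComplexShape.up ℤ).prev j = i := by simp [← hij]
  have hk : (ComplexShape.up ℤ).next j = k := by simp [← hjk]
  let e1 : P.homology j ≅ T.homology := P.homologyIsoSc' i j k hi hk
  let e2 : T.homology ≅ T.moduleCatLeftHomologyData.H := T.moduleCatLeftHomologyData.homologyIso
  let Φ : P.homology j ≃ₗ[A] (LinearMap.ker T.g.hom ⧸ LinearMap.range T.moduleCatToCycles) :=
    (e1 ≪≫ e2).toLinearEquiv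
  let z' : LinearMap.ker T.g.hom := ⟨z, hz⟩
  obtain ⟨r, hr, hr0⟩ := LocalizedModule.subsingleton_iff.mp h (Φ.symm (Submodule.Quotient.mk z'))
  refine ⟨r, hr, ?_⟩
  have h1 : r • (Submodule.Quotient.mk z' : LinearMap.ker T.g.hom ⧸ LinearMap.range T.moduleCatToCycles) = 0 := by
    have := congrArg Φ hr0
    rwa [map_smul, LinearEquiv.apply_symm_apply, map_zero] at this
  rw [← Submodule.Quotient.mk_smul, Submodule.Quotient.mk_eq_zero] at h1
  obtain ⟨y, hy⟩ := h1
  exact ⟨y, congrArg Subtype.val hy⟩


theorem loc_exact {A : Type u} [CommRing A] (P : CochainComplex (ModuleCat.{u} A) ℤ) (S : Submonoid A)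
    (h : ∀ j, Subsingleton (LocalizedModule S (P.homology j))) (i : ℤ) :
    Function.Exact (LocalizedModule.map S (P.d i (i+1)).hom)
      (LocalizedModule.map S (P.d (i+1) (i+1+1)).hom) := by
  intro w
  constructor
  · induction w using LocalizedModule.induction_on with
    | _ x t =>
      intro hw
      rw [LocalizedModule.map_mk, ← LocalizedModule.zero_mk 1, LocalizedModule.mk_eq] at hw
      obtain ⟨u, hu⟩ := hw
      rw [one_smul, smul_zero, smul_zero] at hu
      have hcyc : (P.d (i+1) (i+1+1)).hom ((u : A) • x) = 0 := by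
        rw [map_smul]; exact hu
      obtain ⟨r, hr, y, hy⟩ := cycle_boundary P i (i+1) (i+1+1) rfl rfl S (h (i+1)) _ hcyc
      refine ⟨LocalizedModule.mk y (⟨r, hr⟩ * u * t), ?_⟩
      rw [LocalizedModule.map_mk, hy]
      have e : r • (u : A) • x = ((⟨r, hr⟩ : S) * u) • x := by
        rw [mul_smul]; rfl
      rw [e]
      exact LocalizedModule.mk_cancel_common_left ((⟨r, hr⟩ : S) * u) t x
  · rintro ⟨v, rfl⟩
    induction v using LocalizedModule.induction_on with
    | _ y t =>
      rw [LocalizedModule.map_mk, LocalizedModule.map_mk]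
      have : (P.d (i+1) (i+1+1)).hom ((P.d i (i+1)).hom y) = 0 := by
        have := P.d_comp_d i (i+1) (i+1+1)
        exact congrArg (fun f => f.hom y) this
      rw [this, LocalizedModule.zero_mk]

theorem main {A : Type u} [CommRing A]
    (P : CochainComplex (ModuleCat.{u} A) ℤ) (s : Finset ℤ)
    (hP : ∀ i : ℤ, Module.Finite A (P.X i) ∧ Module.Projective A (P.X i))
    (hs : ∀ i : ℤ, i ∉ s → Limits.IsZero (P.X i))
    (hsupp : ∀ q : PrimeSpectrum A, q.asIdeal ∈ minimalPrimes A →
      ∀ i : ℤ, Subsingleton (LocalizedModule q.asIdeal.primeCompl (P.homology i))) :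
    ∀ x : PrimeSpectrum A,
      (s.sum fun i => ((i.negOnePow : ℤˣ) : ℤ) * (Module.rankAtStalk (R := A) (P.X i) x : ℤ)) = 0 := by
  intro x
  obtain ⟨q, hqmin, hqx⟩ := Ideal.exists_minimalPrimes_le (bot_le : (⊥ : Ideal A) ≤ x.asIdeal)
  haveI : q.IsPrime := hqmin.1.1
  let q' : PrimeSpectrum A := ⟨q, inferInstance⟩
  haveI : ∀ i, Module.Finite A (P.X i) := fun i => (hP i).1
  haveI : ∀ i, Module.Projective A (P.X i) := fun i => (hP i).2
  have hrank : ∀ i, Module.rankAtStalk (P.X i) x = Module.rankAtStalk (P.X i) q' := fun i =>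
    (Module.rankAtStalk_eq_of_le_of_finite_of_flat (P.X i) (p := q') (q := x) hqx).symm
  simp_rw [hrank]
  have hq := hsupp q' hqmin
  exact euler_zero (L := Localization.AtPrime q) (fun i => LocalizedModule q.primeCompl (P.X i))
    (fun i => LocalizedModule.map q.primeCompl (P.d i (i+1)).hom)
    (fun i => loc_exact P q.primeCompl hq i) s
    (fun i hi => by
      haveI : Subsingleton (P.X i) := ModuleCat.subsingleton_of_isZero (hs i hi)
      infer_instance)




open CategoryTheory CategoryTheory.Limits in
/-- Let A be a commutative ring and P a strictly perfect complex over A, that is a cochain complex of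
finitely generated projective A-modules which is zero outside a finite set s of degrees. Suppose the
cohomological support of P has positive codimension: for every minimal prime q of A and every degree
i the localization at q of the cohomology module H^i(P) is zero. Then the Euler characteristic of P
vanishes identically: at every prime of A the alternating sum over i ∈ s of the ranks of the P^i is
zero. -/
theorem result {A : Type u} [CommRing A]
    (P : CochainComplex (ModuleCat.{u} A) ℤ) (s : Finset ℤ)
    (hP : ∀ i : ℤ, Module.Finite A (P.X i) ∧ Module.Projective A (P.X i))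
    (hs : ∀ i : ℤ, i ∉ s → IsZero (P.X i))
    (hsupp : ∀ q : PrimeSpectrum A, q.asIdeal ∈ minimalPrimes A →
      ∀ i : ℤ, Subsingleton (LocalizedModule q.asIdeal.primeCompl (P.homology i))) :
    ∀ x : PrimeSpectrum A,
      (s.sum fun i => ((i.negOnePow : ℤˣ) : ℤ) * (Module.rankAtStalk (R := A) (P.X i) x : ℤ)) = 0 := by
  exact main P s hP hs hsupp

end Groth.Agent.S14000
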