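import Groth.Statements.S14003
import Groth.Agent.Lib.Helper8.DevMaster

set_option autoImplicit false
universe u
open CategoryTheory AlgebraicGeometry
open KZero

namespace Groth.Agent.S14003

/-- Let X be a Noetherian scheme and Y' a closed subset; write K_0 for the Grothendieck group of the
abelian category of coherent O_X-modules with support in Y' (free abelian group on its objects
modulo the relations of short exact sequences). Let (F_a) be a family of such modules such that for
every irreducible closed subset Z ⊆ Y' with generic point ζ there is an index a with the support of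
F_a contained in Z and the stalk of F_a at ζ of length one over the local ring (a one-dimensional
vector space over the residue field). Then the classes of the F_a generate K_0. (The published
statement omits the condition that the support of F_a lie in Z; without it the claim fails already
for the spectrum of a product of two fields, where the modules k_1 ⊕ k_2 ⊕ k_2 and k_1 ⊕ k_1 ⊕ k_2
have one-dimensional stalks at the two points but their classes generate a subgroup of index 3 in
K_0 = ℤ².) -/
theorem result (X : Scheme.{u}) [IsNoetherian X]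
    (Y' : Set X) (hY' : IsClosed Y') {ι : Type u} (F : ι → X.Modules)
    (hF : ∀ a : ι, Coh.IsCoh (F a) ∧ CohB1.support (F a) ⊆ Y')
    (hgen : ∀ (Z : Set X), IsClosed Z → IsIrreducible Z → Z ⊆ Y' → ∀ y : X, closure ({y} : Set X) = Z →
      ∃ a : ι, CohB1.support (F a) ⊆ Z ∧ Module.length (X.presheaf.stalk y) ((F a).presheaf.stalk y) = 1) :
    AddSubgroup.closure (Set.range fun a : ι =>
        KZero.clSub (fun G : X.Modules => Coh.IsCoh G ∧ CohB1.support G ⊆ Y') (F a)) = ⊤ := by
  classical
  let Q : ObjectProperty X.Modules := fun G : X.Modules => Coh.IsCoh G ∧ CohB1.support G ⊆ Y'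
  let S : AddSubgroup (KZero.K0sub Q) :=
    AddSubgroup.closure (Set.range fun a : ι => KZero.clSub Q (F a))
  -- the defining relations
  have hrel : ∀ T : ShortComplex X.Modules, T.ShortExact → Q T.X₁ → Q T.X₂ → Q T.X₃ →
      KZero.clSub Q T.X₂ = KZero.clSub Q T.X₁ + KZero.clSub Q T.X₃ := by
    intro T hT h₁ h₂ h₃
    have h0 : (QuotientAddGroup.mk (FreeAbelianGroup.of (⟨T.X₂, h₂⟩ : Subtype Q) -
        FreeAbelianGroup.of (⟨T.X₁, h₁⟩ : Subtype Q) -
        FreeAbelianGroup.of (⟨T.X₃, h₃⟩ : Subtype Q)) : KZero.K0sub Q) = 0 :=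
      (QuotientAddGroup.eq_zero_iff _).mpr
        (AddSubgroup.subset_closure ⟨T, h₁, h₂, h₃, hT, rfl⟩)
    rw [QuotientAddGroup.mk_sub, QuotientAddGroup.mk_sub, sub_sub, sub_eq_zero] at h0
    unfold KZero.clSub
    rw [dif_pos h₁, dif_pos h₂, dif_pos h₃]
    exact h0
  have hQiso : ∀ M N : X.Modules, (M ≅ N) → Q M → Q N := by
    intro M N e hM
    have hN : Coh.IsCoh N := Groth.Agent.Lib.helper7.CohKer.isCoh_of_iso e hM.1
    exact ⟨hN, (Groth.Agent.Lib.helper8.Dev.support_subset_of_mono e.inv hN hM.1).trans hM.2⟩
  have hQzero : ∀ N : X.Modules, Limits.IsZero N → Q N := by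
    intro N hN
    have hNc := Groth.Agent.Lib.helper7.CohKer.isCoh_of_isZero hN
    refine ⟨hNc, ?_⟩
    intro x hx
    exfalso
    apply hx
    refine ⟨fun a b => ?_⟩
    suffices h : ∀ t : ↑(N.presheaf.stalk x), t = 0 by rw [h a, h b]
    intro t
    obtain ⟨U, hxU, s, rfl⟩ := TopCat.Presheaf.exists_germ_eq N.presheaf t
    haveI := Groth.Agent.Lib.helper8.PinchMod.subsingleton_sections_of_isZero hN U
    rw [Subsingleton.elim s 0, map_zero]
  have hzero : ∀ N : X.Modules, Limits.IsZero N → KZero.clSub Q N = 0 := by
    intro N hN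
    let T : ShortComplex X.Modules := ShortComplex.mk (𝟙 N) (𝟙 N) (hN.eq_of_src _ _)
    have hsplit : T.Splitting :=
      { r := 𝟙 N
        s := 𝟙 N
        f_r := Category.comp_id _
        s_g := Category.comp_id _
        id := hN.eq_of_src _ _ }
    have h := hrel T hsplit.shortExact (hQzero N hN) (hQzero N hN) (hQzero N hN)
    exact left_eq_add.mp h
  have hiso : ∀ M N : X.Modules, (M ≅ N) → KZero.clSub Q M = KZero.clSub Q N := by
    intro M N e
    by_cases hM : Q M
    · have hN : Q N := hQiso M N e hM
      obtain ⟨Z0, hz⟩ := Limits.HasZeroObject.zero (C := X.Modules)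
      let T : ShortComplex X.Modules := ShortComplex.mk (0 : Z0 ⟶ M) e.hom
        Limits.zero_comp
      have hsplit : T.Splitting :=
        { r := 0
          s := e.inv
          f_r := hz.eq_of_src _ _
          s_g := e.inv_hom_id
          id := by simp [T] }
      have h := hrel T hsplit.shortExact (hQzero _ hz) hM hN
      rw [hzero _ hz, zero_add] at h
      exact h
    · have hN : ¬ Q N := fun hN => hM (hQiso N M e.symm hN)
      unfold KZero.clSub
      rw [dif_neg hM, dif_neg hN]
  -- dévissage
  have hmain : ∀ G : X.Modules, Coh.IsCoh G → CohB1.support G ⊆ Y' → KZero.clSub Q G ∈ S := by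
    intro G hG hGs
    refine Groth.Agent.Lib.helper8.Dev.devissage_master (fun G => KZero.clSub Q G ∈ S) ?_ Y' ?_ ?_ ?_
      G hG hGs
    · rintro M N ⟨e⟩ hM
      show KZero.clSub Q N ∈ S
      rw [← hiso M N e]
      exact hM
    · intro N hN
      show KZero.clSub Q N ∈ S
      rw [hzero N hN]
      exact S.zero_mem
    · intro T hT h1 h2 h3 hs
      haveI := hT.mono_f
      haveI := hT.epi_g
      have hQ₂ : Q T.X₂ := ⟨h2, hs⟩
      have hQ₁ : Q T.X₁ :=
        ⟨h1, (Groth.Agent.Lib.helper8.Dev.support_subset_of_mono T.f h1 h2).trans hs⟩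
      have hQ₃ : Q T.X₃ :=
        ⟨h3, (Groth.Agent.Lib.helper8.Dev.support_subset_of_epi T.g h2 h3).trans hs⟩
      have h := hrel T hT hQ₁ hQ₂ hQ₃
      refine ⟨fun ha hb => ?_, fun ha hc => ?_, fun hb hc => ?_⟩
      · have : KZero.clSub Q T.X₃ = KZero.clSub Q T.X₂ - KZero.clSub Q T.X₁ := by
          rw [h]; abel
        show KZero.clSub Q T.X₃ ∈ S
        rw [this]
        exact S.sub_mem hb ha
      · show KZero.clSub Q T.X₂ ∈ S
        rw [h]
        exact S.add_mem ha hc
      · have : KZero.clSub Q T.X₁ = KZero.clSub Q T.X₂ - KZero.clSub Q T.X₃ := by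
          rw [h]; abel
        show KZero.clSub Q T.X₁ ∈ S
        rw [this]
        exact S.sub_mem hb hc
    · intro Z i hi hZ hrange
      right
      have hcl : closure {i (genericPoint Z)} = Set.range ⇑i := by
        have h1 : closure {genericPoint Z} = (Set.univ : Set Z) := genericPoint_spec Z
        rw [← Set.image_singleton, i.isClosedEmbedding.closure_image_eq, h1, Set.image_univ]
      have hirr : IsIrreducible (Set.range ⇑i) := by
        rw [← Set.image_univ]
        exact (IrreducibleSpace.isIrreducible_univ Z).image i i.continuous.continuousOn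
      obtain ⟨a, has, hlen⟩ :=
        hgen (Set.range ⇑i) i.isClosedEmbedding.isClosed_range hirr hrange (i (genericPoint Z)) hcl
      refine ⟨F a, (hF a).1, has, ?_, AddSubgroup.subset_closure ⟨a, rfl⟩⟩
      rw [Module.length_eq_one_iff] at hlen
      obtain ⟨J, hJ, ⟨e⟩⟩ := isSimpleModule_iff_quot_maximal.mp hlen
      have hJ' : J = IsLocalRing.maximalIdeal (X.presheaf.stalk (i (genericPoint Z))) :=
        IsLocalRing.eq_maximalIdeal hJ
      subst hJ'
      exact ⟨e⟩
  -- conclusion
  rw [eq_top_iff]
  intro x _
  suffices hall : ∀ y : FreeAbelianGroup (Subtype Q),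
      (QuotientAddGroup.mk y : KZero.K0sub Q) ∈ S by
    obtain ⟨y, rfl⟩ := QuotientAddGroup.mk_surjective x
    exact hall y
  intro y
  induction y using FreeAbelianGroup.induction_on with
  | zero => exact S.zero_mem
  | of g =>
    have h := hmain g.1 g.2.1 g.2.2
    unfold KZero.clSub at h
    rw [dif_pos g.2] at h
    exact h
  | neg g ih => exact S.neg_mem ih
  | add a b ha hb => exact S.add_mem ha hb

end Groth.Agent.S14003
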