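import Groth.Statements.S14004
import Mathlib
import Groth.Agent.Lib.Helper18.NilThickScheme
import Groth.Agent.S1384

set_option autoImplicit false
universe u
open CategoryTheory AlgebraicGeometry
open FSch

namespace Groth.Agent.S14004

open Groth.Agent.Lib.Helper18.NilThick CategoryTheory.Limits

/-- The kernel of a surjective closed immersion into a locally Noetherian scheme is nilpotent on
every affine open. -/
theorem isNilpotent_ker_ideal_of_surjective {Y₀ Y : Scheme.{u}} (i : Y₀ ⟶ Y) [IsClosedImmersion i]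
    (hs : Function.Surjective i) [IsLocallyNoetherian Y] (U : Y.affineOpens) :
    IsNilpotent (i.ker.ideal U) := by
  have hN := IsLocallyNoetherian.component_noetherian U
  have hfg : (i.ker.ideal U).FG := (isNoetherianRing_iff_ideal_fg _).mp hN _
  rw [hfg.isNilpotent_iff_le_nilradical]
  intro x hx
  rw [Scheme.Hom.ker_apply, RingHom.mem_ker] at hx
  rw [mem_nilradical, Scheme.isNilpotent_iff_basicOpen_eq_bot_of_isCompact U.2.isCompact]
  have h1 : i ⁻¹ᵁ Y.basicOpen x = ⊥ := by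
    rw [Scheme.preimage_basicOpen, hx]
    exact Scheme.basicOpen_zero _ _
  rw [eq_bot_iff]
  intro y hy
  obtain ⟨y₀, rfl⟩ := hs y
  have : y₀ ∈ i ⁻¹ᵁ Y.basicOpen x := hy
  rw [h1] at this
  exact this

theorem fg_ker_ideal {Y₀ Y : Scheme.{u}} (i : Y₀ ⟶ Y) [IsLocallyNoetherian Y]
    (U : Y.affineOpens) : (i.ker.ideal U).FG := by
  have hN := IsLocallyNoetherian.component_noetherian U
  exact (isNoetherianRing_iff_ideal_fg _).mp hN _

theorem isThickening_toX (𝔛 : FSch.Sys.{u}) (h : 𝔛.IsFormal) (n : ℕ) :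
    IsClosedImmersion (𝔛.toX n) ∧ Function.Surjective (𝔛.toX n) := by
  induction n with
  | zero => exact ⟨by unfold FSch.Sys.toX; infer_instance, by
      unfold FSch.Sys.toX; exact fun x => ⟨x, rfl⟩⟩
  | succ n ih =>
    obtain ⟨h1, h2⟩ := ih
    obtain ⟨h3, h4⟩ := h n
    refine ⟨by unfold FSch.Sys.toX; infer_instance, ?_⟩
    unfold FSch.Sys.toX
    rw [Scheme.Hom.comp_base]
    exact h4.comp h2

theorem isPullback_toX {𝔛 𝔜 : FSch.Sys.{u}} (f : 𝔛 ⟶ 𝔜) (hf : FSch.IsAdicHom f) (n : ℕ) :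
    IsPullback (𝔛.toX n) ((f : FSch.Hom 𝔛 𝔜).app 0) ((f : FSch.Hom 𝔛 𝔜).app n) (𝔜.toX n) := by
  induction n with
  | zero => unfold FSch.Sys.toX; exact IsPullback.of_horiz_isIso ⟨by simp⟩
  | succ n ih => unfold FSch.Sys.toX; exact ih.paste_horiz (hf n)

/-- Formal schemes are modelled as ℕ-indexed systems of thickenings. Let 𝔛 and 𝔜 be locally Noetherian
adic formal systems and f : 𝔛 ⟶ 𝔜 an adic morphism (every square X_n → X_{n+1}, Y_n → Y_{n+1}
cartesian) all of whose levels f_n : X_n ⟶ Y_n are flat. Then f is smooth, in the sense that every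
level f_n is smooth, if and only if the bottom level f_0 is smooth. -/
theorem result (𝔛 𝔜 : FSch.Sys.{u})
    (h𝔛 : 𝔛.IsLocNoethFormal) (h𝔜 : 𝔜.IsLocNoethFormal) (f : 𝔛 ⟶ 𝔜) (hf : FSch.IsAdicHom f)
    (hflat : ∀ n : ℕ, Flat ((f : FSch.Hom 𝔛 𝔜).app n)) :
    (∀ n : ℕ, AlgebraicGeometry.Smooth ((f : FSch.Hom 𝔛 𝔜).app n)) ↔
      AlgebraicGeometry.Smooth ((f : FSch.Hom 𝔛 𝔜).app 0) := by
  refine ⟨fun h => h 0, fun h0 n => ?_⟩
  obtain ⟨hX1, hX2⟩ := isThickening_toX 𝔛 h𝔛.1 n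
  obtain ⟨hY1, hY2⟩ := isThickening_toX 𝔜 h𝔜.1 n
  have H := isPullback_toX f hf n
  have := h𝔛.2.2 n
  have := h𝔜.2.2 n
  have := hflat n
  -- finite presentation of the `n`-th level
  have : LocallyOfFiniteType (𝔛.toX n ≫ (f : FSch.Hom 𝔛 𝔜).app n) := by
    rw [H.w]; infer_instance
  have hft : LocallyOfFiniteType ((f : FSch.Hom 𝔛 𝔜).app n) :=
    locallyOfFiniteType_of_comp_thickening _ (𝔛.toX n)
      (fun U => isNilpotent_ker_ideal_of_surjective _ hX2 U) (fun U => fg_ker_ideal _ U)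
  have hfp : LocallyOfFinitePresentation ((f : FSch.Hom 𝔛 𝔜).app n) :=
    locallyOfFinitePresentation_of_isLocallyNoetherian _
  have : Flat ((f : FSch.Hom 𝔛 𝔜).app n ≫ 𝟙 _) := by rw [Category.comp_id]; infer_instance
  have : LocallyOfFinitePresentation ((f : FSch.Hom 𝔛 𝔜).app n ≫ 𝟙 _) := by
    rw [Category.comp_id]; infer_instance
  refine (Groth.Agent.S1384.result (𝔛.toX n) (𝔜.toX n) (𝔜.toX n) ((f : FSch.Hom 𝔛 𝔜).app 0)
    ((f : FSch.Hom 𝔛 𝔜).app n) (𝟙 _) (𝟙 _) ⟨hY1, ⟨hY2⟩⟩ ?_ ?_ H.w).mp h0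
  · rw [Category.comp_id, Category.comp_id]; exact H
  · exact IsPullback.of_vert_isIso ⟨by simp⟩

end Groth.Agent.S14004
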