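import Groth.Statements.S14005
import Mathlib

set_option autoImplicit false
universe u
open CategoryTheory AlgebraicGeometry
open CohTop

namespace Groth.Agent.S14005

section Helpers

open TopologicalSpace Opposite TopCat

lemma key {X : TopCat.{u}} [QuasiSober X] (F : TopCat.Presheaf AddCommGrpCat.{u} X)
    (U₁ : Opens X) [NoetherianSpace U₁] (x : X) (hx : x ∈ U₁) (t₁ : F.obj (op U₁))
    (H : ∀ (y : X) (hy : y ∈ U₁), y ⤳ x → y ≠ x → F.germ U₁ y hy t₁ = 0) :
    ∃ (U' : Opens X) (hle : U' ≤ U₁), x ∈ U' ∧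
      ∀ (u : X) (hu : u ∈ U'), F.germ U₁ u (hle hu) t₁ ≠ 0 → u ∈ closure ({x} : Set X) := by
  have : QuasiSober U₁ := U₁.isOpenEmbedding'.quasiSober
  haveI : Nonempty U₁ := ⟨⟨x, hx⟩⟩
  let S : Set U₁ := {u | F.germ U₁ u.1 u.2 t₁ ≠ 0}
  have hS : IsClosed S := by
    rw [← isOpen_compl_iff, isOpen_iff_mem_nhds]
    intro u hu
    have hu0 : F.germ U₁ u.1 u.2 t₁ = 0 := by
      by_contra h; exact hu h
    have hu1 : F.germ U₁ u.1 u.2 t₁ = F.germ U₁ u.1 u.2 (0 : F.obj (op U₁)) := by
      rw [hu0, map_zero]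
    obtain ⟨W, hW, iU, iV, e⟩ := TopCat.Presheaf.germ_eq F u.1 u.2 u.2 t₁ 0 hu1
    have hWn : (Subtype.val ⁻¹' (W : Set X) : Set U₁) ∈ nhds u :=
      (W.isOpen.preimage continuous_subtype_val).mem_nhds hW
    refine Filter.mem_of_superset hWn ?_
    intro u' hu'
    have hu'W : u'.1 ∈ W := hu'
    show ¬ (F.germ U₁ u'.1 u'.2 t₁ ≠ 0)
    rw [not_not]
    have h1 := TopCat.Presheaf.germ_res_apply F iU u'.1 hu'W t₁
    rw [← h1, e, map_zero, map_zero]
  obtain ⟨𝒮, hfin, hcl, hirr, hsup⟩ := NoetherianSpace.exists_finite_set_isClosed_irreducible hS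
  have hgen : ∀ Z ∈ 𝒮, ∃ η : U₁, IsGenericPoint η Z :=
    fun Z hZ => QuasiSober.sober (hirr Z hZ) (hcl Z hZ)
  choose! η hη using hgen
  let B : Set X := ⋃ Z ∈ {Z ∈ 𝒮 | ¬ ((η Z : X) ⤳ x)}, closure {(η Z : X)}
  have hB : IsClosed B :=
    (hfin.subset (Set.sep_subset _ _)).isClosed_biUnion (fun _ _ => isClosed_closure)
  have hxB : x ∉ B := by
    simp only [B, Set.mem_iUnion]
    rintro ⟨Z, ⟨hZ, hns⟩, hmem⟩
    exact hns (specializes_iff_mem_closure.2 hmem)
  refine ⟨U₁ ⊓ ⟨Bᶜ, hB.isOpen_compl⟩, inf_le_left, ⟨hx, hxB⟩, ?_⟩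
  intro u hu hne
  have huS : (⟨u, hu.1⟩ : U₁) ∈ S := hne
  rw [hsup] at huS
  obtain ⟨Z, hZ, huZ⟩ := huS
  have hsp : (η Z : X) ⤳ u := by
    have h1 : η Z ⤳ (⟨u, hu.1⟩ : U₁) := (hη Z hZ).specializes huZ
    exact (subtype_specializes_iff _ _).1 h1
  by_cases hns : (η Z : X) ⤳ x
  · have hηS : η Z ∈ S := by
      rw [hsup]
      exact ⟨Z, hZ, (hη Z hZ).mem⟩
    have hηx : (η Z : X) = x := by
      by_contra hne'
      exact hηS (H _ (η Z).2 hns hne')
    rw [← hηx]
    exact specializes_iff_mem_closure.1 hsp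
  · exfalso
    apply hu.2
    simp only [B, Set.mem_iUnion]
    exact ⟨Z, ⟨hZ, hns⟩, specializes_iff_mem_closure.1 hsp⟩

end Helpers

/-- Take a scheme X with a locally Noetherian underlying topological space, F a sheaf of abelian groups
on X, x a point of X and s an element of the stalk F_x. Then the following are equivalent: (i) s is
the germ of a section t over some open neighbourhood U of x whose support in U is contained in the
closure of {x} (that is, s belongs to the subgroup Γ_x(F) of F_x); (ii) for every generization y ≠ x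
of x the image of s under the cospecialisation map F_x → F_y is zero (that is, viewed as a global
section of the inverse image of F on Spec O_{X,x}, s is supported at the closed point). -/
theorem result {X : Scheme.{u}}
    (hX : ∀ x : X, ∃ U : X.Opens, x ∈ U ∧ TopologicalSpace.NoetherianSpace U)
    (F : TopCat.Sheaf AddCommGrpCat.{u} X.carrier) (x : X) (s : F.presheaf.stalk x) :
    (∃ (U : X.Opens) (hx : x ∈ U) (t : F.presheaf.obj (Opposite.op U)),
        F.presheaf.germ U x hx t = s ∧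
          ∀ (u : X) (hu : u ∈ U), F.presheaf.germ U u hu t ≠ 0 → u ∈ closure ({x} : Set X)) ↔
      ∀ (y : X) (h : y ⤳ x), y ≠ x → F.presheaf.stalkSpecializes h s = 0 := by
  constructor
  · rintro ⟨U, hx, t, rfl, hsupp⟩ y h hyx
    have hyU : y ∈ U := h.mem_open U.isOpen hx
    have e : F.presheaf.stalkSpecializes h (F.presheaf.germ U x hx t) =
        F.presheaf.germ U y hyU t := by
      have h1 := TopCat.Presheaf.germ_stalkSpecializes F.presheaf hx h
      rw [← ConcreteCategory.comp_apply, h1]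
    rw [e]
    by_contra hne
    have hmem := hsupp y hyU hne
    have hxy : x ⤳ y := specializes_iff_mem_closure.2 hmem
    exact hyx ((h.antisymm hxy).eq)
  · intro H
    obtain ⟨U₀, hxU₀, hN⟩ := hX x
    obtain ⟨U, hxU, t, rfl⟩ := TopCat.Presheaf.exists_germ_eq F.presheaf s
    let U₁ : X.Opens := U ⊓ U₀
    have hxU₁ : x ∈ U₁ := ⟨hxU, hxU₀⟩
    let t₁ := F.presheaf.map (homOfLE (inf_le_left : U₁ ≤ U)).op t
    have hgerm : ∀ (u : X) (hu : u ∈ U₁),
        F.presheaf.germ U₁ u hu t₁ = F.presheaf.germ U u hu.1 t := fun u hu =>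
      TopCat.Presheaf.germ_res_apply F.presheaf (homOfLE (inf_le_left : U₁ ≤ U)) u hu t
    haveI hN₁ : TopologicalSpace.NoetherianSpace U₁ := by
      have h0 : TopologicalSpace.NoetherianSpace (U₀ : Set X) := hN
      rw [TopologicalSpace.noetherianSpace_set_iff] at h0
      show TopologicalSpace.NoetherianSpace ((U₁ : Set X))
      rw [TopologicalSpace.noetherianSpace_set_iff]
      intro T hT
      exact h0 T (hT.trans (fun _ h => h.2))
    obtain ⟨U', hle, hxU', hU'⟩ := @key X.carrier _ F.presheaf U₁ hN₁ x hxU₁ t₁ (by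
      intro y hy hyx hne
      rw [hgerm]
      have h1 := TopCat.Presheaf.germ_stalkSpecializes F.presheaf hxU hyx
      have h2 := H y hyx hne
      rw [← ConcreteCategory.comp_apply, h1] at h2
      exact h2)
    refine ⟨U', hxU', F.presheaf.map (homOfLE hle).op t₁, ?_, ?_⟩
    · rw [TopCat.Presheaf.germ_res_apply F.presheaf (homOfLE hle) x hxU' t₁, hgerm]
    · intro u hu hne
      rw [TopCat.Presheaf.germ_res_apply F.presheaf (homOfLE hle) u hu t₁] at hne
      exact hU' u hu hne

end Groth.Agent.S14005
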