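import Groth.Statements.S14020
import Mathlib.RingTheory.Artinian.Module
import Mathlib.RingTheory.Finiteness.Ideal
import Mathlib.RingTheory.TensorProduct.Finite
import Mathlib.LinearAlgebra.TensorProduct.Quotient

set_option autoImplicit false
universe u
open CAlg

namespace Groth.Agent.S14020

open TensorProduct in
/-- Let R be a commutative ring and I a finitely generated ideal such that the quotient ring R/I is
artinian. Then R/I^n is artinian for every n. -/
theorem result
    (R : Type u) [CommRing R] (I : Ideal R) (hI : I.FG) [IsArtinianRing (R ⧸ I)] (n : ℕ) :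
    IsArtinianRing (R ⧸ I ^ n) := by
  have key : ∀ n, IsArtinian R (R ⧸ I ^ n) := by
    intro n
    induction n with
    | zero =>
      rw [pow_zero, Ideal.one_eq_top]
      have : Subsingleton (R ⧸ (⊤ : Ideal R)) := Ideal.Quotient.subsingleton_iff.mpr rfl
      infer_instance
    | succ n ih =>
      have hfg : (I ^ n).FG := hI.pow
      have h1 : Module.Finite R ↥(I ^ n) := Module.Finite.iff_fg.mpr hfg
      have h2 : Module.Finite (R ⧸ I) ((R ⧸ I) ⊗[R] ↥(I ^ n)) := inferInstance
      have h3 : IsArtinian (R ⧸ I) ((R ⧸ I) ⊗[R] ↥(I ^ n)) := inferInstance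
      have h4 : IsArtinian R ((R ⧸ I) ⊗[R] ↥(I ^ n)) :=
        isArtinian_of_surjective_algebraMap (R := R ⧸ I) Ideal.Quotient.mk_surjective
      have hM : IsArtinian R (↥(I ^ n) ⧸ (I • ⊤ : Submodule R ↥(I ^ n))) :=
        isArtinian_of_linearEquiv (TensorProduct.quotTensorEquivQuotSMul _ I)
      have hle : (I • ⊤ : Submodule R ↥(I ^ n)) ≤
          LinearMap.ker ((Submodule.mkQ (I ^ (n + 1))) ∘ₗ (Submodule.subtype (I ^ n))) := by
        rw [Submodule.smul_le]
        intro r hr x _
        rw [LinearMap.mem_ker, LinearMap.comp_apply, Submodule.mkQ_apply,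
          Submodule.Quotient.mk_eq_zero]
        show r • (x : R) ∈ I ^ (n + 1)
        rw [smul_eq_mul, pow_succ']
        exact Ideal.mul_mem_mul hr x.2
      let f : (↥(I ^ n) ⧸ (I • ⊤ : Submodule R ↥(I ^ n))) →ₗ[R] (R ⧸ I ^ (n + 1)) :=
        Submodule.liftQ _ ((Submodule.mkQ (I ^ (n + 1))) ∘ₗ (Submodule.subtype (I ^ n))) hle
      let g : (R ⧸ I ^ (n + 1)) →ₗ[R] (R ⧸ I ^ n) :=
        Submodule.mapQ (I ^ (n + 1)) (I ^ n) LinearMap.id (Ideal.pow_le_pow_right (Nat.le_succ n))
      refine isArtinian_of_range_eq_ker f g ?_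
      ext y
      obtain ⟨y, rfl⟩ := Submodule.mkQ_surjective _ y
      constructor
      · rintro ⟨z, hz⟩
        obtain ⟨z, rfl⟩ := Submodule.mkQ_surjective _ z
        rw [LinearMap.mem_ker]
        have : f (Submodule.mkQ _ z) = Submodule.mkQ (I ^ (n + 1)) (z : R) := rfl
        rw [this] at hz
        rw [← hz]
        show Submodule.Quotient.mk (z : R) = 0
        rw [Submodule.Quotient.mk_eq_zero]
        exact z.2
      · intro hy
        rw [LinearMap.mem_ker] at hy
        have hy' : y ∈ I ^ n := by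
          have : g (Submodule.mkQ _ y) = Submodule.Quotient.mk y := rfl
          rw [this, Submodule.Quotient.mk_eq_zero] at hy
          exact hy
        exact ⟨Submodule.mkQ _ ⟨y, hy'⟩, rfl⟩
  exact isArtinian_of_tower R (key n)

end Groth.Agent.S14020
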