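import Groth.Statements.S14023
import Mathlib

set_option autoImplicit false
open CategoryTheory CategoryTheory.Limits Opposite
universe v u
open ARSys

namespace Groth.Agent.S14023

open ZeroObject

variable {A : Type u} [Category.{v} A] [Abelian A]

/-- the step map of an inverse system -/
abbrev stp (F : ℕᵒᵖ ⥤ A) (n : ℕ) : F.obj (op (n + 1)) ⟶ F.obj (op n) :=
  F.map (homOfLE (n.le_add_right 1)).op

section Backward

variable (I : ℕ → A)

/-- `G_n = I_0 ⊞ ⋯ ⊞ I_n` -/
noncomputable def GObj : ℕ → A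
  | 0 => I 0
  | n + 1 => GObj n ⊞ I (n + 1)

/-- the inverse system of partial products -/
noncomputable def GFun : ℕᵒᵖ ⥤ A :=
  Functor.ofOpSequence (X := GObj I) (fun n => (biprod.fst : GObj I n ⊞ I (n + 1) ⟶ GObj I n))

lemma GFun_stp (n : ℕ) : stp (GFun I) n = (biprod.fst : GObj I n ⊞ I (n + 1) ⟶ GObj I n) :=
  Functor.ofOpSequence_map_homOfLE_succ _ n

/-- last projection -/
noncomputable def pr : ∀ n, GObj I n ⟶ I n
  | 0 => 𝟙 _
  | n + 1 => (biprod.snd : GObj I n ⊞ I (n + 1) ⟶ I (n + 1))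

variable {I}
variable {X Y : ℕᵒᵖ ⥤ A}

/-- components of the map to `G` determined by `a` -/
noncomputable def toG (a : ∀ n, X.obj (op n) ⟶ I n) : ∀ n, X.obj (op n) ⟶ GObj I n
  | 0 => a 0
  | n + 1 => biprod.lift (stp X n ≫ toG a n) (a (n + 1))

/-- the map to `G` determined by `a` -/
noncomputable def toGNat (a : ∀ n, X.obj (op n) ⟶ I n) : X ⟶ GFun I :=
  NatTrans.ofOpSequence (F := X) (G := GFun I) (toG a) (fun n => by
    show stp X n ≫ toG a n = toG a (n + 1) ≫ stp (GFun I) n
    rw [GFun_stp]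
    exact (biprod.lift_fst _ _).symm)

lemma toGNat_app (a : ∀ n, X.obj (op n) ⟶ I n) (n : ℕ) : (toGNat a).app (op n) = toG a n := rfl

lemma eq_toGNat (α : X ⟶ GFun I) : α = toGNat (fun n => α.app (op n) ≫ pr I n) := by
  ext ⟨n⟩
  rw [toGNat_app]
  induction n with
  | zero =>
    show α.app (op 0) = α.app (op 0) ≫ 𝟙 _
    rw [Category.comp_id]
  | succ n ih =>
    show α.app (op (n + 1)) = biprod.lift (stp X n ≫ toG _ n) (α.app (op (n + 1)) ≫ biprod.snd)
    have hnat : stp X n ≫ α.app (op n) =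
        α.app (op (n + 1)) ≫ (biprod.fst : GObj I n ⊞ I (n + 1) ⟶ GObj I n) :=
      (α.naturality _).trans (congrArg (fun t => α.app (op (n + 1)) ≫ t) (GFun_stp I n))
    apply biprod.hom_ext
    · rw [biprod.lift_fst, ← ih]
      exact hnat.symm
    · rw [biprod.lift_snd]
      rfl

lemma comp_toGNat (i : X ⟶ Y) (b : ∀ n, Y.obj (op n) ⟶ I n) :
    i ≫ toGNat b = toGNat (fun n => i.app (op n) ≫ b n) := by
  ext ⟨n⟩
  rw [NatTrans.comp_app, toGNat_app, toGNat_app]
  induction n with
  | zero => rfl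
  | succ n ih =>
    show i.app (op (n + 1)) ≫ biprod.lift (stp Y n ≫ toG b n) (b (n + 1)) =
      biprod.lift (stp X n ≫ toG _ n) (i.app (op (n + 1)) ≫ b (n + 1))
    have hnat : stp X n ≫ i.app (op n) = i.app (op (n + 1)) ≫ stp Y n := i.naturality _
    apply biprod.hom_ext
    · rw [Category.assoc, biprod.lift_fst, biprod.lift_fst, ← ih, ← Category.assoc, ← hnat,
        Category.assoc]
      rfl
    · rw [Category.assoc, biprod.lift_snd, biprod.lift_snd]

lemma injective_GFun (hI : ∀ n, Injective (I n)) : Injective (GFun I) where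
  factors {X Y} α i hi := by
    haveI : ∀ n, Mono (i.app (op n)) := fun n => inferInstance
    refine ⟨toGNat (fun n => Injective.factorThru (α.app (op n) ≫ pr I n) (i.app (op n))), ?_⟩
    rw [comp_toGNat]
    conv_rhs => rw [eq_toGNat α]
    congr 1
    funext n
    exact Injective.comp_factorThru _ _

lemma mono_toG (a : ∀ n, X.obj (op n) ⟶ I n) (ha : ∀ n, Mono (a n)) : ∀ n, Mono (toG a n)
  | 0 => ha 0
  | n + 1 => by
    haveI := ha (n + 1)
    have h : toG a (n + 1) ≫ (biprod.snd : GObj I n ⊞ I (n + 1) ⟶ I (n + 1)) = a (n + 1) :=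
      biprod.lift_snd _ _
    exact mono_of_mono_fac h

end Backward

section Forward

/-- extension by zero from level `0` -/
noncomputable def L0Obj (P : A) : ℕ → A
  | 0 => P
  | _ + 1 => 0

noncomputable def L0 (P : A) : ℕᵒᵖ ⥤ A :=
  Functor.ofOpSequence (X := L0Obj P) (fun n => (0 : L0Obj P (n + 1) ⟶ L0Obj P n))

lemma L0_stp (P : A) (n : ℕ) : stp (L0 P) n = 0 :=
  Functor.ofOpSequence_map_homOfLE_succ _ n

/-- components of the map out of `L0 P` -/
noncomputable def fromL0App {P : A} {J : ℕᵒᵖ ⥤ A} (f : P ⟶ J.obj (op 0)) :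
    ∀ n, L0Obj P n ⟶ J.obj (op n)
  | 0 => f
  | _ + 1 => 0

noncomputable def fromL0 {P : A} {J : ℕᵒᵖ ⥤ A} (f : P ⟶ J.obj (op 0)) : L0 P ⟶ J :=
  NatTrans.ofOpSequence (F := L0 P) (G := J) (fromL0App f) (fun n => by
    have h := L0_stp P n
    dsimp only [stp] at h
    rw [h, zero_comp]
    show 0 = (0 : (0 : A) ⟶ _) ≫ _
    rw [zero_comp])

/-- components of `L0` on a morphism -/
noncomputable def L0MapApp {P Q : A} (a : P ⟶ Q) : ∀ n, L0Obj P n ⟶ L0Obj Q n
  | 0 => a
  | _ + 1 => 0

noncomputable def L0Map {P Q : A} (a : P ⟶ Q) : L0 P ⟶ L0 Q :=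
  NatTrans.ofOpSequence (F := L0 P) (G := L0 Q) (L0MapApp a) (fun n => by
    have h := L0_stp P n
    have h' := L0_stp Q n
    dsimp only [stp] at h h'
    rw [h, h', zero_comp, comp_zero])

lemma mono_L0Map {P Q : A} (a : P ⟶ Q) [Mono a] : Mono (L0Map a) := by
  haveI : ∀ n : ℕᵒᵖ, Mono ((L0Map a).app n) := by
    rintro ⟨n⟩
    cases n with
    | zero => exact (inferInstance : Mono a)
    | succ n => exact (isZero_zero A).mono (f := (L0Map a).app (op (n + 1)))
  exact NatTrans.mono_of_mono_app _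

lemma injective_ev0 (J : ℕᵒᵖ ⥤ A) [Injective J] : Injective (J.obj (op 0)) where
  factors {P Q} f a ha := by
    haveI := mono_L0Map a
    refine ⟨(Injective.factorThru (fromL0 f) (L0Map a)).app (op 0), ?_⟩
    have h := congrArg (fun t => t.app (op 0)) (Injective.comp_factorThru (fromL0 f) (L0Map a))
    exact h

end Forward



/-- For an abelian category A, the category of inverse systems (A_n)_n indexed by ℕ, i.e. of functors
ℕᵒᵖ ⥤ A, has enough injectives if and only if A has enough injectives. (The second assertion of the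
published proposition, describing the injective systems, is not part of this row.) -/
theorem result
    (A : Type u) [Category.{v} A] [Abelian A] :
    EnoughInjectives (ℕᵒᵖ ⥤ A) ↔ EnoughInjectives A := by
  constructor
  · intro h
    refine ⟨fun X => ?_⟩
    obtain ⟨p⟩ := h.presentation (L0 X)
    haveI := p.injective
    haveI := p.mono
    have hm : Mono (p.f.app (op 0)) := inferInstance
    exact ⟨{ J := p.J.obj (op 0), injective := injective_ev0 p.J, f := p.f.app (op 0), mono := hm }⟩
  · intro h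
    refine ⟨fun F => ?_⟩
    let I : ℕ → A := fun n => Injective.under (F.obj (op n))
    let a : ∀ n, F.obj (op n) ⟶ I n := fun n => Injective.ι _
    have hm : ∀ n, Mono (toG a n) := mono_toG a (fun n => inferInstance)
    haveI : ∀ n : ℕᵒᵖ, Mono ((toGNat a).app n) := by
      rintro ⟨n⟩
      exact hm n
    exact ⟨{ J := GFun I, injective := injective_GFun (fun n => inferInstance), f := toGNat a,
             mono := NatTrans.mono_of_mono_app _ }⟩

end Groth.Agent.S14023
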