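import Groth.Statements.S14029
import Mathlib
-- import your own Groth.Agent.* helpers here

set_option autoImplicit false
open CategoryTheory CategoryTheory.Limits Opposite
universe v u
open CohSite

namespace Groth.Agent.S14029

section Aux
namespace S14029aux

variable {C : Type u} [Category.{v} C] (J : GrothendieckTopology C) (U : C)

/-- `Over.forget U` is fully faithful if `U` receives at most one morphism from each object -/
def forgetFF (hU : ∀ W : C, Subsingleton (W ⟶ U)) : (Over.forget U).FullyFaithful where
  preimage {X Y} f := Over.homMk f ((hU _).elim _ _)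

variable [HasWeakSheafify J (Type (max u v))]
  [∀ (P : (Over U)ᵒᵖ ⥤ Type (max u v)), (Over.forget U).op.HasLeftKanExtension P]

/-- the extension by empty functor -/
noncomputable abbrev L : Sheaf (J.over U) (Type (max u v)) ⥤ Sheaf J (Type (max u v)) :=
  Functor.sheafPullbackConstruction.sheafPullback (Over.forget U) (Type (max u v)) (J.over U) J

noncomputable abbrev adj : L J U ⊣ (Over.forget U).sheafPushforwardContinuous (Type (max u v)) (J.over U) J :=
  Functor.sheafPullbackConstruction.sheafAdjunctionContinuous (Over.forget U) (Type (max u v)) (J.over U) J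

lemma unit_hom (A : Sheaf (J.over U) (Type (max u v))) :
    ((adj J U).unit.app A).hom =
      ((Over.forget U).op.lanAdjunction (Type (max u v))).unit.app A.obj ≫
        Functor.whiskerLeft (Over.forget U).op
          (toSheafify J ((Over.forget U).op.lan.obj A.obj)) := by
  have := (((Over.forget U).op.lanAdjunction (Type (max u v))).comp
    (sheafificationAdjunction J (Type (max u v)))).map_restrictFullyFaithful_unit_app
      (fullyFaithfulSheafToPresheaf (J.over U) (Type (max u v)))
      (Functor.FullyFaithful.id _) (L := L J U)
      (R := (Over.forget U).sheafPushforwardContinuous (Type (max u v)) (J.over U) J)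
      (Iso.refl _) (Iso.refl _) A
  simp only [Functor.comp_obj, Functor.id_obj, Adjunction.comp_unit_app, Iso.refl_hom, NatTrans.id_app,
    Functor.map_id, Category.comp_id] at this
  refine this.trans ?_
  rfl

lemma isIso_unit_hom (hU : ∀ W : C, Subsingleton (W ⟶ U)) (A : Sheaf (J.over U) (Type (max u v))) :
    IsIso ((adj J U).unit.app A).hom := by
  rw [unit_hom]
  haveI : (Over.forget U).Full := (forgetFF U hU).full
  haveI : (Over.forget U).Faithful := (forgetFF U hU).faithful
  haveI h1 : IsIso (((Over.forget U).op.lanAdjunction (Type (max u v))).unit.app A.obj) := inferInstance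
  have h2 : IsIso (Functor.whiskerLeft (Over.forget U).op
      (toSheafify J ((Over.forget U).op.lan.obj A.obj))) := by
    rw [← Functor.toSheafify_pullbackSheafificationCompatibility (G := Over.forget U)
      (A := Type (max u v)) (J := J.over U) (K := J)]
    have hsheaf : Presheaf.IsSheaf (J.over U)
        ((Over.forget U).op ⋙ (Over.forget U).op.lan.obj A.obj) :=
      (Presheaf.isSheaf_of_iso_iff
        (asIso (((Over.forget U).op.lanAdjunction (Type (max u v))).unit.app A.obj))).1 A.property
    haveI i1 := isIso_toSheafify (J.over U) hsheaf
    haveI i2 : IsIso (((Over.forget U).pushforwardContinuousSheafificationCompatibility (Type (max u v))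
        (J.over U) J).hom.app ((Over.forget U).op.lan.obj A.obj)).hom :=
      (inferInstance : IsIso ((sheafToPresheaf (J.over U) (Type (max u v))).map
        (((Over.forget U).pushforwardContinuousSheafificationCompatibility (Type (max u v))
        (J.over U) J).hom.app ((Over.forget U).op.lan.obj A.obj))))
    exact @IsIso.comp_isIso _ _ _ _ _ _ _ i1 i2
  exact @IsIso.comp_isIso _ _ _ _ _ _ _ h1 h2

theorem main (hU : ∀ W : C, Subsingleton (W ⟶ U)) (V : C)
    (hV : (∀ (A B : Sheaf J (Type (max u v))) (ψ : A ⟶ B), Epi ψ →
      Function.Surjective (ψ.hom.app (op V)))) (a : V ⟶ U) :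
    ∀ (A B : Sheaf (J.over U) (Type (max u v))) (ψ : A ⟶ B), Epi ψ →
      Function.Surjective (ψ.hom.app (op (Over.mk a))) := by
  intro A B ψ hψ b
  haveI : (L J U).IsLeftAdjoint := (adj J U).isLeftAdjoint
  have hepi : Epi ((L J U).map ψ) := inferInstance
  have surj := hV _ _ ((L J U).map ψ) hepi
  haveI hA := isIso_unit_hom J U hU A
  haveI hB := isIso_unit_hom J U hU B
  have hA' : Function.Bijective (((adj J U).unit.app A).hom.app (op (Over.mk a))) :=
    (isIso_iff_bijective _).1 inferInstance
  have hB' : Function.Bijective (((adj J U).unit.app B).hom.app (op (Over.mk a))) :=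
    (isIso_iff_bijective _).1 inferInstance
  have nat := congrArg (fun t => t.hom.app (op (Over.mk a))) ((adj J U).unit.naturality ψ)
  obtain ⟨a', ha'⟩ := surj (((adj J U).unit.app B).hom.app (op (Over.mk a)) b)
  obtain ⟨a0, ha0⟩ := hA'.2 a'
  refine ⟨a0, hB'.1 ?_⟩
  have := ConcreteCategory.congr_hom nat a0
  refine this.trans ?_
  rw [← ha'] 
  show ((L J U).map ψ).hom.app (op V) (((adj J U).unit.app A).hom.app (op (Over.mk a)) a0) = _
  rw [ha0]

end S14029aux
end Aux


/-- Let (C, J) be a site and U an object such that every object has at most one morphism to U; assume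
extension by the empty set j_! from sheaves of sets on the localized site C/U to sheaves of sets on
C exists (through sheafification on C and left Kan extensions along C/U → C). If V is weakly
contractible in C — every epimorphism of sheaves of sets on C is surjective on sections over V —
then for any morphism a : V ⟶ U the object V → U of C/U is weakly contractible in C/U: every
epimorphism of sheaves of sets on C/U is surjective on sections over it. Hence C/U has enough weakly
contractible objects when C does. -/
theorem result
    {C : Type u} [Category.{v} C] (J : GrothendieckTopology C) (U : C)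
    (hU : ∀ W : C, Subsingleton (W ⟶ U))
    [HasWeakSheafify J (Type (max u v))]
    [∀ (P : (Over U)ᵒᵖ ⥤ Type (max u v)), (Over.forget U).op.HasLeftKanExtension P]
    (V : C) (hV : (∀ (A B : Sheaf J (Type (max u v))) (ψ : A ⟶ B), Epi ψ → Function.Surjective (ψ.hom.app (op V)))) (a : V ⟶ U) :
    ∀ (A B : Sheaf (J.over U) (Type (max u v))) (ψ : A ⟶ B), Epi ψ →
      Function.Surjective (ψ.hom.app (op (Over.mk a))) := by
  exact S14029aux.main J U hU V hV a

end Groth.Agent.S14029
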