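import Groth.Statements.S14032
import Mathlib

set_option autoImplicit false
universe u v
open W4c1frobunstiva

namespace Groth.Agent.S14032

open TensorProduct W4c1frobunstiva
section NR
variable {R : Type u} [CommRing R] {M : Type v} [AddCommGroup M] [Module R M]

theorem one_tmul_eq_zero_iff (I : Ideal R) (x : M) :
    ((1 : R ⧸ I) ⊗ₜ[R] x = 0) ↔ x ∈ (I • ⊤ : Submodule R M) := by
  rw [← (TensorProduct.quotTensorEquivQuotSMul M I).map_eq_zero_iff,
    TensorProduct.quotTensorEquivQuotSMul_mk_one_tmul, Submodule.Quotient.mk_eq_zero]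

theorem exists_one_tmul_eq (I : Ideal R) (t : (R ⧸ I) ⊗[R] M) : ∃ x : M, (1 : R ⧸ I) ⊗ₜ[R] x = t := by
  obtain ⟨x, hx⟩ := Submodule.Quotient.mk_surjective _ (TensorProduct.quotTensorEquivQuotSMul M I t)
  refine ⟨x, ?_⟩
  apply (TensorProduct.quotTensorEquivQuotSMul M I).injective
  rw [TensorProduct.quotTensorEquivQuotSMul_mk_one_tmul, hx]

theorem mk_smul_one_tmul (I : Ideal R) (a : R) (x : M) :
    (Ideal.Quotient.mk I a) • ((1 : R ⧸ I) ⊗ₜ[R] x) = (1 : R ⧸ I) ⊗ₜ[R] (a • x) := by
  rw [TensorProduct.tmul_smul, TensorProduct.smul_tmul', TensorProduct.smul_tmul']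
  congr 1

theorem sum_mk_smul_one_tmul (I : Ideal R) {r : ℕ} (a : Fin r → R) (x : Fin r → M) :
    ∑ i, (Ideal.Quotient.mk I (a i)) • ((1 : R ⧸ I) ⊗ₜ[R] x i) =
      (1 : R ⧸ I) ⊗ₜ[R] (∑ i, a i • x i) := by
  rw [TensorProduct.tmul_sum]
  exact Finset.sum_congr rfl fun i _ => mk_smul_one_tmul I (a i) (x i)

/-- nilpotent Nakayama -/
theorem eq_top_of_sup_smul_eq_top (I : Ideal R) (hI : IsNilpotent I) (N : Submodule R M)
    (h : N ⊔ I • ⊤ = ⊤) : N = ⊤ := by
  obtain ⟨k, hk⟩ := hI
  have key : ∀ j : ℕ, N ⊔ I ^ j • (⊤ : Submodule R M) = ⊤ := by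
    intro j
    induction j with
    | zero => simp
    | succ j ih =>
      rw [eq_top_iff]
      calc (⊤ : Submodule R M) = N ⊔ I ^ j • (⊤ : Submodule R M) := ih.symm
        _ = N ⊔ I ^ j • (N ⊔ I • (⊤ : Submodule R M)) := by rw [h]
        _ ≤ N ⊔ I ^ (j + 1) • (⊤ : Submodule R M) := by
          rw [Submodule.smul_sup, ← Submodule.mul_smul, ← pow_succ]
          refine sup_le le_sup_left (sup_le ?_ le_sup_right)
          exact le_trans Submodule.smul_le_right le_sup_left
  have := key k
  rwa [hk, Ideal.zero_eq_bot, Submodule.bot_smul, sup_bot_eq] at this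

theorem exists_sum_of_mem_smul_top (I : Ideal R) {r : ℕ} (m : Fin r → M)
    (hm : Submodule.span R (Set.range m) = ⊤) (x : M) (hx : x ∈ (I • ⊤ : Submodule R M)) :
    ∃ c : Fin r → R, (∀ i, c i ∈ I) ∧ x = ∑ i, c i • m i := by
  rw [← hm, Submodule.mem_ideal_smul_span_iff_exists_sum] at hx
  obtain ⟨a, ha, rfl⟩ := hx
  refine ⟨a, ha, ?_⟩
  rw [Finsupp.sum_fintype]
  intro i
  simp

end NR



open TensorProduct in
/-- Let R be a commutative Noetherian ring with nilradical n, M an R-module and r a natural number. Then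
M is NR-free of rank r — generated by r elements such that every linear relation among them has
nilpotent coefficients — if and only if (R/n) ⊗_R M is free of rank r over R/n, in the sense of
admitting a basis indexed by r elements. (The published statement assumes M finitely generated and
also gives the converse when R is local; over a Noetherian ring the nilradical is nilpotent, the
case used here, and finite generation is not needed.) -/
theorem result (R : Type u) [CommRing R]
    [IsNoetherianRing R] (M : Type v) [AddCommGroup M] [Module R M] (r : ℕ) :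
    W4c1frobunstiva.IsNRFree R M r ↔
      Nonempty (Module.Basis (Fin r) (R ⧸ nilradical R) ((R ⧸ nilradical R) ⊗[R] M)) := by
  constructor
  · rintro ⟨m, hspan, hrel⟩
    have hli : LinearIndependent (R ⧸ nilradical R)
        (fun i => (1 : R ⧸ nilradical R) ⊗ₜ[R] m i) := by
      rw [Fintype.linearIndependent_iff]
      intro g hg i
      choose a ha using fun i => Ideal.Quotient.mk_surjective (g i)
      have h1 : ∑ i, (Ideal.Quotient.mk (nilradical R) (a i)) •
          ((1 : R ⧸ nilradical R) ⊗ₜ[R] m i) = 0 := by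
        rw [← hg]
        exact Finset.sum_congr rfl fun i _ => by rw [ha]
      rw [sum_mk_smul_one_tmul, one_tmul_eq_zero_iff] at h1
      obtain ⟨c, hc, hsum⟩ := exists_sum_of_mem_smul_top (nilradical R) m hspan _ h1
      have h2 : ∑ i, (a i - c i) • m i = 0 := by
        simp only [sub_smul, Finset.sum_sub_distrib]
        rw [hsum, sub_self]
      have h3 := hrel _ h2 i
      have h4 : a i ∈ nilradical R := by
        have : a i - c i ∈ nilradical R := (mem_nilradical).mpr h3
        have := (nilradical R).add_mem this (hc i)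
        simpa using this
      rw [← ha i]
      exact Ideal.Quotient.eq_zero_iff_mem.mpr h4
    refine ⟨Module.Basis.mk hli ?_⟩
    intro t _
    obtain ⟨x, rfl⟩ := exists_one_tmul_eq (nilradical R) t
    have hx : x ∈ Submodule.span R (Set.range m) := by rw [hspan]; trivial
    obtain ⟨d, rfl⟩ := (Submodule.mem_span_range_iff_exists_fun R).mp hx
    rw [← sum_mk_smul_one_tmul]
    exact Submodule.sum_mem _ fun i _ => Submodule.smul_mem _ _ (Submodule.subset_span ⟨i, rfl⟩)
  · rintro ⟨b⟩
    choose x hx using fun i => exists_one_tmul_eq (nilradical R) (b i)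
    refine ⟨x, ?_, ?_⟩
    · apply eq_top_of_sup_smul_eq_top (nilradical R) (IsNoetherianRing.isNilpotent_nilradical R)
      rw [eq_top_iff]
      intro y _
      have h1 := b.sum_repr ((1 : R ⧸ nilradical R) ⊗ₜ[R] y)
      choose d hd using fun i => Ideal.Quotient.mk_surjective (b.repr ((1 : R ⧸ nilradical R) ⊗ₜ[R] y) i)
      have h2 : ∑ i, (Ideal.Quotient.mk (nilradical R) (d i)) •
          ((1 : R ⧸ nilradical R) ⊗ₜ[R] x i) = (1 : R ⧸ nilradical R) ⊗ₜ[R] y := by
        rw [← h1]
        exact Finset.sum_congr rfl fun i _ => by rw [hd, hx]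
      rw [sum_mk_smul_one_tmul] at h2
      have h3 : (1 : R ⧸ nilradical R) ⊗ₜ[R] (y - ∑ i, d i • x i) = 0 := by
        rw [TensorProduct.tmul_sub, h2, sub_self]
      rw [one_tmul_eq_zero_iff] at h3
      have h4 : y = ∑ i, d i • x i + (y - ∑ i, d i • x i) := by abel
      rw [h4]
      exact Submodule.add_mem_sup
        (Submodule.sum_mem _ fun i _ => Submodule.smul_mem _ _ (Submodule.subset_span ⟨i, rfl⟩)) h3
    · intro a ha i
      have h1 : ∑ i, (Ideal.Quotient.mk (nilradical R) (a i)) • b i = 0 := by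
        have : ∑ i, (Ideal.Quotient.mk (nilradical R) (a i)) •
            ((1 : R ⧸ nilradical R) ⊗ₜ[R] x i) = 0 := by
          rw [sum_mk_smul_one_tmul, ha, TensorProduct.tmul_zero]
        rw [← this]
        exact Finset.sum_congr rfl fun i _ => by rw [hx]
      have h2 := Fintype.linearIndependent_iff.mp b.linearIndependent _ h1 i
      exact mem_nilradical.mp (Ideal.Quotient.eq_zero_iff_mem.mp h2)

end Groth.Agent.S14032
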