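import Groth.Statements.S14033
import Mathlib

set_option autoImplicit false
universe u v
open W4c1frobunstiva

namespace Groth.Agent.S14033

section Aux
open DualNumber Pointwise TrivSqZeroExt
section DN
variable {R : Type u} [CommRing R] {M : Type v} [AddCommGroup M] [Module R[ε] M] [Module R M]
  [IsScalarTower R R[ε] M] {r : ℕ}

theorem inl_smul (a : R) (x : M) : (inl a : R[ε]) • x = a • x := by
  rw [← algebraMap_smul R[ε] a x]
  rfl

theorem eps_smul_eps_smul (x : M) : (ε : R[ε]) • ((ε : R[ε]) • x) = 0 := by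
  rw [smul_smul, eps_mul_eps, zero_smul]

theorem smul_eq (c : R[ε]) (x : M) : c • x = c.fst • x + c.snd • ((ε : R[ε]) • x) := by
  have h : c = inl c.fst + inl c.snd * ε := by ext <;> simp
  conv_lhs => rw [h]
  rw [add_smul, mul_smul, inl_smul, inl_smul]

theorem eps_smul_smul (c : R[ε]) (x : M) : (ε : R[ε]) • (c • x) = c.fst • ((ε : R[ε]) • x) := by
  rw [smul_eq c x, smul_add, smul_comm (ε : R[ε]) c.snd, eps_smul_eps_smul, smul_zero, add_zero,
    smul_comm]

theorem mem_eps_smul_top (x : M) :
    x ∈ (ε : R[ε]) • (⊤ : Submodule R[ε] M) ↔ ∃ y : M, (ε : R[ε]) • y = x := by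
  rw [Submodule.mem_smul_pointwise_iff_exists]
  simp

theorem mk_smul (c : R[ε]) (x : M) :
    (Submodule.Quotient.mk (c • x) : M ⧸ ((ε : R[ε]) • (⊤ : Submodule R[ε] M))) =
      c.fst • Submodule.Quotient.mk x := by
  rw [smul_eq c x, Submodule.Quotient.mk_add, Submodule.Quotient.mk_smul]
  have : (Submodule.Quotient.mk (c.snd • ((ε : R[ε]) • x)) :
      M ⧸ ((ε : R[ε]) • (⊤ : Submodule R[ε] M))) = 0 := by
    rw [Submodule.Quotient.mk_eq_zero, mem_eps_smul_top]
    exact ⟨c.snd • x, by rw [smul_comm]⟩
  rw [this, add_zero]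

/-- If `b` spans `M` over `R[ε]`, then the `ε • b i` span `εM` over `R`. -/
theorem exists_sum_eps_smul (b : Fin r → M) (hb : Submodule.span R[ε] (Set.range b) = ⊤) (y : M)
    (hy : y ∈ (ε : R[ε]) • (⊤ : Submodule R[ε] M)) :
    ∃ a : Fin r → R, y = ∑ i, a i • ((ε : R[ε]) • b i) := by
  obtain ⟨x, rfl⟩ := (mem_eps_smul_top y).mp hy
  have hx : x ∈ Submodule.span R[ε] (Set.range b) := by rw [hb]; trivial
  obtain ⟨c, rfl⟩ := (Submodule.mem_span_range_iff_exists_fun R[ε]).mp hx
  refine ⟨fun i => (c i).fst, ?_⟩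
  rw [Finset.smul_sum]
  exact Finset.sum_congr rfl fun i _ => eps_smul_smul (c i) (b i)

theorem forward (b : Module.Basis (Fin r) R[ε] M) :
    Nonempty (Module.Basis (Fin r) R (M ⧸ ((ε : R[ε]) • (⊤ : Submodule R[ε] M)))) ∧
      Nonempty (Module.Basis (Fin r) R
        (((ε : R[ε]) • (⊤ : Submodule R[ε] M)).restrictScalars R)) := by
  have hspan : Submodule.span R[ε] (Set.range b) = ⊤ := b.span_eq
  have hind := Fintype.linearIndependent_iff.mp b.linearIndependent
  constructor
  · have hli : LinearIndependent R (fun i =>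
        (Submodule.Quotient.mk (b i) : M ⧸ ((ε : R[ε]) • (⊤ : Submodule R[ε] M)))) := by
      rw [Fintype.linearIndependent_iff]
      intro a ha i
      have h1 : (Submodule.Quotient.mk (∑ i, a i • b i) :
          M ⧸ ((ε : R[ε]) • (⊤ : Submodule R[ε] M))) = 0 := by
        rw [← ha, ← Submodule.mkQ_apply, map_sum]
        exact Finset.sum_congr rfl fun i _ => Submodule.Quotient.mk_smul _ _ _
      rw [Submodule.Quotient.mk_eq_zero, mem_eps_smul_top] at h1
      obtain ⟨y, hy⟩ := h1
      have hyb : y ∈ Submodule.span R[ε] (Set.range b) := by rw [hspan]; trivial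
      obtain ⟨c, rfl⟩ := (Submodule.mem_span_range_iff_exists_fun R[ε]).mp hyb
      have h2 : ∑ i, (inl (a i) - ε * c i : R[ε]) • b i = 0 := by
        simp only [sub_smul, Finset.sum_sub_distrib, inl_smul, mul_smul]
        rw [← Finset.smul_sum, hy, sub_self]
      have h3 := hind _ h2 i
      have h4 := congrArg TrivSqZeroExt.fst h3
      simpa using h4
    refine ⟨Module.Basis.mk hli ?_⟩
    intro t _
    obtain ⟨x, rfl⟩ := Submodule.Quotient.mk_surjective _ t
    have hx : x ∈ Submodule.span R[ε] (Set.range b) := by rw [hspan]; trivial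
    obtain ⟨c, rfl⟩ := (Submodule.mem_span_range_iff_exists_fun R[ε]).mp hx
    rw [← Submodule.mkQ_apply, map_sum]
    refine Submodule.sum_mem _ fun i _ => ?_
    rw [Submodule.mkQ_apply, mk_smul]
    exact Submodule.smul_mem _ _ (Submodule.subset_span ⟨i, rfl⟩)
  · have hmem : ∀ i, (ε : R[ε]) • b i ∈ ((ε : R[ε]) • (⊤ : Submodule R[ε] M)).restrictScalars R :=
      fun i => (mem_eps_smul_top _).mpr ⟨b i, rfl⟩
    have hli : LinearIndependent R (fun i =>
        (⟨(ε : R[ε]) • b i, hmem i⟩ : ((ε : R[ε]) • (⊤ : Submodule R[ε] M)).restrictScalars R)) := by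
      rw [Fintype.linearIndependent_iff]
      intro a ha i
      have h1 := congrArg Subtype.val ha
      simp only [Submodule.coe_sum, Submodule.coe_smul, ZeroMemClass.coe_zero] at h1
      have h2 : ∑ i, (inl (a i) * ε : R[ε]) • b i = 0 := by
        rw [← h1]
        exact Finset.sum_congr rfl fun i _ => by rw [mul_smul, inl_smul]
      have h3 := hind _ h2 i
      have h4 := congrArg TrivSqZeroExt.snd h3
      simpa using h4
    refine ⟨Module.Basis.mk hli ?_⟩
    rintro ⟨y, hy⟩ _
    obtain ⟨a, ha⟩ := exists_sum_eps_smul (fun i => b i) hspan y hy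
    have : (⟨y, hy⟩ : ((ε : R[ε]) • (⊤ : Submodule R[ε] M)).restrictScalars R) =
        ∑ i, a i • (⟨(ε : R[ε]) • b i, hmem i⟩ :
          ((ε : R[ε]) • (⊤ : Submodule R[ε] M)).restrictScalars R) := by
      apply Subtype.ext
      simp only [Submodule.coe_sum, Submodule.coe_smul]
      exact ha
    rw [this]
    exact Submodule.sum_mem _ fun i _ => Submodule.smul_mem _ _ (Submodule.subset_span ⟨i, rfl⟩)

theorem backward (β : Module.Basis (Fin r) R (M ⧸ ((ε : R[ε]) • (⊤ : Submodule R[ε] M))))
    (γ : Module.Basis (Fin r) R (((ε : R[ε]) • (⊤ : Submodule R[ε] M)).restrictScalars R)) :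
    Nonempty (Module.Basis (Fin r) R[ε] M) := by
  choose b hb using fun i => Submodule.Quotient.mk_surjective _ (β i)
  -- every element is in span + εM
  have hdec : ∀ x : M, ∃ n ∈ Submodule.span R[ε] (Set.range b), ∃ y : M, x = n + (ε : R[ε]) • y := by
    intro x
    have h1 := β.sum_repr (Submodule.Quotient.mk x)
    have h2 : (Submodule.Quotient.mk (x - ∑ i, β.repr (Submodule.Quotient.mk x) i • b i) :
        M ⧸ ((ε : R[ε]) • (⊤ : Submodule R[ε] M))) = 0 := by
      rw [Submodule.Quotient.mk_sub, ← Submodule.mkQ_apply _ (∑ i, _), map_sum]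
      rw [sub_eq_zero]
      conv_lhs => rw [← h1]
      exact Finset.sum_congr rfl fun i _ => by
        rw [Submodule.mkQ_apply, Submodule.Quotient.mk_smul, hb]
    rw [Submodule.Quotient.mk_eq_zero, mem_eps_smul_top] at h2
    obtain ⟨y, hy⟩ := h2
    refine ⟨∑ i, β.repr (Submodule.Quotient.mk x) i • b i, ?_, y, ?_⟩
    · refine Submodule.sum_mem _ fun i _ => ?_
      rw [← inl_smul]
      exact Submodule.smul_mem _ _ (Submodule.subset_span ⟨i, rfl⟩)
    · rw [hy]; abel
  have hspan : Submodule.span R[ε] (Set.range b) = ⊤ := by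
    rw [eq_top_iff]
    intro x _
    obtain ⟨n, hn, y, rfl⟩ := hdec x
    obtain ⟨n', hn', y', rfl⟩ := hdec y
    rw [smul_add, eps_smul_eps_smul, add_zero]
    exact Submodule.add_mem _ hn (Submodule.smul_mem _ _ hn')
  -- the family ε • b i in εM
  have hmem : ∀ i, (ε : R[ε]) • b i ∈ ((ε : R[ε]) • (⊤ : Submodule R[ε] M)).restrictScalars R :=
    fun i => (mem_eps_smul_top _).mpr ⟨b i, rfl⟩
  let w : Fin r → (((ε : R[ε]) • (⊤ : Submodule R[ε] M)).restrictScalars R) :=
    fun i => ⟨(ε : R[ε]) • b i, hmem i⟩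
  have hwspan : Submodule.span R (Set.range w) = ⊤ := by
    rw [eq_top_iff]
    rintro ⟨y, hy⟩ _
    obtain ⟨a, ha⟩ := exists_sum_eps_smul b hspan y hy
    have : (⟨y, hy⟩ : ((ε : R[ε]) • (⊤ : Submodule R[ε] M)).restrictScalars R) =
        ∑ i, a i • w i := by
      apply Subtype.ext
      simp only [Submodule.coe_sum, Submodule.coe_smul]
      exact ha
    rw [this]
    exact Submodule.sum_mem _ fun i _ => Submodule.smul_mem _ _ (Submodule.subset_span ⟨i, rfl⟩)
  have hwli : LinearIndependent R w := by
    haveI : Module.Finite R (((ε : R[ε]) • (⊤ : Submodule R[ε] M)).restrictScalars R) :=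
      Module.Finite.of_basis γ
    let f := γ.constr R w
    have hf : ∀ i, f (γ i) = w i := fun i => γ.constr_basis R w i
    have hsurj : Function.Surjective f := by
      rw [← LinearMap.range_eq_top, eq_top_iff, ← hwspan, Submodule.span_le]
      rintro _ ⟨i, rfl⟩
      exact ⟨γ i, hf i⟩
    have hinj := OrzechProperty.injective_of_surjective_endomorphism f hsurj
    have := γ.linearIndependent.map' f (LinearMap.ker_eq_bot.mpr hinj)
    have h2 : f ∘ γ = w := funext hf
    rwa [h2] at this
  have hli : LinearIndependent R[ε] b := by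
    rw [Fintype.linearIndependent_iff]
    intro c hc
    have h1 : ∑ i, (c i).fst • β i = 0 := by
      have : (Submodule.Quotient.mk (∑ i, c i • b i) :
          M ⧸ ((ε : R[ε]) • (⊤ : Submodule R[ε] M))) = 0 := by rw [hc]; rfl
      rw [← Submodule.mkQ_apply, map_sum] at this
      rw [← this]
      exact Finset.sum_congr rfl fun i _ => by rw [Submodule.mkQ_apply, mk_smul, hb]
    have hfst := Fintype.linearIndependent_iff.mp β.linearIndependent _ h1
    have h2 : ∑ i, (c i).snd • w i = 0 := by
      apply Subtype.ext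
      simp only [Submodule.coe_sum, Submodule.coe_smul, ZeroMemClass.coe_zero]
      rw [← hc]
      refine Finset.sum_congr rfl fun i _ => ?_
      rw [smul_eq (c i) (b i), hfst i, zero_smul, zero_add]
    have hsnd := Fintype.linearIndependent_iff.mp hwli _ h2
    intro i
    ext
    · exact hfst i
    · exact hsnd i
  exact ⟨Module.Basis.mk hli (by rw [hspan])⟩

end DN

end Aux



open DualNumber Pointwise in
/-- Let R be a commutative ring, R[ε] its ring of dual numbers (ε² = 0), M an R[ε]-module and r a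
natural number. Then M is free of rank r over R[ε] (admits a basis of r elements) if and only if the
R-modules M/εM and εM are both free of rank r. (The published statement concerns a coherent sheaf on
the product of a scheme S with Spec ℤ[ε] and local freeness of rank r; that assertion is local, and
this row is its form over one ring, with no finiteness assumption on M and no hypothesis on R.) -/
theorem result (R : Type u) [CommRing R] (M : Type v)
    [AddCommGroup M] [Module R[ε] M] [Module R M] [IsScalarTower R R[ε] M] (r : ℕ) :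
    Nonempty (Module.Basis (Fin r) R[ε] M) ↔
      (Nonempty (Module.Basis (Fin r) R (M ⧸ ((ε : R[ε]) • (⊤ : Submodule R[ε] M)))) ∧
        Nonempty (Module.Basis (Fin r) R (((ε : R[ε]) • (⊤ : Submodule R[ε] M)).restrictScalars R))) := by
  constructor
  · rintro ⟨b⟩
    exact forward b
  · rintro ⟨⟨β⟩, ⟨γ⟩⟩
    exact backward β γ

end Groth.Agent.S14033
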