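import Groth.Statements.S14034
import Mathlib

set_option autoImplicit false
universe u
open W4c1frobunstiva

namespace Groth.Agent.S14034

theorem core (R : Type u) [CommRing R] [IsLocalRing R] (r s l : ℕ)
    (gen : Fin l → (Fin s → R))
    (φ : (Fin r → R) →ₗ[R] ((Fin s → R) ⧸ Submodule.span R (Set.range gen)))
    (hφ : Function.Surjective φ) :
    ∃ (m : Fin (r + l - s) → LinearMap.ker φ) (c : Fin l → Fin (r + l - s) → R),
      Submodule.span R (Set.range m) = ⊤ ∧
      ∀ a : Fin (r + l - s) → R, ∑ j, a j • m j = 0 →
        ∃ w : Fin l → R, (∑ i, w i • gen i = 0) ∧ ∀ j, a j = ∑ i, w i * c i j := by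
  classical
  let F := Submodule.span R (Set.range gen)
  let G : (Fin l → R) →ₗ[R] (Fin s → R) := Fintype.linearCombination R gen
  have hG : LinearMap.range G = F := Fintype.range_linearCombination R gen
  have hGapp : ∀ w : Fin l → R, G w = ∑ i, w i • gen i := fun w =>
    Fintype.linearCombination_apply R gen w
  obtain ⟨ψ, hψ⟩ := Module.projective_lifting_property F.mkQ φ (Submodule.mkQ_surjective F)
  have hψ' : ∀ v, F.mkQ (ψ v) = φ v := fun v => by rw [← hψ]; rfl
  let Φ : ((Fin r → R) × (Fin l → R)) →ₗ[R] (Fin s → R) := ψ.coprod (-G)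
  have hΦapp : ∀ v w, Φ (v, w) = ψ v - G w := fun v w => by
    simp [Φ, sub_eq_add_neg]
  have hΦ : Function.Surjective Φ := by
    intro y
    obtain ⟨v, hv⟩ := hφ (F.mkQ y)
    have h1 : ψ v - y ∈ F := by
      rw [← Submodule.Quotient.mk_eq_zero, Submodule.Quotient.mk_sub, sub_eq_zero]
      have := hψ' v
      rw [hv] at this
      exact this
    rw [← hG] at h1
    obtain ⟨w, hw⟩ := h1
    exact ⟨(v, w), by rw [hΦapp, hw]; abel⟩
  obtain ⟨σ, hσ⟩ := Module.projective_lifting_property Φ LinearMap.id hΦ
  have hσ' : ∀ y, Φ (σ y) = y := fun y => by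
    have := congrArg (fun g => g y) hσ
    simpa using this
  let K := LinearMap.ker Φ
  let ρ : ((Fin r → R) × (Fin l → R)) →ₗ[R] K :=
    LinearMap.codRestrict K (LinearMap.id - σ ∘ₗ Φ) (by
      intro u
      simp only [K, LinearMap.mem_ker, LinearMap.sub_apply, LinearMap.id_apply,
        LinearMap.comp_apply, map_sub, hσ', sub_self])
  have hρval : ∀ u, (ρ u : (Fin r → R) × (Fin l → R)) = u - σ (Φ u) := fun u => rfl
  have hρK : ∀ k : K, ρ k.1 = k := by
    intro k
    apply Subtype.ext
    rw [hρval, (LinearMap.mem_ker.mp k.2 : Φ k.1 = 0), map_zero, sub_zero]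
  let e : ((Fin r → R) × (Fin l → R)) ≃ₗ[R] (K × (Fin s → R)) :=
    { toFun := fun u => (ρ u, Φ u)
      map_add' := fun u v => by
        apply Prod.ext
        · exact map_add ρ u v
        · exact map_add Φ u v
      map_smul' := fun c u => by
        apply Prod.ext
        · exact map_smul ρ c u
        · exact map_smul Φ c u
      invFun := fun p => p.1.1 + σ p.2
      left_inv := fun u => by
        show (ρ u : (Fin r → R) × (Fin l → R)) + σ (Φ u) = u
        rw [hρval]; abel
      right_inv := fun p => by
        obtain ⟨k, q⟩ := p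
        have hk : Φ k.1 = 0 := LinearMap.mem_ker.mp k.2
        apply Prod.ext
        · apply Subtype.ext
          show ((ρ (k.1 + σ q) : K) : (Fin r → R) × (Fin l → R)) = k.1
          rw [hρval, map_add, hk, zero_add, hσ']; abel
        · show Φ (k.1 + σ q) = q
          rw [map_add, hk, zero_add, hσ'] }
  have hρsurj : Function.Surjective ρ := fun k => ⟨k.1, hρK k⟩
  haveI : Module.Finite R K := Module.Finite.of_surjective ρ hρsurj
  haveI : Module.Projective R K := Module.Projective.of_split K.subtype ρ (by
    apply LinearMap.ext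
    intro k
    exact hρK k)
  haveI : Module.Free R K := Module.free_of_flat_of_isLocalRing
  have hrank : Module.finrank R K = r + l - s := by
    have h1 := LinearEquiv.finrank_eq e
    rw [Module.finrank_prod, Module.finrank_prod] at h1
    simp only [Module.finrank_fin_fun] at h1
    omega
  let b : Module.Basis (Fin (r + l - s)) R K := Module.finBasisOfFinrankEq R K hrank
  -- membership of K
  have hKmem : ∀ v w, (v, w) ∈ K ↔ ψ v = G w := by
    intro v w
    simp only [K, LinearMap.mem_ker, hΦapp, sub_eq_zero]
  have hker_iff : ∀ v, v ∈ LinearMap.ker φ ↔ ∃ w, ψ v = G w := by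
    intro v
    rw [LinearMap.mem_ker, ← hψ' v, Submodule.mkQ_apply, Submodule.Quotient.mk_eq_zero, ← hG]
    constructor
    · rintro ⟨w, hw⟩; exact ⟨w, hw.symm⟩
    · rintro ⟨w, hw⟩; exact ⟨w, hw.symm⟩
  have hm : ∀ j, (b j).1.1 ∈ LinearMap.ker φ := by
    intro j
    rw [hker_iff]
    exact ⟨(b j).1.2, (hKmem _ _).mp (b j).2⟩
  let E : Fin l → ((Fin r → R) × (Fin l → R)) := fun i => (0, Pi.single i 1)
  refine ⟨fun j => ⟨(b j).1.1, hm j⟩, fun i j => b.repr (ρ (E i)) j, ?_, ?_⟩
  · rw [Submodule.eq_top_iff']
    rintro ⟨v, hv⟩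
    obtain ⟨w, hw⟩ := (hker_iff v).mp hv
    have hvw : (v, w) ∈ K := (hKmem v w).mpr hw
    rw [Submodule.mem_span_range_iff_exists_fun]
    refine ⟨fun j => b.repr ⟨(v, w), hvw⟩ j, ?_⟩
    apply Subtype.ext
    have h1 : ∑ j, b.repr ⟨(v, w), hvw⟩ j • b j = ⟨(v, w), hvw⟩ := b.sum_repr _
    have h2 : ((∑ j, b.repr ⟨(v, w), hvw⟩ j • b j : K) : (Fin r → R) × (Fin l → R)).1 = v := by
      rw [h1]
    rw [Submodule.coe_sum, Prod.fst_sum] at h2
    rw [Submodule.coe_sum]
    refine Eq.trans ?_ h2
    exact Finset.sum_congr rfl fun j _ => rfl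
  · intro a ha
    let uK : K := ∑ j, a j • b j
    have hu1 : uK.1.1 = 0 := by
      have h2 : ((∑ j, a j • (⟨(b j).1.1, hm j⟩ : LinearMap.ker φ) : LinearMap.ker φ) :
          Fin r → R) = 0 := by rw [ha]; rfl
      rw [Submodule.coe_sum] at h2
      show ((∑ j, a j • b j : K) : (Fin r → R) × (Fin l → R)).1 = 0
      rw [Submodule.coe_sum, Prod.fst_sum]
      refine Eq.trans ?_ h2
      exact Finset.sum_congr rfl fun j _ => rfl
    let w : Fin l → R := uK.1.2
    have hGw : G w = 0 := by
      have h3 : (uK.1.1, w) ∈ K := uK.2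
      rw [hKmem, hu1, map_zero] at h3
      exact h3.symm
    refine ⟨w, ?_, ?_⟩
    · rw [← hGapp]; exact hGw
    · intro j
      have hu : uK.1 = ∑ i, w i • E i := by
        apply Prod.ext
        · rw [hu1]
          simp [E, Prod.fst_sum]
        · ext i
          simp [E, Prod.snd_sum, Pi.single_apply, w, Finset.sum_apply]
      have huK : uK = ∑ i, w i • ρ (E i) := by
        rw [← hρK uK, hu, map_sum]
        simp only [map_smul]
      have h5 : b.repr uK j = a j := by
        simp only [uK, map_sum, map_smul, Module.Basis.repr_self, Finsupp.coe_finsetSum,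
          Finset.sum_apply, Finsupp.coe_smul, Pi.smul_apply, Finsupp.single_apply, smul_eq_mul,
          mul_ite, mul_one, mul_zero, Finset.sum_ite_eq', Finset.mem_univ, if_true]
      rw [← h5, huK]
      simp only [map_sum, map_smul, Finsupp.coe_finsetSum, Finset.sum_apply, Finsupp.coe_smul,
        Pi.smul_apply, smul_eq_mul]

/-- Let R be a Noetherian local ring and f an element of R whose annihilator consists of nilpotent
elements (a f = 0 forces a nilpotent), r, s and l ≤ s natural numbers, N the quotient of the free
module R^s by the submodule spanned by f e_1, …, f e_l (e_i the standard basis vectors), and φ : R^r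
→ N a surjective linear map. Then the kernel of φ is NR-free of rank r + l − s: it is generated by r
+ l − s elements every linear relation among which has nilpotent coefficients; and when l = 0 the
kernel is free of rank r − s. (The published statement takes R Noetherian with irreducible spectrum
and R_red a domain, not necessarily local, and f arbitrary. Over the coordinate ring of the real
2-sphere the kernel of (x, y, z) : R³ → R is not free, and over k[x, y]/(y², xy) localised at (x, y)
with f = y the kernel of R → R/(y) is spanned by y with the non-nilpotent relation x·y = 0. The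
published argument uses that the kernel of a surjection of free modules is free, true over a local
ring, and that a f = 0 forces a nilpotent, which is the hypothesis taken here; it holds when R_red
is a domain and f is not nilpotent, and also for f = ε in A[ε] with A a domain, so primality of the
nilradical is not assumed.) -/
theorem result (R : Type u)
    [CommRing R] [IsNoetherianRing R] [IsLocalRing R] (f : R)
    (hann : ∀ a : R, a * f = 0 → IsNilpotent a) (r s l : ℕ) (hls : l ≤ s)
    (φ : (Fin r → R) →ₗ[R]
      ((Fin s → R) ⧸ Submodule.span R (Set.range fun i : Fin l => (Pi.single (Fin.castLE hls i) f : Fin s → R))))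
    (hφ : Function.Surjective φ) :
    W4c1frobunstiva.IsNRFree R (LinearMap.ker φ) (r + l - s) ∧
      (l = 0 → Nonempty (Module.Basis (Fin (r - s)) R (LinearMap.ker φ))) := by
  classical
  obtain ⟨m, c, hspan, hrel⟩ := core R r s l
    (fun i : Fin l => (Pi.single (Fin.castLE hls i) f : Fin s → R)) φ hφ
  have hw0 : ∀ w : Fin l → R,
      (∑ i, w i • (Pi.single (Fin.castLE hls i) f : Fin s → R)) = 0 → ∀ i, w i * f = 0 := by
    intro w hGw i
    have h4 := congrFun hGw (Fin.castLE hls i)
    simp only [Finset.sum_apply, Pi.smul_apply, Pi.zero_apply, smul_eq_mul] at h4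
    rw [Finset.sum_eq_single i] at h4
    · simpa using h4
    · intro i' _ hne
      have : Fin.castLE hls i ≠ Fin.castLE hls i' := fun h =>
        hne ((Fin.castLE_injective hls) h).symm
      simp [this]
    · intro h; exact absurd (Finset.mem_univ i) h
  refine ⟨⟨m, hspan, ?_⟩, ?_⟩
  · intro a ha j
    obtain ⟨w, hw, haj⟩ := hrel a ha
    rw [haj j, ← mem_nilradical]
    refine Ideal.sum_mem _ fun i _ => ?_
    exact Ideal.mul_mem_right _ _ (mem_nilradical.mpr (hann _ (hw0 w hw i)))
  · intro hl
    subst hl
    have hli : LinearIndependent R m := by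
      rw [Fintype.linearIndependent_iff]
      intro a ha j
      obtain ⟨w, hw, haj⟩ := hrel a ha
      rw [haj j]
      simp
    exact ⟨Module.Basis.mk hli hspan.ge⟩

end Groth.Agent.S14034
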