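import Groth.Statements.S14035
import Mathlib

set_option autoImplicit false
universe u v
open W4c1frobunstiva

namespace Groth.Agent.S14035

section Aux
open TensorProduct
section U
variable {A : Type u} {B : Type v} [CommRing A] [CommRing B] [Algebra A B] (p : Ideal A) [p.IsPrime]

noncomputable def Lam : p.ResidueField ⊗[A] B →ₗ[A]
    p.ResidueField ⊗[A ⧸ p] (B ⧸ p.map (algebraMap A B)) :=
  TensorProduct.lift (LinearMap.mk₂ A
    (fun (k : p.ResidueField) (b : B) =>
      k ⊗ₜ[A ⧸ p] (Ideal.Quotient.mk (p.map (algebraMap A B)) b))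
    (fun k₁ k₂ b => TensorProduct.add_tmul _ _ _)
    (fun a k b => by rw [TensorProduct.smul_tmul'])
    (fun k b₁ b₂ => by rw [map_add, TensorProduct.tmul_add])
    (fun a k b => by
      rw [Algebra.smul_def, map_mul]
      have h1 : (Ideal.Quotient.mk (p.map (algebraMap A B)) (algebraMap A B a) *
          Ideal.Quotient.mk (p.map (algebraMap A B)) b : B ⧸ p.map (algebraMap A B)) =
          (Ideal.Quotient.mk p a) • (Ideal.Quotient.mk (p.map (algebraMap A B)) b) := by
        rw [Algebra.smul_def]; rfl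
      rw [h1, ← TensorProduct.smul_tmul, TensorProduct.smul_tmul']
      congr 1
      rw [Algebra.smul_def, Algebra.smul_def]
      rfl))

theorem Lam_one_tmul (x : B) : Lam p ((1 : p.ResidueField) ⊗ₜ[A] x) =
    (1 : p.ResidueField) ⊗ₜ[A ⧸ p] (Ideal.Quotient.mk (p.map (algebraMap A B)) x) := by
  simp [Lam]

theorem exists_mul_mem_of_one_tmul_eq_zero (x : B) (hx : (1 : p.ResidueField) ⊗ₜ[A] x = 0) :
    ∃ s : A, s ∉ p ∧ algebraMap A B s * x ∈ p.map (algebraMap A B) := by
  have h1 : (1 : p.ResidueField) ⊗ₜ[A ⧸ p] (Ideal.Quotient.mk (p.map (algebraMap A B)) x) = 0 := by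
    rw [← Lam_one_tmul, hx, map_zero]
  have h2 := (IsLocalizedModule.eq_zero_iff (nonZeroDivisors (A ⧸ p))
    (TensorProduct.mk (A ⧸ p) p.ResidueField (B ⧸ p.map (algebraMap A B)) 1)).mp h1
  obtain ⟨⟨c, hc⟩, hcx⟩ := h2
  obtain ⟨s, rfl⟩ := Ideal.Quotient.mk_surjective c
  refine ⟨s, ?_, ?_⟩
  · intro hs
    have : Ideal.Quotient.mk p s = 0 := Ideal.Quotient.eq_zero_iff_mem.mpr hs
    exact nonZeroDivisors.ne_zero hc this
  · have h3 : (Ideal.Quotient.mk p s) • (Ideal.Quotient.mk (p.map (algebraMap A B)) x) = 0 := hcx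
    rw [Algebra.smul_def] at h3
    have h4 : algebraMap (A ⧸ p) (B ⧸ p.map (algebraMap A B)) (Ideal.Quotient.mk p s) =
        Ideal.Quotient.mk (p.map (algebraMap A B)) (algebraMap A B s) := rfl
    rw [h4, ← map_mul, Ideal.Quotient.eq_zero_iff_mem] at h3
    exact h3

end U

section Inf
variable {C : Type u} {A : Type v} [CommRing C] [CommRing A] [Algebra C A]

/-- If `A/I` is flat over `C`, then `I ∩ 𝔞A = 𝔞 I`. -/
theorem inf_map_le_mul (I : Ideal A) [Module.Flat C (A ⧸ I)] (𝔞 : Ideal C) :
    I ⊓ 𝔞.map (algebraMap C A) ≤ 𝔞.map (algebraMap C A) * I := by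
  rintro x ⟨hxI, hxa⟩
  -- multiplication map 𝔞 ⊗ A → A
  let μ : ↥𝔞 ⊗[C] A →ₗ[C] A := TensorProduct.lift
    ((LinearMap.lsmul C A).comp 𝔞.subtype)
  have hμ : ∀ (a : ↥𝔞) (y : A), μ (a ⊗ₜ y) = (a : C) • y := fun a y => by simp [μ]
  have hmul : ∀ (b : A) (t : ↥𝔞 ⊗[C] A),
      μ ((LinearMap.lTensor ↥𝔞 (LinearMap.mulLeft C b)) t) = b • μ t := by
    intro b t
    induction t using TensorProduct.induction_on with
    | zero => simp
    | tmul a y => simp [hμ]
    | add t₁ t₂ h₁ h₂ => simp only [map_add, h₁, h₂, smul_add]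
  -- x is in the range of μ
  have hx : ∃ t, μ t = x := by
    have : ∀ z ∈ 𝔞.map (algebraMap C A), ∃ t, μ t = z := by
      intro z hz
      refine Submodule.span_induction ?_ ?_ ?_ ?_ hz
      · rintro _ ⟨c, hc, rfl⟩
        exact ⟨(⟨c, hc⟩ : ↥𝔞) ⊗ₜ 1, by rw [hμ, Algebra.smul_def, mul_one]⟩
      · exact ⟨0, map_zero _⟩
      · rintro _ _ _ _ ⟨t₁, rfl⟩ ⟨t₂, rfl⟩
        exact ⟨t₁ + t₂, map_add _ _ _⟩
      · rintro b _ _ ⟨t, rfl⟩
        exact ⟨(LinearMap.lTensor ↥𝔞 (LinearMap.mulLeft C b)) t, hmul b t⟩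
    exact this x hxa
  obtain ⟨t, rfl⟩ := hx
  let π : A →ₗ[C] A ⧸ I := (Submodule.mkQ I).restrictScalars C
  let ι : ↥I →ₗ[C] A := (Submodule.subtype I).restrictScalars C
  have hex : Function.Exact ι π := by
    intro y
    constructor
    · intro hy
      exact ⟨⟨y, (Submodule.Quotient.mk_eq_zero I).mp hy⟩, rfl⟩
    · rintro ⟨z, rfl⟩
      exact (Submodule.Quotient.mk_eq_zero I).mpr z.2
  have hπ : Function.Surjective π := Submodule.mkQ_surjective I
  have hex2 := lTensor_exact ↥𝔞 hex hπ
  -- (id ⊗ π) t = 0 by flatness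
  have hinj : Function.Injective (LinearMap.rTensor (A ⧸ I) (Submodule.subtype 𝔞)) :=
    Module.Flat.rTensor_preserves_injective_linearMap _ Subtype.val_injective
  have h0 : LinearMap.lTensor ↥𝔞 π t = 0 := by
    apply hinj
    rw [map_zero]
    apply (TensorProduct.lid C (A ⧸ I)).injective
    rw [map_zero]
    have key : ∀ t : ↥𝔞 ⊗[C] A, (TensorProduct.lid C (A ⧸ I))
        (LinearMap.rTensor (A ⧸ I) (Submodule.subtype 𝔞) (LinearMap.lTensor ↥𝔞 π t)) = π (μ t) := by
      intro t
      induction t using TensorProduct.induction_on with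
      | zero => simp
      | tmul a y => simp [hμ, π]
      | add t₁ t₂ h₁ h₂ => simp only [map_add, h₁, h₂]
    rw [key]
    exact (Submodule.Quotient.mk_eq_zero I).mpr hxI
  obtain ⟨s, rfl⟩ := (hex2 t).mp h0
  clear h0 hxa hxI
  induction s using TensorProduct.induction_on with
  | zero => simp
  | tmul a i =>
    simp only [LinearMap.lTensor_tmul, hμ, ι]
    rw [Algebra.smul_def]
    exact Ideal.mul_mem_mul (Ideal.mem_map_of_mem _ a.2) i.2
  | add s₁ s₂ h₁ h₂ =>
    simp only [map_add]
    exact Ideal.add_mem _ h₁ h₂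

end Inf

end Aux



open TensorProduct in
/-- Let A → B be a ring homomorphism with B Noetherian. If B modulo its nilradical is flat over A and
every fibre ring κ(p) ⊗_A B, p a prime of A, is reduced, then B is reduced. (This is the affine form
of the statement for a morphism of schemes X → Y all of whose fibres are reduced and whose
restriction to the reduced closed subscheme X_red is flat. The published statement does not say X is
locally Noetherian, but its proof applies Nakayama's lemma to the nilradical as a finitely generated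
ideal; without it the square-zero extension of a discrete valuation ring A by Frac(A)/A is a
counterexample.) -/
theorem result (A : Type u) (B : Type v)
    [CommRing A] [CommRing B] [Algebra A B] [IsNoetherianRing B]
    [Module.Flat A (B ⧸ nilradical B)]
    (hfib : ∀ p : PrimeSpectrum A, IsReduced (p.asIdeal.ResidueField ⊗[A] B)) :
    IsReduced B := by
  rw [← nilradical_eq_bot_iff]
  by_contra hN
  have hann : Submodule.annihilator (nilradical B) ≠ ⊤ := by
    intro h
    apply hN
    rw [eq_bot_iff]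
    intro n hn
    have h1 : (1 : B) ∈ Submodule.annihilator (nilradical B) := by rw [h]; trivial
    have := Submodule.mem_annihilator.mp h1 n hn
    simpa using this
  obtain ⟨q, hqmax, hq⟩ := Ideal.exists_le_maximal _ hann
  let p : PrimeSpectrum A := ⟨q.comap (algebraMap A B), Ideal.comap_isPrime _ _⟩
  haveI := hfib p
  have hpB : p.asIdeal.map (algebraMap A B) ≤ q := Ideal.map_comap_le
  have hle : nilradical B ≤ q • nilradical B := by
    intro n hn
    have hnil : IsNilpotent ((1 : p.asIdeal.ResidueField) ⊗ₜ[A] n) := by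
      obtain ⟨k, hk⟩ := mem_nilradical.mp hn
      refine ⟨k, ?_⟩
      rw [Algebra.TensorProduct.tmul_pow, hk, TensorProduct.tmul_zero]
    have h0 := hnil.eq_zero
    obtain ⟨s, hs, hsn⟩ := exists_mul_mem_of_one_tmul_eq_zero p.asIdeal n h0
    have h1 : algebraMap A B s * n ∈ nilradical B ⊓ p.asIdeal.map (algebraMap A B) :=
      ⟨Ideal.mul_mem_left _ _ hn, hsn⟩
    have h2 := inf_map_le_mul (nilradical B) p.asIdeal h1
    have h3 : algebraMap A B s * n ∈ q * nilradical B := Ideal.mul_mono_left hpB h2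
    have hsq : algebraMap A B s ∉ q := fun h => hs h
    obtain ⟨y, i, hi, hyi⟩ := hqmax.exists_inv hsq
    have h4 : n = y * (algebraMap A B s * n) + i * n := by
      rw [← mul_assoc, ← add_mul, hyi, one_mul]
    rw [smul_eq_mul, h4]
    exact Ideal.add_mem _ (Ideal.mul_mem_left _ _ h3) (Ideal.mul_mem_mul hi hn)
  obtain ⟨r, hr1, hr2⟩ := Submodule.exists_sub_one_mem_and_smul_eq_zero_of_fg_of_le_smul q
    (nilradical B) (IsNoetherian.noetherian _) hle
  have hr : r ∈ q := hq (Submodule.mem_annihilator.mpr hr2)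
  apply hqmax.ne_top
  rw [Ideal.eq_top_iff_one]
  have : (1 : B) = r - (r - 1) := by ring
  rw [this]
  exact Ideal.sub_mem _ hr hr1

end Groth.Agent.S14035
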