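import Groth.Statements.S14039
import Mathlib

set_option autoImplicit false
open W4c1frobunstiva

namespace Groth.Agent.S14039

section helpers
section hh
open PowerSeries

/-- the generating polynomial of one exponent -/
noncomputable def P (p : ℕ) : PowerSeries ℤ :=
  ∑ e : Fin p, if 1 ≤ (e : ℕ) then (X : PowerSeries ℤ) ^ (e : ℕ) else 0

theorem P_eq_range (p : ℕ) :
    P p = ∑ e ∈ Finset.range p, if 1 ≤ e then (X : PowerSeries ℤ) ^ e else 0 := by
  unfold P
  rw [Fin.sum_univ_eq_sum_range (fun e => if 1 ≤ e then (X : PowerSeries ℤ) ^ e else 0) p]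

theorem P_mul (p : ℕ) : P p * (1 - X) = X * (1 - X ^ (p - 1)) := by
  rw [P_eq_range]
  induction p with
  | zero => simp
  | succ p ih =>
    rw [Finset.sum_range_succ, add_mul, ih]
    rcases Nat.eq_zero_or_pos p with h | h
    · subst h; simp
    · have h' : 1 ≤ p := h
      rw [if_pos h']
      have : p = (p - 1) + 1 := by omega
      have e : (X : PowerSeries ℤ) ^ p = X ^ (p - 1) * X := by
        rw [← pow_succ, ← this]
      simp only [Nat.add_sub_cancel]
      rw [e]
      ring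

theorem P_pow_coeff (p n s : ℕ) :
    coeff s (P p ^ n) =
      (Fintype.card {e : Fin n → Fin p // (∀ i, 1 ≤ (e i : ℕ)) ∧ ∑ i, (e i : ℕ) = s} : ℤ) := by
  have h1 : P p ^ n = ∑ t : Fin n → Fin p,
      if (∀ i, 1 ≤ (t i : ℕ)) then (X : PowerSeries ℤ) ^ (∑ i, (t i : ℕ)) else 0 := by
    unfold P
    rw [← Fin.prod_const, Finset.prod_univ_sum, Fintype.piFinset_univ]
    refine Finset.sum_congr rfl fun t _ => ?_
    rw [Finset.prod_ite_zero]
    simp only [Finset.mem_univ, forall_true_left]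
    split_ifs
    · rw [Finset.prod_pow_eq_pow_sum]
    · rfl
  rw [h1, map_sum, Fintype.card_subtype, Finset.card_filter]
  push_cast
  refine Finset.sum_congr rfl fun t _ => ?_
  by_cases h : ∀ i, 1 ≤ (t i : ℕ)
  · rw [if_pos h, coeff_X_pow]
    by_cases h2 : ∑ i, (t i : ℕ) = s
    · rw [if_pos h2.symm, if_pos ⟨h, h2⟩]
    · rw [if_neg (fun h' => h2 h'.symm), if_neg (fun h' => h2 h'.2)]
  · rw [if_neg h, map_zero, if_neg (fun h' => h h'.1)]


theorem P_pow_eq (p d : ℕ) :
    P p ^ (d + 1) = X ^ (d + 1) * (1 - X ^ (p - 1)) ^ (d + 1) *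
      (mk fun m => ((Nat.choose (d + m) d : ℕ) : ℤ)) := by
  have hG := mk_add_choose_mul_one_sub_pow_eq_one ℤ d
  have h1 : P p ^ (d + 1) * (1 - X) ^ (d + 1) = X ^ (d + 1) * (1 - X ^ (p - 1)) ^ (d + 1) := by
    rw [← mul_pow, P_mul, mul_pow]
  calc P p ^ (d + 1) = P p ^ (d + 1) * ((mk fun m => ((Nat.choose (d + m) d : ℕ) : ℤ)) *
        (1 - X) ^ (d + 1)) := by rw [hG, mul_one]
    _ = (P p ^ (d + 1) * (1 - X) ^ (d + 1)) * (mk fun m => ((Nat.choose (d + m) d : ℕ) : ℤ)) := by
        ring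
    _ = _ := by rw [h1]

theorem binom_expand (q n : ℕ) :
    (1 - (X : PowerSeries ℤ) ^ q) ^ n =
      ∑ i ∈ Finset.range (n + 1), C ((-1 : ℤ) ^ i * (n.choose i : ℤ)) * X ^ (i * q) := by
  have h : (1 - (X : PowerSeries ℤ) ^ q) = (-(X ^ q) + 1) := by ring
  rw [h, add_pow]
  refine Finset.sum_congr rfl fun i _ => ?_
  rw [one_pow, mul_one, neg_pow, ← pow_mul, map_mul, map_pow, map_neg, map_one, map_natCast]
  ring

theorem coeff_main (p d s : ℕ) :
    coeff s (P p ^ (d + 1)) =
      ∑ i ∈ Finset.range (d + 1 + 1),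
        (-1 : ℤ) ^ i * ((d + 1).choose i : ℤ) *
          (if i * (p - 1) + (d + 1) ≤ s then
            (((s - i * (p - 1) - 1).choose (d + 1 - 1) : ℕ) : ℤ) else 0) := by
  rw [P_pow_eq, binom_expand, Finset.mul_sum, Finset.sum_mul, map_sum]
  refine Finset.sum_congr rfl fun i _ => ?_
  have e : (X : PowerSeries ℤ) ^ (d + 1) * (C ((-1 : ℤ) ^ i * ((d + 1).choose i : ℤ)) *
      X ^ (i * (p - 1))) * (mk fun m => ((Nat.choose (d + m) d : ℕ) : ℤ))
      = C ((-1 : ℤ) ^ i * ((d + 1).choose i : ℤ)) *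
        (X ^ (i * (p - 1) + (d + 1)) * (mk fun m => ((Nat.choose (d + m) d : ℕ) : ℤ))) := by
    rw [pow_add]; ring
  rw [e, coeff_C_mul, coeff_X_pow_mul']
  congr 1
  split_ifs with h
  · rw [coeff_mk]
    congr 2
    · omega
  · rfl

end hh


end helpers

/-- For natural numbers p, n ≥ 1 and s, the number of monomials of degree s in n variables in which
every variable occurs with a positive exponent strictly less than p — that is, of exponent vectors
(e_1, …, e_n) with sum s and 1 ≤ e_i ≤ p − 1 — equals the inclusion–exclusion sum over i from 0 to n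
of (−1)^i · C(n, i) · C(s − i(p − 1) − 1, n − 1), the last factor counting monomials of degree s −
i(p − 1) − n in n variables and read as 0 when s < i(p − 1) + n. (A companion count, by how many
exponents lie below p/2, and a remark on polynomiality in s and p are not part of this row.) -/
theorem result (p n s : ℕ)
    (hn : 1 ≤ n) :
    (Fintype.card {e : Fin n → Fin p // (∀ i, 1 ≤ (e i : ℕ)) ∧ ∑ i, (e i : ℕ) = s} : ℤ) =
      ∑ i ∈ Finset.range (n + 1),
        (-1 : ℤ) ^ i * (n.choose i : ℤ) *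
          (if i * (p - 1) + n ≤ s then (((s - i * (p - 1) - 1).choose (n - 1) : ℕ) : ℤ) else 0) := by
  obtain ⟨d, rfl⟩ : ∃ d, n = d + 1 := ⟨n - 1, by omega⟩
  rw [← P_pow_coeff, coeff_main]

end Groth.Agent.S14039
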