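import Groth.Statements.S14040
import Mathlib
-- import your own Groth.Agent.* helpers here

set_option autoImplicit false
universe u v
open W4c1frobunstiva

namespace Groth.Agent.S14040

open TensorProduct in
/-- Let A be a discrete valuation ring and B a Noetherian A-algebra such that the nilradical of B is
prime and meets the image of A only in 0 — the spectrum of B is irreducible and its generic point
lies over the generic point of A. If every fibre ring κ(p) ⊗_A B, p a prime of A, is reduced, then B
is reduced and flat over A. (Affine form of the statement for a dominant morphism from an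
irreducible scheme to the spectrum of a discrete valuation ring with reduced fibres. The published
statement also covers a scheme that is already reduced and does not assume it locally Noetherian;
this row treats reduced fibres with B Noetherian, without which the square-zero extension A ⊕
Frac(A)/A is a counterexample.) -/
theorem result (A : Type u) [CommRing A]
    [IsDomain A] [IsDiscreteValuationRing A] (B : Type v) [CommRing B] [Algebra A B]
    [IsNoetherianRing B] (hirr : (nilradical B).IsPrime)
    (hdom : (nilradical B).comap (algebraMap A B) = ⊥)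
    (hfib : ∀ p : PrimeSpectrum A, IsReduced (p.asIdeal.ResidueField ⊗[A] B)) :
    IsReduced B ∧ Module.Flat A B := by
  classical
  obtain ⟨ϖ, hϖ⟩ := IsDiscreteValuationRing.exists_irreducible A
  have hm : IsLocalRing.maximalIdeal A = Ideal.span {ϖ} := hϖ.maximalIdeal_eq
  have hker : ∀ a : A, algebraMap A B a ∈ nilradical B → a = 0 := by
    intro a ha
    have : a ∈ (nilradical B).comap (algebraMap A B) := ha
    rw [hdom] at this
    exact this
  have hϖN : algebraMap A B ϖ ∉ nilradical B := fun h => hϖ.ne_zero (hker ϖ h)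
  -- generic fibre: elements of the nilradical are `ϖ`-power torsion
  have hgen : ∀ x ∈ nilradical B, ∃ n : ℕ, algebraMap A B ϖ ^ n * x = 0 := by
    intro x hx
    haveI := hfib ⟨⊥, Ideal.isPrime_bot⟩
    have h1 : IsNilpotent ((1 : (⊥ : Ideal A).ResidueField) ⊗ₜ[A] x) := by
      obtain ⟨n, hn⟩ := hx
      refine ⟨n, ?_⟩
      rw [Algebra.TensorProduct.tmul_pow, hn, TensorProduct.tmul_zero]
    have h2 : (1 : (⊥ : Ideal A).ResidueField) ⊗ₜ[A] x = 0 := h1.eq_zero
    haveI : IsLocalizedModule (nonZeroDivisors A)
        (TensorProduct.mk A (⊥ : Ideal A).ResidueField B 1) :=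
      (isLocalizedModule_iff_isBaseChange (nonZeroDivisors A) (⊥ : Ideal A).ResidueField _).mpr
        (TensorProduct.isBaseChange A B (⊥ : Ideal A).ResidueField)
    have h3 : TensorProduct.mk A (⊥ : Ideal A).ResidueField B 1 x = 0 := h2
    rw [IsLocalizedModule.eq_zero_iff (nonZeroDivisors A)] at h3
    obtain ⟨s, hs⟩ := h3
    have hs0 : (s : A) ≠ 0 := nonZeroDivisors.ne_zero s.2
    obtain ⟨n, u, hu⟩ := IsDiscreteValuationRing.eq_unit_mul_pow_irreducible hs0 hϖ
    refine ⟨n, ?_⟩
    have h4 : (s : A) • x = 0 := hs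
    rw [hu, Algebra.smul_def, map_mul, map_pow, mul_assoc] at h4
    have hunit : IsUnit (algebraMap A B (u : A)) := u.isUnit.map _
    exact (hunit.mul_right_eq_zero).mp h4
  -- uniform bound
  obtain ⟨n, hn⟩ : ∃ n : ℕ, ∀ x ∈ nilradical B, algebraMap A B ϖ ^ n * x = 0 := by
    obtain ⟨s, hs⟩ := (isNoetherian_def.mp (inferInstance : IsNoetherian B B)) (nilradical B)
    choose! N hN using hgen
    refine ⟨s.sup N, ?_⟩
    intro x hx
    rw [← hs] at hx
    induction hx using Submodule.span_induction with
    | mem y hy =>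
      have hyN : y ∈ nilradical B := hs ▸ Submodule.subset_span hy
      have : N y ≤ s.sup N := Finset.le_sup hy
      obtain ⟨k, hk⟩ := Nat.exists_eq_add_of_le this
      rw [hk, pow_add, mul_comm (_ ^ N y), mul_assoc, hN y hyN, mul_zero]
    | zero => rw [mul_zero]
    | add y z _ _ hy hz => rw [mul_add, hy, hz, add_zero]
    | smul b y _ hy => rw [smul_eq_mul, mul_left_comm, hy, mul_zero]
  -- special fibre: elements of the nilradical are divisible by `ϖ` inside the nilradical
  have hspec : ∀ x ∈ nilradical B, ∃ y ∈ nilradical B, x = algebraMap A B ϖ * y := by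
    intro x hx
    haveI := hfib ⟨IsLocalRing.maximalIdeal A, inferInstance⟩
    have h1 : IsNilpotent ((1 : (IsLocalRing.maximalIdeal A).ResidueField) ⊗ₜ[A] x) := by
      obtain ⟨n, hn⟩ := hx
      refine ⟨n, ?_⟩
      rw [Algebra.TensorProduct.tmul_pow, hn, TensorProduct.tmul_zero]
    have h2 : (1 : (IsLocalRing.maximalIdeal A).ResidueField) ⊗ₜ[A] x = 0 := h1.eq_zero
    let e : (A ⧸ IsLocalRing.maximalIdeal A) ≃ₗ[A] (IsLocalRing.maximalIdeal A).ResidueField :=
      LinearEquiv.ofBijective
        (IsScalarTower.toAlgHom A (A ⧸ IsLocalRing.maximalIdeal A)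
          (IsLocalRing.maximalIdeal A).ResidueField).toLinearMap
        (Ideal.bijective_algebraMap_quotient_residueField (IsLocalRing.maximalIdeal A))
    have h3 : (TensorProduct.congr e (LinearEquiv.refl A B))
        ((1 : A ⧸ IsLocalRing.maximalIdeal A) ⊗ₜ[A] x) = 0 := by
      rw [TensorProduct.congr_tmul]
      have : e 1 = 1 := map_one (algebraMap (A ⧸ IsLocalRing.maximalIdeal A)
        (IsLocalRing.maximalIdeal A).ResidueField)
      rw [this]
      exact h2
    have h4 : (1 : A ⧸ IsLocalRing.maximalIdeal A) ⊗ₜ[A] x = 0 :=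
      (TensorProduct.congr e (LinearEquiv.refl A B)).map_eq_zero_iff.mp h3
    have h5 : x ∈ LinearMap.ker (TensorProduct.mk A (A ⧸ IsLocalRing.maximalIdeal A) B 1) := h4
    rw [LinearMap.ker_tensorProductMk, hm, Submodule.ideal_span_singleton_smul,
      Submodule.mem_smul_pointwise_iff_exists] at h5
    obtain ⟨y, -, hy⟩ := h5
    have hxy : x = algebraMap A B ϖ * y := by rw [← hy, Algebra.smul_def]
    refine ⟨y, ?_, hxy⟩
    have : algebraMap A B ϖ * y ∈ nilradical B := hxy ▸ hx
    exact (hirr.mem_or_mem this).resolve_left hϖN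
  have hpow : ∀ k : ℕ, ∀ x ∈ nilradical B, ∃ y ∈ nilradical B, x = algebraMap A B ϖ ^ k * y := by
    intro k
    induction k with
    | zero => intro x hx; exact ⟨x, hx, by rw [pow_zero, one_mul]⟩
    | succ k ih =>
      intro x hx
      obtain ⟨y, hy, rfl⟩ := ih x hx
      obtain ⟨z, hz, rfl⟩ := hspec y hy
      exact ⟨z, hz, by rw [pow_succ, mul_assoc]⟩
  have hN0 : nilradical B = ⊥ := by
    rw [eq_bot_iff]
    intro x hx
    obtain ⟨y, hy, rfl⟩ := hpow n x hx
    rw [hn y hy]
    exact Submodule.zero_mem _
  have hred : IsReduced B := by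
    rw [← nilradical_eq_bot_iff]
    exact hN0
  refine ⟨hred, ?_⟩
  rw [Module.Flat.flat_iff_torsion_eq_bot_of_isBezout]
  rw [eq_bot_iff]
  intro x hx
  obtain ⟨a, ha⟩ := (Submodule.mem_torsion_iff x).mp hx
  have ha0 : (a : A) ≠ 0 := nonZeroDivisors.ne_zero a.2
  have h1 : algebraMap A B a * x = 0 := by
    rw [← Algebra.smul_def]; exact ha
  have hbot : (⊥ : Ideal B).IsPrime := hN0 ▸ hirr
  rcases hbot.mem_or_mem (show algebraMap A B a * x ∈ (⊥ : Ideal B) from h1) with h | h
  · exact absurd (hker a (hN0 ▸ h)) ha0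
  · exact h

end Groth.Agent.S14040
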