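import Groth.Statements.S14043
import Mathlib

set_option autoImplicit false
universe u v
open W4c1frobunstiva

namespace Groth.Agent.S14043

open W4c1frobunstiva
section NR
variable {R : Type u} [CommRing R] {M : Type v} [AddCommGroup M] [Module R M] {r : ℕ}

/-- action of a matrix on a family of module elements -/
def act (X : Matrix (Fin r) (Fin r) R) (v : Fin r → M) : Fin r → M := fun k => ∑ l, X k l • v l

theorem act_mul (X Y : Matrix (Fin r) (Fin r) R) (v : Fin r → M) :
    act (X * Y) v = act X (act Y v) := by
  funext k
  simp only [act, Matrix.mul_apply, Finset.sum_smul, Finset.smul_sum, mul_smul]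
  rw [Finset.sum_comm]

theorem isUnit_det_of_act_eq (e : Fin r → M) (he : IsNRBasis R M e)
    (X : Matrix (Fin r) (Fin r) R) (hX : act X e = e) : IsUnit X.det := by
  have h1 : ∀ k l, X k l - (1 : Matrix (Fin r) (Fin r) R) k l ∈ nilradical R := by
    intro k l
    rw [mem_nilradical]
    refine he.2 (fun l => X k l - (1 : Matrix (Fin r) (Fin r) R) k l) ?_ l
    have h2 := congrFun hX k
    simp only [act] at h2
    simp only [sub_smul, Finset.sum_sub_distrib, h2, Matrix.one_apply, ite_smul, one_smul, zero_smul,
      Finset.sum_ite_eq, Finset.mem_univ, if_true, sub_self]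
  have h3 : (Ideal.Quotient.mk (nilradical R)).mapMatrix X = 1 := by
    ext k l
    simp only [RingHom.mapMatrix_apply, Matrix.map_apply]
    have := Ideal.Quotient.eq.mpr (h1 k l)
    rw [this]
    simp [Matrix.one_apply]
  have h4 : Ideal.Quotient.mk (nilradical R) X.det = 1 := by
    rw [RingHom.map_det, h3, Matrix.det_one]
  have h5 : X.det - 1 ∈ nilradical R := by
    rw [← Ideal.Quotient.eq, h4, map_one]
  have h6 : IsNilpotent (X.det - 1) := mem_nilradical.mp h5
  have := h6.isUnit_add_one
  simpa using this

theorem exists_matrix_of_span_eq_top (m : Fin r → M) (hm : Submodule.span R (Set.range m) = ⊤)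
    (v : Fin r → M) : ∃ X : Matrix (Fin r) (Fin r) R, v = act X m := by
  have : ∀ k, ∃ c : Fin r → R, ∑ l, c l • m l = v k := by
    intro k
    have hx : v k ∈ Submodule.span R (Set.range m) := by rw [hm]; trivial
    exact (Submodule.mem_span_range_iff_exists_fun R).mp hx
  choose c hc using this
  exact ⟨Matrix.of c, funext fun k => (hc k).symm⟩

end NR



/-- Let R be a commutative Noetherian ring, M an R-module that is NR-free of rank r — generated by some
r elements all of whose linear relations have nilpotent coefficients — and m, m' two generating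
families of M, each indexed by the same finite set of size r. Then some invertible r × r matrix T
over R expresses m' in terms of m, m'_j = Σ_i T_{ji} m_i; reducing modulo the nilradical n, such a T
induces the change-of-basis matrix between the bases of M/nM given by the images of m and m' (an
r-element generating family of M is itself an NR-basis), so only the existence of an invertible T is
asserted here. (T is not unique.) -/
theorem result (R : Type u) [CommRing R]
    [IsNoetherianRing R] (M : Type v) [AddCommGroup M] [Module R M] (r : ℕ)
    (hM : W4c1frobunstiva.IsNRFree R M r) (m m' : Fin r → M)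
    (hm : Submodule.span R (Set.range m) = ⊤) (hm' : Submodule.span R (Set.range m') = ⊤) :
    ∃ T : Matrix (Fin r) (Fin r) R, IsUnit T ∧ ∀ j, m' j = ∑ i, T j i • m i := by
  obtain ⟨e, he⟩ := hM
  obtain ⟨A, hA⟩ := exists_matrix_of_span_eq_top e he.1 m
  obtain ⟨T, hT⟩ := exists_matrix_of_span_eq_top m hm m'
  obtain ⟨C, hC⟩ := exists_matrix_of_span_eq_top m' hm' e
  have h1 : act (C * T * A) e = e := by
    rw [act_mul, act_mul, ← hA, ← hT, ← hC]
  have h2 := isUnit_det_of_act_eq e he _ h1
  rw [Matrix.det_mul, Matrix.det_mul] at h2
  have h3 : IsUnit T.det := isUnit_of_mul_isUnit_right (isUnit_of_mul_isUnit_left h2)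
  exact ⟨T, (Matrix.isUnit_iff_isUnit_det T).mpr h3, fun j => congrFun hT j⟩

end Groth.Agent.S14043
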