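import Groth.Statements.S14046
import Mathlib.RingTheory.Flat.Equalizer
import Mathlib.Tactic.Ring

set_option autoImplicit false
universe u v w
open W4c1frobunstiva

namespace Groth.Agent.S14046

open TensorProduct in
theorem key (R : Type u) (A : Type v) [CommRing R] [CommRing A] [Algebra R A]
    (R' : Type w) [CommRing R'] [Algebra R R'] (K : Ideal A) (z : R' ⊗[R] A)
    (hz : z ∈ K.map (Algebra.TensorProduct.includeRight : A →ₐ[R] R' ⊗[R] A)) :
    ((Ideal.Quotient.mkₐ R K).toLinearMap.lTensor R') z = 0 := by
  have hψ : ∀ w, (Algebra.TensorProduct.map (AlgHom.id R R') (Ideal.Quotient.mkₐ R K)) w =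
      ((Ideal.Quotient.mkₐ R K).toLinearMap.lTensor R') w := by
    intro w
    induction w using TensorProduct.induction_on with
    | zero => simp
    | tmul x y => simp
    | add x y hx hy => rw [map_add, map_add, hx, hy]
  rw [← hψ]
  have hle : K.map (Algebra.TensorProduct.includeRight : A →ₐ[R] R' ⊗[R] A) ≤
      RingHom.ker (Algebra.TensorProduct.map (AlgHom.id R R') (Ideal.Quotient.mkₐ R K)) := by
    rw [Ideal.map_le_iff_le_comap]
    intro k hk
    rw [Ideal.mem_comap, RingHom.mem_ker]
    change (Algebra.TensorProduct.map (AlgHom.id R R') (Ideal.Quotient.mkₐ R K)) (1 ⊗ₜ k) = 0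
    rw [Algebra.TensorProduct.map_tmul]
    have : (Ideal.Quotient.mkₐ R K) k = 0 := Ideal.Quotient.eq_zero_iff_mem.mpr hk
    rw [this, TensorProduct.tmul_zero]
  exact hle hz

open TensorProduct in
/-- Let R → A be a homomorphism of commutative rings and I, J ideals of A with I ∩ J = 0 — so that A is
the fibre product of A/I and A/J over A/(I + J), i.e. Spec A is the union of the two closed
subschemes in the strong sense — and suppose A/(I + J) is flat over R. Then this persists under
every base change: for every commutative R-algebra R', the ideals generated by I and J in R' ⊗_R A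
again meet in 0. (This is the ideal-theoretic, affine form of the base-change step; the exact
sequence of unit sheaves deduced from it in the published statement — restriction of units to a
closed subscheme being surjective locally — is not restated. Without flatness of A/(I + J) the
conclusion fails: for A = k[x, y]/(xy) over R = k[u] with u ↦ x + y, I = (x) and J = (y), the base
change to R/(u) gives k[x]/(x²), in which both ideals become (x).) -/
theorem result (R : Type u) (A : Type v)
    [CommRing R] [CommRing A] [Algebra R A] (I J : Ideal A) (hIJ : I ⊓ J = ⊥)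
    [Module.Flat R (A ⧸ (I ⊔ J))] (R' : Type w) [CommRing R'] [Algebra R R'] :
    I.map (Algebra.TensorProduct.includeRight : A →ₐ[R] R' ⊗[R] A) ⊓
      J.map (Algebra.TensorProduct.includeRight : A →ₐ[R] R' ⊗[R] A) = ⊥ := by
  have hfsurj : Function.Surjective
      (((Ideal.Quotient.factorₐ R (le_sup_left : I ≤ I ⊔ J)).toLinearMap).coprod
        (-(Ideal.Quotient.factorₐ R (le_sup_right : J ≤ I ⊔ J)).toLinearMap)) := by
    intro q
    obtain ⟨a, rfl⟩ := Ideal.Quotient.mk_surjective q
    refine ⟨(Ideal.Quotient.mk I a, 0), ?_⟩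
    simp
  have hginj : Function.Injective
      ((Ideal.Quotient.mkₐ R I).toLinearMap.prod (Ideal.Quotient.mkₐ R J).toLinearMap) := by
    rw [← LinearMap.ker_eq_bot, eq_bot_iff]
    intro a ha
    rw [LinearMap.mem_ker, LinearMap.prod_apply] at ha
    replace ha : (Ideal.Quotient.mkₐ R I) a = 0 ∧ (Ideal.Quotient.mkₐ R J) a = 0 := Prod.mk_eq_zero.mp ha
    have h1 : a ∈ I := Ideal.Quotient.eq_zero_iff_mem.mp ha.1
    have h2 : a ∈ J := Ideal.Quotient.eq_zero_iff_mem.mp ha.2
    have : a ∈ I ⊓ J := ⟨h1, h2⟩
    rw [hIJ] at this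
    exact this
  have hexact : Function.Exact
      ((Ideal.Quotient.mkₐ R I).toLinearMap.prod (Ideal.Quotient.mkₐ R J).toLinearMap)
      (((Ideal.Quotient.factorₐ R (le_sup_left : I ≤ I ⊔ J)).toLinearMap).coprod
        (-(Ideal.Quotient.factorₐ R (le_sup_right : J ≤ I ⊔ J)).toLinearMap)) := by
    rintro ⟨u, v⟩
    obtain ⟨a, rfl⟩ := Ideal.Quotient.mk_surjective u
    obtain ⟨b, rfl⟩ := Ideal.Quotient.mk_surjective v
    constructor
    · intro h
      have h' : Ideal.Quotient.mk (I ⊔ J) (a - b) = 0 := by
        simpa [sub_eq_add_neg] using h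
      rw [Ideal.Quotient.eq_zero_iff_mem] at h'
      obtain ⟨i, hi, j, hj, hij⟩ := Submodule.mem_sup.mp h'
      refine ⟨a - i, ?_⟩
      rw [LinearMap.prod_apply]
      refine Prod.ext ?_ ?_
      · change Ideal.Quotient.mk I (a - i) = Ideal.Quotient.mk I a
        rw [Ideal.Quotient.eq]
        have : a - i - a = -i := by ring
        rw [this]; exact neg_mem hi
      · change Ideal.Quotient.mk J (a - i) = Ideal.Quotient.mk J b
        rw [Ideal.Quotient.eq]
        have : a - i - b = j := by
          have : a - i - b = (a - b) - i := by ring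
          rw [this, ← hij]; ring
        rw [this]; exact hj
    · rintro ⟨c, hc⟩
      rw [← hc]
      simp
  have hinj := LinearMap.lTensor_injective_of_exact_of_flat _ hfsurj _ hginj hexact R'
  rw [eq_bot_iff]
  intro z hz
  rw [Ideal.mem_bot]
  apply hinj
  rw [map_zero]
  have hI := key R A R' I z hz.1
  have hJ := key R A R' J z hz.2
  have hdecomp : ((Ideal.Quotient.mkₐ R I).toLinearMap.prod (Ideal.Quotient.mkₐ R J).toLinearMap).lTensor R' =
      (LinearMap.inl R (A ⧸ I) (A ⧸ J)).lTensor R' ∘ₗ (Ideal.Quotient.mkₐ R I).toLinearMap.lTensor R' +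
      (LinearMap.inr R (A ⧸ I) (A ⧸ J)).lTensor R' ∘ₗ (Ideal.Quotient.mkₐ R J).toLinearMap.lTensor R' := by
    rw [← LinearMap.lTensor_comp, ← LinearMap.lTensor_comp, ← LinearMap.lTensor_add]
    congr 1
    ext a <;> simp
  rw [hdecomp, LinearMap.add_apply, LinearMap.comp_apply, LinearMap.comp_apply, hI, hJ, map_zero,
    map_zero, add_zero]

end Groth.Agent.S14046
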