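import Groth.Statements.S14048
import Mathlib

set_option autoImplicit false
universe u
open TensorProduct
open CAlg

namespace Groth.Agent.S14048

open Polynomial in
theorem exists_poly_aux (p : ℕ) (hp : p.Prime) (P : ℚ[X]) (hP0 : (p : ℚ) * P.coeff 0 = 1) :
    ∀ n : ℕ, ∀ (G : ℤ[X]) (M : ℤ), M.natAbs = n → M ≠ 0 →
      G.map (Int.castRingHom ℚ) = (M : ℚ) • P →
      ∃ (G0 : ℤ[X]) (M0 : ℤ), (p : ℤ) ∣ M0 ∧ G0.map (Int.castRingHom ℚ) = (M0 : ℚ) • P ∧
        G0.map (Int.castRingHom (ZMod p)) ≠ 0 := by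
  intro n
  induction n using Nat.strong_induction_on with
  | _ n ih =>
    intro G M hn hM hG
    have hpM : (p : ℤ) * G.coeff 0 = M := by
      have h1 := congrArg (fun f => f.coeff 0) hG
      simp only [coeff_map, eq_intCast, coeff_smul, smul_eq_mul] at h1
      have h2 : ((p : ℤ) * G.coeff 0 : ℚ) = (M : ℚ) := by
        push_cast
        rw [h1]
        calc (p : ℚ) * ((M : ℚ) * P.coeff 0) = (M : ℚ) * ((p : ℚ) * P.coeff 0) := by ring
          _ = M := by rw [hP0, mul_one]
      exact_mod_cast h2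
    by_cases hmod : G.map (Int.castRingHom (ZMod p)) = 0
    · have hdvd : C (p : ℤ) ∣ G := by
        rw [Polynomial.C_dvd_iff_dvd_coeff]
        intro i
        have := congrArg (fun f => f.coeff i) hmod
        simp only [coeff_map, eq_intCast, coeff_zero] at this
        exact (ZMod.intCast_zmod_eq_zero_iff_dvd _ p).mp this
      obtain ⟨G', hG'⟩ := hdvd
      have hp0 : (p : ℚ) ≠ 0 := by exact_mod_cast hp.ne_zero
      have hM' : G.coeff 0 ≠ 0 := by
        intro h0
        rw [h0, mul_zero] at hpM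
        exact hM hpM.symm
      have hG'map : G'.map (Int.castRingHom ℚ) = ((G.coeff 0 : ℤ) : ℚ) • P := by
        have h1 : C (p : ℚ) * G'.map (Int.castRingHom ℚ) =
            C (p : ℚ) * (((G.coeff 0 : ℤ) : ℚ) • P) := by
          have : G.map (Int.castRingHom ℚ) = C (p : ℚ) * G'.map (Int.castRingHom ℚ) := by
            rw [hG', Polynomial.map_mul, Polynomial.map_C]
            simp
          rw [← this, hG, ← hpM]
          rw [← smul_eq_C_mul, smul_smul]
          push_cast
          rfl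
        exact mul_left_cancel₀ (by simpa using hp0) h1
      have hlt : (G.coeff 0).natAbs < n := by
        rw [← hn, ← hpM, Int.natAbs_mul, Int.natAbs_natCast]
        have h1 : 0 < (G.coeff 0).natAbs := Int.natAbs_pos.mpr hM'
        have h2 : 2 ≤ p := hp.two_le
        nlinarith
      exact ih _ hlt G' (G.coeff 0) rfl hM' hG'map
    · exact ⟨G, M, ⟨G.coeff 0, hpM.symm⟩, hG, hmod⟩

open Polynomial in
theorem exists_poly (p : ℕ) (hp : p.Prime) (P : ℚ[X]) (hP0 : (p : ℚ) * P.coeff 0 = 1) :
    ∃ (G0 : ℤ[X]) (M0 : ℤ), (p : ℤ) ∣ M0 ∧ G0.map (Int.castRingHom ℚ) = (M0 : ℚ) • P ∧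
        G0.map (Int.castRingHom (ZMod p)) ≠ 0 := by
  obtain ⟨b, hbM, hb⟩ := IsLocalization.integerNormalization_spec (nonZeroDivisors ℤ) P
  have hb0 : (b : ℤ) ≠ 0 := nonZeroDivisors.ne_zero hbM
  refine exists_poly_aux p hp P hP0 _ (IsLocalization.integerNormalization (nonZeroDivisors ℤ) P)
    (b : ℤ) rfl hb0 ?_
  rw [show Int.castRingHom ℚ = algebraMap ℤ ℚ from rfl, hb]
  ext i
  simp [Polynomial.coeff_smul]


/-- Let A be an integral domain in which 2 is invertible and let t be an element of A, so that Spec A is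
a scheme over the affine line Spec ℤ[1/2][t]. Assume that (1) the ℚ-algebra map ℚ[X] → ℚ ⊗_ℤ A
sending X to 1 ⊗ t is bijective (the map Spec A → Spec ℤ[1/2][t] becomes an isomorphism after base
change to ℚ); (2) every prime number is invertible in A/(t) (the fibre over t = 0 is of pure
characteristic zero); and (3) there is a ring homomorphism s : A → ℤ[1/2] with s(t) = 1 (the fibre
over t = 1 admits a section). Then A is not Noetherian. -/
theorem result (A : Type u) [CommRing A]
    [IsDomain A] (h2 : IsUnit (2 : A)) (t : A)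
    (h1 : Function.Bijective (Polynomial.aeval (R := ℚ) ((1 : ℚ) ⊗ₜ[ℤ] t : ℚ ⊗[ℤ] A)))
    (h0 : ∀ p : ℕ, p.Prime → IsUnit ((p : ℕ) : A ⧸ Ideal.span ({t} : Set A)))
    (s : A →+* Localization.Away (2 : ℤ)) (hs : s t = 1) :
    ¬ IsNoetherianRing A := by
  open Polynomial in
  intro hN
  set T : ℚ ⊗[ℤ] A := (1 : ℚ) ⊗ₜ[ℤ] t with hT
  set ev : ℚ[X] →ₐ[ℚ] ℚ ⊗[ℤ] A := Polynomial.aeval T with hev
  -- characteristic zero
  have hchar : CharZero A := by
    obtain ⟨n, hn⟩ := CharP.exists A
    rcases Nat.eq_zero_or_pos n with rfl | hpos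
    · exact CharP.charP_to_charZero A
    · exfalso
      have hn0 : (n : A) = 0 := CharP.cast_eq_zero A n
      have hnq : (n : ℚ) ≠ 0 := by exact_mod_cast hpos.ne'
      have h10 : (1 : ℚ ⊗[ℤ] A) = 0 := by
        have e1 : (1 : ℚ ⊗[ℤ] A) = (((n : ℤ) • (1 / (n : ℚ))) ⊗ₜ[ℤ] (1 : A)) := by
          rw [Algebra.TensorProduct.one_def]
          congr 1
          rw [zsmul_eq_mul]
          push_cast
          field_simp
        rw [e1, TensorProduct.smul_tmul, zsmul_eq_mul, mul_one]
        push_cast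
        rw [hn0, TensorProduct.tmul_zero]
      exact one_ne_zero (h1.1 (by rw [map_one, map_zero, h10]))
  haveI := hchar
  set ι : A →ₐ[ℤ] ℚ ⊗[ℤ] A := Algebra.TensorProduct.includeRight with hι
  have hιinj : Function.Injective ι :=
    Algebra.TensorProduct.includeRight_injective (RingHom.injective_int (algebraMap ℤ ℚ))
  have hιt : ι t = T := rfl
  -- t ≠ 1
  have ht1 : t ≠ 1 := by
    intro h
    have h3 : ev (X - 1) = 0 := by
      simp [hev, hT, h, Algebra.TensorProduct.one_def]
    have h4 := h1.1 (h3.trans (map_zero ev).symm)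
    have h5 : (X - C (1 : ℚ)) ≠ 0 := Polynomial.X_sub_C_ne_zero 1
    exact h5 (by simpa using h4)
  have key : ∀ p : ℕ, p.Prime → p ≠ 2 →
      ∃ Pp : Ideal A, Pp ∈ (Ideal.span {t - 1}).minimalPrimes ∧ (p : A) ∈ Pp := by
    intro p hp hp2
    haveI := Fact.mk hp
    have h2u : IsUnit ((Int.castRingHom (ZMod p)) (2 : ℤ)) := by
      rw [isUnit_iff_ne_zero]
      intro h
      have h' : ((2 : ℤ) : ZMod p) = 0 := h
      rw [ZMod.intCast_zmod_eq_zero_iff_dvd] at h'
      have : p ∣ 2 := by exact_mod_cast h'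
      exact hp2 ((Nat.prime_dvd_prime_iff_eq hp Nat.prime_two).mp this)
    let τ : Localization.Away (2 : ℤ) →+* ZMod p := IsLocalization.Away.lift (2 : ℤ) h2u
    let σ : A →+* ZMod p := τ.comp s
    have hσt : σ t = 1 := by simp [σ, hs]
    have hσp : σ (p : A) = 0 := by rw [map_natCast]; exact ZMod.natCast_self p
    have hσsurj : Function.Surjective σ := fun x => by
      obtain ⟨n, rfl⟩ := ZMod.intCast_surjective x
      exact ⟨n, map_intCast σ n⟩
    set m := RingHom.ker σ with hm
    haveI : m.IsMaximal := RingHom.ker_isMaximal_of_surjective σ hσsurj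
    -- a, b
    obtain ⟨a, b, hab⟩ : ∃ a b : A, (p : A) * a = 1 + t * b := by
      obtain ⟨u, hu⟩ := (h0 p hp).exists_right_inv
      obtain ⟨a, rfl⟩ := Ideal.Quotient.mk_surjective u
      have h3 : Ideal.Quotient.mk (Ideal.span ({t} : Set A)) ((p : A) * a - 1) = 0 := by
        rw [map_sub, map_mul, map_natCast, hu, map_one, sub_self]
      rw [Ideal.Quotient.eq_zero_iff_mem, Ideal.mem_span_singleton'] at h3
      obtain ⟨b, hb⟩ := h3
      exact ⟨a, b, by linear_combination -hb⟩
    obtain ⟨P, hP⟩ := h1.2 (ι a)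
    obtain ⟨Qb, hQb⟩ := h1.2 (ι b)
    have hPQ : C (p : ℚ) * P = 1 + X * Qb := by
      apply h1.1
      show ev (C (p : ℚ) * P) = ev (1 + X * Qb)
      have e1 : ev (C (p : ℚ) * P) = ι ((p : A) * a) := by
        rw [map_mul, map_mul, ← hP]
        congr 1
        simp [hev]
      have e2 : ev (1 + X * Qb) = ι (1 + t * b) := by
        rw [map_add, map_add, map_mul, map_mul, map_one, map_one, ← hQb, hιt]
        congr 2
        simp [hev]
      rw [e1, e2, hab]
    have hP0 : (p : ℚ) * P.coeff 0 = 1 := by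
      have := congrArg (fun f => f.coeff 0) hPQ
      simpa using this
    obtain ⟨G0, M0, hpM0, hG0, hG0p⟩ := exists_poly p hp P hP0
    have hG0t : Polynomial.aeval t G0 = (M0 : A) * a := by
      apply hιinj
      have e1 : ι (Polynomial.aeval t G0) = Polynomial.aeval T G0 := by
        rw [← hιt, Polynomial.aeval_algHom_apply]
      have e2 : Polynomial.aeval T G0 = ev (G0.map (algebraMap ℤ ℚ)) := by
        rw [hev, Polynomial.aeval_map_algebraMap]
      rw [e1, e2, show algebraMap ℤ ℚ = Int.castRingHom ℚ from rfl, hG0, map_smul, hP, map_mul,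
        map_intCast, Int.cast_smul_eq_zsmul, zsmul_eq_mul]
    set g := G0.map (Int.castRingHom (ZMod p)) with hg
    obtain ⟨h, hgh, hnd⟩ := Polynomial.exists_eq_pow_rootMultiplicity_mul_and_not_dvd g hG0p 1
    set k := Polynomial.rootMultiplicity 1 g with hk
    have hh1 : h.eval 1 ≠ 0 := by
      intro h0'
      exact hnd (Polynomial.dvd_iff_isRoot.mpr h0')
    obtain ⟨H, hH⟩ := Polynomial.map_surjective (Int.castRingHom (ZMod p)) ZMod.intCast_surjective h
    obtain ⟨R, hR⟩ : C (p : ℤ) ∣ G0 - (X - C 1) ^ k * H := by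
      rw [Polynomial.C_dvd_iff_dvd_coeff]
      intro i
      apply (ZMod.intCast_zmod_eq_zero_iff_dvd _ p).mp
      have h3 : (G0 - (X - C 1) ^ k * H).map (Int.castRingHom (ZMod p)) = 0 := by
        rw [Polynomial.map_sub, Polynomial.map_mul, Polynomial.map_pow, Polynomial.map_sub,
          Polynomial.map_X, Polynomial.map_C, hH, ← hg, hgh]
        simp
      have h4 := congrArg (fun f => f.coeff i) h3
      rw [Polynomial.coeff_map, Polynomial.coeff_zero] at h4
      exact h4
    have hpm : Ideal.span {(p : A)} ≤ m := by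
      rw [Ideal.span_le, Set.singleton_subset_iff]
      exact hσp
    obtain ⟨Pp, hPpmin, hPpm⟩ := Ideal.exists_minimalPrimes_le hpm
    haveI hPpprime : Pp.IsPrime := hPpmin.1.1
    have hpPp : (p : A) ∈ Pp := hPpmin.1.2 (Ideal.subset_span rfl)
    have hprod : (t - 1) ^ k * Polynomial.aeval t H ∈ Pp := by
      have e : Polynomial.aeval t G0 - (t - 1) ^ k * Polynomial.aeval t H =
          (p : A) * Polynomial.aeval t R := by
        have := congrArg (Polynomial.aeval t) hR
        simpa using this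
      have h1' : Polynomial.aeval t G0 ∈ Pp := by
        rw [hG0t]
        obtain ⟨c, rfl⟩ := hpM0
        push_cast
        exact Pp.mul_mem_right _ (Pp.mul_mem_right _ hpPp)
      have h2' : (p : A) * Polynomial.aeval t R ∈ Pp := Pp.mul_mem_right _ hpPp
      have e' : (t - 1) ^ k * Polynomial.aeval t H =
          Polynomial.aeval t G0 - (p : A) * Polynomial.aeval t R := by
        rw [← e]; ring
      rw [e']
      exact Pp.sub_mem h1' h2'
    have hHt : Polynomial.aeval t H ∉ Pp := by
      intro hmem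
      have h3 : σ (Polynomial.aeval t H) = 0 := hPpm hmem
      have e : σ (Polynomial.aeval t H) = h.eval 1 := by
        rw [Polynomial.aeval_def, Polynomial.hom_eval₂, hσt, ← hH, Polynomial.eval_map]
        congr 1
        exact RingHom.ext_int _ _
      exact hh1 (e ▸ h3)
    have ht1Pp : t - 1 ∈ Pp := by
      rcases hPpprime.mem_or_mem hprod with h' | h'
      · exact hPpprime.mem_of_pow_mem k h'
      · exact absurd h' hHt
    refine ⟨Pp, ⟨⟨hPpprime, (Ideal.span_singleton_le_iff_mem _).mpr ht1Pp⟩, ?_⟩, hpPp⟩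
    rintro Q ⟨hQprime, hQ⟩ hQP
    by_contra hnot
    have hlt : Q < Pp := lt_of_le_of_ne hQP (fun e => hnot (e ▸ le_rfl))
    have hht : Pp.height ≤ 1 :=
      Ideal.height_le_one_of_isPrincipal_of_mem_minimalPrimes (Ideal.span {(p : A)}) Pp hPpmin
    have hQ0 : Q.height < Pp.height := Ideal.height_strict_mono_of_isPrime_of_isPrime hlt
    have hQ1 : Q.height = 0 := Order.lt_one_iff.mp (lt_of_lt_of_le hQ0 hht)
    have hQbot : Q = ⊥ := Ideal.height_eq_zero_iff_eq_bot.mp hQ1
    have h3 : t - 1 ∈ Q := hQ (Ideal.subset_span rfl)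
    rw [hQbot, Ideal.mem_bot, sub_eq_zero] at h3
    exact ht1 h3
  choose! Pp hPp using key
  have hfin := Ideal.finite_minimalPrimes_of_isNoetherianRing A (Ideal.span {t - 1})
  have hinf : Set.Infinite {p : ℕ | p.Prime ∧ p ≠ 2} := by
    refine (Nat.infinite_setOfPred_prime.sdiff (Set.finite_singleton 2)).mono ?_
    intro p hp
    exact ⟨hp.1, hp.2⟩
  have hmaps : Set.MapsTo Pp {p : ℕ | p.Prime ∧ p ≠ 2} (Ideal.span {t - 1}).minimalPrimes :=
    fun p hp => (hPp p hp.1 hp.2).1
  have hinj : Set.InjOn Pp {p : ℕ | p.Prime ∧ p ≠ 2} := by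
    intro p hp q hq hpq
    by_contra hne
    have hcop : Nat.Coprime p q := (Nat.coprime_primes hp.1 hq.1).mpr hne
    have h3 : (p : A) ∈ Pp p := (hPp p hp.1 hp.2).2
    have h4 : (q : A) ∈ Pp p := hpq ▸ (hPp q hq.1 hq.2).2
    have h5 : (1 : A) ∈ Pp p := by
      have hgcd := Nat.gcd_eq_gcd_ab p q
      rw [hcop.gcd_eq_one] at hgcd
      have e : (1 : A) = (p : A) * ((Nat.gcdA p q : ℤ) : A) + (q : A) * ((Nat.gcdB p q : ℤ) : A) := by
        have := congrArg (Int.cast : ℤ → A) hgcd
        push_cast at this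
        exact this
      rw [e]
      exact Ideal.add_mem _ (Ideal.mul_mem_right _ _ h3) (Ideal.mul_mem_right _ _ h4)
    exact (hPp p hp.1 hp.2).1.1.1.ne_top ((Ideal.eq_top_iff_one _).mpr h5)
  exact (Set.infinite_of_injOn_mapsTo hinj hmaps hinf) hfin

end Groth.Agent.S14048
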