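import Groth.Statements.S14051
import Mathlib

set_option autoImplicit false
universe u
open CAlg

namespace Groth.Agent.S14051


section
variable {R : Type u} [CommRing R] {A : Type u} [CommRing A] [Algebra R A]
    (𝒜 : ℕ → Submodule R A) [GradedAlgebra 𝒜]

lemma grade_add_le (hA : ∀ n : ℕ, 𝒜 (n + 1) = 𝒜 1 * 𝒜 n) (a b : ℕ) :
    𝒜 (a + b) ≤ 𝒜 a * 𝒜 b := by
  induction a with
  | zero =>
    intro x hx
    rw [zero_add] at hx
    have h1 : (1 : A) * x ∈ 𝒜 0 * 𝒜 b := Submodule.mul_mem_mul (SetLike.GradedOne.one_mem) hx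
    simpa using h1
  | succ a ih =>
    have e : a + 1 + b = (a + b) + 1 := by omega
    rw [e, hA (a + b), hA a, mul_assoc]
    exact mul_le_mul' le_rfl ih

variable {M : Type u} [AddCommGroup M] [Module R M] [Module A M] [IsScalarTower R A M]
    (ℳ : ℕ → Submodule R M) [DirectSum.Decomposition ℳ] [SetLike.GradedSMul 𝒜 ℳ]

lemma aux (hA : ∀ n : ℕ, 𝒜 (n + 1) = 𝒜 1 * 𝒜 n) {d n k : ℕ} (hdn : d ≤ n) {y : M}
    (hy : y ∈ ℳ d) (a : A) :
    ((DirectSum.decompose ℳ (a • y) (n + k) : ℳ (n + k)) : M) ∈ 𝒜 k • ℳ n := by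
  classical
  refine DirectSum.Decomposition.inductionOn 𝒜
    (motive := fun a => ((DirectSum.decompose ℳ (a • y) (n + k) : ℳ (n + k)) : M) ∈ 𝒜 k • ℳ n)
    ?_ ?_ ?_ a
  · simp
  · intro i a
    have h1 : (a : A) • y ∈ ℳ (i +ᵥ d) := SetLike.GradedSMul.smul_mem a.2 hy
    rw [vadd_eq_add] at h1
    by_cases h : i + d = n + k
    · have hmem : (a : A) • y ∈ ℳ (n + k) := h ▸ h1
      rw [DirectSum.decompose_of_mem_same ℳ hmem]
      have hi : i = k + (n - d) := by omega
      have ha : (a : A) ∈ 𝒜 k * 𝒜 (n - d) := grade_add_le 𝒜 hA k (n - d) (hi ▸ a.2)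
      refine Submodule.mul_induction_on (C := fun a => a • y ∈ 𝒜 k • ℳ n) ha
        (fun b hb c hc => ?_) (fun u v hu hv => ?_)
      · show (b * c) • y ∈ 𝒜 k • ℳ n
        rw [mul_smul]
        have h2 : c • y ∈ ℳ ((n - d) +ᵥ d) := SetLike.GradedSMul.smul_mem hc hy
        rw [vadd_eq_add, Nat.sub_add_cancel hdn] at h2
        exact Submodule.smul_mem_smul hb h2
      · show (u + v) • y ∈ 𝒜 k • ℳ n
        rw [add_smul]
        exact Submodule.add_mem _ hu hv
    · rw [DirectSum.decompose_of_mem_ne ℳ h1 h]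
      exact Submodule.zero_mem _
  · intro a b iha ihb
    show ((DirectSum.decompose ℳ ((a + b) • y) (n + k) : ℳ (n + k)) : M) ∈ 𝒜 k • ℳ n
    rw [add_smul, DirectSum.decompose_add, DirectSum.add_apply, Submodule.coe_add]
    exact Submodule.add_mem _ iha ihb

end


/-- Let A be a commutative ℕ-graded algebra over a base ring R which is generated by A_1 as an
A_0-algebra, written as A_{n+1} = A_1 · A_n for every n, and let M be a graded A-module: an A-module
with R-submodules M_n giving a direct-sum decomposition and A_i · M_j ⊆ M_{i+j}. If M is spanned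
over A by a set of homogeneous elements all of degree at most n₀, then for every n ≥ n₀ and every k
≥ 0 the degree-(n+k) part of M is A_k · M_n. -/
theorem result
    (R : Type u) [CommRing R] (A : Type u) [CommRing A] [Algebra R A]
    (𝒜 : ℕ → Submodule R A) [GradedAlgebra 𝒜]
    (hA : ∀ n : ℕ, 𝒜 (n + 1) = 𝒜 1 * 𝒜 n)
    (M : Type u) [AddCommGroup M] [Module R M] [Module A M] [IsScalarTower R A M]
    (ℳ : ℕ → Submodule R M) [DirectSum.Decomposition ℳ] [SetLike.GradedSMul 𝒜 ℳ]
    (s : Set M) (n₀ : ℕ) (hs : ∀ y ∈ s, ∃ d : ℕ, d ≤ n₀ ∧ y ∈ ℳ d)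
    (hspan : Submodule.span A s = ⊤)
    (n k : ℕ) (hn : n₀ ≤ n) :
    ℳ (n + k) = 𝒜 k • ℳ n := by
  classical
  apply le_antisymm
  · intro x hx
    have hx' : x ∈ Submodule.span A s := by
      rw [hspan]
      trivial
    have key : ∀ (x : M) (_ : x ∈ Submodule.span A s),
        ((DirectSum.decompose ℳ x (n + k) : ℳ (n + k)) : M) ∈ 𝒜 k • ℳ n := by
      intro x hx
      induction hx using Submodule.closure_induction with
      | zero => simp
      | add x y hx hy ihx ihy =>
        rw [DirectSum.decompose_add, DirectSum.add_apply, Submodule.coe_add]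
        exact Submodule.add_mem _ ihx ihy
      | smul_mem a y hy =>
        obtain ⟨d, hd, hyd⟩ := hs y hy
        exact aux 𝒜 ℳ hA (hd.trans hn) hyd a
    have h1 := key x hx'
    rwa [DirectSum.decompose_of_mem_same ℳ hx] at h1
  · rw [Submodule.smul_le]
    intro a ha m hm
    have h1 : a • m ∈ ℳ (k +ᵥ n) := SetLike.GradedSMul.smul_mem ha hm
    rw [vadd_eq_add, add_comm] at h1
    exact h1


end Groth.Agent.S14051
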