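import Groth.Statements.S14053
import Mathlib
-- import your own Groth.Agent.* helpers here

set_option autoImplicit false
universe u
open CAlg

namespace Groth.Agent.S14053

section
variable {k R : Type u} [Field k] [CommRing R] [Algebra k R] (ℛ : ℕ → Submodule k R)
  [GradedAlgebra ℛ]

lemma mul_le_add (a b : ℕ) : ℛ a * ℛ b ≤ ℛ (a + b) := by
  rw [Submodule.mul_le]
  intro x hx y hy
  exact SetLike.mul_mem_graded hx hy

lemma pow_le (a n : ℕ) : ℛ a ^ n ≤ ℛ (n * a) := by
  induction n with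
  | zero =>
    rw [pow_zero, zero_mul, Submodule.one_le]
    exact SetLike.one_mem_graded ℛ
  | succ n ih =>
    rw [pow_succ]
    calc ℛ a ^ n * ℛ a ≤ ℛ (n * a) * ℛ a := mul_le_mul' ih le_rfl
      _ ≤ ℛ (n * a + a) := mul_le_add ℛ _ _
      _ = ℛ ((n + 1) * a) := by rw [Nat.succ_mul]

lemma gpow_mem {ι : Type} (g : ι → R) (wt : ι → ℕ) (hg : ∀ i, g i ∈ ℛ (wt i)) (i : ι) (n : ℕ) :
    g i ^ n ∈ ℛ (n * wt i) := by
  induction n with
  | zero => rw [pow_zero, zero_mul]; exact SetLike.one_mem_graded ℛ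
  | succ n ih =>
    rw [pow_succ, Nat.succ_mul]
    exact SetLike.mul_mem_graded ih (hg i)

lemma gprod_mem {ι : Type} [DecidableEq ι] (g : ι → R) (wt : ι → ℕ) (hg : ∀ i, g i ∈ ℛ (wt i))
    (a : ι → ℕ) (s : Finset ι) :
    ∏ i ∈ s, g i ^ a i ∈ ℛ (∑ i ∈ s, a i * wt i) := by
  induction s using Finset.induction_on with
  | empty => simp only [Finset.prod_empty, Finset.sum_empty]; exact SetLike.one_mem_graded ℛ
  | insert i s hi ih =>
    rw [Finset.prod_insert hi, Finset.sum_insert hi]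
    exact SetLike.mul_mem_graded (gpow_mem ℛ g wt hg i (a i)) ih

lemma mem_adjoin_of_basis {n : ℕ} (S : Submodule k R) (b : Module.Basis (Fin n) k S) (T : Set R)
    (hT : ∀ i, (b i : R) ∈ Algebra.adjoin k T) (x : R) (hx : x ∈ S) : x ∈ Algebra.adjoin k T := by
  have h2 : (⟨x, hx⟩ : S) = ∑ i, (b.repr ⟨x, hx⟩ i) • b i := (b.sum_repr ⟨x, hx⟩).symm
  have h3 := congrArg (Submodule.subtype S) h2
  rw [map_sum] at h3
  simp only [map_smul, Submodule.subtype_apply] at h3
  rw [h3]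
  exact Subalgebra.sum_mem _ (fun i _ => Subalgebra.smul_mem _ (hT i) _)

/-- the key step: in large degree every element is a multiple of a degree 6 block -/
lemma key
    (hgen : Algebra.adjoin k ((ℛ 1 : Set R) ∪ (ℛ 2 : Set R) ∪ (ℛ 3 : Set R)) = ⊤)
    [Module.Finite k (ℛ 1)] [Module.Finite k (ℛ 2)] [Module.Finite k (ℛ 3)]
    (N : ℕ) (hN : 5 * Module.finrank k (ℛ 1) + 4 * Module.finrank k (ℛ 2)
      + 3 * Module.finrank k (ℛ 3) < N) :
    ℛ N ≤ ℛ 6 * ℛ (N - 6) := by
  classical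
  intro f hf
  set d1 := Module.finrank k (ℛ 1) with hd1
  set d2 := Module.finrank k (ℛ 2) with hd2
  set d3 := Module.finrank k (ℛ 3) with hd3
  let b1 : Module.Basis (Fin d1) k (ℛ 1) := Module.finBasis k (ℛ 1)
  let b2 : Module.Basis (Fin d2) k (ℛ 2) := Module.finBasis k (ℛ 2)
  let b3 : Module.Basis (Fin d3) k (ℛ 3) := Module.finBasis k (ℛ 3)
  let g : Fin d1 ⊕ (Fin d2 ⊕ Fin d3) → R :=
    Sum.elim (fun i => (b1 i : R)) (Sum.elim (fun i => (b2 i : R)) (fun i => (b3 i : R)))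
  let wt : Fin d1 ⊕ (Fin d2 ⊕ Fin d3) → ℕ := Sum.elim (fun _ => 1) (Sum.elim (fun _ => 2) (fun _ => 3))
  let q : Fin d1 ⊕ (Fin d2 ⊕ Fin d3) → ℕ := Sum.elim (fun _ => 6) (Sum.elim (fun _ => 3) (fun _ => 2))
  have hg : ∀ i, g i ∈ ℛ (wt i) := by
    rintro (i | i | i)
    · exact (b1 i).2
    · exact (b2 i).2
    · exact (b3 i).2
  have hqw : ∀ i, q i * wt i = 6 := by
    rintro (i | i | i) <;> rfl
  have hadj : Algebra.adjoin k (Set.range g) = ⊤ := by
    rw [eq_top_iff, ← hgen]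
    apply Algebra.adjoin_le
    rintro x ((hx | hx) | hx)
    · exact mem_adjoin_of_basis (ℛ 1) b1 _
        (fun i => Algebra.subset_adjoin (Set.mem_range_self (f := g) (Sum.inl i))) x hx
    · exact mem_adjoin_of_basis (ℛ 2) b2 _
        (fun i => Algebra.subset_adjoin (Set.mem_range_self (f := g) (Sum.inr (Sum.inl i)))) x hx
    · exact mem_adjoin_of_basis (ℛ 3) b3 _
        (fun i => Algebra.subset_adjoin (Set.mem_range_self (f := g) (Sum.inr (Sum.inr i)))) x hx
  obtain ⟨P, hP⟩ : ∃ P : MvPolynomial (Fin d1 ⊕ (Fin d2 ⊕ Fin d3)) k, MvPolynomial.aeval g P = f := by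
    have h1 : f ∈ (MvPolynomial.aeval (R := k) g).range := by
      rw [← Algebra.adjoin_range_eq_range_aeval, hadj]; exact Algebra.mem_top
    exact (AlgHom.mem_range _).1 h1
  -- the terms
  have hterm : ∀ a : (Fin d1 ⊕ (Fin d2 ⊕ Fin d3)) →₀ ℕ,
      MvPolynomial.aeval g (MvPolynomial.monomial a (P.coeff a)) =
        algebraMap k R (P.coeff a) * ∏ i, g i ^ a i := by
    intro a
    rw [MvPolynomial.aeval_monomial, Finsupp.prod_fintype]
    intro i; exact pow_zero _
  have hsum : f = ∑ a ∈ P.support, algebraMap k R (P.coeff a) * ∏ i, g i ^ a i := by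
    have h1 := congrArg (MvPolynomial.aeval g) P.as_sum
    rw [map_sum, hP] at h1
    rw [h1]
    exact Finset.sum_congr rfl (fun a _ => hterm a)
  have hwd : ∀ a : (Fin d1 ⊕ (Fin d2 ⊕ Fin d3)) →₀ ℕ,
      algebraMap k R (P.coeff a) * ∏ i, g i ^ a i ∈ ℛ (∑ i, a i * wt i) := by
    intro a
    rw [← Algebra.smul_def]
    exact Submodule.smul_mem _ _ (gprod_mem ℛ g wt hg a Finset.univ)
  have hproj : f = ∑ a ∈ P.support,
      (if ∑ i, a i * wt i = N then algebraMap k R (P.coeff a) * ∏ i, g i ^ a i else 0) := by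
    have h1 : GradedRing.proj ℛ N f = f := by
      rw [GradedRing.proj_apply]; exact DirectSum.decompose_of_mem_same ℛ hf
    rw [← h1]
    conv_lhs => rw [hsum]
    rw [map_sum]
    refine Finset.sum_congr rfl (fun a _ => ?_)
    split_ifs with h
    · rw [GradedRing.proj_apply]
      exact DirectSum.decompose_of_mem_same ℛ (h ▸ hwd a)
    · rw [GradedRing.proj_apply]
      exact DirectSum.decompose_of_mem_ne ℛ (hwd a) h
  rw [hproj]
  apply Submodule.sum_mem
  intro a _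
  split_ifs with h
  · -- pigeonhole
    have hex : ∃ i, q i ≤ a i := by
      by_contra hno
      have hno' : ∀ i, a i * wt i ≤ (q i - 1) * wt i := by
        intro i
        have : a i < q i := not_le.1 (fun h' => hno ⟨i, h'⟩)
        exact Nat.mul_le_mul_right _ (by omega)
      have h2 : ∑ i, a i * wt i ≤ ∑ i, (q i - 1) * wt i :=
        Finset.sum_le_sum (fun i _ => hno' i)
      have h3 : ∑ i, (q i - 1) * wt i = 5 * d1 + 4 * d2 + 3 * d3 := by
        rw [Fintype.sum_sum_type, Fintype.sum_sum_type]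
        simp only [q, wt, Sum.elim_inl, Sum.elim_inr, Finset.sum_const, Finset.card_univ,
          Fintype.card_fin, smul_eq_mul]
        ring
      omega
    obtain ⟨i0, hi0⟩ := hex
    have hsplit : ∏ i, g i ^ a i =
        g i0 ^ q i0 * (g i0 ^ (a i0 - q i0) * ∏ i ∈ Finset.univ.erase i0, g i ^ a i) := by
      rw [← Finset.mul_prod_erase Finset.univ _ (Finset.mem_univ i0), ← mul_assoc, ← pow_add,
        Nat.add_sub_cancel' hi0]
    have hu : g i0 ^ q i0 ∈ ℛ 6 := by
      have := gpow_mem ℛ g wt hg i0 (q i0)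
      rwa [hqw i0] at this
    have hv : algebraMap k R (P.coeff a) *
        (g i0 ^ (a i0 - q i0) * ∏ i ∈ Finset.univ.erase i0, g i ^ a i) ∈ ℛ (N - 6) := by
      rw [← Algebra.smul_def]
      apply Submodule.smul_mem
      have h4 := SetLike.mul_mem_graded (gpow_mem ℛ g wt hg i0 (a i0 - q i0))
        (gprod_mem ℛ g wt hg a (Finset.univ.erase i0))
      have h5 : (a i0 - q i0) * wt i0 + ∑ i ∈ Finset.univ.erase i0, a i * wt i = N - 6 := by
        have h6 := Finset.add_sum_erase Finset.univ (fun i => a i * wt i) (Finset.mem_univ i0)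
        have h7 : (a i0 - q i0) * wt i0 = a i0 * wt i0 - q i0 * wt i0 := Nat.sub_mul _ _ _
        have h8 : q i0 * wt i0 ≤ a i0 * wt i0 := Nat.mul_le_mul_right _ hi0
        have h9 := hqw i0
        rw [h] at h6
        rw [h7]
        omega
      rw [h5] at h4
      exact h4
    have e : algebraMap k R (P.coeff a) * ∏ i, g i ^ a i =
        g i0 ^ q i0 * (algebraMap k R (P.coeff a) *
          (g i0 ^ (a i0 - q i0) * ∏ i ∈ Finset.univ.erase i0, g i ^ a i)) := by
      rw [hsplit]; ring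
    rw [e]
    exact Submodule.mul_mem_mul hu hv
  · exact Submodule.zero_mem _

end

/-- Let k be a field and R a commutative ℕ-graded k-algebra with R_0 = k · 1 which is generated as a
k-algebra by R_1, R_2 and R_3, each a finite-dimensional k-vector space, of dimensions d_1, d_2,
d_3. Then for every natural number e ≥ 5 d_1 + 4 d_2 + 3 d_3 the (6e)-th Veronese subring of R is
generated in degree one over k: R_{6em} = (R_{6e})^m for every m > 0. -/
theorem result
    (k : Type u) [Field k] (R : Type u) [CommRing R] [Algebra k R]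
    (ℛ : ℕ → Submodule k R) [GradedAlgebra ℛ]
    (h0 : ℛ 0 = 1)
    (hgen : Algebra.adjoin k ((ℛ 1 : Set R) ∪ (ℛ 2 : Set R) ∪ (ℛ 3 : Set R)) = ⊤)
    [Module.Finite k (ℛ 1)] [Module.Finite k (ℛ 2)] [Module.Finite k (ℛ 3)]
    (e : ℕ) (he : 5 * Module.finrank k (ℛ 1) + 4 * Module.finrank k (ℛ 2) + 3 * Module.finrank k (ℛ 3) ≤ e)
    (m : ℕ) (hm : 0 < m) :
    ℛ (m * (6 * e)) = ℛ (6 * e) ^ m := by
  classical
  apply le_antisymm
  · -- hard direction
    have hstep : ∀ t : ℕ, ℛ (6 * e + 6 * t) ≤ ℛ 6 ^ t * ℛ (6 * e) := by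
      intro t
      induction t with
      | zero => simp
      | succ t ih =>
        have h1 : ℛ (6 * e + 6 * (t + 1)) ≤ ℛ 6 * ℛ (6 * e + 6 * (t + 1) - 6) :=
          key ℛ hgen _ (by omega)
        have h2 : 6 * e + 6 * (t + 1) - 6 = 6 * e + 6 * t := by omega
        rw [h2] at h1
        calc ℛ (6 * e + 6 * (t + 1)) ≤ ℛ 6 * ℛ (6 * e + 6 * t) := h1
          _ ≤ ℛ 6 * (ℛ 6 ^ t * ℛ (6 * e)) := mul_le_mul' le_rfl ih
          _ = ℛ 6 ^ (t + 1) * ℛ (6 * e) := by rw [pow_succ, mul_comm (ℛ 6 ^ t) (ℛ 6), mul_assoc]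
    obtain ⟨m', rfl⟩ : ∃ m', m = m' + 1 := ⟨m - 1, by omega⟩
    have h1 := hstep (e * m')
    have h2 : 6 * e + 6 * (e * m') = (m' + 1) * (6 * e) := by ring
    rw [h2] at h1
    calc ℛ ((m' + 1) * (6 * e)) ≤ ℛ 6 ^ (e * m') * ℛ (6 * e) := h1
      _ = (ℛ 6 ^ e) ^ m' * ℛ (6 * e) := by rw [pow_mul]
      _ ≤ ℛ (6 * e) ^ m' * ℛ (6 * e) := by
          have h3 : ℛ 6 ^ e ≤ ℛ (6 * e) := by
            have := pow_le ℛ 6 e
            rwa [mul_comm] at this
          exact mul_le_mul' (pow_le_pow_left' h3 m') le_rfl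
      _ = ℛ (6 * e) ^ (m' + 1) := by rw [pow_succ]
  · exact pow_le ℛ (6 * e) m

end Groth.Agent.S14053
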