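import Groth.Statements.S14066
import Mathlib
import Groth.Agent.Lib.Helper12.PnLinEmb
import Groth.Agent.Lib.Helper28.CoprodClosedImm

set_option autoImplicit false
universe u
open CategoryTheory CategoryTheory.Limits AlgebraicGeometry TopologicalSpace
open Variety

namespace Groth.Agent.S14066

/-- Let k be a field, and let X₁ and X₂ be k-schemes with closed immersions i₁ : X₁ → P^n_k and i₂ : X₂
→ P^m_k over k. Then there is a closed immersion of the disjoint union X₁ ⨿ X₂ into P^{n+m+1}_k over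
k, that is, compatible with the structure morphism of the coproduct induced by those of X₁ and X₂.
(Stated as the step of the published proof showing that a disjoint union of two projective k-schemes
is projective.) -/
theorem result (k : Type u) [Field k] (n m : ℕ)
    (X₁ X₂ : Scheme.{u}) [X₁.Over (Spec (CommRingCat.of k))] [X₂.Over (Spec (CommRingCat.of k))]
    (i₁ : X₁ ⟶ CohB1.ProjSpace n k) [IsClosedImmersion i₁] (h₁ : i₁ ≫ CohB1.ProjSpace.toSpec n k = X₁ ↘ (Spec (CommRingCat.of k)))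
    (i₂ : X₂ ⟶ CohB1.ProjSpace m k) [IsClosedImmersion i₂] (h₂ : i₂ ≫ CohB1.ProjSpace.toSpec m k = X₂ ↘ (Spec (CommRingCat.of k))) :
    ∃ j : X₁ ⨿ X₂ ⟶ CohB1.ProjSpace (n + m + 1) k, IsClosedImmersion j ∧
      j ≫ CohB1.ProjSpace.toSpec (n + m + 1) k = coprod.desc (X₁ ↘ (Spec (CommRingCat.of k))) (X₂ ↘ (Spec (CommRingCat.of k))) := by
  classical
  let f₁ : Fin (n + 1) → Fin (n + m + 1 + 1) := fun j => ⟨j.val, by omega⟩
  let f₂ : Fin (m + 1) → Fin (n + m + 1 + 1) := fun j => ⟨n + 1 + j.val, by omega⟩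
  have hf₁ : Function.Injective f₁ := by
    intro a b h
    have := congrArg Fin.val h
    exact Fin.ext this
  have hf₂ : Function.Injective f₂ := by
    intro a b h
    have h' : n + 1 + a.val = n + 1 + b.val := congrArg Fin.val h
    exact Fin.ext (by omega)
  have hdisj : Disjoint (Set.range f₁) (Set.range f₂) := by
    rw [Set.disjoint_left]
    rintro _ ⟨a, rfl⟩ ⟨b, hb⟩
    have h' : n + 1 + b.val = a.val := congrArg Fin.val hb
    have := a.2
    omega
  let a₁ := Groth.Agent.Lib.helper12.PnLinEmb.emb k f₁ hf₁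
  let a₂ := Groth.Agent.Lib.helper12.PnLinEmb.emb k f₂ hf₂
  have hd : Disjoint (Set.range (i₁ ≫ a₁)) (Set.range (i₂ ≫ a₂)) := by
    refine Disjoint.mono ?_ ?_
      (Groth.Agent.Lib.helper12.PnLinEmb.disjoint_range_emb k f₁ hf₁ f₂ hf₂ hdisj)
    · rintro _ ⟨y, rfl⟩
      exact ⟨i₁ y, rfl⟩
    · rintro _ ⟨y, rfl⟩
      exact ⟨i₂ y, rfl⟩
  refine ⟨coprod.desc (i₁ ≫ a₁) (i₂ ≫ a₂),
    Groth.Agent.Lib.helper28.CoprodClosedImm.isClosedImmersion_coprodDesc _ _ hd, ?_⟩
  apply coprod.hom_ext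
  · rw [coprod.inl_desc_assoc, coprod.inl_desc, Category.assoc,
      Groth.Agent.Lib.helper12.PnLinEmb.emb_toSpec, h₁]
  · rw [coprod.inr_desc_assoc, coprod.inr_desc, Category.assoc,
      Groth.Agent.Lib.helper12.PnLinEmb.emb_toSpec, h₂]

end Groth.Agent.S14066
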