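import Groth.Statements.S14074
import Mathlib
import Groth.Agent.Lib.Helper13.TDSm4
-- import your own Groth.Agent.* helpers here

set_option autoImplicit false
open CategoryTheory AlgebraicGeometry
universe u
attribute [local instance] HasDerivedCategory.standard
open FamCyc

namespace Groth.Agent.S14074

/-- Let h : B ⟶ S be a smooth morphism, φ : X ⟶ B a morphism locally of finite type and F a
quasi-coherent O_X-module of pointwise finite tor dimension over S, i.e. at every point x of X the
stalk F_x is, over the local ring of S below x, isomorphic in the derived category to a bounded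
complex of flat modules. Then F has finite tor dimension over B pointwise in the same sense. -/
theorem result {X B S : Scheme.{u}} (h : B ⟶ S) [Smooth h]
    (φ : X ⟶ B) [LocallyOfFiniteType φ] (F : X.Modules) (hF : Coh.IsQCoh F)
    (hS : ∀ x : X, ∃ a b : ℤ,
      DerSch.HasTorAmplitudeAt (φ ≫ h) a b ((HomologicalComplex.single X.Modules (ComplexShape.up ℤ) 0).obj F) x) :
    ∀ x : X, ∃ a b : ℤ,
      DerSch.HasTorAmplitudeAt φ a b ((HomologicalComplex.single X.Modules (ComplexShape.up ℤ) 0).obj F) x := by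
  intro x
  obtain ⟨a, b, hab⟩ := hS x
  obtain ⟨U, hU, V, hV, hx, e, hsm⟩ :=
    (Smooth.iff_forall_exists_isStandardSmooth (f := h)).mp inferInstance (φ.base x)
  obtain ⟨n, hn⟩ : ∃ n : ℕ, (h.appLE U V e).hom.IsStandardSmoothOfRelativeDimension n := by
    obtain ⟨ι, σ, hι, hσ, ⟨P⟩⟩ := hsm
    letI := (h.appLE U V e).hom.toAlgebra
    exact ⟨P.dimension, ⟨ι, σ, hι, hσ, P, rfl⟩⟩
  have h1 : DerSch.HasTorAmplitudeAt (φ ≫ h) (-(((-a).toNat : ℕ) : ℤ)) 0
      ((HomologicalComplex.single X.Modules (ComplexShape.up ℤ) 0).obj F) x := by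
    have h2 := Groth.Agent.Lib.helper23.TA.hasTorAmplitudeIn_of_iso
      (Groth.Agent.Lib.helper13.TDSm.stalkCxOverSingleIso (φ ≫ h) x F) hab
    have h3 := Groth.Agent.Lib.helper13.TDSm.hasTorAmplitudeIn_single_normalize _ a b h2
      (-a).toNat (by have := Int.self_le_toNat (-a); omega)
    exact Groth.Agent.Lib.helper23.TA.hasTorAmplitudeIn_of_iso
      (Groth.Agent.Lib.helper13.TDSm.stalkCxOverSingleIso (φ ≫ h) x F).symm h3
  exact ⟨_, _, Groth.Agent.Lib.helper13.TDSm.hasTorAmplitudeAt_of_comp_smooth φ h x F U hU V hV hx e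
    n hn (-a).toNat h1⟩

end Groth.Agent.S14074
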