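import Groth.Statements.S14078
-- import your own Groth.Agent.* helpers here
import Groth.Agent.Lib.Helper13.EL3

set_option autoImplicit false
open CategoryTheory CategoryTheory.Limits AlgebraicGeometry
universe u
open FamCyc

namespace Groth.Agent.S14078

/-- Let f : X ⟶ S be a morphism of schemes locally of finite type, i : Z ⟶ X an immersion such that Z ⟶
S is locally quasi-finite, and z a point of Z. Then there are an étale morphism g : T ⟶ S and an
open subscheme U of X ×_S T such that the preimage U ×_X Z of Z in U is finite over T and contains a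
point u over z whose residue field extension κ(z) → κ(u) is an isomorphism, u being moreover the
only point of U ×_X Z in its fibre over T. (The published statement covers algebraic spaces X, with
U ⟶ X ×_S T étale in general and an open subspace when X is a scheme; this row is the scheme case.) -/
theorem result {Z X S : Scheme.{u}} (f : X ⟶ S)
    [LocallyOfFiniteType f] (i : Z ⟶ X) [IsImmersion i] [LocallyQuasiFinite (i ≫ f)] (z : Z) :
    ∃ (T : Scheme.{u}) (g : T ⟶ S) (U : (pullback f g).Opens)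
      (u : ↥(pullback (U.ι ≫ pullback.fst f g) i)),
      Etale g ∧
      IsFinite (pullback.fst (U.ι ≫ pullback.fst f g) i ≫ U.ι ≫ pullback.snd f g) ∧
      (pullback.snd (U.ι ≫ pullback.fst f g) i).base u = z ∧
      IsIso ((pullback.snd (U.ι ≫ pullback.fst f g) i).residueFieldMap u) ∧
      ∀ u' : ↥(pullback (U.ι ≫ pullback.fst f g) i),
        (pullback.fst (U.ι ≫ pullback.fst f g) i ≫ U.ι ≫ pullback.snd f g).base u' =
          (pullback.fst (U.ι ≫ pullback.fst f g) i ≫ U.ι ≫ pullback.snd f g).base u → u' = u := by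
  classical
  have hx : (i ≫ f).QuasiFiniteAt z := Scheme.Hom.quasiFiniteAt (i ≫ f) z
  obtain ⟨T, g, u₀, hg, hgu, hbij, V, v, hvV, hfin, hsnd, hfst, huniq, -⟩ :=
    Groth.Agent.Lib.helper13.EL.exists_etale_nbhd_of_quasiFiniteAt (i ≫ f) z hx
  -- the immersion `Z ×_S T ⟶ X ×_S T`
  let j : pullback (i ≫ f) g ⟶ pullback f g :=
    pullback.map (i ≫ f) g f g i (𝟙 T) (𝟙 S) (by simp) (by simp)
  have hj1 : j ≫ pullback.fst f g = pullback.fst (i ≫ f) g ≫ i := pullback.lift_fst _ _ _
  have hj2 : j ≫ pullback.snd f g = pullback.snd (i ≫ f) g := by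
    simp only [j, pullback.map]
    rw [pullback.lift_snd, Category.comp_id]
  have hpb : IsPullback j (pullback.fst (i ≫ f) g) (pullback.fst f g) i := by
    refine IsPullback.of_right (h₁₂ := pullback.snd f g) (h₂₂ := f) (v₁₃ := g) ?_ hj1
      (IsPullback.of_hasPullback f g).flip
    rw [hj2]
    exact (IsPullback.of_hasPullback (i ≫ f) g).flip
  have hjimm : IsImmersion j := MorphismProperty.of_isPullback hpb.flip inferInstance
  -- an open `U` of `X ×_S T` with preimage `V`
  obtain ⟨U₀, hU₀, hU₀V⟩ := j.isEmbedding.isInducing.isOpen_iff.mp V.2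
  let U : (pullback f g).Opens := ⟨U₀, hU₀⟩
  obtain rfl : V = j ⁻¹ᵁ U := TopologicalSpace.Opens.ext hU₀V.symm
  have hpb2 : IsPullback (j ∣_ U) ((j ⁻¹ᵁ U).ι ≫ pullback.fst (i ≫ f) g)
      (U.ι ≫ pullback.fst f g) i :=
    ((isPullback_morphismRestrict j U).flip.paste_horiz hpb.flip).flip
  let e : (↑(j ⁻¹ᵁ U) : Scheme.{u}) ≅ pullback (U.ι ≫ pullback.fst f g) i := hpb2.isoPullback
  have he1 : e.hom ≫ pullback.fst (U.ι ≫ pullback.fst f g) i = j ∣_ U := hpb2.isoPullback_hom_fst
  have he2 : e.hom ≫ pullback.snd (U.ι ≫ pullback.fst f g) i =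
      (j ⁻¹ᵁ U).ι ≫ pullback.fst (i ≫ f) g := hpb2.isoPullback_hom_snd
  have he3 : e.hom ≫ pullback.fst (U.ι ≫ pullback.fst f g) i ≫ U.ι ≫ pullback.snd f g =
      (j ⁻¹ᵁ U).ι ≫ pullback.snd (i ≫ f) g := by
    rw [reassoc_of% he1, morphismRestrict_ι_assoc, hj2]
  have he3' : pullback.fst (U.ι ≫ pullback.fst f g) i ≫ U.ι ≫ pullback.snd f g =
      e.inv ≫ (j ⁻¹ᵁ U).ι ≫ pullback.snd (i ≫ f) g := by
    rw [← he3, Iso.inv_hom_id_assoc]
  have he2' : pullback.snd (U.ι ≫ pullback.fst f g) i =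
      e.inv ≫ (j ⁻¹ᵁ U).ι ≫ pullback.fst (i ≫ f) g := by
    rw [← he2, Iso.inv_hom_id_assoc]
  let v' : (↑(j ⁻¹ᵁ U) : Scheme.{u}) := ⟨v, hvV⟩
  have hv' : (j ⁻¹ᵁ U).ι v' = v := rfl
  have hev : e.inv (e.hom v') = v' := Scheme.hom_inv_apply e v'
  refine ⟨T, g, U, e.hom v', hg, ?_, ?_, ?_, ?_⟩
  · rw [he3']
    have := hfin
    infer_instance
  · rw [← Scheme.Hom.comp_apply, he2, Scheme.Hom.comp_apply, hv', hfst]
  · have h1 : Function.Bijective ((pullback.fst (i ≫ f) g).residueFieldMap v) :=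
      Groth.Agent.Lib.helper13.EL.bijective_residueFieldMap_fst v (by rw [hsnd]; exact hbij)
    have h2 : IsIso ((pullback.fst (i ≫ f) g).residueFieldMap v) :=
      (ConcreteCategory.isIso_iff_bijective _).mpr h1
    rw [he2']
    rw [Scheme.residueFieldMap_comp, Scheme.residueFieldMap_comp]
    have hpt : (j ⁻¹ᵁ U).ι (e.inv (e.hom v')) = v := by rw [hev, hv']
    have h3 : IsIso ((pullback.fst (i ≫ f) g).residueFieldMap
        ((j ⁻¹ᵁ U).ι (e.inv (e.hom v')))) := by
      rw [hpt]; exact h2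
    have h4 : IsIso ((j ⁻¹ᵁ U).ι.residueFieldMap (e.inv (e.hom v'))) := inferInstance
    have h5 : IsIso (e.inv.residueFieldMap (e.hom v')) := inferInstance
    exact @IsIso.comp_isIso _ _ _ _ _ _ _ (@IsIso.comp_isIso _ _ _ _ _ _ _ h3 h4) h5
  · intro u' hu'
    have h1 : pullback.snd (i ≫ f) g ((j ⁻¹ᵁ U).ι (e.inv u')) = u₀ := by
      have := hu'
      rw [he3'] at this
      simp only [Scheme.Hom.comp_apply] at this
      rw [this, hev, hv', hsnd]
    have h2 : (j ⁻¹ᵁ U).ι (e.inv u') = v := huniq _ (e.inv u').2 h1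
    have h3 : e.inv u' = v' := Subtype.ext h2
    rw [← h3, Scheme.inv_hom_apply]

end Groth.Agent.S14078
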