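import Groth.Statements.S14080
import Mathlib

set_option autoImplicit false
universe u
open ArSing

namespace Groth.Agent.S14080

open PowerSeries in
theorem algHom_ext_X {k : Type u} [Field k] (ψ1 ψ2 : PowerSeries k →ₐ[k] PowerSeries k)
    (hX : ψ1 X = ψ2 X) (h0 : constantCoeff (ψ1 X) = 0) : ψ1 = ψ2 := by
  obtain ⟨u, hu⟩ := X_dvd_iff.mpr h0
  have key : ∀ n : ℕ, ∀ f : PowerSeries k, (X : PowerSeries k) ^ n ∣ ψ1 f - ψ2 f := by
    intro n
    induction n with
    | zero => intro f; simp
    | succ n ih =>
      intro f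
      obtain ⟨w, hw⟩ := ih (mk fun p => coeff (p + 1) f)
      have hf := eq_X_mul_shift_add_const f
      have e : ψ1 f - ψ2 f = X ^ (n + 1) * (u * w) := by
        conv_lhs => rw [hf]
        have c1 : ψ1 (C (constantCoeff f)) = C (constantCoeff f) := ψ1.commutes _
        have c2 : ψ2 (C (constantCoeff f)) = C (constantCoeff f) := ψ2.commutes _
        rw [map_add, map_add, map_mul, map_mul, c1, c2, ← hX]
        have : ψ1 X * ψ1 (mk fun p => coeff (p + 1) f) + C (constantCoeff f) -
            (ψ1 X * ψ2 (mk fun p => coeff (p + 1) f) + C (constantCoeff f)) =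
            ψ1 X * (ψ1 (mk fun p => coeff (p + 1) f) - ψ2 (mk fun p => coeff (p + 1) f)) := by
          ring
        rw [this, hw, hu]; ring
      exact ⟨_, e⟩
  apply AlgHom.ext
  intro f
  rw [← sub_eq_zero]
  ext n
  have := (X_pow_dvd_iff.mp (key (n + 1) f)) n (Nat.lt_succ_self n)
  simpa using this


/-- Let k be a field in which 2 is invertible and σ an involutive k-algebra automorphism of the power
series ring k[[t]], with ξ the coefficient of t in σ(t). Then ξ^2 = 1, the k-algebra endomorphism φ
with φ(t) = (t + ξ σ(t))/2 is an automorphism, and φ⁻¹ σ φ is the automorphism t ↦ ξ t. (The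
published statement is over an algebraically closed field of characteristic prime to 2; only the
invertibility of 2 is used, so any field with 2 ≠ 0 is allowed here.) -/
theorem result (k : Type u) [Field k] (h2 : (2 : k) ≠ 0)
    (σ : PowerSeries k ≃ₐ[k] PowerSeries k) (hσ : ∀ f, σ (σ f) = f) :
    (PowerSeries.coeff 1 (σ PowerSeries.X)) ^ 2 = 1 ∧
    ∃ φ : PowerSeries k ≃ₐ[k] PowerSeries k,
      φ PowerSeries.X = PowerSeries.C (2⁻¹ : k) *
        (PowerSeries.X + PowerSeries.C (PowerSeries.coeff 1 (σ PowerSeries.X)) * σ PowerSeries.X) ∧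
      ∀ f, φ.symm (σ (φ f)) = PowerSeries.rescale (PowerSeries.coeff 1 (σ PowerSeries.X)) f := by
  classical
  set ξ := PowerSeries.coeff 1 (σ PowerSeries.X) with hξ
  -- (a) constant coefficient of σ X vanishes
  have h0 : PowerSeries.constantCoeff (σ PowerSeries.X) = 0 := by
    by_contra h
    have hu : IsUnit (σ (PowerSeries.X : PowerSeries k)) := by
      rw [PowerSeries.isUnit_iff_constantCoeff]; exact isUnit_iff_ne_zero.mpr h
    have hX : IsUnit (PowerSeries.X : PowerSeries k) := by
      have := hu.map σ.symm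
      simpa using this
    have := PowerSeries.isUnit_iff_constantCoeff.mp hX
    simp at this
  obtain ⟨u, hu⟩ := PowerSeries.X_dvd_iff.mpr h0
  have hu0 : PowerSeries.constantCoeff u = ξ := by
    rw [hξ, hu]
    have := PowerSeries.coeff_succ_X_mul 0 u
    simp
  -- (c) ξ ^ 2 = 1
  have hξ2 : ξ * ξ = 1 := by
    have hv := PowerSeries.eq_X_mul_shift_add_const u
    set v := (PowerSeries.mk fun p => PowerSeries.coeff (p + 1) u) with hvdef
    rw [hu0] at hv
    have e1 : (PowerSeries.X : PowerSeries k) = σ (σ PowerSeries.X) := (hσ _).symm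
    have e2 : σ (σ PowerSeries.X) = PowerSeries.X *
        (u * PowerSeries.C ξ + PowerSeries.X * (u ^ 2 * σ v)) := by
      have cc : σ (PowerSeries.C ξ) = PowerSeries.C ξ := σ.commutes ξ
      conv_lhs => rw [hu, hv]
      rw [map_mul, map_add, map_mul, cc, hu]
      ring
    have e3 : (PowerSeries.X : PowerSeries k) * 1 = PowerSeries.X *
        (u * PowerSeries.C ξ + PowerSeries.X * (u ^ 2 * σ v)) := by
      rw [mul_one]; exact e1.trans e2
    have e4 := mul_left_cancel₀ PowerSeries.X_ne_zero e3
    have e5 := congrArg PowerSeries.constantCoeff e4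
    simp [hu0] at e5
    exact e5.symm
  refine ⟨by rw [pow_two]; exact hξ2, ?_⟩
  -- (d) the substitution automorphism
  set g : PowerSeries k := PowerSeries.C (2⁻¹ : k) *
        (PowerSeries.X + PowerSeries.C ξ * σ PowerSeries.X) with hg
  have hg0 : PowerSeries.constantCoeff g = 0 := by
    simp [hg, h0]
  have hg1 : PowerSeries.coeff 1 g = 1 := by
    have : PowerSeries.coeff 1 g = 2⁻¹ * (1 + ξ * ξ) := by
      rw [hg, PowerSeries.coeff_C_mul, map_add, PowerSeries.coeff_C_mul, PowerSeries.coeff_one_X]
    rw [this, hξ2]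
    field_simp
    norm_num
  have hgu : IsUnit (PowerSeries.coeff 1 g) := by rw [hg1]; exact isUnit_one
  have hgS : PowerSeries.HasSubst g := PowerSeries.HasSubst.of_constantCoeff_zero' hg0
  set Q := PowerSeries.substInvOfIsUnit g hgu with hQ
  have hQS : PowerSeries.HasSubst Q := PowerSeries.HasSubst.substInvOfIsUnit g hgu
  have hr : g.subst Q = PowerSeries.X := PowerSeries.subst_substInvOfIsUnit_right g hg0 hgu
  have hl : Q.subst g = PowerSeries.X := PowerSeries.subst_substInvOfIsUnit_left g hg0 hgu
  let φ : PowerSeries k ≃ₐ[k] PowerSeries k :=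
    AlgEquiv.ofAlgHom (PowerSeries.substAlgHom hgS) (PowerSeries.substAlgHom hQS)
      (by
        apply AlgHom.ext
        intro f
        simp only [AlgHom.comp_apply, PowerSeries.coe_substAlgHom, AlgHom.id_apply]
        rw [PowerSeries.subst_comp_subst_apply hQS hgS, hl, PowerSeries.X_subst])
      (by
        apply AlgHom.ext
        intro f
        simp only [AlgHom.comp_apply, PowerSeries.coe_substAlgHom, AlgHom.id_apply]
        rw [PowerSeries.subst_comp_subst_apply hgS hQS, hr, PowerSeries.X_subst])
  have hφX : φ PowerSeries.X = g := by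
    show PowerSeries.substAlgHom hgS PowerSeries.X = g
    exact PowerSeries.substAlgHom_X hgS
  refine ⟨φ, hφX, ?_⟩
  -- (e) conjugation
  have hσg : σ g = PowerSeries.C (2⁻¹ : k) *
      (σ PowerSeries.X + PowerSeries.C ξ * PowerSeries.X) := by
    have cc : ∀ a : k, σ (PowerSeries.C a) = PowerSeries.C a := fun a => σ.commutes a
    rw [hg, map_mul, map_add, map_mul, cc, cc, hσ]
  have hCC : (PowerSeries.C ξ : PowerSeries k) * PowerSeries.C ξ = 1 := by
    rw [← map_mul, hξ2, map_one]
  have hres : ∀ f : PowerSeries k, PowerSeries.rescaleAlgHom ξ f = PowerSeries.rescale ξ f := by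
    intro f
    have := DFunLike.congr_fun (PowerSeries.coe_rescaleAlgHom ξ) f
    rwa [RingHom.coe_coe] at this
  have main : (σ : PowerSeries k →ₐ[k] PowerSeries k).comp (φ : PowerSeries k →ₐ[k] PowerSeries k)
      = (φ : PowerSeries k →ₐ[k] PowerSeries k).comp (PowerSeries.rescaleAlgHom ξ) := by
    apply algHom_ext_X
    · simp only [AlgHom.comp_apply, AlgEquiv.coe_toAlgHom, hres]
      have cc : ∀ a : k, φ (PowerSeries.C a) = PowerSeries.C a := fun a => φ.commutes a
      rw [PowerSeries.rescale_X, map_mul, cc, hφX, hσg, hg]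
      have : PowerSeries.C ξ * (PowerSeries.C (2⁻¹ : k) *
          (PowerSeries.X + PowerSeries.C ξ * σ PowerSeries.X)) =
          PowerSeries.C (2⁻¹ : k) * ((PowerSeries.C ξ * PowerSeries.C ξ) * σ PowerSeries.X +
            PowerSeries.C ξ * PowerSeries.X) := by ring
      rw [this, hCC, one_mul]
    · simp only [AlgHom.comp_apply, AlgEquiv.coe_toAlgHom]
      rw [hφX, hσg]
      simp [h0]
  intro f
  rw [AlgEquiv.symm_apply_eq]
  have := DFunLike.congr_fun main f
  simpa [hres] using this

end Groth.Agent.S14080
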