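import Groth.Statements.S14081
import Mathlib
import Groth.Agent.Lib.Helper10.ArNF9
import Groth.Agent.S14080

set_option autoImplicit false
universe u
open ArSing

namespace Groth.Agent.S14081

set_option linter.style.haveILetI false
set_option linter.unusedSectionVars false

open Groth.Agent.Lib.helper10.ArNF

theorem rescale_neg_C (k : Type u) [Field k] (c : k) :
    PowerSeries.rescale (-1 : k) (PowerSeries.C c) = PowerSeries.C c := by
  ext n
  rw [PowerSeries.coeff_rescale, PowerSeries.coeff_C]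
  split_ifs with h
  · subst h
    simp
  · simp

theorem main (k : Type u) [Field k] (r : ℕ)
    (h2 : (2 : k) ≠ 0) (hev : Even r)
    (σ : ArSing.ring k r ≃ₐ[k] ArSing.ring k r) (hσ : ∀ a, σ (σ a) = a) (hne : σ ≠ AlgEquiv.refl) :
    ∃ φ : ArSing.ring k r ≃ₐ[k] ArSing.ring k r,
      φ.symm (σ (φ (ArSing.x k r))) = ArSing.x k r ∧
      φ.symm (σ (φ (ArSing.y k r))) = -ArSing.y k r := by
  obtain ⟨m, hm'⟩ := hev
  have hm : r = 2 * m := by omega
  have hinj := nu_injective k r m hm
  have he : r + 1 = 2 * m + 1 := by omega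
  -- Step 1: the images of x, y under ν ∘ σ
  obtain ⟨X1, hX1⟩ : ∃ X1, X1 = nu k r (σ (ArSing.x k r)) := ⟨_, rfl⟩
  obtain ⟨Y1, hY1⟩ : ∃ Y1, Y1 = nu k r (σ (ArSing.y k r)) := ⟨_, rfl⟩
  have hYY : Y1 * Y1 = X1 ^ (2 * m + 1) := by
    rw [← he, hX1, hY1, ← map_mul, ← map_mul, y_mul_y, map_pow, xMap_X, map_pow, map_pow]
  have hx0 : ArSing.x k r ≠ 0 := by
    intro h
    have := nu_x k r
    rw [h, map_zero] at this
    exact pow_ne_zero 2 PowerSeries.X_ne_zero this.symm
  have hX1ne : X1 ≠ 0 := by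
    rw [hX1]
    intro h
    rw [← map_zero (nu k r)] at h
    have := hinj h
    rw [← map_zero σ] at this
    exact hx0 (σ.injective this)
  have hmem : σ (ArSing.x k r) ∈ IsLocalRing.maximalIdeal (ArSing.ring k r) := by
    rw [IsLocalRing.mem_maximalIdeal, mem_nonunits_iff]
    intro hu
    have hu' := hu.map σ.symm
    rw [AlgEquiv.symm_apply_apply] at hu'
    have := x_mem_maximalIdeal k r
    rw [IsLocalRing.mem_maximalIdeal, mem_nonunits_iff] at this
    exact this hu'
  have hX10 : PowerSeries.constantCoeff X1 = 0 := by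
    rw [hX1, constantCoeff_nu]
    exact (mem_maximalIdeal_iff k r _).mp hmem
  obtain ⟨S, hSS, hSY, hS0⟩ := exists_root k m X1 Y1 hYY hX1ne hX10
  have hSsub : PowerSeries.HasSubst S := PowerSeries.HasSubst.of_constantCoeff_zero' hS0
  obtain ⟨σt, hσt⟩ : ∃ σt : PowerSeries k →ₐ[k] PowerSeries k,
      σt = PowerSeries.substAlgHom hSsub := ⟨_, rfl⟩
  have hσtX : σt PowerSeries.X = S := by
    rw [hσt]
    exact PowerSeries.substAlgHom_X hSsub
  -- Step 2: ν ∘ σ = σt ∘ ν
  have hcomm : (nu k r).comp (σ : ArSing.ring k r →ₐ[k] ArSing.ring k r) = σt.comp (nu k r) := by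
    apply algHom_ext_xy
    · change nu k r (σ (ArSing.x k r)) = σt (nu k r (ArSing.x k r))
      rw [nu_x, map_pow, hσtX, ← hX1, ← hSS, pow_two]
    · change nu k r (σ (ArSing.y k r)) = σt (nu k r (ArSing.y k r))
      rw [nu_y, map_pow, hσtX, ← hY1, ← hSY, he]
    · change PowerSeries.X ∣ nu k r (σ (ArSing.x k r))
      rw [← hX1, PowerSeries.X_dvd_iff]
      exact hX10
  have hc : ∀ a, nu k r (σ a) = σt (nu k r a) := fun a => DFunLike.congr_fun hcomm a
  -- Step 3: σt is an involution
  have hT2 : σt (σt (PowerSeries.X ^ 2)) = PowerSeries.X ^ 2 := by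
    rw [← nu_x k r, ← hc, ← hc, hσ]
  have hTr : σt (σt (PowerSeries.X ^ (r + 1))) = PowerSeries.X ^ (r + 1) := by
    rw [← nu_y k r, ← hc, ← hc, hσ]
  obtain ⟨T, hT⟩ : ∃ T, T = σt (σt PowerSeries.X) := ⟨_, rfl⟩
  rw [map_pow, map_pow, ← hT] at hT2 hTr
  have h2' := two_ne_zero_ps k h2
  have hTX : T = PowerSeries.X := by
    have h1 : (T - PowerSeries.X) * (T + PowerSeries.X) = 0 := by
      have : (T - PowerSeries.X) * (T + PowerSeries.X) = T ^ 2 - PowerSeries.X ^ 2 := by ring
      rw [this, hT2, sub_self]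
    rcases mul_eq_zero.mp h1 with h | h
    · exact sub_eq_zero.mp h
    · exfalso
      have hTn : T = -PowerSeries.X := eq_neg_of_add_eq_zero_left h
      rw [hTn, he, Odd.neg_pow ⟨m, rfl⟩] at hTr
      have h3 : (2 : PowerSeries k) * PowerSeries.X ^ (2 * m + 1) = 0 := by
        linear_combination (-1 : PowerSeries k) * hTr
      rcases mul_eq_zero.mp h3 with h4 | h4
      · exact h2' h4
      · exact pow_ne_zero _ PowerSeries.X_ne_zero h4
  have hinv : ∀ f, σt (σt f) = f := by
    have : σt.comp σt = AlgHom.id k _ := by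
      apply algHom_ext_of_X_gen k PowerSeries.X (powerSeries_sep k)
      · change σt (σt PowerSeries.X) = PowerSeries.X
        rw [← hT, hTX]
      · refine ⟨1, ?_⟩
        change PowerSeries.X ∣ (σt (σt PowerSeries.X)) ^ 1
        rw [← hT, hTX, pow_one]
    intro f
    exact DFunLike.congr_fun this f
  -- Step 4: linearise
  obtain ⟨hξ2, φt, hφtX, hφt⟩ := Groth.Agent.S14080.result k h2 (equivOfInvol k σt hinv)
    (fun f => by rw [equivOfInvol_apply, equivOfInvol_apply]; exact hinv f)
  simp only [equivOfInvol_apply, hσtX] at hξ2 hφtX hφt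
  obtain ⟨ξ, hξ⟩ : ∃ ξ, ξ = PowerSeries.coeff 1 S := ⟨_, rfl⟩
  rw [← hξ] at hξ2 hφtX
  have hξ' : ξ = 1 ∨ ξ = -1 := by
    have : (ξ - 1) * (ξ + 1) = 0 := by linear_combination hξ2
    rcases mul_eq_zero.mp this with h | h
    · exact Or.inl (sub_eq_zero.mp h)
    · exact Or.inr (eq_neg_of_add_eq_zero_left h)
  rcases hξ' with hξ1 | hξ1
  · -- ξ = 1: σ is trivial
    exfalso
    apply hne
    apply AlgEquiv.ext
    intro a
    apply hinj
    change nu k r (σ a) = nu k r a
    rw [hc]
    have := hφt (φt.symm (nu k r a))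
    rw [← hξ, hξ1, PowerSeries.rescale_one, RingHom.id_apply, AlgEquiv.apply_symm_apply] at this
    exact φt.symm.injective this
  · -- ξ = -1
    have hSe : PowerSeries.X ^ m ∣ evenPart k S := by
      have h1 : PowerSeries.X ^ m ∣ oddPart k (S * S) := by
        rw [← mem_range_nu k r m hm]
        exact ⟨σ (ArSing.x k r), by rw [hSS, hX1]⟩
      have h3 : oddPart k (S * S) = (oddPart k S * 2) * evenPart k S := by
        rw [oddPart_mul]
        ring
      rw [h3] at h1
      have hu : IsUnit (oddPart k S * 2) := by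
        rw [PowerSeries.isUnit_iff_constantCoeff, map_mul, constantCoeff_oddPart, ← hξ, hξ1,
          map_ofNat]
        exact (isUnit_iff_ne_zero.mpr (neg_ne_zero.mpr one_ne_zero)).mul
          (isUnit_iff_ne_zero.mpr h2)
      exact (hu.dvd_mul_left).mp h1
    have hS2 := (evenPart_dvd_iff k h2 m S).mp hSe
    have hφe : PowerSeries.X ^ (2 * m) ∣
        PowerSeries.rescale (-1 : k) (φt PowerSeries.X) + φt PowerSeries.X := by
      have e : PowerSeries.rescale (-1 : k) (φt PowerSeries.X) + φt PowerSeries.X =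
          -(PowerSeries.C (2⁻¹ : k)) * (PowerSeries.rescale (-1 : k) S + S) := by
        rw [hφtX, hξ1, map_mul, map_add, map_mul, rescale_neg_C, rescale_neg_C,
          PowerSeries.rescale_X, map_neg, map_one]
        ring
      rw [e]
      exact Dvd.dvd.mul_left hS2 _
    have hpres : ∀ a, ∃ a', nu k r a' = φt (nu k r a) := by
      intro a
      rw [mem_range_nu k r m hm, oddPart_dvd_iff k h2]
      apply rho_preserve k (2 * m) φt hφe
      rw [← oddPart_dvd_iff k h2, ← mem_range_nu k r m hm]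
      exact ⟨a, rfl⟩
    have hpres' : ∀ a, ∃ a', nu k r a' = φt.symm (nu k r a) := by
      intro a
      rw [mem_range_nu k r m hm, oddPart_dvd_iff k h2]
      apply rho_preserve k (2 * m) φt.symm (rho_symm k (2 * m) φt hφe)
      rw [← oddPart_dvd_iff k h2, ← mem_range_nu k r m hm]
      exact ⟨a, rfl⟩
    obtain ⟨Φ, hΦ, hΦs⟩ := exists_liftEquiv k (nu k r) hinj φt hpres hpres'
    have key : ∀ a, nu k r (Φ.symm (σ (Φ a))) = PowerSeries.rescale (-1 : k) (nu k r a) := by
      intro a
      rw [hΦs, hc, hΦ, hφt, ← hξ, hξ1]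
    refine ⟨Φ, hinj ?_, hinj ?_⟩
    · rw [key, nu_x, map_pow, PowerSeries.rescale_X, map_neg, map_one]
      ring
    · rw [key, map_neg, nu_y, map_pow, PowerSeries.rescale_X, map_neg, map_one, neg_one_mul, he,
        Odd.neg_pow ⟨m, rfl⟩]



/-- Over an algebraically closed field k of characteristic prime to 2 and to r+1, with r even, every
non-trivial k-algebra involution σ of A_r = k[[x,y]]/(y^2 - x^(r+1)) is conjugate, by a k-algebra
automorphism φ of A_r, to the involution x ↦ x, y ↦ -y (that is, φ⁻¹σφ fixes the class of x and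
negates the class of y). -/
theorem result (k : Type u) [Field k] [IsAlgClosed k] (r : ℕ)
    (h2 : (2 : k) ≠ 0) (hr : ((r + 1 : ℕ) : k) ≠ 0) (hev : Even r)
    (σ : ArSing.ring k r ≃ₐ[k] ArSing.ring k r) (hσ : ∀ a, σ (σ a) = a) (hne : σ ≠ AlgEquiv.refl) :
    ∃ φ : ArSing.ring k r ≃ₐ[k] ArSing.ring k r,
      φ.symm (σ (φ (ArSing.x k r))) = ArSing.x k r ∧
      φ.symm (σ (φ (ArSing.y k r))) = -ArSing.y k r := by
  exact main k r h2 hev σ hσ hne

end Groth.Agent.S14081
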