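import Groth.Statements.S14082
import Mathlib
import Groth.Agent.Lib.Helper10.ArNF7
import Groth.Agent.S14080

set_option autoImplicit false
universe u
open ArSing

namespace Groth.Agent.S14082

set_option linter.style.haveILetI false
set_option linter.unusedSectionVars false

open Groth.Agent.Lib.helper10.ArNF

theorem sq_eq_one_cases {k : Type u} [Field k] (ξ : k) (h : ξ * ξ = 1) : ξ = 1 ∨ ξ = -1 := by
  have : (ξ - 1) * (ξ + 1) = 0 := by linear_combination h
  rcases mul_eq_zero.mp this with h | h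
  · left
    linear_combination h
  · right
    linear_combination h

theorem coeff_one_eq_of_dvd {k : Type u} [Field k] {m : ℕ} (hm : 2 ≤ m) {p q : PowerSeries k}
    (h : PowerSeries.X ^ m ∣ p - q) : PowerSeries.coeff 1 p = PowerSeries.coeff 1 q := by
  have := (PowerSeries.X_pow_dvd_iff.mp h) 1 (by omega)
  rw [map_sub, sub_eq_zero] at this
  exact this

theorem rescale_neg_one_X_pow {k : Type u} [Field k] (m : ℕ) :
    PowerSeries.rescale (-1 : k) ((PowerSeries.X : PowerSeries k) ^ m) =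
      PowerSeries.C ((-1 : k) ^ m) * PowerSeries.X ^ m := by
  rw [map_pow, PowerSeries.rescale_neg_one_X, neg_pow, map_pow, map_neg, map_one]

theorem main (k : Type u) [Field k] [IsAlgClosed k] (r : ℕ)
    (h2 : (2 : k) ≠ 0) (_hr : ((r + 1 : ℕ) : k) ≠ 0) (hodd : Odd r) (h3 : 3 ≤ r)
    (σ : ArSing.ring k r ≃ₐ[k] ArSing.ring k r) (hσ : ∀ a, σ (σ a) = a) (hne : σ ≠ AlgEquiv.refl) :
    ∃ φ : ArSing.ring k r ≃ₐ[k] ArSing.ring k r,
      (φ.symm (σ (φ (ArSing.x k r))) = ArSing.x k r ∧ φ.symm (σ (φ (ArSing.y k r))) = -ArSing.y k r) ∨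
      (φ.symm (σ (φ (ArSing.x k r))) = -ArSing.x k r ∧ φ.symm (σ (φ (ArSing.y k r))) = ArSing.y k r) ∨
      (φ.symm (σ (φ (ArSing.x k r))) = -ArSing.x k r ∧ φ.symm (σ (φ (ArSing.y k r))) = -ArSing.y k r) := by
  obtain ⟨m', hm'⟩ := hodd
  obtain ⟨m, hmdef⟩ : ∃ m, m = m' + 1 := ⟨_, rfl⟩
  have hr : r + 1 = 2 * m := by omega
  have hm2 : 2 ≤ m := by omega
  have hPx : brP k r m hr (ArSing.x k r) = PowerSeries.X := brP_x k r m hr
  have hMx : brM k r m hr (ArSing.x k r) = PowerSeries.X := brM_x k r m hr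
  have hPy : brP k r m hr (ArSing.y k r) = PowerSeries.X ^ m := brP_y k r m hr
  have hMy : brM k r m hr (ArSing.y k r) = -PowerSeries.X ^ m := brM_y k r m hr
  have hres1 : ∀ f : PowerSeries k, PowerSeries.rescale (1 : k) f = f := by
    intro f
    rw [PowerSeries.rescale_one]
    rfl
  have hresX : PowerSeries.rescale (-1 : k) PowerSeries.X = -PowerSeries.X :=
    PowerSeries.rescale_neg_one_X
  have hCC : ∀ c : k, ∀ τ : PowerSeries k →ₐ[k] PowerSeries k,
      τ (PowerSeries.C c) = PowerSeries.C c := fun c τ => τ.commutes c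
  -- sign of y under t ↦ -t
  have hsign : ((-1 : k) ^ m = 1 ∧ Even m) ∨ ((-1 : k) ^ m = -1 ∧ Odd m) := by
    rcases Nat.even_or_odd m with he | ho
    · exact Or.inl ⟨he.neg_one_pow, he⟩
    · exact Or.inr ⟨ho.neg_one_pow, ho⟩
  rcases preserve_or_swap k r m hr h2 σ with ⟨hp1, hp2⟩ | ⟨hs1, hs2⟩
  · -- σ preserves the branches
    have hPσ := brP_sigma_of_preserve k r m hr σ hp1
    have hMσ := brM_sigma_of_preserve k r m hr σ hp2
    have hinvP : ∀ f, indPP k r m hr σ (indPP k r m hr σ f) = f := by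
      intro f
      have e := brP_xMap k r m hr f
      rw [← e, ← hPσ, ← hPσ, hσ]
    have hinvM : ∀ f, indMM k r m hr σ (indMM k r m hr σ f) = f := by
      intro f
      have e := brM_xMap k r m hr f
      rw [← e, ← hMσ, ← hMσ, hσ]
    -- congruence of the induced maps
    have hcong : PowerSeries.X ^ m ∣ indPP k r m hr σ PowerSeries.X -
        indMM k r m hr σ PowerSeries.X := by
      have := br_sub_dvd k r m hr (σ (ArSing.x k r))
      rw [hPσ, hMσ, hPx, hMx] at this
      exact this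
    obtain ⟨hξP, φP, hφPX, hφP⟩ := Groth.Agent.S14080.result k h2
      (equivOfInvol k _ hinvP) (fun f => hinvP f)
    obtain ⟨hξM, φM, hφMX, hφM⟩ := Groth.Agent.S14080.result k h2
      (equivOfInvol k _ hinvM) (fun f => hinvM f)
    obtain ⟨ξ, hξdef⟩ : ∃ ξ, ξ = PowerSeries.coeff 1
      ((equivOfInvol k _ hinvP) (PowerSeries.X : PowerSeries k)) := ⟨_, rfl⟩
    have hξM' : PowerSeries.coeff 1 ((equivOfInvol k _ hinvM) (PowerSeries.X : PowerSeries k)) = ξ := by
      rw [hξdef]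
      exact (coeff_one_eq_of_dvd hm2 hcong).symm
    rw [← hξdef] at hξP hφP hφPX
    rw [hξM'] at hξM hφM hφMX
    have hφP' : ∀ f, φP.symm (indPP k r m hr σ (φP f)) = PowerSeries.rescale ξ f := hφP
    have hφM' : ∀ f, φM.symm (indMM k r m hr σ (φM f)) = PowerSeries.rescale ξ f := hφM
    have hφX : PowerSeries.X ^ m ∣ φP PowerSeries.X - φM PowerSeries.X := by
      rw [hφPX, hφMX]
      obtain ⟨u, hu⟩ := hcong
      change PowerSeries.X ^ m ∣ PowerSeries.C (2⁻¹ : k) * (PowerSeries.X + PowerSeries.C ξ *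
        indPP k r m hr σ PowerSeries.X) - PowerSeries.C (2⁻¹ : k) * (PowerSeries.X +
        PowerSeries.C ξ * indMM k r m hr σ PowerSeries.X)
      refine ⟨PowerSeries.C (2⁻¹ : k) * PowerSeries.C ξ * u, ?_⟩
      linear_combination (PowerSeries.C (2⁻¹ : k) * PowerSeries.C ξ) * hu
    obtain ⟨Φ, hΦ⟩ : ∃ Φ : ArSing.ring k r ≃ₐ[k] ArSing.ring k r,
        Φ = straight k r m hr h2 φP φM (compat_of_X k r m hr φP φM hφX)
          (compat_symm_of_X k r m hr φP φM hφX) := ⟨_, rfl⟩
    have hsP : ∀ a, brP k r m hr (Φ.symm (σ (Φ a))) =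
        PowerSeries.rescale ξ (brP k r m hr a) := by
      intro a
      rw [hΦ, brP_straight_symm, hPσ, brP_straight, hφP']
    have hsM : ∀ a, brM k r m hr (Φ.symm (σ (Φ a))) =
        PowerSeries.rescale ξ (brM k r m hr a) := by
      intro a
      rw [hΦ, brM_straight_symm, hMσ, brM_straight, hφM']
    rcases sq_eq_one_cases ξ (by rw [← pow_two]; exact hξP) with h1 | h1
    · -- ξ = 1 : σ is trivial
      exfalso
      apply hne
      apply AlgEquiv.ext
      intro b
      have h1' : ∀ a, Φ.symm (σ (Φ a)) = a := by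
        intro a
        apply eq_of_br k r m hr h2
        · rw [hsP, h1, hres1]
        · rw [hsM, h1, hres1]
      have h4 := h1' (Φ.symm b)
      rw [AlgEquiv.apply_symm_apply] at h4
      have := Φ.symm.injective h4
      rw [this]
      rfl
    · -- ξ = -1
      have hxx : Φ.symm (σ (Φ (ArSing.x k r))) = -ArSing.x k r := by
        apply eq_of_br k r m hr h2
        · rw [hsP, h1, map_neg, hPx, hresX]
        · rw [hsM, h1, map_neg, hMx, hresX]
      rcases hsign with ⟨hs, -⟩ | ⟨hs, -⟩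
      · refine ⟨Φ, Or.inr (Or.inl ⟨hxx, ?_⟩)⟩
        apply eq_of_br k r m hr h2
        · rw [hsP, h1, hPy, rescale_neg_one_X_pow, hs, map_one, one_mul]
        · rw [hsM, h1, hMy, map_neg, rescale_neg_one_X_pow, hs, map_one, one_mul]
      · refine ⟨Φ, Or.inr (Or.inr ⟨hxx, ?_⟩)⟩
        apply eq_of_br k r m hr h2
        · rw [hsP, h1, map_neg, hPy, rescale_neg_one_X_pow, hs, map_neg, map_one]
          ring
        · rw [hsM, h1, map_neg, hMy, map_neg, rescale_neg_one_X_pow, hs, map_neg, map_one]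
          ring
  · -- σ exchanges the branches
    have hPσ := brP_sigma_of_swap k r m hr σ hs1
    have hMσ := brM_sigma_of_swap k r m hr σ hs2
    have hβα : ∀ f, indPP k r m hr σ (indMM k r m hr σ f) = f := by
      intro f
      have e := brP_xMap k r m hr f
      rw [← e, ← hMσ, ← hPσ, hσ]
    have hαβ : ∀ f, indMM k r m hr σ (indPP k r m hr σ f) = f := by
      intro f
      have e := brM_xMap k r m hr f
      rw [← e, ← hPσ, ← hMσ, hσ]
    obtain ⟨αm, hαm⟩ : ∃ αm, αm = indMM k r m hr σ := ⟨_, rfl⟩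
    obtain ⟨βm, hβm⟩ : ∃ βm, βm = indPP k r m hr σ := ⟨_, rfl⟩
    rw [← hαm, ← hβm] at hβα hαβ
    rw [← hβm] at hPσ
    rw [← hαm] at hMσ
    obtain ⟨αE, hαE⟩ : ∃ αE : PowerSeries k ≃ₐ[k] PowerSeries k,
        αE = AlgEquiv.ofAlgHom αm βm (AlgHom.ext hαβ) (AlgHom.ext hβα) := ⟨_, rfl⟩
    have hαE1 : ∀ f, αE f = αm f := by
      intro f
      rw [hαE]
      rfl
    have hαE2 : ∀ f, αE.symm f = βm f := by
      intro f
      rw [hαE]
      rfl
    -- congruence β ≡ α
    have hcong : PowerSeries.X ^ m ∣ βm PowerSeries.X - αm PowerSeries.X := by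
      have := br_sub_dvd k r m hr (σ (ArSing.x k r))
      rw [hPσ, hMσ, hPx, hMx] at this
      exact this
    have hcong' : PowerSeries.X ^ m ∣ αm PowerSeries.X - βm PowerSeries.X := by
      have : αm PowerSeries.X - βm PowerSeries.X = -(βm PowerSeries.X - αm PowerSeries.X) := by ring
      rw [this]
      exact (dvd_neg).mpr hcong
    -- α ∘ α ≡ id
    have hαα : PowerSeries.X ^ m ∣ αm (αm PowerSeries.X) - PowerSeries.X := by
      have := X_pow_dvd_algHom_sub k m αm βm hcong' (αm PowerSeries.X)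
      rw [hβα] at this
      exact this
    obtain ⟨ξ, hξdef⟩ : ∃ ξ, ξ = PowerSeries.coeff 1 (αm PowerSeries.X) := ⟨_, rfl⟩
    have hαX0 : PowerSeries.constantCoeff (αm PowerSeries.X) = 0 := by
      rw [constantCoeff_algHom, PowerSeries.constantCoeff_X]
    have hξ2 : ξ * ξ = 1 := by
      have h4 := coeff_one_eq_of_dvd hm2 hαα
      rw [coeff_one_algHom k αm _ hαX0, ← hξdef, PowerSeries.coeff_one_X] at h4
      exact h4
    -- the linearising coordinate
    obtain ⟨g, hg⟩ : ∃ g : PowerSeries k, g = PowerSeries.C (2⁻¹ : k) *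
        (PowerSeries.X + PowerSeries.C ξ * αm PowerSeries.X) := ⟨_, rfl⟩
    have hg0 : PowerSeries.constantCoeff g = 0 := by
      rw [hg, map_mul, map_add, map_mul, hαX0, PowerSeries.constantCoeff_X, mul_zero, add_zero,
        mul_zero]
    have hg1 : PowerSeries.coeff 1 g = 1 := by
      rw [hg, PowerSeries.coeff_C_mul, map_add, PowerSeries.coeff_C_mul, PowerSeries.coeff_one_X,
        ← hξdef, hξ2]
      field_simp
      norm_num
    obtain ⟨γP, hγP⟩ := exists_algEquiv_X k g hg0 (by rw [hg1]; exact one_ne_zero)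
    obtain ⟨γM, hγM⟩ : ∃ γM : PowerSeries k ≃ₐ[k] PowerSeries k,
        γM = (rescaleEquiv k ξ hξ2).trans (γP.trans αE) := ⟨_, rfl⟩
    have hγM1 : ∀ f, γM f = αm (γP (PowerSeries.rescale ξ f)) := by
      intro f
      rw [hγM]
      change αE (γP (rescaleEquiv k ξ hξ2 f)) = _
      rw [hαE1, rescaleEquiv_apply]
    have hγM2 : ∀ f, γM.symm f = PowerSeries.rescale ξ (γP.symm (βm f)) := by
      intro f
      rw [hγM]
      change (rescaleEquiv k ξ hξ2).symm (γP.symm (αE.symm f)) = _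
      rw [hαE2, rescaleEquiv_symm_apply]
    have hCξ : (PowerSeries.C ξ : PowerSeries k) * PowerSeries.C ξ = 1 := by
      rw [← map_mul, hξ2, map_one]
    have e1 : γM PowerSeries.X = PowerSeries.C ξ * αm g := by
      rw [hγM1, PowerSeries.rescale_X, map_mul, hγP]
      have : γP (PowerSeries.C ξ) = PowerSeries.C ξ := γP.commutes ξ
      rw [this, map_mul, hCC]
    have e2 : αm g = PowerSeries.C (2⁻¹ : k) *
        (αm PowerSeries.X + PowerSeries.C ξ * αm (αm PowerSeries.X)) := by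
      rw [hg, map_mul, map_add, map_mul, hCC, hCC]
    have hγX : PowerSeries.X ^ m ∣ γP PowerSeries.X - γM PowerSeries.X := by
      obtain ⟨u, hu⟩ := hαα
      refine ⟨-(PowerSeries.C (2⁻¹ : k) * u), ?_⟩
      rw [hγP, e1, e2, hg]
      linear_combination (-(PowerSeries.C (2⁻¹ : k))) * hu +
        (-(PowerSeries.C (2⁻¹ : k) * αm (αm PowerSeries.X))) * hCξ
    obtain ⟨Φ, hΦ⟩ : ∃ Φ : ArSing.ring k r ≃ₐ[k] ArSing.ring k r,
        Φ = straight k r m hr h2 γP γM (compat_of_X k r m hr γP γM hγX)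
          (compat_symm_of_X k r m hr γP γM hγX) := ⟨_, rfl⟩
    have hΦP : ∀ a, brP k r m hr (Φ.symm (σ (Φ a))) =
        PowerSeries.rescale ξ (brM k r m hr a) := by
      intro a
      rw [hΦ, brP_straight_symm, hPσ, brM_straight, hγM1, hβα, AlgEquiv.symm_apply_apply]
    have hΦM : ∀ a, brM k r m hr (Φ.symm (σ (Φ a))) =
        PowerSeries.rescale ξ (brP k r m hr a) := by
      intro a
      rw [hΦ, brM_straight_symm, hMσ, brP_straight, hγM2, hβα, AlgEquiv.symm_apply_apply]
    rcases sq_eq_one_cases ξ hξ2 with h1 | h1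
    · -- ξ = 1
      refine ⟨Φ, Or.inl ⟨?_, ?_⟩⟩
      · apply eq_of_br k r m hr h2
        · rw [hΦP, h1, hres1, hMx, hPx]
        · rw [hΦM, h1, hres1, hMx, hPx]
      · apply eq_of_br k r m hr h2
        · rw [hΦP, h1, hres1, map_neg, hMy, hPy]
        · rw [hΦM, h1, hres1, map_neg, hMy, hPy, neg_neg]
    · -- ξ = -1
      have hxx : Φ.symm (σ (Φ (ArSing.x k r))) = -ArSing.x k r := by
        apply eq_of_br k r m hr h2
        · rw [hΦP, h1, map_neg, hPx, hMx, hresX]
        · rw [hΦM, h1, map_neg, hMx, hPx, hresX]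
      rcases hsign with ⟨hs, -⟩ | ⟨hs, -⟩
      · refine ⟨Φ, Or.inr (Or.inr ⟨hxx, ?_⟩)⟩
        apply eq_of_br k r m hr h2
        · rw [hΦP, h1, map_neg, hMy, hPy, map_neg, rescale_neg_one_X_pow, hs, map_one, one_mul]
        · rw [hΦM, h1, map_neg, hMy, hPy, rescale_neg_one_X_pow, hs, map_one, one_mul, neg_neg]
      · refine ⟨Φ, Or.inr (Or.inl ⟨hxx, ?_⟩)⟩
        apply eq_of_br k r m hr h2
        · rw [hΦP, h1, hMy, hPy, map_neg, rescale_neg_one_X_pow, hs, map_neg, map_one]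
          ring
        · rw [hΦM, h1, hMy, hPy, rescale_neg_one_X_pow, hs, map_neg, map_one]
          ring



/-- Over an algebraically closed field k of characteristic prime to 2 and to r+1, with r odd and r ≥ 3,
every non-trivial k-algebra involution σ of A_r = k[[x,y]]/(y^2 - x^(r+1)) is conjugate, by a
k-algebra automorphism φ of A_r, to one of the three involutions (x, y) ↦ (x, -y), (x, y) ↦ (-x, y),
(x, y) ↦ (-x, -y). -/
theorem result (k : Type u) [Field k] [IsAlgClosed k] (r : ℕ)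
    (h2 : (2 : k) ≠ 0) (hr : ((r + 1 : ℕ) : k) ≠ 0) (hodd : Odd r) (h3 : 3 ≤ r)
    (σ : ArSing.ring k r ≃ₐ[k] ArSing.ring k r) (hσ : ∀ a, σ (σ a) = a) (hne : σ ≠ AlgEquiv.refl) :
    ∃ φ : ArSing.ring k r ≃ₐ[k] ArSing.ring k r,
      (φ.symm (σ (φ (ArSing.x k r))) = ArSing.x k r ∧ φ.symm (σ (φ (ArSing.y k r))) = -ArSing.y k r) ∨
      (φ.symm (σ (φ (ArSing.x k r))) = -ArSing.x k r ∧ φ.symm (σ (φ (ArSing.y k r))) = ArSing.y k r) ∨
      (φ.symm (σ (φ (ArSing.x k r))) = -ArSing.x k r ∧ φ.symm (σ (φ (ArSing.y k r))) = -ArSing.y k r) := by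
  exact main k r h2 hr hodd h3 σ hσ hne

end Groth.Agent.S14082
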