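import Groth.Statements.S14083
import Mathlib
import Groth.Agent.Lib.Helper10.ArNF6
import Groth.Agent.S14080

set_option autoImplicit false
universe u
open ArSing

namespace Groth.Agent.S14083

set_option linter.style.haveILetI false
set_option linter.unusedSectionVars false

open Groth.Agent.Lib.helper10.ArNF

theorem sq_eq_one_cases {k : Type u} [Field k] (ξ : k) (h : ξ ^ 2 = 1) : ξ = 1 ∨ ξ = -1 := by
  have : (ξ - 1) * (ξ + 1) = 0 := by linear_combination h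
  rcases mul_eq_zero.mp this with h | h
  · left
    linear_combination h
  · right
    linear_combination h

theorem main (k : Type u) [Field k] [IsAlgClosed k]
    (h2 : (2 : k) ≠ 0)
    (σ : ArSing.ring k 1 ≃ₐ[k] ArSing.ring k 1) (hσ : ∀ a, σ (σ a) = a) (hne : σ ≠ AlgEquiv.refl) :
    ∃ φ : ArSing.ring k 1 ≃ₐ[k] ArSing.ring k 1,
      (φ.symm (σ (φ (ArSing.x k 1))) = ArSing.x k 1 ∧ φ.symm (σ (φ (ArSing.y k 1))) = -ArSing.y k 1) ∨
      (φ.symm (σ (φ (ArSing.x k 1))) = -ArSing.x k 1 ∧ φ.symm (σ (φ (ArSing.y k 1))) = -ArSing.y k 1) ∨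
      (φ.symm (σ (φ (ArSing.x k 1))) = ArSing.y k 1 ∧ φ.symm (σ (φ (ArSing.y k 1))) = ArSing.x k 1) := by
  have hr : 1 + 1 = 2 * 1 := rfl
  -- notation
  have hPx : brP k 1 1 hr (ArSing.x k 1) = PowerSeries.X := brP_x k 1 1 hr
  have hMx : brM k 1 1 hr (ArSing.x k 1) = PowerSeries.X := brM_x k 1 1 hr
  have hPy : brP k 1 1 hr (ArSing.y k 1) = PowerSeries.X := by
    rw [brP_y, pow_one]
  have hMy : brM k 1 1 hr (ArSing.y k 1) = -PowerSeries.X := by
    rw [brM_y, pow_one]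
  -- compatibility is automatic for m = 1
  have hcP : ∀ (α β : PowerSeries k →ₐ[k] PowerSeries k) (a : ArSing.ring k 1),
      PowerSeries.X ^ 1 ∣ α (brP k 1 1 hr a) - β (brM k 1 1 hr a) := by
    intro α β a
    have h1 := br_sub_dvd k 1 1 hr a
    rw [pow_one, PowerSeries.X_dvd_iff, map_sub] at h1 ⊢
    rw [constantCoeff_algHom, constantCoeff_algHom]
    exact h1
  have hcM : ∀ (α β : PowerSeries k →ₐ[k] PowerSeries k) (a : ArSing.ring k 1),
      PowerSeries.X ^ 1 ∣ α (brM k 1 1 hr a) - β (brP k 1 1 hr a) := by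
    intro α β a
    have h1 := br_sub_dvd k 1 1 hr a
    rw [pow_one, PowerSeries.X_dvd_iff, map_sub] at h1 ⊢
    rw [constantCoeff_algHom, constantCoeff_algHom]
    linear_combination -h1
  have hres1 : ∀ f : PowerSeries k, PowerSeries.rescale (1 : k) f = f := by
    intro f
    rw [PowerSeries.rescale_one]
    rfl
  have hresX : PowerSeries.rescale (-1 : k) PowerSeries.X = -PowerSeries.X :=
    PowerSeries.rescale_neg_one_X
  rcases preserve_or_swap k 1 1 hr h2 σ with ⟨hp1, hp2⟩ | ⟨hs1, hs2⟩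
  · -- σ preserves the branches
    have hPσ := brP_sigma_of_preserve k 1 1 hr σ hp1
    have hMσ := brM_sigma_of_preserve k 1 1 hr σ hp2
    have hinvP : ∀ f, indPP k 1 1 hr σ (indPP k 1 1 hr σ f) = f := by
      intro f
      have e := brP_xMap k 1 1 hr f
      rw [← e, ← hPσ, ← hPσ, hσ]
    have hinvM : ∀ f, indMM k 1 1 hr σ (indMM k 1 1 hr σ f) = f := by
      intro f
      have e := brM_xMap k 1 1 hr f
      rw [← e, ← hMσ, ← hMσ, hσ]
    obtain ⟨hξP, φP, -, hφP⟩ := Groth.Agent.S14080.result k h2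
      (equivOfInvol k _ hinvP) (fun f => hinvP f)
    obtain ⟨hξM, φM, -, hφM⟩ := Groth.Agent.S14080.result k h2
      (equivOfInvol k _ hinvM) (fun f => hinvM f)
    obtain ⟨ξP, hξPdef⟩ : ∃ ξ, ξ = PowerSeries.coeff 1
      ((equivOfInvol k _ hinvP) (PowerSeries.X : PowerSeries k)) := ⟨_, rfl⟩
    obtain ⟨ξM, hξMdef⟩ : ∃ ξ, ξ = PowerSeries.coeff 1
      ((equivOfInvol k _ hinvM) (PowerSeries.X : PowerSeries k)) := ⟨_, rfl⟩
    rw [← hξPdef] at hξP hφP
    rw [← hξMdef] at hξM hφM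
    have hφP' : ∀ f, φP.symm (indPP k 1 1 hr σ (φP f)) = PowerSeries.rescale ξP f := hφP
    have hφM' : ∀ f, φM.symm (indMM k 1 1 hr σ (φM f)) = PowerSeries.rescale ξM f := hφM
    -- the straight and cross conjugators
    have hc1 : ∀ a, PowerSeries.X ^ 1 ∣ φP (brP k 1 1 hr a) - φM (brM k 1 1 hr a) :=
      fun a => hcP (φP : PowerSeries k →ₐ[k] PowerSeries k) (φM : PowerSeries k →ₐ[k] PowerSeries k) a
    have hc2 : ∀ a, PowerSeries.X ^ 1 ∣ φP.symm (brP k 1 1 hr a) - φM.symm (brM k 1 1 hr a) :=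
      fun a => hcP (φP.symm : PowerSeries k →ₐ[k] PowerSeries k)
        (φM.symm : PowerSeries k →ₐ[k] PowerSeries k) a
    have hd1 : ∀ a, PowerSeries.X ^ 1 ∣ φP (brM k 1 1 hr a) - φM (brP k 1 1 hr a) :=
      fun a => hcM (φP : PowerSeries k →ₐ[k] PowerSeries k) (φM : PowerSeries k →ₐ[k] PowerSeries k) a
    have hd2 : ∀ a, PowerSeries.X ^ 1 ∣ φM.symm (brM k 1 1 hr a) - φP.symm (brP k 1 1 hr a) :=
      fun a => hcM (φM.symm : PowerSeries k →ₐ[k] PowerSeries k)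
        (φP.symm : PowerSeries k →ₐ[k] PowerSeries k) a
    obtain ⟨Φs, hΦs⟩ : ∃ Φ : ArSing.ring k 1 ≃ₐ[k] ArSing.ring k 1,
        Φ = straight k 1 1 hr h2 φP φM hc1 hc2 := ⟨_, rfl⟩
    obtain ⟨Φc, hΦc⟩ : ∃ Φ : ArSing.ring k 1 ≃ₐ[k] ArSing.ring k 1,
        Φ = cross k 1 1 hr h2 φP φM hd1 hd2 := ⟨_, rfl⟩
    have hsP : ∀ a, brP k 1 1 hr (Φs.symm (σ (Φs a))) =
        PowerSeries.rescale ξP (brP k 1 1 hr a) := by
      intro a
      rw [hΦs, brP_straight_symm, hPσ, brP_straight, hφP']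
    have hsM : ∀ a, brM k 1 1 hr (Φs.symm (σ (Φs a))) =
        PowerSeries.rescale ξM (brM k 1 1 hr a) := by
      intro a
      rw [hΦs, brM_straight_symm, hMσ, brM_straight, hφM']
    have hcP' : ∀ a, brP k 1 1 hr (Φc.symm (σ (Φc a))) =
        PowerSeries.rescale ξM (brP k 1 1 hr a) := by
      intro a
      rw [hΦc, brP_cross_symm, hMσ, brM_cross, hφM']
    have hcM' : ∀ a, brM k 1 1 hr (Φc.symm (σ (Φc a))) =
        PowerSeries.rescale ξP (brM k 1 1 hr a) := by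
      intro a
      rw [hΦc, brM_cross_symm, hPσ, brP_cross, hφP']
    rcases sq_eq_one_cases ξP hξP with hP1 | hP1 <;> rcases sq_eq_one_cases ξM hξM with hM1 | hM1
    · -- (1, 1): σ is trivial
      exfalso
      apply hne
      apply AlgEquiv.ext
      intro b
      have h1 : ∀ a, Φs.symm (σ (Φs a)) = a := by
        intro a
        apply eq_of_br k 1 1 hr h2
        · rw [hsP, hP1, hres1]
        · rw [hsM, hM1, hres1]
      have h3 := h1 (Φs.symm b)
      rw [AlgEquiv.apply_symm_apply] at h3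
      have := Φs.symm.injective h3
      rw [this]
      rfl
    · -- (1, -1): the swap
      refine ⟨Φs, Or.inr (Or.inr ⟨?_, ?_⟩)⟩
      · apply eq_of_br k 1 1 hr h2
        · rw [hsP, hP1, hres1, hPx, hPy]
        · rw [hsM, hM1, hMx, hMy, hresX]
      · apply eq_of_br k 1 1 hr h2
        · rw [hsP, hP1, hres1, hPx, hPy]
        · rw [hsM, hM1, hMx, hMy, map_neg, hresX, neg_neg]
    · -- (-1, 1): the swap, through the crossed conjugator
      refine ⟨Φc, Or.inr (Or.inr ⟨?_, ?_⟩)⟩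
      · apply eq_of_br k 1 1 hr h2
        · rw [hcP', hM1, hres1, hPx, hPy]
        · rw [hcM', hP1, hMx, hMy, hresX]
      · apply eq_of_br k 1 1 hr h2
        · rw [hcP', hM1, hres1, hPx, hPy]
        · rw [hcM', hP1, hMx, hMy, map_neg, hresX, neg_neg]
    · -- (-1, -1)
      refine ⟨Φs, Or.inr (Or.inl ⟨?_, ?_⟩)⟩
      · apply eq_of_br k 1 1 hr h2
        · rw [hsP, hP1, map_neg, hPx, hresX]
        · rw [hsM, hM1, map_neg, hMx, hresX]
      · apply eq_of_br k 1 1 hr h2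
        · rw [hsP, hP1, map_neg, hPy, hresX]
        · rw [hsM, hM1, map_neg, hMy, map_neg, hresX]
  · -- σ exchanges the branches
    have hPσ := brP_sigma_of_swap k 1 1 hr σ hs1
    have hMσ := brM_sigma_of_swap k 1 1 hr σ hs2
    have hβα : ∀ f, indPP k 1 1 hr σ (indMM k 1 1 hr σ f) = f := by
      intro f
      have e := brP_xMap k 1 1 hr f
      rw [← e, ← hMσ, ← hPσ, hσ]
    have hαβ : ∀ f, indMM k 1 1 hr σ (indPP k 1 1 hr σ f) = f := by
      intro f
      have e := brM_xMap k 1 1 hr f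
      rw [← e, ← hPσ, ← hMσ, hσ]
    obtain ⟨αE, hαE⟩ : ∃ αE : PowerSeries k ≃ₐ[k] PowerSeries k,
        αE = AlgEquiv.ofAlgHom (indMM k 1 1 hr σ) (indPP k 1 1 hr σ)
          (AlgHom.ext hαβ) (AlgHom.ext hβα) := ⟨_, rfl⟩
    have hαE1 : ∀ f, αE f = indMM k 1 1 hr σ f := by
      intro f
      rw [hαE]
      rfl
    have hαE2 : ∀ f, αE.symm f = indPP k 1 1 hr σ f := by
      intro f
      rw [hαE]
      rfl
    have hc1 : ∀ a, PowerSeries.X ^ 1 ∣ (AlgEquiv.refl : PowerSeries k ≃ₐ[k] PowerSeries k)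
        (brP k 1 1 hr a) - αE (brM k 1 1 hr a) :=
      fun a => hcP ((AlgEquiv.refl : PowerSeries k ≃ₐ[k] PowerSeries k) :
        PowerSeries k →ₐ[k] PowerSeries k) (αE : PowerSeries k →ₐ[k] PowerSeries k) a
    have hc2 : ∀ a, PowerSeries.X ^ 1 ∣ (AlgEquiv.refl : PowerSeries k ≃ₐ[k] PowerSeries k).symm
        (brP k 1 1 hr a) - αE.symm (brM k 1 1 hr a) :=
      fun a => hcP ((AlgEquiv.refl : PowerSeries k ≃ₐ[k] PowerSeries k).symm :
        PowerSeries k →ₐ[k] PowerSeries k) (αE.symm : PowerSeries k →ₐ[k] PowerSeries k) a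
    obtain ⟨Φ, hΦ⟩ : ∃ Φ : ArSing.ring k 1 ≃ₐ[k] ArSing.ring k 1,
        Φ = straight k 1 1 hr h2 AlgEquiv.refl αE hc1 hc2 := ⟨_, rfl⟩
    have hΦP : ∀ a, brP k 1 1 hr (Φ.symm (σ (Φ a))) = brM k 1 1 hr a := by
      intro a
      rw [hΦ, brP_straight_symm, hPσ, brM_straight, hαE1, hβα]
      rfl
    have hΦM : ∀ a, brM k 1 1 hr (Φ.symm (σ (Φ a))) = brP k 1 1 hr a := by
      intro a
      rw [hΦ, brM_straight_symm, hMσ, brP_straight, hαE2, hβα]
      rfl
    refine ⟨Φ, Or.inl ⟨?_, ?_⟩⟩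
    · apply eq_of_br k 1 1 hr h2
      · rw [hΦP, hMx, hPx]
      · rw [hΦM, hMx, hPx]
    · apply eq_of_br k 1 1 hr h2
      · rw [hΦP, map_neg, hMy, hPy]
      · rw [hΦM, map_neg, hMy, hPy, neg_neg]



/-- Over an algebraically closed field k of characteristic different from 2, every non-trivial k-algebra
involution σ of the node algebra A_1 = k[[x,y]]/(y^2 - x^2) is conjugate, by a k-algebra
automorphism φ of A_1, to one of the three involutions (x, y) ↦ (x, -y), (x, y) ↦ (-x, -y), (x, y) ↦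
(y, x). -/
theorem result (k : Type u) [Field k] [IsAlgClosed k]
    (h2 : (2 : k) ≠ 0)
    (σ : ArSing.ring k 1 ≃ₐ[k] ArSing.ring k 1) (hσ : ∀ a, σ (σ a) = a) (hne : σ ≠ AlgEquiv.refl) :
    ∃ φ : ArSing.ring k 1 ≃ₐ[k] ArSing.ring k 1,
      (φ.symm (σ (φ (ArSing.x k 1))) = ArSing.x k 1 ∧ φ.symm (σ (φ (ArSing.y k 1))) = -ArSing.y k 1) ∨
      (φ.symm (σ (φ (ArSing.x k 1))) = -ArSing.x k 1 ∧ φ.symm (σ (φ (ArSing.y k 1))) = -ArSing.y k 1) ∨
      (φ.symm (σ (φ (ArSing.x k 1))) = ArSing.y k 1 ∧ φ.symm (σ (φ (ArSing.y k 1))) = ArSing.x k 1) := by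
  exact main k h2 σ hσ hne

end Groth.Agent.S14083
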