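import Groth.Statements.S14091
import Mathlib

set_option autoImplicit false
universe u
open ArSing

namespace Groth.Agent.S14091

open Polynomial in
/-- Over an algebraically closed field k, a finite local k-algebra B whose cotangent space m/m^2 has
dimension at most one over the residue field is isomorphic, as a k-algebra, to k[t]/(t^n) with n =
dim_k B (curvilinear pointed algebras of degree n have a single isomorphism class). -/
theorem result (k B : Type u) [Field k] [IsAlgClosed k]
    [CommRing B] [IsLocalRing B] [Algebra k B] [Module.Finite k B]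
    (hcurv : Module.finrank (IsLocalRing.ResidueField B) (IsLocalRing.CotangentSpace B) ≤ 1) :
    Nonempty (B ≃ₐ[k] (Polynomial k ⧸ Ideal.span {(X : Polynomial k) ^ Module.finrank k B})) := by
  classical
  have hNoeth : IsNoetherianRing B := IsNoetherianRing.of_finite k B
  have hArt : IsArtinianRing B := IsArtinianRing.of_finite k B
  obtain ⟨t, ht⟩ : ∃ t, IsLocalRing.maximalIdeal B = Ideal.span {t} :=
    ((IsLocalRing.finrank_cotangentSpace_le_one_iff).1 hcurv).principal
  obtain ⟨N, hN⟩ : ∃ N, IsLocalRing.maximalIdeal B ^ N = 0 :=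
    (isArtinianRing_iff_isNilpotent_maximalIdeal B).1 hArt
  have htN : t ^ N = 0 := by
    have h1 : t ^ N ∈ IsLocalRing.maximalIdeal B ^ N := by
      rw [ht, Ideal.span_singleton_pow]
      exact Ideal.mem_span_singleton_self _
    rw [hN] at h1
    exact h1
  -- the residue field is k
  have hres : ∀ b : B, ∃ c : k, b - algebraMap k B c ∈ IsLocalRing.maximalIdeal B := by
    intro b
    have hfin : Module.Finite k (IsLocalRing.ResidueField B) :=
      Module.Finite.of_surjective
        (IsScalarTower.toAlgHom k B (IsLocalRing.ResidueField B)).toLinearMap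
        IsLocalRing.residue_surjective
    have hint : Algebra.IsIntegral k (IsLocalRing.ResidueField B) := Algebra.IsIntegral.of_finite k _
    obtain ⟨c, hc⟩ := (IsAlgClosed.algebraMap_bijective_of_isIntegral
      (k := k) (K := IsLocalRing.ResidueField B)).2 (IsLocalRing.residue B b)
    refine ⟨c, ?_⟩
    rw [← IsLocalRing.residue_eq_zero_iff, map_sub, ← hc]
    rw [sub_eq_zero]
    rfl
  let ψ : Polynomial k →ₐ[k] B := Polynomial.aeval t
  have hsurj : Function.Surjective ψ := by
    have claim : ∀ j : ℕ, ∀ b : B, ∃ p : Polynomial k,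
        b - ψ p ∈ IsLocalRing.maximalIdeal B ^ j := by
      intro j
      induction j with
      | zero => intro b; exact ⟨0, by simp⟩
      | succ j ih =>
        intro b
        obtain ⟨p, hp⟩ := ih b
        rw [ht, Ideal.span_singleton_pow, Ideal.mem_span_singleton'] at hp
        obtain ⟨b', hb'⟩ := hp
        obtain ⟨c, hc⟩ := hres b'
        rw [ht, Ideal.mem_span_singleton'] at hc
        obtain ⟨b'', hb''⟩ := hc
        refine ⟨p + Polynomial.C c * Polynomial.X ^ j, ?_⟩
        rw [ht, Ideal.span_singleton_pow, Ideal.mem_span_singleton']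
        refine ⟨b'', ?_⟩
        have h1 : ψ (p + Polynomial.C c * Polynomial.X ^ j) = ψ p + algebraMap k B c * t ^ j := by
          simp [ψ]
        have h2 : b'' * t ^ (j + 1) = (b'' * t) * t ^ j := by ring
        rw [h1, h2, hb'', sub_mul, hb']
        ring
    intro b
    obtain ⟨p, hp⟩ := claim N b
    rw [hN] at hp
    exact ⟨p, (sub_eq_zero.1 hp).symm⟩
  have hXN : (Polynomial.X : Polynomial k) ^ N ∈ RingHom.ker ψ := by
    rw [RingHom.mem_ker]
    simp [ψ, htN]
  obtain ⟨g, hg⟩ : ∃ g, RingHom.ker ψ = Ideal.span {g} :=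
    (IsPrincipalIdealRing.principal (RingHom.ker ψ)).principal
  have hgdvd : g ∣ Polynomial.X ^ N := by
    rw [hg] at hXN
    exact Ideal.mem_span_singleton.1 hXN
  obtain ⟨n, hn, hassoc⟩ := (dvd_prime_pow Polynomial.prime_X N).1 hgdvd
  have hker : RingHom.ker ψ = Ideal.span {(Polynomial.X : Polynomial k) ^ n} := by
    rw [hg]
    exact Ideal.span_singleton_eq_span_singleton.2 hassoc
  let e₁ : (Polynomial k ⧸ RingHom.ker ψ) ≃ₐ[k] B := Ideal.quotientKerAlgEquivOfSurjective hsurj
  let e₂ : (Polynomial k ⧸ RingHom.ker ψ) ≃ₐ[k]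
      (Polynomial k ⧸ Ideal.span {(Polynomial.X : Polynomial k) ^ n}) :=
    Ideal.quotientEquivAlgOfEq k hker
  have hfin : Module.finrank k B = n := by
    rw [← (e₂.symm.trans e₁).toLinearEquiv.finrank_eq, finrank_quotient_span_eq_natDegree,
      Polynomial.natDegree_X_pow]
  rw [hfin]
  exact ⟨(e₂.symm.trans e₁).symm⟩

end Groth.Agent.S14091
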