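import Groth.Statements.S14087
import Groth.Agent.S14091

set_option autoImplicit false
universe u
open ArSing

namespace Groth.Agent.S14087

open Polynomial

/-- every element is scalar + nilpotent -/
def SN (k B : Type*) [Field k] [CommRing B] [Algebra k B] : Prop :=
  ∀ b : B, ∃ c : k, IsNilpotent (b - algebraMap k B c)

theorem sn_trunc (k : Type u) [Field k] (n : ℕ) :
    SN k (Polynomial k ⧸ Ideal.span {(X : Polynomial k) ^ n}) := by
  intro b
  obtain ⟨p, rfl⟩ := Ideal.Quotient.mk_surjective b
  refine ⟨p.coeff 0, ?_⟩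
  have h1 : p = X * p.divX + C (p.coeff 0) := (Polynomial.X_mul_divX_add p).symm
  have h2 : Ideal.Quotient.mk (Ideal.span {(X : Polynomial k) ^ n}) p -
      algebraMap k _ (p.coeff 0) = Ideal.Quotient.mk _ (X * p.divX) := by
    have : algebraMap k (Polynomial k ⧸ Ideal.span {(X : Polynomial k) ^ n}) (p.coeff 0) =
      Ideal.Quotient.mk _ (C (p.coeff 0)) := rfl
    rw [this, ← map_sub]
    congr 1
    rw [sub_eq_iff_eq_add]
    exact h1
  rw [h2]
  refine ⟨n, ?_⟩
  rw [← map_pow, mul_pow, Ideal.Quotient.eq_zero_iff_mem]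
  exact Ideal.mul_mem_right _ _ (Ideal.subset_span rfl)

theorem sn_sub {k B : Type*} [Field k] [CommRing B] [Algebra k B] (h : SN k B)
    (A : Subalgebra k B) : SN k A := by
  intro a
  obtain ⟨c, m, hm⟩ := h (a : B)
  refine ⟨c, m, ?_⟩
  apply Subtype.ext
  simpa using hm

theorem sn_isUnit_iff {k B : Type*} [Field k] [CommRing B] [Algebra k B] [Nontrivial B]
    (b : B) (c : k) (hc : IsNilpotent (b - algebraMap k B c)) : IsUnit b ↔ c ≠ 0 := by
  constructor
  · intro hu hc0
    subst hc0
    rw [map_zero, sub_zero] at hc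
    obtain ⟨m, hm⟩ := hc
    have := hu.pow m
    rw [hm] at this
    exact not_isUnit_zero this
  · intro hc0
    have h1 : IsUnit (algebraMap k B c) := (IsUnit.mk0 c hc0).map _
    have h2 : b = algebraMap k B c + (b - algebraMap k B c) := by ring
    rw [h2]
    exact IsNilpotent.isUnit_add_left_of_commute hc h1 (Commute.all _ _)

theorem sn_isLocalRing {k B : Type*} [Field k] [CommRing B] [Algebra k B] [Nontrivial B]
    (h : SN k B) : IsLocalRing B := by
  refine IsLocalRing.of_isUnit_or_isUnit_one_sub_self fun b => ?_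
  obtain ⟨c, hc⟩ := h b
  by_cases hc0 : c = 0
  · right
    subst hc0
    rw [map_zero, sub_zero] at hc
    exact hc.isUnit_one_sub
  · left
    exact (sn_isUnit_iff b c hc).mpr hc0

theorem sn_isLocalHom {k B : Type*} [Field k] [CommRing B] [Algebra k B] [Nontrivial B]
    (h : SN k B) (A : Subalgebra k B) : IsLocalHom (algebraMap A B) := by
  refine ⟨fun a ha => ?_⟩
  obtain ⟨c, hc⟩ := sn_sub h A a
  have hc' : IsNilpotent ((a : B) - algebraMap k B c) := by
    obtain ⟨m, hm⟩ := hc
    refine ⟨m, ?_⟩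
    have := congrArg (Subtype.val) hm
    simpa using this
  have h1 : c ≠ 0 := (sn_isUnit_iff (a : B) c hc').mp ha
  exact (sn_isUnit_iff a c hc).mpr h1

theorem exists_mem_span_singleton_eq {B : Type*} [CommRing B] [IsLocalRing B] (G : Set B)
    (h0 : (0 : B) ∈ G) (hp : (Ideal.span G).IsPrincipal) :
    ∃ g ∈ G, Ideal.span G = Ideal.span {g} := by
  by_contra hcon
  push Not at hcon
  obtain ⟨b, hb⟩ := hp
  have hb' : Ideal.span G = Ideal.span {b} := hb
  have hle : Ideal.span G ≤ IsLocalRing.maximalIdeal B • Ideal.span G := by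
    rw [Ideal.span_le]
    intro g hg
    have hgJ : g ∈ Ideal.span {b} := hb' ▸ Ideal.subset_span hg
    obtain ⟨d, hd⟩ := Ideal.mem_span_singleton'.mp hgJ
    by_cases hdu : IsUnit d
    · exfalso
      apply hcon g hg
      rw [hb', ← hd]
      exact (Ideal.span_singleton_mul_left_unit hdu b).symm
    · have hdm : d ∈ IsLocalRing.maximalIdeal B := (IsLocalRing.mem_maximalIdeal d).mpr hdu
      have hbJ : b ∈ Ideal.span G := hb' ▸ Ideal.subset_span rfl
      rw [← hd]
      exact Submodule.smul_mem_smul hdm hbJ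
  have hfg : (Ideal.span G).FG := by
    rw [hb']; exact ⟨{b}, by simp⟩
  have hbot : Ideal.span G = ⊥ :=
    Submodule.eq_bot_of_le_smul_of_le_jacobson_bot _ _ hfg hle
      (IsLocalRing.maximalIdeal_le_jacobson _)
  apply hcon 0 h0
  rw [hbot]; simp


open Polynomial in
/-- Over an algebraically closed field k, if B = k[t]/(t^n) with n ≥ 1 is flat over a k-subalgebra A ⊆ B
(a finite flat extension of pointed finite algebras with curvilinear top), then A is curvilinear
too: A is isomorphic as a k-algebra to k[t]/(t^m) for some m. -/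
theorem result (k : Type u) [Field k] [IsAlgClosed k]
    (n : ℕ) (hn : 0 < n)
    (A : Subalgebra k (Polynomial k ⧸ Ideal.span {(X : Polynomial k) ^ n}))
    [Module.Flat A (Polynomial k ⧸ Ideal.span {(X : Polynomial k) ^ n})] :
    ∃ m : ℕ, Nonempty (A ≃ₐ[k] (Polynomial k ⧸ Ideal.span {(X : Polynomial k) ^ m})) := by
  have hnt : Nontrivial (Polynomial k ⧸ Ideal.span {(X : Polynomial k) ^ n}) := by
    apply Ideal.Quotient.nontrivial_iff.mpr
    rw [Ne, Ideal.span_singleton_eq_top, isUnit_pow_iff hn.ne']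
    exact Polynomial.not_isUnit_X
  have hfin : Module.Finite k (Polynomial k ⧸ Ideal.span {(X : Polynomial k) ^ n}) :=
    (Polynomial.monic_X_pow n).finite_adjoinRoot
  have hSN := sn_trunc k n
  have hlocB : IsLocalRing (Polynomial k ⧸ Ideal.span {(X : Polynomial k) ^ n}) := sn_isLocalRing hSN
  have hlocA : IsLocalRing A := sn_isLocalRing (sn_sub hSN A)
  have hlh : IsLocalHom (algebraMap A (Polynomial k ⧸ Ideal.span {(X : Polynomial k) ^ n})) :=
    sn_isLocalHom hSN A
  have hfl : @Module.Flat A (Polynomial k ⧸ Ideal.span {(X : Polynomial k) ^ n}) _ _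
      Algebra.toModule := ‹Module.Flat A (Polynomial k ⧸ Ideal.span {(X : Polynomial k) ^ n})›
  have hff : @Module.FaithfullyFlat A (Polynomial k ⧸ Ideal.span {(X : Polynomial k) ^ n}) _ _
      Algebra.toModule :=
    Module.FaithfullyFlat.of_flat_of_isLocalHom
  have hpir : IsPrincipalIdealRing (Polynomial k ⧸ Ideal.span {(X : Polynomial k) ^ n}) :=
    IsPrincipalIdealRing.of_surjective (Ideal.Quotient.mk _) Ideal.Quotient.mk_surjective
  have hfinA : Module.Finite k A := inferInstance
  have hnoeA : IsNoetherianRing A := IsNoetherianRing.of_finite k A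
  -- the generator
  set G : Set (Polynomial k ⧸ Ideal.span {(X : Polynomial k) ^ n}) :=
    (algebraMap A _) '' (IsLocalRing.maximalIdeal A : Set A) with hG
  have hmap : (IsLocalRing.maximalIdeal A).map (algebraMap A _) = Ideal.span G := rfl
  obtain ⟨g, ⟨a, ha, rfl⟩, hg⟩ := exists_mem_span_singleton_eq G ⟨0, zero_mem _, map_zero _⟩
    (IsPrincipalIdealRing.principal _)
  have hprin : IsLocalRing.maximalIdeal A = Ideal.span {a} := by
    rw [← Ideal.comap_map_eq_self_of_faithfullyFlat (B := (Polynomial k ⧸ Ideal.span {(X : Polynomial k) ^ n})) (IsLocalRing.maximalIdeal A),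
      ← Ideal.comap_map_eq_self_of_faithfullyFlat (B := (Polynomial k ⧸ Ideal.span {(X : Polynomial k) ^ n})) (Ideal.span {a}),
      hmap, hg, Ideal.map_span, Set.image_singleton]
  have hcurv : Module.finrank (IsLocalRing.ResidueField A) (IsLocalRing.CotangentSpace A) ≤ 1 := by
    rw [IsLocalRing.finrank_cotangentSpace_le_one_iff, hprin]
    exact ⟨a, rfl⟩
  exact ⟨_, Groth.Agent.S14091.result k A hcurv⟩

end Groth.Agent.S14087
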