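import Groth.Statements.S14088
import Mathlib

set_option autoImplicit false
universe u
open ArSing

namespace Groth.Agent.S14088

/-- coefficient -/
noncomputable def cf (A : Type u) [CommRing A] (m n s : ℕ) : A :=
  (-1 : A) ^ s * (Nat.factorial s : A) * (Nat.choose n s : A) * (Nat.choose m s : A)

/-- rising product -/
noncomputable def Pf {A : Type u} [CommRing A] (h τ : A) (k : ℕ) : A :=
  ∏ i ∈ Finset.range k, (h + (i : A) * τ)

theorem Pf_zero {A : Type u} [CommRing A] (h τ : A) : Pf h τ 0 = 1 := by
  unfold Pf; rw [Finset.range_zero, Finset.prod_empty]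

theorem Pf_succ {A : Type u} [CommRing A] (h τ : A) (k : ℕ) :
    Pf h τ (k + 1) = Pf h τ k * (h + (k : A) * τ) := by
  unfold Pf; exact Finset.prod_range_succ _ _

theorem cf_zero (A : Type u) [CommRing A] (m n : ℕ) : cf A m n 0 = 1 := by
  unfold cf; simp

theorem cf_top (A : Type u) [CommRing A] (m n : ℕ) : cf A m n (n + 1) = 0 := by
  unfold cf; rw [Nat.choose_succ_self]; simp

theorem cf_rec (A : Type u) [CommRing A] (m n s : ℕ) (hs : s ≤ m) :
    cf A m (n + 1) (s + 1) = cf A m n (s + 1) - cf A m n s * ((m : A) - (s : A)) := by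
  unfold cf
  have hN : ((Nat.choose m (s + 1) : ℕ) : A) * ((s : A) + 1) =
      (Nat.choose m s : A) * ((m : A) - (s : A)) := by
    have h1 := Nat.choose_succ_right_eq m s
    have h2 := congrArg (Nat.cast : ℕ → A) h1
    rw [Nat.cast_mul, Nat.cast_mul, Nat.cast_add, Nat.cast_one, Nat.cast_sub hs] at h2
    exact h2
  rw [Nat.choose_succ_succ' n s, Nat.factorial_succ, pow_succ]
  push_cast
  linear_combination (-((-1 : A) ^ s * (Nat.factorial s : A) * (Nat.choose n s : A))) * hN

theorem lin (A : Type u) [CommRing A] (h τ : A) (m : ℕ) : ∀ n, n ≤ m →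
    Pf h τ n * Pf h τ m =
      ∑ s ∈ Finset.range (n + 1), cf A m n s * (τ ^ s * Pf h τ (m + n - s)) := by
  intro n
  induction n with
  | zero =>
    intro _
    rw [Pf_zero, one_mul, Finset.sum_range_one, cf_zero, pow_zero, one_mul, one_mul]
    rfl
  | succ n ih =>
    intro hnm
    have ih' := ih (by omega)
    have hHn : ∀ s, s ≤ n → (h + (n : A) * τ) * Pf h τ (m + n - s) =
        Pf h τ (m + (n + 1) - s) - ((m : A) - (s : A)) * τ * Pf h τ (m + n - s) := by
      intro s hs
      have hk : m + (n + 1) - s = (m + n - s) + 1 := by omega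
      rw [hk, Pf_succ]
      have hc : ((m + n - s : ℕ) : A) = (m : A) + (n : A) - (s : A) := by
        rw [Nat.cast_sub (by omega), Nat.cast_add]
      rw [hc]
      ring
    have e1 : ∑ s ∈ Finset.range (n + 1), cf A m n s * (τ ^ s * Pf h τ (m + (n + 1) - s)) =
        ∑ s ∈ Finset.range (n + 1),
          cf A m n (s + 1) * (τ ^ (s + 1) * Pf h τ (m + (n + 1) - (s + 1))) +
        cf A m n 0 * (τ ^ 0 * Pf h τ (m + (n + 1) - 0)) := by
      have h1 := Finset.sum_range_succ'
        (fun s => cf A m n s * (τ ^ s * Pf h τ (m + (n + 1) - s))) (n + 1)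
      have h2 := Finset.sum_range_succ
        (fun s => cf A m n s * (τ ^ s * Pf h τ (m + (n + 1) - s))) (n + 1)
      rw [← h1, h2, cf_top, zero_mul, add_zero]
    calc Pf h τ (n + 1) * Pf h τ m = (h + (n : A) * τ) * (Pf h τ n * Pf h τ m) := by
          rw [Pf_succ]; ring
      _ = ∑ s ∈ Finset.range (n + 1),
            (h + (n : A) * τ) * (cf A m n s * (τ ^ s * Pf h τ (m + n - s))) := by
          rw [ih', Finset.mul_sum]
      _ = ∑ s ∈ Finset.range (n + 1), (cf A m n s * (τ ^ s * Pf h τ (m + (n + 1) - s)) -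
            cf A m n s * ((m : A) - (s : A)) *
              (τ ^ (s + 1) * Pf h τ (m + (n + 1) - (s + 1)))) := by
          apply Finset.sum_congr rfl
          intro s hs
          have hs' : s ≤ n := Nat.lt_succ_iff.mp (Finset.mem_range.mp hs)
          have hk2 : m + (n + 1) - (s + 1) = m + n - s := by omega
          rw [hk2]
          linear_combination (cf A m n s * τ ^ s) * hHn s hs'
      _ = ∑ s ∈ Finset.range (n + 1), cf A m n s * (τ ^ s * Pf h τ (m + (n + 1) - s)) -
            ∑ s ∈ Finset.range (n + 1), cf A m n s * ((m : A) - (s : A)) *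
              (τ ^ (s + 1) * Pf h τ (m + (n + 1) - (s + 1))) := Finset.sum_sub_distrib _ _
      _ = ∑ s ∈ Finset.range (n + 1),
            cf A m (n + 1) (s + 1) * (τ ^ (s + 1) * Pf h τ (m + (n + 1) - (s + 1))) +
          cf A m (n + 1) 0 * (τ ^ 0 * Pf h τ (m + (n + 1) - 0)) := by
          rw [e1, cf_zero, cf_zero, add_sub_right_comm, ← Finset.sum_sub_distrib]
          congr 1
          apply Finset.sum_congr rfl
          intro s hs
          have hs' : s ≤ n := Nat.lt_succ_iff.mp (Finset.mem_range.mp hs)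
          rw [cf_rec A m n s (by omega)]
          ring
      _ = ∑ s ∈ Finset.range (n + 1 + 1),
            cf A m (n + 1) s * (τ ^ s * Pf h τ (m + (n + 1) - s)) :=
          (Finset.sum_range_succ'
            (fun s => cf A m (n + 1) s * (τ ^ s * Pf h τ (m + (n + 1) - s))) (n + 1)).symm



/-- The identity behind the torus-equivariant classes h_i = h_0 + i τ of the coordinate hyperplanes of a
projective space of binary forms, stated in an arbitrary commutative ring: for n ≤ m, (h_0 ⋯
h_(n-1))^2 · h_n ⋯ h_(m-1) equals the sum over s = 0, …, n of (-1)^s s! (n choose s) (m choose s)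
τ^s h_0 ⋯ h_(m+n-s-1), where h_i = h + i τ. (The published statement is in the equivariant Chow ring
of that projective space; only the relations h_i = h_j + (j - i) τ are used, so it holds in any
commutative ring.) -/
theorem result (A : Type u) [CommRing A] (h τ : A) (n m : ℕ) (hnm : n ≤ m) :
    (∏ i ∈ Finset.range n, (h + (i : A) * τ) ^ 2) * ∏ i ∈ Finset.Ico n m, (h + (i : A) * τ) =
      ∑ s ∈ Finset.range (n + 1), (-1 : A) ^ s * (Nat.factorial s : A) * (Nat.choose n s : A) *
        (Nat.choose m s : A) * τ ^ s * ∏ i ∈ Finset.range (m + n - s), (h + (i : A) * τ) := by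
  have h1 := lin A h τ m n hnm
  have hL : (∏ i ∈ Finset.range n, (h + (i : A) * τ) ^ 2) * ∏ i ∈ Finset.Ico n m, (h + (i : A) * τ) =
      Pf h τ n * Pf h τ m := by
    rw [Finset.prod_pow, sq, mul_assoc]
    unfold Pf
    rw [Finset.prod_range_mul_prod_Ico _ hnm]
  rw [hL, h1]
  apply Finset.sum_congr rfl
  intro s _
  unfold cf Pf
  ring


end Groth.Agent.S14088
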