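import Groth.Statements.S14089
import Groth.Agent.Lib.Helper28.BlowUpFlat
import Groth.Agent.Lib.Helper16.BlowUpProper

set_option autoImplicit false
universe u
open CategoryTheory AlgebraicGeometry
open BlowUp

namespace Groth.Agent.S14089

/-- Let f : X → S be flat, proper and of finite presentation, 𝓘 a quasi-coherent ideal of finite type on
X with V(𝓘^m) flat over S for all m ≥ 1, and b : X' → X a blowing up of X in 𝓘. Then X' is flat and
proper over S, and blowing up commutes with every base change T → S: if X_T = X ×_S T and X'_T = X'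
×_X X_T, the projection X'_T → X_T is a blowing up of X_T in the inverse image of 𝓘. (The published
statement puts no finiteness condition on the ideal; for S = X the spectrum of an infinite product
of fields and 𝓘 the ideal of finitely supported sequences every V(𝓘^m) is flat, yet the blow-up is a
non-quasi-compact open subscheme, not proper — so the ideal is taken of finite type here, and finite
presentation of X' over S is not asserted.) -/
theorem result {X X' S T XT XT' : Scheme.{u}}
    (f : X ⟶ S) [Flat f] [IsProper f] [LocallyOfFinitePresentation f]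
    (𝓘 : X.IdealSheafData) (hft : BlowUp.IsFiniteTypeIdeal 𝓘)
    (hfl : ∀ m : ℕ, 1 ≤ m → Flat ((𝓘 ^ m).subschemeι ≫ f))
    (b : X' ⟶ X) (hb : BlowUp.IsBlowUp b 𝓘)
    (g : T ⟶ S) (pX : XT ⟶ X) (fT : XT ⟶ T) (hX : IsPullback pX fT f g)
    (pX' : XT' ⟶ X') (bT : XT' ⟶ XT) (hX' : IsPullback pX' bT b pX) :
    Flat (b ≫ f) ∧ IsProper (b ≫ f) ∧ BlowUp.IsBlowUp bT (𝓘.comap pX) := by
  have hflat : ∀ n : ℕ, Flat ((𝓘 ^ (n + 1)).subschemeι ≫ f) := fun n => hfl (n + 1) (Nat.le_add_left 1 n)
  have h1 : Flat ((𝓘.comap b).subschemeι ≫ b ≫ f) :=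
    Groth.Agent.Lib.helper28.BlowUpFlat.flat_exceptional f 𝓘 hflat b hb
  have h2 : Flat (b ≫ f) :=
    Groth.Agent.Lib.helper28.BlowUpFlat.flat_comp_of_isBlowUp f 𝓘 hflat b hb
  have h3 : IsProper b :=
    Groth.Agent.Lib.helper16.BlowUpProper.isProper_of_isBlowUp 𝓘 b hb (fun x => by
      obtain ⟨U, hU, hxU, -⟩ := TopologicalSpace.Opens.isBasis_iff_nbhd.mp X.isBasis_affineOpens
        (TopologicalSpace.Opens.mem_top x)
      exact ⟨⟨U, hU⟩, hxU, hft ⟨U, hU⟩⟩)
  refine ⟨h2, inferInstance, ?_⟩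
  refine Groth.Agent.Lib.helper28.BlowUpFlat.isBlowUp_of_isPullback 𝓘 b hb pX pX' bT hX' ?_
  have hbig : IsPullback pX' (bT ≫ fT) (b ≫ f) g := hX'.paste_vert hX
  exact Groth.Agent.Lib.helper28.BlowUpFlat.isEffCartier_comap_of_isPullback (𝓘.comap b) hb.1
    (b ≫ f) h1 g pX' (bT ≫ fT) hbig

end Groth.Agent.S14089
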