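import Groth.Statements.S1409
import Mathlib
-- import your own Groth.Agent.* helpers here

set_option autoImplicit false
universe u
open FlatMor

namespace Groth.Agent.S1409

section helpers
theorem exists_mul_pow_eq_zero {R : Type*} [CommRing R] {P : Ideal R} (hP : P ∈ minimalPrimes R)
    {x : R} (hx : x ∈ P) : ∃ y ∉ P, ∃ n : ℕ, y * x ^ n = 0 := by
  have hPp : P.IsPrime := Ideal.IsMinimalPrime.isPrime hP
  have h := IsLocalization.AtPrime.radical_map_of_mem_minimalPrimes
    (A := Localization.AtPrime P) P ⊥ hP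
  have hx' : algebraMap R (Localization.AtPrime P) x ∈
      P.map (algebraMap R (Localization.AtPrime P)) := Ideal.mem_map_of_mem _ hx
  rw [← h, Ideal.map_bot] at hx'
  obtain ⟨n, hn⟩ := hx'
  rw [Ideal.mem_bot, ← map_pow, IsLocalization.map_eq_zero_iff P.primeCompl] at hn
  obtain ⟨t, ht⟩ := hn
  exact ⟨t.1, t.2, n, ht⟩

section
variable {ι : Type u} [Preorder ι] [IsDirected ι (· ≤ ·)] [Nonempty ι] (G : ι → Type u)
  [∀ i, CommRing (G i)] (f : ∀ i j, i ≤ j → G i →+* G j) [DirectedSystem G fun i j h => f i j h]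

set_option quotPrecheck false in
local notation "R" => Ring.DirectLimit G fun i j h => ⇑(f i j h)
set_option quotPrecheck false in
local notation "φ" => Ring.DirectLimit.of G fun i j h => ⇑(f i j h)

theorem comap_compat (P : Ideal R) {i j : ι} (h : i ≤ j) :
    Ideal.comap (f i j h) (Ideal.comap (φ j) P) = Ideal.comap (φ i) P := by
  ext x
  simp only [Ideal.mem_comap]
  rw [Ring.DirectLimit.of_f]

theorem claim1 (hflat : ∀ i j (h : i ≤ j), letI := (f i j h).toAlgebra; Module.Flat (G i) (G j))
    (hinj : ∀ i j (h : i ≤ j), Function.Injective (f i j h))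
    {P : Ideal R} (hP : P ∈ minimalPrimes R) (i : ι) :
    Ideal.comap (φ i) P ∈ minimalPrimes (G i) := by
  have hPp : P.IsPrime := Ideal.IsMinimalPrime.isPrime hP
  have hPi : (Ideal.comap (φ i) P).IsPrime := Ideal.comap_isPrime _ _
  obtain ⟨Q, hQ, hQle⟩ := Ideal.exists_minimalPrimes_le (I := ⊥) (J := Ideal.comap (φ i) P) bot_le
  have hQp : Q.IsPrime := Ideal.IsMinimalPrime.isPrime hQ
  suffices hle : Ideal.comap (φ i) P ≤ Q by
    have : Ideal.comap (φ i) P = Q := le_antisymm hle hQle
    rw [this]; exact hQ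
  intro x hx
  obtain ⟨y, hy, n, hyn⟩ := exists_mul_pow_eq_zero hP (show φ i x ∈ P from hx)
  obtain ⟨j0, y0, rfl⟩ := Ring.DirectLimit.exists_of y
  obtain ⟨j, hij, hj0j⟩ := exists_ge_ge i j0
  have hφ0 : φ j (f j0 j hj0j y0 * (f i j hij x) ^ n) = 0 := by
    rw [map_mul, map_pow, Ring.DirectLimit.of_f, Ring.DirectLimit.of_f]; exact hyn
  have h0 : f j0 j hj0j y0 * (f i j hij x) ^ n = 0 :=
    (Ring.DirectLimit.of_injective f hinj j) (hφ0.trans (map_zero _).symm)
  letI := (f i j hij).toAlgebra
  haveI : Module.Flat (G i) (G j) := hflat i j hij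
  have hPj : (Ideal.comap (φ j) P).IsPrime := Ideal.comap_isPrime _ _
  haveI : (Ideal.comap (φ j) P).LiesOver (Ideal.comap (φ i) P) :=
    ⟨(comap_compat G f P hij).symm⟩
  obtain ⟨Q', hQ'le, hQ'p, hQ'o⟩ := Ideal.exists_ideal_le_liesOver_of_le (p := Q)
    (q := Ideal.comap (φ i) P) (Ideal.comap (φ j) P) hQle
  have hmem : f j0 j hj0j y0 * (f i j hij x) ^ n ∈ Q' := h0 ▸ Q'.zero_mem
  have hy' : f j0 j hj0j y0 ∉ Q' := by
    intro hc
    apply hy
    have := hQ'le hc
    rw [Ideal.mem_comap, Ring.DirectLimit.of_f] at this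
    exact this
  have hx' : f i j hij x ∈ Q' := hQ'p.mem_of_pow_mem n ((hQ'p.mem_or_mem hmem).resolve_left hy')
  rw [hQ'o.over]
  exact hx'

theorem claim2 (hinj : ∀ i j (h : i ≤ j), Function.Injective (f i j h)) (i : ι) :
    (minimalPrimes (G i)).encard ≤ (minimalPrimes R).encard := by
  have hsub : minimalPrimes (G i) ⊆ Ideal.comap (φ i) '' minimalPrimes R := by
    intro p hp
    have hp' : p ∈ (Ideal.comap (φ i) (⊥ : Ideal R)).minimalPrimes := by
      rw [Ideal.comap_bot_of_injective _ (Ring.DirectLimit.of_injective f hinj i)]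
      exact hp
    obtain ⟨p', hp'm, hp'e⟩ := Ideal.exists_minimalPrimes_comap_eq (φ i) p hp'
    exact ⟨p', hp'm, hp'e⟩
  exact (Set.encard_le_encard hsub).trans (Set.encard_image_le _ _)

theorem sep (P P' : Ideal R) (hne : P ≠ P') :
    ∃ i, ∀ j, i ≤ j → Ideal.comap (φ j) P ≠ Ideal.comap (φ j) P' := by
  by_contra hcon
  push Not at hcon
  apply hne
  ext z
  obtain ⟨i, x, rfl⟩ := Ring.DirectLimit.exists_of z
  obtain ⟨j, hij, hj⟩ := hcon i
  have h1 : φ i x = φ j (f i j hij x) := (Ring.DirectLimit.of_f hij x).symm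
  rw [h1]
  change f i j hij x ∈ Ideal.comap (φ j) P ↔ f i j hij x ∈ Ideal.comap (φ j) P'
  rw [hj]

theorem claim3 (t : Set (Ideal R)) (ht : t.Finite) :
    ∃ i, Set.InjOn (Ideal.comap (φ i)) t := by
  classical
  let g : Ideal R × Ideal R → ι := fun p =>
    if h : p.1 ≠ p.2 then Classical.choose (sep G f p.1 p.2 h) else Classical.arbitrary ι
  obtain ⟨M, hM⟩ := Finset.exists_le ((ht.toFinset ×ˢ ht.toFinset).image g)
  refine ⟨M, ?_⟩
  intro P hP P' hP' heq
  by_contra hne
  have hmem : g (P, P') ∈ (ht.toFinset ×ˢ ht.toFinset).image g :=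
    Finset.mem_image_of_mem g (by simp [hP, hP'])
  have hle := hM _ hmem
  have hg : g (P, P') = Classical.choose (sep G f P P' hne) := by
    simp only [g]
    rw [dif_pos hne]
  rw [hg] at hle
  exact Classical.choose_spec (sep G f P P' hne) M hle heq

theorem main
    (hf : ∀ i j (h : i ≤ j), letI := (f i j h).toAlgebra
      Module.FaithfullyFlat (G i) (G j)) :
    (minimalPrimes R).encard = ⨆ i, (minimalPrimes (G i)).encard := by
  have hflat : ∀ i j (h : i ≤ j), letI := (f i j h).toAlgebra; Module.Flat (G i) (G j) := by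
    intro i j h
    letI := (f i j h).toAlgebra
    haveI := hf i j h
    infer_instance
  have hinj : ∀ i j (h : i ≤ j), Function.Injective (f i j h) := by
    intro i j h
    letI := (f i j h).toAlgebra
    haveI := hf i j h
    exact FaithfulSMul.algebraMap_injective (G i) (G j)
  apply le_antisymm
  · by_contra hlt
    push Not at hlt
    have hne : (⨆ i, (minimalPrimes (G i)).encard) ≠ ⊤ := ne_top_of_lt hlt
    obtain ⟨m, hm⟩ := ENat.ne_top_iff_exists.mp hne
    rw [← hm] at hlt
    have h1 : ((m + 1 : ℕ) : ℕ∞) ≤ (minimalPrimes R).encard := by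
      push_cast
      exact Order.add_one_le_of_lt hlt
    obtain ⟨t, hts, htc⟩ := Set.exists_subset_encard_eq h1
    have htf : t.Finite := Set.finite_of_encard_eq_coe htc
    obtain ⟨i, hi⟩ := claim3 G f t htf
    have h2 : (Ideal.comap (φ i) '' t).encard = t.encard := hi.encard_image
    have h3 : Ideal.comap (φ i) '' t ⊆ minimalPrimes (G i) := by
      rintro _ ⟨P, hP, rfl⟩
      exact claim1 G f hflat hinj (hts hP) i
    have h4 : ((m + 1 : ℕ) : ℕ∞) ≤ (m : ℕ∞) := by
      rw [← htc, ← h2, hm]
      exact (Set.encard_le_encard h3).trans (le_iSup (fun i => (minimalPrimes (G i)).encard) i)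
    have : (m + 1 : ℕ) ≤ m := by exact_mod_cast h4
    omega
  · exact iSup_le fun i => claim2 G f hinj i

end
end helpers

/-- Let (R_i) be a directed system of commutative rings whose transition maps are faithfully flat, with
colimit R. Then, counting in the extended natural numbers, the minimal primes of R are exactly as
numerous as the supremum over i of the count of minimal primes of R_i. -/
theorem result {ι : Type u} [Preorder ι] [IsDirected ι (· ≤ ·)] [Nonempty ι] (G : ι → Type u) [∀ i, CommRing (G i)]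
    (f : ∀ i j, i ≤ j → G i →+* G j) [DirectedSystem G fun i j h => f i j h]
    (hf : ∀ i j (h : i ≤ j), letI := (f i j h).toAlgebra
      Module.FaithfullyFlat (G i) (G j)) :
    (minimalPrimes (Ring.DirectLimit G fun i j h => ⇑(f i j h))).encard = ⨆ i, (minimalPrimes (G i)).encard := by
  exact main G f hf

end Groth.Agent.S1409
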