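import Groth.Statements.S14090
import Mathlib
import Groth.Agent.Lib.Helper6.IdealSheaf
import Groth.Agent.S1571

set_option autoImplicit false
universe u
open CategoryTheory AlgebraicGeometry
open BlowUp

namespace Groth.Agent.S14090

section helpers
open CategoryTheory CategoryTheory.Limits AlgebraicGeometry



/-- ring-level: `I² ⊆ i₀ I` -/
theorem sq_le {A B : Type u} [CommRing A] [CommRing B] (φ : A →+* B)
    (hinj : Function.Injective φ) (I : Ideal A)
    (hIB : (Ideal.map φ I : Set B) ⊆ φ '' (I : Set A))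
    (f : B) (hgen : Ideal.map φ I = Ideal.span {f}) (i₀ : A) (hi₀ : φ i₀ = f) :
    I * I ≤ Ideal.span {i₀} * I := by
  rw [Ideal.mul_le]
  intro i hi i' hi'
  have h1 : φ i ∈ Ideal.span {f} := hgen ▸ Ideal.mem_map_of_mem φ hi
  obtain ⟨b, hb⟩ := Ideal.mem_span_singleton'.1 h1
  have h2 : b * φ i' ∈ Ideal.map φ I := Ideal.mul_mem_left _ b (Ideal.mem_map_of_mem φ hi')
  obtain ⟨i'', hi'', hφ⟩ := hIB h2
  have : i * i' = i₀ * i'' := by
    apply hinj
    rw [map_mul, map_mul, hφ, hi₀, ← hb]; ring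
  rw [this]
  exact Ideal.mul_mem_mul (Ideal.mem_span_singleton_self i₀) hi''

/-- ring-level R2 -/
theorem gen_of_sq_le {A C : Type u} [CommRing A] [CommRing C] (I : Ideal A) (i₀ : A) (hi₀ : i₀ ∈ I)
    (hsq : I * I ≤ Ideal.span {i₀} * I) (θ : A →+* C) (t : C) (ht : t ∈ nonZeroDivisors C)
    (hJ : Ideal.map θ I = Ideal.span {t}) :
    θ i₀ ∈ nonZeroDivisors C ∧ Ideal.map θ I = Ideal.span {θ i₀} := by
  have htJ : t ∈ Ideal.map θ I := hJ ▸ Ideal.mem_span_singleton_self t
  have h1 : t * t ∈ Ideal.span {θ i₀ * t} := by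
    have : t * t ∈ Ideal.map θ (I * I) := by
      rw [Ideal.map_mul]; exact Ideal.mul_mem_mul htJ htJ
    have h2 := Ideal.map_mono (f := θ) hsq this
    rw [Ideal.map_mul, Ideal.map_span, Set.image_singleton, hJ,
      Ideal.span_singleton_mul_span_singleton] at h2
    exact h2
  obtain ⟨u, hu⟩ := Ideal.mem_span_singleton'.1 h1
  have h3 : t = θ i₀ * u := by
    have : t * (t - θ i₀ * u) = 0 := by rw [mul_sub, ← hu]; ring
    have := (mem_nonZeroDivisors_iff.1 ht).1 _ this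
    exact sub_eq_zero.1 this
  have h4 : θ i₀ ∈ Ideal.span {t} := hJ ▸ Ideal.mem_map_of_mem θ hi₀
  obtain ⟨v, hv⟩ := Ideal.mem_span_singleton'.1 h4
  have h5 : v * u = 1 := by
    have : t * (1 - v * u) = 0 := by
      rw [mul_sub, mul_one]
      nth_rewrite 1 [h3]
      rw [← hv]; ring
    have := (mem_nonZeroDivisors_iff.1 ht).1 _ this
    exact (sub_eq_zero.1 this).symm
  constructor
  · rw [← hv]
    have hvunit : IsUnit v := IsUnit.of_mul_eq_one _ h5
    exact mul_mem hvunit.mem_nonZeroDivisors ht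
  · rw [hJ]
    apply le_antisymm
    · rw [Ideal.span_singleton_le_iff_mem, h3]
      exact Ideal.mul_mem_right _ _ (Ideal.mem_span_singleton_self _)
    · rw [Ideal.span_singleton_le_iff_mem]; exact h4


/-- ring-level R: construct the lift `B → C` -/
theorem existsUnique_lift {A B C : Type u} [CommRing A] [CommRing B] [CommRing C] (φ : A →+* B)
    (hinj : Function.Injective φ) (I : Ideal A)
    (hIB : (Ideal.map φ I : Set B) ⊆ φ '' (I : Set A))
    (f : B) (hgen : Ideal.map φ I = Ideal.span {f}) (i₀ : A) (hi₀I : i₀ ∈ I) (hi₀ : φ i₀ = f)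
    (γ : A →+* C) (hc : γ i₀ ∈ nonZeroDivisors C) (hdiv : ∀ a ∈ I, ∃ s : C, γ a = γ i₀ * s) :
    ∃! ψ : B →+* C, ψ.comp φ = γ := by
  set c := γ i₀ with hcdef
  have hcancel : ∀ x y : C, c * x = c * y → x = y := fun x y h =>
    (mul_cancel_left_mem_nonZeroDivisors hc).1 h
  -- for each b, the element a_b
  have hab : ∀ b : B, ∃ a ∈ I, φ a = f * b := by
    intro b
    have : f * b ∈ Ideal.map φ I := by
      rw [hgen]; exact Ideal.mul_mem_right _ _ (Ideal.mem_span_singleton_self f)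
    obtain ⟨a, ha, hφ⟩ := hIB this
    exact ⟨a, ha, hφ⟩
  choose a haI ha using hab
  have hs : ∀ b : B, ∃ s : C, γ (a b) = c * s := fun b => hdiv _ (haI b)
  choose s hs using hs
  -- characterization
  have hchar : ∀ (b : B) (a' : A) (x : C), φ a' = f * b → γ a' = c * x → s b = x := by
    intro b a' x h1 h2
    have : a' = a b := hinj (h1.trans (ha b).symm)
    apply hcancel
    rw [← hs, ← this, h2]
  let ψ : B →+* C :=
    { toFun := s
      map_one' := hchar 1 i₀ 1 (by rw [hi₀, mul_one]) (by rw [mul_one])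
      map_mul' := by
        intro b b'
        -- a b * a b' = i₀ * a (b b')
        have h1 : a b * a b' = i₀ * a (b * b') := by
          apply hinj
          rw [map_mul, map_mul, ha, ha, ha, hi₀]; ring
        have h2 : c * (c * (s b * s b')) = c * (c * s (b * b')) := by
          have : γ (a b * a b') = γ (i₀ * a (b * b')) := by rw [h1]
          rw [map_mul, map_mul, hs, hs, hs] at this
          rw [← hcdef] at this
          calc c * (c * (s b * s b')) = c * s b * (c * s b') := by ring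
            _ = c * (c * s (b * b')) := this
        exact (hcancel _ _ (hcancel _ _ h2)).symm
      map_zero' := hchar 0 0 0 (by simp) (by simp)
      map_add' := by
        intro b b'
        exact hchar (b + b') (a b + a b') (s b + s b') (by rw [map_add, ha, ha]; ring)
          (by rw [map_add, hs, hs]; ring) }
  have hψφ : ψ.comp φ = γ := by
    ext x
    change s (φ x) = γ x
    exact hchar (φ x) (i₀ * x) (γ x) (by rw [map_mul, hi₀]) (by rw [map_mul])
  refine ⟨ψ, hψφ, ?_⟩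
  intro ψ' hψ'
  ext b
  change ψ' b = s b
  symm
  apply hchar b (a b) (ψ' b) (ha b)
  have h1 : ψ' (φ (a b)) = γ (a b) := by rw [← hψ']; rfl
  have h2 : ψ' (φ i₀) = c := by rw [hcdef, ← hψ']; rfl
  rw [← h1, ha, map_mul, ← hi₀, h2]


noncomputable def gam {A : Type u} [CommRing A] {Y : Scheme.{u}} (g : Y ⟶ Spec (CommRingCat.of A))
    (W : Y.Opens) : A →+* Γ(Y, W) :=
  (g.appLE ⊤ W (show W ≤ g ⁻¹ᵁ ⊤ from le_top)).hom.comp (Scheme.ΓSpecIso (CommRingCat.of A)).inv.hom

theorem gam_top {A : Type u} [CommRing A] {Y : Scheme.{u}} (g : Y ⟶ Spec (CommRingCat.of A)) :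
    CommRingCat.ofHom (gam g ⊤) = (Scheme.ΓSpecIso (CommRingCat.of A)).inv ≫ g.appTop := by
  unfold gam
  have : g.appLE ⊤ ⊤ (show ⊤ ≤ g ⁻¹ᵁ ⊤ from le_top) = g.appTop := by
    simp [Scheme.Hom.appLE, Scheme.Hom.appTop]
  rw [this]
  rfl

/-- F1 -/
theorem eq_toSpecΓ_comp {A : Type u} [CommRing A] {Y : Scheme.{u}} (g : Y ⟶ Spec (CommRingCat.of A)) :
    g = Y.toSpecΓ ≫ Spec.map (CommRingCat.ofHom (gam g ⊤)) := by
  rw [gam_top, Spec.map_comp, ← Scheme.toSpecΓ_naturality_assoc, toSpecΓ_SpecMap_ΓSpecIso_inv,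
    Category.comp_id]

/-- F2 -/
theorem gam_toSpecΓ_comp {B : Type u} [CommRing B] {Y : Scheme.{u}} (ψ : B →+* Γ(Y, ⊤)) :
    gam (Y.toSpecΓ ≫ Spec.map (CommRingCat.ofHom ψ)) ⊤ = ψ := by
  have h := gam_top (Y.toSpecΓ ≫ Spec.map (CommRingCat.ofHom ψ))
  rw [Scheme.Hom.comp_appTop, Scheme.toSpecΓ_appTop, ← Category.assoc,
    ← Scheme.ΓSpecIso_inv_naturality, Category.assoc, Iso.inv_hom_id, Category.comp_id] at h
  exact congrArg CommRingCat.Hom.hom h

/-- F3 -/
theorem gam_comp_SpecMap {A B : Type u} [CommRing A] [CommRing B] (φ : A →+* B) {Y : Scheme.{u}}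
    (h : Y ⟶ Spec (CommRingCat.of B)) :
    gam (h ≫ Spec.map (CommRingCat.ofHom φ)) ⊤ = (gam h ⊤).comp φ := by
  have h1 := gam_top (h ≫ Spec.map (CommRingCat.ofHom φ))
  have h2 := gam_top h
  rw [Scheme.Hom.comp_appTop, ← Category.assoc, ← Scheme.ΓSpecIso_inv_naturality,
    Category.assoc, ← h2] at h1
  exact congrArg CommRingCat.Hom.hom h1

theorem idealSheaf_ideal_top {A : Type u} [CommRing A] (I : Ideal A) :
    (Curv2.idealSheaf A I).ideal ⟨⊤, isAffineOpen_top _⟩ =
      I.map (Scheme.ΓSpecIso (CommRingCat.of A)).inv.hom := by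
  unfold Curv2.idealSheaf
  rw [Scheme.IdealSheafData.ofIdealTop_ideal]
  have : (Spec (CommRingCat.of A)).presheaf.map (homOfLE (le_top : (⊤ : (Spec (CommRingCat.of A)).Opens) ≤ ⊤)).op
      = 𝟙 _ := by
    rw [show homOfLE (le_top : (⊤ : (Spec (CommRingCat.of A)).Opens) ≤ ⊤) = 𝟙 _ from rfl, op_id,
      CategoryTheory.Functor.map_id]
  erw [this]
  exact Ideal.map_id _

theorem comap_ideal {A : Type u} [CommRing A] (I : Ideal A) {Y : Scheme.{u}}
    (g : Y ⟶ Spec (CommRingCat.of A)) (W : Y.affineOpens) :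
    ((Curv2.idealSheaf A I).comap g).ideal W = Ideal.map (gam g W.1) I := by
  rw [Groth.Agent.Lib.helper6.ideal_comap g _ ⟨⊤, isAffineOpen_top _⟩ W le_top,
    idealSheaf_ideal_top, Ideal.map_map]
  rfl

theorem gam_res {A : Type u} [CommRing A] {Y : Scheme.{u}} (g : Y ⟶ Spec (CommRingCat.of A))
    (W W' : Y.Opens) (h : W' ≤ W) (a : A) :
    (Y.presheaf.map (homOfLE h).op).hom (gam g W a) = gam g W' a := by
  unfold gam
  have := Scheme.Hom.appLE_map g (U := ⊤) (V := W) (show W ≤ g ⁻¹ᵁ ⊤ from le_top) (homOfLE h).op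
  rw [← this]
  rfl

def RegSec {X : Scheme.{u}} (U : X.Opens) (s : Γ(X, U)) : Prop :=
  ∀ x : U, (X.presheaf.germ U x.1 x.2).hom s ∈ nonZeroDivisors (X.presheaf.stalk x.1)

theorem regSec_res {X : Scheme.{u}} {U V : X.Opens} (i : V ⟶ U) {f : Γ(X, U)} (hf : RegSec U f) :
    RegSec V ((X.presheaf.map i.op).hom f) := fun x => by
  have := hf ⟨x.1, i.le x.2⟩
  change (X.presheaf.germ V x.1 x.2).hom ((X.presheaf.map i.op).hom f) ∈ _
  rwa [TopCat.Presheaf.germ_res_apply]

theorem nzd_of_regSub {X : Scheme.{u}} (U : X.Opens) (s : Γ(X, U)) (hs : RegSec U s) :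
    s ∈ nonZeroDivisors Γ(X, U) := by
  rw [mem_nonZeroDivisors_iff_right]
  intro a ha
  apply TopCat.Presheaf.section_ext X.sheaf U
  intro x hx
  have h1 : (X.presheaf.germ U x hx).hom a * (X.presheaf.germ U x hx).hom s = 0 := by
    rw [← map_mul, ha, map_zero]
  have h2 := (mem_nonZeroDivisors_iff_right.1 (hs ⟨x, hx⟩)) _ h1
  exact h2.trans (map_zero _).symm

theorem star {A : Type u} [CommRing A] (I : Ideal A) (i₀ : A) (hi₀ : i₀ ∈ I)
    (hsq : I * I ≤ Ideal.span {i₀} * I) {Y : Scheme.{u}} (g : Y ⟶ Spec (CommRingCat.of A))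
    (hg : BlowUp.IsEffCartierIdeal ((Curv2.idealSheaf A I).comap g)) :
    gam g ⊤ i₀ ∈ nonZeroDivisors Γ(Y, ⊤) ∧ ∀ a ∈ I, ∃ s : Γ(Y, ⊤), gam g ⊤ a = gam g ⊤ i₀ * s := by
  -- local structure
  have hloc : ∀ y : Y, ∃ W : Y.affineOpens, y ∈ W.1 ∧ gam g W.1 i₀ ∈ nonZeroDivisors Γ(Y, W.1) ∧
      Ideal.map (gam g W.1) I = Ideal.span {gam g W.1 i₀} := by
    intro y
    obtain ⟨W, hyW, t, ht, hI⟩ := hg y
    rw [comap_ideal] at hI
    exact ⟨W, hyW, gen_of_sq_le I i₀ hi₀ hsq (gam g W.1) t ht hI⟩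
  choose W hyW hnzd hgen using hloc
  set c := gam g ⊤ i₀ with hc
  have hreg : RegSec ⊤ c := by
    intro y
    have h1 := Groth.Agent.S1571.germ_nzd (W y.1).2 _ (hnzd y.1) y.1 (hyW y.1)
    rw [← gam_res g ⊤ (W y.1).1 le_top i₀] at h1
    change (Y.presheaf.germ ⊤ y.1 y.2).hom c ∈ _
    rw [← TopCat.Presheaf.germ_res_apply Y.presheaf (homOfLE (le_top : (W y.1).1 ≤ ⊤)) y.1 (hyW y.1)]
    exact h1
  have hnzdV : ∀ V : Y.Opens, gam g V i₀ ∈ nonZeroDivisors Γ(Y, V) := by
    intro V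
    rw [← gam_res g ⊤ V le_top i₀]
    exact nzd_of_regSub V _ (regSec_res (homOfLE (le_top : V ≤ ⊤)) hreg)
  refine ⟨hnzdV ⊤, ?_⟩
  intro a ha
  -- local quotients
  have hs : ∀ y : Y, ∃ s : Γ(Y, (W y).1), gam g (W y).1 a = gam g (W y).1 i₀ * s := by
    intro y
    have : gam g (W y).1 a ∈ Ideal.span {gam g (W y).1 i₀} := by
      rw [← hgen y]; exact Ideal.mem_map_of_mem _ ha
    obtain ⟨s, hs⟩ := Ideal.mem_span_singleton'.1 this
    exact ⟨s, by rw [← hs, mul_comm]⟩
  choose s hs using hs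
  have hcompat : TopCat.Presheaf.IsCompatible Y.sheaf.1 (fun y => (W y).1) s := by
    intro y y'
    have hV := hnzdV ((W y).1 ⊓ (W y').1)
    apply (mul_cancel_left_mem_nonZeroDivisors hV).1
    have e1 : gam g ((W y).1 ⊓ (W y').1) i₀ *
        (Y.presheaf.map (homOfLE (inf_le_left : (W y).1 ⊓ (W y').1 ≤ (W y).1)).op).hom (s y) =
        gam g ((W y).1 ⊓ (W y').1) a := by
      rw [← gam_res g (W y).1 _ inf_le_left i₀, ← map_mul, ← hs, gam_res]
    have e2 : gam g ((W y).1 ⊓ (W y').1) i₀ *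
        (Y.presheaf.map (homOfLE (inf_le_right : (W y).1 ⊓ (W y').1 ≤ (W y').1)).op).hom (s y') =
        gam g ((W y).1 ⊓ (W y').1) a := by
      rw [← gam_res g (W y').1 _ inf_le_right i₀, ← map_mul, ← hs, gam_res]
    exact e1.trans e2.symm
  obtain ⟨gl, hgl, -⟩ := Y.sheaf.existsUnique_gluing' (fun y => (W y).1) ⊤
    (fun y => homOfLE le_top) (fun y _ => TopologicalSpace.Opens.mem_iSup.2 ⟨y, hyW y⟩) s hcompat
  let gl' : Γ(Y, ⊤) := gl
  have hgl' : ∀ y, (Y.presheaf.map (homOfLE (le_top : (W y).1 ≤ ⊤)).op).hom gl' = s y := hgl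
  refine ⟨gl', ?_⟩
  apply Y.sheaf.eq_of_locally_eq' (fun y => (W y).1) ⊤ (fun y => homOfLE le_top)
    (fun y _ => TopologicalSpace.Opens.mem_iSup.2 ⟨y, hyW y⟩)
  intro y
  have h1 : (Y.presheaf.map (homOfLE (le_top : (W y).1 ≤ ⊤)).op).hom (gam g ⊤ a) = gam g (W y).1 a :=
    gam_res g ⊤ _ le_top a
  have h2 : (Y.presheaf.map (homOfLE (le_top : (W y).1 ≤ ⊤)).op).hom (c * gl') =
      gam g (W y).1 i₀ * s y := by
    rw [map_mul, gam_res g ⊤ _ le_top i₀, hgl' y]
  exact h1.trans ((hs y).trans h2.symm)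


theorem gam_SpecMap {A B : Type u} [CommRing A] [CommRing B] (φ : A →+* B) (a : A) :
    gam (Spec.map (CommRingCat.ofHom φ)) ⊤ a = (Scheme.ΓSpecIso (CommRingCat.of B)).inv.hom (φ a) := by
  have h1 := gam_top (Spec.map (CommRingCat.ofHom φ))
  rw [← Scheme.ΓSpecIso_inv_naturality] at h1
  have := congrArg (fun k => k.hom a) h1
  exact this

theorem main (A B : Type u) [CommRing A] [CommRing B] [Algebra A B]
    (hinj : Function.Injective (algebraMap A B)) (I : Ideal A)
    (hIB : (Ideal.map (algebraMap A B) I : Set B) ⊆ algebraMap A B '' (I : Set A))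
    (f : B) (hf : f ∈ nonZeroDivisors B) (hgen : Ideal.map (algebraMap A B) I = Ideal.span {f}) :
    BlowUp.IsBlowUp (Spec.map (CommRingCat.ofHom (algebraMap A B))) (Curv2.idealSheaf A I) := by
  set φ := algebraMap A B with hφ
  have hfI : f ∈ Ideal.map φ I := hgen ▸ Ideal.mem_span_singleton_self f
  obtain ⟨i₀, hi₀I, hi₀⟩ := hIB hfI
  have hsq := sq_le φ hinj I hIB f hgen i₀ hi₀
  refine ⟨?_, ?_⟩
  · intro x
    refine ⟨⟨⊤, isAffineOpen_top _⟩, trivial, (Scheme.ΓSpecIso (CommRingCat.of B)).inv.hom f, ?_, ?_⟩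
    · rw [mem_nonZeroDivisors_iff_right]
      intro y hy
      have h1 : (Scheme.ΓSpecIso (CommRingCat.of B)).hom.hom y * f = 0 := by
        have := congrArg (Scheme.ΓSpecIso (CommRingCat.of B)).hom.hom hy
        rw [map_mul, map_zero] at this
        rw [← this]
        congr 1
        exact (congrArg (fun k => k.hom f) (Scheme.ΓSpecIso (CommRingCat.of B)).inv_hom_id).symm
      have h2 := (mem_nonZeroDivisors_iff_right.1 hf) _ h1
      have h3 := congrArg (Scheme.ΓSpecIso (CommRingCat.of B)).inv.hom h2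
      rw [map_zero] at h3
      rw [← h3]
      exact (congrArg (fun k => k.hom y) (Scheme.ΓSpecIso (CommRingCat.of B)).hom_inv_id).symm
    · rw [comap_ideal]
      have : gam (Spec.map (CommRingCat.ofHom φ)) ⊤ =
          ((Scheme.ΓSpecIso (CommRingCat.of B)).inv.hom).comp φ := by
        ext a; exact gam_SpecMap φ a
      change Ideal.map (gam (Spec.map (CommRingCat.ofHom φ)) ⊤) I = _
      rw [this, ← Ideal.map_map, hgen, Ideal.map_span, Set.image_singleton]
  · intro Y g hg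
    obtain ⟨hc, hdiv⟩ := star I i₀ hi₀I hsq g hg
    obtain ⟨ψ, hψ, huniq⟩ := existsUnique_lift φ hinj I hIB f hgen i₀ hi₀I hi₀ (gam g ⊤) hc hdiv
    refine ⟨Y.toSpecΓ ≫ Spec.map (CommRingCat.ofHom ψ), ?_, ?_⟩
    · change (Y.toSpecΓ ≫ Spec.map (CommRingCat.ofHom ψ)) ≫ Spec.map (CommRingCat.ofHom φ) = g
      rw [eq_toSpecΓ_comp g,
        eq_toSpecΓ_comp ((Y.toSpecΓ ≫ Spec.map (CommRingCat.ofHom ψ)) ≫ Spec.map (CommRingCat.ofHom φ)),
        gam_comp_SpecMap, gam_toSpecΓ_comp, hψ]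
    · intro h' hh'
      have h1 : (gam h' ⊤).comp φ = gam g ⊤ := by
        rw [← gam_comp_SpecMap]
        change gam (h' ≫ Spec.map (CommRingCat.ofHom φ)) ⊤ = gam g ⊤
        rw [hh']
      have h2 := huniq _ h1
      rw [eq_toSpecΓ_comp h', h2]


end helpers


/-- Let A → B be an injective ring homomorphism and I an ideal of A such that the ideal I·B of B is
contained in the image of I (so I is an ideal of B as well) and I·B is generated by one
nonzerodivisor of B (I is free of rank one over B). Then Spec B → Spec A is a blowing up of Spec A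
in I. (This is the affine statement behind recovering a pair (X̃, D̃), D̃ an effective Cartier
divisor finite flat over D, as the blow-up of the pushout X̃ ⨿_D̃ D along D.) -/
theorem result (A B : Type u) [CommRing A] [CommRing B] [Algebra A B]
    (hinj : Function.Injective (algebraMap A B)) (I : Ideal A)
    (hIB : (Ideal.map (algebraMap A B) I : Set B) ⊆ algebraMap A B '' (I : Set A))
    (f : B) (hf : f ∈ nonZeroDivisors B) (hgen : Ideal.map (algebraMap A B) I = Ideal.span {f}) :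
    BlowUp.IsBlowUp (Spec.map (CommRingCat.ofHom (algebraMap A B))) (Curv2.idealSheaf A I) := by
  exact main A B hinj I hIB f hf hgen

end Groth.Agent.S14090
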