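import Groth.Statements.S14093
import Mathlib
import Groth.Agent.Lib.Helper10.ArNF2

set_option autoImplicit false
universe u
open ArSing

namespace Groth.Agent.S14093

set_option linter.style.haveILetI false
set_option linter.unusedSectionVars false

open Groth.Agent.Lib.helper10.ArNF

theorem main (k : Type u) [Field k] [IsAlgClosed k] (r : ℕ)
    (h2 : (2 : k) ≠ 0) (_hr : ((r + 1 : ℕ) : k) ≠ 0)
    (σ : ArSing.ring k r ≃ₐ[k] ArSing.ring k r) (hx : σ (ArSing.x k r) = ArSing.x k r)
    (hy : σ (ArSing.y k r) = -ArSing.y k r) :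
    (∀ a : ArSing.ring k r, σ a = a ↔ a ∈ (ArSing.xMap k r).range) ∧
    ((ArSing.xMap k r).toRingHom.Flat ∧
      Ideal.map (ArSing.xMap k r) (IsLocalRing.maximalIdeal (PowerSeries k)) ≠ ⊤) ∧
    (∃ g : ArSing.ring k r, g ∈ nonZeroDivisors (ArSing.ring k r) ∧
      Ideal.span (Set.range fun a : ArSing.ring k r => σ a - a) = Ideal.span {g}) ∧
    Module.length (ArSing.ring k r)
      (ArSing.ring k r ⧸ Ideal.span (Set.range fun a : ArSing.ring k r => σ a - a)) = r + 1 := by
  -- σ commutes with xMap
  have hσx : ∀ f : PowerSeries k, σ (ArSing.xMap k r f) = ArSing.xMap k r f :=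
    fun f => algHom_xMap_of_fix k r (σ : ArSing.ring k r →ₐ[k] ArSing.ring k r) hx f
  have hσ : ∀ a : ArSing.ring k r, σ a = ArSing.xMap k r (nfA k r 0 a) +
      ArSing.y k r * ArSing.xMap k r (-nfA k r 1 a) := by
    intro a
    conv_lhs => rw [decomp k r a]
    rw [map_add, map_mul, hσx, hσx, hy, map_neg]
    ring
  have hdiff : ∀ a : ArSing.ring k r, σ a - a =
      ArSing.y k r * ArSing.xMap k r (PowerSeries.C (-2 : k) * nfA k r 1 a) := by
    intro a
    have ha := decomp k r a
    have h2c : ArSing.xMap k r (PowerSeries.C (-2 : k)) = -2 := by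
      rw [map_neg, map_neg]
      congr 1
      have : (PowerSeries.C (2 : k)) = (2 : PowerSeries k) := by
        rw [map_ofNat]
      rw [this, map_ofNat]
    rw [hσ a, map_mul, h2c, map_neg]
    calc ArSing.xMap k r (nfA k r 0 a) + ArSing.y k r * -ArSing.xMap k r (nfA k r 1 a) - a
        = ArSing.xMap k r (nfA k r 0 a) + ArSing.y k r * -ArSing.xMap k r (nfA k r 1 a) -
          (ArSing.xMap k r (nfA k r 0 a) + ArSing.y k r * ArSing.xMap k r (nfA k r 1 a)) := by
          rw [← ha]
      _ = ArSing.y k r * (-2 * ArSing.xMap k r (nfA k r 1 a)) := by ring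
  have h2' : (PowerSeries.C (-2 : k)) ≠ 0 := by
    intro h
    have := congrArg PowerSeries.constantCoeff h
    rw [PowerSeries.constantCoeff_C, map_zero, neg_eq_zero] at this
    exact h2 this
  -- the fixed ideal
  have hJ : Ideal.span (Set.range fun a : ArSing.ring k r => σ a - a) =
      Ideal.span {ArSing.y k r} := by
    apply le_antisymm
    · rw [Ideal.span_le]
      rintro _ ⟨a, rfl⟩
      change σ a - a ∈ Ideal.span {ArSing.y k r}
      rw [hdiff a, Ideal.mem_span_singleton]
      exact ⟨_, rfl⟩
    · rw [Ideal.span_le, Set.singleton_subset_iff]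
      have h1 : σ (ArSing.y k r) - ArSing.y k r ∈
          Ideal.span (Set.range fun a : ArSing.ring k r => σ a - a) :=
        Ideal.subset_span ⟨ArSing.y k r, rfl⟩
      have h3 := Ideal.mul_mem_left _ (algebraMap k (ArSing.ring k r) (-2)⁻¹) h1
      have e : algebraMap k (ArSing.ring k r) (-2)⁻¹ * (σ (ArSing.y k r) - ArSing.y k r) =
          ArSing.y k r := by
        rw [hy]
        have : -ArSing.y k r - ArSing.y k r = algebraMap k (ArSing.ring k r) (-2) * ArSing.y k r := by
          rw [map_neg, map_ofNat]
          ring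
        rw [this, ← mul_assoc, ← map_mul, inv_mul_cancel₀ (neg_ne_zero.mpr h2), map_one, one_mul]
      rw [e] at h3
      exact h3
  refine ⟨?_, ⟨?_, ?_⟩, ⟨ArSing.y k r, y_mem_nonZeroDivisors k r, hJ⟩, ?_⟩
  · -- invariants
    intro a
    constructor
    · intro ha
      have h0 : σ a - a = 0 := sub_eq_zero.mpr ha
      rw [hdiff a] at h0
      have h1 := nfA_one_y_mul k r (ArSing.xMap k r (PowerSeries.C (-2 : k) * nfA k r 1 a))
      rw [h0, nfA_zero' k r (by omega), nfA_zero_xMap] at h1
      have h3 : nfA k r 1 a = 0 := by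
        rcases mul_eq_zero.mp h1.symm with h | h
        · exact absurd h h2'
        · exact h
      refine ⟨nfA k r 0 a, ?_⟩
      conv_rhs => rw [decomp k r a, h3, map_zero, mul_zero, add_zero]
      rfl
    · rintro ⟨f, rfl⟩
      exact hσx f
  · -- flat
    rw [RingHom.Flat]
    letI : Algebra (PowerSeries k) (ArSing.ring k r) := (ArSing.xMap k r).toRingHom.toAlgebra
    have hsmul : ∀ (h : PowerSeries k) (a : ArSing.ring k r), h • a = ArSing.xMap k r h * a :=
      fun h a => rfl
    let e : ArSing.ring k r ≃ₗ[PowerSeries k] PowerSeries k × PowerSeries k :=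
      { (nfEquiv k r).toAddEquiv with
        map_smul' := by
          intro h a
          change nfEquiv k r (h • a) = h • nfEquiv k r a
          rw [hsmul, nfEquiv_apply, nfEquiv_apply, nfA_xMap_mul k r 0 (by omega),
            nfA_xMap_mul k r 1 (by omega)]
          rfl }
    haveI : Module.Free (PowerSeries k) (ArSing.ring k r) := Module.Free.of_equiv e.symm
    infer_instance
  · -- nontrivial fibre
    intro htop
    have hle : Ideal.map (ArSing.xMap k r) (IsLocalRing.maximalIdeal (PowerSeries k)) ≤
        IsLocalRing.maximalIdeal (ArSing.ring k r) := by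
      rw [Ideal.map_le_iff_le_comap]
      intro f hf
      rw [Ideal.mem_comap, mem_maximalIdeal_iff, aug_xMap]
      rw [IsLocalRing.mem_maximalIdeal, mem_nonunits_iff] at hf
      by_contra hne
      exact hf (PowerSeries.isUnit_iff_constantCoeff.mpr (isUnit_iff_ne_zero.mpr hne))
    rw [htop, top_le_iff] at hle
    exact (IsLocalRing.maximalIdeal.isMaximal (ArSing.ring k r)).ne_top hle
  · -- length
    let L : ArSing.ring k r →ₗ[k] (Fin (r + 1) → k) :=
      { toFun := fun a i => PowerSeries.coeff (i : ℕ) (nfA k r 0 a)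
        map_add' := by
          intro a a'
          funext i
          rw [nfA_add k r (by omega), map_add]
          rfl
        map_smul' := by
          intro c a
          funext i
          rw [nfA_smul k r (by omega), PowerSeries.coeff_smul]
          rfl }
    have hL : ∀ a i, L a i = PowerSeries.coeff (i : ℕ) (nfA k r 0 a) := fun a i => rfl
    have hsurj : Function.Surjective L := by
      intro v
      refine ⟨ArSing.xMap k r (PowerSeries.mk fun n => if h : n < r + 1 then v ⟨n, h⟩ else 0), ?_⟩
      funext i
      rw [hL, nfA_zero_xMap, PowerSeries.coeff_mk, dif_pos i.2]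
    have hker : ∀ a, a ∈ Ideal.span (Set.range fun a : ArSing.ring k r => σ a - a) ↔ L a = 0 := by
      intro a
      rw [hJ, mem_span_y_iff, PowerSeries.X_pow_dvd_iff]
      constructor
      · intro h
        funext i
        rw [hL]
        exact h i i.2
      · intro h m hm
        have := congrFun h ⟨m, hm⟩
        rw [hL] at this
        exact this
    have := length_quotient_eq k r _ L hsurj hker
    rw [this]
    push_cast
    rfl



/-- For an algebraically closed field k of characteristic prime to 2 and to r+1 and the involution σ of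
A_r = k[[x,y]]/(y^2 - x^(r+1)) with σ(x) = x, σ(y) = -y: the invariant subalgebra is k[[x]] (the
image of t ↦ x from k[[t]]), the inclusion k[[x]] → A_r is faithfully flat (flat, and the maximal
ideal of k[[t]] does not generate the unit ideal of A_r), and the fixed locus (the closed subscheme
cut out by all σ(a) - a) is a Cartier divisor of length r + 1, i.e. its ideal is generated by one
nonzerodivisor and the quotient has length r + 1. -/
theorem result (k : Type u) [Field k] [IsAlgClosed k] (r : ℕ)
    (h2 : (2 : k) ≠ 0) (hr : ((r + 1 : ℕ) : k) ≠ 0)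
    (σ : ArSing.ring k r ≃ₐ[k] ArSing.ring k r) (hx : σ (ArSing.x k r) = ArSing.x k r)
    (hy : σ (ArSing.y k r) = -ArSing.y k r) :
    (∀ a : ArSing.ring k r, σ a = a ↔ a ∈ (ArSing.xMap k r).range) ∧
    ((ArSing.xMap k r).toRingHom.Flat ∧
      Ideal.map (ArSing.xMap k r) (IsLocalRing.maximalIdeal (PowerSeries k)) ≠ ⊤) ∧
    (∃ g : ArSing.ring k r, g ∈ nonZeroDivisors (ArSing.ring k r) ∧
      Ideal.span (Set.range fun a : ArSing.ring k r => σ a - a) = Ideal.span {g}) ∧
    Module.length (ArSing.ring k r)
      (ArSing.ring k r ⧸ Ideal.span (Set.range fun a : ArSing.ring k r => σ a - a)) = r + 1 := by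
  exact main k r h2 hr σ hx hy

end Groth.Agent.S14093
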