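import Groth.Statements.S14094
import Mathlib
import Groth.Agent.Lib.Helper10.ArNF3

set_option autoImplicit false
universe u
open ArSing

namespace Groth.Agent.S14094

set_option linter.style.haveILetI false
set_option linter.unusedSectionVars false

open Groth.Agent.Lib.helper10.ArNF

theorem main (k : Type u) [Field k] [IsAlgClosed k] (m r : ℕ)
    (_hm : 2 ≤ m) (_hr : r = 2 * m - 1) (h2 : (2 : k) ≠ 0) (_hr1 : ((r + 1 : ℕ) : k) ≠ 0)
    (σ : ArSing.ring k r ≃ₐ[k] ArSing.ring k r) (hx : σ (ArSing.x k r) = -ArSing.x k r)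
    (hy : σ (ArSing.y k r) = ArSing.y k r)
    (φ : ArSing.ring k (m - 1) →ₐ[k] ArSing.ring k r)
    (hφx : φ (ArSing.x k (m - 1)) = ArSing.x k r ^ 2)
    (hφy : φ (ArSing.y k (m - 1)) = ArSing.y k r) :
    (∀ a : ArSing.ring k r, σ a = a ↔ a ∈ φ.range) ∧
    (φ.toRingHom.Flat ∧ ∀ I : Ideal (ArSing.ring k (m - 1)), I.IsMaximal → Ideal.map φ I ≠ ⊤) ∧
    (∃ g : ArSing.ring k r, g ∈ nonZeroDivisors (ArSing.ring k r) ∧
      Ideal.span (Set.range fun a : ArSing.ring k r => σ a - a) = Ideal.span {g}) ∧
    Module.length (ArSing.ring k r)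
      (ArSing.ring k r ⧸ Ideal.span (Set.range fun a : ArSing.ring k r => σ a - a)) = 2 := by
  have hσx : ∀ f : PowerSeries k, σ (ArSing.xMap k r f) =
      ArSing.xMap k r (PowerSeries.rescale (-1 : k) f) :=
    fun f => algHom_xMap_of_neg k r (σ : ArSing.ring k r →ₐ[k] ArSing.ring k r) hx f
  have hφxm : ∀ f : PowerSeries k, φ (ArSing.xMap k (m - 1) f) = ArSing.xMap k r (ex2 k f) :=
    fun f => algHom_xMap_of_pow k (m - 1) r φ 2 two_ne_zero hφx f
  have hσc : ∀ u v : PowerSeries k, σ (ArSing.xMap k r u + ArSing.y k r * ArSing.xMap k r v) =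
      ArSing.xMap k r (PowerSeries.rescale (-1 : k) u) +
        ArSing.y k r * ArSing.xMap k r (PowerSeries.rescale (-1 : k) v) := by
    intro u v
    rw [map_add, map_mul, hσx, hσx, hy]
  have hφc : ∀ u v : PowerSeries k,
      φ (ArSing.xMap k (m - 1) u + ArSing.y k (m - 1) * ArSing.xMap k (m - 1) v) =
      ArSing.xMap k r (ex2 k u) + ArSing.y k r * ArSing.xMap k r (ex2 k v) := by
    intro u v
    rw [map_add, map_mul, hφxm, hφxm, hφy]
  have hψc : ∀ u v u' v' : PowerSeries k,
      φ (ArSing.xMap k (m - 1) u + ArSing.y k (m - 1) * ArSing.xMap k (m - 1) v) +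
        ArSing.x k r * φ (ArSing.xMap k (m - 1) u' + ArSing.y k (m - 1) * ArSing.xMap k (m - 1) v') =
      ArSing.xMap k r (ex2 k u + PowerSeries.X * ex2 k u') +
        ArSing.y k r * ArSing.xMap k r (ex2 k v + PowerSeries.X * ex2 k v') := by
    intro u v u' v'
    rw [hφc, hφc, map_add, map_add, map_mul, map_mul, xMap_X]
    ring
  have hex_odd : ∀ u : PowerSeries k, oddPart k (ex2 k u) = 0 := by
    intro u
    have := oddPart_combo k u 0
    rwa [map_zero, mul_zero, add_zero] at this
  have hex_even : ∀ u : PowerSeries k, evenPart k (ex2 k u) = u := by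
    intro u
    have := evenPart_combo k u 0
    rwa [map_zero, mul_zero, add_zero] at this
  have hex_of_odd : ∀ f : PowerSeries k, oddPart k f = 0 → f = ex2 k (evenPart k f) := by
    intro f hf
    conv_lhs => rw [even_odd_decomp k f, hf, map_zero, mul_zero, add_zero]
  -- fixed ideal
  have hdiff : ∀ a : ArSing.ring k r, σ a - a ∈ Ideal.span {ArSing.x k r} := by
    intro a
    rw [mem_span_x_iff, nfA_sub k r (by omega), nfA_sub k r (by omega)]
    have ha := decomp k r a
    have hσa : σ a = ArSing.xMap k r (PowerSeries.rescale (-1 : k) (nfA k r 0 a)) +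
        ArSing.y k r * ArSing.xMap k r (PowerSeries.rescale (-1 : k) (nfA k r 1 a)) := by
      conv_lhs => rw [ha]
      exact hσc _ _
    rw [hσa, nfA_zero_combo, nfA_one_combo, PowerSeries.X_dvd_iff, PowerSeries.X_dvd_iff, map_sub,
      map_sub]
    have hc : ∀ f : PowerSeries k, PowerSeries.constantCoeff (PowerSeries.rescale (-1 : k) f) =
        PowerSeries.constantCoeff f := by
      intro f
      rw [← PowerSeries.coeff_zero_eq_constantCoeff_apply,
        ← PowerSeries.coeff_zero_eq_constantCoeff_apply, PowerSeries.coeff_rescale, pow_zero, one_mul]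
    rw [hc, hc, sub_self, sub_self]
    exact ⟨rfl, rfl⟩
  have hJ : Ideal.span (Set.range fun a : ArSing.ring k r => σ a - a) =
      Ideal.span {ArSing.x k r} := by
    apply le_antisymm
    · rw [Ideal.span_le]
      rintro _ ⟨a, rfl⟩
      exact hdiff a
    · rw [Ideal.span_le, Set.singleton_subset_iff]
      have h1 : σ (ArSing.x k r) - ArSing.x k r ∈
          Ideal.span (Set.range fun a : ArSing.ring k r => σ a - a) :=
        Ideal.subset_span ⟨ArSing.x k r, rfl⟩
      have h3 := Ideal.mul_mem_left _ (algebraMap k (ArSing.ring k r) (-2)⁻¹) h1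
      have e : algebraMap k (ArSing.ring k r) (-2)⁻¹ * (σ (ArSing.x k r) - ArSing.x k r) =
          ArSing.x k r := by
        rw [hx]
        have : -ArSing.x k r - ArSing.x k r = algebraMap k (ArSing.ring k r) (-2) * ArSing.x k r := by
          rw [map_neg, map_ofNat]
          ring
        rw [this, ← mul_assoc, ← map_mul, inv_mul_cancel₀ (neg_ne_zero.mpr h2), map_one, one_mul]
      rw [e] at h3
      exact h3
  refine ⟨?_, ⟨?_, ?_⟩, ⟨ArSing.x k r, x_mem_nonZeroDivisors k r, hJ⟩, ?_⟩
  · -- invariants
    intro a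
    have ha := decomp k r a
    constructor
    · intro hfix
      have hσa : σ a = ArSing.xMap k r (PowerSeries.rescale (-1 : k) (nfA k r 0 a)) +
          ArSing.y k r * ArSing.xMap k r (PowerSeries.rescale (-1 : k) (nfA k r 1 a)) := by
        conv_lhs => rw [ha]
        exact hσc _ _
      rw [hfix] at hσa
      obtain ⟨e0, e1⟩ := (eq_combo_iff k r a _ _).mp hσa
      have o0 := (rescale_eq_self_iff k h2 _).mp e0.symm
      have o1 := (rescale_eq_self_iff k h2 _).mp e1.symm
      refine ⟨ArSing.xMap k (m - 1) (evenPart k (nfA k r 0 a)) +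
        ArSing.y k (m - 1) * ArSing.xMap k (m - 1) (evenPart k (nfA k r 1 a)), ?_⟩
      change φ _ = a
      rw [hφc, ← hex_of_odd _ o0, ← hex_of_odd _ o1]
      exact ha.symm
    · rintro ⟨b, rfl⟩
      have hb := decomp k (m - 1) b
      have hφb : φ b = ArSing.xMap k r (ex2 k (nfA k (m - 1) 0 b)) +
          ArSing.y k r * ArSing.xMap k r (ex2 k (nfA k (m - 1) 1 b)) := by
        conv_lhs => rw [hb]
        exact hφc _ _
      change σ (φ b) = φ b
      rw [hφb, hσc, (rescale_eq_self_iff k h2 _).mpr (hex_odd _),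
        (rescale_eq_self_iff k h2 _).mpr (hex_odd _)]
  · -- flat
    rw [RingHom.Flat]
    letI : Algebra (ArSing.ring k (m - 1)) (ArSing.ring k r) := φ.toRingHom.toAlgebra
    have hsmul : ∀ (c : ArSing.ring k (m - 1)) (a : ArSing.ring k r), c • a = φ c * a :=
      fun c a => rfl
    let ψ : (ArSing.ring k (m - 1) × ArSing.ring k (m - 1)) →ₗ[ArSing.ring k (m - 1)]
        ArSing.ring k r :=
      { toFun := fun p => φ p.1 + ArSing.x k r * φ p.2
        map_add' := by
          intro p q
          change φ (p.1 + q.1) + ArSing.x k r * φ (p.2 + q.2) = _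
          rw [map_add, map_add]
          ring
        map_smul' := by
          intro c p
          change φ (c * p.1) + ArSing.x k r * φ (c * p.2) = c • (φ p.1 + ArSing.x k r * φ p.2)
          rw [hsmul, map_mul, map_mul]
          ring }
    have hψ : ∀ p, ψ p = φ p.1 + ArSing.x k r * φ p.2 := fun p => rfl
    have hinj : Function.Injective ψ := by
      rw [injective_iff_map_eq_zero]
      rintro ⟨b, b'⟩ h0
      rw [hψ] at h0
      change φ b + ArSing.x k r * φ b' = 0 at h0
      have hb := decomp k (m - 1) b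
      have hb' := decomp k (m - 1) b'
      rw [hb, hb', hψc] at h0
      have h1 := (eq_combo_iff k r 0 _ _).mp h0.symm
      rw [nfA_zero' k r (by omega), nfA_zero' k r (by omega)] at h1
      obtain ⟨e0, e1⟩ := h1
      obtain ⟨u0, u0'⟩ := (combo_eq_zero_iff k _ _).mp e0.symm
      obtain ⟨v0, v0'⟩ := (combo_eq_zero_iff k _ _).mp e1.symm
      have hb0 : b = 0 := (eq_zero_iff k (m - 1) b).mpr ⟨u0, v0⟩
      have hb0' : b' = 0 := (eq_zero_iff k (m - 1) b').mpr ⟨u0', v0'⟩
      rw [hb0, hb0']
      rfl
    have hsurj : Function.Surjective ψ := by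
      intro a
      have ha := decomp k r a
      refine ⟨(ArSing.xMap k (m - 1) (evenPart k (nfA k r 0 a)) +
          ArSing.y k (m - 1) * ArSing.xMap k (m - 1) (evenPart k (nfA k r 1 a)),
        ArSing.xMap k (m - 1) (oddPart k (nfA k r 0 a)) +
          ArSing.y k (m - 1) * ArSing.xMap k (m - 1) (oddPart k (nfA k r 1 a))), ?_⟩
      rw [hψ]
      rw [hψc, ← even_odd_decomp, ← even_odd_decomp]
      exact ha.symm
    haveI : Module.Free (ArSing.ring k (m - 1)) (ArSing.ring k r) :=
      Module.Free.of_equiv (LinearEquiv.ofBijective ψ ⟨hinj, hsurj⟩)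
    infer_instance
  · -- fibre
    intro I hI htop
    have hI' := IsLocalRing.eq_maximalIdeal hI
    subst hI'
    have hle : Ideal.map φ (IsLocalRing.maximalIdeal (ArSing.ring k (m - 1))) ≤
        IsLocalRing.maximalIdeal (ArSing.ring k r) := by
      rw [Ideal.map_le_iff_le_comap]
      intro b hb
      rw [Ideal.mem_comap, mem_maximalIdeal_iff, aug_eq]
      rw [mem_maximalIdeal_iff, aug_eq] at hb
      have hb' := decomp k (m - 1) b
      have hφb : φ b = ArSing.xMap k r (ex2 k (nfA k (m - 1) 0 b)) +
          ArSing.y k r * ArSing.xMap k r (ex2 k (nfA k (m - 1) 1 b)) := by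
        conv_lhs => rw [hb']
        exact hφc _ _
      rw [hφb, nfA_zero_combo, PowerSeries.constantCoeff_expand]
      exact hb
    rw [htop, top_le_iff] at hle
    exact (IsLocalRing.maximalIdeal.isMaximal (ArSing.ring k r)).ne_top hle
  · -- length
    let L : ArSing.ring k r →ₗ[k] (Fin 2 → k) :=
      { toFun := fun a i => PowerSeries.constantCoeff (nfA k r (i : ℕ) a)
        map_add' := by
          intro a a'
          funext i
          change PowerSeries.constantCoeff (nfA k r (i : ℕ) (a + a')) = _
          rw [nfA_add k r i.2, map_add]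
          rfl
        map_smul' := by
          intro c a
          funext i
          change PowerSeries.constantCoeff (nfA k r (i : ℕ) (c • a)) = _
          rw [nfA_smul k r i.2, ← PowerSeries.coeff_zero_eq_constantCoeff_apply,
            PowerSeries.coeff_smul, PowerSeries.coeff_zero_eq_constantCoeff_apply]
          rfl }
    have hL : ∀ a i, L a i = PowerSeries.constantCoeff (nfA k r (i : ℕ) a) := fun a i => rfl
    have hsurj : Function.Surjective L := by
      intro v
      refine ⟨ArSing.xMap k r (PowerSeries.C (v 0)) +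
        ArSing.y k r * ArSing.xMap k r (PowerSeries.C (v 1)), ?_⟩
      funext i
      rw [hL]
      fin_cases i
      · change PowerSeries.constantCoeff (nfA k r 0 _) = v 0
        rw [nfA_zero_combo, PowerSeries.constantCoeff_C]
      · change PowerSeries.constantCoeff (nfA k r 1 _) = v 1
        rw [nfA_one_combo, PowerSeries.constantCoeff_C]
    have hker : ∀ a, a ∈ Ideal.span (Set.range fun a : ArSing.ring k r => σ a - a) ↔ L a = 0 := by
      intro a
      rw [hJ, mem_span_x_iff, PowerSeries.X_dvd_iff, PowerSeries.X_dvd_iff]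
      constructor
      · rintro ⟨h0, h1⟩
        funext i
        rw [hL]
        fin_cases i
        · exact h0
        · exact h1
      · intro h
        have e0 := congrFun h 0
        have e1 := congrFun h 1
        rw [hL] at e0 e1
        exact ⟨e0, e1⟩
    have := length_quotient_eq k r _ L hsurj hker
    rw [this]
    rfl



/-- K algebraically closed of characteristic prime to 2 and to r+1, r = 2m - 1 with m ≥ 2, σ the
involution x ↦ -x, y ↦ y of A_r = k[[x,y]]/(y^2 - x^(r+1)), and φ : A_(m-1) → A_r the k-algebra map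
x ↦ x^2, y ↦ y. Then the invariant subalgebra of σ is the image of φ (so A_r^σ ≅ A_(m-1)), φ is
faithfully flat (flat, and the maximal ideal of A_(m-1) does not generate the unit ideal), and the
fixed locus of σ is a Cartier divisor of length 2: its ideal, generated by the elements σ(a) - a, is
generated by one nonzerodivisor and has quotient of length 2. -/
theorem result (k : Type u) [Field k] [IsAlgClosed k] (m r : ℕ)
    (hm : 2 ≤ m) (hr : r = 2 * m - 1) (h2 : (2 : k) ≠ 0) (hr1 : ((r + 1 : ℕ) : k) ≠ 0)
    (σ : ArSing.ring k r ≃ₐ[k] ArSing.ring k r) (hx : σ (ArSing.x k r) = -ArSing.x k r)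
    (hy : σ (ArSing.y k r) = ArSing.y k r)
    (φ : ArSing.ring k (m - 1) →ₐ[k] ArSing.ring k r) (hφx : φ (ArSing.x k (m - 1)) = ArSing.x k r ^ 2)
    (hφy : φ (ArSing.y k (m - 1)) = ArSing.y k r) :
    (∀ a : ArSing.ring k r, σ a = a ↔ a ∈ φ.range) ∧
    (φ.toRingHom.Flat ∧ ∀ I : Ideal (ArSing.ring k (m - 1)), I.IsMaximal → Ideal.map φ I ≠ ⊤) ∧
    (∃ g : ArSing.ring k r, g ∈ nonZeroDivisors (ArSing.ring k r) ∧ Ideal.span (Set.range fun a : ArSing.ring k r => σ a - a) = Ideal.span {g}) ∧
    Module.length (ArSing.ring k r) (ArSing.ring k r ⧸ Ideal.span (Set.range fun a : ArSing.ring k r => σ a - a)) = 2 := by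
  exact main k m r hm hr h2 hr1 σ hx hy φ hφx hφy

end Groth.Agent.S14094
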