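import Groth.Statements.S14095
import Mathlib
import Groth.Agent.Lib.Helper10.ArNF3

set_option autoImplicit false
universe u
open ArSing

namespace Groth.Agent.S14095

set_option linter.style.haveILetI false
set_option linter.unusedSectionVars false

open Groth.Agent.Lib.helper10.ArNF

theorem trivial_relation_two {R M : Type*} [CommRing R] [AddCommGroup M] [Module R M]
    [Module.Flat R M] (f0 f1 : R) (x0 x1 : M) (h : f0 • x0 + f1 • x1 = 0) :
    ∃ (K : ℕ) (a0 a1 : Fin K → R) (Y : Fin K → M), x0 = ∑ j, a0 j • Y j ∧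
      x1 = ∑ j, a1 j • Y j ∧ ∀ j, f0 * a0 j + f1 * a1 j = 0 := by
  have hrel : ∑ i : Fin 2, (![f0, f1] i) • (![x0, x1] i) = 0 := by
    rw [Fin.sum_univ_two]
    exact h
  obtain ⟨K, a, Y, hxY, hfa⟩ := Module.Flat.isTrivialRelation_of_sum_smul_eq_zero hrel
  refine ⟨K, a 0, a 1, Y, hxY 0, hxY 1, fun j => ?_⟩
  have := hfa j
  rw [Fin.sum_univ_two] at this
  exact this

theorem main (k : Type u) [Field k] [IsAlgClosed k] (m r : ℕ)
    (hm : 1 ≤ m) (hr : r = 2 * m - 1) (h2 : (2 : k) ≠ 0) (_hr1 : ((r + 1 : ℕ) : k) ≠ 0)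
    (σ : ArSing.ring k r ≃ₐ[k] ArSing.ring k r) (hx : σ (ArSing.x k r) = -ArSing.x k r)
    (hy : σ (ArSing.y k r) = -ArSing.y k r)
    (φ : ArSing.ring k m →ₐ[k] ArSing.ring k r) (hφx : φ (ArSing.x k m) = ArSing.x k r ^ 2)
    (hφy : φ (ArSing.y k m) = ArSing.x k r * ArSing.y k r) :
    (∀ a : ArSing.ring k r, σ a = a ↔ a ∈ φ.range) ∧ Function.Injective φ ∧
    ¬ φ.toRingHom.Flat ∧
    Module.length (ArSing.ring k r)
      (ArSing.ring k r ⧸ Ideal.span (Set.range fun a : ArSing.ring k r => σ a - a)) = 1 ∧
    ¬ (∃ g : ArSing.ring k r, g ∈ nonZeroDivisors (ArSing.ring k r) ∧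
      Ideal.span (Set.range fun a : ArSing.ring k r => σ a - a) = Ideal.span {g}) := by
  have hσx : ∀ f : PowerSeries k, σ (ArSing.xMap k r f) =
      ArSing.xMap k r (PowerSeries.rescale (-1 : k) f) :=
    fun f => algHom_xMap_of_neg k r (σ : ArSing.ring k r →ₐ[k] ArSing.ring k r) hx f
  have hφxm : ∀ f : PowerSeries k, φ (ArSing.xMap k m f) = ArSing.xMap k r (ex2 k f) :=
    fun f => algHom_xMap_of_pow k m r φ 2 two_ne_zero hφx f
  have hσc : ∀ u v : PowerSeries k, σ (ArSing.xMap k r u + ArSing.y k r * ArSing.xMap k r v) =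
      ArSing.xMap k r (PowerSeries.rescale (-1 : k) u) +
        ArSing.y k r * ArSing.xMap k r (-PowerSeries.rescale (-1 : k) v) := by
    intro u v
    rw [map_add, map_mul, hσx, hσx, hy, map_neg]
    ring
  have hφc : ∀ u v : PowerSeries k,
      φ (ArSing.xMap k m u + ArSing.y k m * ArSing.xMap k m v) =
      ArSing.xMap k r (ex2 k u) + ArSing.y k r * ArSing.xMap k r (PowerSeries.X * ex2 k v) := by
    intro u v
    rw [map_add, map_mul, hφxm, hφxm, hφy, map_mul, xMap_X]
    ring
  have hσa : ∀ a : ArSing.ring k r, σ a =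
      ArSing.xMap k r (PowerSeries.rescale (-1 : k) (nfA k r 0 a)) +
        ArSing.y k r * ArSing.xMap k r (-PowerSeries.rescale (-1 : k) (nfA k r 1 a)) := by
    intro a
    have ha := decomp k r a
    conv_lhs => rw [ha]
    exact hσc _ _
  have hφb : ∀ b : ArSing.ring k m, φ b = ArSing.xMap k r (ex2 k (nfA k m 0 b)) +
      ArSing.y k r * ArSing.xMap k r (PowerSeries.X * ex2 k (nfA k m 1 b)) := by
    intro b
    have hb := decomp k m b
    conv_lhs => rw [hb]
    exact hφc _ _
  have hex_odd : ∀ u : PowerSeries k, oddPart k (ex2 k u) = 0 := by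
    intro u
    have := oddPart_combo k u 0
    rwa [map_zero, mul_zero, add_zero] at this
  have hXex_even : ∀ v : PowerSeries k, evenPart k (PowerSeries.X * ex2 k v) = 0 := by
    intro v
    have := evenPart_combo k 0 v
    rwa [map_zero, zero_add] at this
  have hcc : ∀ f : PowerSeries k, PowerSeries.constantCoeff (PowerSeries.rescale (-1 : k) f) =
      PowerSeries.constantCoeff f := by
    intro f
    rw [← PowerSeries.coeff_zero_eq_constantCoeff_apply,
      ← PowerSeries.coeff_zero_eq_constantCoeff_apply, PowerSeries.coeff_rescale, pow_zero, one_mul]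
  have haugσ : ∀ a : ArSing.ring k r, aug k r (σ a) = aug k r a := by
    intro a
    rw [aug_eq, aug_eq, hσa a, nfA_zero_combo, hcc]
  have hr2 : 2 ≤ r + 1 := by omega
  -- membership in the fixed ideal
  have hxJ : ArSing.x k r ∈ Ideal.span (Set.range fun a : ArSing.ring k r => σ a - a) := by
    have h1 : σ (ArSing.x k r) - ArSing.x k r ∈
        Ideal.span (Set.range fun a : ArSing.ring k r => σ a - a) :=
      Ideal.subset_span ⟨ArSing.x k r, rfl⟩
    have h3 := Ideal.mul_mem_left _ (algebraMap k (ArSing.ring k r) (-2)⁻¹) h1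
    have e : algebraMap k (ArSing.ring k r) (-2)⁻¹ * (σ (ArSing.x k r) - ArSing.x k r) =
        ArSing.x k r := by
      rw [hx]
      have : -ArSing.x k r - ArSing.x k r = algebraMap k (ArSing.ring k r) (-2) * ArSing.x k r := by
        rw [map_neg, map_ofNat]
        ring
      rw [this, ← mul_assoc, ← map_mul, inv_mul_cancel₀ (neg_ne_zero.mpr h2), map_one, one_mul]
    rw [e] at h3
    exact h3
  have hyJ : ArSing.y k r ∈ Ideal.span (Set.range fun a : ArSing.ring k r => σ a - a) := by
    have h1 : σ (ArSing.y k r) - ArSing.y k r ∈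
        Ideal.span (Set.range fun a : ArSing.ring k r => σ a - a) :=
      Ideal.subset_span ⟨ArSing.y k r, rfl⟩
    have h3 := Ideal.mul_mem_left _ (algebraMap k (ArSing.ring k r) (-2)⁻¹) h1
    have e : algebraMap k (ArSing.ring k r) (-2)⁻¹ * (σ (ArSing.y k r) - ArSing.y k r) =
        ArSing.y k r := by
      rw [hy]
      have : -ArSing.y k r - ArSing.y k r = algebraMap k (ArSing.ring k r) (-2) * ArSing.y k r := by
        rw [map_neg, map_ofNat]
        ring
      rw [this, ← mul_assoc, ← map_mul, inv_mul_cancel₀ (neg_ne_zero.mpr h2), map_one, one_mul]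
    rw [e] at h3
    exact h3
  -- elements of the maximal ideal are combinations of x and y
  have hmax : ∀ a : ArSing.ring k r, aug k r a = 0 →
      ∃ c c' : ArSing.ring k r, a = ArSing.x k r * c + ArSing.y k r * c' := by
    intro a ha
    rw [aug_eq, ← PowerSeries.X_dvd_iff] at ha
    obtain ⟨f, hf⟩ := ha
    refine ⟨ArSing.xMap k r f, ArSing.xMap k r (nfA k r 1 a), ?_⟩
    conv_lhs => rw [decomp k r a, hf, map_mul, xMap_X]
  have hJ : ∀ a : ArSing.ring k r,
      a ∈ Ideal.span (Set.range fun a : ArSing.ring k r => σ a - a) ↔ aug k r a = 0 := by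
    intro a
    constructor
    · intro ha
      have hle : Ideal.span (Set.range fun a : ArSing.ring k r => σ a - a) ≤
          IsLocalRing.maximalIdeal (ArSing.ring k r) := by
        rw [Ideal.span_le]
        rintro _ ⟨b, rfl⟩
        change σ b - b ∈ IsLocalRing.maximalIdeal (ArSing.ring k r)
        rw [mem_maximalIdeal_iff, map_sub, haugσ, sub_self]
      exact (mem_maximalIdeal_iff k r a).mp (hle ha)
    · intro ha
      obtain ⟨c, c', rfl⟩ := hmax a ha
      exact Ideal.add_mem _ (Ideal.mul_mem_right _ _ hxJ) (Ideal.mul_mem_right _ _ hyJ)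
  refine ⟨?_, ?_, ?_, ?_, ?_⟩
  · -- invariants
    intro a
    have ha := decomp k r a
    constructor
    · intro hfix
      have h1 := hσa a
      rw [hfix] at h1
      obtain ⟨e0, e1⟩ := (eq_combo_iff k r a _ _).mp h1
      have o0 := (rescale_eq_self_iff k h2 _).mp e0.symm
      have e1' : PowerSeries.rescale (-1 : k) (nfA k r 1 a) = -nfA k r 1 a :=
        neg_eq_iff_eq_neg.mp e1.symm
      have o1 := (rescale_eq_neg_iff k h2 _).mp e1'
      refine ⟨ArSing.xMap k m (evenPart k (nfA k r 0 a)) +
        ArSing.y k m * ArSing.xMap k m (oddPart k (nfA k r 1 a)), ?_⟩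
      change φ _ = a
      rw [hφc]
      have hF : nfA k r 0 a = ex2 k (evenPart k (nfA k r 0 a)) := by
        conv_lhs => rw [even_odd_decomp k (nfA k r 0 a), o0, map_zero, mul_zero, add_zero]
      have hG : nfA k r 1 a = PowerSeries.X * ex2 k (oddPart k (nfA k r 1 a)) := by
        conv_lhs => rw [even_odd_decomp k (nfA k r 1 a), o1, map_zero, zero_add]
      rw [← hF, ← hG]
      exact ha.symm
    · rintro ⟨b, rfl⟩
      change σ (φ b) = φ b
      rw [hφb b, hσc, (rescale_eq_self_iff k h2 _).mpr (hex_odd _),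
        (rescale_eq_neg_iff k h2 _).mpr (hXex_even _), neg_neg]
  · -- injective
    rw [injective_iff_map_eq_zero]
    intro b hb
    rw [hφb b] at hb
    have h1 := (eq_combo_iff k r 0 _ _).mp hb.symm
    rw [nfA_zero' k r (by omega), nfA_zero' k r (by omega)] at h1
    obtain ⟨e0, e1⟩ := h1
    have e0' : ex2 k (nfA k m 0 b) + PowerSeries.X * ex2 k 0 = 0 := by
      rw [map_zero, mul_zero, add_zero]
      exact e0.symm
    have e1' : ex2 k 0 + PowerSeries.X * ex2 k (nfA k m 1 b) = 0 := by
      rw [map_zero, zero_add]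
      exact e1.symm
    exact (eq_zero_iff k m b).mpr ⟨((combo_eq_zero_iff k _ _).mp e0').1,
      ((combo_eq_zero_iff k _ _).mp e1').2⟩
  · -- not flat
    rw [RingHom.Flat]
    letI : Algebra (ArSing.ring k m) (ArSing.ring k r) := φ.toRingHom.toAlgebra
    have hsmul : ∀ (c : ArSing.ring k m) (a : ArSing.ring k r), c • a = φ c * a :=
      fun c a => rfl
    intro hflat
    have hrel : ArSing.y k m • ArSing.x k r + (-ArSing.x k m) • ArSing.y k r = 0 := by
      rw [hsmul, hsmul, map_neg, hφx, hφy]
      ring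
    obtain ⟨K, a0, a1, Y, hx0, -, hfa⟩ := trivial_relation_two (R := ArSing.ring k m)
      (M := ArSing.ring k r) (ArSing.y k m) (-ArSing.x k m) (ArSing.x k r) (ArSing.y k r) hrel
    -- the coefficients a0 j lie in the maximal ideal
    have ha0 : ∀ j, aug k m (a0 j) = 0 := by
      intro j
      have h := hfa j
      have h' : ArSing.y k m * a0 j = ArSing.x k m ^ 1 * a1 j := by
        rw [pow_one]
        linear_combination h
      have h1 := nfA_one_y_mul k m (a0 j)
      rw [h', nfA_x_pow_mul k m 1 (by omega)] at h1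
      rw [aug_eq, ← h1, pow_one, map_mul, PowerSeries.constantCoeff_X, zero_mul]
    -- X^2 divides the first component of φ b * Y for b in the maximal ideal
    have hdvd : ∀ (b : ArSing.ring k m) (Z : ArSing.ring k r), aug k m b = 0 →
        PowerSeries.X ^ 2 ∣ nfA k r 0 (φ b * Z) := by
      intro b Z hb
      rw [aug_eq, ← PowerSeries.X_dvd_iff] at hb
      obtain ⟨f, hf⟩ := hb
      rw [nfA_zero_mul, hφb b, nfA_zero_combo, nfA_one_combo, hf, map_mul, PowerSeries.expand_X]
      apply dvd_add
      · exact Dvd.dvd.mul_right (Dvd.intro _ rfl) _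
      · exact Dvd.dvd.mul_right (pow_dvd_pow _ hr2) _
    have h3 : PowerSeries.X ^ 2 ∣ nfA k r 0 (ArSing.x k r) := by
      rw [hx0]
      have hsum : nfA k r 0 (∑ j, a0 j • Y j) = ∑ j, nfA k r 0 (a0 j • Y j) := by
        have := map_sum (nfEquiv k r) (fun j => a0 j • Y j) Finset.univ
        have h4 := congrArg Prod.fst this
        rw [Prod.fst_sum] at h4
        exact h4
      rw [hsum]
      apply Finset.dvd_sum
      intro j _
      rw [hsmul]
      exact hdvd _ _ (ha0 j)
    rw [← xMap_X, nfA_zero_xMap, PowerSeries.X_pow_dvd_iff] at h3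
    have := h3 1 (by omega)
    rw [PowerSeries.coeff_one_X] at this
    exact one_ne_zero this
  · -- length
    let L : ArSing.ring k r →ₗ[k] (Fin 1 → k) :=
      { toFun := fun a _ => PowerSeries.constantCoeff (nfA k r 0 a)
        map_add' := by
          intro a a'
          funext i
          change PowerSeries.constantCoeff (nfA k r 0 (a + a')) = _
          rw [nfA_add k r (by omega), map_add]
          rfl
        map_smul' := by
          intro c a
          funext i
          change PowerSeries.constantCoeff (nfA k r 0 (c • a)) = _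
          rw [nfA_smul k r (by omega), ← PowerSeries.coeff_zero_eq_constantCoeff_apply,
            PowerSeries.coeff_smul, PowerSeries.coeff_zero_eq_constantCoeff_apply]
          rfl }
    have hL : ∀ a i, L a i = PowerSeries.constantCoeff (nfA k r 0 a) := fun a i => rfl
    have hsurj : Function.Surjective L := by
      intro v
      refine ⟨ArSing.xMap k r (PowerSeries.C (v 0)), ?_⟩
      funext i
      rw [hL, nfA_zero_xMap, PowerSeries.constantCoeff_C]
      congr 1
      exact Subsingleton.elim _ _
    have hker : ∀ a, a ∈ Ideal.span (Set.range fun a : ArSing.ring k r => σ a - a) ↔ L a = 0 := by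
      intro a
      rw [hJ, aug_eq]
      constructor
      · intro h
        funext i
        rw [hL]
        exact h
      · intro h
        have e0 := congrFun h 0
        rw [hL] at e0
        exact e0
    have := length_quotient_eq k r _ L hsurj hker
    rw [this]
    rfl
  · -- not Cartier
    rintro ⟨g, hg, hgJ⟩
    have hxg : ArSing.x k r ∈ Ideal.span {g} := hgJ ▸ hxJ
    have hyg : ArSing.y k r ∈ Ideal.span {g} := hgJ ▸ hyJ
    have hgg : g ∈ Ideal.span (Set.range fun a : ArSing.ring k r => σ a - a) := by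
      rw [hgJ]
      exact Ideal.subset_span rfl
    rw [Ideal.mem_span_singleton] at hxg hyg
    obtain ⟨u, hu⟩ := hxg
    obtain ⟨v, hv⟩ := hyg
    obtain ⟨p, q, hpq⟩ := hmax g ((hJ g).mp hgg)
    have h1 : (1 - (u * p + v * q)) * g = 0 := by
      have : g = g * (u * p + v * q) := by
        conv_lhs => rw [hpq, hu, hv]
        ring
      linear_combination this
    have h2' := (mem_nonZeroDivisors_iff_right.mp hg) _ h1
    have h3 : aug k r u * aug k r p + aug k r v * aug k r q = 1 := by
      have := congrArg (aug k r) h2'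
      rw [map_sub, map_add, map_mul, map_mul, map_one, map_zero] at this
      linear_combination -this
    have hunit : ∀ w : ArSing.ring k r, aug k r w ≠ 0 → IsUnit w := by
      intro w hw
      by_contra hnu
      have : w ∈ IsLocalRing.maximalIdeal (ArSing.ring k r) := by
        rw [IsLocalRing.mem_maximalIdeal, mem_nonunits_iff]
        exact hnu
      exact hw ((mem_maximalIdeal_iff k r w).mp this)
    by_cases hu0 : aug k r u = 0
    · have hv0 : aug k r v ≠ 0 := by
        intro hv0
        rw [hu0, hv0, zero_mul, zero_mul, add_zero] at h3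
        exact zero_ne_one h3
      obtain ⟨v', hv'⟩ := hunit v hv0
      have hxy : ArSing.x k r ∈ Ideal.span {ArSing.y k r} := by
        rw [Ideal.mem_span_singleton]
        refine ⟨(v'⁻¹ : (ArSing.ring k r)ˣ) * u, ?_⟩
        rw [hu, hv, ← hv']
        have : (v' : ArSing.ring k r) * ((v'⁻¹ : (ArSing.ring k r)ˣ) : ArSing.ring k r) = 1 :=
          Units.mul_inv v'
        linear_combination (-(g * u)) * this
      rw [mem_span_y_iff, ← xMap_X, nfA_zero_xMap, PowerSeries.X_pow_dvd_iff] at hxy
      have := hxy 1 (by omega)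
      rw [PowerSeries.coeff_one_X] at this
      exact one_ne_zero this
    · obtain ⟨u', hu'⟩ := hunit u hu0
      have hyx : ArSing.y k r ∈ Ideal.span {ArSing.x k r} := by
        rw [Ideal.mem_span_singleton]
        refine ⟨(u'⁻¹ : (ArSing.ring k r)ˣ) * v, ?_⟩
        rw [hu, hv, ← hu']
        have : (u' : ArSing.ring k r) * ((u'⁻¹ : (ArSing.ring k r)ˣ) : ArSing.ring k r) = 1 :=
          Units.mul_inv u'
        linear_combination (-(g * v)) * this
      rw [mem_span_x_iff, nfA_one_y] at hyx
      have := hyx.2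
      rw [PowerSeries.X_dvd_iff, map_one] at this
      exact one_ne_zero this



/-- K algebraically closed of characteristic prime to 2 and to r+1, r = 2m - 1 with m ≥ 1, σ the
involution x ↦ -x, y ↦ -y of A_r = k[[x,y]]/(y^2 - x^(r+1)), and φ : A_m → A_r the k-algebra map x ↦
x^2, y ↦ xy. Then the invariant subalgebra of σ is the image of φ and φ is injective (so A_r^σ ≅
A_m), φ is not flat, and the fixed locus of σ is the reduced closed point and is not a Cartier
divisor: the ideal generated by the elements σ(a) - a has quotient of length 1 and is not generated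
by one nonzerodivisor. -/
theorem result (k : Type u) [Field k] [IsAlgClosed k] (m r : ℕ)
    (hm : 1 ≤ m) (hr : r = 2 * m - 1) (h2 : (2 : k) ≠ 0) (hr1 : ((r + 1 : ℕ) : k) ≠ 0)
    (σ : ArSing.ring k r ≃ₐ[k] ArSing.ring k r) (hx : σ (ArSing.x k r) = -ArSing.x k r)
    (hy : σ (ArSing.y k r) = -ArSing.y k r)
    (φ : ArSing.ring k m →ₐ[k] ArSing.ring k r) (hφx : φ (ArSing.x k m) = ArSing.x k r ^ 2)
    (hφy : φ (ArSing.y k m) = ArSing.x k r * ArSing.y k r) :
    (∀ a : ArSing.ring k r, σ a = a ↔ a ∈ φ.range) ∧ Function.Injective φ ∧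
    ¬ φ.toRingHom.Flat ∧
    Module.length (ArSing.ring k r) (ArSing.ring k r ⧸ Ideal.span (Set.range fun a : ArSing.ring k r => σ a - a)) = 1 ∧
    ¬ (∃ g : ArSing.ring k r, g ∈ nonZeroDivisors (ArSing.ring k r) ∧ Ideal.span (Set.range fun a : ArSing.ring k r => σ a - a) = Ideal.span {g}) := by
  exact main k m r hm hr h2 hr1 σ hx hy φ hφx hφy

end Groth.Agent.S14095
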