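import Groth.Statements.S14096
import Mathlib
import Groth.Agent.Lib.Helper10.ArNF4

set_option autoImplicit false
universe u
open ArSing

namespace Groth.Agent.S14096

set_option linter.style.haveILetI false
set_option linter.unusedSectionVars false

open Groth.Agent.Lib.helper10.ArNF

theorem trivial_relation_two {R M : Type*} [CommRing R] [AddCommGroup M] [Module R M]
    [Module.Flat R M] (f0 f1 : R) (x0 x1 : M) (h : f0 • x0 + f1 • x1 = 0) :
    ∃ (K : ℕ) (a0 a1 : Fin K → R) (Y : Fin K → M), x0 = ∑ j, a0 j • Y j ∧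
      x1 = ∑ j, a1 j • Y j ∧ ∀ j, f0 * a0 j + f1 * a1 j = 0 := by
  have hrel : ∑ i : Fin 2, (![f0, f1] i) • (![x0, x1] i) = 0 := by
    rw [Fin.sum_univ_two]
    exact h
  obtain ⟨K, a, Y, hxY, hfa⟩ := Module.Flat.isTrivialRelation_of_sum_smul_eq_zero hrel
  refine ⟨K, a 0, a 1, Y, hxY 0, hxY 1, fun j => ?_⟩
  have := hfa j
  rw [Fin.sum_univ_two] at this
  exact this

theorem flat_relation {R S : Type*} [CommRing R] [CommRing S] (f : R →+* S) (hf : f.Flat)
    (f0 f1 : R) (x0 x1 : S) (h : f f0 * x0 + f f1 * x1 = 0) :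
    ∃ (K : ℕ) (a0 a1 : Fin K → R) (Y : Fin K → S), x0 = ∑ j, f (a0 j) * Y j ∧
      x1 = ∑ j, f (a1 j) * Y j ∧ ∀ j, f0 * a0 j + f1 * a1 j = 0 := by
  rw [RingHom.Flat] at hf
  letI : Algebra R S := f.toAlgebra
  have hsmul : ∀ (c : R) (a : S), c • a = f c * a := fun c a => rfl
  have hrel : f0 • x0 + f1 • x1 = 0 := by
    rw [hsmul, hsmul]
    exact h
  obtain ⟨K, a0, a1, Y, h0, h1, hfa⟩ := trivial_relation_two (R := R) (M := S) f0 f1 x0 x1 hrel
  exact ⟨K, a0, a1, Y, h0, h1, hfa⟩

theorem main (k : Type u) [Field k] [IsAlgClosed k]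
    (h2 : (2 : k) ≠ 0)
    (σ : ArSing.ring k 1 ≃ₐ[k] ArSing.ring k 1) (hx : σ (ArSing.x k 1) = ArSing.y k 1)
    (hy : σ (ArSing.y k 1) = ArSing.x k 1)
    (φ : ArSing.ring k 1 →ₐ[k] ArSing.ring k 1)
    (hφu : φ (ArSing.x k 1 + ArSing.y k 1) = ArSing.x k 1 + ArSing.y k 1)
    (hφv : φ (ArSing.y k 1 - ArSing.x k 1) = (ArSing.y k 1 - ArSing.x k 1) ^ 2) :
    (∀ a : ArSing.ring k 1, σ a = a ↔ a ∈ φ.range) ∧ Function.Injective φ ∧
    Ideal.span (Set.range fun a : ArSing.ring k 1 => σ a - a) =
      Ideal.span {ArSing.y k 1 - ArSing.x k 1} ∧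
    (ArSing.y k 1 - ArSing.x k 1) ∉ nonZeroDivisors (ArSing.ring k 1) ∧
    Ideal.span {ArSing.y k 1 - ArSing.x k 1} ∈ minimalPrimes (ArSing.ring k 1) ∧
    ¬ φ.toRingHom.Flat := by
  have h2ps := two_ne_zero_ps k h2
  have hC2 : (PowerSeries.C (-2 : k)) = (-2 : PowerSeries k) := by
    rw [map_neg, map_ofNat]
  -- σ on the branches
  have hPσ' : (piP k).comp (σ : ArSing.ring k 1 →ₐ[k] ArSing.ring k 1) = piP k := by
    apply algHom_ext_xy
    · change piP k (σ (ArSing.x k 1)) = _
      rw [hx, piP_x, piP_y]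
    · change piP k (σ (ArSing.y k 1)) = _
      rw [hy, piP_x, piP_y]
    · change PowerSeries.X ∣ piP k (σ (ArSing.x k 1))
      rw [hx, piP_y]
  have hPσ : ∀ a, piP k (σ a) = piP k a := fun a => DFunLike.congr_fun hPσ' a
  have hMσ' : (piM k).comp (σ : ArSing.ring k 1 →ₐ[k] ArSing.ring k 1) =
      (rescaleAlg k (-1)).comp (piM k) := by
    apply algHom_ext_xy
    · change piM k (σ (ArSing.x k 1)) = rescaleAlg k (-1) (piM k (ArSing.x k 1))
      rw [hx, piM_x, piM_y, rescaleAlg_apply, PowerSeries.rescale_neg_one_X]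
    · change piM k (σ (ArSing.y k 1)) = rescaleAlg k (-1) (piM k (ArSing.y k 1))
      rw [hy, piM_x, piM_y, rescaleAlg_apply, map_neg, PowerSeries.rescale_neg_one_X, neg_neg]
    · change PowerSeries.X ∣ piM k (σ (ArSing.x k 1))
      rw [hx, piM_y]
      exact (dvd_neg (a := (PowerSeries.X : PowerSeries k))).mpr (dvd_refl _)
  have hMσ : ∀ a, piM k (σ a) = PowerSeries.rescale (-1 : k) (piM k a) :=
    fun a => DFunLike.congr_fun hMσ' a
  -- φ on x and y
  have e2x : (2 : ArSing.ring k 1) * φ (ArSing.x k 1) =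
      (ArSing.x k 1 + ArSing.y k 1) - (ArSing.y k 1 - ArSing.x k 1) ^ 2 := by
    rw [← hφu, ← hφv, ← map_sub, ← map_ofNat φ 2, ← map_mul]
    congr 1
    ring
  have e2y : (2 : ArSing.ring k 1) * φ (ArSing.y k 1) =
      (ArSing.x k 1 + ArSing.y k 1) + (ArSing.y k 1 - ArSing.x k 1) ^ 2 := by
    rw [← hφu, ← hφv, ← map_add, ← map_ofNat φ 2, ← map_mul]
    congr 1
    ring
  have hPφx : piP k (φ (ArSing.x k 1)) = PowerSeries.X := by
    have := congrArg (piP k) e2x
    rw [map_mul, map_ofNat, map_sub, map_add, map_pow, map_sub, piP_x, piP_y] at this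
    apply mul_left_cancel₀ h2ps
    rw [this]
    ring
  have hPφy : piP k (φ (ArSing.y k 1)) = PowerSeries.X := by
    have := congrArg (piP k) e2y
    rw [map_mul, map_ofNat, map_add, map_add, map_pow, map_sub, piP_x, piP_y] at this
    apply mul_left_cancel₀ h2ps
    rw [this]
    ring
  have hMφx : piM k (φ (ArSing.x k 1)) = -2 * PowerSeries.X ^ 2 := by
    have := congrArg (piM k) e2x
    rw [map_mul, map_ofNat, map_sub, map_add, map_pow, map_sub, piM_x, piM_y] at this
    apply mul_left_cancel₀ h2ps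
    rw [this]
    ring
  have hMφy : piM k (φ (ArSing.y k 1)) = 2 * PowerSeries.X ^ 2 := by
    have := congrArg (piM k) e2y
    rw [map_mul, map_ofNat, map_add, map_add, map_pow, map_sub, piM_x, piM_y] at this
    apply mul_left_cancel₀ h2ps
    rw [this]
    ring
  have hPφ' : (piP k).comp φ = piP k := by
    apply algHom_ext_xy
    · change piP k (φ (ArSing.x k 1)) = _
      rw [hPφx, piP_x]
    · change piP k (φ (ArSing.y k 1)) = _
      rw [hPφy, piP_y]
    · change PowerSeries.X ∣ piP k (φ (ArSing.x k 1))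
      rw [hPφx]
  have hPφ : ∀ a, piP k (φ a) = piP k a := fun a => DFunLike.congr_fun hPφ' a
  have hSX : ex2 k (PowerSeries.rescale (-2 : k) PowerSeries.X) = -2 * PowerSeries.X ^ 2 := by
    rw [PowerSeries.rescale_X, map_mul, PowerSeries.expand_C, PowerSeries.expand_X, hC2]
  have hMφ' : (piM k).comp φ = ((ex2 k).comp (rescaleAlg k (-2))).comp (piM k) := by
    apply algHom_ext_xy
    · change piM k (φ (ArSing.x k 1)) = ex2 k (rescaleAlg k (-2) (piM k (ArSing.x k 1)))
      rw [hMφx, piM_x, rescaleAlg_apply, hSX]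
    · change piM k (φ (ArSing.y k 1)) = ex2 k (rescaleAlg k (-2) (piM k (ArSing.y k 1)))
      rw [hMφy, piM_y, rescaleAlg_apply, map_neg, map_neg, hSX]
      ring
    · change PowerSeries.X ∣ piM k (φ (ArSing.x k 1))
      rw [hMφx]
      exact ⟨-2 * PowerSeries.X, by ring⟩
  have hMφ : ∀ a, piM k (φ a) = ex2 k (PowerSeries.rescale (-2 : k) (piM k a)) :=
    fun a => DFunLike.congr_fun hMφ' a
  have hex_odd : ∀ u : PowerSeries k, oddPart k (ex2 k u) = 0 := by
    intro u
    have := oddPart_combo k u 0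
    rwa [map_zero, mul_zero, add_zero] at this
  have hex_inj : ∀ u : PowerSeries k, ex2 k u = 0 → u = 0 := by
    intro u hu
    have : ex2 k u + PowerSeries.X * ex2 k 0 = 0 := by
      rw [map_zero, mul_zero, add_zero, hu]
    exact ((combo_eq_zero_iff k _ _).mp this).1
  have hm2 : (-2 : k) ≠ 0 := neg_ne_zero.mpr h2
  -- the element y - x
  have hPv : piP k (ArSing.y k 1 - ArSing.x k 1) = 0 := by
    rw [map_sub, piP_x, piP_y, sub_self]
  have hMv : piM k (ArSing.y k 1 - ArSing.x k 1) = -2 * PowerSeries.X := by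
    rw [map_sub, piM_x, piM_y]
    ring
  have hσv : σ (ArSing.y k 1 - ArSing.x k 1) = -(ArSing.y k 1 - ArSing.x k 1) := by
    rw [map_sub, hx, hy]
    ring
  have hJ : Ideal.span (Set.range fun a : ArSing.ring k 1 => σ a - a) =
      Ideal.span {ArSing.y k 1 - ArSing.x k 1} := by
    apply le_antisymm
    · rw [Ideal.span_le]
      rintro _ ⟨a, rfl⟩
      change σ a - a ∈ Ideal.span {ArSing.y k 1 - ArSing.x k 1}
      rw [← piP_eq_zero_iff, map_sub, hPσ, sub_self]
    · rw [Ideal.span_le, Set.singleton_subset_iff]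
      have h1 : σ (ArSing.y k 1 - ArSing.x k 1) - (ArSing.y k 1 - ArSing.x k 1) ∈
          Ideal.span (Set.range fun a : ArSing.ring k 1 => σ a - a) :=
        Ideal.subset_span ⟨_, rfl⟩
      have h3 := Ideal.mul_mem_left _ (algebraMap k (ArSing.ring k 1) (-2)⁻¹) h1
      have e : algebraMap k (ArSing.ring k 1) (-2)⁻¹ *
          (σ (ArSing.y k 1 - ArSing.x k 1) - (ArSing.y k 1 - ArSing.x k 1)) =
          ArSing.y k 1 - ArSing.x k 1 := by
        rw [hσv]
        have : -(ArSing.y k 1 - ArSing.x k 1) - (ArSing.y k 1 - ArSing.x k 1) =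
            algebraMap k (ArSing.ring k 1) (-2) * (ArSing.y k 1 - ArSing.x k 1) := by
          rw [map_neg, map_ofNat]
          ring
        rw [this, ← mul_assoc, ← map_mul, inv_mul_cancel₀ hm2, map_one, one_mul]
      rw [e] at h3
      exact h3
  have hker : Ideal.span {ArSing.y k 1 - ArSing.x k 1} = RingHom.ker (piP k).toRingHom := by
    ext a
    rw [RingHom.mem_ker, ← piP_eq_zero_iff]
    rfl
  have huv : (ArSing.x k 1 + ArSing.y k 1) * (ArSing.y k 1 - ArSing.x k 1) = 0 := by
    have h := y_mul_y k 1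
    rw [map_pow, xMap_X] at h
    linear_combination h
  have hPu : piP k (ArSing.x k 1 + ArSing.y k 1) = 2 * PowerSeries.X := by
    rw [map_add, piP_x, piP_y]
    ring
  have h2X : (2 : PowerSeries k) * PowerSeries.X ≠ 0 :=
    mul_ne_zero h2ps PowerSeries.X_ne_zero
  refine ⟨?_, ?_, hJ, ?_, ?_, ?_⟩
  · -- invariants
    intro a
    constructor
    · intro hfix
      have h1 := hMσ a
      rw [hfix] at h1
      have o1 := (rescale_eq_self_iff k h2 _).mp h1.symm
      have hw : piM k a = ex2 k (evenPart k (piM k a)) := by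
        conv_lhs => rw [even_odd_decomp k (piM k a), o1, map_zero, mul_zero, add_zero]
      obtain ⟨w, hwdef⟩ : ∃ w, w = evenPart k (piM k a) := ⟨_, rfl⟩
      rw [← hwdef] at hw
      have hcw : PowerSeries.constantCoeff w = PowerSeries.constantCoeff (piP k a) := by
        have h3 : PowerSeries.constantCoeff (piM k a) = PowerSeries.constantCoeff (piP k a) := by
          rw [piM_apply, piP_apply, map_sub, map_add, map_mul, PowerSeries.constantCoeff_X,
            zero_mul, sub_zero, add_zero]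
        rw [← h3, hw, PowerSeries.constantCoeff_expand]
      have hcq : PowerSeries.constantCoeff (piP k a) =
          PowerSeries.constantCoeff (PowerSeries.rescale ((-2 : k)⁻¹) w) := by
        rw [← hcw, ← PowerSeries.coeff_zero_eq_constantCoeff_apply,
          ← PowerSeries.coeff_zero_eq_constantCoeff_apply, PowerSeries.coeff_rescale, pow_zero,
          one_mul]
      obtain ⟨b, hbP, hbM⟩ := exists_of_pi k h2 _ _ hcq
      refine ⟨b, ?_⟩
      change φ b = a
      apply eq_of_pi k h2
      · rw [hPφ, hbP]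
      · rw [hMφ, hbM, PowerSeries.rescale_rescale, inv_mul_cancel₀ hm2, PowerSeries.rescale_one,
          RingHom.id_apply, ← hw]
    · rintro ⟨b, rfl⟩
      change σ (φ b) = φ b
      apply eq_of_pi k h2
      · rw [hPσ]
      · rw [hMσ, hMφ, (rescale_eq_self_iff k h2 _).mpr (hex_odd _)]
  · -- injective
    rw [injective_iff_map_eq_zero]
    intro b hb
    apply eq_zero_of_pi k h2
    · rw [← hPφ, hb, map_zero]
    · have h1 := hMφ b
      rw [hb, map_zero] at h1
      have h3 := hex_inj _ h1.symm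
      exact PowerSeries.rescale_injective hm2 (by rw [h3, map_zero])
  · -- zero divisor
    intro hnzd
    have := (mem_nonZeroDivisors_iff_right.mp hnzd) _ huv
    have h1 := congrArg (piP k) this
    rw [hPu, map_zero] at h1
    exact h2X h1
  · -- minimal prime
    rw [minimalPrimes_eq_minimals]
    refine ⟨?_, ?_⟩
    · rw [hker]
      exact RingHom.ker_isPrime _
    · intro P hP hle
      rw [Ideal.span_le, Set.singleton_subset_iff]
      have h0 : (ArSing.x k 1 + ArSing.y k 1) * (ArSing.y k 1 - ArSing.x k 1) ∈ P := by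
        rw [huv]
        exact P.zero_mem
      rcases hP.mem_or_mem h0 with h | h
      · exfalso
        have h1 := hle h
        rw [← piP_eq_zero_iff, hPu] at h1
        exact h2X h1
      · exact h
  · -- not flat
    intro hflat
    have hrel : φ.toRingHom (ArSing.x k 1 + ArSing.y k 1) * (ArSing.y k 1 - ArSing.x k 1) +
        φ.toRingHom (0 : ArSing.ring k 1) * (0 : ArSing.ring k 1) = 0 := by
      change φ (ArSing.x k 1 + ArSing.y k 1) * (ArSing.y k 1 - ArSing.x k 1) +
        φ (0 : ArSing.ring k 1) * (0 : ArSing.ring k 1) = 0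
      rw [hφu, huv, map_zero, zero_mul, add_zero]
    obtain ⟨K, a0, a1, Y, hx0, -, hfa⟩ := flat_relation φ.toRingHom hflat
      (ArSing.x k 1 + ArSing.y k 1) 0 (ArSing.y k 1 - ArSing.x k 1) 0 hrel
    have hx0' : ArSing.y k 1 - ArSing.x k 1 = ∑ j, φ (a0 j) * Y j := hx0
    have ha0 : ∀ j, ∃ b, a0 j = (ArSing.y k 1 - ArSing.x k 1) * b := by
      intro j
      have h := hfa j
      rw [zero_mul, add_zero] at h
      have h1 := congrArg (piP k) h
      rw [map_mul, hPu, map_zero] at h1
      have h3 : piP k (a0 j) = 0 := by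
        rcases mul_eq_zero.mp h1 with h | h
        · exact absurd h h2X
        · exact h
      rw [piP_eq_zero_iff, Ideal.mem_span_singleton] at h3
      exact h3
    have hdvd : PowerSeries.X ^ 2 ∣ piM k (ArSing.y k 1 - ArSing.x k 1) := by
      rw [hx0', map_sum]
      apply Finset.dvd_sum
      intro j _
      obtain ⟨b, hb⟩ := ha0 j
      rw [hb, map_mul, map_mul, map_mul, hφv, map_pow, hMv]
      exact ⟨4 * piM k (φ b) * piM k (Y j), by ring⟩
    rw [hMv, PowerSeries.X_pow_dvd_iff] at hdvd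
    have := hdvd 1 (by omega)
    rw [← hC2, PowerSeries.coeff_C_mul, PowerSeries.coeff_one_X, mul_one] at this
    exact hm2 this



/-- K algebraically closed of characteristic ≠ 2, σ the involution of the node algebra A_1 =
k[[x,y]]/(y^2 - x^2) exchanging x and y, and φ : A_1 → A_1 the k-algebra map with φ(x + y) = x + y
and φ(y - x) = (y - x)^2 (in the branch coordinates u = x + y, v = y - x with uv = 0: u ↦ u, v ↦
v^2). Then the invariant subalgebra of σ is the image of φ and φ is injective (so A_1^σ ≅ A_1), and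
the fixed locus of σ is the branch v = 0: the ideal generated by the elements σ(a) - a is the ideal
(y - x), a minimal prime ideal generated by a zero-divisor (so not a Cartier divisor). Moreover φ is
not flat. (The published statement asserts that this extension is faithfully flat; it is not: as a
module over the invariant subalgebra B = k[[u,w]]/(uw), w = v^2, A_1 is B ⊕ (B/uB)·v, and B/uB is
not flat over B — equivalently the fibre length jumps from 1 on the branch w = 0 to 2 at the closed
point.) -/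
theorem result (k : Type u) [Field k] [IsAlgClosed k]
    (h2 : (2 : k) ≠ 0)
    (σ : ArSing.ring k 1 ≃ₐ[k] ArSing.ring k 1) (hx : σ (ArSing.x k 1) = ArSing.y k 1)
    (hy : σ (ArSing.y k 1) = ArSing.x k 1)
    (φ : ArSing.ring k 1 →ₐ[k] ArSing.ring k 1) (hφu : φ (ArSing.x k 1 + ArSing.y k 1) = ArSing.x k 1 + ArSing.y k 1)
    (hφv : φ (ArSing.y k 1 - ArSing.x k 1) = (ArSing.y k 1 - ArSing.x k 1) ^ 2) :
    (∀ a : ArSing.ring k 1, σ a = a ↔ a ∈ φ.range) ∧ Function.Injective φ ∧
    Ideal.span (Set.range fun a : ArSing.ring k 1 => σ a - a) = Ideal.span {ArSing.y k 1 - ArSing.x k 1} ∧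
    (ArSing.y k 1 - ArSing.x k 1) ∉ nonZeroDivisors (ArSing.ring k 1) ∧
    Ideal.span {ArSing.y k 1 - ArSing.x k 1} ∈ minimalPrimes (ArSing.ring k 1) ∧
    ¬ φ.toRingHom.Flat := by
  exact main k h2 σ hx hy φ hφu hφv

end Groth.Agent.S14096
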