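import Groth.Statements.S14097
import Mathlib

set_option autoImplicit false
universe u
open ArSing

namespace Groth.Agent.S14097

theorem esymm_zero' {R : Type*} [CommSemiring R] (s : Multiset R) : s.esymm 0 = 1 := by
  simp [Multiset.esymm]

theorem esymm_cons_succ {R : Type*} [CommSemiring R] (a : R) (s : Multiset R) (n : ℕ) :
    (a ::ₘ s).esymm (n + 1) = s.esymm (n + 1) + a * s.esymm n := by
  simp only [Multiset.esymm, Multiset.powersetCard_cons, Multiset.map_add, Multiset.sum_add,
    Multiset.map_map]
  congr 1
  rw [← Multiset.sum_map_mul_left]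
  congr 1
  apply Multiset.map_congr rfl
  intro t _
  simp

theorem esymm_eq_zero_of_card_lt {R : Type*} [CommSemiring R] (s : Multiset R) (n : ℕ)
    (h : Multiset.card s < n) : s.esymm n = 0 := by
  simp [Multiset.esymm, Multiset.powersetCard_eq_empty n h]

theorem esymm_card {R : Type*} [CommSemiring R] (s : Multiset R) :
    s.esymm (Multiset.card s) = s.prod := by
  induction s using Multiset.induction_on with
  | empty => simp [Multiset.esymm]
  | cons a s ih =>
    rw [Multiset.card_cons, esymm_cons_succ, esymm_eq_zero_of_card_lt _ _ (Nat.lt_succ_self _),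
      zero_add, ih, Multiset.prod_cons]

theorem key (A : Type*) [CommRing A] (τ : A) (h : ℕ → A) (n : ℕ)
    (hrel : ∀ i, i < n + 1 → h i ^ 2 + τ * h i = 0) :
    (∏ i ∈ Finset.range n, (h i + h (i + 1) + τ) =
      ∑ j ∈ Finset.range (n + 1), τ ^ (n - j) * (((Finset.range (n + 1)).val.map h).esymm j)) ∧
    h n * ∏ i ∈ Finset.range n, (h i + h (i + 1) + τ) = ∏ i ∈ Finset.range (n + 1), h i := by
  induction n with
  | zero => simp [esymm_zero']
  | succ n ih =>
    obtain ⟨ihP, ihH⟩ := ih (fun i hi => hrel i (by omega))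
    have hr := hrel (n + 1) (by omega)
    have hH : h (n + 1) * ∏ i ∈ Finset.range (n + 1), (h i + h (i + 1) + τ) =
        ∏ i ∈ Finset.range (n + 1 + 1), h i := by
      rw [Finset.prod_range_succ, Finset.prod_range_succ (fun i => h i) (n + 1), ← ihH]
      linear_combination (∏ i ∈ Finset.range n, (h i + h (i + 1) + τ)) * hr
    refine ⟨?_, hH⟩
    set s := (Finset.range (n + 1)).val.map h with hs
    have hs' : (Finset.range (n + 1 + 1)).val.map h = h (n + 1) ::ₘ s := by
      rw [hs, Finset.range_val, Finset.range_val, Multiset.range_succ, Multiset.map_cons]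
    have hcard : Multiset.card s = n + 1 := by
      rw [hs, Multiset.card_map, Finset.range_val, Multiset.card_range]
    have hprod : s.prod = ∏ i ∈ Finset.range (n + 1), h i := by
      rw [hs]; rfl
    rw [hs', Finset.sum_range_succ']
    simp only [esymm_cons_succ, esymm_zero', Nat.add_sub_add_right, Nat.sub_zero, mul_one]
    simp only [mul_add, Finset.sum_add_distrib]
    have h1 : ∑ j ∈ Finset.range (n + 1), τ ^ (n - j) * s.esymm (j + 1) + τ ^ (n + 1) =
        τ * ∑ j ∈ Finset.range (n + 1), τ ^ (n - j) * s.esymm j + s.prod := by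
      have h2 : ∑ j ∈ Finset.range (n + 1), τ ^ (n - j) * s.esymm (j + 1) + τ ^ (n + 1) =
          ∑ j ∈ Finset.range (n + 1 + 1), τ ^ (n + 1 - j) * s.esymm j := by
        rw [Finset.sum_range_succ' _ (n + 1)]
        simp only [esymm_zero', Nat.add_sub_add_right, Nat.sub_zero, mul_one]
      rw [h2, Finset.sum_range_succ, Nat.sub_self, pow_zero, one_mul, ← hcard, esymm_card, hcard,
        Finset.mul_sum]
      congr 1
      apply Finset.sum_congr rfl
      intro j hj
      rw [Finset.mem_range] at hj
      rw [Nat.succ_sub (by omega : j ≤ n), pow_succ]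
      ring
    have h3 : ∑ j ∈ Finset.range (n + 1), τ ^ (n - j) * (h (n + 1) * s.esymm j) =
        h (n + 1) * ∑ j ∈ Finset.range (n + 1), τ ^ (n - j) * s.esymm j := by
      rw [Finset.mul_sum]
      apply Finset.sum_congr rfl
      intro j _
      ring
    rw [add_right_comm, h1, h3, ← ihP, hprod, ← ihH, Finset.prod_range_succ]
    ring

/-- In any commutative ring, if h_0, …, h_(k-1) (k ≥ 2) and τ satisfy h_i^2 + τ h_i = 0, then ∏_(i ≤
k-2) (h_i + h_(i+1) + τ) = Σ_(j ≤ k-1) τ^(k-1-j) e_j(h), e_j the elementary symmetric functions.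
(The published statement is the resulting formula for the class of the small diagonal in the Chow
ring of (P^1)^k, where the h_i are the hyperplane classes of the factors and satisfy these
relations; only the ring identity is asserted here.) -/
theorem result (A : Type u) [CommRing A] (k : ℕ) (hk : 2 ≤ k) (τ : A)
    (h : ℕ → A) (hrel : ∀ i, i < k → h i ^ 2 + τ * h i = 0) :
    ∏ i ∈ Finset.range (k - 1), (h i + h (i + 1) + τ) =
      ∑ j ∈ Finset.range k, τ ^ (k - 1 - j) * (((Finset.range k).val.map h).esymm j) := by
  obtain ⟨n, rfl⟩ : ∃ n, k = n + 1 := ⟨k - 1, by omega⟩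
  exact (key A τ h n hrel).1

end Groth.Agent.S14097
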