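import Groth.Statements.S14100
import Mathlib
import Groth.Agent.Lib.Helper25.DerivedTrunc

set_option autoImplicit false
universe w v u
open DCoh

namespace Groth.Agent.S14100


section helpers

open CategoryTheory CategoryTheory.Limits Pretriangulated DerivedCategory
open Groth.Agent.Lib.helper25.DerivedTrunc

variable {C : Type u} [Category.{v} C] [Abelian C] [HasDerivedCategory.{w} C]

/-- the functor `i ↦ i + 1` on `ℕ`. -/
def succF : ℕ ⥤ ℕ := Monotone.functor (f := fun i : ℕ => i + 1) (fun _ _ h => Nat.succ_le_succ h)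

lemma map_homOfLE_comp (K : ℕ ⥤ DerivedCategory C) {i j l : ℕ} (h₁ : i ≤ j) (h₂ : j ≤ l) :
    K.map (homOfLE h₁) ≫ K.map (homOfLE h₂) = K.map (homOfLE (h₁.trans h₂)) := by
  rw [← K.map_comp]
  rfl

theorem main (a : ℤ) (n : ℕ) : ∀ (K : ℕ ⥤ DerivedCategory C),
    (∀ i : ℕ, i ≤ n + 1 → (K.obj i).IsGE a) →
    (∀ i : ℕ, i ≤ n + 1 → (K.obj i).IsLE (a + n)) →
    (∀ i : ℕ, i ≤ n → ∀ q : ℤ,
      (DerivedCategory.homologyFunctor C q).map (K.map (homOfLE (Nat.le_succ i))) = 0) →
    K.map (homOfLE (Nat.zero_le (n + 1))) = 0 := by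
  induction n with
  | zero =>
    intro K hGE hLE hzero
    have h0 := hGE 0 (by omega)
    have h1 := hGE 1 (by omega)
    have h0' : (K.obj 0).IsLE a := by simpa using hLE 0 (by omega)
    have h1' : (K.obj 1).IsLE a := by simpa using hLE 1 (by omega)
    exact eq_zero_of_single_degree a _ (hzero 0 le_rfl a)
  | succ n ih =>
    intro K hGE hLE hzero
    -- m = a + n + 1
    obtain ⟨m, hm⟩ : ∃ m : ℤ, m = a + n + 1 := ⟨_, rfl⟩
    have hLE' : ∀ i : ℕ, i ≤ n + 1 + 1 → (K.obj i).IsLE m := by
      intro i hi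
      have := hLE i hi
      rw [hm]
      have e : a + ((n + 1 : ℕ) : ℤ) = a + n + 1 := by push_cast; ring
      rw [← e]
      exact this
    -- the truncated, shifted chain
    let K' : ℕ ⥤ DerivedCategory C := succF ⋙ K ⋙ (tD C).truncLT m
    have hK' : K'.map (homOfLE (Nat.zero_le (n + 1))) = 0 := by
      apply ih K'
      · intro i hi
        have := hGE (i + 1) (by omega)
        exact isGE_truncLT m a (K.obj (i + 1))
      · intro i hi
        exact (tD C).isLE_truncLT_obj (K.obj (i + 1)) m (a + n) (by omega)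
      · intro i hi q
        have h1 : K'.map (homOfLE (Nat.le_succ i)) =
            ((tD C).truncLT m).map (K.map (homOfLE (Nat.le_succ (i + 1)))) := rfl
        rw [h1]
        exact homology_truncLT_map_eq_zero m q _ (hzero (i + 1) (by omega) q)
    have hK'' : ((tD C).truncLT m).map (K.map (homOfLE (show 1 ≤ n + 1 + 1 by omega))) = 0 := hK'
    -- f₀ factors through the truncation of K_1
    have hf₀ : K.map (homOfLE (Nat.le_succ 0)) ≫ ((tD C).truncGEπ m).app (K.obj 1) = 0 := by
      have hn : K.map (homOfLE (Nat.le_succ 0)) ≫ ((tD C).truncGEπ m).app (K.obj 1) =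
          ((tD C).truncGEπ m).app (K.obj 0) ≫ ((tD C).truncGE m).map (K.map (homOfLE (Nat.le_succ 0))) :=
        ((tD C).truncGEπ m).naturality _
      rw [hn]
      have := hLE' 0 (by omega)
      have := hLE' 1 (by omega)
      have hA : (((tD C).truncGE m).obj (K.obj 0)).IsLE m := isLE_truncGE m m (K.obj 0)
      have hB : (((tD C).truncGE m).obj (K.obj 1)).IsLE m := isLE_truncGE m m (K.obj 1)
      have hA' : (((tD C).truncGE m).obj (K.obj 0)).IsGE m := inferInstance
      have hB' : (((tD C).truncGE m).obj (K.obj 1)).IsGE m := inferInstance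
      have hz : ((tD C).truncGE m).map (K.map (homOfLE (Nat.le_succ 0))) = 0 :=
        eq_zero_of_single_degree m _
          (homology_truncGE_map_eq_zero m m _ (hzero 0 (by omega) m))
      rw [hz, comp_zero]
    obtain ⟨g, hg⟩ : ∃ g : K.obj 0 ⟶ ((tD C).truncLT m).obj (K.obj 1),
        K.map (homOfLE (Nat.le_succ 0)) = g ≫ ((tD C).truncLTι m).app (K.obj 1) :=
      Triangle.coyoneda_exact₂ _ ((tD C).triangleLTGE_distinguished m (K.obj 1))
        (K.map (homOfLE (Nat.le_succ 0))) hf₀
    have hnat : ((tD C).truncLTι m).app (K.obj 1) ≫ K.map (homOfLE (show 1 ≤ n + 1 + 1 by omega)) =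
        ((tD C).truncLT m).map (K.map (homOfLE (show 1 ≤ n + 1 + 1 by omega))) ≫
          ((tD C).truncLTι m).app (K.obj (n + 1 + 1)) :=
      (((tD C).truncLTι m).naturality _).symm
    have hz : ((tD C).truncLTι m).app (K.obj 1) ≫ K.map (homOfLE (show 1 ≤ n + 1 + 1 by omega)) =
        0 := by
      rw [hnat, hK'', zero_comp]
    calc K.map (homOfLE (Nat.zero_le (n + 1 + 1)))
        = K.map (homOfLE (Nat.le_succ 0)) ≫ K.map (homOfLE (show 1 ≤ n + 1 + 1 by omega)) :=
          (map_homOfLE_comp K (Nat.le_succ 0) (show 1 ≤ n + 1 + 1 by omega)).symm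
      _ = (g ≫ ((tD C).truncLTι m).app (K.obj 1)) ≫
            K.map (homOfLE (show 1 ≤ n + 1 + 1 by omega)) := by rw [hg]
      _ = g ≫ (((tD C).truncLTι m).app (K.obj 1) ≫
            K.map (homOfLE (show 1 ≤ n + 1 + 1 by omega))) := Category.assoc _ _ _
      _ = g ≫ 0 := congrArg (fun z => g ≫ z) hz
      _ = 0 := comp_zero

end helpers

open CategoryTheory in
/-- Let C be an abelian category, a an integer and n a natural number, and let K_0 → K_1 → ⋯ → K_{n+1}
be composable morphisms in the derived category of C such that each K_i has cohomology concentrated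
in degrees a, …, a+n and each map K_i → K_{i+1} induces zero on every cohomology object. Then the
composite K_0 → K_{n+1} is zero. (The chain is given as a functor from the ordered set of natural
numbers; only its values on 0, …, n+1 matter.) -/
theorem result
    (C : Type u) [Category.{v} C] [Abelian C] [HasDerivedCategory.{w} C]
    (a : ℤ) (n : ℕ) (K : ℕ ⥤ DerivedCategory C)
    (hGE : ∀ i : ℕ, i ≤ n + 1 → (K.obj i).IsGE a)
    (hLE : ∀ i : ℕ, i ≤ n + 1 → (K.obj i).IsLE (a + n))
    (hzero : ∀ i : ℕ, i ≤ n → ∀ q : ℤ,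
      (DerivedCategory.homologyFunctor C q).map (K.map (homOfLE (Nat.le_succ i))) = 0) :
    K.map (homOfLE (Nat.zero_le (n + 1))) = 0 := by
  exact main a n K hGE hLE hzero

end Groth.Agent.S14100
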