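import Groth.Statements.S14101
import Mathlib
import Groth.Agent.Lib.Helper9.GRGen2
import Groth.Agent.Lib.Helper3.GeomRed

set_option autoImplicit false
universe u
open CAlg

namespace Groth.Agent.S14101

set_option linter.style.haveILetI false

open TensorProduct

theorem general (R : Type u) [CommRing R] [IsDomain R] [CharZero R] (A : Type u) [CommRing A]
    [Algebra R A] [Algebra.FiniteType R A] [IsReduced A] :
    ∃ a : R, a ≠ 0 ∧ ∀ (I : Ideal R) [I.IsMaximal], a ∉ I →
      IsReduced (A ⧸ I.map (algebraMap R A)) := by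
  classical
  haveI : CharZero (FractionRing R) :=
    charZero_of_injective_algebraMap (IsFractionRing.injective R (FractionRing R))
  have h1 : IsReduced (A ⊗[R] R) :=
    isReduced_of_injective (Algebra.TensorProduct.rid R R A).toRingHom
      (Algebra.TensorProduct.rid R R A).injective
  have h2 : IsReduced (A ⊗[R] (FractionRing R)) :=
    Groth.Agent.Lib.helper9.GRGen.isReduced_tensor_of_isLocalization A R
      (FractionRing R) (nonZeroDivisors R) h1
  haveI h3 : IsReduced ((FractionRing R) ⊗[R] A) :=
    Groth.Agent.Lib.helper3.GeomRed.isReduced_comm _ _ h2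
  haveI : Algebra.IsGeometricallyReduced (FractionRing R) ((FractionRing R) ⊗[R] A) :=
    Groth.Agent.Lib.helper3.GeomRed.isGeometricallyReduced_of_perfectField _ _
  obtain ⟨a, ha0, H⟩ := Groth.Agent.Lib.helper9.GRGen.exists_reduced_fibres R (FractionRing R) A
  refine ⟨a, ha0, fun I hI haI => ?_⟩
  letI : Field (R ⧸ I) := Ideal.Quotient.field I
  have hC : algebraMap R (R ⧸ I) a ≠ 0 := by
    rw [Ideal.Quotient.algebraMap_eq, Ne, Ideal.Quotient.eq_zero_iff_mem]
    exact haI
  have hred := H _ hC
  exact isReduced_of_injective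
    (Algebra.TensorProduct.quotIdealMapEquivQuotTensor A I).toRingEquiv.toRingHom
    (Algebra.TensorProduct.quotIdealMapEquivQuotTensor A I).injective

theorem main
    (A : Type u) [CommRing A] [Algebra.FiniteType ℤ A] [IsReduced A] :
    {p : ℕ | p.Prime ∧ ¬ IsReduced (A ⧸ Ideal.span {(p : A)})}.Finite := by
  classical
  haveI : IsDomain (ULift.{u} ℤ) := MulEquiv.isDomain ℤ (ULift.ringEquiv : ULift.{u} ℤ ≃+* ℤ).toMulEquiv
  haveI : CharZero (ULift.{u} ℤ) := ⟨fun a b h => by
    have := congrArg ULift.down h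
    simpa using this⟩
  letI : Algebra (ULift.{u} ℤ) A := ULift.algebra' ℤ A
  haveI : Algebra.FiniteType (ULift.{u} ℤ) A :=
    Algebra.FiniteType.of_restrictScalars_finiteType ℤ (ULift.{u} ℤ) A
  obtain ⟨a, ha0, H⟩ := general (ULift.{u} ℤ) A
  have ha0' : a.down ≠ 0 := by
    intro h
    apply ha0
    exact ULift.ext _ _ h
  refine Set.Finite.subset (Nat.divisors a.down.natAbs).finite_toSet ?_
  rintro p ⟨hp, hnr⟩
  rw [Finset.mem_coe, Nat.mem_divisors]
  refine ⟨?_, by simpa using ha0'⟩
  by_contra hnd
  apply hnr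
  -- the field Z/p
  haveI : IsPrincipalIdealRing (ULift.{u} ℤ) :=
    IsPrincipalIdealRing.of_surjective (ULift.ringEquiv : ULift.{u} ℤ ≃+* ℤ).symm.toRingHom
      (ULift.ringEquiv : ULift.{u} ℤ ≃+* ℤ).symm.surjective
  have hirr : Irreducible ((p : ℕ) : ULift.{u} ℤ) := by
    have : Irreducible ((ULift.ringEquiv : ULift.{u} ℤ ≃+* ℤ) ((p : ℕ) : ULift.{u} ℤ)) := by
      rw [map_natCast]
      exact (Nat.prime_iff_prime_int.mp hp).irreducible
    exact (MulEquiv.irreducible_iff (ULift.ringEquiv : ULift.{u} ℤ ≃+* ℤ).toMulEquiv).mp this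
  haveI hmax : (Ideal.span {((p : ℕ) : ULift.{u} ℤ)}).IsMaximal :=
    PrincipalIdealRing.isMaximal_of_irreducible hirr
  have hC : a ∉ Ideal.span {((p : ℕ) : ULift.{u} ℤ)} := by
    rw [Ideal.mem_span_singleton]
    rintro ⟨c, hc⟩
    apply hnd
    have h5 := congrArg ULift.down hc
    have h6 : a.down = (p : ℤ) * c.down := by simpa using h5
    rw [h6, Int.natAbs_mul, Int.natAbs_natCast]
    exact Dvd.intro _ rfl
  have hred := H _ hC
  have hmap : (Ideal.span {((p : ℕ) : ULift.{u} ℤ)}).map (algebraMap (ULift.{u} ℤ) A) =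
      Ideal.span {(p : A)} := by
    rw [Ideal.map_span, Set.image_singleton, map_natCast]
  rw [← hmap]
  exact hred



/-- Affine form — let A be a reduced commutative ring of finite type over ℤ. Then for all but finitely
many prime numbers p the reduction A/pA is reduced. (The published statement is for a reduced scheme
of finite type over ℤ; such a scheme has a finite affine open cover, so the affine form carries the
same content.) -/
theorem result
    (A : Type u) [CommRing A] [Algebra.FiniteType ℤ A] [IsReduced A] :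
    {p : ℕ | p.Prime ∧ ¬ IsReduced (A ⧸ Ideal.span {(p : A)})}.Finite := by
  exact main A

end Groth.Agent.S14101
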