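import Groth.Statements.S14109
import Mathlib
import Groth.Agent.Lib.Helper17.FibreStalk
import Groth.Agent.Lib.Helper17.CMComp

set_option autoImplicit false
set_option linter.style.haveILetI false
universe u
open CategoryTheory CategoryTheory.Limits AlgebraicGeometry Opposite TopologicalSpace
open CInt

namespace Groth.Agent.S14109


open AlgebraicGeometry CategoryTheory

/-- a nonempty scheme has a point whose local ring has dimension zero. -/
theorem exists_dim_stalk_eq_zero (W : Scheme.{u}) [Nonempty W] :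
    ∃ z : W, ringKrullDim (W.presheaf.stalk z) = 0 := by
  obtain ⟨w⟩ := ‹Nonempty W›
  obtain ⟨_, ⟨U, hU, rfl⟩, hw, -⟩ :=
    W.isBasis_affineOpens.exists_subset_of_mem_open (Set.mem_univ w) isOpen_univ
  let p0 := hU.primeIdealOf ⟨w, hw⟩
  obtain ⟨p, hp, -⟩ := Ideal.exists_minimalPrimes_le (J := p0.asIdeal) (I := ⊥) bot_le
  haveI hpp : p.IsPrime := Ideal.IsMinimalPrime.isPrime hp
  let y : PrimeSpectrum Γ(W, U) := ⟨p, hpp⟩
  have hz : hU.fromSpec y ∈ U := by
    rw [← SetLike.mem_coe, ← hU.range_fromSpec]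
    exact ⟨y, rfl⟩
  refine ⟨hU.fromSpec y, ?_⟩
  have h := hU.isLocalization_stalk' y hz
  rw [@IsLocalization.AtPrime.ringKrullDim_eq_height _ _ y.asIdeal _ _ _
    (TopCat.Presheaf.algebra_section_stalk W.presheaf (⟨hU.fromSpec y, hz⟩ : U)) h]
  have : y.asIdeal.height = 0 := Ideal.height_eq_zero_iff.mpr hp
  rw [this]
  rfl

theorem key {X X' S : Scheme.{u}} [IsLocallyNoetherian X] [IsLocallyNoetherian X']
    (f : X ⟶ S) (g : X' ⟶ X) (y : X) (hy : ∃ x', g x' = y) :
    ∃ y' : X', g y' = y ∧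
      ringKrullDim ↑(CInt.fiberStalk (g ≫ f) y') ≤ ringKrullDim ↑(CInt.fiberStalk f y) := by
  obtain ⟨x0, hx0⟩ := hy
  haveI : Nonempty (g.fiber y) := ⟨(g.fiberHomeo y).symm ⟨x0, hx0⟩⟩
  obtain ⟨z, hz⟩ := exists_dim_stalk_eq_zero (g.fiber y)
  set x' := g.fiberι y z with hx'
  have hgx' : g x' = y := by
    have : x' ∈ Set.range (g.fiberι y) := ⟨z, rfl⟩
    rw [g.range_fiberι y] at this
    exact this
  refine ⟨x', hgx', ?_⟩
  have hcomp : (g ≫ f).stalkMap x' = f.stalkMap (g x') ≫ g.stalkMap x' :=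
    Scheme.Hom.stalkMap_comp g f x'
  letI algAB : Algebra (S.presheaf.stalk ((g ≫ f) x')) (X.presheaf.stalk (g x')) :=
    (f.stalkMap (g x')).hom.toAlgebra
  letI algBC : Algebra (X.presheaf.stalk (g x')) (X'.presheaf.stalk x') :=
    (g.stalkMap x').hom.toAlgebra
  letI algAC : Algebra (S.presheaf.stalk ((g ≫ f) x')) (X'.presheaf.stalk x') :=
    ((g ≫ f).stalkMap x').hom.toAlgebra
  haveI : IsScalarTower (S.presheaf.stalk ((g ≫ f) x')) (X.presheaf.stalk (g x'))
      (X'.presheaf.stalk x') :=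
    IsScalarTower.of_algebraMap_eq' congr($(hcomp).hom)
  haveI : IsLocalHom (algebraMap (S.presheaf.stalk ((g ≫ f) x')) (X.presheaf.stalk (g x'))) :=
    inferInstanceAs (IsLocalHom (f.stalkMap (g x')).hom)
  haveI : IsLocalHom (algebraMap (X.presheaf.stalk (g x')) (X'.presheaf.stalk x')) :=
    inferInstanceAs (IsLocalHom (g.stalkMap x').hom)
  obtain ⟨ef⟩ := Groth.Agent.Lib.helper17.FibreStalk.nonempty_asFiber_stalk_equiv f (g x')
  obtain ⟨egf⟩ := Groth.Agent.Lib.helper17.FibreStalk.nonempty_asFiber_stalk_equiv (g ≫ f) x'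
  have eg := Groth.Agent.Lib.helper17.FibreStalk.fiberStalkEquiv g y z
  have h := Groth.Agent.Lib.helper17.CMComp.dim_fibre_le_add
    (S.presheaf.stalk ((g ≫ f) x')) (X.presheaf.stalk (g x')) (X'.presheaf.stalk x')
    inferInstance inferInstance
  have h1 : ringKrullDim ↑(CInt.fiberStalk f (g x')) = ringKrullDim (X.presheaf.stalk (g x') ⧸
      (IsLocalRing.maximalIdeal (S.presheaf.stalk ((g ≫ f) x'))).map
        (algebraMap (S.presheaf.stalk ((g ≫ f) x')) (X.presheaf.stalk (g x')))) :=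
    (ringKrullDim_eq_of_ringEquiv ef).symm
  have h2 : ringKrullDim ↑(CInt.fiberStalk (g ≫ f) x') = ringKrullDim (X'.presheaf.stalk x' ⧸
      (IsLocalRing.maximalIdeal (S.presheaf.stalk ((g ≫ f) x'))).map
        (algebraMap (S.presheaf.stalk ((g ≫ f) x')) (X'.presheaf.stalk x'))) :=
    (ringKrullDim_eq_of_ringEquiv egf).symm
  have h3 : ringKrullDim (X'.presheaf.stalk x' ⧸
      (IsLocalRing.maximalIdeal (X.presheaf.stalk (g x'))).map
        (algebraMap (X.presheaf.stalk (g x')) (X'.presheaf.stalk x'))) = 0 := by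
    rw [← hz]
    exact ringKrullDim_eq_of_ringEquiv eg
  have h4 : ringKrullDim ↑(CInt.fiberStalk f (g x')) = ringKrullDim ↑(CInt.fiberStalk f y) :=
    congrArg (fun t => ringKrullDim ↑(CInt.fiberStalk f t)) hgx'
  rw [h2, ← h4, h1]
  rw [h3, add_zero] at h
  exact h

/-- Let f : X → S and g : X' → X be morphisms of locally Noetherian schemes with g surjective, Y a
closed subset of X and Y' its preimage under g. Then the codimension of Y' relative to the composite
X' → S (the infimum over y' ∈ Y' of the Krull dimension of the local ring at y' of the fibre of that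
composite through y') is at most the codimension of Y relative to f (the same infimum over y ∈ Y for
the fibres of f). -/
theorem result {X X' S : Scheme.{u}} [IsLocallyNoetherian X]
    [IsLocallyNoetherian X'] [IsLocallyNoetherian S] (f : X ⟶ S) (g : X' ⟶ X) [Surjective g]
    (Y : Set ↥X) (hY : IsClosed Y) :
    (⨅ y' : (fun x' => g x') ⁻¹' Y, ringKrullDim ↑(CInt.fiberStalk (g ≫ f) y'.1)) ≤
      ⨅ y : Y, ringKrullDim ↑(CInt.fiberStalk f y.1) := by
  refine le_iInf fun y => ?_
  obtain ⟨y', hy', hle⟩ := key f g y.1 (g.surjective y.1)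
  have hmem : y' ∈ (fun x' => g x') ⁻¹' Y := by
    change g y' ∈ Y
    rw [hy']
    exact y.2
  exact (iInf_le _ (⟨y', hmem⟩ : (fun x' => g x') ⁻¹' Y)).trans hle

end Groth.Agent.S14109
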