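import Groth.Statements.S14105
import Mathlib
import Groth.Agent.Lib.Helper17.FibreBC
import Groth.Agent.Lib.Helper17.FibreDim
import Groth.Agent.Lib.Helper17.CMComp
import Groth.Agent.S14109

set_option autoImplicit false
set_option linter.style.haveILetI false
universe u
open CategoryTheory CategoryTheory.Limits AlgebraicGeometry Opposite TopologicalSpace
open CInt

namespace Groth.Agent.S14105


open AlgebraicGeometry CategoryTheory CategoryTheory.Limits IsLocalRing

theorem key1 {X S S' : Scheme.{u}} (f : X ⟶ S) (g : S' ⟶ S)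
    [IsLocallyNoetherian X] [IsLocallyNoetherian (pullback f g)] (x' : ↥(pullback f g)) :
    ringKrullDim ↑(CInt.fiberStalk f ((pullback.fst f g) x')) ≤
      ringKrullDim ↑(CInt.fiberStalk (pullback.snd f g) x') := by
  obtain ⟨ψ, hψ, hloc⟩ := Groth.Agent.Lib.helper17.FibreBC.exists_flat_local_hom
    (IsPullback.of_hasPullback f g) x'
  haveI := Groth.Agent.Lib.helper17.FibreDim.isNoetherianRing_fiberStalk f ((pullback.fst f g) x')
  haveI := Groth.Agent.Lib.helper17.FibreDim.isNoetherianRing_fiberStalk (pullback.snd f g) x'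
  algebraize [ψ]
  haveI : IsLocalHom (algebraMap ↑(CInt.fiberStalk f ((pullback.fst f g) x'))
      ↑(CInt.fiberStalk (pullback.snd f g) x')) := hloc
  have h := Groth.Agent.Lib.Helper24.FlatDimFormula.ringKrullDim_eq_add_of_flat
    ↑(CInt.fiberStalk f ((pullback.fst f g) x')) ↑(CInt.fiberStalk (pullback.snd f g) x')
  rw [h]
  haveI := Groth.Agent.Lib.Helper24.FlatDimFormula.isLocalRing_quotient
    ↑(CInt.fiberStalk f ((pullback.fst f g) x')) ↑(CInt.fiberStalk (pullback.snd f g) x')
  exact le_add_of_nonneg_right ringKrullDim_nonneg_of_nontrivial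

theorem key2 {X S S' : Scheme.{u}} (f : X ⟶ S) (g : S' ⟶ S)
    [IsLocallyNoetherian X] [IsLocallyNoetherian (pullback f g)] (y : X)
    (hy : ∃ x0 : ↥(pullback f g), (pullback.fst f g) x0 = y) :
    ∃ y' : ↥(pullback f g), (pullback.fst f g) y' = y ∧
      ringKrullDim ↑(CInt.fiberStalk (pullback.snd f g) y') ≤ ringKrullDim ↑(CInt.fiberStalk f y) := by
  set p := pullback.fst f g with hp
  set q := pullback.snd f g with hq
  obtain ⟨x0, hx0⟩ := hy
  haveI : Nonempty (p.fiber y) := ⟨(p.fiberHomeo y).symm ⟨x0, hx0⟩⟩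
  obtain ⟨z, hz⟩ := Groth.Agent.S14109.exists_dim_stalk_eq_zero (p.fiber y)
  set y' := p.fiberι y z with hy'
  have hpy' : p y' = y := by
    have : y' ∈ Set.range (p.fiberι y) := ⟨z, rfl⟩
    rw [p.range_fiberι y] at this
    exact this
  refine ⟨y', hpy', ?_⟩
  have eW := Groth.Agent.Lib.helper17.FibreStalk.fiberStalkEquiv p y z
  letI alg : Algebra (X.presheaf.stalk (p y')) ((pullback f g).presheaf.stalk y') :=
    (p.stalkMap y').hom.toAlgebra
  haveI : IsLocalHom (algebraMap (X.presheaf.stalk (p y')) ((pullback f g).presheaf.stalk y')) :=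
    inferInstanceAs (IsLocalHom (p.stalkMap y').hom)
  have h0 : ringKrullDim ((pullback f g).presheaf.stalk y' ⧸
      (maximalIdeal (X.presheaf.stalk (p y'))).map
        (algebraMap (X.presheaf.stalk (p y')) ((pullback f g).presheaf.stalk y'))) ≤ 0 := by
    rw [← hz]
    exact (ringKrullDim_eq_of_ringEquiv eW).le
  set I : Ideal (X.presheaf.stalk (p y')) :=
    (maximalIdeal (S.presheaf.stalk (f (p y')))).map (f.stalkMap (p y')).hom with hI
  set I' : Ideal ((pullback f g).presheaf.stalk y') :=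
    (maximalIdeal (S'.presheaf.stalk (q y'))).map (q.stalkMap y').hom with hI'
  have hIne : I ≠ ⊤ := ne_top_of_le_ne_top (maximalIdeal.isMaximal _).ne_top
    (((IsLocalRing.local_hom_TFAE (f.stalkMap (p y')).hom).out 0 2 rfl rfl).mp inferInstance)
  have hI'ne : I' ≠ ⊤ := ne_top_of_le_ne_top (maximalIdeal.isMaximal _).ne_top
    (((IsLocalRing.local_hom_TFAE (q.stalkMap y').hom).out 0 2 rfl rfl).mp inferInstance)
  have hpt : (p ≫ f) y' = (q ≫ g) y' := by rw [hp, hq, pullback.condition]
  have e1 : (p ≫ f).stalkMap y' = f.stalkMap (p y') ≫ p.stalkMap y' :=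
    Scheme.Hom.stalkMap_comp p f y'
  have e2 : (q ≫ g).stalkMap y' = g.stalkMap (q y') ≫ q.stalkMap y' :=
    Scheme.Hom.stalkMap_comp q g y'
  have e3 : (p ≫ f).stalkMap y' =
      (S.presheaf.stalkCongr (.of_eq hpt)).hom ≫ (q ≫ g).stalkMap y' :=
    Scheme.Hom.stalkMap_congr_hom _ _ pullback.condition y'
  have hle : I.map (algebraMap (X.presheaf.stalk (p y')) ((pullback f g).presheaf.stalk y')) ≤ I' := by
    rw [hI, Ideal.map_map, Ideal.map_le_iff_le_comap]
    intro a ha
    rw [Ideal.mem_comap]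
    have h1 : ((p.stalkMap y').hom.comp (f.stalkMap (p y')).hom) a =
        (q.stalkMap y').hom ((g.stalkMap (q y')).hom
          ((S.presheaf.stalkCongr (.of_eq hpt)).hom.hom a)) :=
      calc ((p.stalkMap y').hom.comp (f.stalkMap (p y')).hom) a
          = ((p ≫ f).stalkMap y').hom a := (congr($(e1).hom a)).symm
        _ = ((S.presheaf.stalkCongr (.of_eq hpt)).hom ≫ (q ≫ g).stalkMap y').hom a :=
            congr($(e3).hom a)
        _ = _ := congr($(e2).hom ((S.presheaf.stalkCongr (.of_eq hpt)).hom.hom a))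
    change ((p.stalkMap y').hom.comp (f.stalkMap (p y')).hom) a ∈ I'
    rw [h1]
    refine Ideal.mem_map_of_mem _ ?_
    rw [IsLocalRing.mem_maximalIdeal, mem_nonunits_iff] at ha ⊢
    intro hu
    apply ha
    have h2 := isUnit_of_map_unit (g.stalkMap (q y')).hom _ hu
    exact isUnit_of_map_unit
      (S.presheaf.stalkCongr (.of_eq hpt)).hom.hom _ h2
  have h := Groth.Agent.Lib.helper17.CMComp.dim_quot_le_of_fibre_dim_zero
    (X.presheaf.stalk (p y')) ((pullback f g).presheaf.stalk y') I I' hIne hI'ne hle h0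
  have h3 : ringKrullDim ↑(CInt.fiberStalk q y') =
      ringKrullDim ((pullback f g).presheaf.stalk y' ⧸ I') :=
    (Groth.Agent.Lib.helper17.FibreDim.dim_fibRing q y').symm
  have h4 : ringKrullDim ↑(CInt.fiberStalk f (p y')) = ringKrullDim (X.presheaf.stalk (p y') ⧸ I) :=
    (Groth.Agent.Lib.helper17.FibreDim.dim_fibRing f (p y')).symm
  have h5 : ringKrullDim ↑(CInt.fiberStalk f (p y')) = ringKrullDim ↑(CInt.fiberStalk f y) :=
    congrArg (fun t => ringKrullDim ↑(CInt.fiberStalk f t)) hpy'
  rw [h3, ← h5, h4]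
  exact h

/-- Let f : X → S be a morphism and g : S' → S a base change, with X, S, S' and X' = X ×_S S' locally
Noetherian, and let Y be a closed subset of X with preimage Y' under the projection X' → X. Writing
the codimension of a closed subset relative to a morphism as the infimum, over its points, of the
Krull dimension of the local ring of the fibre through that point: the codimension of Y' relative to
X' → S' is at least the codimension of Y relative to f, and the two are equal when the projection X'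
→ X maps Y' onto Y. -/
theorem result {X S S' : Scheme.{u}} (f : X ⟶ S) (g : S' ⟶ S)
    [IsLocallyNoetherian X] [IsLocallyNoetherian S] [IsLocallyNoetherian S']
    [IsLocallyNoetherian (pullback f g)] (Y : Set ↥X) (hY : IsClosed Y) :
    ((⨅ y : Y, ringKrullDim ↑(CInt.fiberStalk f y.1)) ≤
      ⨅ y' : (fun x' => (pullback.fst f g) x') ⁻¹' Y,
        ringKrullDim ↑(CInt.fiberStalk (pullback.snd f g) y'.1)) ∧
    (Y ⊆ Set.range (pullback.fst f g).base →
      (⨅ y' : (fun x' => (pullback.fst f g) x') ⁻¹' Y,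
        ringKrullDim ↑(CInt.fiberStalk (pullback.snd f g) y'.1)) =
        ⨅ y : Y, ringKrullDim ↑(CInt.fiberStalk f y.1)) := by
  have part1 : (⨅ y : Y, ringKrullDim ↑(CInt.fiberStalk f y.1)) ≤
      ⨅ y' : (fun x' => (pullback.fst f g) x') ⁻¹' Y,
        ringKrullDim ↑(CInt.fiberStalk (pullback.snd f g) y'.1) := by
    refine le_iInf fun y' => (iInf_le _ (⟨(pullback.fst f g) y'.1, y'.2⟩ : Y)).trans ?_
    exact key1 f g y'.1
  refine ⟨part1, fun hsub => le_antisymm ?_ part1⟩
  refine le_iInf fun y => ?_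
  obtain ⟨x0, hx0⟩ := hsub y.2
  obtain ⟨y', hy', hle⟩ := key2 f g y.1 ⟨x0, hx0⟩
  have hmem : y' ∈ (fun x' => (pullback.fst f g) x') ⁻¹' Y := by
    change (pullback.fst f g) y' ∈ Y
    rw [hy']
    exact y.2
  exact (iInf_le _ (⟨y', hmem⟩ : (fun x' => (pullback.fst f g) x') ⁻¹' Y)).trans hle

end Groth.Agent.S14105
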