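import Groth.Statements.S14106
import Mathlib
import Groth.Agent.S5022
import Groth.Agent.Lib.Helper17.ConormalRank
import Groth.Agent.Lib.Helper17.FibreDim
import Groth.Agent.Lib.Helper3.EquidimIrr
import Groth.Agent.Lib.Helper3.FibreDimNat
import Groth.Agent.Lib.Helper7.OmegaPush
import Groth.Agent.Lib.Helper7.ConormalDiffExists

set_option autoImplicit false
universe u
open CategoryTheory CategoryTheory.Limits AlgebraicGeometry Opposite TopologicalSpace
open CInt

namespace Groth.Agent.S14106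

open Groth.Agent.Lib.helper7 Groth.Agent.Lib.helper16.FLF Groth.Agent.Lib.helper17
  Groth.Agent.Lib.helper3.DimIneq

/-- every point has a generization whose local ring has dimension `0` -/
theorem exists_generization_dim_zero {Y : Scheme.{u}} (y : Y) :
    ∃ y' : Y, y' ⤳ y ∧ ringKrullDim (Y.presheaf.stalk y') = 0 := by
  obtain ⟨U, hU, hyU, -⟩ := Opens.isBasis_iff_nbhd.mp Y.isBasis_affineOpens
    (show y ∈ (⊤ : Y.Opens) from trivial)
  obtain ⟨p', hp'min, hp'le⟩ := Ideal.exists_minimalPrimes_le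
    (I := (⊥ : Ideal Γ(Y, U))) (J := (hU.primeIdealOf ⟨y, hyU⟩).asIdeal) bot_le
  haveI : p'.IsPrime := hp'min.1.1
  obtain ⟨y', hy'U, hy'⟩ := exists_point_of_prime hU p'
  refine ⟨y', ?_, ?_⟩
  · rw [specializes_iff_primeIdealOf_le hU y' y hy'U hyU, hy']
    exact hp'le
  · rw [ringKrullDim_stalk_eq_height hU y' hy'U, hy']
    have h0 : p'.height = 0 := Ideal.height_eq_zero_iff.mpr hp'min
    rw [h0]
    rfl

/-- the stalk rank of a finite locally free module is constant under generization -/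
theorem finrank_stalk_eq_of_specializes {X : Scheme.{u}} (M : X.Modules)
    (hM : FlatMod.IsFinLocFree M) {y' y : X} (h : y' ⤳ y) :
    Module.finrank (X.presheaf.stalk y') (M.presheaf.stalk y') =
      Module.finrank (X.presheaf.stalk y) (M.presheaf.stalk y) := by
  haveI := isQuasicoherent_of_isFinLocFree M hM
  obtain ⟨U, m, hU, hyU, -, ⟨e⟩⟩ := exists_affine_free_sections_of_isFinLocFree M hM y
  have hy'U : y' ∈ U := h.mem_open U.2 hyU
  rw [finrank_stalk_of_sections M hU y' hy'U e, finrank_stalk_of_sections M hU y hyU e]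

/-- for `f` smooth the rank of `Ω_{X/S}` at `x` is the local fibre dimension, and `Ω` is finite
locally free -/
theorem finrank_stalk_omega {X S : Scheme.{u}} (f : X ⟶ S) [Smooth f] {Ω' : X.Modules}
    (d : OmegaSh.Der f Ω') (hd : OmegaSh.IsUniversal d) :
    FlatMod.IsFinLocFree Ω' ∧ ∀ x : X, (f.stalkMap x).hom.Flat ∧
      FlatMor.fibreDimAt f x =
        ((Module.finrank (X.presheaf.stalk x) (Ω'.presheaf.stalk x) : ℕ) : WithBot ℕ∞) := by
  haveI : Ω'.IsQuasicoherent := OmegaQCoh.isQuasicoherent_of_isUniversal f d hd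
  have key := fun x : X => Groth.Agent.S5022.fwd f Ω' d hd x
    (by rw [Scheme.Hom.smoothLocus_eq_top]; trivial)
  refine ⟨fun x => ?_, fun x => ?_⟩
  · obtain ⟨-, U, m, hxU, hiso, -⟩ := key x
    exact ⟨U, m, hxU, hiso⟩
  · obtain ⟨hfl, U, m, hxU, ⟨iso⟩, hm⟩ := key x
    refine ⟨hfl, ?_⟩
    obtain ⟨V, hV, hxV, hVU⟩ := Opens.isBasis_iff_nbhd.mp X.isBasis_affineOpens hxU
    obtain ⟨iso'⟩ := restrict_iso_freeMod_of_le Ω' hVU m iso
    obtain ⟨e⟩ := sections_of_restrict_iso_freeMod Ω' hV m iso'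
    rw [finrank_stalk_of_sections Ω' hV x hxV e, hm]

set_option backward.isDefEq.respectTransparency.types false in
/-- the pointwise identities for a smooth pair `Y ⊆ X` over `S` -/
theorem point_identities {X Y S : Scheme.{u}} [IsLocallyNoetherian X] [IsLocallyNoetherian S]
    (f : X ⟶ S) [Smooth f] (i : Y ⟶ X) [IsClosedImmersion i] [Smooth (i ≫ f)] :
    FlatMod.IsFinLocFree (Omega.conormal i) ∧ ∀ y : Y, ∃ a' : ℕ,
      ringKrullDim (CInt.fiberStalk f (i y)) =
        ((a' + Module.finrank (Y.presheaf.stalk y) ((Omega.conormal i).presheaf.stalk y) : ℕ) :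
          WithBot ℕ∞) ∧
      ringKrullDim (X.presheaf.stalk (i y)) = ringKrullDim (Y.presheaf.stalk y) +
        ((Module.finrank (Y.presheaf.stalk y) ((Omega.conormal i).presheaf.stalk y) : ℕ) :
          WithBot ℕ∞) := by
  haveI : IsLocallyNoetherian Y := LocallyOfFiniteType.isLocallyNoetherian i
  obtain ⟨hΩX, hX⟩ := finrank_stalk_omega f (OmegaSh.dOmega f) (OmegaUniv.isUniversal_dOmega f)
  obtain ⟨hΩY, hY⟩ := finrank_stalk_omega (i ≫ f) (OmegaSh.dOmega (i ≫ f))
    (OmegaUniv.isUniversal_dOmega (i ≫ f))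
  obtain ⟨φ, hφ⟩ := ConormalDiffExists.exists_conormalDiff i (OmegaSh.dOmega f)
  obtain ⟨c, hc, -⟩ := OmegaPush.existsUnique_isDiffCompat f (i ≫ f) i (𝟙 _) (Category.comp_id _)
    (OmegaSh.dOmega f) (OmegaSh.dOmega (i ≫ f)) (OmegaUniv.isUniversal_dOmega f)
  obtain ⟨hCfree, hrank⟩ := ConormalRank.isFinLocFree_conormal_and_rank f i (OmegaSh.dOmega f)
    (OmegaUniv.isUniversal_dOmega f) (OmegaSh.dOmega (i ≫ f))
    (OmegaUniv.isUniversal_dOmega (i ≫ f)) φ hφ c hc hΩX hΩY
  refine ⟨hCfree, fun y => ?_⟩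
  obtain ⟨t, a, ht, ha, hn⟩ := Groth.Agent.Lib.helper3.DimFibre.fibreDimAt_eq_add f (i y)
  obtain ⟨t', a', ht', ha', hm⟩ := Groth.Agent.Lib.helper3.DimFibre.fibreDimAt_eq_add (i ≫ f) y
  have htt : t' = t := by
    have h1 := Groth.Agent.Lib.helper3.EquidimIrr.td_comp_of_surjectiveOnStalks i f y
    rw [ht', ht] at h1
    exact_mod_cast h1
  subst htt
  obtain ⟨hflX, hrX⟩ := hX (i y)
  obtain ⟨hflY, hrY⟩ := hY y
  set r := Module.finrank (Y.presheaf.stalk y) ((Omega.conormal i).presheaf.stalk y) with hr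
  have h3 := hrank y
  rw [hn] at hrX
  rw [hm] at hrY
  have hrX' : t' + a = Module.finrank (X.presheaf.stalk (i y))
      ((Omega.sheaf f).presheaf.stalk (i y)) := by exact_mod_cast hrX
  have hrY' : t' + a' = Module.finrank (Y.presheaf.stalk y)
      ((Omega.sheaf (i ≫ f)).presheaf.stalk y) := by exact_mod_cast hrY
  have haa : a = a' + r := by omega
  refine ⟨a', ?_, ?_⟩
  · rw [← haa]
    exact ha
  · have h4 := FibreDim.dim_stalk_eq f (i y) hflX
    have h5 := FibreDim.dim_stalk_eq (i ≫ f) y hflY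
    rw [ha] at h4
    rw [ha'] at h5
    rw [h4, h5, haa]
    push_cast
    rw [add_assoc]
    rfl

set_option backward.isDefEq.respectTransparency.types false in
/-- Let S be a locally Noetherian scheme, f : X → S a smooth morphism and i : Y → X a closed immersion
whose composite with f is smooth. Then the codimension of the image of i relative to f (the infimum
over its points y of the Krull dimension of the local ring at y of the fibre of f through y) equals
its codimension in X (the infimum over the same points of the Krull dimension of O_{X,y}). -/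
theorem result {X Y S : Scheme.{u}} [IsLocallyNoetherian X]
    [IsLocallyNoetherian S] (f : X ⟶ S) [Smooth f] (i : Y ⟶ X) [IsClosedImmersion i] [Smooth (i ≫ f)] :
    (⨅ y : Set.range i.base, ringKrullDim ↑(CInt.fiberStalk f y.1)) =
      ⨅ y : Set.range i.base, ringKrullDim ↑(X.presheaf.stalk y.1) := by
  haveI : IsLocallyNoetherian Y := LocallyOfFiniteType.isLocallyNoetherian i
  obtain ⟨hCfree, hpt⟩ := point_identities f i
  apply le_antisymm
  · refine iInf_mono fun x => ?_
    obtain ⟨x, y, rfl⟩ := x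
    obtain ⟨hΩX, hX⟩ := finrank_stalk_omega f (OmegaSh.dOmega f) (OmegaUniv.isUniversal_dOmega f)
    have h4 := Groth.Agent.Lib.helper17.FibreDim.dim_stalk_eq f (i y) (hX (i y)).1
    change ringKrullDim ↑(CInt.fiberStalk f (i y)) ≤ ringKrullDim ↑(X.presheaf.stalk (i y))
    rw [h4]
    exact le_add_of_nonneg_left ringKrullDim_nonneg_of_nontrivial
  · refine le_iInf fun x => ?_
    obtain ⟨x, y, rfl⟩ := x
    obtain ⟨y', hy'y, hy'0⟩ := exists_generization_dim_zero y
    refine iInf_le_of_le ⟨i y', ⟨y', rfl⟩⟩ ?_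
    obtain ⟨a', hA, -⟩ := hpt y
    obtain ⟨-, -, hB⟩ := hpt y'
    change ringKrullDim ↑(X.presheaf.stalk (i y')) ≤ ringKrullDim ↑(CInt.fiberStalk f (i y))
    rw [hA, hB, hy'0, zero_add, finrank_stalk_eq_of_specializes (Omega.conormal i) hCfree hy'y]
    exact_mod_cast Nat.le_add_left _ _

end Groth.Agent.S14106
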