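import Groth.Statements.S14110
import Mathlib
import Groth.Agent.Lib.Helper17.FibreStalk
import Groth.Agent.Lib.Helper17.CMComp

set_option autoImplicit false
set_option linter.style.haveILetI false
universe u
open CategoryTheory CategoryTheory.Limits AlgebraicGeometry Opposite TopologicalSpace
open CInt

namespace Groth.Agent.S14110


open AlgebraicGeometry CategoryTheory

theorem key {X X' S : Scheme.{u}} [IsLocallyNoetherian X] [IsLocallyNoetherian X']
    (f : X ⟶ S) (g : X' ⟶ X) (x' : X') (hfl : (g.stalkMap x').hom.Flat) :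
    ringKrullDim ↑(CInt.fiberStalk f (g x')) ≤ ringKrullDim ↑(CInt.fiberStalk (g ≫ f) x') := by
  have hcomp : (g ≫ f).stalkMap x' = f.stalkMap (g x') ≫ g.stalkMap x' :=
    Scheme.Hom.stalkMap_comp g f x'
  letI algAB : Algebra (S.presheaf.stalk ((g ≫ f) x')) (X.presheaf.stalk (g x')) :=
    (f.stalkMap (g x')).hom.toAlgebra
  letI algBC : Algebra (X.presheaf.stalk (g x')) (X'.presheaf.stalk x') :=
    (g.stalkMap x').hom.toAlgebra
  letI algAC : Algebra (S.presheaf.stalk ((g ≫ f) x')) (X'.presheaf.stalk x') :=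
    ((g ≫ f).stalkMap x').hom.toAlgebra
  haveI : IsScalarTower (S.presheaf.stalk ((g ≫ f) x')) (X.presheaf.stalk (g x'))
      (X'.presheaf.stalk x') :=
    IsScalarTower.of_algebraMap_eq' congr($(hcomp).hom)
  haveI : IsLocalHom (algebraMap (S.presheaf.stalk ((g ≫ f) x')) (X.presheaf.stalk (g x'))) :=
    inferInstanceAs (IsLocalHom (f.stalkMap (g x')).hom)
  haveI : IsLocalHom (algebraMap (X.presheaf.stalk (g x')) (X'.presheaf.stalk x')) :=
    inferInstanceAs (IsLocalHom (g.stalkMap x').hom)
  haveI : Module.Flat (X.presheaf.stalk (g x')) (X'.presheaf.stalk x') := hfl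
  obtain ⟨ef⟩ := Groth.Agent.Lib.helper17.FibreStalk.nonempty_asFiber_stalk_equiv f (g x')
  obtain ⟨egf⟩ := Groth.Agent.Lib.helper17.FibreStalk.nonempty_asFiber_stalk_equiv (g ≫ f) x'
  have h := Groth.Agent.Lib.helper17.CMComp.dim_fibre_le_of_flat
    (S.presheaf.stalk ((g ≫ f) x')) (X.presheaf.stalk (g x')) (X'.presheaf.stalk x')
    inferInstance inferInstance
  have h1 : ringKrullDim ↑(CInt.fiberStalk f (g x')) = ringKrullDim (X.presheaf.stalk (g x') ⧸
      (IsLocalRing.maximalIdeal (S.presheaf.stalk ((g ≫ f) x'))).map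
        (algebraMap (S.presheaf.stalk ((g ≫ f) x')) (X.presheaf.stalk (g x')))) :=
    (ringKrullDim_eq_of_ringEquiv ef).symm
  have h2 : ringKrullDim ↑(CInt.fiberStalk (g ≫ f) x') = ringKrullDim (X'.presheaf.stalk x' ⧸
      (IsLocalRing.maximalIdeal (S.presheaf.stalk ((g ≫ f) x'))).map
        (algebraMap (S.presheaf.stalk ((g ≫ f) x')) (X'.presheaf.stalk x'))) :=
    (ringKrullDim_eq_of_ringEquiv egf).symm
  rw [h1, h2]
  exact h

/-- Let f : X → S and g : X' → X be morphisms of locally Noetherian schemes with f a Cohen–Macaulay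
morphism (flat, every local ring of every fibre a Cohen–Macaulay local ring) and g flat, Y a closed
subset of X and Y' its preimage under g. Then the codimension of Y relative to f (the infimum over y
∈ Y of the Krull dimension of the local ring at y of the fibre of f through y) is at most the
codimension of Y' relative to the composite X' → S. -/
theorem result {X X' S : Scheme.{u}} [IsLocallyNoetherian X]
    [IsLocallyNoetherian X'] [IsLocallyNoetherian S] (f : X ⟶ S) [Flat f]
    (hCM : ∀ x : ↥X, LocCoh.IsCohenMacaulayLocalRing ↑(CInt.fiberStalk f x)) (g : X' ⟶ X) [Flat g]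
    (Y : Set ↥X) (hY : IsClosed Y) :
    (⨅ y : Y, ringKrullDim ↑(CInt.fiberStalk f y.1)) ≤
      ⨅ y' : (fun x' => g x') ⁻¹' Y, ringKrullDim ↑(CInt.fiberStalk (g ≫ f) y'.1) := by
  refine le_iInf fun y' => (iInf_le _ (⟨g y'.1, y'.2⟩ : Y)).trans ?_
  exact key f g y'.1 (Flat.stalkMap g y'.1)

end Groth.Agent.S14110
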