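import Groth.Statements.S14113
import Mathlib
import Groth.Agent.Lib.Helper13.AffK3
-- import your own Groth.Agent.* helpers here

set_option autoImplicit false
universe u
open CategoryTheory CategoryTheory.Limits AlgebraicGeometry Opposite TopologicalSpace
attribute [local instance] HasDerivedCategory.standard
open DCoh

namespace Groth.Agent.S14113

/-- Let X be an affine scheme and E a bounded above cochain complex of finite locally free O_X-modules
(a strictly pseudo-coherent complex). Then E is acyclic if and only if the identity of E is null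
homotopic. -/
theorem result {X : Scheme.{u}} [IsAffine X]
    (E : CochainComplex X.Modules ℤ) (b : ℤ) (hEb : ∀ i : ℤ, b < i → IsZero (E.X i))
    (hE : ∀ i : ℤ, FlatMod.IsFinLocFree (E.X i)) :
    E.Acyclic ↔ Nonempty (Homotopy (𝟙 E) 0) := by
  constructor
  · intro hacyc
    have hF : ∀ i : ℤ, Coh.IsQCoh (E.X i) := fun i =>
      Groth.Agent.Lib.helper16.FLF.isQuasicoherent_of_isFinLocFree _ (hE i)
    have hbij := Groth.Agent.Lib.helper13.AffK.bijective_Qh_map_affine E E b hEb hE hF
    -- the zero endomorphism of `E` is a quasi-isomorphism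
    haveI hq : QuasiIso (0 : E ⟶ E) := by
      refine ⟨fun i => ?_⟩
      rw [quasiIsoAt_iff_exactAt (0 : E ⟶ E) i (hacyc i)]
      exact hacyc i
    have hz : IsIso ((DerivedCategory.Qh (C := X.Modules)).map
        ((HomotopyCategory.quotient X.Modules (ComplexShape.up ℤ)).map (0 : E ⟶ E))) := by
      rw [DerivedCategory.isIso_Qh_map_iff, HomotopyCategory.quotient_map_mem_quasiIso_iff,
        HomologicalComplex.mem_quasiIso_iff]
      exact hq
    have hz0 : (DerivedCategory.Qh (C := X.Modules)).map
        ((HomotopyCategory.quotient X.Modules (ComplexShape.up ℤ)).map (0 : E ⟶ E)) = 0 := by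
      rw [Functor.map_zero, Functor.map_zero]
    have hZ : IsZero ((DerivedCategory.Qh (C := X.Modules)).obj
        ((HomotopyCategory.quotient X.Modules (ComplexShape.up ℤ)).obj E)) := by
      rw [IsZero.iff_id_eq_zero]
      rw [← IsIso.hom_inv_id ((DerivedCategory.Qh (C := X.Modules)).map
        ((HomotopyCategory.quotient X.Modules (ComplexShape.up ℤ)).map (0 : E ⟶ E)))]
      have h0 : ∀ (g : (DerivedCategory.Qh (C := X.Modules)).obj
          ((HomotopyCategory.quotient X.Modules (ComplexShape.up ℤ)).obj E) ⟶
          (DerivedCategory.Qh (C := X.Modules)).obj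
          ((HomotopyCategory.quotient X.Modules (ComplexShape.up ℤ)).obj E)),
          (DerivedCategory.Qh (C := X.Modules)).map
            ((HomotopyCategory.quotient X.Modules (ComplexShape.up ℤ)).map (0 : E ⟶ E)) ≫ g = 0 := by
        intro g
        rw [hz0, zero_comp]
      exact h0 _
    have heq : (HomotopyCategory.quotient X.Modules (ComplexShape.up ℤ)).map (𝟙 E) =
        (HomotopyCategory.quotient X.Modules (ComplexShape.up ℤ)).map (0 : E ⟶ E) :=
      hbij.1 (hZ.eq_of_src _ _)
    exact ⟨HomotopyCategory.homotopyOfEq _ _ heq⟩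
  · rintro ⟨h⟩ i
    rw [HomologicalComplex.exactAt_iff_isZero_homology, IsZero.iff_id_eq_zero]
    have h1 := h.homologyMap_eq i
    rw [HomologicalComplex.homologyMap_id, HomologicalComplex.homologyMap_zero] at h1
    exact h1

end Groth.Agent.S14113
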