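import Groth.Statements.S14118
import Mathlib.Tactic

set_option autoImplicit false
universe u v w
open SuperComm

namespace Groth.Agent.S14118

theorem sgn_add {R : Type u} [CommRing R] (m n : ℤ) :
    (-1 : R) ^ (m + n).natAbs = (-1 : R) ^ m.natAbs * (-1 : R) ^ n.natAbs := by
  rcases Int.even_or_odd m with hm | hm <;> rcases Int.even_or_odd n with hn | hn
  · rw [(Int.natAbs_even.mpr (hm.add hn)).neg_one_pow, (Int.natAbs_even.mpr hm).neg_one_pow,
      (Int.natAbs_even.mpr hn).neg_one_pow, one_mul]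
  · rw [(Int.natAbs_odd.mpr (hm.add_odd hn)).neg_one_pow, (Int.natAbs_even.mpr hm).neg_one_pow,
      (Int.natAbs_odd.mpr hn).neg_one_pow, one_mul]
  · rw [(Int.natAbs_odd.mpr (hm.add_even hn)).neg_one_pow, (Int.natAbs_odd.mpr hm).neg_one_pow,
      (Int.natAbs_even.mpr hn).neg_one_pow, mul_one]
  · rw [(Int.natAbs_even.mpr (hm.add_odd hn)).neg_one_pow, (Int.natAbs_odd.mpr hm).neg_one_pow,
      (Int.natAbs_odd.mpr hn).neg_one_pow]; ring

theorem sgn_mul_neg_self {R : Type u} [CommRing R] (a : ℤ) :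
    (-1 : R) ^ (a * (-a)).natAbs = (-1 : R) ^ a.natAbs := by
  rcases Int.even_or_odd a with ha | ha
  · rw [(Int.natAbs_even.mpr (ha.mul_right _)).neg_one_pow, (Int.natAbs_even.mpr ha).neg_one_pow]
  · rw [(Int.natAbs_odd.mpr (ha.mul ha.neg)).neg_one_pow, (Int.natAbs_odd.mpr ha).neg_one_pow]

/-- Let R be a commutative ring and M a finitely ℤ-graded R-module with finitely many nonzero graded
pieces, each finite free, presented as a finite family of finite free R-modules M_i with integer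
degrees deg i (the piece of degree n being the product of the M_i with deg i = n); an endomorphism φ
of the total module Π_i M_i has degree a when its (i, j) block vanishes unless deg j = deg i + a;
the supertrace of an endomorphism is the trace of its composite with the grading involution ε = Σ_i
(-1)^{deg i} pr_i. If φ and ψ have degrees a and b, the supertrace of the supercommutator φψ -
(-1)^{ab} ψφ vanishes. (The published statement allows the graded pieces to be finitely generated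
projective; this row takes them finite free, where the trace is the ordinary trace of a free
module.) -/
theorem result {R : Type u} [CommRing R] {ι : Type v} [Fintype ι] [DecidableEq ι]
    (deg : ι → ℤ) (M : ι → Type w) [∀ i, AddCommGroup (M i)] [∀ i, Module R (M i)]
    [∀ i, Module.Free R (M i)] [∀ i, Module.Finite R (M i)]
    (a b : ℤ) (φ ψ : (Π k, M k) →ₗ[R] (Π k, M k))
    (hφ : ∀ i j : ι, deg j ≠ deg i + a → (LinearMap.proj j) ∘ₗ φ ∘ₗ (LinearMap.single R M i) = 0)
    (hψ : ∀ i j : ι, deg j ≠ deg i + b → (LinearMap.proj j) ∘ₗ ψ ∘ₗ (LinearMap.single R M i) = 0) :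
    LinearMap.trace R (Π k, M k)
      ((∑ i : ι, (LinearMap.single R M i) ∘ₗ (((-1 : R) ^ (deg i).natAbs) • (LinearMap.proj i : (Π k, M k) →ₗ[R] M i))) ∘ₗ (φ ∘ₗ ψ - ((-1 : R) ^ (a * b).natAbs) • (ψ ∘ₗ φ))) = 0 := by
  classical
  set s : ι → R := fun i => (-1 : R) ^ (deg i).natAbs with hs
  set c : R := (-1 : R) ^ (a * b).natAbs with hc
  have hid : ∑ k, (LinearMap.single R M k) ∘ₗ (LinearMap.proj k) =
      (LinearMap.id : (Π k, M k) →ₗ[R] (Π k, M k)) := by
    apply LinearMap.ext
    intro x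
    funext j
    simp only [LinearMap.sum_apply, LinearMap.comp_apply, LinearMap.proj_apply,
      LinearMap.coe_single, Finset.sum_apply, LinearMap.id_apply]
    rw [Finset.sum_eq_single j]
    · simp
    · intro k _ hk
      simp [Pi.single_apply, hk.symm]
    · intro h; exact absurd (Finset.mem_univ j) h
  have hsum : ∀ (θ : (Π k, M k) →ₗ[R] (Π k, M k)) (f : ι → (Π k, M k) →ₗ[R] (Π k, M k)),
      (∑ i, f i) ∘ₗ θ = ∑ i, f i ∘ₗ θ := by
    intro θ f
    apply LinearMap.ext
    intro x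
    simp only [LinearMap.comp_apply, LinearMap.sum_apply]
  have hstr : ∀ θ : (Π k, M k) →ₗ[R] (Π k, M k),
      LinearMap.trace R (Π k, M k)
        ((∑ i, (LinearMap.single R M i) ∘ₗ (s i • (LinearMap.proj i : (Π k, M k) →ₗ[R] M i))) ∘ₗ θ) =
      ∑ i, s i * LinearMap.trace R (M i) (LinearMap.proj i ∘ₗ θ ∘ₗ LinearMap.single R M i) := by
    intro θ
    rw [hsum, map_sum]
    apply Finset.sum_congr rfl
    intro i _
    rw [LinearMap.comp_assoc, LinearMap.trace_comp_comm', LinearMap.smul_comp, LinearMap.smul_comp,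
      map_smul, smul_eq_mul, LinearMap.comp_assoc]
  have hblock : ∀ (α β : (Π k, M k) →ₗ[R] (Π k, M k)) (i : ι),
      LinearMap.proj i ∘ₗ (α ∘ₗ β) ∘ₗ LinearMap.single R M i =
        ∑ k, (LinearMap.proj i ∘ₗ α ∘ₗ LinearMap.single R M k) ∘ₗ
          (LinearMap.proj k ∘ₗ β ∘ₗ LinearMap.single R M i) := by
    intro α β i
    have h1 : α ∘ₗ β = α ∘ₗ (∑ k, (LinearMap.single R M k) ∘ₗ (LinearMap.proj k)) ∘ₗ β := by
      rw [hid, LinearMap.id_comp]
    rw [h1]
    apply LinearMap.ext
    intro x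
    simp only [LinearMap.comp_apply, LinearMap.sum_apply, map_sum]
  have e1 : (∑ i, (LinearMap.single R M i) ∘ₗ (s i • (LinearMap.proj i : (Π k, M k) →ₗ[R] M i))) ∘ₗ
      (φ ∘ₗ ψ - c • (ψ ∘ₗ φ)) =
      (∑ i, (LinearMap.single R M i) ∘ₗ (s i • (LinearMap.proj i : (Π k, M k) →ₗ[R] M i))) ∘ₗ (φ ∘ₗ ψ) -
      c • ((∑ i, (LinearMap.single R M i) ∘ₗ (s i • (LinearMap.proj i : (Π k, M k) →ₗ[R] M i))) ∘ₗ
        (ψ ∘ₗ φ)) := by
    rw [LinearMap.comp_sub, LinearMap.comp_smul]
  rw [e1, map_sub, map_smul, hstr, hstr]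
  set T : ι → ι → R := fun i k => LinearMap.trace R (M i)
    ((LinearMap.proj i ∘ₗ φ ∘ₗ LinearMap.single R M k) ∘ₗ
      (LinearMap.proj k ∘ₗ ψ ∘ₗ LinearMap.single R M i)) with hT
  have h1 : ∀ i, LinearMap.trace R (M i) (LinearMap.proj i ∘ₗ (φ ∘ₗ ψ) ∘ₗ LinearMap.single R M i) =
      ∑ k, T i k := by
    intro i; rw [hblock, map_sum]
  have h2 : ∀ i, LinearMap.trace R (M i) (LinearMap.proj i ∘ₗ (ψ ∘ₗ φ) ∘ₗ LinearMap.single R M i) =
      ∑ k, T k i := by
    intro i; rw [hblock, map_sum]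
    apply Finset.sum_congr rfl
    intro k _
    rw [LinearMap.trace_comp_comm']
  have h3 : ∑ i, s i * ∑ k, T k i = ∑ i, ∑ k, s k * T i k := by
    simp_rw [Finset.mul_sum]
    exact Finset.sum_comm
  simp_rw [h1, h2]
  rw [h3, smul_eq_mul]
  simp_rw [Finset.mul_sum]
  rw [← Finset.sum_sub_distrib]
  apply Finset.sum_eq_zero
  intro i _
  rw [← Finset.sum_sub_distrib]
  apply Finset.sum_eq_zero
  intro k _
  by_cases h1 : deg i = deg k + a
  · by_cases h2 : deg k = deg i + b
    · have hb : b = -a := by linarith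
      have hsi : s i = c * s k := by
        simp only [hs, hc]
        rw [h1, hb, sgn_mul_neg_self, sgn_add]
        ring
      rw [hsi]; ring
    · simp only [hT]; rw [hψ i k h2]; simp
  · simp only [hT]; rw [hφ k i h1]; simp

end Groth.Agent.S14118
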