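import Groth.Statements.S1412
import Mathlib
import Groth.Agent.Lib.Helper3.WEtaleLoc

set_option autoImplicit false
universe u
open FlatMor

namespace Groth.Agent.S1412

set_option backward.isDefEq.respectTransparency false

open Groth.Agent.Lib.helper3.WEtaleSch Groth.Agent.Lib.helper3.WEtaleLoc

theorem Q_iff {R S : Type u} [CommRing R] [CommRing S] (φ : R →+* S) :
    Q φ ↔ φ.Flat ∧ (letI := φ.toAlgebra
      (Algebra.TensorProduct.lmul' (S := S) R).toRingHom.Flat) := by
  unfold Q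
  rw [Algebra.weaklyEtale_iff]
  rfl

open AlgebraicGeometry CategoryTheory Limits in
theorem of_stalkMap {X Y : Scheme.{u}} (f : X ⟶ Y) (H : ∀ x, Q (f.stalkMap x).hom) :
    WeaklyEtale f := by
  have hQi := Q_respectsIso
  wlog hY : IsAffine Y generalizing X Y f
  · rw [IsZariskiLocalAtTarget.iff_of_iSup_eq_top (P := @WeaklyEtale) _
      (iSup_affineOpens_eq_top _)]
    intro U
    refine this _ (fun x ↦ ?_) U.2
    exact (hQi.arrow_mk_iso_iff (AlgebraicGeometry.morphismRestrictStalkMap f U x)).mpr (H x.val)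
  wlog hX : IsAffine X generalizing X f
  · rw [IsZariskiLocalAtSource.iff_of_iSup_eq_top (P := @WeaklyEtale) _
      (iSup_affineOpens_eq_top _)]
    intro U
    refine this _ ?_ U.2
    intro x
    rw [Scheme.Hom.stalkMap_comp, CommRingCat.hom_comp, hQi.cancel_right_isIso]
    exact H x.val
  wlog hXY : ∃ R S, Y = Spec R ∧ X = Spec S generalizing X Y
  · rw [← MorphismProperty.cancel_right_of_respectsIso (P := @WeaklyEtale) f Y.isoSpec.hom]
    rw [← MorphismProperty.cancel_left_of_respectsIso (P := @WeaklyEtale) X.isoSpec.inv]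
    refine this inferInstance _ (fun x ↦ ?_) inferInstance ?_
    · rw [Scheme.Hom.stalkMap_comp, Scheme.Hom.stalkMap_comp, CommRingCat.hom_comp,
        hQi.cancel_right_isIso, CommRingCat.hom_comp, hQi.cancel_left_isIso]
      apply H
    · use Γ(Y, ⊤), Γ(X, ⊤)
  obtain ⟨R, S, rfl, rfl⟩ := hXY
  obtain ⟨φ, rfl⟩ := Spec.map_surjective f
  rw [weaklyEtale_SpecMap_iff]
  apply Q_ofLocalizationPrime
  intro P hP
  specialize H ⟨P, hP⟩
  rwa [hQi.arrow_mk_iso_iff (Scheme.arrowStalkMapSpecIso φ _)] at H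

open AlgebraicGeometry CategoryTheory Limits in
theorem stalkMap_of_weaklyEtale {X Y : Scheme.{u}} (f : X ⟶ Y) (hf : WeaklyEtale f) (x : X) :
    Q (f.stalkMap x).hom := by
  have hQ' := Q_respectsIso
  wlog h : IsAffine X ∧ IsAffine Y generalizing X Y f
  · obtain ⟨U, hU, hfx, _⟩ := TopologicalSpace.Opens.isBasis_iff_nbhd.mp Y.isBasis_affineOpens
      (TopologicalSpace.Opens.mem_top <| f x)
    obtain ⟨V, hV, hx, e⟩ := TopologicalSpace.Opens.isBasis_iff_nbhd.mp X.isBasis_affineOpens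
      (show x ∈ f ⁻¹ᵁ U from hfx)
    rw [← hQ'.arrow_mk_iso_iff (Scheme.Hom.resLEStalkMap f e ⟨x, hx⟩)]
    exact this _ (IsZariskiLocalAtSource.resLE _ hf) _ ⟨hV, hU⟩
  obtain ⟨hX, hY⟩ := h
  wlog hXY : ∃ R S, Y = Spec R ∧ X = Spec S generalizing X Y
  · have : Q ((X.isoSpec.inv ≫ f ≫ Y.isoSpec.hom).stalkMap (X.isoSpec.hom x)).hom := by
      refine this _ ?_ (X.isoSpec.hom x) inferInstance inferInstance ?_
      · rwa [MorphismProperty.cancel_left_of_respectsIso (P := @WeaklyEtale),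
          MorphismProperty.cancel_right_of_respectsIso (P := @WeaklyEtale)]
      · use Γ(Y, ⊤), Γ(X, ⊤)
    rw [Scheme.Hom.stalkMap_comp, Scheme.Hom.stalkMap_comp, CommRingCat.hom_comp,
      hQ'.cancel_right_isIso, CommRingCat.hom_comp, hQ'.cancel_left_isIso] at this
    have heq : (X.isoSpec.inv (X.isoSpec.hom x)) = x := by simp
    rwa [hQ'.arrow_mk_iso_iff (f.arrowStalkMapIsoOfEq heq)] at this
  obtain ⟨R, S, rfl, rfl⟩ := hXY
  obtain ⟨φ, rfl⟩ := Spec.map_surjective f
  rw [hQ'.arrow_mk_iso_iff (Scheme.arrowStalkMapSpecIso φ _)]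
  rw [weaklyEtale_SpecMap_iff] at hf
  exact Q_localRingHom _ hf _ _

open AlgebraicGeometry CategoryTheory Limits in
/-- A morphism of schemes f : X → Y is weakly étale (flat with flat diagonal) if and only if for every
point x of X the local ring map O_{Y, f(x)} → O_{X, x} is weakly étale, that is, flat and with flat
multiplication map O_{X,x} ⊗_{O_{Y, f(x)}} O_{X,x} → O_{X,x}. -/
theorem result {X Y : Scheme.{u}} (f : X ⟶ Y) :
    WeaklyEtale f ↔ ∀ x : X, (f.stalkMap x).hom.Flat ∧
      (letI := (f.stalkMap x).hom.toAlgebra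
       (Algebra.TensorProduct.lmul' (S := ↑(X.presheaf.stalk x)) (↑(Y.presheaf.stalk (f x)))).toRingHom.Flat) := by
  constructor
  · intro h x
    exact (Q_iff _).mp (stalkMap_of_weaklyEtale f h x)
  · intro h
    exact of_stalkMap f (fun x => (Q_iff _).mpr (h x))

end Groth.Agent.S1412
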