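import Groth.Statements.S14121
-- import your own Groth.Agent.* helpers here
import Groth.Agent.Lib.Helper9.NagCurve7
import Groth.Agent.S2654

set_option linter.style.haveILetI false

set_option autoImplicit false
universe u
open CategoryTheory AlgebraicGeometry
open ValCrit

namespace Groth.Agent.S14121

/-- For schemes, let every affine open of the base `S` have excellent coordinate ring, let `g : Y ⟶ S`
be locally of finite type and `f : X ⟶ Y` quasi-compact and locally of finite type. Then the
uniqueness part of the valuative criterion for `f` over discrete valuation rings (every commutative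
square `Spec K ⟶ X`, `Spec R ⟶ Y` with `R` a discrete valuation ring and `K` its fraction field has
at most one lift `Spec R ⟶ X`) holds as soon as it holds for the squares whose ring `R` is
essentially of finite type over `S`, i.e. `Spec R ⟶ Y ⟶ S` factors through some affine open `U` of
`S` by a ring map `Γ(S, U) ⟶ R` that is essentially of finite type; and conversely. (The published
statement is for algebraic spaces and treats existence and uniqueness together; this row is the
uniqueness half for schemes.) -/
theorem result (S : Scheme.{u})
    (hS : ∀ U : S.affineOpens, EGA4.IsExcellent Γ(S, U.1))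
    {X Y : Scheme.{u}} (f : X ⟶ Y) (g : Y ⟶ S)
    [QuasiCompact f] [LocallyOfFiniteType f] [LocallyOfFiniteType g] :
    (∀ sq : ValuativeCommSq f, IsDiscreteValuationRing sq.R → Subsingleton sq.commSq.LiftStruct) ↔
    (∀ sq : ValuativeCommSq f, IsDiscreteValuationRing sq.R →
      (∃ (U : S.affineOpens) (φ : Γ(S, U.1) ⟶ CommRingCat.of sq.R),
        Spec.map φ ≫ U.2.fromSpec = sq.i₂ ≫ g ∧ φ.hom.EssFiniteType) →
      Subsingleton sq.commSq.LiftStruct) := by
  classical
  have hNag : ∀ W : S.affineOpens, CAlg.IsNagata Γ(S, W) := fun W =>
    Groth.Agent.S2654.result _ ⟨(hS W).1, (hS W).2.2.1, (hS W).2.2.2⟩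
  haveI : IsLocallyNoetherian S := ⟨fun W => (hS W).1⟩
  constructor
  · intro H sq hR _
    exact H sq hR
  · intro H
    have hcu : Groth.Agent.Lib.helper9.NagCurve.CurveUnique S g f := by
      intro C r _ _ _ hnormal c hc hdim U hU u g' hg' hu k hk l l' hl1 hl2 hl1' hl2'
      haveI : IsLocallyNoetherian C := LocallyOfFiniteType.isLocallyNoetherian r
      haveI : ValuationRing (C.presheaf.stalk c) :=
        Groth.Agent.Lib.helper9.NagCurve.valuationRing_stalk c (hnormal c) hdim
      let sq := Groth.Agent.Lib.helper9.NagCurve.curveSq f c U u g' hu k hk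
      obtain ⟨V, φ, hφ1, hφ2⟩ := Groth.Agent.Lib.helper9.NagCurve.exists_essFiniteType_stalk r c
      have hsub : Subsingleton sq.commSq.LiftStruct := H sq
        (Groth.Agent.Lib.helper9.NagCurve.isDiscreteValuationRing_stalk c (hnormal c) hdim)
        ⟨V, φ, hφ1.trans (show C.fromSpecStalk c ≫ r = (C.fromSpecStalk c ≫ g') ≫ g by
          rw [Category.assoc, hg']), hφ2⟩
      have : (⟨l, hl2, hl1⟩ : sq.commSq.LiftStruct) = ⟨l', hl2', hl1'⟩ := Subsingleton.elim _ _
      exact congrArg CommSq.LiftStruct.l this
    haveI : IsSeparated f :=
      Groth.Agent.Lib.helper9.NagCurve.isSeparated_of_curveUnique S hNag (f ≫ g) g f rfl hcu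
    have huniq : ValuativeCriterion.Uniqueness f := by
      have h1 : (ValuativeCriterion.Uniqueness ⊓ @QuasiSeparated) f :=
        IsSeparated.eq_valuativeCriterion ▸ ‹IsSeparated f›
      exact h1.1
    intro sq _
    exact huniq sq

end Groth.Agent.S14121
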