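import Groth.Statements.S14122
import Mathlib

set_option autoImplicit false
universe u
open ValCrit

namespace Groth.Agent.S14122

open Submodule in
theorem exists_lattice_basis (R : Type u) [CommRing R] [IsDomain R] [IsPrincipalIdealRing R]
    (K : Type u) [Field K] [Algebra R K] [IsFractionRing R K]
    (N : ℕ) (G : Matrix (Fin N) (Fin N) K) (m : ℕ) (hm : 0 < m) (hG : G ^ m = 1) :
    ∃ (bK : Module.Basis (Fin N) K (Fin N → K)) (MR : Matrix (Fin N) (Fin N) R),
      LinearMap.toMatrix bK bK (Matrix.toLin' G) = MR.map (algebraMap R K) := by
  classical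
  set T : (Fin N → K) →ₗ[K] (Fin N → K) := Matrix.toLin' G with hT
  have hTm : T ^ m = 1 := by
    rw [hT, ← Matrix.toLin'_pow, hG, Matrix.toLin'_one]
    rfl
  let S : Finset (Fin N → K) :=
    (Finset.range m ×ˢ (Finset.univ : Finset (Fin N))).image
      (fun p => (T ^ p.1) (Pi.single p.2 (1 : K)))
  let Λ : Submodule R (Fin N → K) := span R (S : Set (Fin N → K))
  have hmemS : ∀ j, j < m → ∀ i : Fin N, (T ^ j) (Pi.single i (1 : K)) ∈ Λ := by
    intro j hj i
    apply subset_span
    rw [Finset.mem_coe, Finset.mem_image]
    exact ⟨(j, i), by simp [hj], rfl⟩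
  have hlat : IsLattice K Λ := by
    refine ⟨fg_span (Finset.finite_toSet S), ?_⟩
    rw [eq_top_iff, ← (Pi.basisFun K (Fin N)).span_eq]
    apply span_le.mpr
    rintro _ ⟨i, rfl⟩
    apply subset_span
    have := hmemS 0 hm i
    simpa using this
  have hstable : ∀ v ∈ Λ, T v ∈ Λ := by
    intro v hv
    induction hv using span_induction with
    | mem x hx =>
      rw [Finset.mem_coe, Finset.mem_image] at hx
      obtain ⟨⟨j, i⟩, hji, rfl⟩ := hx
      simp only [Finset.mem_product, Finset.mem_range, Finset.mem_univ, and_true] at hji
      have : T ((T ^ j) (Pi.single i (1 : K))) = (T ^ (j + 1)) (Pi.single i (1 : K)) := by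
        rw [pow_succ', Module.End.mul_apply]
      rw [this]
      rcases Nat.lt_or_ge (j + 1) m with h | h
      · exact hmemS (j + 1) h i
      · have hjm : j + 1 = m := by omega
        rw [hjm, hTm, Module.End.one_apply]
        have := hmemS 0 hm i
        simpa using this
    | zero => rw [map_zero]; exact Λ.zero_mem
    | add x y _ _ hx hy => rw [map_add]; exact Λ.add_mem hx hy
    | smul r x _ hx => rw [LinearMap.map_smul_of_tower]; exact Λ.smul_mem r hx
  have hfree : Module.Free R Λ := inferInstance
  let b := Module.Free.chooseBasis R Λ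
  have hcard : Fintype.card (Module.Free.ChooseBasisIndex R Λ) = N := by
    rw [← Module.finrank_eq_card_chooseBasisIndex, IsLattice.finrank_of_pi K Λ, Fintype.card_fin]
  let e : Module.Free.ChooseBasisIndex R Λ ≃ Fin N := Fintype.equivFinOfCardEq hcard
  let b' : Module.Basis (Fin N) R Λ := b.reindex e
  let bK : Module.Basis (Fin N) K (Fin N → K) := b'.extendOfIsLattice K
  let w : Fin N → Λ := fun j => ⟨T (b' j).val, hstable _ (b' j).2⟩
  refine ⟨bK, Matrix.of fun i j => b'.repr (w j) i, ?_⟩
  ext i j
  rw [LinearMap.toMatrix_apply, Matrix.map_apply, Matrix.of_apply]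
  have h1 : T (bK j) = ∑ i, (algebraMap R K (b'.repr (w j) i)) • bK i := by
    have h2 := congrArg Subtype.val (b'.sum_repr (w j))
    rw [Submodule.coe_sum] at h2
    have h3 : bK j = (b' j).val := Module.Basis.extendOfIsLattice_apply K b' j
    rw [h3]
    show (w j).val = _
    rw [← h2]
    apply Finset.sum_congr rfl
    intro i _
    rw [Submodule.coe_smul, Module.Basis.extendOfIsLattice_apply K b' i, algebraMap_smul]
  rw [h1, Module.Basis.repr_sum_self]

/-- Let `R` be a discrete valuation ring with fraction field `K` and `g ∈ GL_N(K)` an element of finite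
order. Then after passing to a finite extension `K'` of `K` and a discrete valuation ring `R'` of
`K'` dominating `R`, the element `g` becomes conjugate in `GL_N(K')` to an element of `GL_N(R')`.
(The published statement is that the classifying stack of `GL_N` over the integers satisfies a
valuative condition, for discrete valuation rings essentially of finite type over the integers, on
extending finite-order generic automorphisms along nearby modifications; since vector bundles over a
discrete valuation ring are trivial, that condition is this conjugacy statement for such rings, and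
this row states it for every discrete valuation ring, as the printed argument gives.) -/
theorem result
    (R : Type u) [CommRing R] [IsDomain R] [IsDiscreteValuationRing R]
    (K : Type u) [Field K] [Algebra R K] [IsFractionRing R K]
    (N : ℕ) (g : GL (Fin N) K) (hg : IsOfFinOrder g) :
    ∃ (R' : Type u) (_ : CommRing R') (_ : IsDomain R') (_ : IsDiscreteValuationRing R')
      (K' : Type u) (_ : Field K') (_ : Algebra R' K') (_ : IsFractionRing R' K')
      (_ : Algebra R R') (_ : Algebra K K') (_ : Algebra R K')
      (_ : IsScalarTower R R' K') (_ : IsScalarTower R K K')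
      (_ : Module.Finite K K') (_ : IsLocalHom (algebraMap R R'))
      (h : GL (Fin N) K') (g' : GL (Fin N) R'),
      h * Matrix.GeneralLinearGroup.map (algebraMap K K') g * h⁻¹ =
        Matrix.GeneralLinearGroup.map (algebraMap R' K') g' := by
  classical
  obtain ⟨m, hm, hgm⟩ := isOfFinOrder_iff_pow_eq_one.mp hg
  have hG : (g : Matrix (Fin N) (Fin N) K) ^ m = 1 := by
    have := congrArg Units.val hgm
    simpa using this
  obtain ⟨bK, MR, hMR⟩ := exists_lattice_basis R K N (g : Matrix (Fin N) (Fin N) K) m hm hG
  -- determinant of MR is a unit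
  have hdet : IsUnit MR.det := by
    have h1 : algebraMap R K (MR.det ^ m) = algebraMap R K 1 := by
      rw [map_pow, RingHom.map_det, RingHom.mapMatrix_apply, ← hMR, LinearMap.det_toMatrix,
        ← map_pow, ← Matrix.toLin'_pow, hG, Matrix.toLin'_one, map_one]
      exact LinearMap.det_id
    have h2 : MR.det ^ m = 1 := IsFractionRing.injective R K h1
    exact IsUnit.of_pow_eq_one h2 hm.ne'
  let g' : GL (Fin N) R := Matrix.GeneralLinearGroup.mk'' MR hdet
  let std := Pi.basisFun K (Fin N)
  let h : GL (Fin N) K := ⟨bK.toMatrix std, std.toMatrix bK, Module.Basis.toMatrix_mul_toMatrix_flip _ _,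
    Module.Basis.toMatrix_mul_toMatrix_flip _ _⟩
  refine ⟨R, inferInstance, inferInstance, inferInstance, K, inferInstance, inferInstance,
    inferInstance, Algebra.id R, Algebra.id K, inferInstance, inferInstance, inferInstance,
    inferInstance, ?_, h, g', ?_⟩
  · show IsLocalHom (RingHom.id R)
    infer_instance
  · apply Units.ext
    show bK.toMatrix std * ((g : Matrix (Fin N) (Fin N) K).map (RingHom.id K)) * std.toMatrix bK =
      MR.map (algebraMap R K)
    rw [← hMR]
    have h3 : ((g : Matrix (Fin N) (Fin N) K).map (RingHom.id K)) =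
        LinearMap.toMatrix std std (Matrix.toLin' (g : Matrix (Fin N) (Fin N) K)) := by
      rw [LinearMap.toMatrix_eq_toMatrix', LinearMap.toMatrix'_toLin']
      ext i j
      simp
    rw [h3, basis_toMatrix_mul_linearMap_toMatrix_mul_basis_toMatrix]

end Groth.Agent.S14122
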