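import Groth.Statements.S14123
import Groth.Agent.S1987

set_option autoImplicit false
universe u v
open GmQuot

namespace Groth.Agent.S14123

open DirectSum Polynomial

/-- core divisibility -/
theorem dvd_of_span {A : Type u} [CommRing A] (𝒜 : ℤ → AddSubgroup A) [GradedRing 𝒜]
    (T : Finset A) (d : A → ℤ) (hdpos : ∀ t ∈ T, 0 < d t) (hdmem : ∀ t ∈ T, t ∈ 𝒜 (d t))
    (hspan : Ideal.span {a : A | ∃ d : ℤ, 0 < d ∧ a ∈ 𝒜 d} = Ideal.span (T : Set A))
    {R' : Type v} [CommRing R'] (ψ : A →+* R') (ϖ : R')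
    (hT : ∀ t ∈ T, ϖ ^ (d t).toNat ∣ ψ t) :
    ∀ n : ℕ, 0 < n → ∀ x ∈ 𝒜 (n : ℤ), ϖ ^ n ∣ ψ x := by
  classical
  intro n
  induction n using Nat.strong_induction_on with
  | _ n ih =>
    intro hn x hx
    have hxI : x ∈ Ideal.span (T : Set A) := by
      rw [← hspan]
      exact Ideal.subset_span ⟨n, by exact_mod_cast hn, hx⟩
    obtain ⟨c, -, hc⟩ := Submodule.mem_span_finset.mp hxI
    -- x = Σ c t * t; take degree n component
    have hx' : x = ∑ t ∈ T, ((decompose 𝒜 (c t) ((n : ℤ) - d t) : A) * t) := by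
      have h1 : GradedRing.proj 𝒜 (n : ℤ) x = x := by
        rw [GradedRing.proj_apply, decompose_of_mem_same 𝒜 hx]
      rw [← h1, ← hc, map_sum]
      refine Finset.sum_congr rfl fun t ht => ?_
      rw [smul_eq_mul, GradedRing.proj_apply]
      have := coe_decompose_mul_add_of_right_mem 𝒜 (a := c t) (i := (n : ℤ) - d t) (hdmem t ht)
      rw [sub_add_cancel] at this
      exact this
    rw [hx', map_sum]
    refine Finset.dvd_sum fun t ht => ?_
    rw [map_mul]
    have hdt := hdpos t ht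
    obtain ⟨m, hm⟩ := Int.eq_ofNat_of_zero_le hdt.le
    have hm' : (d t).toNat = m := by rw [hm]; simp
    have hTt := hT t ht
    rw [hm'] at hTt
    have hmpos : 0 < m := by omega
    rcases Nat.lt_or_ge m n with hlt | hge
    · -- n - m positive and smaller
      have h1 : ((n : ℤ) - d t) = ((n - m : ℕ) : ℤ) := by rw [hm]; omega
      have h2 : ϖ ^ (n - m) ∣ ψ (decompose 𝒜 (c t) ((n : ℤ) - d t) : A) := by
        refine ih (n - m) (by omega) (by omega) _ ?_
        rw [← h1]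
        exact SetLike.coe_mem _
      have h3 : ϖ ^ n = ϖ ^ (n - m) * ϖ ^ m := by rw [← pow_add]; congr 1; omega
      rw [h3]
      exact mul_dvd_mul h2 hTt
    · exact Dvd.dvd.mul_left ((pow_dvd_pow ϖ hge).trans hTt) _

section
variable {A : Type u} [CommRing A] (𝒜 : ℤ → AddSubgroup A) [GradedRing 𝒜]
  {K' : Type v} [Field K'] (Ψ : A →+* K') (w : K') (hw : w ≠ 0)

/-- the additive maps `A_i → K'`, `a ↦ Ψ a * w^(-i)` -/
noncomputable def twAdd (i : ℤ) : 𝒜 i →+ K' where
  toFun a := Ψ (a : A) * w ^ (-i)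
  map_zero' := by simp
  map_add' a b := by
    rw [AddSubgroup.coe_add, map_add, add_mul]

include hw in
/-- the twisted hom -/
noncomputable def tw : A →+* K' :=
  (DirectSum.toSemiring (twAdd 𝒜 Ψ w)
    (by
      show Ψ ((1 : A)) * w ^ (-(0 : ℤ)) = 1
      simp)
    (by
      intro i j ai aj
      show Ψ ((ai : A) * (aj : A)) * w ^ (-(i + j)) = (Ψ (ai : A) * w ^ (-i)) * (Ψ (aj : A) * w ^ (-j))
      rw [map_mul, neg_add, zpow_add₀ hw]
      ring)).comp
    (DirectSum.decomposeRingEquiv 𝒜).toRingHom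

theorem tw_of_mem {i : ℤ} {a : A} (ha : a ∈ 𝒜 i) :
    tw 𝒜 Ψ w hw a = Ψ a * w ^ (-i) := by
  unfold tw
  rw [RingHom.comp_apply]
  have h1 : (DirectSum.decomposeRingEquiv 𝒜).toRingHom a =
      DirectSum.of (fun i => 𝒜 i) i ⟨a, ha⟩ := DirectSum.decompose_of_mem 𝒜 ha
  rw [h1, DirectSum.toSemiring_of]
  rfl
end

theorem exists_rescaled {A : Type u} [CommRing A] (𝒜 : ℤ → AddSubgroup A) [GradedRing 𝒜]
    {R' : Type v} [CommRing R'] [IsDomain R'] {K' : Type v} [Field K'] [Algebra R' K']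
    [IsFractionRing R' K'] (ψ : A →+* R') (ϖ : R') (hϖ : ϖ ≠ 0)
    (hdiv : ∀ n : ℕ, 0 < n → ∀ x ∈ 𝒜 (n : ℤ), ϖ ^ n ∣ ψ x) :
    ∃ g : A →+* R', ∀ (d : ℤ) (a : A), a ∈ 𝒜 d →
      algebraMap R' K' (g a) * algebraMap R' K' ϖ ^ d = algebraMap R' K' (ψ a) := by
  classical
  have hinj : Function.Injective (algebraMap R' K') := IsFractionRing.injective R' K'
  have hw : algebraMap R' K' ϖ ≠ 0 := by
    rw [Ne, map_eq_zero_iff _ hinj]; exact hϖ
  set G := tw 𝒜 ((algebraMap R' K').comp ψ) (algebraMap R' K' ϖ) hw with hG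
  have hhom : ∀ (d : ℤ) (a : A), a ∈ 𝒜 d → G a ∈ (algebraMap R' K').range := by
    intro d a ha
    rw [hG, tw_of_mem 𝒜 _ _ hw ha]
    rcases lt_or_ge 0 d with hd | hd
    · obtain ⟨n, rfl⟩ := Int.eq_ofNat_of_zero_le hd.le
      obtain ⟨y, hy⟩ := hdiv n (by exact_mod_cast hd) a ha
      refine ⟨y, ?_⟩
      rw [RingHom.comp_apply, hy, map_mul, map_pow, zpow_neg, zpow_natCast]
      field_simp
    · obtain ⟨m, hm⟩ := Int.eq_ofNat_of_zero_le (neg_nonneg.mpr hd)
      refine ⟨ψ a * ϖ ^ m, ?_⟩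
      rw [RingHom.comp_apply, map_mul, map_pow, hm, zpow_natCast]
  have hall : ∀ x : A, G x ∈ (algebraMap R' K').range := by
    intro x
    rw [← DirectSum.sum_support_decompose 𝒜 x, map_sum]
    exact Subring.sum_mem _ fun i _ => hhom i _ (SetLike.coe_mem _)
  choose g0 hg0 using hall
  let g : A →+* R' :=
    { toFun := g0
      map_one' := hinj (by rw [hg0, map_one, map_one])
      map_mul' := fun x y => hinj (by rw [hg0, map_mul, map_mul, hg0, hg0])
      map_zero' := hinj (by rw [hg0, map_zero, map_zero])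
      map_add' := fun x y => hinj (by rw [hg0, map_add, map_add, hg0, hg0]) }
  refine ⟨g, fun d a ha => ?_⟩
  show algebraMap R' K' (g0 a) * _ = _
  rw [hg0, hG, tw_of_mem 𝒜 _ _ hw ha, RingHom.comp_apply, mul_assoc, ← zpow_add₀ hw,
    neg_add_cancel, zpow_zero, mul_one]

theorem step1 {A : Type u} [CommRing A] (𝒜 : ℤ → AddSubgroup A) [GradedRing 𝒜]
    (hfg : (Ideal.span {a : A | ∃ d : ℤ, 0 < d ∧ a ∈ 𝒜 d}).FG) :
    ∃ (T : Finset A) (d : A → ℤ), (∀ t ∈ T, 0 < d t) ∧ (∀ t ∈ T, t ∈ 𝒜 (d t)) ∧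
      Ideal.span {a : A | ∃ d : ℤ, 0 < d ∧ a ∈ 𝒜 d} = Ideal.span (T : Set A) := by
  classical
  obtain ⟨T, hTsub, hTspan⟩ := (Submodule.fg_span_iff_fg_span_finset_subset _).mp hfg
  have h : ∀ t : A, ∃ d : ℤ, t ∈ T → (0 < d ∧ t ∈ 𝒜 d) := by
    intro t
    by_cases ht : t ∈ T
    · obtain ⟨d, hd⟩ := hTsub ht
      exact ⟨d, fun _ => hd⟩
    · exact ⟨0, fun h => absurd h ht⟩
  choose d hd using h
  exact ⟨T, d, fun t ht => (hd t ht).1, fun t ht => (hd t ht).2, hTspan⟩

/-- DVR extension data -/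
theorem step2 (R : Type v) [CommRing R] [IsDomain R] [IsDiscreteValuationRing R]
    (π₀ : R) (hπ₀ : Irreducible π₀) (D : ℕ) (hD : 2 ≤ D) :
    ∃ (R' : Type v) (_ : CommRing R') (_ : IsDomain R') (_ : IsDiscreteValuationRing R')
      (_ : Algebra R R') (_ : Module.Finite R R') (_ : IsLocalHom (algebraMap R R'))
      (τ : R') (ε : R'ˣ), Irreducible τ ∧ Function.Injective (algebraMap R R') ∧
        algebraMap R R' π₀ = ε * τ ^ D := by
  obtain ⟨hirr, hdom, hdvr, -, hmax, -⟩ := Groth.Agent.S1987.result R π₀ hπ₀ D hD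
  have hmon : (X ^ D - C π₀ : R[X]).Monic := monic_X_pow_sub_C _ (by omega)
  have hfin : Module.Finite R (AdjoinRoot (X ^ D - C π₀ : R[X])) := hmon.finite_adjoinRoot
  have hinj : Function.Injective (algebraMap R (AdjoinRoot (X ^ D - C π₀ : R[X]))) :=
    AdjoinRoot.of.injective_of_degree_ne_zero (by
      rw [degree_X_pow_sub_C (by omega)]; exact_mod_cast (by omega : D ≠ 0))
  obtain ⟨τ, hτ⟩ := IsDiscreteValuationRing.exists_irreducible (AdjoinRoot (X ^ D - C π₀ : R[X]))
  have hπm : IsLocalRing.maximalIdeal R = Ideal.span {π₀} := hπ₀.maximalIdeal_eq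
  have hτm : IsLocalRing.maximalIdeal (AdjoinRoot (X ^ D - C π₀ : R[X])) = Ideal.span {τ} :=
    hτ.maximalIdeal_eq
  have hassoc : Associated (τ ^ D) (algebraMap R (AdjoinRoot (X ^ D - C π₀ : R[X])) π₀) := by
    rw [← Ideal.span_singleton_eq_span_singleton, ← Ideal.span_singleton_pow, ← hτm, ← hmax, hπm,
      Ideal.map_span, Set.image_singleton]
  obtain ⟨ε, hε⟩ := hassoc
  have hloc : IsLocalHom (algebraMap R (AdjoinRoot (X ^ D - C π₀ : R[X]))) := by
    refine ⟨fun x hx => ?_⟩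
    by_contra hnu
    have hxm : x ∈ IsLocalRing.maximalIdeal R := (IsLocalRing.mem_maximalIdeal x).mpr hnu
    have h1 : algebraMap R (AdjoinRoot (X ^ D - C π₀ : R[X])) x ∈
        (IsLocalRing.maximalIdeal R).map (algebraMap R (AdjoinRoot (X ^ D - C π₀ : R[X]))) :=
      Ideal.mem_map_of_mem _ hxm
    rw [hmax] at h1
    have h2 := Ideal.pow_le_self (by omega : D ≠ 0) h1
    exact (IsLocalRing.mem_maximalIdeal _).mp h2 hx
  exact ⟨_, inferInstance, hdom, hdvr, inferInstance, hfin, hloc, τ, ε, hτ, hinj, by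
    rw [← hε]; ring⟩

/-- Let `A = ⊕_{d ∈ ℤ} A_d` be a graded commutative ring whose ideal `I₊` generated by the homogeneous
elements of positive degree is finitely generated, `R` a discrete valuation ring with fraction field
`K`, and `φ : A → R` a ring map with `φ(I₊) ≠ 0` and `φ(I₊)` inside the maximal ideal. Then after a
finite extension `K'/K` and a discrete valuation ring `R'` of `K'` dominating `R` there are a
nonzero non-unit `ϖ ∈ R'` and a ring map `g : A → R'` with `g(a) ϖ^d = φ(a)` for every homogeneous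
`a` of degree `d` (so `g` is `φ` rescaled through the grading by `ϖ`), such that `g(I₊) R' = R'`.
(The published statement is phrased for the quotient stack of `Spec A` by the multiplicative group
and its closed substack cut out by `I₊`, in a setting where `A` is Noetherian, being of finite type
over a Noetherian base: an `R`-point whose closed point lies in that substack and whose generic
point does not admits, after a finite extension, an elementary modification avoiding the substack;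
this row is the graded-ring statement the printed argument proves, assuming only that `I₊` is
finitely generated, which is all that argument uses, and with `ϖ` not required to be a uniformizer.) -/
theorem result
    {A : Type u} [CommRing A] (𝒜 : ℤ → AddSubgroup A) [GradedRing 𝒜]
    (hfg : (Ideal.span {a : A | ∃ d : ℤ, 0 < d ∧ a ∈ 𝒜 d}).FG)
    (R : Type v) [CommRing R] [IsDomain R] [IsDiscreteValuationRing R]
    (K : Type v) [Field K] [Algebra R K] [IsFractionRing R K]
    (φ : A →+* R)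
    (hle : Ideal.map φ (Ideal.span {a : A | ∃ d : ℤ, 0 < d ∧ a ∈ 𝒜 d}) ≤ IsLocalRing.maximalIdeal R)
    (hne : Ideal.map φ (Ideal.span {a : A | ∃ d : ℤ, 0 < d ∧ a ∈ 𝒜 d}) ≠ ⊥) :
    ∃ (R' : Type v) (_ : CommRing R') (_ : IsDomain R') (_ : IsDiscreteValuationRing R')
      (K' : Type v) (_ : Field K') (_ : Algebra R' K') (_ : IsFractionRing R' K')
      (_ : Algebra R R') (_ : Algebra K K') (_ : Algebra R K')
      (_ : IsScalarTower R R' K') (_ : IsScalarTower R K K')
      (_ : Module.Finite K K') (_ : IsLocalHom (algebraMap R R'))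
      (ϖ : R') (g : A →+* R'),
      ϖ ≠ 0 ∧ ϖ ∈ IsLocalRing.maximalIdeal R' ∧
      (∀ (d : ℤ) (a : A), a ∈ 𝒜 d →
        algebraMap R' K' (g a) * algebraMap R' K' ϖ ^ d = algebraMap R K' (φ a)) ∧
      Ideal.map g (Ideal.span {a : A | ∃ d : ℤ, 0 < d ∧ a ∈ 𝒜 d}) = ⊤ := by
  classical
  obtain ⟨T, d, hdpos, hdmem, hspan⟩ := step1 𝒜 hfg
  obtain ⟨π₀, hπ₀⟩ := IsDiscreteValuationRing.exists_irreducible R
  set P := ∏ t ∈ T, (d t).toNat with hPdef
  have hPpos : 0 < P := Finset.prod_pos (fun t ht => by have := hdpos t ht; omega)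
  have hD : 2 ≤ 2 * P := by omega
  obtain ⟨R', _, _, _, _, hfin, hloc, τ, ε, hτ, hinj, hπτ⟩ := step2 R π₀ hπ₀ (2 * P) hD
  have hdvdD : ∀ t ∈ T, (d t).toNat ∣ 2 * P := fun t ht =>
    Dvd.dvd.mul_left (Finset.dvd_prod_of_mem _ ht) 2
  have hmemS : ∀ t ∈ T, t ∈ Ideal.span {a : A | ∃ d : ℤ, 0 < d ∧ a ∈ 𝒜 d} := fun t ht =>
    Ideal.subset_span ⟨d t, hdpos t ht, hdmem t ht⟩
  have hφm : ∀ t ∈ T, φ t ∈ IsLocalRing.maximalIdeal R := fun t ht =>
    hle (Ideal.mem_map_of_mem _ (hmemS t ht))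
  -- valuations
  have hk : ∀ t : A, ∃ k : ℕ, ∃ u : Rˣ, t ∈ T → φ t ≠ 0 → (φ t = u * π₀ ^ k ∧ 1 ≤ k) := by
    intro t
    by_cases h : t ∈ T ∧ φ t ≠ 0
    · obtain ⟨k, u, hku⟩ := IsDiscreteValuationRing.eq_unit_mul_pow_irreducible h.2 hπ₀
      refine ⟨k, u, fun _ _ => ⟨hku, ?_⟩⟩
      by_contra hk0
      have : k = 0 := by omega
      subst this
      rw [pow_zero, mul_one] at hku
      exact (IsLocalRing.mem_maximalIdeal _).mp (hφm t h.1) (hku ▸ u.isUnit)
    · exact ⟨0, 1, fun h1 h2 => absurd ⟨h1, h2⟩ h⟩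
  choose k u hku using hk
  -- nonempty filter
  have hex : ∃ t ∈ T, φ t ≠ 0 := by
    by_contra hcon
    push Not at hcon
    apply hne
    rw [hspan, Ideal.map_span, Ideal.span_eq_bot]
    rintro x ⟨t, ht, rfl⟩
    exact hcon t ht
  set T' := T.filter (fun t => φ t ≠ 0) with hT'
  have hT'ne : T'.Nonempty := by
    obtain ⟨t, ht, h0⟩ := hex
    exact ⟨t, Finset.mem_filter.mpr ⟨ht, h0⟩⟩
  obtain ⟨t₀, ht₀, hmin⟩ := Finset.exists_min_image T' (fun t => (2 * P / (d t).toNat) * k t) hT'ne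
  have ht₀T : t₀ ∈ T := (Finset.mem_filter.mp ht₀).1
  have ht₀0 : φ t₀ ≠ 0 := (Finset.mem_filter.mp ht₀).2
  set q := (2 * P / (d t₀).toNat) * k t₀ with hq
  have hdtpos : ∀ t ∈ T, 0 < (d t).toNat := fun t ht => by have := hdpos t ht; omega
  have hqpos : 0 < q := by
    refine Nat.mul_pos (Nat.div_pos (Nat.le_of_dvd (by omega) (hdvdD t₀ ht₀T)) (hdtpos t₀ ht₀T)) ?_
    exact (hku t₀ ht₀T ht₀0).2
  set ψ : A →+* R' := (algebraMap R R').comp φ with hψ
  -- ψ t = unit * τ ^ (D k)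
  have hψt : ∀ t ∈ T, φ t ≠ 0 → ∃ v : R'ˣ, ψ t = v * τ ^ (2 * P * k t) := by
    intro t ht h0
    refine ⟨Units.map (algebraMap R R').toMonoidHom (u t) * ε ^ k t, ?_⟩
    rw [hψ, RingHom.comp_apply, (hku t ht h0).1, map_mul, map_pow, hπτ, mul_pow, ← pow_mul]
    rw [Units.val_mul, Units.val_pow_eq_pow_val]
    have e1 : ((Units.map (algebraMap R R').toMonoidHom (u t) : R'ˣ) : R') =
      algebraMap R R' (u t : R) := rfl
    rw [e1]
    ring
  have hτ0 : τ ≠ 0 := hτ.ne_zero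
  obtain ⟨ϖ, hϖ⟩ : ∃ ϖ : R', ϖ = τ ^ q := ⟨_, rfl⟩
  have hϖ0 : ϖ ≠ 0 := hϖ ▸ pow_ne_zero _ hτ0
  have hT : ∀ t ∈ T, ϖ ^ (d t).toNat ∣ ψ t := by
    intro t ht
    by_cases h0 : φ t = 0
    · rw [hψ, RingHom.comp_apply, h0, map_zero]; exact dvd_zero _
    · obtain ⟨v, hv⟩ := hψt t ht h0
      rw [hv, hϖ, ← pow_mul]
      refine Dvd.dvd.mul_left (pow_dvd_pow _ ?_) _
      have h1 : q ≤ (2 * P / (d t).toNat) * k t := hmin t (Finset.mem_filter.mpr ⟨ht, h0⟩)
      calc q * (d t).toNat ≤ (2 * P / (d t).toNat) * k t * (d t).toNat := Nat.mul_le_mul_right _ h1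
        _ = 2 * P * k t := by
          rw [mul_right_comm, Nat.div_mul_cancel (hdvdD t ht)]
  have hdiv := dvd_of_span 𝒜 T d hdpos hdmem hspan ψ ϖ hT
  obtain ⟨g, hg⟩ := exists_rescaled (K' := FractionRing R') 𝒜 ψ ϖ hϖ0 hdiv
  -- g t₀ is a unit
  have hgt₀ : IsUnit (g t₀) := by
    obtain ⟨v, hv⟩ := hψt t₀ ht₀T ht₀0
    have h1 := hg (d t₀) t₀ (hdmem t₀ ht₀T)
    have hinjK : Function.Injective (algebraMap R' (FractionRing R')) :=
      IsFractionRing.injective R' (FractionRing R')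
    have h2 : ψ t₀ = v * ϖ ^ (d t₀).toNat := by
      have hexp : 2 * P * k t₀ = q * (d t₀).toNat := by
        rw [hq, mul_right_comm (2 * P / (d t₀).toNat) (k t₀) ((d t₀).toNat),
          Nat.div_mul_cancel (hdvdD t₀ ht₀T)]
      rw [hv, hϖ, ← pow_mul, hexp]
    have h3 : (d t₀) = ((d t₀).toNat : ℤ) := by
      have := hdpos t₀ ht₀T; omega
    rw [h3, zpow_natCast, h2, map_mul, map_pow] at h1
    have hw : algebraMap R' (FractionRing R') ϖ ^ (d t₀).toNat ≠ 0 := by
      apply pow_ne_zero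
      rw [Ne, map_eq_zero_iff _ hinjK]; exact hϖ0
    have h4 := mul_right_cancel₀ hw h1
    have h5 : g t₀ = v := hinjK h4
    rw [h5]; exact v.isUnit
  -- fraction field plumbing
  have hinjK : Function.Injective ((algebraMap R' (FractionRing R')).comp (algebraMap R R')) :=
    (IsFractionRing.injective R' (FractionRing R')).comp hinj
  let algKK' : Algebra K (FractionRing R') := (IsFractionRing.lift hinjK).toAlgebra
  have st2 : IsScalarTower R K (FractionRing R') :=
    IsScalarTower.of_algebraMap_eq (fun x => by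
      rw [IsScalarTower.algebraMap_apply R R' (FractionRing R')]
      exact (IsFractionRing.lift_algebraMap hinjK x).symm)
  have hfs : FaithfulSMul R R' := (faithfulSMul_iff_algebraMap_injective R R').mpr hinj
  have halg : Algebra.IsAlgebraic R R' := inferInstance
  have hfinK : Module.Finite K (FractionRing R') :=
    Module.Finite.of_isLocalization R R' (nonZeroDivisors R)
  refine ⟨R', inferInstance, inferInstance, inferInstance, FractionRing R', inferInstance,
    inferInstance, inferInstance, inferInstance, algKK', inferInstance, inferInstance, st2, hfinK, hloc, ϖ, g,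
    hϖ0, ?_, ?_, ?_⟩
  · rw [hϖ, hτ.maximalIdeal_eq]
    exact Ideal.pow_mem_of_mem _ (Ideal.subset_span (Set.mem_singleton τ)) q hqpos
  · intro d' a ha
    rw [hg d' a ha, IsScalarTower.algebraMap_apply R R' (FractionRing R')]
    rfl
  · apply Ideal.eq_top_of_isUnit_mem _ _ hgt₀
    exact Ideal.mem_map_of_mem _ (hmemS t₀ ht₀T)

end Groth.Agent.S14123
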