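import Groth.Statements.S1413
import Groth.Agent.S1128

set_option autoImplicit false
universe u
open FlatMor

namespace Groth.Agent.S1413

/-- ring-level statement: `A → B → C` with `B → C` flat local, composite flat, then `A → B` flat. -/
theorem ringHom_flat_of_comp {A B C : Type u} [CommRing A] [CommRing B] [CommRing C]
    [IsLocalRing B] [IsLocalRing C] (φ : A →+* B) (ψ : B →+* C) [IsLocalHom ψ]
    (hψ : ψ.Flat) (h : (ψ.comp φ).Flat) : φ.Flat := by
  algebraize [φ, ψ, ψ.comp φ]
  have : IsLocalHom (algebraMap B C) := ‹IsLocalHom ψ›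
  have : Module.FaithfullyFlat B C := Module.FaithfullyFlat.of_flat_of_isLocalHom
  exact Groth.Agent.S1128.flat_of_flat_comp_of_faithfullyFlat A B C

open AlgebraicGeometry CategoryTheory Limits in
theorem flat_of_flat_comp_of_surjective {X Y W : Scheme.{u}} (f : X ⟶ Y) (k : Y ⟶ W)
    [Flat f] [Surjective f] (h : Flat (f ≫ k)) : Flat k := by
  rw [Flat.iff_flat_stalkMap]
  intro y
  obtain ⟨x, rfl⟩ := f.surjective y
  have h1 : ((f ≫ k).stalkMap x).hom.Flat := (Flat.iff_flat_stalkMap (f ≫ k)).1 h x
  rw [Scheme.Hom.stalkMap_comp] at h1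
  have h2 : (f.stalkMap x).hom.Flat := (Flat.iff_flat_stalkMap f).1 inferInstance x
  exact ringHom_flat_of_comp (k.stalkMap (f x)).hom (f.stalkMap x).hom h2 h1

open AlgebraicGeometry CategoryTheory Limits in
/-- Let X → Y → Z be morphisms with X → Y flat and surjective and with the diagonal of X over Z flat.
Then the diagonal of Y over Z is flat. -/
theorem result {X Y Z : Scheme.{u}} (f : X ⟶ Y) (g : Y ⟶ Z) [Flat f] [Surjective f] [Flat (pullback.diagonal (f ≫ g))] :
    Flat (pullback.diagonal g) := by
  apply flat_of_flat_comp_of_surjective f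
  rw [pullback.comp_diagonal]
  have : Flat (pullback.map (f ≫ g) (f ≫ g) g g f f (𝟙 Z) (by simp) (by simp)) :=
    MorphismProperty.pullbackMap (P := @Flat) inferInstance inferInstance rfl rfl
  infer_instance

end Groth.Agent.S1413
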