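import Groth.Statements.S14136
import Mathlib
import Groth.Agent.Lib.Lead.VBCurve4
-- import your own Groth.Agent.* helpers here

set_option autoImplicit false
set_option backward.isDefEq.respectTransparency false
universe u
open CategoryTheory CategoryTheory.Limits AlgebraicGeometry
open VBCurve

namespace Groth.Agent.S14136

/-- Let C be a smooth proper geometrically connected curve over a field k (proper, smooth and
geometrically connected over k, of dimension one), and E, F finite locally free O_C-modules of ranks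
r ≥ 1 and s ≥ 1 which are semistable: for every finite locally free submodule G of E of rank r' ≥ 1
one has deg G · r ≤ deg E · r', and similarly for F; here the degree of a rank-n locally free module
is χ(G) − n·χ(O_C), and semistability is tested on submodules, which is equivalent to the definition
through quotient bundles. If μ(E) > μ(F), that is deg E · s > deg F · r, then every homomorphism E →
F is zero. -/
theorem result (k : Type u) [Field k] (X : Scheme.{u}) [X.Over (Spec (CommRingCat.of k))]
    [IsProper (X ↘ Spec (CommRingCat.of k))] [Smooth (X ↘ Spec (CommRingCat.of k))]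
    [GeometricallyConnected (X ↘ Spec (CommRingCat.of k))] (hdim : topologicalKrullDim ↥X = 1)
    (r s : ℕ) (hr : 0 < r) (hs : 0 < s) (E F : X.Modules)
    (hE : FlatMod.IsFinLocFreeOfRank r E) (hF : FlatMod.IsFinLocFreeOfRank s F)
    (hEss : (∀ (G : X.Modules) (r' : ℕ) (i : G ⟶ E), Mono i → 0 < r' → FlatMod.IsFinLocFreeOfRank r' G →
      Curv2.deg k X G r' * (r : ℤ) ≤ Curv2.deg k X E r * (r' : ℤ)))
    (hFss : (∀ (G : X.Modules) (r' : ℕ) (i : G ⟶ F), Mono i → 0 < r' → FlatMod.IsFinLocFreeOfRank r' G →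
      Curv2.deg k X G r' * (s : ℤ) ≤ Curv2.deg k X F s * (r' : ℤ)))
    (hslope : Curv2.deg k X F s * (r : ℤ) < Curv2.deg k X E r * (s : ℤ)) (f : E ⟶ F) : f = 0 := by
  classical
  haveI := Groth.Agent.Lib.Lead.VBCurve.isIntegral_of_smooth_of_geometricallyConnected k X
  have hP := Groth.Agent.Lib.Lead.VBCurve.pidStalks_of_smooth k X hdim.le
  haveI := Groth.Agent.Lib.Lead.CurveEuler.isNoetherian k X
  by_contra hf
  obtain ⟨rK, rI, hK, hI, hrr⟩ := Groth.Agent.Lib.Lead.VBCurve.exists_kernel_image_ranks hP hE hF f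
  have hdeg := Groth.Agent.Lib.Lead.VBCurve.deg_kernel_add_deg_image k X f hK hI hrr
  have hrI : 0 < rI := by
    rcases Nat.eq_zero_or_pos rI with h0 | h0
    · exfalso
      subst h0
      have hz := Groth.Agent.Lib.Lead.VBCurve.isZero_of_isFinLocFreeOfRank_zero hI
      apply hf
      rw [← Abelian.image.fac f, hz.eq_of_tgt (Abelian.factorThruImage f) 0, zero_comp]
    · exact h0
  have h1 := hFss (Abelian.image f) rI (Abelian.image.ι f) inferInstance hrI hI
  have h2 : Curv2.deg k X (kernel f) rK * (r : ℤ) ≤ Curv2.deg k X E r * (rK : ℤ) := by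
    rcases Nat.eq_zero_or_pos rK with h0 | h0
    · subst h0
      have hz := Groth.Agent.Lib.Lead.VBCurve.isZero_of_isFinLocFreeOfRank_zero hK
      rw [Groth.Agent.Lib.Lead.VBCurve.deg_zero_of_isZero k X hz]
      simp
    · exact hEss (kernel f) rK (kernel.ι f) inferInstance h0 hK
  have hr' : (r : ℤ) = (rK : ℤ) + (rI : ℤ) := by exact_mod_cast hrr
  have hrIz : (0 : ℤ) < (rI : ℤ) := by exact_mod_cast hrI
  have hsz : (0 : ℤ) < (s : ℤ) := by exact_mod_cast hs
  have hrz : (0 : ℤ) < (r : ℤ) := by exact_mod_cast hr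
  set dE := Curv2.deg k X E r
  set dF := Curv2.deg k X F s
  set dK := Curv2.deg k X (kernel f) rK
  set dI := Curv2.deg k X (Abelian.image f) rI
  have h3 : dE * (rI : ℤ) ≤ dI * (r : ℤ) := by
    have : dK = dE - dI := by linarith
    rw [this, hr'] at h2
    rw [hr']
    ring_nf at h2 ⊢
    linarith
  have h4 : dE * (s : ℤ) * (rI : ℤ) ≤ dF * (r : ℤ) * (rI : ℤ) := by
    calc dE * (s : ℤ) * (rI : ℤ) = dE * (rI : ℤ) * (s : ℤ) := by ring
      _ ≤ dI * (r : ℤ) * (s : ℤ) := mul_le_mul_of_nonneg_right h3 hsz.le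
      _ = dI * (s : ℤ) * (r : ℤ) := by ring
      _ ≤ dF * (rI : ℤ) * (r : ℤ) := mul_le_mul_of_nonneg_right h1 hrz.le
      _ = dF * (r : ℤ) * (rI : ℤ) := by ring
  have h5 := le_of_mul_le_mul_right h4 hrIz
  linarith

end Groth.Agent.S14136
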