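import Groth.Statements.S14137
import Mathlib
import Groth.Agent.Lib.Lead.VBCurve4
-- import your own Groth.Agent.* helpers here

set_option autoImplicit false
set_option backward.isDefEq.respectTransparency false
universe u
open CategoryTheory CategoryTheory.Limits AlgebraicGeometry
open VBCurve

namespace Groth.Agent.S14137

/-- Let C be a smooth proper geometrically connected curve over a field k (proper, smooth and
geometrically connected over k, of dimension one), and E a finite locally free O_C-module of rank r
≥ 1 which is stable: for every finite locally free submodule G of E of rank r' ≥ 1 whose inclusion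
is not an isomorphism one has deg G · r < deg E · r', the degree of a rank-n locally free module
being χ(G) − n·χ(O_C) (stability tested on proper submodules, equivalent to the definition through
quotient bundles). Then every nonzero endomorphism of E is an isomorphism, i.e. End(E) is a division
ring. (Over an algebraically closed field it follows that End(E) = k; that consequence is not
restated.) -/
theorem result (k : Type u) [Field k] (X : Scheme.{u}) [X.Over (Spec (CommRingCat.of k))]
    [IsProper (X ↘ Spec (CommRingCat.of k))] [Smooth (X ↘ Spec (CommRingCat.of k))]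
    [GeometricallyConnected (X ↘ Spec (CommRingCat.of k))] (hdim : topologicalKrullDim ↥X = 1)
    (r : ℕ) (hr : 0 < r) (E : X.Modules) (hE : FlatMod.IsFinLocFreeOfRank r E)
    (hEst : (∀ (G : X.Modules) (r' : ℕ) (i : G ⟶ E), Mono i → 0 < r' → FlatMod.IsFinLocFreeOfRank r' G → (¬ IsIso i) →
      Curv2.deg k X G r' * (r : ℤ) < Curv2.deg k X E r * (r' : ℤ)))
    (f : E ⟶ E) (hf : f ≠ 0) : IsIso f := by
  classical
  haveI := Groth.Agent.Lib.Lead.VBCurve.isIntegral_of_smooth_of_geometricallyConnected k X
  have hP := Groth.Agent.Lib.Lead.VBCurve.pidStalks_of_smooth k X hdim.le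
  haveI := Groth.Agent.Lib.Lead.CurveEuler.isNoetherian k X
  obtain ⟨rK, rI, hK, hI, hrr⟩ := Groth.Agent.Lib.Lead.VBCurve.exists_kernel_image_ranks hP hE hE f
  have hdeg := Groth.Agent.Lib.Lead.VBCurve.deg_kernel_add_deg_image k X f hK hI hrr
  have hrI : 0 < rI := by
    rcases Nat.eq_zero_or_pos rI with h0 | h0
    · exfalso
      subst h0
      have hz := Groth.Agent.Lib.Lead.VBCurve.isZero_of_isFinLocFreeOfRank_zero hI
      apply hf
      rw [← Abelian.image.fac f, hz.eq_of_tgt (Abelian.factorThruImage f) 0, zero_comp]
    · exact h0
  rcases Nat.eq_zero_or_pos rK with h0 | h0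
  · subst h0
    have hz := Groth.Agent.Lib.Lead.VBCurve.isZero_of_isFinLocFreeOfRank_zero hK
    haveI : Mono f := Preadditive.mono_of_isZero_kernel f hz
    exact Groth.Agent.Lib.Lead.VBCurve.isIso_of_deg_eq k X hdim.le hE hE f rfl
  · exfalso
    have hnK : ¬ IsIso (kernel.ι f) := by
      intro hiso
      apply hf
      rw [← cancel_epi (kernel.ι f), kernel.condition, comp_zero]
    have hnI : ¬ IsIso (Abelian.image.ι f) := by
      intro hiso
      have hE' : FlatMod.IsFinLocFreeOfRank rI E :=
        Groth.Agent.Lib.helper16.FLF.isFinLocFreeOfRank_of_iso (asIso (Abelian.image.ι f)) hI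
      have := Groth.Agent.Lib.helper16.FLF.rank_unique_of_isFinLocFreeOfRank E hE' hE
      omega
    have h1 := hEst (kernel f) rK (kernel.ι f) inferInstance h0 hK hnK
    have h2 := hEst (Abelian.image f) rI (Abelian.image.ι f) inferInstance hrI hI hnI
    have hr' : (r : ℤ) = (rK : ℤ) + (rI : ℤ) := by exact_mod_cast hrr
    rw [hdeg, hr'] at h1 h2
    nlinarith

end Groth.Agent.S14137
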