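import Groth.Statements.S16754
import Mathlib
import Groth.Agent.Lib.Helper16.GeomConn
import Groth.Agent.Lib.Helper13.Normal3
import Groth.Agent.Lib.Helper13.Normal2

set_option autoImplicit false
universe u
open CurvSt

namespace Groth.Agent.S16754

section helpers
open CategoryTheory CategoryTheory.Limits AlgebraicGeometry TensorProduct

instance isClosedUnderIso_isIntegral :
    ObjectProperty.IsClosedUnderIsomorphisms (@AlgebraicGeometry.IsIntegral) where
  of_iso {X Y} e h := by
    haveI : AlgebraicGeometry.IsIntegral X := h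
    haveI : Nonempty Y := ⟨e.hom (Nonempty.some inferInstance)⟩
    exact isIntegral_of_isOpenImmersion e.inv

variable (k : Type u) [Field k]
    (X : Scheme.{u}) [X.Over (Spec (CommRingCat.of k))] [IsProper (X ↘ Spec (CommRingCat.of k))]

/-- `H⁰(X, O_X) ≃ Γ(X, ⊤)` as `k`-vector spaces -/
theorem exists_equiv_HH :
    letI : Algebra k Γ(X, ⊤) := (Groth.Agent.S1536.glob (X ↘ Spec (CommRingCat.of k))).hom.toAlgebra
    Nonempty (Coh.HH X (Coh.structureModule X) 0 ≃ₗ[k] Γ(X, ⊤)) := by
  letI : Algebra k Γ(X, ⊤) := (Groth.Agent.S1536.glob (X ↘ Spec (CommRingCat.of k))).hom.toAlgebra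
  letI := Groth.Agent.Lib.Helper18.HH.sectionsModuleOver k (Coh.structureModule X)
  let e₁ := Groth.Agent.Lib.Helper18.HH.equiv₀Over k (Coh.structureModule X)
  let e₂ : (Coh.structureModule X).val.obj (Opposite.op ⊤) ≃ₗ[k] Γ(X, ⊤) :=
    { toFun := fun x => x
      invFun := fun x => x
      left_inv := fun _ => rfl
      right_inv := fun _ => rfl
      map_add' := fun _ _ => rfl
      map_smul' := fun a x => rfl }
  exact ⟨e₁.trans e₂⟩

theorem geomConn_of_finrank (h : Module.finrank k (Coh.HH X (Coh.structureModule X) 0) = 1) :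
    GeometricallyConnected (X ↘ Spec (CommRingCat.of k)) := by
  letI : Algebra k Γ(X, ⊤) := (Groth.Agent.S1536.glob (X ↘ Spec (CommRingCat.of k))).hom.toAlgebra
  obtain ⟨e⟩ := exists_equiv_HH k X
  rw [e.finrank_eq] at h
  have hbij : Function.Bijective (algebraMap k Γ(X, ⊤)) :=
    Algebra.finrank_eq_one_iff_bijective_algebraMap.mp h
  haveI : Nontrivial Γ(X, ⊤) := by
    refine ⟨⟨0, 1, fun h01 => ?_⟩⟩
    have : (algebraMap k Γ(X, ⊤)) 0 = (algebraMap k Γ(X, ⊤)) 1 := by rw [map_zero, map_one]; exact h01
    exact zero_ne_one (hbij.1 this)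
  rw [Groth.Agent.Lib.helper16.GeomConn.geometricallyConnected_iff k X (X ↘ Spec (CommRingCat.of k))]
  intro K _ _
  refine ⟨Groth.Agent.Lib.helper16.IdemAlg.nontrivial_tensor,
    Groth.Agent.Lib.helper16.IdemAlg.idem_trivial_of_pow (ringExpChar k) (fun a => ?_)⟩
  obtain ⟨c, hc⟩ := hbij.2 a
  exact ⟨0, c, by simp [hc]⟩

variable [Smooth (X ↘ Spec (CommRingCat.of k))]

theorem normal_bc (K : Type u) [Field K] [Algebra k K] :
    Pi1.IsNormalScheme (pullback (X ↘ Spec (CommRingCat.of k))
      (Spec.map (CommRingCat.ofHom (algebraMap k K)))) := by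
  have hKN : Pi1.IsNormalScheme (Spec (CommRingCat.of K)) :=
    Groth.Agent.Lib.helper13.Normal.Spec_of_isNormalDomain (CommRingCat.of K)
      ⟨inferInstance, inferInstance⟩
  exact Groth.Agent.Lib.helper13.Normal.of_smooth
    (pullback.snd (X ↘ Spec (CommRingCat.of k)) (Spec.map (CommRingCat.ofHom (algebraMap k K)))) hKN

theorem geomReduced : GeometricallyReduced (X ↘ Spec (CommRingCat.of k)) := by
  rw [geometricallyReduced_iff, geometrically_iff_of_commRing_of_isClosedUnderIsomorphisms]
  intro K _ _
  exact Groth.Agent.Lib.helper13.Normal.isReduced (normal_bc k X K)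

theorem geomIntegral_of_geomConn (h : GeometricallyConnected (X ↘ Spec (CommRingCat.of k))) :
    GeometricallyIntegral (X ↘ Spec (CommRingCat.of k)) := by
  rw [geometricallyIntegral_iff, geometrically_iff_of_commRing_of_isClosedUnderIsomorphisms]
  intro K _ _
  set Z := pullback (X ↘ Spec (CommRingCat.of k)) (Spec.map (CommRingCat.ofHom (algebraMap k K)))
    with hZdef
  have hZ : Pi1.IsNormalScheme Z := normal_bc k X K
  haveI : ConnectedSpace ↥Z :=
    (geometricallyConnected_iff _).mp h |> fun h' =>
      (geometrically_iff_of_commRing_of_isClosedUnderIsomorphisms.mp h') K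
  haveI : IsLocallyNoetherian Z :=
    LocallyOfFiniteType.isLocallyNoetherian
      (pullback.snd (X ↘ Spec (CommRingCat.of k)) (Spec.map (CommRingCat.ofHom (algebraMap k K))))
  have hfin : ∀ U : Z.Opens, IsCompact (U : Set Z) → (irreducibleComponents ↥U).Finite := by
    intro U hU
    haveI : CompactSpace ↥U := isCompact_iff_compactSpace.mp hU
    haveI : CompactSpace ↥(U : Scheme.{u}) := isCompact_iff_compactSpace.mp hU
    haveI : IsNoetherian (U : Scheme.{u}) := {}
    haveI : TopologicalSpace.NoetherianSpace ↥U :=
      inferInstanceAs (TopologicalSpace.NoetherianSpace ↥(U : Scheme.{u}))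
    exact TopologicalSpace.NoetherianSpace.finite_irreducibleComponents
  exact Groth.Agent.Lib.helper13.Normal.isIntegral_of_connected hZ hfin

theorem geomConn_of_geomIntegral (h : GeometricallyIntegral (X ↘ Spec (CommRingCat.of k))) :
    GeometricallyConnected (X ↘ Spec (CommRingCat.of k)) := by
  rw [geometricallyConnected_iff, geometrically_iff_of_commRing_of_isClosedUnderIsomorphisms]
  intro K _ _
  haveI : IsIntegral (pullback (X ↘ Spec (CommRingCat.of k))
      (Spec.map (CommRingCat.ofHom (algebraMap k K)))) :=
    (geometrically_iff_of_commRing_of_isClosedUnderIsomorphisms.mp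
      ((geometricallyIntegral_iff _).mp h)) K
  show ConnectedSpace _
  infer_instance

theorem result' :
    (Module.finrank k (Coh.HH X (Coh.structureModule X) 0) = 1 ↔ GeometricallyConnected (X ↘ Spec (CommRingCat.of k))) ∧
      (GeometricallyConnected (X ↘ Spec (CommRingCat.of k)) ↔ GeometricallyIntegral (X ↘ Spec (CommRingCat.of k))) := by
  refine ⟨⟨geomConn_of_finrank k X, fun h => ?_⟩,
    ⟨geomIntegral_of_geomConn k X, geomConn_of_geomIntegral k X⟩⟩
  haveI := h
  haveI := geomReduced k X
  exact Groth.Agent.S1536.result k X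

end helpers



open CategoryTheory CategoryTheory.Limits AlgebraicGeometry in
/-- Let k be a field and X a scheme which is proper and smooth over k and of dimension one. Then the
following are equivalent: dim_k H^0(X, O_X) = 1 (the ground field is the ring of global functions);
X is geometrically connected over k; X is geometrically integral over k. (The remaining conditions
of the source concern membership in an open substack of the stack of curves and are not stated.) -/
theorem result (k : Type u) [Field k]
    (X : Scheme.{u}) [X.Over (Spec (CommRingCat.of k))] [IsProper (X ↘ Spec (CommRingCat.of k))]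
    [Smooth (X ↘ Spec (CommRingCat.of k))] (hdim : topologicalKrullDim ↥X = 1) :
    (Module.finrank k (Coh.HH X (Coh.structureModule X) 0) = 1 ↔ GeometricallyConnected (X ↘ Spec (CommRingCat.of k))) ∧
      (GeometricallyConnected (X ↘ Spec (CommRingCat.of k)) ↔ GeometricallyIntegral (X ↘ Spec (CommRingCat.of k))) := by
  exact Groth.Agent.S16754.result' k X

end Groth.Agent.S16754
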