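import Groth.Statements.S14139
import Groth.Agent.Lib.Lead.VBCurve12
-- import your own Groth.Agent.* helpers here

set_option autoImplicit false
set_option backward.isDefEq.respectTransparency false
universe u
open CategoryTheory CategoryTheory.Limits AlgebraicGeometry
open VBCurve

namespace Groth.Agent.S14139

/-- Let C be a smooth proper geometrically connected curve over a field k (proper, smooth and
geometrically connected over k, of dimension one), and 0 → E₁ → E → E₂ → 0 a short exact sequence of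
finite locally free O_C-modules of ranks r₁, r, r₂ ≥ 1 whose slopes are all equal: deg E₁ · r = deg
E · r₁ and deg E₂ · r = deg E · r₂, the degree of a rank-n locally free module being χ − n·χ(O_C).
Then E is semistable (deg G · r ≤ deg E · r' for every finite locally free submodule G of E of rank
r' ≥ 1) if and only if both E₁ and E₂ are semistable in the same sense. -/
theorem result (k : Type u) [Field k] (X : Scheme.{u}) [X.Over (Spec (CommRingCat.of k))]
    [IsProper (X ↘ Spec (CommRingCat.of k))] [Smooth (X ↘ Spec (CommRingCat.of k))]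
    [GeometricallyConnected (X ↘ Spec (CommRingCat.of k))] (hdim : topologicalKrullDim ↥X = 1)
    (T : ShortComplex X.Modules) (hT : T.ShortExact)
    (r₁ r r₂ : ℕ) (hr₁ : 0 < r₁) (hr : 0 < r) (hr₂ : 0 < r₂)
    (hE₁ : FlatMod.IsFinLocFreeOfRank r₁ T.X₁) (hE : FlatMod.IsFinLocFreeOfRank r T.X₂) (hE₂ : FlatMod.IsFinLocFreeOfRank r₂ T.X₃)
    (hμ₁ : Curv2.deg k X T.X₁ r₁ * (r : ℤ) = Curv2.deg k X T.X₂ r * (r₁ : ℤ))
    (hμ₂ : Curv2.deg k X T.X₃ r₂ * (r : ℤ) = Curv2.deg k X T.X₂ r * (r₂ : ℤ)) :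
    (∀ (G : X.Modules) (r' : ℕ) (i : G ⟶ T.X₂), Mono i → 0 < r' → FlatMod.IsFinLocFreeOfRank r' G →
      Curv2.deg k X G r' * (r : ℤ) ≤ Curv2.deg k X T.X₂ r * (r' : ℤ)) ↔
      ((∀ (G : X.Modules) (r' : ℕ) (i : G ⟶ T.X₁), Mono i → 0 < r' → FlatMod.IsFinLocFreeOfRank r' G →
      Curv2.deg k X G r' * (r₁ : ℤ) ≤ Curv2.deg k X T.X₁ r₁ * (r' : ℤ)) ∧
       (∀ (G : X.Modules) (r' : ℕ) (i : G ⟶ T.X₃), Mono i → 0 < r' → FlatMod.IsFinLocFreeOfRank r' G →
      Curv2.deg k X G r' * (r₂ : ℤ) ≤ Curv2.deg k X T.X₃ r₂ * (r' : ℤ))) := by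
  classical
  haveI := Groth.Agent.Lib.Lead.VBCurve.isIntegral_of_smooth_of_geometricallyConnected k X
  have hP := Groth.Agent.Lib.Lead.VBCurve.pidStalks_of_smooth k X hdim.le
  haveI := Groth.Agent.Lib.Lead.CurveEuler.isNoetherian k X
  haveI := hT.mono_f
  haveI := hT.epi_g
  have hr₁' : (0 : ℤ) < (r₁ : ℤ) := by exact_mod_cast hr₁
  have hr' : (0 : ℤ) < (r : ℤ) := by exact_mod_cast hr
  have hr₂' : (0 : ℤ) < (r₂ : ℤ) := by exact_mod_cast hr₂
  constructor
  · intro hss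
    refine ⟨fun G r' i hi hr0 hG => ?_, fun G r' i hi hr0 hG => ?_⟩
    · haveI := hi
      have h := hss G r' (i ≫ T.f) inferInstance hr0 hG
      have hr0' : (0 : ℤ) ≤ (r' : ℤ) := by positivity
      have h2 : Curv2.deg k X G r' * (r₁ : ℤ) * (r : ℤ) ≤ Curv2.deg k X T.X₁ r₁ * (r' : ℤ) * (r : ℤ) := by
        nlinarith
      exact le_of_mul_le_mul_right h2 hr'
    · haveI := hi
      obtain ⟨P, a, f', g', ha, -, -, -, hPr, hPd⟩ := Groth.Agent.Lib.Lead.VBCurve.preimage_data k X hP T hT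
        (Groth.Agent.Lib.Lead.RankAdd.isCoh_of_isFinLocFreeOfRank hE₂).1 hE₁ hE hG i
      have h := hss P (r₁ + r') a ha (by omega) hPr
      rw [hPd] at h
      push_cast at h
      have h2 : Curv2.deg k X G r' * (r₂ : ℤ) * (r : ℤ) ≤ Curv2.deg k X T.X₃ r₂ * (r' : ℤ) * (r : ℤ) := by
        nlinarith
      exact le_of_mul_le_mul_right h2 hr'
  · rintro ⟨h₁, h₂⟩ G r' i hi hr0 hG
    haveI := hi
    obtain ⟨rK, rI, hK, hI, hrr, hdeg, -, -, hK0⟩ :=
      Groth.Agent.Lib.Lead.VBCurve.kernel_image_data k X hP hG hE₂ (i ≫ T.g)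
    -- the kernel maps into `T.X₁`
    obtain ⟨κ, hκ⟩ : ∃ κ : kernel (i ≫ T.g) ⟶ T.X₁, κ ≫ T.f = kernel.ι (i ≫ T.g) ≫ i :=
      ⟨hT.fIsKernel.lift (KernelFork.ofι (kernel.ι (i ≫ T.g) ≫ i) (by
        rw [Category.assoc, kernel.condition])), Fork.IsLimit.lift_ι _⟩
    haveI : Mono κ := by
      haveI : Mono (κ ≫ T.f) := by rw [hκ]; infer_instance
      exact mono_of_mono κ T.f
    have hKle : Curv2.deg k X (kernel (i ≫ T.g)) rK * (r : ℤ) ≤ Curv2.deg k X T.X₂ r * (rK : ℤ) := by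
      rcases Nat.eq_zero_or_pos rK with h0 | h0
      · rw [hK0 h0, h0]; simp
      · have h := h₁ _ rK κ inferInstance h0 hK
        have h0' : (0 : ℤ) ≤ (rK : ℤ) := by positivity
        have h2 : Curv2.deg k X (kernel (i ≫ T.g)) rK * (r : ℤ) * (r₁ : ℤ) ≤
            Curv2.deg k X T.X₂ r * (rK : ℤ) * (r₁ : ℤ) := by nlinarith
        exact le_of_mul_le_mul_right h2 hr₁'
    have hIle : Curv2.deg k X (Abelian.image (i ≫ T.g)) rI * (r : ℤ) ≤ Curv2.deg k X T.X₂ r * (rI : ℤ) := by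
      rcases Nat.eq_zero_or_pos rI with h0 | h0
      · subst h0
        rw [Groth.Agent.Lib.Lead.VBCurve.deg_zero_of_isZero k X
          (Groth.Agent.Lib.Lead.VBCurve.isZero_of_isFinLocFreeOfRank_zero hI)]
        simp
      · have h := h₂ _ rI (Abelian.image.ι (i ≫ T.g)) inferInstance h0 hI
        have h0' : (0 : ℤ) ≤ (rI : ℤ) := by positivity
        have h2 : Curv2.deg k X (Abelian.image (i ≫ T.g)) rI * (r : ℤ) * (r₂ : ℤ) ≤
            Curv2.deg k X T.X₂ r * (rI : ℤ) * (r₂ : ℤ) := by nlinarith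
        exact le_of_mul_le_mul_right h2 hr₂'
    rw [hdeg, hrr]
    push_cast
    nlinarith

end Groth.Agent.S14139
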