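import Groth.Statements.S1415
import Mathlib
import Groth.Agent.Lib.Helper13.GB2
-- import your own Groth.Agent.* helpers here

set_option autoImplicit false
universe u
open FlatMor

namespace Groth.Agent.S1415

open AlgebraicGeometry CategoryTheory Limits in
/-- The geometric fibre as a plain fibre product. -/
noncomputable def geomFiberIso {X Y : Scheme.{u}} (f : X ⟶ Y) (y : Y) :
    MoreMor.geomFiber f y ≅ pullback f
      (Spec.map (CommRingCat.ofHom (algebraMap (Y.residueField y)
        (SeparableClosure (Y.residueField y)))) ≫ Y.fromSpecResidueField y) :=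
  pullbackLeftPullbackSndIso f (Y.fromSpecResidueField y) _

open AlgebraicGeometry CategoryTheory Limits in
lemma discreteTopology_geomFiber {X Y : Scheme.{u}} (f : X ⟶ Y) [LocallyQuasiFinite f] (y : Y) :
    DiscreteTopology ↑(MoreMor.geomFiber f y) := by
  haveI : LocallyQuasiFinite (f.fiberToSpecResidueField y) :=
    MorphismProperty.pullback_snd (P := @LocallyQuasiFinite) _ _ inferInstance
  haveI : LocallyQuasiFinite (pullback.snd (f.fiberToSpecResidueField y)
      (Spec.map (CommRingCat.ofHom (algebraMap (Y.residueField y)
        (SeparableClosure (Y.residueField y)))))) :=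
    MorphismProperty.pullback_snd (P := @LocallyQuasiFinite) _ _ inferInstance
  have h := (pullback.snd (f.fiberToSpecResidueField y)
    (Spec.map (CommRingCat.ofHom (algebraMap (Y.residueField y)
      (SeparableClosure (Y.residueField y)))))).isDiscrete_preimage_singleton default
  have huniv : (pullback.snd (f.fiberToSpecResidueField y)
      (Spec.map (CommRingCat.ofHom (algebraMap (Y.residueField y)
        (SeparableClosure (Y.residueField y)))))) ⁻¹' {default} = Set.univ := by
    ext w
    simp only [Set.mem_univ, Set.mem_preimage, Set.mem_singleton_iff, iff_true]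
    exact @Subsingleton.elim _ (inferInstanceAs (Subsingleton (PrimeSpectrum
      (SeparableClosure (Y.residueField y))))) _ _
  rw [huniv] at h
  exact isDiscrete_univ_iff.mp h

/-- In a discrete space, irreducible components and connected components are both counted by
the points. -/
lemma encard_irreducibleComponents_eq_card (G : Type u) [TopologicalSpace G] [DiscreteTopology G] :
    (irreducibleComponents G).encard = ENat.card G := by
  have h : irreducibleComponents G = Set.range (fun x : G ↦ ({x} : Set G)) := by
    ext s
    constructor
    · intro hs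
      obtain ⟨x, rfl⟩ := isIrreducible_iff_singleton.mp hs.1
      exact ⟨x, rfl⟩
    · rintro ⟨x, rfl⟩
      refine ⟨isIrreducible_singleton, fun t ht hxt ↦ ?_⟩
      obtain ⟨z, rfl⟩ := isIrreducible_iff_singleton.mp ht
      have hxz : x = z := hxt rfl
      subst hxz
      exact le_rfl
  rw [h, ← Set.image_univ, Set.InjOn.encard_image (Set.singleton_injective.injOn),
    Set.encard_univ]

lemma card_connectedComponents_eq_card (G : Type u) [TopologicalSpace G] [DiscreteTopology G] :
    ENat.card (_root_.ConnectedComponents G) = ENat.card G := by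
  refine (ENat.card_congr (Equiv.ofBijective (_root_.ConnectedComponents.mk : G → _root_.ConnectedComponents G)
    ⟨fun a b hab ↦ ?_, _root_.ConnectedComponents.surjective_coe⟩)).symm
  have := _root_.ConnectedComponents.coe_eq_coe'.mp hab
  rw [connectedComponent_eq_singleton] at this
  exact this


open AlgebraicGeometry CategoryTheory Limits in
/-- Let f : X → Y be locally quasi-finite. Then (1) for every y the number of irreducible components and
the number of connected components of the geometric fibre over y agree, and (2) if X is
quasi-compact these numbers are bounded by some natural number. -/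
theorem result {X Y : Scheme.{u}} (f : X ⟶ Y) [LocallyQuasiFinite f] [LocallyOfFiniteType f] :
    (∀ y : Y, MoreMor.nGeomIrredComp f y = MoreMor.nGeomConnComp f y) ∧
      (CompactSpace ↑X → ∃ d : ℕ, ∀ y : Y, MoreMor.nGeomConnComp f y ≤ d) := by
  refine ⟨fun y ↦ ?_, fun hX ↦ ?_⟩
  · haveI := discreteTopology_geomFiber f y
    unfold MoreMor.nGeomIrredComp MoreMor.nGeomConnComp
    rw [encard_irreducibleComponents_eq_card, card_connectedComponents_eq_card]
  · haveI := hX
    choose O i n hi hx hb using fun x : X ↦
      Groth.Agent.Lib.helper13.GB.exists_geomBound_nbhd f x (f.quasiFiniteAt x)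
    have hopen : ∀ x, IsOpen (Set.range (i x)) := fun x ↦ (hi x).base_open.isOpen_range
    obtain ⟨t, ht⟩ := isCompact_univ.elim_finite_subcover (fun x ↦ Set.range (i x)) hopen
      (fun x _ ↦ Set.mem_iUnion.mpr ⟨x, hx x⟩)
    have hcov : ∀ x : X, ∃ k : t, x ∈ Set.range (i k.1) := by
      intro x
      have := ht (Set.mem_univ x)
      simp only [Set.mem_iUnion] at this
      obtain ⟨k, hk, hxk⟩ := this
      exact ⟨⟨k, hk⟩, hxk⟩
    have hbound := Groth.Agent.Lib.helper13.GB.GeomBound.of_cover f (fun k : t ↦ O k.1)
      (fun k ↦ i k.1) hcov (fun k ↦ n k.1) (fun k ↦ hb k.1)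
    refine ⟨∑ k : t, n k.1, fun y ↦ ?_⟩
    obtain ⟨hfin, hcard⟩ := hbound (SeparableClosure (Y.residueField y))
      (Spec.map (CommRingCat.ofHom (algebraMap (Y.residueField y)
        (SeparableClosure (Y.residueField y)))) ≫ Y.fromSpecResidueField y)
    have e : ↑(MoreMor.geomFiber f y) ≃ ↑(pullback f
        (Spec.map (CommRingCat.ofHom (algebraMap (Y.residueField y)
          (SeparableClosure (Y.residueField y)))) ≫ Y.fromSpecResidueField y)) :=
      (geomFiberIso f y).hom.homeomorph.toEquiv
    haveI : Finite ↑(MoreMor.geomFiber f y) := Finite.of_equiv _ e.symm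
    unfold MoreMor.nGeomConnComp
    calc ENat.card (_root_.ConnectedComponents ↑(MoreMor.geomFiber f y))
        ≤ ENat.card ↑(MoreMor.geomFiber f y) :=
          ENat.card_le_card_of_injective
            (Function.injective_surjInv _root_.ConnectedComponents.surjective_coe)
      _ = (Nat.card ↑(MoreMor.geomFiber f y) : ℕ∞) := by
          letI := Fintype.ofFinite ↑(MoreMor.geomFiber f y)
          rw [ENat.card_eq_coe_fintype_card, Nat.card_eq_fintype_card]
      _ ≤ ((∑ k : t, n k.1 : ℕ) : ℕ∞) := by
          rw [Nat.card_congr e]
          exact_mod_cast hcard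

end Groth.Agent.S1415
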