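import Groth.Statements.S14151
import Groth.Agent.Lib.Lead.VBCurve13
-- import your own Groth.Agent.* helpers here

set_option autoImplicit false
set_option backward.isDefEq.respectTransparency false
universe u
open CategoryTheory CategoryTheory.Limits AlgebraicGeometry
open VBCurve

namespace Groth.Agent.S14151


theorem arith1 (dG dF dE r r' t : ℤ) (hr : 0 < r) (hrk : r = r' + t) (hdeg : dG + dF ≤ dE)
    (h : dE * t ≤ dF * r) : dG * r ≤ dE * r' := by
  have h1 := mul_le_mul_of_nonneg_right hdeg hr.le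
  subst hrk
  nlinarith

theorem arith1s (dG dF dE r r' t : ℤ) (hr : 0 < r) (hrk : r = r' + t) (hdeg : dG + dF ≤ dE)
    (h : dE * t < dF * r) : dG * r < dE * r' := by
  have h1 := mul_le_mul_of_nonneg_right hdeg hr.le
  subst hrk
  nlinarith

theorem arith2 (dK dF dE r rK s : ℤ) (hrk : r = rK + s) (hdeg : dE = dK + dF)
    (h : dK * r ≤ dE * rK) : dE * s ≤ dF * r := by
  subst hrk hdeg
  nlinarith

theorem arith2s (dK dF dE r rK s : ℤ) (hrk : r = rK + s) (hdeg : dE = dK + dF)
    (h : dK * r < dE * rK) : dE * s < dF * r := by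
  subst hrk hdeg
  nlinarith
open Groth.Agent.Lib.Lead.VBCurve in
/-- submodules versus quotients: every proper-rank submodule is dominated by the kernel of a locally free quotient -/
theorem sub_data (k : Type u) [Field k] (X : Scheme.{u}) [X.Over (Spec (CommRingCat.of k))]
    [IsProper (X ↘ Spec (CommRingCat.of k))] [IsIntegral X] (hP : PIDStalks X)
    (hdim : topologicalKrullDim X ≤ 1) {G E : X.Modules} {r' r : ℕ} (hr' : 0 < r')
    (hG : FlatMod.IsFinLocFreeOfRank r' G) (hE : FlatMod.IsFinLocFreeOfRank r E) (i : G ⟶ E) [Mono i] :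
    (r' = r ∧ Curv2.deg k X G r' ≤ Curv2.deg k X E r ∧ (¬ IsIso i → Curv2.deg k X G r' < Curv2.deg k X E r)) ∨
    (∃ (F : X.Modules) (t : ℕ) (p : E ⟶ F), Epi p ∧ 0 < t ∧ FlatMod.IsFinLocFreeOfRank t F ∧ ¬ IsIso p ∧
      r = r' + t ∧ Curv2.deg k X G r' + Curv2.deg k X F t ≤ Curv2.deg k X E r) := by
  have hle : r' ≤ r := rank_le_of_mono X hG hE i
  rcases Nat.eq_or_lt_of_le hle with heq | hlt
  · left
    subst heq
    refine ⟨rfl, deg_le k X hdim hG hE i, fun hni => ?_⟩
    exact lt_of_le_of_ne (deg_le k X hdim hG hE i) (fun h => hni (isIso_of_deg_eq k X hdim hG hE i h))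
  · right
    obtain ⟨G₁, ι₁, t, hm₁, hG₁, hdle, hrk, ht, hdeg⟩ := exists_saturated_sub k X hP hdim hG hE i
    haveI := hm₁
    refine ⟨cokernel ι₁, t, cokernel.π ι₁, inferInstance, by omega, ht, ?_, hrk, by linarith⟩
    intro hiso
    have h0 : ι₁ = 0 := by
      have := cokernel.condition ι₁
      rw [← cancel_mono (cokernel.π ι₁), this, zero_comp]
    have hz : IsZero G₁ := by
      rw [IsZero.iff_id_eq_zero, ← cancel_mono ι₁, h0, comp_zero, comp_zero]
    exact not_isZero_of_rank_pos hr' hG₁ hz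

open Groth.Agent.Lib.Lead.VBCurve in
/-- a locally free quotient has a locally free kernel with additive rank and degree -/
theorem quot_data (k : Type u) [Field k] (X : Scheme.{u}) [X.Over (Spec (CommRingCat.of k))]
    [IsProper (X ↘ Spec (CommRingCat.of k))] [IsIntegral X] (hP : PIDStalks X)
    {F E : X.Modules} {s r : ℕ} (hs : 0 < s)
    (hF : FlatMod.IsFinLocFreeOfRank s F) (hE : FlatMod.IsFinLocFreeOfRank r E) (p : E ⟶ F) [Epi p] :
    ∃ rK : ℕ, FlatMod.IsFinLocFreeOfRank rK (kernel p) ∧ r = rK + s ∧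
      Curv2.deg k X E r = Curv2.deg k X (kernel p) rK + Curv2.deg k X F s ∧
      (rK = 0 → IsIso p ∧ Curv2.deg k X (kernel p) rK = 0) ∧ ¬ IsIso (kernel.ι p) := by
  obtain ⟨rK, rI, hK, -, -, -, -, hmono, hdK⟩ := kernel_image_data k X hP hE hF p
  have hS : (ShortComplex.mk (kernel.ι p) p (kernel.condition p)).ShortExact :=
    { exact := ShortComplex.exact_kernel p
      mono_f := inferInstanceAs (Mono (kernel.ι p))
      epi_g := inferInstanceAs (Epi p) }
  have hrk : r = rK + s := Groth.Agent.Lib.Lead.RankAdd.rank_add_of_shortExact _ hS rK r s hK hE hF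
  refine ⟨rK, hK, hrk, ?_, fun h0 => ⟨?_, hdK h0⟩, ?_⟩
  · exact Groth.Agent.Lib.Lead.ProperEuler.deg_additive k hS
      (Groth.Agent.Lib.Lead.RankAdd.isCoh_of_isFinLocFreeOfRank hK)
      (Groth.Agent.Lib.Lead.RankAdd.isCoh_of_isFinLocFreeOfRank hF) rK r s hrk
  · haveI := hmono h0
    exact isIso_of_mono_of_epi p
  · intro hiso
    have h0 : p = 0 := by
      have := kernel.condition p
      rw [← cancel_epi (kernel.ι p), this, comp_zero]
    have hz : IsZero F := by
      rw [IsZero.iff_id_eq_zero, ← cancel_epi p, h0, zero_comp, zero_comp]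
    exact not_isZero_of_rank_pos hs hF hz


/-- Let C be a smooth proper geometrically connected curve over a field k (proper, smooth and
geometrically connected over k, of dimension one) and E a finite locally free O_C-module of rank r ≥
1; degrees of rank-n locally free modules are χ − n·χ(O_C) and slopes are compared by
cross-multiplication. Then: E is semistable in the sense of quotients (μ(E) ≤ μ(F) for every locally
free quotient E ↠ F of rank s ≥ 1) if and only if μ(G) ≤ μ(E) for every finite locally free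
submodule G of E of rank r' ≥ 1; and E is stable in the sense of quotients (μ(E) < μ(F) for every
such quotient map which is not an isomorphism) if and only if μ(G) < μ(E) for every such submodule
whose inclusion is not an isomorphism. (The printed lemma says every nonzero subsheaf; for the
strict inequalities the subsheaf and the quotient must be proper, as its proof uses.) -/
theorem result (k : Type u) [Field k] (X : Scheme.{u}) [X.Over (Spec (CommRingCat.of k))]
    [IsProper (X ↘ Spec (CommRingCat.of k))] [Smooth (X ↘ Spec (CommRingCat.of k))]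
    [GeometricallyConnected (X ↘ Spec (CommRingCat.of k))] (hdim : topologicalKrullDim ↥X = 1)
    (r : ℕ) (hr : 0 < r) (E : X.Modules) (hE : FlatMod.IsFinLocFreeOfRank r E) :
    ((∀ (F : X.Modules) (s : ℕ) (p : E ⟶ F), Epi p → 0 < s → FlatMod.IsFinLocFreeOfRank s F →
      Curv2.deg k X E r * (s : ℤ) ≤ Curv2.deg k X F s * (r : ℤ)) ↔
      (∀ (G : X.Modules) (r' : ℕ) (i : G ⟶ E), Mono i → 0 < r' → FlatMod.IsFinLocFreeOfRank r' G →
      Curv2.deg k X G r' * (r : ℤ) ≤ Curv2.deg k X E r * (r' : ℤ))) ∧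
    ((∀ (F : X.Modules) (s : ℕ) (p : E ⟶ F), Epi p → 0 < s → FlatMod.IsFinLocFreeOfRank s F → (¬ IsIso p) →
      Curv2.deg k X E r * (s : ℤ) < Curv2.deg k X F s * (r : ℤ)) ↔
      (∀ (G : X.Modules) (r' : ℕ) (i : G ⟶ E), Mono i → 0 < r' → FlatMod.IsFinLocFreeOfRank r' G → (¬ IsIso i) →
      Curv2.deg k X G r' * (r : ℤ) < Curv2.deg k X E r * (r' : ℤ))) := by
  haveI := Groth.Agent.Lib.Lead.VBCurve.isIntegral_of_smooth_of_geometricallyConnected k X
  have hP := Groth.Agent.Lib.Lead.VBCurve.pidStalks_of_smooth k X hdim.le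
  have hr0 : (0 : ℤ) < (r : ℤ) := by exact_mod_cast hr
  refine ⟨⟨fun hq G r' i hi hr' hG => ?_, fun hsub F s p hp hs hF => ?_⟩,
    ⟨fun hq G r' i hi hr' hG hni => ?_, fun hsub F s p hp hs hF hni => ?_⟩⟩
  · haveI := hi
    rcases sub_data k X hP hdim.le hr' hG hE i with ⟨heq, hle, -⟩ | ⟨F, t, p, hp, ht, hF, hnp, hrk, hdeg⟩
    · subst heq
      exact mul_le_mul_of_nonneg_right hle hr0.le
    · have h := hq F t p hp ht hF
      have hrk' : (r : ℤ) = (r' : ℤ) + (t : ℤ) := by exact_mod_cast hrk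
      exact arith1 _ _ _ _ _ _ hr0 hrk' hdeg h
  · haveI := hp
    obtain ⟨rK, hK, hrk, hdeg, h0, -⟩ := quot_data k X hP hs hF hE p
    have hrk' : (r : ℤ) = (rK : ℤ) + (s : ℤ) := by exact_mod_cast hrk
    rcases Nat.eq_zero_or_pos rK with hz | hpos
    · obtain ⟨-, hd0⟩ := h0 hz
      subst hz
      simp only [Nat.cast_zero, zero_add] at hrk'
      rw [hdeg, hd0, hrk']
      simp
    · have h := hsub (kernel p) rK (kernel.ι p) inferInstance hpos hK
      exact arith2 _ _ _ _ _ _ hrk' hdeg h
  · haveI := hi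
    rcases sub_data k X hP hdim.le hr' hG hE i with ⟨heq, -, hlt⟩ | ⟨F, t, p, hp, ht, hF, hnp, hrk, hdeg⟩
    · subst heq
      exact mul_lt_mul_of_pos_right (hlt hni) hr0
    · have h := hq F t p hp ht hF hnp
      have hrk' : (r : ℤ) = (r' : ℤ) + (t : ℤ) := by exact_mod_cast hrk
      exact arith1s _ _ _ _ _ _ hr0 hrk' hdeg h
  · haveI := hp
    obtain ⟨rK, hK, hrk, hdeg, h0, hnK⟩ := quot_data k X hP hs hF hE p
    have hrk' : (r : ℤ) = (rK : ℤ) + (s : ℤ) := by exact_mod_cast hrk
    rcases Nat.eq_zero_or_pos rK with hz | hpos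
    · exact absurd (h0 hz).1 hni
    · have h := hsub (kernel p) rK (kernel.ι p) inferInstance hpos hK hnK
      exact arith2s _ _ _ _ _ _ hrk' hdeg h

end Groth.Agent.S14151
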