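import Groth.Statements.S14152
import Mathlib
import Groth.Agent.Lib.Helper18.CurvePt4
import Groth.Agent.S1535

set_option autoImplicit false
universe u
open CategoryTheory CategoryTheory.Limits AlgebraicGeometry
open Curves

namespace Groth.Agent.S14152

open Groth.Agent.Lib.Helper18.CurvePt Groth.Agent.Lib.Helper18.RegPoint in

/-- Let k be an algebraically closed field and C a smooth proper integral curve over k (proper and
smooth over k, integral, of dimension one) of genus g ≥ 1, where g = dim_k H^1(C, O_C). Then for
every natural number r ≤ g there is an invertible O_C-module L of degree r, the degree being χ(L) −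
χ(O_C), with dim_k H^0(C, L) = 1. (The published statement gives a non-empty open set of r-tuples of
points (x_i) with h^0(O(Σ x_i)) = 1 and is placed in a chapter working in characteristic 0; the
existence of one such divisor, stated here, is what the row records, and the printed argument does
not use the characteristic.) -/
theorem result (k : Type u) [Field k] [IsAlgClosed k]
    (X : Scheme.{u}) [X.Over (Spec (CommRingCat.of k))] [IsIntegral X]
    [IsProper (X ↘ Spec (CommRingCat.of k))] [Smooth (X ↘ Spec (CommRingCat.of k))]
    (hdim : topologicalKrullDim ↥X = 1) (g : ℕ) (hg : Curv2.genus k X = g) (hg1 : 1 ≤ g)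
    (r : ℕ) (hr : r ≤ g) :
    ∃ L : X.Modules, PicF.IsInvertible L ∧ Curv2.deg k X L 1 = (r : ℤ) ∧
      Module.finrank k (Coh.HH X L 0) = 1 := by
  haveI := Groth.Agent.Lib.Lead.CurveEuler.isNoetherian k X
  have hgood : ∀ y : X, IsClosed ({y} : Set X) → GoodPt y := by
    intro y hy
    obtain ⟨t, ht0, ht⟩ := exists_uniformizer_of_isRegularLocalRing hdim.le hy
      (ne_genericPoint_of_isClosed hdim hy) (Groth.Agent.S1535.result k X y)
    exact goodPt_of_uniformizer hy t ht0 ht
  obtain ⟨L, hL, hL0, hLd⟩ := exists_deg_genus k X hdim
  obtain ⟨e, he⟩ : ∃ e, g = r + e := ⟨g - r, by omega⟩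
  obtain ⟨L', hL', hL0', hLd'⟩ := exists_deg_eq_of_le k X hdim hgood r e hL hL0 (by
    rw [hLd, hg, he])
  exact ⟨L', hL', hLd', hL0'⟩

end Groth.Agent.S14152
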