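import Groth.Statements.S14175
import Mathlib

set_option autoImplicit false
universe u v w
open GalCoh

namespace Groth.Agent.S14175



/-- Let G be a finite cyclic group generated by t, let m be a natural number dividing the order of G,
and let ρ be a linear representation of G on a module V over a commutative ring k such that m·V = 0
and every element of G whose m-th power is the identity acts trivially on V. Then evaluating a
crossed homomorphism at t induces a bijection from the first cohomology of G with values in V
(crossed homomorphisms f, i.e. f(gh) = ρ(g)f(h) + f(g), modulo the principal ones g ↦ ρ(g)x − x)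
onto the coinvariants V_G (the quotient of V by the span of all ρ(g)v − v): the class of f(t) in V_G
vanishes exactly when f is principal, and every class of V_G is the class of f(t) for some crossed
homomorphism f. The bijection depends on the choice of the generator t. -/
theorem result
    {k : Type u} {G : Type v} {V : Type w} [CommRing k] [Group G] [Finite G]
    [AddCommGroup V] [Module k V] (ρ : Representation k G V)
    (t : G) (ht : ∀ g : G, g ∈ Subgroup.zpowers t)
    (m : ℕ) (hm : m ∣ Nat.card G) (htors : ∀ v : V, m • v = 0)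
    (htriv : ∀ g : G, g ^ m = 1 → ∀ v : V, ρ g v = v) :
    (∀ f : G → V, (∀ g h : G, f (g * h) = ρ g (f h) + f g) →
        (Representation.Coinvariants.mk ρ (f t) = 0 ↔ ∃ x : V, ∀ g : G, f g = ρ g x - x)) ∧
    (∀ v : V, ∃ f : G → V, (∀ g h : G, f (g * h) = ρ g (f h) + f g) ∧
        Representation.Coinvariants.mk ρ (f t) = Representation.Coinvariants.mk ρ v) := by
  classical
  let T : Module.End k V := ρ t
  let S : ℕ → Module.End k V := fun i => ∑ l ∈ Finset.range i, T ^ l
  have hS0 : S 0 = 0 := Finset.sum_range_zero _
  have hSsucc : ∀ i, S (i + 1) = S i + T ^ i := fun i => Finset.sum_range_succ _ _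
  have hρpow : ∀ i : ℕ, ρ (t ^ i) = T ^ i := fun i => map_pow ρ t i
  have hpow : ∀ g : G, ∃ i : ℕ, t ^ i = g := by
    intro g
    have h1 := ht g
    have hfin : IsOfFinOrder t := isOfFinOrder_of_finite t
    rw [← hfin.mem_powers_iff_mem_zpowers] at h1
    exact h1
  have hSadd : ∀ a b : ℕ, S (a + b) = S a + T ^ a * S b := by
    intro a b
    show ∑ l ∈ Finset.range (a + b), T ^ l =
      ∑ l ∈ Finset.range a, T ^ l + T ^ a * ∑ l ∈ Finset.range b, T ^ l
    rw [Finset.sum_range_add, Finset.mul_sum]
    congr 1
    exact Finset.sum_congr rfl (fun x _ => pow_add T a x)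
  have hblock : ∀ d : ℕ, T ^ d = 1 → ∀ q : ℕ, S (q * d) = q • S d := by
    intro d hd q
    induction q with
    | zero => rw [zero_mul, hS0, zero_smul]
    | succ q ih =>
      rw [Nat.succ_mul, hSadd, ih, pow_mul', hd, one_pow, one_mul, succ_nsmul]
  have hN : orderOf t = Nat.card G := orderOf_eq_card_of_forall_mem_zpowers ht
  have hTN : T ^ Nat.card G = 1 := by
    rw [← hρpow, pow_card_eq_one', map_one]
  obtain ⟨d, hd⟩ := hm
  have hTd : T ^ d = 1 := by
    rw [← hρpow]
    ext v
    exact htriv (t ^ d) (by rw [← pow_mul, mul_comm, ← hd, pow_card_eq_one']) v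
  have hSN : ∀ v, S (Nat.card G) v = 0 := by
    intro v
    rw [hd, hblock d hTd m, LinearMap.smul_apply]
    exact htors _
  have hSqN : ∀ (q : ℕ) (v : V), S (q * Nat.card G) v = 0 := by
    intro q v
    rw [hblock _ hTN q, LinearMap.smul_apply, hSN, smul_zero]
  have hwell : ∀ i j : ℕ, t ^ i = t ^ j → ∀ v, S i v = S j v := by
    have key : ∀ i j : ℕ, i ≤ j → t ^ i = t ^ j → ∀ v, S i v = S j v := by
      intro i j hij h v
      obtain ⟨c, rfl⟩ := Nat.exists_eq_add_of_le hij
      have h1 : t ^ c = 1 := by
        rw [pow_add] at h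
        exact left_eq_mul.mp h
      have h2 : Nat.card G ∣ c := by
        rw [← hN]
        exact orderOf_dvd_of_pow_eq_one h1
      obtain ⟨q, rfl⟩ := h2
      rw [hSadd, LinearMap.add_apply, Module.End.mul_apply, mul_comm (Nat.card G) q, hSqN,
        map_zero, add_zero]
    intro i j h v
    rcases le_total i j with hij | hij
    · exact key i j hij h v
    · exact (key j i hij h.symm v).symm
  refine ⟨?_, ?_⟩
  · intro f hf
    have hf1 : f 1 = 0 := by
      have h1 := hf 1 1
      rw [mul_one, map_one, Module.End.one_apply] at h1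
      exact left_eq_add.mp h1
    have hfpow : ∀ i : ℕ, f (t ^ i) = S i (f t) := by
      intro i
      induction i with
      | zero => rw [pow_zero, hf1, hS0, LinearMap.zero_apply]
      | succ i ih =>
        rw [pow_succ, hf, ih, hρpow, hSsucc, LinearMap.add_apply, add_comm]
    constructor
    · intro h0
      rw [Representation.Coinvariants.mk_eq_zero] at h0
      have hle : Representation.Coinvariants.ker ρ ≤ LinearMap.range (T - 1) := by
        unfold Representation.Coinvariants.ker
        rw [Submodule.span_le]
        rintro _ ⟨⟨g, w⟩, rfl⟩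
        obtain ⟨i, rfl⟩ := hpow g
        refine ⟨S i w, ?_⟩
        show (T - 1) (S i w) = ρ (t ^ i) w - w
        rw [hρpow, ← Module.End.mul_apply]
        show ((T - 1) * ∑ l ∈ Finset.range i, T ^ l) w = _
        rw [mul_geom_sum, LinearMap.sub_apply, Module.End.one_apply]
      obtain ⟨x, hx⟩ := hle h0
      refine ⟨x, fun g => ?_⟩
      obtain ⟨i, rfl⟩ := hpow g
      rw [hfpow, ← hx, ← Module.End.mul_apply]
      show ((∑ l ∈ Finset.range i, T ^ l) * (T - 1)) x = _
      rw [geom_sum_mul, hρpow, LinearMap.sub_apply, Module.End.one_apply]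
    · rintro ⟨x, hx⟩
      rw [hx t, Representation.Coinvariants.mk_eq_zero]
      exact Representation.Coinvariants.sub_mem_ker t x
  · intro v
    choose e he using hpow
    refine ⟨fun g => S (e g) v, ?_, ?_⟩
    · intro g h
      have h1 : t ^ (e (g * h)) = t ^ (e g + e h) := by rw [he, pow_add, he, he]
      show S (e (g * h)) v = ρ g (S (e h) v) + S (e g) v
      rw [hwell _ _ h1 v, hSadd, LinearMap.add_apply, Module.End.mul_apply, ← hρpow, he, add_comm]
    · have h1 : t ^ (e t) = t ^ 1 := by rw [he, pow_one]
      have h2 : S (e t) v = S 1 v := hwell _ _ h1 v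
      show Representation.Coinvariants.mk ρ (S (e t) v) = _
      rw [h2, hSsucc, hS0, zero_add, pow_zero, Module.End.one_apply]


end Groth.Agent.S14175
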