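import Groth.Statements.S14176
import Mathlib
import Groth.Agent.Lib.Helper14.PowComm

set_option autoImplicit false
universe u
open Pi1

namespace Groth.Agent.S14176

open W4c1etcurveeff2 in
/-- Let G be a topological group in which some finite subset generates a dense subgroup, let n ≥ 1, and
let S be the closure of the subgroup generated by all n-th powers and all commutators. Write D for
the group of continuous homomorphisms from G to the discrete cyclic group ℤ/n, that is,
homomorphisms with open kernel (the first cohomology of G with coefficients in the trivial module
ℤ/n), and D^∨ for its ℤ/n-dual, the group of homomorphisms D → ℤ/n. Then: S is carried onto itself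
by every group automorphism of G that is a homeomorphism; an element g of G lies in S exactly when
every element of D kills g, and every element of D^∨ is evaluation at some element of G, so that
evaluation identifies G/S with D^∨; and S is the only closed normal subgroup H of G with G/H
isomorphic to D^∨. (The published statement is for a topologically finitely generated group, calls S
characteristic and does not restrict the competing subgroups H; this row asks the automorphisms to
be homeomorphisms and H to be closed, which is what the argument uses: for the integers with the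
p-adic topology times a cyclic group of prime order q ≠ p, the subgroup qℤ × ℤ/q is normal, not
closed, and has quotient isomorphic to D^∨ ≅ ℤ/q, while S = ℤ × 0.) -/
theorem result
    {G : Type u} [Group G] [TopologicalSpace G] [IsTopologicalGroup G]
    (s : Finset G) (hs : Dense ((Subgroup.closure (s : Set G) : Subgroup G) : Set G))
    (n : ℕ) [NeZero n] (S : Subgroup G) (hS : S = powCommClosure G n) :
    (∀ φ : G ≃* G, Continuous φ → Continuous φ.symm → S.map φ.toMonoidHom = S) ∧
    (∀ g : G, g ∈ S ↔
        ∀ χ : G →* Multiplicative (ZMod n), IsOpen ((χ.ker : Subgroup G) : Set G) → χ g = 1) ∧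
    (∀ F : ContChar G n →* Multiplicative (ZMod n), ∃ g : G,
        ∀ χ : ContChar G n, F χ = (χ.1 : G →* Multiplicative (ZMod n)) g) ∧
    (∀ (H : Subgroup G) [H.Normal], IsClosed (H : Set G) →
        Nonempty (G ⧸ H ≃* (ContChar G n →* Multiplicative (ZMod n))) → H = S) := by
  subst hS
  have hfin : Finite (G ⧸ powCommClosure G n) :=
    Groth.Agent.Lib.Helper14.PowComm.finite_quot n s hs
  refine ⟨fun φ h1 h2 => Groth.Agent.Lib.Helper14.PowComm.map_eq n φ h1 h2, fun g => ⟨?_, ?_⟩,
    ?_, ?_⟩
  · intro hg χ hχ
    exact Groth.Agent.Lib.Helper14.PowComm.char_eq_one n χ hχ g hg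
  · intro h
    by_contra hg
    obtain ⟨χ, hχo, hχ⟩ := Groth.Agent.Lib.Helper14.PowComm.exists_char_ne_one n g hg
    exact hχ (h χ hχo)
  · intro F
    obtain ⟨a, ha⟩ := (Groth.Agent.Lib.Helper14.PowComm.card_eq (G := G) n).2.2 F
    obtain ⟨g, rfl⟩ := QuotientGroup.mk_surjective a
    refine ⟨g, fun χ => ?_⟩
    rw [← ha]
    rfl
  · intro H _ hH ⟨e⟩
    exact Groth.Agent.Lib.Helper14.PowComm.eq_of_quot_equiv n H hH e


end Groth.Agent.S14176
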