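import Groth.Statements.S14178
import Mathlib
set_option linter.style.haveILetI false

set_option autoImplicit false
universe u v w
open scoped nonZeroDivisors
open EtAlg

namespace Groth.Agent.S14178

open Polynomial IntermediateField

/-- `X ^ n - a` is irreducible if `a` is not a `p`-th power for all primes `p ∣ n`, provided
`-1` is a square when `4 ∣ n`. -/
theorem X_pow_sub_C_irreducible_of_neg_one_sq {K : Type u} [Field K]
    {n : ℕ} (hn0 : n ≠ 0) (hi : 4 ∣ n → ∃ i : K, i ^ 2 = -1) {a : K}
    (ha : ∀ p : ℕ, p.Prime → p ∣ n → ∀ b : K, b ^ p ≠ a) :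
    Irreducible (X ^ n - C a) := by
  induction n using induction_on_primes generalizing K a with
  | zero => exact absurd rfl hn0
  | one => simpa using irreducible_X_sub_C a
  | prime_mul p n hp IH =>
    have hn0' : n ≠ 0 := fun h => hn0 (by simp [h])
    rw [mul_comm]
    apply X_pow_mul_sub_C_irreducible
      (X_pow_sub_C_irreducible_of_prime hp (ha p hp (dvd_mul_right _ _)))
    intro E _ _ x hx
    have : IsIntegral K x := not_not.mp fun h ↦ by
      simpa only [degree_zero, degree_X_pow_sub_C hp.pos,
        WithBot.natCast_ne_bot] using congr_arg degree (hx.symm.trans (dif_neg h))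
    apply IH hn0'
    · intro h4
      obtain ⟨i, hi'⟩ := hi (Dvd.dvd.mul_left h4 p)
      exact ⟨algebraMap K _ i, by rw [← map_pow, hi', map_neg, map_one]⟩
    intro q hq hqn b hb
    have hnorm : (Algebra.norm K b) ^ q = (-1) ^ p * (-a) := by
      rw [← map_pow, hb, ← adjoin.powerBasis_gen this,
        Algebra.PowerBasis.norm_gen_eq_coeff_zero_minpoly]
      simp [minpoly_gen, hx, hp.ne_zero.symm]
    rcases hp.eq_two_or_odd' with rfl | hodd
    · -- p = 2
      rcases hq.eq_two_or_odd' with rfl | hqodd
      · obtain ⟨i, hi'⟩ := hi (by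
          obtain ⟨m, rfl⟩ := hqn
          exact ⟨m, by ring⟩)
        apply ha 2 hq (dvd_mul_right _ _) (i * Algebra.norm K b)
        rw [mul_pow, hi', hnorm]; ring
      · apply ha q hq (dvd_mul_of_dvd_right hqn 2) (- Algebra.norm K b)
        rw [hqodd.neg_pow, hnorm]; ring
    · apply ha q hq (dvd_mul_of_dvd_right hqn p) (Algebra.norm K b)
      rw [hnorm, hodd.neg_pow]; ring

/-- p-th roots of fractional ideals of a Dedekind domain are unique. -/
lemma fractionalIdeal_pow_left_injective {A : Type u} {K : Type v} [CommRing A] [IsDedekindDomain A]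
    [Field K] [Algebra A K] [IsFractionRing A K] {p : ℕ} (hp : p ≠ 0)
    {J J' : FractionalIdeal A⁰ K} (hJ : J ≠ 0) (hJ' : J' ≠ 0) (h : J ^ p = J' ^ p) : J = J' := by
  rw [← FractionalIdeal.finprod_heightOneSpectrum_factorization' K hJ,
    ← FractionalIdeal.finprod_heightOneSpectrum_factorization' K hJ']
  apply finprod_congr
  intro v
  congr 1
  have h1 := congrArg (FractionalIdeal.count K v) h
  rw [FractionalIdeal.count_pow, FractionalIdeal.count_pow] at h1
  have hp' : (p : ℤ) ≠ 0 := by exact_mod_cast hp
  exact mul_left_cancel₀ hp' h1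


/-- Let A be a Dedekind domain with fraction field K, let n be a natural number invertible in A such
that K contains a primitive n-th root of unity, let f be a nonzero element of K and I an invertible
fractional ideal of A with (f) = I^n whose class in the ideal class group of A has order exactly n
(the divisor of f is n times a divisor whose class has order n), and let L = K(α) be a field
extension of K generated by a single element α with α^n = f. Then L is Galois over K of degree n
with cyclic Galois group. (The published statement is for an integral smooth curve over a perfect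
field containing a primitive n-th root of unity, with the Picard group of the curve in place of the
class group; this row states it for any Dedekind domain.) -/
theorem result
    {A : Type u} {K : Type v} {L : Type w} [CommRing A] [IsDedekindDomain A]
    [Field K] [Algebra A K] [IsFractionRing A K]
    [Field L] [Algebra K L]
    (n : ℕ) (hn : IsUnit (n : A)) (ζ : K) (hζ : IsPrimitiveRoot ζ n) (f : K) (hf : f ≠ 0)
    (I : (FractionalIdeal A⁰ K)ˣ) (hI : FractionalIdeal.spanSingleton A⁰ f = (I : FractionalIdeal A⁰ K) ^ n)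
    (hord : orderOf (ClassGroup.mk K I) = n)
    (α : L) (hα : α ^ n = algebraMap K L f) (hgen : IntermediateField.adjoin K {α} = ⊤) :
    IsGalois K L ∧ IsCyclic (L ≃ₐ[K] L) ∧ Module.finrank K L = n := by
  have hn0 : n ≠ 0 := by
    rintro rfl
    simp at hn
  have hnpos : 0 < n := Nat.pos_of_ne_zero hn0
  haveI : NeZero n := ⟨hn0⟩
  -- not a p-th power
  have hpow : ∀ p : ℕ, p.Prime → p ∣ n → ∀ b : K, b ^ p ≠ f := by
    intro p hp hpn b hb
    obtain ⟨m, rfl⟩ := hpn
    have hb0 : b ≠ 0 := by
      rintro rfl
      rw [zero_pow hp.ne_zero] at hb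
      exact hf hb.symm
    have h1 : (FractionalIdeal.spanSingleton A⁰ b) ^ p = ((I : FractionalIdeal A⁰ K) ^ m) ^ p := by
      rw [FractionalIdeal.spanSingleton_pow, hb, hI, ← pow_mul, mul_comm]
    have h2 := fractionalIdeal_pow_left_injective hp.ne_zero
      (FractionalIdeal.spanSingleton_ne_zero_iff.mpr hb0) (pow_ne_zero _ I.ne_zero) h1
    have h3 : ClassGroup.mk K (I ^ m) = 1 := by
      rw [ClassGroup.mk_eq_one_iff]
      refine ⟨⟨b, ?_⟩⟩
      rw [Units.val_pow_eq_pow_val, ← h2, FractionalIdeal.coe_spanSingleton]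
    rw [map_pow] at h3
    have h4 := orderOf_dvd_of_pow_eq_one h3
    rw [hord] at h4
    have hm0 : m ≠ 0 := fun h => hn0 (by simp [h])
    have h5 := Nat.le_of_dvd (Nat.pos_of_ne_zero hm0) h4
    have : 2 * m ≤ p * m := Nat.mul_le_mul_right m hp.two_le
    omega
  -- -1 is a square if 4 ∣ n
  have hi : 4 ∣ n → ∃ i : K, i ^ 2 = -1 := by
    rintro ⟨m, rfl⟩
    refine ⟨ζ ^ m, ?_⟩
    have h1 : (ζ ^ m) ^ 4 = 1 := by rw [← pow_mul, mul_comm]; exact hζ.pow_eq_one
    have h2 : (ζ ^ m) ^ 2 ≠ 1 := by
      rw [← pow_mul]
      intro h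
      have := hζ.dvd_of_pow_eq_one _ h
      have hm0 : m ≠ 0 := fun h => hn0 (by simp [h])
      have := Nat.le_of_dvd (by positivity) this
      omega
    have h3 : ((ζ ^ m) ^ 2 - 1) * ((ζ ^ m) ^ 2 + 1) = 0 := by
      have : ((ζ ^ m) ^ 2 - 1) * ((ζ ^ m) ^ 2 + 1) = (ζ ^ m) ^ 4 - 1 := by ring
      rw [this, h1, sub_self]
    rcases mul_eq_zero.mp h3 with h | h
    · exact absurd (sub_eq_zero.mp h) h2
    · exact eq_neg_of_add_eq_zero_left h
  have H : Irreducible (X ^ n - C f) := X_pow_sub_C_irreducible_of_neg_one_sq hn0 hi hpow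
  have hζ' : (primitiveRoots n K).Nonempty := ⟨ζ, (mem_primitiveRoots hnpos).mpr hζ⟩
  have hαint : IsIntegral K α := by
    refine ⟨X ^ n - C f, monic_X_pow_sub_C f hn0, ?_⟩
    simp [hα]
  haveI : IsSplittingField K L (X ^ n - C f) := by
    constructor
    · rw [Polynomial.map_sub, Polynomial.map_pow, Polynomial.map_C, Polynomial.map_X]
      exact X_pow_sub_C_splits_of_isPrimitiveRoot
        (hζ.map_of_injective (algebraMap K L).injective) hα
    · rw [eq_top_iff, ← IntermediateField.top_toSubalgebra, ← hgen,
        IntermediateField.adjoin_simple_toSubalgebra_of_isAlgebraic hαint.isAlgebraic]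
      apply Algebra.adjoin_mono
      rw [Set.singleton_subset_iff, mem_rootSet_of_ne (X_pow_sub_C_ne_zero hnpos f),
        aeval_def, eval₂_sub, eval₂_X_pow, eval₂_C, hα, sub_self]
  exact ⟨isGalois_of_isSplittingField_X_pow_sub_C hζ' H L,
    isCyclic_of_isSplittingField_X_pow_sub_C hζ' H L,
    finrank_of_isSplittingField_X_pow_sub_C hζ' H L⟩

end Groth.Agent.S14178
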