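import Groth.Statements.S14181
import Mathlib

set_option autoImplicit false
universe u
open CategoryTheory
open GalCoh

namespace Groth.Agent.S14181

section helpers

section helpers
variable {k G V : Type u} [CommRing k] [Group G] [AddCommGroup V] [Module k V]
  (ρ : Representation k G V)

/-- twist of a function by a coboundary -/
def twist (c : G → V) (b : V) : G → V := fun g => c g + ρ g b - b

lemma twist_cocycle (c : G → V) (b : V) (hc : ∀ g h, c (g * h) = ρ g (c h) + c g) (g h : G) :
    twist ρ c b (g * h) = ρ g (twist ρ c b h) + twist ρ c b g := by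
  simp only [twist, hc, map_mul, Module.End.mul_apply, map_add, map_sub]
  abel

lemma sum_shift (P : Subgroup G) [Fintype P] (c : G → V)
    (hc : ∀ g h, c (g * h) = ρ g (c h) + c g) (p : P) :
    ρ p (∑ q : P, c q) = (∑ q : P, c q) - (Fintype.card P : k) • c p := by
  rw [map_sum]
  have h1 : ∀ q : P, ρ p (c q) = c ((p * q : P)) - c p := by
    intro q
    rw [Subgroup.coe_mul, hc]; abel
  simp_rw [h1]
  rw [Finset.sum_sub_distrib, Finset.sum_const, Finset.card_univ]
  congr 1
  · exact Equiv.sum_comp (Equiv.mulLeft p) (fun q : P => c q)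
  · rw [Nat.cast_smul_eq_nsmul]

lemma cocycle_one (c : G → V) (hc : ∀ g h, c (g * h) = ρ g (c h) + c g) : c 1 = 0 := by
  have := hc 1 1
  simpa using this

end helpers


end helpers

/-- Let G be a group with a finite normal subgroup P, k a commutative ring and A a k-linear
representation of G such that multiplication by the order of P is a bijection of A. Then the
inflation map on 1-cocycles (crossed homomorphisms) Z¹(G/P, A^P) → Z¹(G, A) has a k-linear left
inverse. (The published statement is for the inertia group of a Galois cover of smooth curves at a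
point, its normal Sylow p-subgroup P and a module of n-torsion with n prime to p; the argument uses
only that the order of P acts invertibly, which is the hypothesis taken here.) -/
theorem result
    {k G : Type u} [CommRing k] [Group G] (A : Rep.{u} k G) (P : Subgroup G) [P.Normal] [Finite P]
    (hP : Function.Bijective fun a : A => (Nat.card P : k) • a) :
    ∃ r : ModuleCat.of k (groupCohomology.cocycles₁ A) ⟶
        ModuleCat.of k (groupCohomology.cocycles₁ (A.quotientToInvariants P)),
      (groupCohomology.mapCocycles₁ (QuotientGroup.mk' P) (Rep.ofHom (A.ρ.quotientToInvariants_lift P)) :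
          ModuleCat.of k (groupCohomology.cocycles₁ (A.quotientToInvariants P)) ⟶
            ModuleCat.of k (groupCohomology.cocycles₁ A)) ≫ r = 𝟙 _ := by
  classical
  have : Fintype P := Fintype.ofFinite P
  have hcard : Nat.card P = Fintype.card P := Nat.card_eq_fintype_card
  -- the inverse of multiplication by |P|
  let e : A ≃ₗ[k] A := LinearEquiv.ofBijective ((Nat.card P : k) • LinearMap.id) hP
  have he : ∀ a : A, (Nat.card P : k) • e.symm a = a := fun a => e.apply_symm_apply a
  -- the correction element
  let bL : groupCohomology.cocycles₁ A →ₗ[k] A :=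
    { toFun := fun c => e.symm (∑ q : P, c q)
      map_add' := fun c d => by
        rw [← map_add, ← Finset.sum_add_distrib]; rfl
      map_smul' := fun t c => by
        rw [RingHom.id_apply, ← map_smul, Finset.smul_sum]; rfl }
  have hcoc : ∀ c : groupCohomology.cocycles₁ A, ∀ g h : G, c (g * h) = A.ρ g (c h) + c g :=
    fun c => (groupCohomology.mem_cocycles₁_iff c).1 c.2
  -- the twisted cocycle
  let c' : groupCohomology.cocycles₁ A → G → A := fun c => twist A.ρ c (bL c)
  have hc'coc : ∀ c g h, c' c (g * h) = A.ρ g (c' c h) + c' c g :=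
    fun c g h => twist_cocycle A.ρ c (bL c) (hcoc c) g h
  have hc'P : ∀ c (p : P), c' c p = 0 := by
    intro c p
    apply hP.1
    show (Nat.card P : k) • c' c p = (Nat.card P : k) • 0
    rw [smul_zero]
    show (Nat.card P : k) • (c p + A.ρ p (bL c) - bL c) = 0
    rw [smul_sub, smul_add, ← LinearMap.map_smul (A.ρ (p : G))]
    have : (Nat.card P : k) • bL c = ∑ q : P, c q := he _
    rw [this, sum_shift A.ρ P c (hcoc c) p, hcard]
    abel
  have hc'mul : ∀ c (g : G) (p : P), c' c (g * p) = c' c g := by
    intro c g p
    rw [hc'coc, hc'P, map_zero, zero_add]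
  have hc'inv : ∀ c (g : G) (p : P), A.ρ p (c' c g) = c' c g := by
    intro c g p
    have h1 : (p : G) * g = g * (⟨g⁻¹ * p * g, Subgroup.Normal.conj_mem' ‹_› p.1 p.2 g⟩ : P) := by
      simp [mul_assoc]
    have h2 := hc'coc c p g
    rw [h1, hc'mul, hc'P, add_zero] at h2
    exact h2.symm
  have hc'add : ∀ c d g, c' (c + d) g = c' c g + c' d g := by
    intro c d g
    show (c + d) g + A.ρ g (bL (c + d)) - bL (c + d) = _
    rw [map_add, map_add]
    show c g + d g + _ - _ = (c g + A.ρ g (bL c) - bL c) + (d g + A.ρ g (bL d) - bL d)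
    abel
  have hc'smul : ∀ (t : k) c g, c' (t • c) g = t • c' c g := by
    intro t c g
    show (t • c) g + A.ρ g (bL (t • c)) - bL (t • c) = _
    rw [map_smul, map_smul]
    show t • c g + _ - _ = t • (c g + A.ρ g (bL c) - bL c)
    rw [smul_sub, smul_add]
  -- the retraction
  let rfun : groupCohomology.cocycles₁ A → (G ⧸ P → (A.quotientToInvariants P)) := fun c q =>
    ⟨c' c q.out, fun p => hc'inv c q.out p⟩
  have hrcoc : ∀ c, rfun c ∈ groupCohomology.cocycles₁ (A.quotientToInvariants P) := by
    intro c
    rw [groupCohomology.mem_cocycles₁_iff]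
    intro q₁ q₂
    apply Subtype.ext
    obtain ⟨p, hp⟩ : ∃ p : P, q₁.out * q₂.out = (q₁ * q₂).out * p := by
      have : ((q₁ * q₂).out : G ⧸ P) = ((q₁.out * q₂.out : G) : G ⧸ P) := by
        simp
      rw [QuotientGroup.eq] at this
      refine ⟨⟨_, this⟩, ?_⟩
      simp
    show c' c (q₁ * q₂).out = _
    rw [← hc'mul c _ p, ← hp, hc'coc]
    have hq : (q₁.out : G ⧸ P) = q₁ := QuotientGroup.out_eq' q₁
    have key : ∀ (g : G) (v : A.quotientToInvariants P),
        ((A.quotientToInvariants P).ρ (g : G ⧸ P) v).1 = A.ρ g v.1 := fun _ _ => rfl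
    have h3 := key q₁.out (rfun c q₂)
    rw [hq] at h3
    rw [Submodule.coe_add, h3]
  let rLin : groupCohomology.cocycles₁ A →ₗ[k] groupCohomology.cocycles₁ (A.quotientToInvariants P) :=
    { toFun := fun c => ⟨rfun c, hrcoc c⟩
      map_add' := fun c d => by
        apply Subtype.ext
        funext q
        apply Subtype.ext
        exact hc'add c d q.out
      map_smul' := fun t c => by
        apply Subtype.ext
        funext q
        apply Subtype.ext
        exact hc'smul t c q.out }
  refine ⟨ModuleCat.ofHom rLin, ?_⟩
  apply ModuleCat.hom_ext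
  apply LinearMap.ext
  intro x
  apply Subtype.ext
  funext q
  apply Subtype.ext
  set c : groupCohomology.cocycles₁ A := (groupCohomology.mapCocycles₁ (QuotientGroup.mk' P)
    (Rep.ofHom (A.ρ.quotientToInvariants_lift P))) x with hcdef
  have hcval : ∀ g : G, c g = (x (g : G ⧸ P)).1 := fun g => rfl
  have hb : bL c = 0 := by
    show e.symm (∑ q : P, c q) = 0
    have : ∀ q : P, c q = 0 := by
      intro q
      rw [hcval]
      have : ((q : G) : G ⧸ P) = 1 := (QuotientGroup.eq_one_iff _).2 q.2
      rw [this, groupCohomology.cocycles₁_map_one]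
      rfl
    simp [this]
  show c' c q.out = (x q).1
  show c q.out + A.ρ q.out (bL c) - bL c = _
  rw [hb, map_zero, add_zero, sub_zero, hcval]
  simp

end Groth.Agent.S14181
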