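import Groth.Statements.S14182
import Mathlib
import Groth.Agent.Lib.Helper10.CurveBr12

set_option autoImplicit false
universe u
open CategoryTheory AlgebraicGeometry
open LocSym

namespace Groth.Agent.S14182

set_option linter.style.haveILetI false
set_option linter.unusedSectionVars false

open Groth.Agent.Lib.Helper10.CurveBr W4c1etcurveeff2

theorem main
    (k : Type u) [Field k] [IsAlgClosed k] (X : Scheme.{u}) [IsIntegral X]
    (c : X ⟶ Spec (CommRingCat.of k)) [IsProper c] [Smooth c] (hdim : topologicalKrullDim X = 1)
    (m : LocSym.Pt c →₀ ℕ) (hm : ∀ x : LocSym.Pt c, m x ≤ 1) :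
    Function.Surjective (picModToPic c m) ∧
    (∀ y : PicMod c m, picModToPic c m y = 0 ↔
      ∃ (g : X.functionField) (D : divAway c m) (v : LocSym.Pt c → kˣ),
        IsDivOf c (D : LocSym.Pt c →₀ ℤ) g ∧ (∀ x ∈ m.support, LocSym.HasValueAt x g (v x : k)) ∧
        y = (QuotientAddGroup.mk D : PicMod c m)) ∧
    (∀ v : LocSym.Pt c → kˣ, ∃ (g : X.functionField) (D : divAway c m),
        IsDivOf c (D : LocSym.Pt c →₀ ℤ) g ∧ (∀ x ∈ m.support, LocSym.HasValueAt x g (v x : k)) ∧
        ((QuotientAddGroup.mk D : PicMod c m) = 0 ↔ ∃ a : kˣ, ∀ x ∈ m.support, v x = a)) := by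
  classical
  have hm1 : ∀ x ∈ m.support, m x = 1 := by
    intro x hx
    have h1 := Finsupp.mem_support_iff.mp hx
    have h2 := hm x
    omega
  refine ⟨picModToPic_surjective c hdim m, ?_, ?_⟩
  · intro y
    constructor
    · intro hy
      obtain ⟨D, rfl⟩ := QuotientAddGroup.mk_surjective y
      rw [picModToPic_mk c hdim, QuotientAddGroup.eq_zero_iff, mem_principal_iff c hdim] at hy
      obtain ⟨g, hg⟩ := hy
      have hg' := (isDivOf_iff c hdim).mp hg
      have hex : ∀ x : LocSym.Pt c, ∃ a : kˣ, x ∈ m.support → HasValueAt x g (a : k) := by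
        intro x
        by_cases hx : x ∈ m.support
        · have hord : x.ord g = 0 := by
            rw [← divOf_apply c hdim g, ← hg'.2]
            exact D.2 x hx
          obtain ⟨a, ha⟩ := exists_value_unit c hdim x hg'.1 hord
          exact ⟨a, fun _ => ha⟩
        · exact ⟨1, fun h => absurd h hx⟩
      choose v hv using hex
      exact ⟨g, D, v, hg, fun x hx => hv x hx, rfl⟩
    · rintro ⟨g, D, v, hg, -, rfl⟩
      rw [picModToPic_mk c hdim, QuotientAddGroup.eq_zero_iff, mem_principal_iff c hdim]
      exact ⟨g, hg⟩
  · intro v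
    obtain ⟨g, hg0, hg⟩ := exists_hasValueAt c hdim m.support v
    refine ⟨g, ⟨divOf c hdim g, divOf_mem_divAway c hdim hg⟩, isDivOf_divOf c hdim hg0, hg, ?_⟩
    exact mk_eq_zero_iff_of_values c hdim hm1 hg0 hg _ rfl



open W4c1etcurveeff2 in
/-- Let k be an algebraically closed field and X a smooth proper integral curve over k (structure
morphism c, dimension one); divisors are finitely supported integer-valued functions on the k-points
and ord_x is the valuation at x. Let m be a reduced modulus (every multiplicity at most 1) with
support S, Pic the group of divisors modulo divisors of nonzero rational functions, and Pic_m the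
group of divisors vanishing on S modulo divisors of nonzero rational functions congruent to 1 modulo
m. Then: the natural map Pic_m → Pic is surjective; a class of Pic_m maps to zero exactly when it is
the class of the divisor of a nonzero rational function having a nonzero value at every point of S;
and for every family of nonzero scalars (v_x) there is a nonzero rational function g with value v_x
at each x ∈ S, the class of whose divisor in Pic_m vanishes exactly when the v_x for x ∈ S are all
equal. (So the kernel is (kˣ)^S modulo the diagonal kˣ, the short exact sequence 0 → (kˣ)^S/kˣ →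
Pic_m → Pic → 0; the same then holds for the degree-zero parts.) -/
theorem result
    (k : Type u) [Field k] [IsAlgClosed k] (X : Scheme.{u}) [IsIntegral X]
    (c : X ⟶ Spec (CommRingCat.of k)) [IsProper c] [Smooth c] (hdim : topologicalKrullDim X = 1)
    (m : LocSym.Pt c →₀ ℕ) (hm : ∀ x : LocSym.Pt c, m x ≤ 1) :
    Function.Surjective (picModToPic c m) ∧
    (∀ y : PicMod c m, picModToPic c m y = 0 ↔
      ∃ (g : X.functionField) (D : divAway c m) (v : LocSym.Pt c → kˣ),
        IsDivOf c (D : LocSym.Pt c →₀ ℤ) g ∧ (∀ x ∈ m.support, LocSym.HasValueAt x g (v x : k)) ∧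
        y = (QuotientAddGroup.mk D : PicMod c m)) ∧
    (∀ v : LocSym.Pt c → kˣ, ∃ (g : X.functionField) (D : divAway c m),
        IsDivOf c (D : LocSym.Pt c →₀ ℤ) g ∧ (∀ x ∈ m.support, LocSym.HasValueAt x g (v x : k)) ∧
        ((QuotientAddGroup.mk D : PicMod c m) = 0 ↔ ∃ a : kˣ, ∀ x ∈ m.support, v x = a)) := by
  exact main k X c hdim m hm

end Groth.Agent.S14182
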