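import Groth.Statements.S14183
import Mathlib
import Groth.Agent.Lib.Helper10.CurveBr14

set_option autoImplicit false
universe u
open CategoryTheory AlgebraicGeometry
open LocSym

namespace Groth.Agent.S14183

set_option linter.style.haveILetI false
set_option linter.unusedSectionVars false

open Groth.Agent.Lib.Helper10.CurveBr W4c1etcurveeff2

theorem divOf_pow {k : Type u} [Field k] [IsAlgClosed k] {X : Scheme.{u}} [IsIntegral X]
    (c : X ⟶ Spec (CommRingCat.of k)) [IsProper c] [Smooth c] (hdim : topologicalKrullDim X = 1)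
    (h : X.functionField) (n : ℕ) : divOf c hdim (h ^ n) = n • divOf c hdim h := by
  ext x
  rw [Finsupp.smul_apply, divOf_apply, divOf_apply, ord_pow c hdim, nsmul_eq_mul]

theorem main
    (k : Type u) [Field k] [IsAlgClosed k] (X : Scheme.{u}) [IsIntegral X]
    (c : X ⟶ Spec (CommRingCat.of k)) [IsProper c] [Smooth c] (hdim : topologicalKrullDim X = 1)
    (m : LocSym.Pt c →₀ ℕ) (hm : ∀ x : LocSym.Pt c, m x ≤ 1)
    (s : ℕ) (hs : m.support.card = s) (n : ℕ) (hn : 1 ≤ n) (hnk : (n : k) ≠ 0) :
    (∀ y : Pic c, n • y = 0 → ∃ x : PicMod c m, n • x = 0 ∧ picModToPic c m x = y) ∧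
    Nat.card {x : PicMod c m // n • x = 0 ∧ picModToPic c m x = 0} = n ^ (s - 1) := by
  classical
  have hm1 : ∀ x ∈ m.support, m x = 1 := by
    intro x hx
    have h1 := Finsupp.mem_support_iff.mp hx
    have h2 := hm x
    omega
  refine ⟨?_, ?_⟩
  · intro y hy
    obtain ⟨x₁, rfl⟩ := picModToPic_surjective c hdim m y
    obtain ⟨D, rfl⟩ := QuotientAddGroup.mk_surjective x₁
    rw [picModToPic_mk c hdim, ← QuotientAddGroup.mk_nsmul, QuotientAddGroup.eq_zero_iff,
      mem_principal_iff c hdim] at hy
    obtain ⟨g, hg⟩ := hy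
    have hg' := (isDivOf_iff c hdim).mp hg
    have hex : ∀ x : LocSym.Pt c, ∃ a : kˣ, x ∈ m.support → HasValueAt x g (a : k) := by
      intro x
      by_cases hx : x ∈ m.support
      · have hord : x.ord g = 0 := by
          rw [← divOf_apply c hdim g, ← hg'.2, Finsupp.smul_apply, D.2 x hx, smul_zero]
        obtain ⟨a, ha⟩ := exists_value_unit c hdim x hg'.1 hord
        exact ⟨a, fun _ => ha⟩
      · exact ⟨1, fun h => absurd h hx⟩
    choose v hv using hex
    have hroot : ∀ x : LocSym.Pt c, ∃ b : kˣ, b ^ n = (v x)⁻¹ :=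
      fun x => exists_unit_pow_eq (v x)⁻¹ (by omega)
    choose w hw using hroot
    obtain ⟨h, hh0, hh⟩ := exists_hasValueAt c hdim m.support w
    have hmem : divOf c hdim h ∈ divAway c m := divOf_mem_divAway c hdim hh
    refine ⟨QuotientAddGroup.mk (D + ⟨divOf c hdim h, hmem⟩), ?_, ?_⟩
    · rw [← QuotientAddGroup.mk_nsmul, QuotientAddGroup.eq_zero_iff, mem_principalMod_iff c hdim]
      refine ⟨g * h ^ n, (isDivOf_iff c hdim).mpr ⟨mul_ne_zero hg'.1 (pow_ne_zero n hh0), ?_⟩, ?_⟩
      · rw [divOf_mul c hdim hg'.1 (pow_ne_zero n hh0), divOf_pow c hdim, ← hg'.2]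
        show ((n • (D + ⟨divOf c hdim h, hmem⟩) : divAway c m) : LocSym.Pt c →₀ ℤ) = _
        rw [AddSubgroup.coe_nsmul, AddSubgroup.coe_add, smul_add]
      · intro x hx
        rw [cong1At_iff_hasValueAt c hdim (hm1 x hx)]
        have h1 := hasValueAt_mul c hdim (hv x hx) (hasValueAt_pow c hdim (hh x hx) n)
        have e : ((v x : kˣ) : k) * ((w x : kˣ) : k) ^ n = 1 := by
          rw [← Units.val_pow_eq_pow_val, hw x, ← Units.val_mul, mul_inv_cancel, Units.val_one]
        rwa [e] at h1
    · rw [picModToPic_mk c hdim, picModToPic_mk c hdim, QuotientAddGroup.eq,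
        mem_principal_iff c hdim]
      refine ⟨h⁻¹, (isDivOf_iff c hdim).mpr ⟨inv_ne_zero hh0, ?_⟩⟩
      rw [divOf_inv c hdim, AddSubgroup.coe_add]
      show -((D : LocSym.Pt c →₀ ℤ) + divOf c hdim h) + (D : LocSym.Pt c →₀ ℤ) = _
      abel
  · rw [← hs]
    exact card_torsion_ker c hdim m hm1 hn hnk



open W4c1etcurveeff2 in
/-- Let k be an algebraically closed field, X a smooth proper integral curve over k (structure morphism
c, dimension one), m a reduced modulus (every multiplicity at most 1) whose support S has s points,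
and n ≥ 1 an integer invertible in k. Let Pic be the group of divisors on k-points modulo divisors
of nonzero rational functions and Pic_m the group of divisors vanishing on S modulo divisors of
nonzero rational functions congruent to 1 modulo m. Then every n-torsion class of Pic is the image
of an n-torsion class of Pic_m, and the n-torsion classes of Pic_m that map to zero in Pic are
exactly n^(s−1) in number (they form μ_n(k)^S modulo the diagonal μ_n(k)): the short exact sequence
0 → μ_n^S/μ_n → Pic_m[n] → Pic[n] → 0. (The published statement is for the degree-zero parts;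
n-torsion classes have degree zero, so this is the same sequence. For s = 0 the two groups coincide
and the count is 1.) -/
theorem result
    (k : Type u) [Field k] [IsAlgClosed k] (X : Scheme.{u}) [IsIntegral X]
    (c : X ⟶ Spec (CommRingCat.of k)) [IsProper c] [Smooth c] (hdim : topologicalKrullDim X = 1)
    (m : LocSym.Pt c →₀ ℕ) (hm : ∀ x : LocSym.Pt c, m x ≤ 1)
    (s : ℕ) (hs : m.support.card = s) (n : ℕ) (hn : 1 ≤ n) (hnk : (n : k) ≠ 0) :
    (∀ y : Pic c, n • y = 0 → ∃ x : PicMod c m, n • x = 0 ∧ picModToPic c m x = y) ∧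
    Nat.card {x : PicMod c m // n • x = 0 ∧ picModToPic c m x = 0} = n ^ (s - 1) := by
  exact main k X c hdim m hm s hs n hn hnk

end Groth.Agent.S14183
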