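import Groth.Statements.S14184
import Mathlib
import Groth.Agent.Lib.Helper10.CurveBr15

set_option autoImplicit false
universe u
open CategoryTheory AlgebraicGeometry
open LocSym

namespace Groth.Agent.S14184

set_option linter.style.haveILetI false
set_option linter.unusedSectionVars false

open Groth.Agent.Lib.Helper10.CurveBr

theorem main
    (k : Type u) [Field k] [IsAlgClosed k] (X : Scheme.{u}) [IsIntegral X]
    (c : X ⟶ Spec (CommRingCat.of k)) [IsProper c] [Smooth c] (hdim : topologicalKrullDim X = 1)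
    (n : ℕ) (hn : 1 ≤ n) (Z : Finset (LocSym.Pt c))
    (f₁ f₂ : X.functionField) (hf₁ : f₁ ≠ 0) (hf₂ : f₂ ≠ 0)
    (D₁ D₁' D₂ : LocSym.Pt c →₀ ℤ)
    (hD₁ : ∀ x : LocSym.Pt c, (n : ℤ) * D₁ x = x.ord f₁ + D₁' x) (hD₁' : D₁'.support ⊆ Z)
    (hD₂ : ∀ x : LocSym.Pt c, (n : ℤ) * D₂ x = x.ord f₂)
    (hf₂Z : ∀ x ∈ Z, LocSym.HasValueAt x f₂ 1)
    (hdisj : ∀ x : LocSym.Pt c, x.ord f₁ = 0 ∨ D₂ x = 0)
    (v₁ v₂ : LocSym.Pt c → kˣ)
    (hv₁ : ∀ x ∈ D₂.support, LocSym.HasValueAt x f₁ (v₁ x : k))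
    (hv₂ : ∀ x ∈ D₁.support, LocSym.HasValueAt x f₂ (v₂ x : k)) :
    ((D₂.prod fun x e => v₁ x ^ e) / (D₁.prod fun x e => v₂ x ^ e)) ^ n = 1 := by
  classical
  have hn0 : (n : ℤ) ≠ 0 := by exact_mod_cast (by omega : n ≠ 0)
  -- value functions
  have hex : ∀ (f : X.functionField), f ≠ 0 → ∀ x : LocSym.Pt c, ∃ a : kˣ,
      x.ord f = 0 → HasValueAt x f (a : k) := by
    intro f hf x
    by_cases h0 : x.ord f = 0
    · obtain ⟨a, ha⟩ := exists_value_unit c hdim x hf h0
      exact ⟨a, fun _ => ha⟩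
    · exact ⟨1, fun h => absurd h h0⟩
  choose w₁ hw₁ using hex f₁ hf₁
  choose w₂ hw₂ using hex f₂ hf₂
  have hdisj' : ∀ x : LocSym.Pt c, x.ord f₁ = 0 ∨ x.ord f₂ = 0 := by
    intro x
    rcases hdisj x with h | h
    · exact Or.inl h
    · right
      rw [← hD₂ x, h, mul_zero]
  have hW := weil_curve c hdim hf₁ hf₂ hdisj' w₁ w₂ hw₁ hw₂
  -- identification of the values
  have e1 : ∀ x ∈ D₂.support, w₁ x = v₁ x := by
    intro x hx
    have h0 : x.ord f₁ = 0 := (hdisj x).resolve_right (Finsupp.mem_support_iff.mp hx)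
    exact Units.ext (hasValueAt_unique c hdim (hw₁ x h0) (hv₁ x hx))
  have e2 : ∀ x ∈ D₁.support, w₂ x = v₂ x := by
    intro x hx
    have h0 : x.ord f₂ = 0 := ord_eq_zero_of_hasValueAt c hdim (hv₂ x hx) (v₂ x).ne_zero
    exact Units.ext (hasValueAt_unique c hdim (hw₂ x h0) (hv₂ x hx))
  have e3 : ∀ x ∈ D₁'.support, w₂ x = 1 := by
    intro x hx
    have hZ := hf₂Z x (hD₁' hx)
    have h0 : x.ord f₂ = 0 := ord_eq_zero_of_hasValueAt c hdim hZ one_ne_zero
    exact Units.ext (hasValueAt_unique c hdim (hw₂ x h0) hZ)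
  -- the left side
  have hL : ∏ᶠ x : LocSym.Pt c, w₁ x ^ x.ord f₂ = (D₂.prod fun x e => v₁ x ^ e) ^ n := by
    rw [finprod_eq_prod_of_mulSupport_subset _ (s := D₂.support)]
    · unfold Finsupp.prod
      rw [← Finset.prod_pow]
      refine Finset.prod_congr rfl fun x hx => ?_
      rw [e1 x hx, ← hD₂ x, ← zpow_natCast, ← zpow_mul, mul_comm]
    · intro x hx
      rw [Function.mem_mulSupport] at hx
      rw [Finset.mem_coe, Finsupp.mem_support_iff]
      intro h0
      apply hx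
      rw [← hD₂ x, h0, mul_zero, zpow_zero]
  -- the right side
  have hR : ∏ᶠ x : LocSym.Pt c, w₂ x ^ x.ord f₁ = (D₁.prod fun x e => v₂ x ^ e) ^ n := by
    rw [finprod_eq_prod_of_mulSupport_subset _ (s := D₁.support ∪ D₁'.support)]
    · have h1 : ∀ x ∈ D₁.support ∪ D₁'.support,
          w₂ x ^ x.ord f₁ = w₂ x ^ ((n : ℤ) * D₁ x) := by
        intro x _
        by_cases hx' : x ∈ D₁'.support
        · rw [e3 x hx', one_zpow, one_zpow]
        · have : D₁' x = 0 := Finsupp.notMem_support_iff.mp hx'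
          rw [hD₁ x, this, add_zero]
      rw [Finset.prod_congr rfl h1]
      unfold Finsupp.prod
      rw [← Finset.prod_pow]
      rw [← Finset.prod_subset (Finset.subset_union_left (s₁ := D₁.support) (s₂ := D₁'.support))]
      · refine Finset.prod_congr rfl fun x hx => ?_
        rw [e2 x hx, ← zpow_natCast, ← zpow_mul, mul_comm]
      · intro x _ hx
        rw [Finsupp.notMem_support_iff.mp hx, mul_zero, zpow_zero]
    · intro x hx
      rw [Function.mem_mulSupport] at hx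
      rw [Finset.coe_union, Set.mem_union, Finset.mem_coe, Finset.mem_coe,
        Finsupp.mem_support_iff, Finsupp.mem_support_iff]
      by_contra hcon
      rw [not_or, not_not, not_not] at hcon
      apply hx
      have := hD₁ x
      rw [hcon.1, hcon.2, mul_zero, add_zero] at this
      rw [← this, zpow_zero]
  rw [div_pow, ← hL, ← hR, hW, div_self']



/-- Let k be an algebraically closed field and X a smooth proper integral curve over k (structure
morphism c, dimension one); points are k-points and ord_x is the valuation at x. Let n ≥ 1, let Z be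
a finite set of points, let f₁, f₂ be nonzero rational functions and D₁, D₁′, D₂ divisors (finitely
supported integer-valued functions on points) with n·D₁ = div(f₁) + D₁′, D₁′ supported on Z, n·D₂ =
div(f₂), f₂ taking the value 1 at every point of Z, and div(f₁) and D₂ with disjoint supports. Let
v₁(x) ∈ kˣ be the value of f₁ at each point of the support of D₂ and v₂(x) ∈ kˣ the value of f₂ at
each point of the support of D₁. Then the quotient of ∏_x v₁(x)^{D₂(x)} by ∏_x v₂(x)^{D₁(x)} is an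
n-th root of unity: its n-th power is 1. (This quotient f₁(D₂)/f₂(D₁) is the generalised Weil
pairing of the classes of (D₁, D₁′, f₁) and D₂; the published statement also normalises f₁, f₂ at a
base point, which is not needed for this assertion.) -/
theorem result
    (k : Type u) [Field k] [IsAlgClosed k] (X : Scheme.{u}) [IsIntegral X]
    (c : X ⟶ Spec (CommRingCat.of k)) [IsProper c] [Smooth c] (hdim : topologicalKrullDim X = 1)
    (n : ℕ) (hn : 1 ≤ n) (Z : Finset (LocSym.Pt c))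
    (f₁ f₂ : X.functionField) (hf₁ : f₁ ≠ 0) (hf₂ : f₂ ≠ 0)
    (D₁ D₁' D₂ : LocSym.Pt c →₀ ℤ)
    (hD₁ : ∀ x : LocSym.Pt c, (n : ℤ) * D₁ x = x.ord f₁ + D₁' x) (hD₁' : D₁'.support ⊆ Z)
    (hD₂ : ∀ x : LocSym.Pt c, (n : ℤ) * D₂ x = x.ord f₂)
    (hf₂Z : ∀ x ∈ Z, LocSym.HasValueAt x f₂ 1)
    (hdisj : ∀ x : LocSym.Pt c, x.ord f₁ = 0 ∨ D₂ x = 0)
    (v₁ v₂ : LocSym.Pt c → kˣ)
    (hv₁ : ∀ x ∈ D₂.support, LocSym.HasValueAt x f₁ (v₁ x : k))
    (hv₂ : ∀ x ∈ D₁.support, LocSym.HasValueAt x f₂ (v₂ x : k)) :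
    ((D₂.prod fun x e => v₁ x ^ e) / (D₁.prod fun x e => v₂ x ^ e)) ^ n = 1 := by
  exact main k X c hdim n hn Z f₁ f₂ hf₁ hf₂ D₁ D₁' D₂ hD₁ hD₁' hD₂ hf₂Z hdisj v₁ v₂ hv₁ hv₂

end Groth.Agent.S14184
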