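import Groth.Statements.S14188
import Mathlib.AlgebraicGeometry.Morphisms.SchemeTheoreticallyDominant
import Mathlib.AlgebraicGeometry.IdealSheaf.Functorial
import Mathlib.AlgebraicGeometry.Morphisms.ClosedImmersion
import Mathlib.AlgebraicGeometry.FunctionField
-- import your own Groth.Agent.* helpers here

set_option autoImplicit false
set_option backward.isDefEq.respectTransparency false
universe u
open CategoryTheory CategoryTheory.Limits AlgebraicGeometry
open FlatMor

namespace Groth.Agent.S14188

set_option linter.style.haveILetI false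

lemma dominant_fromSpecStalk_generic (T : Scheme.{u}) [IsIntegral T] :
    IsSchemeTheoreticallyDominant (T.fromSpecStalk (genericPoint T)) := by
  haveI : IsDominant (T.fromSpecStalk (genericPoint T)) := by
    constructor
    rw [DenseRange, dense_iff_closure_eq, Scheme.range_fromSpecStalk]
    have h1 : closure {genericPoint T} ⊆ closure {y | y ⤳ genericPoint T} :=
      closure_mono (Set.singleton_subset_iff.mpr (specializes_rfl))
    rw [(genericPoint_spec T).def] at h1
    exact Set.eq_univ_of_univ_subset h1
  exact IsSchemeTheoreticallyDominant.of_isDominant _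


/-- Let T be an integral scheme with generic point η, let Y and Z be schemes flat over T with Z
separated over T, and let ψ : Y_η → Z be a T-morphism from the generic fibre Y_η = Y ×_T Spec
O_{T,η} (equivalently, an η-morphism Y_η → Z_η). Let gr : Y_η → Y ×_T Z be the graph of ψ, the
morphism whose components are the projection Y_η → Y and ψ, and let Γ ⊆ Y ×_T Z be the
scheme-theoretic image of gr (the schematic closure of the graph). Then ψ extends to a T-morphism φ
: Y → Z, meaning that the composite Y_η → Y → Z is ψ, if and only if the composite of the inclusion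
Γ → Y ×_T Z with the first projection is an isomorphism Γ ≅ Y. -/
theorem result (T Y Z : Scheme.{u}) [IsIntegral T]
    (pY : Y ⟶ T) (pZ : Z ⟶ T) [Flat pY] [Flat pZ] [IsSeparated pZ]
    (ψ : pullback pY (T.fromSpecStalk (genericPoint T)) ⟶ Z)
    (hψ : ψ ≫ pZ = pullback.fst pY (T.fromSpecStalk (genericPoint T)) ≫ pY)
    (gr : pullback pY (T.fromSpecStalk (genericPoint T)) ⟶ pullback pY pZ)
    (hgr₁ : gr ≫ pullback.fst pY pZ = pullback.fst pY (T.fromSpecStalk (genericPoint T)))
    (hgr₂ : gr ≫ pullback.snd pY pZ = ψ) :
    (∃ φ : Y ⟶ Z, φ ≫ pZ = pY ∧ pullback.fst pY (T.fromSpecStalk (genericPoint T)) ≫ φ = ψ) ↔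
      IsIso (gr.imageι ≫ pullback.fst pY pZ) := by
  constructor
  · rintro ⟨φ, hφ, hφψ⟩
    let Γ : Y ⟶ pullback pY pZ := pullback.lift (𝟙 Y) φ (by simp [hφ])
    have hΓ₁ : Γ ≫ pullback.fst pY pZ = 𝟙 Y := by simp [Γ]
    have hΓ₂ : Γ ≫ pullback.snd pY pZ = φ := by simp [Γ]
    haveI : IsClosedImmersion (Γ ≫ pullback.fst pY pZ) := by
      rw [hΓ₁]; infer_instance
    haveI : IsClosedImmersion Γ := IsClosedImmersion.of_comp Γ (pullback.fst pY pZ)
    have hgr : gr = pullback.fst pY (T.fromSpecStalk (genericPoint T)) ≫ Γ := by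
      apply pullback.hom_ext
      · simp [hgr₁, hΓ₁]
      · simp [hgr₂, hΓ₂, hφψ]
    haveI := dominant_fromSpecStalk_generic T
    haveI : QuasiCompact (T.fromSpecStalk (genericPoint T)) := by
      letI : Field (T.presheaf.stalk (genericPoint T)) :=
        inferInstanceAs (Field T.functionField)
      haveI : Subsingleton (Spec (T.presheaf.stalk (genericPoint T))) :=
        inferInstanceAs (Subsingleton (PrimeSpectrum (T.presheaf.stalk (genericPoint T))))
      refine ⟨fun U _ _ => ?_⟩
      exact (Set.subsingleton_of_subsingleton).isCompact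
    haveI : IsSchemeTheoreticallyDominant (pullback.fst pY (T.fromSpecStalk (genericPoint T))) :=
      IsSchemeTheoreticallyDominant.pullbackFst _ _
    have hker : gr.imageι.ker = Γ.ker := by
      rw [Scheme.IdealSheafData.ker_subschemeι, hgr, Scheme.Hom.ker_comp,
        Scheme.Hom.ker_eq_bot, Scheme.IdealSheafData.map_bot]
    haveI := IsClosedImmersion.isIso_lift gr.imageι Γ hker
    have : gr.imageι ≫ pullback.fst pY pZ = inv (IsClosedImmersion.lift gr.imageι Γ hker.le) := by
      rw [← cancel_epi (IsClosedImmersion.lift gr.imageι Γ hker.le)]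
      rw [IsClosedImmersion.lift_fac_assoc, hΓ₁, IsIso.hom_inv_id]
    rw [this]
    infer_instance
  · intro h
    refine ⟨inv (gr.imageι ≫ pullback.fst pY pZ) ≫ gr.imageι ≫ pullback.snd pY pZ, ?_, ?_⟩
    · rw [Category.assoc, Category.assoc, ← pullback.condition, IsIso.inv_comp_eq, Category.assoc]
    · have h1 : gr.toImage = pullback.fst pY (T.fromSpecStalk (genericPoint T)) ≫
          inv (gr.imageι ≫ pullback.fst pY pZ) := by
        rw [IsIso.eq_comp_inv, ← Category.assoc, Scheme.Hom.toImage_imageι, hgr₁]
      rw [← Category.assoc, ← h1, ← Category.assoc, Scheme.Hom.toImage_imageι, hgr₂]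


end Groth.Agent.S14188
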