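import Groth.Statements.S14189
import Groth.Agent.S14188
import Mathlib.AlgebraicGeometry.Sites.Fpqc
-- import your own Groth.Agent.* helpers here

set_option autoImplicit false
set_option backward.isDefEq.respectTransparency false
universe u
open CategoryTheory CategoryTheory.Limits AlgebraicGeometry
open FlatMor

namespace Groth.Agent.S14189

set_option linter.style.haveILetI false

lemma ext_of_schDominant_of_isSeparated {W X Y Z : Scheme.{u}} {f g : X ⟶ Y}
    (s : Y ⟶ Z) [IsSeparated s] (h : f ≫ s = g ≫ s)
    (ι : W ⟶ X) [IsSchemeTheoreticallyDominant ι] (hU : ι ≫ f = ι ≫ g) : f = g := by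
  let X' : Over Z := Over.mk (f ≫ s)
  let Y' : Over Z := Over.mk s
  let U' : Over Z := Over.mk (ι ≫ f ≫ s)
  let f' : X' ⟶ Y' := Over.homMk f
  let g' : X' ⟶ Y' := Over.homMk g
  let ι' : U' ⟶ X' := Over.homMk ι
  have : IsSeparated Y'.hom := ‹_›
  have hc : ι' ≫ f' = ι' ≫ g' := by ext1; exact hU
  have hfac : (equalizer.lift ι' hc).left ≫ (equalizer.ι f' g').left = ι := by
    rw [← Over.comp_left, equalizer.lift_ι]; rfl
  have hk : (equalizer.ι f' g').left.ker = ⊥ := by
    apply le_bot_iff.mp
    have := Scheme.Hom.le_ker_comp (equalizer.lift ι' hc).left (equalizer.ι f' g').left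
    rw [hfac, ι.ker_eq_bot] at this
    exact this
  have : IsIso (equalizer.ι f' g').left := IsClosedImmersion.isIso_iff_ker_eq_bot.mpr hk
  rw [← cancel_epi (equalizer.ι f' g').left]
  exact congr($(equalizer.condition f' g').left)

lemma descend_aux {T Y Z T' E : Scheme.{u}}
    (pY : Y ⟶ T) (pZ : Z ⟶ T) [Flat pY] [IsSeparated pZ]
    (η : E ⟶ T) [IsSchemeTheoreticallyDominant η] [QuasiCompact η]
    (ψ : pullback pY η ⟶ Z)
    (g : T' ⟶ T) [Flat g] [Surjective g] [QuasiCompact g]
    (a : pullback pY g ⟶ Z) (haZ : a ≫ pZ = pullback.fst pY g ≫ pY)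
    (hagree : pullback.fst (pullback.fst pY g) (pullback.fst pY η) ≫ a =
      pullback.snd (pullback.fst pY g) (pullback.fst pY η) ≫ ψ) :
    ∃ φ : Y ⟶ Z, φ ≫ pZ = pY ∧ pullback.fst pY η ≫ φ = ψ := by
  obtain ⟨π, hπ⟩ : ∃ π, π = pullback.fst pY g := ⟨_, rfl⟩
  obtain ⟨j, hj⟩ : ∃ j, j = pullback.fst pY η := ⟨_, rfl⟩
  rw [← hπ] at haZ
  rw [← hπ, ← hj] at hagree
  rw [← hj]
  haveI : Flat π := by rw [hπ]; infer_instance
  haveI : Surjective π := by rw [hπ]; infer_instance
  haveI : QuasiCompact π := by rw [hπ]; infer_instance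
  -- the key equality on Y'' = Y' ×_Y Y'
  have key : pullback.fst π π ≫ a = pullback.snd π π ≫ a := by
    obtain ⟨q, hq⟩ : ∃ q : pullback π π ⟶ T, q = pullback.fst π π ≫ π ≫ pY := ⟨_, rfl⟩
    haveI : Flat q := by rw [hq]; infer_instance
    haveI : IsSchemeTheoreticallyDominant (pullback.fst q η) :=
      IsSchemeTheoreticallyDominant.pullbackFst _ _
    refine ext_of_schDominant_of_isSeparated pZ ?_ (pullback.fst q η) ?_
    · rw [Category.assoc, Category.assoc, haZ, pullback.condition_assoc]
    · -- both sides equal k ≫ ψ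
      let k : pullback q η ⟶ pullback pY η :=
        pullback.lift (pullback.fst q η ≫ pullback.fst π π ≫ π) (pullback.snd q η)
          (by rw [Category.assoc, Category.assoc, ← hq, pullback.condition])
      have hk : k ≫ j = pullback.fst q η ≫ pullback.fst π π ≫ π := by
        rw [hj]; simp [k]
      let m₁ : pullback q η ⟶ pullback π j :=
        pullback.lift (pullback.fst q η ≫ pullback.fst π π) k (by rw [hk, Category.assoc])
      let m₂ : pullback q η ⟶ pullback π j :=
        pullback.lift (pullback.fst q η ≫ pullback.snd π π) k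
          (by rw [hk, Category.assoc, pullback.condition])
      have e₁ : pullback.fst q η ≫ pullback.fst π π ≫ a = k ≫ ψ := by
        have : m₁ ≫ pullback.fst π j ≫ a = m₁ ≫ pullback.snd π j ≫ ψ := by rw [hagree]
        simpa [m₁] using this
      have e₂ : pullback.fst q η ≫ pullback.snd π π ≫ a = k ≫ ψ := by
        have : m₂ ≫ pullback.fst π j ≫ a = m₂ ≫ pullback.snd π j ≫ ψ := by rw [hagree]
        simpa [m₂] using this
      rw [e₁, e₂]
  haveI : EffectiveEpi π := inferInstance
  have hdesc : ∀ {W : Scheme.{u}} (g₁ g₂ : W ⟶ pullback pY g), g₁ ≫ π = g₂ ≫ π →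
      g₁ ≫ a = g₂ ≫ a := by
    intro W g₁ g₂ h12
    have h1 : g₁ = pullback.lift g₁ g₂ h12 ≫ pullback.fst π π := by simp
    have h2 : g₂ = pullback.lift g₁ g₂ h12 ≫ pullback.snd π π := by simp
    rw [h1, Category.assoc, key, ← Category.assoc, ← h2]
  refine ⟨EffectiveEpi.desc π a hdesc, ?_, ?_⟩
  · rw [← cancel_epi π, ← Category.assoc, EffectiveEpi.fac, haZ]
  · haveI : EffectiveEpi (pullback.snd π j) := inferInstance
    rw [← cancel_epi (pullback.snd π j), ← hagree, ← pullback.condition_assoc, EffectiveEpi.fac]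


/-- Let T be an integral scheme with generic point η, let Y and Z be schemes flat over T with Z
separated over T, and let ψ : Y_η → Z be a T-morphism from the generic fibre Y_η = Y ×_T Spec
O_{T,η}. Let g : T' → T be flat, surjective and quasi-compact, and let φ' : Y_{T'} → Z_{T'} be a
T'-morphism which agrees with ψ over T' ×_T η, in the sense that on Y_{T'} ×_Y Y_η = Y ×_T T' ×_T
Spec O_{T,η} the composite of the first projection with φ' and with Z_{T'} → Z equals the composite
of the second projection with ψ. Then ψ extends to a T-morphism φ : Y → Z, one whose composite with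
Y_η → Y is ψ. (The published statement is an equivalence and also records that an extension, when it
exists, is unique; the converse direction, that an extension over T base-changes to such a φ' over
any such T', is immediate, and this row states the existence direction only.) -/
theorem result (T Y Z T' : Scheme.{u}) [IsIntegral T]
    (pY : Y ⟶ T) (pZ : Z ⟶ T) [Flat pY] [Flat pZ] [IsSeparated pZ]
    (ψ : pullback pY (T.fromSpecStalk (genericPoint T)) ⟶ Z)
    (hψ : ψ ≫ pZ = pullback.fst pY (T.fromSpecStalk (genericPoint T)) ≫ pY)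
    (g : T' ⟶ T) [Flat g] [Surjective g] [QuasiCompact g]
    (φ' : pullback pY g ⟶ pullback pZ g) (hφ' : φ' ≫ pullback.snd pZ g = pullback.snd pY g)
    (hagree : pullback.fst (pullback.fst pY g) (pullback.fst pY (T.fromSpecStalk (genericPoint T))) ≫ φ' ≫ pullback.fst pZ g =
      pullback.snd (pullback.fst pY g) (pullback.fst pY (T.fromSpecStalk (genericPoint T))) ≫ ψ) :
    ∃ φ : Y ⟶ Z, φ ≫ pZ = pY ∧ pullback.fst pY (T.fromSpecStalk (genericPoint T)) ≫ φ = ψ := by
  haveI : IsSchemeTheoreticallyDominant (T.fromSpecStalk (genericPoint T)) :=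
    Groth.Agent.S14188.dominant_fromSpecStalk_generic T
  haveI : QuasiCompact (T.fromSpecStalk (genericPoint T)) := by
    letI : Field (T.presheaf.stalk (genericPoint T)) :=
      inferInstanceAs (Field T.functionField)
    haveI : Subsingleton (Spec (T.presheaf.stalk (genericPoint T))) :=
      inferInstanceAs (Subsingleton (PrimeSpectrum (T.presheaf.stalk (genericPoint T))))
    refine ⟨fun U _ _ => ?_⟩
    exact (Set.subsingleton_of_subsingleton).isCompact
  refine descend_aux pY pZ (T.fromSpecStalk (genericPoint T)) ψ g (φ' ≫ pullback.fst pZ g) ?_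
    hagree
  rw [Category.assoc, pullback.condition, ← Category.assoc, hφ', ← pullback.condition]


end Groth.Agent.S14189
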