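import Groth.Statements.S14192
import Mathlib

set_option autoImplicit false
open PowerSeries
open StackCount

namespace Groth.Agent.S14192

section aux
open PowerSeries


theorem ode_unique {l u w : ℚ⟦X⟧} (hu : d⁄dX ℚ u = l * u) (hw : d⁄dX ℚ w = l * w)
    (hc : constantCoeff u = constantCoeff w) : u = w := by
  suffices h : ∀ z : ℚ⟦X⟧, d⁄dX ℚ z = l * z → constantCoeff z = 0 → z = 0 by
    have := h (u - w) (by rw [map_sub, hu, hw, mul_sub]) (by rw [map_sub, hc, sub_self])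
    exact sub_eq_zero.mp this
  intro z hz hz0
  ext n
  induction n using Nat.strong_induction_on with
  | _ n ih =>
    cases n with
    | zero => simpa using hz0
    | succ n =>
      have h1 := congrArg (coeff n) hz
      rw [coeff_derivative, coeff_mul] at h1
      have h2 : ∑ p ∈ Finset.HasAntidiagonal.antidiagonal n, coeff p.1 l * coeff p.2 z = 0 := by
        refine Finset.sum_eq_zero fun p hp => ?_
        have : p.2 < n + 1 := by
          have := Finset.HasAntidiagonal.mem_antidiagonal.mp hp; omega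
        rw [ih p.2 this]; simp
      rw [h2] at h1
      have hne : (n : ℚ) + 1 ≠ 0 := by positivity
      simpa using (mul_eq_zero.mp h1).resolve_right hne

theorem ld_mul {u w l m : ℚ⟦X⟧} (hu : d⁄dX ℚ u = l * u) (hw : d⁄dX ℚ w = m * w) :
    d⁄dX ℚ (u * w) = (l + m) * (u * w) := by
  rw [Derivation.leibniz, hu, hw]; simp only [smul_eq_mul]; ring

theorem ld_one : d⁄dX ℚ (1 : ℚ⟦X⟧) = 0 * 1 := by simp

theorem ld_pow {u l : ℚ⟦X⟧} (hu : d⁄dX ℚ u = l * u) (k : ℕ) :
    d⁄dX ℚ (u ^ k) = ((k : ℚ⟦X⟧) * l) * u ^ k := by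
  induction k with
  | zero => simp
  | succ k ih =>
    rw [pow_succ, ld_mul ih hu]; push_cast; ring

theorem ld_prod {ι : Type*} (s : Finset ι) (u l : ι → ℚ⟦X⟧)
    (h : ∀ i ∈ s, d⁄dX ℚ (u i) = l i * u i) :
    d⁄dX ℚ (∏ i ∈ s, u i) = (∑ i ∈ s, l i) * ∏ i ∈ s, u i := by
  classical
  induction s using Finset.induction_on with
  | empty => simp
  | insert a s ha ih =>
    rw [Finset.prod_insert ha, Finset.sum_insert ha]
    exact ld_mul (h a (Finset.mem_insert_self a s))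
      (ih fun i hi => h i (Finset.mem_insert_of_mem hi))

theorem geo_mul (a : ℚ) : (1 - C a * X) * (mk fun v => a ^ v : ℚ⟦X⟧) = 1 := by
  have h := congrArg (rescale a) (mk_one_mul_one_sub_eq_one ℚ)
  rw [map_mul, map_sub, map_one, rescale_X, rescale_mk] at h
  rw [mul_comm]
  convert h using 3
  simp

theorem ld_lin (a : ℚ) :
    d⁄dX ℚ (1 - C a * X : ℚ⟦X⟧) = (-(C a * mk fun v => a ^ v)) * (1 - C a * X) := by
  have h1 : d⁄dX ℚ (1 - C a * X : ℚ⟦X⟧) = - C a := by
    rw [map_sub, Derivation.leibniz]; simp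
  rw [h1, neg_mul, mul_assoc, mul_comm (mk _), geo_mul, mul_one]

theorem cc_exp_subst {g : ℚ⟦X⟧} (hg : constantCoeff g = 0) :
    constantCoeff ((exp ℚ).subst g) = 1 := by
  have hs : HasSubst g := HasSubst.of_constantCoeff_zero' hg
  have := constantCoeff_subst hs (exp ℚ)
  rw [constantCoeff_eq] at *
  rw [this, finsum_eq_single _ 0]
  · simp
  · intro d hd
    rw [map_pow]
    have : MvPowerSeries.constantCoeff g = 0 := hg
    rw [this, zero_pow hd, smul_zero]

theorem ld_exp {g : ℚ⟦X⟧} (hg : constantCoeff g = 0) :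
    d⁄dX ℚ ((exp ℚ).subst g) = d⁄dX ℚ g * (exp ℚ).subst g := by
  have hs : HasSubst g := HasSubst.of_constantCoeff_zero' hg
  rw [derivative_subst hs, derivative_exp, mul_comm]

theorem main {ι : Type*} (s : Finset ι) (r : ι → ℤ) (a : ι → ℚ) :
    (exp ℚ).subst (mk fun v : ℕ => if v = 0 then (0 : ℚ)
          else (∑ n ∈ s, (r n : ℚ) * a n ^ v) / (v : ℚ))
      * ∏ n ∈ s, (1 - C (a n) * X) ^ (r n).toNat
    = ∏ n ∈ s, (1 - C (a n) * X) ^ (-(r n)).toNat := by
  set g : ℚ⟦X⟧ := mk fun v : ℕ => if v = 0 then (0 : ℚ)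
          else (∑ n ∈ s, (r n : ℚ) * a n ^ v) / (v : ℚ) with hg
  have hg0 : constantCoeff g = 0 := by
    rw [← coeff_zero_eq_constantCoeff_apply, hg, coeff_mk]; simp
  let L : ι → ℚ⟦X⟧ := fun n => -(C (a n) * mk fun v => a n ^ v)
  have hU := ld_mul (ld_exp hg0) (ld_prod s (fun n => (1 - C (a n) * X) ^ (r n).toNat)
    (fun n => ((r n).toNat : ℚ⟦X⟧) * L n) (fun n _ => ld_pow (ld_lin (a n)) _))
  have hW := ld_prod s (fun n => (1 - C (a n) * X : ℚ⟦X⟧) ^ (-(r n)).toNat)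
    (fun n => (((-(r n)).toNat : ℕ) : ℚ⟦X⟧) * L n) (fun n _ => ld_pow (ld_lin (a n)) _)
  have hl : d⁄dX ℚ g + ∑ n ∈ s, ((r n).toNat : ℚ⟦X⟧) * L n =
      ∑ n ∈ s, (((-(r n)).toNat : ℕ) : ℚ⟦X⟧) * L n := by
    have h1 : d⁄dX ℚ g = ∑ n ∈ s, ((r n : ℤ) : ℚ⟦X⟧) * (- L n) := by
      ext v
      rw [coeff_derivative, hg, coeff_mk, if_neg (Nat.succ_ne_zero v), map_sum]
      have hv : ((v : ℚ) + 1) ≠ 0 := by positivity
      push_cast
      rw [div_mul_cancel₀ _ hv]
      refine Finset.sum_congr rfl fun n _ => ?_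
      simp only [L, neg_neg]
      have : ((r n : ℤ) : ℚ⟦X⟧) = C (r n : ℚ) := by simp
      rw [this, coeff_C_mul, coeff_C_mul, coeff_mk, pow_succ]
      ring
    rw [h1, ← Finset.sum_add_distrib]
    refine Finset.sum_congr rfl fun n _ => ?_
    have h2 : ((r n : ℤ) : ℚ⟦X⟧) = (((r n).toNat : ℕ) : ℚ⟦X⟧) - (((-(r n)).toNat : ℕ) : ℚ⟦X⟧) := by
      have := Int.toNat_sub_toNat_neg (r n)
      have h3 : ((r n : ℤ) : ℚ⟦X⟧) = (((((r n).toNat : ℕ) : ℤ) - (((-(r n)).toNat : ℕ) : ℤ) : ℤ) : ℚ⟦X⟧) := by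
        rw [this]
      rw [h3]; push_cast; ring
    rw [h2]; ring
  rw [hl] at hU
  refine ode_unique hU hW ?_
  rw [map_mul, cc_exp_subst hg0, map_prod, map_prod, one_mul]
  have hcc : ∀ n k, constantCoeff ((1 - C (a n) * X : ℚ⟦X⟧) ^ k) = 1 := by
    intro n k; simp
  simp only [hcc]


end aux


/-- Let R = Σ_n r_n X^n be a Laurent polynomial with integer coefficients and q > 1 an integer. In the
ring of formal power series in t over ℚ, the exponential of Σ_{v ≥ 1} R(q^v) t^v / v equals the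
finite product Π_n (1 - q^n t)^(-r_n). Stated here with denominators cleared: the exponential series
multiplied by Π_{n : r_n > 0} (1 - q^n t)^(r_n) equals Π_{n : r_n < 0} (1 - q^n t)^(-r_n) (each
factor 1 - q^n t is a unit, so this is equivalent). -/
theorem result (R : LaurentPolynomial ℤ) (q : ℤ) (hq : 1 < q) :
    (PowerSeries.exp ℚ).subst
        (PowerSeries.mk fun v : ℕ => if v = 0 then (0 : ℚ)
          else (R.coeff.sum fun (n : ℤ) (r : ℤ) => (r : ℚ) * (q : ℚ) ^ (n * (v : ℤ))) / (v : ℚ))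
      * ∏ n ∈ R.coeff.support, (1 - PowerSeries.C ((q : ℚ) ^ n) * PowerSeries.X) ^ (R.coeff n).toNat
    = ∏ n ∈ R.coeff.support, (1 - PowerSeries.C ((q : ℚ) ^ n) * PowerSeries.X) ^ (-(R.coeff n)).toNat := by
  have h := main R.coeff.support (fun n => R.coeff n) (fun n => (q : ℚ) ^ n)
  have hg : (PowerSeries.mk fun v : ℕ => if v = 0 then (0 : ℚ)
          else (R.coeff.sum fun (n : ℤ) (r : ℤ) => (r : ℚ) * (q : ℚ) ^ (n * (v : ℤ))) / (v : ℚ)) =
      PowerSeries.mk fun v : ℕ => if v = 0 then (0 : ℚ)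
          else (∑ n ∈ R.coeff.support, ((R.coeff n : ℤ) : ℚ) * ((q : ℚ) ^ n) ^ v) / (v : ℚ) := by
    congr 1
    funext v
    by_cases hv : v = 0
    · simp [hv]
    · simp only [hv, if_false]
      congr 1
      rw [Finsupp.sum]
      refine Finset.sum_congr rfl fun n _ => ?_
      rw [zpow_mul, zpow_natCast]
  rw [hg]
  exact h

end Groth.Agent.S14192
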