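import Groth.Statements.S14194
import Mathlib
import Groth.Agent.Lib.Helper6.ChainRank3

set_option autoImplicit false
universe u
open W4c1btstackcounts
open StackCount

namespace Groth.Agent.S14194

open W4c1btstackcounts Groth.Agent.Lib.Helper6.ChainRank Module

section bridge

variable {k : Type u} [Field k] {d : ℕ → ℕ}

/-- the chain of linear maps of a chain of matrices -/
noncomputable def lin (f : (i : ℕ) → Matrix (Fin (d (i + 1))) (Fin (d i)) k) :
    ∀ j, (Fin (d j) → k) →ₗ[k] (Fin (d (j + 1)) → k) := fun j => Matrix.toLin' (f j)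

theorem iterImage_eq (f : (i : ℕ) → Matrix (Fin (d (i + 1))) (Fin (d i)) k) (i n : ℕ) :
    iterImage f i n = img (lin f) i (i + n) := by
  induction n with
  | zero => exact (img_self (lin f) i).symm
  | succ n ih =>
    show (iterImage f i n).map (Matrix.toLin' (f (i + n))) = _
    rw [ih]
    exact (img_succ (lin f) (Nat.le_add_right i n)).symm

theorem rankArray_eq (f : (i : ℕ) → Matrix (Fin (d (i + 1))) (Fin (d i)) k) {i j : ℕ}
    (h : i ≤ j) : rankArray f i j = finrank k (img (lin f) i j) := by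
  obtain ⟨n, rfl⟩ := Nat.exists_eq_add_of_le h
  rw [rankArray, if_pos h]
  have key : ∀ m, m = n →
      finrank k (iterImage f i m) = finrank k (img (lin f) i (i + n)) := by
    rintro m rfl
    rw [iterImage_eq]
  exact key _ (Nat.add_sub_cancel_left i n)

/-- the linear automorphism of an invertible matrix -/
noncomputable def glEquiv {n : ℕ} (g : Matrix.GeneralLinearGroup (Fin n) k) :
    (Fin n → k) ≃ₗ[k] (Fin n → k) :=
  LinearEquiv.ofLinearMap (Matrix.toLin' (g : Matrix (Fin n) (Fin n) k))
    (Matrix.toLin' ((g⁻¹ : Matrix.GeneralLinearGroup (Fin n) k) : Matrix (Fin n) (Fin n) k))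
    (by rw [← Matrix.toLin'_mul, Units.mul_inv, Matrix.toLin'_one])
    (by rw [← Matrix.toLin'_mul, Units.inv_mul, Matrix.toLin'_one])

theorem glEquiv_coe {n : ℕ} (g : Matrix.GeneralLinearGroup (Fin n) k) :
    ((glEquiv g : (Fin n → k) ≃ₗ[k] (Fin n → k)) : (Fin n → k) →ₗ[k] (Fin n → k)) =
      Matrix.toLin' (g : Matrix (Fin n) (Fin n) k) := rfl

theorem img_conj (g : (j : ℕ) → Matrix.GeneralLinearGroup (Fin (d j)) k)
    (f : (i : ℕ) → Matrix (Fin (d (i + 1))) (Fin (d i)) k) (i : ℕ) :
    ∀ j, img (lin (conj g f)) i j =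
      (img (lin f) i j).map ((glEquiv (g j) : (Fin (d j) → k) ≃ₗ[k] (Fin (d j) → k)) :
        (Fin (d j) → k) →ₗ[k] (Fin (d j) → k)) := by
  intro j
  induction j with
  | zero =>
    rw [img_zero, img_zero]
    split_ifs with h
    · rw [Submodule.map_top, LinearMap.range_eq_top.2 (glEquiv (g 0)).surjective]
    · rw [Submodule.map_bot]
  | succ j ih =>
    rw [img_succ', img_succ']
    split_ifs with h
    · rw [Submodule.map_top, LinearMap.range_eq_top.2 (glEquiv (g (j + 1))).surjective]
    · rw [ih, ← Submodule.map_comp, ← Submodule.map_comp]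
      congr 1
      rw [glEquiv_coe, glEquiv_coe]
      show (Matrix.toLin' (conj g f j)).comp (Matrix.toLin' ((g j : Matrix.GeneralLinearGroup
        (Fin (d j)) k) : Matrix (Fin (d j)) (Fin (d j)) k)) =
        (Matrix.toLin' ((g (j + 1) : Matrix.GeneralLinearGroup (Fin (d (j + 1))) k) :
          Matrix (Fin (d (j + 1))) (Fin (d (j + 1))) k)).comp (Matrix.toLin' (f j))
      rw [← Matrix.toLin'_mul, ← Matrix.toLin'_mul]
      congr 1
      unfold conj
      rw [Matrix.mul_assoc, Units.inv_mul, Matrix.mul_one]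

end bridge



/-- Let k be a field and d_1, …, d_r sizes (given as a function d on the naturals; only d_1, …, d_r
matter). The group Π_j GL_{d_j}(k) acts on chains of matrices f_i of size d_{i+1} × d_i (1 ≤ i < r)
by f_i ↦ g_{i+1} f_i g_i^(-1). Sending a chain to the array a_{i,j} = dim (f_{j-1} ⋯ f_i)(k^{d_i})
(1 ≤ i ≤ j ≤ r) is constant on orbits, takes values in the set of admissible arrays (a_{j,j} = d_j;
a_{i,j} ≤ a_{i+1,j} for i < j; a_{i,j+1} ≤ a_{i,j} for j < r; a_{i,j} - a_{i-1,j} ≥ a_{i,j+1} -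
a_{i-1,j+1} for 1 < i ≤ j < r), separates orbits, and reaches every admissible array: it is a
bijection from the orbit set onto the admissible arrays. (The published statement also asserts that,
when k is Galois over a subfield, the bijection is compatible with the Galois group acting entrywise
on matrices and trivially on arrays; this row omits that clause.) -/
theorem result (k : Type u) [Field k] (d : ℕ → ℕ) (r : ℕ) :
    (∀ (g : (j : ℕ) → Matrix.GeneralLinearGroup (Fin (d j)) k)
        (f : (i : ℕ) → Matrix (Fin (d (i + 1))) (Fin (d i)) k) (i j : ℕ),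
        1 ≤ i → i ≤ j → j ≤ r → rankArray (conj g f) i j = rankArray f i j) ∧
    (∀ f : (i : ℕ) → Matrix (Fin (d (i + 1))) (Fin (d i)) k, IsRankArray d r (rankArray f)) ∧
    (∀ f f' : (i : ℕ) → Matrix (Fin (d (i + 1))) (Fin (d i)) k,
        (∀ i j : ℕ, 1 ≤ i → i ≤ j → j ≤ r → rankArray f i j = rankArray f' i j) →
        ∃ g : (j : ℕ) → Matrix.GeneralLinearGroup (Fin (d j)) k,
          ∀ i : ℕ, 1 ≤ i → i + 1 ≤ r → conj g f i = f' i) ∧
    (∀ a : ℕ → ℕ → ℕ, IsRankArray d r a →
        ∃ f : (i : ℕ) → Matrix (Fin (d (i + 1))) (Fin (d i)) k,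
          ∀ i j : ℕ, 1 ≤ i → i ≤ j → j ≤ r → rankArray f i j = a i j) := by
  refine ⟨?_, ?_, ?_, ?_⟩
  · -- invariance under conjugation
    intro g f i j _ hij _
    rw [rankArray_eq _ hij, rankArray_eq _ hij, img_conj]
    exact LinearEquiv.finrank_map_eq (glEquiv (g j)) _
  · -- admissibility
    intro f
    refine ⟨?_, ?_, ?_, ?_⟩
    · intro j _ _
      rw [rankArray_eq _ le_rfl, img_self, finrank_top, Module.finrank_fin_fun]
    · intro i j _ hij _
      rw [rankArray_eq _ hij.le, rankArray_eq _ (by omega : i + 1 ≤ j)]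
      exact Submodule.finrank_mono (img_mono_left (lin f) hij)
    · intro i j _ hij _
      rw [rankArray_eq _ hij, rankArray_eq _ (by omega : i ≤ j + 1), img_succ (lin f) hij]
      exact Submodule.finrank_map_le _ _
    · intro i j hi hij _
      obtain ⟨i', rfl⟩ : ∃ i', i = i' + 1 := ⟨i - 1, by omega⟩
      rw [Nat.add_sub_cancel]
      rw [rankArray_eq _ (by omega : i' + 1 ≤ j + 1), rankArray_eq _ (by omega : i' ≤ j),
        rankArray_eq _ hij, rankArray_eq _ (by omega : i' ≤ j + 1),
        img_succ (lin f) hij, img_succ (lin f) (by omega : i' ≤ j)]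
      have e1 := finrank_map_add_finrank_inf_ker (img (lin f) (i' + 1) j) (lin f j)
      have e2 := finrank_map_add_finrank_inf_ker (img (lin f) i' j) (lin f j)
      have e3 : finrank k (img (lin f) i' j ⊓ LinearMap.ker (lin f j) :
          Submodule k (Fin (d j) → k)) ≤
          finrank k (img (lin f) (i' + 1) j ⊓ LinearMap.ker (lin f j) :
            Submodule k (Fin (d j) → k)) :=
        Submodule.finrank_mono (inf_le_inf_right _ (img_mono_left (lin f) (by omega)))
      omega
  · -- separation of orbits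
    intro f f' h
    have hrk : ∀ i j, 1 ≤ i → i ≤ j → j ≤ r →
        finrank k (img (lin f) i j) = finrank k (img (lin f') i j) := by
      intro i j h1 h2 h3
      rw [← rankArray_eq f h2, ← rankArray_eq f' h2]
      exact h i j h1 h2 h3
    obtain ⟨γ, hγ⟩ := chain_equiv r (lin f) (lin f') hrk
    have hmul : ∀ j, LinearMap.toMatrix' ((γ j : (Fin (d j) → k) ≃ₗ[k] (Fin (d j) → k)) :
        (Fin (d j) → k) →ₗ[k] (Fin (d j) → k)) *
        LinearMap.toMatrix' (((γ j).symm : (Fin (d j) → k) ≃ₗ[k] (Fin (d j) → k)) :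
        (Fin (d j) → k) →ₗ[k] (Fin (d j) → k)) = 1 := by
      intro j
      rw [← LinearMap.toMatrix'_comp, ← LinearMap.toMatrix'_id]
      congr 1
      exact LinearMap.ext fun x => (γ j).apply_symm_apply x
    have hmul' : ∀ j, LinearMap.toMatrix' (((γ j).symm : (Fin (d j) → k) ≃ₗ[k] (Fin (d j) → k)) :
        (Fin (d j) → k) →ₗ[k] (Fin (d j) → k)) *
        LinearMap.toMatrix' ((γ j : (Fin (d j) → k) ≃ₗ[k] (Fin (d j) → k)) :
        (Fin (d j) → k) →ₗ[k] (Fin (d j) → k)) = 1 := by
      intro j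
      rw [← LinearMap.toMatrix'_comp, ← LinearMap.toMatrix'_id]
      congr 1
      exact LinearMap.ext fun x => (γ j).symm_apply_apply x
    refine ⟨fun j => ⟨_, _, hmul j, hmul' j⟩, fun i h1 h2 => ?_⟩
    apply Matrix.toLin'.injective
    show Matrix.toLin' (LinearMap.toMatrix' ((γ (i + 1) : (Fin (d (i + 1)) → k) ≃ₗ[k] _) :
        (Fin (d (i + 1)) → k) →ₗ[k] (Fin (d (i + 1)) → k)) * f i *
        LinearMap.toMatrix' (((γ i).symm : (Fin (d i) → k) ≃ₗ[k] _) :
        (Fin (d i) → k) →ₗ[k] (Fin (d i) → k))) = Matrix.toLin' (f' i)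
    rw [Matrix.toLin'_mul, Matrix.toLin'_mul, Matrix.toLin'_toMatrix', Matrix.toLin'_toMatrix']
    refine LinearMap.ext fun x => ?_
    have := hγ i h1 h2 ((γ i).symm x)
    rw [LinearEquiv.apply_symm_apply] at this
    exact this
  · -- realization
    intro a ha
    obtain ⟨H1, H2, H3, H4⟩ := ha
    refine ⟨fun j => NF k d a j, fun i j h1 h2 h3 => ?_⟩
    rw [rankArray_eq _ h2]
    exact finrank_img_NF H1 H2 H3 H4 h1 h2 h3


end Groth.Agent.S14194
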