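import Groth.Statements.S14195
import Mathlib

set_option autoImplicit false
universe u v
open StackCount

namespace Groth.Agent.S14195

section aux
open Polynomial

section field

variable (k : Type u) [Field k] [Finite k]
  (π : AlgebraicClosure k ≃ₐ[k] AlgebraicClosure k)
  (hπ : ∀ x : AlgebraicClosure k, π x = x ^ Nat.card k)

include hπ in
theorem pi_pow_apply (N : ℕ) (x : AlgebraicClosure k) : (π ^ N) x = x ^ (Nat.card k ^ N) := by
  induction N generalizing x with
  | zero => simp
  | succ N ih =>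
      rw [pow_succ, AlgEquiv.mul_apply, ih, hπ, ← pow_mul, pow_succ, mul_comm]

/-- the fixed field of `π ^ N`. -/
noncomputable def EN (N : ℕ) : IntermediateField k (AlgebraicClosure k) :=
  IntermediateField.fixedField (Subgroup.zpowers (π ^ N))

theorem mem_EN_iff' (N : ℕ) (x : AlgebraicClosure k) : x ∈ EN k π N ↔ (π ^ N) x = x := by
  unfold EN
  rw [IntermediateField.mem_fixedField_iff]
  constructor
  · intro h
    exact h _ (Subgroup.mem_zpowers _)
  · intro h f hf
    have hle : Subgroup.zpowers (π ^ N) ≤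
        MulAction.stabilizer (AlgebraicClosure k ≃ₐ[k] AlgebraicClosure k) x := by
      rw [Subgroup.zpowers_le]
      exact h
    exact hle hf

include hπ in
theorem mem_EN_iff (N : ℕ) (x : AlgebraicClosure k) :
    x ∈ EN k π N ↔ x ^ (Nat.card k ^ N) = x := by
  rw [mem_EN_iff', pi_pow_apply k π hπ]

theorem one_lt_card : 1 < Nat.card k := Finite.one_lt_card

include hπ in
theorem EN_coe_eq_rootSet (N : ℕ) (hN : 0 < N) :
    (EN k π N : Set (AlgebraicClosure k)) =
      (X ^ (Nat.card k ^ N) - X : k[X]).rootSet (AlgebraicClosure k) := by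
  ext x
  have hne : (X ^ (Nat.card k ^ N) - X : k[X]) ≠ 0 :=
    FiniteField.X_pow_card_pow_sub_X_ne_zero k hN.ne' (one_lt_card k)
  rw [SetLike.mem_coe, mem_EN_iff k π hπ, Polynomial.mem_rootSet]
  simp [hne, sub_eq_zero]

include hπ in
theorem EN_finite (N : ℕ) (hN : 0 < N) : Finite (EN k π N) := by
  have : (EN k π N : Set (AlgebraicClosure k)).Finite := by
    rw [EN_coe_eq_rootSet k π hπ N hN]
    exact Polynomial.rootSet_finite _ _
  exact this

include hπ in
theorem card_EN (N : ℕ) (hN : 0 < N) : Nat.card (EN k π N) = Nat.card k ^ N := by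
  classical
  obtain ⟨p, hp⟩ := CharP.exists k
  haveI := hp
  letI := Fintype.ofFinite k
  obtain ⟨n, hpp, hcard⟩ := FiniteField.card k p
  have hq : Nat.card k = p ^ (n : ℕ) := by rw [Nat.card_eq_fintype_card, hcard]
  have hsep : (X ^ (Nat.card k ^ N) - X : k[X]).Separable := by
    apply galois_poly_separable p
    rw [hq, ← pow_mul]
    exact dvd_pow_self p (Nat.mul_ne_zero n.pos.ne' hN.ne')
  have hsplit : ((X ^ (Nat.card k ^ N) - X : k[X]).map (algebraMap k (AlgebraicClosure k))).Splits :=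
    IsAlgClosed.splits _
  have h1 := Polynomial.card_rootSet_eq_natDegree (K := AlgebraicClosure k) hsep hsplit
  rw [FiniteField.X_pow_card_pow_sub_X_natDegree_eq k hN.ne' (one_lt_card k)] at h1
  rw [← h1, ← Nat.card_eq_fintype_card]
  exact Nat.card_congr (Equiv.setCongr (EN_coe_eq_rootSet k π hπ N hN))

include hπ in
/-- if `π ^ r` fixes `E_N` pointwise then `N ∣ r`. -/
theorem dvd_of_fixes (N : ℕ) (hN : 0 < N) (r : ℕ) (h : ∀ x ∈ EN k π N, (π ^ r) x = x) : N ∣ r := by
  -- reduce mod N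
  have hmod : ∀ x ∈ EN k π N, (π ^ (r % N)) x = x := by
    intro x hx
    have h1 := h x hx
    have h2 : ∀ j : ℕ, ((π ^ N) ^ j) x = x := by
      intro j
      induction j with
      | zero => simp
      | succ j ih => rw [pow_succ, AlgEquiv.mul_apply, (mem_EN_iff' k π N x).mp hx, ih]
    conv_lhs at h1 => rw [← Nat.mod_add_div r N, pow_add, AlgEquiv.mul_apply, pow_mul, h2]
    exact h1
  by_contra hdvd
  have hr : 0 < r % N := Nat.pos_of_ne_zero (fun h0 => hdvd (Nat.dvd_of_mod_eq_zero h0))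
  have hlt : r % N < N := Nat.mod_lt _ hN
  have hle : (EN k π N : Set (AlgebraicClosure k)) ⊆ EN k π (r % N) := by
    intro x hx
    exact (mem_EN_iff' k π _ x).mpr (hmod x hx)
  haveI := EN_finite k π hπ (r % N) hr
  have hcard : Nat.card (EN k π N) ≤ Nat.card (EN k π (r % N)) :=
    Nat.card_mono (Set.toFinite _) hle
  rw [card_EN k π hπ N hN, card_EN k π hπ _ hr] at hcard
  exact absurd (Nat.pow_lt_pow_right (one_lt_card k) hlt) (not_lt.mpr hcard)

include hπ in
/-- every automorphism agrees with a power of Frobenius on `E_N`. -/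
theorem exists_pow_agree (N : ℕ) (hN : 0 < N) (σ : AlgebraicClosure k ≃ₐ[k] AlgebraicClosure k) :
    ∃ m : ℕ, ∀ x ∈ EN k π N, σ x = (π ^ m) x := by
  classical
  letI := Fintype.ofFinite k
  haveI := EN_finite k π hπ N hN
  obtain ⟨⟨m, hm⟩, hm'⟩ :=
    (FiniteField.bijective_frobeniusAlgEquivOfAlgebraic_pow k (EN k π N)).2 (σ.restrictNormal (EN k π N))
  refine ⟨m, fun x hx => ?_⟩
  have h1 := AlgEquiv.restrictNormal_commutes σ (EN k π N) ⟨x, hx⟩
  simp only at hm'
  rw [← hm'] at h1
  have h2 : ((FiniteField.frobeniusAlgEquivOfAlgebraic k (EN k π N)) ^ m) ⟨x, hx⟩ =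
      (⟨x, hx⟩ : EN k π N) ^ (Fintype.card k ^ m) := by
    rw [AlgEquiv.coe_pow, FiniteField.coe_frobeniusAlgEquivOfAlgebraic_iterate]
  rw [h2] at h1
  rw [pi_pow_apply k π hπ, Nat.card_eq_fintype_card]
  simpa using h1.symm

include hπ in
/-- a finite subextension is contained in some `E_N`. -/
theorem le_EN_of_finite (E : IntermediateField k (AlgebraicClosure k)) [FiniteDimensional k E] :
    0 < Module.finrank k E ∧ E ≤ EN k π (Module.finrank k E) := by
  classical
  letI := Fintype.ofFinite k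
  haveI : Finite E := Module.finite_of_finite k
  letI := Fintype.ofFinite E
  refine ⟨Module.finrank_pos, fun x hx => ?_⟩
  rw [mem_EN_iff k π hπ]
  have h1 : (⟨x, hx⟩ : E) ^ (Fintype.card E) = ⟨x, hx⟩ := FiniteField.pow_card _
  have h2 : Fintype.card E = Nat.card k ^ Module.finrank k E := by
    rw [Nat.card_eq_fintype_card]
    exact Module.card_eq_pow_finrank
  rw [h2] at h1
  exact congrArg Subtype.val h1

theorem EN_mono_of_dvd (n N : ℕ) (h : n ∣ N) : EN k π n ≤ EN k π N := by
  intro x hx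
  rw [mem_EN_iff'] at hx ⊢
  obtain ⟨j, rfl⟩ := h
  rw [pow_mul]
  induction j with
  | zero => simp
  | succ j ih => rw [pow_succ, AlgEquiv.mul_apply, hx, ih]

end field

section group

variable {k : Type u} [Field k] [Finite k]
  (π : AlgebraicClosure k ≃ₐ[k] AlgebraicClosure k)
  {A : Type v} [Group A] [MulDistribMulAction (AlgebraicClosure k ≃ₐ[k] AlgebraicClosure k) A]

/-- `b_m = a · π a ⋯ π^{m-1} a`. -/
noncomputable def bseq (a : A) : ℕ → A
  | 0 => 1
  | m + 1 => bseq a m * (π ^ m) • a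

theorem bseq_add (a : A) (m m' : ℕ) : bseq π a (m + m') = bseq π a m * (π ^ m) • bseq π a m' := by
  induction m' with
  | zero => simp [bseq]
  | succ m' ih =>
      rw [← add_assoc]
      show bseq π a (m + m') * (π ^ (m + m')) • a = bseq π a m * (π ^ m) • (bseq π a m' * (π ^ m') • a)
      rw [ih, smul_mul', ← mul_smul, ← pow_add, mul_assoc]

theorem bseq_mem (a : A) (H : Subgroup A)
    (hstab : ∀ (σ : AlgebraicClosure k ≃ₐ[k] AlgebraicClosure k) (x : A), x ∈ H → σ • x ∈ H)
    (ha : a ∈ H) (m : ℕ) : bseq π a m ∈ H := by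
  induction m with
  | zero => exact H.one_mem
  | succ m ih => exact H.mul_mem ih (hstab _ _ ha)

theorem cocycle_one (z : GpH1.OneCocycle (AlgebraicClosure k ≃ₐ[k] AlgebraicClosure k) A) :
    z.1 1 = 1 := by
  have h := z.2 1 1
  rw [one_mul, one_smul] at h
  exact (mul_eq_left.mp h.symm)

theorem cocycle_pow (z : GpH1.OneCocycle (AlgebraicClosure k ≃ₐ[k] AlgebraicClosure k) A) (m : ℕ) :
    z.1 (π ^ m) = bseq π (z.1 π) m := by
  induction m with
  | zero => rw [pow_zero, cocycle_one]; rfl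
  | succ m ih =>
      rw [pow_succ, z.2, ih]; rfl

variable (hπ : ∀ x : AlgebraicClosure k, π x = x ^ Nat.card k)

include hπ in
theorem cocycle_ext (z z' : GpH1.OneCocycleLC (AlgebraicClosure k ≃ₐ[k] AlgebraicClosure k) A)
    (h : z.1.1 π = z'.1.1 π) : z = z' := by
  apply Subtype.ext
  apply GpH1.OneCocycle.ext
  intro σ
  have hz : IsLocallyConstant (z.1.1) := z.2
  have hz' : IsLocallyConstant (z'.1.1) := z'.2
  -- an open nbhd of σ on which both are constant
  set W : Set (AlgebraicClosure k ≃ₐ[k] AlgebraicClosure k) :=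
    {τ | z.1.1 τ = z.1.1 σ} ∩ {τ | z'.1.1 τ = z'.1.1 σ} with hW
  have hWo : IsOpen W := (hz.isOpen_fiber _).inter (hz'.isOpen_fiber _)
  have hσW : σ ∈ W := ⟨rfl, rfl⟩
  have hnhds : (fun τ => σ * τ) ⁻¹' W ∈ nhds (1 : AlgebraicClosure k ≃ₐ[k] AlgebraicClosure k) := by
    apply (continuous_mul_left σ).continuousAt.preimage_mem_nhds
    rw [mul_one]
    exact hWo.mem_nhds hσW
  obtain ⟨E, hE, hEsub⟩ := (krullTopology_mem_nhds_one_iff k (AlgebraicClosure k) _).mp hnhds
  obtain ⟨hN, hEN⟩ := le_EN_of_finite k π hπ E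
  obtain ⟨m, hm⟩ := exists_pow_agree k π hπ _ hN σ
  have hmem : σ⁻¹ * π ^ m ∈ E.fixingSubgroup := by
    rw [IntermediateField.mem_fixingSubgroup_iff]
    intro x hx
    rw [AlgEquiv.mul_apply, ← hm x (hEN hx)]
    exact σ.symm_apply_apply x
  have h2 : π ^ m ∈ W := by
    have := hEsub hmem
    simpa using this
  have e1 : z.1.1 σ = z.1.1 (π ^ m) := h2.1.symm
  have e2 : z'.1.1 σ = z'.1.1 (π ^ m) := h2.2.symm
  show z.1.1 σ = z'.1.1 σ
  rw [e1, e2, cocycle_pow, cocycle_pow, h]

include hπ in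
theorem exists_cocycle
    (hcont : ∀ a : A, IsOpen {σ : AlgebraicClosure k ≃ₐ[k] AlgebraicClosure k | σ • a = a})
    (a : A) (H : Subgroup A) (hHfin : (H : Set A).Finite) (ha : a ∈ H)
    (hstab : ∀ (σ : AlgebraicClosure k ≃ₐ[k] AlgebraicClosure k) (x : A), x ∈ H → σ • x ∈ H) :
    ∃ z : GpH1.OneCocycleLC (AlgebraicClosure k ≃ₐ[k] AlgebraicClosure k) A, z.1.1 π = a := by
  classical
  -- an `n₀` such that automorphisms fixing `E_{n₀}` act trivially on `H`
  obtain ⟨n₀, hn₀, htriv⟩ : ∃ n₀ : ℕ, 0 < n₀ ∧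
      ∀ τ : AlgebraicClosure k ≃ₐ[k] AlgebraicClosure k, (∀ x ∈ EN k π n₀, τ x = x) →
        ∀ h ∈ H, τ • h = h := by
    set W : Set (AlgebraicClosure k ≃ₐ[k] AlgebraicClosure k) :=
      ⋂ h ∈ (H : Set A), {σ | σ • h = h} with hW
    have hWo : IsOpen W := hHfin.isOpen_biInter (fun h _ => hcont h)
    have h1 : (1 : AlgebraicClosure k ≃ₐ[k] AlgebraicClosure k) ∈ W := by
      simp [hW]
    obtain ⟨E, hE, hEsub⟩ := (krullTopology_mem_nhds_one_iff k (AlgebraicClosure k) _).mp
      (hWo.mem_nhds h1)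
    obtain ⟨hN, hEN⟩ := le_EN_of_finite k π hπ E
    refine ⟨_, hN, fun τ hτ h hh => ?_⟩
    have hmem : τ ∈ E.fixingSubgroup := by
      rw [IntermediateField.mem_fixingSubgroup_iff]
      intro x hx
      exact hτ x (hEN hx)
    have := hEsub hmem
    simp only [hW, Set.mem_iInter, Set.mem_setOf_eq] at this
    exact this h hh
  set b := bseq π a with hb
  have hbH : ∀ m, b m ∈ H := bseq_mem π a H hstab ha
  -- `π ^ (n₀ * j)` acts trivially on `H`
  have hpow_triv : ∀ (j : ℕ) (h : A), h ∈ H → (π ^ (n₀ * j)) • h = h := by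
    intro j h hh
    apply htriv _ _ h hh
    intro x hx
    rw [pow_mul]
    have hx' := (mem_EN_iff' k π n₀ x).mp hx
    induction j with
    | zero => simp
    | succ j ih => rw [pow_succ, AlgEquiv.mul_apply, hx', ih]
  set c := b n₀ with hc
  have hbc : ∀ j : ℕ, b (n₀ * j) = c ^ j := by
    intro j
    induction j with
    | zero => simp [hb, bseq]
    | succ j ih =>
        rw [mul_add, mul_one, hb, bseq_add, ← hb, ih, hpow_triv j _ (hbH n₀), pow_succ]
  -- order of `c`
  obtain ⟨e, he, hce⟩ : ∃ e : ℕ, 0 < e ∧ c ^ e = 1 := by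
    haveI : Finite H := hHfin
    have hfo : IsOfFinOrder (⟨c, hbH n₀⟩ : H) := isOfFinOrder_of_finite _
    refine ⟨orderOf (⟨c, hbH n₀⟩ : H), hfo.orderOf_pos, ?_⟩
    have := pow_orderOf_eq_one (⟨c, hbH n₀⟩ : H)
    exact congrArg Subtype.val this
  set N := n₀ * e with hNdef
  have hN : 0 < N := Nat.mul_pos hn₀ he
  have hbN : b N = 1 := by rw [hNdef, hbc, hce]
  have hper : ∀ m j : ℕ, b (m + N * j) = b m := by
    intro m j
    induction j with
    | zero => simp
    | succ j ih =>
        rw [mul_add, mul_one, ← add_assoc, hb, bseq_add, ← hb, ih, hbN, smul_one, mul_one]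
  -- automorphisms fixing `E_N` act trivially on `H`
  have htrivN : ∀ τ : AlgebraicClosure k ≃ₐ[k] AlgebraicClosure k, (∀ x ∈ EN k π N, τ x = x) →
      ∀ h ∈ H, τ • h = h := by
    intro τ hτ
    apply htriv
    intro x hx
    exact hτ x (EN_mono_of_dvd k π n₀ N (Dvd.intro e rfl) hx)
  -- `b` only depends on the action on `E_N`
  have hb_agree : ∀ m m' : ℕ, (∀ x ∈ EN k π N, (π ^ m) x = (π ^ m') x) → b m = b m' := by
    have key : ∀ m m' : ℕ, m ≤ m' → (∀ x ∈ EN k π N, (π ^ m) x = (π ^ m') x) → b m = b m' := by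
      intro m m' hle hag
      have hfix : ∀ x ∈ EN k π N, (π ^ (m' - m)) x = x := by
        intro x hx
        have h1 := hag x hx
        have h2 : (π ^ m') x = (π ^ m) ((π ^ (m' - m)) x) := by
          rw [← AlgEquiv.mul_apply, ← pow_add, Nat.add_sub_cancel' hle]
        rw [h2] at h1
        exact ((π ^ m).injective h1).symm
      obtain ⟨j, hj⟩ := dvd_of_fixes k π hπ N hN _ hfix
      have : m' = m + N * j := by omega
      rw [this, hper]
    intro m m' hag
    rcases le_total m m' with hle | hle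
    · exact key m m' hle hag
    · exact (key m' m hle (fun x hx => (hag x hx).symm)).symm
  -- `E_N` is stable under powers of `π`
  have hstabE : ∀ (j : ℕ) (x : AlgebraicClosure k), x ∈ EN k π N → (π ^ j) x ∈ EN k π N := by
    intro j x hx
    rw [mem_EN_iff'] at hx ⊢
    rw [← AlgEquiv.mul_apply, ← pow_add, add_comm, pow_add, AlgEquiv.mul_apply, hx]
  -- the cocycle
  let mm : (AlgebraicClosure k ≃ₐ[k] AlgebraicClosure k) → ℕ :=
    fun σ => Classical.choose (exists_pow_agree k π hπ N hN σ)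
  have hmm : ∀ σ, ∀ x ∈ EN k π N, σ x = (π ^ (mm σ)) x :=
    fun σ => Classical.choose_spec (exists_pow_agree k π hπ N hN σ)
  let z : (AlgebraicClosure k ≃ₐ[k] AlgebraicClosure k) → A := fun σ => b (mm σ)
  have hz_eq : ∀ σ m, (∀ x ∈ EN k π N, σ x = (π ^ m) x) → z σ = b m := by
    intro σ m hm
    apply hb_agree
    intro x hx
    rw [← hmm σ x hx, hm x hx]
  have hcoc : GpH1.IsOneCocycle z := by
    intro σ τ
    have h1 : ∀ x ∈ EN k π N, (σ * τ) x = (π ^ (mm σ + mm τ)) x := by
      intro x hx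
      rw [AlgEquiv.mul_apply, hmm τ x hx, hmm σ _ (hstabE _ x hx), ← AlgEquiv.mul_apply, ← pow_add]
    rw [hz_eq _ _ h1]
    show b (mm σ + mm τ) = b (mm σ) * σ • b (mm τ)
    rw [hb, bseq_add, ← hb]
    congr 1
    -- `σ` and `π ^ mm σ` act the same way on `H`
    have h2 : ((π ^ (mm σ))⁻¹ * σ) • b (mm τ) = b (mm τ) := by
      apply htrivN _ _ _ (hbH _)
      intro x hx
      rw [AlgEquiv.mul_apply, hmm σ x hx]
      exact (π ^ (mm σ)).symm_apply_apply x
    have h3 := congrArg (fun y => (π ^ (mm σ)) • y) h2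
    simp only [← mul_smul, mul_inv_cancel_left] at h3
    exact h3.symm
  have hlc : IsLocallyConstant z := by
    rw [IsLocallyConstant.iff_exists_open]
    intro σ
    haveI := EN_finite k π hπ N hN
    refine ⟨(fun τ => σ⁻¹ * τ) ⁻¹' ((EN k π N).fixingSubgroup : Set _),
      ((EN k π N).fixingSubgroup_isOpen).preimage (continuous_mul_left σ⁻¹), ?_, ?_⟩
    · simp
    · intro τ hτ
      apply hz_eq
      intro x hx
      have hτ' : σ⁻¹ * τ ∈ (EN k π N).fixingSubgroup := hτ
      rw [IntermediateField.mem_fixingSubgroup_iff] at hτ'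
      have h4 := hτ' x hx
      rw [AlgEquiv.mul_apply] at h4
      have h5 : τ x = σ x := by
        have := congrArg σ h4
        rwa [show σ (σ⁻¹ (τ x)) = τ x from σ.apply_symm_apply (τ x)] at this
      rw [h5, hmm σ x hx]
  refine ⟨⟨⟨z, hcoc⟩, hlc⟩, ?_⟩
  show z π = a
  rw [hz_eq π 1 (fun x _ => by rw [pow_one])]
  simp [hb, bseq]

end group


end aux


/-- Let k be a finite field, k̄ an algebraic closure, Γ = Aut(k̄/k) with the Krull topology and π ∈ Γ
the Frobenius x ↦ x^(#k). Let A be a group on which Γ acts by group automorphisms, with open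
stabilisers, such that every element of A lies in a finite Γ-stable subgroup. Then z ↦ z(π) is a
bijection from the locally constant 1-cocycles Γ → A (the continuous cocycles for discrete A) onto
A, and two such cocycles z, z' are cohomologous if and only if z'(π) = g · z(π) · (π g)^(-1) for
some g in A; hence it induces a bijection of the continuous first cohomology set with the quotient
of A by the twisted conjugation g · x = g x (π g)^(-1). (The published statement takes A to be the
group of k̄-points of a smooth algebraic group over k with its Galois action; this row assumes only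
the two properties of that action which the proof uses.) -/
theorem result (k : Type u) [Field k] [Finite k]
    (π : AlgebraicClosure k ≃ₐ[k] AlgebraicClosure k)
    (hπ : ∀ x : AlgebraicClosure k, π x = x ^ Nat.card k)
    (A : Type v) [Group A] [MulDistribMulAction (AlgebraicClosure k ≃ₐ[k] AlgebraicClosure k) A]
    (hcont : ∀ a : A, IsOpen {σ : AlgebraicClosure k ≃ₐ[k] AlgebraicClosure k | σ • a = a})
    (hfin : ∀ a : A, ∃ H : Subgroup A, (H : Set A).Finite ∧ a ∈ H ∧
      ∀ (σ : AlgebraicClosure k ≃ₐ[k] AlgebraicClosure k) (x : A), x ∈ H → σ • x ∈ H) :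
    Function.Bijective
        (fun z : GpH1.OneCocycleLC (AlgebraicClosure k ≃ₐ[k] AlgebraicClosure k) A => z.1 π) ∧
      ∀ z z' : GpH1.OneCocycleLC (AlgebraicClosure k ≃ₐ[k] AlgebraicClosure k) A,
        z.cl = z'.cl ↔ ∃ g : A, z'.1 π = g * z.1 π * (π • g)⁻¹ := by
  have hinj : Function.Injective
      (fun z : GpH1.OneCocycleLC (AlgebraicClosure k ≃ₐ[k] AlgebraicClosure k) A => z.1 π) := by
    intro z z' h
    exact cocycle_ext π hπ z z' h
  refine ⟨⟨hinj, ?_⟩, ?_⟩
  · intro a
    obtain ⟨H, hHfin, ha, hstab⟩ := hfin a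
    obtain ⟨z, hz⟩ := exists_cocycle π hπ hcont a H hHfin ha hstab
    exact ⟨z, hz⟩
  · intro z z'
    rw [GpH1.OneCocycleLC.cl_eq_cl_iff]
    constructor
    · rintro ⟨c, hc⟩
      refine ⟨c, ?_⟩
      have h := hc π
      show z'.1.1 π = c * z.1.1 π * (π • c)⁻¹
      rw [h]
      group
    · rintro ⟨g, hg⟩
      -- the twisted cocycle
      have hz : IsLocallyConstant (z.1.1) := z.2
      let w : (AlgebraicClosure k ≃ₐ[k] AlgebraicClosure k) → A := fun σ => g * z.1.1 σ * (σ • g)⁻¹
      have hwc : GpH1.IsOneCocycle w := by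
        intro σ τ
        show g * z.1.1 (σ * τ) * ((σ * τ) • g)⁻¹ =
          (g * z.1.1 σ * (σ • g)⁻¹) * σ • (g * z.1.1 τ * (τ • g)⁻¹)
        rw [z.1.2 σ τ, smul_mul', smul_mul', smul_inv', mul_smul]
        group
      have hwl : IsLocallyConstant w := by
        rw [IsLocallyConstant.iff_exists_open]
        intro σ
        refine ⟨{τ | z.1.1 τ = z.1.1 σ} ∩ (fun τ => σ⁻¹ * τ) ⁻¹' {ρ | ρ • g = g},
          (hz.isOpen_fiber _).inter ((hcont g).preimage (continuous_const_mul σ⁻¹)), ⟨rfl, ?_⟩, ?_⟩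
        · simp
        · rintro τ ⟨h1, h2⟩
          have h1' : z.1.1 τ = z.1.1 σ := h1
          have h2' : (σ⁻¹ * τ) • g = g := h2
          have h3 : τ • g = σ • g := by
            have := congrArg (fun y => σ • y) h2'
            simp only [← mul_smul, mul_inv_cancel_left] at this
            exact this
          show g * z.1.1 τ * (τ • g)⁻¹ = g * z.1.1 σ * (σ • g)⁻¹
          rw [h1', h3]
      let W : GpH1.OneCocycleLC (AlgebraicClosure k ≃ₐ[k] AlgebraicClosure k) A := ⟨⟨w, hwc⟩, hwl⟩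
      have hWz' : W = z' := by
        apply cocycle_ext π hπ
        show g * z.1.1 π * (π • g)⁻¹ = z'.1.1 π
        exact hg.symm
      refine ⟨g, fun σ => ?_⟩
      rw [← hWz']
      show z.1.1 σ = g⁻¹ * (g * z.1.1 σ * (σ • g)⁻¹) * σ • g
      group

end Groth.Agent.S14195
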