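import Groth.Statements.S1425
import Mathlib
import Groth.Agent.Lib.Helper13.EL8
-- import your own Groth.Agent.* helpers here

set_option autoImplicit false
universe u
open FlatMor

namespace Groth.Agent.S1425

lemma isPurelyInseparable_of_bijective {F E : Type*} [Field F] [Field E] (φ : F →+* E)
    (h : Function.Bijective φ) : φ.IsPurelyInseparable := by
  algebraize [φ]
  obtain ⟨q, hq⟩ := ExpChar.exists F
  refine (isPurelyInseparable_iff_pow_mem F q).mpr fun x ↦ ⟨0, ?_⟩
  obtain ⟨y, rfl⟩ := h.surjective x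
  exact ⟨y, by simp; rfl⟩

open AlgebraicGeometry CategoryTheory Limits in
/-- Each term of a fibre integral of a positive function along a finite morphism is bounded by the
integral. -/
lemma le_fibreIntegral {U V : Scheme.{u}} (π : U ⟶ V) [IsFinite π] (w' : U → ℤ)
    (hpos : ∀ t, 0 < w' t) (t₀ : U) : w' t₀ ≤ MoreMor.fibreIntegral π w' (π t₀) := by
  classical
  unfold MoreMor.fibreIntegral
  have hfin : Finite {t : U // π t = π t₀} := (Scheme.Hom.finite_preimage_singleton π (π t₀)).to_subtype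
  have := Fintype.ofFinite {t : U // π t = π t₀}
  rw [finsum_eq_sum_of_fintype]
  have hterm : ∀ t : {t : U // π t = π t₀}, w' t.1 ≤ w' t.1 *
      (letI := (π.residueFieldMap t.1).hom.toAlgebra;
        (Field.finSepDegree (V.residueField (π t.1)) (U.residueField t.1) : ℤ)) := by
    intro t
    letI := (π.residueFieldMap t.1).hom.toAlgebra
    have hfd : Module.Finite (V.residueField (π t.1)) (U.residueField t.1) :=
      Groth.Agent.Lib.helper13.EL.finite_residueFieldMap_of_quasiFiniteAt (π.quasiFiniteAt t.1)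
    have h1 : 1 ≤ Field.finSepDegree (V.residueField (π t.1)) (U.residueField t.1) :=
      Nat.one_le_iff_ne_zero.mpr (NeZero.ne _)
    have h2 : (1 : ℤ) ≤ (Field.finSepDegree (V.residueField (π t.1)) (U.residueField t.1) : ℤ) := by
      exact_mod_cast h1
    exact le_mul_of_one_le_right (hpos t.1).le h2
  refine le_trans (hterm ⟨t₀, rfl⟩) ?_
  exact Finset.single_le_sum (f := fun t : {t : U // π t = π t₀} ↦ w' t.1 *
      (letI := (π.residueFieldMap t.1).hom.toAlgebra;
        (Field.finSepDegree (V.residueField (π t.1)) (U.residueField t.1) : ℤ)))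
    (fun t _ ↦ le_trans (hpos t.1).le (hterm t)) (Finset.mem_univ _)

open AlgebraicGeometry CategoryTheory Limits in
/-- A weighting of a locally quasi-finite morphism taking positive values is upper semicontinuous on X. -/
theorem result {X Y : Scheme.{u}} (f : X ⟶ Y) [LocallyQuasiFinite f] [LocallyOfFiniteType f] (w : ↑X → ℤ) (hw : MoreMor.IsWeighting f w) (hpos : ∀ x, 0 < w x) :
    UpperSemicontinuous w := by
  intro x₀
  suffices h : ∃ O : Set ↑X, IsOpen O ∧ x₀ ∈ O ∧ ∀ x' ∈ O, w x' ≤ w x₀ by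
    obtain ⟨O, hO, hx₀, hle⟩ := h
    intro c hc
    exact Filter.mem_of_superset (hO.mem_nhds hx₀) (fun x' hx' ↦ lt_of_le_of_lt (hle x' hx') hc)
  obtain ⟨V, g, v₀, hg, hgv, J, hJ, U, u, hgood, hPI, hvinj, hex⟩ :=
    Groth.Agent.Lib.helper13.EL.exists_etale_nbhd_purelyInseparable (f := f) (f x₀)
      (fun _ : Unit ↦ x₀) (fun _ ↦ rfl) (fun _ ↦ f.quasiFiniteAt x₀)
  obtain ⟨z, hz1, hz2⟩ := Scheme.Pullback.exists_preimage_pullback x₀ v₀ hgv.symm
  obtain ⟨j, rfl⟩ := hex z () hz2 hz1
  have hG := hgood () j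
  have hfinπ : IsFinite ((U () j).ι ≫ pullback.snd f g) := hG.finite
  have hlc := hw V g (U () j) hfinπ
  set π := (U () j).ι ≫ pullback.snd f g with hπ
  set w' : (U () j).toScheme → ℤ := fun t ↦ w (pullback.fst f g ((U () j).ι t)) with hw'
  set t₀ : (U () j).toScheme := ⟨u () j, hG.mem⟩ with ht₀
  have hπt₀ : π t₀ = v₀ := hG.snd_eq
  -- the value of the integral at `v₀`
  have hFv₀ : MoreMor.fibreIntegral π w' v₀ = w x₀ := by
    unfold MoreMor.fibreIntegral
    have huniq : ∀ t : {t : (U () j).toScheme // π t = v₀}, t = ⟨t₀, hπt₀⟩ := by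
      rintro ⟨t, ht⟩
      apply Subtype.ext
      apply Subtype.ext
      exact hG.uniq t.1 t.2 ht
    refine (finsum_eq_single _ (⟨t₀, hπt₀⟩ : {t : (U () j).toScheme // π t = v₀})
      (fun t ht ↦ (ht (huniq t)).elim)).trans ?_
    have hPIπ : (π.residueFieldMap t₀).hom.IsPurelyInseparable := by
      rw [hπ, Scheme.residueFieldMap_comp]
      show (((U () j).ι.residueFieldMap t₀).hom.comp
        ((pullback.snd f g).residueFieldMap ((U () j).ι t₀)).hom).IsPurelyInseparable
      exact RingHom.IsPurelyInseparable.comp (hPI () j)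
        (isPurelyInseparable_of_bijective _ (ConcreteCategory.bijective_of_isIso _))
    letI := (π.residueFieldMap t₀).hom.toAlgebra
    have hPI' : IsPurelyInseparable (V.residueField (π t₀)) ((U () j).toScheme.residueField t₀) := hPIπ
    have h1 : Field.finSepDegree (V.residueField (π t₀)) ((U () j).toScheme.residueField t₀) = 1 :=
      IsPurelyInseparable.finSepDegree_eq_one _ _
    show w' t₀ * ((Field.finSepDegree (V.residueField (π t₀))
      ((U () j).toScheme.residueField t₀) : ℕ) : ℤ) = w x₀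
    rw [h1, Nat.cast_one, mul_one, hw']
    show w (pullback.fst f g (u () j)) = w x₀
    rw [hG.fst_eq]
  have hN : IsOpen (MoreMor.fibreIntegral π w' ⁻¹' {w x₀}) := hlc.isOpen_fiber _
  refine ⟨pullback.fst f g '' ((U () j).ι '' (π ⁻¹' (MoreMor.fibreIntegral π w' ⁻¹' {w x₀}))),
    ?_, ?_, ?_⟩
  · exact (pullback.fst f g).isOpenMap _
      ((U () j).ι.isOpenEmbedding.isOpenMap _ (hN.preimage π.continuous))
  · exact ⟨u () j, ⟨t₀, by simp [hπt₀, hFv₀], rfl⟩, hG.fst_eq⟩
  · rintro _ ⟨_, ⟨t, ht, rfl⟩, rfl⟩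
    have h1 : MoreMor.fibreIntegral π w' (π t) = w x₀ := ht
    have h2 := le_fibreIntegral π w' (fun t ↦ hpos _) t
    rw [h1] at h2
    exact h2

end Groth.Agent.S1425
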