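import Groth.Statements.S1420
import Mathlib
import Groth.Agent.Lib.Helper13.EL8
import Groth.Agent.S1419
import Groth.Agent.S1425
-- import your own Groth.Agent.* helpers here

set_option autoImplicit false
universe u
open FlatMor

namespace Groth.Agent.S1420

open AlgebraicGeometry CategoryTheory Limits Groth.Agent.Lib.helper13 in
/-- A locally quasi-finite morphism with a positive weighting is open. -/
lemma isOpenMap_of_positive_weighting {X Y : Scheme.{u}} (f : X ⟶ Y) [LocallyQuasiFinite f]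
    [LocallyOfFiniteType f] (w : ↑X → ℤ) (hw : MoreMor.IsWeighting f w) (hpos : ∀ x, 0 < w x) :
    IsOpenMap f := by
  intro O hO
  rw [isOpen_iff_forall_mem_open]
  rintro _ ⟨x, hxO, rfl⟩
  let X₁ : X.Opens := ⟨O, hO⟩
  let x₁ : X₁.toScheme := ⟨x, hxO⟩
  obtain ⟨V, gV, v₀, hgV, hgv, -, U₁, u₁, hu₁mem, hfin₁, hu₁snd, hu₁fst, -, -⟩ :=
    EL.exists_etale_nbhd_of_quasiFiniteAt (f := X₁.ι ≫ f) x₁ ((X₁.ι ≫ f).quasiFiniteAt x₁)
  obtain ⟨j, hjfst, hjsnd, hjopen⟩ : ∃ j : pullback (X₁.ι ≫ f) gV ⟶ pullback f gV,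
      j ≫ pullback.fst f gV = pullback.fst (X₁.ι ≫ f) gV ≫ X₁.ι ∧
      j ≫ pullback.snd f gV = pullback.snd (X₁.ι ≫ f) gV ∧ IsOpenImmersion j := by
    refine ⟨pullback.map (X₁.ι ≫ f) gV f gV X₁.ι (𝟙 V) (𝟙 Y) (by simp) (by simp), ?_, ?_,
      inferInstance⟩
    · unfold pullback.map; rw [pullback.lift_fst]
    · unfold pullback.map; rw [pullback.lift_snd, Category.comp_id]
  let U : (pullback f gV).Opens := j ''ᵁ U₁
  have hUι : U.ι ≫ pullback.snd f gV = (j.isoImage U₁).inv ≫ (U₁.ι ≫ pullback.snd (X₁.ι ≫ f) gV) := by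
    show (j ''ᵁ U₁).ι ≫ pullback.snd f gV = _
    rw [← hjsnd, ← Scheme.Hom.isoImage_inv_ι j U₁, Category.assoc, Category.assoc]
  have hfinU : IsFinite (U.ι ≫ pullback.snd f gV) := by
    rw [hUι]; infer_instance
  have hlc := hw V gV U hfinU
  set π := U.ι ≫ pullback.snd f gV with hπ
  set w' : U.toScheme → ℤ := fun t ↦ w (pullback.fst f gV (U.ι t)) with hw'
  have hmem : j u₁ ∈ U := ⟨u₁, hu₁mem, rfl⟩
  let t₀ : U.toScheme := ⟨j u₁, hmem⟩
  have hπt₀ : π t₀ = v₀ := by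
    show pullback.snd f gV (j u₁) = v₀
    rw [← Scheme.Hom.comp_apply, hjsnd, hu₁snd]
  have hF₀ : 0 < MoreMor.fibreIntegral π w' v₀ := by
    have := Groth.Agent.S1425.le_fibreIntegral π w' (fun t ↦ hpos _) t₀
    rw [hπt₀] at this
    exact lt_of_lt_of_le (hpos _) this
  have hN : IsOpen (MoreMor.fibreIntegral π w' ⁻¹' {MoreMor.fibreIntegral π w' v₀}) :=
    hlc.isOpen_fiber _
  refine ⟨gV '' (MoreMor.fibreIntegral π w' ⁻¹' {MoreMor.fibreIntegral π w' v₀}), ?_,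
    gV.isOpenMap _ hN, ⟨v₀, rfl, hgv⟩⟩
  rintro _ ⟨v, hv, rfl⟩
  have hv' : MoreMor.fibreIntegral π w' v = MoreMor.fibreIntegral π w' v₀ := hv
  have hne : MoreMor.fibreIntegral π w' v ≠ 0 := by rw [hv']; exact hF₀.ne'
  have hnonempty : Nonempty {t : U.toScheme // π t = v} := by
    by_contra hempty
    rw [not_nonempty_iff] at hempty
    apply hne
    unfold MoreMor.fibreIntegral
    exact finsum_of_isEmpty _
  obtain ⟨⟨t, ht⟩⟩ := hnonempty
  obtain ⟨t₁, ht₁U, ht₁⟩ : (U.ι t) ∈ U := t.2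
  refine ⟨X₁.ι (pullback.fst (X₁.ι ≫ f) gV t₁), (pullback.fst (X₁.ι ≫ f) gV t₁).2, ?_⟩
  have e1 : f (X₁.ι (pullback.fst (X₁.ι ≫ f) gV t₁)) = gV (pullback.snd (X₁.ι ≫ f) gV t₁) := by
    rw [← Scheme.Hom.comp_apply, ← Scheme.Hom.comp_apply, ← Scheme.Hom.comp_apply,
      pullback.condition]
  have e2 : pullback.snd (X₁.ι ≫ f) gV t₁ = v := by
    have ht₁' : j t₁ = U.ι t := ht₁
    rw [← hjsnd, Scheme.Hom.comp_apply, ht₁']
    exact ht
  rw [e1, e2]

open AlgebraicGeometry CategoryTheory Limits in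
/-- A locally quasi-finite morphism with a weighting taking only positive values is universally open. -/
theorem result {X Y : Scheme.{u}} (f : X ⟶ Y) [LocallyQuasiFinite f] [LocallyOfFiniteType f] (w : ↑X → ℤ) (hw : MoreMor.IsWeighting f w) (hpos : ∀ x, 0 < w x) :
    UniversallyOpen f := by
  refine ⟨fun X' Y' i₁ i₂ f' sq ↦ ?_⟩
  have hLQF : LocallyQuasiFinite f' := MorphismProperty.of_isPullback sq.flip inferInstance
  have hLFT : LocallyOfFiniteType f' := MorphismProperty.of_isPullback sq.flip inferInstance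
  have hw' := Groth.Agent.S1419.result f w hw f' i₁ i₂ sq.flip
  exact isOpenMap_of_positive_weighting f' (w ∘ ⇑i₁) hw' (fun x ↦ hpos _)

end Groth.Agent.S1420
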