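import Groth.Statements.S14205
import Mathlib
import Groth.Agent.Lib.Helper12.CSA10
-- import your own Groth.Agent.* helpers here

set_option autoImplicit false
universe u v
open scoped TensorProduct
open Brauer

namespace Groth.Agent.S14205

section helpers
open Groth.Agent.Lib.helper12.CSA

theorem main (k : Type u) [Field k] (A : Type v) [Ring A] [Algebra k A]
    [Algebra.IsCentral k A] [IsSimpleRing A] [FiniteDimensional k A] (p : ℕ)
    (hp : CSAGal.IsPeriod k A p) (r : ℕ) (hr : 0 < r) :
    CSAGal.IsPeriod k (CSAGal.tpow k A r) (p / Nat.gcd p r) := by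
  have hp0 : 0 < p := hp.1
  have hg0 : 0 < Nat.gcd p r := Nat.gcd_pos_of_pos_left r hp0
  obtain ⟨p', hp'⟩ : Nat.gcd p r ∣ p := Nat.gcd_dvd_left p r
  obtain ⟨r', hr'⟩ : Nat.gcd p r ∣ r := Nat.gcd_dvd_right p r
  have hdiv : p / Nat.gcd p r = p' :=
    Nat.div_eq_of_eq_mul_right hg0 hp'
  have hcop : Nat.Coprime p' r' := by
    have h := Nat.coprime_div_gcd_div_gcd hg0 (m := p) (n := r)
    have h2 : r / Nat.gcd p r = r' :=
      Nat.div_eq_of_eq_mul_right hg0 hr'
    rwa [hdiv, h2] at h
  have hp'0 : 0 < p' := by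
    rcases Nat.eq_zero_or_pos p' with h | h
    · rw [h, Nat.mul_zero] at hp'; omega
    · exact h
  rw [hdiv]
  refine ⟨hp'0, ?_, ?_⟩
  · rw [splits_tpow_tpow_iff, splits_tpow_iff_dvd k A hp]
    refine ⟨r', ?_⟩
    calc r * p' = Nat.gcd p r * r' * p' := by rw [← hr']
      _ = Nat.gcd p r * p' * r' := by ring
      _ = p * r' := by rw [← hp']
  · intro e' he'0 hlt hs
    rw [splits_tpow_tpow_iff, splits_tpow_iff_dvd k A hp] at hs
    have h1 : Nat.gcd p r * p' ∣ Nat.gcd p r * (r' * e') := by
      rw [← hp', ← mul_assoc, ← hr']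
      exact hs
    have h2 : p' ∣ r' * e' := (Nat.mul_dvd_mul_iff_left hg0).mp h1
    have h3 : p' ∣ e' := hcop.dvd_of_dvd_mul_left h2
    exact absurd (Nat.le_of_dvd he'0 h3) (not_le.mpr hlt)
end helpers

/-- Let A be a finite-dimensional central simple algebra over a field k with period p: p is the least
positive integer for which the p-fold tensor power of A over k is a full matrix algebra over k. Then
for every r ≥ 1 the r-fold tensor power of A has period p / gcd(p, r) (the order of the r-th
multiple of an element of order p). -/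
theorem result (k : Type u) [Field k] (A : Type v) [Ring A] [Algebra k A]
    [Algebra.IsCentral k A] [IsSimpleRing A] [FiniteDimensional k A] (p : ℕ)
    (hp : CSAGal.IsPeriod k A p) (r : ℕ) (hr : 0 < r) :
    CSAGal.IsPeriod k (CSAGal.tpow k A r) (p / Nat.gcd p r) := by
  exact main k A p hp r hr

end Groth.Agent.S14205
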