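import Groth.Statements.S14211
import Mathlib
import Groth.Agent.S15184
import Groth.Agent.Lib.Helper12.PerIndCor
-- import your own Groth.Agent.* helpers here

set_option autoImplicit false
universe u v
open scoped TensorProduct
open Brauer

namespace Groth.Agent.S14211

section helpers
universe w
open Polynomial
set_option linter.unusedSectionVars false
section quat
variable (k : Type u) [Field k] (D : Type v) [DivisionRing D] [Algebra k D]

theorem two_term (i : D) (hi : i ∉ (algebraMap k D).range) (α β : k)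
    (h : α • (1 : D) + β • i = 0) : α = 0 ∧ β = 0 := by
  have hβ : β = 0 := by
    by_contra hβ
    apply hi
    refine ⟨-α / β, ?_⟩
    have h1 : β • i = (-α) • (1 : D) := by
      rw [neg_smul]; exact eq_neg_of_add_eq_zero_right h
    have h3 : i = (-α / β) • (1 : D) := by
      calc i = β⁻¹ • (β • i) := by rw [smul_smul, inv_mul_cancel₀ hβ, one_smul]
        _ = β⁻¹ • ((-α) • (1 : D)) := by rw [h1]
        _ = (-α / β) • (1 : D) := by
          rw [smul_smul]; congr 1; field_simp
    rw [Algebra.algebraMap_eq_smul_one]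
    exact h3.symm
  subst hβ
  rw [zero_smul, add_zero] at h
  refine ⟨?_, rfl⟩
  by_contra hα
  have : (1 : D) = α⁻¹ • (α • (1 : D)) := by rw [smul_smul, inv_mul_cancel₀ hα, one_smul]
  rw [h, smul_zero] at this
  exact one_ne_zero this

theorem li_aux (h2 : (2 : k) ≠ 0) (i j : D) (hij : i * j = -(j * i))
    (hi : i ∉ (algebraMap k D).range) (hj : j ≠ 0) (α β γ δ : k)
    (h : α • (1 : D) + β • i + γ • j + δ • (i * j) = 0) :
    α = 0 ∧ β = 0 ∧ γ = 0 ∧ δ = 0 := by
  have hi0 : i ≠ 0 := by
    rintro rfl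
    exact hi ⟨0, map_zero _⟩
  have hji : j * i = -(i * j) := by rw [hij, neg_neg]
  -- the conjugate relation
  have h' : α • (1 : D) + β • i - γ • j - δ • (i * j) = 0 := by
    have hc : i * (α • (1 : D) + β • i + γ • j + δ • (i * j))
        = (α • (1 : D) + β • i - γ • j - δ • (i * j)) * i := by
      simp only [mul_add, add_mul, sub_mul, mul_smul_comm, smul_mul_assoc, mul_one, one_mul]
      have e1 : i * j = -(j * i) := hij
      have e2 : i * (i * j) = -(i * j * i) := by rw [mul_assoc i j i, hji, mul_neg, neg_neg]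
      rw [e2, e1]
      simp only [smul_neg]
      abel
    rw [h, mul_zero] at hc
    rcases mul_eq_zero.mp hc.symm with h0 | h0
    · exact h0
    · exact absurd h0 hi0
  have hs : (2 * α) • (1 : D) + (2 * β) • i = 0 := by
    have := congrArg₂ (· + ·) h h'
    simp only [add_zero] at this
    rw [← this]
    simp only [mul_smul, two_smul]
    abel
  have hd : (2 * γ) • (1 : D) + (2 * δ) • i = 0 := by
    have h3 : (2 * γ) • j + (2 * δ) • (i * j) = 0 := by
      have := congrArg₂ (· - ·) h h'
      simp only [sub_zero] at this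
      rw [← this]
      simp only [mul_smul, two_smul]
      abel
    have h4 : ((2 * γ) • (1 : D) + (2 * δ) • i) * j = 0 := by
      rw [add_mul, smul_mul_assoc, smul_mul_assoc, one_mul]
      exact h3
    rcases mul_eq_zero.mp h4 with h0 | h0
    · exact h0
    · exact absurd h0 hj
  obtain ⟨ha, hb⟩ := two_term k D i hi _ _ hs
  obtain ⟨hc, hd'⟩ := two_term k D i hi _ _ hd
  refine ⟨?_, ?_, ?_, ?_⟩
  · exact (mul_eq_zero.mp ha).resolve_left h2
  · exact (mul_eq_zero.mp hb).resolve_left h2
  · exact (mul_eq_zero.mp hc).resolve_left h2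
  · exact (mul_eq_zero.mp hd').resolve_left h2

theorem exists_quaternion_iso (h2 : (2 : k) ≠ 0) [Algebra.IsCentral k D] [FiniteDimensional k D]
    (hD : Module.finrank k D = 4) :
    ∃ a b : k, Nonempty (D ≃ₐ[k] QuaternionAlgebra k a 0 b) := by
  classical
  have hx : ∃ x : D, x ∉ (algebraMap k D).range := by
    by_contra hall
    push Not at hall
    have hbt : (⊥ : Subalgebra k D) = ⊤ := by
      rw [eq_top_iff]
      intro z _
      exact Algebra.mem_bot.mpr (hall z)
    rw [Subalgebra.bot_eq_top_iff_finrank_eq_one] at hbt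
    omega
  obtain ⟨x, hx⟩ := hx
  obtain ⟨F', _, _, _, ι, v, hιv, hF', htop, _⟩ :=
    Groth.Agent.S15184.exists_maximal_subfield_through k D 2 Nat.prime_two (by rw [hD]; norm_num) x hx
  have hdeg : (minpoly k x).natDegree = 2 := by
    rw [← hιv, minpoly.algHom_eq ι ι.injective v,
      Groth.Agent.S15184.natDegree_minpoly_of_adjoin_eq_top k F' v htop, hF']
  have hxi : IsIntegral k x := Algebra.IsIntegral.isIntegral x
  have hmon : (minpoly k x).Monic := minpoly.monic hxi
  set c₀ := (minpoly k x).coeff 0 with hc₀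
  set c₁ := (minpoly k x).coeff 1 with hc₁
  have heq : x * x + c₁ • x + c₀ • (1 : D) = 0 := by
    have h0 := minpoly.aeval k x
    rw [Polynomial.aeval_eq_sum_range, hdeg] at h0
    simp only [Finset.sum_range_succ, Finset.range_zero, Finset.sum_empty, zero_add, pow_zero,
      pow_one] at h0
    have hc2 : (minpoly k x).coeff 2 = 1 := by rw [← hdeg]; exact hmon.coeff_natDegree
    rw [hc2, one_smul, sq] at h0
    rw [← h0]
    abel
  set h : k := c₁ / 2 with hh
  set i : D := x + h • (1 : D) with hi_def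
  set a : k := h * h - c₀ with ha_def
  have hc : c₁ = h + h := by
    rw [hh]; field_simp; ring
  have hii : i * i = a • (1 : D) := by
    have e : i * i = (x * x + c₁ • x + c₀ • (1 : D)) + a • (1 : D) := by
      simp only [hi_def, ha_def, add_mul, mul_add, smul_mul_assoc, mul_smul_comm, one_mul, mul_one]
      rw [hc]
      module
    rw [e, heq, zero_add]
  have hi : i ∉ (algebraMap k D).range := by
    rintro ⟨c, hc'⟩
    apply hx
    refine ⟨c - h, ?_⟩
    rw [map_sub, hc', hi_def, Algebra.algebraMap_eq_smul_one]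
    abel
  have hy : ∃ y : D, i * y ≠ y * i := by
    by_contra hall
    push Not at hall
    have hcen : i ∈ Subalgebra.center k D := by
      rw [Subalgebra.mem_center_iff]
      intro b
      exact (hall b).symm
    have := Algebra.IsCentral.out hcen
    exact hi (Algebra.mem_bot.mp this)
  obtain ⟨y, hy⟩ := hy
  set j : D := i * y - y * i with hj_def
  have hj : j ≠ 0 := sub_ne_zero.mpr hy
  have e1 : i * j = a • y - i * y * i := by
    rw [hj_def, mul_sub, ← mul_assoc, ← mul_assoc, hii, smul_mul_assoc, one_mul]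
  have e2 : j * i = i * y * i - a • y := by
    rw [hj_def, sub_mul, mul_assoc y i i, hii, mul_smul_comm, mul_one]
  have hij : i * j = -(j * i) := by rw [e1, e2]; abel
  have hji : j * i = -(i * j) := by rw [hij, neg_neg]
  -- spanning
  let Φ : (Fin 4 → k) →ₗ[k] D := Fintype.linearCombination k ![(1 : D), i, j, i * j]
  have hΦ : ∀ c : Fin 4 → k, Φ c = c 0 • (1 : D) + c 1 • i + c 2 • j + c 3 • (i * j) := by
    intro c
    simp only [Φ, Fintype.linearCombination_apply, Fin.sum_univ_four]
    rfl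
  have hΦinj : Function.Injective Φ := by
    rw [← LinearMap.ker_eq_bot, LinearMap.ker_eq_bot']
    intro c hc0
    rw [hΦ] at hc0
    obtain ⟨h0, h1, h2', h3⟩ := li_aux k D h2 i j hij hi hj _ _ _ _ hc0
    funext t
    fin_cases t <;> simpa
  have hΦsurj : Function.Surjective Φ :=
    (LinearMap.injective_iff_surjective_of_finrank_eq_finrank
      (by rw [Module.finrank_fin_fun, hD])).mp hΦinj
  -- `j * j` is central
  have hci : Commute (j * j) i := by
    show j * j * i = i * (j * j)
    rw [mul_assoc, hji, mul_neg, ← mul_assoc, hji, neg_mul, neg_neg, mul_assoc]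
  have hcj : Commute (j * j) j := (Commute.refl j).mul_left (Commute.refl j)
  have hcen : j * j ∈ Subalgebra.center k D := by
    rw [Subalgebra.mem_center_iff]
    intro z
    obtain ⟨c, rfl⟩ := hΦsurj z
    rw [hΦ]
    have : Commute (j * j) (c 0 • (1 : D) + c 1 • i + c 2 • j + c 3 • (i * j)) :=
      (((Commute.one_right _).smul_right _ |>.add_right (hci.smul_right _)).add_right
        (hcj.smul_right _)).add_right ((hci.mul_right hcj).smul_right _)
    exact this.eq.symm
  obtain ⟨b, hb⟩ := Algebra.mem_bot.mp (Algebra.IsCentral.out hcen)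
  let q : QuaternionAlgebra.Basis D a 0 b :=
    { i := i
      j := j
      k := i * j
      i_mul_i := by rw [hii, zero_smul, add_zero]
      j_mul_j := by rw [← hb, Algebra.algebraMap_eq_smul_one]
      i_mul_j := rfl
      j_mul_i := by rw [zero_smul, zero_sub, hji] }
  have hq : ∀ z : QuaternionAlgebra k a 0 b, q.liftHom z
      = z.re • (1 : D) + z.imI • i + z.imJ • j + z.imK • (i * j) := by
    intro z
    rw [QuaternionAlgebra.Basis.liftHom_apply, QuaternionAlgebra.Basis.lift,
      Algebra.algebraMap_eq_smul_one]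
  have hinj : Function.Injective q.liftHom := by
    rw [injective_iff_map_eq_zero]
    intro z hz
    rw [hq] at hz
    obtain ⟨h0, h1, h2', h3⟩ := li_aux k D h2 i j hij hi hj _ _ _ _ hz
    exact QuaternionAlgebra.ext h0 h1 h2' h3
  have hsurj : Function.Surjective q.liftHom := by
    intro z
    obtain ⟨c, rfl⟩ := hΦsurj z
    refine ⟨⟨c 0, c 1, c 2, c 3⟩, ?_⟩
    rw [hq, hΦ]
  exact ⟨a, b, ⟨(AlgEquiv.ofBijective q.liftHom ⟨hinj, hsurj⟩).symm⟩⟩

end quat
section assembly
variable (k : Type u) [Field k]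

/-- a quaternion algebra all of whose nonzero elements are units is a division ring -/
@[reducible] noncomputable def quatDiv (a b : k)
    (hu : ∀ x : QuaternionAlgebra k a 0 b, x ≠ 0 → IsUnit x) :
    DivisionRing (QuaternionAlgebra k a 0 b) :=
  DivisionRing.ofIsUnitOrEqZero (fun x => by
    by_cases h : x = 0
    · exact Or.inr h
    · exact Or.inl (hu x h))

variable (A : Type v) [Ring A] [Algebra k A] [Algebra.IsCentral k A] [IsSimpleRing A]
  [FiniteDimensional k A]

theorem ne_zero_of_algEquiv_matrix {R : Type w} [Ring R] [Algebra k R] (m : ℕ)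
    (e : A ≃ₐ[k] Matrix (Fin m) (Fin m) R) : m ≠ 0 := by
  rintro rfl
  have : Subsingleton (Matrix (Fin 0) (Fin 0) R) := inferInstance
  have : Subsingleton A := e.toEquiv.subsingleton
  exact not_subsingleton A this

theorem isIndex_two_of_quat (a b : k) (m : ℕ)
    (hu : ∀ x : QuaternionAlgebra k a 0 b, x ≠ 0 → IsUnit x)
    (e : A ≃ₐ[k] Matrix (Fin m) (Fin m) (QuaternionAlgebra k a 0 b)) :
    CSAGal.IsIndex k A 2 := by
  let _ := quatDiv k a b hu
  have hm : m ≠ 0 := ne_zero_of_algEquiv_matrix k A m e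
  obtain ⟨d, hd⟩ := Groth.Agent.Lib.helper12.CSA.exists_isIndex k A
  obtain ⟨m', D', _, _, _, _, hm', hd0, hdim, ⟨e'⟩⟩ :=
    Groth.Agent.Lib.helper12.CSA.IsIndex.elim' hd
  obtain ⟨t⟩ := Groth.Agent.S0193.main k (QuaternionAlgebra k a 0 b) D' m m' hm hm'
    (e.symm.trans e')
  have h1 := t.toLinearEquiv.finrank_eq
  rw [QuaternionAlgebra.finrank_eq_four, hdim] at h1
  have hd2 : d = 2 := by
    have : d ^ 2 = 2 ^ 2 := by rw [← h1]; norm_num
    exact Nat.pow_left_injective (n := 2) (by norm_num) this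
  rw [← hd2]
  exact hd

theorem isPeriod_two_of_isIndex_two (hidx : CSAGal.IsIndex k A 2) : CSAGal.IsPeriod k A 2 := by
  obtain ⟨m, D, _, _, _, _, hm, hd0, hdim, ⟨e⟩⟩ :=
    Groth.Agent.Lib.helper12.CSA.IsIndex.elim' hidx
  refine ⟨by norm_num,
    Groth.Agent.Lib.helper12.PerInd.splits_tpow_index k A D m e 2 hdim 2 dvd_rfl, ?_⟩
  intro e' h0 h1 hs
  have he' : e' = 1 := by omega
  subst he'
  have := Groth.Agent.Lib.helper12.PerInd.index_dvd_pow k A 2 1 hidx one_pos hs
  norm_num at this

theorem main (h2 : (2 : k) ≠ 0) :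
    ((CSAGal.IsPeriod k A 2 ∧ CSAGal.IsIndex k A 2) ↔
      ∃ (a b : k) (m : ℕ), 0 < m ∧ (∀ x : QuaternionAlgebra k a 0 b, x ≠ 0 → IsUnit x) ∧
        Nonempty (A ≃ₐ[k] Matrix (Fin m) (Fin m) (QuaternionAlgebra k a 0 b))) ∧
    (∀ (a b a' b' : k) (m m' : ℕ),
      (∀ x : QuaternionAlgebra k a 0 b, x ≠ 0 → IsUnit x) →
      (∀ x : QuaternionAlgebra k a' 0 b', x ≠ 0 → IsUnit x) →
      Nonempty (A ≃ₐ[k] Matrix (Fin m) (Fin m) (QuaternionAlgebra k a 0 b)) →
      Nonempty (A ≃ₐ[k] Matrix (Fin m') (Fin m') (QuaternionAlgebra k a' 0 b')) →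
      Nonempty (QuaternionAlgebra k a 0 b ≃ₐ[k] QuaternionAlgebra k a' 0 b')) := by
  classical
  refine ⟨⟨?_, ?_⟩, ?_⟩
  · rintro ⟨_, hidx⟩
    obtain ⟨m, D, _, _, _, _, hm, hd0, hdim, ⟨e⟩⟩ :=
      Groth.Agent.Lib.helper12.CSA.IsIndex.elim' hidx
    obtain ⟨a, b, ⟨t⟩⟩ := exists_quaternion_iso k D h2 (by rw [hdim]; norm_num)
    refine ⟨a, b, m, Nat.pos_of_ne_zero hm, ?_, ⟨e.trans (AlgEquiv.mapMatrix t)⟩⟩
    intro z hz
    have hne : t.symm z ≠ 0 := by
      intro h
      apply hz
      rw [← t.apply_symm_apply z, h, map_zero]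
    have hu : IsUnit (t.symm z) := isUnit_iff_ne_zero.mpr hne
    have := hu.map t
    rwa [t.apply_symm_apply] at this
  · rintro ⟨a, b, m, hm, hunit, ⟨e⟩⟩
    have hidx : CSAGal.IsIndex k A 2 := isIndex_two_of_quat k A a b m hunit e
    exact ⟨isPeriod_two_of_isIndex_two k A hidx, hidx⟩
  · rintro a b a' b' m m' hu hu' ⟨e⟩ ⟨e'⟩
    let _ := quatDiv k a b hu
    let _ := quatDiv k a' b' hu'
    have hm : m ≠ 0 := ne_zero_of_algEquiv_matrix k A m e
    have hm' : m' ≠ 0 := ne_zero_of_algEquiv_matrix k A m' e'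
    exact Groth.Agent.S0193.main k (QuaternionAlgebra k a 0 b) (QuaternionAlgebra k a' 0 b')
      m m' hm hm' (e.symm.trans e')

end assembly


end helpers

/-- Let k be a field in which 2 ≠ 0 and A a finite-dimensional central simple k-algebra. Then A has
period 2 and index 2 (its Severi–Brauer variety has type (2, 2, 2m)) if and only if A is isomorphic
over k to a matrix algebra M_m(Q), m ≥ 1, over a quaternion algebra Q = (a, b)_k (the k-algebra with
basis 1, i, j, ij, i² = a, j² = b, ij = −ji) which is a division ring; moreover such a quaternion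
algebra is unique up to k-isomorphism. -/
theorem result (k : Type u) [Field k] (h2 : (2 : k) ≠ 0)
    (A : Type v) [Ring A] [Algebra k A] [Algebra.IsCentral k A] [IsSimpleRing A]
    [FiniteDimensional k A] :
    ((CSAGal.IsPeriod k A 2 ∧ CSAGal.IsIndex k A 2) ↔
      ∃ (a b : k) (m : ℕ), 0 < m ∧ (∀ x : QuaternionAlgebra k a 0 b, x ≠ 0 → IsUnit x) ∧
        Nonempty (A ≃ₐ[k] Matrix (Fin m) (Fin m) (QuaternionAlgebra k a 0 b))) ∧
    (∀ (a b a' b' : k) (m m' : ℕ),
      (∀ x : QuaternionAlgebra k a 0 b, x ≠ 0 → IsUnit x) →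
      (∀ x : QuaternionAlgebra k a' 0 b', x ≠ 0 → IsUnit x) →
      Nonempty (A ≃ₐ[k] Matrix (Fin m) (Fin m) (QuaternionAlgebra k a 0 b)) →
      Nonempty (A ≃ₐ[k] Matrix (Fin m') (Fin m') (QuaternionAlgebra k a' 0 b')) →
      Nonempty (QuaternionAlgebra k a 0 b ≃ₐ[k] QuaternionAlgebra k a' 0 b')) := by
  exact main k A h2

end Groth.Agent.S14211
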