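import Groth.Statements.S1422
import Mathlib
import Groth.Agent.Lib.Helper13.EL8
import Groth.Agent.Lib.Helper13.WT3
import Groth.Agent.Lib.Helper13.WT4
import Groth.Agent.Lib.Helper13.WT7
-- import your own Groth.Agent.* helpers here

set_option autoImplicit false
universe u
open FlatMor

namespace Groth.Agent.S1422

open AlgebraicGeometry CategoryTheory Limits Groth.Agent.Lib.helper13 Groth.Agent.Lib.helper13.WT in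
/-- Decomposition of a fibre integral over a disjoint union of opens. -/
lemma fibreIntegral_eq_sum {P W : Scheme.{u}} (π : P ⟶ W) (ω : P → ℤ) (A : P.Opens)
    (hA : IsFinite (A.ι ≫ π)) {σ : Type*} [Fintype σ] (B : σ → P.Opens)
    (hB : ∀ s, IsFinite ((B s).ι ≫ π)) (w : W)
    (hcov : ∀ p, π p = w → (p ∈ A ↔ ∃ s, p ∈ B s))
    (hdisj : ∀ p, π p = w → ∀ s s', p ∈ B s → p ∈ B s' → s = s') :
    MoreMor.fibreIntegral (A.ι ≫ π) (fun t ↦ ω (A.ι t)) w =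
      ∑ s, MoreMor.fibreIntegral ((B s).ι ≫ π) (fun t ↦ ω ((B s).ι t)) w := by
  obtain ⟨Ω, _, _, xb, hxb⟩ := exists_geometric_point w
  have e1 := fibreIntegral_eq_geomIntegral π Ω A ω xb w hxb
  have e2 : ∀ s, MoreMor.fibreIntegral ((B s).ι ≫ π) (fun t ↦ ω ((B s).ι t)) w =
      geomIntegral π Ω (B s) ω xb := fun s ↦ by
    haveI := hB s
    exact fibreIntegral_eq_geomIntegral π Ω (B s) ω xb w hxb
  have e3 := geomIntegral_eq_sum π Ω A B ω xb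
    (fun s ↦ by haveI := hB s; exact finite_lifts_open π Ω (B s) xb)
    (fun p hp ↦ hcov p (hp.trans hxb)) (fun p hp ↦ hdisj p (hp.trans hxb))
  exact e1.trans (e3.trans (Finset.sum_congr rfl fun s _ ↦ (e2 s).symm))

open AlgebraicGeometry CategoryTheory Limits Groth.Agent.Lib.helper13 Groth.Agent.Lib.helper13.WT in
/-- Local constancy descends along open refinements of the base. -/
lemma lc_of_refine {X Z W W' : Scheme.{u}} (F : X ⟶ Z) (ω : X → ℤ) (gW : W ⟶ Z) (c : W' ⟶ W)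
    (hc : IsOpenMap c) (U : (pullback F gW).Opens) (hU : IsFinite (U.ι ≫ pullback.snd F gW))
    (w'₀ : W')
    (h : ∃ O' : Set W', IsOpen O' ∧ w'₀ ∈ O' ∧ ∀ w' ∈ O',
      MoreMor.fibreIntegral
        (((EL.refineMap F gW c (c ≫ gW) rfl) ⁻¹ᵁ U).ι ≫ pullback.snd F (c ≫ gW))
        (fun t ↦ ω (pullback.fst F (c ≫ gW) (((EL.refineMap F gW c (c ≫ gW) rfl) ⁻¹ᵁ U).ι t))) w' =
      MoreMor.fibreIntegral
        (((EL.refineMap F gW c (c ≫ gW) rfl) ⁻¹ᵁ U).ι ≫ pullback.snd F (c ≫ gW))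
        (fun t ↦ ω (pullback.fst F (c ≫ gW) (((EL.refineMap F gW c (c ≫ gW) rfl) ⁻¹ᵁ U).ι t)))
        w'₀) :
    ∃ O : Set W, IsOpen O ∧ c w'₀ ∈ O ∧ ∀ w ∈ O,
      MoreMor.fibreIntegral (U.ι ≫ pullback.snd F gW) (fun t ↦ ω (pullback.fst F gW (U.ι t))) w =
      MoreMor.fibreIntegral (U.ι ≫ pullback.snd F gW) (fun t ↦ ω (pullback.fst F gW (U.ι t)))
        (c w'₀) := by
  obtain ⟨O', hO', hw', hconst⟩ := h
  refine ⟨c '' O', hc _ hO', ⟨w'₀, hw', rfl⟩, ?_⟩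
  rintro _ ⟨w', hw'O, rfl⟩
  rw [← fibreIntegral_refine F ω gW c (c ≫ gW) rfl U hU w',
    ← fibreIntegral_refine F ω gW c (c ≫ gW) rfl U hU w'₀]
  exact hconst w' hw'O

open AlgebraicGeometry CategoryTheory Limits Groth.Agent.Lib.helper13 Groth.Agent.Lib.helper13.WT in
/-- The main local computation for the composition of weightings. -/
lemma aux2 {X Y Z : Scheme.{u}} (f : X ⟶ Y) (g : Y ⟶ Z) (wf : ↑X → ℤ) (wg : ↑Y → ℤ)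
    (hf : MoreMor.IsWeighting f wf) (hg : MoreMor.IsWeighting g wg)
    {W : Scheme.{u}} (gW : W ⟶ Z) [Etale gW] (U : (pullback (f ≫ g) gW).Opens)
    (hfinU : IsFinite (U.ι ≫ pullback.snd (f ≫ g) gW)) (w₀ : W)
    {n : ℕ} (x : Fin n → X) (hxinj : Function.Injective x)
    (hximg : ∀ p ∈ U, pullback.snd (f ≫ g) gW p = w₀ → ∃ i, x i = pullback.fst (f ≫ g) gW p)
    {n' : ℕ} (y : Fin n' → Y) (hyimg : ∀ i, ∃ k, y k = f (x i))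
    {Z₁ : Scheme.{u}} (gZ₁ : Z₁ ⟶ Z) (z₁ : Z₁) (J₁ : Fin n → Type) [∀ i, Finite (J₁ i)]
    (Vo : ∀ i, J₁ i → (pullback (f ≫ g) gZ₁).Opens) (vp : ∀ i, J₁ i → ↑(pullback (f ≫ g) gZ₁))
    (hgood₁ : ∀ i j, EL.IsGoodOpen (f ≫ g) gZ₁ z₁ (x i) (Vo i j) (vp i j))
    (hPI₁ : ∀ i j, ((pullback.snd (f ≫ g) gZ₁).residueFieldMap (vp i j)).hom.IsPurelyInseparable)
    (hinj₁ : ∀ i, Function.Injective (vp i))
    (hex₁ : ∀ (q : ↑(pullback (f ≫ g) gZ₁)) (i : Fin n), pullback.snd (f ≫ g) gZ₁ q = z₁ →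
      pullback.fst (f ≫ g) gZ₁ q = x i → ∃ j, q = vp i j)
    {Z₂ : Scheme.{u}} (gZ₂ : Z₂ ⟶ Z) (z₂ : Z₂) (J₂ : Fin n' → Type)
    (To : ∀ k, J₂ k → (pullback g gZ₂).Opens) (tp : ∀ k, J₂ k → ↑(pullback g gZ₂))
    (hgood₂ : ∀ k j, EL.IsGoodOpen g gZ₂ z₂ (y k) (To k j) (tp k j))
    (hPI₂ : ∀ k j, ((pullback.snd g gZ₂).residueFieldMap (tp k j)).hom.IsPurelyInseparable)
    (hex₂ : ∀ (q : ↑(pullback g gZ₂)) (k : Fin n'), pullback.snd g gZ₂ q = z₂ →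
      pullback.fst g gZ₂ q = y k → ∃ j, q = tp k j)
    {W' : Scheme.{u}} (c : W' ⟶ W) [Etale c] (d₁ : W' ⟶ Z₁) (d₂ : W' ⟶ Z₂)
    (h₁ : d₁ ≫ gZ₁ = c ≫ gW) (h₂ : d₂ ≫ gZ₂ = c ≫ gW)
    (w'₀ : W') (hcw : c w'₀ = w₀) (hd₁ : d₁ w'₀ = z₁) (hd₂ : d₂ w'₀ = z₂) :
    ∃ O' : Set W', IsOpen O' ∧ w'₀ ∈ O' ∧ ∀ w' ∈ O',
      MoreMor.fibreIntegral
        (((EL.refineMap (f ≫ g) gW c (c ≫ gW) rfl) ⁻¹ᵁ U).ι ≫ pullback.snd (f ≫ g) (c ≫ gW))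
        (fun t ↦ (fun x ↦ wf x * wg (f x)) (pullback.fst (f ≫ g) (c ≫ gW)
          (((EL.refineMap (f ≫ g) gW c (c ≫ gW) rfl) ⁻¹ᵁ U).ι t))) w' =
      MoreMor.fibreIntegral
        (((EL.refineMap (f ≫ g) gW c (c ≫ gW) rfl) ⁻¹ᵁ U).ι ≫ pullback.snd (f ≫ g) (c ≫ gW))
        (fun t ↦ (fun x ↦ wf x * wg (f x)) (pullback.fst (f ≫ g) (c ≫ gW)
          (((EL.refineMap (f ≫ g) gW c (c ≫ gW) rfl) ⁻¹ᵁ U).ι t))) w'₀ := by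
  classical
  -- the maps
  obtain ⟨π', hπ'⟩ : ∃ π' : pullback (f ≫ g) (c ≫ gW) ⟶ W', π' = pullback.snd (f ≫ g) (c ≫ gW) :=
    ⟨_, rfl⟩
  obtain ⟨πY', hπY'⟩ : ∃ πY' : pullback g (c ≫ gW) ⟶ W', πY' = pullback.snd g (c ≫ gW) := ⟨_, rfl⟩
  obtain ⟨r, hr⟩ : ∃ r : pullback (f ≫ g) (c ≫ gW) ⟶ pullback (f ≫ g) gW,
    r = EL.refineMap (f ≫ g) gW c (c ≫ gW) rfl := ⟨_, rfl⟩
  have hrfst : ∀ p, pullback.fst (f ≫ g) gW (r p) = pullback.fst (f ≫ g) (c ≫ gW) p := by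
    intro p; rw [hr]; exact EL.refineMap_fst_apply _ _ _ _ _ p
  have hrsnd : ∀ p, pullback.snd (f ≫ g) gW (r p) = c (π' p) := by
    intro p; rw [hr, hπ']; exact EL.refineMap_snd_apply _ _ _ _ _ p
  obtain ⟨ρ₁, hρ₁⟩ : ∃ ρ₁ : pullback (f ≫ g) (c ≫ gW) ⟶ pullback (f ≫ g) gZ₁,
    ρ₁ = EL.refineMap (f ≫ g) gZ₁ d₁ (c ≫ gW) h₁ := ⟨_, rfl⟩
  have sq₁ : IsPullback ρ₁ π' (pullback.snd (f ≫ g) gZ₁) d₁ := by
    rw [hρ₁, hπ']; exact EL.isPullback_refineMap _ _ _ _ _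
  have hρ₁fst : ∀ p, pullback.fst (f ≫ g) gZ₁ (ρ₁ p) = pullback.fst (f ≫ g) (c ≫ gW) p := by
    intro p; rw [hρ₁]; exact EL.refineMap_fst_apply _ _ _ _ _ p
  have hρ₁snd : ∀ p, pullback.snd (f ≫ g) gZ₁ (ρ₁ p) = d₁ (π' p) := by
    intro p; rw [hρ₁, hπ']; exact EL.refineMap_snd_apply _ _ _ _ _ p
  obtain ⟨ρ₂, hρ₂⟩ : ∃ ρ₂ : pullback g (c ≫ gW) ⟶ pullback g gZ₂,
    ρ₂ = EL.refineMap g gZ₂ d₂ (c ≫ gW) h₂ := ⟨_, rfl⟩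
  have sq₂ : IsPullback ρ₂ πY' (pullback.snd g gZ₂) d₂ := by
    rw [hρ₂, hπY']; exact EL.isPullback_refineMap _ _ _ _ _
  have hρ₂fst : ∀ q, pullback.fst g gZ₂ (ρ₂ q) = pullback.fst g (c ≫ gW) q := by
    intro q; rw [hρ₂]; exact EL.refineMap_fst_apply _ _ _ _ _ q
  have hρ₂snd : ∀ q, pullback.snd g gZ₂ (ρ₂ q) = d₂ (πY' q) := by
    intro q; rw [hρ₂, hπY']; exact EL.refineMap_snd_apply _ _ _ _ _ q
  obtain ⟨φ', hφ'⟩ : ∃ φ' : pullback (f ≫ g) (c ≫ gW) ⟶ pullback g (c ≫ gW),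
    φ' = mapComp f g (c ≫ gW) := ⟨_, rfl⟩
  have hφ'fst : ∀ p, pullback.fst g (c ≫ gW) (φ' p) = f (pullback.fst (f ≫ g) (c ≫ gW) p) := by
    intro p; rw [hφ']; exact mapComp_fst_apply _ _ _ p
  have hφ'snd : ∀ p, πY' (φ' p) = π' p := by
    intro p; rw [hφ', hπY', hπ']; exact mapComp_snd_apply _ _ _ p
  -- the opens
  obtain ⟨A, hA⟩ : ∃ A : (pullback (f ≫ g) (c ≫ gW)).Opens, A = r ⁻¹ᵁ U := ⟨_, rfl⟩
  have hfinA : IsFinite (A.ι ≫ π') := by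
    rw [hA, hr, hπ']; exact EL.isFinite_refine _ _ _ _ _ U hfinU
  let B : (Σ i, J₁ i) → (pullback (f ≫ g) (c ≫ gW)).Opens := fun s ↦ ρ₁ ⁻¹ᵁ (Vo s.1 s.2)
  have hfinB : ∀ s, IsFinite ((B s).ι ≫ π') := fun s ↦
    isFinite_preimage_of_isPullback sq₁ _ (hgood₁ s.1 s.2).finite
  let Cc : (Σ k, J₂ k) → (pullback g (c ≫ gW)).Opens := fun t ↦ ρ₂ ⁻¹ᵁ (To t.1 t.2)
  have hfinC : ∀ t, IsFinite ((Cc t).ι ≫ πY') := fun t ↦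
    isFinite_preimage_of_isPullback sq₂ _ (hgood₂ t.1 t.2).finite
  have hfinA0 : IsFinite (A.ι ≫ pullback.snd (f ≫ g) (c ≫ gW)) := hπ' ▸ hfinA
  have hfinB0 : ∀ s, IsFinite ((B s).ι ≫ pullback.snd (f ≫ g) (c ≫ gW)) := fun s ↦ hπ' ▸ hfinB s
  have hfinC0 : ∀ t, IsFinite ((Cc t).ι ≫ pullback.snd g (c ≫ gW)) := fun t ↦ hπY' ▸ hfinC t
  -- the fibre over `w'₀`
  have hρ₁pt : ∀ s : Σ i, J₁ i, ∀ p ∈ B s, π' p = w'₀ → ρ₁ p = vp s.1 s.2 := by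
    intro s p hp hπp
    exact (hgood₁ s.1 s.2).uniq (ρ₁ p) hp (by rw [hρ₁snd, hπp, hd₁])
  have huniqB : ∀ s : Σ i, J₁ i, ∀ p ∈ B s, ∀ p' ∈ B s, π' p = w'₀ → π' p' = w'₀ → p = p' := by
    intro s p hp p' hp' hπp hπp'
    have e1 := hρ₁pt s p hp hπp
    have e2 := hρ₁pt s p' hp' hπp'
    exact eq_of_isPullback_of_isPurelyInseparable sq₁ p p' (e1.trans e2.symm)
      (hπp.trans hπp'.symm) (by rw [e1]; exact hPI₁ s.1 s.2)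
  have hρ₂pt : ∀ t : Σ k, J₂ k, ∀ q ∈ Cc t, πY' q = w'₀ → ρ₂ q = tp t.1 t.2 := by
    intro t q hq hπq
    exact (hgood₂ t.1 t.2).uniq (ρ₂ q) hq (by rw [hρ₂snd, hπq, hd₂])
  have huniqC : ∀ t : Σ k, J₂ k, ∀ q ∈ Cc t, ∀ q' ∈ Cc t, πY' q = w'₀ → πY' q' = w'₀ → q = q' := by
    intro t q hq q' hq' hπq hπq'
    have e1 := hρ₂pt t q hq hπq
    have e2 := hρ₂pt t q' hq' hπq'
    exact eq_of_isPullback_of_isPurelyInseparable sq₂ q q' (e1.trans e2.symm)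
      (hπq.trans hπq'.symm) (by rw [e1]; exact hPI₂ t.1 t.2)
  let σ := {s : Σ i, J₁ i // ∃ p, p ∈ B s ∧ π' p = w'₀ ∧ p ∈ A}
  have : Finite σ := inferInstanceAs (Finite {s : Σ i, J₁ i // ∃ p, p ∈ B s ∧ π' p = w'₀ ∧ p ∈ A})
  have ha : ∀ s : σ, ∀ p ∈ B s.1, π' p = w'₀ → p ∈ A := by
    rintro ⟨s, p₀, hp₀B, hp₀π, hp₀A⟩ p hp hπp
    rw [huniqB s p hp p₀ hp₀B hπp hp₀π]; exact hp₀A
  have hb : ∀ s s' : σ, ∀ p, π' p = w'₀ → p ∈ B s.1 → p ∈ B s'.1 → s = s' := by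
    rintro ⟨⟨i, j⟩, hs⟩ ⟨⟨i', j'⟩, hs'⟩ p hπp hp hp'
    have e1 := hρ₁pt ⟨i, j⟩ p hp hπp
    have e2 := hρ₁pt ⟨i', j'⟩ p hp' hπp
    have e3 : vp i j = vp i' j' := e1.symm.trans e2
    have hi : i = i' := hxinj (by rw [← (hgood₁ i j).fst_eq, ← (hgood₁ i' j').fst_eq, e3])
    subst hi
    have hj : j = j' := hinj₁ i e3
    subst hj
    rfl
  have hc' : ∀ p ∈ A, π' p = w'₀ → ∃ s : σ, p ∈ B s.1 := by
    intro p hpA hπp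
    have hpU : r p ∈ U := by rw [hA] at hpA; exact hpA
    have h1 : pullback.snd (f ≫ g) gW (r p) = w₀ := by rw [hrsnd, hπp, hcw]
    obtain ⟨i, hi⟩ := hximg (r p) hpU h1
    have h2 : pullback.fst (f ≫ g) gZ₁ (ρ₁ p) = x i := by rw [hi, hρ₁fst, hrfst]
    obtain ⟨j, hj⟩ := hex₁ (ρ₁ p) i (by rw [hρ₁snd, hπp, hd₁]) h2
    have hpB : p ∈ B ⟨i, j⟩ := by
      show ρ₁ p ∈ Vo i j
      rw [hj]; exact (hgood₁ i j).mem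
    exact ⟨⟨⟨i, j⟩, p, hpB, hπp, hpA⟩, hpB⟩
  haveI := hfinA
  obtain ⟨N₁, hN₁₀, hN₁⟩ := exists_nbhd_decomposition π' A (fun s : σ ↦ B s.1)
    (fun s ↦ hfinB s.1) w'₀ ha hb hc'
  -- the map `τ`
  have hτ : ∀ s : σ, ∃ t : Σ k, J₂ k, ∀ p ∈ B s.1, π' p = w'₀ → φ' p ∈ Cc t := by
    rintro ⟨⟨i, j⟩, p₀, hp₀B, hp₀π, hp₀A⟩
    obtain ⟨k, hk⟩ := hyimg i
    have e1 : pullback.fst (f ≫ g) (c ≫ gW) p₀ = x i := by
      rw [← hρ₁fst, hρ₁pt ⟨i, j⟩ p₀ hp₀B hp₀π]; exact (hgood₁ i j).fst_eq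
    have e2 : pullback.fst g gZ₂ (ρ₂ (φ' p₀)) = y k := by rw [hρ₂fst, hφ'fst, e1, hk]
    obtain ⟨j', hj'⟩ := hex₂ (ρ₂ (φ' p₀)) k (by rw [hρ₂snd, hφ'snd, hp₀π, hd₂]) e2
    refine ⟨⟨k, j'⟩, fun p hp hπp ↦ ?_⟩
    rw [huniqB ⟨i, j⟩ p hp p₀ hp₀B hπp hp₀π]
    show ρ₂ (φ' p₀) ∈ To k j'
    rw [hj']; exact (hgood₂ k j').mem
  choose τ hτ using hτ
  -- `N₂`
  have hcl : ∀ s : σ, IsClosed (π' '' ((B s.1 : Set ↑(pullback (f ≫ g) (c ≫ gW))) ∩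
      ((φ' ⁻¹ᵁ Cc (τ s) : (pullback (f ≫ g) (c ≫ gW)).Opens) :
        Set ↑(pullback (f ≫ g) (c ≫ gW)))ᶜ)) := fun s ↦ by
    haveI := hfinB s.1
    exact isClosed_image_inter π' (B s.1) _ (φ' ⁻¹ᵁ Cc (τ s)).2.isClosed_compl
  let N₂ : W'.Opens := ⟨(⋃ s : σ, π' '' ((B s.1 : Set ↑(pullback (f ≫ g) (c ≫ gW))) ∩
      ((φ' ⁻¹ᵁ Cc (τ s) : (pullback (f ≫ g) (c ≫ gW)).Opens) :
        Set ↑(pullback (f ≫ g) (c ≫ gW)))ᶜ))ᶜ, (isClosed_iUnion_of_finite hcl).isOpen_compl⟩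
  have hN₂₀ : w'₀ ∈ N₂ := by
    show w'₀ ∉ ⋃ s : σ, π' '' ((B s.1 : Set ↑(pullback (f ≫ g) (c ≫ gW))) ∩
      ((φ' ⁻¹ᵁ Cc (τ s) : (pullback (f ≫ g) (c ≫ gW)).Opens) :
        Set ↑(pullback (f ≫ g) (c ≫ gW)))ᶜ)
    rw [Set.mem_iUnion]
    rintro ⟨s, p, ⟨hpB, hpC⟩, hπp⟩
    exact hpC (hτ s p hpB hπp)
  have hN₂ : ∀ s : σ, ∀ p ∈ B s.1, π' p ∈ N₂ → φ' p ∈ Cc (τ s) := by
    intro s p hpB hpN
    by_contra hpC
    apply hpN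
    exact Set.mem_iUnion.mpr ⟨s, p, ⟨hpB, hpC⟩, rfl⟩
  -- re-basing to `N`
  obtain ⟨N, hNdef⟩ : ∃ N : W'.Opens, N = N₁ ⊓ N₂ := ⟨_, rfl⟩
  have hNle₁ : ∀ w' ∈ N, w' ∈ N₁ := fun w' hw' ↦ by rw [hNdef] at hw'; exact hw'.1
  have hNle₂ : ∀ w' ∈ N, w' ∈ N₂ := fun w' hw' ↦ by rw [hNdef] at hw'; exact hw'.2
  have hw'₀N : w'₀ ∈ N := by rw [hNdef]; exact ⟨hN₁₀, hN₂₀⟩
  obtain ⟨π'', hπ''⟩ : ∃ π'' : pullback (f ≫ g) (N.ι ≫ c ≫ gW) ⟶ N.toScheme,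
    π'' = pullback.snd (f ≫ g) (N.ι ≫ c ≫ gW) := ⟨_, rfl⟩
  obtain ⟨πY'', hπY''⟩ : ∃ πY'' : pullback g (N.ι ≫ c ≫ gW) ⟶ N.toScheme,
    πY'' = pullback.snd g (N.ι ≫ c ≫ gW) := ⟨_, rfl⟩
  obtain ⟨r', hr'⟩ : ∃ r' : pullback (f ≫ g) (N.ι ≫ c ≫ gW) ⟶ pullback (f ≫ g) (c ≫ gW),
    r' = EL.refineMap (f ≫ g) (c ≫ gW) N.ι (N.ι ≫ c ≫ gW) rfl := ⟨_, rfl⟩
  have hr'snd : ∀ p, π' (r' p) = N.ι (π'' p) := by
    intro p; rw [hr', hπ', hπ'']; exact EL.refineMap_snd_apply _ _ _ _ _ p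
  obtain ⟨rY', hrY'⟩ : ∃ rY' : pullback g (N.ι ≫ c ≫ gW) ⟶ pullback g (c ≫ gW),
    rY' = EL.refineMap g (c ≫ gW) N.ι (N.ι ≫ c ≫ gW) rfl := ⟨_, rfl⟩
  have hrY'snd : ∀ q, πY' (rY' q) = N.ι (πY'' q) := by
    intro q; rw [hrY', hπY', hπY'']; exact EL.refineMap_snd_apply _ _ _ _ _ q
  have hrY'inj : Function.Injective rY' := by
    have : IsOpenImmersion rY' := by
      rw [hrY']; unfold EL.refineMap; infer_instance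
    exact rY'.isOpenEmbedding.injective
  have hnat : ∀ p, rY' (mapComp f g (N.ι ≫ c ≫ gW) p) = φ' (r' p) := by
    intro p
    rw [hrY', hφ', hr', ← Scheme.Hom.comp_apply, ← Scheme.Hom.comp_apply,
      refineMap_mapComp f g (c ≫ gW) N.ι (N.ι ≫ c ≫ gW) rfl]
  have hfinA'' : IsFinite ((r' ⁻¹ᵁ A).ι ≫ π'') := by
    rw [hr', hπ'']; exact EL.isFinite_refine _ _ _ _ _ A hfinA0
  have hfinB'' : ∀ s : σ, IsFinite ((r' ⁻¹ᵁ B s.1).ι ≫ π'') := fun s ↦ by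
    rw [hr', hπ'']; exact EL.isFinite_refine _ _ _ _ _ (B s.1) (hfinB0 s.1)
  have hfinC'' : ∀ t, IsFinite ((rY' ⁻¹ᵁ Cc t).ι ≫ πY'') := fun t ↦ by
    rw [hrY', hπY'']; exact EL.isFinite_refine _ _ _ _ _ (Cc t) (hfinC0 t)
  have hπ'N : ∀ p, π' (r' p) ∈ N := fun p ↦ by rw [hr'snd]; exact (π'' p).2
  -- the core lemma for each `s`
  have hcore : ∀ s : σ, ∃ O : Set N.toScheme, IsOpen O ∧ (⟨w'₀, hw'₀N⟩ : N.toScheme) ∈ O ∧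
      ∀ w ∈ O,
      MoreMor.fibreIntegral ((r' ⁻¹ᵁ B s.1).ι ≫ π'')
        (fun t ↦ (fun x ↦ wf x * wg (f x)) (pullback.fst (f ≫ g) (N.ι ≫ c ≫ gW)
          ((r' ⁻¹ᵁ B s.1).ι t))) w =
      MoreMor.fibreIntegral ((r' ⁻¹ᵁ B s.1).ι ≫ π'')
        (fun t ↦ (fun x ↦ wf x * wg (f x)) (pullback.fst (f ≫ g) (N.ι ≫ c ≫ gW)
          ((r' ⁻¹ᵁ B s.1).ι t))) ⟨w'₀, hw'₀N⟩ := by
    intro s
    have hBC : ∀ p ∈ r' ⁻¹ᵁ B s.1, mapComp f g (N.ι ≫ c ≫ gW) p ∈ rY' ⁻¹ᵁ Cc (τ s) := by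
      intro p hp
      show rY' (mapComp f g (N.ι ≫ c ≫ gW) p) ∈ Cc (τ s)
      rw [hnat]
      exact hN₂ s (r' p) hp (hNle₂ _ (hπ'N p))
    have hC₀ : ∀ q ∈ rY' ⁻¹ᵁ Cc (τ s), ∀ q' ∈ rY' ⁻¹ᵁ Cc (τ s),
        pullback.snd g (N.ι ≫ c ≫ gW) q = ⟨w'₀, hw'₀N⟩ →
        pullback.snd g (N.ι ≫ c ≫ gW) q' = ⟨w'₀, hw'₀N⟩ → q = q' := by
      intro q hq q' hq' hπq hπq'
      apply hrY'inj
      refine huniqC (τ s) _ hq _ hq' ?_ ?_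
      · rw [hrY'snd, hπY'', hπq]; rfl
      · rw [hrY'snd, hπY'', hπq']; rfl
    have hB'' := hfinB'' s
    have hC'' := hfinC'' (τ s)
    rw [hπ''] at hB''
    rw [hπY''] at hC''
    have := exists_nbhd_const_of_mapsTo f g wf wg hf hg (N.ι ≫ c ≫ gW) (r' ⁻¹ᵁ B s.1) hB''
      (rY' ⁻¹ᵁ Cc (τ s)) hC'' hBC ⟨w'₀, hw'₀N⟩ hC₀
    rw [hπ'']
    exact this
  choose O hOopen hOmem hOconst using hcore
  have := Fintype.ofFinite σ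
  -- decomposition of the integral over `N`
  have hdec : ∀ w : N.toScheme,
      MoreMor.fibreIntegral ((r' ⁻¹ᵁ A).ι ≫ π'')
        (fun t ↦ (fun x ↦ wf x * wg (f x)) (pullback.fst (f ≫ g) (N.ι ≫ c ≫ gW)
          ((r' ⁻¹ᵁ A).ι t))) w =
      ∑ s : σ, MoreMor.fibreIntegral ((r' ⁻¹ᵁ B s.1).ι ≫ π'')
        (fun t ↦ (fun x ↦ wf x * wg (f x)) (pullback.fst (f ≫ g) (N.ι ≫ c ≫ gW)
          ((r' ⁻¹ᵁ B s.1).ι t))) w := by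
    intro w
    refine fibreIntegral_eq_sum π'' (fun p ↦ (fun x ↦ wf x * wg (f x))
      (pullback.fst (f ≫ g) (N.ι ≫ c ≫ gW) p)) (r' ⁻¹ᵁ A) hfinA'' (fun s : σ ↦ r' ⁻¹ᵁ B s.1)
      hfinB'' w ?_ ?_
    · intro p _
      exact (hN₁ (r' p) (hNle₁ _ (hπ'N p))).1
    · intro p _ s s' hs hs'
      exact (hN₁ (r' p) (hNle₁ _ (hπ'N p))).2 s s' hs hs'
  -- local constancy over `N`
  have hlcN : ∃ O' : Set N.toScheme, IsOpen O' ∧ (⟨w'₀, hw'₀N⟩ : N.toScheme) ∈ O' ∧ ∀ w ∈ O',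
      MoreMor.fibreIntegral ((r' ⁻¹ᵁ A).ι ≫ π'')
        (fun t ↦ (fun x ↦ wf x * wg (f x)) (pullback.fst (f ≫ g) (N.ι ≫ c ≫ gW)
          ((r' ⁻¹ᵁ A).ι t))) w =
      MoreMor.fibreIntegral ((r' ⁻¹ᵁ A).ι ≫ π'')
        (fun t ↦ (fun x ↦ wf x * wg (f x)) (pullback.fst (f ≫ g) (N.ι ≫ c ≫ gW)
          ((r' ⁻¹ᵁ A).ι t))) ⟨w'₀, hw'₀N⟩ := by
    refine ⟨⋂ s, O s, isOpen_iInter_of_finite hOopen, Set.mem_iInter.mpr hOmem, fun w hw ↦ ?_⟩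
    rw [hdec w, hdec ⟨w'₀, hw'₀N⟩]
    exact Finset.sum_congr rfl fun s _ ↦ hOconst s w (Set.mem_iInter.mp hw s)
  -- descend to `W'`
  have hfinA' : IsFinite (A.ι ≫ pullback.snd (f ≫ g) (c ≫ gW)) := hfinA0
  have hdesc := lc_of_refine (f ≫ g) (fun x ↦ wf x * wg (f x)) (c ≫ gW) N.ι
    N.ι.isOpenEmbedding.isOpenMap A hfinA' ⟨w'₀, hw'₀N⟩ (by
      rw [hr', hπ''] at hlcN
      exact hlcN)
  rw [hA, hr] at hdesc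
  exact hdesc

open AlgebraicGeometry CategoryTheory Limits in
/-- Let f : X → Y and g : Y → Z be locally quasi-finite with weightings w_f and w_g. Then x ↦ w_f(x) ·
w_g(f x) is a weighting of f ≫ g. -/
theorem result {X Y Z : Scheme.{u}} (f : X ⟶ Y) (g : Y ⟶ Z) [LocallyQuasiFinite f] [LocallyOfFiniteType f] [LocallyQuasiFinite g] [LocallyOfFiniteType g]
    (wf : ↑X → ℤ) (wg : ↑Y → ℤ) (hf : MoreMor.IsWeighting f wf) (hg : MoreMor.IsWeighting g wg) :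
    MoreMor.IsWeighting (f ≫ g) (fun x => wf x * wg (f x)) := by
  classical
  intro W gW _ U hfinU
  rw [IsLocallyConstant.iff_exists_open]
  intro w₀
  -- Step A: the images in `X` and `Y` of the fibre points
  have hfibfin : ((U.ι ≫ pullback.snd (f ≫ g) gW) ⁻¹' {w₀}).Finite :=
    Scheme.Hom.finite_preimage_singleton (U.ι ≫ pullback.snd (f ≫ g) gW) w₀
  let Ximg : Set X := (fun t ↦ pullback.fst (f ≫ g) gW (U.ι t)) ''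
    ((U.ι ≫ pullback.snd (f ≫ g) gW) ⁻¹' {w₀})
  have hXimgfin : Ximg.Finite := hfibfin.image _
  have : Finite Ximg := hXimgfin.to_subtype
  let n := Nat.card Ximg
  let eX : Ximg ≃ Fin n := Finite.equivFin Ximg
  let x : Fin n → X := fun i ↦ (eX.symm i).1
  have hxinj : Function.Injective x := fun i i' hii ↦ eX.symm.injective (Subtype.ext hii)
  have hcomm_pt : ∀ p : ↑(pullback (f ≫ g) gW), (f ≫ g) (pullback.fst (f ≫ g) gW p) =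
      gW (pullback.snd (f ≫ g) gW p) := by
    intro p
    rw [← Scheme.Hom.comp_apply, ← Scheme.Hom.comp_apply, pullback.condition]
  have hxs : ∀ i, (f ≫ g) (x i) = gW w₀ := by
    intro i
    obtain ⟨t, ht, htx⟩ := (eX.symm i).2
    show (f ≫ g) (eX.symm i).1 = gW w₀
    rw [← htx, hcomm_pt]
    have : pullback.snd (f ≫ g) gW (U.ι t) = w₀ := ht
    rw [this]
  have hximg : ∀ p ∈ U, pullback.snd (f ≫ g) gW p = w₀ →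
      ∃ i, x i = pullback.fst (f ≫ g) gW p := by
    intro p hpU hp
    have hmem : pullback.fst (f ≫ g) gW p ∈ Ximg := ⟨⟨p, hpU⟩, hp, rfl⟩
    exact ⟨eX ⟨_, hmem⟩, by simp [x]⟩
  let Yimg : Set Y := Set.range (fun i ↦ f (x i))
  have : Finite Yimg := (Set.finite_range _).to_subtype
  let n' := Nat.card Yimg
  let eY : Yimg ≃ Fin n' := Finite.equivFin Yimg
  let y : Fin n' → Y := fun k ↦ (eY.symm k).1
  have hyinj : Function.Injective y := fun k k' hkk ↦ eY.symm.injective (Subtype.ext hkk)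
  have hyimg : ∀ i, ∃ k, y k = f (x i) := fun i ↦ ⟨eY ⟨f (x i), ⟨i, rfl⟩⟩, by simp [y]⟩
  have hys : ∀ k, g (y k) = gW w₀ := by
    intro k
    obtain ⟨i, hi⟩ := (eY.symm k).2
    show g (eY.symm k).1 = gW w₀
    rw [← hi, ← hxs i, Scheme.Hom.comp_apply]
  -- Step B: the two étale localizations
  haveI : LocallyQuasiFinite (f ≫ g) := inferInstance
  haveI : LocallyOfFiniteType (f ≫ g) := inferInstance
  obtain ⟨Z₁, gZ₁, z₁, hgZ₁, hgz₁, J₁, hJ₁, Vo, vp, hgood₁, hPI₁, hinj₁, hex₁⟩ :=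
    Groth.Agent.Lib.helper13.EL.exists_etale_nbhd_purelyInseparable (f := f ≫ g) (gW w₀) x hxs
      (fun i ↦ (f ≫ g).quasiFiniteAt (x i))
  obtain ⟨Z₂, gZ₂, z₂, hgZ₂, hgz₂, J₂, hJ₂, To, tp, hgood₂, hPI₂, hinj₂, hex₂⟩ :=
    Groth.Agent.Lib.helper13.EL.exists_etale_nbhd_purelyInseparable (f := g) (gW w₀) y hys
      (fun k ↦ g.quasiFiniteAt (y k))
  -- Step C: the common refinement
  obtain ⟨w₁, hw₁c, hw₁d⟩ := Scheme.Pullback.exists_preimage_pullback (f := gW) (g := gZ₁)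
    w₀ z₁ hgz₁.symm
  have hcond₂ : (pullback.fst gW gZ₁ ≫ gW) w₁ = gZ₂ z₂ := by
    rw [Scheme.Hom.comp_apply, hw₁c, hgz₂]
  obtain ⟨w'₀, hw'₀c, hw'₀d⟩ := Scheme.Pullback.exists_preimage_pullback
    (f := pullback.fst gW gZ₁ ≫ gW) (g := gZ₂) w₁ z₂ hcond₂
  have h₁ : (pullback.fst (pullback.fst gW gZ₁ ≫ gW) gZ₂ ≫ pullback.snd gW gZ₁) ≫ gZ₁ =
      (pullback.fst (pullback.fst gW gZ₁ ≫ gW) gZ₂ ≫ pullback.fst gW gZ₁) ≫ gW := by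
    rw [Category.assoc, Category.assoc, pullback.condition]
  have h₂ : pullback.snd (pullback.fst gW gZ₁ ≫ gW) gZ₂ ≫ gZ₂ =
      (pullback.fst (pullback.fst gW gZ₁ ≫ gW) gZ₂ ≫ pullback.fst gW gZ₁) ≫ gW := by
    rw [← pullback.condition, Category.assoc]
  have hmain := aux2 f g wf wg hf hg gW U hfinU w₀ x hxinj hximg y hyimg gZ₁ z₁ J₁ Vo vp hgood₁
    hPI₁ hinj₁ hex₁ gZ₂ z₂ J₂ To tp hgood₂ hPI₂ hex₂
    (pullback.fst (pullback.fst gW gZ₁ ≫ gW) gZ₂ ≫ pullback.fst gW gZ₁)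
    (pullback.fst (pullback.fst gW gZ₁ ≫ gW) gZ₂ ≫ pullback.snd gW gZ₁)
    (pullback.snd (pullback.fst gW gZ₁ ≫ gW) gZ₂) h₁ h₂ w'₀
    (by rw [Scheme.Hom.comp_apply, hw'₀c, hw₁c])
    (by rw [Scheme.Hom.comp_apply, hw'₀c, hw₁d]) hw'₀d
  have hfinal := lc_of_refine (f ≫ g) (fun x ↦ wf x * wg (f x)) gW
    (pullback.fst (pullback.fst gW gZ₁ ≫ gW) gZ₂ ≫ pullback.fst gW gZ₁)
    (pullback.fst (pullback.fst gW gZ₁ ≫ gW) gZ₂ ≫ pullback.fst gW gZ₁).isOpenMap U hfinU w'₀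
    hmain
  have hcw : (pullback.fst (pullback.fst gW gZ₁ ≫ gW) gZ₂ ≫ pullback.fst gW gZ₁) w'₀ = w₀ := by
    rw [Scheme.Hom.comp_apply, hw'₀c, hw₁c]
  rw [hcw] at hfinal
  exact hfinal

end Groth.Agent.S1422
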