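import Groth.Statements.S14231
import Groth.Agent.Lib.Helper3.RootChG

set_option autoImplicit false
universe u v w x
open RootCh RootCh.Facet

namespace Groth.Agent.S14231

/-- For a finite reduced crystallographic root system over a linearly ordered field and a facet F with
dual facet F̌ (the facet of the dual root system with the same sign vector), the corners of F̌ are
exactly the fundamental coweights corresponding to the corners of F, where a fundamental weight and
a fundamental coweight correspond when they are attached to the same simple root of the same base. -/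
theorem result {ι : Type u} {R : Type v} {M : Type w} {N : Type x}
    [Field R] [LinearOrder R] [IsStrictOrderedRing R]
    [AddCommGroup M] [Module R M] [AddCommGroup N] [Module R N] [Finite ι]
    (P : RootPairing ι R M N) [P.IsRootSystem] [P.IsCrystallographic] [P.IsReduced] (F : RootCh.Facet P) :
    F.dualCorners = {y : N | ∃ m ∈ F.corners, RootCh.Corr P m y} := by
  obtain ⟨b, hb⟩ := Groth.Agent.Lib.helper3.RootChL.exists_mem_cham F
  rw [Groth.Agent.Lib.helper3.RootChL.dualCorners_eq_of_mem_cham hb,
    Groth.Agent.Lib.helper3.RootChL.corners_eq_of_mem_cham hb]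
  ext y
  constructor
  · rintro ⟨i, hi, rfl⟩
    exact ⟨RootCh.fundWeight b i, ⟨i, hi, rfl⟩, b, i, rfl, rfl⟩
  · rintro ⟨m, ⟨i, hi, rfl⟩, hcorr⟩
    have h2 : RootCh.Corr P (RootCh.fundWeight b i) (RootCh.fundCoweight b i) := ⟨b, i, rfl, rfl⟩
    exact ⟨i, hi, Groth.Agent.Lib.helper3.RootChL.corr_unique h2 hcorr⟩

end Groth.Agent.S14231
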