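import Groth.Statements.S14232
import Groth.Agent.Lib.Helper3.RootChF

set_option autoImplicit false
universe u v w x
open RootCh RootCh.Facet

namespace Groth.Agent.S14232

/-- For a finite reduced crystallographic root system over a linearly ordered field, a facet F and a
corner m of some Weyl chamber whose closure contains F, there is a facet whose corners are exactly
the corners of F together with m. -/
theorem result {ι : Type u} {R : Type v} {M : Type w} {N : Type x}
    [Field R] [LinearOrder R] [IsStrictOrderedRing R]
    [AddCommGroup M] [Module R M] [AddCommGroup N] [Module R N] [Finite ι]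
    (P : RootPairing ι R M N) [P.IsRootSystem] [P.IsCrystallographic] [P.IsReduced] (F : RootCh.Facet P) (m : M) (hm : m ∈ F.corners') :
    ∃ G : RootCh.Facet P, G.corners = insert m F.corners := by
  classical
  simp only [RootCh.Facet.corners', Set.mem_iUnion] at hm
  obtain ⟨b, hb, hmb⟩ := hm
  rw [Groth.Agent.Lib.helper3.RootChL.baseCorners_eq] at hmb
  obtain ⟨i₀, rfl⟩ := hmb
  obtain ⟨x₀, hx₀⟩ := Groth.Agent.Lib.helper3.RootChL.carrier_nonempty F
  have hx₀c : x₀ ∈ RootCh.closedChamber b := hb hx₀
  have hmem : x₀ + RootCh.fundWeight b i₀ ∈ RootCh.closedChamber b := by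
    intro l hl
    rw [map_add]
    exact add_nonneg (hx₀c l hl)
      (Groth.Agent.Lib.helper3.RootChL.fundWeight_mem_closedChamber b i₀ l hl)
  refine ⟨RootCh.Facet.ofVec P (x₀ + RootCh.fundWeight b i₀), ?_⟩
  rw [Groth.Agent.Lib.helper3.RootChL.corners_ofVec hmem,
    Groth.Agent.Lib.helper3.RootChL.corners_eq_of_mem_cham hb, ← Set.image_insert_eq]
  congr 1
  ext i
  simp only [Set.mem_ofPred_eq, Set.mem_insert_iff]
  rw [map_add, Groth.Agent.Lib.helper3.RootChL.coroot'_fundWeight b i₀ i,
    Groth.Agent.Lib.helper3.RootChL.sgn_eq_sign hx₀ i, sign_eq_one_iff]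
  have h0 := hx₀c i i.2
  split_ifs with h
  · subst h
    simp only [true_or, iff_true]
    linarith
  · simp [h]

end Groth.Agent.S14232
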