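import Groth.Statements.S14233
import Groth.Agent.Lib.Helper3.RootChF

set_option autoImplicit false
universe u v w x
open RootCh RootCh.Facet

namespace Groth.Agent.S14233

/-- For a finite reduced crystallographic root system over a linearly ordered field, a facet F and a
corner m of F, there is a facet whose corners are exactly the corners of F other than m. -/
theorem result {ι : Type u} {R : Type v} {M : Type w} {N : Type x}
    [Field R] [LinearOrder R] [IsStrictOrderedRing R]
    [AddCommGroup M] [Module R M] [AddCommGroup N] [Module R N] [Finite ι]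
    (P : RootPairing ι R M N) [P.IsRootSystem] [P.IsCrystallographic] [P.IsReduced] (F : RootCh.Facet P) (m : M) (hm : m ∈ F.corners) :
    ∃ G : RootCh.Facet P, G.corners = F.corners \ {m} := by
  classical
  obtain ⟨b, hb⟩ := Groth.Agent.Lib.helper3.RootChL.exists_mem_cham F
  have hcor := Groth.Agent.Lib.helper3.RootChL.corners_eq_of_mem_cham hb
  rw [hcor] at hm
  obtain ⟨i₀, hi₀, rfl⟩ := hm
  set T : Finset b.support := Finset.univ.filter (fun i : b.support => F.sgn i = 1 ∧ i ≠ i₀) with hT
  have hmem := Groth.Agent.Lib.helper3.RootChL.sum_fundWeight_mem_closedChamber b T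
  refine ⟨RootCh.Facet.ofVec P (∑ i ∈ T, RootCh.fundWeight b i), ?_⟩
  rw [Groth.Agent.Lib.helper3.RootChL.corners_ofVec hmem, hcor, ← Set.image_singleton,
    ← Set.image_sdiff (Groth.Agent.Lib.helper3.RootChL.fundWeight_injective b)]
  congr 1
  ext i
  simp only [Set.mem_ofPred_eq, Set.mem_sdiff, Set.mem_singleton_iff]
  rw [Groth.Agent.Lib.helper3.RootChL.coroot'_sum_fundWeight b T i]
  split_ifs with h
  · rw [hT, Finset.mem_filter] at h
    simp [h.2]
  · rw [hT, Finset.mem_filter] at h
    simp only [Finset.mem_univ, true_and] at h
    simp only [lt_self_iff_false, false_iff]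
    exact h

end Groth.Agent.S14233
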