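import Groth.Statements.S1424
import Mathlib
import Groth.Agent.Lib.Helper13.PC10
import Groth.Agent.S1418
import Groth.Agent.S1419
-- import your own Groth.Agent.* helpers here

set_option autoImplicit false
universe u
open FlatMor

namespace Groth.Agent.S1424

open AlgebraicGeometry CategoryTheory Limits in
/-- Let f be locally quasi-finite and of finite presentation and w a weighting of f. Then every level
set of the fibre integral of w along f is locally constructible in Y. -/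
theorem result {X Y : Scheme.{u}} (f : X ⟶ Y) [LocallyQuasiFinite f] [LocallyOfFinitePresentation f] [QuasiCompact f] [QuasiSeparated f]
    (w : ↑X → ℤ) (hw : MoreMor.IsWeighting f w) (n : ℤ) :
    Topology.IsLocallyConstructible {y : ↑Y | MoreMor.fibreIntegral f w y = n} := by
  classical
  intro y
  obtain ⟨Y₀, hY₀, hyY₀⟩ : ∃ Y₀ : Y.Opens, IsAffineOpen Y₀ ∧ y ∈ Y₀ := by
    obtain ⟨_, ⟨Y₀, hY₀, rfl⟩, hyY₀, -⟩ := Y.isBasis_affineOpens.exists_subset_of_mem_open
      (Set.mem_univ y) isOpen_univ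
    exact ⟨Y₀, hY₀, hyY₀⟩
  refine ⟨Y₀, Y₀.2.mem_nhds hyY₀, Y₀.2, ?_⟩
  haveI : IsAffine Y₀.toScheme := hY₀
  have hfin : ∀ y : Y, (f ⁻¹' {y}).Finite := fun y => Scheme.Hom.finite_preimage_singleton f y
  have hsq := (isPullback_morphismRestrict f Y₀).flip
  have hw₀ : MoreMor.IsWeighting (f ∣_ Y₀) (w ∘ ⇑(f ⁻¹ᵁ Y₀).ι) :=
    Groth.Agent.S1419.result f w hw (f ∣_ Y₀) (f ⁻¹ᵁ Y₀).ι Y₀.ι hsq
  have hI : ∀ y' : Y₀.toScheme, MoreMor.fibreIntegral (f ∣_ Y₀) (w ∘ ⇑(f ⁻¹ᵁ Y₀).ι) y' =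
      MoreMor.fibreIntegral f w (Y₀.ι y') := fun y' =>
    Groth.Agent.S1418.result f hfin (f ∣_ Y₀) (f ⁻¹ᵁ Y₀).ι Y₀.ι hsq w y'
  choose C hC hmem hconst using
    Groth.Agent.Lib.helper13.PC.exists_constructible_nbhd_const_integral (f ∣_ Y₀)
      (w ∘ ⇑(f ⁻¹ᵁ Y₀).ι) hw₀
  obtain ⟨s, hs⟩ := Groth.Agent.Lib.helper13.PC.exists_finset_cover_of_isConstructible C hC
    (fun y' => ⟨y', hmem y'⟩)
  have heq : ((fun t : Y₀.toScheme => Y₀.ι t) ⁻¹' {y : Y | MoreMor.fibreIntegral f w y = n}) =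
      ⋃ t ∈ (s.filter (fun t => MoreMor.fibreIntegral f w (Y₀.ι t) = n) : Finset Y₀.toScheme),
        C t := by
    ext t'
    simp only [Set.mem_preimage, Set.mem_setOf_eq, Set.mem_iUnion, Finset.mem_filter,
      exists_prop]
    constructor
    · intro ht'
      obtain ⟨t, hts, ht't⟩ := hs t'
      refine ⟨t, ⟨hts, ?_⟩, ht't⟩
      rw [← hI, ← hconst t t' ht't, hI]
      exact ht'
    · rintro ⟨t, ⟨_, htn⟩, ht't⟩
      have := hconst t t' ht't
      rw [hI, hI] at this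
      rw [this, htn]
  have hfinal : Topology.IsConstructible
      (⋃ t ∈ (s.filter (fun t => MoreMor.fibreIntegral f w (Y₀.ι t) = n) : Finset Y₀.toScheme),
        C t) :=
    Topology.IsConstructible.biUnion (Finset.finite_toSet _) (fun t _ => hC t)
  rw [← heq] at hfinal
  exact hfinal

end Groth.Agent.S1424
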