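import Groth.Statements.S14253
import Groth.Agent.Lib.Helper2.AWNSchemeProps
import Groth.Agent.S8992

set_option autoImplicit false
universe u
open CategoryTheory AlgebraicGeometry
open PerfSch

namespace Groth.Agent.S14253

theorem isReduced_of_perfect (p : ℕ) [Fact p.Prime] (R : Type u) [CommRing R]
    (h : Function.Bijective fun s : R => s ^ p) : _root_.IsReduced R := by
  have hp : 1 < p := (Fact.out : p.Prime).one_lt
  rw [isReduced_iff_pow_one_lt p hp]
  intro x hx
  apply h.1
  show x ^ p = 0 ^ p
  rw [hx, zero_pow (by omega)]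

theorem isAWNRing_of_perfect (p : ℕ) [Fact p.Prime] (R : Type u) [CommRing R]
    (h0 : (p : R) = 0) (h : Function.Bijective fun s : R => s ^ p) : HTop.IsAWNRing R := by
  letI : Algebra (ZMod p) R := ZMod.algebra' R (ringChar R) (ringChar.dvd h0)
  exact (Groth.Agent.S8992.result p R).2 ⟨h⟩

/-- A universal homeomorphism f : X ⟶ Y between perfect schemes of prime characteristic p (on every open
of X and of Y, p = 0 in the ring of sections and the p-th power map is bijective) is an isomorphism. -/
theorem result (p : ℕ) [Fact p.Prime] {X Y : Scheme.{u}} (f : X ⟶ Y)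
    (hX : PerfSch.IsPerfect p X) (hY : PerfSch.IsPerfect p Y) (hf : FlatMor.IsUnivHomeo f) : IsIso f := by
  have hYawn : HTop.IsAWN Y := by
    intro y
    obtain ⟨_, ⟨V, hV, rfl⟩, hyV, -⟩ :=
      Y.isBasis_affineOpens.exists_subset_of_mem_open (Set.mem_univ y) isOpen_univ
    exact ⟨⟨V, hV⟩, hyV, isAWNRing_of_perfect p _ (hY V).1 (hY V).2⟩
  haveI : AlgebraicGeometry.IsReduced X :=
    ⟨fun U => isReduced_of_perfect p _ (hX U).2⟩
  exact Groth.Agent.Lib.helper2.AWNScheme.isIso_of_isAWN f hYawn hf

end Groth.Agent.S14253
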