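import Groth.Statements.S14254
import Groth.Agent.Lib.Helper2.PerfAWN

set_option autoImplicit false
universe u
open CategoryTheory AlgebraicGeometry
open FrobAlg

namespace Groth.Agent.S14254

/-- Let p be a prime, φ : A → B a map of commutative rings of characteristic p, i : A → A' and j : B →
B' perfect closures (A' and B' are perfect rings of characteristic p, every element of A' resp. B'
has a p^n-th power in the image of i resp. j, and the kernels of i and j consist of nilpotent
elements), and φ' : A' → B' the induced map, φ' ∘ i = j ∘ φ. Then Spec φ : Spec B ⟶ Spec A is a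
universal homeomorphism if and only if φ' is bijective. (The published statement is for an arbitrary
morphism of schemes over the prime field and its perfection; this row is the case of affine schemes,
the perfection of Spec A being Spec of the perfect closure of A.) -/
theorem result (p : ℕ) [Fact p.Prime]
    {A B A' B' : Type u} [CommRing A] [CommRing B] [CommRing A'] [CommRing B']
    [CharP A p] [CharP B p] [CharP A' p] [CharP B' p] [PerfectRing A' p] [PerfectRing B' p]
    (φ : A →+* B) (i : A →+* A') (j : B →+* B') [IsPerfectClosure i p] [IsPerfectClosure j p]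
    (φ' : A' →+* B') (hφ : φ'.comp i = j.comp φ) :
    FlatMor.IsUnivHomeo (Spec.map (CommRingCat.ofHom φ)) ↔ Function.Bijective φ' := by
  have hi := Groth.Agent.Lib.helper2.PerfAWN.isUnivHomeo_of_isPRadical p (CharP.cast_eq_zero A p) i
  have hj := Groth.Agent.Lib.helper2.PerfAWN.isUnivHomeo_of_isPRadical p (CharP.cast_eq_zero B p) j
  have hA' : HTop.IsAWNRing A' :=
    Groth.Agent.Lib.helper2.PerfAWN.isAWNRing_of_perfectRing p A' (CharP.cast_eq_zero A' p)
  have hB' : HTop.IsAWNRing B' :=
    Groth.Agent.Lib.helper2.PerfAWN.isAWNRing_of_perfectRing p B' (CharP.cast_eq_zero B' p)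
  constructor
  · intro hU
    have h1 : FlatMor.IsUnivHomeo (Spec.map (CommRingCat.ofHom (j.comp φ))) :=
      Groth.Agent.Lib.helper2.AWNRing.isUnivHomeo_comp_Spec φ j hU hj
    have h2 : HTop.IsRingAWN (j.comp φ) :=
      Groth.Agent.Lib.helper2.PerfAWN.isRingAWN_of_isAWNRing _ h1 hB'
    exact (Groth.Agent.S7423.result (j.comp φ) h2 i hi φ' hφ).2 hA'
  · intro hbij
    have h1 : FlatMor.IsUnivHomeo (Spec.map (CommRingCat.ofHom (j.comp φ))) := by
      rw [← hφ]
      refine Groth.Agent.Lib.helper2.AWNRing.isUnivHomeo_comp_Spec i φ' hi ?_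
      exact Groth.Agent.Lib.helper2.AWNRing.isUnivHomeo_ringEquiv (RingEquiv.ofBijective φ' hbij)
    have h2 : Spec.map (CommRingCat.ofHom (j.comp φ)) =
        Spec.map (CommRingCat.ofHom j) ≫ Spec.map (CommRingCat.ofHom φ) := by
      rw [← Spec.map_comp, ← CommRingCat.ofHom_comp]
    rw [h2] at h1
    exact (Groth.Agent.S0416.result _ _).1 h1 hj

end Groth.Agent.S14254
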