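import Groth.Statements.S14255
import Mathlib.RingTheory.Flat.EquationalCriterion

set_option autoImplicit false
universe u
open FrobAlg

namespace Groth.Agent.S14255

section
variable (p : ℕ) [Fact p.Prime]

omit [Fact p.Prime] in
/-- uniform exponent for a finite family. -/
lemma pow_mem_family {K L : Type u} [CommRing K] [CommRing L] [CharP K p] [CharP L p]
    (i : K →+* L) [IsPRadical i p] {l : ℕ} (f : Fin l → L) :
    ∃ N : ℕ, ∀ N' ≥ N, ∀ k, ∃ a : K, i a = f k ^ p ^ N' := by
  choose n a ha using fun k => IsPRadical.pow_mem i p (f k)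
  refine ⟨Finset.univ.sup n, fun N' hN' k => ?_⟩
  have hk : n k ≤ N' := le_trans (Finset.le_sup (Finset.mem_univ k)) hN'
  refine ⟨a k ^ p ^ (N' - n k), ?_⟩
  rw [map_pow, ha k, ← pow_mul, ← pow_add, Nat.add_sub_cancel' hk]

/-- the core: equational criterion transported through perfect closures. -/
theorem flat_core
    {A B A' B' : Type u} [CommRing A] [CommRing B] [CommRing A'] [CommRing B']
    [CharP A p] [CharP B p] [CharP A' p] [CharP B' p] [PerfectRing A' p] [PerfectRing B' p]
    (φ : A →+* B) (hflat : φ.Flat) (i : A →+* A') (j : B →+* B') [IsPerfectClosure i p] [IsPerfectClosure j p]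
    (φ' : A' →+* B') (hφ : φ'.comp i = j.comp φ) : φ'.Flat := by
  letI algA : Algebra A B := φ.toAlgebra
  letI algA' : Algebra A' B' := φ'.toAlgebra
  have hflat' : Module.Flat A B := hflat
  change Module.Flat A' B'
  rw [Module.Flat.iff_forall_isTrivialRelation]
  intro l f x hfx
  have hsm : ∀ (a : A') (b : B'), a • b = φ' a * b := fun a b => rfl
  have hsmA : ∀ (a : A) (b : B), a • b = φ a * b := fun a b => rfl
  have hφ' : ∀ a, φ' (i a) = j (φ a) := fun a => RingHom.congr_fun hφ a
  obtain ⟨N₁, hN₁⟩ := pow_mem_family p i f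
  obtain ⟨N₂, hN₂⟩ := pow_mem_family p j x
  set N := max N₁ N₂ with hN
  choose a ha using hN₁ N (le_max_left _ _)
  choose b hb using hN₂ N (le_max_right _ _)
  -- relation in B after applying j
  have h1 : j (∑ k, φ (a k) * b k) = 0 := by
    have := congrArg (iterateFrobenius B' p N) hfx
    rw [map_sum, map_zero] at this
    rw [map_sum, ← this]
    apply Finset.sum_congr rfl
    intro k _
    rw [hsm, map_mul, map_mul, iterateFrobenius_def, iterateFrobenius_def, ← map_pow, ← ha k,
      hφ', hb k]
  have h2 : (∑ k, φ (a k) * b k) ∈ pNilradical B p := IsPRadical.ker_le j p h1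
  obtain ⟨M, hM⟩ := mem_pNilradical.1 h2
  -- new families
  set a' : Fin l → A := fun k => a k ^ p ^ M with ha'
  set b' : Fin l → B := fun k => b k ^ p ^ M with hb'
  have ha'' : ∀ k, i (a' k) = f k ^ p ^ (N + M) := by
    intro k
    rw [ha', map_pow, ha k, ← pow_mul, ← pow_add]
  have hb'' : ∀ k, j (b' k) = x k ^ p ^ (N + M) := by
    intro k
    rw [hb', map_pow, hb k, ← pow_mul, ← pow_add]
  have h3 : ∑ k, a' k • b' k = 0 := by
    have e : iterateFrobenius B p M (∑ k, φ (a k) * b k) = ∑ k, a' k • b' k := by
      rw [map_sum]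
      apply Finset.sum_congr rfl
      intro k _
      rw [hsmA, map_mul, iterateFrobenius_def, iterateFrobenius_def, ha', hb', map_pow]
    rw [← e, iterateFrobenius_def]
    exact hM
  obtain ⟨K, c, y, hy, hc⟩ := Module.Flat.iff_forall_isTrivialRelation.1 hflat' h3
  set NM := N + M with hNM
  let EA := (iterateFrobeniusEquiv A' p NM).symm
  let EB := (iterateFrobeniusEquiv B' p NM).symm
  have hEA : ∀ z : A', (EA z) ^ p ^ NM = z := fun z => by
    rw [← iterateFrobeniusEquiv_def]; exact (iterateFrobeniusEquiv A' p NM).apply_symm_apply z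
  have hEB : ∀ z : B', (EB z) ^ p ^ NM = z := fun z => by
    rw [← iterateFrobeniusEquiv_def]; exact (iterateFrobeniusEquiv B' p NM).apply_symm_apply z
  refine ⟨K, fun k t => EA (i (c k t)), fun t => EB (j (y t)), ?_, ?_⟩
  · intro k
    apply (iterateFrobeniusEquiv B' p NM).injective
    rw [iterateFrobeniusEquiv_def, ← hb'' k, hy k, map_sum, map_sum]
    apply Finset.sum_congr rfl
    intro t _
    rw [hsmA, hsm, map_mul, iterateFrobeniusEquiv_def, mul_pow, ← map_pow, hEA, hEB, hφ']
  · intro t
    apply (iterateFrobeniusEquiv A' p NM).injective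
    rw [map_zero, map_sum]
    have := congrArg i (hc t)
    rw [map_sum, map_zero] at this
    rw [← this]
    apply Finset.sum_congr rfl
    intro k _
    rw [iterateFrobeniusEquiv_def, mul_pow, hEA, map_mul, ha'' k]

end


/-- Let p be a prime, φ : A → B a flat map of commutative rings of characteristic p, i : A → A' and j :
B → B' perfect closures (A', B' perfect rings of characteristic p, every element of A' resp. B' has
a p^n-th power in the image of i resp. j, the kernels of i and j consist of nilpotent elements), and
φ' : A' → B' the induced map, φ' ∘ i = j ∘ φ. Then φ' is flat. (The published statement is that the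
perfection of a flat morphism of schemes over the prime field is flat; this row is its affine case,
to which the published proof reduces.) -/
theorem result (p : ℕ) [Fact p.Prime]
    {A B A' B' : Type u} [CommRing A] [CommRing B] [CommRing A'] [CommRing B']
    [CharP A p] [CharP B p] [CharP A' p] [CharP B' p] [PerfectRing A' p] [PerfectRing B' p]
    (φ : A →+* B) (hflat : φ.Flat) (i : A →+* A') (j : B →+* B') [IsPerfectClosure i p] [IsPerfectClosure j p]
    (φ' : A' →+* B') (hφ : φ'.comp i = j.comp φ) : φ'.Flat := by
  exact flat_core p φ hflat i j φ' hφ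

end Groth.Agent.S14255
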