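import Groth.Statements.S14257
import Mathlib
import Groth.Agent.S3176

set_option autoImplicit false
universe u
open TensorProduct
open FrobAlg

namespace Groth.Agent.S14257


open TensorProduct

section gen
variable (p : ℕ) [Fact p.Prime]

/-- Frobenius powers are additive when `p = 0`. -/
theorem add_pow_p_pow {S : Type u} [CommRing S] (hp0 : ((p : ℕ) : S) = 0) (n : ℕ) (x y : S) :
    (x + y) ^ p ^ n = x ^ p ^ n + y ^ p ^ n := by
  induction n with
  | zero => simp
  | succ n ih =>
    rw [pow_succ, pow_mul, ih, pow_mul, pow_mul]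
    obtain ⟨r, hr⟩ := exists_add_pow_prime_eq (Fact.out : p.Prime) (x ^ p ^ n) (y ^ p ^ n)
    rw [hr, hp0, zero_mul, zero_mul, zero_mul, add_zero]

theorem natCast_p_eq_zero (A : Type u) [CommRing A] [CharP A p] (S : Type u) [CommRing S]
    [Algebra A S] : ((p : ℕ) : S) = 0 := by
  have h1 : ((p : ℕ) : S) = algebraMap A S ((p : ℕ) : A) := (map_natCast _ p).symm
  rw [h1, CharP.cast_eq_zero, map_zero]

/-- for étale `A → B` in characteristic `p`, `B` is spanned over `A` by `p^n`-th powers. -/
theorem span_pow_eq_top (A B : Type u) [CommRing A] [CommRing B] [CharP A p] [CharP B p]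
    [Algebra A B] [Algebra.Etale A B] (n : ℕ) :
    Submodule.span A (Set.range (fun b : B => b ^ p ^ n)) = ⊤ := by
  induction n with
  | zero =>
    rw [eq_top_iff]
    intro b _
    exact Submodule.subset_span ⟨b, by simp⟩
  | succ n ih =>
    -- first: `B` is spanned by `p`-th powers
    have h1 : ∀ b : B, b ∈ Submodule.span A (Set.range (fun b : B => b ^ p)) := by
      intro b
      obtain ⟨z, rfl⟩ := (Groth.Agent.S3176.bijective_relFrob_of_etale p A B).2 b
      induction z using TensorProduct.induction_on with
      | zero => rw [map_zero]; exact Submodule.zero_mem _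
      | tmul c t =>
        rw [Groth.Agent.S3191.relFrob_tmul, mul_comm, ← Algebra.smul_def]
        exact Submodule.smul_mem _ _ (Submodule.subset_span ⟨c, rfl⟩)
      | add x y hx hy => rw [map_add]; exact Submodule.add_mem _ hx hy
    -- p-th powers of elements of span of p^n-th powers are in the span of p^(n+1)-th powers
    have h2 : ∀ c : B, c ^ p ∈ Submodule.span A (Set.range (fun b : B => b ^ p ^ (n + 1))) := by
      intro c
      have hc : c ∈ Submodule.span A (Set.range (fun b : B => b ^ p ^ n)) := by
        rw [ih]; exact Submodule.mem_top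
      induction hc using Submodule.span_induction with
      | mem y hy =>
        obtain ⟨d, rfl⟩ := hy
        refine Submodule.subset_span ⟨d, ?_⟩
        simp only [pow_succ, pow_mul]
      | zero =>
        rw [zero_pow (Fact.out : p.Prime).ne_zero]; exact Submodule.zero_mem _
      | add y z _ _ hy hz =>
        have := add_pow_p_pow p (natCast_p_eq_zero p A B) 1 y z
        rw [pow_one] at this
        rw [this]
        exact Submodule.add_mem _ hy hz
      | smul a y _ hy =>
        rw [Algebra.smul_def, mul_pow, ← map_pow, ← Algebra.smul_def]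
        exact Submodule.smul_mem _ _ hy
    rw [eq_top_iff]
    intro b _
    refine (Submodule.span_le.mpr ?_) (h1 b)
    rintro _ ⟨c, rfl⟩
    exact h2 c

/-- an étale algebra over a perfect ring of characteristic `p` has injective Frobenius. -/
theorem eq_zero_of_pow_p_eq_zero (A T : Type u) [CommRing A] [CommRing T] [CharP A p] [CharP T p]
    [PerfectRing A p] [Algebra A T] [Algebra.Etale A T] (x : T) (hx : x ^ p = 0) : x = 0 := by
  have h1 : FrobAlg.relFrob p A T (x ⊗ₜ[A] (1 : FrobAlg.Twist p A)) = 0 := by
    rw [Groth.Agent.S3191.relFrob_tmul, hx, zero_mul]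
  have h2 : (x ⊗ₜ[A] (1 : FrobAlg.Twist p A) : FrobAlg.BaseChange p A T) = 0 :=
    (Groth.Agent.S3176.bijective_relFrob_of_etale p A T).1 (by rw [h1, map_zero])
  -- the `A`-linear map `A → Twist p A` is bijective
  have hbij : Function.Bijective (Algebra.linearMap A (FrobAlg.Twist p A)) := by
    have : ⇑(Algebra.linearMap A (FrobAlg.Twist p A)) = fun a => FrobAlg.toTwist p A (a ^ p) := by
      funext a; rfl
    rw [this]
    exact (FrobAlg.toTwist p A).bijective.comp (bijective_frobenius A p)
  let e : A ≃ₗ[A] FrobAlg.Twist p A := LinearEquiv.ofBijective _ hbij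
  have he1 : e 1 = 1 := by
    change algebraMap A (FrobAlg.Twist p A) 1 = 1
    rw [map_one]
  let E : T ⊗[A] A ≃ₗ[A] T ⊗[A] FrobAlg.Twist p A := TensorProduct.congr (LinearEquiv.refl A T) e
  have h3 : E ((TensorProduct.rid A T).symm x) = 0 := by
    rw [TensorProduct.rid_symm_apply, TensorProduct.congr_tmul, he1]
    exact h2
  have h4 := E.injective (h3.trans (map_zero E).symm)
  exact (TensorProduct.rid A T).symm.injective (h4.trans (map_zero _).symm)

theorem eq_zero_of_isNilpotent_of_etale_perfect (A T : Type u) [CommRing A] [CommRing T]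
    [CharP A p] [CharP T p]
    [PerfectRing A p] [Algebra A T] [Algebra.Etale A T] (x : T) (hx : IsNilpotent x) : x = 0 := by
  obtain ⟨n, hn⟩ := hx
  have hn' : x ^ p ^ n = 0 := by
    have : n ≤ p ^ n := (Nat.lt_pow_self (Fact.out : p.Prime).one_lt).le
    exact pow_eq_zero_of_le this hn
  clear hn
  induction n with
  | zero => simpa using hn'
  | succ n ih =>
    apply ih
    apply eq_zero_of_pow_p_eq_zero p A T
    rw [← pow_mul, ← pow_succ]
    exact hn'

end gen


/-- Let p be a prime, A a commutative ring of characteristic p, B an etale A-algebra of characteristic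
p, A → A' and B → B' perfect closures (A', B' perfect rings of characteristic p, every element of A'
resp. B' has a p^n-th power in the image of A resp. B, and the structure maps have kernels
consisting of nilpotent elements), B' viewed as an A-algebra through B, and φ' : A' → B' a map of
A-algebras. Then the natural map A' ⊗_A B → B', a ⊗ b ↦ φ'(a) b, is bijective. (The published
statement is for an etale morphism X → Y of schemes over the prime field, where X_perf → X ×_Y
Y_perf is an isomorphism; this row is the affine case.) -/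
theorem result (p : ℕ) [Fact p.Prime]
    (A B A' B' : Type u) [CommRing A] [CommRing B] [CommRing A'] [CommRing B']
    [CharP A p] [CharP B p] [CharP A' p] [CharP B' p] [PerfectRing A' p] [PerfectRing B' p]
    [Algebra A B] [Algebra.Etale A B] [Algebra A A'] [Algebra B B'] [Algebra A B'] [IsScalarTower A B B']
    [IsPerfectClosure (algebraMap A A') p] [IsPerfectClosure (algebraMap B B') p]
    (φ' : A' →ₐ[A] B') :
    Function.Bijective (Algebra.TensorProduct.lift φ' (IsScalarTower.toAlgHom A B B')
      (fun a b => Commute.all (φ' a) (IsScalarTower.toAlgHom A B B' b))) := by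
  set ψ := Algebra.TensorProduct.lift φ' (IsScalarTower.toAlgHom A B B')
    (fun a b => Commute.all (φ' a) (IsScalarTower.toAlgHom A B B' b)) with hψ
  have hψ_tmul : ∀ (a : A') (b : B), ψ (a ⊗ₜ[A] b) = φ' a * algebraMap B B' b := by
    intro a b
    rw [hψ, Algebra.TensorProduct.lift_tmul]
    rfl
  have hB'nt : Nontrivial B' :=
    CharP.nontrivial_of_char_ne_one (R := B') (v := p) (Fact.out : p.Prime).ne_one
  have hTnt : Nontrivial (A' ⊗[A] B) := ψ.toRingHom.domain_nontrivial
  have hp0T : ((p : ℕ) : A' ⊗[A] B) = 0 := natCast_p_eq_zero p A _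
  have hTchar : CharP (A' ⊗[A] B) p :=
    (CharP.charP_iff_prime_eq_zero (Fact.out : p.Prime)).mpr hp0T
  have hp0B' : ((p : ℕ) : B') = 0 := CharP.cast_eq_zero B' p
  constructor
  · rw [injective_iff_map_eq_zero]
    intro x hx
    have claim : ∀ x : A' ⊗[A] B, ∃ (n : ℕ) (b : B), x ^ p ^ n = (1 : A') ⊗ₜ[A] b := by
      intro x
      induction x using TensorProduct.induction_on with
      | zero =>
        refine ⟨0, 0, ?_⟩
        rw [pow_zero, pow_one, TensorProduct.tmul_zero]
      | tmul α c =>
        obtain ⟨n, a, ha⟩ := IsPRadical.pow_mem (algebraMap A A') p α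
        refine ⟨n, a • c ^ p ^ n, ?_⟩
        rw [Algebra.TensorProduct.tmul_pow, ← ha, Algebra.algebraMap_eq_smul_one,
          TensorProduct.smul_tmul]
      | add x y hx hy =>
        obtain ⟨n, b, hb⟩ := hx
        obtain ⟨m, c, hc⟩ := hy
        refine ⟨n + m, b ^ p ^ m + c ^ p ^ n, ?_⟩
        rw [add_pow_p_pow p hp0T, pow_add, pow_mul, hb, Nat.mul_comm, pow_mul, hc,
          Algebra.TensorProduct.tmul_pow, Algebra.TensorProduct.tmul_pow, one_pow, one_pow,
          ← TensorProduct.tmul_add]
    obtain ⟨n, b, hb⟩ := claim x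
    have h1 : algebraMap B B' b = 0 := by
      have h0 : ψ (x ^ p ^ n) = 0 := by
        rw [map_pow, hx, zero_pow (pow_ne_zero _ (Fact.out : p.Prime).ne_zero)]
      rw [hb, hψ_tmul, map_one, one_mul] at h0
      exact h0
    have h2 : b ∈ pNilradical B p := IsPRadical.ker_le (algebraMap B B') p h1
    obtain ⟨m, hm⟩ := mem_pNilradical.mp h2
    apply eq_zero_of_isNilpotent_of_etale_perfect p A' (A' ⊗[A] B) x
    refine ⟨p ^ n * p ^ m, ?_⟩
    rw [pow_mul, hb, Algebra.TensorProduct.tmul_pow, hm, one_pow, TensorProduct.tmul_zero]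
  · have claim : ∀ (n : ℕ) (b : B), ∃ y : A' ⊗[A] B, ψ y ^ p ^ n = algebraMap B B' b := by
      intro n b
      have hb : b ∈ Submodule.span A (Set.range (fun b : B => b ^ p ^ n)) := by
        rw [span_pow_eq_top]; trivial
      induction hb using Submodule.span_induction with
      | mem y hy =>
        obtain ⟨c, rfl⟩ := hy
        exact ⟨1 ⊗ₜ c, by rw [hψ_tmul, map_one, one_mul, map_pow]⟩
      | zero =>
        exact ⟨0, by rw [map_zero, zero_pow (pow_ne_zero _ (Fact.out : p.Prime).ne_zero),
          map_zero]⟩
      | add y z _ _ hy hz =>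
        obtain ⟨y', hy'⟩ := hy
        obtain ⟨z', hz'⟩ := hz
        exact ⟨y' + z', by rw [map_add, add_pow_p_pow p hp0B', hy', hz', map_add]⟩
      | smul a y _ hy =>
        obtain ⟨y', hy'⟩ := hy
        refine ⟨((iterateFrobeniusEquiv A' p n).symm (algebraMap A A' a) ⊗ₜ 1) * y', ?_⟩
        rw [map_mul, mul_pow, hy', hψ_tmul, map_one, mul_one, ← map_pow,
          ← iterateFrobeniusEquiv_def, RingEquiv.apply_symm_apply, AlgHom.commutes,
          Algebra.smul_def, map_mul, ← IsScalarTower.algebraMap_apply]
    intro b'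
    obtain ⟨n, b, hb⟩ := IsPRadical.pow_mem (algebraMap B B') p b'
    obtain ⟨y, hy⟩ := claim n b
    refine ⟨y, ?_⟩
    apply (iterateFrobeniusEquiv B' p n).injective
    rw [iterateFrobeniusEquiv_def, iterateFrobeniusEquiv_def, hy, hb]

end Groth.Agent.S14257
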