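import Groth.Statements.S14260
import Groth.Agent.S14255
import Mathlib.RingTheory.Ideal.GoingUp

set_option autoImplicit false
universe u
open FrobAlg

namespace Groth.Agent.S14260

section
variable (p : ℕ) [Fact p.Prime]

lemma comap_injective_of_isPRadical {K L : Type u} [CommRing K] [CommRing L] [CharP K p] [CharP L p]
    (i : K →+* L) [IsPRadical i p] : Function.Injective (PrimeSpectrum.comap i) := by
  have key : ∀ P Q : PrimeSpectrum L, PrimeSpectrum.comap i P = PrimeSpectrum.comap i Q →
      P.asIdeal ≤ Q.asIdeal := by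
    intro P Q h x hx
    obtain ⟨n, y, hy⟩ := IsPRadical.pow_mem i p x
    have h1 : y ∈ (PrimeSpectrum.comap i P).asIdeal := by
      change i y ∈ P.asIdeal
      rw [hy]
      exact Ideal.pow_mem_of_mem _ hx _ (pow_pos (Fact.out : p.Prime).pos n)
    rw [h] at h1
    have h2 : i y ∈ Q.asIdeal := h1
    rw [hy] at h2
    exact Q.2.mem_of_pow_mem _ h2
  intro P Q h
  exact PrimeSpectrum.ext (le_antisymm (key P Q h) (key Q P h.symm))

lemma comap_surjective_of_isPRadical {K L : Type u} [CommRing K] [CommRing L] [CharP K p] [CharP L p]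
    (i : K →+* L) [IsPRadical i p] : Function.Surjective (PrimeSpectrum.comap i) := by
  intro P
  letI := i.toAlgebra
  haveI : Algebra.IsIntegral K L := by
    constructor
    intro x
    obtain ⟨n, y, hy⟩ := IsPRadical.pow_mem i p x
    have hpos : p ^ n ≠ 0 := pow_ne_zero _ (Fact.out : p.Prime).ne_zero
    refine ⟨Polynomial.X ^ (p ^ n) - Polynomial.C y, Polynomial.monic_X_pow_sub_C y hpos, ?_⟩
    have : algebraMap K L y = x ^ p ^ n := hy
    simp [this]
  have hker : (⊥ : Ideal L).comap (algebraMap K L) ≤ P.asIdeal := by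
    intro x hx
    have hx' : x ∈ RingHom.ker i := hx
    have h1 := pNilradical_le_nilradical (IsPRadical.ker_le i p hx')
    obtain ⟨n, hn⟩ := h1
    exact P.2.mem_of_pow_mem n (hn ▸ zero_mem _)
  obtain ⟨Q, -, hQ, hQP⟩ := Ideal.exists_ideal_over_prime_of_isIntegral P.asIdeal ⊥ hker
  exact ⟨⟨Q, hQ⟩, PrimeSpectrum.ext hQP⟩

end


/-- Let p be a prime, φ : A → B a faithfully flat map of commutative rings of characteristic p, i : A →
A' and j : B → B' perfect closures (A', B' perfect rings of characteristic p, every element of A'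
resp. B' has a p^n-th power in the image of i resp. j, the kernels of i and j consist of nilpotent
elements), and φ' : A' → B' the induced map, φ' ∘ i = j ∘ φ. Then φ' is faithfully flat. (The
published statement is that the perfection of a faithfully flat morphism of schemes over the prime
field is faithfully flat; this row is its affine case, to which the published proof reduces.) -/
theorem result (p : ℕ) [Fact p.Prime]
    {A B A' B' : Type u} [CommRing A] [CommRing B] [CommRing A'] [CommRing B']
    [CharP A p] [CharP B p] [CharP A' p] [CharP B' p] [PerfectRing A' p] [PerfectRing B' p]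
    (φ : A →+* B) (hflat : φ.FaithfullyFlat) (i : A →+* A') (j : B →+* B') [IsPerfectClosure i p]
    [IsPerfectClosure j p] (φ' : A' →+* B') (hφ : φ'.comp i = j.comp φ) : φ'.FaithfullyFlat := by
  rw [RingHom.FaithfullyFlat.iff_flat_and_comap_surjective] at hflat ⊢
  refine ⟨Groth.Agent.S14255.flat_core p φ hflat.1 i j φ' hφ, ?_⟩
  intro q'
  obtain ⟨P, hP⟩ := hflat.2 (PrimeSpectrum.comap i q')
  obtain ⟨P', hP'⟩ := comap_surjective_of_isPRadical p j P
  refine ⟨P', ?_⟩
  apply comap_injective_of_isPRadical p i
  rw [← hP, ← hP']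
  rw [← PrimeSpectrum.comap_comp_apply, ← PrimeSpectrum.comap_comp_apply, hφ]

end Groth.Agent.S14260
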