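import Groth.Statements.S14261
import Mathlib
import Groth.Agent.Lib.Helper12.PerfFP4

set_option autoImplicit false
universe u
open CategoryTheory
open FrobAlg

namespace Groth.Agent.S14261

/-- Let p be a prime, B a perfect ring of characteristic p and A a perfect B-algebra (p = 0 in A and the
p-th power map of A is bijective). Suppose A is a finitely presentable object of the category of
perfect B-algebras (the full subcategory of B-algebras on the perfect ones): B-algebra maps from A
into a filtered colimit of perfect B-algebras factor through some term of the system, uniquely after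
passing to a later term. Then A is perfectly finitely presented over B: there are a finitely
presented B-algebra A₀ and a B-algebra homomorphism k : A₀ → A which exhibits A as a perfect closure
of A₀ (every element of A has some p^n-th power in the image of k, and every element of the kernel
of k is nilpotent). (The published statement is the equivalence, for morphisms of quasi-compact
quasi-separated perfect schemes, of perfect finite presentation with a compactness condition ranging
over cofiltered systems of perfect schemes with affine transition maps; this row is the case of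
affine schemes with the compactness condition tested on affine systems only, which is all the
published argument uses.) -/
theorem result (p : ℕ) [Fact p.Prime] (B : CommRingCat.{u})
    [CharP B p] [PerfectRing B p]
    (A : ObjectProperty.FullSubcategory fun Y : Under B => (p : Y.right) = 0 ∧ Function.Bijective fun y : Y.right => y ^ p)
    [IsFinitelyPresentable.{u} A] :
    ∃ (A₀ : Type u) (_ : CommRing A₀) (_ : Algebra B A₀) (_ : Algebra.FinitePresentation B A₀)
      (k : A₀ →+* A.obj.right), k.comp (algebraMap B A₀) = A.obj.hom.hom ∧ IsPRadical k p := by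
  classical
  rcases subsingleton_or_nontrivial A.obj.right with hs | hn
  · -- the zero ring
    have hsub : Subsingleton (B ⧸ (⊤ : Ideal B)) := Ideal.Quotient.subsingleton_iff.2 rfl
    refine ⟨B ⧸ (⊤ : Ideal B), inferInstance, inferInstance,
      Algebra.FinitePresentation.quotient (Module.Finite.fg_top),
      Ideal.Quotient.lift ⊤ A.obj.hom.hom (fun a _ => Subsingleton.elim _ _),
      RingHom.ext fun b => Subsingleton.elim _ _, ?_⟩
    exact ⟨fun x => ⟨0, 0, Subsingleton.elim _ _⟩,
      fun x _ => mem_pNilradical.2 ⟨0, Subsingleton.elim _ _⟩⟩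
  · obtain ⟨S, hS⟩ := Groth.Agent.Lib.helper12.PerfFP.exists_finset_gen p A
    let σ : Type u := {x // x ∈ S}
    let k₀ : MvPolynomial σ B →+* A.obj.right :=
      MvPolynomial.eval₂Hom A.obj.hom.hom (fun s => s.1)
    have hk₀ : k₀.comp MvPolynomial.C = A.obj.hom.hom := by
      ext b
      simp [k₀]
    have hle : Groth.Agent.Lib.helper12.PerfFP.gen A.obj.hom.hom (↑S) ≤ k₀.range := by
      apply Subring.closure_le.2
      rintro x (⟨b, rfl⟩ | hx)
      · exact ⟨MvPolynomial.C b, by simp [k₀]⟩
      · exact ⟨MvPolynomial.X ⟨x, hx⟩, by simp [k₀]⟩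
    have H1 : ∀ x : A.obj.right, ∃ (n : ℕ) (q : MvPolynomial σ B), k₀ q = x ^ p ^ n := by
      intro x
      obtain ⟨n, hn⟩ := hS x
      obtain ⟨q, hq⟩ := hle hn
      exact ⟨n, q, hq⟩
    obtain ⟨T, hT0, hT⟩ := Groth.Agent.Lib.helper12.PerfFP.exists_finset_ker p A k₀ hk₀ H1
    have hker : ∀ a ∈ Ideal.span (T : Set (MvPolynomial σ B)), k₀ a = 0 := by
      intro a ha
      have : Ideal.span (T : Set (MvPolynomial σ B)) ≤ RingHom.ker k₀ :=
        Ideal.span_le.2 fun q hq => RingHom.mem_ker.2 (hT0 q hq)
      exact RingHom.mem_ker.1 (this ha)
    refine ⟨MvPolynomial σ B ⧸ Ideal.span (T : Set (MvPolynomial σ B)), inferInstance,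
      inferInstance, Algebra.FinitePresentation.quotient ⟨T, rfl⟩,
      Ideal.Quotient.lift _ k₀ hker, ?_, ?_⟩
    · ext b
      have : algebraMap B (MvPolynomial σ B ⧸ Ideal.span (T : Set (MvPolynomial σ B))) b =
          Ideal.Quotient.mk _ (MvPolynomial.C b) := rfl
      rw [RingHom.comp_apply, this, Ideal.Quotient.lift_mk]
      exact congrArg (fun f => f b) hk₀
    · refine ⟨fun x => ?_, fun x hx => ?_⟩
      · obtain ⟨n, q, hq⟩ := H1 x
        exact ⟨n, Ideal.Quotient.mk _ q, by rw [Ideal.Quotient.lift_mk, hq]⟩
      · obtain ⟨q, rfl⟩ := Ideal.Quotient.mk_surjective x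
        rw [RingHom.mem_ker, Ideal.Quotient.lift_mk] at hx
        obtain ⟨m, hm⟩ := hT q hx
        exact mem_pNilradical.2 ⟨m, by
          rw [← map_pow]; exact Ideal.Quotient.eq_zero_iff_mem.2 hm⟩

end Groth.Agent.S14261
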