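import Groth.Statements.S14262
import Mathlib
-- import your own Groth.Agent.* helpers here

set_option autoImplicit false
universe u
open FrobAlg

namespace Groth.Agent.S14262

/-- Let p be a prime, A a perfect ring of characteristic p and f ∈ A. The radical of the principal ideal
(f) — equivalently the ideal generated by all p^n-th roots of f, n ≥ 0 — is a flat A-module. -/
theorem result (p : ℕ) [Fact p.Prime] (A : Type u) [CommRing A]
    [CharP A p] [PerfectRing A p] (f : A) :
    Module.Flat A ((Ideal.span {f}).radical) := by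
  have hp : p.Prime := Fact.out
  let E : ℕ → A ≃+* A := fun n => iterateFrobeniusEquiv A p n
  have hE : ∀ n x, E n x = x ^ p ^ n := fun n x => rfl
  let r : ℕ → A := fun n => (E n).symm f
  have ha : ∀ n, r n ^ p ^ n = f := by
    intro n
    have := (E n).apply_symm_apply f
    rwa [hE] at this
  have hb : ∀ n, r (n + 1) ^ p = r n := by
    intro n
    apply (E n).injective
    rw [hE, hE, ← pow_mul, ← pow_succ', ha, ha]
  have hc : ∀ k n, ∃ t, r n = t * r (n + k) := by
    intro k
    induction k with
    | zero => intro n; exact ⟨1, by simp⟩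
    | succ k ih =>
      intro n
      obtain ⟨t, ht⟩ := ih n
      refine ⟨t * r (n + (k + 1)) ^ (p - 1), ?_⟩
      rw [mul_assoc, ← pow_succ, Nat.sub_add_cancel hp.one_le, ← add_assoc, hb, ← ht]
  have hd : ∀ x ∈ (Ideal.span {f}).radical, ∃ n b, x = b * r n := by
    intro x hx
    obtain ⟨m, hm⟩ := hx
    have hle : m ≤ p ^ m := (Nat.lt_pow_self hp.one_lt).le
    have hmem : x ^ p ^ m ∈ Ideal.span {f} := by
      rw [← Nat.sub_add_cancel hle, pow_add]
      exact Ideal.mul_mem_left _ _ hm
    obtain ⟨c, hcf⟩ := Ideal.mem_span_singleton'.mp hmem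
    refine ⟨m, (E m).symm c, ?_⟩
    have : x = (E m).symm (x ^ p ^ m) := by
      rw [← hE, RingEquiv.symm_apply_apply]
    rw [this, ← hcf, map_mul]
  have hrmem : ∀ n, r n ∈ (Ideal.span {f}).radical := by
    intro n
    exact ⟨p ^ n, by rw [ha]; exact Ideal.mem_span_singleton_self f⟩
  rw [Module.Flat.iff_forall_isTrivialRelation]
  intro l a x hax
  choose n b hnb using fun i => hd (x i).1 (x i).2
  obtain ⟨N, hN⟩ : ∃ N, ∀ i, n i ≤ N := ⟨Finset.univ.sup n, fun i => Finset.le_sup (Finset.mem_univ i)⟩
  have hx' : ∀ i, ∃ b', (x i : A) = b' * r N := by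
    intro i
    obtain ⟨t, ht⟩ := hc (N - n i) (n i)
    rw [Nat.add_sub_cancel' (hN i)] at ht
    exact ⟨b i * t, by rw [hnb i, ht, mul_assoc]⟩
  choose b' hb' using hx'
  have hsum : (∑ i, a i * b' i) * r N = 0 := by
    have := congrArg (Submodule.subtype _) hax
    simp only [map_sum, map_smul, Submodule.subtype_apply, smul_eq_mul, map_zero] at this
    rw [Finset.sum_mul, ← this]
    refine Finset.sum_congr rfl fun i _ => ?_
    rw [hb' i, mul_assoc]
  set c := ∑ i, a i * b' i with hcdef
  have hch : c * r (N + 1) = 0 := by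
    apply injective_frobenius A p
    rw [map_zero, frobenius_def, mul_pow, hb, ← Nat.sub_add_cancel hp.one_le, pow_succ, mul_assoc,
      mul_comm c, ← mul_assoc, mul_assoc, mul_comm (r N), hsum, mul_zero]
  refine ⟨1, fun i _ => b' i * r (N + 1) ^ (p - 1), fun _ => ⟨r (N + 1), hrmem _⟩, ?_, ?_⟩
  · intro i
    apply Subtype.ext
    simp only [Finset.univ_unique, Finset.sum_singleton, Submodule.coe_smul, smul_eq_mul]
    rw [hb' i, mul_assoc, ← pow_succ, Nat.sub_add_cancel hp.one_le, hb]
  · intro _
    have h2 : 1 ≤ p - 1 := by have := hp.two_le; omega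
    have : ∑ i, a i * (b' i * r (N + 1) ^ (p - 1)) = c * r (N + 1) ^ (p - 1) := by
      rw [hcdef, Finset.sum_mul]
      refine Finset.sum_congr rfl fun i _ => ?_
      ring
    rw [this, ← Nat.sub_add_cancel h2, pow_succ, ← mul_assoc, mul_comm c, mul_assoc, hch, mul_zero]

end Groth.Agent.S14262
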