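import Groth.Statements.S1427
import Mathlib
import Groth.Agent.Lib.Helper13.PC9
-- import your own Groth.Agent.* helpers here

set_option autoImplicit false
universe u
open FlatMor

namespace Groth.Agent.S1427

open AlgebraicGeometry CategoryTheory Limits in
/-- Let f : X → Y be locally quasi-finite with X quasi-compact and w a weighting of f. Then the fibre
integral of w along f is bounded above and, if Y is nonempty, attains its maximum. -/
theorem result {X Y : Scheme.{u}} (f : X ⟶ Y) [LocallyQuasiFinite f] [LocallyOfFiniteType f] [CompactSpace ↑X] (w : ↑X → ℤ) (hw : MoreMor.IsWeighting f w) [Nonempty ↑Y] :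
    ∃ y₀ : Y, ∀ y : Y, MoreMor.fibreIntegral f w y ≤ MoreMor.fibreIntegral f w y₀ := by
  classical
  obtain ⟨N, hN⟩ := Groth.Agent.Lib.helper13.PC.exists_bound_lifts_of_compact f
  obtain ⟨M, hM⟩ := Groth.Agent.Lib.helper13.PC.exists_bound_weighting_of_compact f w hw
  have hres : ∀ p : X, (f.residueFieldMap p).hom.Finite := fun p =>
    Groth.Agent.Lib.helper13.EL.finite_residueFieldMap_of_quasiFiniteAt (f.quasiFiniteAt p)
  -- the bound
  have hbound : ∀ y : Y, MoreMor.fibreIntegral f w y ≤ (N : ℤ) * |M| := by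
    intro y
    obtain ⟨Ω, _, _, xb, hxb⟩ := Groth.Agent.Lib.helper13.WT.exists_geometric_point y
    obtain ⟨hfin, hcard⟩ := hN Ω xb
    -- the fibre is finite
    have hfib : (f ⁻¹' {y}).Finite := by
      have hsub : f ⁻¹' {y} ⊆ Set.range
          (fun ℓ : {ℓ : Spec (.of Ω) ⟶ X // ℓ ≫ f = xb} => ℓ.1 (IsLocalRing.closedPoint Ω)) := by
        intro p hp
        obtain ⟨ℓ, hℓ⟩ := Groth.Agent.Lib.helper13.WT.exists_lift_of_mem_fibre f Ω xb p
          (hp.trans hxb.symm) (hres p)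
        exact ⟨ℓ, hℓ⟩
      exact (Set.finite_range _).subset hsub
    unfold MoreMor.fibreIntegral
    rw [Groth.Agent.Lib.helper13.WT.fibreIntegral_eq_finsum_lifts f Ω w xb y hxb hfib
      (fun p _ => hres p)]
    haveI := Fintype.ofFinite {ℓ : Spec (.of Ω) ⟶ X // ℓ ≫ f = xb}
    rw [finsum_eq_sum_of_fintype]
    have h1 : ∑ ℓ : {ℓ : Spec (.of Ω) ⟶ X // ℓ ≫ f = xb}, w (ℓ.1 (IsLocalRing.closedPoint Ω)) ≤
        ∑ _ℓ : {ℓ : Spec (.of Ω) ⟶ X // ℓ ≫ f = xb}, |M| :=
      Finset.sum_le_sum fun ℓ _ => (le_abs_self _).trans ((hM _).trans (le_abs_self _))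
    refine h1.trans ?_
    rw [Finset.sum_const, Finset.card_univ, nsmul_eq_mul, ← Nat.card_eq_fintype_card]
    exact mul_le_mul_of_nonneg_right (by exact_mod_cast hcard) (abs_nonneg _)
  -- a bounded integer-valued function on a nonempty type attains its maximum
  obtain ⟨y₁⟩ := ‹Nonempty Y›
  obtain ⟨ub, ⟨y₀, hy₀⟩, hub⟩ := Int.exists_greatest_of_bdd
    (P := fun z => ∃ y : Y, MoreMor.fibreIntegral f w y = z)
    ⟨(N : ℤ) * |M|, fun z ⟨y, hy⟩ => hy ▸ hbound y⟩ ⟨_, y₁, rfl⟩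
  exact ⟨y₀, fun y => hy₀ ▸ hub _ ⟨y, rfl⟩⟩

end Groth.Agent.S1427
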