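import Groth.Statements.S14272
import Mathlib
import Groth.Agent.S14271
import Groth.Agent.Lib.Helper21.Hartogs2
-- import your own Groth.Agent.* helpers here

set_option autoImplicit false
universe u
open FlatPur

namespace Groth.Agent.S14272

open AlgebraicGeometry CategoryTheory CategoryTheory.Limits in
/-- Let X be a scheme and U an open subscheme whose inclusion is quasi-compact, such that for every
point z of X outside U the maximal ideal of O_{X,z} contains two elements forming a weakly regular
sequence on that local ring. Then for every X-scheme Y that is affine and of finite presentation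
over X, the restriction map from X-sections of Y to U-sections of Y is bijective: every morphism U
-> Y over X extends uniquely to a section X -> Y. -/
theorem result (X : Scheme.{u}) (U : X.Opens) [QuasiCompact U.ι]
    (hZ : ∀ z : X, z ∉ U → ∃ a b : X.presheaf.stalk z, a ∈ IsLocalRing.maximalIdeal (X.presheaf.stalk z) ∧
      b ∈ IsLocalRing.maximalIdeal (X.presheaf.stalk z) ∧ RingTheory.Sequence.IsWeaklyRegular (X.presheaf.stalk z) [a, b])
    (Y : Scheme.{u}) (f : Y ⟶ X) [IsAffineHom f] [LocallyOfFinitePresentation f]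
    (t : (U : Scheme.{u}) ⟶ Y) (ht : t ≫ f = U.ι) :
    ∃! s : X ⟶ Y, s ≫ f = 𝟙 X ∧ U.ι ≫ s = t := by
  have hZ' : Groth.Agent.Lib.helper21.Hartogs.DepthTwo X U := hZ
  haveI : QuasiCompact (t ≫ f) := ht ▸ inferInstance
  haveI : QuasiCompact t := QuasiCompact.of_comp t f
  set g : t.image ⟶ X := t.imageι ≫ f with hg
  have htg : t.toImage ≫ g = U.ι := by rw [hg, Scheme.Hom.toImage_imageι_assoc, ht]
  haveI : IsIso g := by
    rw [← MorphismProperty.isomorphisms.iff,
      IsZariskiLocalAtTarget.iff_of_iSup_eq_top (P := MorphismProperty.isomorphisms Scheme) _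
        (iSup_affineOpens_eq_top X)]
    intro V
    rw [MorphismProperty.isomorphisms.iff, isIso_morphismRestrict_iff_isIso_app g V.2,
      ConcreteCategory.isIso_iff_bijective]
    -- the three maps
    let V' : Y.affineOpens := ⟨f ⁻¹ᵁ V.1, V.2.preimage f⟩
    have hτ : Function.Injective (t.toImage.app (g ⁻¹ᵁ V.1)) := t.toImage_app_injective V'
    have hcomp : g.app V.1 ≫ t.toImage.app (g ⁻¹ᵁ V.1) = (t.toImage ≫ g).app V.1 := rfl
    have hbij : Function.Bijective ((t.toImage ≫ g).app V.1) := by
      rw [Scheme.Hom.congr_app htg V.1]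
      have h1 := Groth.Agent.Lib.helper21.Hartogs.app_bijective V.1 hZ' V.2
      have h2 : Function.Bijective ((U : Scheme.{u}).presheaf.map
          (eqToHom (congrArg (fun φ : (U : Scheme.{u}) ⟶ X => φ ⁻¹ᵁ V.1) htg)).op) :=
        ConcreteCategory.bijective_of_isIso _
      exact h2.comp h1
    rw [← hcomp] at hbij
    constructor
    · exact Function.Injective.of_comp (f := t.toImage.app (g ⁻¹ᵁ V.1)) hbij.1
    · intro c
      obtain ⟨a, ha⟩ := hbij.2 (t.toImage.app (g ⁻¹ᵁ V.1) c)
      exact ⟨a, hτ ha⟩
  have hUg : U.ι ≫ inv g = t.toImage := by rw [← htg, Category.assoc, IsIso.hom_inv_id, Category.comp_id]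
  refine ⟨inv g ≫ t.imageι, ⟨?_, ?_⟩, ?_⟩
  · rw [Category.assoc, ← hg, IsIso.inv_hom_id]
  · rw [← Category.assoc, hUg, Scheme.Hom.toImage_imageι]
  · rintro s' ⟨hs'1, hs'2⟩
    refine Groth.Agent.S14271.result X U (fun z hz => ?_) Y f s' (inv g ≫ t.imageι) hs'1
      (by rw [Category.assoc, ← hg, IsIso.inv_hom_id])
      (by rw [hs'2, ← Category.assoc, hUg, Scheme.Hom.toImage_imageι])
    obtain ⟨a, b, ha, -, hreg⟩ := hZ z hz
    exact ⟨a, ha, (Groth.Agent.Lib.helper21.Hartogs.regular_data_of_isWeaklyRegular a b hreg).1⟩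

end Groth.Agent.S14272
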