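import Groth.Statements.S14275
import Mathlib

set_option autoImplicit false
universe u
open CAlg

namespace Groth.Agent.S14275

open RingTheory.Sequence
open AdicCompletion (AdicCauchySequence)

section gen
variable {A : Type u} [CommRing A]

lemma mem_pow_smul_top (a : A) {M : Type u} [AddCommGroup M] [Module A M] (n : ℕ) (x : M) :
    x ∈ ((Ideal.span {a}) ^ n • (⊤ : Submodule A M)) ↔ ∃ y : M, a ^ n • y = x := by
  rw [Ideal.span_singleton_pow, Submodule.ideal_span_singleton_smul,
    Submodule.mem_smul_pointwise_iff_exists]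
  constructor
  · rintro ⟨y, -, hy⟩
    exact ⟨y, hy⟩
  · rintro ⟨y, hy⟩
    exact ⟨y, Submodule.mem_top, hy⟩

lemma mk_eq_zero_iff {M : Type u} [AddCommGroup M] [Module A M] (I : Ideal A)
    (f : AdicCauchySequence I M) :
    AdicCompletion.mk I M f = 0 ↔ ∀ n, f n ∈ (I ^ n • (⊤ : Submodule A M)) := by
  constructor
  · intro h n
    have h1 : (AdicCompletion.mk I M f).val n = 0 := by rw [h]; rfl
    exact (Submodule.Quotient.mk_eq_zero _).1 h1
  · intro h
    exact AdicCompletion.ext fun n => (Submodule.Quotient.mk_eq_zero _).2 (h n)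

lemma smul_top_eq (K : Ideal A) : (K • (⊤ : Submodule A A)) = K := by
  apply le_antisymm
  · rw [Submodule.smul_le]
    intro r hr n _
    exact Ideal.mul_mem_right n K hr
  · intro x hx
    have h := Submodule.smul_mem_smul hx (Submodule.mem_top : (1 : A) ∈ (⊤ : Submodule A A))
    have e : x • (1 : A) = x := by rw [smul_eq_mul, mul_one]
    rwa [e] at h

/-- Artin–Rees with shift `N` from bounded torsion. -/
lemma ar {a b : A} {M M'' : Type u} [AddCommGroup M] [Module A M] [AddCommGroup M'']
    [Module A M''] {g : M →ₗ[A] M''} (hker : ∀ x, g x = 0 ↔ ∃ y, x = b • y)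
    (hreg : ∀ x : M, b • x = 0 → x = 0) {N : ℕ}
    (hN : ∀ x : M'', (∃ m : ℕ, a ^ m • x = 0) → a ^ N • x = 0)
    (n : ℕ) (x y : M) (h : b • x = a ^ (n + N) • y) : ∃ w, x = a ^ n • w := by
  have h1 : a ^ (n + N) • g y = 0 := by
    rw [← map_smul, ← h]
    exact (hker _).2 ⟨x, rfl⟩
  have h2 : a ^ N • g y = 0 := hN _ ⟨_, h1⟩
  rw [← map_smul] at h2
  obtain ⟨w, hw⟩ := (hker _).1 h2
  refine ⟨w, ?_⟩
  have h3 : b • (x - a ^ n • w) = 0 := by
    rw [smul_sub, h, pow_add, mul_smul, hw, smul_comm b (a ^ n) w, sub_self]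
  exact sub_eq_zero.1 (hreg _ h3)

lemma reg_completion {a b : A} {M M'' : Type u} [AddCommGroup M] [Module A M] [AddCommGroup M'']
    [Module A M''] {g : M →ₗ[A] M''} (hker : ∀ x, g x = 0 ↔ ∃ y, x = b • y)
    (hreg : ∀ x : M, b • x = 0 → x = 0)
    (hbd : ∃ N : ℕ, ∀ x : M'', (∃ m : ℕ, a ^ m • x = 0) → a ^ N • x = 0)
    (z : AdicCompletion (Ideal.span {a}) M) (hz : b • z = 0) : z = 0 := by
  obtain ⟨N, hN⟩ := hbd
  obtain ⟨f, rfl⟩ := AdicCompletion.mk_surjective _ _ z
  have hz' : AdicCompletion.mk (Ideal.span {a}) M (b • f) = 0 := by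
    rw [map_smul]; exact hz
  rw [mk_eq_zero_iff] at hz'
  rw [mk_eq_zero_iff]
  intro n
  have h1 := hz' (n + N)
  rw [mem_pow_smul_top] at h1
  obtain ⟨y, hy⟩ := h1
  have h2 : b • f (n + N) = a ^ (n + N) • y := hy.symm
  obtain ⟨w, hw⟩ := ar hker hreg hN n _ _ h2
  have h3 : f (n + N) ∈ (Ideal.span {a}) ^ n • (⊤ : Submodule A M) :=
    (mem_pow_smul_top a n _).2 ⟨w, hw.symm⟩
  have h4 : f n - f (n + N) ∈ (Ideal.span {a}) ^ n • (⊤ : Submodule A M) :=
    SModEq.sub_mem.1 (f.property (Nat.le_add_right n N))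
  have h5 := Submodule.add_mem _ h4 h3
  rwa [sub_add_cancel] at h5

lemma exact_completion {a b : A} {M M'' : Type u} [AddCommGroup M] [Module A M]
    [AddCommGroup M''] [Module A M''] {g : M →ₗ[A] M''} (hsurj : Function.Surjective g)
    (hker : ∀ x, g x = 0 ↔ ∃ y, x = b • y)
    (hreg : ∀ x : M, b • x = 0 → x = 0)
    (hbd : ∃ N : ℕ, ∀ x : M'', (∃ m : ℕ, a ^ m • x = 0) → a ^ N • x = 0)
    (z : AdicCompletion (Ideal.span {a}) M)
    (hz : AdicCompletion.map (Ideal.span {a}) g z = 0) :
    ∃ z' : AdicCompletion (Ideal.span {a}) M, z = b • z' := by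
  obtain ⟨N, hN⟩ := hbd
  obtain ⟨f, rfl⟩ := AdicCompletion.mk_surjective _ _ z
  rw [AdicCompletion.map_mk, mk_eq_zero_iff] at hz
  have h1 : ∀ n, ∃ u z : M, f n = a ^ n • u + b • z := by
    intro n
    have h := hz n
    rw [mem_pow_smul_top] at h
    obtain ⟨y'', hy''⟩ := h
    obtain ⟨u, rfl⟩ := hsurj y''
    have h2 : g (f n - a ^ n • u) = 0 := by
      rw [map_sub, map_smul]
      exact sub_eq_zero.2 hy''.symm
    obtain ⟨z, hz'⟩ := (hker _).1 h2
    refine ⟨u, z, ?_⟩
    rw [← hz']
    abel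
  choose u zz huz using h1
  have e2' : ∀ k, b • zz k = f k - a ^ k • u k := by
    intro k
    rw [huz k]
    abel
  have h3 : ∀ m, ∃ w, zz (m + N + 1) - zz (m + N) = a ^ m • w := by
    intro m
    have hc : f (m + N) - f (m + N + 1) ∈
        (Ideal.span {a}) ^ (m + N) • (⊤ : Submodule A M) :=
      SModEq.sub_mem.1 (f.property (Nat.le_succ (m + N)))
    rw [mem_pow_smul_top] at hc
    obtain ⟨v, hv⟩ := hc
    have hv' : f (m + N + 1) = f (m + N) - a ^ (m + N) • v := by
      rw [hv]
      abel
    apply ar hker hreg hN m _ (-v - a • u (m + N + 1) + u (m + N))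
    rw [smul_sub, e2' (m + N + 1), e2' (m + N), hv', pow_succ, mul_smul, smul_add, smul_sub,
      smul_neg]
    abel
  have hcau : ∀ m, zz (m + N) ≡ zz (m + 1 + N)
      [SMOD ((Ideal.span {a}) ^ m • (⊤ : Submodule A M))] := by
    intro m
    obtain ⟨w, hw⟩ := h3 m
    have e : m + 1 + N = m + N + 1 := by omega
    rw [e, SModEq.sub_mem, mem_pow_smul_top]
    refine ⟨-w, ?_⟩
    rw [smul_neg, ← hw]
    abel
  let hseq : AdicCauchySequence (Ideal.span {a}) M :=
    AdicCauchySequence.mk (Ideal.span {a}) M (fun m => zz (m + N)) hcau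
  refine ⟨AdicCompletion.mk (Ideal.span {a}) M hseq, ?_⟩
  have e : b • AdicCompletion.mk (Ideal.span {a}) M hseq =
      AdicCompletion.mk (Ideal.span {a}) M (b • hseq) := (map_smul _ b hseq).symm
  rw [e, ← sub_eq_zero, ← map_sub (AdicCompletion.mk (Ideal.span {a}) M), mk_eq_zero_iff]
  intro m
  show f m - b • zz (m + N) ∈ _
  have hc : f m - f (m + N) ∈ (Ideal.span {a}) ^ m • (⊤ : Submodule A M) :=
    SModEq.sub_mem.1 (f.property (Nat.le_add_right m N))
  have hd : a ^ (m + N) • u (m + N) ∈ (Ideal.span {a}) ^ m • (⊤ : Submodule A M) :=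
    (mem_pow_smul_top a m _).2 ⟨a ^ N • u (m + N), by rw [pow_add, mul_smul]⟩
  have h5 := Submodule.add_mem _ hc hd
  have e5 : f m - b • zz (m + N) = f m - f (m + N) + a ^ (m + N) • u (m + N) := by
    rw [e2' (m + N)]
    abel
  rw [e5]
  exact h5

lemma factor_ker (J : Ideal A) (b : A) (J' : Ideal A) (hJ' : J' = J ⊔ Ideal.span {b})
    (hle : J ≤ J') (x : A ⧸ J) :
    Submodule.factor hle x = 0 ↔ ∃ y : A ⧸ J, x = b • y := by
  obtain ⟨x, rfl⟩ := Submodule.mkQ_surjective J x
  rw [Submodule.factor_mk, Submodule.mkQ_apply, Submodule.Quotient.mk_eq_zero]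
  constructor
  · intro h
    rw [hJ', Submodule.mem_sup] at h
    obtain ⟨y, hy, z, hz, rfl⟩ := h
    obtain ⟨c, rfl⟩ := Ideal.mem_span_singleton'.1 hz
    refine ⟨Submodule.mkQ J c, ?_⟩
    show Submodule.Quotient.mk (y + c * b) = Submodule.Quotient.mk (b * c)
    refine (Submodule.Quotient.eq J).2 ?_
    have e : y + c * b - b * c = y := by ring
    rw [e]
    exact hy
  · rintro ⟨y, hy⟩
    obtain ⟨y, rfl⟩ := Submodule.mkQ_surjective J y
    have hy' : (Submodule.Quotient.mk x : A ⧸ J) = Submodule.Quotient.mk (b * y) := hy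
    have h1 : x - b * y ∈ J := (Submodule.Quotient.eq J).1 hy'
    have h2 : b * y ∈ J' := by
      rw [hJ']
      exact Ideal.mul_mem_right _ _
        (Submodule.mem_sup_right (Ideal.mem_span_singleton_self b))
    have h3 := Submodule.add_mem _ (hle h1) h2
    rwa [sub_add_cancel] at h3

/-- The kernel of the completed quotient map, as an ideal. -/
noncomputable def kerI (I J : Ideal A) : Ideal (AdicCompletion I A) :=
  LinearMap.ker (AdicCompletion.map I J.mkQ)

lemma mem_kerI (I J : Ideal A) (x : AdicCompletion I A) :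
    x ∈ kerI I J ↔ AdicCompletion.map I J.mkQ x = 0 := Iff.rfl

lemma map_le_ker (I J : Ideal A) :
    J.map (algebraMap A (AdicCompletion I A)) ≤ kerI I J := by
  rw [Ideal.map_le_iff_le_comap]
  intro y hy
  rw [Ideal.mem_comap, mem_kerI, AdicCompletion.algebraMap_apply, AdicCompletion.map_of]
  have h : J.mkQ (algebraMap A A y) = 0 := by
    rw [Submodule.mkQ_apply, Submodule.Quotient.mk_eq_zero]
    exact hy
  rw [h, map_zero]

lemma take_succ (rs : List A) (i : ℕ) (hi : i < rs.length) :
    Ideal.ofList (rs.take (i + 1)) = Ideal.ofList (rs.take i) ⊔ Ideal.span {rs[i]} := by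
  rw [List.take_succ_eq_append_getElem hi, Ideal.ofList_append, Ideal.ofList_singleton]

lemma quot_reg (rs : List A) (hreg : IsWeaklyRegular A rs) (i : ℕ) (hi : i < rs.length)
    (x : A ⧸ Ideal.ofList (rs.take i)) (hx : rs[i] • x = 0) : x = 0 := by
  have h := hreg.regular_mod_prev i hi
  rw [isSMulRegular_quotient_iff_mem_of_smul_mem, smul_top_eq] at h
  obtain ⟨x, rfl⟩ := Submodule.mkQ_surjective _ x
  have hx' : (Submodule.Quotient.mk (rs[i] • x) : A ⧸ Ideal.ofList (rs.take i)) = 0 := hx
  rw [Submodule.Quotient.mk_eq_zero] at hx'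
  rw [Submodule.mkQ_apply, Submodule.Quotient.mk_eq_zero]
  exact h x hx'

lemma map_alg_mul (I J : Ideal A) (b : A) (x : AdicCompletion I A) :
    AdicCompletion.map I J.mkQ (algebraMap A (AdicCompletion I A) b * x) =
      b • AdicCompletion.map I J.mkQ x := by
  have h := (AdicCompletion.map I J.mkQ).map_smul (algebraMap A (AdicCompletion I A) b) x
  exact h.trans (algebraMap_smul (AdicCompletion I A) b _)

variable (a : A) (rs : List A) (hreg : IsWeaklyRegular A rs)
  (hbd : ∀ i ≤ rs.length, ∃ N : ℕ, ∀ x : A ⧸ Ideal.ofList (rs.take i),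
    (∃ m : ℕ, a ^ m • x = 0) → a ^ N • x = 0)

include hreg hbd

lemma regP (i : ℕ) (hi : i < rs.length)
    (z : AdicCompletion (Ideal.span {a}) (A ⧸ Ideal.ofList (rs.take i)))
    (hz : rs[i] • z = 0) : z = 0 := by
  have hJ' := take_succ rs i hi
  have hle : Ideal.ofList (rs.take i) ≤ Ideal.ofList (rs.take (i + 1)) := by
    rw [hJ']; exact le_sup_left
  exact reg_completion (g := Submodule.factor hle) (factor_ker _ _ _ hJ' hle)
    (quot_reg rs hreg i hi) (hbd (i + 1) hi) z hz

lemma ker_eq : ∀ i, i ≤ rs.length →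
    kerI (Ideal.span {a}) (Ideal.ofList (rs.take i)) =
      (Ideal.ofList (rs.take i)).map (algebraMap A (AdicCompletion (Ideal.span {a}) A)) := by
  intro i
  induction i with
  | zero =>
    intro _
    apply le_antisymm _ (map_le_ker _ _)
    intro x hx
    rw [mem_kerI] at hx
    obtain ⟨f, rfl⟩ := AdicCompletion.mk_surjective _ _ x
    rw [AdicCompletion.map_mk, mk_eq_zero_iff] at hx
    have h0 : AdicCompletion.mk (Ideal.span {a}) A f = 0 := by
      rw [mk_eq_zero_iff]
      intro n
      have h := hx n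
      rw [mem_pow_smul_top] at h ⊢
      obtain ⟨y'', hy''⟩ := h
      obtain ⟨u, rfl⟩ := Submodule.mkQ_surjective _ y''
      refine ⟨u, ?_⟩
      have hy3 : (Submodule.Quotient.mk (a ^ n • u) : A ⧸ Ideal.ofList (rs.take 0)) =
          Submodule.Quotient.mk (f n) := hy''
      have h2 : a ^ n • u - f n ∈ Ideal.ofList (rs.take 0) :=
        (Submodule.Quotient.eq _).1 hy3
      rw [List.take_zero, Ideal.ofList_nil] at h2
      exact sub_eq_zero.1 ((Submodule.mem_bot A).1 h2)
    rw [h0]
    exact Submodule.zero_mem _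
  | succ i ih =>
    intro hi
    have hi' : i < rs.length := hi
    apply le_antisymm _ (map_le_ker _ _)
    intro x hx
    rw [mem_kerI] at hx
    have hJ' := take_succ rs i hi'
    have hle : Ideal.ofList (rs.take i) ≤ Ideal.ofList (rs.take (i + 1)) := by
      rw [hJ']; exact le_sup_left
    have hcomp : (Submodule.factor hle).comp (Ideal.ofList (rs.take i)).mkQ =
        (Ideal.ofList (rs.take (i + 1))).mkQ := Submodule.factor_comp_mk hle
    have hx' : AdicCompletion.map (Ideal.span {a}) (Submodule.factor hle)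
        (AdicCompletion.map (Ideal.span {a}) (Ideal.ofList (rs.take i)).mkQ x) = 0 := by
      rw [AdicCompletion.map_comp_apply, hcomp]
      exact hx
    obtain ⟨zb, hzb⟩ := exact_completion (Submodule.factor_surjective hle)
      (factor_ker _ _ _ hJ' hle) (quot_reg rs hreg i hi') (hbd (i + 1) hi) _ hx'
    obtain ⟨z, rfl⟩ := AdicCompletion.map_surjective (Ideal.span {a})
      (Submodule.mkQ_surjective (Ideal.ofList (rs.take i))) zb
    have h5 : x - algebraMap A (AdicCompletion (Ideal.span {a}) A) rs[i] * z ∈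
        kerI (Ideal.span {a}) (Ideal.ofList (rs.take i)) := by
      rw [mem_kerI, map_sub, map_alg_mul, hzb, sub_self]
    rw [ih (le_of_lt hi')] at h5
    have h6 := Ideal.map_mono (f := algebraMap A (AdicCompletion (Ideal.span {a}) A)) hle h5
    have h7 : algebraMap A (AdicCompletion (Ideal.span {a}) A) rs[i] * z ∈
        (Ideal.ofList (rs.take (i + 1))).map
          (algebraMap A (AdicCompletion (Ideal.span {a}) A)) := by
      refine Ideal.mul_mem_right _ _ (Ideal.mem_map_of_mem _ ?_)
      rw [hJ']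
      exact Submodule.mem_sup_right (Ideal.mem_span_singleton_self _)
    have h8 := Ideal.add_mem _ h6 h7
    rwa [sub_add_cancel] at h8

end gen


open RingTheory.Sequence in
/-- Let A be a commutative ring, a an element of A with a-adic completion A^, and a_1, ..., a_n a weakly
regular sequence on A such that for each i = 0, ..., n the quotient A/(a_1, ..., a_i) has bounded
a-power torsion (some fixed power of a kills every element killed by a power of a). Then the images
of a_1, ..., a_n form a weakly regular sequence on A^, and the canonical map from A^ to the a-adic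
completion of A/(a_1, ..., a_n) is surjective with kernel the ideal generated by the images of a_1,
..., a_n. -/
theorem result (A : Type u) [CommRing A] (a : A) (rs : List A)
    (hreg : IsWeaklyRegular A rs)
    (hbd : ∀ i ≤ rs.length, ∃ N : ℕ, ∀ x : A ⧸ Ideal.ofList (rs.take i), (∃ m : ℕ, a ^ m • x = 0) → a ^ N • x = 0) :
    IsWeaklyRegular (AdicCompletion (Ideal.span {a}) A)
        (rs.map (algebraMap A (AdicCompletion (Ideal.span {a}) A))) ∧
      Function.Surjective (AdicCompletion.map (Ideal.span {a}) (Ideal.ofList rs).mkQ) ∧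
      LinearMap.ker (AdicCompletion.map (Ideal.span {a}) (Ideal.ofList rs).mkQ) =
        (Ideal.ofList rs).map (algebraMap A (AdicCompletion (Ideal.span {a}) A)) := by
  refine ⟨⟨fun i hi => ?_⟩, AdicCompletion.map_surjective _ (Submodule.mkQ_surjective _), ?_⟩
  · have hi' : i < rs.length := by simpa using hi
    have e0 : (rs.map (algebraMap A (AdicCompletion (Ideal.span {a}) A)))[i] =
        algebraMap A (AdicCompletion (Ideal.span {a}) A) rs[i] := List.getElem_map _
    have eN : (Ideal.ofList ((rs.map (algebraMap A (AdicCompletion (Ideal.span {a}) A))).take i) •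
        (⊤ : Submodule (AdicCompletion (Ideal.span {a}) A) (AdicCompletion (Ideal.span {a}) A))) =
        (Ideal.ofList (rs.take i)).map (algebraMap A (AdicCompletion (Ideal.span {a}) A)) :=
      (smul_top_eq _).trans (by rw [← List.map_take, Ideal.map_ofList])
    rw [isSMulRegular_quotient_iff_mem_of_smul_mem, eN, e0]
    intro x hx
    rw [← ker_eq a rs hreg hbd i (le_of_lt hi'), mem_kerI] at hx ⊢
    exact regP a rs hreg hbd i hi' _ ((map_alg_mul _ _ _ x).symm.trans hx)
  · have h := ker_eq a rs hreg hbd rs.length le_rfl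
    rw [List.take_length] at h
    exact h


end Groth.Agent.S14275
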