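import Groth.Statements.S14294
import Mathlib.Tactic.Module
import Mathlib.Tactic.Ring
import Mathlib.Tactic.Abel
import Mathlib.Algebra.BigOperators.Intervals
import Mathlib.Algebra.Order.Ring.Int
import Mathlib.Tactic.NormNum

set_option autoImplicit false
universe u v
open PtDeg

namespace Groth.Agent.S14294

/-- Let A and G be abelian groups, written additively, and f : A → G a map which is pointed of degree 2,
that is f(x+y+z) + f(x) + f(y) + f(z) = f(x+y) + f(x+z) + f(y+z) for all x, y, z in A. If an integer
n satisfies n·x = 0 for every x in A, then 2n·f(x) = 0 for every x in A, and if moreover n is odd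
then n·f(x) = 0 for every x in A. -/
theorem result {A : Type u} {G : Type v} [AddCommGroup A] [AddCommGroup G]
    (f : A → G) (hf : ∀ x y z : A, f (x + y + z) + f x + f y + f z = f (x + y) + f (x + z) + f (y + z))
    (n : ℤ) (hn : ∀ x : A, n • x = 0) :
    (∀ x : A, (2 * n) • f x = 0) ∧ (Odd n → ∀ x : A, n • f x = 0) := by
  have f0 : f 0 = 0 := by
    have h := hf 0 0 0
    simp only [add_zero] at h
    exact add_eq_left.mp h
  have main : ∀ N : ℕ, (∀ x : A, N • x = 0) →
      (∀ x : A, (2 * (N : ℤ)) • f x = 0) ∧ (Odd N → ∀ x : A, (N : ℤ) • f x = 0) := by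
    intro N hN
    have hx : ∀ x : A, ∃ c : G, (N : ℤ) • c = 0 ∧
        (N : ℤ) • f x + (∑ i ∈ Finset.range N, (i : ℤ)) • c = 0 := by
      intro x
      let a : ℕ → G := fun k => f (k • x)
      let t : ℕ → ℤ := fun k => ∑ i ∈ Finset.range k, (i : ℤ)
      have a1 : a 1 = f x := by simp [a]
      have a0 : a 0 = 0 := by simp [a, f0]
      have hrec : ∀ k, a (k + 2) + a k + (2 : ℤ) • a 1 = (2 : ℤ) • a (k + 1) + a 2 := by
        intro k
        have h := hf (k • x) x x
        have e1 : k • x + x + x = (k + 2) • x := by
          rw [add_nsmul, two_nsmul, add_assoc]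
        have e2 : k • x + x = (k + 1) • x := by rw [succ_nsmul]
        have e3 : x + x = 2 • x := (two_nsmul x).symm
        rw [e1, e2, e3] at h
        change f ((k + 2) • x) + f (k • x) + (2 : ℤ) • f (1 • x) =
          (2 : ℤ) • f ((k + 1) • x) + f (2 • x)
        rw [one_nsmul, two_zsmul, two_zsmul]
        rw [← add_assoc]
        exact h
      let c : G := a 2 - (2 : ℤ) • a 1
      have formula : ∀ k : ℕ, a k = (k : ℤ) • a 1 + t k • c := by
        intro k
        induction k using Nat.twoStepInduction with
        | zero => simp [a0, t]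
        | one => simp [t]
        | more k ih1 ih2 =>
          have h := hrec k
          have h2 : a (k + 2) = (2 : ℤ) • a (k + 1) + a 2 - (2 : ℤ) • a 1 - a k := by
            rw [eq_sub_iff_add_eq, eq_sub_iff_add_eq]; exact h
          rw [h2, ih1, ih2]
          simp only [t, Finset.sum_range_succ, c]
          push_cast
          module
      have hNx : a N = 0 := by simp [a, hN x, f0]
      have hN1 : a (N + 1) = a 1 := by
        simp only [a]
        rw [succ_nsmul, hN x, zero_add, one_nsmul]
      have hc : (N : ℤ) • c = 0 := by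
        have h1 := formula (N + 1)
        have h2 := formula N
        rw [hN1] at h1
        rw [hNx] at h2
        have h3 : t (N + 1) = t N + N := by simp [t, Finset.sum_range_succ]
        rw [h3] at h1
        push_cast at h1
        have : (N : ℤ) • c = (((N : ℤ) + 1) • a 1 + (t N + N) • c) -
            ((N : ℤ) • a 1 + t N • c) - a 1 := by module
        rw [this, ← h1, ← h2]; simp
      refine ⟨c, hc, ?_⟩
      have h2 := formula N
      rw [hNx, a1] at h2
      exact h2.symm
    have ht : ∀ k : ℕ, 2 * (∑ i ∈ Finset.range k, (i : ℤ)) = (k : ℤ) * ((k : ℤ) - 1) := by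
      intro k
      induction k with
      | zero => simp
      | succ k ih =>
        rw [Finset.sum_range_succ, mul_add, ih]; push_cast; ring
    constructor
    · intro x
      obtain ⟨c, hc, hform⟩ := hx x
      have h1 : (2 * (N : ℤ)) • f x + (2 * ∑ i ∈ Finset.range N, (i : ℤ)) • c = 0 := by
        have := congrArg (fun g => (2 : ℤ) • g) hform
        simp only [smul_add, smul_smul, smul_zero] at this
        exact this
      rw [ht, mul_comm (N : ℤ) ((N : ℤ) - 1), mul_smul ((N : ℤ) - 1) (N : ℤ) c, hc, smul_zero,
        add_zero] at h1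
      exact h1
    · rintro ⟨j, hj⟩ x
      obtain ⟨c, hc, hform⟩ := hx x
      have h1 : (∑ i ∈ Finset.range N, (i : ℤ)) = (j : ℤ) * N := by
        have h2 := ht N
        have h3 : (N : ℤ) = 2 * j + 1 := by exact_mod_cast hj
        have h4 : 2 * (∑ i ∈ Finset.range N, (i : ℤ)) = 2 * ((j : ℤ) * N) := by
          rw [h2]; rw [h3]; ring
        exact mul_left_cancel₀ (by norm_num) h4
      rw [h1, mul_smul, hc, smul_zero, add_zero] at hform
      exact hform
  have hN : ∀ x : A, n.natAbs • x = 0 := by
    intro x
    have h1 := hn x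
    rcases Int.natAbs_eq n with h | h
    · rw [h, natCast_zsmul] at h1; exact h1
    · rw [h, neg_smul, neg_eq_zero, natCast_zsmul] at h1; exact h1
  obtain ⟨m1, m2⟩ := main n.natAbs hN
  constructor
  · intro x
    rcases Int.natAbs_eq n with h | h
    · rw [h]; exact m1 x
    · rw [h, mul_neg, neg_smul, m1 x, neg_zero]
  · intro hodd x
    have hodd' : Odd n.natAbs := Int.natAbs_odd.mpr hodd
    rcases Int.natAbs_eq n with h | h
    · rw [h]; exact m2 hodd' x
    · rw [h, neg_smul, m2 hodd' x, neg_zero]

end Groth.Agent.S14294
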