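import Groth.Statements.S14295
import Mathlib.Tactic

set_option autoImplicit false
universe u v
open PtDeg

namespace Groth.Agent.S14295


theorem tri_rec (n : ℤ) :
    (n + 1) * (n + 1 + 1) / 2 = 2 * (n * (n + 1) / 2) - (n - 1) * (n - 1 + 1) / 2 + 1 := by
  have h : (n * n + n) % 2 = 0 := by
    have := Int.even_mul_succ_self n
    rw [Int.even_iff] at this
    rw [← this]
    ring_nf
  have e1 : (n + 1) * (n + 1 + 1) = n * n + 3 * n + 2 := by ring
  have e2 : n * (n + 1) = n * n + n := by ring
  have e3 : (n - 1) * (n - 1 + 1) = n * n - n := by ring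
  rw [e1, e2, e3]
  generalize n * n = m at h ⊢
  omega

theorem tri_rec' (n : ℤ) :
    (n + 1) * (n + 1 - 1) / 2 = 2 * (n * (n - 1) / 2) - (n - 1) * (n - 1 - 1) / 2 + 1 := by
  have h : (n * n + n) % 2 = 0 := by
    have := Int.even_mul_succ_self n
    rw [Int.even_iff] at this
    rw [← this]
    ring_nf
  have e1 : (n + 1) * (n + 1 - 1) = n * n + n := by ring
  have e2 : n * (n - 1) = n * n - n := by ring
  have e3 : (n - 1) * (n - 1 - 1) = n * n - 3 * n + 2 := by ring
  rw [e1, e2, e3]
  generalize n * n = m at h ⊢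
  omega

/-- Let A and G be abelian groups, written additively, and f : A → G a map which is pointed of degree 2,
that is f(x+y+z) + f(x) + f(y) + f(z) = f(x+y) + f(x+z) + f(y+z) for all x, y, z in A. Then for
every integer n and every x in A one has f(n·x) = (n(n+1)/2)·f(x) + (n(n−1)/2)·f(−x) (the two
coefficients are the integers n(n+1)/2 and n(n−1)/2). -/
theorem result {A : Type u} {G : Type v} [AddCommGroup A] [AddCommGroup G]
    (f : A → G) (hf : ∀ x y z : A, f (x + y + z) + f x + f y + f z = f (x + y) + f (x + z) + f (y + z))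
    (n : ℤ) (x : A) :
    f (n • x) = (n * (n + 1) / 2) • f x + (n * (n - 1) / 2) • f (-x) := by
  have hf0 : f 0 = 0 := by
    have := hf 0 0 0
    simp only [add_zero] at this
    -- 4 f 0 = 3 f 0
    have h2 : f 0 + (f 0 + f 0 + f 0) = 0 + (f 0 + f 0 + f 0) := by
      rw [zero_add]
      calc f 0 + (f 0 + f 0 + f 0) = f 0 + f 0 + f 0 + f 0 := by abel
        _ = f 0 + f 0 + f 0 := this
    exact add_right_cancel h2
  -- the three-term recurrence
  have hrec : ∀ m : ℤ, f ((m + 1) • x) + f ((m - 1) • x) = f (m • x) + f (m • x) + f x + f (-x) := by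
    intro m
    have := hf (m • x) x (-x)
    rw [add_neg_cancel_right, add_neg_cancel, hf0, add_zero] at this
    rw [add_smul, sub_smul, one_smul, ← sub_eq_add_neg] at *
    rw [← this]
  let P : ℤ → Prop := fun m =>
    f (m • x) = (m * (m + 1) / 2) • f x + (m * (m - 1) / 2) • f (-x)
  have hP0 : P 0 := by
    simp only [P]
    simp [hf0]
  have hP1 : P 1 := by
    simp only [P]
    norm_num
  have hup : ∀ m : ℤ, P (m - 1) → P m → P (m + 1) := by
    intro m h1 h2
    simp only [P] at h1 h2 ⊢
    have h := hrec m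
    rw [h1, h2] at h
    have e : f ((m + 1) • x) =
        (m * (m + 1) / 2) • f x + (m * (m - 1) / 2) • f (-x) +
          ((m * (m + 1) / 2) • f x + (m * (m - 1) / 2) • f (-x)) + f x + f (-x) -
          (((m - 1) * (m - 1 + 1) / 2) • f x + ((m - 1) * (m - 1 - 1) / 2) • f (-x)) := by
      rw [← h]; abel
    rw [e, tri_rec m, tri_rec' m]
    simp only [add_smul, sub_smul, mul_smul, one_smul, two_smul]
    abel
  have hdown : ∀ m : ℤ, P (m + 1) → P m → P (m - 1) := by
    intro m h1 h2
    simp only [P] at h1 h2 ⊢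
    have h := hrec m
    rw [h1, h2] at h
    have e : f ((m - 1) • x) =
        (m * (m + 1) / 2) • f x + (m * (m - 1) / 2) • f (-x) +
          ((m * (m + 1) / 2) • f x + (m * (m - 1) / 2) • f (-x)) + f x + f (-x) -
          (((m + 1) * (m + 1 + 1) / 2) • f x + ((m + 1) * (m + 1 - 1) / 2) • f (-x)) := by
      rw [← h]; abel
    rw [e, tri_rec m, tri_rec' m]
    simp only [add_smul, sub_smul, mul_smul, one_smul, two_smul]
    abel
  have hall : ∀ m : ℤ, P m ∧ P (m + 1) := by
    intro m
    refine Int.inductionOn' (motive := fun m => P m ∧ P (m + 1)) m 0 ⟨hP0, by simpa using hP1⟩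
      (fun k _ ih => ?_) (fun k _ ih => ?_)
    · refine ⟨ih.2, ?_⟩
      have := hup (k + 1) (by simpa using ih.1) ih.2
      exact this
    · refine ⟨?_, by simpa using ih.1⟩
      exact hdown k ih.2 ih.1
  exact (hall n).1

end Groth.Agent.S14295
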