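import Groth.Statements.S14296
import Mathlib.Tactic.Abel
import Mathlib.Algebra.Group.Hom.Defs
import Mathlib.Algebra.Module.Basic
import Mathlib.Tactic.NthRewrite

set_option autoImplicit false
universe u v
open PtDeg

namespace Groth.Agent.S14296

/-- Let G and H be abelian groups, written additively, n an integer such that 2n²·x = 0 for every x in
G, and d : G → H a quadratic map, meaning that d is pointed of degree 2 (d(x+y+z) + d(x) + d(y) +
d(z) = d(x+y) + d(x+z) + d(y+z) for all x, y, z) and even (d(−x) = d(x) for all x). Then d(2n·x) = 0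
for every x in G. -/
theorem result {G : Type u} {H : Type v} [AddCommGroup G] [AddCommGroup H]
    (n : ℤ) (hn : ∀ x : G, (2 * n ^ 2) • x = 0)
    (d : G → H) (hd : ∀ x y z : G, d (x + y + z) + d x + d y + d z = d (x + y) + d (x + z) + d (y + z))
    (heven : ∀ x : G, d (-x) = d x) (x : G) :
    d ((2 * n) • x) = 0 := by
  have d0 : d 0 = 0 := by
    have h := hd 0 0 0
    simp only [add_zero] at h
    exact add_eq_left.mp h
  let B : G → G → H := fun y z => d (y + z) - d y - d z
  have Bsymm : ∀ y z, B y z = B z y := by
    intro y z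
    simp only [B]
    rw [add_comm y z]
    abel_nf
  have Badd : ∀ y y' z, B (y + y') z = B y z + B y' z := by
    intro y y' z
    have h := hd y y' z
    have h' : d (y + y' + z) = d (y + y') + d (y + z) + d (y' + z) - d z - d y' - d y := by
      rw [eq_sub_iff_add_eq, eq_sub_iff_add_eq, eq_sub_iff_add_eq]
      exact h
    simp only [B]
    rw [h']
    abel
  let φ : G → (G →+ H) := fun z => AddMonoidHom.mk' (fun y => B y z) (fun y y' => Badd y y' z)
  have hφ : ∀ y z, φ z y = B y z := fun y z => rfl
  have Bzsmul : ∀ (k : ℤ) y z, B (k • y) z = k • B y z := by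
    intro k y z
    rw [← hφ, ← hφ, map_zsmul]
  have Bzsmul' : ∀ (k : ℤ) y z, B y (k • z) = k • B y z := by
    intro k y z
    rw [Bsymm, Bzsmul, Bsymm]
  have Bzero : ∀ z, B 0 z = 0 := by
    intro z
    rw [← hφ, map_zero]
  have Bdiag : ∀ y, B y y = d y + d y := by
    intro y
    have h1 : B y (-y) = - B y y := by
      have := Bzsmul' (-1) y y
      simpa using this
    have h2 : B y (-y) = - d y - d y := by
      simp only [B]
      rw [add_neg_cancel, d0, heven]
      abel
    have h3 : B y y = -(B y (-y)) := by rw [h1, neg_neg]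
    rw [h3, h2]; abel
  have hdouble : ∀ y, d (y + y) = B y y + B y y := by
    intro y
    have h1 : d (y + y) = B y y + d y + d y := by
      simp only [B]; abel
    rw [h1]
    nth_rewrite 2 [Bdiag y]
    abel
  have e1 : (2 * n) • x = n • x + n • x := by
    rw [mul_comm, mul_smul, two_zsmul]
    simp [smul_add]
  rw [e1, hdouble, Bzsmul, Bzsmul', ← two_zsmul, smul_smul, smul_smul, ← Bzsmul]
  have e2 : (2 * n * n) • x = 0 := by
    have := hn x
    rwa [pow_two, ← mul_assoc] at this
  rw [e2, Bzero]

end Groth.Agent.S14296
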