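import Groth.Statements.S14297
import Mathlib
import Groth.Agent.Lib.Helper10.HaarPi

set_option autoImplicit false
universe u
open MeasureTheory
open PtDeg

namespace Groth.Agent.S14297

set_option linter.style.haveILetI false
set_option linter.unusedSectionVars false
open Groth.Agent.Lib.Helper10.HaarPi

section helpers

variable {G : Type u} [AddCommGroup G]

/-- alternating sum over subsets -/
def E {ι : Type} (s : Finset ι) (φ : G → ℝ) (x : ι → G) (h : G) : ℝ :=
  ∑ I ∈ s.powerset, (-1 : ℝ) ^ I.card * φ (h + ∑ i ∈ I, x i)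

lemma E_insert {ι : Type} [DecidableEq ι] (s : Finset ι) (a : ι) (ha : a ∉ s) (φ : G → ℝ)
    (x : ι → G) (h : G) :
    E (insert a s) φ x h = E s φ x h - E s φ x (h + x a) := by
  unfold E
  rw [Finset.sum_powerset_insert ha, sub_eq_add_neg, ← Finset.sum_neg_distrib]
  congr 1
  refine Finset.sum_congr rfl fun I hI => ?_
  have haI : a ∉ I := fun h' => ha (Finset.mem_powerset.mp hI h')
  rw [Finset.card_insert_of_notMem haI, Finset.sum_insert haI, pow_succ, add_assoc]
  ring

lemma E_map {ι κ : Type} (e : ι ↪ κ) (s : Finset ι) (φ : G → ℝ) (x : κ → G) (h : G) :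
    E (s.map e) φ x h = E s φ (x ∘ e) h := by
  unfold E
  have hp : (s.map e).powerset = s.powerset.map ⟨Finset.map e, Finset.map_injective e⟩ := by
    ext t
    simp only [Finset.mem_powerset, Finset.mem_map, Function.Embedding.coeFn_mk]
    rw [Finset.subset_map_iff]
    constructor
    · rintro ⟨u, hu, rfl⟩; exact ⟨u, hu, rfl⟩
    · rintro ⟨u, hu, rfl⟩; exact ⟨u, hu, rfl⟩
  rw [hp, Finset.sum_map]
  refine Finset.sum_congr rfl fun I _ => ?_
  simp only [Function.Embedding.coeFn_mk, Finset.card_map, Finset.sum_map, Function.comp]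

lemma E_snoc {k : ℕ} (φ : G → ℝ) (y : Fin k → G) (c h : G) :
    E Finset.univ φ (Fin.snoc y c : Fin (k + 1) → G) h =
      E Finset.univ φ y h - E Finset.univ φ y (h + c) := by
  classical
  rw [Fin.univ_castSuccEmb, Finset.cons_eq_insert, E_insert _ _ (by simp), E_map, E_map]
  have : ((Fin.snoc y c : Fin (k + 1) → G) ∘ Fin.castSuccEmb) = y := by
    funext i
    simp
  rw [this, Fin.snoc_last]

lemma E_cons {k : ℕ} (φ : G → ℝ) (y : Fin k → G) (c h : G) :
    E Finset.univ φ (Fin.cons c y : Fin (k + 1) → G) h =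
      E Finset.univ φ y h - E Finset.univ φ y (h + c) := by
  classical
  rw [Fin.univ_succ, Finset.cons_eq_insert, E_insert _ _ (by simp), E_map, E_map]
  have : ((Fin.cons c y : Fin (k + 1) → G) ∘ (⟨Fin.succ, Fin.succ_injective _⟩ : Fin k ↪ Fin (k + 1)))
      = y := by
    funext i
    simp
  rw [this, Fin.cons_zero]

lemma E_zero (φ : G → ℝ) (y : Fin 0 → G) (h : G) : E Finset.univ φ y h = φ h := by
  simp [E, Finset.univ_eq_empty]

lemma Dev_eq (k : ℕ) (φ : G → ℝ) (x : Fin k → G) :
    ∑ I ∈ ((Finset.univ : Finset (Fin k)).powerset.erase ∅),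
      (-1 : ℝ) ^ (k + I.card) * φ (∑ i ∈ I, x i) = (-1) ^ k * (E Finset.univ φ x 0 - φ 0) := by
  unfold E
  have h0 : (∅ : Finset (Fin k)) ∈ (Finset.univ : Finset (Fin k)).powerset :=
    Finset.empty_mem_powerset _
  have := Finset.sum_erase_eq_sub (f := fun I : Finset (Fin k) =>
    (-1 : ℝ) ^ I.card * φ (0 + ∑ i ∈ I, x i)) h0
  simp only [Finset.card_empty, pow_zero, Finset.sum_empty, add_zero, one_mul] at this
  rw [← this, Finset.mul_sum]
  refine Finset.sum_congr rfl fun I _ => ?_
  rw [pow_add, zero_add, mul_assoc]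

end helpers

section analytic

variable {G : Type u} [AddCommGroup G] [TopologicalSpace G] [IsTopologicalAddGroup G]
  [CompactSpace G] [T2Space G] [MeasurableSpace G] [BorelSpace G] (μ : Measure G)
  [μ.IsAddHaarMeasure] [IsProbabilityMeasure μ]

/-- the normalised partial integral -/
noncomputable def phi (m : ℕ) (ψ : (Fin (m + 1) → G) → ℝ) (g : G) : ℝ :=
  (-1 : ℝ) ^ m * ∫ u, ψ (Fin.cons g u) ∂(Measure.pi fun _ : Fin m => μ)

def Cocycle {k : ℕ} (ψ : (Fin k → G) → ℝ) : Prop :=
  ∀ (i j : Fin k), i ≠ j → ∀ (x : Fin k → G) (a b c : G),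
    ψ (Function.update (Function.update x i (a + b)) j c) +
        ψ (Function.update (Function.update x i a) j b) =
      ψ (Function.update (Function.update x i a) j (b + c)) +
        ψ (Function.update (Function.update x i b) j c)

/-- integrate out the last variable -/
noncomputable def down {m : ℕ} (ψ : (Fin (m + 1) → G) → ℝ) (y : Fin m → G) : ℝ :=
  -∫ c, ψ (Fin.snoc y c) ∂μ

lemma continuous_down {m : ℕ} (ψ : (Fin (m + 1) → G) → ℝ) (hψc : Continuous ψ) :
    Continuous (down μ ψ) :=
  (continuous_integral_snoc μ ψ hψc).neg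

lemma integrable_snoc {m : ℕ} (ψ : (Fin (m + 1) → G) → ℝ) (hψc : Continuous ψ)
    (y : Fin m → G) : Integrable (fun c => ψ (Fin.snoc y c)) μ :=
  integrable_G μ _ (hψc.comp (Continuous.finSnoc continuous_const continuous_id))

lemma cocycle_down {m : ℕ} (ψ : (Fin (m + 1) → G) → ℝ) (hψc : Continuous ψ)
    (hψ : Cocycle ψ) : Cocycle (down μ ψ) := by
  intro i j hij y a b c
  unfold down
  have key : ∀ t : G,
      ψ (Fin.snoc (Function.update (Function.update y i (a + b)) j c) t) +
        ψ (Fin.snoc (Function.update (Function.update y i a) j b) t) =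
      ψ (Fin.snoc (Function.update (Function.update y i a) j (b + c)) t) +
        ψ (Fin.snoc (Function.update (Function.update y i b) j c) t) := by
    intro t
    simp only [Fin.snoc_update]
    exact hψ i.castSucc j.castSucc (fun h => hij (Fin.castSucc_injective _ h)) (Fin.snoc y t) a b c
  have h1 := integral_add (integrable_snoc μ ψ hψc (Function.update (Function.update y i (a + b)) j c))
    (integrable_snoc μ ψ hψc (Function.update (Function.update y i a) j b))
  have h2 := integral_add (integrable_snoc μ ψ hψc (Function.update (Function.update y i a) j (b + c)))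
    (integrable_snoc μ ψ hψc (Function.update (Function.update y i b) j c))
  simp_rw [key] at h1
  rw [h2] at h1
  linarith

lemma phi_down {m : ℕ} (ψ : (Fin (m + 2) → G) → ℝ) (hψc : Continuous ψ) :
    phi μ m (down μ ψ) = phi μ (m + 1) ψ := by
  funext g
  unfold phi down
  have hc : Continuous fun w : Fin (m + 1) → G => ψ (Fin.cons g w) :=
    hψc.comp (Continuous.finCons continuous_const continuous_id)
  rw [integral_pi_snoc μ _ hc, integral_neg, pow_succ]
  simp only [Fin.cons_snoc_eq_snoc_cons]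
  ring

lemma key_identity {m : ℕ} (ψ : (Fin (m + 2) → G) → ℝ) (hψc : Continuous ψ)
    (hψ : Cocycle ψ) (z : Fin m → G) (a b : G) :
    ψ (Fin.snoc (Fin.snoc z a : Fin (m + 1) → G) b) =
      down μ ψ (Fin.snoc z (a + b)) - down μ ψ (Fin.snoc z a) - down μ ψ (Fin.snoc z b) := by
  unfold down
  have upd : ∀ a' c' : G,
      Function.update (Function.update
        (Fin.snoc (Fin.snoc z (0 : G) : Fin (m + 1) → G) (0 : G) : Fin (m + 2) → G)
        (Fin.castSucc (Fin.last m)) a') (Fin.last (m + 1)) c' =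
      Fin.snoc (Fin.snoc z a' : Fin (m + 1) → G) c' := by
    intro a' c'
    rw [← Fin.snoc_update, Fin.update_snoc_last, Fin.update_snoc_last]
  have hne : (Fin.castSucc (Fin.last m) : Fin (m + 2)) ≠ Fin.last (m + 1) :=
    (Fin.castSucc_lt_last _).ne
  have key : ∀ c : G,
      ψ (Fin.snoc (Fin.snoc z (a + b) : Fin (m + 1) → G) c) +
        ψ (Fin.snoc (Fin.snoc z a : Fin (m + 1) → G) b) =
      ψ (Fin.snoc (Fin.snoc z a : Fin (m + 1) → G) (b + c)) +
        ψ (Fin.snoc (Fin.snoc z b : Fin (m + 1) → G) c) := by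
    intro c
    have := hψ _ _ hne (Fin.snoc (Fin.snoc z (0 : G) : Fin (m + 1) → G) (0 : G)) a b c
    simpa only [upd] using this
  have i1 := integrable_snoc μ ψ hψc (Fin.snoc z (a + b))
  have i2 := integrable_snoc μ ψ hψc (Fin.snoc z a)
  have i3 := integrable_snoc μ ψ hψc (Fin.snoc z b)
  have i2' : Integrable (fun c => ψ (Fin.snoc (Fin.snoc z a : Fin (m + 1) → G) (b + c))) μ :=
    integrable_G μ _ (hψc.comp (Continuous.finSnoc continuous_const
      (continuous_const.add continuous_id)))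
  have h1 := integral_add i1 (integrable_const (μ := μ)
    (ψ (Fin.snoc (Fin.snoc z a : Fin (m + 1) → G) b)))
  have h2 := integral_add i2' i3
  simp_rw [key] at h1
  rw [h2] at h1
  have h3 : ∫ c, ψ (Fin.snoc (Fin.snoc z a : Fin (m + 1) → G) (b + c)) ∂μ =
      ∫ c, ψ (Fin.snoc (Fin.snoc z a : Fin (m + 1) → G) c) ∂μ :=
    integral_add_left_eq_self (fun c => ψ (Fin.snoc (Fin.snoc z a : Fin (m + 1) → G) c)) b
  rw [h3] at h1
  simp only [integral_const, probReal_univ, one_smul] at h1
  linarith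

lemma fin1_eq (x : Fin 1 → G) : x = Fin.cons (x 0) (default : Fin 0 → G) := by
  funext i
  have : i = 0 := Subsingleton.elim _ _
  subst this
  simp

theorem core : ∀ (m : ℕ) (ψ : (Fin (m + 1) → G) → ℝ), Continuous ψ → Cocycle ψ →
    ∀ x, ψ x = (-1 : ℝ) ^ (m + 1) * (E Finset.univ (phi μ m ψ) x 0 - phi μ m ψ 0) := by
  intro m
  induction m with
  | zero =>
    intro ψ hψc _ x
    have hphi : ∀ g, phi μ 0 ψ g = ψ (Fin.cons g (default : Fin 0 → G)) := by
      intro g
      unfold phi
      rw [integral_unique]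
      simp
    obtain ⟨y, b, rfl⟩ : ∃ (y : Fin 0 → G) (b : G), x = Fin.snoc y b :=
      ⟨Fin.init x, x (Fin.last _), (Fin.snoc_init_self x).symm⟩
    rw [E_snoc, E_zero, E_zero, zero_add b, hphi b]
    have : (Fin.snoc y b : Fin 1 → G) = Fin.cons b (default : Fin 0 → G) := by
      rw [fin1_eq (Fin.snoc y b)]
      congr 1
    rw [this]
    ring
  | succ m ih =>
    intro ψ hψc hψ x
    have IH := ih (down μ ψ) (continuous_down μ ψ hψc) (cocycle_down μ ψ hψc hψ)
    rw [phi_down μ ψ hψc] at IH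
    obtain ⟨y, b, rfl⟩ : ∃ (y : Fin (m + 1) → G) (b : G), x = Fin.snoc y b :=
      ⟨Fin.init x, x (Fin.last _), (Fin.snoc_init_self x).symm⟩
    obtain ⟨z, a, rfl⟩ : ∃ (z : Fin m → G) (a : G), y = Fin.snoc z a :=
      ⟨Fin.init y, y (Fin.last _), (Fin.snoc_init_self y).symm⟩
    rw [key_identity μ ψ hψc hψ z a b, IH, IH, IH]
    simp only [E_snoc, zero_add]
    rw [add_comm b a, pow_succ (-1 : ℝ) (m + 1)]
    ring

lemma continuous_E {k : ℕ} (φ : G → ℝ) (hφ : Continuous φ) (h : G) :
    Continuous fun u : Fin k → G => E Finset.univ φ u h := by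
  unfold E
  exact continuous_finsetSum _ fun I _ => continuous_const.mul
    (hφ.comp (continuous_const.add (continuous_finsetSum _ fun i _ => continuous_apply i)))

lemma integral_E {k : ℕ} (φ : G → ℝ) (hφ : Continuous φ) (h : G) :
    ∫ u, E Finset.univ φ u h ∂(Measure.pi fun _ : Fin k => μ) =
      φ h + (∑ I ∈ ((Finset.univ : Finset (Fin k)).powerset.erase ∅), (-1 : ℝ) ^ I.card) *
        ∫ g, φ g ∂μ := by
  unfold E
  rw [integral_finsetSum]
  · have h0 : (∅ : Finset (Fin k)) ∈ (Finset.univ : Finset (Fin k)).powerset :=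
      Finset.empty_mem_powerset _
    rw [← Finset.add_sum_erase _ _ h0]
    congr 1
    · simp
    · rw [Finset.sum_mul]
      refine Finset.sum_congr rfl fun I hI => ?_
      have hne : I.Nonempty := Finset.nonempty_iff_ne_empty.mpr (Finset.mem_erase.mp hI).1
      rw [integral_const_mul, integral_pi_sum μ k I hne h φ hφ]
  · intro I _
    exact integrable_pi μ _ (continuous_const.mul
      (hφ.comp (continuous_const.add (continuous_finsetSum _ fun i _ => continuous_apply i))))

theorem main (m : ℕ) (_hm : 1 ≤ m) (ψ : (Fin (m + 1) → G) → ℝ) (hψc : Continuous ψ)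
    (hψ : ∀ (i j : Fin (m + 1)), i ≠ j → ∀ (x : Fin (m + 1) → G) (a b c : G),
      ψ (Function.update (Function.update x i (a + b)) j c) + ψ (Function.update (Function.update x i a) j b) =
        ψ (Function.update (Function.update x i a) j (b + c)) + ψ (Function.update (Function.update x i b) j c)) :
    (∀ x : Fin (m + 1) → G,
      ψ x = ∑ I ∈ ((Finset.univ : Finset (Fin (m + 1))).powerset.erase ∅),
        (-1 : ℝ) ^ (m + 1 + I.card) * ((-1 : ℝ) ^ m *
          ∫ u, ψ (Fin.cons (∑ i ∈ I, x i) u) ∂(MeasureTheory.Measure.pi (fun _ : Fin m => μ)))) ∧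
    Continuous (fun g : G => (-1 : ℝ) ^ m * ∫ u, ψ (Fin.cons g u) ∂(MeasureTheory.Measure.pi (fun _ : Fin m => μ))) ∧
    (∀ φ : G → ℝ, Continuous φ → (∀ x : Fin (m + 1) → G,
      ψ x = ∑ I ∈ ((Finset.univ : Finset (Fin (m + 1))).powerset.erase ∅), (-1 : ℝ) ^ (m + 1 + I.card) * φ (∑ i ∈ I, x i)) →
      φ = fun g => (-1 : ℝ) ^ m * ∫ u, ψ (Fin.cons g u) ∂(MeasureTheory.Measure.pi (fun _ : Fin m => μ))) := by
  refine ⟨fun x => ?_, ?_, ?_⟩
  · exact (core μ m ψ hψc hψ x).trans (Dev_eq (m + 1) (phi μ m ψ) x).symm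
  · exact continuous_const.mul (continuous_integral_cons μ ψ hψc)
  · intro φ hφ hdev
    funext g
    have h1 : ∀ u : Fin m → G, ψ (Fin.cons g u) =
        (-1 : ℝ) ^ (m + 1) * (E Finset.univ φ u 0 - E Finset.univ φ u g - φ 0) := by
      intro u
      rw [hdev, Dev_eq, E_cons, zero_add]
    simp_rw [h1]
    have i0 := integrable_pi μ _ (continuous_E (k := m) φ hφ 0)
    have ig := integrable_pi μ _ (continuous_E (k := m) φ hφ g)
    have i01 : Integrable (fun u : Fin m → G => E Finset.univ φ u 0 - E Finset.univ φ u g)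
        (Measure.pi fun _ : Fin m => μ) := i0.sub ig
    rw [integral_const_mul, integral_sub i01 (integrable_const _), integral_sub i0 ig,
      integral_E μ φ hφ, integral_E μ φ hφ, integral_const, probReal_univ, one_smul, pow_succ]
    have : ((-1 : ℝ) ^ m) * ((-1 : ℝ) ^ m) = 1 := by
      rw [← pow_add, ← two_mul, pow_mul, neg_one_sq, one_pow]
    linear_combination (-φ g) * this

end analytic



/-- Let G be a compact Hausdorff commutative topological group, written additively, μ its Haar measure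
of total mass 1, m ≥ 1 an integer and ψ : G^{m+1} → ℝ a continuous function which is a 2-cocycle
with respect to every pair of variables: for all positions i ≠ j, every point x of G^{m+1} and all
a, b, c in G, writing x[i ↦ a, j ↦ c] for x with its i-th coordinate replaced by a and its j-th by
c, one has ψ(x[i ↦ a+b, j ↦ c]) + ψ(x[i ↦ a, j ↦ b]) = ψ(x[i ↦ a, j ↦ b+c]) + ψ(x[i ↦ b, j ↦ c]).
Let φ : G → ℝ be φ(g) = (−1)^m ∫_{G^m} ψ(g, u_1, …, u_m) dμ^{⊗m}(u). Then ψ is the (m+1)-st
deviation of φ, namely ψ(x) = Σ_{∅ ≠ I ⊆ {0,…,m}} (−1)^{m+1+|I|} φ(Σ_{i ∈ I} x_i) for every x; φ is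
continuous; and φ is the unique continuous function G → ℝ with this property. -/
theorem result {G : Type u} [AddCommGroup G] [TopologicalSpace G] [IsTopologicalAddGroup G] [CompactSpace G] [T2Space G]
    [MeasurableSpace G] [BorelSpace G] (μ : MeasureTheory.Measure G) [μ.IsAddHaarMeasure] [MeasureTheory.IsProbabilityMeasure μ]
    (m : ℕ) (hm : 1 ≤ m) (ψ : (Fin (m + 1) → G) → ℝ) (hψc : Continuous ψ)
    (hψ : ∀ (i j : Fin (m + 1)), i ≠ j → ∀ (x : Fin (m + 1) → G) (a b c : G),
      ψ (Function.update (Function.update x i (a + b)) j c) + ψ (Function.update (Function.update x i a) j b) =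
        ψ (Function.update (Function.update x i a) j (b + c)) + ψ (Function.update (Function.update x i b) j c)) :
    (∀ x : Fin (m + 1) → G,
      ψ x = ∑ I ∈ ((Finset.univ : Finset (Fin (m + 1))).powerset.erase ∅),
        (-1 : ℝ) ^ (m + 1 + I.card) * ((-1 : ℝ) ^ m *
          ∫ u, ψ (Fin.cons (∑ i ∈ I, x i) u) ∂(MeasureTheory.Measure.pi (fun _ : Fin m => μ)))) ∧
    Continuous (fun g : G => (-1 : ℝ) ^ m * ∫ u, ψ (Fin.cons g u) ∂(MeasureTheory.Measure.pi (fun _ : Fin m => μ))) ∧
    (∀ φ : G → ℝ, Continuous φ → (∀ x : Fin (m + 1) → G,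
      ψ x = ∑ I ∈ ((Finset.univ : Finset (Fin (m + 1))).powerset.erase ∅), (-1 : ℝ) ^ (m + 1 + I.card) * φ (∑ i ∈ I, x i)) →
      φ = fun g => (-1 : ℝ) ^ m * ∫ u, ψ (Fin.cons g u) ∂(MeasureTheory.Measure.pi (fun _ : Fin m => μ))) := by
  exact main μ m hm ψ hψc hψ

end Groth.Agent.S14297
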