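import Groth.Statements.S14305
import Mathlib

set_option autoImplicit false
universe u v
open PtDeg

namespace Groth.Agent.S14305

/-- alternating sum over the powerset -/
def D {A : Type u} {G : Type v} [AddCommGroup A] [AddCommGroup G]
    (f : A → G) {ι : Type} [DecidableEq ι] (s : Finset ι) (x : ι → A) (c : A) : G :=
  ∑ I ∈ s.powerset, ((-1 : ℤ) ^ I.card) • f (c + ∑ i ∈ I, x i)

section
variable {A : Type u} {G : Type v} [AddCommGroup A] [AddCommGroup G]

theorem D_insert (f : A → G) {ι : Type} [DecidableEq ι] (s : Finset ι) (x : ι → A) (c : A)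
    (j : ι) (hj : j ∉ s) :
    D f (insert j s) x c = D f s x c - D f s x (c + x j) := by
  unfold D
  rw [Finset.sum_powerset_insert hj, sub_eq_add_neg, ← Finset.sum_neg_distrib]
  congr 1
  apply Finset.sum_congr rfl
  intro t ht
  have hjt : j ∉ t := fun h => hj (Finset.mem_powerset.mp ht h)
  rw [Finset.card_insert_of_notMem hjt, Finset.sum_insert hjt, pow_succ, mul_neg_one, neg_smul,
    add_assoc]

theorem D_congr (f : A → G) {ι : Type} [DecidableEq ι] (s : Finset ι) (x x' : ι → A) (c : A)
    (h : ∀ i ∈ s, x i = x' i) : D f s x c = D f s x' c := by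
  unfold D
  apply Finset.sum_congr rfl
  intro t ht
  rw [Finset.sum_congr rfl (fun i hi => h i (Finset.mem_powerset.mp ht hi))]

theorem powerset_map' {ι κ : Type} (e : ι ↪ κ) (s : Finset ι) :
    (s.map e).powerset = s.powerset.map (Finset.mapEmbedding e).toEmbedding := by
  ext t
  rw [Finset.mem_powerset, Finset.subset_map_iff, Finset.mem_map]
  constructor
  · rintro ⟨u, hu, rfl⟩; exact ⟨u, Finset.mem_powerset.mpr hu, rfl⟩
  · rintro ⟨u, hu, rfl⟩; exact ⟨u, Finset.mem_powerset.mp hu, rfl⟩

theorem D_map (f : A → G) {ι κ : Type} [DecidableEq ι] [DecidableEq κ] (e : ι ↪ κ)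
    (s : Finset ι) (x : κ → A) (c : A) :
    D f (s.map e) x c = D f s (fun i => x (e i)) c := by
  unfold D
  rw [powerset_map' e s, Finset.sum_map]
  apply Finset.sum_congr rfl
  intro t _
  have h1 : (Finset.mapEmbedding e).toEmbedding t = t.map e := rfl
  rw [h1, Finset.card_map, Finset.sum_map]

theorem D_update (f : A → G) {ι : Type} [DecidableEq ι] (s : Finset ι) (j : ι) (hj : j ∈ s)
    (y : ι → A) (c c' : A) :
    D f s (Function.update y j c) c' = D f (s.erase j) y c' - D f (s.erase j) y (c' + c) := by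
  have h1 : ∀ c'', D f (s.erase j) (Function.update y j c) c'' = D f (s.erase j) y c'' := by
    intro c''
    apply D_congr
    intro i hi
    exact Function.update_of_ne (Finset.ne_of_mem_erase hi) _ _
  conv_lhs => rw [← Finset.insert_erase hj]
  rw [D_insert f _ _ _ j (Finset.notMem_erase j s), h1, h1, Function.update_self]

theorem D_snoc (f : A → G) (n : ℕ) (z : Fin n → A) (b c : A) :
    D f (Finset.univ : Finset (Fin (n+1))) (@Fin.snoc n (fun _ => A) z b) c
      = D f Finset.univ z c - D f Finset.univ z (c + b) := by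
  have hu : (Finset.univ : Finset (Fin (n+1)))
      = insert (Fin.last n) ((Finset.univ : Finset (Fin n)).map Fin.castSuccEmb) := by
    ext i
    simp only [Finset.mem_univ, Finset.mem_insert, Finset.mem_map, true_and, true_iff]
    rcases Fin.eq_castSucc_or_eq_last i with ⟨i', rfl⟩ | rfl
    · right; exact ⟨i', rfl⟩
    · left; rfl
  have hnot : Fin.last n ∉ (Finset.univ : Finset (Fin n)).map Fin.castSuccEmb := by
    intro h
    rw [Finset.mem_map] at h
    obtain ⟨i, _, hi⟩ := h
    exact Fin.castSucc_ne_last i hi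
  rw [hu, D_insert f _ _ _ _ hnot, D_map, D_map]
  have hz : (fun i => (@Fin.snoc n (fun _ => A) z b) (Fin.castSuccEmb i)) = z := by
    funext i
    exact Fin.snoc_castSucc (α := fun _ => A) b z i
  rw [hz, Fin.snoc_last]

theorem dev_eq (f : A → G) (k : ℕ) (x : Fin k → A) :
    ∑ I ∈ ((Finset.univ : Finset (Fin k)).powerset.erase ∅),
        ((-1 : ℤ) ^ (k + I.card)) • f (∑ i ∈ I, x i)
      = ((-1 : ℤ) ^ k) • (D f Finset.univ x 0 - f 0) := by
  rw [Finset.sum_erase_eq_sub (Finset.empty_mem_powerset _)]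
  unfold D
  rw [smul_sub, Finset.smul_sum]
  congr 1
  apply Finset.sum_congr rfl
  intro I _
  rw [pow_add, mul_smul, zero_add]

theorem core (f : A → G) (n : ℕ) (j : Fin n) (y : Fin n → A) (a b : A) :
    D f Finset.univ (@Fin.snoc n (fun _ => A) (Function.update y j a) b) 0 - f 0
      = -((D f Finset.univ (Function.update y j (a+b)) 0 - f 0)
          - (D f Finset.univ (Function.update y j a) 0 - f 0)
          - (D f Finset.univ (Function.update y j b) 0 - f 0)) := by
  rw [D_snoc, D_update f _ j (Finset.mem_univ j), D_update f _ j (Finset.mem_univ j),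
    D_update f _ j (Finset.mem_univ j), D_update f _ j (Finset.mem_univ j)]
  simp only [zero_add]
  rw [add_comm b a]
  abel

end



/-- Let A and G be abelian groups, written additively, f : A → G a map and n ≥ 1. For k ≥ 0 the k-th
deviation of f is the map A^k → G, (y_1, …, y_k) ↦ Σ_{∅ ≠ I ⊆ {1,…,k}} (−1)^{k+|I|} f(Σ_{i ∈ I}
y_i). Then f is pointed of degree n, meaning that its (n+1)-st deviation vanishes identically, if
and only if its n-th deviation is additive in each variable separately (with the other variables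
fixed). -/
theorem result {A : Type u} {G : Type v} [AddCommGroup A] [AddCommGroup G]
    (f : A → G) (n : ℕ) (hn : 1 ≤ n) :
    (∀ x : Fin (n + 1) → A, ∑ I ∈ ((Finset.univ : Finset (Fin (n + 1))).powerset.erase ∅), ((-1 : ℤ) ^ (n + 1 + I.card)) • f (∑ i ∈ I, x i) = 0) ↔
      (∀ (j : Fin n) (y : Fin n → A) (a b : A),
        ∑ I ∈ ((Finset.univ : Finset (Fin n)).powerset.erase ∅), ((-1 : ℤ) ^ (n + I.card)) • f (∑ i ∈ I, (Function.update y j (a + b)) i) =
          ∑ I ∈ ((Finset.univ : Finset (Fin n)).powerset.erase ∅), ((-1 : ℤ) ^ (n + I.card)) • f (∑ i ∈ I, (Function.update y j a) i) + ∑ I ∈ ((Finset.univ : Finset (Fin n)).powerset.erase ∅), ((-1 : ℤ) ^ (n + I.card)) • f (∑ i ∈ I, (Function.update y j b) i)) := by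
  have hunit : IsUnit ((-1 : ℤ) ^ n) := (isUnit_one.neg).pow n
  have hunit' : IsUnit ((-1 : ℤ) ^ (n+1)) := (isUnit_one.neg).pow (n+1)
  simp only [dev_eq]
  constructor
  · intro H j y a b
    rw [← smul_add, hunit.smul_left_cancel]
    have h1 := H (@Fin.snoc n (fun _ => A) (Function.update y j a) b)
    rw [hunit'.smul_eq_zero, core] at h1
    have h2 := neg_eq_zero.mp h1
    rw [sub_sub, sub_eq_zero] at h2
    exact h2
  · intro H x
    rw [hunit'.smul_eq_zero]
    have hn' : n - 1 < n := by omega
    have hx : x = (@Fin.snoc n (fun _ => A) (Function.update (Fin.init x) ⟨n - 1, hn'⟩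
        (Fin.init x ⟨n - 1, hn'⟩)) (x (Fin.last n))) := by
      rw [Function.update_eq_self, Fin.snoc_init_self]
    rw [hx, core]
    have h2 := H ⟨n - 1, hn'⟩ (Fin.init x) (Fin.init x ⟨n - 1, hn'⟩) (x (Fin.last n))
    rw [← smul_add, hunit.smul_left_cancel] at h2
    rw [h2]
    abel


end Groth.Agent.S14305
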