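import Groth.Statements.S14309
import Mathlib

set_option autoImplicit false
universe u v w x y
open CAlg

namespace Groth.Agent.S14309

theorem decomp {R : Type u} [CommRing R] {σ : Type y} (F : MvPolynomial (Option σ) R) :
    ∃ (P : MvPolynomial σ R) (Q : MvPolynomial (Option σ) R),
      F = MvPolynomial.rename (Option.some : σ → Option σ) P + MvPolynomial.X none * Q := by
  induction F using MvPolynomial.induction_on with
  | C r => exact ⟨MvPolynomial.C r, 0, by simp⟩
  | add p q hp hq =>
    obtain ⟨P1, Q1, h1⟩ := hp
    obtain ⟨P2, Q2, h2⟩ := hq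
    exact ⟨P1 + P2, Q1 + Q2, by rw [h1, h2, map_add]; ring⟩
  | mul_X p n hp =>
    obtain ⟨P1, Q1, h1⟩ := hp
    cases n with
    | none => exact ⟨0, p, by rw [map_zero, zero_add, mul_comm]⟩
    | some s =>
      exact ⟨P1 * MvPolynomial.X s, Q1 * MvPolynomial.X (some s), by
        rw [h1, map_mul, MvPolynomial.rename_X]; ring⟩



/-- Let R be a commutative ring; A, B, C commutative R-algebras; i : A → B and j : A → C jointly
injective R-algebra maps; c a non-zero-divisor of B; u : C → B/(c) a ring map with u ∘ j equal to i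
followed by reduction modulo c; ζ in A with i ζ = c and j ζ = 0; η : R[X_σ, Z] → A an R-algebra map
with η(Z) = ζ; a : R[Y_τ] → B a surjective R-algebra map; η_Z : R[X_σ, Z] → R[Y_τ] a surjective
R-algebra map with a ∘ η_Z = i ∘ η. Fix c̃ in R[Y_τ] with a(c̃) = c, a family (p_h) generating the
kernel of the composite R[X_σ] → R[X_σ, Z] → A → C, a family (q'_h) generating the kernel of a
together with lifts q_h along η_Z, a family (v_h) generating the kernel of η_Z, and elements g'_h of
R[Y_τ] with η_Z(p_h) + g'_h c̃ in the ideal (q'_h), together with lifts g_h along η_Z. Then the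
kernel of η is the ideal generated by the elements Z q_h, Z v_h and p_h + Z g_h. (The published
statement is for the rings of cycle classes, with coefficients ℤ[1/6], of a smooth quotient stack, a
smooth closed substack whose normal bundle has top Chern class c a non-zero-divisor, and the open
complement; this row states the ring-theoretic content for any such square of commutative rings in
which A embeds in B × C.) -/
theorem result
    {R : Type u} [CommRing R] {A : Type v} {B : Type w} {C : Type x}
    [CommRing A] [CommRing B] [CommRing C] [Algebra R A] [Algebra R B] [Algebra R C]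
    (i : A →ₐ[R] B) (j : A →ₐ[R] C)
    (hinj : ∀ t : A, i t = 0 → j t = 0 → t = 0)
    (c : B) (hc : c ∈ nonZeroDivisors B) (u : C →+* B ⧸ Ideal.span ({c} : Set B))
    (hu : ∀ t : A, u (j t) = Ideal.Quotient.mk (Ideal.span ({c} : Set B)) (i t))
    (ζ : A) (hiζ : i ζ = c) (hjζ : j ζ = 0)
    {σ τ ιp ιq ιv : Type y}
    (η : MvPolynomial (Option σ) R →ₐ[R] A) (hη : η (MvPolynomial.X none) = ζ)
    (a : MvPolynomial τ R →ₐ[R] B) (ha : Function.Surjective a)
    (ηZ : MvPolynomial (Option σ) R →ₐ[R] MvPolynomial τ R)
    (hcomm : ∀ t, a (ηZ t) = i (η t)) (hηZ : Function.Surjective ηZ)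
    (cZ : MvPolynomial τ R) (hcZ : a cZ = c)
    (p : ιp → MvPolynomial σ R)
    (hp : Ideal.span (Set.range p) =
      RingHom.ker ((j.comp η).comp (MvPolynomial.rename (Option.some : σ → Option σ))))
    (q' : ιq → MvPolynomial τ R) (hq' : Ideal.span (Set.range q') = RingHom.ker a)
    (q : ιq → MvPolynomial (Option σ) R) (hq : ∀ h, ηZ (q h) = q' h)
    (v : ιv → MvPolynomial (Option σ) R) (hv : Ideal.span (Set.range v) = RingHom.ker ηZ)
    (g' : ιp → MvPolynomial τ R)
    (hg' : ∀ h, ηZ (MvPolynomial.rename (Option.some : σ → Option σ) (p h)) + g' h * cZ ∈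
      Ideal.span (Set.range q'))
    (g : ιp → MvPolynomial (Option σ) R) (hg : ∀ h, ηZ (g h) = g' h) :
    RingHom.ker η = Ideal.span
      (Set.range (fun h : ιq => MvPolynomial.X none * q h) ∪
        Set.range (fun h : ιv => MvPolynomial.X none * v h) ∪
        Set.range (fun h : ιp =>
          MvPolynomial.rename (Option.some : σ → Option σ) (p h) + MvPolynomial.X none * g h)) := by
  set J := Ideal.span
      (Set.range (fun h : ιq => MvPolynomial.X none * q h) ∪
        Set.range (fun h : ιv => MvPolynomial.X none * v h) ∪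
        Set.range (fun h : ιp =>
          MvPolynomial.rename (Option.some : σ → Option σ) (p h) + MvPolynomial.X none * g h)) with hJ
  -- η kills Z * Q as soon as a (ηZ Q) = 0
  have hZ : ∀ Q : MvPolynomial (Option σ) R, a (ηZ Q) = 0 → η (MvPolynomial.X none * Q) = 0 := by
    intro Q hQ
    apply hinj
    · rw [map_mul, hη, map_mul, ← hcomm Q, hQ, mul_zero]
    · rw [map_mul, hη, map_mul, hjζ, zero_mul]
  have hge : J ≤ RingHom.ker η := by
    rw [hJ, Ideal.span_le]
    rintro _ ((⟨h, rfl⟩ | ⟨h, rfl⟩) | ⟨h, rfl⟩)
    · apply hZ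
      rw [hq]
      have : q' h ∈ RingHom.ker a := by rw [← hq']; exact Ideal.subset_span ⟨h, rfl⟩
      exact this
    · apply hZ
      have : v h ∈ RingHom.ker ηZ := by rw [← hv]; exact Ideal.subset_span ⟨h, rfl⟩
      rw [RingHom.mem_ker] at this
      rw [this, map_zero]
    · show η _ = 0
      apply hinj
      · rw [← hcomm, map_add, map_mul, hg]
        have h1 : a (ηZ (MvPolynomial.X none)) = a cZ := by rw [hcomm, hη, hiζ, hcZ]
        have h2 := hg' h
        rw [hq', RingHom.mem_ker, map_add, map_mul] at h2
        rw [map_add, map_mul, h1, mul_comm]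
        exact h2
      · have h1 : p h ∈ RingHom.ker ((j.comp η).comp (MvPolynomial.rename (Option.some : σ → Option σ))) := by
          rw [← hp]; exact Ideal.subset_span ⟨h, rfl⟩
        rw [RingHom.mem_ker] at h1
        have h1' : j (η (MvPolynomial.rename Option.some (p h))) = 0 := h1
        rw [map_add, map_add, h1', map_mul, hη, map_mul, hjζ, zero_mul, add_zero]
  apply le_antisymm _ hge
  intro F hF
  rw [RingHom.mem_ker] at hF
  obtain ⟨P, Q, rfl⟩ := decomp F
  -- P is in span p
  have hP : P ∈ Ideal.span (Set.range p) := by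
    rw [hp, RingHom.mem_ker]
    show j (η (MvPolynomial.rename Option.some P)) = 0
    have := congrArg j hF
    rw [map_add, map_add, map_mul, hη, map_mul, hjζ, zero_mul, add_zero, map_zero] at this
    exact this
  -- so rename P ≡ - Z * G mod J for some G
  have hP2 : ∀ P ∈ Ideal.span (Set.range p), ∃ G : MvPolynomial (Option σ) R,
      MvPolynomial.rename (Option.some : σ → Option σ) P + MvPolynomial.X none * G ∈ J := by
    intro P hP
    induction hP using Submodule.span_induction with
    | mem x hx =>
      obtain ⟨h, rfl⟩ := hx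
      exact ⟨g h, Ideal.subset_span (Or.inr ⟨h, rfl⟩)⟩
    | zero => exact ⟨0, by simp⟩
    | add x y _ _ hx hy =>
      obtain ⟨G1, h1⟩ := hx
      obtain ⟨G2, h2⟩ := hy
      refine ⟨G1 + G2, ?_⟩
      have := J.add_mem h1 h2
      rw [map_add]
      convert this using 1
      ring
    | smul r x _ hx =>
      obtain ⟨G1, h1⟩ := hx
      refine ⟨MvPolynomial.rename Option.some r * G1, ?_⟩
      have := J.mul_mem_left (MvPolynomial.rename Option.some r) h1
      rw [smul_eq_mul, map_mul]
      convert this using 1
      ring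
  obtain ⟨G, hG⟩ := hP2 P hP
  -- remaining: Z * (Q - G) ∈ J
  suffices h : MvPolynomial.X none * (Q - G) ∈ J by
    have := J.add_mem hG h
    convert this using 1
    ring
  have hker : η (MvPolynomial.X none * (Q - G)) = 0 := by
    have h1 : η (MvPolynomial.rename Option.some P + MvPolynomial.X none * G) = 0 := hge hG
    have : MvPolynomial.X none * (Q - G) = (MvPolynomial.rename Option.some P + MvPolynomial.X none * Q)
        - (MvPolynomial.rename Option.some P + MvPolynomial.X none * G) := by ring
    rw [this, map_sub, hF, h1, sub_zero]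
  have hQ' : a (ηZ (Q - G)) = 0 := by
    have := congrArg i hker
    rw [map_mul, hη, map_mul, hiζ, map_zero, ← hcomm] at this
    exact (mem_nonZeroDivisors_iff.mp hc).1 _ this
  -- ηZ (Q - G) ∈ span q'
  have h3 : ∀ y ∈ Ideal.span (Set.range q'), ∃ S : MvPolynomial (Option σ) R,
      MvPolynomial.X none * S ∈ J ∧ ηZ S = y := by
    intro y hy
    induction hy using Submodule.span_induction with
    | mem x hx =>
      obtain ⟨h, rfl⟩ := hx
      exact ⟨q h, Ideal.subset_span (Or.inl (Or.inl ⟨h, rfl⟩)), hq h⟩
    | zero => exact ⟨0, by simp, map_zero _⟩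
    | add x y _ _ hx hy =>
      obtain ⟨S1, h1, e1⟩ := hx
      obtain ⟨S2, h2, e2⟩ := hy
      refine ⟨S1 + S2, ?_, by rw [map_add, e1, e2]⟩
      rw [mul_add]; exact J.add_mem h1 h2
    | smul r x _ hx =>
      obtain ⟨S1, h1, e1⟩ := hx
      obtain ⟨r', rfl⟩ := hηZ r
      refine ⟨r' * S1, ?_, by rw [map_mul, e1, smul_eq_mul]⟩
      have := J.mul_mem_left r' h1
      convert this using 1
      ring
  obtain ⟨S, hS, hSe⟩ := h3 (ηZ (Q - G)) (by rw [hq', RingHom.mem_ker]; exact hQ')
  have h4 : Q - G - S ∈ Ideal.span (Set.range v) := by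
    rw [hv, RingHom.mem_ker, map_sub, hSe, sub_self]
  have h5 : ∀ y ∈ Ideal.span (Set.range v), MvPolynomial.X none * y ∈ J := by
    intro y hy
    induction hy using Submodule.span_induction with
    | mem x hx =>
      obtain ⟨h, rfl⟩ := hx
      exact Ideal.subset_span (Or.inl (Or.inr ⟨h, rfl⟩))
    | zero => simp
    | add x y _ _ hx hy => rw [mul_add]; exact J.add_mem hx hy
    | smul r x _ hx =>
      have := J.mul_mem_left r hx
      rw [smul_eq_mul]
      convert this using 1
      ring
  have := J.add_mem (h5 _ h4) hS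
  convert this using 1
  ring

end Groth.Agent.S14309
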