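import Groth.Statements.S1431
import Groth.Agent.S16956
import Groth.Agent.Lib.Helper7.DescFinal
import Groth.Agent.Lib.Helper21.InvFibre

set_option autoImplicit false
universe u
open FlatMor

namespace Groth.Agent.S1431

open AlgebraicGeometry CategoryTheory Limits in
/-- Let f : X → S be flat, proper and of finite presentation such that for every base change p : X_T → T
the map O_T → p_* O_{X_T} is an isomorphism, and let E be a finite locally free O_X-module. Then
some immersion j : Z → S of finite presentation has the property that a morphism g : T → S factors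
through j exactly when the pullback of E to X_T is isomorphic to the pullback along p of some finite
locally free O_T-module. -/
theorem result {X S : Scheme.{u}} (f : X ⟶ S) [Flat f] [IsProper f] [LocallyOfFinitePresentation f]
    (hO : ∀ (T : Scheme.{u}) (g : T ⟶ S) (U : T.Opens), IsIso ((pullback.snd f g).app U))
    (E : X.Modules) (hE : FlatMod.IsFinLocFree E) :
    ∃ (Z : Scheme.{u}) (j : Z ⟶ S), IsImmersion j ∧ LocallyOfFinitePresentation j ∧
      ∀ (T : Scheme.{u}) (g : T ⟶ S), (∃ g' : T ⟶ Z, g' ≫ j = g) ↔
        ∃ N : T.Modules, FlatMod.IsFinLocFree N ∧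
          Nonempty ((Scheme.Modules.pullback (pullback.snd f g)).obj N ≅ (Scheme.Modules.pullback (pullback.fst f g)).obj E) := by
  classical
  haveI : Coh.IsQCoh E := Groth.Agent.Lib.helper16.FLF.isQuasicoherent_of_isFinLocFree E hE
  have hfp : CohB1.IsFP E := Groth.Agent.Lib.helper16.FLF.isFinitePresentation_of_isFinLocFree E hE
  have hfl : FlatMod.IsFlatOver f E :=
    Groth.Agent.Lib.helper21.InvFibre.isFlatOver_of_isFinLocFree f E hE
  choose Zr ιr h1 h2 h3 h4 h5 using fun r : ℕ => Groth.Agent.S16956.result f E hfp hfl r
  haveI := h1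
  haveI := h2
  obtain ⟨V, hImm, hlfp, -, huniv⟩ :=
    Groth.Agent.Lib.helper7.DescFinal.exists_immersion_desc f hO E hE Zr ιr
      (fun r T u => h4 r T u)
  exact ⟨_, _, hImm, hlfp, fun T g => huniv T g⟩

end Groth.Agent.S1431
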