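import Groth.Statements.S1432
import Mathlib.AlgebraicGeometry.Morphisms.Descent
import Mathlib.AlgebraicGeometry.Morphisms.ClosedImmersion
-- import your own Groth.Agent.* helpers here

set_option autoImplicit false
universe u
open FlatMor

namespace Groth.Agent.S1432

open AlgebraicGeometry CategoryTheory Limits

/-- The lifting property against injective ring maps. -/
def HasLift {X Y : Scheme.{u}} (f : X ⟶ Y) : Prop :=
  ∀ (A B : Type u) [CommRing A] [CommRing B] (φ : A →+* B), Function.Injective φ →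
      ∀ (a : Spec (CommRingCat.of B) ⟶ X) (b : Spec (CommRingCat.of A) ⟶ Y), Spec.map (CommRingCat.ofHom φ) ≫ b = a ≫ f →
        ∃ l : Spec (CommRingCat.of A) ⟶ X, Spec.map (CommRingCat.ofHom φ) ≫ l = a ∧ l ≫ f = b

theorem injective_appTop_specMap {R S : CommRingCat.{u}} (ψ : R ⟶ S)
    (h : Function.Injective ψ.hom) : Function.Injective (Spec.map ψ).appTop.hom := by
  have e : (Spec.map ψ).appTop = (Scheme.ΓSpecIso R).hom ≫ ψ ≫ (Scheme.ΓSpecIso S).inv := by
    rw [← Scheme.ΓSpecIso_naturality_assoc, Iso.hom_inv_id, Category.comp_id]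
  rw [e]
  simp only [CommRingCat.hom_comp, RingHom.coe_comp]
  exact ((ConcreteCategory.bijective_of_isIso (Scheme.ΓSpecIso S).inv).1.comp h).comp
    (ConcreteCategory.bijective_of_isIso (Scheme.ΓSpecIso R).hom).1

theorem hasLift_of_isClosedImmersion {X Y : Scheme.{u}} (f : X ⟶ Y) [IsClosedImmersion f] :
    HasLift f := by
  intro A B _ _ φ hφ a b hcomm
  let c : Spec (.of B) ⟶ pullback f b :=
    pullback.lift a (Spec.map (CommRingCat.ofHom φ)) hcomm.symm
  have hc : c ≫ pullback.snd f b = Spec.map (CommRingCat.ofHom φ) := pullback.lift_snd _ _ _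
  have hinj : Function.Injective (pullback.snd f b).appTop.hom := by
    have h1 := injective_appTop_specMap (CommRingCat.ofHom φ) hφ
    rw [← hc, Scheme.Hom.comp_appTop, CommRingCat.hom_comp, RingHom.coe_comp] at h1
    exact Function.Injective.of_comp h1
  have : IsIso (pullback.snd f b) := IsClosedImmersion.isIso_of_injective_of_isAffine hinj
  refine ⟨inv (pullback.snd f b) ≫ pullback.fst f b, ?_, ?_⟩
  · rw [← hc, Category.assoc, IsIso.hom_inv_id_assoc]
    exact pullback.lift_fst _ _ _
  · rw [Category.assoc, pullback.condition, IsIso.inv_hom_id_assoc]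

theorem hasLift_pullback_snd {X Y Y' : Scheme.{u}} (f : X ⟶ Y) (g : Y' ⟶ Y) (hf : HasLift f) :
    HasLift (pullback.snd f g) := by
  intro A B _ _ φ hφ a b hcomm
  obtain ⟨l, hl1, hl2⟩ := hf A B φ hφ (a ≫ pullback.fst f g) (b ≫ g)
    (by rw [← Category.assoc, hcomm, Category.assoc, Category.assoc, pullback.condition])
  refine ⟨pullback.lift l b hl2, ?_, pullback.lift_snd _ _ _⟩
  apply pullback.hom_ext
  · rw [Category.assoc, pullback.lift_fst, hl1]
  · rw [Category.assoc, pullback.lift_snd, hcomm]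

theorem isClosedImmersion_of_hasLift_affine {X : Scheme.{u}} {R : CommRingCat.{u}}
    (f : X ⟶ Spec R) [QuasiCompact f] (hf : HasLift f) : IsClosedImmersion f := by
  have : CompactSpace X := QuasiCompact.compactSpace_of_compactSpace f
  obtain ⟨W, w, hsurj, hloc, hW⟩ :=
    X.exists_hom_isAffine_of_isZariskiLocalAtSource @IsLocalIso
  let B : CommRingCat.{u} := Γ(W, ⊤)
  let a : Spec B ⟶ X := W.isoSpec.inv ≫ w
  have hla : IsLocalIso a :=
    (MorphismProperty.cancel_left_of_respectsIso @IsLocalIso W.isoSpec.inv w).2 hloc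
  obtain ⟨ψ, hψ⟩ := Spec.map_surjective (a ≫ f)
  let I : Ideal R := RingHom.ker ψ.hom
  let φ : R ⧸ I →+* B := ψ.hom.kerLift
  have hφ : Function.Injective φ := RingHom.kerLift_injective _
  have hmk : CommRingCat.ofHom (Ideal.Quotient.mk I) ≫ CommRingCat.ofHom φ = ψ := by
    ext x
    exact RingHom.kerLift_mk _ x
  obtain ⟨l, hl1, hl2⟩ := hf (R ⧸ I) B φ hφ a
    (Spec.map (CommRingCat.ofHom (Ideal.Quotient.mk I))) (by rw [← Spec.map_comp, hmk, hψ])
  have hmono : Mono l := by
    have : Mono (l ≫ f) := by rw [hl2]; infer_instance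
    exact mono_of_mono l f
  have hsurj_a : Function.Surjective a.base := by
    intro x
    obtain ⟨p, hp⟩ := hsurj.surj x
    refine ⟨W.isoSpec.hom.base p, ?_⟩
    rw [← Scheme.Hom.comp_apply, Iso.hom_inv_id_assoc]
    exact hp
  have hiso : IsIso l := by
    show MorphismProperty.isomorphisms Scheme l
    apply IsZariskiLocalAtTarget.of_forall_exists_morphismRestrict
      (P := MorphismProperty.isomorphisms Scheme)
    intro x
    obtain ⟨p, rfl⟩ := hsurj_a x
    obtain ⟨U, hpU, hU⟩ := hla.exists_isOpenImmersion p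
    let j : (U : Scheme.{u}) ⟶ X := U.ι ≫ a
    let V : X.Opens := j.opensRange
    refine ⟨V, ⟨⟨p, hpU⟩, rfl⟩, ?_⟩
    let σ : (U : Scheme.{u}) ⟶ Spec (.of (R ⧸ I)) := U.ι ≫ Spec.map (CommRingCat.ofHom φ)
    have hσ : σ ≫ l = j := by rw [Category.assoc, hl1]
    have hrange : Set.range σ.base ⊆ Set.range (l ⁻¹ᵁ V).ι.base := by
      rintro _ ⟨q, rfl⟩
      rw [Scheme.Opens.range_ι]
      show l.base (σ.base q) ∈ V
      rw [← Scheme.Hom.comp_apply, hσ]
      exact ⟨q, rfl⟩
    let σ' : (U : Scheme.{u}) ⟶ (l ⁻¹ᵁ V : Scheme.{u}) := IsOpenImmersion.lift (l ⁻¹ᵁ V).ι σ hrange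
    have hσ' : σ' ≫ (l ⁻¹ᵁ V).ι = σ := IsOpenImmersion.lift_fac _ _ _
    let s : (V : Scheme.{u}) ⟶ (l ⁻¹ᵁ V : Scheme.{u}) := j.isoOpensRange.inv ≫ σ'
    have hs : s ≫ (l ∣_ V) = 𝟙 _ := by
      rw [← cancel_mono V.ι, Category.assoc, Category.assoc, morphismRestrict_ι, ← Category.assoc σ',
        hσ', hσ, Scheme.Hom.isoOpensRange_inv_comp, Category.id_comp]
    have hm : Mono (l ∣_ V) := by
      have : Mono ((l ∣_ V) ≫ V.ι) := by rw [morphismRestrict_ι]; infer_instance
      exact mono_of_mono (l ∣_ V) V.ι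
    have : IsSplitEpi (l ∣_ V) := IsSplitEpi.mk' ⟨s, hs⟩
    exact isIso_of_mono_of_isSplitEpi (l ∣_ V)
  have hf' : f = inv l ≫ Spec.map (CommRingCat.ofHom (Ideal.Quotient.mk I)) := by
    rw [IsIso.eq_inv_comp, hl2]
  rw [hf']
  infer_instance

theorem isClosedImmersion_of_hasLift {X Y : Scheme.{u}} (f : X ⟶ Y) [QuasiCompact f]
    (hf : HasLift f) : IsClosedImmersion f := by
  rw [IsZariskiLocalAtTarget.iff_of_openCover (P := @IsClosedImmersion) Y.affineCover]
  intro i
  have : QuasiCompact (pullback.snd f (Y.affineCover.f i)) := inferInstance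
  exact isClosedImmersion_of_hasLift_affine (pullback.snd f (Y.affineCover.f i))
    (hasLift_pullback_snd f _ hf)

open AlgebraicGeometry CategoryTheory Limits in
/-- For a quasi-compact morphism f : X → Y, being a closed immersion is equivalent to the following
lifting property: for each injective ring map A → B and each commutative square with Spec B → X on
top and Spec A → Y at the bottom there is a lift Spec A → X making both triangles commute. -/
theorem result {X Y : Scheme.{u}} (f : X ⟶ Y) [QuasiCompact f] :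
    IsClosedImmersion f ↔ ∀ (A B : Type u) [CommRing A] [CommRing B] (φ : A →+* B), Function.Injective φ →
      ∀ (a : Spec (CommRingCat.of B) ⟶ X) (b : Spec (CommRingCat.of A) ⟶ Y), Spec.map (CommRingCat.ofHom φ) ≫ b = a ≫ f →
        ∃ l : Spec (CommRingCat.of A) ⟶ X, Spec.map (CommRingCat.ofHom φ) ≫ l = a ∧ l ≫ f = b := by
  exact ⟨fun h => hasLift_of_isClosedImmersion f, fun h => isClosedImmersion_of_hasLift f h⟩

end Groth.Agent.S1432
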