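import Groth.Statements.S1433
import Mathlib

set_option autoImplicit false
universe u
open FlatMor

namespace Groth.Agent.S1433

open AlgebraicGeometry CategoryTheory Limits in
/-- If the canonical morphism X → Spec Γ(X, O_X) has a retraction, then X is affine. -/
theorem result (X : Scheme.{u}) (r : Spec Γ(X, ⊤) ⟶ X) (h : X.toSpecΓ ≫ r = 𝟙 X) : IsAffine X := by
  -- r.appTop is an isomorphism
  have h1 : r.appTop ≫ X.toSpecΓ.appTop = 𝟙 _ := by
    have := congrArg Scheme.Hom.appTop h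
    simpa using this
  have hiso1 : IsIso X.toSpecΓ.appTop := by
    rw [Scheme.toSpecΓ_appTop]; infer_instance
  have hr : IsIso r.appTop := by
    have : r.appTop = inv X.toSpecΓ.appTop := by
      rw [← cancel_mono X.toSpecΓ.appTop, h1, IsIso.inv_hom_id]
    rw [this]; infer_instance
  have hnat : r ≫ X.toSpecΓ = (Spec Γ(X, ⊤)).toSpecΓ ≫ Spec.map r.appTop :=
    Scheme.toSpecΓ_naturality r
  have hiso2 : IsIso (r ≫ X.toSpecΓ) := by
    rw [hnat]; infer_instance
  have hmono : Mono X.toSpecΓ := (SplitMono.mk r h).mono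
  have hepi : IsSplitEpi X.toSpecΓ :=
    ⟨⟨⟨inv (r ≫ X.toSpecΓ) ≫ r, by rw [Category.assoc, IsIso.inv_hom_id]⟩⟩⟩
  exact ⟨isIso_of_mono_of_isSplitEpi _⟩

end Groth.Agent.S1433
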