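import Groth.Statements.S6266
import Mathlib

set_option autoImplicit false
universe u
open scoped TensorProduct
open CAlg

namespace Groth.Agent.S6266

lemma span_one_tmul (R κ M : Type*) [CommRing R] [Field κ] [Algebra R κ] [AddCommGroup M]
    [Module R M] :
    Submodule.span κ (Set.range (fun m : M => (1 : κ) ⊗ₜ[R] m)) = ⊤ := by
  rw [eq_top_iff]
  rintro x -
  induction x using TensorProduct.induction_on with
  | zero => exact zero_mem _
  | tmul c m =>
    have : c ⊗ₜ[R] m = c • ((1:κ) ⊗ₜ[R] m) := by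
      rw [TensorProduct.smul_tmul', smul_eq_mul, mul_one]
    rw [this]
    exact Submodule.smul_mem _ _ (Submodule.subset_span ⟨m, rfl⟩)
  | add x y hx hy => exact add_mem hx hy

/-- localization transfer -/
lemma isLocalizedModule_comp {R : Type*} [CommRing R] {N M M' : Type*} [AddCommGroup N]
    [Module R N] [AddCommGroup M] [Module R M] [AddCommGroup M'] [Module R M']
    (S : Submonoid R) (g : M →ₗ[R] M') [IsLocalizedModule S g] (φ : N →ₗ[R] M) (a : R)
    (ha : a ∈ S) (h1 : ∀ m, a • m ∈ LinearMap.range φ) (h2 : ∀ x, φ x = 0 → a • x = 0) :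
    IsLocalizedModule S (g ∘ₗ φ) where
  map_units := IsLocalizedModule.map_units g
  surj y := by
    obtain ⟨⟨m, s⟩, hms⟩ := IsLocalizedModule.surj S g y
    obtain ⟨x, hx⟩ := h1 m
    refine ⟨⟨x, ⟨a, ha⟩ * s⟩, ?_⟩
    simp only [LinearMap.coe_comp, Function.comp_apply, hx]
    rw [mul_smul, hms]
    simp [Submonoid.smul_def]
  exists_of_eq {x₁ x₂} h := by
    simp only [LinearMap.coe_comp, Function.comp_apply] at h
    obtain ⟨c, hc⟩ := IsLocalizedModule.exists_of_eq (S := S) h
    refine ⟨⟨a, ha⟩ * c, ?_⟩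
    have h0 : φ (c • (x₁ - x₂)) = 0 := by
      rw [Submonoid.smul_def, map_smul, map_sub, smul_sub, sub_eq_zero]
      simpa [Submonoid.smul_def] using hc
    have := h2 _ h0
    simp only [Submonoid.smul_def, smul_sub, sub_eq_zero] at this
    simpa [Submonoid.smul_def, mul_smul] using this

lemma coords_mem (R : Type u) [CommRing R] (M : Type u) [AddCommGroup M] [Module R M]
    [Module.Finite R M] {ι : Type u} [Fintype ι]
    (φ : (ι → R) →ₗ[R] M) (a : R) (h1 : ∀ m, a • m ∈ LinearMap.range φ)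
    (q : PrimeSpectrum R) (haq : a ∉ q.asIdeal)
    (hq : Module.finrank q.asIdeal.ResidueField (q.asIdeal.ResidueField ⊗[R] M) = Fintype.card ι)
    (x : ι → R) (hx : φ x = 0) (i : ι) : x i ∈ q.asIdeal := by
  classical
  set κ := q.asIdeal.ResidueField with hκ
  let Φ : κ ⊗[R] (ι → R) →ₗ[κ] κ ⊗[R] M := φ.baseChange κ
  have ha0 : algebraMap R κ a ≠ 0 := by
    rw [Ne, Ideal.algebraMap_residueField_eq_zero]; exact haq
  have hsurj : Function.Surjective Φ := by
    rw [← LinearMap.range_eq_top, eq_top_iff, ← span_one_tmul R κ M, Submodule.span_le]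
    rintro _ ⟨m, rfl⟩
    obtain ⟨y, hy⟩ := h1 m
    refine ⟨(algebraMap R κ a)⁻¹ ⊗ₜ[R] y, ?_⟩
    simp only [Φ, LinearMap.baseChange_tmul, hy]
    rw [← TensorProduct.smul_tmul, Algebra.smul_def, mul_inv_cancel₀ ha0]
  have hfin : Module.finrank κ (κ ⊗[R] (ι → R)) = Module.finrank κ (κ ⊗[R] M) := by
    rw [hq, (TensorProduct.piScalarRight R κ κ ι).finrank_eq, Module.finrank_pi]
  have hinj : Function.Injective Φ :=
    (LinearMap.injective_iff_surjective_of_finrank_eq_finrank hfin).mpr hsurj
  have h0 : ((1 : κ) ⊗ₜ[R] x : κ ⊗[R] (ι → R)) = 0 := by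
    apply hinj
    simp [Φ, hx]
  have h2 := congrArg (fun t => TensorProduct.piScalarRight R κ κ ι t i) h0
  simp only [TensorProduct.piScalarRight_apply, TensorProduct.piScalarRightHom_tmul, map_zero,
    Pi.zero_apply] at h2
  rw [← Algebra.algebraMap_eq_smul_one, Ideal.algebraMap_residueField_eq_zero] at h2
  exact h2

lemma main_lemma (R : Type u) [CommRing R] [IsReduced R] (M : Type u) [AddCommGroup M] [Module R M]
    [Module.Finite R M]
    (hlc : IsLocallyConstant (fun p : PrimeSpectrum R =>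
      Module.finrank p.asIdeal.ResidueField (p.asIdeal.ResidueField ⊗[R] M)))
    (p : PrimeSpectrum R) :
    ∃ (ι : Type u) (_ : Fintype ι) (φ : (ι → R) →ₗ[R] M) (a : R), a ∉ p.asIdeal ∧
      (∀ m, a • m ∈ LinearMap.range φ) ∧ (∀ x, φ x = 0 → a • x = 0) := by
  classical
  set κ := p.asIdeal.ResidueField with hκ
  obtain ⟨b, hb_sub, hb_span, hb_li⟩ :=
    exists_linearIndependent κ (Set.range (fun m : M => (1 : κ) ⊗ₜ[R] m))
  rw [span_one_tmul] at hb_span
  let B : Module.Basis b κ (κ ⊗[R] M) :=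
    Module.Basis.mk hb_li (by rw [Subtype.range_coe, hb_span])
  have : Finite b := Module.Finite.finite_basis B
  have : Fintype b := Fintype.ofFinite b
  have hcard : Module.finrank κ (κ ⊗[R] M) = Fintype.card b := Module.finrank_eq_card_basis B
  choose m hm using fun i : b => hb_sub i.2
  let φ : (b → R) →ₗ[R] M := Fintype.linearCombination R m
  have hφm : ∀ i, m i ∈ LinearMap.range φ := fun i =>
    ⟨Pi.single i 1, by simp [φ]⟩
  -- a₁
  obtain ⟨a₁, ha₁p, ha₁⟩ : ∃ a₁ : R, a₁ ∉ p.asIdeal ∧ ∀ m, a₁ • m ∈ LinearMap.range φ := by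
    let C := M ⧸ LinearMap.range φ
    let ψ : κ ⊗[R] M →ₗ[κ] κ ⊗[R] C := (LinearMap.range φ).mkQ.baseChange κ
    have hψs : Function.Surjective ψ := by
      have : (ψ : κ ⊗[R] M → κ ⊗[R] C) = (LinearMap.range φ).mkQ.lTensor κ :=
        LinearMap.baseChange_eq_ltensor _
      rw [this]
      exact LinearMap.lTensor_surjective κ (Submodule.mkQ_surjective _)
    have hψ0 : LinearMap.ker ψ = ⊤ := by
      rw [eq_top_iff, ← hb_span, Submodule.span_le]
      intro t ht
      have := hm ⟨t, ht⟩
      simp only at this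
      rw [SetLike.mem_coe, LinearMap.mem_ker, ← this]
      simp only [ψ, LinearMap.baseChange_tmul, Submodule.mkQ_apply]
      rw [(Submodule.Quotient.mk_eq_zero _).mpr (hφm _), TensorProduct.tmul_zero]
    have hsub : Subsingleton (κ ⊗[R] C) := by
      refine ⟨fun x y => ?_⟩
      obtain ⟨x', rfl⟩ := hψs x
      obtain ⟨y', rfl⟩ := hψs y
      have hx : x' ∈ LinearMap.ker ψ := hψ0 ▸ Submodule.mem_top
      have hy : y' ∈ LinearMap.ker ψ := hψ0 ▸ Submodule.mem_top
      rw [LinearMap.mem_ker.mp hx, LinearMap.mem_ker.mp hy]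
    have hps : p ∉ Module.support R C := by
      rw [Module.mem_support_iff_nontrivial_residueField_tensorProduct]
      exact not_nontrivial _
    rw [Module.support_eq_zeroLocus, PrimeSpectrum.mem_zeroLocus, Set.not_subset] at hps
    obtain ⟨a₁, ha₁, ha₁p⟩ := hps
    refine ⟨a₁, ha₁p, fun m => ?_⟩
    have := Module.mem_annihilator.mp ha₁ ((LinearMap.range φ).mkQ m)
    rwa [← map_smul, Submodule.mkQ_apply, Submodule.Quotient.mk_eq_zero] at this
  -- a₂
  obtain ⟨a₂, ha₂p, ha₂⟩ : ∃ a₂ : R, a₂ ∉ p.asIdeal ∧ ∀ q : PrimeSpectrum R, a₂ ∉ q.asIdeal →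
      Module.finrank q.asIdeal.ResidueField (q.asIdeal.ResidueField ⊗[R] M) = Fintype.card b := by
    have hopen := hlc.isOpen_fiber (Fintype.card b)
    have hp : p ∈ {q : PrimeSpectrum R | Module.finrank q.asIdeal.ResidueField
        (q.asIdeal.ResidueField ⊗[R] M) = Fintype.card b} := hcard
    obtain ⟨v, ⟨a₂, rfl⟩, hpv, hv⟩ :=
      PrimeSpectrum.isTopologicalBasis_basic_opens.exists_subset_of_mem_open hp hopen
    exact ⟨a₂, hpv, fun q hq => hv hq⟩
  refine ⟨b, inferInstance, φ, a₁ * a₂, ?_, ?_, ?_⟩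
  · exact fun h => (p.isPrime.mem_or_mem h).elim ha₁p ha₂p
  · intro m
    rw [mul_comm, mul_smul]
    exact Submodule.smul_mem _ _ (ha₁ m)
  · intro x hx
    funext i
    have hnil : (a₁ * a₂) * x i ∈ nilradical R := by
      rw [nilradical_eq_sInf, Ideal.mem_sInf]
      intro J hJ
      have hJ' : J.IsPrime := hJ
      by_cases h : a₁ * a₂ ∈ J
      · exact J.mul_mem_right _ h
      · have h1 : a₁ ∉ J := fun h' => h (J.mul_mem_right _ h')
        have h2 : a₂ ∉ J := fun h' => h (J.mul_mem_left _ h')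
        exact J.mul_mem_left _ (coords_mem R M φ a₁ ha₁ ⟨J, hJ'⟩ h1 (ha₂ ⟨J, hJ'⟩ h2) x hx i)
    rw [nilradical_eq_zero, Ideal.zero_eq_bot, Ideal.mem_bot] at hnil
    simpa using hnil

lemma free_localized (R : Type u) [CommRing R] (M : Type u) [AddCommGroup M] [Module R M]
    {ι : Type u} [Fintype ι] (φ : (ι → R) →ₗ[R] M) (a : R)
    (h1 : ∀ m, a • m ∈ LinearMap.range φ) (h2 : ∀ x, φ x = 0 → a • x = 0)
    (S : Submonoid R) (ha : a ∈ S) :
    Module.Free (Localization S) (LocalizedModule S M) := by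
  have := isLocalizedModule_comp S (LocalizedModule.mkLinearMap S M) φ a ha h1 h2
  exact Module.free_of_isLocalizedModule S ((LocalizedModule.mkLinearMap S M) ∘ₗ φ)


/-- Let R be a reduced ring and M an R-module. Then M is a finite projective R-module if and only if M
is finitely generated and the function on Spec R sending a prime p to the dimension of κ(p) ⊗ M over
the residue field κ(p) is locally constant for the Zariski topology. -/
theorem result (R : Type u) [CommRing R] [IsReduced R] (M : Type u) [AddCommGroup M] [Module R M] : (Module.Finite R M ∧ Module.Projective R M) ↔ (Module.Finite R M ∧ IsLocallyConstant (fun p : PrimeSpectrum R => Module.finrank p.asIdeal.ResidueField (p.asIdeal.ResidueField ⊗[R] M))) := by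
  constructor
  · rintro ⟨hfin, hproj⟩
    refine ⟨hfin, ?_⟩
    have : Module.FinitePresentation R M := Module.finitePresentation_of_projective R M
    have := Module.isLocallyConstant_rankAtStalk (R := R) (M := M)
    convert this using 1
    funext p
    exact (Module.rankAtStalk_eq p).symm
  · rintro ⟨hfin, hlc⟩
    refine ⟨hfin, ?_⟩
    let 𝒮 : Set R := {a | ∃ (ι : Type u) (_ : Fintype ι) (φ : (ι → R) →ₗ[R] M),
      (∀ m, a • m ∈ LinearMap.range φ) ∧ (∀ x, φ x = 0 → a • x = 0)}
    have hspan : Ideal.span 𝒮 = ⊤ := by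
      by_contra hne
      obtain ⟨I, hI, hle⟩ := Ideal.exists_le_maximal _ hne
      obtain ⟨ι, hι, φ, a, haI, h1, h2⟩ := main_lemma R M hlc ⟨I, hI.isPrime⟩
      exact haI (hle (Ideal.subset_span ⟨ι, hι, φ, h1, h2⟩))
    have : Module.FinitePresentation R M := by
      refine Module.FinitePresentation.of_localizationSpan 𝒮 hspan ?_
      rintro ⟨a, ι, hι, φ, h1, h2⟩
      have := free_localized R M φ a h1 h2 (Submonoid.powers a) (Submonoid.mem_powers a)
      exact Module.finitePresentation_of_projective _ _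
    refine Module.projective_of_localization_maximal ?_
    intro I hI
    obtain ⟨ι, hι, φ, a, haI, h1, h2⟩ := main_lemma R M hlc ⟨I, hI.isPrime⟩
    have := free_localized R M φ a h1 h2 I.primeCompl haI
    infer_instance

end Groth.Agent.S6266
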