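import Groth.Statements.S14338
import Mathlib
import Groth.Agent.S6266

set_option autoImplicit false
universe u
open CAlg

namespace Groth.Agent.S14338

lemma finrank_coker_fibre {B : Type u} [CommRing B] {K K' : Type u} [AddCommGroup K] [Module B K]
    [AddCommGroup K'] [Module B K'] [Module.Finite B K']
    (φ : K →ₗ[B] K') (κ : Type u) [Field κ] [Algebra B κ] :
    Module.finrank κ (TensorProduct B κ (K' ⧸ LinearMap.range φ)) +
      Module.finrank κ (LinearMap.range (φ.baseChange κ)) = Module.finrank κ (TensorProduct B κ K') := by
  let π : TensorProduct B κ K' →ₗ[κ] TensorProduct B κ (K' ⧸ LinearMap.range φ) :=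
    (LinearMap.range φ).mkQ.baseChange κ
  have hπc : (π : TensorProduct B κ K' → TensorProduct B κ (K' ⧸ LinearMap.range φ)) =
      (LinearMap.range φ).mkQ.lTensor κ := LinearMap.baseChange_eq_ltensor _
  have hφc : (φ.baseChange κ : TensorProduct B κ K → TensorProduct B κ K') = φ.lTensor κ :=
    LinearMap.baseChange_eq_ltensor _
  have hπs : Function.Surjective π := by
    rw [hπc]
    exact LinearMap.lTensor_surjective κ (Submodule.mkQ_surjective _)
  have hex : Function.Exact (φ.baseChange κ) π := by
    rw [hπc, hφc]
    exact lTensor_exact κ (LinearMap.exact_map_mkQ_range φ) (Submodule.mkQ_surjective _)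
  have hker : LinearMap.ker π = LinearMap.range (φ.baseChange κ) := LinearMap.exact_iff.mp hex
  have := LinearMap.finrank_range_add_finrank_ker π
  rw [LinearMap.range_eq_top.mpr hπs, finrank_top, hker] at this
  exact this


/-- Let B be a Noetherian ring, K and K' finitely generated flat B-modules and φ : K → K' a B-linear
map; for a prime y of B write κ(y) for its residue field and φ_y for the base change κ(y) ⊗ K → κ(y)
⊗ K'. Assume B is reduced and the number dim_{κ(y)} Im(φ_y) is the same for all primes y of B. Then
the cokernel K'/Im φ and the image Im φ are projective (locally free) B-modules. -/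
theorem result (B : Type u) [CommRing B] [IsNoetherianRing B] (K K' : Type u) [AddCommGroup K] [Module B K] [Module.Finite B K] [Module.Flat B K] [AddCommGroup K'] [Module B K'] [Module.Finite B K'] [Module.Flat B K'] (φ : K →ₗ[B] K') [IsReduced B] (hconst : ∃ c : ℕ, ∀ y : PrimeSpectrum B, Module.finrank y.asIdeal.ResidueField ↥(LinearMap.range (φ.baseChange y.asIdeal.ResidueField)) = c) : Module.Projective B (K' ⧸ LinearMap.range φ) ∧ Module.Projective B ↥(LinearMap.range φ) := by
  obtain ⟨c, hc⟩ := hconst
  have hK'FP : Module.FinitePresentation B K' := Module.finitePresentation_of_finite B K'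
  have hK'proj : Module.Projective B K' := Module.Flat.projective_of_finitePresentation
  have hlcK' := ((Groth.Agent.S6266.result B K').mp ⟨inferInstance, hK'proj⟩).2
  have hCproj : Module.Projective B (K' ⧸ LinearMap.range φ) := by
    refine ((Groth.Agent.S6266.result B _).mpr ⟨inferInstance, ?_⟩).2
    have : (fun y : PrimeSpectrum B => Module.finrank y.asIdeal.ResidueField
        (TensorProduct B y.asIdeal.ResidueField (K' ⧸ LinearMap.range φ))) =
        fun y : PrimeSpectrum B => (Module.finrank y.asIdeal.ResidueField
          (TensorProduct B y.asIdeal.ResidueField K')) - c := by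
      funext y
      have := finrank_coker_fibre φ y.asIdeal.ResidueField
      rw [hc y] at this
      omega
    rw [this]
    exact hlcK'.comp (fun n => n - c)
  refine ⟨hCproj, ?_⟩
  obtain ⟨s, hs⟩ := Module.projective_lifting_property (LinearMap.range φ).mkQ LinearMap.id
    (Submodule.mkQ_surjective _)
  let r : K' →ₗ[B] ↥(LinearMap.range φ) :=
    LinearMap.codRestrict (LinearMap.range φ) (LinearMap.id - s ∘ₗ (LinearMap.range φ).mkQ) (by
      intro x
      have := LinearMap.congr_fun hs ((LinearMap.range φ).mkQ x)
      simp only [LinearMap.coe_comp, Function.comp_apply, LinearMap.id_coe, id_eq] at this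
      have h2 : (LinearMap.range φ).mkQ
          (((LinearMap.id : K' →ₗ[B] K') - s ∘ₗ (LinearMap.range φ).mkQ) x) = 0 := by
        simp only [LinearMap.sub_apply, LinearMap.id_coe, id_eq, LinearMap.coe_comp,
          Function.comp_apply, map_sub, this, sub_self]
      rwa [Submodule.mkQ_apply, Submodule.Quotient.mk_eq_zero] at h2)
  refine Module.Projective.of_split (LinearMap.range φ).subtype r ?_
  ext x
  simp only [r, LinearMap.coe_comp, Function.comp_apply, Submodule.coe_subtype,
    LinearMap.codRestrict_apply, LinearMap.sub_apply, LinearMap.id_coe, id_eq]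
  rw [Submodule.mkQ_apply, (Submodule.Quotient.mk_eq_zero _).mpr x.2, map_zero, sub_zero]

end Groth.Agent.S14338
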