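import Groth.Statements.S14336
import Mathlib
import Groth.Agent.S6266
import Groth.Agent.S14338

set_option autoImplicit false
universe u
open CAlg

namespace Groth.Agent.S14336

open scoped TensorProduct in
lemma fibre_dim_le_nhds (R : Type u) [CommRing R] (C : Type u) [AddCommGroup C] [Module R C]
    [Module.Finite R C] (p : PrimeSpectrum R) :
    ∃ a : R, a ∉ p.asIdeal ∧ ∀ q : PrimeSpectrum R, a ∉ q.asIdeal →
      Module.finrank q.asIdeal.ResidueField (q.asIdeal.ResidueField ⊗[R] C) ≤
      Module.finrank p.asIdeal.ResidueField (p.asIdeal.ResidueField ⊗[R] C) := by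
  classical
  set κ := p.asIdeal.ResidueField with hκ
  obtain ⟨b, hb_sub, hb_span, hb_li⟩ :=
    exists_linearIndependent κ (Set.range (fun m : C => (1 : κ) ⊗ₜ[R] m))
  rw [Groth.Agent.S6266.span_one_tmul] at hb_span
  let B : Module.Basis b κ (κ ⊗[R] C) :=
    Module.Basis.mk hb_li (by rw [Subtype.range_coe, hb_span])
  have : Finite b := Module.Finite.finite_basis B
  have : Fintype b := Fintype.ofFinite b
  have hcard : Module.finrank κ (κ ⊗[R] C) = Fintype.card b := Module.finrank_eq_card_basis B
  choose m hm using fun i : b => hb_sub i.2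
  let φ : (b → R) →ₗ[R] C := Fintype.linearCombination R m
  have hφm : ∀ i, m i ∈ LinearMap.range φ := fun i =>
    ⟨Pi.single i 1, by simp [φ]⟩
  obtain ⟨a₁, ha₁p, ha₁⟩ : ∃ a₁ : R, a₁ ∉ p.asIdeal ∧ ∀ m, a₁ • m ∈ LinearMap.range φ := by
    let D := C ⧸ LinearMap.range φ
    let ψ : κ ⊗[R] C →ₗ[κ] κ ⊗[R] D := (LinearMap.range φ).mkQ.baseChange κ
    have hψs : Function.Surjective ψ := by
      have : (ψ : κ ⊗[R] C → κ ⊗[R] D) = (LinearMap.range φ).mkQ.lTensor κ :=
        LinearMap.baseChange_eq_ltensor _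
      rw [this]
      exact LinearMap.lTensor_surjective κ (Submodule.mkQ_surjective _)
    have hψ0 : LinearMap.ker ψ = ⊤ := by
      rw [eq_top_iff, ← hb_span, Submodule.span_le]
      intro t ht
      have := hm ⟨t, ht⟩
      simp only at this
      rw [SetLike.mem_coe, LinearMap.mem_ker, ← this]
      simp only [ψ, LinearMap.baseChange_tmul, Submodule.mkQ_apply]
      rw [(Submodule.Quotient.mk_eq_zero _).mpr (hφm _), TensorProduct.tmul_zero]
    have hsub : Subsingleton (κ ⊗[R] D) := by
      refine ⟨fun x y => ?_⟩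
      obtain ⟨x', rfl⟩ := hψs x
      obtain ⟨y', rfl⟩ := hψs y
      have hx : x' ∈ LinearMap.ker ψ := hψ0 ▸ Submodule.mem_top
      have hy : y' ∈ LinearMap.ker ψ := hψ0 ▸ Submodule.mem_top
      rw [LinearMap.mem_ker.mp hx, LinearMap.mem_ker.mp hy]
    have hps : p ∉ Module.support R D := by
      rw [Module.mem_support_iff_nontrivial_residueField_tensorProduct]
      exact not_nontrivial _
    rw [Module.support_eq_zeroLocus, PrimeSpectrum.mem_zeroLocus, Set.not_subset] at hps
    obtain ⟨a₁, ha₁, ha₁p⟩ := hps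
    refine ⟨a₁, ha₁p, fun m => ?_⟩
    have := Module.mem_annihilator.mp ha₁ ((LinearMap.range φ).mkQ m)
    rwa [← map_smul, Submodule.mkQ_apply, Submodule.Quotient.mk_eq_zero] at this
  refine ⟨a₁, ha₁p, fun q haq => ?_⟩
  rw [hcard]
  set κq := q.asIdeal.ResidueField with hκq
  let Φ : κq ⊗[R] (b → R) →ₗ[κq] κq ⊗[R] C := φ.baseChange κq
  have ha0 : algebraMap R κq a₁ ≠ 0 := by
    rw [Ne, Ideal.algebraMap_residueField_eq_zero]; exact haq
  have hsurj : Function.Surjective Φ := by
    rw [← LinearMap.range_eq_top, eq_top_iff, ← Groth.Agent.S6266.span_one_tmul R κq C,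
      Submodule.span_le]
    rintro _ ⟨m, rfl⟩
    obtain ⟨y, hy⟩ := ha₁ m
    refine ⟨(algebraMap R κq a₁)⁻¹ ⊗ₜ[R] y, ?_⟩
    simp only [Φ, LinearMap.baseChange_tmul, hy]
    rw [← TensorProduct.smul_tmul, Algebra.smul_def, mul_inv_cancel₀ ha0]
  have h1 := LinearMap.finrank_le_finrank_of_surjective hsurj
  rwa [(TensorProduct.piScalarRight R κq κq b).finrank_eq, Module.finrank_pi] at h1


/-- Let B be a Noetherian ring, K and K' finitely generated flat B-modules and φ : K → K' a B-linear
map; for a prime y of B write κ(y) for its residue field and φ_y for the base change κ(y) ⊗ K → κ(y)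
⊗ K'. Then the function y ↦ dim_{κ(y)} Im(φ_y) on Spec B is lower semicontinuous. -/
theorem result (B : Type u) [CommRing B] [IsNoetherianRing B] (K K' : Type u) [AddCommGroup K] [Module B K] [Module.Finite B K] [Module.Flat B K] [AddCommGroup K'] [Module B K'] [Module.Finite B K'] [Module.Flat B K'] (φ : K →ₗ[B] K') : LowerSemicontinuous (fun y : PrimeSpectrum B => Module.finrank y.asIdeal.ResidueField ↥(LinearMap.range (φ.baseChange y.asIdeal.ResidueField))) := by
  intro y₀ c hc
  have hK'FP : Module.FinitePresentation B K' := Module.finitePresentation_of_finite B K'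
  have hK'proj : Module.Projective B K' := Module.Flat.projective_of_finitePresentation
  have hlcK' : IsLocallyConstant (fun p : PrimeSpectrum B =>
      Module.finrank p.asIdeal.ResidueField (TensorProduct B p.asIdeal.ResidueField K')) := by
    have := Module.isLocallyConstant_rankAtStalk (R := B) (M := K')
    convert this using 1
    funext p
    exact (Module.rankAtStalk_eq p).symm
  obtain ⟨a, hay₀, ha⟩ := fibre_dim_le_nhds B (K' ⧸ LinearMap.range φ) y₀
  have hopen1 : IsOpen {y : PrimeSpectrum B | a ∉ y.asIdeal} :=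
    (PrimeSpectrum.basicOpen a).isOpen
  have hopen2 := hlcK'.isOpen_fiber (Module.finrank y₀.asIdeal.ResidueField
    (TensorProduct B y₀.asIdeal.ResidueField K'))
  have hmem : y₀ ∈ {y : PrimeSpectrum B | a ∉ y.asIdeal} ∩
      {y : PrimeSpectrum B | Module.finrank y.asIdeal.ResidueField
        (TensorProduct B y.asIdeal.ResidueField K') = Module.finrank y₀.asIdeal.ResidueField
        (TensorProduct B y₀.asIdeal.ResidueField K')} := ⟨hay₀, rfl⟩
  filter_upwards [(hopen1.inter hopen2).mem_nhds hmem] with y hy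
  obtain ⟨hy1, hy2⟩ := hy
  have e0 := Groth.Agent.S14338.finrank_coker_fibre φ y₀.asIdeal.ResidueField
  have e1 := Groth.Agent.S14338.finrank_coker_fibre φ y.asIdeal.ResidueField
  have h3 := ha y hy1
  simp only [Set.mem_ofPred_eq] at hy2
  simp only at hc ⊢
  omega

end Groth.Agent.S14336
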