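import Groth.Statements.S1434
import Mathlib

set_option autoImplicit false
universe u
open FlatMor

namespace Groth.Agent.S1434

open AlgebraicGeometry CategoryTheory Limits in
/-- Part (1), for a closed subscheme: let Z ⊂ X be the closed subscheme cut out by an ideal sheaf I and
Z' the one cut out by I², its first order infinitesimal neighbourhood. Given a first order
thickening T → T', a morphism a : T → Z and a morphism b : T' → X compatible with them, there is a
unique morphism T' → Z' through which b factors (compatibility with a is then automatic). -/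
theorem result {X T T' : Scheme.{u}} (I : X.IdealSheafData) (t : T ⟶ T') (ht : MoreMor.IsFirstOrderThickening t)
    (a : T ⟶ I.subscheme) (b : T' ⟶ X) (w : a ≫ I.subschemeι = t ≫ b) :
    ∃! a' : T' ⟶ (I ^ 2).subscheme, a' ≫ (I ^ 2).subschemeι = b := by
  have hcl : IsClosedImmersion t := ht.1.1
  have h1 : I ≤ (t ≫ b).ker := by
    rw [← w]
    exact (I.ker_subschemeι).symm.le.trans (Scheme.Hom.le_ker_comp a I.subschemeι)
  have key : I ^ 2 ≤ b.ker := by
    refine Scheme.IdealSheafData.le_ofIdeals_iff.mpr ?_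
    intro U
    rw [Scheme.IdealSheafData.ideal_pow, Pi.pow_apply, pow_two, Ideal.mul_le]
    intro x hx y hy
    have h2 : I.ideal U ≤ RingHom.ker ((t ≫ b).app U).hom :=
      (h1 U).trans ((t ≫ b).ideal_ker_le U)
    have hx' : (t.app (b ⁻¹ᵁ U.1)).hom ((b.app U.1).hom x) = 0 := h2 hx
    have hy' : (t.app (b ⁻¹ᵁ U.1)).hom ((b.app U.1).hom y) = 0 := h2 hy
    rw [RingHom.mem_ker, map_mul]
    refine T'.sheaf.eq_of_locally_eq'
      (fun V : {V : T'.affineOpens // V.1 ≤ b ⁻¹ᵁ U.1} => V.1.1) (b ⁻¹ᵁ U.1)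
      (fun V => homOfLE V.2) ?_ _ _ ?_
    · intro z hz
      obtain ⟨_, ⟨V, hV, rfl⟩, hzV, hVU⟩ := T'.isBasis_affineOpens.exists_subset_of_mem_open
        hz (b ⁻¹ᵁ U.1).isOpen
      exact TopologicalSpace.Opens.mem_iSup.mpr ⟨⟨⟨V, hV⟩, hVU⟩, hzV⟩
    · intro V
      show (T'.presheaf.map (homOfLE V.2).op).hom
        ((b.app U.1).hom x * (b.app U.1).hom y) = (T'.presheaf.map (homOfLE V.2).op).hom 0
      rw [map_mul, map_zero]
      have hres : ∀ s : Γ(T', b ⁻¹ᵁ U.1), (t.app (b ⁻¹ᵁ U.1)).hom s = 0 →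
          (T'.presheaf.map (homOfLE V.2).op).hom s ∈ t.ker.ideal V.1 := by
        intro s hs
        rw [Scheme.Hom.ker_apply, RingHom.mem_ker]
        have := congrArg (fun h => h.hom s) (t.naturality (homOfLE V.2).op)
        simp only [CommRingCat.hom_comp, RingHom.comp_apply] at this
        rw [this, hs, map_zero]
      have hmul := Ideal.mul_mem_mul (hres _ hx') (hres _ hy')
      have hbot : t.ker.ideal V.1 * t.ker.ideal V.1 = ⊥ := by
        have := congrArg (fun J => J.ideal V.1) ht.2
        exact this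
      rw [hbot, Ideal.mem_bot] at hmul
      exact hmul
  have hle : (I ^ 2).subschemeι.ker ≤ b.ker := by
    rw [Scheme.IdealSheafData.ker_subschemeι]; exact key
  refine ⟨IsClosedImmersion.lift (I ^ 2).subschemeι b hle,
    IsClosedImmersion.lift_fac _ _ _, ?_⟩
  intro a' ha'
  rw [← cancel_mono (I ^ 2).subschemeι, ha', IsClosedImmersion.lift_fac]

end Groth.Agent.S1434
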