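import Groth.Statements.S14340
import Mathlib
import Groth.Agent.Lib.Helper15.CokerUnit3
import Groth.Agent.Lib.Helper12.PullAmple
import Groth.Agent.Lib.Helper7.TwistAmpleIff
import Groth.Agent.Lib.Helper7.TwistNum
import Groth.Agent.Lib.Helper18.ProjBasic
import Groth.Agent.Lib.Helper18.P1Euler
import Groth.Agent.Lib.Helper19.ProjSpaceProper
import Groth.Agent.Lib.Helper28.TwistPn
import Groth.Agent.S16754
import Groth.Agent.S0844

set_option autoImplicit false
set_option linter.style.haveILetI false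
universe u
open CategoryTheory CategoryTheory.Limits AlgebraicGeometry
open Curves

namespace Groth.Agent.S14340

/-- Let k be a field and C a smooth proper geometrically connected curve over k (of dimension one) of
genus g = dim_k H^1(C, O_C) ≥ 2 which is hyperelliptic: there is a morphism f : C → P^1_k over k,
finite and flat of constant rank 2; let L = f^*O(1) be its g^1_2. Then for every r with 0 ≤ r ≤ g −
1 the k-vector space H^0(C, L^{⊗r}) has dimension r + 1. (The published statement asserts that the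
pullback of sections H^0(P^1_k, O(r)) → H^0(C, L^{⊗r}) is an isomorphism and takes C projective;
this row states the equivalent dimension count, that map being injective for the dominant f with
source of dimension r + 1, and takes C proper, which for curves over a field is the same.) -/
theorem result (k : Type u) [Field k] (C : Scheme.{u}) [C.Over (Spec (CommRingCat.of k))] [IsProper (C ↘ Spec (CommRingCat.of k))] [Smooth (C ↘ Spec (CommRingCat.of k))] [GeometricallyConnected (C ↘ Spec (CommRingCat.of k))] (hC : topologicalKrullDim C = 1) (g : ℕ) (hg2 : 2 ≤ g) (hg : Curv2.genus k C = g) (f : C ⟶ CohB1.ProjSpace 1 k) (hf : f ≫ CohB1.ProjSpace.toSpec 1 k = C ↘ Spec (CommRingCat.of k)) [IsFinite f] [Flat f] (hrk : ∀ y : ↥(CohB1.ProjSpace 1 k), Scheme.Hom.finrank f y = 2) (r : ℕ) (hr : r + 1 ≤ g) : Module.finrank k (Coh.HH C (CohB1.tensorPow ((Scheme.Modules.pullback f).obj (Twist.twistProjSpace 1 k 1)) r) 0) = r + 1 := by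
  haveI : IsProper (CohB1.ProjSpace 1 k ↘ Spec (CommRingCat.of k)) :=
    Groth.Agent.Lib.helper19.ProjSpaceProper.proper_toSpec 1 k
  haveI : IsIntegral (CohB1.ProjSpace 1 k) :=
    Groth.Agent.Lib.Helper18.ProjBasic.isIntegral_projSpace 1 k
  have hdimY : topologicalKrullDim (CohB1.ProjSpace 1 k) ≤ 1 := by
    rw [Groth.Agent.Lib.Helper18.ProjBasic.topologicalKrullDim_projSpace]
    exact le_rfl
  have hM : PicF.IsInvertible (Twist.twistProjSpace 1 k ((r : ℤ) * 1)) :=
    Groth.Agent.Lib.helper28.TwistPn.isInvertible 1 k _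
  have hL : PicF.IsInvertible (Twist.twistProjSpace 1 k 1) :=
    Groth.Agent.Lib.helper28.TwistPn.isInvertible 1 k 1
  obtain ⟨e⟩ := Groth.Agent.Lib.helper7.TwistAmpleIff.nonempty_tensorPow_twist_iso 1 k 1 r
  have eC : CohB1.tensorPow ((Scheme.Modules.pullback f).obj (Twist.twistProjSpace 1 k 1)) r ≅
      (Scheme.Modules.pullback f).obj (Twist.twistProjSpace 1 k ((r : ℤ) * 1)) :=
    (Groth.Agent.Lib.helper12.PullAmple.pullTensorPowIso f hL r).symm ≪≫
      (Scheme.Modules.pullback f).mapIso e
  rw [Groth.Agent.Lib.helper9.CurveTwist.finrank_HH_eq_of_iso k eC 0]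
  have h0C : Module.finrank k (Coh.HH C (Coh.structureModule C) 0) = 1 :=
    (Groth.Agent.S16754.result k C hC).1.2 inferInstance
  have hOq : Coh.IsQCoh (Coh.structureModule C) := inferInstance
  have hχC : Curv2.euler k C (Coh.structureModule C) = 1 - (g : ℤ) := by
    rw [Groth.Agent.Lib.Lead.CurveEuler.euler_eq k C hC.le _ hOq, h0C, ← hg]
    rfl
  have hχY : Curv2.euler k (CohB1.ProjSpace 1 k) (Coh.structureModule (CohB1.ProjSpace 1 k)) = 1 := by
    rw [Groth.Agent.Lib.Helper18.HH.euler_eq_sum k _ 0 (fun i hi =>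
      Groth.Agent.Lib.Helper18.P1Euler.subsingleton_HH_projSpace k 1 i (by omega))]
    simp [Groth.Agent.Lib.Helper18.P1Euler.finrank_H0_projSpace]
  have hdegN := Groth.Agent.Lib.helper15.CokerUnit.deg_cokernel f k hf hrk
  have hH0M : Module.finrank k (Coh.HH (CohB1.ProjSpace 1 k)
      (Twist.twistProjSpace 1 k ((r : ℤ) * 1)) 0) = r + 1 := by
    rw [(Groth.Agent.Lib.helper7.TwistNum.finrank_H0_twist k 1 le_rfl ((r : ℤ) * 1)).2]
    have h1 : ((r : ℤ) * 1 + ((1 : ℕ) : ℤ)).toNat = r + 1 := by
      push_cast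
      omega
    rw [h1, Nat.choose_one_right]
  have hχM : Curv2.euler k (CohB1.ProjSpace 1 k) (Twist.twistProjSpace 1 k ((r : ℤ) * 1)) =
      (r : ℤ) + 1 := by
    rw [Groth.Agent.Lib.Helper18.HH.euler_eq_sum k _ 0 (fun i hi =>
      Groth.Agent.S0844.result k 1 ((r : ℤ) * 1) i (fun h => by omega) (fun h => by
        have h2 := h.2
        have h3 : (0 : ℤ) ≤ (r : ℤ) * 1 := by positivity
        omega))]
    simp [hH0M]
  have hdegM : Curv2.deg k (CohB1.ProjSpace 1 k) (Twist.twistProjSpace 1 k ((r : ℤ) * 1)) 1 =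
      (r : ℤ) := by
    change Curv2.euler k _ (Twist.twistProjSpace 1 k ((r : ℤ) * 1)) -
      ((1 : ℕ) : ℤ) * Curv2.euler k _ (Coh.structureModule _) = _
    rw [hχM, hχY]
    push_cast
    ring
  have hneg : Curv2.deg k (CohB1.ProjSpace 1 k) (Twist.twistProjSpace 1 k ((r : ℤ) * 1)) 1 +
      Curv2.deg k (CohB1.ProjSpace 1 k)
        (Limits.cokernel (Groth.Agent.Lib.helper11.InvPullback.unitToPush f)) 1 < 0 := by
    rw [hdegM, hdegN, hχC, hχY]
    have : (r : ℤ) + 1 ≤ (g : ℤ) := by exact_mod_cast hr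
    linarith
  rw [Groth.Agent.Lib.helper15.CokerUnit.finrank_H0_pullback f k hf hdimY hrk _ hM hneg, hH0M]

end Groth.Agent.S14340
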