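import Groth.Statements.S14343
import Groth.Agent.Lib.Helper28.BlowUpTor
import Groth.Agent.Lib.Helper7.KoszulLow

set_option autoImplicit false
universe u
open CategoryTheory CategoryTheory.Limits AlgebraicGeometry TopologicalSpace
open QuotLF

namespace Groth.Agent.S14343

/-- Let 𝓘 be a Koszul-regular quasi-coherent ideal sheaf on a scheme X (the ideal of a Koszul-regularly
immersed closed subscheme Z) and let g : X' ⟶ X be a morphism which is Tor-independent with respect
to Z ⟶ X, stated in the following equivalent form: whenever 𝓘(U) is generated on an affine open U by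
a Koszul-regular sequence, the image of that sequence in Γ(X', V) is again Koszul-regular for every
affine open V of X' lying over U (for a Koszul-regular ideal the Koszul complex of such a sequence
resolves O_Z on U, so this says exactly that the higher Tor groups of O_Z against O_{X'} vanish).
Then for every blowing-up b : B ⟶ X of X in 𝓘, the base change B ×_X X' ⟶ X' is a blowing-up of X'
in the inverse image ideal sheaf 𝓘·O_{X'} (the ideal of Z ×_X X'). Blowing-ups are taken through
their universal property. -/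
theorem result {X X' B : Scheme.{u}} (𝓘 : X.IdealSheafData)
    (h𝓘 : RegImm.IsRegularIdeal .koszul 𝓘) (g : X' ⟶ X)
    (hg : ∀ (U : X.affineOpens) (rs : List Γ(X, U.1)), LCI.IsKoszulRegularSeq Γ(X, U.1) rs →
      𝓘.ideal U = Ideal.ofList rs → ∀ (V : X'.affineOpens) (e : V.1 ≤ g ⁻¹ᵁ U.1),
        LCI.IsKoszulRegularSeq Γ(X', V.1) (rs.map fun r => (g.appLE U.1 V.1 e).hom r))
    (b : B ⟶ X) (hb : BlowUp.IsBlowUp b 𝓘) :
    BlowUp.IsBlowUp (pullback.snd b g) (𝓘.comap g) := by
  refine Groth.Agent.Lib.helper28.BlowUpTor.isBlowUp_snd_of_h1 𝓘 g b hb ?_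
  intro x
  by_cases hx : x ∈ 𝓘.support
  · obtain ⟨U, hxU, rs, hrs, hI⟩ := h𝓘 x hx
    have hrs' : LCI.IsKoszulRegularSeq Γ(X, U.1) rs := hrs
    refine ⟨U.1, U.2, rs.length, rs.get, hxU, ?_, ?_, ?_⟩
    · change 𝓘.ideal U = _
      rw [hI, Set.range_list_get]
    · exact Groth.Agent.Lib.helper7.KoszulLow.isH1Regular_of_isKoszulRegularSeq _ rs hrs'
    · intro V hV e
      have h1 := hg U rs hrs' hI ⟨V, hV⟩ e
      apply Groth.Agent.Lib.helper7.KoszulLow.isH1Regular_of_isKoszulRegularSeq_ofFn
      have h2 : List.ofFn (fun j => (g.appLE U.1 V e).hom (rs.get j)) =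
          rs.map fun r => (g.appLE U.1 V e).hom r := by
        have h3 : (fun j => (g.appLE U.1 V e).hom (rs.get j)) =
            (fun r => (g.appLE U.1 V e).hom r) ∘ rs.get := rfl
        rw [h3, ← List.map_ofFn, List.ofFn_get]
      rw [h2]
      exact h1
  · rw [Scheme.IdealSheafData.mem_support_iff] at hx
    simp only [not_forall] at hx
    obtain ⟨U₀, hU₀⟩ := hx
    rw [Scheme.mem_zeroLocus_iff] at hU₀
    simp only [not_forall, not_not] at hU₀
    obtain ⟨s, hs, hxs⟩ := hU₀
    have hD : IsAffineOpen (X.basicOpen s) := U₀.2.basicOpen s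
    have htop : 𝓘.ideal ⟨X.basicOpen s, hD⟩ = ⊤ := by
      have h1 := 𝓘.map_ideal_basicOpen U₀ s
      have h2 : 𝓘.ideal ⟨X.basicOpen s, hD⟩ = 𝓘.ideal (X.affineBasicOpen s) := rfl
      rw [h2, ← h1]
      apply Ideal.eq_top_of_isUnit_mem _ (Ideal.mem_map_of_mem _ hs)
      exact X.toRingedSpace.isUnit_res_basicOpen s
    have hone : ∀ {R : Type u} [CommRing R], CAlgX.IsH1Regular (fun _ : Fin 1 => (1 : R)) := by
      intro R _ a ha
      have h0 : a = 0 := by
        funext j
        have : j = 0 := Subsingleton.elim _ _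
        subst this
        simpa using ha
      rw [h0]
      exact zero_mem _
    refine ⟨X.basicOpen s, hD, 1, fun _ => 1, hxs, ?_, hone, ?_⟩
    · rw [htop, eq_comm, Ideal.eq_top_iff_one]
      exact Ideal.subset_span ⟨0, rfl⟩
    · intro V hV e
      simp only [map_one]
      exact hone

end Groth.Agent.S14343
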