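import Groth.Statements.S14346
import Mathlib

set_option autoImplicit false
universe u v
open TensorProduct
open QuotLF

namespace Groth.Agent.S14346

/-- A submodule of a finite projective module of constant rank `k` whose quotient is finite projective
of constant rank `k` is zero. -/
lemma eq_bot_of_rank {A : Type u} [CommRing A] {P : Type*} [AddCommGroup P] [Module A P]
    [Module.Finite A P] [Module.Projective A P] (k : ℕ)
    (hk : ∀ p : PrimeSpectrum A, Module.rankAtStalk (R := A) P p = k)
    (N : Submodule A P) [Module.Finite A (P ⧸ N)] [Module.Projective A (P ⧸ N)]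
    (hN : ∀ p : PrimeSpectrum A, Module.rankAtStalk (R := A) (P ⧸ N) p = k) : N = ⊥ := by
  obtain ⟨l, hl⟩ := Module.projective_lifting_property N.mkQ LinearMap.id N.mkQ_surjective
  have hex : Function.Exact N.subtype N.mkQ := LinearMap.exact_subtype_mkQ N
  obtain ⟨e, he1, he2⟩ : ∃ e : P ≃ₗ[A] N × (P ⧸ N),
      N.subtype = e.symm ∘ₗ LinearMap.inl A N (P ⧸ N) ∧
      N.mkQ = LinearMap.snd A N (P ⧸ N) ∘ₗ e := (((Function.Exact.split_tfae' (f := N.subtype) (g := N.mkQ) hex).out 0 2 rfl rfl).mp
    ⟨N.injective_subtype, l, hl⟩)
  have hfinN : Module.Finite A N :=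
    Module.Finite.of_surjective (LinearMap.fst A N (P ⧸ N) ∘ₗ e.toLinearMap)
      (fun x => ⟨e.symm (x, 0), by simp⟩)
  have hprojN : Module.Projective A N :=
    Module.Projective.of_split (e.symm.toLinearMap ∘ₗ LinearMap.inl A N (P ⧸ N))
      (LinearMap.fst A N (P ⧸ N) ∘ₗ e.toLinearMap) (by ext x; simp)
  have hrank : Module.rankAtStalk (R := A) P =
      Module.rankAtStalk (R := A) N + Module.rankAtStalk (R := A) (P ⧸ N) := by
    rw [Module.rankAtStalk_eq_of_equiv e, Module.rankAtStalk_prod]
  have h0 : Module.rankAtStalk (R := A) N = 0 := by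
    ext p
    have := congrFun hrank p
    rw [Pi.add_apply, hk p, hN p] at this
    simpa using this.symm
  have hsub : Subsingleton N := Module.rankAtStalk_eq_zero_iff_subsingleton.mp h0
  exact Submodule.eq_bot_of_subsingleton

/-- Let R be a commutative ring, M an R-module, k ≥ 0, and A an R-algebra for which A ⊗_R M is finite
projective of constant rank k, i.e. Spec A → Spec R factors through the locally closed stratum where
M is locally free of rank k. Then A ⊗_R M has exactly one rank-k locally free quotient: the zero
submodule has finite projective quotient of constant rank k, and every submodule with such a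
quotient is zero. In other words the Quot scheme of rank-k locally free quotients of M restricted to
that stratum maps isomorphically onto it. -/
theorem result (R : Type u) [CommRing R]
    (M : Type v) [AddCommGroup M] [Module R M] (k : ℕ)
    (A : Type u) [CommRing A] [Algebra R A] [Module.Finite A (A ⊗[R] M)] [Module.Projective A (A ⊗[R] M)]
    (hk : ∀ p : PrimeSpectrum A, Module.rankAtStalk (R := A) (A ⊗[R] M) p = k) :
    (∃ N : Module.Grassmannian A (A ⊗[R] M) k, N.toSubmodule = ⊥) ∧
      ∀ N : Module.Grassmannian A (A ⊗[R] M) k, N.toSubmodule = ⊥ := by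
  constructor
  · let e : ((A ⊗[R] M) ⧸ (⊥ : Submodule A (A ⊗[R] M))) ≃ₗ[A] (A ⊗[R] M) :=
      Submodule.quotEquivOfEqBot ⊥ rfl
    refine ⟨⟨⊥, inferInstance, Module.Projective.of_equiv e.symm, fun p => ?_⟩, rfl⟩
    rw [Module.rankAtStalk_eq_of_equiv e]
    exact hk p
  · intro N
    exact eq_bot_of_rank k hk N.toSubmodule N.rankAtStalk_eq

end Groth.Agent.S14346
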