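import Groth.Statements.S14347
import Mathlib
import Groth.Agent.Lib.Helper15.Fitting
import Groth.Agent.Lib.Helper15.FittLink

set_option autoImplicit false
universe u
open QuotLF

namespace Groth.Agent.S14347

section aux
open Matrix Groth.Agent.Lib.helper15.Fitting Groth.Agent.Lib.helper15.FittLink

variable {R : Type u} [CommRing R]

/-- the set of `k × k` minors of a matrix. -/
def Min {m n : ℕ} (Mx : Matrix (Fin n) (Fin m) R) (k : ℕ) : Set R :=
  {d | ∃ (r : Fin k → Fin n) (c : Fin k → Fin m), d = (Mx.submatrix r c).det}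

theorem range_eq_span {m n : ℕ} (τ : (Fin m → R) →ₗ[R] (Fin n → R)) :
    LinearMap.range τ = Submodule.span R (Set.range fun j : Fin m => τ (Pi.single j 1)) := by
  rw [LinearMap.range_eq_map, ← (Pi.basisFun R (Fin m)).span_eq, Submodule.map_span]
  congr 1
  ext v
  simp

theorem detIdeal_range_col {m n : ℕ} (Mx : Matrix (Fin n) (Fin m) R) (k : ℕ) :
    detIdeal (LinearMap.range (Matrix.mulVecLin Mx)) k = Ideal.span (Min Mx k) := by
  rw [range_eq_span, detIdeal_span]
  congr 1
  ext d
  constructor
  · rintro ⟨z, e, hz, rfl⟩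
    choose c hc using hz
    refine ⟨e, c, ?_⟩
    congr 1
    ext a b
    simp only [Matrix.of_apply, Matrix.submatrix_apply]
    rw [← hc b]
    simp [Matrix.mulVec_single]
  · rintro ⟨r, c, rfl⟩
    refine ⟨fun b => Matrix.mulVecLin Mx (Pi.single (c b) 1), r, fun b => ⟨c b, rfl⟩, ?_⟩
    congr 1
    ext a b
    simp [Matrix.mulVec_single]

theorem detIdeal_range_row {m n : ℕ} (Mx : Matrix (Fin n) (Fin m) R) (k : ℕ) :
    detIdeal (LinearMap.range (Matrix.mulVecLin Mxᵀ)) k = Ideal.span (Min Mx k) := by
  rw [detIdeal_range_col]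
  congr 1
  ext d
  constructor
  · rintro ⟨r, c, rfl⟩
    refine ⟨c, r, ?_⟩
    rw [← Matrix.det_transpose]
    rfl
  · rintro ⟨r, c, rfl⟩
    refine ⟨c, r, ?_⟩
    rw [← Matrix.det_transpose]
    rfl

theorem min_eq_zero_of_lt {m n : ℕ} (Mx : Matrix (Fin n) (Fin m) R) (k : ℕ) (hk : m < k) :
    Ideal.span (Min Mx k) = ⊥ := by
  rw [eq_bot_iff, Ideal.span_le]
  rintro d ⟨r, c, rfl⟩
  have hninj : ¬ Function.Injective c := by
    intro hinj
    have := Fintype.card_le_of_injective c hinj
    simp at this
    omega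
  rw [Function.Injective] at hninj
  push Not at hninj
  obtain ⟨x, y, hxy, hne⟩ := hninj
  have : (Mx.submatrix r c).det = 0 := by
    apply Matrix.det_zero_of_column_eq hne
    intro a
    simp [hxy]
  rw [this]
  exact Submodule.zero_mem _

theorem main (m n : ℕ)
    (σ : (Fin m → R) →ₗ[R] (Fin n → R)) (hσ : Function.Injective σ) :
    (∀ j : ℕ, Fitt.ideal R ((Fin n → R) ⧸ LinearMap.range σ) (n - m + j) =
        Fitt.ideal R (Module.Dual R (Fin m → R) ⧸ LinearMap.range σ.dualMap) j) ∧
      ∀ i : ℕ, i < n - m → Fitt.ideal R ((Fin n → R) ⧸ LinearMap.range σ) i = ⊥ := by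
  classical
  set Mx : Matrix (Fin n) (Fin m) R := LinearMap.toMatrix' σ with hMx
  have hσMx : σ = Matrix.mulVecLin Mx := by
    rw [hMx, ← Matrix.toLin'_apply', Matrix.toLin'_toMatrix']
  -- generators of the cokernel
  let x : Fin n → ((Fin n → R) ⧸ LinearMap.range σ) := fun i =>
    (LinearMap.range σ).mkQ (Pi.single i 1)
  have hxspan : Submodule.span R (Set.range x) = ⊤ := by
    have : Set.range x = (LinearMap.range σ).mkQ '' (Set.range fun i : Fin n => (Pi.single i (1 : R) : Fin n → R)) := by
      rw [← Set.range_comp]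
      rfl
    rw [this, ← Submodule.map_span]
    have h2 : Submodule.span R (Set.range fun i : Fin n => (Pi.single i (1 : R) : Fin n → R)) = ⊤ := by
      rw [← (Pi.basisFun R (Fin n)).span_eq]
      congr 1
      ext v
      simp
    rw [h2, Submodule.map_top, Submodule.range_mkQ]
  have hxrel : rel R x = LinearMap.range σ := by
    ext v
    rw [mem_rel]
    have h1 : ∑ i, v i • x i = (LinearMap.range σ).mkQ v := by
      simp only [x, ← map_smul, ← map_sum]
      congr 1
      ext i
      simp [Finset.sum_apply, Pi.single_apply]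
    rw [h1, Submodule.mkQ_apply, Submodule.Quotient.mk_eq_zero]
  have hFitM : ∀ i, Fitt.ideal R ((Fin n → R) ⧸ LinearMap.range σ) i = Ideal.span (Min Mx (n - i)) := by
    intro i
    rw [fitt_eq x hxspan i, hxrel, hσMx, detIdeal_range_col]
  -- generators of the dual cokernel
  let y : Fin m → (Module.Dual R (Fin m → R) ⧸ LinearMap.range σ.dualMap) := fun j =>
    (LinearMap.range σ.dualMap).mkQ (LinearMap.proj j)
  have hdual : ∀ φ : Module.Dual R (Fin m → R), φ = ∑ j, φ (Pi.single j 1) • LinearMap.proj j := by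
    intro φ
    apply (Pi.basisFun R (Fin m)).ext
    intro j
    simp [Finset.sum_apply, Pi.single_apply]
  have hyspan : Submodule.span R (Set.range y) = ⊤ := by
    rw [eq_top_iff]
    rintro z -
    obtain ⟨φ, rfl⟩ := Submodule.Quotient.mk_surjective _ z
    rw [hdual φ]
    have : (Submodule.Quotient.mk (∑ j, φ (Pi.single j 1) • (LinearMap.proj j : Module.Dual R (Fin m → R))) :
        Module.Dual R (Fin m → R) ⧸ LinearMap.range σ.dualMap) = ∑ j, φ (Pi.single j 1) • y j := by
      show (LinearMap.range σ.dualMap).mkQ _ = _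
      rw [map_sum]
      simp only [map_smul]
      rfl
    rw [this]
    exact Submodule.sum_mem _ fun j _ => Submodule.smul_mem _ _ (Submodule.subset_span ⟨j, rfl⟩)
  have hyrel : rel R y = LinearMap.range (Matrix.mulVecLin Mxᵀ) := by
    ext w
    rw [mem_rel]
    have h1 : ∑ j, w j • y j = (LinearMap.range σ.dualMap).mkQ (∑ j, w j • LinearMap.proj j) := by
      simp only [y, map_sum, map_smul]
    rw [h1, Submodule.mkQ_apply, Submodule.Quotient.mk_eq_zero]
    constructor
    · rintro ⟨φ, hφ⟩
      refine ⟨fun i => φ (Pi.single i 1), ?_⟩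
      ext j
      have h2 := LinearMap.congr_fun hφ (Pi.single j 1)
      rw [LinearMap.dualMap_apply] at h2
      have h3 : (∑ j', w j' • (LinearMap.proj j' : Module.Dual R (Fin m → R))) (Pi.single j 1) = w j := by
        simp [Finset.sum_apply, Pi.single_apply]
      rw [h3] at h2
      rw [← h2]
      have h4 : σ (Pi.single j 1) = ∑ i, Mx i j • (Pi.single i (1 : R) : Fin n → R) := by
        ext i
        simp [Mx, LinearMap.toMatrix'_apply, Finset.sum_apply, Pi.single_apply]
      rw [h4, map_sum]
      simp only [Matrix.mulVecLin_apply, Matrix.mulVec, dotProduct, Matrix.transpose_apply, map_smul,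
        smul_eq_mul]
    · rintro ⟨u, rfl⟩
      refine ⟨∑ i, u i • LinearMap.proj i, ?_⟩
      apply (Pi.basisFun R (Fin m)).ext
      intro j
      rw [LinearMap.dualMap_apply]
      simp [LinearMap.sum_apply, Mx, LinearMap.toMatrix'_apply, Matrix.mulVec, dotProduct,
        Pi.single_apply, mul_comm, Matrix.vecMul]
  have hFitK : ∀ j, Fitt.ideal R (Module.Dual R (Fin m → R) ⧸ LinearMap.range σ.dualMap) j =
      Ideal.span (Min Mx (m - j)) := by
    intro j
    rw [fitt_eq y hyspan j, hyrel, detIdeal_range_row]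
  constructor
  · intro j
    rcases subsingleton_or_nontrivial R with hR | hR
    · exact Subsingleton.elim _ _
    · have hmn : m ≤ n := by
        have := LinearMap.finrank_le_finrank_of_injective hσ
        simpa using this
      rw [hFitM, hFitK]
      congr 2
      omega
  · intro i hi
    rw [hFitM]
    apply min_eq_zero_of_lt
    omega

end aux

/-- Let R be a commutative ring and σ : R^m → R^n an injective linear map with cokernel M, so that M has
a length-one resolution by finite free modules and rank δ = n − m; let K be the cokernel of the dual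
map (R^n)^∨ → (R^m)^∨, which is the module Ext¹_R(M, R). Then the Fitting ideals satisfy Fit_{δ +
j}(M) = Fit_j(K) for all j ≥ 0, and Fit_i(M) = 0 for i < δ (the degeneracy loci of M and of K agree
after the shift by δ). -/
theorem result (R : Type u) [CommRing R] (m n : ℕ)
    (σ : (Fin m → R) →ₗ[R] (Fin n → R)) (hσ : Function.Injective σ) :
    (∀ j : ℕ, Fitt.ideal R ((Fin n → R) ⧸ LinearMap.range σ) (n - m + j) =
        Fitt.ideal R (Module.Dual R (Fin m → R) ⧸ LinearMap.range σ.dualMap) j) ∧
      ∀ i : ℕ, i < n - m → Fitt.ideal R ((Fin n → R) ⧸ LinearMap.range σ) i = ⊥ := by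
  exact main m n σ hσ

end Groth.Agent.S14347
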