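import Groth.Statements.S14351
-- import your own Groth.Agent.* helpers here

set_option autoImplicit false
universe u
open CAlg

namespace Groth.Agent.S14351

/-- For ring maps A → B → C with C faithfully flat over B and C faithfully flat over A, the ring B is
faithfully flat over A. -/
theorem result (A B C : Type u) [CommRing A] [CommRing B]
    [CommRing C] [Algebra A B] [Algebra B C] [Algebra A C] [IsScalarTower A B C]
    [Module.FaithfullyFlat B C] [Module.FaithfullyFlat A C] : Module.FaithfullyFlat A B := by
  -- the conjugation identity relating `C ⊗[B] (B ⊗[A] -)` and `C ⊗[A] -`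
  have conj : ∀ {N : Type u} [AddCommGroup N] [Module A N] {P : Type u} [AddCommGroup P]
      [Module A P] (f : N →ₗ[A] P),
      ((TensorProduct.AlgebraTensorModule.cancelBaseChange A B B C P).toLinearMap.restrictScalars A)
        ∘ₗ ((LinearMap.lTensor C
          (TensorProduct.AlgebraTensorModule.map (A := B) (LinearMap.id : B →ₗ[B] B) f)).restrictScalars A)
      = (f.lTensor C) ∘ₗ
        ((TensorProduct.AlgebraTensorModule.cancelBaseChange A B B C N).toLinearMap.restrictScalars A) := by
    intro N _ _ P _ _ f
    apply LinearMap.ext
    intro x
    induction x using TensorProduct.induction_on with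
    | zero => simp
    | add x y hx hy => simp only [map_add, hx, hy]
    | tmul c y =>
      induction y using TensorProduct.induction_on with
      | zero => simp
      | add y z hy hz => simp only [TensorProduct.tmul_add, map_add, hy, hz]
      | tmul b n => simp
  rw [Module.FaithfullyFlat.iff_zero_iff_lTensor_zero]
  refine ⟨?_, ?_⟩
  · rw [Module.Flat.iff_lTensor_preserves_injective_linearMap]
    intro N P _ _ _ _ f hf
    have h1 : Function.Injective (f.lTensor C) :=
      Module.Flat.lTensor_preserves_injective_linearMap f hf
    have h2 : Function.Injective (LinearMap.lTensor C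
        (TensorProduct.AlgebraTensorModule.map (A := B) (LinearMap.id : B →ₗ[B] B) f)) := by
      have hpt := fun x => congrArg (fun g => g x) (conj f)
      simp only [LinearMap.coe_comp, LinearMap.coe_restrictScalars, LinearEquiv.coe_coe,
        Function.comp_apply] at hpt
      intro x y hxy
      have h3 := hpt x
      rw [hxy, hpt y] at h3
      exact (LinearEquiv.injective _) (h1 h3.symm)
    rw [Module.FaithfullyFlat.lTensor_injective_iff_injective B C] at h2
    exact h2
  · intro N _ _ N' _ _ f
    refine ⟨fun aux => ?_, fun eq => eq ▸ by simp⟩
    rw [Module.FaithfullyFlat.zero_iff_lTensor_zero (R := A) (M := C) f]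
    have hB : TensorProduct.AlgebraTensorModule.map (A := B) (LinearMap.id : B →ₗ[B] B) f = 0 := by
      apply LinearMap.ext
      intro x
      exact congrArg (fun g => g x) aux
    have h := conj f
    rw [hB, LinearMap.lTensor_zero] at h
    apply LinearMap.ext
    intro x
    obtain ⟨y, rfl⟩ := (TensorProduct.AlgebraTensorModule.cancelBaseChange A B B C N).surjective x
    have := congrArg (fun g => g y) h
    simpa using this.symm

end Groth.Agent.S14351
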