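import Groth.Statements.S14353
import Mathlib
import Groth.Agent.Lib.Helper27.MLNat
-- import your own Groth.Agent.* helpers here

set_option autoImplicit false
universe u
open CategoryTheory CategoryTheory.Limits CategoryTheory.MonoidalCategory
open CAlg

namespace Groth.Agent.S14353

section Aux
open CategoryTheory CategoryTheory.Limits MonoidalCategory TensorProduct Opposite
namespace S14353aux

variable {R : Type u} [CommRing R]

lemma lim_ext (F : ℕᵒᵖ ⥤ ModuleCat.{u} R) (x y : ↑(limit F))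
    (h : ∀ n : ℕᵒᵖ, limit.π F n x = limit.π F n y) : x = y :=
  Concrete.limit_ext F x y h

lemma lim_exists (F : ℕᵒᵖ ⥤ ModuleCat.{u} R) (s : ∀ n : ℕᵒᵖ, F.obj n)
    (hs : ∀ ⦃i j : ℕᵒᵖ⦄ (f : i ⟶ j), F.map f (s i) = s j) :
    ∃ x : ↑(limit F), ∀ n : ℕᵒᵖ, limit.π F n x = s n := by
  let t := isLimitOfPreserves (forget (ModuleCat.{u} R)) (limit.isLimit F)
  let e := Types.isLimitEquivSections t
  refine ⟨e.symm ⟨s, fun {i j} f => hs f⟩, fun n => ?_⟩
  exact Types.isLimitEquivSections_symm_apply t ⟨s, fun {i j} f => hs f⟩ n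

/-- towers of Artinian modules are Mittag-Leffler -/
lemma ml_of_artinian (F : ℕᵒᵖ ⥤ ModuleCat.{u} R) (h : ∀ n : ℕᵒᵖ, IsArtinian R (F.obj n)) :
    ((F ⋙ forget₂ (ModuleCat.{u} R) AddCommGrpCat.{u}) ⋙ forget AddCommGrpCat.{u}).IsMittagLeffler := by
  intro j
  let 𝒮 : Set (Submodule R (F.obj j)) :=
    {S | ∃ (i : ℕᵒᵖ) (f : i ⟶ j), S = LinearMap.range (F.map f).hom}
  have hne : 𝒮.Nonempty := ⟨_, j, 𝟙 j, rfl⟩
  haveI := h j
  obtain ⟨S₀, ⟨i, f, rfl⟩, hmin⟩ := IsArtinian.set_has_minimal 𝒮 hne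
  refine ⟨i, f, fun k g => ?_⟩
  -- common refinement
  let m : ℕᵒᵖ := op (max i.unop k.unop)
  let a : m ⟶ i := (homOfLE (le_max_left i.unop k.unop)).op
  let b : m ⟶ k := (homOfLE (le_max_right i.unop k.unop)).op
  have hab : a ≫ f = b ≫ g := Subsingleton.elim _ _
  have h1 : LinearMap.range (F.map (a ≫ f)).hom ≤ LinearMap.range (F.map f).hom := by
    rintro _ ⟨x, rfl⟩
    refine ⟨(F.map a).hom x, ?_⟩
    rw [F.map_comp]; rfl
  have h2 : LinearMap.range (F.map (a ≫ f)).hom = LinearMap.range (F.map f).hom := by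
    by_contra hne'
    exact hmin _ ⟨m, a ≫ f, rfl⟩ (lt_of_le_of_ne h1 hne')
  rintro _ ⟨x, rfl⟩
  have hx : (F.map f).hom x ∈ LinearMap.range (F.map (a ≫ f)).hom := by
    rw [h2]; exact ⟨x, rfl⟩
  obtain ⟨y, hy⟩ := hx
  rw [hab, F.map_comp] at hy
  exact ⟨(F.map b).hom y, hy⟩

section lift

variable {B C : ℕᵒᵖ ⥤ ModuleCat.{u} R} (v : B ⟶ C)

lemma v_nat_apply {i j : ℕᵒᵖ} (f : i ⟶ j) (x : B.obj i) :
    (v.app j).hom ((B.map f).hom x) = (C.map f).hom ((v.app i).hom x) := by
  have := ConcreteCategory.congr_hom (v.naturality f) x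
  exact this

/-- the kernel tower of a morphism of towers -/
noncomputable def kerF : ℕᵒᵖ ⥤ ModuleCat.{u} R where
  obj n := ModuleCat.of R (LinearMap.ker (v.app n).hom)
  map {i j} f := ModuleCat.ofHom ((B.map f).hom.restrict (p := LinearMap.ker (v.app i).hom)
    (q := LinearMap.ker (v.app j).hom) (by
      intro x hx
      rw [LinearMap.mem_ker] at hx ⊢
      rw [v_nat_apply, hx, map_zero]))
  map_id i := by
    ext x
    simp
  map_comp f g := by
    ext x
    simp

noncomputable def kerι : kerF v ⟶ B where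
  app n := ModuleCat.ofHom (LinearMap.ker (v.app n).hom).subtype
  naturality i j f := by
    ext x
    rfl

theorem exists_lift_mod (hB : ∀ n : ℕᵒᵖ, IsArtinian R (B.obj n))
    (c : ∀ i : ℕᵒᵖ, C.obj i) (hc : ∀ ⦃i j : ℕᵒᵖ⦄ (f : i ⟶ j), C.map f (c i) = c j)
    (hrange : ∀ i : ℕᵒᵖ, ∃ b : B.obj i, v.app i b = c i) :
    ∃ b : ∀ i : ℕᵒᵖ, B.obj i, (∀ ⦃i j : ℕᵒᵖ⦄ (f : i ⟶ j), B.map f (b i) = b j) ∧
      ∀ i, v.app i (b i) = c i := by
  let Φ := forget₂ (ModuleCat.{u} R) AddCommGrpCat.{u}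
  have hML := ml_of_artinian (kerF v) (fun n => by
    show IsArtinian R (LinearMap.ker (v.app n).hom)
    haveI := hB n
    infer_instance)
  have := Groth.Agent.Lib.helper27.MLNat.exists_lift
    (A := kerF v ⋙ Φ) (B := B ⋙ Φ) (C := C ⋙ Φ)
    (Functor.whiskerRight (kerι v) Φ) (Functor.whiskerRight v Φ) ?_ c (fun i j f => hc f) hML hrange
  · exact this
  · intro i
    ext x
    constructor
    · intro hx
      exact ⟨⟨x, hx⟩, rfl⟩
    · rintro ⟨⟨y, hy⟩, rfl⟩
      exact hy

end lift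

section free

variable (k : ℕ)

/-- `X ⊗ R^k ≃ X^k` -/
noncomputable abbrev φ (X : Type u) [AddCommGroup X] [Module R X] :
    X ⊗[R] (Fin k → R) ≃ₗ[R] (Fin k → X) :=
  TensorProduct.piScalarRight R R X (Fin k)

lemma φ_nat {X Y : Type u} [AddCommGroup X] [Module R X] [AddCommGroup Y] [Module R Y]
    (g : X →ₗ[R] Y) (t : X ⊗[R] (Fin k → R)) (j : Fin k) :
    φ k Y (g.rTensor (Fin k → R) t) j = g (φ k X t j) := by
  induction t using TensorProduct.induction_on with
  | zero => simp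
  | tmul x f => simp [TensorProduct.piScalarRight_apply]
  | add a b ha hb => simp only [map_add, Pi.add_apply, ha, hb]

variable (M : ℕᵒᵖ ⥤ ModuleCat.{u} R)

lemma free_inj (y : (limit M : ModuleCat.{u} R) ⊗[R] (Fin k → R))
    (hy : ∀ n : ℕᵒᵖ, (limit.π M n).hom.rTensor (Fin k → R) y = 0) : y = 0 := by
  apply (φ k (limit M : ModuleCat.{u} R)).injective
  rw [map_zero]
  funext j
  apply lim_ext
  intro n
  have := φ_nat k (limit.π M n).hom y j
  rw [hy n, map_zero] at this
  simp only [Pi.zero_apply, map_zero]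
  exact this.symm

lemma free_surj (y : ∀ n : ℕᵒᵖ, (M.obj n) ⊗[R] (Fin k → R))
    (hy : ∀ ⦃i j : ℕᵒᵖ⦄ (f : i ⟶ j), (M.map f).hom.rTensor (Fin k → R) (y i) = y j) :
    ∃ z : (limit M : ModuleCat.{u} R) ⊗[R] (Fin k → R),
      ∀ n : ℕᵒᵖ, (limit.π M n).hom.rTensor (Fin k → R) z = y n := by
  have key : ∀ j : Fin k, ∃ l : ↑(limit M), ∀ n : ℕᵒᵖ, limit.π M n l = φ k (M.obj n) (y n) j := by
    intro j
    apply lim_exists M (fun n => φ k (M.obj n) (y n) j)
    intro a b f
    have := φ_nat k (M.map f).hom (y a) j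
    rw [hy f] at this
    exact this.symm
  choose l hl using key
  refine ⟨(φ k (limit M : ModuleCat.{u} R)).symm l, fun n => ?_⟩
  apply (φ k (M.obj n)).injective
  funext j
  rw [φ_nat, LinearEquiv.apply_symm_apply]
  exact hl j n

end free

variable (M : ℕᵒᵖ ⥤ ModuleCat.{u} R)

/-- the morphism of towers `M ⊗ P ⟶ M ⊗ Q` induced by `g : P ⟶ Q` -/
noncomputable def vv {P Q : ModuleCat.{u} R} (g : P ⟶ Q) : M ⋙ tensorRight P ⟶ M ⋙ tensorRight Q where
  app n := M.obj n ◁ g
  naturality i j f := by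
    exact (whisker_exchange (M.map f) g).symm

lemma isArtinian_free (k : ℕ) (hM : ∀ n : ℕᵒᵖ, IsFiniteLength R (M.obj n)) (n : ℕᵒᵖ) :
    IsArtinian R ((M ⋙ tensorRight (ModuleCat.of R (Fin k → R))).obj n) := by
  haveI : IsArtinian R (M.obj n) := (isFiniteLength_iff_isNoetherian_isArtinian.mp (hM n)).2
  exact isArtinian_of_linearEquiv (φ k (M.obj n)).symm

/-- lifting compatible families along `M ⊗ R^k ⟶ M ⊗ Q` -/
lemma lift_family (hM : ∀ n : ℕᵒᵖ, IsFiniteLength R (M.obj n)) (k : ℕ) {Q : Type u} [AddCommGroup Q] [Module R Q]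
    (g : (Fin k → R) →ₗ[R] Q)
    (c : ∀ n : ℕᵒᵖ, (M.obj n) ⊗[R] Q)
    (hc : ∀ ⦃i j : ℕᵒᵖ⦄ (f : i ⟶ j), (M.map f).hom.rTensor Q (c i) = c j)
    (hrange : ∀ n : ℕᵒᵖ, ∃ b : (M.obj n) ⊗[R] (Fin k → R), g.lTensor (M.obj n) b = c n) :
    ∃ z : (limit M : ModuleCat.{u} R) ⊗[R] (Fin k → R),
      ∀ n : ℕᵒᵖ, g.lTensor (M.obj n) ((limit.π M n).hom.rTensor (Fin k → R) z) = c n := by
  obtain ⟨b, hb1, hb2⟩ := exists_lift_mod (vv M (ModuleCat.ofHom g)) (isArtinian_free M k hM) c
    (fun i j f => hc f) hrange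
  obtain ⟨z, hz⟩ := free_surj k M b (fun i j f => hb1 f)
  refine ⟨z, fun n => ?_⟩
  rw [hz n]
  exact hb2 n

theorem main (hM : ∀ n : ℕᵒᵖ, IsFiniteLength R (M.obj n))
    (N : Type u) [AddCommGroup N] [Module R N] [Module.FinitePresentation R N] :
    IsIso (limit.post M (tensorRight (ModuleCat.of R N))) := by
  obtain ⟨b, p, hp⟩ := Module.Finite.exists_fin' R N
  have hK : (LinearMap.ker p).FG := Module.FinitePresentation.fg_ker p hp
  haveI : Module.Finite R (LinearMap.ker p) := Module.Finite.iff_fg.mpr hK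
  obtain ⟨a, q', hq'⟩ := Module.Finite.exists_fin' R (LinearMap.ker p)
  let q : (Fin a → R) →ₗ[R] (Fin b → R) := (LinearMap.ker p).subtype ∘ₗ q'
  have hex : Function.Exact q p := by
    intro y
    constructor
    · intro hy
      obtain ⟨w, hw⟩ := hq' ⟨y, hy⟩
      exact ⟨w, by simp [q, hw]⟩
    · rintro ⟨w, rfl⟩
      exact (q' w).2
  have hpq : p ∘ₗ q = 0 := by
    ext w
    exact (q' _).2
  set L : ModuleCat.{u} R := limit M with hL
  set T := limit.post M (tensorRight (ModuleCat.of R N)) with hTdef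
  have hT : ∀ (n : ℕᵒᵖ) (x : L ⊗[R] N),
      (limit.π (M ⋙ tensorRight (ModuleCat.of R N)) n).hom (T.hom x) =
        (limit.π M n).hom.rTensor N x := by
    intro n x
    have := ConcreteCategory.congr_hom (limit.post_π M (tensorRight (ModuleCat.of R N)) n) x
    exact this
  have hcomm : ∀ {P Q : Type u} [AddCommGroup P] [Module R P] [AddCommGroup Q] [Module R Q]
      (g : P →ₗ[R] Q) (n : ℕᵒᵖ) (y : L ⊗[R] P),
      g.lTensor (M.obj n) ((limit.π M n).hom.rTensor P y) =
        (limit.π M n).hom.rTensor Q (g.lTensor L y) := by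
    intro P Q _ _ _ _ g n y
    have h1 := LinearMap.congr_fun (LinearMap.lTensor_comp_rTensor _ (limit.π M n).hom g) y
    have h2 := LinearMap.congr_fun (LinearMap.rTensor_comp_lTensor _ (limit.π M n).hom g) y
    exact h1.trans h2.symm
  rw [ConcreteCategory.isIso_iff_bijective]
  constructor
  · -- injectivity
    rw [injective_iff_map_eq_zero]
    intro x hx
    obtain ⟨y, rfl⟩ := LinearMap.lTensor_surjective L hp x
    -- the components of `y` lie in the kernel
    have hy0 : ∀ n : ℕᵒᵖ, p.lTensor (M.obj n) ((limit.π M n).hom.rTensor (Fin b → R) y) = 0 := by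
      intro n
      rw [hcomm, ← hT n]
      have : T.hom (p.lTensor L y) = 0 := hx
      rw [this, map_zero]
    have hexn : ∀ n : ℕᵒᵖ, Function.Exact (q.lTensor (M.obj n)) (p.lTensor (M.obj n)) :=
      fun n => lTensor_exact (M.obj n) hex hp
    obtain ⟨w, hw⟩ := lift_family M hM a q
      (fun n => (limit.π M n).hom.rTensor (Fin b → R) y)
      (fun i j f => by
        have h1 := LinearMap.rTensor_comp_apply (Fin b → R) (M.map f).hom (limit.π M i).hom y
        rw [← h1]
        congr 2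
        rw [← ModuleCat.hom_comp, limit.w])
      (fun n => ((hexn n) _).mp (hy0 n))
    have hyw : q.lTensor L w = y := by
      have : q.lTensor L w - y = 0 := by
        apply free_inj b M
        intro n
        rw [map_sub, sub_eq_zero, ← hcomm]
        exact hw n
      exact sub_eq_zero.mp this
    rw [← hyw]
    have := LinearMap.lTensor_comp_apply L p q w
    rw [← this, hpq, LinearMap.lTensor_zero, LinearMap.zero_apply]
  · -- surjectivity
    intro z
    obtain ⟨y, hy⟩ := lift_family M hM b p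
      (fun n => (limit.π (M ⋙ tensorRight (ModuleCat.of R N)) n).hom z)
      (fun i j f => by
        have := ConcreteCategory.congr_hom (limit.w (M ⋙ tensorRight (ModuleCat.of R N)) f) z
        exact this)
      (fun n => LinearMap.lTensor_surjective (M.obj n) hp _)
    refine ⟨p.lTensor L y, ?_⟩
    apply lim_ext
    intro n
    have := hT n (p.lTensor L y)
    rw [← hcomm, hy n] at this
    exact this

end S14353aux
end Aux


/-- For a commutative ring R, an inverse system (M_n)_{n ∈ ℕ} of R-modules of finite length and a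
finitely presented R-module N, the canonical comparison map (lim_n M_n) ⊗_R N ⟶ lim_n (M_n ⊗_R N) is
an isomorphism. (The published statement takes N = R/I for a finitely generated ideal I; the
argument covers every finitely presented N, which is the form stated here.) -/
theorem result (R : Type u) [CommRing R]
    (M : ℕᵒᵖ ⥤ ModuleCat.{u} R) (hM : ∀ n : ℕᵒᵖ, IsFiniteLength R (M.obj n))
    (N : Type u) [AddCommGroup N] [Module R N] [Module.FinitePresentation R N] :
    IsIso (limit.post M (tensorRight (ModuleCat.of R N))) := by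
  exact S14353aux.main M hM N

end Groth.Agent.S14353
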