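import Groth.Statements.S8355
import Mathlib
-- import your own Groth.Agent.* helpers here

set_option autoImplicit false
universe v u
open CategoryTheory CategoryTheory.Limits
open SpSeq

namespace Groth.Agent.S8355

section helpers
theorem isZero_homology_of_isZero_X {C : Type u} [Category.{v} C] [Abelian C] {ι : Type*}
    {c : ComplexShape ι} (K : HomologicalComplex C c) (i : ι) (h : IsZero (K.X i)) :
    IsZero (K.homology i) := by
  have : (K.sc i).Exact := ShortComplex.exact_of_isZero_X₂ _ h
  exact (ShortComplex.exact_iff_isZero_homology _).1 this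

theorem isZero_X_of_isZero_homology {C : Type u} [Category.{v} C] [Abelian C] {ι : Type*}
    {c : ComplexShape ι} (K : HomologicalComplex C c) (i : ι)
    (hf : K.d (c.prev i) i = 0) (hg : K.d i (c.next i) = 0) (h : IsZero (K.homology i)) :
    IsZero (K.X i) := by
  have e : (K.sc i).homology ≅ K.X i :=
    (ShortComplex.HomologyData.ofZeros (K.sc i) hf hg).left.homologyIso
  exact h.of_iso e.symm

theorem main {C : Type u} [Category.{v} C] [Abelian C] {r₀ : ℤ}
    (E : CohomologicalSpectralSequence C r₀) (r : ℤ) (hr : r₀ ≤ r) (pq : ℤ × ℤ)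
    (h : IsZero ((E.page r hr).X pq)) :
    (∀ (k : ℤ) (hk : r ≤ k), IsZero ((E.page k (hr.trans hk)).X pq)) ∧
      ∀ (H : ℤ → C) (a : SpSeq.Abutment E H),
        IsZero (SpSeq.grPiece (a.fil (pq.1 + pq.2)) (a.anti (pq.1 + pq.2)) pq.1) := by
  have part1 : ∀ (k : ℤ) (hk : r ≤ k), IsZero ((E.page k (hr.trans hk)).X pq) := by
    intro k hk
    induction k, hk using Int.leInduction with
    | base => exact h
    | succ k hk ih =>
      have h1 := isZero_homology_of_isZero_X (E.page k (hr.trans hk)) pq ih
      exact h1.of_iso (E.iso k (k + 1) pq rfl (hr.trans hk)).symm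
  refine ⟨part1, fun H a => ?_⟩
  have hs := a.stat pq
  have key : ∀ (k : ℤ) (hk : a.rk pq ≤ k), IsZero ((E.page k (hs.1.trans hk)).X pq) →
      IsZero ((E.page (a.rk pq) hs.1).X pq) := by
    intro k hk
    induction k, hk using Int.leInduction with
    | base => exact id
    | succ k hk ih =>
      intro hz
      apply ih
      have h1 : IsZero ((E.page k (hs.1.trans hk)).homology pq) :=
        hz.of_iso (E.iso k (k + 1) pq rfl (hs.1.trans hk))
      obtain ⟨d1, d2⟩ := hs.2 k (hs.1.trans hk) hk
      refine isZero_X_of_isZero_homology _ pq ?_ ?_ h1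
      · have : (ComplexShape.up' (⟨k, 1 - k⟩ : ℤ × ℤ)).prev pq = pq - (k, 1 - k) :=
          ComplexShape.prev_eq' _ (by simp [ComplexShape.up'])
        rw [this]; exact d1
      · have : (ComplexShape.up' (⟨k, 1 - k⟩ : ℤ × ℤ)).next pq = pq + (k, 1 - k) :=
          ComplexShape.next_eq' _ (by simp [ComplexShape.up'])
        rw [this]; exact d2
  have hz : IsZero ((E.page (a.rk pq) hs.1).X pq) := by
    rcases le_total r (a.rk pq) with h1 | h1
    · exact part1 _ h1
    · exact key r h1 h
  exact hz.of_iso (a.β pq).symm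
end helpers

/-- Let E be a spectral sequence in an abelian category and suppose E_r^{p,q} = 0. Then E_k^{p,q} = 0
for every k ≥ r, and E_∞^{p,q} = 0: for any abutment data (H^n) of E, the graded piece gr^p H^{p+q},
identified by the abutment with the limit term at (p, q), is zero. -/
theorem result {C : Type u} [Category.{v} C] [Abelian C] {r₀ : ℤ}
    (E : CohomologicalSpectralSequence C r₀) (r : ℤ) (hr : r₀ ≤ r) (pq : ℤ × ℤ)
    (h : IsZero ((E.page r hr).X pq)) :
    (∀ (k : ℤ) (hk : r ≤ k), IsZero ((E.page k (hr.trans hk)).X pq)) ∧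
      ∀ (H : ℤ → C) (a : SpSeq.Abutment E H),
        IsZero (SpSeq.grPiece (a.fil (pq.1 + pq.2)) (a.anti (pq.1 + pq.2)) pq.1) := by
  exact main E r hr pq h

end Groth.Agent.S8355
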