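import Groth.Statements.S14355
import Mathlib
import Groth.Agent.S8355

set_option autoImplicit false
universe v u
open CategoryTheory CategoryTheory.Limits
open SpSeqMor

namespace Groth.Agent.S14355

set_option linter.style.haveILetI false

variable {C : Type u} [Category.{v} C] [Abelian C]

lemma homologyMap_eq_zero {ι : Type*} {c : ComplexShape ι} {K L : HomologicalComplex C c}
    (φ : K ⟶ L) (i : ι) (h : φ.f i = 0) : HomologicalComplex.homologyMap φ i = 0 := by
  rw [← cancel_epi (K.homologyπ i), HomologicalComplex.homologyπ_naturality, comp_zero]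
  have : HomologicalComplex.cyclesMap φ i = 0 := by
    rw [← cancel_mono (L.iCycles i), HomologicalComplex.cyclesMap_i, h, comp_zero, zero_comp]
  rw [this, zero_comp]

lemma fil_succ_eq (K : SpSeq.FilObj C) (p : ℤ) (h : IsZero (K.gr p)) :
    K.fil (p + 1) = K.fil p := by
  apply le_antisymm (K.anti (Int.le_add_one le_rfl))
  have he : Epi (K.stepLE (Int.le_add_one (le_refl p))) :=
    Preadditive.epi_of_isZero_cokernel _ h
  have hi : IsIso (K.stepLE (Int.le_add_one (le_refl p))) := isIso_of_mono_of_epi _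
  refine Subobject.le_of_comm (inv (K.stepLE (Int.le_add_one (le_refl p)))) ?_
  rw [IsIso.inv_comp_eq]
  exact (Subobject.ofLE_arrow _).symm

lemma arrow_eq_zero {X : C} (S : Subobject X) (h : S = ⊥) : S.arrow = 0 := by
  subst h; exact Subobject.bot_arrow

lemma arrow_isIso {X : C} (S : Subobject X) (h : S = ⊤) : IsIso S.arrow := by
  subst h; infer_instance

theorem main (E E' : E₂CohomologicalSpectralSequence C) (φ : E ⟶ E') (H H' : ℤ → C)
    (a : SpSeq.Abutment E H) (a' : SpSeq.Abutment E' H')
    (ha : ∀ n : ℤ, a.IsFinite n) (ha' : ∀ n : ℤ, a'.IsFinite n)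
    (f : SpSeqMor.AbutHom φ a a') (l a₀ : ℤ)
    (hE : ∀ i : ℤ, i < a₀ → IsZero ((E.page 2 le_rfl).X (i, l - i)))
    (hE' : ∀ i : ℤ, a₀ < i → IsZero ((E'.page 2 le_rfl).X (i, l - i)))
    (hφ : (φ.hom 2 le_rfl).f (a₀, l - a₀) = 0) :
    f.hom l = 0 := by
  -- graded pieces vanish
  have g1 : ∀ i, i < a₀ → IsZero ((a.filObj l).gr i) := by
    intro i hi
    have aux : ∀ (n : ℤ) (hn : n = l), IsZero (SpSeq.grPiece (a.fil n) (a.anti n) i) →
        IsZero (SpSeq.grPiece (a.fil l) (a.anti l) i) := by
      intro n hn h; subst hn; exact h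
    exact aux _ (by show i + (l - i) = l; ring)
      ((Groth.Agent.S8355.main E 2 le_rfl (i, l - i) (hE i hi)).2 H a)
  have g2 : ∀ i, a₀ < i → IsZero ((a'.filObj l).gr i) := by
    intro i hi
    have aux : ∀ (n : ℤ) (hn : n = l), IsZero (SpSeq.grPiece (a'.fil n) (a'.anti n) i) →
        IsZero (SpSeq.grPiece (a'.fil l) (a'.anti l) i) := by
      intro n hn h; subst hn; exact h
    exact aux _ (by show i + (l - i) = l; ring)
      ((Groth.Agent.S8355.main E' 2 le_rfl (i, l - i) (hE' i hi)).2 H' a')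
  -- top / bottom
  have t1 : (a.filObj l).fil a₀ = ⊤ := by
    obtain ⟨⟨c, hc⟩, -⟩ := ha l
    rcases le_total c a₀ with hca | hca
    · have key : ∀ k : ℕ, c + k ≤ a₀ → (a.filObj l).fil (c + k) = ⊤ := by
        intro k
        induction k with
        | zero => intro _; simpa using hc
        | succ k ih =>
          intro hk
          have h1 : c + (k : ℤ) < a₀ := by push_cast at hk; omega
          have h2 := fil_succ_eq (a.filObj l) (c + k) (g1 _ h1)
          have h3 : c + ((k + 1 : ℕ) : ℤ) = c + k + 1 := by push_cast; ring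
          rw [h3, h2]; exact ih h1.le
      have := key (a₀ - c).toNat (by rw [Int.toNat_of_nonneg (by omega)]; omega)
      rwa [Int.toNat_of_nonneg (by omega), add_sub_cancel] at this
    · exact top_le_iff.1 (hc ▸ (a.filObj l).anti hca)
  have t2 : (a'.filObj l).fil (a₀ + 1) = ⊥ := by
    obtain ⟨-, ⟨b, hb⟩⟩ := ha' l
    rcases le_total (a₀ + 1) b with hab | hab
    · have key : ∀ k : ℕ, a₀ + 1 ≤ b - k → (a'.filObj l).fil (b - k) = ⊥ := by
        intro k
        induction k with
        | zero => intro _; simpa using hb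
        | succ k ih =>
          intro hk
          have h1 : a₀ < b - ((k + 1 : ℕ) : ℤ) := by omega
          have h2 := fil_succ_eq (a'.filObj l) (b - ((k + 1 : ℕ) : ℤ)) (g2 _ h1)
          have h3 : b - ((k + 1 : ℕ) : ℤ) + 1 = b - k := by push_cast; ring
          rw [← h2, h3]; exact ih (by push_cast at hk; omega)
      have := key (b - (a₀ + 1)).toNat (by rw [Int.toNat_of_nonneg (by omega)]; omega)
      rwa [Int.toNat_of_nonneg (by omega), sub_sub_cancel] at this
    · exact le_bot_iff.1 (hb ▸ (a'.filObj l).anti hab)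
  -- φ vanishes on all pages at pq
  set pq : ℤ × ℤ := (a₀, l - a₀) with hpq
  have hφall : ∀ (r : ℤ) (hr : 2 ≤ r), (φ.hom r hr).f pq = 0 := by
    intro r hr
    induction r, hr using Int.leInduction with
    | base => exact hφ
    | succ r hr ih =>
      have h1 := φ.comm r (r + 1) pq rfl hr
      rw [homologyMap_eq_zero _ _ ih, zero_comp] at h1
      have h2 : (E.iso r (r + 1) pq rfl hr).hom ≫ (φ.hom (r + 1) (by omega)).f pq = 0 := h1.symm
      exact (cancel_epi (E.iso r (r + 1) pq rfl hr).hom).1 (h2.trans comp_zero.symm)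
  -- gr a₀ = 0
  have g3 : (f.fil l).gr a₀ = 0 := by
    have aux : ∀ (n : ℤ) (hn : n = l), (f.fil n).gr a₀ = 0 → (f.fil l).gr a₀ = 0 := by
      intro n hn h; subst hn; exact h
    refine aux (pq.1 + pq.2) (by show a₀ + (l - a₀) = l; ring) ?_
    have h2a : (2 : ℤ) ≤ a.rk pq := (a.stat pq).1
    have h2a' : (2 : ℤ) ≤ a'.rk pq := (a'.stat pq).1
    have hkk : a.rk pq + ((a'.rk pq - 2).toNat : ℤ) = a'.rk pq + ((a.rk pq - 2).toNat : ℤ) := by
      rw [Int.toNat_of_nonneg (by omega), Int.toNat_of_nonneg (by omega)]; ring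
    have h1 := f.comm pq (a'.rk pq - 2).toNat (a.rk pq - 2).toNat hkk
    rw [hφall, zero_comp, comp_zero, comp_zero] at h1
    exact (cancel_epi (a.β pq).hom).1 (h1.trans comp_zero.symm)
  -- conclude
  have h4 : (f.fil l).lift a₀ ≫
      cokernel.π ((a'.filObj l).stepLE (Int.le_add_one (le_refl a₀))) = 0 := by
    have : cokernel.π ((a.filObj l).stepLE (Int.le_add_one (le_refl a₀))) ≫ (f.fil l).gr a₀ =
        (f.fil l).lift a₀ ≫ cokernel.π ((a'.filObj l).stepLE (Int.le_add_one (le_refl a₀))) := by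
      exact cokernel.π_desc _ _ _
    rw [← this, g3]
    exact comp_zero
  have hz : IsZero ((a'.filObj l).step (a₀ + 1)) :=
    IsZero.of_mono_eq_zero _ (arrow_eq_zero _ t2)
  have h6 : (f.fil l).lift a₀ = 0 := by
    have hex := ShortComplex.exact_cokernel ((a'.filObj l).stepLE (Int.le_add_one (le_refl a₀)))
    have := hex.lift_f ((f.fil l).lift a₀) h4
    rw [hz.eq_of_tgt (hex.lift ((f.fil l).lift a₀) h4) 0, zero_comp] at this
    exact this.symm
  have h7 := (f.fil l).lift_arrow a₀
  rw [h6, zero_comp] at h7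
  haveI := arrow_isIso _ t1
  exact (cancel_epi ((a.filObj l).fil a₀).arrow).1 (h7.symm.trans comp_zero.symm)



/-- Let φ : E ⟶ E' be a morphism of E_2-cohomological spectral sequences in an abelian category, with
abutments H and H' whose filtrations are finite in each degree, and f a morphism of abutment data
over φ. Fix integers l and a₀. If E_2^{i, l-i} = 0 for i < a₀, E'_2^{i, l-i} = 0 for i > a₀ and
φ_2^{a₀, l-a₀} = 0, then f^l : H^l ⟶ H'^l is zero. (The published statement prints the two vanishing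
hypotheses at positions (i, l); the argument works on the line of total degree l, at positions (i, l
- i), which is the form stated here.) -/
theorem result (C : Type u) [Category.{v} C] [Abelian C]
    (E E' : E₂CohomologicalSpectralSequence C) (φ : E ⟶ E') (H H' : ℤ → C)
    (a : SpSeq.Abutment E H) (a' : SpSeq.Abutment E' H')
    (ha : ∀ n : ℤ, a.IsFinite n) (ha' : ∀ n : ℤ, a'.IsFinite n)
    (f : SpSeqMor.AbutHom φ a a') (l a₀ : ℤ)
    (hE : ∀ i : ℤ, i < a₀ → IsZero ((E.page 2 le_rfl).X (i, l - i)))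
    (hE' : ∀ i : ℤ, a₀ < i → IsZero ((E'.page 2 le_rfl).X (i, l - i)))
    (hφ : (φ.hom 2 le_rfl).f (a₀, l - a₀) = 0) :
    f.hom l = 0 := by
  exact main E E' φ H H' a a' ha ha' f l a₀ hE hE' hφ

end Groth.Agent.S14355
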