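import Groth.Statements.S14357
import Mathlib

set_option autoImplicit false
universe u
open AlgebraicGeometry
open Proj

namespace Groth.Agent.S14357

open AlgebraicGeometry CategoryTheory

variable (k : Type u) [Field k]

instance instTower : IsScalarTower k ((CohB1.polyGrading 1 k) 0) (MvPolynomial (Fin (1 + 1)) k) :=
  IsScalarTower.of_algebraMap_eq (R := k) (S := (CohB1.polyGrading 1 k) 0)
    (A := MvPolynomial (Fin (1 + 1)) k) (fun x => by
      rw [SetLike.GradeZero.algebraMap_apply, SetLike.GradeZero.coe_algebraMap])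

instance instFT : Algebra.FiniteType ((CohB1.polyGrading 1 k) 0) (MvPolynomial (Fin (1 + 1)) k) :=
  Algebra.FiniteType.of_restrictScalars_finiteType k _ _

lemma algebraMap_zero_surjective :
    Function.Surjective (algebraMap k ((CohB1.polyGrading 1 k) 0)) := by
  rintro ⟨p, hp⟩
  have hp' : p ∈ MvPolynomial.homogeneousSubmodule (Fin (1 + 1)) k 0 := hp
  rw [MvPolynomial.homogeneousSubmodule_zero, Submodule.mem_one] at hp'
  obtain ⟨c, hc⟩ := hp'
  exact ⟨c, Subtype.ext hc⟩

instance instArt : IsArtinianRing ((CohB1.polyGrading 1 k) 0) :=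
  (algebraMap_zero_surjective k).isArtinianRing

/-- the generic point -/
noncomputable def P0 : ProjectiveSpectrum (CohB1.polyGrading 1 k) where
  asHomogeneousIdeal := ⊥
  isPrime := by
    change (⊥ : Ideal (MvPolynomial (Fin (1 + 1)) k)).IsPrime
    exact Ideal.isPrime_bot
  not_irrelevant_le := by
    intro h
    have h1 : (MvPolynomial.X 0 : MvPolynomial (Fin (1 + 1)) k) ∈
        HomogeneousIdeal.irrelevant (CohB1.polyGrading 1 k) :=
      HomogeneousIdeal.mem_irrelevant_of_mem _ Nat.one_pos (MvPolynomial.isHomogeneous_X k 0)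
    have h2 := h h1
    have h3 : (MvPolynomial.X 0 : MvPolynomial (Fin (1 + 1)) k) ∈
        (⊥ : HomogeneousIdeal (CohB1.polyGrading 1 k)).toIdeal := h2
    rw [HomogeneousIdeal.toIdeal_bot, Ideal.mem_bot] at h3
    exact MvPolynomial.X_ne_zero 0 h3

/-- the point `V(X₀)` -/
noncomputable def P1 : ProjectiveSpectrum (CohB1.polyGrading 1 k) where
  asHomogeneousIdeal := ⟨Ideal.span {(MvPolynomial.X 0 : MvPolynomial (Fin (1 + 1)) k)},
    Ideal.homogeneous_span _ _ (by
      intro x hx
      rw [Set.mem_singleton_iff] at hx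
      subst hx
      exact ⟨1, MvPolynomial.isHomogeneous_X k 0⟩)⟩
  isPrime := by
    change (Ideal.span {(MvPolynomial.X 0 : MvPolynomial (Fin (1 + 1)) k)}).IsPrime
    rw [Ideal.span_singleton_prime (MvPolynomial.X_ne_zero 0)]
    exact MvPolynomial.X_prime
  not_irrelevant_le := by
    intro h
    have h1 : (MvPolynomial.X 1 : MvPolynomial (Fin (1 + 1)) k) ∈
        HomogeneousIdeal.irrelevant (CohB1.polyGrading 1 k) :=
      HomogeneousIdeal.mem_irrelevant_of_mem _ Nat.one_pos (MvPolynomial.isHomogeneous_X k 1)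
    have h2 := h h1
    have h3 : (MvPolynomial.X 1 : MvPolynomial (Fin (1 + 1)) k) ∈
        Ideal.span {(MvPolynomial.X 0 : MvPolynomial (Fin (1 + 1)) k)} := h2
    rw [Ideal.mem_span_singleton] at h3
    obtain ⟨g, hg⟩ := h3
    have := congrArg (MvPolynomial.eval (fun i : Fin (1 + 1) => if i = 0 then (0 : k) else 1)) hg
    simp at this

lemma P0_le_P1 : P0 k ≤ P1 k := by
  rw [← ProjectiveSpectrum.as_ideal_le_as_ideal]
  exact bot_le

lemma P0_ne_P1 : P0 k ≠ P1 k := by
  intro h
  have h1 : (MvPolynomial.X 0 : MvPolynomial (Fin (1 + 1)) k) ∈ (P1 k).asHomogeneousIdeal :=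
    Ideal.subset_span rfl
  rw [← h] at h1
  have h3 : (MvPolynomial.X 0 : MvPolynomial (Fin (1 + 1)) k) ∈
      (⊥ : HomogeneousIdeal (CohB1.polyGrading 1 k)).toIdeal := h1
  rw [HomogeneousIdeal.toIdeal_bot, Ideal.mem_bot] at h3
  exact MvPolynomial.X_ne_zero 0 h3

/-- For a field k the projective line over k is not an affine scheme. (The projective line is taken here
as Proj of the polynomial ring in two variables over k with its standard grading; the book builds it
by gluing two affine lines and identifies the two constructions later.) -/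
theorem result (k : Type u) [Field k] :
    ¬ IsAffine (CohB1.ProjSpace 1 k) := by
  intro hX
  have hX' : IsAffine (Proj (CohB1.polyGrading 1 k)) := hX
  have hfin : IsFinite (Proj.toSpecZero (CohB1.polyGrading 1 k)) :=
    IsFinite.iff_isProper_and_isAffineHom.mpr ⟨inferInstance, inferInstance⟩
  have h1 := (Proj.toSpecZero (CohB1.polyGrading 1 k)).finite_appTop
  have hA0 : IsArtinianRing Γ(Spec (CommRingCat.of ((CohB1.polyGrading 1 k) 0)), ⊤) :=
    (Scheme.ΓSpecIso (CommRingCat.of ((CohB1.polyGrading 1 k) 0))).symm.commRingCatIsoToRingEquiv.surjective.isArtinianRing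
  have hA1 : IsArtinianRing Γ(Proj (CohB1.polyGrading 1 k), ⊤) := by
    let _ := (Proj.toSpecZero (CohB1.polyGrading 1 k)).appTop.hom.toAlgebra
    have : Module.Finite Γ(Spec (CommRingCat.of ((CohB1.polyGrading 1 k) 0)), ⊤)
      Γ(Proj (CohB1.polyGrading 1 k), ⊤) := h1
    exact IsArtinianRing.of_finite Γ(Spec (CommRingCat.of ((CohB1.polyGrading 1 k) 0)), ⊤) _
  have hd0 : DiscreteTopology (Spec Γ(Proj (CohB1.polyGrading 1 k), ⊤)) :=
    inferInstanceAs (DiscreteTopology (PrimeSpectrum _))
  have hd : DiscreteTopology (Proj (CohB1.polyGrading 1 k)) :=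
    (Proj (CohB1.polyGrading 1 k)).isoSpec.hom.homeomorph.symm.discreteTopology
  have hd' : DiscreteTopology (ProjectiveSpectrum (CohB1.polyGrading 1 k)) := hd
  have h2 := (ProjectiveSpectrum.le_iff_mem_closure _ (P0 k) (P1 k)).mp (P0_le_P1 k)
  rw [closure_discrete] at h2
  exact P0_ne_P1 k (Set.mem_singleton_iff.mp h2).symm

end Groth.Agent.S14357
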