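import Groth.Statements.S14361
import Mathlib.AlgebraicGeometry.IdealSheaf.Functorial

set_option autoImplicit false
universe u
open AlgebraicGeometry
open SchImage

namespace Groth.Agent.S14361

/-- Let π : X → Y be a morphism of schemes with X reduced. Then the scheme-theoretic image of π is
computed affine-locally: on every affine open U of Y, the ideal of the kernel ideal sheaf of π (the
largest quasi-coherent ideal sheaf contained in the componentwise kernels) equals the ideal of those
sections over U which pull back to zero on π⁻¹(U). (The published statement allows, as an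
alternative to X being reduced, that π be quasi-compact; this row is the reduced case and assumes no
quasi-compactness.) -/
theorem result (X Y : Scheme.{u}) [IsReduced X]
    (π : X ⟶ Y) (U : Y.affineOpens) :
    π.ker.ideal U = RingHom.ker (π.app U).hom := by
  apply le_antisymm (π.ideal_ker_le U)
  have h1 : π.ker = Scheme.IdealSheafData.vanishingIdeal
      (TopologicalSpace.Closeds.closure (π '' ((⊤ : TopologicalSpace.Closeds X) : Set X))) := by
    rw [← Scheme.IdealSheafData.map_vanishingIdeal, Scheme.IdealSheafData.vanishingIdeal_top,
      Scheme.nilradical_eq_bot, Scheme.IdealSheafData.map_bot]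
  rw [h1, Scheme.IdealSheafData.vanishingIdeal_ideal]
  intro s hs
  rw [RingHom.mem_ker] at hs
  rw [PrimeSpectrum.mem_vanishingIdeal]
  -- the preimage of the closure is contained in the zero locus of `s`
  have hsub : U.2.fromSpec ⁻¹' (closure (π '' Set.univ)) ⊆ PrimeSpectrum.zeroLocus {s} := by
    refine (U.2.fromSpec.isOpenEmbedding.isOpenMap.preimage_closure_subset_closure_preimage).trans
      ?_
    refine (IsClosed.closure_subset_iff (PrimeSpectrum.isClosed_zeroLocus _)).mpr ?_
    rintro p ⟨x, -, hx⟩
    by_contra hp
    have hp' : p ∈ (PrimeSpectrum.basicOpen s : Set _) := by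
      rw [PrimeSpectrum.basicOpen_eq_zeroLocus_compl]
      exact hp
    have hp'' : U.2.fromSpec p ∈ Y.basicOpen s := by
      have : p ∈ U.2.fromSpec ⁻¹ᵁ Y.basicOpen s := by
        rw [U.2.fromSpec_preimage_basicOpen]
        exact hp'
      exact this
    rw [← hx] at hp''
    have : x ∈ π ⁻¹ᵁ Y.basicOpen s := hp''
    rw [Scheme.preimage_basicOpen, hs, Scheme.basicOpen_zero] at this
    exact this
  intro p hp
  have := hsub (by simpa using hp)
  exact (PrimeSpectrum.mem_zeroLocus p {s}).mp this (Set.mem_singleton s)

end Groth.Agent.S14361
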