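import Groth.Statements.S14363
import Mathlib
-- import your own Groth.Agent.* helpers here

set_option autoImplicit false
universe u
open CAlg

namespace Groth.Agent.S14363

/-- Let A be a Noetherian ring and 0 → M' → M → M'' → 0 a short exact sequence of A-modules. If a prime
p of A is an associated prime of M'' and is not in the support of M', then p is an associated prime
of M. -/
theorem result (A : Type u) [CommRing A] [IsNoetherianRing A]
    (M' M M'' : Type u) [AddCommGroup M'] [Module A M'] [AddCommGroup M] [Module A M]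
    [AddCommGroup M''] [Module A M'']
    (f : M' →ₗ[A] M) (g : M →ₗ[A] M'') (hf : Function.Injective f) (hg : Function.Surjective g)
    (hfg : Function.Exact f g)
    (p : PrimeSpectrum A) (hp : p.asIdeal ∈ associatedPrimes A M'') (hsupp : p ∉ Module.support A M') :
    p.asIdeal ∈ associatedPrimes A M := by
  classical
  have hp' : IsAssociatedPrime p.asIdeal M'' := hp
  rw [isAssociatedPrime_iff] at hp'
  obtain ⟨hprime, x'', hx''⟩ := hp'
  have hmem : ∀ r : A, r ∈ p.asIdeal ↔ r • x'' = 0 := by
    intro r
    rw [hx'', Submodule.mem_colon_singleton, Submodule.mem_bot]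
  obtain ⟨x, rfl⟩ := hg x''
  rw [Module.notMem_support_iff'] at hsupp
  have key : ∀ a : A, ∃ t : A, t ∉ p.asIdeal ∧ (a ∈ p.asIdeal → t • a • x = 0) := by
    intro a
    by_cases ha : a ∈ p.asIdeal
    · have h1 : g (a • x) = 0 := by rw [map_smul]; exact (hmem a).1 ha
      obtain ⟨y, hy⟩ := (hfg (a • x)).1 h1
      obtain ⟨t, ht, hty⟩ := hsupp y
      refine ⟨t, ht, fun _ => ?_⟩
      rw [← hy, ← map_smul, hty, map_zero]
    · exact ⟨1, fun h => hprime.ne_top ((Ideal.eq_top_iff_one _).2 h), fun h => absurd h ha⟩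
  choose t ht ht' using key
  obtain ⟨S, hS⟩ := (isNoetherianRing_iff_ideal_fg A).1 inferInstance p.asIdeal
  set s : A := ∏ a ∈ S, t a with hs
  have hsp : s ∉ p.asIdeal := by
    rw [hs, Ideal.IsPrime.prod_mem_iff]
    rintro ⟨a, _, ha⟩
    exact ht a ha
  have hkill : ∀ a ∈ S, s • a • x = 0 := by
    intro a ha
    obtain ⟨c, hc⟩ := Finset.dvd_prod_of_mem t ha
    have haP : a ∈ p.asIdeal := by rw [← hS]; exact Ideal.subset_span ha
    rw [← hs] at hc
    rw [hc, mul_comm, mul_smul, ht' a haP, smul_zero]
  change IsAssociatedPrime p.asIdeal M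
  rw [isAssociatedPrime_iff]
  refine ⟨hprime, s • x, ?_⟩
  apply le_antisymm
  · rw [← hS, Ideal.span_le]
    intro a ha
    rw [SetLike.mem_coe, Submodule.mem_colon_singleton, Submodule.mem_bot, smul_comm]
    exact hkill a ha
  · intro r hr
    rw [Submodule.mem_colon_singleton, Submodule.mem_bot] at hr
    have h1 : (r * s) • g x = 0 := by
      rw [mul_smul, ← map_smul, ← map_smul, hr, map_zero]
    have h2 : r * s ∈ p.asIdeal := (hmem _).2 h1
    exact (hprime.mem_or_mem h2).resolve_right hsp

end Groth.Agent.S14363
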