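import Groth.Statements.S14371
import Mathlib
import Groth.Agent.Lib.Helper15.Regular

set_option autoImplicit false
universe u
open CAlg

namespace Groth.Agent.S14371

/-- Let R be a regular local ring of dimension n with maximal ideal m and residue field κ, and I, J
ideals of R such that R/I and R/J are regular local rings of dimensions a and b (two subvarieties
smooth at the point). Suppose the quotient R/(I + J) is local with cotangent space m/(m² + I + J) of
dimension a + b − n over κ (the tangent spaces of the two subvarieties meet in the expected
dimension, i.e. they intersect transversally at the point). Then R/(I + J) is a regular local ring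
of dimension a + b − n; in particular I + J is a prime ideal. (The published statement is about the
local rings of a smooth variety over an algebraically closed field at a point where two smooth
closed subvarieties meet transversally, and also states the resulting equalities of tangent spaces
and of ideals; this row is the local-ring form, for an arbitrary regular local ring.) -/
theorem result {R : Type u} [CommRing R] [IsRegularLocalRing R]
    (I J : Ideal R) [IsRegularLocalRing (R ⧸ I)] [IsRegularLocalRing (R ⧸ J)] [IsLocalRing (R ⧸ (I ⊔ J))]
    (n a b : ℕ) (hn : ringKrullDim R = n) (ha : ringKrullDim (R ⧸ I) = a) (hb : ringKrullDim (R ⧸ J) = b)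
    (ht : Module.finrank (IsLocalRing.ResidueField (R ⧸ (I ⊔ J))) (IsLocalRing.CotangentSpace (R ⧸ (I ⊔ J))) + n = a + b) :
    IsRegularLocalRing (R ⧸ (I ⊔ J)) ∧ ringKrullDim (R ⧸ (I ⊔ J)) = ((a + b - n : ℕ) : WithBot ℕ∞) := by
  have toNat : ∀ (S : Type u) [CommRing S] [IsRegularLocalRing S] (k : ℕ),
      ringKrullDim S = k → (IsLocalRing.maximalIdeal S).spanFinrank = k := by
    intro S _ _ k hk
    have h1 := IsRegularLocalRing.spanFinrank_maximalIdeal (R := S)
    rw [hk] at h1
    exact_mod_cast h1
  have hn' := toNat R n hn
  have ha' := toNat (R ⧸ I) a ha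
  have hb' := toNat (R ⧸ J) b hb
  have ht' : (IsLocalRing.maximalIdeal (R ⧸ (I ⊔ J))).spanFinrank =
      Module.finrank (IsLocalRing.ResidueField (R ⧸ (I ⊔ J)))
        (IsLocalRing.CotangentSpace (R ⧸ (I ⊔ J))) :=
    IsLocalRing.spanFinrank_maximalIdeal_eq_finrank_cotangentSpace _
  obtain ⟨hreg, hdim⟩ := Groth.Agent.Lib.helper15.isRegularLocalRing_quotient_sup R I J
    (by rw [ht', hn', ha', hb']; exact ht)
  refine ⟨hreg, ?_⟩
  rw [← IsLocalRing.maximalIdeal_height_eq_ringKrullDim, ← hdim, ht']
  have : Module.finrank (IsLocalRing.ResidueField (R ⧸ (I ⊔ J)))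
      (IsLocalRing.CotangentSpace (R ⧸ (I ⊔ J))) = a + b - n := by omega
  rw [this]
  rfl

end Groth.Agent.S14371
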