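import Groth.Statements.S14372
import Mathlib
import Groth.Agent.Lib.Helper6.CommonZero
import Groth.Agent.S10897

set_option autoImplicit false
universe u
open Fano

namespace Groth.Agent.S14372

section helpers
open MvPolynomial

variable {k : Type u} [Field k]

theorem eval_aeval_mv {σ τ : Type*} (ℓ : σ → MvPolynomial τ k) (t : τ → k) (p : MvPolynomial σ k) :
    eval t (aeval ℓ p) = eval (fun i => eval t (ℓ i)) p := by
  have h : (eval t).comp (aeval ℓ : MvPolynomial σ k →ₐ[k] MvPolynomial τ k).toRingHom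
      = eval (fun i => eval t (ℓ i)) := by
    apply MvPolynomial.ringHom_ext
    · intro c
      simp
    · intro i
      simp
  exact RingHom.congr_fun h p

end helpers



/-- Over an algebraically closed field k of arbitrary characteristic, let f be a homogeneous form of
degree d ≥ 2 in n + 1 variables and U a linear subspace of k^(n+1) on which f vanishes, such that at
every nonzero vector of U some partial derivative of f does not vanish (the hypersurface f = 0 in
P^n contains the r-plane P(U), r + 1 = dim U, and is smooth at every point of it). Then 2 · dim U ≤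
n + 1, i.e. r ≤ (n − 1)/2. (The published statement assumes the hypersurface smooth everywhere; this
row assumes smoothness only along P(U).) -/
theorem result (k : Type u) [Field k] [IsAlgClosed k]
    (n d : ℕ) (hd : 2 ≤ d) (f : MvPolynomial (Fin (n + 1)) k) (hf : f.IsHomogeneous d)
    (U : Submodule k (Fin (n + 1) → k)) (hU : ∀ u ∈ U, MvPolynomial.eval u f = 0)
    (hsm : ∀ u ∈ U, u ≠ 0 → ∃ i : Fin (n + 1), MvPolynomial.eval u (MvPolynomial.pderiv i f) ≠ 0) :
    2 * Module.finrank k ↥U ≤ n + 1 := by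
  classical
  by_contra hcon
  rw [not_le] at hcon
  obtain ⟨s, hs⟩ : ∃ s, s = Module.finrank k ↥U := ⟨_, rfl⟩
  obtain ⟨U', hU'⟩ := Submodule.exists_isCompl U
  obtain ⟨m, hm⟩ : ∃ m, m = Module.finrank k ↥U' := ⟨_, rfl⟩
  have hsum : s + m = n + 1 := by
    have h1 := Submodule.finrank_add_eq_of_isCompl hU'
    rw [Module.finrank_fin_fun] at h1
    rw [hs, hm]; exact h1
  have hms : m < s := by omega
  obtain ⟨bU⟩ : Nonempty (Module.Basis (Fin s) k U) := ⟨Module.finBasisOfFinrankEq k U hs.symm⟩
  obtain ⟨bU'⟩ : Nonempty (Module.Basis (Fin m) k U') := ⟨Module.finBasisOfFinrankEq k U' hm.symm⟩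
  obtain ⟨ℓ, hℓ⟩ : ∃ ℓ : Fin (n + 1) → MvPolynomial (Fin s) k,
      ℓ = fun i => ∑ a, MvPolynomial.C (((bU a : U) : Fin (n + 1) → k) i) * MvPolynomial.X a :=
    ⟨_, rfl⟩
  obtain ⟨h, hh⟩ : ∃ h : Fin m → MvPolynomial (Fin s) k,
      h = fun b => ∑ i, MvPolynomial.C (((bU' b : U') : Fin (n + 1) → k) i) *
        MvPolynomial.aeval ℓ (MvPolynomial.pderiv i f) := ⟨_, rfl⟩
  have hevalℓ : ∀ (t : Fin s → k) (i : Fin (n + 1)),
      MvPolynomial.eval t (ℓ i) = ((bU.equivFun.symm t : U) : Fin (n + 1) → k) i := by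
    intro t i
    rw [hℓ, Module.Basis.equivFun_symm_apply]
    simp only [map_sum, map_mul, MvPolynomial.eval_C, MvPolynomial.eval_X, Submodule.coe_sum,
      Submodule.coe_smul, Finset.sum_apply, Pi.smul_apply, smul_eq_mul]
    apply Finset.sum_congr rfl
    intro a _
    ring
  have hevalh : ∀ (t : Fin s → k) (b : Fin m), MvPolynomial.eval t (h b) =
      ∑ i, ((bU' b : U') : Fin (n + 1) → k) i *
        MvPolynomial.eval ((bU.equivFun.symm t : U) : Fin (n + 1) → k) (MvPolynomial.pderiv i f) := by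
    intro t b
    have hfun : (fun j => MvPolynomial.eval t (ℓ j)) = ((bU.equivFun.symm t : U) : Fin (n + 1) → k) :=
      funext (hevalℓ t)
    rw [hh]
    simp only [map_sum, map_mul, MvPolynomial.eval_C]
    apply Finset.sum_congr rfl
    intro i _
    rw [eval_aeval_mv, hfun]
  have hpd0 : ∀ i, MvPolynomial.eval (0 : Fin (n + 1) → k) (MvPolynomial.pderiv i f) = 0 := by
    intro i
    have hhom : (MvPolynomial.pderiv i f).IsHomogeneous (d - 1) := hf.pderiv
    rw [MvPolynomial.eval_zero, MvPolynomial.constantCoeff_eq]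
    apply hhom.coeff_eq_zero
    rw [map_zero]
    omega
  obtain ⟨t, ht0, htz⟩ := Groth.Agent.Lib.Helper6.CommonZero.exists_common_zero s
    (Finset.univ.image h)
    (lt_of_le_of_lt (Finset.card_image_le.trans (by simp)) hms)
    (by
      intro g hg
      obtain ⟨b, -, rfl⟩ := Finset.mem_image.mp hg
      rw [hevalh, map_zero]
      simp only [ZeroMemClass.coe_zero, hpd0, mul_zero, Finset.sum_const_zero])
  obtain ⟨uU, huU⟩ : ∃ uU : U, uU = bU.equivFun.symm t := ⟨_, rfl⟩
  have huU0 : (uU : Fin (n + 1) → k) ≠ 0 := by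
    intro h0
    apply ht0
    have h1 : uU = 0 := Subtype.ext h0
    rw [huU] at h1
    exact (LinearEquiv.map_eq_zero_iff _).mp h1
  obtain ⟨i₀, hi₀⟩ := hsm uU uU.2 huU0
  obtain ⟨L, hL⟩ : ∃ L : (Fin (n + 1) → k) →ₗ[k] k, ∀ w, L w =
      ∑ i, w i * MvPolynomial.eval (uU : Fin (n + 1) → k) (MvPolynomial.pderiv i f) := by
    refine ⟨∑ i, (MvPolynomial.eval (uU : Fin (n + 1) → k) (MvPolynomial.pderiv i f)) •
      LinearMap.proj i, fun w => ?_⟩
    simp only [LinearMap.sum_apply, LinearMap.smul_apply, LinearMap.proj_apply, smul_eq_mul]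
    apply Finset.sum_congr rfl
    intro i _
    ring
  have hLU : ∀ w ∈ U, L w = 0 := by
    intro w hw
    rw [hL]
    have h1 := Groth.Agent.S10897.deriv_line f (uU : Fin (n + 1) → k) w
      (fun c => hU _ (U.add_mem uU.2 (U.smul_mem c hw)))
    rw [← h1]
    apply Finset.sum_congr rfl
    intro i _
    ring
  have hLU' : ∀ w ∈ U', L w = 0 := by
    have hcomp : L ∘ₗ U'.subtype = 0 := by
      apply bU'.ext
      intro b
      rw [LinearMap.comp_apply, Submodule.subtype_apply, hL, LinearMap.zero_apply]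
      have h1 := htz (h b) (Finset.mem_image_of_mem _ (Finset.mem_univ b))
      rw [hevalh, ← huU] at h1
      exact h1
    intro w hw
    exact LinearMap.congr_fun hcomp ⟨w, hw⟩
  have hL0 : ∀ w, L w = 0 := by
    intro w
    have hw : w ∈ U ⊔ U' := by rw [hU'.sup_eq_top]; exact Submodule.mem_top
    obtain ⟨a, ha, b, hb, rfl⟩ := Submodule.mem_sup.mp hw
    rw [map_add, hLU a ha, hLU' b hb, add_zero]
  apply hi₀
  have h1 := hL0 (Pi.single i₀ 1)
  rw [hL] at h1
  rw [← h1, Finset.sum_eq_single i₀]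
  · simp
  · intro j _ hj
    simp [Pi.single_apply, hj]
  · intro h; exact absurd (Finset.mem_univ _) h


end Groth.Agent.S14372
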