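import Groth.Statements.S14373
import Mathlib
import Groth.Agent.Lib.Helper6.GenPlane1
import Groth.Agent.Lib.Helper6.ProjElim
import Groth.Agent.Lib.Helper6.SmoothEx
import Groth.Agent.Lib.Helper6.LinPull

set_option autoImplicit false
universe u
open Fano

namespace Groth.Agent.S14373


open MvPolynomial
open Groth.Agent.Lib.Helper6
open Groth.Agent.Lib.Helper6.GenPlane (PolyFam polyFam_sum polyFam_mul polyFam_coord polyFam_const
  polyFam_congr)
open Groth.Agent.Lib.Helper6.SmoothEx (IsSmoothForm exists_smooth_form)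
open Groth.Agent.Lib.Helper6.LinPull

/-- polynomials in the coordinates with respect to a basis are polynomial functions -/
theorem isPolyFun_eval_repr {k : Type u} [Field k] {V : Type u} [AddCommGroup V] [Module k V]
    {m : ℕ} (B : Module.Basis (Fin m) k V) (h : MvPolynomial (Fin m) k) :
    LefPen.IsPolyFun k (fun v : V => eval (fun l => B.repr v l) h) := by
  unfold LefPen.IsPolyFun
  induction h using MvPolynomial.induction_on with
  | C a =>
    have e : (fun v : V => eval (fun l => B.repr v l) (C a)) = algebraMap k (V → k) a := by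
      funext v
      simp
    rw [e]
    exact Subalgebra.algebraMap_mem _ _
  | add p q hp hq =>
    have e : (fun v : V => eval (fun l => B.repr v l) (p + q))
        = (fun v : V => eval (fun l => B.repr v l) p)
          + (fun v : V => eval (fun l => B.repr v l) q) := by
      funext v
      simp
    rw [e]
    exact Subalgebra.add_mem _ hp hq
  | mul_X p l hp =>
    have e : (fun v : V => eval (fun l => B.repr v l) (p * X l))
        = (fun v : V => eval (fun l => B.repr v l) p) * (fun v : V => B.repr v l) := by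
      funext v
      simp
    rw [e]
    apply Subalgebra.mul_mem _ hp
    apply Algebra.subset_adjoin
    exact ⟨B.coord l, rfl⟩

/-- there is a smooth form of degree `d` vanishing on any subspace `U` with `2 dim U ≤ n + 1` -/
theorem exists_smooth_vanishing (k : Type u) [Field k] [IsAlgClosed k] (n d : ℕ) (hd : 2 ≤ d)
    (U : Submodule k (Fin (n + 1) → k)) (hU : 2 * Module.finrank k ↥U ≤ n + 1) :
    ∃ G : MvPolynomial (Fin (n + 1)) k, G.IsHomogeneous d ∧ IsSmoothForm k G ∧
      ∀ x ∈ U, eval x G = 0 := by
  have hinf : Infinite k := inferInstance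
  obtain ⟨Gex, hGhom, hGsm, hGvan⟩ := exists_smooth_form k n d hd
  obtain ⟨u, hu⟩ : ∃ u, Module.finrank k ↥U = u := ⟨_, rfl⟩
  have hu2 : 2 * u ≤ n + 1 := hu ▸ hU
  have hidx : ∀ i : Fin u, 2 * i.val < n + 1 := fun i => by
    have := i.2
    omega
  have hli : LinearIndependent k (fun i : Fin u =>
      (Pi.single (⟨2 * i.val, hidx i⟩ : Fin (n + 1)) (1 : k) : Fin (n + 1) → k)) := by
    have h1 := (Pi.basisFun k (Fin (n + 1))).linearIndependent.comp
      (fun i : Fin u => (⟨2 * i.val, hidx i⟩ : Fin (n + 1))) (by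
        intro a b hab
        have h2 := congrArg Fin.val hab
        simp only at h2
        exact Fin.ext (by omega))
    have e : (⇑(Pi.basisFun k (Fin (n + 1))) ∘ fun i : Fin u => (⟨2 * i.val, hidx i⟩ : Fin (n + 1)))
        = fun i : Fin u =>
          (Pi.single (⟨2 * i.val, hidx i⟩ : Fin (n + 1)) (1 : k) : Fin (n + 1) → k) := by
      funext i
      simp only [Function.comp_apply, Pi.basisFun_apply]
    rw [e] at h1
    exact h1
  have hspan := finrank_span_eq_card hli
  rw [Fintype.card_fin] at hspan
  obtain ⟨g, hg⟩ := exists_move U _ (hu.trans hspan.symm)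
  have hvan : ∀ x ∈ Submodule.span k (Set.range fun i : Fin u =>
      (Pi.single (⟨2 * i.val, hidx i⟩ : Fin (n + 1)) (1 : k) : Fin (n + 1) → k)),
      eval x Gex = 0 := by
    intro x hx
    have hcoord : ∀ j : Fin (n + 1), (∀ i : Fin u, j ≠ (⟨2 * i.val, hidx i⟩ : Fin (n + 1))) →
        x j = 0 := by
      intro j hj
      have hle : Submodule.span k (Set.range fun i : Fin u =>
          (Pi.single (⟨2 * i.val, hidx i⟩ : Fin (n + 1)) (1 : k) : Fin (n + 1) → k))
          ≤ LinearMap.ker (LinearMap.proj j : (Fin (n + 1) → k) →ₗ[k] k) := by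
        rw [Submodule.span_le]
        rintro _ ⟨i, rfl⟩
        show (Pi.single (⟨2 * i.val, hidx i⟩ : Fin (n + 1)) (1 : k) : Fin (n + 1) → k)
          ∈ (LinearMap.ker (LinearMap.proj j : (Fin (n + 1) → k) →ₗ[k] k) : Set _)
        rw [SetLike.mem_coe, LinearMap.mem_ker, LinearMap.proj_apply, Pi.single_apply,
          if_neg (hj i)]
      exact LinearMap.mem_ker.mp (hle hx)
    apply hGvan
    · intro j hj
      apply hcoord
      intro i h
      have h2 := congrArg Fin.val h
      simp only at h2
      omega
    · intro j hj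
      apply hcoord
      intro i h
      have h2 := congrArg Fin.val h
      simp only at h2
      have := i.2
      omega
  refine ⟨pull g.toLinearMap Gex, pull_homog _ hGhom, smooth_pull g hGsm, ?_⟩
  intro x hx
  rw [eval_pull]
  exact hvan _ (hg x hx)

/-- smoothness is generic in a linear system of forms as soon as one member is smooth -/
theorem generic_smooth {k : Type u} [Field k] [IsAlgClosed k] {n d : ℕ} {V : Type u}
    [AddCommGroup V] [Module k V] {m : ℕ} (B : Module.Basis (Fin m) k V)
    (φ : V →ₗ[k] MvPolynomial (Fin (n + 1)) k) (hφ : ∀ x, (φ x).IsHomogeneous d) (x₀ : V)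
    (h0 : IsSmoothForm k (φ x₀)) :
    LefPen.IsGeneric k {x : V | ∀ v : Fin (n + 1) → k, v ≠ 0 → eval v (φ x) = 0 →
      ∃ i : Fin (n + 1), eval v (pderiv i (φ x)) ≠ 0} := by
  obtain ⟨Gc, hGc⟩ : ∃ Gc : (Fin m → k) → MvPolynomial (Fin (n + 1)) k,
      ∀ c, Gc c = ∑ l, C (c l) * φ (B l) := ⟨_, fun _ => rfl⟩
  have hrepr : ∀ x : V, φ x = Gc (fun l => B.repr x l) := by
    intro x
    have h1 := congrArg φ (B.sum_repr x)
    rw [map_sum] at h1
    rw [hGc, ← h1]
    refine Finset.sum_congr rfl fun l _ => ?_
    rw [map_smul, MvPolynomial.smul_eq_C_mul]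
  have hGchom : ∀ c, (Gc c).IsHomogeneous d := by
    intro c
    rw [hGc]
    apply IsHomogeneous.sum
    intro l _
    exact (hφ (B l)).C_mul _
  obtain ⟨h, hh0, hh⟩ := ProjElim.projElim (k := k) (Y := Fin m) (τ := Fin (n + 1))
    (ι := Option (Fin (n + 1)))
    (fun c j => j.elim (Gc c) (fun i => pderiv i (Gc c)))
    (fun j => j.elim d (fun _ => d - 1))
    (by
      intro j
      cases j with
      | none =>
        show PolyFam (fun c => Gc c)
        exact polyFam_congr (polyFam_sum Finset.univ
          (fun (l : Fin m) (c : Fin m → k) => C (c l) * φ (B l))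
          (fun l _ => polyFam_mul (polyFam_coord l) (polyFam_const _)))
          (fun c => (hGc c).symm)
      | some i =>
        show PolyFam (fun c => pderiv i (Gc c))
        refine polyFam_congr (polyFam_sum Finset.univ
          (fun (l : Fin m) (c : Fin m → k) => C (c l) * pderiv i (φ (B l)))
          (fun l _ => polyFam_mul (polyFam_coord l) (polyFam_const _)))
          (fun c => ?_)
        rw [hGc, map_sum]
        exact Finset.sum_congr rfl fun l _ => (pderiv_C_mul).symm)
    (by
      intro c j
      cases j with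
      | none => exact hGchom c
      | some i => exact (hGchom c).pderiv)
    (fun l => B.repr x₀ l)
    (by
      intro v hv
      have e := hrepr x₀
      apply h0 v
      · have h1 := hv none
        change eval v (Gc _) = 0 at h1
        rw [← e] at h1
        exact h1
      · intro i
        have h1 := hv (some i)
        change eval v (pderiv i (Gc _)) = 0 at h1
        rw [← e] at h1
        exact h1)
  refine ⟨fun x : V => eval (fun l => B.repr x l) h, isPolyFun_eval_repr B h, ⟨x₀, hh0⟩, ?_⟩
  intro x hfx
  show ∀ v : Fin (n + 1) → k, v ≠ 0 → eval v (φ x) = 0 →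
    ∃ i : Fin (n + 1), eval v (pderiv i (φ x)) ≠ 0
  intro v hv0 hvG
  by_contra hcon
  push Not at hcon
  apply hv0
  apply hh _ hfx v
  intro j
  cases j with
  | none =>
    show eval v (Gc _) = 0
    rw [← hrepr]
    exact hvG
  | some i =>
    show eval v (pderiv i (Gc _)) = 0
    rw [← hrepr]
    exact hcon i


/-- Over an algebraically closed field k of arbitrary characteristic, let d ≥ 2 and let U be a linear
subspace of k^(n+1) with 2 · dim U ≤ n + 1 (an r-plane P(U) in P^n with r ≤ (n − 1)/2). Let W be the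
linear space of degree-d forms in n + 1 variables vanishing on U (hypersurfaces of degree d
containing P(U)). Then a general member G of W defines a smooth hypersurface: for G outside the zero
set of some nonzero polynomial function on W, at every nonzero vector where G vanishes some partial
derivative of G is nonzero. -/
theorem result (k : Type u) [Field k] [IsAlgClosed k]
    (n d : ℕ) (hd : 2 ≤ d) (U : Submodule k (Fin (n + 1) → k)) (hU : 2 * Module.finrank k ↥U ≤ n + 1)
    (W : Submodule k (LefPen.Form n k d)) (hW : ∀ G : LefPen.Form n k d, G ∈ W ↔ ∀ u ∈ U, MvPolynomial.eval u G.1 = 0) :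
    LefPen.IsGeneric k {G : ↥W | ∀ v : Fin (n + 1) → k, v ≠ 0 → MvPolynomial.eval v G.1.1 = 0 →
      ∃ i : Fin (n + 1), MvPolynomial.eval v (MvPolynomial.pderiv i G.1.1) ≠ 0} := by
  obtain ⟨G0, hG0hom, hG0sm, hG0van⟩ := exists_smooth_vanishing k n d hd U hU
  have hG0W : (⟨G0, hG0hom⟩ : LefPen.Form n k d) ∈ W := by
    rw [hW]
    intro x hx
    exact hG0van x hx
  obtain ⟨m, hm⟩ : ∃ m, Module.finrank k ↥W = m := ⟨_, rfl⟩
  have hfree : Module.Free k ↥W := Module.Free.of_divisionRing k ↥W
  obtain ⟨B⟩ : Nonempty (Module.Basis (Fin m) k ↥W) := ⟨Module.finBasisOfFinrankEq k ↥W hm⟩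
  obtain ⟨φ, hφdef⟩ : ∃ φ : ↥W →ₗ[k] MvPolynomial (Fin (n + 1)) k, ∀ x : ↥W, φ x = x.1.1 :=
    ⟨((homogeneousSubmodule (Fin (n + 1)) k d).subtype).comp W.subtype, fun _ => rfl⟩
  have hφ : ∀ x : ↥W, (φ x).IsHomogeneous d := fun x => by
    rw [hφdef]
    exact (mem_homogeneousSubmodule d x.1.1).mp x.1.2
  have h0 : IsSmoothForm k (φ ⟨⟨G0, hG0hom⟩, hG0W⟩) := by
    rw [hφdef]
    exact hG0sm
  have key := generic_smooth (V := ↥W) (d := d) B φ hφ ⟨⟨G0, hG0hom⟩, hG0W⟩ h0
  simp only [hφdef] at key
  exact key


end Groth.Agent.S14373
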