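import Groth.Statements.S14375
import Mathlib
import Groth.Agent.Lib.Helper3.IrrCover
import Groth.Agent.S2500

set_option autoImplicit false
universe u
open CategoryTheory CategoryTheory.Limits AlgebraicGeometry
open Variety

namespace Groth.Agent.S14375

/-- Let k be an algebraically closed field, F an irreducible scheme of finite type over k, and f : X → Y
a k-morphism of schemes of finite type over k with Y irreducible which is locally trivial with fibre
F: every point of Y has an open neighbourhood V such that f⁻¹(V) is isomorphic over V to V ×_k F.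
Then X is irreducible. (The published statement is for varieties, i.e. reduced separated schemes;
this row assumes neither.) -/
theorem result (k : Type u) [Field k] [IsAlgClosed k]
    {X Y F : Scheme.{u}} (qX : X ⟶ Spec (CommRingCat.of k)) (qY : Y ⟶ Spec (CommRingCat.of k))
    (qF : F ⟶ Spec (CommRingCat.of k))
    [LocallyOfFiniteType qX] [QuasiCompact qX] [LocallyOfFiniteType qY] [QuasiCompact qY]
    [LocallyOfFiniteType qF] [QuasiCompact qF] [IrreducibleSpace ↥F] [IrreducibleSpace ↥Y]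
    (f : X ⟶ Y) (hf : f ≫ qY = qX)
    (htriv : ∀ y : ↥Y, ∃ V : Y.Opens, y ∈ V ∧
      ∃ e : (↑(f ⁻¹ᵁ V) : Scheme.{u}) ≅ pullback (V.ι ≫ qY) qF, e.hom ≫ pullback.fst (V.ι ≫ qY) qF = f ∣_ V) :
    IrreducibleSpace ↥X := by
  classical
  have hgF : GeometricallyIrreducible qF := Groth.Agent.S2500.result qF
  have huF : UniversallyOpen qF := inferInstance
  have hsF : Surjective qF := by
    refine ⟨fun y => ?_⟩
    obtain ⟨x⟩ := (inferInstance : Nonempty ↥F)
    exact ⟨x, Subsingleton.elim (α := PrimeSpectrum k) _ _⟩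
  choose V hyV e he using htriv
  have hneY : Nonempty ↥Y := inferInstance
  -- each `f ⁻¹ᵁ V y` is irreducible
  have hVirr : ∀ y, IrreducibleSpace ↥(V y) := by
    intro y
    have h1 : IsIrreducible ((V y : Set ↥Y)) :=
      ⟨⟨y, hyV y⟩, ((IrreducibleSpace.isIrreducible_univ ↥Y).isPreirreducible.open_subset
        (V y).2 (Set.subset_univ _))⟩
    exact isIrreducible_iff_irreducibleSpace.mp h1
  have hirr : ∀ y, IsIrreducible ((f ⁻¹ᵁ V y : X.Opens) : Set ↥X) := by
    intro y
    have h0 : IrreducibleSpace ↥((V y : Y.Opens) : Scheme.{u}) := hVirr y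
    have h1 : IrreducibleSpace ↥(pullback ((V y).ι ≫ qY) qF) := inferInstance
    have h2 : IrreducibleSpace ↥((f ⁻¹ᵁ V y : X.Opens) : Scheme.{u}) :=
      (e y).hom.homeomorph.irreducibleSpace_iff.mpr h1
    exact isIrreducible_iff_irreducibleSpace.mpr h2
  -- surjectivity of `f` over `V y`
  have hsurj : ∀ y, ∀ v : ↥Y, v ∈ V y → ∃ x : ↥X, f x = v := by
    intro y v hv
    have hs1 : Surjective (pullback.fst ((V y).ι ≫ qY) qF) :=
      MorphismProperty.pullback_fst (P := @Surjective) _ _ hsF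
    obtain ⟨z, hz⟩ := Scheme.Hom.surjective (pullback.fst ((V y).ι ≫ qY) qF) ⟨v, hv⟩
    let x' := (e y).inv z
    have hx' : (f ∣_ V y) x' = ⟨v, hv⟩ := by
      rw [← he y, ← hz]
      simp only [x', ← Scheme.Hom.comp_apply]
      rw [Iso.inv_hom_id_assoc]
    refine ⟨((f ⁻¹ᵁ V y).ι) x', ?_⟩
    have h3 := congrArg (fun φ : ((f ⁻¹ᵁ V y : X.Opens) : Scheme.{u}) ⟶ Y => φ x')
      (morphismRestrict_ι f (V y))
    simp only [Scheme.Hom.comp_apply] at h3
    rw [← h3, hx']
    rfl
  refine Groth.Agent.Lib.helper3.IrrCover.irreducibleSpace_of_cover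
    (fun y : ↥Y => ((f ⁻¹ᵁ V y : X.Opens) : Set ↥X)) (fun y => (f ⁻¹ᵁ V y).2) hirr ?_ ?_
  · intro x
    exact ⟨f x, hyV (f x)⟩
  · intro y y'
    obtain ⟨v, -, hv1, hv2⟩ := (IrreducibleSpace.isIrreducible_univ ↥Y).isPreirreducible
      (V y : Set ↥Y) (V y' : Set ↥Y) (V y).2 (V y').2 ⟨y, trivial, hyV y⟩ ⟨y', trivial, hyV y'⟩
    obtain ⟨x, rfl⟩ := hsurj y v hv1
    exact ⟨x, hv1, hv2⟩

end Groth.Agent.S14375
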