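import Groth.Statements.S14384
-- import your own Groth.Agent.* helpers here

set_option autoImplicit false
universe u
open CAlg

namespace Groth.Agent.S14384

/-- Let V be a discrete valuation ring of characteristic zero with uniformizer ϖ, whose residue field is
perfect of characteristic p > 0, let R be a V-algebra of finite type, x'_1, …, x'_d elements of R
defining a morphism f' from Spec R to affine d-space over V, and n ≥ 0 such that p^n Ω_{f'} vanishes
along the closed fibre, written inside Ω_{R/V} as p^n Ω_{R/V} ⊆ ϖ p^n Ω_{R/V} + Σ_i R dx'_i. If y_1,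
…, y_d lie in the subring of R generated by the p^(n+1)-th powers of elements of R, then the
morphism f = f' + (y_1, …, y_d) has the same property: p^n Ω_{R/V} ⊆ ϖ p^n Ω_{R/V} + Σ_i R d(x'_i +
y_i). -/
theorem result (V : Type u) [CommRing V] [IsDomain V] [IsDiscreteValuationRing V] [CharZero V]
    (ϖ : V) (hϖ : Irreducible ϖ) (p : ℕ) [Fact p.Prime] [CharP (IsLocalRing.ResidueField V) p]
    [PerfectField (IsLocalRing.ResidueField V)]
    (R : Type u) [CommRing R] [Algebra V R] [Algebra.FiniteType V R] (d n : ℕ) (x' : Fin d → R)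
    (hx' : Ideal.span {((p : R)) ^ n} • (⊤ : Submodule R (Ω[R⁄V])) ≤
      Ideal.span {algebraMap V R ϖ * (p : R) ^ n} • (⊤ : Submodule R (Ω[R⁄V])) ⊔
        Submodule.span R (Set.range fun i => KaehlerDifferential.D V R (x' i)))
    (y : Fin d → R) (hy : ∀ i, y i ∈ Subring.closure (Set.range fun r : R => r ^ (p ^ (n + 1)))) :
    Ideal.span {((p : R)) ^ n} • (⊤ : Submodule R (Ω[R⁄V])) ≤
      Ideal.span {algebraMap V R ϖ * (p : R) ^ n} • (⊤ : Submodule R (Ω[R⁄V])) ⊔
        Submodule.span R (Set.range fun i => KaehlerDifferential.D V R (x' i + y i)) := by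
  classical
  -- p ∈ (ϖ)
  have hpm : (p : V) ∈ IsLocalRing.maximalIdeal V := by
    rw [← IsLocalRing.residue_eq_zero_iff]
    rw [map_natCast]
    exact CharP.cast_eq_zero _ p
  have hmax : IsLocalRing.maximalIdeal V = Ideal.span {ϖ} :=
    ((IsDiscreteValuationRing.irreducible_iff_uniformizer ϖ).mp hϖ)
  rw [hmax, Ideal.mem_span_singleton] at hpm
  obtain ⟨v, hv⟩ := hpm
  -- the submodule p^(n+1) Ω
  set N : Submodule R (Ω[R⁄V]) :=
    Ideal.span {((p : R)) ^ (n + 1)} • (⊤ : Submodule R (Ω[R⁄V])) with hN
  set T : Submodule R (Ω[R⁄V]) :=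
    Ideal.span {algebraMap V R ϖ * (p : R) ^ n} • (⊤ : Submodule R (Ω[R⁄V])) with hT
  have hNT : N ≤ T := by
    rw [hN, hT]
    refine Submodule.smul_mono_left ?_
    rw [Ideal.span_singleton_le_span_singleton]
    refine ⟨algebraMap V R v, ?_⟩
    have h1 : (p : R) = algebraMap V R ϖ * algebraMap V R v := by
      rw [← map_mul, ← hv, map_natCast]
    rw [pow_succ]
    nth_rewrite 2 [h1]
    ring
  have hD : ∀ z ∈ Subring.closure (Set.range fun r : R => r ^ (p ^ (n + 1))),
      KaehlerDifferential.D V R z ∈ N := by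
    intro z hz
    induction hz using Subring.closure_induction with
    | mem a ha =>
      obtain ⟨r, rfl⟩ := ha
      rw [Derivation.leibniz_pow]
      rw [hN]
      have h2 : (p ^ (n + 1)) • r ^ (p ^ (n + 1) - 1) • KaehlerDifferential.D V R r
          = ((p : R) ^ (n + 1)) • (r ^ (p ^ (n + 1) - 1) • KaehlerDifferential.D V R r) := by
        rw [← Nat.cast_pow, Nat.cast_smul_eq_nsmul]
      rw [h2]
      exact Submodule.smul_mem_smul (Ideal.subset_span rfl) Submodule.mem_top
    | zero => rw [map_zero]; exact N.zero_mem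
    | one => rw [Derivation.map_one_eq_zero]; exact N.zero_mem
    | add a b _ _ ha hb => rw [map_add]; exact N.add_mem ha hb
    | neg a _ ha => rw [map_neg]; exact N.neg_mem ha
    | mul a b _ _ ha hb =>
      rw [Derivation.leibniz]
      exact N.add_mem (N.smul_mem _ hb) (N.smul_mem _ ha)
  refine hx'.trans ?_
  refine sup_le le_sup_left ?_
  rw [Submodule.span_le]
  rintro _ ⟨i, rfl⟩
  have h3 : KaehlerDifferential.D V R (x' i)
      = - KaehlerDifferential.D V R (y i) + KaehlerDifferential.D V R (x' i + y i) := by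
    rw [map_add]; abel
  change KaehlerDifferential.D V R (x' i) ∈ _
  rw [h3]
  refine Submodule.add_mem_sup ?_ ?_
  · exact T.neg_mem (hNT (hD _ (hy i)))
  · exact Submodule.subset_span ⟨i, rfl⟩

end Groth.Agent.S14384
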