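import Groth.Statements.S14388
import Groth.Agent.Lib.Helper27.DerivedTrunc
-- import your own Groth.Agent.* helpers here

set_option autoImplicit false
open CategoryTheory CategoryTheory.Limits
universe w v u
open CohDer

namespace Groth.Agent.S14388

section helpers

open DerivedCategory Pretriangulated Groth.Agent.Lib.helper27

variable {A : Type u} [Category.{v} A] [Abelian A] [HasDerivedCategory.{w} A]

theorem exact3_clean {X₁ X₂ X₃ W : DerivedCategory A} (i : X₁ ⟶ X₂) (p : X₂ ⟶ X₃) (d : X₃ ⟶ X₁⟦(1 : ℤ)⟧)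
    (hT : Triangle.mk i p d ∈ distTriang _) (h : X₃ ⟶ W) (hh : p ≫ h = 0) :
    ∃ g : X₁⟦(1 : ℤ)⟧ ⟶ W, h = d ≫ g :=
  Triangle.yoneda_exact₃ _ hT h hh

theorem coexact1_clean {X₁ X₂ X₃ W : DerivedCategory A} (i : X₁ ⟶ X₂) (p : X₂ ⟶ X₃) (d : X₃ ⟶ X₁⟦(1 : ℤ)⟧)
    (hT : Triangle.mk i p d ∈ distTriang _) (h : W ⟶ X₁⟦(1 : ℤ)⟧) (hh : h ≫ i⟦(1 : ℤ)⟧' = 0) :
    ∃ g : W ⟶ X₃, h = g ≫ d :=
  Triangle.coyoneda_exact₁ _ hT h hh

theorem mono_H_mor₁ {X₁ X₂ X₃ : DerivedCategory A} (i : X₁ ⟶ X₂) (p : X₂ ⟶ X₃) (d : X₃ ⟶ X₁⟦(1 : ℤ)⟧)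
    (hT : Triangle.mk i p d ∈ distTriang _) (n : ℤ) (h : IsZero ((homologyFunctor A (n - 1)).obj X₃)) :
    Mono ((homologyFunctor A n).map i) :=
  (HomologySequence.mono_homologyMap_mor₁_iff _ hT (n - 1) n (by lia)).2 (h.eq_of_src _ _)

theorem epi_H_mor₂ {X₁ X₂ X₃ : DerivedCategory A} (i : X₁ ⟶ X₂) (p : X₂ ⟶ X₃) (d : X₃ ⟶ X₁⟦(1 : ℤ)⟧)
    (hT : Triangle.mk i p d ∈ distTriang _) (n : ℤ) (h : IsZero ((homologyFunctor A (n + 1)).obj X₁)) :
    Epi ((homologyFunctor A n).map p) :=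
  (HomologySequence.epi_homologyMap_mor₂_iff _ hT n (n + 1) rfl).2 (h.eq_of_tgt _ _)

/-- abstract uniqueness/existence lemma -/
theorem existsUnique_aux {N M P N' M' P' : DerivedCategory A}
    (b : N ⟶ M) (a : M ⟶ P) (δ : P ⟶ N⟦(1 : ℤ)⟧) (hT : Triangle.mk b a δ ∈ distTriang _)
    (b' : N' ⟶ M') (a' : M' ⟶ P') (δ' : P' ⟶ N'⟦(1 : ℤ)⟧) (hT' : Triangle.mk b' a' δ' ∈ distTriang _)
    (q : ℤ) [M.IsLE q] [P'.IsGE q] [N.IsLE (q - 1)] [N'.IsGE (q - 1)]
    (F : M ⟶ M') (h₁ : (homologyFunctor A (q - 1)).map F = 0) (h₂ : (homologyFunctor A q).map F = 0) :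
    ∃! L : P ⟶ N', F = a ≫ L ≫ b' := by
  let t := TStructure.t (C := A)
  -- injectivity statements
  have inj_b' : ∀ G : M ⟶ N', G ≫ b' = 0 → G = 0 := by
    intro G hG
    have h : G⟦(1 : ℤ)⟧' ≫ b'⟦(1 : ℤ)⟧' = 0 := by rw [← Functor.map_comp, hG, Functor.map_zero]
    obtain ⟨g, hg⟩ := coexact1_clean b' a' δ' hT' _ h
    have : t.IsLE (M⟦(1 : ℤ)⟧) (q - 1) := t.isLE_shift M q 1 (q - 1)
    have hg0 : g = 0 := t.zero g (q - 1) q
    apply (shiftFunctor (DerivedCategory A) (1 : ℤ)).map_injective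
    rw [hg, hg0, zero_comp, Functor.map_zero]
  have inj_a : ∀ G : P ⟶ N', a ≫ G = 0 → G = 0 := by
    intro G hG
    obtain ⟨g, hg⟩ := exact3_clean b a δ hT G hG
    have : t.IsLE (N⟦(1 : ℤ)⟧) (q - 2) := t.isLE_shift N (q - 1) 1 (q - 2)
    have hg0 : g = 0 := t.zero g (q - 2) (q - 1)
    rw [hg, hg0, comp_zero]
  -- existence
  have step1 : F ≫ a' = 0 := by
    apply ghost_zero q
    rw [Functor.map_comp, h₂, zero_comp]
  obtain ⟨F₁, hF₁⟩ := coyoneda_clean b' a' δ' hT' F step1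
  have hmono : Mono ((homologyFunctor A (q - 1)).map b') :=
    mono_H_mor₁ b' a' δ' hT' (q - 1) (isZero_of_isGE P' q (q - 1 - 1) (by lia))
  have hF₁H : (homologyFunctor A (q - 1)).map F₁ = 0 := by
    rw [← cancel_mono ((homologyFunctor A (q - 1)).map b'), zero_comp, ← Functor.map_comp, ← hF₁, h₁]
  have step2 : b ≫ F₁ = 0 := by
    apply ghost_zero (q - 1)
    rw [Functor.map_comp, hF₁H, comp_zero]
  obtain ⟨L, hL⟩ := yoneda_clean b a δ hT F₁ step2
  refine ⟨L, by rw [hF₁, hL, Category.assoc], ?_⟩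
  intro L' hL'
  have h3 : a ≫ (L' - L) = 0 := by
    apply inj_b'
    rw [Category.assoc, Preadditive.sub_comp, Preadditive.comp_sub, ← hL', hF₁, hL, Category.assoc,
      sub_self]
  exact sub_eq_zero.1 (inj_a _ h3)


theorem H_truncGELT_map_eq_zero {K K' : DerivedCategory A} (f : K ⟶ K') (n m i : ℤ) (hi1 : n ≤ i) (hi2 : i < m)
    (hf : (homologyFunctor A i).map f = 0) :
    (homologyFunctor A i).map (((TStructure.t (C := A)).truncGELT n m).map f) = 0 := by
  let t := TStructure.t (C := A)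
  -- step 1: truncLT
  have hg : (homologyFunctor A i).map ((t.truncLT m).map f) = 0 := by
    have hT' := t.triangleLTGE_distinguished m K'
    have h3 : ((t.truncGE m).obj K').IsGE m := inferInstanceAs (t.IsGE ((t.truncGE m).obj K') m)
    have hmono : Mono ((homologyFunctor A i).map ((t.truncLTι m).app K')) :=
      mono_H_mor₁ ((t.truncLTι m).app K') ((t.truncGEπ m).app K') _ hT' i
        (isZero_of_isGE _ m (i - 1) (by lia))
    have nat : (t.truncLT m).map f ≫ (t.truncLTι m).app K' = (t.truncLTι m).app K ≫ f :=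
      (t.truncLTι m).naturality f
    rw [← cancel_mono ((homologyFunctor A i).map ((t.truncLTι m).app K')), zero_comp,
      ← Functor.map_comp, nat, Functor.map_comp, hf, comp_zero]
  -- step 2: truncGE
  have hT := t.triangleLTGE_distinguished n ((t.truncLT m).obj K)
  have h1 : ((t.truncLT n).obj ((t.truncLT m).obj K)).IsLE (n - 1) :=
    inferInstanceAs (t.IsLE ((t.truncLT n).obj ((t.truncLT m).obj K)) (n - 1))
  have hepi : Epi ((homologyFunctor A i).map ((t.truncGEπ n).app ((t.truncLT m).obj K))) :=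
    epi_H_mor₂ ((t.truncLTι n).app _) ((t.truncGEπ n).app ((t.truncLT m).obj K)) _ hT i
      (isZero_of_isLE _ (n - 1) (i + 1) (by lia))
  have nat : (t.truncLT m).map f ≫ (t.truncGEπ n).app ((t.truncLT m).obj K') =
      (t.truncGEπ n).app ((t.truncLT m).obj K) ≫ (t.truncGE n).map ((t.truncLT m).map f) :=
    (t.truncGEπ n).naturality ((t.truncLT m).map f)
  rw [← cancel_epi ((homologyFunctor A i).map ((t.truncGEπ n).app ((t.truncLT m).obj K))), comp_zero]
  change _ ≫ (homologyFunctor A i).map ((t.truncGE n).map ((t.truncLT m).map f)) = 0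
  rw [← Functor.map_comp, ← nat, Functor.map_comp, hg, zero_comp]

theorem main14388 {K K' : DerivedCategory A} (f : K ⟶ K') (q : ℤ)
    (h₁ : (DerivedCategory.homologyFunctor A (q - 1)).map f = 0)
    (h₂ : (DerivedCategory.homologyFunctor A q).map f = 0) :
    ∃! L : ((DerivedCategory.TStructure.t (C := A)).truncGELT q (q + 1)).obj K ⟶
        ((DerivedCategory.TStructure.t (C := A)).truncGELT (q - 1) q).obj K',
      ((DerivedCategory.TStructure.t (C := A)).truncGELT (q - 1) (q + 1)).map f =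
        ((DerivedCategory.TStructure.t (C := A)).natTransTruncGEOfLE (q - 1) q (sub_one_lt q).le).app
            (((DerivedCategory.TStructure.t (C := A)).truncLT (q + 1)).obj K) ≫ L ≫
          ((DerivedCategory.TStructure.t (C := A)).truncGE (q - 1)).map
            (((DerivedCategory.TStructure.t (C := A)).natTransTruncLTOfLE q (q + 1) (lt_add_one q).le).app K') := by
  let t := TStructure.t (C := A)
  have hab : ((q - 1 : ℤ) : EInt) ≤ ((q : ℤ) : EInt) := WithBotTop.coe_le_coe.2 (sub_one_lt q).le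
  have hbc : ((q : ℤ) : EInt) ≤ ((q + 1 : ℤ) : EInt) := WithBotTop.coe_le_coe.2 (lt_add_one q).le
  have tri : ∀ X : DerivedCategory A, ∃ δ, Triangle.mk
      ((t.truncGE (q - 1)).map ((t.natTransTruncLTOfLE q (q + 1) (lt_add_one q).le).app X))
      ((t.natTransTruncGEOfLE (q - 1) q (sub_one_lt q).le).app ((t.truncLT (q + 1)).obj X)) δ
        ∈ distTriang _ := by
    intro X
    have hT := t.triangleω₁δ_distinguished _ _ _ hab hbc X
    have e1 : ((t.triangleω₁δ _ _ _ hab hbc).obj X).mor₁ =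
        (t.truncGE (q - 1)).map ((t.natTransTruncLTOfLE q (q + 1) (lt_add_one q).le).app X) := by
      simp
      rfl
    have e2 : ((t.triangleω₁δ _ _ _ hab hbc).obj X).mor₂ =
        (t.natTransTruncGEOfLE (q - 1) q (sub_one_lt q).le).app ((t.truncLT (q + 1)).obj X) := by
      simp
      rfl
    refine ⟨((t.triangleω₁δ _ _ _ hab hbc).obj X).mor₃, ?_⟩
    rw [← e1, ← e2]
    exact hT
  obtain ⟨δ, hT⟩ := tri K
  obtain ⟨δ', hT'⟩ := tri K'
  have i1 : ((t.truncGE (q - 1)).obj ((t.truncLT (q + 1)).obj K)).IsLE q :=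
    inferInstanceAs (t.IsLE ((t.truncGE (q - 1)).obj ((t.truncLT (q + 1)).obj K)) q)
  have i2 : ((t.truncGE q).obj ((t.truncLT (q + 1)).obj K')).IsGE q :=
    inferInstanceAs (t.IsGE ((t.truncGE q).obj ((t.truncLT (q + 1)).obj K')) q)
  have i3 : ((t.truncGE (q - 1)).obj ((t.truncLT q).obj K)).IsLE (q - 1) :=
    inferInstanceAs (t.IsLE ((t.truncGE (q - 1)).obj ((t.truncLT q).obj K)) (q - 1))
  have i4 : ((t.truncGE (q - 1)).obj ((t.truncLT q).obj K')).IsGE (q - 1) :=
    inferInstanceAs (t.IsGE ((t.truncGE (q - 1)).obj ((t.truncLT q).obj K')) (q - 1))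
  exact existsUnique_aux _ _ δ hT _ _ δ' hT' q ((t.truncGELT (q - 1) (q + 1)).map f)
    (H_truncGELT_map_eq_zero f (q - 1) (q + 1) (q - 1) le_rfl (by lia) h₁)
    (H_truncGELT_map_eq_zero f (q - 1) (q + 1) q (by lia) (by lia) h₂)

end helpers

/-- Let A be an abelian category, D(A) its derived category with the canonical t-structure and
truncation functors τ_{≥a}, τ_{<b}, and write τ_[a,b] = τ_{≥a} ∘ τ_{<b+1}, so that τ_[q,q] K is
H^q(K) placed in degree q. Let f : K → K' be a morphism in D(A) and q an integer such that the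
induced maps H^(q-1)(K) → H^(q-1)(K') and H^q(K) → H^q(K') are both zero. Then there is a unique
morphism L : τ_[q,q] K → τ_[q-1,q-1] K' such that τ_[q-1,q](f) : τ_[q-1,q] K → τ_[q-1,q] K' is the
composite of the canonical projection τ_[q-1,q] K → τ_[q,q] K, the morphism L, and the canonical
inclusion τ_[q-1,q-1] K' → τ_[q-1,q] K'. (Under τ_[n,n] ≅ H^n(−)[−n] the morphism L corresponds to a
morphism L_f[−q] : H^q(K)[−q] → H^(q-1)(K')[1−q].) -/
theorem result {C : Type u} [Category.{v} C] [Abelian C]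
    [HasDerivedCategory.{w} C] {K K' : DerivedCategory C} (f : K ⟶ K') (q : ℤ)
    (h₁ : (DerivedCategory.homologyFunctor C (q - 1)).map f = 0)
    (h₂ : (DerivedCategory.homologyFunctor C q).map f = 0) :
    ∃! L : ((DerivedCategory.TStructure.t (C := C)).truncGELT q (q + 1)).obj K ⟶
        ((DerivedCategory.TStructure.t (C := C)).truncGELT (q - 1) q).obj K',
      ((DerivedCategory.TStructure.t (C := C)).truncGELT (q - 1) (q + 1)).map f =
        ((DerivedCategory.TStructure.t (C := C)).natTransTruncGEOfLE (q - 1) q (sub_one_lt q).le).app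
            (((DerivedCategory.TStructure.t (C := C)).truncLT (q + 1)).obj K) ≫ L ≫
          ((DerivedCategory.TStructure.t (C := C)).truncGE (q - 1)).map
            (((DerivedCategory.TStructure.t (C := C)).natTransTruncLTOfLE q (q + 1) (lt_add_one q).le).app K') := by
  exact main14388 f q h₁ h₂

end Groth.Agent.S14388
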