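import Groth.Statements.S14397
import Mathlib
-- import your own Groth.Agent.* helpers here

set_option autoImplicit false
universe u
open DualGr

namespace Groth.Agent.S14397

/-- Let (V, E) with endpoint map E → V × V be a finite multigraph (loops and parallel edges allowed; the
order of the two endpoints is an auxiliary orientation), and let D_1, …, D_n be finite sets of edges
such that every edge lies outside at least one D_i. For each i let Γ_i be the multigraph obtained by
contracting the edges of D_i, and let H₁(Γ, ℤ) → H₁(Γ_i, ℤ) be the map of cycle lattices (integer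
edge vectors with zero boundary) given by restriction to the surviving edges. Then the map H₁(Γ, ℤ)
→ ⊕_i H₁(Γ_i, ℤ) has torsion-free cokernel. (The published statement is about the connected labelled
dual graph of the closed fibre of a nodal curve, smooth outside a normal crossing divisor with
components D_1, …, D_n, over a Noetherian regular strictly local base; Γ_i is the dual graph of the
fibre over the generic point of D_i, the lattices are identified with the character groups of the
toric parts of the Picard schemes of these fibres, and the map is the generization map of character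
groups; this row states the assertion about cycle lattices, for any finite multigraph, which is what
the argument establishes.) -/
theorem result
    {V E : Type u} [Fintype V] [Fintype E] [DecidableEq V] [DecidableEq E]
    (ends : E → V × V) {n : ℕ} (D : Fin n → Finset E) (hcover : ∀ e : E, ∃ i : Fin n, e ∉ D i) :
    IsAddTorsionFree (((i : Fin n) → ↥(DualGr.cycleLattice (DualGr.ctrEnds ends (D i)))) ⧸
      LinearMap.range (LinearMap.pi fun i : Fin n => DualGr.genMap ends (D i))) := by
  classical
  refine ⟨fun k hk x y hxy => ?_⟩
  obtain ⟨a, rfl⟩ := Submodule.Quotient.mk_surjective _ x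
  obtain ⟨b, rfl⟩ := Submodule.Quotient.mk_surjective _ y
  simp only at hxy
  rw [← Submodule.Quotient.mk_smul, ← Submodule.Quotient.mk_smul, Submodule.Quotient.eq,
    show k • a - k • b = k • (a - b) from (nsmul_sub a b k).symm] at hxy
  rw [Submodule.Quotient.eq]
  obtain ⟨γ, hγ⟩ := hxy
  set m := a - b with hm
  have hn' : (k : ℤ) ≠ 0 := by exact_mod_cast hk
  have hval : ∀ (i : Fin n) (e' : DualGr.CtrEdge (D i)),
      γ.1 e'.1 = (k : ℤ) * (m i).1 e' := by
    intro i e'
    have := congrFun (congrArg Subtype.val (congrFun hγ i)) e'
    simp only [LinearMap.pi_apply, Pi.smul_apply, Submodule.coe_smul_of_tower] at this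
    rw [nsmul_eq_mul] at this
    rw [← this]
    rfl
  choose idx hidx using hcover
  set γ' : E → ℤ := fun e => (m (idx e)).1 ⟨e, hidx e⟩ with hγ'
  have hγγ' : γ.1 = (k : ℤ) • γ' := by
    funext e
    have := hval (idx e) ⟨e, hidx e⟩
    simp only [Pi.smul_apply, smul_eq_mul, hγ']
    exact this
  have hcyc : γ' ∈ DualGr.cycleLattice ends := by
    have h1 : DualGr.boundaryHom ends γ.1 = 0 := γ.2
    rw [hγγ', map_smul] at h1
    change DualGr.boundaryHom ends γ' = 0
    exact (smul_eq_zero.mp h1).resolve_left hn'
  refine ⟨⟨γ', hcyc⟩, ?_⟩
  funext i
  apply Subtype.ext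
  funext e'
  have h1 := hval i e'
  rw [hγγ'] at h1
  simp only [Pi.smul_apply, smul_eq_mul] at h1
  have h2 := mul_left_cancel₀ hn' h1
  rw [← h2]
  rfl

end Groth.Agent.S14397
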