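import Groth.Statements.S1440
-- import your own Groth.Agent.* helpers here
import Groth.Agent.Lib.Helper9.CDSec2
import Groth.Agent.Lib.Helper13.PC5

set_option autoImplicit false
universe u
open FlatMor

namespace Groth.Agent.S1440

open AlgebraicGeometry CategoryTheory Limits in
/-- Let f : X → Y be locally of finite presentation with Y quasi-compact and quasi-separated, and assume
f is completely decomposed: every point y of Y is the image of a point x at which the residue field
extension is trivial. Then there are finitely many immersions Z_i → Y of finite presentation,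
jointly surjective, such that each base change X ×_Y Z_i → Z_i admits a section. -/
theorem result {X Y : Scheme.{u}} (f : X ⟶ Y) [LocallyOfFinitePresentation f] [CompactSpace ↑Y] [QuasiSeparatedSpace ↑Y]
    (hcd : ∀ y : Y, ∃ x : X, f x = y ∧ Function.Bijective (f.residueFieldMap x)) :
    ∃ (n : ℕ) (Z : Fin n → Scheme.{u}) (z : ∀ i, Z i ⟶ Y), (∀ y : Y, ∃ i, y ∈ Set.range ⇑(z i)) ∧
      ∀ i, IsImmersion (z i) ∧ LocallyOfFinitePresentation (z i) ∧ QuasiCompact (z i) ∧ QuasiSeparated (z i) ∧
        ∃ s : Z i ⟶ pullback f (z i), s ≫ pullback.snd f (z i) = 𝟙 (Z i) := by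
  classical
  have key : ∀ y : Y, ∃ (Z : Scheme.{u}) (z : Z ⟶ Y) (σ : Z ⟶ X), IsAffine Z ∧ IsImmersion z ∧
      LocallyOfFinitePresentation z ∧ σ ≫ f = z ∧ y ∈ Set.range z := by
    intro y
    obtain ⟨x, rfl, hx⟩ := hcd y
    exact Groth.Agent.Lib.helper9.CDSec.exists_immersion_section f x hx.surjective
  choose Z z σ hZ himm hlfp hσ hy using key
  have hqc : ∀ y, QuasiCompact (z y) := fun y ↦ by
    have := hZ y
    infer_instance
  have hcons : ∀ y, Topology.IsConstructible (Set.range (z y)) := fun y ↦ by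
    have := hqc y
    have := hlfp y
    rw [← Set.image_univ]
    exact (z y).isConstructible_image .univ
  obtain ⟨S, hS⟩ := Groth.Agent.Lib.helper13.PC.exists_finset_cover_of_isConstructible
    (fun y ↦ Set.range (z y)) hcons (fun y ↦ ⟨y, hy y⟩)
  let e := S.equivFin
  refine ⟨S.card, fun i ↦ Z (e.symm i).1, fun i ↦ z (e.symm i).1, ?_, ?_⟩
  · intro y
    obtain ⟨y', hy'S, hy'⟩ := hS y
    refine ⟨e ⟨y', hy'S⟩, ?_⟩
    have h : ∀ j : S, j = ⟨y', hy'S⟩ → y ∈ Set.range (z j.1) := by
      rintro j rfl; exact hy'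
    exact h _ (Equiv.symm_apply_apply _ _)
  · intro i
    have := himm (e.symm i).1
    refine ⟨himm _, hlfp _, hqc _, inferInstance, ?_⟩
    exact ⟨pullback.lift (σ _) (𝟙 _) (by rw [hσ, Category.id_comp]), pullback.lift_snd _ _ _⟩

end Groth.Agent.S1440
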