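import Groth.Statements.S14401
import Mathlib

set_option autoImplicit false
universe u
open CategoryTheory AlgebraicGeometry
open Props

namespace Groth.Agent.S14401

/-- Let X be a Noetherian scheme all of whose local rings are integral domains. Then each irreducible
component of X is an open subset of X, and each point of X lies on exactly one irreducible component
(so the irreducible components of X are pairwise disjoint, open and closed, and coincide with the
connected components). (The published statement assumes X regular and Noetherian; its argument uses
only that the local rings of X are domains, which is the hypothesis taken here.) -/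
theorem result (X : Scheme.{u}) [AlgebraicGeometry.IsNoetherian X]
    (hX : ∀ x : X, IsDomain (X.presheaf.stalk x)) :
    (∀ Z ∈ irreducibleComponents (X : Type u), IsOpen Z) ∧
      ∀ x : X, ∃! Z, Z ∈ irreducibleComponents (X : Type u) ∧ x ∈ Z := by
  -- the key: a component through `x` is the closure of the generizations of `x`
  have key : ∀ (x : X) (Z : Set X), Z ∈ irreducibleComponents (X : Type u) → x ∈ Z →
      Z = closure {y : X | y ⤳ x} := by
    intro x Z hZ hx
    have hZcl : IsClosed Z := isClosed_of_mem_irreducibleComponents Z hZ
    have hZirr : IsIrreducible Z := hZ.1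
    obtain ⟨η, hη⟩ := QuasiSober.sober hZirr hZcl
    have hηx : η ⤳ x := hη.specializes hx
    have hirr : IsIrreducible (closure {y : X | y ⤳ x}) := by
      rw [← Scheme.range_fromSpecStalk, ← Set.image_univ]
      have := hX x
      exact ((IrreducibleSpace.isIrreducible_univ _).image _
        (X.fromSpecStalk x).continuous.continuousOn).closure
    have hsub : Z ⊆ closure {y : X | y ⤳ x} := by
      rw [← hη.def]
      exact closure_mono (Set.singleton_subset_iff.mpr hηx)
    exact le_antisymm hsub (hZ.2 hirr hsub)
  have huniq : ∀ x : X, ∃! Z, Z ∈ irreducibleComponents (X : Type u) ∧ x ∈ Z := by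
    intro x
    refine ⟨irreducibleComponent x, ⟨irreducibleComponent_mem_irreducibleComponents x,
      mem_irreducibleComponent⟩, ?_⟩
    rintro Z ⟨hZ, hx⟩
    rw [key x Z hZ hx, key x _ (irreducibleComponent_mem_irreducibleComponents x)
      mem_irreducibleComponent]
  refine ⟨?_, huniq⟩
  intro Z hZ
  have hfin : (irreducibleComponents (X : Type u)).Finite :=
    TopologicalSpace.NoetherianSpace.finite_irreducibleComponents
  have hcompl : Zᶜ = ⋃₀ (irreducibleComponents (X : Type u) \ {Z}) := by
    ext y
    constructor
    · intro hy
      refine ⟨irreducibleComponent y, ⟨irreducibleComponent_mem_irreducibleComponents y, ?_⟩,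
        mem_irreducibleComponent⟩
      rintro (h : irreducibleComponent y = Z)
      exact hy (h ▸ mem_irreducibleComponent)
    · rintro ⟨Z', ⟨hZ', hne⟩, hy⟩ hyZ
      exact hne ((huniq y).unique ⟨hZ', hy⟩ ⟨hZ, hyZ⟩)
  rw [← isClosed_compl_iff, hcompl, Set.sUnion_eq_biUnion]
  exact hfin.sdiff.isClosed_biUnion fun W hW => isClosed_of_mem_irreducibleComponents W hW.1

end Groth.Agent.S14401
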