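import Groth.Statements.S14403
import Mathlib
import Groth.Agent.Lib.Helper3.FlatFibreDim

set_option autoImplicit false
universe u
open CategoryTheory AlgebraicGeometry
open FlatMor

namespace Groth.Agent.S14403

/-- Let k be a field, X and Y schemes of finite type over k, f : X ⟶ Y a flat k-morphism, and d, n
natural numbers such that every irreducible component of Y has dimension d (Y equidimensional of
dimension d). Then every irreducible component of X has dimension d + n if and only if for every
point y of Y, closed or not, every irreducible component of the scheme-theoretic fibre of f over y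
has dimension n (empty fibres impose no condition). -/
theorem result (k : Type u) [Field k]
    {X Y : Scheme.{u}} (qX : X ⟶ Spec (CommRingCat.of k)) (qY : Y ⟶ Spec (CommRingCat.of k))
    [LocallyOfFiniteType qX] [QuasiCompact qX] [LocallyOfFiniteType qY] [QuasiCompact qY]
    (f : X ⟶ Y) (hf : f ≫ qY = qX) [Flat f] (d n : ℕ)
    (hY : ∀ Z ∈ irreducibleComponents (Y : Type u), topologicalKrullDim Z = (d : WithBot ℕ∞)) :
    (∀ Z ∈ irreducibleComponents (X : Type u), topologicalKrullDim Z = ((d + n : ℕ) : WithBot ℕ∞)) ↔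
      ∀ (y : Y), ∀ Z ∈ irreducibleComponents (f.fiber y : Type u),
        topologicalKrullDim Z = (n : WithBot ℕ∞) := by
  letI : X.Over (Spec (CommRingCat.of k)) := ⟨qX⟩
  letI : Y.Over (Spec (CommRingCat.of k)) := ⟨qY⟩
  haveI : LocallyOfFiniteType (X ↘ Spec (CommRingCat.of k)) := ‹LocallyOfFiniteType qX›
  haveI : LocallyOfFiniteType (Y ↘ Spec (CommRingCat.of k)) := ‹LocallyOfFiniteType qY›
  have hlY : ∀ y : Y, FlatMor.localDim Y y = (d : WithBot ℕ∞) := fun y =>
    Groth.Agent.Lib.helper3.RelDim.localDim_eq_of_forall_irreducibleComponents k Y d hY y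
  constructor
  · intro hX y Z hZ
    obtain ⟨ζ, hζ⟩ := QuasiSober.sober hZ.1 (isClosed_of_mem_irreducibleComponents Z hZ)
    have hZcl : Z = closure {ζ} := hζ.def.symm
    subst hZcl
    obtain ⟨n', hdim, hloc⟩ :=
      Groth.Agent.Lib.helper3.FlatFibreDim.localDim_eq_add_of_flat k qX qY f hf y ζ hZ
    have hlX := Groth.Agent.Lib.helper3.RelDim.localDim_eq_of_forall_irreducibleComponents k X
      (d + n) hX (f.fiberι y ζ)
    rw [hlX, hlY] at hloc
    have : d + n = d + n' := by exact_mod_cast hloc
    have hnn : n' = n := by omega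
    rw [hdim, hnn]
  · intro hfib T hT
    obtain ⟨ξ, hξ⟩ := QuasiSober.sober hT.1 (isClosed_of_mem_irreducibleComponents T hT)
    have hTcl : T = closure {ξ} := hξ.def.symm
    subst hTcl
    have hmaxξ : ∀ ω : X, ω ⤳ ξ → ω = ξ := fun ω hω =>
      Groth.Agent.Lib.helper3.EquidimAt.eq_of_specializes_of_closure_mem_irreducibleComponents
        ξ hT ω hω
    set ζ := f.asFiber ξ with hζdef
    have hιζ : f.fiberι (f.base ξ) ζ = ξ := f.fiberι_asFiber ξ
    have hcomp : closure ({ζ} : Set (f.fiber (f.base ξ))) ∈
        irreducibleComponents (f.fiber (f.base ξ) : Type u) := by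
      apply Groth.Agent.Lib.helper3.EquidimAt.closure_mem_irreducibleComponents_of_forall_specializes
      intro ζ' hsp
      have h1 : f.fiberι (f.base ξ) ζ' ⤳ f.fiberι (f.base ξ) ζ :=
        hsp.map (f.fiberι (f.base ξ)).continuous
      rw [hιζ] at h1
      have h3 := hmaxξ _ h1
      exact (f.fiberι (f.base ξ)).isEmbedding.injective (h3.trans hιζ.symm)
    obtain ⟨n', hdim, hloc⟩ :=
      Groth.Agent.Lib.helper3.FlatFibreDim.localDim_eq_add_of_flat k qX qY f hf (f.base ξ) ζ hcomp
    have hnn : n' = n := by
      have := (hfib (f.base ξ) _ hcomp).symm.trans hdim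
      exact_mod_cast this.symm
    rw [hιζ, hlY, hnn] at hloc
    rw [← Groth.Agent.Lib.helper3.FlatFibreDim.localDim_eq_dim_closure_of_maximal k X ξ hT, hloc]
    push_cast
    rfl

end Groth.Agent.S14403
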