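import Groth.Statements.S14404
import Mathlib
import Groth.Agent.Lib.Helper3.IrredDim
import Groth.Agent.Lib.Helper3.EquidimAt
import Groth.Agent.Lib.Helper3.FibreGeneric
import Groth.Agent.Lib.Helper3.QFinTop
import Groth.Agent.Lib.Helper17.FibreDim

set_option autoImplicit false
universe u
open CategoryTheory AlgebraicGeometry
open FlatMor

namespace Groth.Agent.S14404

open Groth.Agent.Lib.helper3.DimIneq Groth.Agent.Lib.helper3.FTField
  Groth.Agent.Lib.helper3.FibreField Groth.Agent.Lib.helper3.IrredDim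
  Groth.Agent.Lib.helper3.EquidimAt Groth.Agent.Lib.helper3.QFinTop in
/-- the key computation: for a flat `k`-morphism of l.f.t. `k`-schemes and a maximal point `ζ` of
a fibre: `dim_z X = dim_{f z} Y + trdeg κ(z)/κ(f z)`, with `dim closure {ζ} = trdeg κ(z)/κ(f z)`. -/
theorem key (k : Type u) [Field k]
    {X Y : Scheme.{u}} (qX : X ⟶ Spec (CommRingCat.of k)) (qY : Y ⟶ Spec (CommRingCat.of k))
    [LocallyOfFiniteType qX] [LocallyOfFiniteType qY]
    (f : X ⟶ Y) (hf : f ≫ qY = qX) [Flat f] (y : Y)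
    (Z : Set (f.fiber y)) (hZ : Z ∈ irreducibleComponents (f.fiber y : Type u)) :
    ∃ (n : ℕ) (z : X), f.base z = y ∧ topologicalKrullDim Z = (n : WithBot ℕ∞) ∧
      @FlatMor.localDim X _ z = @FlatMor.localDim Y _ (f.base z) + (n : WithBot ℕ∞) := by
  letI : X.Over (Spec (CommRingCat.of k)) := ⟨qX⟩
  letI : Y.Over (Spec (CommRingCat.of k)) := ⟨qY⟩
  haveI : LocallyOfFiniteType (X ↘ Spec (CommRingCat.of k)) := ‹LocallyOfFiniteType qX›
  haveI : LocallyOfFiniteType (Y ↘ Spec (CommRingCat.of k)) := ‹LocallyOfFiniteType qY›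
  haveI : IsLocallyNoetherian X := isLocallyNoetherian_of_lft k X
  haveI : IsLocallyNoetherian Y := isLocallyNoetherian_of_lft k Y
  haveI : LocallyOfFiniteType f := by
    have : LocallyOfFiniteType (f ≫ qY) := by rw [hf]; infer_instance
    exact locallyOfFiniteType_of_comp f qY
  letI := fiberOver f y
  haveI : LocallyOfFiniteType ((f.fiber y) ↘ Spec (CommRingCat.of (Y.residueField y))) :=
    locallyOfFiniteType_fiber f y
  obtain ⟨ζ, hζ⟩ := QuasiSober.sober hZ.1 (isClosed_of_mem_irreducibleComponents Z hZ)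
  have hZcl : Z = closure {ζ} := hζ.def.symm
  subst hZcl
  set z := f.fiberι y ζ with hz
  have hzy : f.base z = y := fiberι_mem f y ζ
  obtain ⟨n, hn⟩ := exists_nat_trdeg_residueField (Y.residueField y) (f.fiber y) ζ
  have hdimZ := dim_closure_eq_trdeg (Y.residueField y) (f.fiber y) ζ n hn
  have htd : td (f.residueFieldMap z).hom = (n : Cardinal.{u}) := by
    have h5 : td (Curv2.resMap (Y.residueField y) (f.fiber y) ζ) = n := hn
    rw [td_resMap_fiber f y ζ] at h5
    exact h5
  have hmax : ∀ x' : X, x' ⤳ z → f.base x' = f.base z → x' = z := by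
    intro x' hsp hfx
    have hx' : x' ∈ Set.range (f.fiberι y) := by
      rw [f.range_fiberι]; exact hfx.trans hzy
    obtain ⟨ζ', rfl⟩ := hx'
    have h1 : ζ' ⤳ ζ := (fiberι_specializes_iff f y ζ' ζ).mp hsp
    rw [eq_of_specializes_of_closure_mem_irreducibleComponents ζ hZ ζ' h1]
  have hb0 := Groth.Agent.Lib.helper3.RelDim.fibre_stalk_dim_eq_zero f z hmax
  have hflat := Groth.Agent.Lib.helper17.FibreDim.dim_stalk_eq f z (Flat.stalkMap f z)
  rw [hb0, add_zero] at hflat
  obtain ⟨a, b, ha, hb, hlX⟩ := localDim_eq_trdeg_add_stalk k X z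
  obtain ⟨a', b', ha', hb', hlY⟩ := localDim_eq_trdeg_add_stalk k Y (f.base z)
  have hbb : b = b' := by
    rw [hb, hb'] at hflat
    exact_mod_cast hflat
  have hadd := trdeg_residueField_add k qX qY f hf z
  have haa : a = a' + n := by
    have h1 : td (@Curv2.resMap k _ X ⟨qX⟩ z) = a := ha
    have h2 : td (@Curv2.resMap k _ Y ⟨qY⟩ (f.base z)) = a' := ha'
    rw [h1, h2, htd] at hadd
    exact_mod_cast hadd
  refine ⟨n, z, hzy, hdimZ, ?_⟩
  rw [hlX, hlY, haa, hbb]
  have : a' + n + b' = a' + b' + n := by omega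
  rw [this]
  push_cast
  rfl

/-- Let k be a field, X and Y irreducible schemes of finite type over k and f : X ⟶ Y a flat k-morphism.
Then dim Y ≤ dim X, and for every point y of Y every irreducible component Z of the scheme-theoretic
fibre of f over y has dim Z + dim Y = dim X; that is, every non-empty fibre has all its irreducible
components of dimension dim X − dim Y. -/
theorem result (k : Type u) [Field k]
    {X Y : Scheme.{u}} (qX : X ⟶ Spec (CommRingCat.of k)) (qY : Y ⟶ Spec (CommRingCat.of k))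
    [LocallyOfFiniteType qX] [QuasiCompact qX] [LocallyOfFiniteType qY] [QuasiCompact qY]
    [IrreducibleSpace X] [IrreducibleSpace Y] (f : X ⟶ Y) (hf : f ≫ qY = qX) [Flat f] :
    topologicalKrullDim Y ≤ topologicalKrullDim X ∧
      ∀ (y : Y), ∀ Z ∈ irreducibleComponents (f.fiber y : Type u),
        topologicalKrullDim Z + topologicalKrullDim Y = topologicalKrullDim X := by
  letI : X.Over (Spec (CommRingCat.of k)) := ⟨qX⟩
  letI : Y.Over (Spec (CommRingCat.of k)) := ⟨qY⟩
  haveI : LocallyOfFiniteType (X ↘ Spec (CommRingCat.of k)) := ‹LocallyOfFiniteType qX›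
  haveI : LocallyOfFiniteType (Y ↘ Spec (CommRingCat.of k)) := ‹LocallyOfFiniteType qY›
  obtain ⟨dX, hdX, hlX⟩ :=
    Groth.Agent.Lib.helper3.IrredDim.exists_dim_eq_localDim_of_irreducible k X
  obtain ⟨dY, hdY, hlY⟩ :=
    Groth.Agent.Lib.helper3.IrredDim.exists_dim_eq_localDim_of_irreducible k Y
  have main : ∀ (y : Y), ∀ Z ∈ irreducibleComponents (f.fiber y : Type u),
      ∃ n : ℕ, topologicalKrullDim Z = (n : WithBot ℕ∞) ∧ n + dY = dX := by
    intro y Z hZ
    obtain ⟨n, z, hzy, hdimZ, hloc⟩ := key k qX qY f hf y Z hZ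
    refine ⟨n, hdimZ, ?_⟩
    rw [hlX z, hlY (f.base z)] at hloc
    have : dX = dY + n := by exact_mod_cast hloc
    omega
  constructor
  · -- `dim Y ≤ dim X` from the fibre through the generic point of `X`
    set ξ := genericPoint X with hξ
    set ζ := f.asFiber ξ with hζ
    have hcomp := irreducibleComponent_mem_irreducibleComponents ζ
    obtain ⟨n, -, hn⟩ := main (f.base ξ) (irreducibleComponent ζ) hcomp
    rw [hdX, hdY]
    have : dY ≤ dX := by omega
    exact_mod_cast this
  · intro y Z hZ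
    obtain ⟨n, hdimZ, hn⟩ := main y Z hZ
    rw [hdimZ, hdX, hdY]
    exact_mod_cast hn

end Groth.Agent.S14404
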