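import Groth.Statements.S14405
import Mathlib.Algebra.Group.ForwardDiff
import Mathlib.NumberTheory.BernoulliPolynomials
import Mathlib.Tactic

set_option autoImplicit false
open Polynomial
open HilbNum

namespace Groth.Agent.S14405


/-- An antidifference of a rational polynomial, built from Bernoulli polynomials. -/
noncomputable def antiDiff (Q : ℚ[X]) : ℚ[X] :=
  ∑ k ∈ Finset.range (Q.natDegree + 1),
    C (Q.coeff k / ((k : ℚ) + 1)) * (Polynomial.bernoulli (k + 1)).comp (X + 1)

theorem antiDiff_eval (Q : ℚ[X]) (x : ℚ) :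
    (antiDiff Q).eval x - (antiDiff Q).eval (x - 1) = Q.eval x := by
  unfold antiDiff
  rw [Polynomial.eval_finsetSum, Polynomial.eval_finsetSum, ← Finset.sum_sub_distrib,
    Polynomial.eval_eq_sum_range]
  refine Finset.sum_congr rfl (fun k _ => ?_)
  simp only [eval_mul, eval_C, eval_comp, eval_add, eval_X, eval_one]
  have h := Polynomial.bernoulli_eval_one_add (k + 1) x
  have hk : ((k : ℚ) + 1) ≠ 0 := by positivity
  rw [sub_add_cancel, add_comm x 1, h]
  simp only [Nat.add_sub_cancel, Nat.cast_add, Nat.cast_one]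
  field_simp
  ring

/-- If `P(x) - P(x-1) = Q(x)` with `Q ≠ 0` then `deg P = deg Q + 1`. -/
theorem natDegree_of_diff (P Q : ℚ[X]) (hQ : Q ≠ 0)
    (h : ∀ x : ℚ, P.eval x - P.eval (x - 1) = Q.eval x) : P.natDegree = Q.natDegree + 1 := by
  set d := Q.natDegree with hd
  let Q' : ℚ[X] := Q.comp (X + 1)
  have hX1 : (X + 1 : ℚ[X]).natDegree = 1 := by
    have := Polynomial.natDegree_X_add_C (1 : ℚ)
    simpa using this
  have hQ'deg : Q'.natDegree = d := by
    simp only [Q']
    rw [Polynomial.natDegree_comp, hX1, mul_one]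
  have hQ'lc : Q'.leadingCoeff = Q.leadingCoeff := by
    simp only [Q']
    rw [Polynomial.leadingCoeff_comp (by rw [hX1]; exact one_ne_zero)]
    have : (X + 1 : ℚ[X]).leadingCoeff = 1 := by
      have := Polynomial.leadingCoeff_X_add_C (1 : ℚ)
      simpa using this
    rw [this, one_pow, mul_one]
  have hΔ : fwdDiff (1 : ℚ) P.eval = Q'.eval := by
    funext x
    simp only [fwdDiff, Q', eval_comp, eval_add, eval_X, eval_one]
    have := h (x + 1)
    rw [add_sub_cancel_right] at this
    exact this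
  have hiter : ∀ n : ℕ, (fwdDiff (1 : ℚ))^[n + 1] P.eval = (fwdDiff (1 : ℚ))^[n] Q'.eval := by
    intro n
    rw [Function.iterate_succ_apply, hΔ]
  have hQ'top : (fwdDiff (1 : ℚ))^[d] Q'.eval 0 ≠ 0 := by
    have := Polynomial.fwdDiff_iter_degree_eq_factorial Q'
    rw [hQ'deg] at this
    rw [this, hQ'lc]
    simp only [Pi.smul_apply, Pi.natCast_apply, smul_eq_mul]
    exact mul_ne_zero (Polynomial.leadingCoeff_ne_zero.2 hQ) (Nat.cast_ne_zero.2 (Nat.factorial_ne_zero d))
  -- lower bound
  have hge : d + 1 ≤ P.natDegree := by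
    by_contra hlt
    rw [not_le] at hlt
    have := Polynomial.fwdDiff_iter_eq_zero_of_degree_lt hlt
    rw [hiter] at this
    exact hQ'top (by rw [this]; rfl)
  -- upper bound
  have hle : P.natDegree ≤ d + 1 := by
    by_contra hgt
    rw [not_le] at hgt
    obtain ⟨n, hn⟩ : ∃ n, P.natDegree = n + 1 := ⟨P.natDegree - 1, by omega⟩
    have hP0 : P ≠ 0 := by
      rintro rfl
      simp at hn
    have h1 := Polynomial.fwdDiff_iter_degree_eq_factorial P
    rw [hn, hiter] at h1
    have h2 : (fwdDiff (1 : ℚ))^[n] Q'.eval = 0 :=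
      Polynomial.fwdDiff_iter_eq_zero_of_degree_lt (by rw [hQ'deg]; omega)
    rw [h2] at h1
    have h3 := congrFun h1 0
    simp only [Pi.zero_apply, Pi.smul_apply, Pi.natCast_apply, smul_eq_mul] at h3
    exact (mul_ne_zero (Polynomial.leadingCoeff_ne_zero.2 hP0)
      (Nat.cast_ne_zero.2 (Nat.factorial_ne_zero (n + 1)))) h3.symm
  omega

/-- Let φ be a function from the integers to the rationals and Q a nonzero polynomial with rational
coefficients of degree d such that φ(m) - φ(m-1) = Q(m) for every integer m. Then there is a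
polynomial P with rational coefficients, of degree d + 1, such that φ(m) = P(m) for every integer m.
(The explicit form of P in the binomial basis is not part of this statement.) -/
theorem result (φ : ℤ → ℚ) (d : ℕ) (Q : ℚ[X]) (hQ : Q ≠ 0)
    (hd : Q.natDegree = d) (h : ∀ m : ℤ, φ m - φ (m - 1) = Q.eval (m : ℚ)) :
    ∃ P : ℚ[X], P.natDegree = d + 1 ∧ ∀ m : ℤ, φ m = P.eval (m : ℚ) := by
  -- the difference `φ - antiDiff Q` is constant
  let P₀ := antiDiff Q
  let ψ : ℤ → ℚ := fun m => φ m - P₀.eval (m : ℚ)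
  have hψ : ∀ m : ℤ, ψ m = ψ (m - 1) := by
    intro m
    have h1 := h m
    have h2 := antiDiff_eval Q (m : ℚ)
    simp only [ψ, P₀]
    have e : ((m - 1 : ℤ) : ℚ) = (m : ℚ) - 1 := by push_cast; ring
    rw [e]
    linarith
  have hconst : ∀ m : ℤ, ψ m = ψ 0 := by
    intro m
    refine Int.inductionOn' (motive := fun m => ψ m = ψ 0) m 0 rfl (fun k _ ih => ?_)
      (fun k _ ih => ?_)
    · rw [hψ (k + 1), add_sub_cancel_right, ih]
    · rw [← hψ k, ih]
  refine ⟨P₀ + C (ψ 0), ?_, ?_⟩
  · rw [natDegree_of_diff (P₀ + C (ψ 0)) Q hQ, hd]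
    intro x
    simp only [eval_add, eval_C, P₀]
    have := antiDiff_eval Q x
    linarith
  · intro m
    simp only [eval_add, eval_C]
    have := hconst m
    simp only [ψ] at this ⊢
    linarith

end Groth.Agent.S14405
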