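import Groth.Statements.S14408
import Groth.Agent.Lib.Lead.HilbPos5
import Groth.Agent.Lib.Helper28.TwistPn
import Groth.Agent.Lib.Helper19.ProjSpaceProper
import Groth.Agent.Lib.Helper18.ProjBasic
import Groth.Agent.Lib.Lead.SerreVan
import Groth.Agent.S0022
-- import your own Groth.Agent.* helpers here

set_option autoImplicit false
set_option backward.isDefEq.respectTransparency false
universe u
open CategoryTheory CategoryTheory.Limits AlgebraicGeometry
open HilbNum

namespace Groth.Agent.S14408

/-- Let k be an algebraically closed field, n a positive integer, F a nonzero coherent O-module on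
projective n-space P over k (quasi-coherent of finite type), and P_F a polynomial with rational
coefficients such that P_F(m) = χ(F(m)) = Σ_{j ≤ n} (-1)^j dim_k H^j(P, F ⊗ O(m)) for every integer
m. Then the degree of P_F equals the dimension of the support of F (the closed set of points where
the stalk of F is nonzero, with the subspace topology). The existence of such a polynomial is not
part of this statement; it enters through the hypothesis on P_F. -/
theorem result (k : Type u) [Field k] [IsAlgClosed k] (n : ℕ) (hn : 0 < n)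
    (F : (CohB1.ProjSpace n k).Modules) (hF : Coh.IsCoh F) (hF0 : ¬ IsZero F) (P : Polynomial ℚ)
    (hP : ∀ m : ℤ,
      ((Finset.range (n + 1)).sum fun j => (-1 : ℚ) ^ j *
        (Module.finrank k (Coh.HH (CohB1.ProjSpace n k) (CohB1.tensorMod F (Twist.twistProjSpace n k m)) j) : ℚ)) =
      P.eval (m : ℚ)) :
    topologicalKrullDim ↥(CohB1.support F) = (P.natDegree : WithBot ℕ∞) := by
  letI : (CohB1.ProjSpace n k).Over (Spec (CommRingCat.of k)) := ⟨CohB1.ProjSpace.toSpec n k⟩
  haveI : IsProper ((CohB1.ProjSpace n k) ↘ Spec (CommRingCat.of k)) :=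
    Groth.Agent.Lib.helper19.ProjSpaceProper.proper_toSpec n k
  haveI := Groth.Agent.Lib.Lead.CurveEuler.isNoetherian k (CohB1.ProjSpace n k)
  set L : (CohB1.ProjSpace n k).Modules := Twist.twistProjSpace n k ((1 : ℕ) : ℤ) with hLdef
  have hL : CohB1.IsAmple L := Groth.Agent.Lib.helper28.TwistPn.isAmple n k 1 Nat.one_pos
  -- `P` is the Hilbert polynomial with respect to `O(1)`
  have hHP : ShStab.IsHilbPoly k (CohB1.ProjSpace n k) L F P := by
    intro m
    have hPm := hP (m : ℤ)
    rw [Int.cast_natCast] at hPm
    rw [← hPm]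
    have e : ShStab.twist (CohB1.ProjSpace n k) L F m ≅
        CohB1.tensorMod F (Twist.twistProjSpace n k (m : ℤ)) :=
      Groth.Agent.Lib.Lead.ModTensor.tensorIso (Iso.refl F)
        (Groth.Agent.Lib.helper28.TwistPn.powIso n k m).symm
    rw [Groth.Agent.Lib.Lead.CurveEuler.euler_eq_of_iso k (CohB1.ProjSpace n k) e]
    have hq : Coh.IsQCoh (CohB1.tensorMod F (Twist.twistProjSpace n k (m : ℤ))) :=
      (Groth.Agent.Lib.Lead.SerreVan.isCoh_twist n k hF (m : ℤ)).1
    rw [Groth.Agent.Lib.Helper18.HH.euler_eq_sum k _ n
      (fun i hi => Groth.Agent.S0022.result n k _ i hi)]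
    push_cast
    refine Finset.sum_congr rfl (fun j _ => ?_)
    congr 1
  -- the dimension of the support is a natural number
  have hle : topologicalKrullDim (CohB1.support F) ≤ ((n : ℕ) : WithBot ℕ∞) := by
    refine (topologicalKrullDim_subspace_le _ _).trans ?_
    rw [Groth.Agent.Lib.Helper18.ProjBasic.topologicalKrullDim_projSpace]
  have hne : (CohB1.support F).Nonempty := by
    rw [Set.nonempty_iff_ne_empty]
    intro h
    exact hF0 (Groth.Agent.Lib.helper7.SnapperMain.isZero_of_support_eq_empty F h)
  obtain ⟨d, hd⟩ : ∃ d : ℕ, topologicalKrullDim (CohB1.support F) = ((d : ℕ) : WithBot ℕ∞) := by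
    have h0 : (0 : WithBot ℕ∞) ≤ topologicalKrullDim (CohB1.support F) := by
      obtain ⟨x, hx⟩ := hne
      haveI : Nonempty (TopologicalSpace.IrreducibleCloseds (CohB1.support F)) :=
        ⟨⟨closure {⟨x, hx⟩}, isIrreducible_singleton.closure, isClosed_closure⟩⟩
      exact Order.krullDim_nonneg
    generalize topologicalKrullDim (CohB1.support F) = y at hle h0
    induction y with
    | bot => exact absurd h0 (by simp)
    | coe a =>
      induction a with
      | top =>
        exfalso
        have : ((⊤ : ℕ∞) : WithBot ℕ∞) ≤ (((n : ℕ) : ℕ∞) : WithBot ℕ∞) := hle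
        rw [WithBot.coe_le_coe] at this
        exact absurd this (by simp)
      | coe a => exact ⟨a, rfl⟩
  rw [hd, Groth.Agent.Lib.Lead.HilbPos.natDegree_eq k (CohB1.ProjSpace n k) hL hF d hd hHP]

end Groth.Agent.S14408
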