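import Groth.Statements.S1441
import Groth.Agent.Lib.Helper3.RelFlatBC
import Groth.Agent.Lib.Helper3.FlatDescJ
import Groth.Agent.Lib.Helper18.LfpCancel
import Groth.Agent.Lib.Helper17.FlatOver6

set_option autoImplicit false
universe u
open FlatMor

namespace Groth.Agent.S1441

open AlgebraicGeometry CategoryTheory Limits in
/-- Let f : X → Y be a morphism over S with X locally of finite presentation and Y locally of finite
type over S, and F a finitely presented quasi-coherent O_X-module flat over S. Then the set U of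
points where F is flat over Y is open in X, and for any base change S' → S (with X', Y', F' the base
changes) the corresponding set for F' over Y' is the preimage of U. -/
theorem result {X Y S : Scheme.{u}} (f : X ⟶ Y) (g : Y ⟶ S) [LocallyOfFinitePresentation (f ≫ g)] [LocallyOfFiniteType g]
    (F : X.Modules) (hq : Coh.IsQCoh F) (hfp : CohB1.IsFP F) (hfl : FlatMod.IsFlatOver (f ≫ g) F) :
    IsOpen {x : ↑X | FlatMod.IsFlatOverAt f F x} ∧
      ∀ {X' Y' S' : Scheme.{u}} (h : S' ⟶ S) (gY : Y' ⟶ Y) (g' : Y' ⟶ S') (hY : IsPullback gY g' g h)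
        (gX : X' ⟶ X) (f' : X' ⟶ Y') (hX : IsPullback gX (f' ≫ g') (f ≫ g) h) (w : gX ≫ f = f' ≫ gY),
        {x' : ↑X' | FlatMod.IsFlatOverAt f' ((Scheme.Modules.pullback gX).obj F) x'} = gX ⁻¹' {x : ↑X | FlatMod.IsFlatOverAt f F x} := by
  haveI : F.IsQuasicoherent := hq
  haveI : LocallyOfFinitePresentation f :=
    Groth.Agent.Lib.Helper18.RelSmoothFiber.locallyOfFinitePresentation_of_comp f g
      inferInstance inferInstance
  refine ⟨Groth.Agent.Lib.helper3.FlatDesc.isOpen_flatLocus_modules f F hfp, ?_⟩
  intro X' Y' S' h gY g' hY gX f' hX w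
  ext x'
  simp only [Set.mem_setOf_eq, Set.mem_preimage]
  have htop : IsPullback gX f' f gY := IsPullback.of_bot hX w hY
  constructor
  · intro h'
    exact Groth.Agent.Lib.helper3.RelFlatBC.isFlatOverAt_of_baseChange f g F hfp h gY g' hY gX f'
      hX w x' (hfl (gX x')) h'
  · intro h'
    exact (Groth.Agent.Lib.helper17.FlatOver6.isFlatOverAt_baseChange_both htop F x').1 h'

end Groth.Agent.S1441
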