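import Groth.Statements.S14410
import Mathlib
-- import your own Groth.Agent.* helpers here

set_option autoImplicit false
universe u
open CategoryTheory TopologicalSpace
open CohTop

namespace Groth.Agent.S14410

section helpers
open CategoryTheory TopologicalSpace Opposite TopCat

theorem main (X : TopCat.{u})
    (S : ShortComplex (TopCat.Sheaf AddCommGrpCat.{u} X)) (hS : S.ShortExact)
    [S.X₁.IsFlasque] [S.X₃.IsFlasque] : S.X₂.IsFlasque := by
  refine ⟨fun {U V} i => ?_⟩
  rw [AddCommGrpCat.epi_iff_surjective]
  intro s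
  -- lift g(s) to U
  have h3 : Function.Surjective (S.X₃.obj.map i) :=
    (AddCommGrpCat.epi_iff_surjective _).1 inferInstance
  obtain ⟨t₃, ht₃⟩ := h3 (S.g.hom.app V s)
  have hg : Function.Surjective (S.g.hom.app U) := by
    obtain ⟨U⟩ := U
    exact (AddCommGrpCat.epi_iff_surjective _).1 (TopCat.Sheaf.IsFlasque.epi_of_shortExact hS)
  obtain ⟨t₂, ht₂⟩ := hg t₃
  -- difference lies in kernel of g
  have hker : S.g.hom.app V (S.X₂.obj.map i t₂ - s) = 0 := by
    rw [map_sub, sub_eq_zero]
    have := congrArg (fun φ => φ t₂) (congrArg (fun ψ => ψ.hom) (S.g.hom.naturality i))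
    simp only [AddCommGrpCat.hom_comp] at this
    change S.g.hom.app V (S.X₂.obj.map i t₂) = S.X₃.obj.map i (S.g.hom.app U t₂) at this
    rw [this, ht₂, ht₃]
  obtain ⟨V⟩ := V
  obtain ⟨t₁, ht₁⟩ := Sheaf.sections_exact_of_left_exact hS.1 hS.2 _ hker
  have h1 : Function.Surjective (S.X₁.obj.map i) :=
    (AddCommGrpCat.epi_iff_surjective _).1 inferInstance
  obtain ⟨t₁', ht₁'⟩ := h1 t₁
  refine ⟨t₂ - S.f.hom.app U t₁', ?_⟩
  rw [map_sub]
  have := congrArg (fun φ => φ t₁') (congrArg (fun ψ => ψ.hom) (S.f.hom.naturality i))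
  simp only [AddCommGrpCat.hom_comp] at this
  change S.f.hom.app (op V) (S.X₁.obj.map i t₁') = S.X₂.obj.map i (S.f.hom.app U t₁') at this
  rw [← this, ht₁', ht₁]
  abel


end helpers

/-- Let X be a topological space and 0 → F₁ → F₂ → F₃ → 0 a short exact sequence of sheaves of abelian
groups on X. If F₁ and F₃ are flasque (every restriction map is surjective), then F₂ is flasque.
(The published statement is for O_X-modules on a ringed space and is an equivalence; this row states
the implication from the outer terms to the middle term, for the underlying abelian sheaves.) -/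
theorem result (X : TopCat.{u})
    (S : ShortComplex (TopCat.Sheaf AddCommGrpCat.{u} X)) (hS : S.ShortExact)
    [S.X₁.IsFlasque] [S.X₃.IsFlasque] : S.X₂.IsFlasque := by
  exact main X S hS

end Groth.Agent.S14410
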