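import Groth.Statements.S14412
import Mathlib
import Groth.Agent.Lib.Helper10.ExtShift

set_option autoImplicit false
universe u
open CategoryTheory
open CAlg

namespace Groth.Agent.S14412

set_option linter.style.haveILetI false

open Abelian Groth.Agent.Lib.helper10.ExtShift

variable {R : Type u} [CommRing R] (S : Submonoid R)

/-- the localization functor -/
noncomputable abbrev F : ModuleCat.{u} R ⥤ ModuleCat.{u} (Localization S) :=
  ModuleCat.localizedModuleFunctor.{u} S

/-- the induced map on Ext -/
noncomputable abbrev μ {X Y : ModuleCat.{u} R} {n : ℕ} (e : Ext X Y n) :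
    Ext ((F S).obj X) ((F S).obj Y) n := e.mapExactFunctor (F S)

theorem F_map_smul_id (Y : ModuleCat.{u} R) (r : R) :
    (F S).map (r • 𝟙 Y) = (algebraMap R (Localization S) r) • 𝟙 ((F S).obj Y) := by
  have key : (IsLocalizedModule.mapExtendScalars S (Y.localizedModuleMkLinearMap S)
      (Y.localizedModuleMkLinearMap S) (Localization S) (r • LinearMap.id)) =
      (algebraMap R (Localization S) r) •
        (LinearMap.id : Y.localizedModule S →ₗ[Localization S] Y.localizedModule S) := by
    apply LinearMap.restrictScalars_injective R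
    apply IsLocalizedModule.ext S (Y.localizedModuleMkLinearMap S)
      (IsLocalizedModule.map_units (Y.localizedModuleMkLinearMap S))
    apply LinearMap.ext
    intro y
    change (IsLocalizedModule.mapExtendScalars S (Y.localizedModuleMkLinearMap S)
      (Y.localizedModuleMkLinearMap S) (Localization S) (r • LinearMap.id))
      (Y.localizedModuleMkLinearMap S y) =
      (algebraMap R (Localization S) r) • (Y.localizedModuleMkLinearMap S y)
    rw [IsLocalizedModule.mapExtendScalars_apply_apply, IsLocalizedModule.map_apply,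
      LinearMap.smul_apply, LinearMap.id_apply, map_smul, algebraMap_smul]
  apply ModuleCat.hom_ext
  exact key

theorem μ_smul {X Y : ModuleCat.{u} R} {n : ℕ} (e : Ext X Y n) (r : R) :
    μ S (r • e) = (algebraMap R (Localization S) r) • μ S e := by
  rw [Ext.smul_eq_comp_mk₀, Ext.smul_eq_comp_mk₀]
  change (e.comp (Ext.mk₀ (r • 𝟙 Y)) (add_zero n)).mapExactFunctor (F S) = _
  rw [Ext.mapExactFunctor_comp, Ext.mapExactFunctor_mk₀, F_map_smul_id]

theorem μ_eq_zero_of_smul {X Y : ModuleCat.{u} R} {n : ℕ} (e : Ext X Y n) (s : S)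
    (h : (s : R) • e = 0) : μ S e = 0 := by
  have h1 : (algebraMap R (Localization S) s) • μ S e = 0 := by
    rw [← μ_smul, h]
    exact Ext.mapExactFunctor_zero (F S) _ _ _
  have hu : IsUnit (algebraMap R (Localization S) (s : R)) := IsLocalization.map_units _ s
  exact (hu.smul_eq_zero).1 h1

/-- the localization property for `μ` -/
def Loc (X Y : ModuleCat.{u} R) (n : ℕ) : Prop :=
  (∀ y : Ext ((F S).obj X) ((F S).obj Y) n, ∃ (e : Ext X Y n) (s : S),
    algebraMap R (Localization S) (s : R) • y = μ S e) ∧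
  (∀ e : Ext X Y n, μ S e = 0 ↔ ∃ s : S, (s : R) • e = 0)

theorem μ_mk₀ {X Y : ModuleCat.{u} R} (f : X ⟶ Y) :
    μ S (Ext.mk₀ f) = Ext.mk₀ ((F S).map f) := Ext.mapExactFunctor_mk₀ (F S) f

theorem loc_zero (X Y : ModuleCat.{u} R) [Module.FinitePresentation R X] : Loc S X Y 0 := by
  let lX := X.localizedModuleMkLinearMap S
  let lY := Y.localizedModuleMkLinearMap S
  let ℓ : (X →ₗ[R] Y) →ₗ[R] (X.localizedModule S →ₗ[Localization S] Y.localizedModule S) :=
    IsLocalizedModule.mapExtendScalars S lX lY (Localization S)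
  haveI : IsLocalizedModule S ℓ :=
    Module.FinitePresentation.isLocalizedModule_mapExtendScalars S lX lY (Localization S)
  have hF : ∀ f : X ⟶ Y, (F S).map f = ModuleCat.ofHom (ℓ f.hom) := fun f => rfl
  constructor
  · intro y
    obtain ⟨g, rfl⟩ := (Ext.mk₀_bijective _ _).2 y
    obtain ⟨⟨f, s⟩, hfs⟩ := IsLocalizedModule.surj S ℓ g.hom
    refine ⟨Ext.mk₀ (ModuleCat.ofHom f), s, ?_⟩
    rw [μ_mk₀, hF, ← Ext.mk₀_smul]
    congr 1
    apply ModuleCat.hom_ext
    change (algebraMap R (Localization S) (s : R)) • g.hom = ℓ f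
    rw [← hfs]
    apply LinearMap.ext
    intro x
    exact algebraMap_smul (Localization S) (s : R) (show Y.localizedModule S from g.hom x)
  · intro e
    obtain ⟨f, rfl⟩ := (Ext.mk₀_bijective _ _).2 e
    rw [μ_mk₀, hF]
    constructor
    · intro h
      have h1 : ℓ f.hom = 0 := by
        have h2 := (Ext.mk₀_bijective _ _).1 (h.trans (Ext.mk₀_zero _ _).symm)
        exact congrArg ModuleCat.Hom.hom h2
      obtain ⟨s, hs⟩ := (IsLocalizedModule.eq_zero_iff S ℓ).1 h1
      refine ⟨s, ?_⟩
      rw [← Ext.mk₀_smul]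
      have : (s : R) • f = 0 := by
        apply ModuleCat.hom_ext
        exact hs
      rw [this]
      exact Ext.mk₀_zero _ _
    · rintro ⟨s, hs⟩
      rw [← Ext.mk₀_smul] at hs
      have h2 := (Ext.mk₀_bijective _ _).1 (hs.trans (Ext.mk₀_zero _ _).symm)
      have h3 : (s : R) • f.hom = 0 := congrArg ModuleCat.Hom.hom h2
      have h1 : ℓ f.hom = 0 := (IsLocalizedModule.eq_zero_iff S ℓ).2 ⟨s, h3⟩
      rw [h1]
      exact Ext.mk₀_zero _ _

section step

variable {S₀ : ShortComplex (ModuleCat.{u} R)} (hS : S₀.ShortExact) (Y : ModuleCat.{u} R)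
include hS

theorem μ_δ {n m : ℕ} (e : Ext S₀.X₁ Y n) (h : 1 + n = m) :
    μ S (hS.extClass.comp e h) = (hS.map_of_exact (F S)).extClass.comp (μ S e) h := by
  change (hS.extClass.comp e h).mapExactFunctor (F S) = _
  rw [Ext.mapExactFunctor_comp, Ext.mapExactFunctor_extClass]
  rfl

omit hS in
theorem μ_sub {X Y : ModuleCat.{u} R} {n : ℕ} (e₁ e₂ : Ext X Y n) :
    μ S (e₁ - e₂) = μ S e₁ - μ S e₂ :=
  map_sub ((F S).mapExtAddHom X Y n) e₁ e₂

theorem loc_step_succ [Projective S₀.X₂] [Projective ((F S).obj S₀.X₂)] (n : ℕ)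
    (hK : Loc S S₀.X₁ Y (n + 1)) : Loc S S₀.X₃ Y (n + 2) := by
  have hS' := hS.map_of_exact (F S)
  haveI : Projective (S₀.map (F S)).X₂ := inferInstanceAs (Projective ((F S).obj S₀.X₂))
  have hn : 1 + (n + 1) = n + 2 := by omega
  constructor
  · intro y
    obtain ⟨y', rfl⟩ := Ext.contravariant_sequence_exact₃ hS' ((F S).obj Y) y
      (Ext.eq_zero_of_projective _) hn
    obtain ⟨e', s, hs⟩ := hK.1 y'
    refine ⟨hS.extClass.comp e' hn, s, ?_⟩
    rw [μ_δ S hS, ← hs]
    exact (Ext.comp_smul _ _ _ _).symm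
  · intro e
    constructor
    · intro h
      obtain ⟨e', rfl⟩ := Ext.contravariant_sequence_exact₃ hS Y e
        (Ext.eq_zero_of_projective _) hn
      rw [μ_δ] at h
      obtain ⟨z, hz⟩ := Ext.contravariant_sequence_exact₁ hS' ((F S).obj Y) (μ S e') hn h
      rw [Ext.eq_zero_of_projective z, Ext.comp_zero] at hz
      obtain ⟨s, hs⟩ := (hK.2 e').1 hz.symm
      refine ⟨s, ?_⟩
      rw [← Ext.comp_smul, hs, Ext.comp_zero]
    · rintro ⟨s, hs⟩
      exact μ_eq_zero_of_smul S e s hs

theorem loc_step_one [Projective S₀.X₂] [Projective ((F S).obj S₀.X₂)]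
    (hK : Loc S S₀.X₁ Y 0) (hP : Loc S S₀.X₂ Y 0) : Loc S S₀.X₃ Y 1 := by
  have hS' := hS.map_of_exact (F S)
  haveI : Projective (S₀.map (F S)).X₂ := inferInstanceAs (Projective ((F S).obj S₀.X₂))
  have hn : 1 + 0 = 1 := by omega
  constructor
  · intro y
    obtain ⟨y', rfl⟩ := Ext.contravariant_sequence_exact₃ hS' ((F S).obj Y) y
      (Ext.eq_zero_of_projective _) hn
    obtain ⟨e', s, hs⟩ := hK.1 y'
    refine ⟨hS.extClass.comp e' hn, s, ?_⟩
    rw [μ_δ S hS, ← hs]
    exact (Ext.comp_smul _ _ _ _).symm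
  · intro e
    constructor
    · intro h
      obtain ⟨e', rfl⟩ := Ext.contravariant_sequence_exact₃ hS Y e
        (Ext.eq_zero_of_projective _) hn
      rw [μ_δ] at h
      obtain ⟨z, hz⟩ := Ext.contravariant_sequence_exact₁ hS' ((F S).obj Y) (μ S e') hn h
      obtain ⟨z₀, t, ht⟩ := hP.1 z
      let e'' : Ext S₀.X₁ Y 0 := (t : R) • e' - (Ext.mk₀ S₀.f).comp z₀ (zero_add 0)
      have h1 : μ S e'' = 0 := by
        rw [μ_sub, μ_smul, ← hz]
        change _ - ((Ext.mk₀ S₀.f).comp z₀ (zero_add 0)).mapExactFunctor (F S) = 0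
        rw [Ext.mapExactFunctor_comp, Ext.mapExactFunctor_mk₀]
        change _ - (Ext.mk₀ ((F S).map S₀.f)).comp (μ S z₀) (zero_add 0) = 0
        rw [← ht, Ext.comp_smul]
        exact sub_self _
      obtain ⟨s, hs⟩ := (hK.2 e'').1 h1
      refine ⟨s * t, ?_⟩
      have h2 : (s : R) • ((t : R) • e') = (s : R) • (Ext.mk₀ S₀.f).comp z₀ (zero_add 0) := by
        have : (s : R) • e'' = (s : R) • ((t : R) • e') -
            (s : R) • (Ext.mk₀ S₀.f).comp z₀ (zero_add 0) := smul_sub _ _ _
        rw [this] at hs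
        exact sub_eq_zero.1 hs
      rw [Submonoid.coe_mul, mul_smul, ← Ext.comp_smul, ← Ext.comp_smul, h2, Ext.comp_smul,
        hS.extClass_comp_assoc z₀ (h := hn), smul_zero]
    · rintro ⟨s, hs⟩
      exact μ_eq_zero_of_smul S e s hs

end step

theorem loc_all [IsNoetherianRing R] (Y : ModuleCat.{u} R) (n : ℕ) :
    ∀ (X : ModuleCat.{u} R) [Module.Finite R X], Loc S X Y n := by
  induction n using Nat.strong_induction_on with
  | _ n ih =>
    intro X _
    haveI : Module.FinitePresentation R X := Module.finitePresentation_of_finite R X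
    match n, ih with
    | 0, _ => exact loc_zero S X Y
    | (m + 1), ih =>
      obtain ⟨k, p, hp⟩ := Module.Finite.exists_fin' R X
      have hip : Function.Exact (LinearMap.ker p).subtype p := LinearMap.exact_subtype_ker_map p
      have hS := sc_shortExact R (LinearMap.ker p).subtype p (Submodule.injective_subtype _) hip hp
      haveI : Projective (sc R (LinearMap.ker p).subtype p hip).X₂ :=
        (IsProjective.iff_projective (R := R) (Fin k → R)).1 inferInstance
      haveI : Projective ((F S).obj (sc R (LinearMap.ker p).subtype p hip).X₂) :=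
        (F S).projective_obj _
      haveI : Module.Finite R (sc R (LinearMap.ker p).subtype p hip).X₁ := by
        change Module.Finite R (LinearMap.ker p)
        infer_instance
      haveI : Module.FinitePresentation R (sc R (LinearMap.ker p).subtype p hip).X₂ := by
        change Module.FinitePresentation R (Fin k → R)
        infer_instance
      match m, ih with
      | 0, ih =>
        exact loc_step_one S hS Y (ih 0 (by omega) (sc R (LinearMap.ker p).subtype p hip).X₁)
          (loc_zero S (sc R (LinearMap.ker p).subtype p hip).X₂ Y)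
      | (m' + 1), ih =>
        exact loc_step_succ S hS Y m'
          (ih (m' + 1) (by omega) (sc R (LinearMap.ker p).subtype p hip).X₁)

theorem main (R : Type u) [CommRing R] [IsNoetherianRing R]
    (S : Submonoid R) (M N : ModuleCat.{u} R) [Module.Finite R M] [Module.Finite R N] (i : ℕ) :
    (∀ y : Abelian.Ext ((ModuleCat.localizedModuleFunctor.{u} S).obj M) ((ModuleCat.localizedModuleFunctor.{u} S).obj N) i,
        ∃ (e : Abelian.Ext M N i) (s : S),
          algebraMap R (Localization S) (s : R) • y = (ModuleCat.localizedModuleFunctor.{u} S).mapExtAddHom M N i e) ∧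
      (∀ e : Abelian.Ext M N i,
        (ModuleCat.localizedModuleFunctor.{u} S).mapExtAddHom M N i e = 0 ↔ ∃ s : S, (s : R) • e = 0) :=
  loc_all S N i M



/-- Let R be a Noetherian commutative ring, S a multiplicative subset of R, and M, N finitely generated
R-modules. For i ≥ 0 consider the map Ext^i_R(M, N) → Ext^i_{S⁻¹R}(S⁻¹M, S⁻¹N) induced on Ext groups
(computed in the categories of modules) by the exact localization functor M ↦ S⁻¹M. Then this map
exhibits its target as the localization S⁻¹ Ext^i_R(M, N): every element of the target, after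
multiplication by some s ∈ S, is the image of an element of Ext^i_R(M, N), and an element of
Ext^i_R(M, N) maps to zero if and only if it is annihilated by some element of S. (Equivalently, the
induced map identifies S⁻¹Ext^i_R(M, N) with Ext^i_{S⁻¹R}(S⁻¹M, S⁻¹N).) -/
theorem result (R : Type u) [CommRing R] [IsNoetherianRing R]
    (S : Submonoid R) (M N : ModuleCat.{u} R) [Module.Finite R M] [Module.Finite R N] (i : ℕ) :
    (∀ y : Abelian.Ext ((ModuleCat.localizedModuleFunctor.{u} S).obj M) ((ModuleCat.localizedModuleFunctor.{u} S).obj N) i,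
        ∃ (e : Abelian.Ext M N i) (s : S),
          algebraMap R (Localization S) (s : R) • y = (ModuleCat.localizedModuleFunctor.{u} S).mapExtAddHom M N i e) ∧
      (∀ e : Abelian.Ext M N i,
        (ModuleCat.localizedModuleFunctor.{u} S).mapExtAddHom M N i e = 0 ↔ ∃ s : S, (s : R) • e = 0) := by
  exact main R S M N i

end Groth.Agent.S14412
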