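import Groth.Statements.S14413
import Mathlib


set_option autoImplicit false
universe u
open CategoryTheory CategoryTheory.Limits
open CAlg

namespace Groth.Agent.S14413

set_option linter.style.haveILetI false

open CategoryTheory CategoryTheory.Limits

variable {R : Type u} [CommRing R]

section splice

variable {S : ShortComplex (ModuleCat.{u} R)} (hS : S.ShortExact) (Q : ProjectiveResolution S.X₁)

/-- augmentation of `Q` -/
noncomputable def aug : Q.complex.X 0 ⟶ S.X₁ := Q.π.f 0

theorem d_aug : Q.complex.d 1 0 ≫ aug Q = 0 := Q.complex_d_comp_π_f_zero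

instance aug_epi : Epi (aug Q) := inferInstanceAs (Epi (Q.π.f 0))

theorem exact_aug : (ShortComplex.mk (Q.complex.d 1 0) (aug Q) (d_aug Q)).Exact := Q.exact₀

/-- spliced complex -/
noncomputable def spliceCx : ChainComplex (ModuleCat.{u} R) ℕ :=
  Q.complex.augment (aug Q ≫ S.f) (by
    rw [← Category.assoc, d_aug, zero_comp])

theorem spliceCx_d_one_zero : (spliceCx Q).d 1 0 = aug Q ≫ S.f :=
  ChainComplex.augment_d_one_zero _ _ _

theorem spliceCx_d_succ (i j : ℕ) : (spliceCx Q).d (i + 1) (j + 1) = Q.complex.d i j :=
  ChainComplex.augment_d_succ_succ _ _ _ i j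

/-- augmentation -/
noncomputable def spliceπ : spliceCx Q ⟶ (ChainComplex.single₀ (ModuleCat.{u} R)).obj S.X₃ :=
  ((spliceCx Q).toSingle₀Equiv _).symm ⟨S.g, by
    change (aug Q ≫ S.f) ≫ S.g = 0
    rw [Category.assoc, S.zero, comp_zero]⟩

theorem spliceπ_f_zero : (spliceπ Q).f 0 = S.g := by
  unfold spliceπ
  exact ChainComplex.toSingle₀Equiv_symm_apply_f_zero _ _

include hS in
set_option backward.defeqAttrib.useBackward true in
set_option backward.isDefEq.respectTransparency false in
theorem quasiIso_spliceπ : QuasiIso (spliceπ Q) where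
  quasiIsoAt m := by
    haveI := hS.mono_f
    haveI := hS.epi_g
    match m with
    | 0 =>
      rw [ChainComplex.quasiIsoAt₀_iff, ShortComplex.quasiIso_iff_of_zeros' _ rfl rfl rfl]
      constructor
      · rw [ShortComplex.moduleCat_exact_iff_range_eq_ker]
        dsimp
        rw [spliceπ_f_zero, spliceCx_d_one_zero]
        have h1 := (ShortComplex.moduleCat_exact_iff_range_eq_ker _).1 hS.exact
        rw [← h1]
        have hsurj : Function.Surjective (aug Q) :=
          (ModuleCat.epi_iff_surjective _).1 inferInstance
        rw [ModuleCat.hom_comp, LinearMap.range_comp, LinearMap.range_eq_top.2 hsurj,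
          Submodule.map_top]
      · dsimp
        rw [spliceπ_f_zero]
        infer_instance
    | 1 =>
      rw [quasiIsoAt_iff_exactAt' (hL := ChainComplex.exactAt_succ_single_obj ..),
          HomologicalComplex.exactAt_iff' _ 2 1 0 (by simp) (by simp)]
      rw [ShortComplex.moduleCat_exact_iff_range_eq_ker]
      dsimp
      rw [spliceCx_d_one_zero, spliceCx_d_succ Q 1 0]
      have h1 := (ShortComplex.moduleCat_exact_iff_range_eq_ker _).1 (exact_aug Q)
      dsimp at h1
      rw [h1, ModuleCat.hom_comp, LinearMap.ker_comp]
      have hinj : Function.Injective S.f := (ModuleCat.mono_iff_injective _).1 inferInstance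
      rw [LinearMap.ker_eq_bot.2 hinj, Submodule.comap_bot]
    | (m + 2) =>
      rw [quasiIsoAt_iff_exactAt' (hL := ChainComplex.exactAt_succ_single_obj ..),
          HomologicalComplex.exactAt_iff' _ (m + 3) (m + 2) (m + 1) (by simp) (by simp)]
      have h1 := Q.complex_exactAt_succ m
      rw [HomologicalComplex.exactAt_iff' _ (m + 2) (m + 1) m (by simp) (by simp)] at h1
      rw [ShortComplex.moduleCat_exact_iff_range_eq_ker] at h1 ⊢
      dsimp at h1 ⊢
      rw [spliceCx_d_succ Q (m + 2) (m + 1), spliceCx_d_succ Q (m + 1) m]
      exact h1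

include hS in
/-- spliced resolution -/
theorem exists_splice [Projective S.X₂] :
    ∃ Q' : ProjectiveResolution S.X₃, ∀ i : ℕ, IsZero (Q.complex.X i) →
      IsZero (Q'.complex.X (i + 1)) := by
  haveI := quasiIso_spliceπ hS Q
  refine ⟨{ complex := spliceCx Q
            projective := fun n => by
              match n with
              | 0 => exact inferInstanceAs (Projective S.X₂)
              | (n + 1) => exact inferInstanceAs (Projective (Q.complex.X n))
            π := spliceπ Q }, ?_⟩
  intro i hi
  exact hi

end splice

theorem exists_res (d : ℕ) : ∀ (M : ModuleCat.{u} R), HasProjectiveDimensionLE M d →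
    ∃ P : ProjectiveResolution M, ∀ i : ℕ, d < i → IsZero (P.complex.X i) := by
  induction d with
  | zero =>
    intro M hM
    haveI : Projective M := (projective_iff_hasProjectiveDimensionLE_zero M).2 hM
    refine ⟨ProjectiveResolution.self M, ?_⟩
    intro i hi
    obtain ⟨j, rfl⟩ : ∃ j, i = j + 1 := ⟨i - 1, by omega⟩
    exact HomologicalComplex.isZero_single_obj_X _ _ _ _ (by omega)
  | succ d ih =>
    intro M hM
    let S : ShortComplex (ModuleCat.{u} R) :=
      ShortComplex.mk (kernel.ι (Projective.π M)) (Projective.π M) (kernel.condition _)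
    have hS : S.ShortExact := { exact := ShortComplex.exact_kernel _ }
    haveI : Projective S.X₂ := inferInstanceAs (Projective (Projective.over M))
    have hM' : HasProjectiveDimensionLT S.X₃ (d + 2) := hM
    have hK : HasProjectiveDimensionLE S.X₁ d := (hS.hasProjectiveDimensionLT_X₃_iff d ‹_›).1 hM'
    obtain ⟨Q, hQ⟩ := ih S.X₁ hK
    obtain ⟨Q', hQ'⟩ := exists_splice hS Q
    refine ⟨Q', ?_⟩
    intro i hi
    obtain ⟨j, rfl⟩ : ∃ j, i = j + 1 := ⟨i - 1, by omega⟩
    exact hQ' j (hQ j (by omega))

theorem main (M : ModuleCat.{u} R) (d : ℕ) :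
    HasProjectiveDimensionLE M d ↔
      ∃ P : ProjectiveResolution M, ∀ i : ℕ, d < i → IsZero (P.complex.X i) := by
  constructor
  · exact exists_res d M
  · rintro ⟨P, hP⟩
    change HasProjectiveDimensionLT M (d + 1)
    apply HasProjectiveDimensionLT.mk
    intro i hi Y e
    obtain ⟨f, hf, rfl⟩ := P.extMk_surjective e (i + 1) rfl
    have : f = 0 := (hP i (by omega)).eq_of_src _ _
    subst this
    exact P.extMk_zero _ _



/-- Let R be a commutative ring, M an R-module and d ≥ 0. Then M has projective dimension at most d in
the sense that Ext^i_R(M, N) = 0 for every i > d and every R-module N (Mathlib's Ext-vanishing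
definition) if and only if M has a projective resolution of length at most d, i.e. a projective
resolution P whose terms P_i are zero for all i > d (the definition of pd_R(M) ≤ d by resolutions). -/
theorem result (R : Type u) [CommRing R]
    (M : ModuleCat.{u} R) (d : ℕ) :
    HasProjectiveDimensionLE M d ↔
      ∃ P : ProjectiveResolution M, ∀ i : ℕ, d < i → IsZero (P.complex.X i) := by
  exact main M d

end Groth.Agent.S14413
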