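import Groth.Statements.S14415
import Mathlib
import Groth.Agent.Lib.Helper17.AssFlat
import Groth.Agent.Lib.Helper15.CokerUnit2
import Groth.Agent.Lib.Helper15.Regular
-- import your own Groth.Agent.* helpers here

set_option autoImplicit false
universe u
open CategoryTheory AlgebraicGeometry
open FlatMor

namespace Groth.Agent.S14415

open IsLocalRing Groth.Agent.Lib.helper17 Groth.Agent.Lib.helper17.AssFlat
open Groth.Agent.Lib.helper16

/-- a generization of `y` whose local ring has dimension zero corresponds to the zero ideal of the
(domain) local ring at `y` -/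
theorem eq_bot_of_dim_zero {Y : Scheme.{u}} (y : Y) [IsDomain (Y.presheaf.stalk y)]
    (q : PrimeSpectrum (Y.presheaf.stalk y))
    (h0 : ringKrullDim (Y.presheaf.stalk (Y.fromSpecStalk y q)) = 0) : q.asIdeal = ⊥ := by
  have h : Y.fromSpecStalk y q ⤳ y := by
    have : Y.fromSpecStalk y q ∈ Set.range (Y.fromSpecStalk y) := ⟨q, rfl⟩
    rwa [Scheme.range_fromSpecStalk] at this
  letI := (Y.presheaf.stalkSpecializes h).hom.toAlgebra
  haveI hloc := OrdGen.isLocalization_stalkSpecializes h
  have hpP := pOf_fromSpecStalk y q h
  have h1 := IsLocalization.AtPrime.ringKrullDim_eq_height (OrdGen.pOf h)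
    (Y.presheaf.stalk (Y.fromSpecStalk y q))
  rw [h0] at h1
  have h2 : (OrdGen.pOf h).height = 0 := by
    have : ((OrdGen.pOf h).height : WithBot ℕ∞) = 0 := h1.symm
    exact_mod_cast this
  rw [Ideal.height_eq_zero_iff_eq_bot] at h2
  rw [← hpP, h2]

theorem flat_of_ass {C C' : Scheme.{u}} (f : C ⟶ C') [IsLocallyNoetherian C]
    (hreg : ∀ y : C', IsRegularLocalRing (C'.presheaf.stalk y))
    (hdim : ∀ y : C', ringKrullDim (C'.presheaf.stalk y) ≤ 1)
    (hass : ∀ x : C, Curv2.IsAssPoint (Coh.structureModule C) x →
      ringKrullDim (C'.presheaf.stalk (f.base x)) = 0) : Flat f := by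
  apply Flat.of_stalkMap
  intro x
  haveI := hreg (f.base x)
  haveI : IsDomain (C'.presheaf.stalk (f.base x)) :=
    Groth.Agent.Lib.helper15.isDomain_of_isRegularLocalRing _
  haveI := DedekindFlat.isPrincipalIdealRing_of_regular_of_dim_le_one _ (hdim (f.base x))
  haveI : IsDedekindDomain (C'.presheaf.stalk (f.base x)) := inferInstance
  letI : Algebra (C'.presheaf.stalk (f.base x)) (C.presheaf.stalk x) :=
    (f.stalkMap x).hom.toAlgebra
  show Module.Flat (C'.presheaf.stalk (f.base x)) (C.presheaf.stalk x)
  rw [IsDedekindDomain.flat_iff_torsion_eq_bot, Submodule.eq_bot_iff]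
  intro b hb
  rw [Submodule.mem_torsion_iff] at hb
  obtain ⟨⟨c, hc⟩, hcb⟩ := hb
  have hcb' : (f.stalkMap x).hom c * b = 0 := hcb
  have hc0 : c ≠ 0 := nonZeroDivisors.ne_zero hc
  by_contra hb0
  obtain ⟨P, hP, hle⟩ :=
    exists_le_isAssociatedPrime_of_isNoetherianRing (C.presheaf.stalk x) b hb0
  haveI := hP.isPrime
  let P' : PrimeSpectrum (C.presheaf.stalk x) := ⟨P, inferInstance⟩
  have hassP : Curv2.IsAssPoint (Coh.structureModule C) (C.fromSpecStalk x P') :=
    (isAssPoint_structureModule_iff _).mpr
      (isAssociatedPrime_maximalIdeal_of_fromSpecStalk x P' hP)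
  have hη := hass _ hassP
  have hsq : f.base (C.fromSpecStalk x P') =
      C'.fromSpecStalk (f.base x) (Spec.map (f.stalkMap x) P') := by
    have := Scheme.SpecMap_stalkMap_fromSpecStalk (f := f) (x := x)
    have h := congrArg (fun g => g.base P') this
    simp only [Scheme.Hom.comp_base, TopCat.hom_comp, ContinuousMap.comp_apply] at h
    exact h.symm
  rw [hsq] at hη
  have hbot := eq_bot_of_dim_zero (f.base x) _ hη
  have hcP : (f.stalkMap x).hom c ∈ P := by
    apply hle
    rw [Submodule.mem_colon_singleton, Submodule.mem_bot]
    exact hcb'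
  have : c ∈ (Spec.map (f.stalkMap x) P').asIdeal := hcP
  rw [hbot] at this
  exact hc0 this

theorem main
    (C C' : Scheme.{u}) (f : C ⟶ C') [IsFinite f] [IsLocallyNoetherian C']
    (hreg : ∀ y : C', IsRegularLocalRing (C'.presheaf.stalk y))
    (hdim : ∀ y : C', ringKrullDim (C'.presheaf.stalk y) ≤ 1)
    (hass : ∀ x : C, Curv2.IsAssPoint (Coh.structureModule C) x →
      ringKrullDim (C'.presheaf.stalk (f.base x)) = 0) :
    FlatMod.IsFinLocFree ((Coh.push f).obj (Coh.structureModule C)) := by
  haveI : LocallyOfFiniteType f := inferInstance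
  haveI : IsLocallyNoetherian C := LocallyOfFiniteType.isLocallyNoetherian f
  haveI := flat_of_ass f hreg hdim hass
  exact Groth.Agent.Lib.helper15.CokerUnit.isFinLocFree_pushO f


/-- Let f : C → C' be a finite morphism of schemes, with C' locally Noetherian and all local rings of C'
regular of dimension at most one, such that every associated point x of C (a point whose maximal
ideal is an associated prime of O_{C,x}) maps to a point of C' whose local ring is zero-dimensional,
that is, to a generic point of an irreducible component of C'. Then f_* O_C is finite locally free.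
(The published statement takes C' regular Noetherian of pure dimension one and C Noetherian of pure
dimension one without embedded points; these hypotheses imply that every associated point of C maps
to a generic point of C'. This row assumes only that condition, allows C' locally Noetherian with
regular local rings of dimension at most one, and puts no condition on the dimension of C; the
argument is local on C'.) -/
theorem result
    (C C' : Scheme.{u}) (f : C ⟶ C') [IsFinite f] [IsLocallyNoetherian C']
    (hreg : ∀ y : C', IsRegularLocalRing (C'.presheaf.stalk y))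
    (hdim : ∀ y : C', ringKrullDim (C'.presheaf.stalk y) ≤ 1)
    (hass : ∀ x : C, Curv2.IsAssPoint (Coh.structureModule C) x →
      ringKrullDim (C'.presheaf.stalk (f.base x)) = 0) :
    FlatMod.IsFinLocFree ((Coh.push f).obj (Coh.structureModule C)) := by
  exact main C C' f hreg hdim hass

end Groth.Agent.S14415
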