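import Groth.Statements.S14416
import Mathlib
-- import your own Groth.Agent.* helpers here

set_option autoImplicit false
universe u
open scoped TensorProduct
open CAlg

namespace Groth.Agent.S14416

section helpers

theorem main
    (B A : Type u) [CommRing B] [CommRing A] [Algebra B A] [Module.Finite B A]
    (h : ∀ p : PrimeSpectrum B,
      Module.finrank p.asIdeal.ResidueField (p.asIdeal.ResidueField ⊗[B] A) ≤ 1) :
    Function.Surjective (algebraMap B A) := by
  set N : Submodule B A := LinearMap.range (Algebra.linearMap B A) with hN
  have hsub : Subsingleton (A ⧸ N) := by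
    rw [← Module.support_eq_empty_iff (R := B), Set.eq_empty_iff_forall_notMem]
    intro p hp
    rw [Module.mem_support_iff_nontrivial_residueField_tensorProduct] at hp
    -- every element of κ ⊗ (A/N) is zero
    have hzero : ∀ w : p.asIdeal.ResidueField ⊗[B] (A ⧸ N), w = 0 := by
      intro w
      obtain ⟨z, rfl⟩ := LinearMap.lTensor_surjective p.asIdeal.ResidueField
        (Submodule.mkQ_surjective N) w
      -- z = c • (1 ⊗ 1)
      have hz : ∃ c : p.asIdeal.ResidueField, z = c ⊗ₜ[B] (1 : A) := by
        rcases subsingleton_or_nontrivial (p.asIdeal.ResidueField ⊗[B] A) with hs | hn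
        · exact ⟨0, Subsingleton.elim _ _⟩
        · have h1 : Module.finrank p.asIdeal.ResidueField (p.asIdeal.ResidueField ⊗[B] A) = 1 :=
            le_antisymm (h p) Module.finrank_pos
          have hbij := (Algebra.finrank_eq_one_iff_bijective_algebraMap).1 h1
          obtain ⟨c, hc⟩ := hbij.2 z
          refine ⟨c, ?_⟩
          rw [← hc, Algebra.TensorProduct.algebraMap_apply]
          simp
      obtain ⟨c, rfl⟩ := hz
      rw [LinearMap.lTensor_tmul]
      have : N.mkQ (1 : A) = 0 := by
        rw [Submodule.mkQ_apply, Submodule.Quotient.mk_eq_zero]
        exact ⟨1, by simp⟩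
      rw [this, TensorProduct.tmul_zero]
    obtain ⟨x, y, hxy⟩ := hp
    exact hxy ((hzero x).trans (hzero y).symm)
  have htop : N = ⊤ := Submodule.Quotient.subsingleton_iff.1 hsub
  intro a
  have : a ∈ N := htop ▸ Submodule.mem_top
  obtain ⟨b, hb⟩ := this
  exact ⟨b, hb⟩


end helpers

/-- Let B → A be a ring map with A a finitely generated B-module such that for every prime ideal p of B
the fibre κ(p) ⊗_B A has dimension at most one over the residue field κ(p). Then B → A is
surjective. In scheme language: a finite morphism whose degree at every point of the target is 0 or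
1 is a closed immersion. (The published statement assumes the two schemes Noetherian; that
hypothesis plays no role and is dropped here.) -/
theorem result
    (B A : Type u) [CommRing B] [CommRing A] [Algebra B A] [Module.Finite B A]
    (h : ∀ p : PrimeSpectrum B,
      Module.finrank p.asIdeal.ResidueField (p.asIdeal.ResidueField ⊗[B] A) ≤ 1) :
    Function.Surjective (algebraMap B A) := by
  exact main B A h

end Groth.Agent.S14416
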