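import Groth.Statements.S14418
import Mathlib
import Groth.Agent.Lib.Helper10.Devissage

set_option autoImplicit false
universe u
open CategoryTheory
open CAlg

namespace Groth.Agent.S14418

set_option linter.style.haveILetI false

open CategoryTheory CategoryTheory.Limits Groth.Agent.Lib.helper10.Devissage

theorem main {B A : Type u} [CommRing B] [CommRing A]
    [IsNoetherianRing B] [IsLocalRing B] [IsNoetherianRing A] [IsLocalRing A] [Algebra B A]
    [IsLocalHom (algebraMap B A)] (T : ModuleCat.{u} B ⥤ ModuleCat.{u} A) [T.Additive]
    (hlin : ∀ (N : ModuleCat.{u} B) (b : B),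
      T.map (ModuleCat.ofHom (b • (LinearMap.id : N →ₗ[B] N))) =
        ModuleCat.ofHom (algebraMap B A b • (LinearMap.id : T.obj N →ₗ[A] T.obj N)))
    (hfin : ∀ N : ModuleCat.{u} B, Module.Finite B N → Module.Finite A (T.obj N))
    (hex : ∀ S : ShortComplex (ModuleCat.{u} B), S.ShortExact → Module.Finite B S.X₁ →
      Module.Finite B S.X₂ → Module.Finite B S.X₃ → (S.map T).Exact)
    (h0 : Limits.IsZero (T.obj (ModuleCat.of B (B ⧸ IsLocalRing.maximalIdeal B))))
    (N : ModuleCat.{u} B) [Module.Finite B N] : Limits.IsZero (T.obj N) := by
  let Q : ModuleCat.{u} B → Prop := fun L => Module.Finite B L → IsZero (T.obj L)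
  have zero : ∀ L : ModuleCat.{u} B, IsZero L → Q L := fun L hL _ => T.map_isZero hL
  have iso : ∀ L L' : ModuleCat.{u} B, (L ≅ L') → Q L → Q L' := by
    intro L L' e hL hfin'
    haveI := hfin'
    have : Module.Finite B L := Module.Finite.equiv e.symm.toLinearEquiv
    exact (hL this).of_iso (T.mapIso e.symm)
  have mid : ∀ S : ShortComplex (ModuleCat.{u} B), S.ShortExact → Q S.X₁ → Q S.X₃ → Q S.X₂ := by
    intro S hS h1 h3 h2
    haveI := h2
    haveI : IsNoetherian B S.X₂ := inferInstance
    have f1 : Module.Finite B S.X₁ :=
      Module.Finite.of_injective S.f.hom ((ModuleCat.mono_iff_injective _).1 hS.mono_f)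
    have f3 : Module.Finite B S.X₃ :=
      Module.Finite.of_surjective S.g.hom ((ModuleCat.epi_iff_surjective _).1 hS.epi_g)
    have hE := hex S hS f1 h2 f3
    exact hE.isZero_X₂ ((h1 f1).eq_of_src _ _) ((h3 f3).eq_of_tgt _ _)
  -- all quotients by primes
  have hprime : ∀ p : Ideal B, p.IsPrime → Q (ModuleCat.of B (B ⧸ p)) := by
    intro p hp
    induction p using WellFoundedGT.induction with
    | ind p IH =>
      intro _
      by_cases hpm : p = IsLocalRing.maximalIdeal B
      · rw [hpm]; exact h0
      -- choose b in the maximal ideal outside p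
      have hlt : p < IsLocalRing.maximalIdeal B :=
        lt_of_le_of_ne (IsLocalRing.le_maximalIdeal hp.ne_top) hpm
      obtain ⟨b, hbm, hbp⟩ := SetLike.exists_of_lt hlt
      let L := B ⧸ (p ⊔ Ideal.span {b})
      have hL : IsZero (T.obj (ModuleCat.of B L)) := by
        refine of_lt_annihilator Q zero iso mid p (fun q hq hpq => IH q hpq hq) L inferInstance
          ?_ inferInstance
        rw [Ideal.annihilator_quotient]
        refine lt_of_le_of_ne le_sup_left ?_
        intro h
        apply hbp
        rw [h]
        exact Ideal.mem_sup_right (Ideal.mem_span_singleton_self b)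
      -- the short exact sequence
      let μ : (B ⧸ p) →ₗ[B] (B ⧸ p) := b • LinearMap.id
      let π : (B ⧸ p) →ₗ[B] L := Submodule.factor (le_sup_left : p ≤ p ⊔ Ideal.span {b})
      have hμ : Function.Injective μ := by
        rw [← LinearMap.ker_eq_bot, LinearMap.ker_eq_bot']
        intro x hx
        obtain ⟨y, rfl⟩ := Ideal.Quotient.mk_surjective x
        have h1 : Ideal.Quotient.mk p (b * y) = 0 := by
          rw [map_mul]
          have : μ (Ideal.Quotient.mk p y) = Ideal.Quotient.mk p b * Ideal.Quotient.mk p y := by
            change b • (Ideal.Quotient.mk p y) = _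
            rw [Algebra.smul_def]; rfl
          rw [← this]; exact hx
        rw [Ideal.Quotient.eq_zero_iff_mem] at h1 ⊢
        exact (hp.mem_or_mem h1).resolve_left hbp
      have hπ : Function.Surjective π := Submodule.factor_surjective _
      have hexact : Function.Exact μ π := by
        intro y
        constructor
        · intro hy
          obtain ⟨z, rfl⟩ := Ideal.Quotient.mk_surjective y
          have : z ∈ p ⊔ Ideal.span {b} := by
            have h1 : (Ideal.Quotient.mk (p ⊔ Ideal.span {b})) z = 0 := hy
            exact Ideal.Quotient.eq_zero_iff_mem.1 h1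
          obtain ⟨z1, hz1, z2, hz2, rfl⟩ := Submodule.mem_sup.1 this
          obtain ⟨c, rfl⟩ := Ideal.mem_span_singleton'.1 hz2
          refine ⟨Ideal.Quotient.mk p c, ?_⟩
          change b • (Ideal.Quotient.mk p c) = _
          rw [Algebra.smul_def, map_add, Ideal.Quotient.eq_zero_iff_mem.2 hz1, zero_add, map_mul,
            mul_comm]
          rfl
        · rintro ⟨z, rfl⟩
          obtain ⟨c, rfl⟩ := Ideal.Quotient.mk_surjective z
          have : μ (Ideal.Quotient.mk p c) = Ideal.Quotient.mk p (b * c) := by
            change b • (Ideal.Quotient.mk p c) = _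
            rw [Algebra.smul_def, map_mul]; rfl
          rw [this]
          change Ideal.Quotient.mk (p ⊔ Ideal.span {b}) (b * c) = 0
          rw [Ideal.Quotient.eq_zero_iff_mem]
          exact Ideal.mem_sup_right (Ideal.mul_mem_right _ _ (Ideal.mem_span_singleton_self b))
      have hS : (ModuleCat.shortComplexOfCompEqZero μ π hexact.linearMap_comp_eq_zero).ShortExact :=
        ModuleCat.shortComplex_shortExact _ hexact hμ hπ
      have hE := hex _ hS (inferInstanceAs (Module.Finite B (B ⧸ p)))
        (inferInstanceAs (Module.Finite B (B ⧸ p))) (inferInstanceAs (Module.Finite B L))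
      -- `T(μ)` is an epimorphism
      let X := T.obj (ModuleCat.of B (B ⧸ p))
      have hepi : Epi (T.map (ModuleCat.ofHom μ)) := hE.epi_f (hL.eq_of_tgt _ _)
      rw [hlin (ModuleCat.of B (B ⧸ p)) b, ModuleCat.epi_iff_surjective] at hepi
      haveI : Module.Finite A X := hfin _ (inferInstanceAs (Module.Finite B (B ⧸ p)))
      have hbA : algebraMap B A b ∈ IsLocalRing.maximalIdeal A := by
        rw [IsLocalRing.mem_maximalIdeal, mem_nonunits_iff]
        intro hu
        exact (IsLocalRing.mem_maximalIdeal b).1 hbm (isUnit_of_map_unit (algebraMap B A) b hu)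
      have htop : (⊤ : Submodule A X) = ⊥ := by
        refine Submodule.eq_bot_of_le_smul_of_le_jacobson_bot (IsLocalRing.maximalIdeal A) ⊤
          (Module.finite_def.1 inferInstance) ?_ (IsLocalRing.maximalIdeal_le_jacobson ⊥)
        intro x _
        obtain ⟨y, hy⟩ := hepi x
        have : x = algebraMap B A b • y := hy.symm
        rw [this]
        exact Submodule.smul_mem_smul hbA Submodule.mem_top
      haveI : Subsingleton X := subsingleton_of_forall_eq 0 (fun x => by
        have hx : x ∈ (⊤ : Submodule A X) := Submodule.mem_top
        rw [htop] at hx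
        exact (Submodule.mem_bot A).1 hx)
      exact ModuleCat.isZero_of_subsingleton X
  exact of_finite Q zero iso mid hprime N inferInstance inferInstance



/-- Let B → A be a local homomorphism of Noetherian local rings, n the maximal ideal of B, and T an
additive functor from B-modules to A-modules which is B-linear (T applied to multiplication by b ∈ B
is multiplication by the image of b in A), carries finitely generated B-modules to finitely
generated A-modules, and is half-exact on finitely generated modules (every short exact sequence of
finitely generated B-modules goes to a sequence exact at its middle term). If T(B/n) = 0 then T(N) =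
0 for every finitely generated B-module N. (The published statement takes T defined on finitely
generated modules only; here T is defined on all B-modules while every hypothesis and the conclusion
concern finitely generated modules.) -/
theorem result {B A : Type u} [CommRing B] [CommRing A]
    [IsNoetherianRing B] [IsLocalRing B] [IsNoetherianRing A] [IsLocalRing A] [Algebra B A]
    [IsLocalHom (algebraMap B A)] (T : ModuleCat.{u} B ⥤ ModuleCat.{u} A) [T.Additive]
    (hlin : ∀ (N : ModuleCat.{u} B) (b : B),
      T.map (ModuleCat.ofHom (b • (LinearMap.id : N →ₗ[B] N))) =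
        ModuleCat.ofHom (algebraMap B A b • (LinearMap.id : T.obj N →ₗ[A] T.obj N)))
    (hfin : ∀ N : ModuleCat.{u} B, Module.Finite B N → Module.Finite A (T.obj N))
    (hex : ∀ S : ShortComplex (ModuleCat.{u} B), S.ShortExact → Module.Finite B S.X₁ →
      Module.Finite B S.X₂ → Module.Finite B S.X₃ → (S.map T).Exact)
    (h0 : Limits.IsZero (T.obj (ModuleCat.of B (B ⧸ IsLocalRing.maximalIdeal B))))
    (N : ModuleCat.{u} B) [Module.Finite B N] : Limits.IsZero (T.obj N) := by
  exact main T hlin hfin hex h0 N

end Groth.Agent.S14418
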