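import Groth.Statements.S14421
import Mathlib
-- import your own Groth.Agent.* helpers here

set_option autoImplicit false
universe u v
open CategoryTheory
open HomAlg

namespace Groth.Agent.S14421

section helpers
open CategoryTheory HomologicalComplex

theorem main {R : Type u} [Ring R]
    (K J : CochainComplex (ModuleCat.{v} R) ℤ) (φ : K ⟶ J) (p : ℤ) [Epi (φ.f (p - 1))] :
    Epi (HomologicalComplex.homologyMap φ p) ↔ Epi (HomologicalComplex.cyclesMap φ p) := by
  have hnat := HomologicalComplex.homologyπ_naturality φ p
  have htoc : K.toCycles (p - 1) p ≫ cyclesMap φ p = φ.f (p - 1) ≫ J.toCycles (p - 1) p := by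
    rw [← cancel_mono (J.iCycles p)]
    simp
  constructor
  · intro h
    rw [ModuleCat.epi_iff_surjective] at h ⊢
    intro z
    obtain ⟨c, hc⟩ := h ((J.homologyπ p).hom z)
    obtain ⟨w, rfl⟩ := (ModuleCat.epi_iff_surjective (K.homologyπ p)).1 inferInstance c
    have hnat' : (J.homologyπ p).hom ((cyclesMap φ p).hom w)
        = (homologyMap φ p).hom ((K.homologyπ p).hom w) := by
      have := congrArg (fun f => f.hom w) hnat
      simp only [ModuleCat.hom_comp, LinearMap.comp_apply] at this
      exact this.symm
    have hz : (J.homologyπ p).hom (z - (cyclesMap φ p).hom w) = 0 := by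
      rw [map_sub, hnat', hc, sub_self]
    have hex : (ShortComplex.mk (J.toCycles (p - 1) p) (J.homologyπ p)
        (J.toCycles_comp_homologyπ (p - 1) p)).Exact :=
      ShortComplex.exact_of_g_is_cokernel _ (J.homologyIsCokernel (p - 1) p (by simp))
    obtain ⟨y, hy⟩ := (ShortComplex.moduleCat_exact_iff _).1 hex _ hz
    obtain ⟨x, rfl⟩ := (ModuleCat.epi_iff_surjective (φ.f (p - 1))).1 inferInstance y
    refine ⟨w + (K.toCycles (p - 1) p).hom x, ?_⟩
    have h2 : (cyclesMap φ p).hom ((K.toCycles (p - 1) p).hom x)
        = (J.toCycles (p - 1) p).hom ((φ.f (p - 1)).hom x) := by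
      have := congrArg (fun f => f.hom x) htoc
      simp only [ModuleCat.hom_comp, LinearMap.comp_apply] at this
      exact this
    rw [map_add, h2]
    change _ + (J.toCycles (p - 1) p).hom ((φ.f (p - 1)).hom x) = z
    dsimp only at hy
    rw [hy]
    abel
  · intro h
    have : Epi (cyclesMap φ p ≫ J.homologyπ p) := epi_comp _ _
    rw [← hnat] at this
    exact epi_of_epi (K.homologyπ p) _


end helpers

/-- Let φ : K → J be a morphism of cochain complexes of modules over a ring which is surjective in
degree p − 1. Then the map induced on cohomology in degree p is surjective if and only if the map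
induced on cocycles in degree p is surjective. (Stated for cochain complexes indexed by the
integers; the published statement is for three-term complexes in degrees p − 1, p, p + 1, which
embed as such complexes.) -/
theorem result {R : Type u} [Ring R]
    (K J : CochainComplex (ModuleCat.{v} R) ℤ) (φ : K ⟶ J) (p : ℤ) [Epi (φ.f (p - 1))] :
    Epi (HomologicalComplex.homologyMap φ p) ↔ Epi (HomologicalComplex.cyclesMap φ p) := by
  exact main K J φ p

end Groth.Agent.S14421
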