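import Groth.Statements.S14423
import Mathlib
import Groth.Agent.Lib.Helper10.GrFree
import Groth.Agent.Lib.Helper10.NatIntGr
import Groth.Agent.Lib.Helper7.TorPres

set_option autoImplicit false
universe u
open CategoryTheory
open CAlg

namespace Groth.Agent.S14423

set_option linter.style.haveILetI false

open Groth.Agent.Lib.helper10.GrFree Groth.Agent.Lib.helper10.NatIntGr DirectSum

attribute [local instance] MvPolynomial.gradedAlgebra

theorem main (k : Type u) [Field k] (n : ℕ)
    (M : Type u) [AddCommGroup M] [Module (MvPolynomial (Fin (n + 1)) k) M]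
    [Module.Finite (MvPolynomial (Fin (n + 1)) k) M]
    (ℳ : ℕ → AddSubgroup M)
    [SetLike.GradedSMul (MvPolynomial.homogeneousSubmodule (Fin (n + 1)) k) ℳ]
    [DirectSum.Decomposition ℳ]
    (h : Limits.IsZero (((Tor (ModuleCat.{u} (MvPolynomial (Fin (n + 1)) k)) 1).obj
      (ModuleCat.of (MvPolynomial (Fin (n + 1)) k) M)).obj
      (ModuleCat.of (MvPolynomial (Fin (n + 1)) k)
        (MvPolynomial (Fin (n + 1)) k ⧸
          RingHom.ker (MvPolynomial.constantCoeff : MvPolynomial (Fin (n + 1)) k →+* k))))) :
    ∃ (ι : Type u) (b : Module.Basis ι (MvPolynomial (Fin (n + 1)) k) M),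
      ∀ i, SetLike.IsHomogeneousElem ℳ (b i) := by
  classical
  let 𝒜 := MvPolynomial.homogeneousSubmodule (Fin (n + 1)) k
  let I : Ideal (MvPolynomial (Fin (n + 1)) k) :=
    RingHom.ker (MvPolynomial.constantCoeff : MvPolynomial (Fin (n + 1)) k →+* k)
  have hneg : ∀ i : ℤ, i < 0 → ∀ x ∈ extZ 𝒜 i, x = 0 :=
    fun i hi x hx => eq_zero_of_mem_extZ_neg 𝒜 hi hx
  have hunit : ∀ x ∈ extZ 𝒜 0, x ≠ 0 → IsUnit x := by
    intro x hx hx0
    have hx' : x ∈ 𝒜 0 := by
      have := (mem_extZ_natCast 𝒜 0 x).mp (by simpa using hx)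
      exact this
    change x ∈ MvPolynomial.homogeneousSubmodule (Fin (n + 1)) k 0 at hx'
    rw [MvPolynomial.homogeneousSubmodule_zero, Submodule.mem_one] at hx'
    obtain ⟨c, rfl⟩ := hx'
    have hc : c ≠ 0 := by rintro rfl; exact hx0 (map_zero _)
    exact (IsUnit.mk0 c hc).map _
  have hI : irrel (extZ 𝒜) hneg = I := by
    ext x
    rw [mem_irrel]
    have h1 : (decompose (extZ 𝒜) x 0 : MvPolynomial (Fin (n + 1)) k) =
        MvPolynomial.homogeneousComponent 0 x := by
      have := decompose_extZ_natCast 𝒜 0 x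
      rw [Nat.cast_zero] at this
      rw [this]
      exact MvPolynomial.decomposition.decompose'_apply x 0
    rw [h1, MvPolynomial.homogeneousComponent_zero, RingHom.mem_ker,
      MvPolynomial.constantCoeff_eq]
    constructor
    · intro h0
      exact MvPolynomial.C_injective _ _ (by rw [h0, map_zero])
    · intro h0; rw [h0, map_zero]
  have hinj0 : Function.Injective (LinearMap.lTensor M I.subtype) := by
    have := (Groth.Agent.Lib.helper7.TorPres.isZero_iff_of_exact
      (A := MvPolynomial (Fin (n + 1)) k) M (MvPolynomial (Fin (n + 1)) k ⧸ I)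
      (I.subtype) (Submodule.mkQ I) (Submodule.injective_subtype I)
      (by
        rw [LinearMap.exact_iff, Submodule.ker_mkQ, Submodule.range_subtype])
      (Submodule.mkQ_surjective I)).mp h
    exact this
  have hinj : Function.Injective (LinearMap.lTensor M (irrel (extZ 𝒜) hneg).subtype) := by
    rw [hI]; exact hinj0
  obtain ⟨T, b, hb⟩ := exists_homogeneous_basis (extZ 𝒜) (extZ ℳ) hneg hunit hinj
  exact ⟨↥T, b, fun i => isHomogeneousElem_of_extZ ℳ (hb i).2⟩



/-- Graded freeness criterion: let k be a field, S = k[x_0, …, x_n] with its standard grading by degree,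
and M a finitely generated graded S-module. If Tor_1^S(M, k) = 0, where k = S/S_+ (S modulo the
ideal of polynomials with zero constant term) and Tor_1^S(M, ·) is the first left derived functor of
M ⊗_S ·, then M is free with a basis of homogeneous elements, i.e. M is isomorphic as a graded
module to a finite direct sum of shifted copies S(−d_i). (Here the module is graded in non-negative
degrees; the published statement allows any integer degrees.) -/
theorem result (k : Type u) [Field k] (n : ℕ)
    (M : Type u) [AddCommGroup M] [Module (MvPolynomial (Fin (n + 1)) k) M]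
    [Module.Finite (MvPolynomial (Fin (n + 1)) k) M]
    (ℳ : ℕ → AddSubgroup M)
    [SetLike.GradedSMul (MvPolynomial.homogeneousSubmodule (Fin (n + 1)) k) ℳ]
    [DirectSum.Decomposition ℳ]
    (h : Limits.IsZero (((Tor (ModuleCat.{u} (MvPolynomial (Fin (n + 1)) k)) 1).obj
      (ModuleCat.of (MvPolynomial (Fin (n + 1)) k) M)).obj
      (ModuleCat.of (MvPolynomial (Fin (n + 1)) k)
        (MvPolynomial (Fin (n + 1)) k ⧸
          RingHom.ker (MvPolynomial.constantCoeff : MvPolynomial (Fin (n + 1)) k →+* k))))) :
    ∃ (ι : Type u) (b : Module.Basis ι (MvPolynomial (Fin (n + 1)) k) M),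
      ∀ i, SetLike.IsHomogeneousElem ℳ (b i) := by
  exact main k n M ℳ h

end Groth.Agent.S14423
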