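import Groth.Statements.S14426
import Groth.Agent.Lib.Helper26.Kos14


set_option autoImplicit false
universe u
open Koszul3

namespace Groth.Agent.S14426


open Groth.Agent.Lib.helper26.Kos CategoryTheory

/-- Nakayama: `I N ≠ N` for a nonzero finite module over a local ring and `I ≤ 𝔪`. -/
theorem smul_top_ne_top {R : Type u} [CommRing R] [IsLocalRing R]
    (N : Type u) [AddCommGroup N] [Module R N] [Module.Finite R N] [Nontrivial N]
    (I : Ideal R) (hI : I ≤ IsLocalRing.maximalIdeal R) :
    I • (⊤ : Submodule R N) ≠ ⊤ := by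
  intro h
  have hjac : I ≤ Ideal.jacobson ⊥ := by
    rw [IsLocalRing.jacobson_eq_maximalIdeal ⊥ bot_ne_top]
    exact hI
  have := Submodule.eq_bot_of_le_smul_of_le_jacobson_bot I (⊤ : Submodule R N)
    Module.Finite.fg_top (le_of_eq h.symm) hjac
  exact top_ne_bot this


open CategoryTheory CategoryTheory.Limits in
/-- Let (R, m) be a Noetherian local ring, M a nonzero finitely generated R-module and x_1, …, x_n
elements of m generating the ideal a. Then depth(a, M) ≤ n; the Koszul cohomology H^p(x; M) vanishes
for every p < depth(a, M); and H^r(x; M) is nonzero for r = depth(a, M). (Cohomological indexing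
with H^n(x; M) = M/(x)M; in homological indexing this reads H_i = 0 for i > n − r and H_{n−r} ≠ 0.
Koszul complex realised by iterated mapping cones, as in the prelude.) -/
theorem result {R : Type u} [CommRing R] [IsNoetherianRing R] [IsLocalRing R]
    (M : Type u) [AddCommGroup M] [Module R M] [Module.Finite R M] [Nontrivial M]
    (xs : List R) (hxs : ∀ x ∈ xs, x ∈ IsLocalRing.maximalIdeal R) :
    LocCoh.idealDepth (Ideal.span {x | x ∈ xs}) M ≤ xs.length ∧
      (∀ p : ℕ, (p : ℕ∞) < LocCoh.idealDepth (Ideal.span {x | x ∈ xs}) M → IsZero (CohIII.koszulH xs (ModuleCat.of R M) p)) ∧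
      (∀ r : ℕ, LocCoh.idealDepth (Ideal.span {x | x ∈ xs}) M = r → ¬ IsZero (CohIII.koszulH xs (ModuleCat.of R M) r)) := by
  classical
  set a := Ideal.span {x | x ∈ xs} with ha
  have ham : a ≤ IsLocalRing.maximalIdeal R := by
    rw [ha, Ideal.span_le]
    exact fun x hx => hxs x hx
  have hne : a • (⊤ : Submodule R M) ≠ ⊤ := smul_top_ne_top M a ham
  have hD : LocCoh.idealDepth a M =
      ⨆ (rs : List R) (_ : RingTheory.Sequence.IsWeaklyRegular M rs ∧ ∀ r ∈ rs, r ∈ a),
        (rs.length : ℕ∞) := by
    unfold LocCoh.idealDepth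
    rw [if_neg hne]
  -- lengths of regular sequences are bounded by the length of `xs`
  have hF : ∀ rs : List R, RingTheory.Sequence.IsWeaklyRegular M rs → (∀ r ∈ rs, r ∈ a) →
      rs.length ≤ xs.length := by
    intro rs hreg hmem
    by_contra hlt
    push Not at hlt
    have h0 := (koszul_vanish_of_regular xs rs M hreg hmem).1 0 (by
      rw [zero_add]
      exact_mod_cast hlt)
    obtain ⟨e⟩ := nonempty_homology_zero_equiv M xs
    have hsub : Subsingleton (M ⧸ a • (⊤ : Submodule R M)) := e.symm.toEquiv.subsingleton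
    rw [Submodule.Quotient.subsingleton_iff] at hsub
    exact hne hsub
  have hDle : LocCoh.idealDepth a M ≤ xs.length := by
    rw [hD]
    refine iSup_le (fun rs => iSup_le (fun h => ?_))
    exact_mod_cast hF rs h.1 h.2
  refine ⟨hDle, ?_, ?_⟩
  · intro p hp
    rw [hD, lt_iSup_iff] at hp
    obtain ⟨rs, hp⟩ := hp
    rw [lt_iSup_iff] at hp
    obtain ⟨h, hp⟩ := hp
    have hp' : p < rs.length := by exact_mod_cast hp
    have := (koszul_vanish_of_regular xs rs M h.1 h.2).1 ((p : ℤ) - xs.length) (by
      rw [sub_add_cancel]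
      exact_mod_cast hp')
    exact ModuleCat.isZero_of_subsingleton _
  · intro r hr hzero
    -- a regular sequence of length exactly `r`
    obtain ⟨rs, hreg, hmem, hlen⟩ : ∃ rs : List R, RingTheory.Sequence.IsWeaklyRegular M rs ∧
        (∀ y ∈ rs, y ∈ a) ∧ rs.length = r := by
      rcases Nat.eq_zero_or_pos r with h0 | hpos
      · exact ⟨[], RingTheory.Sequence.IsWeaklyRegular.nil R M, fun _ h => absurd h (by simp),
          by simp [h0]⟩
      · have hlt : ((r - 1 : ℕ) : ℕ∞) < LocCoh.idealDepth a M := by
          rw [hr]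
          exact_mod_cast Nat.sub_lt hpos one_pos
        rw [hD, lt_iSup_iff] at hlt
        obtain ⟨rs, hlt⟩ := hlt
        rw [lt_iSup_iff] at hlt
        obtain ⟨h, hlt⟩ := hlt
        have h1 : r - 1 < rs.length := by exact_mod_cast hlt
        have h2 : (rs.length : ℕ∞) ≤ LocCoh.idealDepth a M := by
          rw [hD]
          exact le_iSup_of_le rs (le_iSup_of_le h le_rfl)
        rw [hr] at h2
        have h2' : rs.length ≤ r := by exact_mod_cast h2
        exact ⟨rs, h.1, h.2, by omega⟩
    -- the quotient module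
    have hrsle : Ideal.ofList rs ≤ IsLocalRing.maximalIdeal R := by
      unfold Ideal.ofList
      rw [Ideal.span_le]
      exact fun y hy => ham (hmem y hy)
    have hNne : Ideal.ofList rs • (⊤ : Submodule R M) ≠ ⊤ := smul_top_ne_top M _ hrsle
    have hNnt : Nontrivial (M ⧸ Ideal.ofList rs • (⊤ : Submodule R M)) :=
      Submodule.Quotient.nontrivial_iff.2 hNne
    -- maximality
    have hmax : ∀ y ∈ a, ¬ IsSMulRegular (M ⧸ Ideal.ofList rs • (⊤ : Submodule R M)) y := by
      intro y hy hyreg
      have hreg' : RingTheory.Sequence.IsWeaklyRegular M (rs ++ [y]) := by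
        rw [RingTheory.Sequence.isWeaklyRegular_append_iff]
        exact ⟨hreg, (RingTheory.Sequence.isWeaklyRegular_singleton_iff _ y).2 hyreg⟩
      have hmem' : ∀ z ∈ rs ++ [y], z ∈ a := by
        intro z hz
        rcases List.mem_append.1 hz with hz | hz
        · exact hmem z hz
        · rw [List.mem_singleton] at hz
          rw [hz]
          exact hy
      have h3 : ((rs ++ [y]).length : ℕ∞) ≤ LocCoh.idealDepth a M := by
        rw [hD]
        exact le_iSup_of_le (rs ++ [y]) (le_iSup_of_le ⟨hreg', hmem'⟩ le_rfl)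
      rw [hr, List.length_append, List.length_singleton, hlen] at h3
      have : r + 1 ≤ r := by exact_mod_cast h3
      omega
    obtain ⟨m, hm, hkill⟩ := exists_ne_zero_forall_smul_eq_zero
      (M ⧸ Ideal.ofList rs • (⊤ : Submodule R M)) a hmax
    have hbot := not_subsingleton_homology_bottom (M ⧸ Ideal.ofList rs • (⊤ : Submodule R M)) xs
      (-(xs.length : ℤ)) (by ring) m hm (fun x hx => hkill x (Ideal.subset_span hx))
    apply hbot
    have hsub : Subsingleton ((CohIII.koszulCx (ModuleCat.of R M) xs).homology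
        ((r : ℤ) - xs.length)) := ModuleCat.subsingleton_of_isZero hzero
    exact (koszul_vanish_of_regular xs rs M hreg hmem).2 ((r : ℤ) - xs.length)
      (-(xs.length : ℤ)) (by rw [sub_add_cancel, hlen]) (by ring) hsub


end Groth.Agent.S14426
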