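import Groth.Statements.S14427
import Mathlib
-- import your own Groth.Agent.* helpers here

set_option autoImplicit false
universe u
open CAlgX

namespace Groth.Agent.S14427

open MvPolynomial

section aux
variable {k : Type u} [Field k]

/-- the linear form attached to a linear functional -/
noncomputable def formOf (φ : (Fin 3 → k) →ₗ[k] k) : MvPolynomial (Fin 3) k :=
  ∑ i, C (φ fun j => if i = j then 1 else 0) * X i

lemma formOf_homog (φ : (Fin 3 → k) →ₗ[k] k) : (formOf φ).IsHomogeneous 1 :=
  IsHomogeneous.sum _ _ _ (fun i _ => isHomogeneous_C_mul_X _ _)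

lemma aeval_formOf (φ : (Fin 3 → k) →ₗ[k] k) (u : Fin 3 → k) :
    aeval u (formOf φ) = φ u := by
  rw [LinearMap.pi_apply_eq_sum_univ φ u]
  simp [formOf, mul_comm]

lemma exists_form {v w : Fin 3 → k} (h : LinearIndependent k ![v, w]) :
    ∃ F : MvPolynomial (Fin 3) k, F.IsHomogeneous 1 ∧ aeval w F = 0 ∧ aeval v F ≠ 0 := by
  have hv : v ∉ Submodule.span k {w} := by
    intro hmem
    rw [Submodule.mem_span_singleton] at hmem
    obtain ⟨a, ha⟩ := hmem
    rw [LinearIndependent.pair_iff] at h
    have := h 1 (-a) (by simp [← ha])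
    exact one_ne_zero this.1
  obtain ⟨φ, hφv, hφ⟩ := Submodule.exists_dual_map_eq_bot_of_notMem hv inferInstance
  refine ⟨formOf φ, formOf_homog φ, ?_, ?_⟩
  · rw [aeval_formOf]
    have : φ w ∈ (Submodule.span k {w}).map φ := ⟨w, Submodule.mem_span_singleton_self w, rfl⟩
    rw [hφ] at this
    simpa using this
  · rw [aeval_formOf]; exact hφv

lemma finrank_homog (d : ℕ) :
    Module.finrank k (homogeneousSubmodule (Fin 3) k d) = (d + 2).choose 2 := by
  classical
  rw [homogeneousSubmodule_eq_finsupp_supported]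
  rw [(AddMonoidAlgebra.supportedEquivFinsupp _).finrank_eq]
  have e : {m : Fin 3 →₀ ℕ | m.degree = d} ≃ (Finset.univ : Finset (Fin 3)).finsuppAntidiag d :=
    Equiv.subtypeEquivRight (fun m => by
      simp [Finset.mem_finsuppAntidiag, Finsupp.degree_eq_sum])
  have : Fintype {m : Fin 3 →₀ ℕ | m.degree = d} := Fintype.ofEquiv _ e.symm
  rw [Module.finrank_finsupp_self, Fintype.card_congr e, Fintype.card_coe,
    Finset.card_finsuppAntidiag_nat_eq_choose]
  simp only [Finset.card_univ, Fintype.card_fin]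
  rw [show 3 + d - 1 = d + 2 by omega, ← Nat.choose_symm_add]

end aux

/-- Let k be a field and Λ a set of n ≥ 3 nonzero vectors of k^3 which are pairwise linearly
independent, i.e. n distinct k-rational points of the projective plane. Then the space of
homogeneous forms of degree n − 1 in k[x_0, x_1, x_2] vanishing at every point of Λ — the global
sections of I_Λ(n − 1) — has dimension C(n+1, 2) − n over k, the same for all such Λ. (The published
statement is over an algebraically closed field; this row allows any field and k-rational points,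
which is all its argument uses.) -/
theorem result (k : Type u) [Field k] (n : ℕ) (hn : 3 ≤ n)
    (Λ : Finset (Fin 3 → k)) (hcard : Λ.card = n) (h0 : ∀ v ∈ Λ, v ≠ 0)
    (hdist : ∀ v ∈ Λ, ∀ w ∈ Λ, v ≠ w → LinearIndependent k ![v, w]) :
    Module.finrank k ↥(MvPolynomial.homogeneousSubmodule (Fin 3) k (n - 1) ⊓ ⨅ v ∈ Λ, LinearMap.ker (MvPolynomial.aeval v).toLinearMap) = Nat.choose (n + 1) 2 - n := by
  classical
  obtain ⟨d, rfl⟩ : ∃ d, n = d + 1 := ⟨n - 1, by omega⟩
  rw [show d + 1 - 1 = d from rfl]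
  set V := homogeneousSubmodule (Fin 3) k d with hV
  -- evaluation map
  let ev : MvPolynomial (Fin 3) k →ₗ[k] (Λ → k) :=
    LinearMap.pi (fun v : Λ => (aeval v.1).toLinearMap)
  have hker : (⨅ v ∈ Λ, LinearMap.ker (aeval v).toLinearMap) = LinearMap.ker ev := by
    rw [LinearMap.ker_pi, iInf_subtype]
  let evV : V →ₗ[k] (Λ → k) := ev.comp V.subtype
  have hkerV : LinearMap.ker evV = Submodule.comap V.subtype (V ⊓ LinearMap.ker ev) := by
    rw [LinearMap.ker_comp, Submodule.comap_inf, Submodule.comap_subtype_self, top_inf_eq]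
  have e : LinearMap.ker evV ≃ₗ[k] ↥(V ⊓ LinearMap.ker ev) :=
    (LinearEquiv.ofEq _ _ hkerV).trans (Submodule.comapSubtypeEquivOfLe inf_le_left)
  rw [hker, ← e.finrank_eq]
  -- the interpolating forms
  have key : ∀ v ∈ Λ, ∃ G : MvPolynomial (Fin 3) k, G.IsHomogeneous d ∧
      (∀ u ∈ Λ, u ≠ v → aeval u G = 0) ∧ aeval v G = 1 := by
    intro v hv
    have : ∀ w ∈ Λ.erase v, ∃ F : MvPolynomial (Fin 3) k,
        F.IsHomogeneous 1 ∧ aeval w F = 0 ∧ aeval v F ≠ 0 := fun w hw =>
      exists_form (hdist v hv w (Finset.mem_of_mem_erase hw) (Finset.ne_of_mem_erase hw).symm)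
    choose! F hF1 hF2 hF3 using this
    set P := ∏ w ∈ Λ.erase v, F w with hP
    have hPhom : P.IsHomogeneous d := by
      have := IsHomogeneous.prod (Λ.erase v) F (fun _ => 1) (fun w hw => hF1 w hw)
      simpa [Finset.card_erase_of_mem hv, hcard] using this
    have hPv : aeval v P ≠ 0 := by
      rw [hP, map_prod]
      exact Finset.prod_ne_zero_iff.mpr (fun w hw => hF3 w hw)
    refine ⟨C (aeval v P)⁻¹ * P, hPhom.C_mul _, ?_, ?_⟩
    · intro u hu huv
      have : aeval u P = 0 := by
        rw [hP, map_prod]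
        exact Finset.prod_eq_zero (Finset.mem_erase.mpr ⟨huv, hu⟩) (hF2 u (Finset.mem_erase.mpr ⟨huv, hu⟩))
      rw [map_mul, this, mul_zero]
    · rw [map_mul, aeval_C]
      exact inv_mul_cancel₀ hPv
  choose! G hG1 hG2 hG3 using key
  have hsurj : Function.Surjective evV := by
    intro g
    refine ⟨⟨∑ v : Λ, g v • G v.1, Submodule.sum_mem _ (fun v _ =>
      Submodule.smul_mem _ _ (hG1 v.1 v.2))⟩, ?_⟩
    funext u
    show aeval u.1 (∑ v : Λ, g v • G v.1) = g u
    rw [map_sum, Finset.sum_eq_single u]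
    · simp [hG3 u.1 u.2]
    · intro v _ hvu
      have : aeval u.1 (G v.1) = 0 := hG2 v.1 v.2 u.1 u.2 (fun h => hvu (Subtype.ext h.symm))
      simp [this]
    · intro h; exact absurd (Finset.mem_univ u) h
  have : Module.Finite k V := Module.Finite.iff_fg.mpr (homogeneousSubmodule_fg (σ := Fin 3) (R := k) d)
  have hrn := LinearMap.finrank_range_add_finrank_ker evV
  rw [LinearMap.range_eq_top.mpr hsurj, finrank_top, Module.finrank_fintype_fun_eq_card,
    Fintype.card_coe, hcard, finrank_homog] at hrn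
  rw [show d + 1 + 1 = d + 2 from rfl]
  omega

end Groth.Agent.S14427
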