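import Groth.Statements.S14428
import Mathlib
-- import your own Groth.Agent.* helpers here

set_option autoImplicit false
universe u
open CAlgX

namespace Groth.Agent.S14428

open Matrix in
/-- the linear form `a ⬝ x` as a polynomial -/
noncomputable def lin {k : Type u} [Field k] (a : Fin 3 → k) : MvPolynomial (Fin 3) k :=
  ∑ i, MvPolynomial.C (a i) * MvPolynomial.X i

open Matrix in
lemma lin_hom {k : Type u} [Field k] (a : Fin 3 → k) : (lin a).IsHomogeneous 1 :=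
  MvPolynomial.IsHomogeneous.sum _ _ _ (fun i _ => MvPolynomial.isHomogeneous_C_mul_X _ _)

open Matrix in
lemma lin_eval {k : Type u} [Field k] (a x : Fin 3 → k) :
    MvPolynomial.aeval x (lin a) = a ⬝ᵥ x := by
  simp [lin, dotProduct, map_sum]

open Matrix in
lemma cross_ne {k : Type u} [Field k] (v w : Fin 3 → k) (hw : w ≠ 0)
    (hnot : ¬ ∃ c : k, v = c • w) : v ⨯₃ w ≠ 0 := by
  rw [crossProduct_ne_zero_iff_linearIndependent, LinearIndependent.pair_iff]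
  intro s t hst
  by_cases hs : s = 0
  · subst hs
    rw [zero_smul, zero_add, smul_eq_zero] at hst
    exact ⟨rfl, hst.resolve_right hw⟩
  · exfalso
    apply hnot
    refine ⟨-(s⁻¹ * t), ?_⟩
    have h1 : s • v = -(t • w) := eq_neg_of_add_eq_zero_left hst
    have h2 : v = s⁻¹ • (s • v) := by rw [smul_smul, inv_mul_cancel₀ hs, one_smul]
    rw [h2, h1, smul_neg, smul_smul, neg_smul]

open Matrix in
lemma exists_form {k : Type u} [Field k] (v w : Fin 3 → k) (h : v ⨯₃ w ≠ 0) :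
    ∃ a : Fin 3 → k, a ⬝ᵥ w = 0 ∧ a ⬝ᵥ v ≠ 0 := by
  classical
  have : ∃ i, (v ⨯₃ w) i ≠ 0 := by
    by_contra hno
    apply h
    funext i
    by_contra hi
    exact hno ⟨i, hi⟩
  obtain ⟨i, hi⟩ := this
  refine ⟨w ⨯₃ (Pi.single i 1), ?_, ?_⟩
  · rw [dotProduct_comm, dot_self_cross]
  · rw [dotProduct_comm, triple_product_permutation, triple_product_permutation,
      single_dotProduct, one_mul]
    exact hi

open Matrix in
lemma key {k : Type u} [Field k] (n : ℕ) (hn : 2 ≤ n)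
    (Λ' : Finset (Fin 3 → k)) (hcard' : Λ'.card = n)
    (h0' : ∀ v ∈ Λ', v ≠ 0)
    (hline' : ¬ ∃ ℓ : (Fin 3 → k) →ₗ[k] k, ℓ ≠ 0 ∧ ∀ v ∈ Λ', ℓ v = 0)
    (v : Fin 3 → k) (hnot : ∀ w ∈ Λ', ¬ ∃ c : k, v = c • w) :
    ∃ F : MvPolynomial (Fin 3) k, F.IsHomogeneous (n - 1) ∧
      (∀ w ∈ Λ', MvPolynomial.aeval w F = 0) ∧ MvPolynomial.aeval v F ≠ 0 := by
  classical
  have hcr : ∀ w ∈ Λ', v ⨯₃ w ≠ 0 := fun w hw => cross_ne v w (h0' w hw) (hnot w hw)
  -- two points whose line misses v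
  have h2 : ∃ w1 ∈ Λ', ∃ w2 ∈ Λ', v ⬝ᵥ (w1 ⨯₃ w2) ≠ 0 := by
    by_contra hno
    have hall : ∀ w1 ∈ Λ', ∀ w2 ∈ Λ', v ⬝ᵥ (w1 ⨯₃ w2) = 0 := by
      intro w1 h1 w2 h2
      by_contra hne
      exact hno ⟨w1, h1, w2, h2, hne⟩
    have hne : Λ'.Nonempty := by
      rw [← Finset.card_pos, hcard']; omega
    obtain ⟨w1, hw1⟩ := hne
    apply hline'
    let ℓ : (Fin 3 → k) →ₗ[k] k :=
      { toFun := fun x => (v ⨯₃ w1) ⬝ᵥ x
        map_add' := fun x y => dotProduct_add _ _ _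
        map_smul' := fun c x => by simp [dotProduct_smul] }
    refine ⟨ℓ, ?_, ?_⟩
    · obtain ⟨i, hi⟩ : ∃ i, (v ⨯₃ w1) i ≠ 0 := by
        by_contra hno'
        apply hcr w1 hw1
        funext i
        by_contra hi
        exact hno' ⟨i, hi⟩
      intro hℓ
      apply hi
      have := congrArg (fun f : (Fin 3 → k) →ₗ[k] k => f (Pi.single i 1)) hℓ
      simpa [ℓ, dotProduct_single] using this
    · intro w2 hw2
      show (v ⨯₃ w1) ⬝ᵥ w2 = 0
      rw [dotProduct_comm, triple_product_permutation]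
      exact hall w1 hw1 w2 hw2
  obtain ⟨w1, hw1, w2, hw2, h12⟩ := h2
  have hw12 : w1 ≠ w2 := by
    rintro rfl
    apply h12
    rw [cross_self, dotProduct_zero]
  have hch : ∀ w : Fin 3 → k, ∃ a : Fin 3 → k, w ∈ Λ' → (a ⬝ᵥ w = 0 ∧ a ⬝ᵥ v ≠ 0) := by
    intro w
    by_cases hw : w ∈ Λ'
    · obtain ⟨a, ha⟩ := exists_form v w (hcr w hw)
      exact ⟨a, fun _ => ha⟩
    · exact ⟨0, fun h => absurd h hw⟩
  choose a ha using hch
  refine ⟨lin (w1 ⨯₃ w2) * ∏ w ∈ (Λ'.erase w1).erase w2, lin (a w), ?_, ?_, ?_⟩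
  · have hdeg : n - 1 = 1 + ∑ w ∈ (Λ'.erase w1).erase w2, 1 := by
      rw [Finset.sum_const, smul_eq_mul, mul_one, Finset.card_erase_of_mem, Finset.card_erase_of_mem hw1,
        hcard']
      · omega
      · exact Finset.mem_erase.2 ⟨hw12.symm, hw2⟩
    rw [hdeg]
    exact (lin_hom _).mul (MvPolynomial.IsHomogeneous.prod _ _ _ (fun w _ => lin_hom _))
  · intro w hw
    rw [map_mul, map_prod]
    by_cases h1 : w = w1
    · subst h1
      rw [lin_eval, dotProduct_comm, dot_self_cross, zero_mul]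
    by_cases h2 : w = w2
    · subst h2
      rw [lin_eval, dotProduct_comm, dot_cross_self, zero_mul]
    · have hmem : w ∈ (Λ'.erase w1).erase w2 :=
        Finset.mem_erase.2 ⟨h2, Finset.mem_erase.2 ⟨h1, hw⟩⟩
      rw [Finset.prod_eq_zero hmem, mul_zero]
      rw [lin_eval]
      exact (ha w hw).1
  · rw [map_mul, map_prod, lin_eval, dotProduct_comm]
    refine mul_ne_zero h12 ?_
    rw [Finset.prod_ne_zero_iff]
    intro w hw
    rw [lin_eval]
    exact (ha w (Finset.mem_of_mem_erase (Finset.mem_of_mem_erase hw))).2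

lemma half {k : Type u} [Field k] (n : ℕ) (hn : 3 ≤ n)
    (Λ Λ' : Finset (Fin 3 → k)) (hcard' : Λ'.card = n)
    (h0' : ∀ v ∈ Λ', v ≠ 0)
    (hline' : ¬ ∃ ℓ : (Fin 3 → k) →ₗ[k] k, ℓ ≠ 0 ∧ ∀ v ∈ Λ', ℓ v = 0)
    (heq : (MvPolynomial.homogeneousSubmodule (Fin 3) k (n - 1) ⊓ ⨅ v ∈ Λ, LinearMap.ker (MvPolynomial.aeval v).toLinearMap) = (MvPolynomial.homogeneousSubmodule (Fin 3) k (n - 1) ⊓ ⨅ v ∈ Λ', LinearMap.ker (MvPolynomial.aeval v).toLinearMap)) :
    ∀ v ∈ Λ, ∃ w ∈ Λ', ∃ c : k, v = c • w := by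
  intro v hv
  by_contra hno
  obtain ⟨F, hF, hvan, hne⟩ := key n (by omega) Λ' hcard' h0' hline' v
    (fun w hw ⟨c, hc⟩ => hno ⟨w, hw, c, hc⟩)
  have hmem : F ∈ (MvPolynomial.homogeneousSubmodule (Fin 3) k (n - 1) ⊓ ⨅ v ∈ Λ', LinearMap.ker (MvPolynomial.aeval v).toLinearMap) := by
    refine Submodule.mem_inf.2 ⟨hF, ?_⟩
    simp only [Submodule.mem_iInf, LinearMap.mem_ker]
    intro w hw
    exact hvan w hw
  rw [← heq] at hmem
  have h2 := (Submodule.mem_inf.1 hmem).2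
  simp only [Submodule.mem_iInf, LinearMap.mem_ker] at h2
  exact hne (h2 v hv)

/-- Let k be a field, n ≥ 3, and let Λ and Λ' be two sets of n nonzero, pairwise linearly independent
vectors of k^3 (n distinct k-rational points of the projective plane each), neither lying on a line
(no nonzero linear form vanishes on all of Λ, resp. Λ'). If the spaces of homogeneous forms of
degree n − 1 vanishing on Λ and on Λ' coincide, then Λ and Λ' define the same set of points of the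
plane: the assignment Λ ↦ H^0(P^2, I_Λ(n − 1)), with values in a Grassmannian, is injective on
non-collinear sets. (The published statement is over an algebraically closed field; this row allows
any field and k-rational points, which is all its argument uses.) -/
theorem result (k : Type u) [Field k] (n : ℕ) (hn : 3 ≤ n)
    (Λ Λ' : Finset (Fin 3 → k)) (hcard : Λ.card = n) (hcard' : Λ'.card = n)
    (h0 : ∀ v ∈ Λ, v ≠ 0) (h0' : ∀ v ∈ Λ', v ≠ 0)
    (hdist : ∀ v ∈ Λ, ∀ w ∈ Λ, v ≠ w → LinearIndependent k ![v, w])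
    (hdist' : ∀ v ∈ Λ', ∀ w ∈ Λ', v ≠ w → LinearIndependent k ![v, w])
    (hline : ¬ ∃ ℓ : (Fin 3 → k) →ₗ[k] k, ℓ ≠ 0 ∧ ∀ v ∈ Λ, ℓ v = 0)
    (hline' : ¬ ∃ ℓ : (Fin 3 → k) →ₗ[k] k, ℓ ≠ 0 ∧ ∀ v ∈ Λ', ℓ v = 0)
    (heq : (MvPolynomial.homogeneousSubmodule (Fin 3) k (n - 1) ⊓ ⨅ v ∈ Λ, LinearMap.ker (MvPolynomial.aeval v).toLinearMap) = (MvPolynomial.homogeneousSubmodule (Fin 3) k (n - 1) ⊓ ⨅ v ∈ Λ', LinearMap.ker (MvPolynomial.aeval v).toLinearMap)) :
    (∀ v ∈ Λ, ∃ w ∈ Λ', ∃ c : k, v = c • w) ∧ (∀ w ∈ Λ', ∃ v ∈ Λ, ∃ c : k, w = c • v) := by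
  exact ⟨half n hn Λ Λ' hcard' h0' hline' heq, half n hn Λ' Λ hcard h0 hline heq.symm⟩

end Groth.Agent.S14428
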