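import Groth.Statements.S14434
import Groth.Agent.Lib.Helper7.TorAPI

set_option autoImplicit false
universe u
open CAlg

namespace Groth.Agent.S14434


open Groth.Agent.Lib.helper7 CategoryTheory

/-- Let R be a commutative ring, M an R-module and x ∈ R a non-zero-divisor on R and on M. Then
Tor_i^R(M, R/(x)) = 0 for all i ≥ 1 (Tor computed as the left derived functors of the tensor product
on R-modules). -/
theorem result {R : Type u} [CommRing R] (M : Type u) [AddCommGroup M] [Module R M]
    (x : R) (hxR : IsSMulRegular R x) (hxM : IsSMulRegular M x) (i : ℕ) (hi : 1 ≤ i) :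
    Subsingleton (DRing.Tor R i M (R ⧸ Ideal.span {x})) := by
  classical
  -- the short exact sequence 0 → R --x--> R → R/(x) → 0
  let f : ModuleCat.of R R ⟶ ModuleCat.of R R := ModuleCat.ofHom (LinearMap.lsmul R R x)
  let g : ModuleCat.of R R ⟶ ModuleCat.of R (R ⧸ Ideal.span {x}) :=
    ModuleCat.ofHom (Submodule.mkQ (Ideal.span {x}))
  have hfg : f ≫ g = 0 := by
    ext
    simp only [f, g, ModuleCat.hom_comp, ModuleCat.hom_ofHom, LinearMap.comp_apply,
      LinearMap.lsmul_apply, ModuleCat.hom_zero, LinearMap.zero_apply, Submodule.mkQ_apply,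
      Submodule.Quotient.mk_eq_zero]
    simp
  let S : ShortComplex (ModuleCat.{u} R) := ShortComplex.mk f g hfg
  have hex : S.Exact := by
    rw [ShortComplex.ShortExact.moduleCat_exact_iff_function_exact]
    intro y
    change Submodule.mkQ (Ideal.span {x}) y = 0 ↔ y ∈ Set.range (LinearMap.lsmul R R x)
    rw [Submodule.mkQ_apply, Submodule.Quotient.mk_eq_zero, Ideal.mem_span_singleton']
    constructor
    · rintro ⟨a, rfl⟩
      exact ⟨a, by simp [mul_comm]⟩
    · rintro ⟨a, rfl⟩
      exact ⟨a, by simp [mul_comm]⟩
  have hmono : Mono S.f := by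
    rw [ModuleCat.mono_iff_injective]
    intro a b hab
    exact hxR hab
  have hepi : Epi S.g := by
    rw [ModuleCat.epi_iff_surjective]
    exact Submodule.mkQ_surjective _
  have hS : S.ShortExact := ⟨hex⟩
  -- Tor_{k+1}(M, R) = 0
  have hproj : ∀ k : ℕ, Limits.IsZero ((TorAPI.T (k + 1) (ModuleCat.of R M)).obj S.X₂) := by
    intro k
    have : Projective S.X₂ := by
      change Projective (ModuleCat.of R R)
      infer_instance
    exact TorAPI.isZero_T_projective _ _ k
  -- Tor_1
  have h1 : Limits.IsZero ((TorAPI.T 1 (ModuleCat.of R M)).obj S.X₃) := by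
    rw [TorAPI.isZero_one_iff (ModuleCat.of R M) hS (hproj 0), ModuleCat.mono_iff_injective]
    change Function.Injective (LinearMap.lTensor M (LinearMap.lsmul R R x))
    have key : ∀ t : TensorProduct R M R, LinearMap.lTensor M (LinearMap.lsmul R R x) t =
        (TensorProduct.rid R M).symm (x • (TensorProduct.rid R M t)) := by
      intro t
      induction t using TensorProduct.induction_on with
      | zero => simp
      | add a b ha hb => simp only [map_add, smul_add, ha, hb]
      | tmul m r =>
        simp only [LinearMap.lTensor_tmul, LinearMap.lsmul_apply, TensorProduct.rid_tmul,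
          TensorProduct.rid_symm_apply]
        rw [TensorProduct.smul_tmul, TensorProduct.smul_tmul]
        congr 1
        simp [mul_comm]
    intro a b hab
    rw [key, key] at hab
    have h2 := hxM ((TensorProduct.rid R M).symm.injective hab)
    exact (TensorProduct.rid R M).injective h2
  -- all higher Tor
  have hall : ∀ k : ℕ, Limits.IsZero ((TorAPI.T (k + 1) (ModuleCat.of R M)).obj S.X₃) := by
    intro k
    cases k with
    | zero => exact h1
    | succ k =>
      rw [TorAPI.isZero_succ_iff (ModuleCat.of R M) hS (k + 1) (hproj (k + 1)) (hproj k)]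
      exact hproj k
  obtain ⟨k, rfl⟩ : ∃ k, i = k + 1 := ⟨i - 1, by omega⟩
  exact ModuleCat.subsingleton_of_isZero (hall k)

end Groth.Agent.S14434
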