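import Groth.Statements.S14437
import Mathlib.LinearAlgebra.Dual.Lemmas

set_option autoImplicit false
universe u
open CAlg

namespace Groth.Agent.S14437

open IsLocalRing TensorProduct

section
variable (k : Type u) [Field k] (B : Type u) [CommRing B] [IsLocalRing B] [Algebra k B]
  (hB : Function.Bijective (algebraMap k (ResidueField B)))

/-- the residue map to `k`. -/
noncomputable def cB : B →+* k :=
  ((RingEquiv.ofBijective (algebraMap k (ResidueField B)) hB).symm : ResidueField B →+* k).comp
    (residue B)

lemma algebraMap_cB (b : B) : algebraMap k (ResidueField B) (cB k B hB b) = residue B b := by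
  unfold cB
  exact (RingEquiv.ofBijective (algebraMap k (ResidueField B)) hB).apply_symm_apply _

lemma cB_algebraMap (c : k) : cB k B hB (algebraMap k B c) = c := by
  apply hB.1
  rw [algebraMap_cB]
  rfl

lemma sub_mem (b : B) : b - algebraMap k B (cB k B hB b) ∈ maximalIdeal B := by
  rw [← IsLocalRing.residue_eq_zero_iff, map_sub, sub_eq_zero, ← algebraMap_cB k B hB b]
  rfl

lemma cB_eq_zero {b : B} (hb : b ∈ maximalIdeal B) : cB k B hB b = 0 := by
  apply hB.1
  rw [algebraMap_cB, map_zero, IsLocalRing.residue_eq_zero_iff]
  exact hb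

/-- projection `B → m_B`, `b ↦ b - c(b)`. -/
noncomputable def proj : B →ₗ[k] maximalIdeal B where
  toFun b := ⟨b - algebraMap k B (cB k B hB b), sub_mem k B hB b⟩
  map_add' x y := by
    ext
    simp only [map_add, Submodule.coe_add]
    ring
  map_smul' c x := by
    ext
    simp only [Algebra.smul_def, map_mul, cB_algebraMap, RingHom.id_apply,
      Submodule.coe_smul_of_tower]
    ring

lemma proj_of_mem {b : B} (hb : b ∈ maximalIdeal B) : proj k B hB b = ⟨b, hb⟩ := by
  ext
  simp [proj, cB_eq_zero k B hB hb]

lemma toCotangent_proj_mul (b b' : B) :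
    (maximalIdeal B).toCotangent (proj k B hB (b * b')) =
      cB k B hB b • (maximalIdeal B).toCotangent (proj k B hB b') +
      cB k B hB b' • (maximalIdeal B).toCotangent (proj k B hB b) := by
  have h : proj k B hB (b * b') = cB k B hB b • proj k B hB b' + cB k B hB b' • proj k B hB b +
      proj k B hB b * proj k B hB b' := by
    ext
    simp only [proj, LinearMap.coe_mk, AddHom.coe_mk, map_mul, Submodule.coe_add,
      Submodule.coe_smul_of_tower, Algebra.smul_def, MulMemClass.coe_mul]
    ring
  rw [h, map_add, map_add]
  have h2 : (maximalIdeal B).toCotangent (proj k B hB b * proj k B hB b') = 0 := by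
    rw [Ideal.toCotangent_eq_zero, pow_two]
    exact Ideal.mul_mem_mul (proj k B hB b).2 (proj k B hB b').2
  rw [h2, add_zero]
  congr 1

end

section
variable (k : Type u) [Field k]
    (A B : Type u) [CommRing A] [CommRing B] [IsLocalRing A] [IsLocalRing B]
    [Algebra k A] [Algebra k B] [Algebra A B] [IsScalarTower k A B]
    (hle : IsLocalRing.maximalIdeal A ≤ Ideal.comap (IsScalarTower.toAlgHom k A B) (IsLocalRing.maximalIdeal B))
    (hA : Function.Bijective (algebraMap k (IsLocalRing.ResidueField A)))
    (hB : Function.Bijective (algebraMap k (IsLocalRing.ResidueField B)))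

include hle in
lemma cB_comp (a : A) : cB k B hB (algebraMap A B a) = cB k A hA a := by
  have h1 := sub_mem k A hA a
  have h2 := hle h1
  simp only [Ideal.mem_comap, map_sub, IsScalarTower.coe_toAlgHom'] at h2
  rw [← IsScalarTower.algebraMap_apply] at h2
  have h3 := cB_eq_zero k B hB h2
  rw [map_sub, cB_algebraMap, sub_eq_zero] at h3
  exact h3

/-- the map `m_B/m_B² → κ ⊗ Ω_{B/A}`. -/
noncomputable def Φ : (maximalIdeal B).Cotangent →ₗ[k] (ResidueField B) ⊗[B] (Ω[B⁄A]) :=
  Ideal.Cotangent.lift
    { toFun := fun x => (1 : ResidueField B) ⊗ₜ[B] KaehlerDifferential.D A B x.1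
      map_add' := fun x y => by simp [tmul_add]
      map_smul' := fun c x => by
        simp only [RingHom.id_apply, Submodule.coe_smul_of_tower]
        rw [Algebra.smul_def, IsScalarTower.algebraMap_apply k A B, ← Algebra.smul_def,
          Derivation.map_smul, algebraMap_smul, tmul_smul] }
    (fun x y => by
      simp only [LinearMap.coe_mk, AddHom.coe_mk, MulMemClass.coe_mul, Derivation.leibniz,
        tmul_add, tmul_smul]
      have hz : ∀ z : maximalIdeal B, (z : B) • (1 : ResidueField B) = 0 := fun z => by
        rw [Algebra.smul_def, mul_one]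
        exact (IsLocalRing.residue_eq_zero_iff _).2 z.2
      rw [smul_tmul', smul_tmul', hz, hz, zero_tmul, zero_tmul, add_zero])

lemma Φ_toCotangent (x : maximalIdeal B) :
    Φ k A B ((maximalIdeal B).toCotangent x) =
      (1 : ResidueField B) ⊗ₜ[B] KaehlerDifferential.D A B x.1 := rfl

lemma one_tmul_smul (b : B) (ω : Ω[B⁄A]) :
    (1 : ResidueField B) ⊗ₜ[B] (b • ω) = cB k B hB b • ((1 : ResidueField B) ⊗ₜ[B] ω) := by
  rw [← smul_tmul, smul_tmul' (cB k B hB b)]
  congr 1
  rw [Algebra.smul_def, Algebra.smul_def, mul_one, mul_one, algebraMap_cB]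
  rfl

include hB in
lemma Φ_surjective : Function.Surjective (Φ k A B) := by
  rw [← LinearMap.range_eq_top]
  -- the B-submodule of ω with 1 ⊗ ω in the range
  let S : Submodule B (Ω[B⁄A]) :=
    { carrier := {ω | (1 : ResidueField B) ⊗ₜ[B] ω ∈ LinearMap.range (Φ k A B)}
      add_mem' := fun {a b} ha hb => by
        simp only [Set.mem_ofPred_eq, tmul_add] at ha hb ⊢
        exact add_mem ha hb
      zero_mem' := by
        simp only [Set.mem_ofPred_eq, tmul_zero]
        exact zero_mem _
      smul_mem' := fun b ω hω => by
        simp only [Set.mem_ofPred_eq] at hω ⊢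
        rw [one_tmul_smul k A B hB]
        exact Submodule.smul_mem _ _ hω }
  have hS : S = ⊤ := by
    rw [eq_top_iff, ← KaehlerDifferential.span_range_derivation, Submodule.span_le]
    rintro _ ⟨b, rfl⟩
    change (1 : ResidueField B) ⊗ₜ[B] KaehlerDifferential.D A B b ∈ LinearMap.range (Φ k A B)
    refine ⟨(maximalIdeal B).toCotangent (proj k B hB b), ?_⟩
    rw [Φ_toCotangent]
    congr 1
    simp only [proj, LinearMap.coe_mk, AddHom.coe_mk, map_sub]
    rw [IsScalarTower.algebraMap_apply k A B, Derivation.map_algebraMap, sub_zero]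
  rw [eq_top_iff]
  rintro t -
  induction t using TensorProduct.induction_on with
  | zero => exact zero_mem _
  | add x y hx hy => exact add_mem hx hy
  | tmul x ω =>
    obtain ⟨c, rfl⟩ := hB.2 x
    have h1 : (algebraMap k (ResidueField B) c) ⊗ₜ[B] ω = c • ((1 : ResidueField B) ⊗ₜ[B] ω) := by
      rw [smul_tmul', Algebra.smul_def, mul_one]
    rw [h1]
    refine Submodule.smul_mem _ _ ?_
    have : ω ∈ S := by rw [hS]; trivial
    exact this

/-- the linear map underlying the derivation attached to a functional. -/
noncomputable def gmap (l : (maximalIdeal B).Cotangent →ₗ[k] k) : B →ₗ[k] ResidueField B :=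
  (Algebra.linearMap k (ResidueField B)) ∘ₗ l ∘ₗ
    ((maximalIdeal B).toCotangent.restrictScalars k) ∘ₗ proj k B hB

lemma gmap_apply (l : (maximalIdeal B).Cotangent →ₗ[k] k) (b : B) :
    gmap k B hB l b = algebraMap k (ResidueField B)
      (l ((maximalIdeal B).toCotangent (proj k B hB b))) := rfl

lemma gmap_mul (l : (maximalIdeal B).Cotangent →ₗ[k] k) (b b' : B) :
    gmap k B hB l (b * b') = b • gmap k B hB l b' + b' • gmap k B hB l b := by
  simp only [gmap_apply, toCotangent_proj_mul, map_add, map_smul, smul_eq_mul, map_mul,
    algebraMap_cB]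
  rfl

include hle hA in
lemma gmap_algebraMap (l : (maximalIdeal B).Cotangent →ₗ[k] k)
    (hl : LinearMap.range (Ideal.mapCotangent (maximalIdeal A) (maximalIdeal B)
        (IsScalarTower.toAlgHom k A B) hle) ≤ LinearMap.ker l) (a : A) :
    gmap k B hB l (algebraMap A B a) = 0 := by
  rw [gmap_apply]
  have h1 : (maximalIdeal B).toCotangent (proj k B hB (algebraMap A B a)) =
      Ideal.mapCotangent (maximalIdeal A) (maximalIdeal B) (IsScalarTower.toAlgHom k A B) hle
        ((maximalIdeal A).toCotangent (proj k A hA a)) := by
    rw [Ideal.mapCotangent_toCotangent]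
    congr 1
    ext
    simp only [proj, LinearMap.coe_mk, AddHom.coe_mk, IsScalarTower.coe_toAlgHom', map_sub]
    rw [cB_comp k A B hle hA hB, ← IsScalarTower.algebraMap_apply]
  rw [h1]
  have h2 := hl (LinearMap.mem_range_self _ ((maximalIdeal A).toCotangent (proj k A hA a)))
  rw [LinearMap.mem_ker] at h2
  rw [h2, map_zero]

/-- the derivation attached to a functional vanishing on the image of `m_A/m_A²`. -/
noncomputable def der (l : (maximalIdeal B).Cotangent →ₗ[k] k)
    (hl : LinearMap.range (Ideal.mapCotangent (maximalIdeal A) (maximalIdeal B)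
        (IsScalarTower.toAlgHom k A B) hle) ≤ LinearMap.ker l) :
    Derivation A B (ResidueField B) :=
  Derivation.mk'
    { toFun := gmap k B hB l
      map_add' := map_add _
      map_smul' := fun a b => by
        rw [Algebra.smul_def, gmap_mul, gmap_algebraMap k A B hle hA hB l hl, smul_zero, add_zero,
          algebraMap_smul, RingHom.id_apply] }
    (fun a b => gmap_mul k B hB l a b)

lemma der_apply (l : (maximalIdeal B).Cotangent →ₗ[k] k)
    (hl : LinearMap.range (Ideal.mapCotangent (maximalIdeal A) (maximalIdeal B)
        (IsScalarTower.toAlgHom k A B) hle) ≤ LinearMap.ker l) (b : B) :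
    der k A B hle hA hB l hl b = gmap k B hB l b := rfl

include hA hB in
lemma ker_Φ : LinearMap.ker (Φ k A B) =
    LinearMap.range (Ideal.mapCotangent (maximalIdeal A) (maximalIdeal B)
        (IsScalarTower.toAlgHom k A B) hle) := by
  apply le_antisymm
  · intro ξ hξ
    by_contra hn
    obtain ⟨l, hl1, hl2⟩ := Submodule.exists_dual_map_eq_bot_of_notMem hn inferInstance
    have hl : LinearMap.range (Ideal.mapCotangent (maximalIdeal A) (maximalIdeal B)
        (IsScalarTower.toAlgHom k A B) hle) ≤ LinearMap.ker l := by
      intro w hw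
      rw [LinearMap.mem_ker]
      have : l w ∈ Submodule.map l (LinearMap.range (Ideal.mapCotangent (maximalIdeal A)
        (maximalIdeal B) (IsScalarTower.toAlgHom k A B) hle)) := Submodule.mem_map_of_mem hw
      rw [hl2] at this
      exact this
    obtain ⟨x, rfl⟩ := (maximalIdeal B).toCotangent_surjective ξ
    rw [LinearMap.mem_ker, Φ_toCotangent] at hξ
    have h3 := congrArg (LinearMap.liftBaseChange (ResidueField B)
      (der k A B hle hA hB l hl).liftKaehlerDifferential) hξ
    rw [LinearMap.liftBaseChange_tmul, map_zero, one_smul,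
      Derivation.liftKaehlerDifferential_comp_D, der_apply, gmap_apply,
      proj_of_mem k B hB x.2] at h3
    exact hl1 (hB.1 (h3.trans (map_zero _).symm))
  · rintro _ ⟨ζ, rfl⟩
    obtain ⟨a, rfl⟩ := (maximalIdeal A).toCotangent_surjective ζ
    rw [LinearMap.mem_ker, Ideal.mapCotangent_toCotangent, Φ_toCotangent]
    simp only [IsScalarTower.coe_toAlgHom', Derivation.map_algebraMap, tmul_zero]

end


/-- Let k be a field and A → B a local homomorphism of Noetherian local k-algebras with residue fields k
(k → A/m_A and k → B/m_B bijective) — for instance the local rings at a closed point x and at its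
image y under a morphism of schemes of finite type over an algebraically closed k. Then dim_k
(Ω_{B/A} ⊗_B B/m_B) + rank(m_A/m_A² → m_B/m_B²) = dim_k (m_B/m_B²): the fibre at x of the sheaf of
relative differentials is dual to the kernel of the tangent map T_x X → T_y Y. (The published
statement is the canonical isomorphism (Ω_{X/Y})_(x)^∨ ≅ ker(df_x); stated here as the resulting
equality of dimensions. Its second assertion, dim (Ω_{X/Y})_(x) ≥ r when the fibre has an
r-dimensional component through x, is not included.) -/
theorem result (k : Type u) [Field k]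
    (A B : Type u) [CommRing A] [CommRing B] [IsLocalRing A] [IsLocalRing B] [IsNoetherianRing A] [IsNoetherianRing B]
    [Algebra k A] [Algebra k B] [Algebra A B] [IsScalarTower k A B]
    (hle : IsLocalRing.maximalIdeal A ≤ Ideal.comap (IsScalarTower.toAlgHom k A B) (IsLocalRing.maximalIdeal B))
    (hA : Function.Bijective (algebraMap k (IsLocalRing.ResidueField A)))
    (hB : Function.Bijective (algebraMap k (IsLocalRing.ResidueField B))) :
    Module.finrank (IsLocalRing.ResidueField B) (TensorProduct B (IsLocalRing.ResidueField B) (Ω[B⁄A])) +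
      Module.finrank k ↥(LinearMap.range (Ideal.mapCotangent (IsLocalRing.maximalIdeal A) (IsLocalRing.maximalIdeal B)
        (IsScalarTower.toAlgHom k A B) hle)) =
      Module.finrank k (IsLocalRing.CotangentSpace B) := by
  classical
  have e : k ≃ₗ[k] IsLocalRing.ResidueField B :=
    LinearEquiv.ofBijective (Algebra.linearMap k (IsLocalRing.ResidueField B)) hB
  have h2 : Module.finrank k (IsLocalRing.ResidueField B) = 1 := by
    rw [← e.finrank_eq, Module.finrank_self]
  haveI : Module.Finite k (IsLocalRing.ResidueField B) := Module.Finite.equiv e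
  haveI : IsScalarTower k (IsLocalRing.ResidueField B) (IsLocalRing.CotangentSpace B) := by
    refine IsScalarTower.of_algebraMap_smul fun r x => ?_
    rw [IsScalarTower.algebraMap_apply k B (IsLocalRing.ResidueField B), algebraMap_smul,
      algebraMap_smul]
  haveI : Module.Finite k (IsLocalRing.CotangentSpace B) :=
    Module.Finite.trans (IsLocalRing.ResidueField B) _
  have h1 := LinearMap.finrank_range_add_finrank_ker (Φ k A B)
  rw [LinearMap.range_eq_top.2 (Φ_surjective k A B hB), finrank_top, ker_Φ k A B hle hA hB] at h1
  have h3 := Module.finrank_mul_finrank k (IsLocalRing.ResidueField B)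
    (TensorProduct B (IsLocalRing.ResidueField B) (Ω[B⁄A]))
  rw [h2, one_mul] at h3
  rw [h3]
  exact h1

end Groth.Agent.S14437
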