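import Groth.Statements.S14438
import Mathlib

set_option autoImplicit false
universe u
open CAlg

namespace Groth.Agent.S14438

open IsLocalRing

attribute [local instance] Ideal.Quotient.field

/-- Residue degree one gives equal lengths. -/
theorem length_eq_of_residue_surj (A : Type u) [CommRing A] [IsLocalRing A]
    (R : Type u) [CommRing R] [IsLocalRing R] [Algebra A R]
    [IsLocalHom (algebraMap A R)]
    (hs : ∀ x : R, ∃ a : A, x - algebraMap A R a ∈ maximalIdeal R)
    (N : Type u) [AddCommGroup N] [Module R N] [Module A N] [IsScalarTower A R N] :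
    Module.length A N = Module.length R N := by
  have hsurj : Function.Surjective (algebraMap (ResidueField A) (ResidueField R)) := by
    intro y
    obtain ⟨x, rfl⟩ := IsLocalRing.residue_surjective y
    obtain ⟨a, ha⟩ := hs x
    refine ⟨IsLocalRing.residue A a, ?_⟩
    rw [IsLocalRing.ResidueField.algebraMap_residue]
    symm
    rw [← sub_eq_zero, ← map_sub, IsLocalRing.residue_eq_zero_iff]
    exact ha
  have h1 : Module.length (ResidueField A) (ResidueField R) = 1 := by
    rw [Module.length_eq_of_surjective (M := ResidueField R) hsurj]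
    exact Module.length_eq_one _ _
  rw [IsLocalRing.length_restrictScalars A R N, h1, mul_one]

section loc
variable (B : Type u) [CommRing B] (I : Ideal B) (p : Ideal (B ⧸ I)) [p.IsPrime]

theorem submonoid_eq :
    Algebra.algebraMapSubmonoid (B ⧸ I) (p.comap (Ideal.Quotient.mk I)).primeCompl = p.primeCompl := by
  ext x
  constructor
  · rintro ⟨b, hb, rfl⟩
    exact hb
  · intro hx
    obtain ⟨b, rfl⟩ := Ideal.Quotient.mk_surjective x
    exact ⟨b, hx, rfl⟩

instance isLocMod : IsLocalizedModule (p.comap (Ideal.Quotient.mk I)).primeCompl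
    (IsScalarTower.toAlgHom B (B ⧸ I) (Localization.AtPrime p)).toLinearMap := by
  rw [isLocalizedModule_iff_isLocalization, submonoid_eq]
  infer_instance

/-- the two localizations agree -/
noncomputable def locEquiv :
    LocalizedModule (p.comap (Ideal.Quotient.mk I)).primeCompl (B ⧸ I) ≃ₗ[B] Localization.AtPrime p :=
  IsLocalizedModule.iso (p.comap (Ideal.Quotient.mk I)).primeCompl
    (IsScalarTower.toAlgHom B (B ⧸ I) (Localization.AtPrime p)).toLinearMap

end loc

/-- the extended maximal ideal -/
abbrev mB (A B : Type u) [CommRing A] [IsLocalRing A] [CommRing B] [Algebra A B] : Ideal B :=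
  Ideal.map (algebraMap A B) (maximalIdeal A)

/-- the preimage of a prime of the fibre ring -/
abbrev nn (A B : Type u) [CommRing A] [IsLocalRing A] [CommRing B] [Algebra A B]
    (p : Ideal (B ⧸ mB A B)) : Ideal B :=
  p.comap (Ideal.Quotient.mk (mB A B))

theorem term (A B : Type u) [CommRing A] [IsLocalRing A] [CommRing B] [Algebra A B]
    [Module.Finite A B]
    (p : Ideal (B ⧸ mB A B)) [hp : p.IsMaximal]
    (hres : ∀ b : B, ∃ a : A, b - algebraMap A B a ∈ nn A B p) :
    Module.length (Localization.AtPrime (nn A B p))
      (LocalizedModule (nn A B p).primeCompl (B ⧸ mB A B)) =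
    (Module.finrank (A ⧸ maximalIdeal A) (Localization.AtPrime p) : ℕ∞) := by
  have hnmax : (nn A B p).IsMaximal :=
    Ideal.comap_isMaximal_of_surjective _ Ideal.Quotient.mk_surjective
  have hmn : mB A B ≤ nn A B p := by
    intro x hx
    rw [Ideal.mem_comap, Ideal.Quotient.eq_zero_iff_mem.mpr hx]
    exact zero_mem _
  have hloc : IsLocalHom (algebraMap A (Localization.AtPrime (nn A B p))) := by
    refine ⟨fun a ha => ?_⟩
    by_contra hau
    have h1 : a ∈ maximalIdeal A := hau
    have h2 : algebraMap A B a ∈ nn A B p := hmn (Ideal.mem_map_of_mem _ h1)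
    have h3 : algebraMap B (Localization.AtPrime (nn A B p)) (algebraMap A B a) ∈
        maximalIdeal (Localization.AtPrime (nn A B p)) :=
      (IsLocalization.AtPrime.to_map_mem_maximal_iff (Localization.AtPrime (nn A B p))
        (nn A B p) _).mpr h2
    rw [← IsScalarTower.algebraMap_apply] at h3
    exact h3 ha
  have hs : ∀ x : Localization.AtPrime (nn A B p), ∃ a : A,
      x - algebraMap A (Localization.AtPrime (nn A B p)) a ∈
        maximalIdeal (Localization.AtPrime (nn A B p)) := by
    intro x
    obtain ⟨z, hz⟩ := (IsLocalization.AtPrime.equivQuotMaximalIdeal (nn A B p)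
      (Localization.AtPrime (nn A B p))).surjective (Ideal.Quotient.mk _ x)
    obtain ⟨b, rfl⟩ := Ideal.Quotient.mk_surjective z
    rw [IsLocalization.AtPrime.equivQuotMaximalIdeal_apply_mk, Ideal.Quotient.eq] at hz
    obtain ⟨a, ha⟩ := hres b
    refine ⟨a, ?_⟩
    have h3 : algebraMap B (Localization.AtPrime (nn A B p)) (b - algebraMap A B a) ∈
        maximalIdeal (Localization.AtPrime (nn A B p)) :=
      (IsLocalization.AtPrime.to_map_mem_maximal_iff (Localization.AtPrime (nn A B p))
        (nn A B p) _).mpr ha
    have : x - algebraMap A (Localization.AtPrime (nn A B p)) a =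
        algebraMap B (Localization.AtPrime (nn A B p)) (b - algebraMap A B a) -
          (algebraMap B (Localization.AtPrime (nn A B p)) b - x) := by
      rw [map_sub, ← IsScalarTower.algebraMap_apply]
      ring
    rw [this]
    exact Ideal.sub_mem _ h3 hz
  have hfin : Module.Finite (A ⧸ maximalIdeal A) (B ⧸ mB A B) :=
    Module.Finite.of_restrictScalars_finite A _ _
  have hart : IsArtinianRing (B ⧸ mB A B) :=
    IsArtinianRing.of_finite (A ⧸ maximalIdeal A) (B ⧸ mB A B)
  have hfin2 : Module.Finite (A ⧸ maximalIdeal A) (Localization.AtPrime p) :=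
    Module.Finite.of_surjective
      (Algebra.algHom (A ⧸ maximalIdeal A) (B ⧸ mB A B) (Localization.AtPrime p)).toLinearMap
      (IsArtinianRing.localization_surjective p.primeCompl (Localization.AtPrime p))
  rw [← length_eq_of_residue_surj A (Localization.AtPrime (nn A B p)) hs,
    ((locEquiv B (mB A B) p).restrictScalars A).length_eq,
    Module.length_eq_of_surjective (S := A) (R := A ⧸ maximalIdeal A)
      (M := Localization.AtPrime p) Ideal.Quotient.mk_surjective,
    Module.length_eq_finrank]


/-- Let (A, m) be a local ring, B a commutative A-algebra which is free of finite rank d as an A-module,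
and assume that for every maximal ideal n of B containing mB the induced map of residue fields A/m →
B/n is bijective (as for the points of a fibre of a finite flat morphism of varieties over an
algebraically closed field). Then the multiplicities of the points of the fibre add up to the
degree: the sum over all such n of the length of the B_n-module (B/mB)_n equals d. -/
theorem result (A B : Type u) [CommRing A] [IsLocalRing A] [CommRing B] [Algebra A B]
    [Module.Free A B] [Module.Finite A B] (d : ℕ) (hd : Module.finrank A B = d)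
    (hres : ∀ (n : Ideal B) [n.IsMaximal] (h : Ideal.map (algebraMap A B) (IsLocalRing.maximalIdeal A) ≤ n),
      Function.Bijective (Ideal.quotientMap n (algebraMap A B) (Ideal.map_le_iff_le_comap.mp h))) :
    finsum (fun n : {n : MaximalSpectrum B // Ideal.map (algebraMap A B) (IsLocalRing.maximalIdeal A) ≤ n.asIdeal} =>
      Module.length (Localization.AtPrime n.1.asIdeal)
        (LocalizedModule n.1.asIdeal.primeCompl (B ⧸ Ideal.map (algebraMap A B) (IsLocalRing.maximalIdeal A)))) = (d : ℕ∞) := by
  classical
  have hfin : Module.Finite (A ⧸ maximalIdeal A) (B ⧸ mB A B) :=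
    Module.Finite.of_restrictScalars_finite A _ _
  have hdim : Module.finrank (A ⧸ maximalIdeal A) (B ⧸ mB A B) = d := by
    rw [IsLocalRing.finrank_quotient_map, hd]
  have hart : IsArtinianRing (B ⧸ mB A B) :=
    IsArtinianRing.of_finite (A ⧸ maximalIdeal A) (B ⧸ mB A B)
  have : Fintype (PrimeSpectrum (B ⧸ mB A B)) := Fintype.ofFinite _
  have hsum := IsArtinianRing.finrank_eq_sum_primeSpectrum (B ⧸ mB A B) (A ⧸ maximalIdeal A)
  have hpmax : ∀ p : PrimeSpectrum (B ⧸ mB A B), p.asIdeal.IsMaximal := fun p =>
    IsArtinianRing.isMaximal_of_isPrime p.asIdeal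
  have hle : ∀ p : Ideal (B ⧸ mB A B), mB A B ≤ nn A B p := by
    intro p x hx
    rw [Ideal.mem_comap, Ideal.Quotient.eq_zero_iff_mem.mpr hx]
    exact zero_mem _
  let g : PrimeSpectrum (B ⧸ mB A B) → {n : MaximalSpectrum B // mB A B ≤ n.asIdeal} := fun p =>
    ⟨⟨nn A B p.asIdeal, Ideal.comap_isMaximal_of_surjective _ Ideal.Quotient.mk_surjective
      (K := p.asIdeal) (H := hpmax p)⟩, hle p.asIdeal⟩
  have hg : Function.Bijective g := by
    constructor
    · intro p q hpq
      have h1 : nn A B p.asIdeal = nn A B q.asIdeal := congrArg (fun n => n.1.asIdeal) hpq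
      ext1
      rw [← Ideal.map_comap_of_surjective _ Ideal.Quotient.mk_surjective p.asIdeal,
        ← Ideal.map_comap_of_surjective _ Ideal.Quotient.mk_surjective q.asIdeal]
      exact congrArg _ h1
    · rintro ⟨n, hn⟩
      have hcm : (n.asIdeal.map (Ideal.Quotient.mk (mB A B))).comap (Ideal.Quotient.mk (mB A B)) =
          n.asIdeal := by
        rw [Ideal.comap_map_of_surjective _ Ideal.Quotient.mk_surjective,
          ← RingHom.ker_eq_comap_bot, Ideal.mk_ker, sup_eq_left]
        exact hn
      have hprime : (n.asIdeal.map (Ideal.Quotient.mk (mB A B))).IsPrime := by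
        apply Ideal.map_isPrime_of_surjective Ideal.Quotient.mk_surjective
        rw [Ideal.mk_ker]
        exact hn
      refine ⟨⟨n.asIdeal.map (Ideal.Quotient.mk _), hprime⟩, ?_⟩
      apply Subtype.ext
      apply MaximalSpectrum.ext
      exact hcm
  rw [← finsum_comp g hg, finsum_eq_sum_of_fintype]
  have hterm : ∀ p : PrimeSpectrum (B ⧸ mB A B),
      Module.length (Localization.AtPrime (g p).1.asIdeal)
        (LocalizedModule (g p).1.asIdeal.primeCompl (B ⧸ mB A B)) =
      (Module.finrank (A ⧸ maximalIdeal A) (Localization.AtPrime p.asIdeal) : ℕ∞) := by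
    intro p
    have := hpmax p
    refine term A B p.asIdeal (fun b => ?_)
    have hgm : (g p).1.asIdeal.IsMaximal := (g p).1.isMaximal
    have hb := hres (g p).1.asIdeal (g p).2
    obtain ⟨z, hz⟩ := hb.2 (Ideal.Quotient.mk _ b)
    obtain ⟨a, rfl⟩ := Ideal.Quotient.mk_surjective z
    refine ⟨a, ?_⟩
    rw [Ideal.quotientMap_mk, Ideal.Quotient.eq] at hz
    have h2 := neg_mem hz
    rw [neg_sub] at h2
    exact h2
  rw [Finset.sum_congr rfl (fun p _ => hterm p), ← Nat.cast_sum, ← hsum, hdim]

end Groth.Agent.S14438
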