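import Groth.Statements.S14440
import Mathlib
import Groth.Agent.Lib.Helper26.Bezout2
import Groth.Agent.Lib.Helper26.CMRegSeq
import Groth.Agent.Lib.Helper26.CMCat3
import Groth.Agent.Lib.Helper26.Graded1


set_option autoImplicit false
universe u
open ProjDeg

namespace Groth.Agent.S14440


attribute [local instance] MvPolynomial.gradedAlgebra in
open Groth.Agent.Lib.helper26 in
open MvPolynomial in
theorem aux (k : Type u) [Field k] (n : ℕ)
    (f : Fin n → MvPolynomial (Fin (n + 1)) k) (d : Fin n → ℕ) (hd : ∀ i, 1 ≤ d i)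
    (hf : ∀ i, (f i).IsHomogeneous (d i))
    (hdim : ringKrullDim (MvPolynomial (Fin (n + 1)) k ⧸ Ideal.span (Set.range f)) = 1) :
    ∃ P : Polynomial ℚ, GrHS.IsHilbPoly (Ideal.span (Set.range f)) P ∧ P.natDegree = 0 ∧
      P.leadingCoeff = ((∏ i : Fin n, d i : ℕ) : ℚ) := by
  classical
  have hk := CMCat.isCohenMacaulayRing_field k
  have hS : LocCoh.IsCohenMacaulayRing (MvPolynomial (Fin (n + 1)) k) :=
    CMPoly.isCohenMacaulayRing_mvPolynomial k (n + 1)
  have hlist : Ideal.ofList (List.ofFn f) = Ideal.span (Set.range f) := by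
    unfold Ideal.ofList
    congr 1
    ext x
    simp [List.mem_ofFn]
  rw [← hlist] at hdim ⊢
  set fs := List.ofFn f with hfs
  set ds := List.ofFn d with hds
  have hlenf : fs.length = n := List.length_ofFn
  have hlend : ds.length = n := List.length_ofFn
  have hne : Ideal.ofList fs ≠ ⊤ := by
    intro htop
    have hsub : Subsingleton (MvPolynomial (Fin (n + 1)) k ⧸ Ideal.ofList fs) :=
      Ideal.Quotient.subsingleton_iff.2 htop
    rw [ringKrullDim_eq_bot_of_subsingleton] at hdim
    exact absurd hdim (by simp)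
  have hdimR : ringKrullDim (MvPolynomial (Fin (n + 1)) k) = ((n + 1 : ℕ) : WithBot ℕ∞) := by
    rw [MvPolynomial.ringKrullDim_of_isNoetherianRing, ringKrullDim_eq_zero_of_field, zero_add,
      Nat.card_eq_fintype_card, Fintype.card_fin]
  have heq : ∀ p ∈ minimalPrimes (MvPolynomial (Fin (n + 1)) k),
      ringKrullDim (MvPolynomial (Fin (n + 1)) k ⧸ p) = ((n + 1 : ℕ) : WithBot ℕ∞) := by
    intro p hp
    rw [IsDomain.minimalPrimes_eq_singleton_bot, Set.mem_singleton_iff] at hp
    rw [hp, ringKrullDim_eq_of_ringEquiv (RingEquiv.quotientBot _), hdimR]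
  have hle : ringKrullDim (MvPolynomial (Fin (n + 1)) k ⧸ Ideal.ofList fs) ≤
      ((n + 1 - fs.length : ℕ) : WithBot ℕ∞) := by
    rw [hdim, hlenf, Nat.add_sub_cancel_left]
    rfl
  obtain ⟨-, hRS⟩ := DimFormula.cm_equidim_regular k (MvPolynomial (Fin (n + 1)) k) (n + 1) heq fs
    (by omega) hne hle
  -- the irrelevant ideal
  have hmax : (GrHS.mI k (Fin (n + 1))).IsMaximal := Graded.span_X_isMaximal
  have hprime : (GrHS.mI k (Fin (n + 1))).IsPrime := hmax.isPrime
  have hfsm : Ideal.ofList fs ≤ GrHS.mI k (Fin (n + 1)) := by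
    apply Ideal.span_le.2
    intro x hx
    obtain ⟨i, rfl⟩ := (List.mem_ofFn' f x).1 hx
    have h1 := GrHS.isHomogeneous_mem_pow (hf i)
    exact Ideal.pow_le_self (by have := hd i; omega) h1
  have hR := hRS (GrHS.mI k (Fin (n + 1))) hfsm
  have hhomg : ∀ i (h : i < fs.length), fs[i].IsHomogeneous (ds[i]'(by omega)) := by
    intro i h
    simp only [hfs, hds, List.getElem_ofFn]
    exact hf _
  have hpos : ∀ i (h : i < ds.length), 0 < ds[i] := by
    intro i h
    simp only [hds, List.getElem_ofFn]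
    exact hd _
  have hJhom : ∀ j, (Ideal.ofList (fs.take j)).IsHomogeneous
      (homogeneousSubmodule (Fin (n + 1)) k) := by
    intro j
    apply Bezout.isHomogeneous_ofList
    intro x hx
    obtain ⟨i, hi, rfl⟩ := List.mem_iff_getElem.1 (List.mem_of_mem_take hx)
    exact ⟨_, hhomg i hi⟩
  have hreg : ∀ j (h : j < fs.length), ∀ g, fs[j] * g ∈ Ideal.ofList (fs.take j) →
      g ∈ Ideal.ofList (fs.take j) := by
    intro j hj
    apply Bezout.mem_of_mul_mem_of_local _ (hJhom j) _ _ (hhomg j hj)
    intro g hg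
    have hsm := hR.toIsWeaklyRegular.regular_mod_prev j (by rwa [List.length_map])
    have hI : (Ideal.ofList ((fs.map (algebraMap (MvPolynomial (Fin (n + 1)) k)
        (Localization.AtPrime (GrHS.mI k (Fin (n + 1)))))).take j) • ⊤ :
        Submodule (Localization.AtPrime (GrHS.mI k (Fin (n + 1))))
          (Localization.AtPrime (GrHS.mI k (Fin (n + 1))))) =
        (Ideal.ofList (fs.take j)).map (algebraMap (MvPolynomial (Fin (n + 1)) k)
          (Localization.AtPrime (GrHS.mI k (Fin (n + 1))))) := by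
      rw [← List.map_take, ← Ideal.map_ofList, smul_eq_mul, Ideal.mul_top]
    have hmem : algebraMap (MvPolynomial (Fin (n + 1)) k)
        (Localization.AtPrime (GrHS.mI k (Fin (n + 1)))) g ∈
        (Ideal.ofList (fs.take j)).map (algebraMap (MvPolynomial (Fin (n + 1)) k)
          (Localization.AtPrime (GrHS.mI k (Fin (n + 1))))) := by
      rw [← hI, ← Submodule.Quotient.mk_eq_zero]
      apply hsm
      simp only [smul_zero]
      rw [← Submodule.Quotient.mk_smul, Submodule.Quotient.mk_eq_zero, hI, List.getElem_map,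
        smul_eq_mul, ← map_mul]
      exact Ideal.mem_map_of_mem _ hg
    rw [IsLocalization.mem_map_algebraMap_iff (GrHS.mI k (Fin (n + 1))).primeCompl] at hmem
    obtain ⟨⟨a, s⟩, has⟩ := hmem
    have hinj : Function.Injective (algebraMap (MvPolynomial (Fin (n + 1)) k)
        (Localization.AtPrime (GrHS.mI k (Fin (n + 1))))) :=
      IsLocalization.injective _
        (Ideal.primeCompl_le_nonZeroDivisors (GrHS.mI k (Fin (n + 1))))
    refine ⟨s, ?_, ?_⟩
    · intro h0
      apply s.2
      have h := (mem_pow_idealOfVars_iff' (σ := Fin (n + 1)) (R := k) 1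
        (s : MvPolynomial (Fin (n + 1)) k)).2 ?_
      · rwa [pow_one] at h
      · intro x hx
        have hx0 : x = 0 := by
          have : x.degree = 0 := by omega
          exact (Finsupp.degree_eq_zero_iff x).1 this
        rw [hx0]
        exact h0
    · have h1 : (s : MvPolynomial (Fin (n + 1)) k) * g = a := by
        apply hinj
        rw [map_mul, mul_comm]
        exact has
      rw [h1]
      exact a.2
  obtain ⟨P, hP, hdeg, hlc⟩ := Bezout.isHilbPoly_ofList_take n fs ds (by omega) (by omega) hhomg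
    hpos hne hreg fs.length le_rfl
  rw [List.take_length] at hP
  rw [hlenf, Nat.sub_self] at hdeg
  refine ⟨P, hP, hdeg, ?_⟩
  rw [hlenf, Nat.sub_self, Nat.factorial_zero, Nat.cast_one, one_mul, ← hlend, List.take_length,
    hds, List.prod_ofFn] at hlc
  rw [hlc]


/-- Let k be an algebraically closed field and H_1, …, H_n hypersurfaces in P^n given by homogeneous
polynomials f_1, …, f_n of degrees d_1, …, d_n ≥ 1 in S = k[x_0, …, x_n], meeting in finitely many
points, i.e. S/(f_1, …, f_n) has Krull dimension one. Then the intersection multiplicities of the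
H_i at the points of H_1 ∩ ⋯ ∩ H_n add up to d_1 ⋯ d_n; stated here in the form established in the
proof: the Hilbert function of S/(f_1, …, f_n) is eventually the constant Π d_i, i.e. for all large
m, dim_k S_m − dim_k ((f_1, …, f_n) ∩ S_m) = Π d_i (this constant is the degree of O_{H_1} ⊗ ⋯ ⊗
O_{H_n}, the sum of the lengths of its stalks). -/
theorem result (k : Type u) [Field k] [IsAlgClosed k] (n : ℕ)
    (f : Fin n → MvPolynomial (Fin (n + 1)) k) (d : Fin n → ℕ) (hd : ∀ i, 1 ≤ d i)
    (hf : ∀ i, (f i).IsHomogeneous (d i))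
    (hdim : ringKrullDim (MvPolynomial (Fin (n + 1)) k ⧸ Ideal.span (Set.range f)) = 1) :
    ∃ m₀ : ℕ, ∀ m : ℕ, m₀ ≤ m →
      Module.finrank k ↥(MvPolynomial.homogeneousSubmodule (Fin (n + 1)) k m) -
        Module.finrank k ↥((Ideal.span (Set.range f)).restrictScalars k ⊓ MvPolynomial.homogeneousSubmodule (Fin (n + 1)) k m) =
      ∏ i : Fin n, d i := by
  obtain ⟨P, ⟨m₀, hm₀⟩, hdeg, hlc⟩ := aux k n f d hd hf hdim
  refine ⟨m₀, fun m hm => ?_⟩
  have h1 := hm₀ m hm
  rw [Polynomial.eq_C_of_natDegree_eq_zero hdeg, Polynomial.eval_C] at h1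
  have h2 : P.coeff 0 = ((∏ i : Fin n, d i : ℕ) : ℚ) := by
    rw [← hlc, Polynomial.leadingCoeff, hdeg]
  rw [h2] at h1
  have hle : Module.finrank k ↥((Ideal.span (Set.range f)).restrictScalars k ⊓
      MvPolynomial.homogeneousSubmodule (Fin (n + 1)) k m) ≤
      Module.finrank k ↥(MvPolynomial.homogeneousSubmodule (Fin (n + 1)) k m) :=
    Submodule.finrank_mono inf_le_right
  unfold Groth.Agent.Lib.helper26.HilbHyper.part at h1
  rw [← Nat.cast_sub hle] at h1
  exact_mod_cast h1.symm


end Groth.Agent.S14440
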