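import Groth.Statements.S14442
import Mathlib.RingTheory.GradedAlgebra.Homogeneous.Ideal
import Mathlib.Algebra.Module.GradedModule

set_option autoImplicit false
universe u
open GrNak

namespace Groth.Agent.S14442

/-- Let R be a commutative ℕ-graded ring with irrelevant ideal R_+ = ⊕_{i>0} R_i, M an ℕ-graded R-module
and N a graded submodule of M (closed under taking homogeneous components). If M = R_+ M + N then N
= M. (The published statement is for finitely generated ℤ-graded modules over a graded quotient of a
polynomial ring, whose degrees are then bounded below; stated here for non-negatively graded modules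
over any ℕ-graded commutative ring, where the same lowest-degree argument applies without finite
generation.) -/
theorem result {R : Type u} [CommRing R] {σ : Type u} [SetLike σ R] [AddSubmonoidClass σ R]
    (𝒜 : ℕ → σ) [GradedRing 𝒜]
    {M : Type u} [AddCommGroup M] [Module R M] {τ : Type u} [SetLike τ M] [AddSubmonoidClass τ M]
    (ℳ : ℕ → τ) [DirectSum.Decomposition ℳ] [SetLike.GradedSMul 𝒜 ℳ]
    (N : Submodule R M) (hN : ∀ x ∈ N, ∀ i : ℕ, (DirectSum.decompose ℳ x i : M) ∈ N)
    (h : (HomogeneousIdeal.irrelevant 𝒜).toIdeal • (⊤ : Submodule R M) ⊔ N = ⊤) :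
    N = ⊤ := by
  classical
  -- the projection onto degree `d`
  let π : ℕ → M →+ M := fun d => (AddSubmonoidClass.subtype (ℳ d)).comp
    ((DFinsupp.evalAddMonoidHom d).comp (DirectSum.decomposeAddEquiv ℳ).toAddMonoidHom)
  have hπ : ∀ d (m : M), π d m = (DirectSum.decompose ℳ m d : M) := fun d m => rfl
  have hsumM : ∀ x : M, x = ∑ j ∈ (DirectSum.decompose ℳ x).support, (DirectSum.decompose ℳ x j : M) :=
    fun x => (DirectSum.sum_support_decompose ℳ x).symm
  have hsumR : ∀ r : R, r = ∑ i ∈ (DirectSum.decompose 𝒜 r).support, (DirectSum.decompose 𝒜 r i : R) :=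
    fun r => (DirectSum.sum_support_decompose 𝒜 r).symm
  have key : ∀ d : ℕ, ∀ m ∈ ℳ d, m ∈ N := by
    intro d
    induction d using Nat.strong_induction_on with
    | _ d IH =>
      intro m hm
      have hmtop : m ∈ (HomogeneousIdeal.irrelevant 𝒜).toIdeal • (⊤ : Submodule R M) ⊔ N := by
        rw [h]; trivial
      obtain ⟨y, hy, n, hn, rfl⟩ := Submodule.mem_sup.1 hmtop
      have hyd : π d y ∈ N := by
        refine Submodule.smul_induction_on (p := fun y => π d y ∈ N) hy ?_ ?_
        · intro r hr x _
          have hr0 : (DirectSum.decompose 𝒜 r 0 : R) = 0 := by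
            have := (HomogeneousIdeal.mem_irrelevant_iff 𝒜 r).1 hr
            simpa [GradedRing.proj_apply] using this
          have hrx : r • x = ∑ i ∈ (DirectSum.decompose 𝒜 r).support,
              ∑ j ∈ (DirectSum.decompose ℳ x).support,
                (DirectSum.decompose 𝒜 r i : R) • (DirectSum.decompose ℳ x j : M) := by
            conv_lhs => rw [hsumR r, hsumM x]
            rw [Finset.sum_smul]
            refine Finset.sum_congr rfl fun i _ => ?_
            rw [Finset.smul_sum]
          show π d (r • x) ∈ N
          rw [hrx, map_sum]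
          refine Submodule.sum_mem _ fun i _ => ?_
          rw [map_sum]
          refine Submodule.sum_mem _ fun j _ => ?_
          have hmem : (DirectSum.decompose 𝒜 r i : R) • (DirectSum.decompose ℳ x j : M) ∈ ℳ (i + j) := by
            have h5 := SetLike.GradedSMul.smul_mem (A := 𝒜) (B := ℳ) (i := i) (j := j)
              (SetLike.coe_mem (DirectSum.decompose 𝒜 r i)) (SetLike.coe_mem (DirectSum.decompose ℳ x j))
            rwa [vadd_eq_add] at h5
          by_cases hij : i + j = d
          · rw [hπ, ← hij, DirectSum.decompose_of_mem_same ℳ hmem]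
            by_cases hi0 : i = 0
            · subst hi0; rw [hr0, zero_smul]; exact N.zero_mem
            · have hjd : j < d := by omega
              exact N.smul_mem _ (IH j hjd _ (SetLike.coe_mem _))
          · rw [hπ, DirectSum.decompose_of_mem_ne ℳ hmem hij]
            exact N.zero_mem
        · intro a b ha hb
          show π d (a + b) ∈ N
          rw [map_add]; exact N.add_mem ha hb
      have hnd : π d n ∈ N := hN n hn d
      have hmd : π d (y + n) = y + n := by
        rw [hπ]; exact DirectSum.decompose_of_mem_same ℳ hm
      rw [← hmd, map_add]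
      exact N.add_mem hyd hnd
  rw [eq_top_iff]
  intro x _
  rw [hsumM x]
  exact Submodule.sum_mem _ fun j _ => key j _ (SetLike.coe_mem _)

end Groth.Agent.S14442
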