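import Groth.Statements.S14443
import Mathlib
import Groth.Agent.Lib.Helper17.CotFibre
import Groth.Agent.Lib.Helper3.FTFieldClosureDim
import Groth.Agent.Lib.Helper7.OmegaFitt
import Groth.Agent.Lib.Helper16.CohStalk

set_option autoImplicit false
universe u
open CategoryTheory CategoryTheory.Limits AlgebraicGeometry
attribute [local instance] FixPt.fiberModule
open Variety

namespace Groth.Agent.S14443

open scoped TensorProduct
open Groth.Agent.Lib.helper7 Groth.Agent.Lib.helper16.CohFinite Groth.Agent.Lib.helper16.CohStalk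
open Groth.Agent.Lib.helper3.FTField Groth.Agent.Lib.helper3.DimIneq
open Groth.Agent.Lib.helper17.CotFibre

set_option backward.isDefEq.respectTransparency.types false in
/-- the structure maps to `k` are compatible along a `k`-morphism -/
theorem appLE_comp_sec (k : Type u) [Field k] {X Y : Scheme.{u}} [X.Over (Spec (CommRingCat.of k))]
    [Y.Over (Spec (CommRingCat.of k))] (f : X ⟶ Y)
    (hf : f ≫ (Y ↘ Spec (CommRingCat.of k)) = X ↘ Spec (CommRingCat.of k))
    (W : Y.Opens) (V : X.Opens) (e : V ≤ f ⁻¹ᵁ W) :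
    (f.appLE W V e).hom.comp (sec k Y W) = sec k X V := by
  rw [sec_eq_appLE, sec_eq_appLE, ← RingHom.comp_assoc, ← CommRingCat.hom_comp,
    Scheme.Hom.appLE_comp_appLE]
  congr 2
  simp only [hf]

set_option backward.isDefEq.respectTransparency.types false in
/-- the stalk map of the structure morphism through an open neighbourhood -/
theorem stalkMap_eq_germ_sec (k : Type u) [Field k] (X : Scheme.{u}) [X.Over (Spec (CommRingCat.of k))]
    (U : X.Opens) (x : X) (hx : x ∈ U) (c : k) :
    Curv2.stalkMap k X x c = (X.presheaf.germ U x hx).hom (sec k X U c) := by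
  simp only [Curv2.stalkMap, sec]
  exact (TopCat.Presheaf.germ_res_apply X.presheaf (homOfLE (le_top : U ≤ ⊤)) x hx _).symm

/-- for a maximal ideal `q` and `O = B_q`, the ring `B` maps onto the residue field of `O` -/
theorem residue_algebraMap_surjective {B O : Type u} [CommRing B] [CommRing O] [IsLocalRing O]
    [Algebra B O] (q : Ideal B) [hq : q.IsMaximal] [IsLocalization.AtPrime O q] :
    Function.Surjective ((IsLocalRing.residue O).comp (algebraMap B O)) := by
  intro y
  obtain ⟨a, rfl⟩ := IsLocalRing.residue_surjective y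
  obtain ⟨⟨b, s⟩, hbs⟩ := IsLocalization.surj q.primeCompl a
  obtain ⟨t, i, hi, hti⟩ := hq.exists_inv s.2
  refine ⟨t * b, ?_⟩
  change IsLocalRing.residue O (algebraMap B O (t * b)) = IsLocalRing.residue O a
  rw [← sub_eq_zero, ← map_sub, IsLocalRing.residue_eq_zero_iff]
  have h1 : algebraMap B O (t * b) - a = - (a * algebraMap B O i) := by
    have h2 : algebraMap B O (t * (s : B)) = 1 - algebraMap B O i := by
      rw [← map_one (algebraMap B O), ← hti, map_add]; ring
    rw [map_mul, ← hbs, ← mul_assoc, mul_comm (algebraMap B O t) a, mul_assoc, ← map_mul, h2]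
    ring
  rw [h1]
  exact neg_mem (Ideal.mul_mem_left _ _
    ((IsLocalization.AtPrime.to_map_mem_maximal_iff O q i).mpr hi))

set_option backward.isDefEq.respectTransparency.types false in
theorem main (k : Type u) [Field k] [IsAlgClosed k]
    {X Y : Scheme.{u}} [X.Over (Spec (CommRingCat.of k))] [Y.Over (Spec (CommRingCat.of k))]
    [LocallyOfFiniteType (X ↘ Spec (CommRingCat.of k))]
    [LocallyOfFiniteType (Y ↘ Spec (CommRingCat.of k))]
    (f : X ⟶ Y) (hf : f ≫ (Y ↘ Spec (CommRingCat.of k)) = X ↘ Spec (CommRingCat.of k))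
    (x : X) (hx : IsClosed ({x} : Set X)) (Z : Set X) (hZ : IsIrreducible Z) (hZc : IsClosed Z) (hxZ : x ∈ Z)
    (hZf : Z ⊆ f.base ⁻¹' {f.base x}) (r : ℕ) (hr : topologicalKrullDim ↥Z = (r : WithBot ℕ∞)) :
    r ≤ Module.finrank k (FixPt.fiber (Omega.sheaf f) x) := by
  haveI : LocallyOfFiniteType f := by
    haveI : LocallyOfFiniteType (f ≫ (Y ↘ Spec (CommRingCat.of k))) := by rw [hf]; infer_instance
    exact locallyOfFiniteType_of_comp f (Y ↘ Spec (CommRingCat.of k))
  haveI : IsLocallyNoetherian X :=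
    LocallyOfFiniteType.isLocallyNoetherian (X ↘ Spec (CommRingCat.of k))
  haveI : (Omega.sheaf f).IsQuasicoherent := OmegaAffine.omega_qcoh f
  -- the generic point of `Z`
  obtain ⟨ξ, hξ⟩ := QuasiSober.sober hZ hZc
  obtain ⟨n, hn⟩ := exists_nat_trdeg_residueField k X ξ
  have hdim := dim_closure_eq_trdeg k X ξ n hn
  have hξZ : closure ({ξ} : Set X) = Z := hξ.def
  subst hξZ
  have hnr : n = r := by
    rw [hdim] at hr
    exact_mod_cast hr
  rw [hnr] at hn
  have hspec : ξ ⤳ x := specializes_iff_mem_closure.mpr hxZ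
  -- affine charts
  obtain ⟨W, hW, hxW, -⟩ := TopologicalSpace.Opens.isBasis_iff_nbhd.mp Y.isBasis_affineOpens
      (show f x ∈ (⊤ : Y.Opens) from trivial)
  obtain ⟨V, hV, hxV, hVW⟩ := TopologicalSpace.Opens.isBasis_iff_nbhd.mp X.isBasis_affineOpens
      (show x ∈ f ⁻¹ᵁ W from hxW)
  have hξV : ξ ∈ V := hspec.mem_open V.isOpen hxV
  have hfξ : f ξ = f x := hZf (subset_closure rfl)
  -- the algebra structures
  letI algAB : Algebra Γ(Y, W) Γ(X, V) := (f.appLE W V hVW).hom.toAlgebra
  letI algkB : Algebra k Γ(X, V) := (sec k X V).toAlgebra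
  letI algkA : Algebra k Γ(Y, W) := (sec k Y W).toAlgebra
  haveI : IsScalarTower k Γ(Y, W) Γ(X, V) := IsScalarTower.of_algebraMap_eq' (by
    change sec k X V = (f.appLE W V hVW).hom.comp (sec k Y W)
    exact (appLE_comp_sec k f hf W V hVW).symm)
  haveI : Algebra.FiniteType k Γ(X, V) := sec_finiteType k X hV
  haveI : IsNoetherianRing Γ(X, V) := Algebra.FiniteType.isNoetherianRing k Γ(X, V)
  haveI : Algebra.FiniteType Γ(Y, W) Γ(X, V) := LocallyOfFiniteType.finiteType_appLE f hW hV hVW
  -- the primes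
  set q := (hV.primeIdealOf ⟨x, hxV⟩).asIdeal with hq
  set P := (hV.primeIdealOf ⟨ξ, hξV⟩).asIdeal with hP
  haveI hqmax : q.IsMaximal := hV.primeIdealOf_isMaximal_of_isClosed ⟨x, hxV⟩ hx
  have hPq : P ≤ q := (specializes_iff_primeIdealOf_le hV ξ x hξV hxV).mp hspec
  have hcomap : q.comap (algebraMap Γ(Y, W) Γ(X, V)) ≤ P.comap (algebraMap Γ(Y, W) Γ(X, V)) := by
    have h1 := IsAffineOpen.comap_primeIdealOf_appLE (f := f) W hW V hV hVW hxV
    have h2 := IsAffineOpen.comap_primeIdealOf_appLE (f := f) W hW V hV hVW hξV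
    have h3 : hW.primeIdealOf ⟨f ξ, hVW hξV⟩ = hW.primeIdealOf ⟨f x, hVW hxV⟩ := by
      congr 1
      exact Subtype.ext hfξ
    rw [h3, ← h1] at h2
    exact le_of_eq (congrArg PrimeSpectrum.asIdeal h2).symm
  -- the residue field at `x` is `k`
  have hk : Function.Surjective (algebraMap k (Γ(X, V) ⧸ q)) := by
    letI : Field (Γ(X, V) ⧸ q) := Ideal.Quotient.field q
    haveI : Algebra.FiniteType k (Γ(X, V) ⧸ q) :=
      Algebra.FiniteType.of_surjective (Ideal.Quotient.mkₐ k q) Ideal.Quotient.mk_surjective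
    haveI : Module.Finite k (Γ(X, V) ⧸ q) := finite_of_finite_type_of_isJacobsonRing k _
    exact (IsAlgClosed.algebraMap_bijective_of_isIntegral (k := k) (K := Γ(X, V) ⧸ q)).2
  -- the height of `q/P`
  have hht : (r : ℕ∞) ≤ (q.map (Ideal.Quotient.mk P)).height := by
    have h1 := height_map_add_trdeg_residueField k X hV ξ x hξV hxV hPq
    rw [trdeg_residueField_eq_zero_of_isClosed k X x hx, hn, add_zero] at h1
    have h2 : (q.map (Ideal.Quotient.mk P)).height = (r : ℕ∞) := by exact_mod_cast h1
    rw [h2]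
  obtain ⟨T, instT, modBT, modkT, towerT, ψ, hψ, hTq, hrT⟩ :=
    core k Γ(Y, W) Γ(X, V) q P hPq hcomap hk r hht
  -- the sections of `Ω` over `V`
  obtain ⟨ψ₀, -⟩ := OmegaStruct.exists_sectionsEquiv f (OmegaSh.dOmega f)
    (OmegaUniv.isUniversal_dOmega f) hV hW hVW
  haveI : Module.Finite Γ(X, V) Γ(Omega.sheaf f, V) := Module.Finite.equiv ψ₀.symm
  -- the stalk as a localization
  letI algBO : Algebra Γ(X, V) (X.presheaf.stalk x) :=
    TopCat.Presheaf.algebra_section_stalk X.presheaf (⟨x, hxV⟩ : V)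
  letI modBN' := modStalk (Omega.sheaf f) x hxV
  haveI := isScalarTower_stalk (Omega.sheaf f) x hxV
  haveI : IsLocalization.AtPrime (X.presheaf.stalk x) q := hV.isLocalization_stalk ⟨x, hxV⟩
  haveI hloc : IsLocalizedModule q.primeCompl (germLin (Omega.sheaf f) x hxV) :=
    isLocalizedModule_stalk (Omega.sheaf f) hV x hxV
  obtain ⟨θ, hθsurj, hθ⟩ := bridge (O := X.presheaf.stalk x) q
    (germLin (Omega.sheaf f) x hxV) hTq (ψ.comp ψ₀.toLinearMap)
    (hψ.comp ψ₀.surjective)
  -- finiteness of the fibre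
  haveI : Module.Finite (X.presheaf.stalk x) ((Omega.sheaf f).presheaf.stalk x) :=
    Module.Finite.of_isLocalizedModule q.primeCompl (germLin (Omega.sheaf f) x hxV)
  have halg : ∀ c : k, Curv2.stalkMap k X x c =
      algebraMap Γ(X, V) (X.presheaf.stalk x) (algebraMap k Γ(X, V) c) :=
    fun c => stalkMap_eq_germ_sec k X V x hxV c
  have hj : Function.Surjective
      ((IsLocalRing.residue (X.presheaf.stalk x)).comp (Curv2.stalkMap k X x)) := by
    intro y
    obtain ⟨b, rfl⟩ := residue_algebraMap_surjective (O := X.presheaf.stalk x) q y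
    obtain ⟨c, hc⟩ := hk (Ideal.Quotient.mk q b)
    refine ⟨c, ?_⟩
    change IsLocalRing.residue _ (Curv2.stalkMap k X x c) =
      IsLocalRing.residue _ (algebraMap Γ(X, V) (X.presheaf.stalk x) b)
    rw [halg, ← sub_eq_zero, ← map_sub, ← map_sub, IsLocalRing.residue_eq_zero_iff,
      IsLocalization.AtPrime.to_map_mem_maximal_iff (X.presheaf.stalk x) q,
      ← Ideal.Quotient.eq_zero_iff_mem, map_sub, sub_eq_zero, ← hc]
    rfl
  haveI hfin : Module.Finite k (FixPt.fiber (Omega.sheaf f) x) :=
    finite_fiber (Curv2.stalkMap k X x) hj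
  -- the `k`-linear surjection onto the cotangent space
  let θk : FixPt.fiber (Omega.sheaf f) x →ₗ[k] T :=
    { toFun := θ
      map_add' := map_add θ
      map_smul' := fun c v => by
        change θ (Curv2.stalkMap k X x c • v) = c • θ v
        rw [halg, hθ, algebraMap_smul] }
  have hθk : Function.Surjective θk := hθsurj
  have h1 := θk.finrank_range_le
  rw [LinearMap.range_eq_top.mpr hθk, finrank_top] at h1
  exact hrT.trans h1

/-- Let k be an algebraically closed field, f : X → Y a morphism of k-schemes of finite type, x a closed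
point of X and Z an irreducible closed subset of the fibre f⁻¹(f(x)) passing through x, of dimension
r. Then dim_k (Ω_{X/Y})_(x) ≥ r, where (Ω_{X/Y})_(x) = Ω_{X/Y,x} ⊗ k(x) is the fibre of the sheaf of
relative differentials at x, a vector space over k(x) = k (x is closed and k algebraically closed),
regarded as a k-module through k → O_{X,x}. (The published statement is for varieties, i.e. X and Y
reduced and separated; this row assumes neither. Since X is locally of finite type over a field it
is locally Noetherian, so f is quasi-separated; the argument, T_x Z ⊆ ker(df_x) and dim T_x Z ≥ dim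
Z, uses neither reducedness nor separatedness.) -/
theorem result (k : Type u) [Field k] [IsAlgClosed k]
    {X Y : Scheme.{u}} [X.Over (Spec (CommRingCat.of k))] [Y.Over (Spec (CommRingCat.of k))]
    [LocallyOfFiniteType (X ↘ Spec (CommRingCat.of k))] [QuasiCompact (X ↘ Spec (CommRingCat.of k))]
    [LocallyOfFiniteType (Y ↘ Spec (CommRingCat.of k))] [QuasiCompact (Y ↘ Spec (CommRingCat.of k))]
    (f : X ⟶ Y) (hf : f ≫ (Y ↘ Spec (CommRingCat.of k)) = X ↘ Spec (CommRingCat.of k))
    (x : X) (hx : IsClosed ({x} : Set X)) (Z : Set X) (hZ : IsIrreducible Z) (hZc : IsClosed Z) (hxZ : x ∈ Z)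
    (hZf : Z ⊆ f.base ⁻¹' {f.base x}) (r : ℕ) (hr : topologicalKrullDim ↥Z = (r : WithBot ℕ∞)) :
    r ≤ Module.finrank k (FixPt.fiber (Omega.sheaf f) x) := by
  exact main k f hf x hx Z hZ hZc hxZ hZf r hr

end Groth.Agent.S14443
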