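import Groth.Statements.S14444
import Mathlib
import Groth.Agent.Lib.Helper18.NNPush

set_option autoImplicit false
universe u
open Coherent

namespace Groth.Agent.S14444

open Groth.Agent.Lib.Helper18.NNLocal Groth.Agent.Lib.Helper18.NNRows
  Groth.Agent.Lib.Helper18.SplitAlg Groth.Agent.Lib.Helper18.NNPush
  Groth.Agent.Lib.Helper18.NNGen
  Groth.Agent.Lib.helper25.FLFLocus

open AlgebraicGeometry CategoryTheory Scheme.Modules

open AlgebraicGeometry CategoryTheory Scheme.Modules in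
/-- Let η : Y → V be a proper morphism of finite presentation and L a quasi-coherent O_Y-module of
finite presentation, flat over V, with H^1(Y_v, L_v) = 0 for every point v of V (cohomology of the
restriction of L to the fibre Y_v). Then η_* L is finite locally free, and for every cartesian
square with vertex X = U ×_V Y, projections f : X → Y and ζ : X → U, over a morphism φ : U → V, the
base change map φ^* η_* L → ζ_* f^* L — the map adjoint to η_*(ρ) : η_* L → η_* f_* f^* L = φ_* ζ_*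
f^* L, where ρ : L → f_* f^* L is the unit — is an isomorphism. -/
theorem result {Y V : Scheme.{u}} (η : Y ⟶ V)
    [IsProper η] [LocallyOfFinitePresentation η] (L : Y.Modules) [Coh.IsQCoh L] (hfp : CohB1.IsFP L)
    (hfl : FlatMod.IsFlatOver η L) (h1 : ∀ v : V, Subsingleton (CohIII.fiberH η L v 1)) :
    FlatMod.IsFinLocFree ((pushforward η).obj L) ∧
      ∀ ⦃X U : Scheme.{u}⦄ (f : X ⟶ Y) (ζ : X ⟶ U) (φ : U ⟶ V) (h : IsPullback f ζ η φ),
        IsIso (((pullbackPushforwardAdjunction φ).homEquiv ((pushforward η).obj L)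
            ((pushforward ζ).obj ((pullback f).obj L))).symm
          ((pushforward η).map ((pullbackPushforwardAdjunction f).unit.app L) ≫
            (pushforwardComp f η).hom.app ((pullback f).obj L) ≫
            (pushforwardCongr h.w).hom.app ((pullback f).obj L) ≫
            (pushforwardComp ζ φ).inv.app ((pullback f).obj L))) := by
  classical
  haveI : L.IsFinitePresentation := hfp
  haveI : L.IsQuasicoherent := inferInstance
  haveI : ((Scheme.Modules.pushforward η).obj L).IsQuasicoherent :=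
    Groth.Agent.Lib.helper7.QCohPushQC.isQuasicoherent_pushforward η L
  have key : ∀ v : V, ∃ (W : V.Opens) (_ : IsAffineOpen W)
      (K : CochainComplex (ModuleCat.{u} Γ(V, W)) ℤ)
      (Θ₀ : K.homology ((0 : ℕ) : ℤ) ≃ₗ[Γ(V, W)] Γ((pushforward η).obj L, W))
      (_ : ∀ {X' S' : Scheme.{u}} (g : S' ⟶ V) (gX : X' ⟶ Y) (f' : X' ⟶ S')
          (hX : IsPullback gX f' η g),
          ChartPropGen g (CohBC.bc0Adj η g f' gX hX.w L) K ((0 : ℕ) : ℤ) Θ₀)
      (a : Γ(V, W)), v ∈ V.basicOpen a ∧ GSplit (K.sc ((0 : ℕ) : ℤ)) a ∧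
        FreeNear ((pushforward η).obj L) v := by
    intro v
    obtain ⟨W, hW', hvW, -⟩ := TopologicalSpace.Opens.isBasis_iff_nbhd.mp V.isBasis_affineOpens
      (show v ∈ (⊤ : V.Opens) from trivial)
    have hW : IsAffineOpen W := hW'
    obtain ⟨K, hLff, -, hneg, hK, Θ₀, hΘ₀⟩ := master_push η L hfp hfl hW
    obtain ⟨a1, hva1, -, hf1, -⟩ := exists_splits_of_vanish η hW L K hLff hK v hvW 1 (h1 v)
    have hrel1 : (ComplexShape.up ℤ).Rel ((0 : ℕ) : ℤ) ((1 : ℕ) : ℤ) := by
      show ((0 : ℕ) : ℤ) + 1 = ((1 : ℕ) : ℤ)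
      norm_num
    have hg0 : GSplit (K.sc ((0 : ℕ) : ℤ)) a1 := (fsplit_iff_gsplit K hrel1 a1).mp hf1
    have hx : hW.fromSpec (hW.primeIdealOf ⟨v, hvW⟩) = v := hW.fromSpec_primeIdealOf ⟨v, hvW⟩
    have h0 : Subsingleton ((CohIII.bcCx (algebraMap Γ(V, W)
        (hW.primeIdealOf ⟨v, hvW⟩).asIdeal.ResidueField) K).homology (-1)) :=
      ModuleCat.subsingleton_of_isZero (hneg _ (-1) (by norm_num))
    obtain ⟨am, hvam, hgm, -, -⟩ := exists_splits_of_subsingleton_bc hW K hLff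
      (hW.primeIdealOf ⟨v, hvW⟩) (-1) h0
    rw [hx] at hvam
    have hrel0 : (ComplexShape.up ℤ).Rel (-1 : ℤ) ((0 : ℕ) : ℤ) := by
      show (-1 : ℤ) + 1 = ((0 : ℕ) : ℤ)
      norm_num
    have hfi : FSplit (K.sc ((0 : ℕ) : ℤ)) am := (fsplit_iff_gsplit K hrel0 am).mpr hgm
    have hmul : V.basicOpen (a1 * am) = V.basicOpen a1 ⊓ V.basicOpen am :=
      Scheme.basicOpen_mul V a1 am
    have hle0 : V.basicOpen (a1 * am) ≤ V.basicOpen a1 := hmul.le.trans inf_le_left
    have hlem : V.basicOpen (a1 * am) ≤ V.basicOpen am := hmul.le.trans inf_le_right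
    refine ⟨W, hW, K, Θ₀, hΘ₀, a1, hva1, hg0, ?_⟩
    haveI : Module.Finite Γ(V, W) (K.sc ((0 : ℕ) : ℤ)).X₂ := (hLff _).1
    haveI : Module.Free Γ(V, W) (K.sc ((0 : ℕ) : ℤ)).X₂ := (hLff _).2
    obtain ⟨p1, p2⟩ := projective_sections_basicOpen ((Scheme.Modules.pushforward η).obj L) hW
      (K.sc ((0 : ℕ) : ℤ)) Θ₀ (a1 * am) am a1 hfi hg0 hlem hle0
    exact freeNear_of_projective_sections _ (hW.basicOpen (a1 * am)) p1 p2 v
      (by rw [hmul]; exact ⟨hva1, hvam⟩)
  refine ⟨fun v => ?_, ?_⟩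
  · obtain ⟨W, hW, K, Θ₀, hΘ₀, a, hva, hg0, hfree⟩ := key v
    exact hfree
  · intro X U f ζ φ h
    refine isIso_adj_of_splitAtGen (v := CohBC.bc0Adj η φ ζ f h.w L) (fun z => ?_)
    obtain ⟨W, hW, K, Θ₀, hΘ₀, a, hva, hg0, hfree⟩ := key (φ z)
    exact splitAtGen_of_gsplit η L hW K Θ₀ hΘ₀ a hg0 φ f ζ h z hva

end Groth.Agent.S14444
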