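import Groth.Statements.S14447
import Mathlib

set_option autoImplicit false
universe w v u
open AlgGrp

namespace Groth.Agent.S14447

section
open CategoryTheory CategoryTheory.Limits

variable {C : Type u} [Category.{v} C] [HasFiniteProducts C] [HasCoproducts.{w} C]

noncomputable def α (I J : Type w) :
    (∐ fun _ : I × J => ⊤_ C) ⟶ ∐ fun _ : I => (∐ fun _ : J => ⊤_ C) :=
  Sigma.desc fun p => Sigma.ι (fun _ : J => ⊤_ C) p.2 ≫
    Sigma.ι (fun _ : I => ∐ fun _ : J => ⊤_ C) p.1

noncomputable def β (I J : Type w) :
    (∐ fun _ : I => (∐ fun _ : J => ⊤_ C)) ⟶ ∐ fun _ : I × J => ⊤_ C :=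
  Sigma.desc fun i => Sigma.desc fun j => Sigma.ι (fun _ : I × J => ⊤_ C) (i, j)

theorem α_β (I J : Type w) : α (C := C) I J ≫ β I J = 𝟙 _ := by
  apply Sigma.hom_ext
  intro p
  simp [α, β]

theorem β_α (I J : Type w) : β (C := C) I J ≫ α I J = 𝟙 _ := by
  apply Sigma.hom_ext
  intro i
  apply Sigma.hom_ext
  intro j
  simp [α, β]

instance (I J : Type w) : IsIso (α (C := C) I J) := ⟨β I J, α_β I J, β_α I J⟩

theorem α_comp (I J : Type w) :
    α (C := C) I J ≫ (Sigma.desc fun i : I =>
      prod.lift (terminal.from (∐ fun _ : J => ⊤_ C) ≫ Sigma.ι (fun _ : I => ⊤_ C) i)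
        (𝟙 (∐ fun _ : J => ⊤_ C))) =
    prod.lift ((sigmaConst.{w}.obj (⊤_ C)).map (↾(Prod.fst : I × J → I)))
      ((sigmaConst.{w}.obj (⊤_ C)).map (↾(Prod.snd : I × J → J))) := by
  apply Sigma.hom_ext
  intro p
  apply Limits.prod.hom_ext
  · have h1 : terminal.from (⊤_ C) = 𝟙 (⊤_ C) := Subsingleton.elim _ _
    simp [α, h1]
  · have h1 : terminal.from (⊤_ C) = 𝟙 (⊤_ C) := Subsingleton.elim _ _
    simp [α, h1]

end

open CategoryTheory CategoryTheory.Limits in
/-- Let C be a category with finite products and with all coproducts indexed by sets, and assume that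
for every set I and every object U the canonical arrow ∐_{i∈I} U → (∐_{i∈I} pt) × U, whose i-th
component pairs U → pt → ∐_{i∈I} pt (i-th coprojection) with the identity of U, is an isomorphism.
Then the discrete-object functor from sets to C, I ↦ ∐_{i∈I} pt, preserves finite products. (Sets
are the types of one fixed universe, the one indexing the coproducts. The published statement asks
only for the coproducts of copies of one object; this row assumes that C has all coproducts indexed
by sets, which Mathlib's discrete-object functor sigmaConst requires.) -/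
theorem result {C : Type u} [Category.{v} C]
    [HasFiniteProducts C] [HasCoproducts.{w} C]
    (h : ∀ (I : Type w) (U : C), IsIso (Sigma.desc fun i : I =>
      prod.lift (terminal.from U ≫ Sigma.ι (fun _ : I => ⊤_ C) i) (𝟙 U))) :
    PreservesFiniteProducts (sigmaConst.{w}.obj (⊤_ C)) := by
  let G : Type w ⥤ C := sigmaConst.{w}.obj (⊤_ C)
  have hbin : ∀ I J : Type w, PreservesLimit (pair I J) G := by
    intro I J
    apply preservesLimit_of_preserves_limit_cone (Types.binaryProductLimit I J)
    apply (isLimitMapConeBinaryFanEquiv G _ _).symm _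
    have hiso : IsIso (prod.lift (G.map (↾(Prod.fst : I × J → I)))
        (G.map (↾(Prod.snd : I × J → J)))) := by
      rw [← α_comp]
      have := h I (∐ fun _ : J => ⊤_ C)
      infer_instance
    exact @IsLimit.ofPointIso _ _ _ _ _ _ _ (limit.isLimit (pair (G.obj I) (G.obj J))) hiso
  have hb : PreservesLimitsOfShape (Discrete WalkingPair) G := ⟨fun {K} => by
    have := hbin (K.obj ⟨WalkingPair.left⟩) (K.obj ⟨WalkingPair.right⟩)
    exact preservesLimit_of_iso_diagram G (diagramIsoPair K).symm⟩
  have ht : PreservesLimit (Functor.empty.{0} (Type w)) G :=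
    preservesTerminal_of_iso G (coproductUniqueIso (fun _ : (⊤_ (Type w)) => ⊤_ C))
  have ht' : PreservesLimitsOfShape (Discrete PEmpty.{1}) G :=
    preservesLimitsOfShape_pempty_of_preservesTerminal G
  exact PreservesFiniteProducts.of_preserves_binary_and_terminal G

end Groth.Agent.S14447
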