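import Groth.Statements.S14448
-- import your own Groth.Agent.* helpers here

set_option autoImplicit false
universe u
open Coherent

namespace Groth.Agent.S14448


open CategoryTheory in
theorem transpose_comp {C₁ C₂ C₃ : Type*} [Category C₁] [Category C₂] [Category C₃]
    {Lψ : C₃ ⥤ C₂} {Rψ : C₂ ⥤ C₃} {Lφ : C₂ ⥤ C₁} {Rφ : C₁ ⥤ C₂} {Lc : C₃ ⥤ C₁} {Rc : C₁ ⥤ C₃}
    (adjψ : Lψ ⊣ Rψ) (adjφ : Lφ ⊣ Rφ) (adjc : Lc ⊣ Rc)
    (pc : Lψ ⋙ Lφ ≅ Lc) (pfc : Rφ ⋙ Rψ ≅ Rc)
    (h : conjugateEquiv (adjψ.comp adjφ) adjc pc.inv = pfc.hom)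
    {N : C₃} {P : C₂} {Q : C₁} (B : N ⟶ Rψ.obj P) (C : P ⟶ Rφ.obj Q) :
    pc.hom.app N ≫ (adjc.homEquiv _ _).symm (B ≫ Rψ.map C ≫ pfc.hom.app Q) =
      Lφ.map ((adjψ.homEquiv _ _).symm B) ≫ (adjφ.homEquiv _ _).symm C := by
  have key := conjugateEquiv_counit (adjψ.comp adjφ) adjc pc.inv Q
  rw [h] at key
  simp only [Adjunction.homEquiv_counit, Functor.map_comp, Category.assoc]
  rw [key]
  have nat := pc.hom.naturality (B ≫ Rψ.map C)
  simp only [Functor.comp_map, Functor.map_comp, Category.assoc] at nat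
  simp only [Functor.comp_obj] at *
  rw [← Category.assoc (Lc.map B), ← Category.assoc (pc.hom.app N), ← Category.assoc (pc.hom.app N)]
  rw [Category.assoc (pc.hom.app N), ← nat]
  simp only [Category.assoc, Iso.hom_inv_id_app_assoc, Adjunction.comp_counit_app, Functor.comp_obj]
  rw [← Lφ.map_comp_assoc (Lψ.map (Rψ.map C)), adjψ.counit_naturality, Lφ.map_comp_assoc]

open AlgebraicGeometry CategoryTheory Scheme.Modules in
@[reassoc]
theorem app_nat {X : Scheme.{u}} {M N : X.Modules} (φ : M ⟶ N) {U V : X.Opens} (i : U ⟶ V) :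
    M.presheaf.map i.op ≫ φ.app U = φ.app V ≫ N.presheaf.map i.op :=
  φ.mapPresheaf.naturality i.op

open AlgebraicGeometry CategoryTheory Scheme.Modules in
theorem app_nat_apply {X : Scheme.{u}} {M N : X.Modules} (φ : M ⟶ N) {U V : X.Opens} (i : U ⟶ V)
    (x : Γ(M, V)) :
    (φ.app U).hom ((M.presheaf.map i.op).hom x) = (N.presheaf.map i.op).hom ((φ.app V).hom x) := by
  have := congrArg (fun t => t.hom x) (app_nat φ i)
  simpa using this

open AlgebraicGeometry CategoryTheory Scheme.Modules in
theorem hA_general {X Y Z U V W : Scheme.{u}} (f : X ⟶ Y) (g : Y ⟶ Z)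
    (ξ : X ⟶ U) (η : Y ⟶ V) (ζ : Z ⟶ W) (φ : U ⟶ V) (ψ : V ⟶ W)
    (h₁ : f ≫ η = ξ ≫ φ) (h₂ : g ≫ ζ = η ≫ ψ) (hw : (f ≫ g) ≫ ζ = ξ ≫ (φ ≫ ψ))
    {L : Z.Modules} {G : Y.Modules} {F K : X.Modules}
    (ug : L ⟶ (pushforward g).obj G) (uf : G ⟶ (pushforward f).obj F) (α : F ⟶ K) :
    (pushforward ζ).map (ug ≫ (pushforward g).map uf ≫ (pushforwardComp f g).hom.app F ≫
        (pushforward (f ≫ g)).map α) ≫
      (pushforwardComp (f ≫ g) ζ).hom.app K ≫ (pushforwardCongr hw).hom.app K ≫
      (pushforwardComp ξ (φ ≫ ψ)).inv.app K =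
    ((pushforward ζ).map ug ≫ (pushforwardComp g ζ).hom.app G ≫ (pushforwardCongr h₂).hom.app G ≫
        (pushforwardComp η ψ).inv.app G) ≫
      (pushforward ψ).map (((pushforward η).map uf ≫ (pushforwardComp f η).hom.app F ≫
        (pushforwardCongr h₁).hom.app F ≫ (pushforwardComp ξ φ).inv.app F) ≫
        (pushforward φ).map ((pushforward ξ).map α)) ≫
      (pushforwardComp φ ψ).hom.app ((pushforward ξ).obj K) := by
  refine Scheme.Modules.hom_ext _ _ (fun W' => ?_)
  simp
  erw [app_nat_assoc uf]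
  refine congrArg _ (congrArg _ ?_)
  have key : ∀ {A A' B : X.Opens} (e₁ : A' ⟶ A) (e₂ : B ⟶ A') (e₃ : B ⟶ A),
      α.app A ≫ K.presheaf.map e₃.op = F.presheaf.map e₁.op ≫ F.presheaf.map e₂.op ≫ α.app B := by
    intro A A' B e₁ e₂ e₃
    rw [← Functor.map_comp_assoc, ← op_comp, app_nat]
    congr 1
  exact key _ _ _

open AlgebraicGeometry CategoryTheory Scheme.Modules in
/-- unit compatibility for `pullbackComp` -/
@[reassoc]
theorem unit_comp {X Y Z : Scheme.{u}} (f : X ⟶ Y) (g : Y ⟶ Z) (M : Z.Modules) :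
    (pullbackPushforwardAdjunction g).unit.app M ≫
      (pushforward g).map ((pullbackPushforwardAdjunction f).unit.app ((pullback g).obj M)) ≫
      (pushforwardComp f g).hom.app ((pullback f).obj ((pullback g).obj M)) =
    (pullbackPushforwardAdjunction (f ≫ g)).unit.app M ≫
      (pushforward (f ≫ g)).map ((pullbackComp f g).inv.app M) := by
  have := unit_conjugateEquiv
    ((pullbackPushforwardAdjunction g).comp (pullbackPushforwardAdjunction f))
    (pullbackPushforwardAdjunction (f ≫ g)) (pullbackComp f g).inv M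
  rw [conjugateEquiv_pullbackComp_inv] at this
  simpa [Adjunction.comp_unit_app] using this

open AlgebraicGeometry CategoryTheory Scheme.Modules in
/-- Take two commutative squares of schemes side by side, f : X → Y over φ : U → V (vertical maps ξ : X
→ U and η : Y → V, f ≫ η = ξ ≫ φ) and g : Y → Z over ψ : V → W (vertical map ζ : Z → W, g ≫ ζ = η ≫
ψ), and an O_Z-module L. For a commutative square the base change map β_{f,φ}(M) : φ^* η_* M → ξ_*
f^* M is the adjoint of η_*(unit) : η_* M → η_* f_* f^* M = φ_* ξ_* f^* M, and α denotes the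
composition isomorphisms of module pullbacks. Then the composite of α_{φ,ψ}(ζ_* L) : φ^* ψ^* ζ_* L →
(φ ≫ ψ)^* ζ_* L with β_{f ≫ g, φ ≫ ψ}(L) equals the composite of φ^* β_{g,ψ}(L), β_{f,φ}(g^* L) and
ξ_* α_{f,g}(L), as maps φ^* ψ^* ζ_* L → ξ_* (f ≫ g)^* L. No cartesian or finiteness hypothesis is
made; the outer square is used through any proof hw of its commutativity. -/
theorem result {X Y Z U V W : Scheme.{u}} (f : X ⟶ Y) (g : Y ⟶ Z)
    (ξ : X ⟶ U) (η : Y ⟶ V) (ζ : Z ⟶ W) (φ : U ⟶ V) (ψ : V ⟶ W)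
    (h₁ : f ≫ η = ξ ≫ φ) (h₂ : g ≫ ζ = η ≫ ψ) (hw : (f ≫ g) ≫ ζ = ξ ≫ (φ ≫ ψ)) (L : Z.Modules) :
    (pullbackComp φ ψ).hom.app ((pushforward ζ).obj L) ≫
        (((pullbackPushforwardAdjunction (φ ≫ ψ)).homEquiv ((pushforward ζ).obj L)
            ((pushforward ξ).obj ((pullback (f ≫ g)).obj L))).symm
          ((pushforward ζ).map ((pullbackPushforwardAdjunction (f ≫ g)).unit.app L) ≫
            (pushforwardComp (f ≫ g) ζ).hom.app ((pullback (f ≫ g)).obj L) ≫
            (pushforwardCongr hw).hom.app ((pullback (f ≫ g)).obj L) ≫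
            (pushforwardComp ξ (φ ≫ ψ)).inv.app ((pullback (f ≫ g)).obj L))) =
      (pullback φ).map (((pullbackPushforwardAdjunction ψ).homEquiv ((pushforward ζ).obj L)
            ((pushforward η).obj ((pullback g).obj L))).symm
          ((pushforward ζ).map ((pullbackPushforwardAdjunction g).unit.app L) ≫
            (pushforwardComp g ζ).hom.app ((pullback g).obj L) ≫
            (pushforwardCongr h₂).hom.app ((pullback g).obj L) ≫
            (pushforwardComp η ψ).inv.app ((pullback g).obj L))) ≫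
        (((pullbackPushforwardAdjunction φ).homEquiv ((pushforward η).obj ((pullback g).obj L))
            ((pushforward ξ).obj ((pullback f).obj ((pullback g).obj L)))).symm
          ((pushforward η).map ((pullbackPushforwardAdjunction f).unit.app ((pullback g).obj L)) ≫
            (pushforwardComp f η).hom.app ((pullback f).obj ((pullback g).obj L)) ≫
            (pushforwardCongr h₁).hom.app ((pullback f).obj ((pullback g).obj L)) ≫
            (pushforwardComp ξ φ).inv.app ((pullback f).obj ((pullback g).obj L)))) ≫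
        (pushforward ξ).map ((pullbackComp f g).hom.app L) := by
  have hu : (pullbackPushforwardAdjunction (f ≫ g)).unit.app L =
      (pullbackPushforwardAdjunction g).unit.app L ≫
        (pushforward g).map ((pullbackPushforwardAdjunction f).unit.app ((pullback g).obj L)) ≫
        (pushforwardComp f g).hom.app ((pullback f).obj ((pullback g).obj L)) ≫
        (pushforward (f ≫ g)).map ((pullbackComp f g).hom.app L) := by
    have := unit_comp_assoc f g L ((pushforward (f ≫ g)).map ((pullbackComp f g).hom.app L))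
    refine Eq.trans ?_ this.symm
    rw [← CategoryTheory.Functor.map_comp, Iso.inv_hom_id_app, CategoryTheory.Functor.map_id]
    exact (Category.comp_id _).symm
  have hA : ((pushforward ζ).map ((pullbackPushforwardAdjunction (f ≫ g)).unit.app L) ≫
            (pushforwardComp (f ≫ g) ζ).hom.app ((pullback (f ≫ g)).obj L) ≫
            (pushforwardCongr hw).hom.app ((pullback (f ≫ g)).obj L) ≫
            (pushforwardComp ξ (φ ≫ ψ)).inv.app ((pullback (f ≫ g)).obj L) :
          (pushforward ζ).obj L ⟶ (pushforward (φ ≫ ψ)).obj ((pushforward ξ).obj ((pullback (f ≫ g)).obj L))) =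
      ((pushforward ζ).map ((pullbackPushforwardAdjunction g).unit.app L) ≫
            (pushforwardComp g ζ).hom.app ((pullback g).obj L) ≫
            (pushforwardCongr h₂).hom.app ((pullback g).obj L) ≫
            (pushforwardComp η ψ).inv.app ((pullback g).obj L)) ≫
        (pushforward ψ).map
          (((pushforward η).map ((pullbackPushforwardAdjunction f).unit.app ((pullback g).obj L)) ≫
            (pushforwardComp f η).hom.app ((pullback f).obj ((pullback g).obj L)) ≫
            (pushforwardCongr h₁).hom.app ((pullback f).obj ((pullback g).obj L)) ≫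
            (pushforwardComp ξ φ).inv.app ((pullback f).obj ((pullback g).obj L))) ≫
            (pushforward φ).map ((pushforward ξ).map ((pullbackComp f g).hom.app L))) ≫
        (pushforwardComp φ ψ).hom.app ((pushforward ξ).obj ((pullback (f ≫ g)).obj L)) := by
    rw [hu]
    exact hA_general f g ξ η ζ φ ψ h₁ h₂ hw _ _ _
  refine (congrArg (fun t => (pullbackComp φ ψ).hom.app ((pushforward ζ).obj L) ≫
    ((pullbackPushforwardAdjunction (φ ≫ ψ)).homEquiv _ _).symm t) hA).trans ?_
  refine (transpose_comp (pullbackPushforwardAdjunction ψ) (pullbackPushforwardAdjunction φ)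
    (pullbackPushforwardAdjunction (φ ≫ ψ)) (pullbackComp φ ψ) (pushforwardComp φ ψ)
    (conjugateEquiv_pullbackComp_inv φ ψ) _ _).trans ?_
  rw [Adjunction.homEquiv_naturality_right_symm]

end Groth.Agent.S14448
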