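import Groth.Statements.S14453
import Mathlib

set_option autoImplicit false
universe w u
open CategoryTheory AlgebraicGeometry
open EtCore

namespace Groth.Agent.S14453

variable {X : Scheme.{u}}

theorem oi_le_et : (@IsOpenImmersion : MorphismProperty Scheme.{u}) ≤ @Etale :=
  fun _ _ f hf => by haveI : IsOpenImmersion f := hf; infer_instance

theorem mem_zar_iff (U : X.Etale) (R : Sieve U) :
    R ∈ X.smallGrothendieckTopology (P := @IsOpenImmersion) (Q := @Etale) U ↔
      ∀ x : U.left, ∃ (W : X.Etale) (f : W ⟶ U) (y : W.left),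
        R f ∧ IsOpenImmersion f.left ∧ f.left y = x := by
  rw [Scheme.smallGrothendieckTopology_eq_toGrothendieck_smallPretopology X oi_le_et]
  exact Scheme.mem_toGrothendieck_smallPretopology U R

theorem mem_et_iff (U : X.Etale) (R : Sieve U) :
    R ∈ X.smallEtaleTopology U ↔
      ∀ x : U.left, ∃ (W : X.Etale) (f : W ⟶ U) (y : W.left), R f ∧ f.left y = x := by
  have eY : X.smallEtaleTopology =
      (X.smallPretopology (P := @Etale) (Q := @Etale)).toGrothendieck :=
    Scheme.smallGrothendieckTopology_eq_toGrothendieck_smallPretopology X le_rfl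
  rw [eY]
  constructor
  · intro h x
    obtain ⟨W, f, y, hf, -, hy⟩ := (Scheme.mem_toGrothendieck_smallPretopology U R).1 h x
    exact ⟨W, f, y, hf, hy⟩
  · intro h
    refine (Scheme.mem_toGrothendieck_smallPretopology U R).2 fun x => ?_
    obtain ⟨W, f, y, hf, hy⟩ := h x
    exact ⟨W, f, y, hf, inferInstance, hy⟩

theorem zar_le_et : X.smallGrothendieckTopology (P := @IsOpenImmersion) (Q := @Etale) ≤
    X.smallEtaleTopology := by
  intro (U : X.Etale) R hR
  refine (mem_et_iff U R).2 fun x => ?_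
  obtain ⟨W, f, y, hf, -, hy⟩ := (mem_zar_iff U R).1 hR x
  exact ⟨W, f, y, hf, hy⟩

theorem forward (F : X.Etaleᵒᵖ ⥤ Type w) (h : Presieve.IsSheaf X.smallEtaleTopology F) :
    Presieve.IsSheaf (X.smallGrothendieckTopology (P := @IsOpenImmersion)) F ∧
        ∀ (U V : X.Etale) [IsAffine U.left] [IsAffine V.left] (f : V ⟶ U) [Surjective f.left],
          Presieve.IsSheafFor F (Presieve.singleton f) := by
  refine ⟨Presieve.isSheaf_of_le _ zar_le_et h, ?_⟩
  intro U V _ _ f hf
  rw [Presieve.isSheafFor_iff_generate]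
  apply h
  rw [mem_et_iff]
  intro x
  obtain ⟨y, hy⟩ := hf.surj x
  exact ⟨V, f, y, ⟨V, 𝟙 _, f, Presieve.singleton.mk, Category.id_comp _⟩, hy⟩

theorem map_map {C : Type*} [Category C] (P : Cᵒᵖ ⥤ Type w) {A B D : C} (f : A ⟶ B) (g : B ⟶ D)
    (y : P.obj (Opposite.op D)) : P.map f.op (P.map g.op y) = P.map (f ≫ g).op y :=
  (P.map_comp_apply g.op f.op y).symm

/-- open subobject -/
noncomputable def opn (U : X.Etale) (V : U.left.Opens) : X.Etale :=
  Scheme.Etale.mk (V.ι ≫ U.hom)

noncomputable def opnι (U : X.Etale) (V : U.left.Opens) : opn U V ⟶ U :=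
  MorphismProperty.Over.homMk V.ι rfl trivial

section L1
variable (F : X.Etaleᵒᵖ ⥤ Type w)
  (hz : Presieve.IsSheaf (X.smallGrothendieckTopology (P := @IsOpenImmersion) (Q := @Etale)) F)
  (ha : ∀ (U V : X.Etale) [IsAffine U.left] [IsAffine V.left] (f : V ⟶ U) [Surjective f.left],
          Presieve.IsSheafFor F (Presieve.singleton f))

include hz ha in
theorem fin_sheaf (U : X.Etale) [IsAffine U.left] {ι : Type u} [Finite ι] (V : ι → X.Etale)
    [∀ i, IsAffine (V i).left] (f : ∀ i, V i ⟶ U)
    (hf : ∀ x : U.left, ∃ i, ∃ y : (V i).left, (f i).left y = x) :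
    Presieve.IsSheafFor F (Presieve.ofArrows V f) := by
  classical
  let g : ι → Scheme.{u} := fun i => (V i).left
  let σ : (∐ g) ⟶ X := Limits.Sigma.desc (fun i => (V i).hom)
  haveI : Etale σ := IsZariskiLocalAtSource.sigmaDesc (fun i => (V i).prop)
  let VV : X.Etale := Scheme.Etale.mk σ
  let ιi : ∀ i, V i ⟶ VV := fun i =>
    MorphismProperty.Over.homMk (Limits.Sigma.ι g i) (Limits.Sigma.ι_desc _ _) trivial
  let ff : VV ⟶ U :=
    MorphismProperty.Over.homMk (Limits.Sigma.desc (fun i => (f i).left)) (by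
      apply Limits.Sigma.hom_ext
      intro i
      have h1 : Limits.Sigma.ι g i ≫ σ = (V i).hom := Limits.Sigma.ι_desc _ _
      have h2 : (f i).left ≫ U.hom = (V i).hom := MorphismProperty.Over.w (f i)
      have h3 : Limits.Sigma.ι g i ≫ (Limits.Sigma.desc fun i => (f i).left) = (f i).left :=
        Limits.Sigma.ι_desc _ _
      exact ((Category.assoc _ _ _).symm.trans (congrArg (· ≫ U.hom) h3)).trans
        (h2.trans h1.symm)) trivial
  have hιf : ∀ i, ιi i ≫ ff = f i := by
    intro i
    apply MorphismProperty.Over.Hom.ext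
    exact Limits.Sigma.ι_desc _ _
  haveI : IsAffine VV.left := (inferInstance : IsAffine (∐ g))
  have hsurj : ∀ x : (∐ g : Scheme.{u}), ∃ i, ∃ y : (V i).left, (ιi i).left y = x := by
    intro x
    obtain ⟨⟨i, y⟩, rfl⟩ := (sigmaMk g).surjective x
    exact ⟨i, y, (sigmaMk_mk g i y).symm⟩
  haveI : Surjective ff.left := ⟨fun x => by
    obtain ⟨i, y, hy⟩ := hf x
    refine ⟨(ιi i).left y, ?_⟩
    have h := congrArg (fun k => k.left y) (hιf i)
    exact h.trans hy⟩
  have hZ : Sieve.ofArrows V ιi ∈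
      X.smallGrothendieckTopology (P := @IsOpenImmersion) (Q := @Etale) VV := by
    rw [mem_zar_iff]
    intro x
    obtain ⟨i, y, hy⟩ := hsurj x
    exact ⟨V i, ιi i, y, Sieve.ofArrows_mk _ _ i,
      (inferInstance : IsOpenImmersion (Limits.Sigma.ι g i)), hy⟩
  have hZs : Presieve.IsSheafFor F (Presieve.ofArrows V ιi) :=
    (Presieve.isSheafFor_iff_generate _).2 (hz _ hZ)
  rw [Presieve.isSheafFor_arrows_iff]
  intro x hx
  -- glue on VV
  have hx' : Presieve.Arrows.Compatible F ιi x := by
    intro i j W gi gj h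
    apply hx
    rw [← hιf i, ← hιf j, ← Category.assoc, ← Category.assoc, h]
  obtain ⟨s, hs, hsu⟩ := (Presieve.isSheafFor_arrows_iff _ _).1 hZs x hx'
  -- s is compatible for ff
  have hsc : ∀ {W : X.Etale} (p₁ p₂ : W ⟶ VV), p₁ ≫ ff = p₂ ≫ ff →
      F.map p₁.op s = F.map p₂.op s := by
    intro W p₁ p₂ h
    have hT : (Sieve.ofArrows V ιi).pullback p₁ ⊓ (Sieve.ofArrows V ιi).pullback p₂ ∈
        X.smallGrothendieckTopology (P := @IsOpenImmersion) (Q := @Etale) W :=
      GrothendieckTopology.intersection_covering _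
        (GrothendieckTopology.pullback_stable _ _ hZ)
        (GrothendieckTopology.pullback_stable _ _ hZ)
    refine (hz.isSeparated _ hT).ext ?_
    intro (W' : X.Etale) (h' : W' ⟶ W) hh
    obtain ⟨h1, h2⟩ := hh
    obtain ⟨i, a, ha⟩ := (Sieve.mem_ofArrows_iff _ _ _).1 h1
    obtain ⟨j, b, hb⟩ := (Sieve.mem_ofArrows_iff _ _ _).1 h2
    have e1 : F.map h'.op (F.map p₁.op s) = F.map a.op (x i) := by
      rw [← hs i, map_map, map_map, ha]
    have e2 : F.map h'.op (F.map p₂.op s) = F.map b.op (x j) := by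
      rw [← hs j, map_map, map_map, hb]
    refine e1.trans (Eq.trans ?_ e2.symm)
    apply hx
    rw [← hιf i, ← hιf j, ← Category.assoc, ← Category.assoc, ← ha, ← hb,
      Category.assoc, Category.assoc, h]
  obtain ⟨t, ht, htu⟩ := (Presieve.isSheafFor_singleton.1 (ha U VV ff)) s hsc
  refine ⟨t, fun i => ?_, fun t' ht' => ?_⟩
  · rw [← hιf i, ← map_map, ht, hs]
  · apply htu
    apply hsu
    intro i
    rw [map_map, hιf i, ht']

end L1

instance opn_isAffine (U : X.Etale) (V : U.left.Opens) [h : IsAffine V] : IsAffine (opn U V).left := h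

theorem exists_fin (U : X.Etale) [IsAffine U.left] (R : Sieve U)
    (hR : R ∈ X.smallEtaleTopology U) :
    ∃ (ι : Type u) (_ : Finite ι) (V : ι → X.Etale) (_ : ∀ i, IsAffine (V i).left)
      (f : ∀ i, V i ⟶ U),
      (∀ i, R (f i)) ∧ ∀ x : U.left, ∃ i, ∃ y : (V i).left, (f i).left y = x := by
  rw [mem_et_iff] at hR
  choose W g y hg hy using hR
  have : ∀ x, ∃ O : (W x).left.Opens, IsAffineOpen O ∧ y x ∈ O := fun x => by
    obtain ⟨O, hO, hyO, -⟩ := TopologicalSpace.Opens.isBasis_iff_nbhd.1
      (Scheme.isBasis_affineOpens (W x).left) (TopologicalSpace.Opens.mem_top (y x))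
    exact ⟨O, hO, hyO⟩
  choose O hO hyO using this
  let V' : U.left → X.Etale := fun x => opn (W x) (O x)
  let f' : ∀ x, V' x ⟶ U := fun x => opnι (W x) (O x) ≫ g x
  have hopen : ∀ x, IsOpen (Set.range (f' x).left) := fun x =>
    (f' x).left.isOpenMap.isOpen_range
  have hcov : ∀ x, x ∈ Set.range (f' x).left := fun x => by
    refine ⟨⟨y x, hyO x⟩, ?_⟩
    exact hy x
  obtain ⟨t, ht⟩ := isCompact_univ.elim_finite_subcover (fun x => Set.range (f' x).left) hopen
    (fun x _ => Set.mem_iUnion.2 ⟨x, hcov x⟩)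
  refine ⟨t, inferInstance, fun i => V' i, fun i => ?_, fun i => f' i,
    fun i => R.downward_closed (hg i) _, fun x => ?_⟩
  · haveI : IsAffine (O i.1) := hO i.1
    exact opn_isAffine _ _
  · obtain ⟨i, hi⟩ := Set.mem_iUnion.1 (ht (Set.mem_univ x))
    obtain ⟨hi1, z, hz⟩ := Set.mem_iUnion.1 hi
    exact ⟨⟨i, hi1⟩, z, hz⟩

/-- affine Zariski pre-0-hypercover -/
noncomputable def affCov (U : X.Etale) : PreZeroHypercover.{u} U where
  I₀ := U.left.affineOpens
  X i := opn U i.1
  f i := opnι U i.1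

theorem affCov_mem (U : X.Etale) : (affCov U).sieve₀ ∈
    X.smallGrothendieckTopology (P := @IsOpenImmersion) (Q := @Etale) U := by
  rw [mem_zar_iff]
  intro x
  obtain ⟨O, hO, hxO, -⟩ := TopologicalSpace.Opens.isBasis_iff_nbhd.1
    (Scheme.isBasis_affineOpens U.left) (TopologicalSpace.Opens.mem_top x)
  exact ⟨opn U O, opnι U O, ⟨x, hxO⟩, Sieve.ofArrows_mk _ _ (⟨O, hO⟩ : U.left.affineOpens),
    (inferInstanceAs (IsOpenImmersion (Scheme.Opens.ι (X := U.left) O))), rfl⟩

section L3
variable (F : X.Etaleᵒᵖ ⥤ Type w)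
  (hz : Presieve.IsSheaf (X.smallGrothendieckTopology (P := @IsOpenImmersion) (Q := @Etale)) F)
  (ha : ∀ (U V : X.Etale) [IsAffine U.left] [IsAffine V.left] (f : V ⟶ U) [Surjective f.left],
          Presieve.IsSheafFor F (Presieve.singleton f))

include hz ha in
theorem sep (U : X.Etale) (R : Sieve U) (hR : R ∈ X.smallEtaleTopology U) :
    Presieve.IsSeparatedFor F R.arrows := by
  intro x t₁ t₂ h₁ h₂
  refine (hz.isSeparated _ (affCov_mem U)).ext ?_
  intro (W : X.Etale) (h : W ⟶ U) hh
  obtain ⟨i, a, ha'⟩ := (Sieve.mem_ofArrows_iff _ _ _).1 hh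
  have key : F.map ((affCov U).f i).op t₁ = F.map ((affCov U).f i).op t₂ := by
    haveI : IsAffine (i.1 : U.left.Opens) := i.2
    haveI : IsAffine ((affCov U).X i).left := opn_isAffine U i.1
    have hR' : R.pullback ((affCov U).f i) ∈ X.smallEtaleTopology ((affCov U).X i) :=
      GrothendieckTopology.pullback_stable _ _ hR
    obtain ⟨ι, _, V, _, f, hf, hsurj⟩ := exists_fin _ _ hR'
    refine (fin_sheaf F hz ha _ V f hsurj).isSeparatedFor.ext ?_
    rintro _ _ ⟨k⟩
    refine (map_map F _ _ _).trans (Eq.trans ?_ (map_map F _ _ _).symm)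
    exact (h₁ _ (hf k)).trans (h₂ _ (hf k)).symm
  have e : ∀ t, F.map h.op t = F.map a.op (F.map ((affCov U).f i).op t) := fun t =>
    (congrArg (fun k => F.map k.op t) ha').trans (map_map F _ _ _).symm
  exact (e t₁).trans ((congrArg _ key).trans (e t₂).symm)

include hz ha in
theorem aff_sheaf (U : X.Etale) [IsAffine U.left] (R : Sieve U)
    (hR : R ∈ X.smallEtaleTopology U) : Presieve.IsSheafFor F R.arrows := by
  obtain ⟨ι, _, V, _, f, hf, hsurj⟩ := exists_fin U R hR
  have hle : (Sieve.ofArrows V f : Presieve U) ≤ R.arrows := by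
    have : Sieve.ofArrows V f ≤ R := by
      rw [Sieve.ofArrows, Sieve.generate_le_iff]
      rintro _ _ ⟨i⟩
      exact hf i
    exact this
  have hmem : Sieve.ofArrows V f ∈ X.smallEtaleTopology U := (mem_et_iff _ _).2 fun x => by
    obtain ⟨i, y, hy⟩ := hsurj x
    exact ⟨V i, f i, y, Sieve.ofArrows_mk _ _ i, hy⟩
  refine Presieve.isSheafFor_subsieve_aux F hle
    ((Presieve.isSheafFor_iff_generate _).1 (fin_sheaf F hz ha U V f hsurj)) ?_
  intro W g hg
  exact sep F hz ha W _ (GrothendieckTopology.pullback_stable _ g hmem)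

include hz ha in
theorem all_sheaf (U : X.Etale) (R : Sieve U)
    (hR : R ∈ X.smallEtaleTopology U) : Presieve.IsSheafFor F R.arrows := by
  let E := (affCov U).toPreOneHypercover
  have hE : E.IsStronglySheafFor F :=
    { isSheafFor_presieve₀ := (Presieve.isSheafFor_iff_generate _).2 (hz _ (affCov_mem U))
      isSeparatedFor_sieve₁ := fun i j W p₁ p₂ h => by
        rw [E.sieve₁_eq_pullback_sieve₁' _ _ h, sieve₁'_toPreOneHypercover_eq_top,
          Sieve.pullback_top]
        exact Presieve.isSeparatedFor_top F }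
  refine hE.isSheafFor_sieve_of_pullback ?_ ?_ ?_
  · intro W g
    exact hz.isSeparated _ (GrothendieckTopology.pullback_stable _ g (affCov_mem U))
  · intro i
    haveI : IsAffine (i.1 : U.left.Opens) := i.2
    haveI : IsAffine (E.X i).left := opn_isAffine U i.1
    exact aff_sheaf F hz ha _ _ (GrothendieckTopology.pullback_stable _ _ hR)
  · intro i j k
    exact sep F hz ha _ _ (GrothendieckTopology.pullback_stable _ _ hR)

end L3

theorem result' (X : Scheme.{u})
    (F : X.Etaleᵒᵖ ⥤ Type w) :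
    Presieve.IsSheaf X.smallEtaleTopology F ↔
      Presieve.IsSheaf (X.smallGrothendieckTopology (P := @IsOpenImmersion)) F ∧
        ∀ (U V : X.Etale) [IsAffine U.left] [IsAffine V.left] (f : V ⟶ U) [Surjective f.left],
          Presieve.IsSheafFor F (Presieve.singleton f) :=
  ⟨forward F, fun ⟨hz, ha⟩ U R hR => all_sheaf F hz ha U R hR⟩



/-- Let X be a scheme and F a presheaf of sets on the small étale site of X. Then F is an étale sheaf if
and only if F is a sheaf for the Zariski topology on the same category (coverings are jointly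
surjective families of open immersions between étale X-schemes) and, for every morphism f : V ⟶ U of
étale X-schemes with U and V affine and f surjective, F satisfies the sheaf condition for the single
arrow f. -/
theorem result (X : Scheme.{u})
    (F : X.Etaleᵒᵖ ⥤ Type w) :
    Presieve.IsSheaf X.smallEtaleTopology F ↔
      Presieve.IsSheaf (X.smallGrothendieckTopology (P := @IsOpenImmersion)) F ∧
        ∀ (U V : X.Etale) [IsAffine U.left] [IsAffine V.left] (f : V ⟶ U) [Surjective f.left],
          Presieve.IsSheafFor F (Presieve.singleton f) := by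
  exact Groth.Agent.S14453.result' X F

end Groth.Agent.S14453
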