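import Groth.Statements.S14457
import Mathlib

set_option autoImplicit false
universe u
open CAlg

namespace Groth.Agent.S14457

open Polynomial

section
variable {A : Type u} [CommRing A]

lemma aux (f : A[X]) [Algebra.FormallyUnramified A (AdjoinRoot f)]
    (K : Type u) [CommRing K] [Algebra A K] (π : AdjoinRoot f →ₐ[A] K)
    (hπ : π (aeval (AdjoinRoot.root f) (derivative f)) = 0) : (1 : K) = 0 := by
  let g₁ : AdjoinRoot f →ₐ[A] TrivSqZeroExt K K := (TrivSqZeroExt.inlAlgHom A K K).comp π
  let x₂ : TrivSqZeroExt K K := TrivSqZeroExt.inl (π (AdjoinRoot.root f)) + TrivSqZeroExt.inr 1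
  have hx₂ : aeval x₂ f = 0 := by
    have hsq : (TrivSqZeroExt.inr (1 : K) : TrivSqZeroExt K K) ^ 2 = 0 := by
      rw [pow_two, TrivSqZeroExt.inr_mul_inr]
    rw [aeval_add_of_sq_eq_zero _ _ _ hsq]
    have h1 : ∀ p : A[X], aeval (TrivSqZeroExt.inl (π (AdjoinRoot.root f)) : TrivSqZeroExt K K) p
        = g₁ (aeval (AdjoinRoot.root f) p) := by
      intro p
      rw [← aeval_algHom_apply]
      rfl
    rw [h1, h1, AdjoinRoot.aeval_eq, AdjoinRoot.mk_self, map_zero, zero_add]
    simp only [g₁, AlgHom.comp_apply, hπ, map_zero, zero_mul]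
  let g₂ : AdjoinRoot f →ₐ[A] TrivSqZeroExt K K :=
    AdjoinRoot.liftAlgHom f (Algebra.ofId A (TrivSqZeroExt K K)) x₂ hx₂
  have hg : g₁ = g₂ := by
    refine Algebra.FormallyUnramified.ext' (TrivSqZeroExt.fstHom K K K).toRingHom ?_ g₁ g₂ ?_
    · refine ⟨2, ?_⟩
      exact TrivSqZeroExt.kerIdeal_sq K K
    · intro x
      have : (TrivSqZeroExt.fstHom A K K).comp g₁ = (TrivSqZeroExt.fstHom A K K).comp g₂ := by
        apply AdjoinRoot.algHom_ext
        simp [g₁, g₂, x₂]
      exact AlgHom.congr_fun this x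
  have := congrArg (fun g => TrivSqZeroExt.snd (g (AdjoinRoot.root f))) hg
  simp [g₁, g₂, x₂] at this
  exact this.symm

/-- if `AdjoinRoot f` is formally unramified over `A` then `f'(root)` is a unit -/
lemma isUnit_derivative_of_unramified (f : A[X]) [Algebra.FormallyUnramified A (AdjoinRoot f)] :
    IsUnit (aeval (AdjoinRoot.root f) (derivative f)) := by
  by_contra hd
  set d : AdjoinRoot f := aeval (AdjoinRoot.root f) (derivative f) with hd_def
  have hK : Nontrivial (AdjoinRoot f ⧸ Ideal.span {d}) :=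
    Ideal.Quotient.nontrivial_iff.mpr (by rwa [Ne, Ideal.span_singleton_eq_top])
  have := aux f (AdjoinRoot f ⧸ Ideal.span {d}) (Ideal.Quotient.mkₐ A _)
    (Ideal.Quotient.eq_zero_iff_mem.mpr (Ideal.subset_span rfl))
  exact one_ne_zero this

end

/-- a monic `f` with `f' p₁ + f p₂ = 1` has etale `AdjoinRoot f` -/
lemma etale_of_bezout {A : Type u} [CommRing A] (f : A[X]) (hf : f.Monic) (p₁ p₂ : A[X])
    (h : derivative f * p₁ + f * p₂ = 1) : Algebra.Etale A (AdjoinRoot f) := by
  let P : StandardEtalePair A := { f := f, monic_f := hf, g := 1, cond := ⟨p₁, p₂, 0, by simpa using h⟩ }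
  have hmap : P.HasMap (AdjoinRoot.root f) := by
    refine ⟨?_, ?_⟩
    · change aeval (AdjoinRoot.root f) f = 0
      rw [AdjoinRoot.aeval_eq, AdjoinRoot.mk_self]
    · change IsUnit (aeval (AdjoinRoot.root f) (1 : A[X]))
      simp
  let e : AdjoinRoot f ≃ₐ[A] P.Ring :=
    AlgEquiv.ofAlgHom (AdjoinRoot.liftAlgHom f (Algebra.ofId A P.Ring) P.X P.hasMap_X.1)
      (P.lift (AdjoinRoot.root f) hmap)
      (by apply StandardEtalePair.hom_ext; simp)
      (by apply AdjoinRoot.algHom_ext; simp)
  exact Algebra.Etale.of_equiv e.symm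

open Polynomial in
/-- Let A be a commutative ring, a an element of A and n ≥ 1 an integer. The A-algebra A[T]/(T^n − a) is
etale exactly when either n = 1 or the product n·a is a unit of A. (The exponent n is a positive
integer here; for n = 0 the quotient is (A/(1 − a))[T] and the equivalence fails.) -/
theorem result (A : Type u) [CommRing A] (a : A) (n : ℕ) (hn : 1 ≤ n) :
    Algebra.Etale A (AdjoinRoot ((X : A[X]) ^ n - C a)) ↔ n = 1 ∨ IsUnit ((n : A) * a) := by
  have hmonic : ((X : A[X]) ^ n - C a).Monic := monic_X_pow_sub_C a (by omega)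
  have hder : derivative ((X : A[X]) ^ n - C a) = C (n : A) * X ^ (n - 1) := by
    simp [derivative_X_pow]
  constructor
  · intro h
    by_cases h1 : n = 1
    · exact Or.inl h1
    right
    rcases subsingleton_or_nontrivial A with hA | hA
    · exact isUnit_of_subsingleton _
    have hu := isUnit_derivative_of_unramified ((X : A[X]) ^ n - C a)
    rw [hder] at hu
    simp only [map_mul, aeval_C, map_pow, aeval_X] at hu
    set B := AdjoinRoot ((X : A[X]) ^ n - C a)
    have hroot : (AdjoinRoot.root ((X : A[X]) ^ n - C a)) ^ n = algebraMap A B a := by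
      have := AdjoinRoot.aeval_eq (f := (X : A[X]) ^ n - C a) ((X : A[X]) ^ n - C a)
      rw [AdjoinRoot.mk_self] at this
      simp only [map_sub, map_pow, aeval_X, aeval_C, sub_eq_zero] at this
      exact this
    have hu1 : IsUnit (algebraMap A B (n : A)) := isUnit_of_mul_isUnit_left hu
    have hu2 : IsUnit (AdjoinRoot.root ((X : A[X]) ^ n - C a)) := by
      have := isUnit_of_mul_isUnit_right hu
      exact (isUnit_pow_iff (by omega)).mp this
    have hu3 : IsUnit (algebraMap A B ((n : A) * a)) := by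
      rw [map_mul, ← hroot]
      exact hu1.mul (hu2.pow n)
    have hnorm := Algebra.norm_algebraMap_of_basis (AdjoinRoot.powerBasis' hmonic).basis ((n : A) * a)
    have hu4 : IsUnit (Algebra.norm A (algebraMap A B ((n : A) * a))) := hu3.map (Algebra.norm A)
    rw [hnorm] at hu4
    refine (isUnit_pow_iff ?_).mp hu4
    simp only [Fintype.card_fin, AdjoinRoot.powerBasis'_dim]
    rw [natDegree_X_pow_sub_C]
    omega
  · rintro (h1 | hu)
    · subst h1
      refine etale_of_bezout _ hmonic 1 0 ?_
      rw [hder]; simp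
    · obtain ⟨m, rfl⟩ : ∃ m, n = m + 1 := ⟨n - 1, by omega⟩
      obtain ⟨u, hu'⟩ := hu.exists_left_inv
      refine etale_of_bezout _ hmonic (C u * X) (- C (u * ((m + 1 : ℕ) : A))) ?_
      rw [hder]
      have : (C ((m + 1 : ℕ) : A) * X ^ (m + 1 - 1)) * (C u * X) = C (u * ((m + 1 : ℕ) : A)) * X ^ (m + 1) := by
        simp only [Nat.add_sub_cancel, map_mul, pow_succ]
        ring
      rw [this]
      have h2 : C (u * ((m + 1 : ℕ) : A)) * C a = (1 : A[X]) := by
        rw [← C_mul, mul_assoc, hu', C_1]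
      linear_combination h2

end Groth.Agent.S14457
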