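import Groth.Statements.S14460
import Groth.Agent.Lib.Helper14.FreeAct1

set_option autoImplicit false
universe u
open CategoryTheory CategoryTheory.Limits AlgebraicGeometry
open Pi1

namespace Groth.Agent.S14460

/-- Let Y → X be finite étale with Y nonempty and all geometric fibres of the same cardinality n, and
let a finite group G act on Y over X without fixed points (no point of Y with values in a field is
fixed by a non-identity element). Then G has at most n elements, and it has exactly n elements if
and only if the morphism from the disjoint union of copies of Y indexed by G to Y ×_X Y, given on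
the copy indexed by g by the identity and g, is an isomorphism. (For Y empty the bound fails, since
every finite group acts without fixed points on the empty cover, whose fibres have cardinality 0;
this row assumes Y nonempty.) -/
theorem result {X : Scheme.{u}} (Y : FEt.Cat X)
    [Nonempty ↥Y.left] (n : ℕ)
    (hn : ∀ (Ω : Type u) [Field Ω] [IsSepClosed Ω] (ξ : Spec (CommRingCat.of Ω) ⟶ X), Nat.card (FEt.fiberObj ξ Y) = n)
    (G : Type u) [Group G] [Finite G] (ρ : G →* Aut Y)
    (hfree : ∀ g : G, g ≠ 1 → ∀ (K : Type u) [Field K] (y : Spec (CommRingCat.of K) ⟶ Y.left),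
      y ≫ (ρ g).hom.left ≠ y) :
    Nat.card G ≤ n ∧
      (Nat.card G = n ↔ IsIso (Limits.Sigma.desc fun g : G =>
        pullback.lift (𝟙 Y.left) (ρ g).hom.left
          ((Category.id_comp Y.hom).trans (Over.w (ρ g).hom.hom).symm) : (∐ fun _ : G => Y.left) ⟶ pullback Y.hom Y.hom)) := by
  haveI : IsFinite Y.hom := Y.prop.1
  haveI : Etale Y.hom := Y.prop.2
  have hrank : ∀ x, Y.hom.finrank x = n :=
    Groth.Agent.Lib.helper14.SplitCov.finrank_eq_of_card Y n hn
  have hp : ∀ y, (pullback.fst Y.hom Y.hom).finrank y = n := fun y => by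
    rw [Scheme.Hom.finrank_pullback_fst]
    exact hrank _
  let θ : G → (Y.left ⟶ pullback Y.hom Y.hom) := fun g =>
    pullback.lift (𝟙 Y.left) (ρ g).hom.left
      ((Category.id_comp Y.hom).trans (Over.w (ρ g).hom.hom).symm)
  have hθ : ∀ g, θ g ≫ pullback.fst Y.hom Y.hom = 𝟙 _ := fun g => pullback.lift_fst _ _ _
  have hθ2 : ∀ g, θ g ≫ pullback.snd Y.hom Y.hom = (ρ g).hom.left :=
    fun g => pullback.lift_snd _ _ _
  have hdis : ∀ g h, g ≠ h → ∀ (K : Type u) [Field K] (y : Spec (CommRingCat.of K) ⟶ Y.left),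
      y ≫ θ g ≠ y ≫ θ h := by
    intro g h hgh K _ y e
    have e2 : y ≫ (ρ g).hom.left = y ≫ (ρ h).hom.left := by
      have := congrArg (· ≫ pullback.snd Y.hom Y.hom) e
      simpa only [Category.assoc, hθ2] using this
    have hne : h⁻¹ * g ≠ 1 := fun e3 => hgh (by rw [inv_mul_eq_one] at e3; exact e3.symm)
    apply hfree (h⁻¹ * g) hne K y
    have h4 : (ρ (h⁻¹ * g)).hom.left = (ρ g).hom.left ≫ (ρ h⁻¹).hom.left := by
      rw [map_mul]
      rfl
    have h5 : (ρ h).hom.left ≫ (ρ h⁻¹).hom.left = 𝟙 _ := by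
      have h6 : (ρ (h⁻¹ * h)).hom.left = (ρ h).hom.left ≫ (ρ h⁻¹).hom.left := by
        rw [map_mul]
        rfl
      rw [← h6, inv_mul_cancel, map_one]
      rfl
    rw [h4, ← Category.assoc, e2, Category.assoc, h5, Category.comp_id]
  obtain ⟨h1, h2⟩ := Groth.Agent.Lib.helper14.SplitCov.card_sections_le (Y := Y.left)
    (pullback.fst Y.hom Y.hom) hp θ hθ hdis
  refine ⟨h1, ⟨fun hc => ?_, h2⟩⟩
  exact Groth.Agent.Lib.helper14.SplitCov.isIso_sigmaDesc_of_sections' (Y := Y.left)
    (pullback.fst Y.hom Y.hom) (fun y => (hp y).trans hc.symm) θ hθ hdis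

end Groth.Agent.S14460
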