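import Groth.Statements.S14461
import Groth.Agent.S0243
import Groth.Agent.Lib.Helper14.PiZeroFull3

set_option autoImplicit false
universe u
open CategoryTheory CategoryTheory.Limits AlgebraicGeometry
open Pi1

namespace Groth.Agent.S14461

/-- Let X be a Noetherian scheme and X₀ → X a closed immersion such that, for every finite étale Y → X,
the projection Y ×_X X₀ → Y induces a bijection on connected components. Then restriction of finite
étale covers from X to X₀ is full and faithful. -/
theorem result {X X₀ : Scheme.{u}} [IsNoetherian X]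
    (i : X₀ ⟶ X) [IsClosedImmersion i]
    (h : ∀ Y : FEt.Cat X, Function.Bijective (pullback.fst Y.hom i).continuous.connectedComponentsMap) :
    (FEt.restrict i).Full ∧ (FEt.restrict i).Faithful := by
  classical
  have hfaith : (FEt.restrict i).Faithful := by
    apply Groth.Agent.S0243.result i
    intro x
    let T : FEt.Cat X := Groth.Agent.Lib.helper14.FibIso.mkObj (𝟙 X)
    obtain ⟨c, hc⟩ := (h T).2 (x : _root_.ConnectedComponents X)
    obtain ⟨a, rfl⟩ := ConnectedComponents.surjective_coe c
    have h2 : ((pullback.fst (𝟙 X) i a : X) : _root_.ConnectedComponents X) = x := hc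
    refine ⟨pullback.fst (𝟙 X) i a, ?_, ⟨pullback.snd (𝟙 X) i a, ?_⟩⟩
    · rw [← ConnectedComponents.coe_eq_coe.1 h2]
      exact mem_connectedComponent
    · rw [← Scheme.Hom.comp_apply, ← pullback.condition, Category.comp_id]
  refine ⟨⟨fun {Y Z} m₀ => ?_⟩, hfaith⟩
  have hm₀ : m₀.left ≫ pullback.snd Z.hom i = pullback.snd Y.hom i := Over.w m₀.hom
  obtain ⟨φ, hφ1, hφ2⟩ := Groth.Agent.Lib.helper14.PiZeroFull.exists_hom_of_restrict i Y.hom Z.hom
    (h (Groth.Agent.Lib.helper14.FibIso.prodObj Y Z)).1 (h Y).2 m₀.left hm₀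
  refine ⟨MorphismProperty.Over.homMk φ hφ1 trivial, ?_⟩
  apply MorphismProperty.Over.Hom.ext
  apply pullback.hom_ext
  · refine (pullback.lift_fst _ _ _).trans ?_
    exact hφ2
  · refine (pullback.lift_snd _ _ _).trans ?_
    exact hm₀.symm

end Groth.Agent.S14461
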