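import Groth.Statements.S19586
import Mathlib
import Groth.Agent.Lib.Helper6.ExtPowSupp
import Groth.Agent.Lib.Helper6.JacCore

set_option autoImplicit false
universe u
open KaehlerDifferential
open LocInt

namespace Groth.Agent.S19586

section aux

open TensorProduct KaehlerDifferential

variable (A B R : Type u) [CommRing A] [CommRing B] [CommRing R]
    [Algebra A B] [Algebra B R] [Algebra A R] [IsScalarTower A B R] (g : B)

/-- Elements of the kernel of `R ⊗_B Ω_B → Ω_R` are multiples of `1 ⊗ dg`. -/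
theorem ker_mapBaseChange_le (hsurj : Function.Surjective (algebraMap B R))
    (hker : RingHom.ker (algebraMap B R) = Ideal.span {g}) (x : R ⊗[B] Ω[B⁄A])
    (hx : mapBaseChange A B R x = 0) : ∃ c : R, x = c • ((1 : R) ⊗ₜ[B] D A B g) := by
  obtain ⟨c', hc'⟩ := (exact_kerCotangentToTensor_mapBaseChange A B R hsurj x).mp hx
  obtain ⟨⟨m, hm⟩, rfl⟩ := Ideal.toCotangent_surjective _ c'
  rw [kerCotangentToTensor_toCotangent] at hc'
  have hm' := hm
  rw [hker, Ideal.mem_span_singleton'] at hm'
  obtain ⟨c₀, hc₀⟩ := hm'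
  have hg0 : algebraMap B R g = 0 := by
    rw [← RingHom.mem_ker, hker]
    exact Ideal.mem_span_singleton_self g
  refine ⟨algebraMap B R c₀, ?_⟩
  rw [← hc']
  show (1 : R) ⊗ₜ[B] D A B m = _
  rw [← hc₀]
  have t2 : g • ((1 : R) ⊗ₜ[B] D A B c₀) = 0 := by
    rw [TensorProduct.smul_tmul', Algebra.smul_def, hg0, zero_mul, TensorProduct.zero_tmul]
  rw [Derivation.leibniz, TensorProduct.tmul_add, TensorProduct.tmul_smul,
    TensorProduct.tmul_smul, t2, add_zero, algebraMap_smul]

variable (K : Type u) [Field K] [Algebra R K] [Algebra B K] [IsScalarTower B R K]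

theorem range_lTensor_ker (hsurj : Function.Surjective (algebraMap B R))
    (hker : RingHom.ker (algebraMap B R) = Ideal.span {g})
    (y : K ⊗[R] (LinearMap.ker (mapBaseChange A B R))) :
    ∃ k : K, LinearMap.lTensor K (LinearMap.ker (mapBaseChange A B R)).subtype y =
      k • ((1 : K) ⊗ₜ[R] ((1 : R) ⊗ₜ[B] D A B g)) := by
  induction y using TensorProduct.induction_on with
  | zero => exact ⟨0, by rw [map_zero, zero_smul]⟩
  | add y1 y2 h1 h2 =>
    obtain ⟨k1, e1⟩ := h1
    obtain ⟨k2, e2⟩ := h2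
    exact ⟨k1 + k2, by rw [map_add, e1, e2, add_smul]⟩
  | tmul k n =>
    obtain ⟨c, hc⟩ := ker_mapBaseChange_le A B R g hsurj hker n.1 (LinearMap.mem_ker.mp n.2)
    refine ⟨c • k, ?_⟩
    rw [LinearMap.lTensor_tmul, Submodule.subtype_apply, hc, ← TensorProduct.smul_tmul,
      TensorProduct.smul_tmul', smul_eq_mul, mul_one]

theorem finrank_fibre [Module.Finite B Ω[B⁄A]] (hsurj : Function.Surjective (algebraMap B R))
    (hker : RingHom.ker (algebraMap B R) = Ideal.span {g}) :
    ((1 : K) ⊗ₜ[B] D A B g = 0 →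
      Module.finrank K (K ⊗[R] Ω[R⁄A]) = Module.finrank K (K ⊗[B] Ω[B⁄A])) ∧
    ((1 : K) ⊗ₜ[B] D A B g ≠ 0 →
      Module.finrank K (K ⊗[R] Ω[R⁄A]) < Module.finrank K (K ⊗[B] Ω[B⁄A])) := by
  let E₁ : K ⊗[R] (R ⊗[B] Ω[B⁄A]) ≃ₗ[K] K ⊗[B] Ω[B⁄A] :=
    AlgebraTensorModule.cancelBaseChange B R K K Ω[B⁄A]
  have hE₁ : E₁ ((1 : K) ⊗ₜ[R] ((1 : R) ⊗ₜ[B] D A B g)) = (1 : K) ⊗ₜ[B] D A B g := by
    show AlgebraTensorModule.cancelBaseChange B R K K Ω[B⁄A] _ = _
    rw [AlgebraTensorModule.cancelBaseChange_tmul, one_smul]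
  haveI : Module.Finite K (K ⊗[R] (R ⊗[B] Ω[B⁄A])) := Module.Finite.equiv E₁.symm
  have hsurjψ : Function.Surjective ((mapBaseChange A B R).baseChange K) := by
    rw [LinearMap.baseChange_eq_ltensor]
    exact LinearMap.lTensor_surjective K (mapBaseChange_surjective A B R hsurj)
  have hrn := LinearMap.finrank_range_add_finrank_ker ((mapBaseChange A B R).baseChange K)
  rw [LinearMap.range_eq_top.mpr hsurjψ, finrank_top, E₁.finrank_eq] at hrn
  have hex := lTensor_exact (R := R) (M := (mapBaseChange A B R).ker) (N := R ⊗[B] Ω[B⁄A])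
    (P := Ω[R⁄A]) (f := (mapBaseChange A B R).ker.subtype) (g := mapBaseChange A B R) K
    (LinearMap.exact_subtype_ker_map (mapBaseChange A B R))
    (mapBaseChange_surjective A B R hsurj)
  have hg0 : algebraMap B R g = 0 := by
    rw [← RingHom.mem_ker, hker]
    exact Ideal.mem_span_singleton_self g
  constructor
  · intro hw
    have hw' : (1 : K) ⊗ₜ[R] ((1 : R) ⊗ₜ[B] D A B g) = 0 := by
      rw [← E₁.map_eq_zero_iff, hE₁, hw]
    have hkerbot : LinearMap.ker ((mapBaseChange A B R).baseChange K) = ⊥ := by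
      rw [eq_bot_iff]
      intro x hx
      rw [LinearMap.mem_ker] at hx
      have hx' : (LinearMap.lTensor K (mapBaseChange A B R)) x = 0 := by
        rw [← LinearMap.baseChange_eq_ltensor]; exact hx
      obtain ⟨y, rfl⟩ := (hex x).mp hx'
      obtain ⟨k, hk⟩ := range_lTensor_ker A B R g K hsurj hker y
      rw [Submodule.mem_bot, hk, hw', smul_zero]
    rw [hkerbot, finrank_bot, add_zero] at hrn
    exact hrn
  · intro hw
    have hw' : (1 : K) ⊗ₜ[R] ((1 : R) ⊗ₜ[B] D A B g) ≠ 0 := by
      intro h0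
      apply hw
      rw [← hE₁, h0, map_zero]
    have hmem : (1 : K) ⊗ₜ[R] ((1 : R) ⊗ₜ[B] D A B g) ∈
        LinearMap.ker ((mapBaseChange A B R).baseChange K) := by
      rw [LinearMap.mem_ker, LinearMap.baseChange_tmul, mapBaseChange_tmul, one_smul, map_D, hg0,
        map_zero, TensorProduct.tmul_zero]
    have hne : Module.finrank K (LinearMap.ker ((mapBaseChange A B R).baseChange K)) ≠ 0 := by
      intro h0
      rw [Submodule.finrank_eq_zero] at h0
      rw [h0, Submodule.mem_bot] at hmem
      exact hw' hmem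
    omega

end aux

open TensorProduct KaehlerDifferential



/-- Let A → B be a smooth ring map with Ω_{B/A} of rank n at every prime of B, g ∈ B a nonzerodivisor
and R = B/gB, so that Spec R is a hypersurface of virtual relative dimension n − 1 over Spec A. Let
J ⊆ R be the annihilator of the n-th exterior power of Ω_{R/A} and Z = V(J) ⊆ Spec R. Then the
underlying set of Z is exactly the set of primes at which R is not smooth over A: for a prime p of
R, J ⊆ p if and only if the localization R_p is not formally smooth over A. -/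
theorem result (A B R : Type u) [CommRing A] [CommRing B] [CommRing R]
    [Algebra A B] [Algebra B R] [Algebra A R] [IsScalarTower A B R] [Algebra.Smooth A B] (n : ℕ)
    (hn : ∀ p : PrimeSpectrum B, Module.rankAtStalk (Ω[B⁄A]) p = n)
    (g : B) (hg : IsSMulRegular B g) (hsurj : Function.Surjective (algebraMap B R))
    (hker : RingHom.ker (algebraMap B R) = Ideal.span {g}) (p : PrimeSpectrum R) :
    (⋀[R]^n (Ω[R⁄A])).annihilator ≤ p.asIdeal ↔ p ∉ Algebra.smoothLocus A R := by
  haveI : Algebra.FiniteType A R :=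
    Algebra.FiniteType.of_surjective (IsScalarTower.toAlgHom A B R) hsurj
  have hX : Algebra.FormallySmooth A
      (Localization.AtPrime (Ideal.comap (algebraMap B R) p.asIdeal)) := by
    haveI : Algebra.FormallySmooth B
        (Localization.AtPrime (Ideal.comap (algebraMap B R) p.asIdeal)) :=
      Algebra.FormallySmooth.of_isLocalization (Ideal.comap (algebraMap B R) p.asIdeal).primeCompl
    exact Algebra.FormallySmooth.comp A B _
  have hII := Groth.Agent.Lib.helper6.JacCore.isSmoothAt_iff A B R g p.asIdeal hsurj hker hX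
  have hg' : algebraMap B (Localization.AtPrime (Ideal.comap (algebraMap B R) p.asIdeal)) g ≠ 0 := by
    intro h0
    rw [IsLocalization.map_eq_zero_iff (Ideal.comap (algebraMap B R) p.asIdeal).primeCompl] at h0
    obtain ⟨s, hs⟩ := h0
    have h1 : (s : B) = 0 := hg (by
      show g • (s : B) = g • (0 : B)
      rw [smul_eq_mul, smul_eq_mul, mul_zero, mul_comm]
      exact hs)
    exact s.2 (by rw [h1]; exact zero_mem _)
  have hrank : Module.finrank p.asIdeal.ResidueField (p.asIdeal.ResidueField ⊗[B] Ω[B⁄A]) = n := by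
    have h1 := Module.rankAtStalk_baseChange (R := B) (M := Ω[B⁄A]) (S := p.asIdeal.ResidueField)
      (⟨⊥, Ideal.isPrime_bot⟩ : PrimeSpectrum p.asIdeal.ResidueField)
    rw [hn] at h1
    have h2 := congrFun (Module.rankAtStalk_eq_finrank_of_free (R := p.asIdeal.ResidueField)
      (M := p.asIdeal.ResidueField ⊗[B] Ω[B⁄A]))
      (⟨⊥, Ideal.isPrime_bot⟩ : PrimeSpectrum p.asIdeal.ResidueField)
    simp only [Pi.natCast_apply, Nat.cast_id] at h2
    rw [← h2, h1]
  obtain ⟨h0, h1⟩ := finrank_fibre A B R g p.asIdeal.ResidueField hsurj hker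
  show Module.annihilator R (⋀[R]^n Ω[R⁄A]) ≤ p.asIdeal ↔ ¬ Algebra.IsSmoothAt A p.asIdeal
  rw [Groth.Agent.Lib.helper6.ExtPowSupp.annihilator_le_iff, hII]
  constructor
  · intro hle hsm
    rcases hsm with hz | hw
    · exact hg' hz
    · have h2 := h1 hw
      omega
  · intro hns
    have hw : (1 : p.asIdeal.ResidueField) ⊗ₜ[B] KaehlerDifferential.D A B g = 0 := by
      by_contra hw
      exact hns (Or.inr hw)
    rw [h0 hw, hrank]


end Groth.Agent.S19586
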