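import Groth.Statements.S14477
import Mathlib
import Groth.Agent.Lib.Helper6.ExtPowQuot
import Groth.Agent.S19586

set_option autoImplicit false
universe u
open KaehlerDifferential
open LocInt

namespace Groth.Agent.S14477

open scoped TensorProduct



/-- Let A → B be a smooth ring map with Ω_{B/A} of rank n at every prime of B, g ∈ B a nonzerodivisor
and R = B/gB, a hypersurface of virtual relative dimension n - 1 over A; let J ⊆ R be the
annihilator of the n-th exterior power of Ω_{R/A} and Z = Spec R/J. Then J is the ideal of R
generated by the classes of the elements φ(dg), φ ranging over the B-linear forms on Ω_{B/A}; where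
Ω_{B/A} is free on dt_1, …, dt_n this says that Z is cut out by the partial derivatives ∂g/∂t_1, …,
∂g/∂t_n. In particular every φ(dg) vanishes in R/J; since Ω_{B/A} is finite projective this says
that dg ⊗ 1 = 0 in Ω_{B/A} ⊗_B R/J, i.e. the map from the conormal module gB/g²B ⊗ R/J to Ω_{B/A}
⊗_B R/J induced by d vanishes, and with the cotangent complex of R over A represented by the
two-term complex (gB/g²B → Ω_{B/A} ⊗_B R) this is the statement that the canonical map from L_Z =
L_1 i^* L_{R/A} to the conormal module restricted to Z is an isomorphism. (The published statement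
also asserts that, for a regular immersion of any codimension into a smooth scheme, this map from
L_Z is a locally split injection; that part is not stated here. The published statement is the
isomorphism alone, which amounts to the inclusion of the ideal generated by the φ(dg) in J; this row
states the equality, whose other inclusion is the local description of Z by the partial derivatives
given with the definition of Z.) -/
theorem result (A B R : Type u) [CommRing A] [CommRing B] [CommRing R]
    [Algebra A B] [Algebra B R] [Algebra A R] [IsScalarTower A B R] [Algebra.Smooth A B] (n : ℕ)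
    (hn : ∀ p : PrimeSpectrum B, Module.rankAtStalk (Ω[B⁄A]) p = n)
    (g : B) (hg : IsSMulRegular B g) (hsurj : Function.Surjective (algebraMap B R))
    (hker : RingHom.ker (algebraMap B R) = Ideal.span {g}) :
    (⋀[R]^n (Ω[R⁄A])).annihilator =
      Ideal.span (Set.range fun φ : Ω[B⁄A] →ₗ[B] B => algebraMap B R (φ (KaehlerDifferential.D A B g))) := by
  classical
  have hg0 : algebraMap B R g = 0 := by
    rw [← RingHom.mem_ker, hker]
    exact Ideal.mem_span_singleton_self g
  have hx0 : KaehlerDifferential.mapBaseChange A B R
      ((1 : R) ⊗ₜ[B] KaehlerDifferential.D A B g) = 0 := by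
    rw [KaehlerDifferential.mapBaseChange_tmul, one_smul, KaehlerDifferential.map_D, hg0, map_zero]
  have hrank : ∀ (p : Ideal R) [p.IsPrime],
      Module.finrank p.ResidueField (p.ResidueField ⊗[R] (R ⊗[B] Ω[B⁄A])) = n := by
    intro p _
    have h1 := Module.rankAtStalk_baseChange (R := B) (M := Ω[B⁄A]) (S := p.ResidueField)
      (⟨⊥, Ideal.isPrime_bot⟩ : PrimeSpectrum p.ResidueField)
    rw [hn] at h1
    have h2 := congrFun (Module.rankAtStalk_eq_finrank_of_free (R := p.ResidueField)
      (M := p.ResidueField ⊗[B] Ω[B⁄A]))
      (⟨⊥, Ideal.isPrime_bot⟩ : PrimeSpectrum p.ResidueField)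
    simp only [Pi.natCast_apply, Nat.cast_id] at h2
    rw [(TensorProduct.AlgebraTensorModule.cancelBaseChange B R p.ResidueField p.ResidueField
      Ω[B⁄A]).finrank_eq, ← h2, h1]
  have hcore := Groth.Agent.Lib.helper6.ExtPowQuot.annihilator_exteriorPower_eq
    (R := R) (P := R ⊗[B] Ω[B⁄A]) (M := Ω[R⁄A])
    (KaehlerDifferential.mapBaseChange A B R)
    (KaehlerDifferential.mapBaseChange_surjective A B R hsurj)
    ((1 : R) ⊗ₜ[B] KaehlerDifferential.D A B g) hx0
    (fun y hy => Groth.Agent.S19586.ker_mapBaseChange_le A B R g hsurj hker y hy) n hrank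
  show Module.annihilator R (⋀[R]^n Ω[R⁄A]) = _
  rw [hcore]
  apply le_antisymm
  · rw [Ideal.span_le]
    rintro _ ⟨ψ, rfl⟩
    obtain ⟨φ, hφ⟩ := Module.projective_lifting_property (Algebra.linearMap B R)
      ((ψ.restrictScalars B).comp (TensorProduct.mk B R Ω[B⁄A] 1)) hsurj
    refine Ideal.subset_span ⟨φ, ?_⟩
    exact LinearMap.congr_fun hφ (KaehlerDifferential.D A B g)
  · rw [Ideal.span_le]
    rintro _ ⟨φ, rfl⟩
    refine Ideal.subset_span ⟨LinearMap.liftBaseChange R ((Algebra.linearMap B R).comp φ), ?_⟩
    show LinearMap.liftBaseChange R ((Algebra.linearMap B R).comp φ)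
      ((1 : R) ⊗ₜ[B] KaehlerDifferential.D A B g) = _
    rw [LinearMap.liftBaseChange_tmul, one_smul]
    rfl


end Groth.Agent.S14477
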