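import Groth.Statements.S14478
import Mathlib
import Groth.Agent.Lib.Helper28.CommonCompl
-- import your own Groth.Agent.* helpers here

set_option autoImplicit false
universe u
open CharCyc

namespace Groth.Agent.S14478

abbrev gmap (k V : Type u) [Field k] [AddCommGroup V] [Module k V]
    (T : Submodule k (V × Module.Dual k V)) : T →ₗ[k] Module.Dual k V :=
  (LinearMap.snd k V (Module.Dual k V)) ∘ₗ T.subtype

def kerEquiv (k V : Type u) [Field k] [AddCommGroup V] [Module k V]
    (T : Submodule k (V × Module.Dual k V)) :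
    LinearMap.ker (gmap k V T) ≃ₗ[k] T.comap (LinearMap.inl k V (Module.Dual k V)) where
  toFun x := ⟨x.1.1.1, by
    have h : x.1.1.2 = 0 := x.2
    have h2 := x.1.2
    show (x.1.1.1, (0 : Module.Dual k V)) ∈ T
    rw [← h]; exact h2⟩
  map_add' x y := rfl
  map_smul' c x := rfl
  invFun v := ⟨⟨(v.1, 0), v.2⟩, rfl⟩
  left_inv x := by
    have h : x.1.1.2 = 0 := x.2
    apply Subtype.ext; apply Subtype.ext
    exact Prod.ext rfl h.symm
  right_inv v := rfl

theorem finrank_coann_eq (k V : Type u) [Field k] [AddCommGroup V] [Module k V]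
    [FiniteDimensional k V] (T : Submodule k (V × Module.Dual k V))
    (hT : Module.finrank k T = Module.finrank k V) :
    Module.finrank k (T.comap (LinearMap.inl k V (Module.Dual k V))) =
      Module.finrank k (LinearMap.range
        ((LinearMap.snd k V (Module.Dual k V)) ∘ₗ T.subtype)).dualCoannihilator := by
  have h1 := LinearMap.finrank_range_add_finrank_ker (K := k) (V := T) (V₂ := Module.Dual k V)
    (gmap k V T)
  have h2 := Subspace.finrank_add_finrank_dualCoannihilator_eq
    (LinearMap.range (gmap k V T))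
  have h3 : Module.finrank k (LinearMap.ker (gmap k V T))
      = Module.finrank k (T.comap (LinearMap.inl k V (Module.Dual k V))) :=
    (kerEquiv k V T).finrank_eq
  show _ = Module.finrank k (LinearMap.range (gmap k V T)).dualCoannihilator
  omega

/-- Let V be a finite-dimensional vector space over a field k, let W = V × V^∨ with V^∨ the dual space,
and let T ⊆ W be a subspace with dim T = dim V; put V₁ = V ∩ T, where V sits in W as V × 0. Then
there is a complement V₂ of V₁ in V with the following property: for every injective linear map A₁ :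
V₁ → V₁^∨, the map A : V → V^∨ extending A₁ by zero along the decompositions V = V₁ ⊕ V₂ and V^∨ =
V₁^∨ ⊕ V₂^∨ (so A v = A₁(p v) ∘ p, with p : V → V₁ the projection along V₂) has graph Γ ⊆ W with Γ ∩
T = 0. -/
theorem result (k V : Type u) [Field k] [AddCommGroup V] [Module k V]
    [FiniteDimensional k V] (T : Submodule k (V × Module.Dual k V))
    (hT : Module.finrank k T = Module.finrank k V) :
    ∃ (V₂ : Submodule k V) (h : IsCompl (T.comap (LinearMap.inl k V (Module.Dual k V))) V₂),
      ∀ A₁ : T.comap (LinearMap.inl k V (Module.Dual k V)) →ₗ[k]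
          Module.Dual k (T.comap (LinearMap.inl k V (Module.Dual k V))),
        Function.Injective A₁ →
          LinearMap.graph ((Submodule.projectionOnto _ V₂ h).dualMap ∘ₗ A₁ ∘ₗ
              Submodule.projectionOnto _ V₂ h) ⊓ T = ⊥ := by
  obtain ⟨V₂, hc1, hc2⟩ := Groth.Agent.Lib.helper28.exists_common_compl'
    (T.comap (LinearMap.inl k V (Module.Dual k V)))
    (LinearMap.range ((LinearMap.snd k V (Module.Dual k V)) ∘ₗ T.subtype)).dualCoannihilator
    (finrank_coann_eq k V T hT)
  refine ⟨V₂, hc1, fun A₁ hA₁ => ?_⟩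
  rw [eq_bot_iff]
  rintro ⟨v, φ⟩ ⟨hgraph, hTmem⟩
  have hφ : φ = ((Submodule.projectionOnto _ V₂ hc1).dualMap ∘ₗ A₁ ∘ₗ
      Submodule.projectionOnto _ V₂ hc1) v := by
    simpa [LinearMap.mem_graph_iff] using hgraph
  have hφU : ∀ u ∈ (LinearMap.range
      ((LinearMap.snd k V (Module.Dual k V)) ∘ₗ T.subtype)).dualCoannihilator, φ u = 0 := by
    intro u hu
    rw [Submodule.mem_dualCoannihilator] at hu
    exact hu φ ⟨⟨(v, φ), hTmem⟩, rfl⟩
  have hφV : ∀ u ∈ V₂, φ u = 0 := by
    intro u hu
    rw [hφ]
    simp only [LinearMap.comp_apply, LinearMap.dualMap_apply]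
    rw [(Submodule.projectionOnto_apply_eq_zero_iff hc1).mpr hu, map_zero]
  have hφ0 : φ = 0 := by
    apply LinearMap.ext
    intro x
    have hx : x ∈ (⊤ : Submodule k V) := trivial
    rw [← hc2.sup_eq_top] at hx
    obtain ⟨a, ha, b, hb, rfl⟩ := Submodule.mem_sup.mp hx
    rw [map_add, hφU a ha, hφV b hb, add_zero, LinearMap.zero_apply]
  subst hφ0
  have hv1 : v ∈ T.comap (LinearMap.inl k V (Module.Dual k V)) := by
    simpa using hTmem
  have hp : Submodule.projectionOnto _ V₂ hc1 v = ⟨v, hv1⟩ :=
    Submodule.projectionOnto_apply_of_mem_left hc1 hv1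
  have hA0 : A₁ ⟨v, hv1⟩ = 0 := by
    apply LinearMap.ext
    intro y
    obtain ⟨x, rfl⟩ := Submodule.projectionOnto_surjective hc1 y
    have := congrArg (fun ψ => ψ x) hφ
    simp only [LinearMap.comp_apply, LinearMap.dualMap_apply, LinearMap.zero_apply] at this
    rw [hp] at this
    rw [← this, LinearMap.zero_apply]
  have hv0 : (⟨v, hv1⟩ : T.comap (LinearMap.inl k V (Module.Dual k V))) = 0 :=
    hA₁ (by rw [hA0, map_zero])
  have hv00 : v = 0 := congrArg Subtype.val hv0
  subst hv00
  simp

end Groth.Agent.S14478
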