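import Groth.Statements.S14479
import Mathlib
-- import your own Groth.Agent.* helpers here

set_option autoImplicit false
universe u
open CharCyc

namespace Groth.Agent.S14479


theorem toMatrix_add_flip {k V ι : Type*} [Field k] [AddCommGroup V] [Module k V] [Fintype ι]
    [DecidableEq ι] (b : Module.Basis ι k V) (M : Matrix ι ι k) :
    LinearMap.BilinForm.toMatrix b (Matrix.toBilin b M + (Matrix.toBilin b M).flip) = M + M.transpose := by
  have h1 : LinearMap.BilinForm.toMatrix b (Matrix.toBilin b M).flip =
      (LinearMap.BilinForm.toMatrix b (Matrix.toBilin b M)).transpose := by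
    ext i j
    simp only [LinearMap.BilinForm.toMatrix_apply, Matrix.transpose_apply, LinearMap.BilinForm.flip_apply]
  rw [map_add, h1, LinearMap.BilinForm.toMatrix_toBilin]

/-- Let V be a finite-dimensional vector space over a field k. If dim V is even or the characteristic of
k is different from 2, there is a bilinear form B on V such that the bilinear form (v, w) ↦ B(v, w)
+ B(w, v) (B plus its transpose, as a map V → V^∨) is nondegenerate. -/
theorem result (k V : Type u) [Field k] [AddCommGroup V] [Module k V]
    [FiniteDimensional k V] (h : Even (Module.finrank k V) ∨ ringChar k ≠ 2) :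
    ∃ B : LinearMap.BilinForm k V, (B + B.flip).Nondegenerate := by
  classical
  rcases h with h | h
  · obtain ⟨m, hm⟩ := h
    let e : Fin (Module.finrank k V) ≃ Fin m ⊕ Fin m := (finCongr hm).trans finSumFinEquiv.symm
    let b : Module.Basis (Fin m ⊕ Fin m) k V := (Module.finBasis k V).reindex e
    let M : Matrix (Fin m ⊕ Fin m) (Fin m ⊕ Fin m) k := Matrix.fromBlocks 0 1 0 0
    refine ⟨Matrix.toBilin b M, ?_⟩
    apply (LinearMap.BilinForm.nondegenerate_iff_det_ne_zero b).mpr
    rw [toMatrix_add_flip]
    have hN : M + M.transpose = Matrix.fromBlocks 0 1 1 0 := by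
      simp [M, Matrix.fromBlocks_transpose, Matrix.fromBlocks_add]
    rw [hN]
    apply Matrix.det_ne_zero_of_left_inverse (B := Matrix.fromBlocks 0 1 1 0)
    simp [Matrix.fromBlocks_multiply, Matrix.fromBlocks_one]
  · let b := Module.finBasis k V
    refine ⟨Matrix.toBilin b 1, ?_⟩
    apply (LinearMap.BilinForm.nondegenerate_iff_det_ne_zero b).mpr
    rw [toMatrix_add_flip, Matrix.transpose_one]
    have h2 : (2 : k) ≠ 0 := Ring.two_ne_zero h
    have : (1 + 1 : Matrix (Fin (Module.finrank k V)) (Fin (Module.finrank k V)) k) = (2 : k) • 1 := by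
      rw [two_smul]
    rw [this, Matrix.det_smul, Matrix.det_one, mul_one]
    exact pow_ne_zero _ h2

end Groth.Agent.S14479
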