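import Groth.Statements.S1448
import Groth.Agent.Lib.Helper1.FibRank7

set_option autoImplicit false
universe u
open FlatMor

namespace Groth.Agent.S1448

open AlgebraicGeometry CategoryTheory Limits TopologicalSpace Groth.Agent.H1.FibRank in
theorem main {X S : Scheme.{u}} (f : X ⟶ S) [Flat f] [LocallyOfFinitePresentation f] [IsSeparated f] [LocallyQuasiFinite f] [QuasiCompact f] :
    ∃ deg : ↑S → ℕ, (∀ r : ℕ, IsClosed {s : ↑S | deg s ≤ r}) ∧ (∀ r : ℕ, IsRetrocompact {s : ↑S | deg s = r}) ∧
      ∀ (T : Scheme.{u}) (g : T ⟶ S) (r : ℕ), Mor2.IsFinLocFreeOfDeg r (pullback.snd f g) ↔ ∀ t : T, deg (g t) = r := by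
  have hf := finFib_of_quasiCompact f
  refine ⟨deg f, ?_, ?_, ?_⟩
  · intro r
    have := (isOpen_le_deg f hf (r + 1)).isClosed_compl
    convert this using 1
    ext s
    simp only [Set.mem_ofPred_eq, Set.mem_compl_iff, not_le]
    exact Nat.lt_succ_iff.symm
  · intro r O hOc hOo
    have hA : ∀ d, IsCompact ({s | d ≤ deg f s} ∩ O) := by
      intro d
      let Oo : S.Opens := ⟨O, hOo⟩
      haveI : CompactSpace ↥Oo.toScheme := isCompact_iff_compactSpace.mp hOc
      haveI : Flat (f ∣_ Oo) := IsZariskiLocalAtTarget.restrict (P := @Flat) inferInstance Oo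
      haveI : LocallyOfFinitePresentation (f ∣_ Oo) :=
        IsZariskiLocalAtTarget.restrict (P := @LocallyOfFinitePresentation) inferInstance Oo
      haveI : IsSeparated (f ∣_ Oo) :=
        IsZariskiLocalAtTarget.restrict (P := @IsSeparated) inferInstance Oo
      haveI : LocallyQuasiFinite (f ∣_ Oo) :=
        IsZariskiLocalAtTarget.restrict (P := @LocallyQuasiFinite) inferInstance Oo
      haveI : QuasiCompact (f ∣_ Oo) :=
        IsZariskiLocalAtTarget.restrict (P := @QuasiCompact) inferInstance Oo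
      have sqO : IsPullback (f ⁻¹ᵁ Oo).ι (f ∣_ Oo) f Oo.ι := (isPullback_morphismRestrict f Oo).flip
      have hfO : FinFib (f ∣_ Oo) := finFib_of_isPullback f hf sqO
      have hdegO : ∀ o : ↥Oo.toScheme, deg (f ∣_ Oo) o = deg f (Oo.ι o) :=
        fun o => deg_of_isPullback f hf sqO o
      have hc := isCompact_le_deg d (f ∣_ Oo) hfO
      have hEq : {s | d ≤ deg f s} ∩ O = Oo.ι '' {o | d ≤ deg (f ∣_ Oo) o} := by
        ext s
        constructor
        · rintro ⟨hs, hsO⟩
          refine ⟨⟨s, hsO⟩, ?_, rfl⟩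
          show d ≤ deg (f ∣_ Oo) ⟨s, hsO⟩
          rw [hdegO]
          exact hs
        · rintro ⟨o, ho, rfl⟩
          refine ⟨?_, o.2⟩
          show d ≤ deg f (Oo.ι o)
          rw [← hdegO]
          exact ho
      rw [hEq]
      exact hc.image Oo.ι.continuous
    have hEq : {s | deg f s = r} ∩ O = ({s | r ≤ deg f s} ∩ O) ∩ {s | r + 1 ≤ deg f s}ᶜ := by
      ext s
      simp only [Set.mem_inter_iff, Set.mem_ofPred_eq, Set.mem_compl_iff, not_le]
      constructor
      · rintro ⟨h1, h2⟩
        exact ⟨⟨h1.ge, h2⟩, by omega⟩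
      · rintro ⟨⟨h1, h2⟩, h3⟩
        exact ⟨by omega, h2⟩
    rw [hEq]
    exact (hA r).inter_right (isOpen_le_deg f hf (r + 1)).isClosed_compl
  · intro T g r
    exact isFinLocFreeOfDeg_snd_iff f hf g r

open AlgebraicGeometry CategoryTheory Limits in
/-- Consider a separated, flat, quasi-compact and locally quasi-finite morphism f : X → S which is
locally of finite presentation. Then there is a function deg : S → ℕ with every sublevel set {deg ≤
r} closed and every level set retrocompact, such that for every morphism g : T → S and every r, deg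
∘ g is constant with value r exactly when the base change of f along g is finite locally free of
degree r. -/
theorem result {X S : Scheme.{u}} (f : X ⟶ S) [Flat f] [LocallyOfFinitePresentation f] [IsSeparated f] [LocallyQuasiFinite f] [QuasiCompact f] :
    ∃ deg : ↑S → ℕ, (∀ r : ℕ, IsClosed {s : ↑S | deg s ≤ r}) ∧ (∀ r : ℕ, IsRetrocompact {s : ↑S | deg s = r}) ∧
      ∀ (T : Scheme.{u}) (g : T ⟶ S) (r : ℕ), Mor2.IsFinLocFreeOfDeg r (pullback.snd f g) ↔ ∀ t : T, deg (g t) = r := by
  exact main f

end Groth.Agent.S1448
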