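import Groth.Statements.S14481
import Groth.Agent.Lib.Helper5.KrullComp2
import Groth.Agent.Lib.Helper3.IrredDim

set_option autoImplicit false
universe u
open CategoryTheory AlgebraicGeometry
open CharCyc

namespace Groth.Agent.S14481

/-- First equivalence: let k be a field, let π : C → X be a morphism between k-schemes of finite type
such that every irreducible component of C has dimension n, and let ι : W → X be a regular immersion
of codimension c. The following are equivalent: (a) ι meets C properly, that is, whenever P is an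
irreducible component of C and Q is an irreducible component of P ×_X W (the subspace P ∩ π⁻¹(ι(W))
of C), one has dim Q = dim P − c; (b) dim C ×_X W ≤ n − c (the subspace π⁻¹(ι(W)) of C). Dimensions
are written additively: dim Q + c = n and dim π⁻¹(ι(W)) + c ≤ n, the empty space having dimension ⊥.
(Stated for each of the four kinds of regular immersion of codimension c — regular, Koszul-regular,
H₁-regular, quasi-regular; the published statement does not distinguish kinds.) -/
theorem result (k : Type u) [Field k] (C X W : Scheme.{u})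
    (q : X ⟶ Spec (CommRingCat.of k)) (π : C ⟶ X) (ι : W ⟶ X)
    [LocallyOfFiniteType q] [CompactSpace X] [LocallyOfFiniteType π] [CompactSpace C]
    (κ : RegImm.Kind) (n c : ℕ) (hι : RegImm.IsRegularImmersionOfCodim κ c ι)
    (hC : ∀ P ∈ irreducibleComponents (C : Type u), topologicalKrullDim P = n) :
    (∀ P ∈ irreducibleComponents (C : Type u), ∀ Q ∈ irreducibleComponents (P ∩ π ⁻¹' Set.range ι : Set C),
        topologicalKrullDim Q + (c : WithBot ℕ∞) = n) ↔
      topologicalKrullDim (π ⁻¹' Set.range ι : Set C) + (c : WithBot ℕ∞) ≤ n := by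
  classical
  obtain ⟨himm, hreg⟩ := hι
  haveI := himm
  -- structures over `k`
  letI : X.Over (Spec (CommRingCat.of k)) := ⟨q⟩
  haveI : LocallyOfFiniteType (X ↘ Spec (CommRingCat.of k)) :=
    inferInstanceAs (LocallyOfFiniteType q)
  letI : C.Over (Spec (CommRingCat.of k)) := ⟨π ≫ q⟩
  haveI : LocallyOfFiniteType (C ↘ Spec (CommRingCat.of k)) :=
    inferInstanceAs (LocallyOfFiniteType (π ≫ q))
  haveI : IsLocallyNoetherian C :=
    Groth.Agent.Lib.helper3.IrredDim.isLocallyNoetherian_of_lft k C
  haveI : IsNoetherian C := {}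
  haveI : IsLocallyNoetherian X :=
    Groth.Agent.Lib.helper3.IrredDim.isLocallyNoetherian_of_lft k X
  haveI : IsNoetherian X := {}
  haveI : TopologicalSpace.NoetherianSpace W :=
    (ι.isEmbedding.isInducing).noetherianSpace
  obtain ⟨O', Z', hO', hZ', hOZ⟩ := ι.isLocallyClosed_range
  rw [Groth.Agent.Lib.helper5.KrullComp2.add_le_iff_le_sub]
  set N : WithBot ℕ∞ := (if c ≤ n then ((n - c : ℕ) : WithBot ℕ∞) else ⊥) with hN
  constructor
  · -- (a) ⇒ (b)
    intro ha
    haveI : TopologicalSpace.NoetherianSpace ↥(π ⁻¹' Set.range ι : Set C) :=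
      Topology.IsInducing.subtypeVal.noetherianSpace
    have hfin : (irreducibleComponents (C : Type u)).Finite :=
      TopologicalSpace.NoetherianSpace.finite_irreducibleComponents
    haveI : Finite (irreducibleComponents (C : Type u)) := hfin
    rw [Groth.Agent.Lib.helper3.TopDim.dim_eq_iSup_of_locallyFinite_closed_cover
      (fun P : irreducibleComponents (C : Type u) =>
        ((Subtype.val : ↥(π ⁻¹' Set.range ι : Set C) → C) ⁻¹' (P : Set C)))
      (fun P => (isClosed_of_mem_irreducibleComponents _ P.2).preimage continuous_subtype_val)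
      (locallyFinite_of_finite _)
      (by
        rw [← Set.preimage_iUnion, ← Set.sUnion_eq_iUnion, sUnion_irreducibleComponents]
        rfl)]
    refine iSup_le fun P => ?_
    have h1 : topologicalKrullDim ↥((Subtype.val : ↥(π ⁻¹' Set.range ι : Set C) → C) ⁻¹'
          (P : Set C)) ≤
        topologicalKrullDim ↥((P : Set C) ∩ π ⁻¹' Set.range ι : Set C) := by
      refine Groth.Agent.Lib.helper3.TopDim.dim_le_of_range_subset
        (f := fun z : ↥((Subtype.val : ↥(π ⁻¹' Set.range ι : Set C) → C) ⁻¹' (P : Set C)) =>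
          (z.1.1 : C))
        (g := (Subtype.val : ↥((P : Set C) ∩ π ⁻¹' Set.range ι : Set C) → C))
        (Topology.IsInducing.subtypeVal.comp Topology.IsInducing.subtypeVal)
        Topology.IsInducing.subtypeVal ?_
      rintro _ ⟨z, rfl⟩
      rw [Subtype.range_coe]
      exact ⟨z.2, z.1.2⟩
    refine h1.trans ?_
    haveI : TopologicalSpace.NoetherianSpace ↥((P : Set C) ∩ π ⁻¹' Set.range ι : Set C) :=
      Topology.IsInducing.subtypeVal.noetherianSpace
    apply Groth.Agent.Lib.helper5.KrullComp2.dim_le_of_forall_irreducibleComponents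
    intro Q hQ
    rw [hN, ← Groth.Agent.Lib.helper5.KrullComp2.add_le_iff_le_sub]
    exact (ha P.1 P.2 Q hQ).le
  · -- (b) ⇒ (a)
    intro hb P hP Q hQ
    have hPcl : IsClosed P := isClosed_of_mem_irreducibleComponents P hP
    -- the generic point `ξ` of `Q`
    obtain ⟨ξ, hξS, hQim, hξmax⟩ :=
      Groth.Agent.Lib.helper5.KrullComp2.exists_generic_of_mem_irreducibleComponents'
        (P ∩ π ⁻¹' Set.range ι) (π ⁻¹' O') (P ∩ π ⁻¹' Z')
        (by
          rw [hOZ]
          ext z
          simp only [Set.mem_inter_iff, Set.mem_preimage]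
          tauto)
        (hO'.preimage π.continuous) (hPcl.inter (hZ'.preimage π.continuous)) Q hQ
    -- the generic point `η` of `P`
    obtain ⟨η, hη⟩ := QuasiSober.sober hP.1 hPcl
    have hηP : closure ({η} : Set C) = P := hη.def
    obtain ⟨n', hn'⟩ := Groth.Agent.Lib.helper3.FTField.exists_nat_trdeg_residueField k C η
    have hnn' : n' = n := by
      have h1 := Groth.Agent.Lib.helper3.FTField.dim_closure_eq_trdeg k C η n' hn'
      rw [hηP, hC P hP] at h1
      exact_mod_cast h1.symm
    subst hnn'
    obtain ⟨m, hm⟩ := Groth.Agent.Lib.helper3.FTField.exists_nat_trdeg_residueField k C ξ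
    have hηξ : η ⤳ ξ := by
      rw [specializes_iff_mem_closure, hηP]
      exact hξS.1
    -- the local equations of `W` around `π ξ`
    obtain ⟨w, hw⟩ := hξS.2
    obtain ⟨U, hwU, hcl, rs, hlen, -, hker⟩ := hreg w
    rw [hw] at hwU
    have hKrull : n' ≤ m + rs.length :=
      Groth.Agent.Lib.helper5.KrullComp2.trdeg_le_of_maximal_in_preimage k C π U rs (Set.range ι)
        (fun x hx => Groth.Agent.Lib.helper5.KrullComp2.mem_range_iff_of_ker_eq ι U hcl rs hker x hx)
        η ξ hηξ hwU hξS.2
        (fun ζ h1 h2 h3 => hξmax ζ ⟨by rw [← hηP]; exact h1.mem_closure, h3⟩ h2)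
        n' m hn' hm
    rw [hlen] at hKrull
    -- the dimension of `Q`
    have hξO : π ξ ∈ O' := by
      have h0 := hξS.2
      rw [Set.mem_preimage, hOZ] at h0
      exact h0.1
    have hdimQ : topologicalKrullDim ↥Q = (m : WithBot ℕ∞) := by
      rw [Groth.Agent.Lib.helper5.KrullComp2.dim_subtype_image, hQim]
      exact Groth.Agent.Lib.helper5.KrullComp.dim_closure_inter_open k C ξ
        (π ⁻¹ᵁ ⟨O', hO'⟩) hξO m hm
    have hQM : topologicalKrullDim ↥Q ≤ topologicalKrullDim ↥(π ⁻¹' Set.range ι : Set C) := by
      rw [Groth.Agent.Lib.helper5.KrullComp2.dim_subtype_image]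
      apply Groth.Agent.Lib.helper3.TopDim.dim_mono
      rintro _ ⟨z, -, rfl⟩
      exact z.2.2
    have h2 := hQM.trans hb
    rw [hN, ← Groth.Agent.Lib.helper5.KrullComp2.add_le_iff_le_sub, hdimQ] at h2
    have h3 : m + c ≤ n' := by exact_mod_cast h2
    rw [hdimQ]
    have : m + c = n' := by omega
    exact_mod_cast this

end Groth.Agent.S14481
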