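import Groth.Statements.S14482
import Groth.Agent.S14480

set_option autoImplicit false
universe u
open CategoryTheory AlgebraicGeometry
open CharCyc

namespace Groth.Agent.S14482

/-- Second assertion: let k be a field, let π : C → X be a morphism between k-schemes of finite type
such that every irreducible component of C has dimension n, let ι : W → X be a regular immersion of
codimension c, and for j ≥ 0 let B_j ⊆ X be the set of points whose fibre under π has dimension at
least j. Assume that every B_j is closed in X. Then dim B_j + j ≤ n for every j, and the condition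
dim π⁻¹(ι(W)) + c ≤ n (that is, dim C ×_X W ≤ n − c) holds if and only if dim ι⁻¹(B_j) + c + j ≤ n
for every j (that is, ι meets the sequence (B_j) n-semi-properly). Dimensions are topological Krull
dimensions of subspaces, the empty space having dimension ⊥. (Stated for each of the four kinds of
regular immersion of codimension c — regular, Koszul-regular, H₁-regular, quasi-regular; the
published statement does not distinguish kinds.) -/
theorem result (k : Type u) [Field k] (C X W : Scheme.{u})
    (q : X ⟶ Spec (CommRingCat.of k)) (π : C ⟶ X) (ι : W ⟶ X)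
    [LocallyOfFiniteType q] [CompactSpace X] [LocallyOfFiniteType π] [CompactSpace C]
    (κ : RegImm.Kind) (n c : ℕ) (hι : RegImm.IsRegularImmersionOfCodim κ c ι)
    (hC : ∀ P ∈ irreducibleComponents (C : Type u), topologicalKrullDim P = n)
    (hB : ∀ j : ℕ, IsClosed {x : X | (j : WithBot ℕ∞) ≤ topologicalKrullDim (π.fiber x)}) :
    (∀ j : ℕ, topologicalKrullDim {x : X | (j : WithBot ℕ∞) ≤ topologicalKrullDim (π.fiber x)} + (j : WithBot ℕ∞) ≤ n) ∧
      (topologicalKrullDim (π ⁻¹' Set.range ι : Set C) + (c : WithBot ℕ∞) ≤ n ↔
        ∀ j : ℕ, topologicalKrullDim (ι ⁻¹' {x : X | (j : WithBot ℕ∞) ≤ topologicalKrullDim (π.fiber x)} : Set W) + (c : WithBot ℕ∞) + (j : WithBot ℕ∞) ≤ n) := by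
  classical
  obtain ⟨himm, -⟩ := hι
  haveI := himm
  -- structures over `k`
  letI : X.Over (Spec (CommRingCat.of k)) := ⟨q⟩
  haveI : LocallyOfFiniteType (X ↘ Spec (CommRingCat.of k)) :=
    inferInstanceAs (LocallyOfFiniteType q)
  letI : C.Over (Spec (CommRingCat.of k)) := ⟨π ≫ q⟩
  haveI : LocallyOfFiniteType (C ↘ Spec (CommRingCat.of k)) :=
    inferInstanceAs (LocallyOfFiniteType (π ≫ q))
  haveI : IsLocallyNoetherian C :=
    Groth.Agent.Lib.helper3.IrredDim.isLocallyNoetherian_of_lft k C
  haveI : IsNoetherian C := {}
  haveI : IsLocallyNoetherian X :=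
    Groth.Agent.Lib.helper3.IrredDim.isLocallyNoetherian_of_lft k X
  haveI : IsNoetherian X := {}
  -- `dim C ≤ n`
  have hdimC : topologicalKrullDim C ≤ n := by
    have hfin : (irreducibleComponents (C : Type u)).Finite :=
      TopologicalSpace.NoetherianSpace.finite_irreducibleComponents
    haveI : Finite (irreducibleComponents (C : Type u)) := hfin
    rw [Groth.Agent.Lib.helper3.TopDim.dim_eq_iSup_of_locallyFinite_closed_cover
      (fun P : irreducibleComponents (C : Type u) => (P : Set C))
      (fun P => isClosed_of_mem_irreducibleComponents _ P.2) (locallyFinite_of_finite _)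
      (by rw [← Set.sUnion_eq_iUnion]; exact sUnion_irreducibleComponents)]
    exact iSup_le fun P => (hC P.1 P.2).le
  have h1 := (Groth.Agent.S14480.result k C X q π n).1 hdimC
  refine ⟨fun j => ?_, ?_⟩
  · refine le_trans ?_ (h1 j)
    gcongr
    exact Groth.Agent.Lib.helper3.TopDim.dim_mono subset_closure
  · -- the base change of `π` along `ι`
    haveI : LocallyOfFiniteType (ι ≫ q) := inferInstance
    haveI : TopologicalSpace.NoetherianSpace W :=
      (ι.isEmbedding.isInducing).noetherianSpace
    haveI : TopologicalSpace.NoetherianSpace ↥(Limits.pullback π ι) :=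
      ((Limits.pullback.fst π ι).isEmbedding.isInducing).noetherianSpace
    have hdim : topologicalKrullDim ↥(Limits.pullback π ι) =
        topologicalKrullDim (π ⁻¹' Set.range ι : Set C) := by
      have hemb := (Limits.pullback.fst π ι).isEmbedding
      have h2 := (hemb.toHomeomorph).isHomeomorph.topologicalKrullDim_eq
      rw [h2]
      rw [Scheme.Pullback.range_fst]
    have hB' : ∀ j : ℕ, {w : W | (j : WithBot ℕ∞) ≤
          topologicalKrullDim ((Limits.pullback.snd π ι).fiber w)} =
        ι ⁻¹' {x : X | (j : WithBot ℕ∞) ≤ topologicalKrullDim (π.fiber x)} := by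
      intro j
      ext w
      simp only [Set.mem_ofPred_eq, Set.mem_preimage]
      rw [Groth.Agent.Lib.helper5.FibreDimGE.le_dim_fiber_iff,
        Groth.Agent.Lib.helper5.FibreDimGE.le_dim_fiber_iff]
      constructor
      · rintro ⟨c', hc', hj⟩
        refine ⟨Limits.pullback.fst π ι c', ?_, ?_⟩
        · rw [← hc']
          change (Limits.pullback.fst π ι ≫ π) c' = (Limits.pullback.snd π ι ≫ ι) c'
          rw [Limits.pullback.condition]
        · rw [← Groth.Agent.Lib.helper5.FieldBC.fibreDimAt_eq_of_isPullback
            (IsPullback.of_hasPullback π ι)]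
          exact hj
      · rintro ⟨c, hc, hj⟩
        obtain ⟨c', hc'1, hc'2⟩ := Scheme.Pullback.exists_preimage_pullback c w hc
        refine ⟨c', hc'2, ?_⟩
        rw [Groth.Agent.Lib.helper5.FieldBC.fibreDimAt_eq_of_isPullback
          (IsPullback.of_hasPullback π ι), hc'1]
        exact hj
    have hclosed : ∀ j : ℕ, closure {w : W | (j : WithBot ℕ∞) ≤
          topologicalKrullDim ((Limits.pullback.snd π ι).fiber w)} =
        ι ⁻¹' {x : X | (j : WithBot ℕ∞) ≤ topologicalKrullDim (π.fiber x)} := by
      intro j
      rw [hB' j]
      exact ((hB j).preimage ι.continuous).closure_eq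
    have hS := fun m : ℕ => Groth.Agent.S14480.result k (Limits.pullback π ι) W (ι ≫ q)
      (Limits.pullback.snd π ι) m
    rw [← hdim]
    by_cases hcn : c ≤ n
    · obtain ⟨m, rfl⟩ : ∃ m, n = m + c := ⟨n - c, by omega⟩
      have harith : ∀ a : WithBot ℕ∞, a + (c : WithBot ℕ∞) ≤ ((m + c : ℕ) : WithBot ℕ∞) ↔
          a ≤ (m : WithBot ℕ∞) := by
        intro a
        induction a using WithBot.recBotCoe with
        | bot => simp
        | coe a =>
          induction a using ENat.recTopCoe with
          | top =>
            constructor
            · intro h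
              exfalso
              have : ((⊤ : ℕ∞) : WithBot ℕ∞) + (c : WithBot ℕ∞) = ((⊤ : ℕ∞) : WithBot ℕ∞) := by
                rfl
              rw [this] at h
              have h' : (⊤ : ℕ∞) ≤ ((m + c : ℕ) : ℕ∞) := by exact_mod_cast h
              exact absurd h' (by simp)
            · intro h
              exfalso
              have h' : (⊤ : ℕ∞) ≤ ((m : ℕ) : ℕ∞) := by exact_mod_cast h
              exact absurd h' (by simp)
          | coe a =>
            constructor
            · intro h
              have h' : a + c ≤ m + c := by exact_mod_cast h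
              have : a ≤ m := by omega
              exact_mod_cast this
            · intro h
              have h' : a ≤ m := by exact_mod_cast h
              have : a + c ≤ m + c := by omega
              exact_mod_cast this
      rw [harith, hS m]
      refine forall_congr' fun j => ?_
      rw [hclosed j]
      rw [show topologicalKrullDim ↥(ι ⁻¹' {x : X | (j : WithBot ℕ∞) ≤
            topologicalKrullDim (π.fiber x)}) + (c : WithBot ℕ∞) + (j : WithBot ℕ∞) =
          (topologicalKrullDim ↥(ι ⁻¹' {x : X | (j : WithBot ℕ∞) ≤
            topologicalKrullDim (π.fiber x)}) + (j : WithBot ℕ∞)) + (c : WithBot ℕ∞) by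
        rw [add_assoc, add_comm (c : WithBot ℕ∞), ← add_assoc]]
      rw [harith]
    · -- `c > n`: both sides say that the base change is empty
      have harith : ∀ a : WithBot ℕ∞, a + (c : WithBot ℕ∞) ≤ (n : WithBot ℕ∞) ↔ a = ⊥ := by
        intro a
        induction a using WithBot.recBotCoe with
        | bot => simp
        | coe a =>
          induction a using ENat.recTopCoe with
          | top =>
            constructor
            · intro h
              exfalso
              have : ((⊤ : ℕ∞) : WithBot ℕ∞) + (c : WithBot ℕ∞) = ((⊤ : ℕ∞) : WithBot ℕ∞) := by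
                rfl
              rw [this] at h
              have h' : (⊤ : ℕ∞) ≤ ((n : ℕ) : ℕ∞) := by exact_mod_cast h
              exact absurd h' (by simp)
            · intro h
              exact absurd h (by simp)
          | coe a =>
            constructor
            · intro h
              exfalso
              have h' : a + c ≤ n := by exact_mod_cast h
              omega
            · intro h
              exact absurd h (by simp)
      rw [harith]
      have hbotdim : ∀ (T : Type u) [TopologicalSpace T], IsEmpty T → topologicalKrullDim T = ⊥ := by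
        intro T _ hT
        unfold topologicalKrullDim
        haveI : IsEmpty (TopologicalSpace.IrreducibleCloseds T) :=
          ⟨fun Z => by
            obtain ⟨x, _⟩ := Z.isIrreducible.nonempty
            exact hT.elim x⟩
        exact Order.krullDim_eq_bot
      constructor
      · intro hbot j
        have hempty : IsEmpty ↥(ι ⁻¹' {x : X | (j : WithBot ℕ∞) ≤
            topologicalKrullDim (π.fiber x)}) := by
          refine ⟨fun w => ?_⟩
          have hw : w.1 ∈ {w : W | (j : WithBot ℕ∞) ≤
              topologicalKrullDim ((Limits.pullback.snd π ι).fiber w)} := by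
            rw [hB' j]
            exact w.2
          simp only [Set.mem_ofPred_eq] at hw
          rw [Groth.Agent.Lib.helper5.FibreDimGE.le_dim_fiber_iff] at hw
          obtain ⟨c', -, -⟩ := hw
          haveI : Nonempty ↥(Limits.pullback π ι) := ⟨c'⟩
          have h0 := Groth.Agent.Lib.helper3.TopDim.dim_nonneg (X := ↥(Limits.pullback π ι))
          rw [hbot] at h0
          exact absurd h0 (by simp)
        rw [hbotdim _ hempty]
        simp
      · intro H
        have H0 := H 0
        generalize hA : topologicalKrullDim ↥(ι ⁻¹' {x : X | ((0 : ℕ) : WithBot ℕ∞) ≤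
            topologicalKrullDim (π.fiber x)}) = A at H0
        rw [Nat.cast_zero, add_zero, harith] at H0
        by_contra hne
        have hne' : Nonempty ↥(Limits.pullback π ι) := by
          by_contra hE
          rw [not_nonempty_iff] at hE
          exact hne (hbotdim _ hE)
        obtain ⟨c'⟩ := hne'
        have hw : (Limits.pullback.snd π ι) c' ∈ {w : W | ((0 : ℕ) : WithBot ℕ∞) ≤
            topologicalKrullDim ((Limits.pullback.snd π ι).fiber w)} := by
          simp only [Set.mem_ofPred_eq]
          rw [Groth.Agent.Lib.helper5.FibreDimGE.le_dim_fiber_iff]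
          refine ⟨c', rfl, ?_⟩
          obtain ⟨d, hd⟩ := Groth.Agent.Lib.helper3.DimFibre.exists_nat_fibreDimAt
            (Limits.pullback.snd π ι) c'
          rw [hd]
          exact_mod_cast Nat.zero_le d
        rw [hB' 0] at hw
        haveI : Nonempty ↥(ι ⁻¹' {x : X | ((0 : ℕ) : WithBot ℕ∞) ≤
            topologicalKrullDim (π.fiber x)}) := ⟨⟨_, hw⟩⟩
        have h0 := Groth.Agent.Lib.helper3.TopDim.dim_nonneg (X := ↥(ι ⁻¹' {x : X |
            ((0 : ℕ) : WithBot ℕ∞) ≤ topologicalKrullDim (π.fiber x)}))
        rw [hA, H0] at h0
        exact absurd h0 (by simp)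

end Groth.Agent.S14482
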