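import Groth.Statements.S1449
import Groth.Agent.Lib.Helper1.FibRank6

set_option autoImplicit false
universe u
open FlatMor

namespace Groth.Agent.S1449

open AlgebraicGeometry CategoryTheory Limits TopologicalSpace Groth.Agent.H1.FibRank in
theorem main {X S : Scheme.{u}} (f : X ⟶ S) [Flat f] [LocallyOfFinitePresentation f] [IsSeparated f] [LocallyQuasiFinite f] :
    ∃ U : ℕ → S.Opens, Antitone U ∧ U 0 = ⊤ ∧ ∀ (K : Type u) [Field K] (g : Spec (CommRingCat.of K) ⟶ S) (d : ℕ),
      Set.range ⇑g ⊆ (U d : Set ↑S) ↔ (d : Cardinal.{u}) ≤ (letI := ((Scheme.ΓSpecIso (CommRingCat.of K)).inv ≫ (pullback.snd f g).appTop).hom.toAlgebra;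
        Module.rank K (Γ(pullback f g, ⊤) : Type u)) := by
  classical
  let A : ℕ → Set S := fun d =>
    {s | ∃ X' : X.Opens, ∃ _ : FinFib (X'.ι ≫ f), d ≤ deg (X'.ι ≫ f) s}
  have hA : ∀ d, IsOpen (A d) := by
    intro d
    have : A d = ⋃ (X' : X.Opens) (_ : FinFib (X'.ι ≫ f)), {s | d ≤ deg (X'.ι ≫ f) s} := by
      ext s
      simp only [A, Set.mem_ofPred_eq, Set.mem_iUnion]
    rw [this]
    exact isOpen_iUnion fun X' => isOpen_iUnion fun hf => isOpen_le_deg (X'.ι ≫ f) hf d
  refine ⟨fun d => ⟨A d, hA d⟩, ?_, ?_, ?_⟩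
  · rintro d d' hdd' s ⟨X', hf, h⟩
    exact ⟨X', hf, le_trans hdd' h⟩
  · ext s
    simp only [Opens.coe_mk, Opens.coe_top, Set.mem_univ, iff_true]
    obtain ⟨X', -, hf⟩ := exists_open_finFib f ∅ Set.finite_empty
    exact ⟨X', hf, Nat.zero_le _⟩
  · intro K _ g d
    rw [range_eq_singleton, Set.singleton_subset_iff]
    let φ := pullback.fst f g
    let p := pullback.snd f g
    haveI : Flat p := MorphismProperty.pullback_snd (P := @Flat) _ _ inferInstance
    haveI : LocallyQuasiFinite p := inferInstance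
    haveI : IsLocallyArtinian (pullback f g) := IsLocallyArtinian.of_locallyQuasiFinite p
    have sq : IsPullback φ p f g := IsPullback.of_hasPullback f g
    -- general facts for an open X'
    have key : ∀ (X' : X.Opens) (hf' : FinFib (X'.ι ≫ f)),
        ∃ _ : IsFinite ((φ ⁻¹ᵁ X').ι ≫ p),
          ((φ ⁻¹ᵁ X').ι ≫ p).finrank (IsLocalRing.closedPoint K) =
            deg (X'.ι ≫ f) (g (IsLocalRing.closedPoint K)) := by
      intro X' hf'
      have sqV : IsPullback (φ ∣_ X') ((φ ⁻¹ᵁ X').ι ≫ p) (X'.ι ≫ f) g :=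
        (isPullback_morphismRestrict φ X').paste_vert sq
      obtain ⟨h1, h2⟩ := finite_and_finrank_of_isPullback (X'.ι ≫ f) hf' g _ _ sqV
      exact ⟨h1, by rw [h2, fdeg_eq_deg (X'.ι ≫ f) hf']⟩
    constructor
    · rintro ⟨X', hf', h⟩
      obtain ⟨hfin, hrk⟩ := key X' hf'
      haveI : Flat ((φ ⁻¹ᵁ X').ι ≫ p) := inferInstance
      have h1 := rank_eq_finrank ((φ ⁻¹ᵁ X').ι ≫ p)
      let Q' : (pullback f g).Opens := ⟨((φ ⁻¹ᵁ X' : (pullback f g).Opens) : Set _)ᶜ, isOpen_discrete _⟩
      have hc : IsCompl (φ ⁻¹ᵁ X') Q' := by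
        refine IsCompl.of_eq ?_ ?_
        · ext y
          simp only [Q', Opens.coe_inf, Opens.coe_mk, Set.inter_compl_self, Opens.coe_bot]
        · ext y
          simp only [Q', Opens.coe_sup, Opens.coe_mk, Set.union_compl_self, Opens.coe_top]
      have h2 := rank_le_of_isCompl p (φ ⁻¹ᵁ X') Q' hc
      rw [h1, hrk] at h2
      exact le_trans (Nat.cast_le.mpr h) h2
    · intro h
      by_cases hP : Finite ↥(pullback f g)
      · -- the fibre is finite
        haveI : CompactSpace ↥(pullback f g) := Finite.compactSpace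
        haveI : IsFinite p := IsFinite.of_locallyQuasiFinite p
        rw [rank_eq_finrank p] at h
        have h' : d ≤ p.finrank (IsLocalRing.closedPoint K) := Nat.cast_le.mp h
        obtain ⟨X', hE, hf'⟩ := exists_open_finFib f (Set.range φ) (Set.finite_range φ)
        obtain ⟨hfin, hrk⟩ := key X' hf'
        have hQ : φ ⁻¹ᵁ X' = ⊤ := by
          ext y
          simp only [Opens.coe_top, Set.mem_univ, iff_true]
          exact hE ⟨y, rfl⟩
        rw [finrank_ι_comp_of_eq_top p _ hQ] at hrk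
        exact ⟨X', hf', hrk ▸ h'⟩
      · -- the fibre is infinite
        rw [not_finite_iff_infinite] at hP
        obtain ⟨F, hF⟩ := Infinite.exists_subset_card_eq ↥(pullback f g) d
        obtain ⟨X', hE, hf'⟩ := exists_open_finFib f (φ '' (F : Set _)) (F.finite_toSet.image _)
        obtain ⟨hfin, hrk⟩ := key X' hf'
        haveI : Flat ((φ ⁻¹ᵁ X').ι ≫ p) := inferInstance
        haveI : LocallyQuasiFinite ((φ ⁻¹ᵁ X').ι ≫ p) := inferInstance
        haveI : IsLocallyArtinian (φ ⁻¹ᵁ X').toScheme :=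
          IsLocallyArtinian.of_locallyQuasiFinite ((φ ⁻¹ᵁ X').ι ≫ p)
        have h1 := rank_eq_finrank ((φ ⁻¹ᵁ X').ι ≫ p)
        have h2 := card_le_rank ((φ ⁻¹ᵁ X').ι ≫ p)
        rw [h1, hrk] at h2
        have h3 : (d : Cardinal.{u}) ≤ Cardinal.mk ↥(φ ⁻¹ᵁ X').toScheme := by
          rw [← hF, ← Cardinal.mk_coe_finset]
          refine Cardinal.mk_le_of_injective (f := fun y : F => (⟨y.1, hE ⟨y.1, y.2, rfl⟩⟩ : ↥(φ ⁻¹ᵁ X').toScheme)) ?_
          intro y₁ y₂ hy
          have h4 : (y₁.1 : ↥(pullback f g)) = y₂.1 :=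
            congrArg (fun z : ↥(φ ⁻¹ᵁ X').toScheme => (φ ⁻¹ᵁ X').ι z) hy
          exact Subtype.ext h4
        exact ⟨X', hf', Nat.cast_le.mp (le_trans h3 h2)⟩

open AlgebraicGeometry CategoryTheory Limits in
/-- Consider a separated, flat, locally quasi-finite morphism f : X → S which is locally of finite
presentation. Then there are opens S = U_0 ⊇ U_1 ⊇ U_2 ⊇ ... of S with the property that a morphism
from the spectrum of a field to S lands in U_d exactly when the base change of X to that field has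
rank (of its ring of global functions over the field) at least d. -/
theorem result {X S : Scheme.{u}} (f : X ⟶ S) [Flat f] [LocallyOfFinitePresentation f] [IsSeparated f] [LocallyQuasiFinite f] :
    ∃ U : ℕ → S.Opens, Antitone U ∧ U 0 = ⊤ ∧ ∀ (K : Type u) [Field K] (g : Spec (CommRingCat.of K) ⟶ S) (d : ℕ),
      Set.range ⇑g ⊆ (U d : Set ↑S) ↔ (d : Cardinal.{u}) ≤ (letI := ((Scheme.ΓSpecIso (CommRingCat.of K)).inv ≫ (pullback.snd f g).appTop).hom.toAlgebra
        Module.rank K (Γ(pullback f g, ⊤) : Type u)) := by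
  exact main f

end Groth.Agent.S1449
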