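import Groth.Statements.S14496
import Groth.Agent.Lib.Helper1.IndCofE

set_option autoImplicit false
universe v
open IndCof

namespace Groth.Agent.S14496

open CategoryTheory CategoryTheory.Limits Groth.Agent.H1.IndCof

section abstract

universe v' u'
variable {𝒜 : Type u'} [Category.{v'} 𝒜] [Abelian 𝒜] {P : 𝒜 → Prop} {n : ℕ}

lemma cof_image (hC : Ctx P n) {A : 𝒜} (hA : Cof P n A) (f : A ⟶ A) :
    Cof P n ((imageSubobject f : Subobject A) : 𝒜) := by
  have h1 : Cof P n (Abelian.image f) := cof_kernel hC _ hA (cof_cokernel hC f hA hA)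
  exact Cof.of_iso hC (Abelian.imageIsoImage f ≪≫ (imageSubobjectIso f).symm) h1

lemma epi_smul_image {A : 𝒜} (N : ℕ)
    (hN : imageSubobject ((n ^ N) • 𝟙 A) ≤ imageSubobject ((n ^ (N + 1)) • 𝟙 A)) :
    Epi (n • 𝟙 ((imageSubobject ((n ^ N) • 𝟙 A) : Subobject A) : 𝒜)) := by
  rw [epi_iff_surjective_up_to_refinements]
  intro W x
  obtain ⟨W₁, π₁, hπ₁, a, ha⟩ :=
    surjective_up_to_refinements_of_epi (factorThruImageSubobject ((n ^ N) • 𝟙 A)) x
  obtain ⟨W₂, π₂, hπ₂, a', ha'⟩ := exists_of_image_le _ _ hN a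
  refine ⟨W₂, π₂ ≫ π₁, epi_comp _ _, a' ≫ factorThruImageSubobject ((n ^ N) • 𝟙 A), ?_⟩
  apply (cancel_mono (imageSubobject ((n ^ N) • 𝟙 A)).arrow).1
  have h1 := ha =≫ (imageSubobject ((n ^ N) • 𝟙 A)).arrow
  simp only [Category.assoc, imageSubobject_arrow_comp] at h1
  have hL : (π₂ ≫ π₁) ≫ x ≫ (imageSubobject ((n ^ N) • 𝟙 A)).arrow = n ^ (N + 1) • a' := by
    rw [Category.assoc, h1, ha', comp_smul_id]
  have hR : ((a' ≫ factorThruImageSubobject ((n ^ N) • 𝟙 A)) ≫
      (n • 𝟙 ((imageSubobject ((n ^ N) • 𝟙 A) : Subobject A) : 𝒜))) ≫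
      (imageSubobject ((n ^ N) • 𝟙 A)).arrow = n ^ (N + 1) • a' := by
    rw [Category.assoc, Category.assoc, smul_id_comp n (imageSubobject ((n ^ N) • 𝟙 A)).arrow,
      Preadditive.comp_nsmul, imageSubobject_arrow_comp, Preadditive.comp_nsmul, comp_smul_id,
      ← mul_nsmul', ← pow_succ']
  rw [hR, ← hL]
  simp only [Category.assoc]

lemma le_image_of_epi {A : 𝒜} (N : ℕ) (D : Subobject A) (hD : Epi (n • 𝟙 (D : 𝒜))) :
    D ≤ imageSubobject ((n ^ N) • 𝟙 A) := by
  have hDN : Epi ((n ^ N) • 𝟙 (D : 𝒜)) := by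
    induction N with
    | zero => simp only [pow_zero, one_smul]; infer_instance
    | succ N ih =>
      have : (n ^ (N + 1)) • 𝟙 (D : 𝒜) = (n ^ N • 𝟙 (D : 𝒜)) ≫ (n • 𝟙 (D : 𝒜)) := by
        rw [smul_id_comp_smul_id, pow_succ]
      rw [this]; exact epi_comp _ _
  have hzero : D.arrow ≫ cokernel.π ((n ^ N) • 𝟙 A) = 0 := by
    rw [← cancel_epi ((n ^ N) • 𝟙 (D : 𝒜)), comp_zero, ← Category.assoc,
      smul_id_comp (n ^ N) D.arrow, ← comp_smul_id (n ^ N) D.arrow, Category.assoc,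
      cokernel.condition, comp_zero]
  have h1 : imageSubobject ((n ^ N) • 𝟙 A) = kernelSubobject (cokernel.π ((n ^ N) • 𝟙 A)) :=
    (ShortComplex.exact_iff_image_eq_kernel _).1 (ShortComplex.exact_cokernel _)
  rw [h1]
  exact Subobject.le_of_comm (factorThruKernelSubobject _ D.arrow hzero)
    (factorThruKernelSubobject_comp_arrow _ _ _)

lemma image_comp_eq_zero {A Q : 𝒜} (N j : ℕ) (q : A ⟶ Q) (hQ : n ^ j • 𝟙 Q = 0)
    (hN : imageSubobject ((n ^ N) • 𝟙 A) ≤ imageSubobject ((n ^ (N + j)) • 𝟙 A)) :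
    (imageSubobject ((n ^ N) • 𝟙 A)).arrow ≫ q = 0 := by
  rw [← cancel_epi (factorThruImageSubobject ((n ^ N) • 𝟙 A)), comp_zero,
    imageSubobject_arrow_comp_assoc]
  obtain ⟨W₂, π₂, hπ₂, a', ha'⟩ := exists_of_image_le _ _ hN (𝟙 A)
  rw [Category.id_comp] at ha'
  rw [← cancel_epi π₂, comp_zero, ← Category.assoc, ha', Category.assoc,
    smul_id_comp (n ^ (N + j)) q, ← comp_smul_id (n ^ (N + j)) q, pow_add,
    ← smul_id_comp_smul_id, hQ, comp_zero, comp_zero, comp_zero]

end abstract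

variable {C : Type v} [SmallCategory C] [Abelian C]

theorem main (hart : ∀ X : C, IsArtinianObject X) (p : ℕ)
    (htor : ∀ X : C, ∃ n : ℕ, (p ^ n) • 𝟙 X = 0)
    (A : Ind C) (hA : ∀ n : ℕ, (Ind.yoneda (C := C)).essImage (kernel ((p ^ n) • 𝟙 A))) (N : ℕ)
    (hN : ∀ n : ℕ, N ≤ n → imageSubobject ((p ^ n) • 𝟙 A) = imageSubobject ((p ^ N) • 𝟙 A)) :
    (∀ n : ℕ, (Ind.yoneda (C := C)).essImage
        (kernel ((p ^ n) • 𝟙 ((imageSubobject ((p ^ N) • 𝟙 A) : Subobject A) : Ind C)))) ∧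
      Epi (p • 𝟙 ((imageSubobject ((p ^ N) • 𝟙 A) : Subobject A) : Ind C)) ∧
      (∀ D : Subobject A, Epi (p • 𝟙 (D : Ind C)) → D ≤ imageSubobject ((p ^ N) • 𝟙 A)) ∧
      (∀ (Q : Ind C) (q : A ⟶ Q), Epi q → (Ind.yoneda (C := C)).essImage Q →
        (imageSubobject ((p ^ N) • 𝟙 A)).arrow ≫ q = 0) := by
  have hC := ctx hart p (hU_of_pow htor)
  refine ⟨fun k => cof_image hC (fun k => hA k) _ k, ?_, ?_, ?_⟩
  · exact epi_smul_image N (le_of_eq (hN (N + 1) (by omega)).symm)
  · exact fun D hD => le_image_of_epi N D hD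
  · intro Q q _ hQ
    obtain ⟨j, hj⟩ := hU0_of_pow htor Q hQ
    exact image_comp_eq_zero N j q hj (le_of_eq (hN (N + j) (by omega)).symm)

open CategoryTheory CategoryTheory.Limits in
/-- Let C be a small abelian category all of whose objects are Artinian and killed by some power of a
prime p, and A an ind-object of C of cofinite type. Let N be such that p^n A = p^N A for all n ≥ N,
so that the divisible part A_div = ⋂ p^n A equals p^N A. Then A_div is of cofinite type and
divisible (multiplication by p on it is an epimorphism; integers prime to p act invertibly on every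
ind-object here, so this is divisibility by all positive integers); it is the largest divisible
sub-object of A; and A / A_div is the largest quotient of A lying in C: every epimorphism from A
onto an object isomorphic to an object of C vanishes on A_div. (The row takes the stabilization
index N as a hypothesis instead of forming the intersection; that A / A_div itself lies in C is the
statement about A / p^N A and is not repeated here.) -/
theorem result {C : Type v} [SmallCategory C] [Abelian C]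
    (hart : ∀ X : C, IsArtinianObject X) (p : ℕ) (hp : p.Prime)
    (htor : ∀ X : C, ∃ n : ℕ, (p ^ n) • 𝟙 X = 0)
    (A : Ind C) (hA : ∀ n : ℕ, (Ind.yoneda (C := C)).essImage (kernel ((p ^ n) • 𝟙 A))) (N : ℕ)
    (hN : ∀ n : ℕ, N ≤ n → imageSubobject ((p ^ n) • 𝟙 A) = imageSubobject ((p ^ N) • 𝟙 A)) :
    (∀ n : ℕ, (Ind.yoneda (C := C)).essImage
        (kernel ((p ^ n) • 𝟙 ((imageSubobject ((p ^ N) • 𝟙 A) : Subobject A) : Ind C)))) ∧
      Epi (p • 𝟙 ((imageSubobject ((p ^ N) • 𝟙 A) : Subobject A) : Ind C)) ∧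
      (∀ D : Subobject A, Epi (p • 𝟙 (D : Ind C)) → D ≤ imageSubobject ((p ^ N) • 𝟙 A)) ∧
      (∀ (Q : Ind C) (q : A ⟶ Q), Epi q → (Ind.yoneda (C := C)).essImage Q →
        (imageSubobject ((p ^ N) • 𝟙 A)).arrow ≫ q = 0) := by
  exact main hart p htor A hA N hN

end Groth.Agent.S14496
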