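import Groth.Statements.S14497
import Groth.Agent.Lib.Helper1.IndCofA

set_option autoImplicit false
universe v u
open IndCof

namespace Groth.Agent.S14497

open CategoryTheory CategoryTheory.Limits Groth.Agent.H1.IndCof

variable {V : Type u} [Category.{v} V] [Abelian V]

lemma image_le_of_dvd {B : V} {a b : ℕ} (h : a ∣ b) :
    imageSubobject (b • 𝟙 B) ≤ imageSubobject (a • 𝟙 B) := by
  obtain ⟨c, rfl⟩ := h
  have : (a * c) • 𝟙 B = (c • 𝟙 B) ≫ (a • 𝟙 B) := by
    rw [smul_id_comp_smul_id, mul_comm]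
  rw [this]
  exact imageSubobject_comp_le _ _

lemma le_image_of_epi {B : V} (a : ℕ) (D : Subobject B) (hD : Epi (a • 𝟙 (D : V))) :
    D ≤ imageSubobject (a • 𝟙 B) := by
  have hzero : D.arrow ≫ cokernel.π (a • 𝟙 B) = 0 := by
    rw [← cancel_epi (a • 𝟙 (D : V)), comp_zero, ← Category.assoc,
      smul_id_comp a D.arrow, ← comp_smul_id a D.arrow, Category.assoc,
      cokernel.condition, comp_zero]
  have h1 : imageSubobject (a • 𝟙 B) = kernelSubobject (cokernel.π (a • 𝟙 B)) :=
    (ShortComplex.exact_iff_image_eq_kernel _).1 (ShortComplex.exact_cokernel _)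
  rw [h1]
  exact Subobject.le_of_comm (factorThruKernelSubobject _ D.arrow hzero)
    (factorThruKernelSubobject_comp_arrow _ _ _)

lemma epi_smul_image {B : V} (a k : ℕ)
    (h : imageSubobject (a • 𝟙 B) ≤ imageSubobject ((a * k) • 𝟙 B)) :
    Epi (k • 𝟙 ((imageSubobject (a • 𝟙 B) : Subobject B) : V)) := by
  rw [epi_iff_surjective_up_to_refinements]
  intro W x
  obtain ⟨W₁, π₁, hπ₁, b, hb⟩ :=
    surjective_up_to_refinements_of_epi (factorThruImageSubobject (a • 𝟙 B)) x
  obtain ⟨W₂, π₂, hπ₂, b', hb'⟩ := exists_of_image_le _ _ h b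
  refine ⟨W₂, π₂ ≫ π₁, epi_comp _ _, b' ≫ factorThruImageSubobject (a • 𝟙 B), ?_⟩
  apply (cancel_mono (imageSubobject (a • 𝟙 B)).arrow).1
  have h1 := hb =≫ (imageSubobject (a • 𝟙 B)).arrow
  simp only [Category.assoc, imageSubobject_arrow_comp] at h1
  have hL : (π₂ ≫ π₁) ≫ x ≫ (imageSubobject (a • 𝟙 B)).arrow = (a * k) • b' := by
    rw [Category.assoc, h1, hb', comp_smul_id]
  have hR : ((b' ≫ factorThruImageSubobject (a • 𝟙 B)) ≫
      (k • 𝟙 ((imageSubobject (a • 𝟙 B) : Subobject B) : V))) ≫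
      (imageSubobject (a • 𝟙 B)).arrow = (a * k) • b' := by
    rw [Category.assoc, Category.assoc, smul_id_comp k (imageSubobject (a • 𝟙 B)).arrow,
      Preadditive.comp_nsmul, imageSubobject_arrow_comp, Preadditive.comp_nsmul, comp_smul_id,
      ← mul_nsmul', mul_comm]
  rw [hR, ← hL]
  simp only [Category.assoc]

lemma smul_cokernel_image {B : V} (M : ℕ) :
    M • 𝟙 (cokernel (imageSubobject (M • 𝟙 B)).arrow) = 0 := by
  have h1 : (M • 𝟙 B) ≫ cokernel.π (imageSubobject (M • 𝟙 B)).arrow = 0 := by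
    have h2 := imageSubobject_arrow_comp (M • 𝟙 B)
    have h3 := congrArg (fun t => t ≫ cokernel.π (imageSubobject (M • 𝟙 B)).arrow) h2
    simp only [Category.assoc, cokernel.condition, comp_zero] at h3
    exact h3.symm
  rw [← cancel_epi (cokernel.π (imageSubobject (M • 𝟙 B)).arrow), comp_zero,
    comp_smul_id M (cokernel.π (imageSubobject (M • 𝟙 B)).arrow),
    ← smul_id_comp M (cokernel.π (imageSubobject (M • 𝟙 B)).arrow), h1]

lemma image_le_of_smul_cokernel {B : V} (M : ℕ) (B' : Subobject B)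
    (h : M • 𝟙 (cokernel B'.arrow) = 0) : imageSubobject (M • 𝟙 B) ≤ B' := by
  have hzero : (M • 𝟙 B) ≫ cokernel.π B'.arrow = 0 := by
    rw [smul_id_comp M (cokernel.π B'.arrow), ← comp_smul_id M (cokernel.π B'.arrow), h,
      comp_zero]
  have hex := ShortComplex.exact_cokernel B'.arrow
  have hmono : Mono B'.arrow := inferInstance
  exact imageSubobject_le _ (hex.lift (M • 𝟙 B) hzero) (hex.lift_f _ _)

theorem main (B : V) :
    ((∀ n : ℕ, 0 < n → ∃ m : ℕ, 0 < m ∧ n ∣ m ∧ ∀ m' : ℕ, 0 < m' → m ∣ m' →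
        imageSubobject ((m' / n) • 𝟙 B) = imageSubobject ((m / n) • 𝟙 B)) ↔
      ∃ B' : Subobject B, (∀ k : ℕ, 0 < k → Epi (k • 𝟙 (B' : V))) ∧
        ∃ M : ℕ, 0 < M ∧ M • 𝟙 (cokernel B'.arrow) = 0) ∧
    (∀ B' : Subobject B, (∀ k : ℕ, 0 < k → Epi (k • 𝟙 (B' : V))) →
      (∃ M : ℕ, 0 < M ∧ M • 𝟙 (cokernel B'.arrow) = 0) →
      ∀ D : Subobject B, (∀ k : ℕ, 0 < k → Epi (k • 𝟙 (D : V))) → D ≤ B') := by
  refine ⟨⟨?_, ?_⟩, ?_⟩
  · intro h
    obtain ⟨m, hm, -, hm'⟩ := h 1 Nat.one_pos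
    refine ⟨imageSubobject (m • 𝟙 B), fun k hk => ?_, m, hm, smul_cokernel_image m⟩
    apply epi_smul_image m k
    have := hm' (m * k) (Nat.mul_pos hm hk) (Dvd.intro _ rfl)
    rw [Nat.div_one, Nat.div_one] at this
    exact le_of_eq this.symm
  · rintro ⟨B', hB', M, hM, hMB'⟩
    have hB'M : B' = imageSubobject (M • 𝟙 B) :=
      le_antisymm (le_image_of_epi M B' (hB' M hM)) (image_le_of_smul_cokernel M B' hMB')
    intro n hn
    refine ⟨n * M, Nat.mul_pos hn hM, Dvd.intro _ rfl, fun m' hm' hdvd => ?_⟩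
    obtain ⟨t, rfl⟩ := hdvd
    have ht : 0 < t := by
      rcases Nat.eq_zero_or_pos t with h0 | h0
      · rw [h0, Nat.mul_zero] at hm'; exact absurd hm' (lt_irrefl 0)
      · exact h0
    have e1 : n * M * t / n = M * t := by
      rw [Nat.mul_assoc, Nat.mul_div_cancel_left _ hn]
    have e2 : n * M / n = M := Nat.mul_div_cancel_left _ hn
    rw [e1, e2]
    apply le_antisymm (image_le_of_dvd (Dvd.intro _ rfl))
    rw [← hB'M]
    exact le_image_of_epi _ B' (hB' _ (Nat.mul_pos hM ht))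
  · rintro B' - ⟨M, hM, hMB'⟩ D hD
    exact (le_image_of_epi M D (hD M hM)).trans (image_le_of_smul_cokernel M B' hMB')

open CategoryTheory CategoryTheory.Limits in
/-- Let B be an object of an abelian category and consider the inverse system, indexed by the positive
integers ordered by divisibility, with every term equal to B and transition map from the m-th to the
n-th term (n ∣ m) given by multiplication by m/n. This system is Mittag-Leffler, i.e. for every n
the images in the n-th term of the transition maps are eventually constant, if and only if B has a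
divisible sub-object B' (multiplication by every positive integer is an epimorphism of B') with B/B'
killed by some positive integer. Moreover such a B' is the largest divisible sub-object of B. -/
theorem result
    {V : Type u} [Category.{v} V] [Abelian V] (B : V) :
    ((∀ n : ℕ, 0 < n → ∃ m : ℕ, 0 < m ∧ n ∣ m ∧ ∀ m' : ℕ, 0 < m' → m ∣ m' →
        imageSubobject ((m' / n) • 𝟙 B) = imageSubobject ((m / n) • 𝟙 B)) ↔
      ∃ B' : Subobject B, (∀ k : ℕ, 0 < k → Epi (k • 𝟙 (B' : V))) ∧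
        ∃ M : ℕ, 0 < M ∧ M • 𝟙 (cokernel B'.arrow) = 0) ∧
    (∀ B' : Subobject B, (∀ k : ℕ, 0 < k → Epi (k • 𝟙 (B' : V))) →
      (∃ M : ℕ, 0 < M ∧ M • 𝟙 (cokernel B'.arrow) = 0) →
      ∀ D : Subobject B, (∀ k : ℕ, 0 < k → Epi (k • 𝟙 (D : V))) → D ≤ B') := by
  exact main B

end Groth.Agent.S14497
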