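import Groth.Statements.S14498
import Mathlib


set_option autoImplicit false
universe v u
open AbDiag

namespace Groth.Agent.S14498

set_option linter.style.haveILetI false

open CategoryTheory CategoryTheory.Limits CategoryTheory.Category

theorem main {V : Type u} [Category.{v} V] [Abelian V] {F W E' E F' G G' : V}
    (a : F ⟶ W) (b : W ⟶ E') (c : E ⟶ W) (d : W ⟶ F') (e : F' ⟶ G) (g : G ⟶ G')
    [Mono a] [Epi b] (wab : a ≫ b = 0) (hab : (ShortComplex.mk a b wab).Exact)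
    [Mono c] (wcd : c ≫ d = 0) (hcd : (ShortComplex.mk c d wcd).Exact)
    (wde : d ≫ e = 0) (hde : (ShortComplex.mk d e wde).Exact)
    (weg : e ≫ g = 0) (heg : (ShortComplex.mk e g weg).Exact) [Epi g]
    (hmono : Mono (a ≫ d)) :
    Mono (c ≫ b) ∧
      ∃ (φ : cokernel (c ≫ b) ⟶ cokernel (a ≫ d)) (ψ : cokernel (a ≫ d) ⟶ kernel g)
        (w : φ ≫ ψ = 0),
        b ≫ cokernel.π (c ≫ b) ≫ φ = d ≫ cokernel.π (a ≫ d) ∧
        cokernel.π (a ≫ d) ≫ ψ ≫ kernel.ι g = e ∧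
        (ShortComplex.mk φ ψ w).ShortExact := by
  haveI : Mono (ShortComplex.mk a b wab).f := inferInstanceAs (Mono a)
  haveI : Epi (ShortComplex.mk a b wab).g := inferInstanceAs (Epi b)
  haveI : Mono (ShortComplex.mk c d wcd).f := inferInstanceAs (Mono c)
  -- Step 1
  have hm : Mono (c ≫ b) := by
    apply Preadditive.mono_of_cancel_zero
    intro K k hk
    have h1 : (k ≫ c) ≫ b = 0 := by rw [assoc]; exact hk
    obtain ⟨l, hl⟩ := hab.lift' (k ≫ c) h1
    have hl' : l ≫ a = k ≫ c := hl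
    have h2 : l ≫ a ≫ d = 0 := by
      rw [← assoc, hl', assoc, wcd, comp_zero]
    have h3 : l = 0 := by
      rw [← cancel_mono (a ≫ d), h2, zero_comp]
    rw [h3, zero_comp] at hl'
    rw [← cancel_mono c, ← hl', zero_comp]
  refine ⟨hm, ?_⟩
  -- Step 2: φ
  have h4 : a ≫ d ≫ cokernel.π (a ≫ d) = 0 := by
    rw [← assoc, cokernel.condition]
  let dbar : E' ⟶ cokernel (a ≫ d) := hab.desc (d ≫ cokernel.π (a ≫ d)) h4
  have hdbar : b ≫ dbar = d ≫ cokernel.π (a ≫ d) := hab.g_desc _ h4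
  have h5 : (c ≫ b) ≫ dbar = 0 := by
    rw [assoc, hdbar, ← assoc, wcd, zero_comp]
  let φ : cokernel (c ≫ b) ⟶ cokernel (a ≫ d) := cokernel.desc (c ≫ b) dbar h5
  have hφ : cokernel.π (c ≫ b) ≫ φ = dbar := cokernel.π_desc _ _ _
  -- Step 3: ψ
  let e' : F' ⟶ kernel g := kernel.lift g e weg
  have he' : e' ≫ kernel.ι g = e := kernel.lift_ι _ _ _
  have h6 : (a ≫ d) ≫ e' = 0 := by
    rw [← cancel_mono (kernel.ι g), assoc, he', assoc, wde, comp_zero, zero_comp]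
  let ψ : cokernel (a ≫ d) ⟶ kernel g := cokernel.desc (a ≫ d) e' h6
  have hψ : cokernel.π (a ≫ d) ≫ ψ = e' := cokernel.π_desc _ _ _
  have hfac1 : b ≫ cokernel.π (c ≫ b) ≫ φ = d ≫ cokernel.π (a ≫ d) := by
    rw [hφ, hdbar]
  have hfac2 : cokernel.π (a ≫ d) ≫ ψ ≫ kernel.ι g = e := by
    rw [← assoc, hψ, he']
  -- Step 4
  have w : φ ≫ ψ = 0 := by
    rw [← cancel_epi (cokernel.π (c ≫ b)), ← cancel_epi b, ← cancel_mono (kernel.ι g)]
    simp only [assoc, comp_zero, zero_comp]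
    rw [← assoc (cokernel.π (c ≫ b)), ← assoc b, ← assoc b, assoc b, hfac1, assoc, hfac2, wde]
  refine ⟨φ, ψ, w, hfac1, hfac2, ?_⟩
  -- Step 5
  have hepiψ : Epi ψ := by
    have h7 : Epi e' := heg.epi_kernelLift
    exact epi_of_epi_fac hψ
  have hmonoφ : Mono φ := by
    apply Preadditive.mono_of_cancel_zero
    intro T x hx
    obtain ⟨T₁, π₁, hπ₁, y, hy⟩ :=
      surjective_up_to_refinements_of_epi (b ≫ cokernel.π (c ≫ b)) x
    -- y : T₁ → W
    have h8a : (y ≫ b ≫ cokernel.π (c ≫ b)) ≫ φ = 0 := by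
      rw [← hy, assoc, hx, comp_zero]
    have h8 : (y ≫ d) ≫ cokernel.π (a ≫ d) = 0 := by
      simpa only [assoc, hfac1] using h8a
    obtain ⟨T₂, π₂, hπ₂, f₁, hf₁⟩ :=
      ((CokernelCofork.IsColimit.comp_π_eq_zero_iff_up_to_refinements
        (cokernelIsCokernel (a ≫ d)) (y ≫ d)).1 h8)
    -- π₂ ≫ y ≫ d = f₁ ≫ a ≫ d
    have h9 : (π₂ ≫ y - f₁ ≫ a) ≫ d = 0 := by
      rw [Preadditive.sub_comp, assoc, assoc, hf₁, sub_self]
    obtain ⟨e₁, he₁⟩ := hcd.lift' (π₂ ≫ y - f₁ ≫ a) h9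
    have he₁' : e₁ ≫ c = π₂ ≫ y - f₁ ≫ a := he₁
    have h10 : π₂ ≫ y ≫ b = e₁ ≫ c ≫ b := by
      rw [← assoc e₁, he₁', Preadditive.sub_comp, assoc, assoc, wab, comp_zero, sub_zero]
    have h11a : π₂ ≫ y ≫ b ≫ cokernel.π (c ≫ b) = 0 := by
      rw [reassoc_of% h10, ← assoc c, cokernel.condition, comp_zero]
    have h11 : (π₂ ≫ π₁) ≫ x = 0 := by
      rw [assoc, hy]; exact h11a
    haveI := hπ₁
    haveI := hπ₂
    rw [← cancel_epi (π₂ ≫ π₁), h11, comp_zero]
  have hex : (ShortComplex.mk φ ψ w).Exact := by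
    rw [ShortComplex.exact_iff_exact_up_to_refinements]
    intro T y hy
    dsimp at y hy ⊢
    obtain ⟨T₁, π₁, hπ₁, y', hy'⟩ :=
      surjective_up_to_refinements_of_epi (cokernel.π (a ≫ d)) y
    have h12 : y' ≫ e = 0 := by
      rw [← hfac2, ← assoc, ← hy', assoc, ← assoc y, hy, zero_comp, comp_zero]
    obtain ⟨T₂, π₂, hπ₂, z, hz⟩ := hde.exact_up_to_refinements y' h12
    have hz' : π₂ ≫ y' = z ≫ d := hz
    haveI := hπ₁
    haveI := hπ₂
    refine ⟨T₂, π₂ ≫ π₁, epi_comp _ _, z ≫ b ≫ cokernel.π (c ≫ b), ?_⟩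
    rw [assoc, hy', ← assoc π₂, hz', assoc, assoc, assoc, hfac1]
  exact { exact := hex, mono_f := hmonoφ, epi_g := hepiψ }



open CategoryTheory CategoryTheory.Limits in
/-- In an abelian category, let 0 → F → W → E' → 0 (maps a, b) and 0 → E → W → F' → G → G' → 0 (maps c,
d, e, g) be exact sequences such that the composite F → W → F' is a monomorphism. Then the composite
E → W → E' is a monomorphism, and there is a short exact sequence 0 → Coker(E → E') → Coker(F → F')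
→ Ker(G → G') → 0 whose first map is induced by d (through the quotient map b) and whose second map
is induced by e. -/
theorem result
    {V : Type u} [Category.{v} V] [Abelian V] {F W E' E F' G G' : V}
    (a : F ⟶ W) (b : W ⟶ E') (c : E ⟶ W) (d : W ⟶ F') (e : F' ⟶ G) (g : G ⟶ G')
    [Mono a] [Epi b] (wab : a ≫ b = 0) (hab : (ShortComplex.mk a b wab).Exact)
    [Mono c] (wcd : c ≫ d = 0) (hcd : (ShortComplex.mk c d wcd).Exact)
    (wde : d ≫ e = 0) (hde : (ShortComplex.mk d e wde).Exact)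
    (weg : e ≫ g = 0) (heg : (ShortComplex.mk e g weg).Exact) [Epi g]
    (hmono : Mono (a ≫ d)) :
    Mono (c ≫ b) ∧
      ∃ (φ : cokernel (c ≫ b) ⟶ cokernel (a ≫ d)) (ψ : cokernel (a ≫ d) ⟶ kernel g)
        (w : φ ≫ ψ = 0),
        b ≫ cokernel.π (c ≫ b) ≫ φ = d ≫ cokernel.π (a ≫ d) ∧
        cokernel.π (a ≫ d) ≫ ψ ≫ kernel.ι g = e ∧
        (ShortComplex.mk φ ψ w).ShortExact := by
  exact main a b c d e g wab hab wcd hcd wde hde weg heg hmono

end Groth.Agent.S14498
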