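import Groth.Statements.S14499
import Groth.Agent.Lib.Helper1.IndCofC

set_option autoImplicit false
universe v
open IndCof

namespace Groth.Agent.S14499

open CategoryTheory CategoryTheory.Limits in
/-- Let C be a small abelian category all of whose objects are Artinian and annihilated by a positive
integer (which need not be a prime power), and let A be an ind-object of C of cofinite type, i.e.
for every n ≥ 1 the n-torsion sub-object A[n] is isomorphic to an object of C. Then A / nA is
isomorphic to an object of C for every n ≥ 1. -/
theorem result {C : Type v} [SmallCategory C] [Abelian C]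
    (hart : ∀ X : C, IsArtinianObject X)
    (htor : ∀ X : C, ∃ n : ℕ, 0 < n ∧ n • 𝟙 X = 0)
    (A : Ind C) (hA : ∀ n : ℕ, 0 < n → (Ind.yoneda (C := C)).essImage (kernel (n • 𝟙 A))) (n : ℕ) (hn : 0 < n) :
    (Ind.yoneda (C := C)).essImage (cokernel (n • 𝟙 A)) := by
  have h := Groth.Agent.H1.IndCof.ST2
    (Groth.Agent.H1.IndCof.ctx hart n (Groth.Agent.H1.IndCof.hU_of_tors htor n)) (A := A)
    (fun k => hA _ (pow_pos hn k)) 1
  exact Groth.Agent.H1.IndCof.isC_iso (cokernelIsoOfEq (by rw [pow_one])) h

end Groth.Agent.S14499
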