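import Groth.Statements.S14501
import Groth.Agent.S2855
import Mathlib

set_option autoImplicit false
universe u
open IntTh

namespace Groth.Agent.S14501

/-- third isomorphism length additivity for `L ≤ N ≤ M` in `V`. -/
lemma length_tower {A V : Type*} [CommRing A] [AddCommGroup V] [Module A V]
    (L N M : Submodule A V) (hLN : L ≤ N) (hNM : N ≤ M) :
    Module.length A (↥M ⧸ L.submoduleOf M) =
      Module.length A (↥N ⧸ L.submoduleOf N) + Module.length A (↥M ⧸ N.submoduleOf M) := by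
  let f : (↥N ⧸ L.submoduleOf N) →ₗ[A] (↥M ⧸ L.submoduleOf M) :=
    Submodule.mapQ _ _ (Submodule.inclusion hNM) (by
      intro x hx
      exact hx)
  let g : (↥M ⧸ L.submoduleOf M) →ₗ[A] (↥M ⧸ N.submoduleOf M) :=
    Submodule.mapQ _ _ LinearMap.id (by
      intro x hx
      exact hLN hx)
  apply Module.length_eq_add_of_exact f g
  · rw [injective_iff_map_eq_zero]
    intro x hx
    obtain ⟨x, rfl⟩ := Submodule.Quotient.mk_surjective _ x
    rw [Submodule.mapQ_apply, Submodule.Quotient.mk_eq_zero] at hx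
    rw [Submodule.Quotient.mk_eq_zero]
    exact hx
  · intro y
    obtain ⟨y, rfl⟩ := Submodule.Quotient.mk_surjective _ y
    exact ⟨Submodule.Quotient.mk y, by simp [g]⟩
  · intro y
    obtain ⟨y, rfl⟩ := Submodule.Quotient.mk_surjective _ y
    constructor
    · intro hy
      rw [Submodule.mapQ_apply, Submodule.Quotient.mk_eq_zero] at hy
      exact ⟨Submodule.Quotient.mk ⟨y.1, hy⟩, by rw [Submodule.mapQ_apply]; rfl⟩
    · rintro ⟨x, hx⟩
      obtain ⟨x, rfl⟩ := Submodule.Quotient.mk_surjective _ x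
      rw [← hx, Submodule.mapQ_apply, Submodule.mapQ_apply, Submodule.Quotient.mk_eq_zero]
      exact x.2

/-- every vector has a nonzero multiple in a given lattice. -/
lemma exists_smul_mem (A : Type*) [CommRing A] [IsDomain A] (K : Type*) [Field K] [Algebra A K]
    [IsFractionRing A K] {V : Type*} [AddCommGroup V] [Module K V] [Module A V]
    [IsScalarTower A K V] (N : Submodule A V) (hN : Submodule.span K (N : Set V) = ⊤) (v : V) :
    ∃ a ∈ nonZeroDivisors A, a • v ∈ N := by
  have hv : v ∈ Submodule.span K (N : Set V) := by rw [hN]; exact Submodule.mem_top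
  induction hv using Submodule.span_induction with
  | mem x hx => exact ⟨1, one_mem _, by rw [one_smul]; exact hx⟩
  | zero => exact ⟨1, one_mem _, by rw [smul_zero]; exact zero_mem _⟩
  | add x y _ _ hx hy =>
    obtain ⟨a, ha, hax⟩ := hx
    obtain ⟨b, hb, hby⟩ := hy
    refine ⟨a * b, mul_mem ha hb, ?_⟩
    rw [smul_add]
    refine add_mem ?_ ?_
    · rw [mul_comm, mul_smul]; exact N.smul_mem _ hax
    · rw [mul_smul]; exact N.smul_mem _ hby
  | smul k x _ hx =>
    obtain ⟨a, ha, hax⟩ := hx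
    obtain ⟨⟨r, s⟩, hrs⟩ := IsLocalization.surj (nonZeroDivisors A) k
    refine ⟨s * a, mul_mem s.2 ha, ?_⟩
    have h1 : ((s : A) * a) • k • x = r • (a • x) := by
      rw [← algebraMap_smul K ((s : A) * a), smul_smul, map_mul, mul_comm (algebraMap A K s),
        mul_assoc, mul_comm (algebraMap A K s), hrs, ← map_mul, algebraMap_smul, mul_comm,
        mul_smul]
    rw [h1]
    exact N.smul_mem _ hax

lemma finiteLength_quot {A : Type u} [CommRing A] [IsDomain A] [IsNoetherianRing A]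
    [Ring.KrullDimLE 1 A] {V : Type u} [AddCommGroup V] [Module A V] (M L : Submodule A V)
    (hM : M.FG) (h : ∀ m ∈ M, ∃ a ∈ nonZeroDivisors A, a • m ∈ L) :
    IsFiniteLength A (↥M ⧸ L.submoduleOf M) := by
  have : Module.Finite A ↥M := Module.Finite.iff_fg.mpr hM
  have htors : Module.IsTorsion A (↥M ⧸ L.submoduleOf M) := by
    intro q
    obtain ⟨y, rfl⟩ := Submodule.Quotient.mk_surjective _ q
    obtain ⟨a, ha, hay⟩ := h y.1 y.2
    refine ⟨⟨a, ha⟩, ?_⟩
    change a • (Submodule.Quotient.mk y : ↥M ⧸ L.submoduleOf M) = 0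
    rw [← Submodule.Quotient.mk_smul, Submodule.Quotient.mk_eq_zero]
    exact hay
  obtain ⟨w, hwann, hwS⟩ := Submodule.annihilator_top_inter_nonZeroDivisors htors
  exact Groth.Agent.S2855.isFiniteLength_of_smul_eq_zero hwS _ (fun q =>
    (Submodule.mem_annihilator.mp
      (show w ∈ (⊤ : Submodule A (↥M ⧸ L.submoduleOf M)).annihilator from hwann)) q
      Submodule.mem_top)

lemma toNat_tower {a b c : ℕ∞} (h : a = b + c) (ha : a ≠ ⊤) :
    (a.toNat : ℤ) = b.toNat + c.toNat := by
  have hb : b ≠ ⊤ := fun hb => ha (by rw [h, hb, top_add])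
  have hc : c ≠ ⊤ := fun hc => ha (by rw [h, hc, add_top])
  rw [h, ENat.toNat_add hb hc]
  push_cast
  rfl

/-- Take a one-dimensional Noetherian local domain A with fraction field K, V a finite-dimensional
K-vector space and M₁, M₂, M₃ lattices in V (finitely generated A-submodules spanning V over K).
Define the distance d(M, M') as length_A(M/(M ∩ M')) − length_A(M'/(M ∩ M')), with the (finite)
lengths read as natural numbers. Then d(M₁, M₃) = d(M₁, M₂) + d(M₂, M₃). -/
theorem result (A : Type u) [CommRing A] [IsDomain A] [IsNoetherianRing A]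
    [IsLocalRing A] (hA : ringKrullDim A = 1) (K : Type u) [Field K] [Algebra A K]
    [IsFractionRing A K] (V : Type u) [AddCommGroup V] [Module K V] [Module A V]
    [IsScalarTower A K V] [FiniteDimensional K V]
    (M₁ M₂ M₃ : Submodule A V) [Submodule.IsLattice K M₁] [Submodule.IsLattice K M₂]
    [Submodule.IsLattice K M₃] :
    ((Module.length A (↥M₁ ⧸ (M₁ ⊓ M₃).submoduleOf M₁)).toNat : ℤ) -
        ((Module.length A (↥M₃ ⧸ (M₁ ⊓ M₃).submoduleOf M₃)).toNat : ℤ) =
      (((Module.length A (↥M₁ ⧸ (M₁ ⊓ M₂).submoduleOf M₁)).toNat : ℤ) -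
        ((Module.length A (↥M₂ ⧸ (M₁ ⊓ M₂).submoduleOf M₂)).toNat : ℤ)) +
      (((Module.length A (↥M₂ ⧸ (M₂ ⊓ M₃).submoduleOf M₂)).toNat : ℤ) -
        ((Module.length A (↥M₃ ⧸ (M₂ ⊓ M₃).submoduleOf M₃)).toNat : ℤ)) := by
  classical
  have hdim1 : Ring.KrullDimLE 1 A := by
    rw [Ring.krullDimLE_iff]
    exact hA.le
  set L := M₁ ⊓ M₂ ⊓ M₃ with hL
  have hL1 : L ≤ M₁ := inf_le_left.trans inf_le_left
  have hL2 : L ≤ M₂ := inf_le_left.trans inf_le_right
  have hL3 : L ≤ M₃ := inf_le_right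
  have hmem : ∀ v : V, ∃ a ∈ nonZeroDivisors A, a • v ∈ L := by
    intro v
    obtain ⟨a, ha, hav⟩ := exists_smul_mem A K M₁ Submodule.IsLattice.span_eq_top v
    obtain ⟨b, hb, hbv⟩ := exists_smul_mem A K M₂ Submodule.IsLattice.span_eq_top v
    obtain ⟨c, hc, hcv⟩ := exists_smul_mem A K M₃ Submodule.IsLattice.span_eq_top v
    refine ⟨a * b * c, mul_mem (mul_mem ha hb) hc, ⟨⟨?_, ?_⟩, ?_⟩⟩
    · rw [mul_assoc, mul_comm, mul_smul]; exact M₁.smul_mem _ hav
    · rw [mul_comm a b, mul_assoc, mul_comm, mul_smul]; exact M₂.smul_mem _ hbv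
    · rw [mul_smul]; exact M₃.smul_mem _ hcv
  have f1 := Module.length_ne_top_iff.mpr
    (finiteLength_quot M₁ L Submodule.IsLattice.fg (fun m _ => hmem m))
  have f2 := Module.length_ne_top_iff.mpr
    (finiteLength_quot M₂ L Submodule.IsLattice.fg (fun m _ => hmem m))
  have f3 := Module.length_ne_top_iff.mpr
    (finiteLength_quot M₃ L Submodule.IsLattice.fg (fun m _ => hmem m))
  have t13 := toNat_tower (length_tower L (M₁ ⊓ M₃) M₁ (le_inf hL1 hL3) inf_le_left) f1
  have t31 := toNat_tower (length_tower L (M₁ ⊓ M₃) M₃ (le_inf hL1 hL3) inf_le_right) f3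
  have t12 := toNat_tower (length_tower L (M₁ ⊓ M₂) M₁ (le_inf hL1 hL2) inf_le_left) f1
  have t21 := toNat_tower (length_tower L (M₁ ⊓ M₂) M₂ (le_inf hL1 hL2) inf_le_right) f2
  have t23 := toNat_tower (length_tower L (M₂ ⊓ M₃) M₂ (le_inf hL2 hL3) inf_le_left) f2
  have t32 := toNat_tower (length_tower L (M₂ ⊓ M₃) M₃ (le_inf hL2 hL3) inf_le_right) f3
  linarith

end Groth.Agent.S14501
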