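import Groth.Statements.S14504
import Mathlib

set_option autoImplicit false
universe u
open IntTh

namespace Groth.Agent.S14504

section helpers
variable {K : Type u} [Field K]

/-- rank–nullity for the dot-product annihilator of the span of some columns -/
theorem colspan_bound {n d : ℕ} (A : Matrix (Fin d) (Fin n) K) (S : Set (Fin n))
    (N : Submodule K (Fin d → K)) (hN : ∀ x, (∀ l ∈ S, (Matrix.vecMul x A) l = 0) → x ∈ N) :
    d ≤ Module.finrank K ↥(Submodule.span K ((fun l : Fin n => fun r : Fin d => A r l) '' S)) +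
      Module.finrank K ↥N := by
  classical
  obtain ⟨U, hU⟩ : ∃ U : Submodule K (Fin d → K),
      U = Submodule.span K ((fun l : Fin n => fun r : Fin d => A r l) '' S) := ⟨_, rfl⟩
  rw [← hU]
  obtain ⟨g, hg⟩ : ∃ g : (Fin d → K) →ₗ[K] ((Fin d → K) →ₗ[K] K), ∀ x y, g x y = dotProduct x y :=
    ⟨LinearMap.mk₂ K (fun x y => dotProduct x y) add_dotProduct
      (fun c x y => smul_dotProduct c x y) dotProduct_add (fun c x y => dotProduct_smul c x y),
      fun x y => rfl⟩
  obtain ⟨f, hf⟩ : ∃ f : (Fin d → K) →ₗ[K] (↥U →ₗ[K] K),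
      ∀ x (y : U), f x y = dotProduct x (y : Fin d → K) :=
    ⟨(LinearMap.lcomp K K U.subtype).comp g, fun x y => by
      rw [LinearMap.comp_apply, LinearMap.lcomp_apply, Submodule.subtype_apply, hg]⟩
  have hker : LinearMap.ker f ≤ N := by
    intro x hx
    apply hN
    intro l hl
    have h1 : f x ⟨fun r => A r l, by rw [hU]; exact Submodule.subset_span ⟨l, hl, rfl⟩⟩ = 0 := by
      rw [LinearMap.mem_ker.mp hx]; rfl
    rw [hf] at h1
    exact h1
  have h1 := LinearMap.finrank_range_add_finrank_ker f
  rw [Module.finrank_fin_fun] at h1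
  have h2 : Module.finrank K ↥(LinearMap.range f) ≤ Module.finrank K ↥U :=
    (Submodule.finrank_le (LinearMap.range f)).trans
      (le_of_eq (Subspace.dual_finrank_eq (K := K) (V := U)))
  have h3 : Module.finrank K ↥(LinearMap.ker f) ≤ Module.finrank K ↥N :=
    Submodule.finrank_mono hker
  omega

end helpers



/-- Let K be a field, d ≤ n, λ = (λ₁ ≥ ⋯ ≥ λ_d) a non-increasing sequence of natural numbers, d_i = n −
d + i − λ_i, and V_j ⊆ K^n the span of the first j standard basis vectors. For a d × n matrix A over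
K with linearly independent rows spanning the subspace W: one has dim(W ∩ V_{d_i}) ≥ i for every i =
1, …, d if and only if every d × d minor of A taken on strictly increasing columns j₁ < ⋯ < j_d
(1-indexed) with j_i > d_i for some i vanishes. (Indices are 0-based in the formal statement: row i
: Fin d stands for i + 1 and column l : Fin n for l + 1.) -/
theorem result (K : Type u) [Field K] (n d : ℕ)
    (hdn : d ≤ n) (V : ℕ → Submodule K (Fin n → K))
    (hV : ∀ (j : ℕ) (v : Fin n → K), v ∈ V j ↔ ∀ l : Fin n, j ≤ (l : ℕ) → v l = 0)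
    (lam : Fin d → ℕ) (hlam : Antitone lam) (A : Matrix (Fin d) (Fin n) K)
    (hA : LinearIndependent K (fun i : Fin d => A i)) :
    (∀ i : Fin d, (i : ℕ) + 1 ≤
        Module.finrank K ↥(Submodule.span K (Set.range fun i : Fin d => A i) ⊓
          V (n - d + ((i : ℕ) + 1) - lam i))) ↔
      ∀ J : Fin d → Fin n, StrictMono J →
        (∃ i : Fin d, n - d + ((i : ℕ) + 1) - lam i < (J i : ℕ) + 1) →
          (A.submatrix id J).det = 0 := by
  classical
  obtain ⟨W, hW⟩ : ∃ W : Submodule K (Fin n → K),
      W = Submodule.span K (Set.range fun i : Fin d => A i) := ⟨_, rfl⟩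
  rw [← hW]
  have hvm : ∀ x : Fin d → K, Matrix.vecMul x A = ∑ r, x r • A r :=
    fun x => Matrix.vecMul_eq_sum x A
  have hvmW : ∀ x : Fin d → K, Matrix.vecMul x A ∈ W := by
    intro x
    rw [hW, hvm]
    exact Submodule.sum_mem _
      (fun r _ => Submodule.smul_mem _ _ (Submodule.subset_span ⟨r, rfl⟩))
  have hvminj : ∀ x : Fin d → K, Matrix.vecMul x A = 0 → x = 0 := by
    intro x hx
    rw [hvm] at hx
    funext r
    exact (Fintype.linearIndependent_iff.mp hA) x hx r
  constructor
  · -- (⇒)
    intro hL J hJ hex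
    obtain ⟨i₀, hi₀⟩ := hex
    obtain ⟨D, hD⟩ : ∃ D, D = n - d + ((i₀ : ℕ) + 1) - lam i₀ := ⟨_, rfl⟩
    rw [← hD] at hi₀
    have hdim := hL i₀
    rw [← hD] at hdim
    rw [← Matrix.exists_vecMul_eq_zero_iff]
    obtain ⟨π, hπ⟩ : ∃ π : ↥(W ⊓ V D) →ₗ[K] (Fin (i₀ : ℕ) → K),
        ∀ (v : ↥(W ⊓ V D)) (t : Fin (i₀ : ℕ)),
          π v t = (v : Fin n → K) (J ⟨t, lt_trans t.2 i₀.2⟩) :=
      ⟨{ toFun := fun v t => (v : Fin n → K) (J ⟨t, lt_trans t.2 i₀.2⟩)
         map_add' := fun _ _ => rfl
         map_smul' := fun _ _ => rfl }, fun _ _ => rfl⟩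
    have hker : LinearMap.ker π ≠ ⊥ := by
      apply LinearMap.ker_ne_bot_of_finrank_lt
      rw [Module.finrank_fin_fun]; omega
    obtain ⟨v, hvker, hv0⟩ := Submodule.exists_mem_ne_zero_of_ne_bot hker
    have hvW : (v : Fin n → K) ∈ W := (Submodule.mem_inf.mp v.2).1
    have hvV : (v : Fin n → K) ∈ V D := (Submodule.mem_inf.mp v.2).2
    have hvJ : ∀ t : Fin d, (v : Fin n → K) (J t) = 0 := by
      intro t
      by_cases ht : (t : ℕ) < (i₀ : ℕ)
      · have h1 := congrFun (LinearMap.mem_ker.mp hvker) ⟨t, ht⟩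
        rw [hπ] at h1
        exact h1
      · have h1 : i₀ ≤ t := by rw [Fin.le_iff_val_le_val]; omega
        have h2 : J i₀ ≤ J t := hJ.monotone h1
        have h3 : ((J i₀ : Fin n) : ℕ) ≤ ((J t : Fin n) : ℕ) := h2
        apply (hV D _).mp hvV
        omega
    have hvW' : (v : Fin n → K) ∈ Submodule.span K (Set.range fun i : Fin d => A i) := hW.le hvW
    obtain ⟨c, hc⟩ := (Submodule.mem_span_range_iff_exists_fun (R := K)).mp hvW'
    have hc' : ∑ r, c r • A r = (v : Fin n → K) := hc
    refine ⟨c, ?_, ?_⟩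
    · intro hc0
      apply hv0
      apply Subtype.ext
      rw [← hc', hc0]
      simp
    · funext t
      have h1 : Matrix.vecMul c (A.submatrix id J) t = (Matrix.vecMul c A) (J t) := rfl
      rw [h1, hvm, hc']
      exact hvJ t
  · -- (⇐)
    intro hR i₀
    obtain ⟨D, hD⟩ : ∃ D, D = n - d + ((i₀ : ℕ) + 1) - lam i₀ := ⟨_, rfl⟩
    rw [← hD]
    by_contra hcon
    rw [not_le] at hcon
    have hi₀d := i₀.2
    obtain ⟨c, hc⟩ : ∃ c : Fin n → (Fin d → K), c = fun l => fun r => A r l := ⟨_, rfl⟩
    obtain ⟨S, hS⟩ : ∃ S : Set (Fin n), S = {l : Fin n | D ≤ (l : ℕ)} := ⟨_, rfl⟩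
    have hspanS : d ≤ Module.finrank K ↥(Submodule.span K (c '' S)) + (i₀ : ℕ) := by
      obtain ⟨N, hN⟩ : ∃ N : Submodule K (Fin d → K),
          N = Submodule.comap (Matrix.vecMulLinear A) (W ⊓ V D) := ⟨_, rfl⟩
      have hNmem : ∀ x, (∀ l ∈ S, (Matrix.vecMul x A) l = 0) → x ∈ N := by
        intro x hx
        rw [hN, Submodule.mem_comap, Matrix.vecMulLinear_apply, Submodule.mem_inf]
        refine ⟨hvmW x, ?_⟩
        rw [hV]
        intro l hl
        exact hx l (by rw [hS]; exact hl)
      have h1 := colspan_bound A S N hNmem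
      have h2 : Module.finrank K ↥N ≤ Module.finrank K ↥(W ⊓ V D) := by
        have hres : ∀ x ∈ N, Matrix.vecMulLinear A x ∈ W ⊓ V D := fun x hx => by
          rw [hN] at hx; exact hx
        apply LinearMap.finrank_le_finrank_of_injective
          (f := (Matrix.vecMulLinear A).restrict hres)
        rw [injective_iff_map_eq_zero]
        intro x hx
        apply Subtype.ext
        apply hvminj
        have h3 := congrArg Subtype.val hx
        exact h3
      rw [hc]
      omega
    have hspan_all : Submodule.span K (Set.range c) = ⊤ := by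
      apply Submodule.eq_top_of_finrank_eq
      rw [Module.finrank_fin_fun]
      have h1 := colspan_bound A Set.univ ⊥ (fun x hx => by
        rw [Submodule.mem_bot]
        apply hvminj
        funext l
        exact hx l (Set.mem_univ l))
      rw [finrank_bot, add_zero, Set.image_univ] at h1
      have h2 := Submodule.finrank_le (Submodule.span K (Set.range c))
      rw [Module.finrank_fin_fun] at h2
      rw [hc] at h2 ⊢
      omega
    obtain ⟨b₀, hb₀S, -, hb₀span, hb₀li⟩ := exists_linearIndepOn_extension (K := K) (v := c)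
      (s := ∅) (t := S) (linearIndepOn_empty K c) (Set.empty_subset S)
    obtain ⟨b, -, hb₀b, hbspan, hbli⟩ := exists_linearIndepOn_extension (K := K) (v := c)
      (s := b₀) (t := Set.univ) hb₀li (Set.subset_univ b₀)
    have hcardb : b.toFinset.card = d := by
      rw [Set.toFinset_card]
      have h1 := finrank_span_eq_card hbli
      rw [← h1]
      have h2 : Set.range (fun x : ↥b => c x) = c '' b := by
        rw [Set.image_eq_range]
      rw [h2]
      have h3 : Submodule.span K (c '' b) = ⊤ := by
        apply top_le_iff.mp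
        rw [← hspan_all, Submodule.span_le, ← Set.image_univ]
        exact hbspan
      rw [h3, finrank_top, Module.finrank_fin_fun]
    have hcardb₀ : d ≤ b₀.toFinset.card + (i₀ : ℕ) := by
      rw [Set.toFinset_card]
      have h1 := finrank_span_eq_card hb₀li
      rw [← h1]
      have h2 : Set.range (fun x : ↥b₀ => c x) = c '' b₀ := by
        rw [Set.image_eq_range]
      rw [h2]
      have h3 : Submodule.span K (c '' S) ≤ Submodule.span K (c '' b₀) :=
        Submodule.span_le.mpr hb₀span
      have h4 := Submodule.finrank_mono h3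
      omega
    obtain ⟨J, hJmono, hJrange⟩ : ∃ J : Fin d → Fin n, StrictMono J ∧ Set.range J = b :=
      ⟨b.toFinset.orderEmbOfFin hcardb, (b.toFinset.orderEmbOfFin hcardb).strictMono, by
        rw [Finset.range_orderEmbOfFin]; exact Set.coe_toFinset b⟩
    have hJmem : ∀ t, J t ∈ b := fun t => by rw [← hJrange]; exact Set.mem_range_self t
    have hdet : (A.submatrix id J).det ≠ 0 := by
      have hli : LinearIndependent K (fun t : Fin d => c (J t)) :=
        hbli.comp (fun t : Fin d => (⟨J t, hJmem t⟩ : ↥b))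
          (fun t t' h => hJmono.injective (Subtype.ext_iff.mp h))
      have hcols : LinearIndependent K (A.submatrix id J).col := by
        rw [hc] at hli; exact hli
      exact ((Matrix.isUnit_iff_isUnit_det _).mp
        (Matrix.linearIndependent_cols_iff_isUnit.mp hcols)).ne_zero
    have hJi₀ : D ≤ ((J i₀ : Fin n) : ℕ) := by
      by_contra hlt
      rw [not_le] at hlt
      have hsub : b₀.toFinset ⊆ (Finset.Ioi i₀).image J := by
        intro l hl
        rw [Set.mem_toFinset] at hl
        have hlS : D ≤ (l : ℕ) := by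
          have h1 := hb₀S hl
          rw [hS] at h1
          exact h1
        have hlb : l ∈ b := hb₀b hl
        rw [← hJrange] at hlb
        obtain ⟨t, rfl⟩ := hlb
        rw [Finset.mem_image]
        refine ⟨t, ?_, rfl⟩
        rw [Finset.mem_Ioi]
        by_contra hle
        rw [not_lt] at hle
        have h1 : J t ≤ J i₀ := hJmono.monotone hle
        have h2 : ((J t : Fin n) : ℕ) ≤ ((J i₀ : Fin n) : ℕ) := h1
        omega
      have h1 := (Finset.card_le_card hsub).trans Finset.card_image_le
      rw [Fin.card_Ioi] at h1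
      omega
    exact hdet (hR J hJmono ⟨i₀, by rw [← hD]; omega⟩)


end Groth.Agent.S14504
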