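import Groth.Statements.S14505
import Mathlib

set_option autoImplicit false
universe u
open IntTh

namespace Groth.Agent.S14505

section aux
open PowerSeries

variable {R : Type u} [CommRing R]

lemma one_add_mul_G (a : R) :
    (1 + C a * X) * PowerSeries.mk (fun m => (-a) ^ m) = (1 : PowerSeries R) := by
  ext m
  rw [add_mul, one_mul, map_add, mul_assoc, coeff_C_mul]
  cases m with
  | zero =>
    rw [coeff_zero_X_mul, mul_zero, add_zero, coeff_mk, pow_zero, coeff_one, if_pos rfl]
  | succ m =>
    rw [coeff_succ_X_mul, coeff_mk, coeff_mk, coeff_one, if_neg (Nat.succ_ne_zero m)]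
    ring

lemma coeff_succ_mul_lin (P : PowerSeries R) (a : R) (m : ℕ) :
    coeff (m + 1) ((1 + C a * X) * P) = coeff (m + 1) P + a * coeff m P := by
  rw [add_mul, one_mul, map_add, mul_assoc, coeff_C_mul, coeff_succ_X_mul]

lemma coeff_zero_mul_lin (P : PowerSeries R) (a : R) :
    coeff 0 ((1 + C a * X) * P) = coeff 0 P := by
  rw [add_mul, one_mul, map_add, mul_assoc, coeff_C_mul, coeff_zero_X_mul, mul_zero, add_zero]

lemma coeff_prod_lin_eq_zero : ∀ (e : ℕ) (β : Fin e → R) (m : ℕ), e < m →
    coeff m (∏ j : Fin e, (1 + C (β j) * X) : PowerSeries R) = 0 := by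
  intro e
  induction e with
  | zero =>
    intro β m hm
    rw [Finset.univ_eq_empty, Finset.prod_empty, coeff_one, if_neg (by omega)]
  | succ e ih =>
    intro β m hm
    rw [Fin.prod_univ_castSucc, mul_comm]
    obtain ⟨m', rfl⟩ : ∃ m', m = m' + 1 := ⟨m - 1, by omega⟩
    rw [coeff_succ_mul_lin, ih _ _ (by omega), ih _ _ (by omega), mul_zero, add_zero]

lemma coeff_e_mul_G (a : R) : ∀ (e : ℕ) (β : Fin e → R),
    coeff e ((∏ j : Fin e, (1 + C (β j) * X) : PowerSeries R)
      * PowerSeries.mk (fun m => (-a) ^ m)) = ∏ j : Fin e, (β j - a) := by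
  intro e
  induction e with
  | zero =>
    intro β
    rw [Finset.univ_eq_empty, Finset.prod_empty, Finset.prod_empty, one_mul, coeff_mk, pow_zero]
  | succ e ih =>
    intro β
    rw [Fin.prod_univ_castSucc, Fin.prod_univ_castSucc]
    have h0 := coeff_prod_lin_eq_zero e (fun j => β (Fin.castSucc j)) (e + 1) (Nat.lt_succ_self e)
    have h1 : (∏ j : Fin e, (1 + C (β (Fin.castSucc j)) * X) : PowerSeries R)
        = (1 + C a * X) * ((∏ j : Fin e, (1 + C (β (Fin.castSucc j)) * X) : PowerSeries R)
          * PowerSeries.mk (fun m => (-a) ^ m)) := by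
      rw [mul_comm, mul_assoc, mul_comm (PowerSeries.mk _), one_add_mul_G, mul_one]
    rw [h1, coeff_succ_mul_lin] at h0
    have h2 : (∏ j : Fin e, (1 + C (β (Fin.castSucc j)) * X) : PowerSeries R)
        * (1 + C (β (Fin.last e)) * X) * PowerSeries.mk (fun m => (-a) ^ m)
        = (1 + C (β (Fin.last e)) * X) * ((∏ j : Fin e, (1 + C (β (Fin.castSucc j)) * X)
          : PowerSeries R) * PowerSeries.mk (fun m => (-a) ^ m)) := by ring
    rw [h2, coeff_succ_mul_lin, ← ih (fun j => β (Fin.castSucc j))]
    linear_combination h0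

theorem main (e : ℕ) (β : Fin e → R) : ∀ (d : ℕ) (α : Fin d → R),
    ∏ i : Fin d, ∏ j : Fin e, (β j - α i) =
      (Matrix.of fun i j : Fin d =>
        if (i : ℕ) ≤ e + (j : ℕ) then
          PowerSeries.coeff (e + (j : ℕ) - (i : ℕ))
            ((∏ j : Fin e, (1 + PowerSeries.C (β j) * PowerSeries.X)) *
              ∏ l : Fin d, if l ≤ i then PowerSeries.mk (fun m => (-α l) ^ m) else 1)
        else 0).det := by
  intro d
  induction d with
  | zero =>
    intro α
    rw [Matrix.det_isEmpty, Finset.univ_eq_empty, Finset.prod_empty]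
  | succ d ih =>
    intro α
    set b : PowerSeries R := ∏ j : Fin e, (1 + PowerSeries.C (β j) * PowerSeries.X) with hb
    set Q : Fin (d + 1) → PowerSeries R := fun i =>
      b * ∏ l : Fin (d + 1), if l ≤ i then PowerSeries.mk (fun m => (-α l) ^ m) else 1 with hQ
    set Q' : Fin (d + 1) → PowerSeries R := fun i =>
      b * ∏ l : Fin d, if l.succ ≤ i then PowerSeries.mk (fun m => (-α l.succ) ^ m) else 1
      with hQ'
    have hQQ' : ∀ i, Q' i = (1 + C (α 0) * X) * Q i := by
      intro i
      simp only [hQ, hQ']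
      rw [Fin.prod_univ_succ, if_pos (Fin.zero_le i)]
      calc b * ∏ l : Fin d, (if l.succ ≤ i then PowerSeries.mk (fun m => (-α l.succ) ^ m) else 1)
          = ((1 + C (α 0) * X) * PowerSeries.mk (fun m => (-α 0) ^ m)) *
            (b * ∏ l : Fin d, (if l.succ ≤ i then PowerSeries.mk (fun m => (-α l.succ) ^ m)
              else 1)) := by rw [one_add_mul_G, one_mul]
        _ = _ := by ring
    set A : Matrix (Fin (d + 1)) (Fin (d + 1)) R := Matrix.of fun i j : Fin (d + 1) =>
        if (i : ℕ) ≤ e + (j : ℕ) then PowerSeries.coeff (e + (j : ℕ) - (i : ℕ)) (Q i) else 0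
      with hA
    set Bm : Matrix (Fin (d + 1)) (Fin (d + 1)) R := Matrix.of fun i j : Fin (d + 1) =>
        Fin.cases (A i 0) (fun j' : Fin d =>
          if (i : ℕ) ≤ e + ((j' : ℕ) + 1) then
            PowerSeries.coeff (e + ((j' : ℕ) + 1) - (i : ℕ)) (Q' i) else 0) j
      with hBm
    have hdet : A.det = Bm.det := by
      apply Matrix.det_eq_of_forall_col_eq_smul_add_pred (fun _ => -α 0)
      · intro i; rfl
      · intro i j
        show A i j.succ = (if (i : ℕ) ≤ e + ((j : ℕ) + 1) then
            PowerSeries.coeff (e + ((j : ℕ) + 1) - (i : ℕ)) (Q' i) else 0)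
            + -α 0 * A i (Fin.castSucc j)
        simp only [hA, Matrix.of_apply, Fin.val_succ, Fin.val_castSucc]
        by_cases h1 : (i : ℕ) ≤ e + (j : ℕ)
        · have h2 : (i : ℕ) ≤ e + ((j : ℕ) + 1) := by omega
          have h3 : e + ((j : ℕ) + 1) - (i : ℕ) = (e + (j : ℕ) - (i : ℕ)) + 1 := by omega
          simp only [if_pos h1, if_pos h2]
          rw [h3, hQQ', coeff_succ_mul_lin]
          ring
        · by_cases h2 : (i : ℕ) ≤ e + ((j : ℕ) + 1)
          · have h3 : e + ((j : ℕ) + 1) - (i : ℕ) = 0 := by omega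
            simp only [if_neg h1, if_pos h2]
            rw [h3, hQQ', coeff_zero_mul_lin, mul_zero, add_zero]
          · simp only [if_neg h1, if_neg h2]
            rw [mul_zero, add_zero]
    have hrow : ∀ j' : Fin d, Bm 0 j'.succ = 0 := by
      intro j'
      show (if ((0 : Fin (d + 1)) : ℕ) ≤ e + ((j' : ℕ) + 1) then
            PowerSeries.coeff (e + ((j' : ℕ) + 1) - ((0 : Fin (d + 1)) : ℕ)) (Q' 0) else 0) = 0
      have hQ0 : Q' 0 = b := by
        simp only [hQ']
        rw [Finset.prod_eq_one, mul_one]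
        intro l _
        rw [if_neg]
        rw [Fin.le_zero_iff]
        exact Fin.succ_ne_zero l
      rw [hQ0, if_pos (by simp), Fin.val_zero, Nat.sub_zero]
      exact coeff_prod_lin_eq_zero e β _ (by omega)
    have h00 : Bm 0 0 = ∏ j : Fin e, (β j - α 0) := by
      show A 0 0 = _
      simp only [hA, Matrix.of_apply, Fin.val_zero, add_zero, Nat.sub_zero]
      rw [if_pos (Nat.zero_le e)]
      have hQ0 : Q 0 = b * PowerSeries.mk (fun m => (-α 0) ^ m) := by
        simp only [hQ]
        rw [Fin.prod_univ_succ, if_pos le_rfl, Finset.prod_eq_one, mul_one]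
        intro l _
        rw [if_neg]
        rw [Fin.le_zero_iff]
        exact Fin.succ_ne_zero l
      rw [hQ0]
      exact coeff_e_mul_G (α 0) e β
    have hsub : Bm.submatrix Fin.succ Fin.succ = Matrix.of fun i j : Fin d =>
        if (i : ℕ) ≤ e + (j : ℕ) then
          PowerSeries.coeff (e + (j : ℕ) - (i : ℕ))
            ((∏ j : Fin e, (1 + PowerSeries.C (β j) * PowerSeries.X)) *
              ∏ l : Fin d, if l ≤ i then PowerSeries.mk (fun m => (-(fun l => α (Fin.succ l)) l) ^ m)
                else 1)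
        else 0 := by
      ext i' j'
      show (if ((i'.succ : Fin (d + 1)) : ℕ) ≤ e + ((j' : ℕ) + 1) then
            PowerSeries.coeff (e + ((j' : ℕ) + 1) - ((i'.succ : Fin (d + 1)) : ℕ)) (Q' i'.succ)
            else 0) = _
      simp only [Matrix.of_apply, Fin.val_succ, hQ', Fin.succ_le_succ_iff]
      have h3 : e + ((j' : ℕ) + 1) - ((i' : ℕ) + 1) = e + (j' : ℕ) - (i' : ℕ) := by omega
      rw [h3]
      by_cases h1 : (i' : ℕ) ≤ e + (j' : ℕ)
      · rw [if_pos h1, if_pos (by omega)]
      · rw [if_neg h1, if_neg (by omega)]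
    show _ = A.det
    rw [hdet, Matrix.det_succ_row_zero, Fin.sum_univ_succ]
    rw [Finset.sum_eq_zero (fun j' _ => by rw [hrow j', mul_zero, zero_mul])]
    rw [add_zero, Fin.val_zero, pow_zero, one_mul, h00, Fin.succAbove_zero, hsub,
      ← ih (fun l => α (Fin.succ l)), Fin.prod_univ_succ]

end aux

/-- Let R be a commutative ring, α₁, …, α_d, β₁, …, β_e ∈ R, b(t) = ∏ (1 + β_j t), and for k = 1, …, d
let P_k(t) = b(t)/∏_{i ≤ k} (1 + α_i t) ∈ R⟦t⟧, each factor 1 + α_i t being inverted by its
geometric series; write (P_k)_m for the coefficient of t^m, with (P_k)_m = 0 for m < 0. Then ∏_{i,j}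
(β_j − α_i) = det((P_i)_{e+j−i})_{1 ≤ i,j ≤ d}, the d × d determinant whose i-th row is built from
the coefficients of the i-th partial quotient. (Rows and columns are 0-based in the formal
statement, which does not change j − i; the row of index i inverts the factors of index at most i.
The companion form with every row built from the full quotient b/a is stated separately.) -/
theorem result (R : Type u) [CommRing R] (d e : ℕ)
    (α : Fin d → R) (β : Fin e → R) :
    ∏ i : Fin d, ∏ j : Fin e, (β j - α i) =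
      (Matrix.of fun i j : Fin d =>
        if (i : ℕ) ≤ e + (j : ℕ) then
          PowerSeries.coeff (e + (j : ℕ) - (i : ℕ))
            ((∏ j : Fin e, (1 + PowerSeries.C (β j) * PowerSeries.X)) *
              ∏ l : Fin d, if l ≤ i then PowerSeries.mk (fun m => (-α l) ^ m) else 1)
        else 0).det := by
  exact main e β d α

end Groth.Agent.S14505
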