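import Groth.Statements.S14506
import Mathlib

set_option autoImplicit false
open IntTh

namespace Groth.Agent.S14506

section aux
open PowerSeries

/-- key coefficient lemma -/
lemma coeff_key (u v : PowerSeries ℚ) (huv : u * v = 1) (j : ℕ) :
    coeff j ((u + X * derivative ℚ u) * v ^ (j + 1)) = if j = 0 then 1 else 0 := by
  have hc : constantCoeff u * constantCoeff v = 1 := by rw [← map_mul, huv, map_one]
  cases j with
  | zero =>
    rw [if_pos rfl, zero_add, pow_one, coeff_zero_eq_constantCoeff_apply, map_mul, map_add,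
      map_mul, constantCoeff_X, zero_mul, add_zero, hc]
  | succ i =>
    rw [if_neg (Nat.succ_ne_zero i)]
    have hDv : derivative ℚ v = -(v ^ 2 * derivative ℚ u) := by
      have h0 : derivative ℚ (u * v) = 0 := by rw [huv, derivative_one]
      rw [Derivation.leibniz, smul_eq_mul, smul_eq_mul] at h0
      have h1 : v * (u * derivative ℚ v + v * derivative ℚ u) = 0 := by rw [h0, mul_zero]
      have huv' : v * u = 1 := by rw [mul_comm]; exact huv
      calc derivative ℚ v = (v * u) * derivative ℚ v := by rw [huv', one_mul]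
        _ = v * (u * derivative ℚ v + v * derivative ℚ u) - v ^ 2 * derivative ℚ u := by ring
        _ = -(v ^ 2 * derivative ℚ u) := by rw [h1, zero_sub]
    have hDpow : derivative ℚ (v ^ (i + 1))
        = -(C ((i : ℚ) + 1) * (v ^ (i + 2) * derivative ℚ u)) := by
      rw [derivative_pow, hDv, Nat.add_sub_cancel]
      have : ((i + 1 : ℕ) : PowerSeries ℚ) = C ((i : ℚ) + 1) := by
        rw [map_add, map_natCast, map_one]; push_cast; rfl
      rw [this]
      ring
    have h1 : coeff i (derivative ℚ (v ^ (i + 1)))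
        = coeff (i + 1) (v ^ (i + 1)) * ((i : ℚ) + 1) := coeff_derivative _ _
    have h2 : coeff i (derivative ℚ (v ^ (i + 1)))
        = -(((i : ℚ) + 1) * coeff i (v ^ (i + 2) * derivative ℚ u)) := by
      rw [hDpow, map_neg, coeff_C_mul]
    have h3 : coeff i (v ^ (i + 2) * derivative ℚ u) = -coeff (i + 1) (v ^ (i + 1)) := by
      have hne : ((i : ℚ) + 1) ≠ 0 := by positivity
      have h4 := h1.symm.trans h2
      apply mul_left_cancel₀ hne
      linear_combination h4
    have e : (u + X * derivative ℚ u) * v ^ (i + 1 + 1)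
        = v ^ (i + 1) + X * (v ^ (i + 2) * derivative ℚ u) := by
      have h5 : u * v ^ (i + 1 + 1) = v ^ (i + 1) := by
        rw [pow_succ' v (i + 1), ← mul_assoc, huv, one_mul]
      rw [add_mul, h5]; ring
    rw [e, map_add, coeff_succ_X_mul, h3, add_neg_cancel]

lemma unique_of_coeff (f₁ f₂ : PowerSeries ℚ) (h₁ : ∀ n, coeff n (f₁ ^ (n + 1)) = 1)
    (h₂ : ∀ n, coeff n (f₂ ^ (n + 1)) = 1) : f₁ = f₂ := by
  have c1 : constantCoeff f₁ = 1 := by
    have := h₁ 0
    rwa [zero_add, pow_one, coeff_zero_eq_constantCoeff_apply] at this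
  have c2 : constantCoeff f₂ = 1 := by
    have := h₂ 0
    rwa [zero_add, pow_one, coeff_zero_eq_constantCoeff_apply] at this
  ext n
  induction n using Nat.strong_induction_on with
  | _ n ih =>
    have hdvd : (X : PowerSeries ℚ) ^ n ∣ f₁ - f₂ := by
      rw [X_pow_dvd_iff]; intro m hm; rw [map_sub, ih m hm, sub_self]
    obtain ⟨h, hh⟩ := hdvd
    have hgeom := (Commute.all f₁ f₂).geom_sum₂_mul (n + 1)
    have hc : coeff n (f₁ ^ (n + 1) - f₂ ^ (n + 1)) = 0 := by rw [map_sub, h₁, h₂, sub_self]
    rw [← hgeom, hh, mul_comm, mul_assoc, coeff_X_pow_mul', if_pos le_rfl, Nat.sub_self,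
      coeff_zero_eq_constantCoeff_apply, map_mul, map_sum] at hc
    have hs : ∑ i ∈ Finset.range (n + 1),
        constantCoeff (f₁ ^ i * f₂ ^ (n + 1 - 1 - i)) = (n : ℚ) + 1 := by
      simp [map_mul, map_pow, c1, c2]
    rw [hs] at hc
    have hne : ((n : ℚ) + 1) ≠ 0 := by positivity
    have hh0 : constantCoeff h = 0 := by
      rcases mul_eq_zero.1 hc with h0 | h0
      · exact h0
      · exact absurd h0 hne
    have : coeff n (f₁ - f₂) = 0 := by
      rw [hh, coeff_X_pow_mul', if_pos le_rfl, Nat.sub_self, coeff_zero_eq_constantCoeff_apply,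
        hh0]
    rw [map_sub, sub_eq_zero] at this
    exact this

/-- the Todd series satisfies the coefficient conditions -/
lemma todd_coeff (u v : PowerSeries ℚ) (huv : u * v = 1) (hu : exp ℚ - 1 = X * u) (n : ℕ) :
    coeff n ((exp ℚ * v) ^ (n + 1)) = 1 := by
  have hE1 : exp ℚ = X * u + 1 := by rw [← hu]; ring
  have hE2 : exp ℚ = u + X * derivative ℚ u := by
    have h := congrArg (derivative ℚ) hu
    rw [map_sub, derivative_exp, derivative_one, sub_zero, Derivation.leibniz, derivative_X,
      smul_eq_mul, smul_eq_mul, mul_one] at h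
    rw [h]; ring
  have hEn : exp ℚ ^ n
      = ∑ k ∈ Finset.range (n + 1), (X * u) ^ k * 1 ^ (n - k) * ((n.choose k : ℕ) : PowerSeries ℚ) := by
    conv_lhs => rw [hE1]
    exact add_pow _ _ _
  have hEv : exp ℚ * v ^ (n + 1) = (u + X * derivative ℚ u) * v ^ (n + 1) := by rw [← hE2]
  have hsum : (exp ℚ * v) ^ (n + 1) = ∑ k ∈ Finset.range (n + 1),
      C ((n.choose k : ℚ)) * (X ^ k * ((u + X * derivative ℚ u) * v ^ ((n - k) + 1))) := by
    calc (exp ℚ * v) ^ (n + 1) = exp ℚ ^ n * (exp ℚ * v ^ (n + 1)) := by ring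
      _ = _ := by
        rw [hEn, hEv, Finset.sum_mul]
        refine Finset.sum_congr rfl (fun k hk => ?_)
        have hk' : k ≤ n := Nat.lt_succ_iff.1 (Finset.mem_range.1 hk)
        have huvk : u ^ k * v ^ k = 1 := by rw [← mul_pow, huv, one_pow]
        have hv : v ^ (n + 1) = v ^ k * v ^ ((n - k) + 1) := by
          rw [← pow_add]; congr 1; omega
        have hcast : ((n.choose k : ℕ) : PowerSeries ℚ) = C ((n.choose k : ℚ)) := by
          rw [map_natCast]
        calc (X * u) ^ k * 1 ^ (n - k) * ((n.choose k : ℕ) : PowerSeries ℚ)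
              * ((u + X * derivative ℚ u) * v ^ (n + 1))
            = (u ^ k * v ^ k) * (C ((n.choose k : ℚ)) * (X ^ k * ((u + X * derivative ℚ u)
                * v ^ ((n - k) + 1)))) := by
              rw [hv, hcast, mul_pow, one_pow]; ring
          _ = _ := by rw [huvk, one_mul]
  rw [hsum, map_sum]
  rw [Finset.sum_eq_single n]
  · rw [coeff_C_mul, coeff_X_pow_mul', if_pos le_rfl, Nat.sub_self, coeff_key u v huv 0,
      if_pos rfl, Nat.choose_self]
    norm_num
  · intro k hk hkn
    have hk' : k ≤ n := Nat.lt_succ_iff.1 (Finset.mem_range.1 hk)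
    rw [coeff_C_mul, coeff_X_pow_mul', if_pos hk', coeff_key u v huv (n - k),
      if_neg (by omega), mul_zero]
  · intro h; exact absurd (Finset.mem_range.2 (Nat.lt_succ_self n)) h

end aux

/-- A formal power series f(t) ∈ ℚ⟦t⟧ satisfies, for every n ≥ 0, that the coefficient of t^n in
f(t)^(n+1) is 1, if and only if f(t)·(e^t − 1) = t·e^t, that is f(t) = t/(1 − e^(−t)) = 1 + t/2 +
t²/12 − ⋯. (The published statement is the existence and uniqueness of the Todd class of vector
bundles normalised by multiplicativity, td(O) = 1 and the Riemann–Roch identity for the structure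
sheaf of every projective space; this row is the power-series fact its proof establishes: the
normalisation forces exactly these coefficient conditions on the one-variable series.) -/
theorem result (f : PowerSeries ℚ) :
    (∀ n : ℕ, PowerSeries.coeff n (f ^ (n + 1)) = 1) ↔
      f * (PowerSeries.exp ℚ - 1) = PowerSeries.X * PowerSeries.exp ℚ := by
  have hX : PowerSeries.X ∣ PowerSeries.exp ℚ - 1 := by
    rw [PowerSeries.X_dvd_iff, map_sub, PowerSeries.constantCoeff_exp, map_one, sub_self]
  obtain ⟨u, hu⟩ := hX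
  have hu0 : PowerSeries.constantCoeff u = 1 := by
    have h1 : PowerSeries.coeff 1 (PowerSeries.exp ℚ - 1) = 1 := by
      rw [map_sub, PowerSeries.coeff_exp, PowerSeries.coeff_one]
      simp
    rw [hu, show (1 : ℕ) = 0 + 1 from rfl, PowerSeries.coeff_succ_X_mul,
      PowerSeries.coeff_zero_eq_constantCoeff_apply] at h1
    exact h1
  have huv : u * u⁻¹ = 1 := PowerSeries.mul_inv_cancel u (by rw [hu0]; exact one_ne_zero)
  have hT : (PowerSeries.exp ℚ * u⁻¹) * (PowerSeries.exp ℚ - 1)
      = PowerSeries.X * PowerSeries.exp ℚ := by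
    rw [hu]
    calc PowerSeries.exp ℚ * u⁻¹ * (PowerSeries.X * u)
        = PowerSeries.X * PowerSeries.exp ℚ * (u * u⁻¹) := by ring
      _ = _ := by rw [huv, mul_one]
  have hTc := todd_coeff u u⁻¹ huv hu
  constructor
  · intro h
    have := unique_of_coeff f _ h hTc
    rw [this]; exact hT
  · intro hf n
    have hfu : f * u = PowerSeries.exp ℚ := by
      rw [hu] at hf
      have hX0 : (PowerSeries.X : PowerSeries ℚ) ≠ 0 := PowerSeries.X_ne_zero
      apply mul_left_cancel₀ hX0
      rw [← hf]; ring
    have hfe : f = PowerSeries.exp ℚ * u⁻¹ := by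
      calc f = f * (u * u⁻¹) := by rw [huv, mul_one]
        _ = (f * u) * u⁻¹ := by ring
        _ = _ := by rw [hfu]
    rw [hfe]; exact hTc n

end Groth.Agent.S14506
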