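import Groth.Statements.S14509
import Mathlib
import Groth.Agent.S14506

set_option autoImplicit false
open IntTh

namespace Groth.Agent.S14509

section aux
open PowerSeries

/-- `a m n := [t^n] e^{mt} f^{n+1}`; the Pascal-type recursion. -/
lemma rec_step (f : PowerSeries ℚ)
    (hf : f * (exp ℚ - 1) = X * exp ℚ) (m : ℤ) (n : ℕ) :
    coeff (n + 1) (rescale ((m + 1 : ℤ) : ℚ) (exp ℚ) * f ^ (n + 1 + 1))
      = coeff (n + 1) (rescale (m : ℚ) (exp ℚ) * f ^ (n + 1 + 1))
        + coeff n (rescale ((m + 1 : ℤ) : ℚ) (exp ℚ) * f ^ (n + 1)) := by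
  have hR : rescale ((m + 1 : ℤ) : ℚ) (exp ℚ) = rescale (m : ℚ) (exp ℚ) * exp ℚ := by
    have h := exp_mul_exp_eq_exp_add (A := ℚ) (m : ℚ) 1
    rw [rescale_one, RingHom.id_apply] at h
    rw [h]; push_cast; rfl
  have key : rescale ((m + 1 : ℤ) : ℚ) (exp ℚ) * f ^ (n + 1 + 1)
      = rescale (m : ℚ) (exp ℚ) * f ^ (n + 1 + 1)
        + X * (rescale ((m + 1 : ℤ) : ℚ) (exp ℚ) * f ^ (n + 1)) := by
    rw [hR]
    have h1 : rescale (m : ℚ) (exp ℚ) * exp ℚ * f ^ (n + 1 + 1)
        - rescale (m : ℚ) (exp ℚ) * f ^ (n + 1 + 1)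
        = rescale (m : ℚ) (exp ℚ) * f ^ (n + 1) * (f * (exp ℚ - 1)) := by ring
    rw [hf] at h1
    rw [eq_add_of_sub_eq' h1]; ring
  rw [key, map_add, coeff_succ_X_mul]

lemma main (f : PowerSeries ℚ)
    (hf : f * (exp ℚ - 1) = X * exp ℚ) (n : ℕ) : ∀ m : ℤ,
    coeff n (rescale (m : ℚ) (exp ℚ) * f ^ (n + 1)) = ((Ring.choose (m + n : ℤ) n : ℤ) : ℚ) := by
  have hbase := (Groth.Agent.S14506.result f).2 hf
  have hf0 : constantCoeff f = 1 := by
    have := hbase 0
    rwa [zero_add, pow_one, coeff_zero_eq_constantCoeff_apply] at this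
  induction n with
  | zero =>
    intro m
    rw [zero_add, pow_one, coeff_zero_eq_constantCoeff_apply, map_mul, hf0, mul_one,
      Ring.choose_zero_right, ← coeff_zero_eq_constantCoeff_apply, coeff_rescale, pow_zero,
      one_mul, coeff_zero_eq_constantCoeff_apply, constantCoeff_exp]
    simp
  | succ n ih =>
    have h0 : coeff (n + 1) (rescale ((0 : ℤ) : ℚ) (exp ℚ) * f ^ (n + 1 + 1))
        = ((Ring.choose ((0 : ℤ) + (n + 1 : ℕ) : ℤ) (n + 1) : ℤ) : ℚ) := by
      rw [Int.cast_zero, rescale_zero_apply, constantCoeff_exp, map_one, one_mul, hbase (n + 1),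
        zero_add, Ring.choose_natCast, Nat.choose_self]
      simp
    have pascal : ∀ m : ℤ, Ring.choose ((m + 1) + (n + 1 : ℕ) : ℤ) (n + 1)
        = Ring.choose (m + (n + 1 : ℕ) : ℤ) (n + 1) + Ring.choose ((m + 1) + (n : ℕ) : ℤ) n := by
      intro m
      have e1 : ((m + 1) + (n + 1 : ℕ) : ℤ) = (m + (n + 1 : ℕ)) + 1 := by ring
      have e2 : ((m + 1) + (n : ℕ) : ℤ) = m + (n + 1 : ℕ) := by push_cast; ring
      rw [e1, Ring.choose_succ_succ, e2, add_comm]
    intro m
    induction m using Int.induction_on with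
    | zero => exact h0
    | succ i hi =>
      have h1 := rec_step f hf (i : ℤ) n
      rw [h1, hi, ih ((i : ℤ) + 1), pascal]
      push_cast; ring
    | pred i hi =>
      have h1 := rec_step f hf (-(i : ℤ) - 1) n
      have e : (-(i : ℤ) - 1 + 1) = -(i : ℤ) := by ring
      rw [e] at h1
      have h2 := pascal (-(i : ℤ) - 1)
      rw [e] at h2
      rw [hi, ih (-(i : ℤ))] at h1
      have h3 : ((Ring.choose (-(i : ℤ) + (n + 1 : ℕ) : ℤ) (n + 1) : ℤ) : ℚ)
          = ((Ring.choose (-(i : ℤ) - 1 + (n + 1 : ℕ) : ℤ) (n + 1) : ℤ) : ℚ)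
            + ((Ring.choose (-(i : ℤ) + (n : ℕ) : ℤ) n : ℤ) : ℚ) := by
        rw [h2]; push_cast; ring
      linarith

end aux

/-- Let f(t) ∈ ℚ⟦t⟧ be the Todd series, characterised by f(t)·(e^t − 1) = t·e^t, i.e. f(t) = t/(1 −
e^(−t)). Then for every m ∈ ℤ and n ∈ ℕ the coefficient of t^n in e^(mt)·f(t)^(n+1) is the binomial
coefficient C(m+n, n), understood as the polynomial (m+n)(m+n−1)⋯(m+1)/n! in m (so for all integers
m). (The published statement is the Hirzebruch–Riemann–Roch formula χ(E) = ∫ ch(E)·td for vector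
bundles on projective n-space; this row is the identity of formal power series to which its proof
reduces it for E = O(m): the degree-n part of ch(O(m))·td(P^n) = e^(mζ)(ζ/(1 − e^(−ζ)))^(n+1)
against χ(P^n, O(m)) = C(m+n, n).) -/
theorem result (f : PowerSeries ℚ)
    (hf : f * (PowerSeries.exp ℚ - 1) = PowerSeries.X * PowerSeries.exp ℚ) (m : ℤ) (n : ℕ) :
    PowerSeries.coeff n (PowerSeries.rescale (m : ℚ) (PowerSeries.exp ℚ) * f ^ (n + 1)) =
      ((Ring.choose (m + n : ℤ) n : ℤ) : ℚ) := by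
  exact main f hf n m

end Groth.Agent.S14509
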