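import Groth.Statements.S14511
import Mathlib
-- import your own Groth.Agent.* helpers here

set_option autoImplicit false
universe u
open CAlgX

namespace Groth.Agent.S14511

theorem key (R : Type u) [CommRing R] (r : ℕ) (a : Fin r →₀ ℕ) (ha : (a.sum fun _ e => e) ≤ r) :
    ∑ J : Finset (Fin r), (-1 : R) ^ J.card *
      ∏ i : Fin r, (if i ∈ J then (-1 : R) else 0) ^ a i =
    if a = ∑ i : Fin r, Finsupp.single i 1 then 1 else 0 := by
  have hterm : ∀ J : Finset (Fin r), (-1 : R) ^ J.card *
      ∏ i : Fin r, (if i ∈ J then (-1 : R) else 0) ^ a i =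
      (∏ i ∈ J, (-1 * (-1 : R) ^ a i)) * ∏ i ∈ Finset.univ \ J, (0 : R) ^ a i := by
    intro J
    rw [← Finset.prod_sdiff (Finset.subset_univ J), Finset.prod_mul_distrib, Finset.prod_const]
    have h1 : ∏ i ∈ J, (if i ∈ J then (-1 : R) else 0) ^ a i = ∏ i ∈ J, (-1 : R) ^ a i :=
      Finset.prod_congr rfl fun i hi => by rw [if_pos hi]
    have h2 : ∏ i ∈ Finset.univ \ J, (if i ∈ J then (-1 : R) else 0) ^ a i =
        ∏ i ∈ Finset.univ \ J, (0 : R) ^ a i :=
      Finset.prod_congr rfl fun i hi => by rw [if_neg (Finset.mem_sdiff.mp hi).2]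
    rw [h1, h2]
    ring
  rw [Finset.sum_congr rfl fun J _ => hterm J, ← Finset.powerset_univ, ← Finset.prod_add]
  split_ifs with h
  · apply Finset.prod_eq_one
    intro i _
    have : a i = 1 := by
      rw [h]
      simp [Finsupp.single_apply]
    rw [this]
    ring
  · obtain ⟨i₀, hi₀⟩ : ∃ i₀, a i₀ = 0 := by
      by_contra hne
      push Not at hne
      apply h
      have hge : ∀ i, 1 ≤ a i := fun i => Nat.one_le_iff_ne_zero.mpr (hne i)
      have hsum : (a.sum fun _ e => e) = ∑ i : Fin r, a i := by
        rw [Finsupp.sum_fintype]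
        intro i; rfl
      have hle : ∑ i : Fin r, a i ≤ ∑ _i : Fin r, 1 := by
        rw [← hsum]; simpa using ha
      have heq : ∀ i ∈ Finset.univ, a i = 1 := by
        have := (Finset.sum_eq_sum_iff_of_le (fun i _ => hge i)).mp
          (le_antisymm (Finset.sum_le_sum fun i _ => hge i) hle)
        intro i hi
        exact (this i hi).symm
      ext i
      rw [heq i (Finset.mem_univ i)]
      simp [Finsupp.single_apply]
    apply Finset.prod_eq_zero (Finset.mem_univ i₀)
    rw [hi₀]
    ring

/-- Let R be a commutative ring and P ∈ R[x_1, …, x_r] a polynomial of total degree at most r. Then the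
coefficient of the monomial x_1 ⋯ x_r in P equals Σ_J (−1)^{|J|} P(δ_J), the sum over all subsets J
⊆ {1, …, r} (the empty one included), where δ_J is the point with coordinate −1 at the indices in J
and 0 at the others. -/
theorem result (R : Type u) [CommRing R] (r : ℕ)
    (P : MvPolynomial (Fin r) R) (hP : P.totalDegree ≤ r) :
    MvPolynomial.coeff (∑ i : Fin r, Finsupp.single i 1) P =
      ∑ J : Finset (Fin r), (-1 : R) ^ J.card * MvPolynomial.eval (fun j => if j ∈ J then (-1 : R) else 0) P := by
  have hev : ∀ J : Finset (Fin r), MvPolynomial.eval (fun j => if j ∈ J then (-1 : R) else 0) P =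
      ∑ d ∈ P.support, MvPolynomial.coeff d P *
        ∏ i : Fin r, (if i ∈ J then (-1 : R) else 0) ^ d i := fun J => MvPolynomial.eval_eq' _ _
  simp_rw [hev, Finset.mul_sum]
  rw [Finset.sum_comm]
  have hterm : ∀ d ∈ P.support, ∑ J : Finset (Fin r), (-1 : R) ^ J.card *
      (MvPolynomial.coeff d P * ∏ i : Fin r, (if i ∈ J then (-1 : R) else 0) ^ d i) =
      MvPolynomial.coeff d P * (if d = ∑ i : Fin r, Finsupp.single i 1 then 1 else 0) := by
    intro d hd
    rw [← key R r d ((MvPolynomial.le_totalDegree hd).trans hP), Finset.mul_sum]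
    apply Finset.sum_congr rfl
    intro J _
    ring
  rw [Finset.sum_congr rfl hterm]
  simp only [mul_ite, mul_one, mul_zero]
  rw [Finset.sum_ite_eq']
  split_ifs with h
  · rfl
  · exact MvPolynomial.notMem_support_iff.mp h

end Groth.Agent.S14511
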