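import Groth.Statements.S14519
import Mathlib
import Groth.Agent.S7830
import Groth.Agent.Lib.Helper13.Normal2
-- import your own Groth.Agent.* helpers here

set_option autoImplicit false
universe u
open CategoryTheory CategoryTheory.Limits AlgebraicGeometry
open Curves

namespace Groth.Agent.S14519

/-- Let k be an algebraically closed field and f : X → Y a birational morphism over k between smooth
curves (X, Y integral, separated, of finite type and smooth over k, of dimension one; f sends the
generic point of X to that of Y and the induced map of function fields K(Y) → K(X) is bijective).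
Then f is an open immersion. -/
theorem result (k : Type u) [Field k] [IsAlgClosed k]
    (X Y : Scheme.{u}) [X.Over (Spec (CommRingCat.of k))] [Y.Over (Spec (CommRingCat.of k))]
    [IsIntegral X] [IsSeparated (X ↘ (Spec (CommRingCat.of k)))] [LocallyOfFiniteType (X ↘ (Spec (CommRingCat.of k)))] [QuasiCompact (X ↘ (Spec (CommRingCat.of k)))] [Smooth (X ↘ (Spec (CommRingCat.of k)))] (hdimX : topologicalKrullDim X = 1)
    [IsIntegral Y] [IsSeparated (Y ↘ (Spec (CommRingCat.of k)))] [LocallyOfFiniteType (Y ↘ (Spec (CommRingCat.of k)))] [QuasiCompact (Y ↘ (Spec (CommRingCat.of k)))] [Smooth (Y ↘ (Spec (CommRingCat.of k)))] (hdimY : topologicalKrullDim Y = 1)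
    (f : X ⟶ Y) (hf : f ≫ (Y ↘ (Spec (CommRingCat.of k))) = (X ↘ (Spec (CommRingCat.of k))))
    (e : f (genericPoint X) = genericPoint Y)
    (hbir : Function.Bijective (Y.presheaf.stalkSpecializes (specializes_of_eq e) ≫ f.stalkMap (genericPoint X)).hom) :
    IsOpenImmersion f := by
  have hkN : Pi1.IsNormalScheme (Spec (CommRingCat.of k)) :=
    Groth.Agent.Lib.helper13.Normal.Spec_of_isNormalDomain (CommRingCat.of k)
      ⟨inferInstance, inferInstance⟩
  have hY : Pi1.IsNormalScheme Y :=
    Groth.Agent.Lib.helper13.Normal.of_smooth (Y ↘ (Spec (CommRingCat.of k))) hkN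
  haveI : IsSeparated (f ≫ (Y ↘ (Spec (CommRingCat.of k)))) := hf ▸ inferInstance
  haveI : LocallyOfFiniteType (f ≫ (Y ↘ (Spec (CommRingCat.of k)))) := hf ▸ inferInstance
  haveI : QuasiCompact (f ≫ (Y ↘ (Spec (CommRingCat.of k)))) := hf ▸ inferInstance
  haveI : IsSeparated f := IsSeparated.of_comp f (Y ↘ (Spec (CommRingCat.of k)))
  haveI : LocallyOfFiniteType f := locallyOfFiniteType_of_comp f (Y ↘ (Spec (CommRingCat.of k)))
  haveI : QuasiCompact f := QuasiCompact.of_comp f (Y ↘ (Spec (CommRingCat.of k)))
  haveI : IsLocallyNoetherian Y :=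
    LocallyOfFiniteType.isLocallyNoetherian (Y ↘ (Spec (CommRingCat.of k)))
  haveI : IsLocallyNoetherian X :=
    LocallyOfFiniteType.isLocallyNoetherian (X ↘ (Spec (CommRingCat.of k)))
  haveI : CompactSpace X :=
    QuasiCompact.compactSpace_of_compactSpace (X ↘ (Spec (CommRingCat.of k)))
  haveI : IsNoetherian X := {}
  haveI : JacobsonSpace Y :=
    LocallyOfFiniteType.jacobsonSpace (Y ↘ (Spec (CommRingCat.of k)))
  have hiso : IsIso (f.stalkMap (genericPoint X)) := by
    apply (ConcreteCategory.isIso_iff_bijective _).mpr
    have h1 : Function.Bijective (Y.presheaf.stalkSpecializes (specializes_of_eq e)).hom :=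
      ConcreteCategory.bijective_of_isIso
        (Y.presheaf.stalkCongr (Inseparable.of_eq e.symm)).hom
    rw [CommRingCat.hom_comp, RingHom.coe_comp] at hbir
    exact (Function.Bijective.of_comp_iff _ h1).mp hbir
  have hfin : ∀ c : Y, (f.base ⁻¹' {c}).Finite := by
    intro c
    by_cases hc : c = genericPoint Y
    · subst hc
      refine (Set.finite_singleton (genericPoint X)).subset ?_
      intro x' hx'
      by_contra hne
      have hcl := Groth.Agent.S7830.isClosed_singleton_of_ne_genericPoint hdimX x' hne
      have h2 : f x' ∈ closedPoints Y :=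
        f.closePoints_subset_preimage_closedPoints (mem_closedPoints_iff.mpr hcl)
      rw [show f x' = genericPoint Y from hx'] at h2
      exact Groth.Agent.S7830.not_isClosed_singleton_genericPoint hdimY
        (mem_closedPoints_iff.mp h2)
    · have hcl := Groth.Agent.S7830.isClosed_singleton_of_ne_genericPoint hdimY c hc
      refine Groth.Agent.S7830.finite_of_isClosed_of_genericPoint_notMem hdimX _
        (hcl.preimage f.continuous) ?_
      intro hmem
      exact hc (hmem.symm.trans e)
  exact (Groth.Agent.S2415.result hY f e hiso hfin).1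

end Groth.Agent.S14519
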