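import Groth.Statements.S14521
import Groth.Agent.Lib.Helper7.SnapperRefined
import Groth.Agent.Lib.Helper7.SnapperSplit
open Groth.Agent.Lib.helper7.SnapperRefined Groth.Agent.Lib.helper7.SnapperMult Groth.Agent.Lib.helper7.SnapperMain Groth.Agent.Lib.helper7.SnapperDiff Groth.Agent.Lib.helper7.SnapperQuot Groth.Agent.Lib.helper7.SnapperSplit

set_option autoImplicit false
universe u
open CategoryTheory CategoryTheory.Limits AlgebraicGeometry
open Variety

namespace Groth.Agent.S14521

/-- Let k be an algebraically closed field, X a complete variety over k (reduced and proper over k) of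
dimension at most d, L_1, …, L_r line bundles with tensor inverses M_1, …, M_r, and F a coherent
O_X-module whose support has dimension at most r. Let Y_1, …, Y_s be the r-dimensional irreducible
components of Supp F, with generic points ξ_1, …, ξ_s (given as a finite set s of points: ξ ∈ s iff
ξ ∈ Supp F and the closure of ξ has dimension r), each Y_i with its reduced structure. Then
(L_1⋯L_r; F) = Σ_i length_{O_{X,ξ_i}}(F_{ξ_i}) · (L_1⋯L_r · Y_i), where all intersection numbers are
the alternating Euler-characteristic sums in the M_i (the prelude's FGA.intNum). -/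
theorem result (k : Type u) [Field k] [IsAlgClosed k]
    (X : Scheme.{u}) [X.Over (Spec (CommRingCat.of k))] [IsReduced X] [IsProper (X ↘ (Spec (CommRingCat.of k)))] (d : ℕ) (hd : topologicalKrullDim X ≤ d)
    {r : ℕ} (M : Fin r → X.Modules) (hM : ∀ i, PicF.IsInvertible (M i))
    (F : X.Modules) (hF : Coh.IsCoh F) (hsupp : topologicalKrullDim ↥(CohB1.support F) ≤ r)
    (s : Finset X) (hs : ∀ ξ : X, ξ ∈ s ↔ ξ ∈ CohB1.support F ∧ topologicalKrullDim ↥(closure ({ξ} : Set X)) = r) :
    FGA.intNum k X d M F =
      ∑ ξ ∈ s, ((Module.length (X.presheaf.stalk ξ) (F.presheaf.stalk ξ)).toNat : ℤ) *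
        FGA.intNum k X d M (ClSub.quotMod (Scheme.IdealSheafData.vanishingIdeal ⟨closure ({ξ} : Set X), isClosed_closure⟩)) := by
  classical
  haveI := Groth.Agent.Lib.Lead.CurveEuler.isNoetherian k X
  have hsupp' : topologicalKrullDim (CohB1.support F) ≤ ((r : ℕ) : WithBot ℕ∞) := hsupp
  have hsn := snapper_refined k F hF r hsupp' r M hM
  have hcard : (Finset.univ : Finset (Fin r)).card = r := Finset.card_fin r
  have hsn' : DegLT (Finset.univ : Finset (Fin r)).card
      (fun n => chi k X F r M n - psi k X r F r M n) := by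
    rw [hcard]; exact hsn
  have h0 := sum_powerset_eq_zero (Finset.univ : Finset (Fin r)) _ hsn' 0
  rw [Finset.powerset_univ] at h0
  have hpsi : ∀ n, psi k X r F r M n =
      ∑ ξ ∈ s, (mult F ξ : ℤ) * chi k X (Gx ξ) r M n := by
    intro n
    unfold psi
    rw [finsum_eq_sum_of_support_subset (s := s)]
    · apply Finset.sum_congr rfl
      intro ξ hξ
      unfold psiTerm
      rw [if_pos ((hs ξ).mp hξ).2]
    · intro ξ hξ
      have := support_psiTerm_subset k r F r M n hξ
      exact Finset.mem_coe.mpr ((hs ξ).mpr this)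
  rw [intNum_eq k X d hd]
  have h1 : ∑ I : Finset (Fin r), (-1 : ℤ) ^ I.card * chi k X F r M (ind I) =
      ∑ I : Finset (Fin r), (-1 : ℤ) ^ I.card * psi k X r F r M (ind I) := by
    rw [← sub_eq_zero, ← Finset.sum_sub_distrib, ← h0]
    apply Finset.sum_congr rfl
    intro I _
    rw [zero_add]
    ring
  rw [h1]
  simp_rw [hpsi, Finset.mul_sum]
  rw [Finset.sum_comm]
  apply Finset.sum_congr rfl
  intro ξ _
  rw [intNum_eq k X d hd, Finset.mul_sum]
  apply Finset.sum_congr rfl
  intro I _
  unfold mult
  ring

end Groth.Agent.S14521
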