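import Groth.Statements.S14525
import Groth.Agent.Lib.Helper7.SurfHodgeA
import Groth.Agent.Lib.Helper7.SurfH2f

set_option autoImplicit false
universe u
open CategoryTheory CategoryTheory.Limits AlgebraicGeometry
open Surf

namespace Groth.Agent.S14525

/-- Let k be an algebraically closed field, X a smooth projective surface over k (integral, smooth over
k, of dimension two, with a closed immersion over k into some projective space), L an invertible
O_X-module with tensor inverse L' such that (L·L) > 0, and M an ample invertible module with tensor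
inverse M'; intersection numbers are the alternating Euler-characteristic sums in the inverses (the
prelude's FGA.intNum, so (L·L) is computed in L', L' and (L·M) in L', M'). Then (L·M) ≠ 0; if (L·M)
> 0 there is c > 0 with dim_k H^0(X, L^{⊗m}) > c·m² for all large m, and if (L·M) < 0 the same holds
for L' in place of L. -/
theorem result (k : Type u) [Field k] [IsAlgClosed k]
    (X : Scheme.{u}) [X.Over (Spec (CommRingCat.of k))] [IsIntegral X] [Smooth (X ↘ (Spec (CommRingCat.of k)))] (hdim : topologicalKrullDim X = 2)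
    (hprojX : ∃ (N : ℕ) (ι : X ⟶ CohB1.ProjSpace N k), IsClosedImmersion ι ∧ ι ≫ CohB1.ProjSpace.toSpec N k = (X ↘ (Spec (CommRingCat.of k))))
    (L L' : X.Modules) (hL : PicF.IsInvertible L) (hLL' : ClSub.IsInverseOf L L')
    (hpos : 0 < FGA.intNum k X 2 ![L', L'] (Coh.structureModule X))
    (M M' : X.Modules) (hM : CohB1.IsAmple M) (hMM' : ClSub.IsInverseOf M M') :
    FGA.intNum k X 2 ![L', M'] (Coh.structureModule X) ≠ 0 ∧
    (0 < FGA.intNum k X 2 ![L', M'] (Coh.structureModule X) →
      ∃ c : ℚ, 0 < c ∧ ∃ m₀ : ℕ, ∀ m : ℕ, m₀ ≤ m →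
        c * (m : ℚ) ^ 2 < (Module.finrank k (Coh.HH X (CohB1.tensorPow L m) 0) : ℚ)) ∧
    (FGA.intNum k X 2 ![L', M'] (Coh.structureModule X) < 0 →
      ∃ c : ℚ, 0 < c ∧ ∃ m₀ : ℕ, ∀ m : ℕ, m₀ ≤ m →
        c * (m : ℚ) ^ 2 < (Module.finrank k (Coh.HH X (CohB1.tensorPow L' m) 0) : ℚ)) := by
  obtain ⟨n, ι, hιc, hι⟩ := hprojX
  haveI : IsProper (X ↘ Spec (CommRingCat.of k)) := by
    rw [← hι]
    haveI := Groth.Agent.Lib.helper19.ProjSpaceProper.proper_toSpec n k
    infer_instance
  haveI := Groth.Agent.Lib.Lead.CurveEuler.isNoetherian k X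
  have hd : topologicalKrullDim X ≤ ((2 : ℕ) : WithBot ℕ∞) := by rw [hdim]; rfl
  obtain ⟨εL⟩ := hLL'
  obtain ⟨εM⟩ := hMM'
  have hL' : PicF.IsInvertible L' :=
    Groth.Agent.Lib.helper11.AmpleAffine.isInvertible_of_isInverseOf hL ⟨εL⟩
  have hM' : PicF.IsInvertible M' :=
    Groth.Agent.Lib.helper11.AmpleAffine.isInvertible_of_isInverseOf hM.1 ⟨εM⟩
  have εL' : CohB1.tensorMod L' L ≅ Coh.structureModule X :=
    Groth.Agent.Lib.Lead.ModTensor.braid L' L ≪≫ εL
  have h1 : FGA.intNum k X 2 ![L', L'] (Coh.structureModule X) =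
      FGA.intNum k X 2 ![L, L] (Coh.structureModule X) :=
    Groth.Agent.Lib.helper7.SurfHodge.P_inv_inv k X hd hL hL' εL hL hL' εL
  have h2 : FGA.intNum k X 2 ![L', M'] (Coh.structureModule X) =
      FGA.intNum k X 2 ![L, M] (Coh.structureModule X) :=
    Groth.Agent.Lib.helper7.SurfHodge.P_inv_inv k X hd hL hL' εL hM.1 hM' εM
  have h3 : FGA.intNum k X 2 ![L', M] (Coh.structureModule X) =
      - FGA.intNum k X 2 ![L, M] (Coh.structureModule X) :=
    Groth.Agent.Lib.helper7.SurfHodge.P_inv_left k X hd hM.1 hL hL' εL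
  refine ⟨?_, ?_, ?_⟩
  · intro h0
    rw [h2] at h0
    have := Groth.Agent.Lib.helper7.SurfHodge.hodge_orth k X hdim hM hL h0
    unfold Groth.Agent.Lib.helper7.SurfHodge.P at this
    rw [h1] at hpos
    linarith
  · intro hp
    rw [h2] at hp
    exact Groth.Agent.Lib.helper7.SurfH2.exists_growth_sections k X hdim hM hL εL hp hpos
  · intro hn
    rw [h2] at hn
    have hp : 0 < FGA.intNum k X 2 ![L', M] (Coh.structureModule X) := by rw [h3]; linarith
    have hpos' : 0 < FGA.intNum k X 2 ![L, L] (Coh.structureModule X) := by rw [← h1]; exact hpos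
    exact Groth.Agent.Lib.helper7.SurfH2.exists_growth_sections k X hdim hM hL' εL' hp hpos'

end Groth.Agent.S14525
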