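import Groth.Statements.S14536
import Mathlib
import Groth.Agent.Lib.Helper15.HopfPtsSch
import Groth.Agent.Lib.Helper15.HopfSubPoly

set_option autoImplicit false
universe u
open CategoryTheory MonoidalCategory CartesianMonoidalCategory MonObj GrpObj AlgebraicGeometry
open PrincBund

namespace Groth.Agent.S14536

/-- Let k be an algebraically closed field and h : G → G' a homomorphism of affine group schemes over k
(not necessarily of finite type) which is surjective on underlying spaces. Then h is surjective on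
k-points: every k-point of G' is the image of a k-point of G. -/
theorem result (k : Type u) [Field k] [IsAlgClosed k]
    (G G' : Over (Spec (CommRingCat.of k))) [GrpObj G] [GrpObj G'] [IsAffine G.left] [IsAffine G'.left]
    (h : G ⟶ G') [IsMonHom h] (hs : Surjective h.left) (x : 𝟙_ (Over (Spec (CommRingCat.of k))) ⟶ G') :
    ∃ g : 𝟙_ (Over (Spec (CommRingCat.of k))) ⟶ G, g ≫ h = x := by
  obtain ⟨A, _, _, e, he1, he2⟩ :=
    Groth.Agent.Lib.helper15.HopfDict.exists_hopf_of_affine' k G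
  obtain ⟨A', _, _, e', he1', he2'⟩ :=
    Groth.Agent.Lib.helper15.HopfDict.exists_hopf_of_affine' k G'
  let h' : Groth.Agent.Lib.helper15.HopfDict.GA k A ⟶ Groth.Agent.Lib.helper15.HopfDict.GA k A' :=
    e.inv ≫ h ≫ e'.hom
  have hmon : IsMonHom h' := inferInstance
  obtain ⟨ψ, hψ⟩ := Groth.Agent.Lib.helper15.HopfDict.exists_bialgHom_of_isMonHom h'
  obtain ⟨ξ, hξ⟩ := Groth.Agent.Lib.helper15.HopfPtsSch.exists_ptOf (x ≫ e'.hom)
  have hs' : Surjective h'.left := by
    have i1 : IsIso e.inv.left := inferInstanceAs (IsIso ((Over.forget _).map e.inv))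
    have i2 : IsIso e'.hom.left := inferInstanceAs (IsIso ((Over.forget _).map e'.hom))
    change Surjective (e.inv.left ≫ h.left ≫ e'.hom.left)
    infer_instance
  have hsurj : Function.Surjective
      (Spec.map (CommRingCat.ofHom (ψ : A' →ₐ[k] A).toRingHom)).base := by
    have h1 : h'.left = Spec.map (CommRingCat.ofHom (ψ : A' →ₐ[k] A).toRingHom) := by
      rw [hψ]
      rfl
    rw [← h1]
    exact hs'.surj
  have hker : RingHom.ker ((ψ : A' →ₐ[k] A) : A' →+* A) ≤ RingHom.ker (ξ : A' →+* k) := by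
    intro a ha
    let p : PrimeSpectrum A' := ⟨RingHom.ker (ξ : A' →+* k), RingHom.ker_isPrime _⟩
    obtain ⟨q0, hq⟩ := hsurj p
    let q : PrimeSpectrum A := q0
    have hq' : PrimeSpectrum.comap (ψ : A' →ₐ[k] A).toRingHom q = p := hq
    have hmem : a ∈ (PrimeSpectrum.comap (ψ : A' →ₐ[k] A).toRingHom q).asIdeal := by
      rw [PrimeSpectrum.comap_asIdeal, Ideal.mem_comap]
      have h0 : (ψ : A' →ₐ[k] A).toRingHom a = 0 := ha
      rw [h0]
      exact q.asIdeal.zero_mem
    rw [hq'] at hmem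
    exact hmem
  have hB : Groth.Agent.Lib.helper15.HopfSubalg.IsHopfSub (ψ : A' →ₐ[k] A).range :=
    Groth.Agent.Lib.helper15.HopfSubPoly.isHopfSub_range ψ
  let ψr : A' →ₐ[k] (ψ : A' →ₐ[k] A).range := (ψ : A' →ₐ[k] A).rangeRestrict
  have hψr : Function.Surjective ψr := (ψ : A' →ₐ[k] A).rangeRestrict_surjective
  have hker' : ∀ a : A', a ∈ RingHom.ker ψr → ξ a = 0 := by
    intro a ha
    apply hker
    rw [RingHom.mem_ker] at ha ⊢
    exact congrArg Subtype.val ha
  let ξbar : (ψ : A' →ₐ[k] A).range →ₐ[k] k :=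
    (Ideal.Quotient.liftₐ (RingHom.ker ψr) ξ hker').comp
      ((Ideal.quotientKerAlgEquivOfSurjective hψr).symm :
        (ψ : A' →ₐ[k] A).range →ₐ[k] A' ⧸ RingHom.ker ψr)
  have hξbar : ∀ a : A', ξbar (ψr a) = ξ a := by
    intro a
    have h1 : (Ideal.quotientKerAlgEquivOfSurjective hψr).symm (ψr a) =
        Ideal.Quotient.mk _ a := by
      rw [AlgEquiv.symm_apply_eq]
      rfl
    change Ideal.Quotient.liftₐ _ ξ hker' ((Ideal.quotientKerAlgEquivOfSurjective hψr).symm (ψr a)) = _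
    rw [h1]
    rfl
  obtain ⟨g₀, hg₀⟩ := Groth.Agent.Lib.helper15.HopfPts.exists_extend hB ξbar
  have hcomp : g₀.comp (ψ : A' →ₐ[k] A) = ξ := by
    ext a
    rw [AlgHom.comp_apply, ← hξbar a, ← hg₀ (ψr a)]
    rfl
  have hpt : Groth.Agent.Lib.helper15.HopfPtsSch.ptOf g₀ ≫
      Groth.Agent.Lib.helper15.HopfDict.specMap (ψ : A' →ₐ[k] A) =
      Groth.Agent.Lib.helper15.HopfPtsSch.ptOf ξ := by
    rw [← hcomp]
    apply Over.OverMorphism.ext
    change Spec.map (CommRingCat.ofHom g₀.toRingHom) ≫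
      Spec.map (CommRingCat.ofHom (ψ : A' →ₐ[k] A).toRingHom) =
      Spec.map (CommRingCat.ofHom (g₀.comp (ψ : A' →ₐ[k] A)).toRingHom)
    rw [← Spec.map_comp]
    rfl
  refine ⟨Groth.Agent.Lib.helper15.HopfPtsSch.ptOf g₀ ≫ e.inv, ?_⟩
  have hx : x = Groth.Agent.Lib.helper15.HopfPtsSch.ptOf ξ ≫ e'.inv := by
    rw [← hξ, Category.assoc, e'.hom_inv_id, Category.comp_id]
  have hh : e.inv ≫ h = h' ≫ e'.inv := by
    change _ = (e.inv ≫ h ≫ e'.hom) ≫ e'.inv
    simp
  rw [Category.assoc, hh, hψ, ← Category.assoc, hpt, hx]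

end Groth.Agent.S14536
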