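import Groth.Statements.S14537
import Mathlib
import Groth.Agent.Lib.Helper15.HopfPtsSch

set_option autoImplicit false
universe u
open CategoryTheory MonoidalCategory CartesianMonoidalCategory MonObj GrpObj AlgebraicGeometry
open PrincBund

namespace Groth.Agent.S14537

/-- Let k be an algebraically closed field and G an affine group scheme over k, not necessarily of
finite type. Then the set of k-rational points of G is dense in the underlying space of G. -/
theorem result (k : Type u) [Field k] [IsAlgClosed k]
    (G : Over (Spec (CommRingCat.of k))) [GrpObj G] [IsAffine G.left] :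
    Dense {x : ↥G.left | ∃ g : 𝟙_ (Over (Spec (CommRingCat.of k))) ⟶ G, g.left.base (IsLocalRing.closedPoint k) = x} := by
  obtain ⟨A, _, _, e, he1, he2⟩ :=
    Groth.Agent.Lib.helper15.HopfDict.exists_hopf_of_affine' k G
  rw [dense_iff_inter_open]
  intro U hU hne
  let f : Spec (CommRingCat.of A) ⟶ G.left := e.inv.left
  have hU' : IsOpen (f.base ⁻¹' U) := hU.preimage f.continuous
  obtain ⟨x, hx⟩ := hne
  have hfx : f.base (e.hom.left.base x) = x := by
    have h1 : e.hom.left ≫ e.inv.left = 𝟙 _ := by
      rw [← Over.comp_left, e.hom_inv_id]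
      rfl
    have := congrArg (fun t : G.left ⟶ G.left => t.base x) h1
    exact this
  have hy : e.hom.left.base x ∈ f.base ⁻¹' U := by
    change f.base (e.hom.left.base x) ∈ U
    rw [hfx]
    exact hx
  obtain ⟨_, ⟨a, rfl⟩, hya, hsub⟩ :=
    PrimeSpectrum.isTopologicalBasis_basic_opens.exists_subset_of_mem_open hy hU'
  have hanil : ¬ IsNilpotent a := by
    intro hn
    have hmem : a ∈ (e.hom.left.base x : PrimeSpectrum A).asIdeal := by
      obtain ⟨n, hn⟩ := hn
      exact (e.hom.left.base x : PrimeSpectrum A).isPrime.mem_of_pow_mem n (by rw [hn]; exact Ideal.zero_mem _)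
    exact hya hmem
  obtain ⟨φ, hφ⟩ :=
    Groth.Agent.Lib.helper15.HopfPtsSch.exists_point_ne_zero_of_not_isNilpotent (K := k) a hanil
  let g : 𝟙_ (Over (Spec (CommRingCat.of k))) ⟶ G :=
    Groth.Agent.Lib.helper15.HopfPtsSch.ptOf φ ≫ e.inv
  refine ⟨g.left.base (IsLocalRing.closedPoint k), ?_, g, rfl⟩
  have hg : g.left.base (IsLocalRing.closedPoint k) =
      f.base ((Groth.Agent.Lib.helper15.HopfPtsSch.ptOf φ).left.base (IsLocalRing.closedPoint k)) := by
    rfl
  rw [hg]
  apply hsub
  change a ∉ (PrimeSpectrum.comap φ.toRingHom (IsLocalRing.closedPoint k)).asIdeal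
  rw [PrimeSpectrum.comap_asIdeal, Ideal.mem_comap]
  intro hmem
  apply hφ
  have : (IsLocalRing.closedPoint k).asIdeal = ⊥ := by
    change IsLocalRing.maximalIdeal k = ⊥
    exact IsLocalRing.maximalIdeal_eq_bot
  rw [this] at hmem
  exact hmem

end Groth.Agent.S14537
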