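import Groth.Statements.S14539
import Mathlib
import Groth.Agent.Lib.Helper15.HopfPts

set_option autoImplicit false
universe u v w
open TensorProduct
open PrincBund

namespace Groth.Agent.S14539


/-- `id ⊗ g : X ⊗ A → X`. -/
noncomputable def sl {k : Type u} {A : Type v} [Field k] [CommRing A] [Algebra k A]
    (X : Type w) [AddCommGroup X] [Module k X] (g : A →ₗ[k] k) : X ⊗[k] A →ₗ[k] X :=
  (TensorProduct.rid k X).toLinearMap ∘ₗ g.lTensor X

theorem sl_tmul {k : Type u} {A : Type v} [Field k] [CommRing A] [Algebra k A]
    (X : Type w) [AddCommGroup X] [Module k X] (g : A →ₗ[k] k) (x : X) (a : A) :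
    sl X g (x ⊗ₜ[k] a) = g a • x := by
  simp [sl]

theorem sl_rTensor {k : Type u} {A : Type v} [Field k] [CommRing A] [Algebra k A]
    {X Y : Type w} [AddCommGroup X] [Module k X] [AddCommGroup Y] [Module k Y]
    (f : X →ₗ[k] Y) (g : A →ₗ[k] k) (t : X ⊗[k] A) :
    sl Y g (f.rTensor A t) = f (sl X g t) := by
  induction t using TensorProduct.induction_on with
  | zero => simp
  | add a b ha hb => simp only [map_add, ha, hb]
  | tmul x a => simp [sl_tmul]

theorem repr_sl {k : Type u} {A : Type v} [Field k] [CommRing A] [Algebra k A]
    {X : Type w} [AddCommGroup X] [Module k X] {ι : Type*} [DecidableEq ι] (b : Module.Basis ι k X)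
    (g : A →ₐ[k] k) (t : X ⊗[k] A) (i : ι) :
    g (TensorProduct.equivFinsuppOfBasisLeft b t i) = b.repr (sl X g.toLinearMap t) i := by
  induction t using TensorProduct.induction_on with
  | zero => simp
  | add x y hx hy => simp only [map_add, Finsupp.add_apply, hx, hy]
  | tmul x a =>
    rw [TensorProduct.equivFinsuppOfBasisLeft_apply_tmul_apply, sl_tmul]
    simp [mul_comm]

/-- Let k be an algebraically closed field of characteristic 0, A a commutative Hopf algebra over k (the
coordinate ring of an affine group scheme G over k, not necessarily of finite type) and V a right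
A-comodule, of any dimension. If a k-subspace W of V is mapped into itself by the action of every
k-rational point of G (every k-algebra homomorphism A → k, acting on V through the coaction), then W
is a subcomodule of V. -/
theorem result (k : Type u) (A : Type v) [Field k] [IsAlgClosed k]
    [CharZero k] [CommRing A] [HopfAlgebra k A]
    (V : Type w) [AddCommGroup V] [Module k V] [HopfRep.Comod k A V] (W : Submodule k V)
    (hW : ∀ g : A →ₐ[k] k, W.map (HopfRep.Comod.act k A V g) ≤ W) :
    HopfRep.IsSubcomod (k := k) (A := A) W := by
  classical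
  intro w hw
  have hex : Function.Exact (W.subtype.rTensor A) (W.mkQ.rTensor A) :=
    rTensor_exact A (LinearMap.exact_subtype_mkQ W) (Submodule.mkQ_surjective W)
  refine (hex _).mp ?_
  set t := (W.mkQ.rTensor A) (HopfRep.Comod.coact (k := k) (A := A) w) with ht
  let b := Module.Free.chooseBasis k (V ⧸ W)
  have h0 : TensorProduct.equivFinsuppOfBasisLeft b t = 0 := by
    ext i
    rw [Finsupp.zero_apply]
    apply Groth.Agent.Lib.helper15.HopfPts.eq_zero_of_forall_point (k := k)
    intro g
    rw [repr_sl b g t i, ht, sl_rTensor]
    have hmem : sl V g.toLinearMap (HopfRep.Comod.coact (k := k) (A := A) w) ∈ W :=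
      hW g (Submodule.mem_map_of_mem hw)
    rw [(Submodule.mkQ_apply _ _).trans ((Submodule.Quotient.mk_eq_zero W).mpr hmem)]
    simp
  exact (LinearEquiv.map_eq_zero_iff _).mp h0

end Groth.Agent.S14539
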