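import Groth.Statements.S14540
import Groth.Agent.Lib.Helper4.TorsorPush

set_option autoImplicit false
universe u
open CategoryTheory MonoidalCategory CartesianMonoidalCategory MonObj GrpObj AlgebraicGeometry
open PrincBund

namespace Groth.Agent.S14540

/-- Let X be a scheme, J and J' group schemes affine over X, with no flatness or finiteness condition, u
: J → J' a homomorphism and P a J-torsor for the fpqc topology. Then the push forward of P along u
exists: there is a J'-torsor P' for the fpqc topology together with an X-morphism P → P' compatible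
with u. -/
theorem result {X : Scheme.{u}}
    {J J' : Over X} [GrpObj J] [GrpObj J'] [IsAffineHom J.hom] [IsAffineHom J'.hom]
    (u : J ⟶ J') [IsMonHom u] (P : NonAbH1.TorsorSch J Scheme.fpqcPrecoverage) :
    ∃ P' : NonAbH1.TorsorSch J' Scheme.fpqcPrecoverage,
      NonAbH1.IsPushforwardAlongSch u P.act P'.act := by
  have hps : IsIso (lift P.act.act (snd J P.X)) := P.isTorsor.1
  obtain ⟨R, hR, hsec⟩ := P.isTorsor.2
  obtain ⟨𝒰, rfl⟩ := R.exists_eq_preZeroHypercover
  have hsm : Precoverage.Small.{u} Scheme.fpqcPrecoverage.{u} := by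
    unfold Scheme.fpqcPrecoverage; infer_instance
  let E : Precoverage.ZeroHypercover.{u + 1} Scheme.fpqcPrecoverage.{u} X := ⟨𝒰, hR⟩
  have hE' : (Precoverage.ZeroHypercover.restrictIndexOfSmall.{u} E).presieve₀ ∈ Scheme.fpqcPrecoverage X :=
    (Precoverage.ZeroHypercover.restrictIndexOfSmall.{u} E).mem₀
  choose s hs using fun i : (Precoverage.ZeroHypercover.restrictIndexOfSmall.{u} E).I₀ =>
    hsec ((Precoverage.ZeroHypercover.restrictIndexOfSmall.{u} E).f i)
      (Presieve.ofArrows.mk (Precoverage.ZeroHypercover.Small.restrictFun E i))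
  obtain ⟨Y, a', hY, hpush⟩ := Groth.Agent.Lib.Helper4.TorsorPush.exists_pushforward u P.act
    (Precoverage.ZeroHypercover.restrictIndexOfSmall.{u} E).f s hs hE'
  exact ⟨⟨Y, a', hY⟩, hpush⟩

end Groth.Agent.S14540
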