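import Groth.Statements.S14576
import Groth.Agent.Lib.Helper4.QAffGrp4

set_option autoImplicit false
universe u
open CategoryTheory MonoidalCategory CartesianMonoidalCategory MonObj GrpObj AlgebraicGeometry CategoryTheory.Limits
open AlgGrp

namespace Groth.Agent.S14576

/-- Let k be a field and G a k-group scheme of finite type acting on an affine k-scheme X. If the action
is faithful, in the sense that for every k-scheme T a T-valued point of G acting as the identity on
X_T is the unit, then G is affine. -/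
theorem result (k : Type u) [Field k]
    (G X : Over (Spec (CommRingCat.of k))) [GrpObj G] [LocallyOfFiniteType G.hom] [QuasiCompact G.hom] [IsAffine X.left]
    (a : AlgGrp.Action G X)
    (hf : ∀ (T : Over (Spec (CommRingCat.of k))) (g : T ⟶ G),
      (∀ (T' : Over (Spec (CommRingCat.of k))) (t : T' ⟶ T) (x : T' ⟶ X), lift (t ≫ g) x ≫ a.act = x) → g = 1) :
    IsAffine G.left := by
  haveI := Groth.Agent.Lib.helper4.QAffGrp.compactSpace_of_quasiCompact G
  haveI := Groth.Agent.Lib.helper4.QAffGrp.quasiSeparatedSpace_of_lft G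
  obtain ⟨a', ha'⟩ := Groth.Agent.Lib.helper4.QAffGrp.exists_fac_act G X X a.act
  apply Groth.Agent.Lib.helper4.QAffGrp.isAffine_of_ker_jA_trivial G
  intro T g hg
  apply hf
  intro T' t x
  have h1 : ∀ (g' : T' ⟶ G), lift g' x ≫ a.act = lift (g' ≫ Groth.Agent.Lib.helper4.QAffGrp.jA G) x ≫ a' := by
    intro g'
    rw [← ha', ← Category.assoc]
    congr 1
    ext <;> simp
  have h2 : (t ≫ g) ≫ Groth.Agent.Lib.helper4.QAffGrp.jA G =
      (toUnit T' ≫ η[G]) ≫ Groth.Agent.Lib.helper4.QAffGrp.jA G := by
    rw [Category.assoc, hg, MonObj.comp_one, ← Hom.one_def, MonObj.one_comp]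
  rw [h1, h2, ← h1]
  have h3 : lift (toUnit T' ≫ η[G]) x = (λ_ T').inv ≫ (𝟙_ _ ◁ x) ≫ (η[G] ▷ X) := by
    ext <;> simp
  rw [h3, Category.assoc, Category.assoc, a.one_act]
  simp

end Groth.Agent.S14576
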