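import Groth.Statements.S14577
import Groth.Agent.Lib.Helper14.RigidDense
import Groth.Agent.Lib.Helper14.AntiAffInf

set_option autoImplicit false
universe u
open CategoryTheory MonoidalCategory CartesianMonoidalCategory MonObj GrpObj AlgebraicGeometry CategoryTheory.Limits
open AlgGrp

namespace Groth.Agent.S14577

/-- Let k be a field, X a quasi-compact separated k-scheme with O(X) = k, Y a separated, reduced and
irreducible locally Noetherian k-scheme, Z a separated k-scheme, and x₀, y₀ rational points of X, Y.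
If a k-morphism f : X × Y → Z satisfies f(x, y₀) = f(x₀, y₀) identically (as morphisms from X), then
f(x, y) = f(x₀, y) identically on X × Y. (The published statement does not ask Y to be reduced; the
final density step of its proof uses that the infinitesimal neighbourhoods of y₀ are schematically
dense in Y, which holds when Y is moreover reduced, so Y is taken reduced, hence integral, here.) -/
theorem result (k : Type u) [Field k]
    (X Y Z : Over (Spec (CommRingCat.of k))) [QuasiCompact X.hom] [IsSeparated X.hom]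
    (hX : Function.Bijective ((Scheme.ΓSpecIso (CommRingCat.of k)).inv ≫ X.hom.appTop).hom)
    [IsSeparated Y.hom] [IsLocallyNoetherian Y.left] [IrreducibleSpace ↥Y.left] [IsReduced Y.left] [IsSeparated Z.hom]
    (x₀ : 𝟙_ (Over (Spec (CommRingCat.of k))) ⟶ X) (y₀ : 𝟙_ (Over (Spec (CommRingCat.of k))) ⟶ Y) (f : X ⊗ Y ⟶ Z)
    (hf : (X ◁ y₀) ≫ f = toUnit _ ≫ lift x₀ y₀ ≫ f) :
    f = snd X Y ≫ lift (toUnit Y ≫ x₀) (𝟙 Y) ≫ f := by
  classical
  haveI : IsIso X.hom.appTop := Groth.Agent.Lib.Helper14.Kunneth.isIso_appTop_of_bijective X hX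
  haveI : CompactSpace X.left :=
    (HasAffineProperty.iff_of_isAffine (P := @QuasiCompact) (f := X.hom)).mp inferInstance
  haveI : QuasiSeparatedSpace X.left :=
    (HasAffineProperty.iff_of_isAffine (P := @QuasiSeparated) (f := X.hom)).mp inferInstance
  haveI : IsIntegral Y.left := isIntegral_of_irreducibleSpace_of_isReduced Y.left
  set g : X ⊗ Y ⟶ Z := snd X Y ≫ lift (toUnit Y ≫ x₀) (𝟙 Y) ≫ f with hg
  -- the point
  let y₀' : Spec (CommRingCat.of k) ⟶ Y.left := y₀.left
  let y : Y.left := y₀' (IsLocalRing.closedPoint k)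
  let ρ : Y.left.presheaf.stalk y ⟶ CommRingCat.of k := Scheme.stalkClosedPointTo y₀'
  have hρ : Spec.map ρ ≫ Y.left.fromSpecStalk y = y₀' := Scheme.Spec_stalkClosedPointTo_fromSpecStalk y₀'
  have hρloc : IsLocalHom ρ.hom := Scheme.isLocalHom_stalkClosedPointTo' y₀'
  have hρm : ∀ a ∈ IsLocalRing.maximalIdeal (Y.left.presheaf.stalk y), ρ.hom a = 0 := by
    intro a ha
    by_contra hne
    have hu : IsUnit (ρ.hom a) := isUnit_iff_ne_zero.mpr hne
    exact ha (hρloc.map_nonunit a hu)
  suffices h : f.left = g.left by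
    ext
    exact h
  refine Groth.Agent.Lib.Helper14.RigidDense.eq_of_agree_infinitesimal
    (Groth.Agent.Lib.Helper14.Kunneth.isPullback_left X Y) Z.hom f.left g.left
    ((Over.w f).trans (Over.w g).symm) y ?_
  intro n W p q hpq
  rcases Nat.eq_zero_or_pos n with hn | hn
  · -- `n = 0`: the source is empty
    subst hn
    haveI : IsEmpty W := by
      have : IsEmpty (Spec (CommRingCat.of (Y.left.presheaf.stalk y ⧸
          (IsLocalRing.maximalIdeal (Y.left.presheaf.stalk y)) ^ 0))) := by
        rw [pow_zero, Ideal.one_eq_top]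
        show IsEmpty (PrimeSpectrum _)
        infer_instance
      exact Function.isEmpty q
    exact (isInitialOfIsEmpty (X := W)).hom_ext _ _
  · -- `n ≥ 1`
    let mI := (IsLocalRing.maximalIdeal (Y.left.presheaf.stalk y)) ^ n
    let T : Over (Spec (CommRingCat.of k)) := Over.mk
      (Spec.map (CommRingCat.ofHom (Ideal.Quotient.mk mI)) ≫ Y.left.fromSpecStalk y ≫ Y.hom)
    let t : T ⟶ Y := Over.homMk
      (Spec.map (CommRingCat.ofHom (Ideal.Quotient.mk mI)) ≫ Y.left.fromSpecStalk y) (by simp [T])
    have hρn : ∀ a ∈ mI, ρ.hom a = 0 := fun a ha => hρm a (Ideal.pow_le_self hn.ne' ha)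
    let ρn : (Y.left.presheaf.stalk y ⧸ mI) →+* k := Ideal.Quotient.lift mI ρ.hom hρn
    have hρn' : CommRingCat.ofHom (Ideal.Quotient.mk mI) ≫ CommRingCat.ofHom ρn = ρ := by
      ext a
      simp [ρn]
    have hτw : Spec.map (CommRingCat.ofHom ρn) ≫ T.hom =
        (𝟙_ (Over (Spec (CommRingCat.of k)))).hom := by
      simp only [T, Over.mk_hom]
      rw [← Category.assoc, ← Spec.map_comp, hρn', ← Category.assoc, hρ]
      exact Over.w y₀
    let τ : 𝟙_ (Over (Spec (CommRingCat.of k))) ⟶ T :=
      Over.homMk (Spec.map (CommRingCat.ofHom ρn)) hτw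
    have hτt : τ ≫ t = y₀ := by
      ext
      simp only [Over.comp_left, τ, t, Over.homMk_left]
      rw [← Category.assoc, ← Spec.map_comp, hρn', hρ]
    haveI : IsAffine T.left := by
      show IsAffine (Spec _)
      infer_instance
    haveI : Subsingleton T.left := by
      show Subsingleton (PrimeSpectrum (Y.left.presheaf.stalk y ⧸ mI))
      constructor
      intro P Q
      have key : ∀ P : PrimeSpectrum (Y.left.presheaf.stalk y ⧸ mI),
          P.asIdeal.comap (Ideal.Quotient.mk mI) =
            IsLocalRing.maximalIdeal (Y.left.presheaf.stalk y) := by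
        intro P
        have h1 : mI ≤ P.asIdeal.comap (Ideal.Quotient.mk mI) := by
          intro a ha
          rw [Ideal.mem_comap, Ideal.Quotient.eq_zero_iff_mem.mpr ha]
          exact Ideal.zero_mem _
        have h2 : IsLocalRing.maximalIdeal (Y.left.presheaf.stalk y) ≤
            P.asIdeal.comap (Ideal.Quotient.mk mI) :=
          Ideal.IsPrime.le_of_pow_le h1
        exact ((IsLocalRing.maximalIdeal.isMaximal _).eq_of_le
          (Ideal.IsPrime.ne_top inferInstance) h2).symm
      apply PrimeSpectrum.ext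
      apply Ideal.comap_injective_of_surjective (Ideal.Quotient.mk mI) Ideal.Quotient.mk_surjective
      rw [key P, key Q]
    have hf' : (X ◁ (τ ≫ t)) ≫ f = toUnit _ ≫ (lift x₀ y₀ ≫ f) := by
      rw [hτt]; exact hf
    have hA := Groth.Agent.Lib.Helper14.AntiAffInf.whisker_comp_eq X Y Z T x₀ τ t f
      (lift x₀ y₀ ≫ f) hf'
    have hB : (X ◁ t) ≫ g = snd X T ≫ lift (toUnit T ≫ x₀) (𝟙 T) ≫ (X ◁ t) ≫ f := by
      have e1 : lift (toUnit T ≫ x₀) (𝟙 T) ≫ (X ◁ t) = t ≫ lift (toUnit Y ≫ x₀) (𝟙 Y) := by
        apply CartesianMonoidalCategory.hom_ext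
        · simp only [Category.assoc, whiskerLeft_fst, lift_fst]
          rw [← Category.assoc]
          congr 1
        · simp only [Category.assoc, whiskerLeft_snd, lift_snd, lift_snd_assoc, Category.id_comp,
            Category.comp_id]
      rw [hg, ← Category.assoc, whiskerLeft_snd, Category.assoc, ← Category.assoc (lift _ _),
        e1, Category.assoc]
    have hAB : ((X ◁ t) ≫ f).left = ((X ◁ t) ≫ g).left := by rw [hA, hB]
    have hpq' : p ≫ X.hom = q ≫ T.hom := by
      rw [hpq]; simp [T]
    let ℓ : W ⟶ (X ⊗ T).left := (Groth.Agent.Lib.Helper14.Kunneth.isPullback_left X T).lift p q hpq'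
    have hℓ : (Groth.Agent.Lib.Helper14.Kunneth.isPullback_left X Y).lift p
        (q ≫ Spec.map (CommRingCat.ofHom (Ideal.Quotient.mk _)) ≫ Y.left.fromSpecStalk y) hpq =
        ℓ ≫ (X ◁ t).left := by
      have hℓ1 : ℓ ≫ (fst X T).left = p := IsPullback.lift_fst _ _ _ _
      have hℓ2 : ℓ ≫ (snd X T).left = q := IsPullback.lift_snd _ _ _ _
      apply (Groth.Agent.Lib.Helper14.Kunneth.isPullback_left X Y).hom_ext
      · rw [IsPullback.lift_fst, Category.assoc, ← Over.comp_left, whiskerLeft_fst, hℓ1]
      · rw [IsPullback.lift_snd, Category.assoc, ← Over.comp_left, whiskerLeft_snd, Over.comp_left,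
          ← Category.assoc ℓ (snd X T).left t.left, hℓ2]
        simp [t, mI]
    rw [hℓ, Category.assoc, Category.assoc, ← Over.comp_left, ← Over.comp_left, hAB]

end Groth.Agent.S14577
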