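import Groth.Statements.S1458
import Mathlib

set_option autoImplicit false
universe u
open FlatMor

namespace Groth.Agent.S1458


open TensorProduct

lemma R1 {A : Type u} [CommRing A] {n : ℕ} (A' : Type u) [CommRing A'] [Algebra A A']
    (z : (Fin n → A) ⊗[A] A') :
    ∃ a : Fin n → A', z = ∑ l, (fun j => if l = j then (1 : A) else 0) ⊗ₜ[A] a l := by
  induction z using TensorProduct.induction_on with
  | zero => exact ⟨0, by simp⟩
  | tmul x a' =>
    refine ⟨fun l => x l • a', ?_⟩
    conv_lhs => rw [pi_eq_sum_univ x]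
    rw [TensorProduct.sum_tmul]
    apply Finset.sum_congr rfl
    intro l _
    rw [TensorProduct.smul_tmul]
  | add z₁ z₂ h₁ h₂ =>
    obtain ⟨a₁, rfl⟩ := h₁
    obtain ⟨a₂, rfl⟩ := h₂
    refine ⟨a₁ + a₂, ?_⟩
    rw [← Finset.sum_add_distrib]
    apply Finset.sum_congr rfl
    intro l _
    rw [Pi.add_apply, TensorProduct.tmul_add]

/-- coordinate extraction -/
noncomputable def coord {A : Type u} [CommRing A] {n : ℕ} (A' : Type u) [CommRing A'] [Algebra A A']
    (l : Fin n) : (Fin n → A) ⊗[A] A' →ₗ[A] A' :=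
  (TensorProduct.lid A A').toLinearMap ∘ₗ (LinearMap.rTensor A' (LinearMap.proj l))

lemma coord_tmul {A : Type u} [CommRing A] {n : ℕ} (A' : Type u) [CommRing A'] [Algebra A A']
    (l : Fin n) (x : Fin n → A) (a' : A') : coord A' l (x ⊗ₜ[A] a') = x l • a' := by
  unfold coord
  rw [LinearMap.comp_apply, LinearMap.rTensor_tmul, LinearMap.proj_apply]
  exact TensorProduct.lid_tmul _ _

lemma GF {A B : Type u} [CommRing A] [CommRing B] [Algebra A B] {n : ℕ} (b : Fin n → B)
    (c : Fin n → Fin n → Fin n → A)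
    (hc : ∀ i j, b i * b j = ∑ l, c i j l • b l) (A' : Type u) [CommRing A'] [Algebra A A']
    (a : Fin n → A') :
    (∑ i, b i ⊗ₜ[A] a i) * (∑ j, b j ⊗ₜ[A] a j) =
      ∑ l, b l ⊗ₜ[A] (∑ i, ∑ j, c i j l • (a i * a j)) := by
  rw [Finset.sum_mul_sum]
  simp only [Algebra.TensorProduct.tmul_mul_tmul, hc, TensorProduct.sum_tmul, TensorProduct.smul_tmul,
    TensorProduct.tmul_sum]
  conv_rhs => rw [Finset.sum_comm]
  apply Finset.sum_congr rfl
  intro i _
  rw [Finset.sum_comm]

lemma KT {A B : Type u} [CommRing A] [CommRing B] [Algebra A B] {n m : ℕ} (b : Fin n → B)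
    (kk : Fin m → Fin n → A) (hk : ∀ t, ∑ l, kk t l • b l = 0)
    (A' : Type u) [CommRing A'] [Algebra A A'] (y : Fin m → A') :
    ∑ l, b l ⊗ₜ[A] (∑ t, kk t l • y t) = 0 := by
  simp only [TensorProduct.tmul_sum]
  rw [Finset.sum_comm]
  apply Finset.sum_eq_zero
  intro t _
  have h : ∑ l, b l ⊗ₜ[A] (kk t l • y t) = (∑ l, kk t l • b l) ⊗ₜ[A] y t := by
    rw [TensorProduct.sum_tmul]
    apply Finset.sum_congr rfl
    intro l _
    exact (TensorProduct.smul_tmul _ _ _).symm
  rw [h, hk, TensorProduct.zero_tmul]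

/-- the defining relations of the versal algebra -/
noncomputable def rel {A : Type u} [CommRing A] {n m : ℕ} (c : Fin n → Fin n → Fin n → A)
    (kk : Fin m → Fin n → A) (l : Fin n) : MvPolynomial (Fin n ⊕ Fin m) A :=
  (∑ i, ∑ j, MvPolynomial.C (c i j l) * (MvPolynomial.X (Sum.inl i) * MvPolynomial.X (Sum.inl j))) -
    MvPolynomial.X (Sum.inl l) - ∑ t, MvPolynomial.C (kk t l) * MvPolynomial.X (Sum.inr t)

theorem main {A B : Type u} [CommRing A] [CommRing B] [Algebra A B] {n m : ℕ}
    (f : (Fin n → A) →ₗ[A] B) (g : (Fin m → A) →ₗ[A] (Fin n → A))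
    (hf : Function.Surjective f) (hex : Function.Exact g f) :
    ∃ (Au : Type u) (_ : CommRing Au) (_ : Algebra A Au) (eu : B ⊗[A] Au),
      Algebra.FinitePresentation A Au ∧ IsIdempotentElem eu ∧
      ∀ (A' : Type u) [CommRing A'] [Algebra A A'] (e : B ⊗[A] A'), IsIdempotentElem e →
        ∃ φ : Au →ₐ[A] A', Algebra.TensorProduct.map (AlgHom.id A B) φ eu = e := by
  classical
  obtain ⟨b, hbdef, hb⟩ : ∃ b : Fin n → B,
      (∀ l, b l = f (fun j => if l = j then (1 : A) else 0)) ∧ ∀ x : Fin n → A, f x = ∑ l, x l • b l :=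
    ⟨fun l => f (fun j => if l = j then 1 else 0), fun l => rfl,
      fun x => LinearMap.pi_apply_eq_sum_univ f x⟩
  choose c hc using fun i j => hf (b i * b j)
  obtain ⟨kk, hkk⟩ : ∃ kk : Fin m → (Fin n → A),
      ∀ t, kk t = g (fun j => if t = j then (1 : A) else 0) := ⟨_, fun t => rfl⟩
  have hfk : ∀ t, f (kk t) = 0 := fun t => by rw [hkk]; exact hex.apply_apply_eq_zero _
  have hc' : ∀ i j, b i * b j = ∑ l, c i j l • b l := fun i j => by rw [← hc i j, hb]
  have hk : ∀ t, ∑ l, kk t l • b l = 0 := fun t => by rw [← hb, hfk]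
  obtain ⟨I, hI⟩ : ∃ I : Ideal (MvPolynomial (Fin n ⊕ Fin m) A),
      I = Ideal.span (Set.range (rel (fun i j l => c i j l) kk)) := ⟨_, rfl⟩
  have hIfg : I.FG := by rw [hI]; exact Submodule.fg_span (Set.finite_range _)
  have hC : ∀ (r : A) (p : MvPolynomial (Fin n ⊕ Fin m) A),
      Ideal.Quotient.mk I (MvPolynomial.C r * p) = r • Ideal.Quotient.mk I p := by
    intro r p
    rw [map_mul]
    exact (Algebra.smul_def r (Ideal.Quotient.mk I p)).symm
  have hrel : ∀ l, ∑ i, ∑ j, c i j l • (Ideal.Quotient.mk I (MvPolynomial.X (Sum.inl i)) *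
        Ideal.Quotient.mk I (MvPolynomial.X (Sum.inl j))) =
      Ideal.Quotient.mk I (MvPolynomial.X (Sum.inl l)) +
        ∑ t, kk t l • Ideal.Quotient.mk I (MvPolynomial.X (Sum.inr t)) := by
    intro l
    have h0 : Ideal.Quotient.mk I (rel (fun i j l => c i j l) kk l) = 0 := by
      rw [Ideal.Quotient.eq_zero_iff_mem, hI]
      exact Ideal.subset_span ⟨l, rfl⟩
    unfold rel at h0
    rw [map_sub, map_sub, map_sum, map_sum] at h0
    simp only [map_sum, hC, map_mul] at h0
    rw [sub_sub] at h0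
    exact sub_eq_zero.mp h0
  refine ⟨MvPolynomial (Fin n ⊕ Fin m) A ⧸ I, inferInstance, inferInstance,
    ∑ l, b l ⊗ₜ[A] Ideal.Quotient.mk I (MvPolynomial.X (Sum.inl l)),
    Algebra.FinitePresentation.quotient hIfg, ?_, ?_⟩
  · show _ * _ = _
    rw [GF b (fun i j l => c i j l) hc' (MvPolynomial (Fin n ⊕ Fin m) A ⧸ I)]
    simp only [hrel, TensorProduct.tmul_add, Finset.sum_add_distrib]
    have hkt := KT b kk hk (MvPolynomial (Fin n ⊕ Fin m) A ⧸ I)
      (fun t => Ideal.Quotient.mk I (MvPolynomial.X (Sum.inr t)))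
    beta_reduce at hkt
    rw [hkt, add_zero]
  · intro A' _ _ e he
    -- write e in terms of the generators
    obtain ⟨z, hz⟩ := LinearMap.rTensor_surjective A' hf e
    obtain ⟨a, ha⟩ := R1 A' z
    have hea : e = ∑ l, b l ⊗ₜ[A] a l := by
      rw [← hz, ha, map_sum]
      apply Finset.sum_congr rfl
      intro l _
      rw [LinearMap.rTensor_tmul, hbdef]
    -- the relation vector
    obtain ⟨w, hw⟩ : ∃ w : Fin n → A', ∀ l, w l = ∑ i, ∑ j, c i j l • (a i * a j) - a l :=
      ⟨_, fun l => rfl⟩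
    have hw0 : ∑ l, b l ⊗ₜ[A] w l = 0 := by
      have h1 : e * e = e := he
      rw [hea, GF b (fun i j l => c i j l) hc' A' a] at h1
      simp only [hw, TensorProduct.tmul_sub, Finset.sum_sub_distrib]
      rw [h1, sub_self]
    have hz0 : (LinearMap.rTensor A' f) (∑ l, (fun j => if l = j then (1 : A) else 0) ⊗ₜ[A] w l) = 0 := by
      rw [map_sum, ← hw0]
      apply Finset.sum_congr rfl
      intro l _
      rw [LinearMap.rTensor_tmul, hbdef]
    have hex' := rTensor_exact A' hex hf
    obtain ⟨z', hz'⟩ := (hex' _).mp hz0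
    obtain ⟨y, hy⟩ := R1 A' z'
    have hwy : ∀ l, w l = ∑ t, kk t l • y t := by
      intro l
      have h2 := congrArg (coord A' l) hz'
      rw [hy, map_sum, map_sum, map_sum] at h2
      simp only [LinearMap.rTensor_tmul, coord_tmul, ← hkk] at h2
      rw [h2]
      rw [Finset.sum_eq_single l]
      · rw [if_pos rfl, one_smul]
      · intro l' _ hne; rw [if_neg hne, zero_smul]
      · intro h; exact absurd (Finset.mem_univ l) h
    -- the classifying map
    have hlift : ∀ p ∈ I, (MvPolynomial.aeval (Sum.elim a y) : MvPolynomial (Fin n ⊕ Fin m) A →ₐ[A] A') p = 0 := by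
      intro p hp
      have hle : I ≤ RingHom.ker (MvPolynomial.aeval (Sum.elim a y) : MvPolynomial (Fin n ⊕ Fin m) A →ₐ[A] A') := by
        rw [hI, Ideal.span_le]
        rintro _ ⟨l, rfl⟩
        show (MvPolynomial.aeval (Sum.elim a y)) (rel (fun i j l => c i j l) kk l) = 0
        unfold rel
        rw [map_sub, map_sub, map_sum, map_sum]
        simp only [map_sum, map_mul, MvPolynomial.aeval_C, MvPolynomial.aeval_X, Sum.elim_inl, Sum.elim_inr,
          ← Algebra.smul_def]
        have h3 := hwy l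
        rw [hw] at h3
        rw [sub_sub]
        rw [sub_eq_iff_eq_add] at h3
        rw [h3]
        ring
      exact hle hp
    refine ⟨Ideal.Quotient.liftₐ I (MvPolynomial.aeval (Sum.elim a y)) hlift, ?_⟩
    rw [map_sum, hea]
    apply Finset.sum_congr rfl
    intro l _
    rw [Algebra.TensorProduct.map_tmul, AlgHom.id_apply]
    congr 1
    show (Ideal.Quotient.liftₐ I (MvPolynomial.aeval (Sum.elim a y)) hlift)
      (Ideal.Quotient.mk I (MvPolynomial.X (Sum.inl l))) = a l
    rw [Ideal.Quotient.liftₐ_apply, Ideal.Quotient.lift_mk]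
    show (MvPolynomial.aeval (Sum.elim a y)) (MvPolynomial.X (Sum.inl l)) = a l
    rw [MvPolynomial.aeval_X, Sum.elim_inl]



open TensorProduct in
/-- Let A → B be a finite ring map of finite presentation. Then there are a finitely presented A-algebra
A_u and an idempotent e_u of B ⊗_A A_u such that for every A-algebra A' and every idempotent e of B
⊗_A A' there is an A-algebra map A_u → A' whose induced map B ⊗ A_u → B ⊗ A' sends e_u to e. -/
theorem result {A B : Type u} [CommRing A] [CommRing B] [Algebra A B] [Module.Finite A B] [Algebra.FinitePresentation A B] :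
    ∃ (Au : Type u) (_ : CommRing Au) (_ : Algebra A Au) (eu : B ⊗[A] Au), Algebra.FinitePresentation A Au ∧ IsIdempotentElem eu ∧
      ∀ (A' : Type u) [CommRing A'] [Algebra A A'] (e : B ⊗[A] A'), IsIdempotentElem e →
        ∃ φ : Au →ₐ[A] A', Algebra.TensorProduct.map (AlgHom.id A B) φ eu = e := by
  haveI : Module.FinitePresentation A B := Module.FinitePresentation.of_finite_of_finitePresentation A B
  obtain ⟨n, m, f, g, hf, hex⟩ := Module.FinitePresentation.exists_fin' A B
  exact main f g hf hex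


end Groth.Agent.S1458
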