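import Groth.Statements.S14580
import Groth.Agent.Lib.Helper14.IntegralClopen
import Groth.Agent.Lib.Helper14.Pi0Spectral

set_option autoImplicit false
universe u
open CategoryTheory MonoidalCategory CartesianMonoidalCategory MonObj GrpObj AlgebraicGeometry CategoryTheory.Limits
open AlgGrp

namespace Groth.Agent.S14580

/-- Let k be a field, G a proper k-group scheme of finite type and N ⊆ G the kernel of the affinization
morphism G → Spec O(G), i.e. the fibre over the image of the unit section (the largest anti-affine
subgroup scheme of G). Then the image of N in G is the connected component of the identity: as N is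
smooth, N is the reduced neutral component G⁰_red, which is therefore a smooth connected algebraic
group. -/
theorem result (k : Type u) [Field k]
    (G : Over (Spec (CommRingCat.of k))) [GrpObj G] [IsProper G.hom] (t : ↥((𝟙_ (Over (Spec (CommRingCat.of k)))).left)) :
    Set.range ⇑(pullback.fst G.left.toSpecΓ (η[G].left ≫ G.left.toSpecΓ)).base = connectedComponent ((η[G]).left.base t) := by
  classical
  set τ := G.left.toSpecΓ with hτ
  set e := (η[G]).left.base t with he
  haveI : CompactSpace G.left := (quasiCompact_iff_compactSpace G.hom).mp inferInstance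
  haveI : QuasiSeparatedSpace G.left :=
    (quasiSeparated_iff_quasiSeparatedSpace G.hom).mp inferInstance
  -- the range of the first projection is the fibre over `τ e`
  have hrange : Set.range ⇑(pullback.fst τ (η[G].left ≫ τ)).base = {x | τ.base x = τ.base e} := by
    rw [Scheme.Pullback.range_fst]
    ext x
    simp only [Set.mem_preimage, Set.mem_range, Set.mem_setOf_eq]
    constructor
    · rintro ⟨s, hs⟩
      have hst : s = t := by
        haveI : Subsingleton ↥(𝟙_ (Over (Spec (CommRingCat.of k)))).left :=
          inferInstanceAs (Subsingleton (PrimeSpectrum k))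
        exact Subsingleton.elim _ _
      rw [← hs, hst]
      rfl
    · intro hx
      exact ⟨t, hx.symm⟩
  rw [hrange]
  -- integrality of global sections
  let F := (Scheme.ΓSpecIso (CommRingCat.of k)).inv ≫ G.hom.appTop
  have hint : F.hom.IsIntegral := by
    apply RingHom.isIntegral_respectsIso.2 (e := (Scheme.ΓSpecIso _).symm.commRingCatIsoToRingEquiv)
    exact isIntegral_appTop_of_universallyClosed G.hom
  ext x
  simp only [Set.mem_setOf_eq]
  constructor
  · -- points of the fibre lie in the component
    intro hx
    by_contra hcon
    obtain ⟨Z, hZ, heZ, hxZ⟩ :=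
      Groth.Agent.Lib.Helper14.Pi0Spectral.exists_isClopen_of_not_mem_connectedComponent hcon
    obtain ⟨ε, hε⟩ :=
      Groth.Agent.Lib.Helper14.IntegralClopen.exists_section_basicOpen_eq_of_isClopen G.left Z hZ
    have hpre : τ ⁻¹ᵁ (PrimeSpectrum.basicOpen ε) = G.left.basicOpen ε :=
      Scheme.toSpecΓ_preimage_basicOpen G.left ε
    have h1 : e ∈ τ ⁻¹ᵁ (PrimeSpectrum.basicOpen ε) := by
      rw [hpre]
      have h' : e ∈ (G.left.basicOpen ε : Set G.left) := by rw [hε]; exact heZ
      exact h'
    have h2 : x ∉ τ ⁻¹ᵁ (PrimeSpectrum.basicOpen ε) := by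
      rw [hpre]; intro h
      have h' : x ∈ (G.left.basicOpen ε : Set G.left) := h
      rw [hε] at h'
      exact hxZ h'
    apply h2
    show τ.base x ∈ PrimeSpectrum.basicOpen ε
    rw [hx]
    exact h1
  · -- the component maps to a point
    intro hx
    by_contra hne
    -- an element in exactly one of the two primes
    have hex : ∃ f : Γ(G.left, ⊤), ¬ (f ∈ (τ.base x).asIdeal ↔ f ∈ (τ.base e).asIdeal) := by
      by_contra hall
      push_neg at hall
      apply hne
      apply PrimeSpectrum.ext
      ext f
      exact hall f
    obtain ⟨f, hf⟩ := hex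
    have hmem : ∀ y : G.left, y ∈ τ.base ⁻¹' (PrimeSpectrum.zeroLocus {f}) ↔
        f ∈ (τ.base y).asIdeal := fun y =>
      (PrimeSpectrum.mem_zeroLocus (τ.base y) {f}).trans Set.singleton_subset_iff
    have hcl := Groth.Agent.Lib.Helper14.IntegralClopen.isClopen_zeroLocus_of_isIntegralElem
      F.hom f (hint f)
    have hcl' : IsClopen (τ.base ⁻¹' (PrimeSpectrum.zeroLocus {f})) :=
      hcl.preimage τ.continuous
    have hpc : _root_.IsPreconnected (connectedComponent e) := isPreconnected_connectedComponent
    apply hf
    constructor
    · intro h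
      have hsub := hpc.subset_isClopen hcl' ⟨x, hx, (hmem x).mpr h⟩
      exact (hmem e).mp (hsub mem_connectedComponent)
    · intro h
      have hsub := hpc.subset_isClopen hcl' ⟨e, mem_connectedComponent, (hmem e).mpr h⟩
      exact (hmem x).mp (hsub hx)

end Groth.Agent.S14580
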