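import Groth.Statements.S14588
import Groth.Agent.Lib.Helper7.GrpPerfect2

set_option autoImplicit false
universe u
open CategoryTheory MonoidalCategory CartesianMonoidalCategory MonObj GrpObj AlgebraicGeometry CategoryTheory.Limits
open AlgGrp

namespace Groth.Agent.S14588

/-- Let k be a field with algebraic closure K and G a k-group scheme locally of finite type. If the
local ring of G_K at its unit point is reduced, then G is smooth over k. -/
theorem result (k : Type u) [Field k]
    (G : Over (Spec (CommRingCat.of k))) [GrpObj G] [LocallyOfFiniteType G.hom]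
    (t : ↥((𝟙_ (Over (Spec (CommRingCat.of (AlgebraicClosure k))))).left))
    (h : _root_.IsReduced ↑((Red.bc (Spec.map (CommRingCat.ofHom (algebraMap k (AlgebraicClosure k)))) G).left.presheaf.stalk ((η[Red.bc (Spec.map (CommRingCat.ofHom (algebraMap k (AlgebraicClosure k)))) G]).left.base t))) :
    Smooth G.hom := by
  set g := Spec.map (CommRingCat.ofHom (algebraMap k (AlgebraicClosure k))) with hg
  have hG' : Smooth (Red.bc g G).hom := by
    have : LocallyOfFiniteType (Red.bc g G).hom :=
      inferInstanceAs (LocallyOfFiniteType (pullback.snd G.hom g))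
    let : GrpObj (Over.mk (Red.bc g G).hom) := Red.grpObj_bc g G
    apply Groth.Agent.Lib.helper7.GrpPerfect.smooth_of_nonempty_smoothLocus
    have := h
    exact Groth.Agent.Lib.helper7.GrpPerfect.nonempty_smoothLocus_of_isReduced_stalk
      (Red.bc g G).hom ((η[Red.bc g G]).left.base t)
  exact MorphismProperty.of_pullback_snd_of_descendsAlong
    (Q := @Surjective ⊓ @Flat ⊓ @QuasiCompact) (f := G.hom) (g := g)
    ⟨⟨inferInstance, inferInstance⟩, inferInstance⟩ hG'

end Groth.Agent.S14588
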