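import Groth.Statements.S1459
import Groth.Agent.Lib.Helper5.CMSliceSch5

set_option autoImplicit false
universe u
open FlatMor

namespace Groth.Agent.S1459

open AlgebraicGeometry CategoryTheory Limits in
/-- Let f : X → S be locally of finite presentation and flat at x with image s, and let h_1, …, h_r be
elements of O_{X,x} whose images in O_{X,x} / m_s O_{X,x} form a regular sequence. Then there are an
affine open U ∋ x and sections on U with these germs such that the closed subscheme Z of U they cut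
out is a regular closed immersion whose image contains x, Z → S is flat and locally of finite
presentation, and the base change of Z → U along any S' → S is again a regular closed immersion. -/
theorem result {X S : Scheme.{u}} (f : X ⟶ S) [LocallyOfFinitePresentation f] (x : X)
    (hflat : (f.stalkMap x).hom.Flat) (hs : List ↑(X.presheaf.stalk x))
    (hreg : RingTheory.Sequence.IsRegular (↑(X.presheaf.stalk x) ⧸ Ideal.map (f.stalkMap x).hom (IsLocalRing.maximalIdeal ↑(S.presheaf.stalk (f x))))
      (hs.map (Ideal.Quotient.mk (Ideal.map (f.stalkMap x).hom (IsLocalRing.maximalIdeal ↑(S.presheaf.stalk (f x))))))) :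
    ∃ (U : X.Opens) (hU : IsAffineOpen U) (hx : x ∈ U) (hs' : List Γ(X, U)), hs'.map (X.presheaf.germ U x hx) = hs ∧
      Mor2.IsRegularClosedImmersion (Spec.map (CommRingCat.ofHom (Ideal.Quotient.mk (Ideal.ofList hs'))) ≫ hU.isoSpec.inv) ∧
      x ∈ Set.range ⇑(Spec.map (CommRingCat.ofHom (Ideal.Quotient.mk (Ideal.ofList hs'))) ≫ hU.fromSpec) ∧
      Flat (Spec.map (CommRingCat.ofHom (Ideal.Quotient.mk (Ideal.ofList hs'))) ≫ hU.fromSpec ≫ f) ∧ LocallyOfFinitePresentation (Spec.map (CommRingCat.ofHom (Ideal.Quotient.mk (Ideal.ofList hs'))) ≫ hU.fromSpec ≫ f) ∧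
      ∀ (S' : Scheme.{u}) (g : S' ⟶ S), Mor2.IsRegularClosedImmersion
        (pullback.map (Spec.map (CommRingCat.ofHom (Ideal.Quotient.mk (Ideal.ofList hs'))) ≫ hU.isoSpec.inv ≫ U.ι ≫ f) g (U.ι ≫ f) g (Spec.map (CommRingCat.ofHom (Ideal.Quotient.mk (Ideal.ofList hs'))) ≫ hU.isoSpec.inv) (𝟙 S') (𝟙 S)
          (Category.comp_id _) ((Category.comp_id g).trans (Category.id_comp g).symm)) := by
  classical
  obtain ⟨V, hV, W, hW, e, hxV, ys, hys, H⟩ :=
    Groth.Agent.Lib.helper5.CMSliceSch.exists_affine_regFlat f x hflat hs hreg.toIsWeaklyRegular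
  letI algAC : Algebra Γ(S, W) Γ(X, V) := (f.appLE W V e).hom.toAlgebra
  haveI hfp : Algebra.FinitePresentation Γ(S, W) Γ(X, V) :=
    HasRingHomProperty.appLE (P := @LocallyOfFinitePresentation) f inferInstance ⟨W, hW⟩ ⟨V, hV⟩ e
  set I := Ideal.map (f.stalkMap x).hom (IsLocalRing.maximalIdeal ↑(S.presheaf.stalk (f x)))
    with hI
  -- the germs are non-units
  have hnonunit : ∀ h ∈ hs, h ∈ IsLocalRing.maximalIdeal ↑(X.presheaf.stalk x) := by
    intro h hh
    by_contra hcon
    have hu : IsUnit h := IsLocalRing.notMem_maximalIdeal.mp hcon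
    have hu' : IsUnit (Ideal.Quotient.mk I h) := hu.map _
    have hmem : Ideal.Quotient.mk I h ∈ Ideal.ofList (hs.map (Ideal.Quotient.mk I)) :=
      Ideal.subset_span (List.mem_map_of_mem hh)
    have htop : Ideal.ofList (hs.map (Ideal.Quotient.mk I)) = ⊤ :=
      Ideal.eq_top_of_isUnit_mem _ hmem hu'
    apply hreg.top_ne_smul
    rw [htop, smul_eq_mul, Ideal.mul_top]
  set σ := Spec.map (CommRingCat.ofHom (Ideal.Quotient.mk (Ideal.ofList ys))) with hσ
  have hcomp : σ ≫ hV.fromSpec ≫ f =
      Spec.map (CommRingCat.ofHom (algebraMap Γ(S, W) (Γ(X, V) ⧸ Ideal.ofList ys))) ≫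
        hW.fromSpec := by
    rw [← IsAffineOpen.SpecMap_appLE_fromSpec f hW hV e, ← Category.assoc]
    congr 1
    rw [hσ, ← Spec.map_comp]
    rfl
  refine ⟨V, hV, hxV, ys, hys, ?_, ?_, ?_, ?_, ?_⟩
  · exact Groth.Agent.S1661.result σ hV.isoSpec.inv
      (Groth.Agent.Lib.helper5.CMSliceSch.isRegularClosedImmersion_SpecMap_mk ys H.1)
      (Groth.Agent.Lib.helper5.CMSliceSch.isRegularClosedImmersion_of_isIso _)
  · -- x is in the image
    set Q := hV.primeIdealOf ⟨x, hxV⟩ with hQ
    have hle : Ideal.ofList ys ≤ Q.asIdeal := by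
      rw [Ideal.ofList, Ideal.span_le]
      intro y hy
      by_contra hcon
      have h1 : x ∈ X.basicOpen y :=
        (Groth.Agent.Lib.helper5.CMSliceSch.mem_basicOpen_iff_notMem_primeIdealOf hV x hxV y).mpr
          hcon
      rw [Scheme.mem_basicOpen _ _ x hxV] at h1
      have h2 : X.presheaf.germ V x hxV y ∈ hs := by
        rw [← hys]
        exact List.mem_map_of_mem hy
      exact (IsLocalRing.mem_maximalIdeal _).mp (hnonunit _ h2) h1
    have hker : RingHom.ker (Ideal.Quotient.mk (Ideal.ofList ys)) ≤ Q.asIdeal := by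
      rw [Ideal.mk_ker]
      exact hle
    haveI hprime : (Q.asIdeal.map (Ideal.Quotient.mk (Ideal.ofList ys))).IsPrime :=
      Ideal.map_isPrime_of_surjective Ideal.Quotient.mk_surjective hker
    let z : Spec (CommRingCat.of (Γ(X, V) ⧸ Ideal.ofList ys)) :=
      ⟨Q.asIdeal.map (Ideal.Quotient.mk (Ideal.ofList ys)), hprime⟩
    have hσz : σ z = Q := by
      apply PrimeSpectrum.ext
      change (Q.asIdeal.map (Ideal.Quotient.mk (Ideal.ofList ys))).comap
        (Ideal.Quotient.mk (Ideal.ofList ys)) = Q.asIdeal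
      rw [Ideal.comap_map_of_surjective _ Ideal.Quotient.mk_surjective, sup_eq_left]
      exact hker
    refine ⟨z, ?_⟩
    change hV.fromSpec (σ z) = x
    rw [hσz, hQ, hV.fromSpec_primeIdealOf ⟨x, hxV⟩]
  · rw [hcomp]
    haveI : Module.Flat Γ(S, W) (Γ(X, V) ⧸ Ideal.ofList ys) := H.flat_quotient
    haveI : Flat (Spec.map (CommRingCat.ofHom
        (algebraMap Γ(S, W) (Γ(X, V) ⧸ Ideal.ofList ys)))) := by
      rw [HasRingHomProperty.Spec_iff (P := @Flat)]
      exact RingHom.flat_algebraMap_iff.mpr inferInstance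
    infer_instance
  · rw [hcomp]
    haveI : Algebra.FinitePresentation Γ(S, W) (Γ(X, V) ⧸ Ideal.ofList ys) :=
      Algebra.FinitePresentation.quotient ⟨ys.toFinset, by
        rw [List.coe_toFinset]⟩
    haveI : LocallyOfFinitePresentation (Spec.map (CommRingCat.ofHom
        (algebraMap Γ(S, W) (Γ(X, V) ⧸ Ideal.ofList ys)))) := by
      rw [HasRingHomProperty.Spec_iff (P := @LocallyOfFinitePresentation)]
      exact RingHom.finitePresentation_algebraMap.mpr inferInstance
    infer_instance
  · intro S' g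
    exact Groth.Agent.Lib.helper5.CMSliceSch.isRegularClosedImmersion_pullback_map f g hV hW e ys H
      _ _

end Groth.Agent.S1459
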