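import Groth.Statements.S14606
import Mathlib
import Groth.Agent.Lib.Helper3.GeomRed2

set_option autoImplicit false
universe u
open FrobAlg

namespace Groth.Agent.S14606


open Groth.Agent.Lib.helper3
open scoped TensorProduct

/-- elements of `K ⊗ k[R^q]` are `q`-th powers in `K ⊗ R` (for `K` algebraically closed, `q = p^n`) -/
theorem exists_pow_eq {k : Type u} [Field k] (p : ℕ) [Fact p.Prime] [CharP k p]
    (R : Type u) [CommRing R] [Algebra k R] (K : Type u) [Field K] [Algebra k K] [IsAlgClosed K]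
    [CharP (K ⊗[k] R) p] (n : ℕ)
    (y : K ⊗[k] ↥(Algebra.adjoin k (Set.range (fun x : R => x ^ (p ^ n))))) :
    ∃ z : K ⊗[k] R, Algebra.TensorProduct.map (AlgHom.id K K)
      (Algebra.adjoin k (Set.range (fun x : R => x ^ (p ^ n)))).val y = z ^ (p ^ n) := by
  have hq : 0 < p ^ n := pow_pos (Fact.out : p.Prime).pos n
  induction y using TensorProduct.induction_on with
  | zero => exact ⟨0, by rw [map_zero, zero_pow hq.ne']⟩
  | add y₁ y₂ h₁ h₂ =>
    obtain ⟨z₁, hz₁⟩ := h₁
    obtain ⟨z₂, hz₂⟩ := h₂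
    exact ⟨z₁ + z₂, by rw [map_add, hz₁, hz₂, add_pow_char_pow]⟩
  | tmul c b =>
    obtain ⟨b, hb⟩ := b
    rw [Algebra.TensorProduct.map_tmul]
    simp only [AlgHom.id_apply, Subalgebra.coe_val]
    induction hb using Algebra.adjoin_induction generalizing c with
    | mem x hx =>
      obtain ⟨r, rfl⟩ := hx
      obtain ⟨μ, hμ⟩ := IsAlgClosed.exists_pow_nat_eq c hq
      exact ⟨μ ⊗ₜ r, by rw [Algebra.TensorProduct.tmul_pow, hμ]⟩
    | algebraMap r =>
      obtain ⟨μ, hμ⟩ := IsAlgClosed.exists_pow_nat_eq (r • c) hq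
      refine ⟨μ ⊗ₜ 1, ?_⟩
      rw [Algebra.TensorProduct.tmul_pow, hμ, one_pow, Algebra.algebraMap_eq_smul_one,
        TensorProduct.smul_tmul]
    | add x y _ _ hx hy =>
      obtain ⟨z₁, hz₁⟩ := hx c
      obtain ⟨z₂, hz₂⟩ := hy c
      exact ⟨z₁ + z₂, by rw [TensorProduct.tmul_add, hz₁, hz₂, add_pow_char_pow]⟩
    | mul x y _ _ hx hy =>
      obtain ⟨z₁, hz₁⟩ := hx c
      obtain ⟨z₂, hz₂⟩ := hy 1
      refine ⟨z₁ * z₂, ?_⟩
      rw [mul_pow, ← hz₁, ← hz₂, Algebra.TensorProduct.tmul_mul_tmul, mul_one]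

/-- Let k be a field of characteristic p > 0 and R a finitely generated commutative k-algebra. The
scheme-theoretic image of the n-th relative Frobenius morphism of Spec R is the spectrum of the
k-subalgebra k[R^(p^n)] generated by all p^n-th powers; for n large enough this image is
geometrically reduced: there is an n such that k[R^(p^n)] is a geometrically reduced k-algebra.
(Stated in affine, ring-theoretic form.) -/
theorem result (k : Type u) [Field k] (p : ℕ) [Fact p.Prime] [CharP k p]
    (R : Type u) [CommRing R] [Algebra k R] [Algebra.FiniteType k R] :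
    ∃ n : ℕ, Algebra.IsGeometricallyReduced k ↥(Algebra.adjoin k (Set.range (fun x : R => x ^ (p ^ n)))) := by
  classical
  let K := AlgebraicClosure k
  have : IsNoetherianRing (K ⊗[k] R) := Algebra.FiniteType.isNoetherianRing K (K ⊗[k] R)
  obtain ⟨m, hm⟩ := IsNoetherianRing.isNilpotent_nilradical (K ⊗[k] R)
  refine ⟨m, ?_⟩
  have hpm : m ≤ p ^ m := (Nat.lt_pow_self (Fact.out : p.Prime).one_lt).le
  apply GeomRed.isGeometricallyReduced_of_perfect_ext K
  set B := Algebra.adjoin k (Set.range (fun x : R => x ^ (p ^ m))) with hB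
  rcases subsingleton_or_nontrivial (K ⊗[k] ↥B) with h | h
  · exact ⟨fun x _ => Subsingleton.elim _ _⟩
  let ι : K ⊗[k] ↥B →ₐ[K] K ⊗[k] R := Algebra.TensorProduct.map (AlgHom.id K K) B.val
  have hι : Function.Injective ι :=
    Module.Flat.lTensor_preserves_injective_linearMap (M := K) B.val.toLinearMap
      Subtype.val_injective
  have : Nontrivial (K ⊗[k] R) := hι.nontrivial
  have : CharP (K ⊗[k] R) p :=
    charP_of_injective_algebraMap (algebraMap k (K ⊗[k] R)).injective p
  refine ⟨fun y hy => ?_⟩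
  obtain ⟨z, hz⟩ := exists_pow_eq p R K m y
  have h1 : IsNilpotent (ι y) := hy.map ι
  have h2 : IsNilpotent z := by
    rw [show ι y = z ^ (p ^ m) from hz] at h1
    exact h1.of_pow
  have h3 : z ^ m = 0 := by
    have : z ^ m ∈ (nilradical (K ⊗[k] R)) ^ m := Ideal.pow_mem_pow (mem_nilradical.mpr h2) m
    rw [hm] at this
    exact this
  have h4 : ι y = 0 := by
    rw [show ι y = z ^ (p ^ m) from hz]
    exact pow_eq_zero_of_le hpm h3
  exact hι (by rw [h4, map_zero])

end Groth.Agent.S14606
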