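import Groth.Statements.S14615
-- import your own Groth.Agent.* helpers here

set_option autoImplicit false
universe u
open Formal2

namespace Groth.Agent.S14615


theorem exists_partial (G : ℕ → Type u) [∀ n, AddCommGroup (G n)] (t : ∀ n, G (n + 1) →+ G n)
    (y : ∀ n, G n) (N : ℕ) :
    ∀ k, ∃ x : ∀ n, G n, (∀ n, N ≤ n → x n = 0) ∧
      (∀ n, N - k ≤ n → n < N → x n = y n + t n (x (n + 1))) := by
  classical
  intro k
  induction k with
  | zero => exact ⟨0, fun _ _ => rfl, fun n h1 h2 => by omega⟩
  | succ k ih =>
    obtain ⟨x, hx0, hx⟩ := ih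
    by_cases hk : k + 1 ≤ N
    · obtain ⟨m, hm⟩ : ∃ m, m = N - (k + 1) := ⟨_, rfl⟩
      refine ⟨Function.update x m (y m + t m (x (m + 1))), ?_, ?_⟩
      · intro n hn
        rw [Function.update_of_ne (by omega)]
        exact hx0 n hn
      · intro n h1 h2
        by_cases hnm : n = m
        · subst hnm
          rw [Function.update_self, Function.update_of_ne (by omega)]
        · rw [Function.update_of_ne hnm, Function.update_of_ne (by omega)]
          exact hx n (by omega) h2
    · exact ⟨x, hx0, fun n h1 h2 => hx n (by omega) h2⟩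

/-- Let … → G_2 → G_1 → G_0 be an inverse system of abelian groups with transition maps t_n : G_{n+1} →
G_n, and suppose that for every i there is j ≥ i such that the composite transition map G_j → G_i is
zero; this is expressed by asking that every sequence (x_n) ∈ ∏ G_n satisfying x_n = t_n(x_{n+1})
for i ≤ n < j has x_i = 0. Then both lim G_n and lim¹ G_n vanish: the map (x_n) ↦ (x_n −
t_n(x_{n+1})) on ∏ G_n, whose kernel is lim and whose cokernel is lim¹, is injective and surjective. -/
theorem result (G : ℕ → Type u)
    [∀ n, AddCommGroup (G n)] (t : ∀ n, G (n + 1) →+ G n)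
    (h : ∀ i : ℕ, ∃ j : ℕ, i ≤ j ∧
      ∀ x : ∀ n, G n, (∀ n, i ≤ n → n < j → x n = t n (x (n + 1))) → x i = 0) :
    Formal2.limZero G t = ⊥ ∧ Function.Surjective (Formal2.towerDiff G t) := by
  constructor
  · rw [eq_bot_iff]
    intro x hx
    have hx' : ∀ n, x n = t n (x (n + 1)) := by
      intro n
      have := congrFun hx n
      exact sub_eq_zero.mp this
    rw [AddSubgroup.mem_bot]
    funext i
    obtain ⟨j, -, hj⟩ := h i
    exact hj x fun n _ _ => hx' n
  · intro y
    choose J hJle hJ using h
    have hX : ∀ N, ∃ x : ∀ n, G n, (∀ n, N ≤ n → x n = 0) ∧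
        (∀ n, n < N → x n = y n + t n (x (n + 1))) := by
      intro N
      obtain ⟨x, h0, h1⟩ := exists_partial G t y N N
      exact ⟨x, h0, fun n hn => h1 n (by omega) hn⟩
    choose X hX0 hXr using hX
    have hstep : ∀ n N, J n ≤ N → X (N + 1) n = X N n := by
      intro n N hN
      have := hJ n (fun m => X (N + 1) m - X N m) (fun m h1 h2 => by
        rw [hXr (N + 1) m (by omega), hXr N m (by omega), map_sub]
        abel)
      exact sub_eq_zero.mp this
    have hstab : ∀ n N, J n ≤ N → X N n = X (J n) n := by
      intro n N hN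
      induction N, hN using Nat.le_induction with
      | base => rfl
      | succ N hN ih => rw [hstep n N hN, ih]
    refine ⟨fun n => X (J n) n, ?_⟩
    funext n
    show X (J n) n - t n (X (J (n + 1)) (n + 1)) = y n
    have h1 := hstab n (max (J n) (J (n + 1)) + 1) (by omega)
    have h2 := hstab (n + 1) (max (J n) (J (n + 1)) + 1) (by omega)
    have h3 := hXr (max (J n) (J (n + 1)) + 1) n (by have := hJle n; omega)
    rw [← h1, ← h2, h3]
    abel

end Groth.Agent.S14615
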