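import Groth.Statements.S14616
import Mathlib

set_option autoImplicit false
universe u
open Formal2

namespace Groth.Agent.S14616

open CategoryTheory


section
variable (G : ℕ → Type u) [∀ n, AddCommGroup (G n)] (t : ∀ n, G (n + 1) →+ G n)
  (tr : ∀ i j : ℕ, i ≤ j → (G j →+ G i))
  (tr_self : ∀ i (x : G i), tr i i le_rfl x = x)
  (tr_succ : ∀ i j (h : i + 1 ≤ j) (x : G j), t i (tr (i + 1) j h x) = tr i j (by omega) x)
  (tr_comp : ∀ i j k (h1 : i ≤ j) (h2 : j ≤ k) (x : G k), tr i j h1 (tr j k h2 x) = tr i k (h1.trans h2) x)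
  (J : ℕ → ℕ) (hJ : ∀ i, i ≤ J i)
  (hML : ∀ i k (h : i ≤ k), (tr i (J i) (hJ i)).range ≤ (tr i k h).range)

/-- the eventual image -/
def E (i : ℕ) : AddSubgroup (G i) := (tr i (J i) (hJ i)).range

include tr_comp hML in
theorem range_eq_E (i k : ℕ) (hk : J i ≤ k) :
    (tr i k ((hJ i).trans hk)).range = E G tr J hJ i := by
  apply le_antisymm
  · rintro _ ⟨x, rfl⟩
    exact ⟨tr (J i) k hk x, tr_comp i (J i) k (hJ i) hk x⟩
  · exact hML i k _

include tr_succ tr_comp hML in
theorem t_mem_E (i : ℕ) (x : G (i + 1)) (hx : x ∈ E G tr J hJ (i + 1)) : t i x ∈ E G tr J hJ i := by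
  have hk1 : i + 1 ≤ max (J i) (J (i + 1)) := le_trans (hJ (i + 1)) (le_max_right _ _)
  have := hML (i + 1) (max (J i) (J (i + 1))) hk1 hx
  obtain ⟨z, rfl⟩ := this
  rw [tr_succ]
  rw [← range_eq_E G tr tr_comp J hJ hML i (max (J i) (J (i + 1))) (le_max_left _ _)]
  exact ⟨z, rfl⟩

include tr_succ hML in
theorem t_surj_E (i : ℕ) (y : G i) (hy : y ∈ E G tr J hJ i) :
    ∃ x ∈ E G tr J hJ (i + 1), t i x = y := by
  have hk : i ≤ J (i + 1) := by have := hJ (i + 1); omega
  obtain ⟨z, rfl⟩ := hML i (J (i + 1)) hk hy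
  refine ⟨tr (i + 1) (J (i + 1)) (hJ (i + 1)) z, ⟨z, rfl⟩, ?_⟩
  rw [tr_succ]

include tr_succ tr_comp hML in
/-- Step 2: solve on the eventual images. -/
theorem step2 (r : ∀ n, G n) (hr : ∀ n, r n ∈ E G tr J hJ n) :
    ∃ x : ∀ n, G n, towerDiff G t x = r := by
  classical
  have hsurj := t_surj_E G t tr tr_succ J hJ hML
  let next : ∀ n, {x : G n // x ∈ E G tr J hJ n} → {x : G (n + 1) // x ∈ E G tr J hJ (n + 1)} :=
    fun n x => ⟨(hsurj n (x.1 - r n) (sub_mem x.2 (hr n))).choose,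
      (hsurj n (x.1 - r n) (sub_mem x.2 (hr n))).choose_spec.1⟩
  have hnext : ∀ n x, t n (next n x).1 = x.1 - r n := fun n x =>
    (hsurj n (x.1 - r n) (sub_mem x.2 (hr n))).choose_spec.2
  let xs : ∀ n, {x : G n // x ∈ E G tr J hJ n} :=
    fun n => Nat.rec (motive := fun n => {x : G n // x ∈ E G tr J hJ n}) ⟨0, zero_mem _⟩ (fun n x => next n x) n
  refine ⟨fun n => (xs n).1, ?_⟩
  funext n
  show (xs n).1 - t n (xs (n + 1)).1 = r n
  have : xs (n + 1) = next n (xs n) := rfl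
  rw [this, hnext]; abel

open Classical in
/-- total version of `tr` -/
noncomputable def trT (n m : ℕ) (x : G m) : G n := if h : n ≤ m then tr n m h x else 0

theorem trT_of_le (n m : ℕ) (h : n ≤ m) (x : G m) : trT G tr n m x = tr n m h x := dif_pos h

include tr_self tr_succ tr_comp hML in
theorem main (y : ∀ n, G n) : ∃ x : ∀ n, G n, towerDiff G t x = y := by
  classical
  let N : ℕ → ℕ := fun n => (∑ k ∈ Finset.range (n + 1), J k) + n + 1
  have hN1 : ∀ n, n + 1 ≤ N n := fun n => by simp only [N]; omega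
  have hNJ : ∀ n, J n ≤ N n := fun n => by
    have : J n ≤ ∑ k ∈ Finset.range (n + 1), J k :=
      Finset.single_le_sum (f := J) (fun _ _ => Nat.zero_le _) (Finset.self_mem_range_succ n)
    simp only [N]; omega
  have hNm : ∀ n, N n ≤ N (n + 1) := fun n => by
    simp only [N]
    rw [Finset.sum_range_succ _ (n + 1)]
    omega
  let a : ∀ n, G n := fun n => ∑ m ∈ Finset.Ico n (N n), trT G tr n m (y m)
  let r : ∀ n, G n := fun n => ∑ m ∈ Finset.Ico (N n) (N (n + 1)), trT G tr n m (y m)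
  have hr : ∀ n, r n ∈ E G tr J hJ n := by
    intro n
    refine AddSubgroup.sum_mem _ fun m hm => ?_
    rw [Finset.mem_Ico] at hm
    have hJm : J n ≤ m := (hNJ n).trans hm.1
    rw [trT_of_le G tr n m ((hJ n).trans hJm)]
    rw [← range_eq_E G tr tr_comp J hJ hML n m hJm]
    exact ⟨_, rfl⟩
  have ht : ∀ n, t n (a (n + 1)) = ∑ m ∈ Finset.Ico (n + 1) (N (n + 1)), trT G tr n m (y m) := by
    intro n
    simp only [a]
    rw [map_sum]
    refine Finset.sum_congr rfl fun m hm => ?_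
    rw [Finset.mem_Ico] at hm
    rw [trT_of_le G tr (n + 1) m hm.1, trT_of_le G tr n m (by omega), tr_succ]
  have hD : ∀ n, a n - t n (a (n + 1)) = y n - r n := by
    intro n
    rw [ht n]
    have h1 : a n = trT G tr n n (y n) + ∑ m ∈ Finset.Ico (n + 1) (N n), trT G tr n m (y m) :=
      Finset.sum_eq_sum_Ico_succ_bot (hN1 n) _
    have h2 := Finset.sum_Ico_consecutive (fun m => trT G tr n m (y m)) (hN1 n) (hNm n)
    rw [h1, ← h2, trT_of_le G tr n n le_rfl, tr_self]
    simp only [r]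
    abel
  obtain ⟨x, hx⟩ := step2 G t tr tr_succ tr_comp J hJ hML r hr
  refine ⟨a + x, ?_⟩
  rw [map_add, hx]
  funext n
  show (a n - t n (a (n + 1))) + r n = y n
  rw [hD n]; abel

end


section
variable (G : ℕ → Type u) [∀ n, AddCommGroup (G n)] (t : ∀ n, G (n + 1) →+ G n)

noncomputable abbrev Φ : ℕᵒᵖ ⥤ AddCommGrpCat.{u} :=
  Functor.ofOpSequence (X := fun n => AddCommGrpCat.of (G n)) (fun n => AddCommGrpCat.ofHom (t n))

noncomputable def tr (i j : ℕ) (h : i ≤ j) : G j →+ G i := ((Φ G t).map (homOfLE h).op).hom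

theorem tr_self (i : ℕ) (x : G i) : tr G t i i le_rfl x = x := by
  have : (homOfLE (le_refl i)).op = 𝟙 (Opposite.op i) := Subsingleton.elim _ _
  unfold tr
  rw [this, (Φ G t).map_id]
  rfl

theorem tr_comp (i j k : ℕ) (h1 : i ≤ j) (h2 : j ≤ k) (x : G k) :
    tr G t i j h1 (tr G t j k h2 x) = tr G t i k (h1.trans h2) x := by
  have : (homOfLE (h1.trans h2)).op = (homOfLE h2).op ≫ (homOfLE h1).op := Subsingleton.elim _ _
  unfold tr
  rw [this, (Φ G t).map_comp]
  rfl

theorem tr_succ (i j : ℕ) (h : i + 1 ≤ j) (x : G j) :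
    t i (tr G t (i + 1) j h x) = tr G t i j (by omega) x := by
  have h1 : tr G t i (i + 1) (Nat.le_add_right i 1) = t i := by
    unfold tr
    rw [Functor.ofOpSequence_map_homOfLE_succ]
    rfl
  rw [← h1, tr_comp]

end

section
variable (G : ℕ → Type u) [∀ n, AddCommGroup (G n)] (t : ∀ n, G (n + 1) →+ G n)

theorem exists_J (h : (Φ G t ⋙ forget AddCommGrpCat).IsMittagLeffler) (i : ℕ) :
    ∃ j : ℕ, ∃ hj : i ≤ j, ∀ k (hk : i ≤ k), (tr G t i j hj).range ≤ (tr G t i k hk).range := by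
  obtain ⟨j', f, hf⟩ := h (Opposite.op i)
  refine ⟨j'.unop, f.unop.le, fun k hk => ?_⟩
  have := hf (homOfLE hk).op
  rintro _ ⟨x, rfl⟩
  have hfe : f = (homOfLE f.unop.le).op := Subsingleton.elim _ _
  have hx : (Φ G t ⋙ forget AddCommGrpCat).map f x ∈ Set.range ((Φ G t ⋙ forget AddCommGrpCat).map f) := ⟨x, rfl⟩
  obtain ⟨z, hz⟩ := this hx
  refine ⟨z, ?_⟩
  rw [hfe] at hz
  exact hz

end


open CategoryTheory in
/-- Let … → G_2 → G_1 → G_0 be an inverse system of abelian groups with transition maps t_n : G_{n+1} →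
G_n which satisfies the Mittag-Leffler condition: for every i there is j ≥ i such that for all k ≥ j
the images of G_k → G_i and G_j → G_i coincide. Then lim¹ G_n = 0, i.e. the map (x_n) ↦ (x_n −
t_n(x_{n+1})) on ∏ G_n is surjective. -/
theorem result (G : ℕ → Type u) [∀ n, AddCommGroup (G n)]
    (t : ∀ n, G (n + 1) →+ G n)
    (h : (Functor.ofOpSequence (X := fun n => AddCommGrpCat.of (G n))
      (fun n => AddCommGrpCat.ofHom (t n)) ⋙ forget AddCommGrpCat).IsMittagLeffler) :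
    Function.Surjective (Formal2.towerDiff G t) := by
  intro y
  choose J hJ hML using exists_J G t h
  exact main G t (tr G t) (tr_self G t) (tr_succ G t) (tr_comp G t) J hJ hML y

end Groth.Agent.S14616
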