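import Groth.Statements.S14617
import Mathlib

set_option autoImplicit false
universe u
open Formal2

namespace Groth.Agent.S14617



section
variable (G' G G'' : ℕ → Type u)
    [∀ n, AddCommGroup (G' n)] [∀ n, AddCommGroup (G n)] [∀ n, AddCommGroup (G'' n)]
    (t' : ∀ n, G' (n + 1) →+ G' n) (t : ∀ n, G (n + 1) →+ G n) (t'' : ∀ n, G'' (n + 1) →+ G'' n)
    (u : ∀ n, G' n →+ G n) (v : ∀ n, G n →+ G'' n)

/-- levelwise map on products -/
def lev {A B : ℕ → Type u} [∀ n, AddCommGroup (A n)] [∀ n, AddCommGroup (B n)]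
    (f : ∀ n, A n →+ B n) : (∀ n, A n) →+ (∀ n, B n) :=
  AddMonoidHom.mk' (fun x n => f n (x n)) (by intro a b; funext n; simp)

@[simp] theorem lev_apply {A B : ℕ → Type u} [∀ n, AddCommGroup (A n)] [∀ n, AddCommGroup (B n)]
    (f : ∀ n, A n →+ B n) (x : ∀ n, A n) (n : ℕ) : lev f x n = f n (x n) := rfl

theorem lev_comm {A B : ℕ → Type u} [∀ n, AddCommGroup (A n)] [∀ n, AddCommGroup (B n)]
    (tA : ∀ n, A (n + 1) →+ A n) (tB : ∀ n, B (n + 1) →+ B n)
    (f : ∀ n, A n →+ B n) (hf : ∀ n x, tB n (f (n + 1) x) = f n (tA n x)) (x : ∀ n, A n) :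
    towerDiff B tB (lev f x) = lev f (towerDiff A tA x) := by
  funext n
  show f n (x n) - tB n (f (n + 1) (x (n + 1))) = f n (x n - tA n (x (n + 1)))
  rw [hf, map_sub]

theorem lev_injective {A B : ℕ → Type u} [∀ n, AddCommGroup (A n)] [∀ n, AddCommGroup (B n)]
    (f : ∀ n, A n →+ B n) (hf : ∀ n, Function.Injective (f n)) : Function.Injective (lev f) := by
  intro x y h
  funext n
  exact hf n (congrFun h n)

theorem lev_surjective {A B : ℕ → Type u} [∀ n, AddCommGroup (A n)] [∀ n, AddCommGroup (B n)]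
    (f : ∀ n, A n →+ B n) (hf : ∀ n, Function.Surjective (f n)) : Function.Surjective (lev f) := by
  intro y
  choose x hx using fun n => hf n (y n)
  exact ⟨x, funext hx⟩

theorem lev_exact {A B C : ℕ → Type u} [∀ n, AddCommGroup (A n)] [∀ n, AddCommGroup (B n)]
    [∀ n, AddCommGroup (C n)]
    (f : ∀ n, A n →+ B n) (g : ∀ n, B n →+ C n) (hex : ∀ n, (g n).ker = (f n).range)
    (y : ∀ n, B n) (hy : lev g y = 0) : ∃ a, lev f a = y := by
  have : ∀ n, ∃ a, f n a = y n := by
    intro n
    have h1 : y n ∈ (g n).ker := congrFun hy n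
    rw [hex n] at h1
    exact h1
  choose a ha using this
  exact ⟨a, funext ha⟩

theorem lev_comp_zero {A B C : ℕ → Type u} [∀ n, AddCommGroup (A n)] [∀ n, AddCommGroup (B n)]
    [∀ n, AddCommGroup (C n)]
    (f : ∀ n, A n →+ B n) (g : ∀ n, B n →+ C n) (hex : ∀ n, (g n).ker = (f n).range)
    (a : ∀ n, A n) : lev g (lev f a) = 0 := by
  funext n
  have : f n (a n) ∈ (g n).ker := by rw [hex n]; exact ⟨_, rfl⟩
  exact this

theorem main (G' G G'' : ℕ → Type u)
    [∀ n, AddCommGroup (G' n)] [∀ n, AddCommGroup (G n)] [∀ n, AddCommGroup (G'' n)]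
    (t' : ∀ n, G' (n + 1) →+ G' n) (t : ∀ n, G (n + 1) →+ G n) (t'' : ∀ n, G'' (n + 1) →+ G'' n)
    (u : ∀ n, G' n →+ G n) (v : ∀ n, G n →+ G'' n)
    (hu : ∀ n x, t n (u (n + 1) x) = u n (t' n x)) (hv : ∀ n x, t'' n (v (n + 1) x) = v n (t n x))
    (hinj : ∀ n, Function.Injective (u n)) (hsurj : ∀ n, Function.Surjective (v n))
    (hex : ∀ n, (v n).ker = (u n).range) :
    ∃ (α : Formal2.limZero G' t' →+ Formal2.limZero G t) (β : Formal2.limZero G t →+ Formal2.limZero G'' t'')
      (δ : Formal2.limZero G'' t'' →+ Formal2.limOne G' t')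
      (ε : Formal2.limOne G' t' →+ Formal2.limOne G t) (ζ : Formal2.limOne G t →+ Formal2.limOne G'' t''),
      (∀ (x : Formal2.limZero G' t') (n : ℕ), (α x : ∀ n, G n) n = u n ((x : ∀ n, G' n) n)) ∧
      (∀ (x : Formal2.limZero G t) (n : ℕ), (β x : ∀ n, G'' n) n = v n ((x : ∀ n, G n) n)) ∧
      (∀ (z : Formal2.limZero G'' t'') (y : ∀ n, G n) (w : ∀ n, G' n),
          (∀ n, v n (y n) = (z : ∀ n, G'' n) n) → (∀ n, u n (w n) = Formal2.towerDiff G t y n) →
            δ z = (QuotientAddGroup.mk w : Formal2.limOne G' t')) ∧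
      (∀ y : ∀ n, G' n, ε (QuotientAddGroup.mk y : Formal2.limOne G' t') =
          (QuotientAddGroup.mk (fun n => u n (y n)) : Formal2.limOne G t)) ∧
      (∀ y : ∀ n, G n, ζ (QuotientAddGroup.mk y : Formal2.limOne G t) =
          (QuotientAddGroup.mk (fun n => v n (y n)) : Formal2.limOne G'' t'')) ∧
      Function.Injective α ∧ α.range = β.ker ∧ β.range = δ.ker ∧ δ.range = ε.ker ∧ ε.range = ζ.ker ∧
      Function.Surjective ζ := by
  classical
  set U := lev u with hU
  set V := lev v with hV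
  set D' := towerDiff G' t' with hD'
  set D := towerDiff G t with hD
  set D'' := towerDiff G'' t'' with hD''
  have hDU : ∀ x, D (U x) = U (D' x) := lev_comm t' t u hu
  have hDV : ∀ x, D'' (V x) = V (D x) := lev_comm t t'' v hv
  have Uinj : Function.Injective U := lev_injective u hinj
  have Vsurj : Function.Surjective V := lev_surjective v hsurj
  have hexact : ∀ y, V y = 0 → ∃ a, U a = y := lev_exact u v hex
  have VU : ∀ a, V (U a) = 0 := lev_comp_zero u v hex
  -- α, β
  let α : limZero G' t' →+ limZero G t :=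
    AddMonoidHom.codRestrict (U.comp (limZero G' t').subtype) (limZero G t) (fun x => by
      show D (U x.1) = 0
      rw [hDU, show D' x.1 = 0 from x.2, map_zero])
  let β : limZero G t →+ limZero G'' t'' :=
    AddMonoidHom.codRestrict (V.comp (limZero G t).subtype) (limZero G'' t'') (fun x => by
      show D'' (V x.1) = 0
      rw [hDV, show D x.1 = 0 from x.2, map_zero])
  -- ε, ζ
  let ε : limOne G' t' →+ limOne G t :=
    QuotientAddGroup.map _ _ U (by
      rintro _ ⟨a, rfl⟩
      exact ⟨U a, (hDU a)⟩)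
  let ζ : limOne G t →+ limOne G'' t'' :=
    QuotientAddGroup.map _ _ V (by
      rintro _ ⟨a, rfl⟩
      exact ⟨V a, (hDV a)⟩)
  -- δ
  have hδ : ∀ z : limZero G'' t'', ∃ w : ∀ n, G' n, ∃ y : ∀ n, G n, V y = z.1 ∧ U w = D y := by
    intro z
    obtain ⟨y, hy⟩ := Vsurj z.1
    have : V (D y) = 0 := by rw [← hDV, hy]; exact z.2
    obtain ⟨w, hw⟩ := hexact _ this
    exact ⟨w, y, hy, hw⟩
  choose wz yz hyz hwz using hδ
  have key : ∀ (z : limZero G'' t'') (y : ∀ n, G n) (w : ∀ n, G' n), V y = z.1 → U w = D y →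
      (QuotientAddGroup.mk w : limOne G' t') = QuotientAddGroup.mk (wz z) := by
    intro z y w hy hw
    have h1 : V (y - yz z) = 0 := by rw [map_sub, hy, hyz, sub_self]
    obtain ⟨a, ha⟩ := hexact _ h1
    have h2 : U (w - wz z) = U (D' a) := by
      rw [map_sub, hw, hwz, ← map_sub, ← ha, hDU]
    have h3 : w - wz z = D' a := Uinj h2
    rw [QuotientAddGroup.eq]
    refine ⟨-a, ?_⟩
    rw [map_neg, ← h3]; abel
  let δ : limZero G'' t'' →+ limOne G' t' :=
    AddMonoidHom.mk' (fun z => QuotientAddGroup.mk (wz z)) (fun z1 z2 => by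
      rw [← QuotientAddGroup.mk_add]
      symm
      exact key (z1 + z2) (yz z1 + yz z2) (wz z1 + wz z2)
        (by rw [map_add, hyz, hyz]; rfl) (by rw [map_add, hwz, hwz, map_add]))
  refine ⟨α, β, δ, ε, ζ, fun x n => rfl, fun x n => rfl, ?_, fun y => rfl, fun y => rfl, ?_, ?_, ?_, ?_, ?_, ?_⟩
  · -- δ characterization
    intro z y w hy hw
    exact (key z y w (funext hy) (funext hw)).symm
  · -- α injective
    intro x y hxy
    apply Subtype.ext
    apply Uinj
    exact congrArg Subtype.val hxy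
  · -- α.range = β.ker
    ext x
    constructor
    · rintro ⟨a, rfl⟩
      apply Subtype.ext
      exact VU a.1
    · intro hx
      have hx' : V x.1 = 0 := congrArg Subtype.val hx
      obtain ⟨a, ha⟩ := hexact _ hx'
      have ha' : D' a = 0 := by
        apply Uinj
        rw [← hDU, ha, map_zero]
        exact x.2
      exact ⟨⟨a, ha'⟩, Subtype.ext ha⟩
  · -- β.range = δ.ker
    ext z
    constructor
    · rintro ⟨x, rfl⟩
      show (QuotientAddGroup.mk (wz (β x)) : limOne G' t') = 0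
      have := key (β x) x.1 0 rfl (by rw [map_zero]; exact x.2.symm)
      rw [← this]; rfl
    · intro hz
      have hz' : (QuotientAddGroup.mk (wz z) : limOne G' t') = 0 := hz
      rw [QuotientAddGroup.eq_zero_iff] at hz'
      obtain ⟨a, ha⟩ := hz'
      have hy' : D (yz z - U a) = 0 := by
        rw [map_sub, hDU, ha, hwz, sub_self]
      refine ⟨⟨yz z - U a, hy'⟩, Subtype.ext ?_⟩
      show V (yz z - U a) = z.1
      rw [map_sub, VU, sub_zero, hyz]
  · -- δ.range = ε.ker
    ext c
    constructor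
    · rintro ⟨z, rfl⟩
      show ε (QuotientAddGroup.mk (wz z)) = 0
      show (QuotientAddGroup.mk (U (wz z)) : limOne G t) = 0
      rw [QuotientAddGroup.eq_zero_iff, hwz]
      exact ⟨_, rfl⟩
    · intro hc
      obtain ⟨w, rfl⟩ := QuotientAddGroup.mk_surjective c
      have hc' : (QuotientAddGroup.mk (U w) : limOne G t) = 0 := hc
      rw [QuotientAddGroup.eq_zero_iff] at hc'
      obtain ⟨y, hy⟩ := hc'
      have hz : D'' (V y) = 0 := by rw [hDV, hy, VU]
      refine ⟨⟨V y, hz⟩, ?_⟩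
      exact (key ⟨V y, hz⟩ y w rfl hy.symm).symm
  · -- ε.range = ζ.ker
    ext c
    constructor
    · rintro ⟨c', rfl⟩
      obtain ⟨w, rfl⟩ := QuotientAddGroup.mk_surjective c'
      show (QuotientAddGroup.mk (V (U w)) : limOne G'' t'') = 0
      rw [VU]; rfl
    · intro hc
      obtain ⟨y, rfl⟩ := QuotientAddGroup.mk_surjective c
      have hc' : (QuotientAddGroup.mk (V y) : limOne G'' t'') = 0 := hc
      rw [QuotientAddGroup.eq_zero_iff] at hc'
      obtain ⟨c0, hc0⟩ := hc'
      obtain ⟨b, rfl⟩ := Vsurj c0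
      have h1 : V (y - D b) = 0 := by rw [map_sub, ← hDV, hc0, sub_self]
      obtain ⟨w, hw⟩ := hexact _ h1
      refine ⟨QuotientAddGroup.mk w, ?_⟩
      show (QuotientAddGroup.mk (U w) : limOne G t) = QuotientAddGroup.mk y
      rw [hw, QuotientAddGroup.eq]
      refine ⟨b, ?_⟩
      abel
  · -- ζ surjective
    intro c
    obtain ⟨z, rfl⟩ := QuotientAddGroup.mk_surjective c
    obtain ⟨y, rfl⟩ := Vsurj z
    exact ⟨QuotientAddGroup.mk y, rfl⟩

end


/-- Let 0 → (G'_n) → (G_n) → (G''_n) → 0 be a short exact sequence of inverse systems of abelian groups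
indexed by ℕ: maps u_n : G'_n → G_n and v_n : G_n → G''_n commuting with the transition maps, with
u_n injective, v_n surjective and ker v_n = im u_n for every n. Writing lim and lim¹ for the kernel
and cokernel of (x_n) ↦ (x_n − t_n(x_{n+1})) on the product, there is an exact sequence 0 → lim G' →
lim G → lim G'' → lim¹ G' → lim¹ G → lim¹ G'' → 0 in which the four outer maps are the ones induced
by u and v on products and the connecting map δ sends a compatible sequence (z_n) to the class of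
the unique (w_n) with u_n(w_n) = y_n − t_n(y_{n+1}), for any levelwise lift (y_n) of (z_n). -/
theorem result (G' G G'' : ℕ → Type u)
    [∀ n, AddCommGroup (G' n)] [∀ n, AddCommGroup (G n)] [∀ n, AddCommGroup (G'' n)]
    (t' : ∀ n, G' (n + 1) →+ G' n) (t : ∀ n, G (n + 1) →+ G n) (t'' : ∀ n, G'' (n + 1) →+ G'' n)
    (u : ∀ n, G' n →+ G n) (v : ∀ n, G n →+ G'' n)
    (hu : ∀ n x, t n (u (n + 1) x) = u n (t' n x)) (hv : ∀ n x, t'' n (v (n + 1) x) = v n (t n x))
    (hinj : ∀ n, Function.Injective (u n)) (hsurj : ∀ n, Function.Surjective (v n))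
    (hex : ∀ n, (v n).ker = (u n).range) :
    ∃ (α : Formal2.limZero G' t' →+ Formal2.limZero G t) (β : Formal2.limZero G t →+ Formal2.limZero G'' t'')
      (δ : Formal2.limZero G'' t'' →+ Formal2.limOne G' t')
      (ε : Formal2.limOne G' t' →+ Formal2.limOne G t) (ζ : Formal2.limOne G t →+ Formal2.limOne G'' t''),
      (∀ (x : Formal2.limZero G' t') (n : ℕ), (α x : ∀ n, G n) n = u n ((x : ∀ n, G' n) n)) ∧
      (∀ (x : Formal2.limZero G t) (n : ℕ), (β x : ∀ n, G'' n) n = v n ((x : ∀ n, G n) n)) ∧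
      (∀ (z : Formal2.limZero G'' t'') (y : ∀ n, G n) (w : ∀ n, G' n),
          (∀ n, v n (y n) = (z : ∀ n, G'' n) n) → (∀ n, u n (w n) = Formal2.towerDiff G t y n) →
            δ z = (QuotientAddGroup.mk w : Formal2.limOne G' t')) ∧
      (∀ y : ∀ n, G' n, ε (QuotientAddGroup.mk y : Formal2.limOne G' t') =
          (QuotientAddGroup.mk (fun n => u n (y n)) : Formal2.limOne G t)) ∧
      (∀ y : ∀ n, G n, ζ (QuotientAddGroup.mk y : Formal2.limOne G t) =
          (QuotientAddGroup.mk (fun n => v n (y n)) : Formal2.limOne G'' t'')) ∧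
      Function.Injective α ∧ α.range = β.ker ∧ β.range = δ.ker ∧ δ.range = ε.ker ∧ ε.range = ζ.ker ∧
      Function.Surjective ζ := by
  exact main G' G G'' t' t t'' u v hu hv hinj hsurj hex

end Groth.Agent.S14617
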