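import Groth.Statements.S14619
import Mathlib
import Groth.Agent.Lib.Helper21.GCFibre
import Groth.Agent.Lib.Helper21.BcTensor
import Groth.Agent.Lib.Helper13.GCTrunc
-- import your own Groth.Agent.* helpers here

set_option autoImplicit false
universe u
open Coherent

namespace Groth.Agent.S14619

open CategoryTheory CategoryTheory.Limits AlgebraicGeometry in
/-- the amplitude-truncated Grothendieck complex -/
theorem core (A : Type u) [CommRing A] [IsNoetherianRing A] (X : Scheme.{u})
    [X.Over (Spec (CommRingCat.of A))]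
    [IsProper (X ↘ Spec (CommRingCat.of A))] (F : X.Modules) (hF : Coh.IsCoh F)
    (hfl : FlatMod.IsFlatOver (X ↘ Spec (CommRingCat.of A)) F) (dlo dhi : ℤ)
    (hhigh : ∀ p : ℕ, dhi < (p : ℤ) → Subsingleton (Coh.HH X F p))
    (hlow : ∀ (y : ↑(Spec (CommRingCat.of A))) (p : ℕ), (p : ℤ) < dlo →
      Subsingleton (CohIII.fiberH (X ↘ Spec (CommRingCat.of A)) F y p)) :
    ∃ L : CochainComplex (ModuleCat.{u} A) ℤ,
      (∀ i, Module.Finite A (L.X i) ∧ Module.Projective A (L.X i)) ∧
      (∀ i : ℤ, i < dlo ∨ dhi < i → IsZero (L.X i)) ∧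
      ∀ (B : Type u) [CommRing B] [Algebra A B] (p : ℕ),
        Nonempty (Coh.HH (pullback (X ↘ Spec (CommRingCat.of A)) (Spec.map (CommRingCat.ofHom (algebraMap A B))))
            ((Scheme.Modules.pullback (pullback.fst (X ↘ Spec (CommRingCat.of A))
              (Spec.map (CommRingCat.ofHom (algebraMap A B))))).obj F) p ≃+
          CohIII.T L (p : ℤ) (ModuleCat.of A B)) := by
  obtain ⟨L₀, hL, ⟨N, hLN⟩, hH, hHneg, hneg, hComp⟩ :=
    Groth.Agent.Lib.helper21.GCCech.exists_grothendieck_complex' A X F hF hfl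
  have hComp' : Groth.Agent.Lib.helper21.GCFibre.Computes A X F L₀ := hComp
  have hlow' : ∀ p : ℤ, p < dlo → Groth.Agent.Lib.helper13.GCTrunc.FibExact L₀ p := by
    intro p hp
    apply Groth.Agent.Lib.helper13.GCTrunc.fibExact_of_bcCx
    intro m hm
    rw [HomologicalComplex.exactAt_iff_isZero_homology]
    by_cases hp0 : p < 0
    · exact hneg (A ⧸ m) p hp0
    · obtain ⟨n, rfl⟩ : ∃ n : ℕ, (n : ℤ) = p := ⟨p.toNat, by omega⟩
      exact (Groth.Agent.Lib.helper21.GCFibre.subsingleton_fiberH_iff_quot hComp' m n).mp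
        (hlow _ n hp)
  have hhigh' : ∀ p : ℤ, dhi < p → IsZero (L₀.homology p) := by
    intro p hp
    by_cases hp0 : p < 0
    · exact hHneg p hp0
    · obtain ⟨n, rfl⟩ : ∃ n : ℕ, (n : ℤ) = p := ⟨p.toNat, by omega⟩
      obtain ⟨e⟩ := hH n
      haveI := hhigh n hp
      haveI : Subsingleton (L₀.homology (n : ℤ)) := e.toEquiv.subsingleton
      exact ModuleCat.isZero_of_subsingleton _
  obtain ⟨P, hP, hPz, -, hPT⟩ := Groth.Agent.Lib.helper13.GCTrunc.exists_amplitude_truncation L₀
    (fun i => ⟨(hL i).1, by haveI := (hL i).2; infer_instance⟩)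
    ⟨(N : ℤ), fun i hi => hLN i (le_of_lt hi)⟩ dlo dhi hlow' hhigh'
  refine ⟨P, hP, hPz, ?_⟩
  intro B _ _ p
  letI : (pullback (X ↘ Spec (CommRingCat.of A))
      (Spec.map (CommRingCat.ofHom (algebraMap A B)))).Over (Spec (CommRingCat.of B)) :=
    ⟨pullback.snd _ _⟩
  obtain ⟨e⟩ := hComp B (pullback (X ↘ Spec (CommRingCat.of A))
      (Spec.map (CommRingCat.ofHom (algebraMap A B))))
    (pullback.fst _ _) (IsPullback.of_hasPullback _ _) p
  obtain ⟨t⟩ := hPT (ModuleCat.of A B) (p : ℤ)
  exact ⟨e.symm.toAddEquiv.trans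
    ((Groth.Agent.Lib.helper21.BcTensor.bcTensorEquiv L₀ (p : ℤ)).trans
      t.toLinearEquiv.toAddEquiv)⟩


open CategoryTheory CategoryTheory.Limits AlgebraicGeometry in
/-- Let A be a Noetherian ring, X a proper scheme over Spec A and F a coherent O_X-module flat over Spec
A. Suppose H^p(X, F) = 0 for all p > d and H^p(X_y, F|X_y) = 0 for every point y of Spec A and every
p < d'. Then there is a cochain complex L of finitely generated projective A-modules, with L^i = 0
unless d' ≤ i ≤ d and with L = 0 when all H^p(X, F) vanish, such that for every A-algebra B and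
every p the cohomology H^p(X ×_A Spec B, ξ^*F) of the pulled-back module is isomorphic to H^p(L ⊗_A
B). Only the existence of these isomorphisms of abelian groups is asserted (no naturality in B). -/
theorem result (A : Type u) [CommRing A] [IsNoetherianRing A] (X : Scheme.{u}) [X.Over (Spec (CommRingCat.of A))]
    [IsProper (X ↘ Spec (CommRingCat.of A))] (F : X.Modules) (hF : Coh.IsCoh F)
    (hfl : FlatMod.IsFlatOver (X ↘ Spec (CommRingCat.of A)) F) (d' d : ℕ)
    (hd : ∀ p : ℕ, d < p → Subsingleton (Coh.HH X F p))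
    (hd' : ∀ (y : ↑(Spec (CommRingCat.of A))) (p : ℕ), p < d' →
      Subsingleton (CohIII.fiberH (X ↘ Spec (CommRingCat.of A)) F y p)) :
    ∃ L : CochainComplex (ModuleCat.{u} A) ℤ,
      (∀ i, Module.Finite A (L.X i) ∧ Module.Projective A (L.X i)) ∧
      (∀ i : ℤ, i < (d' : ℤ) ∨ (d : ℤ) < i → IsZero (L.X i)) ∧
      ((∀ p : ℕ, Subsingleton (Coh.HH X F p)) → ∀ i, IsZero (L.X i)) ∧
      ∀ (B : Type u) [CommRing B] [Algebra A B] (p : ℕ),
        Nonempty (Coh.HH (pullback (X ↘ Spec (CommRingCat.of A)) (Spec.map (CommRingCat.ofHom (algebraMap A B))))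
            ((Scheme.Modules.pullback (pullback.fst (X ↘ Spec (CommRingCat.of A))
              (Spec.map (CommRingCat.ofHom (algebraMap A B))))).obj F) p ≃+
          CohIII.T L (p : ℤ) (ModuleCat.of A B)) := by
  classical
  by_cases hall : ∀ p : ℕ, Subsingleton (Coh.HH X F p)
  · obtain ⟨L, h1, h2, h3⟩ := core A X F hF hfl 0 (-1) (fun p _ => hall p)
      (fun y p hp => absurd hp (by omega))
    have hz : ∀ i, IsZero (L.X i) := fun i => h2 i (by omega)
    exact ⟨L, h1, fun i _ => hz i, fun _ => hz, h3⟩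
  · obtain ⟨L, h1, h2, h3⟩ := core A X F hF hfl (d' : ℤ) (d : ℤ)
      (fun p hp => hd p (by exact_mod_cast hp)) (fun y p hp => hd' y p (by exact_mod_cast hp))
    exact ⟨L, h1, h2, fun h => absurd h hall, h3⟩

end Groth.Agent.S14619
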