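import Groth.Statements.S14621
import Mathlib

set_option autoImplicit false
open CategoryTheory CategoryTheory.Limits
universe u
open CohSite

namespace Groth.Agent.S14621

open Opposite

section
variable {I : Type u} [SmallCategory I] [IsFiltered I]

theorem exists_lift {ι : Type} (G : ι → I ⥤ Type u) (c : ∀ k, Cocone (G k))
    (hc : ∀ k, IsColimit (c k)) (x : ∀ k, (c k).pt) (s : Finset ι) :
    ∃ i : I, ∀ k ∈ s, ∃ y : (G k).obj i, (c k).ι.app i y = x k := by
  classical
  induction s using Finset.induction_on with
  | empty => exact ⟨IsFiltered.nonempty.some, by simp⟩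
  | insert k0 s hk0 ih =>
    obtain ⟨i, hi⟩ := ih
    obtain ⟨j, y0, hy0⟩ := Types.jointly_surjective_of_isColimit (hc k0) (x k0)
    refine ⟨IsFiltered.max i j, fun k hk => ?_⟩
    rcases Finset.mem_insert.mp hk with rfl | hk
    · exact ⟨(G k).map (IsFiltered.rightToMax i j) y0, by
        rw [← hy0]; exact ConcreteCategory.congr_hom ((c k).w _) y0⟩
    · obtain ⟨y, hy⟩ := hi k hk
      exact ⟨(G k).map (IsFiltered.leftToMax i j) y, by
        rw [← hy]; exact ConcreteCategory.congr_hom ((c k).w _) y⟩

theorem exists_eq {ι : Type} (G : ι → I ⥤ Type u) (c : ∀ k, Cocone (G k))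
    (hc : ∀ k, IsColimit (c k)) (i : I) (a b : ∀ k, (G k).obj i)
    (hab : ∀ k, (c k).ι.app i (a k) = (c k).ι.app i (b k)) (s : Finset ι) :
    ∃ (i' : I) (f : i ⟶ i'), ∀ k ∈ s, (G k).map f (a k) = (G k).map f (b k) := by
  classical
  induction s using Finset.induction_on with
  | empty => exact ⟨i, 𝟙 i, by simp⟩
  | insert k0 s hk0 ih =>
    obtain ⟨i', f, hf⟩ := ih
    obtain ⟨j, g, hg⟩ := (Types.FilteredColimit.isColimit_eq_iff' (hc k0) (a k0) (b k0)).mp (hab k0)
    obtain ⟨i'', h1, h2, h12⟩ := IsFiltered.span f g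
    refine ⟨i'', f ≫ h1, fun k hk => ?_⟩
    rcases Finset.mem_insert.mp hk with rfl | hk
    · rw [h12, (G k).map_comp]
      exact congrArg ((G k).map h2) hg
    · rw [(G k).map_comp]
      exact congrArg ((G k).map h1) (hf k hk)

end

section
variable {I : Type u} [SmallCategory I] [IsFiltered I]
variable {C : Type u} [SmallCategory C] [HasPullbacks C]

theorem isSheafFor_colimit (K : I ⥤ Cᵒᵖ ⥤ Type u) (c : Cocone K) (hc : IsColimit c)
    {B : C} {n : ℕ} (W : Fin n → C) (π : ∀ k, W k ⟶ B)
    (hK : ∀ i, (Presieve.ofArrows W π).IsSheafFor (K.obj i)) :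
    (Presieve.ofArrows W π).IsSheafFor c.pt := by
  classical
  -- evaluation cocones
  let G : ∀ U : C, I ⥤ Type u := fun U => K ⋙ (evaluation Cᵒᵖ (Type u)).obj (op U)
  let cc : ∀ U : C, Cocone (G U) := fun U => ((evaluation Cᵒᵖ (Type u)).obj (op U)).mapCocone c
  have hcc : ∀ U : C, IsColimit (cc U) := fun U =>
    isColimitOfPreserves ((evaluation Cᵒᵖ (Type u)).obj (op U)) hc
  -- naturality of cocone legs
  have hnat : ∀ (i : I) {U V : C} (f : U ⟶ V) (y : (K.obj i).obj (op V)),
      c.pt.map f.op ((c.ι.app i).app (op V) y) = (c.ι.app i).app (op U) ((K.obj i).map f.op y) :=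
    fun i U V f y => (ConcreteCategory.congr_hom ((c.ι.app i).naturality f.op) y).symm
  have hw : ∀ {i j : I} (f : i ⟶ j) (U : C) (y : (K.obj i).obj (op U)),
      (c.ι.app j).app (op U) ((K.map f).app (op U) y) = (c.ι.app i).app (op U) y :=
    fun f U y => ConcreteCategory.congr_hom ((cc U).w f) y
  rw [Presieve.isSheafFor_arrows_iff_pullbacks]
  intro x hx
  -- uniqueness first
  have huniq : ∀ t1 t2 : c.pt.obj (op B), (∀ k, c.pt.map (π k).op t1 = c.pt.map (π k).op t2) →
      t1 = t2 := by
    intro t1 t2 h12
    obtain ⟨i, hi⟩ := exists_lift (ι := Bool) (fun _ => G B) (fun _ => cc B) (fun _ => hcc B)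
      (fun b => if b then t1 else t2) Finset.univ
    obtain ⟨s1, hs1⟩ := hi true (Finset.mem_univ _)
    obtain ⟨s2, hs2⟩ := hi false (Finset.mem_univ _)
    simp only [if_true, Bool.false_eq_true, if_false] at hs1 hs2
    obtain ⟨i', f, hf⟩ := exists_eq (ι := Fin n) (fun k => G (W k)) (fun k => cc (W k))
      (fun k => hcc (W k)) i (fun k => (K.obj i).map (π k).op s1) (fun k => (K.obj i).map (π k).op s2)
      (fun k => by
        show (c.ι.app i).app (op (W k)) _ = (c.ι.app i).app (op (W k)) _
        rw [← hnat, ← hnat]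
        have h1 : (c.ι.app i).app (op B) s1 = t1 := hs1
        have h2 : (c.ι.app i).app (op B) s2 = t2 := hs2
        rw [h1, h2]; exact h12 k) Finset.univ
    have hsep := (hK i').isSeparatedFor
    have h12' : (K.map f).app (op B) s1 = (K.map f).app (op B) s2 := by
      apply hsep.ext
      intro U g hg
      obtain ⟨k⟩ := hg
      have e1 := hf k (Finset.mem_univ _)
      have n1 : ∀ s : (K.obj i).obj (op B), (K.obj i').map (π k).op ((K.map f).app (op B) s) =
          (K.map f).app (op (W k)) ((K.obj i).map (π k).op s) := fun s =>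
        (ConcreteCategory.congr_hom ((K.map f).naturality (π k).op) s).symm
      rw [n1, n1]
      exact e1
    have h1 : (c.ι.app i).app (op B) s1 = t1 := hs1
    have h2 : (c.ι.app i).app (op B) s2 = t2 := hs2
    rw [← h1, ← h2, ← hw f B s1, ← hw f B s2, h12']
  -- existence
  obtain ⟨i0, hi0⟩ := exists_lift (ι := Fin n) (fun k => G (W k)) (fun k => cc (W k))
    (fun k => hcc (W k)) x Finset.univ
  choose y hy using fun k => hi0 k (Finset.mem_univ k)
  have hy' : ∀ k, (c.ι.app i0).app (op (W k)) (y k) = x k := hy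
  obtain ⟨i1, f, hf⟩ := exists_eq (ι := Fin n × Fin n)
    (fun kl => G (pullback (π kl.1) (π kl.2))) (fun kl => cc (pullback (π kl.1) (π kl.2)))
    (fun kl => hcc (pullback (π kl.1) (π kl.2))) i0
    (fun kl => (K.obj i0).map (pullback.fst (π kl.1) (π kl.2)).op (y kl.1))
    (fun kl => (K.obj i0).map (pullback.snd (π kl.1) (π kl.2)).op (y kl.2))
    (fun kl => by
      show (c.ι.app i0).app (op (pullback (π kl.1) (π kl.2))) _ =
        (c.ι.app i0).app (op (pullback (π kl.1) (π kl.2))) _
      rw [← hnat, ← hnat, hy', hy']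
      exact hx kl.1 kl.2) Finset.univ
  -- the family at stage i1
  let y1 : ∀ k, (K.obj i1).obj (op (W k)) := fun k => (K.map f).app (op (W k)) (y k)
  have hy1 : Presieve.Arrows.PullbackCompatible (K.obj i1) π y1 := by
    intro k l
    have e1 := hf (k, l) (Finset.mem_univ _)
    have n1 : ∀ {U V : C} (g : U ⟶ V) (s : (K.obj i0).obj (op V)),
        (K.obj i1).map g.op ((K.map f).app (op V) s) =
        (K.map f).app (op U) ((K.obj i0).map g.op s) := fun g s =>
      (ConcreteCategory.congr_hom ((K.map f).naturality g.op) s).symm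
    show (K.obj i1).map _ ((K.map f).app _ (y k)) = (K.obj i1).map _ ((K.map f).app _ (y l))
    rw [n1, n1]
    exact e1
  obtain ⟨t, ht, -⟩ := (Presieve.isSheafFor_arrows_iff_pullbacks (K.obj i1) π).mp (hK i1) y1 hy1
  have hex : ∀ k, c.pt.map (π k).op ((c.ι.app i1).app (op B) t) = x k := by
    intro k
    rw [hnat, ht k, ← hy' k]
    exact hw f (W k) (y k)
  refine ⟨(c.ι.app i1).app (op B) t, hex, fun t' ht' => huniq _ _ fun k => ?_⟩
  rw [ht' k, hex k]

end

section
variable {I : Type u} [SmallCategory I] [IsFiltered I]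
variable {C : Type u} [SmallCategory C] [HasPullbacks C]

theorem isSheaf_colimit (J : GrothendieckTopology C) (hJ : ∀ U : C, ToposFin.IsQCSite J U)
    (K : I ⥤ Sheaf J (Type u)) (c : Cocone (K ⋙ sheafToPresheaf J (Type u))) (hc : IsColimit c) :
    Presheaf.IsSheaf J c.pt := by
  rw [isSheaf_iff_isSheaf_of_type]
  intro X S hS
  obtain ⟨n, V, g, hgS, hcov⟩ := hJ X S hS
  refine Presieve.isSheafFor_subsieve (S := Sieve.ofArrows V g) c.pt ?_ ?_
  · have : Sieve.ofArrows V g ≤ S := by
      rw [Sieve.ofArrows, Sieve.generate_le_iff]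
      rintro Z f ⟨k⟩
      exact hgS k
    exact this
  · intro Y f
    have e : ((Sieve.ofArrows V g).pullback f : Presieve Y) =
        Sieve.generate (Presieve.ofArrows (fun k => pullback (g k) f)
          (fun k => pullback.snd (g k) f)) := by
      rw [Presieve.ofArrows_pullback, Sieve.pullbackArrows_comm]
    rw [e, ← Presieve.isSheafFor_iff_generate]
    apply isSheafFor_colimit _ c hc
    intro i
    rw [Presieve.isSheafFor_iff_generate, ← e]
    exact ((isSheaf_iff_isSheaf_of_type _ _).mp (K.obj i).property) _ (J.pullback_stable f hcov)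

theorem result' (J : GrothendieckTopology C) (hJ : ∀ U : C, ToposFin.IsQCSite J U) :
    PreservesColimitsOfShape I (sheafToPresheaf J (Type u)) := by
  refine ⟨fun {K} => ?_⟩
  have hc := colimit.isColimit (K ⋙ sheafToPresheaf J (Type u))
  have : CreatesColimit K (sheafToPresheaf J (Type u)) :=
    createsColimitFullSubcategoryInclusion' K hc (isSheaf_colimit J hJ K _ hc)
  infer_instance

end


/-- Let C be a small category with pullbacks and J a Grothendieck topology on C in which every object is
quasi-compact in the site sense (every covering sieve contains finitely many morphisms which already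
generate a covering sieve). Then for every small filtered category I the inclusion of sheaves of
sets on (C, J) into presheaves preserves colimits of shape I: filtered colimits of sheaves are
computed objectwise. (Only sheaves of sets are stated; the same holds for sheaves of abelian groups
or modules. All pullbacks in C are assumed.) -/
theorem result {C : Type u} [SmallCategory C]
    [HasPullbacks C] (J : GrothendieckTopology C) (hJ : ∀ U : C, ToposFin.IsQCSite J U)
    (I : Type u) [SmallCategory I] [IsFiltered I] :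
    PreservesColimitsOfShape I (sheafToPresheaf J (Type u)) := by
  exact result' J hJ

end Groth.Agent.S14621
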