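import Groth.Statements.S14622
import Groth.Agent.Lib.Helper1.EtStalkFam
import Groth.Agent.Lib.Helper1.EtStalkPull

set_option autoImplicit false
open CategoryTheory AlgebraicGeometry
universe u
open EtBase

namespace Groth.Agent.S14622

open Groth.Agent.H1.EtStalk Groth.Agent.H1.EtGerm Groth.Agent.H1.EtStalkPull
open Groth.Agent.H1.EtStalkFam

theorem jointly_surjective {Y Y' : Scheme.{u}} (g : Y' ⟶ Y) [Surjective g] :
    ⋃ y' : Y', Set.range (geomPt Y' y' ≫ g).base = Set.univ := by
  ext y
  simp only [Set.mem_iUnion, Set.mem_range, Set.mem_univ, iff_true]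
  obtain ⟨y', rfl⟩ := g.surjective y
  refine ⟨y', default, ?_⟩
  rw [Scheme.Hom.comp_apply, geomPt_default]

theorem main {Y Y' : Scheme.{u}} (g : Y' ⟶ Y) [Surjective g]
    (F : EtCoh.Ab Y) : Mono ((EtCoh.pullPushAdj g).unit.app F) := by
  apply mono_of_stalk_fam (fun y' : Y' => geomPt Y' y' ≫ g) (jointly_surjective g)
  intro y'
  set ζ := geomPt Y' y'
  set a := (EtCoh.pullPushAdj g).unit.app F
  have h := (stalkPullIso g ζ).hom.naturality a
  have e : (EtCoh.stalk (ζ ≫ g)).map a =
      (stalkPullIso g ζ).inv.app _ ≫ (EtCoh.pull g ⋙ EtCoh.stalk ζ).map a ≫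
        (stalkPullIso g ζ).hom.app _ := by
    rw [h, Iso.inv_hom_id_app_assoc]
  have hm : Mono ((EtCoh.pull g).map a) := by
    have ht := (EtCoh.pullPushAdj g).left_triangle_components F
    have : Mono ((EtCoh.pull g).map a ≫
        (EtCoh.pullPushAdj g).counit.app ((EtCoh.pull g).obj F)) := by
      rw [ht]
      exact inferInstanceAs (Mono (𝟙 ((EtCoh.pull g).obj F)))
    exact mono_of_mono _ ((EtCoh.pullPushAdj g).counit.app ((EtCoh.pull g).obj F))
  have hm2 : Mono ((EtCoh.pull g ⋙ EtCoh.stalk ζ).map a) := by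
    change Mono ((EtCoh.stalk ζ).map ((EtCoh.pull g).map a))
    infer_instance
  have hm3 : Mono ((EtCoh.stalk (ζ ≫ g)).map a) := by
    rw [e]
    infer_instance
  exact (AddCommGrpCat.mono_iff_injective _).mp hm3

/-- Let g : Y' → Y be a morphism of schemes which is surjective on points. Then for every abelian sheaf
F on the small étale site of Y the unit F → g_* g⁻¹ F of the adjunction between inverse image and
direct image is a monomorphism. -/
theorem result {Y Y' : Scheme.{u}} (g : Y' ⟶ Y) [Surjective g]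
    (F : EtCoh.Ab Y) : Mono ((EtCoh.pullPushAdj g).unit.app F) := by
  exact main g F

end Groth.Agent.S14622
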