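import Groth.Statements.S14625
import Groth.Agent.S13507

set_option autoImplicit false
open CategoryTheory AlgebraicGeometry
universe u
open EtBase

namespace Groth.Agent.S14625

open Polynomial

theorem exists_root_cyclotomic (A : Type u) [CommRing A]
    (hA : EtCoh.IsStrictlyHenselianLocalRing A) (n : ℕ) (hn : 1 ≤ n) (hu : IsUnit (n : A)) :
    ∃ a : A, (cyclotomic n A).IsRoot a := by
  obtain ⟨hH, hS⟩ := hA
  have hnk : NeZero (n : IsLocalRing.ResidueField A) := by
    constructor
    have := hu.map (IsLocalRing.residue A)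
    rw [map_natCast] at this
    exact this.ne_zero
  have hsep := separable_cyclotomic n (IsLocalRing.ResidueField A)
  have hdeg : (cyclotomic n (IsLocalRing.ResidueField A)).degree ≠ 0 := by
    rw [degree_cyclotomic]
    exact_mod_cast (Nat.totient_pos.2 hn).ne'
  obtain ⟨z, hz⟩ := IsSepClosed.exists_root _ hdeg hsep
  obtain ⟨a₀, rfl⟩ := IsLocalRing.residue_surjective z
  have e1 : IsLocalRing.residue A ((cyclotomic n A).eval a₀) =
      (cyclotomic n (IsLocalRing.ResidueField A)).eval (IsLocalRing.residue A a₀) := by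
    rw [← map_cyclotomic n (IsLocalRing.residue A), Polynomial.eval_map, eval₂_hom]
  have e2 : IsLocalRing.residue A ((cyclotomic n A).derivative.eval a₀) =
      (cyclotomic n (IsLocalRing.ResidueField A)).derivative.eval (IsLocalRing.residue A a₀) := by
    rw [← map_cyclotomic n (IsLocalRing.residue A), derivative_map, Polynomial.eval_map, eval₂_hom]
  have h1 : (cyclotomic n A).eval a₀ ∈ IsLocalRing.maximalIdeal A := by
    rw [← IsLocalRing.residue_eq_zero_iff, e1]
    exact hz
  have h2 : IsUnit ((cyclotomic n A).derivative.eval a₀) := by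
    rw [← IsLocalRing.residue_ne_zero_iff_isUnit, e2]
    exact hsep.eval₂_derivative_ne_zero (RingHom.id _) (by simpa using hz)
  obtain ⟨a, ha, -⟩ := hH.is_henselian (cyclotomic n A) (cyclotomic.monic n A) a₀ h1 h2
  exact ⟨a, ha⟩

theorem main (A : Type u) [CommRing A]
    (hA : EtCoh.IsStrictlyHenselianLocalRing A) (n : ℕ) (hn : 1 ≤ n) (hu : IsUnit (n : A))
    (X : Scheme.{u}) (f : X ⟶ Spec (CommRingCat.of A)) :
    Nonempty (EtCoh.mu X n ≅ EtCoh.const X (ZMod n)) := by
  obtain ⟨a, ha⟩ := exists_root_cyclotomic A hA n hn hu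
  let r : A →+* Γ(X, ⊤) := f.appTop.hom.comp (Scheme.ΓSpecIso (CommRingCat.of A)).inv.hom
  have hunit : IsUnit (n : Γ(X, ⊤)) := by
    have := hu.map r
    rwa [map_natCast] at this
  have hζ : aeval (r a) (cyclotomic n ℤ) = 0 := by
    have h1 : aeval a (cyclotomic n ℤ) = 0 := by
      rw [aeval_def, algebraMap_int_eq, ← Polynomial.eval_map, map_cyclotomic]
      exact ha
    have := aeval_algHom_apply r.toIntAlgHom a (cyclotomic n ℤ)
    rw [h1, map_zero] at this
    exact this
  exact Groth.Agent.S13507.main n hn hunit (r a) hζ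

/-- Let A be a strictly henselian local ring, n ≥ 1 an integer invertible in A, and X a scheme over Spec
A. Then the étale sheaf μ_n of n-th roots of unity on X is isomorphic to the constant sheaf with
value ℤ/n. Only the existence of an isomorphism is asserted; it depends on the choice of a primitive
n-th root of unity in A. -/
theorem result (A : Type u) [CommRing A]
    (hA : EtCoh.IsStrictlyHenselianLocalRing A) (n : ℕ) (hn : 1 ≤ n) (hu : IsUnit (n : A))
    (X : Scheme.{u}) (f : X ⟶ Spec (CommRingCat.of A)) :
    Nonempty (EtCoh.mu X n ≅ EtCoh.const X (ZMod n)) := by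
  exact main A hA n hn hu X f

end Groth.Agent.S14625
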