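import Groth.Statements.S14639
import Mathlib

set_option autoImplicit false
universe u
open Polynomial
open AlgGrp

namespace Groth.Agent.S14639

theorem abstract_main {k : Type u} [Field k] [CharZero k] {R : Type u} [CommRing R] [Algebra k R]
    (u : R) (N : ℕ)
    (H1 : ∀ g : R, ∃ (c : k) (h : R), g = algebraMap k R c + u * h)
    (H2 : u ^ (N+1) = 0) (H3 : u ^ N ≠ 0)
    (A : Subalgebra k R) (σ : R →ₐ[k] R) (hσ : σ u * (1 + u) = u) (hA : A.map σ ≤ A) :
    ∃ n : ℕ, 1 ≤ n ∧ n ≤ N + 1 ∧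
      Subalgebra.toSubmodule A =
        Submodule.span k {1} ⊔ (Ideal.span {u ^ n}).restrictScalars k := by
  classical
  have F3 : ∀ m, m ≤ N → ¬ u ^ (m+1) ∣ u ^ m := by
    rintro m hm ⟨h, hh⟩
    have hnil : IsNilpotent (u * h) := ⟨N+1, by rw [mul_pow, H2, zero_mul]⟩
    have hun : IsUnit (1 - u * h) := hnil.isUnit_one_sub
    have h0 : u ^ m * (1 - u * h) = 0 := by
      have : u ^ m * (1 - u * h) = u ^ m - u ^ (m+1) * h := by ring
      rw [this, ← hh, sub_self]
    have h1 : u ^ m = 0 := (hun.mul_left_eq_zero).mp h0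
    apply H3
    have : u ^ N = u ^ m * u ^ (N - m) := by rw [← pow_add]; congr 1; omega
    rw [this, h1, zero_mul]
  have F2 : ∀ m g, u ^ m ∣ g →
      ∃ (c : k) (h : R), g = algebraMap k R c * u ^ m + u ^ (m+1) * h := by
    rintro m g ⟨g', rfl⟩
    obtain ⟨c, h, rfl⟩ := H1 g'
    exact ⟨c, h, by ring⟩
  obtain ⟨t, ht_def⟩ : ∃ t, t = σ u := ⟨_, rfl⟩
  rw [← ht_def] at hσ
  obtain ⟨e, he_def⟩ : ∃ e, e = 1 - t := ⟨_, rfl⟩
  have ht : t = u * e := by
    rw [he_def]; linear_combination hσ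
  have he : e = 1 - u + u^2 * e := by
    have h1 : e = 1 - u * e := by rw [← ht]; exact he_def
    linear_combination (1 - u) * h1
  have hpow : ∀ m : ℕ, ∃ r : R, e ^ m = 1 - (m : R) * u + u^2 * r := by
    intro m
    induction m with
    | zero => exact ⟨0, by simp⟩
    | succ m ih =>
      obtain ⟨r, hr⟩ := ih
      refine ⟨e + m - m * u * e + r * e, ?_⟩
      rw [pow_succ, hr]
      push_cast
      linear_combination (1 - (m : R) * u) * he
  have G : ∀ h : R, ∃ z, σ h - h = u * z := by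
    intro h
    obtain ⟨c, h', rfl⟩ := H1 h
    refine ⟨e * σ h' - h', ?_⟩
    rw [map_add, map_mul, AlgHom.commutes, ← ht_def, ht]
    ring
  have CA : ∀ m, 1 ≤ m → m + 1 ≤ N → (∃ g ∈ A, u ^ m ∣ g ∧ ¬ u ^ (m+1) ∣ g) →
      ∃ g ∈ A, u ^ (m+1) ∣ g ∧ ¬ u ^ (m+2) ∣ g := by
    rintro m hm1 hmN ⟨g, hgA, hdvd, hndvd⟩
    obtain ⟨c, h, hg⟩ := F2 m g hdvd
    have hc : c ≠ 0 := by
      rintro rfl
      apply hndvd
      rw [hg, map_zero, zero_mul, zero_add]
      exact Dvd.intro _ rfl
    obtain ⟨r, hr⟩ := hpow m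
    obtain ⟨r', hr'⟩ := hpow (m+1)
    obtain ⟨z, hz⟩ := G h
    have hσgA : σ g ∈ A := hA (Subalgebra.mem_map.mpr ⟨g, hgA, rfl⟩)
    have hkey : σ g - g = -(algebraMap k R c * (m : R)) * u ^ (m+1)
        + u ^ (m+2) * (algebraMap k R c * r + z + (-((m:R)+1) + u * r') * σ h) := by
      rw [hg]
      simp only [map_add, map_mul, map_pow, AlgHom.commutes]
      rw [← ht_def, ht, mul_pow, mul_pow, hr, hr']
      push_cast
      linear_combination u ^ (m+1) * hz
    refine ⟨σ g - g, A.sub_mem hσgA hgA, ?_, ?_⟩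
    · rw [hkey]
      exact ⟨-(algebraMap k R c * (m : R)) + u * (algebraMap k R c * r + z
        + (-((m:R)+1) + u * r') * σ h), by ring⟩
    · intro hd
      rw [hkey] at hd
      have hd2 : u ^ (m+2) ∣ (algebraMap k R c * (m : R)) * u ^ (m+1) := by
        have h3 : (algebraMap k R c * (m : R)) * u ^ (m+1)
            = u ^ (m+2) * (algebraMap k R c * r + z + (-((m:R)+1) + u * r') * σ h)
              - (-(algebraMap k R c * (m : R)) * u ^ (m+1)
                + u ^ (m+2) * (algebraMap k R c * r + z + (-((m:R)+1) + u * r') * σ h)) := by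
          ring
        rw [h3]
        exact dvd_sub (Dvd.intro _ rfl) hd
      have hcm : (c * (m : k)) ≠ 0 := mul_ne_zero hc (Nat.cast_ne_zero.mpr (by omega))
      have h4 : algebraMap k R (c * (m:k))⁻¹ * (algebraMap k R c * (m : R)) = 1 := by
        rw [← map_natCast (algebraMap k R) m, ← map_mul, ← map_mul, inv_mul_cancel₀ hcm, map_one]
      apply F3 (m+1) hmN
      have h5 : u ^ (m+1)
          = algebraMap k R (c * (m:k))⁻¹ * ((algebraMap k R c * (m : R)) * u ^ (m+1)) := by
        rw [← mul_assoc, h4, one_mul]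
      rw [h5]
      exact Dvd.dvd.mul_left hd2 _
  let T : ℕ → Prop := fun m => 1 ≤ m ∧ (m = N+1 ∨ ∃ g ∈ A, u ^ m ∣ g ∧ ¬ u ^ (m+1) ∣ g)
  have hT : ∃ m, T m := ⟨N+1, by omega, Or.inl rfl⟩
  obtain ⟨n, hn_def⟩ : ∃ n, n = Nat.find hT := ⟨_, rfl⟩
  have hnT : T n := by rw [hn_def]; exact Nat.find_spec hT
  have hnle : n ≤ N+1 := by rw [hn_def]; exact Nat.find_min' hT ⟨by omega, Or.inl rfl⟩
  have hmin : ∀ m, m < n → ¬ T m := fun m hm => Nat.find_min hT (by rw [← hn_def]; exact hm)
  have CAup : ∀ m, n ≤ m → m ≤ N+1 → T m := by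
    intro m hnm
    induction m, hnm using Nat.le_induction with
    | base => intro _; exact hnT
    | succ m hnm ih =>
      intro hm
      have hTm := ih (by omega)
      refine ⟨by omega, ?_⟩
      rcases hTm with ⟨hm1, hm2 | hm2⟩
      · omega
      · by_cases hmN : m + 1 ≤ N
        · right; exact CA m hm1 hmN hm2
        · left; omega
  have CB : ∀ j m, m + j = N + 1 → n ≤ m → ∀ x, u ^ m ∣ x → x ∈ A := by
    intro j
    induction j with
    | zero =>
      intro m hm _ x hx
      have : m = N+1 := by omega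
      subst this
      rw [H2, zero_dvd_iff] at hx
      rw [hx]; exact A.zero_mem
    | succ j ih =>
      intro m hm hnm x hx
      have ih' := ih (m+1) (by omega) (by omega)
      obtain ⟨hm1, hm2 | ⟨g, hgA, hdvd, hndvd⟩⟩ := CAup m hnm (by omega)
      · omega
      · obtain ⟨c, h, hg⟩ := F2 m g hdvd
        have hc : c ≠ 0 := by
          rintro rfl
          apply hndvd
          rw [hg, map_zero, zero_mul, zero_add]
          exact Dvd.intro _ rfl
        have h1 : u ^ (m+1) * h ∈ A := ih' _ (Dvd.intro _ rfl)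
        have h2 : algebraMap k R c * u ^ m ∈ A := by
          have := A.sub_mem hgA h1
          rwa [hg, add_sub_cancel_right] at this
        have h3 : u ^ m ∈ A := by
          have h4 := A.mul_mem (A.algebraMap_mem c⁻¹) h2
          rwa [← mul_assoc, ← map_mul, inv_mul_cancel₀ hc, map_one, one_mul] at h4
        obtain ⟨c', h', rfl⟩ := F2 m x hx
        exact A.add_mem (A.mul_mem (A.algebraMap_mem c') h3) (ih' _ (Dvd.intro _ rfl))
  have CC : ∀ y ∈ A, u ∣ y → ∀ m, 1 ≤ m → m ≤ n → u ^ m ∣ y := by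
    intro y hyA hy m hm1
    induction m, hm1 using Nat.le_induction with
    | base => intro _; rwa [pow_one]
    | succ m hm1 ih =>
      intro hmn
      have hd := ih (by omega)
      by_contra hnd
      exact hmin m (by omega) ⟨hm1, Or.inr ⟨y, hyA, hd, hnd⟩⟩
  refine ⟨n, hnT.1, hnle, ?_⟩
  apply le_antisymm
  · intro x hx
    have hxA : x ∈ A := hx
    obtain ⟨c, h, rfl⟩ := H1 x
    have h1 : u * h ∈ A := by
      have := A.sub_mem hxA (A.algebraMap_mem c)
      rwa [add_sub_cancel_left] at this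
    have h2 := CC _ h1 (Dvd.intro _ rfl) n hnT.1 le_rfl
    refine Submodule.mem_sup.mpr ⟨algebraMap k R c, ?_, u * h, ?_, rfl⟩
    · rw [Algebra.algebraMap_eq_smul_one]
      exact Submodule.smul_mem _ _ (Submodule.subset_span rfl)
    · exact Ideal.mem_span_singleton.mpr h2
  · apply sup_le
    · rw [Submodule.span_le]
      intro x hx
      rw [Set.mem_singleton_iff] at hx
      rw [hx]; exact A.one_mem
    · intro x hx
      have hx' : u ^ n ∣ x := Ideal.mem_span_singleton.mp hx
      exact CB (N+1-n) n (by omega) le_rfl x hx'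

theorem root_pow (k : Type u) [Field k] (N : ℕ) :
    (AdjoinRoot.root ((X : k[X])^(N+1)))^(N+1) = 0 := by
  have h : AdjoinRoot.mk ((X : k[X])^(N+1)) ((X : k[X])^(N+1)) = 0 := AdjoinRoot.mk_self
  rwa [map_pow, AdjoinRoot.mk_X] at h

theorem root_pow_ne (k : Type u) [Field k] (N : ℕ) :
    (AdjoinRoot.root ((X : k[X])^(N+1)))^N ≠ 0 := by
  intro h
  rw [← AdjoinRoot.mk_X, ← map_pow, AdjoinRoot.mk_eq_zero,
    pow_dvd_pow_iff Polynomial.X_ne_zero Polynomial.not_isUnit_X] at h
  omega

theorem root_H1 (k : Type u) [Field k] (N : ℕ) (g : AdjoinRoot ((X : k[X])^(N+1))) :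
    ∃ (c : k) (h : AdjoinRoot ((X : k[X])^(N+1))),
      g = algebraMap k _ c + AdjoinRoot.root _ * h := by
  obtain ⟨p, rfl⟩ := AdjoinRoot.mk_surjective g
  refine ⟨p.coeff 0, AdjoinRoot.mk _ p.divX, ?_⟩
  conv_lhs => rw [← Polynomial.divX_mul_X_add p]
  rw [map_add, map_mul, AdjoinRoot.mk_X, AdjoinRoot.mk_C, AdjoinRoot.algebraMap_eq]
  ring



/-- Classification of the subalgebras of a truncated polynomial ring that are stable under the unipotent
substitutions, which is the algebraic step behind the classification of curves almost homogeneous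
under the additive group in characteristic zero. Let k be a field of characteristic zero, N ≥ 0 and
R = k[u]/(u^(N+1)). The additive group acts on R through the substitutions u ↦ u/(1 + a u), a in k.
If A is a k-subalgebra of R stable under all these substitutions (stated for every k-algebra
endomorphism σ of R with σ(u)(1 + a u) = u for some a in k), then there is an integer n with 1 ≤ n ≤
N + 1 such that A = k ⊕ (u^n): as a k-subspace, A is the span of 1 plus the ideal generated by u^n.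
(In positive characteristic p and for N ≥ p + 1, the subalgebra generated by u^p is stable and not
of this form.) -/
theorem result (k : Type u) [Field k] [CharZero k]
    (N : ℕ) (A : Subalgebra k (AdjoinRoot ((Polynomial.X : Polynomial k) ^ (N + 1))))
    (hA : ∀ (a : k) (σ : AdjoinRoot ((Polynomial.X : Polynomial k) ^ (N + 1)) →ₐ[k] AdjoinRoot ((Polynomial.X : Polynomial k) ^ (N + 1))),
      σ (AdjoinRoot.root ((Polynomial.X : Polynomial k) ^ (N + 1))) * (1 + algebraMap k (AdjoinRoot ((Polynomial.X : Polynomial k) ^ (N + 1))) a * AdjoinRoot.root ((Polynomial.X : Polynomial k) ^ (N + 1))) = AdjoinRoot.root ((Polynomial.X : Polynomial k) ^ (N + 1)) →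
        A.map σ ≤ A) :
    ∃ n : ℕ, 1 ≤ n ∧ n ≤ N + 1 ∧
      Subalgebra.toSubmodule A =
        Submodule.span k {1} ⊔ (Ideal.span {AdjoinRoot.root ((Polynomial.X : Polynomial k) ^ (N + 1)) ^ n}).restrictScalars k := by
  have H2 := root_pow k N
  have hnil : IsNilpotent (AdjoinRoot.root ((X : k[X])^(N+1))) := ⟨N+1, H2⟩
  obtain ⟨v, hv⟩ := hnil.isUnit_one_add.exists_right_inv
  have hev : Polynomial.eval₂ (Algebra.ofId k (AdjoinRoot ((X : k[X])^(N+1))) : k →+* _)
      (AdjoinRoot.root ((X : k[X])^(N+1)) * v) ((X : k[X])^(N+1)) = 0 := by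
    rw [Polynomial.eval₂_pow, Polynomial.eval₂_X, mul_pow, H2, zero_mul]
  obtain ⟨σ, hσ_def⟩ : ∃ σ, σ = AdjoinRoot.liftAlgHom ((X : k[X])^(N+1))
      (Algebra.ofId k (AdjoinRoot ((X : k[X])^(N+1))))
      (AdjoinRoot.root ((X : k[X])^(N+1)) * v) hev := ⟨_, rfl⟩
  have hσ : σ (AdjoinRoot.root _) * (1 + AdjoinRoot.root _) = AdjoinRoot.root _ := by
    rw [hσ_def, AdjoinRoot.liftAlgHom_root, mul_assoc, mul_comm v, hv, mul_one]
  exact abstract_main (AdjoinRoot.root _) N (root_H1 k N) H2 (root_pow_ne k N) A σ hσ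
    (hA 1 σ (by rw [map_one, one_mul]; exact hσ))


end Groth.Agent.S14639
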