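import Groth.Statements.S14641
import Groth.Agent.Lib.Helper22.ActPts
import Groth.Agent.Lib.Helper22.FpqcPts
-- import your own Groth.Agent.* helpers here

set_option autoImplicit false
universe u
open CategoryTheory MonoidalCategory CartesianMonoidalCategory MonObj GrpObj AlgebraicGeometry CategoryTheory.Limits
open AlgGrp

namespace Groth.Agent.S14641

/-- Over a field k, let G be a k-group scheme of finite type, i : H → G a closed subgroup scheme, and
(Q, o) the quotient G/H: a k-scheme with a G-action and a rational point o exhibiting it as the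
quotient (orbit map flat and surjective, G × H ≅ G ×_Q G). Let n : N → G be a closed subgroup scheme
which is the kernel of the action of G on Q, i.e. for every k-scheme T, a T-point g of G factors
through N exactly when g acts as the identity on Q_T (on all points of Q over T-schemes). Then N is
normal in G and contained in H, and N is the largest such subgroup: every closed subgroup scheme N'
of G which is normal in G and factors through H factors through N. -/
theorem result (k : Type u) [Field k]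
    (G H Q N : Over (Spec (CommRingCat.of k))) [GrpObj G] [LocallyOfFiniteType G.hom] [QuasiCompact G.hom]
    [GrpObj H] (i : H ⟶ G) [IsMonHom i] [IsClosedImmersion i.left]
    (a : AlgGrp.Action G Q) (o : 𝟙_ (Over (Spec (CommRingCat.of k))) ⟶ Q) (hQ : AGF.IsQuotient i Q a o)
    [GrpObj N] (n : N ⟶ G) [IsMonHom n] [IsClosedImmersion n.left]
    (hN : ∀ (T : Over (Spec (CommRingCat.of k))) (g : T ⟶ G),
      (∃ m : T ⟶ N, m ≫ n = g) ↔
        ∀ (T' : Over (Spec (CommRingCat.of k))) (s : T' ⟶ T) (x : T' ⟶ Q),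
          CartesianMonoidalCategory.lift (s ≫ g) x ≫ a.act = x) :
    AlgGrp.IsNormalHom n ∧ (∃ f : N ⟶ H, f ≫ i = n) ∧
      ∀ (N' : Over (Spec (CommRingCat.of k))) [GrpObj N'] (n' : N' ⟶ G) [IsMonHom n'] [IsClosedImmersion n'.left],
        AlgGrp.IsNormalHom n' → (∃ f : N' ⟶ H, f ≫ i = n') → ∃ f' : N' ⟶ N, f' ≫ n = n' := by
  obtain ⟨_, hflat, hsurj, hpb⟩ := hQ
  have hsm : ∀ {T : Over (Spec (CommRingCat.of k))} (g : T ⟶ G) (x : T ⟶ Q),
      CartesianMonoidalCategory.lift g x ≫ a.act = Groth.Agent.Lib.helper22.smul a g x := fun _ _ => rfl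
  -- points of N act trivially
  have hNtriv : ∀ {T : Over (Spec (CommRingCat.of k))} (m : T ⟶ N) (x : T ⟶ Q),
      Groth.Agent.Lib.helper22.smul a (m ≫ n) x = x := by
    intro T m x
    have := (hN T (m ≫ n)).mp ⟨m, rfl⟩ T (𝟙 T) x
    rwa [Category.id_comp] at this
  -- points of H fix o
  have hHfix : ∀ {T : Over (Spec (CommRingCat.of k))} (h : T ⟶ H),
      Groth.Agent.Lib.helper22.smul a (h ≫ i) (toUnit T ≫ o) = toUnit T ≫ o := by
    intro T h
    have hw := hpb.w
    have h1 := congrArg (fun f => CartesianMonoidalCategory.lift (1 : T ⟶ G) h ≫ f) hw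
    simp only [← Category.assoc, lift_fst] at h1
    have h2 : (CartesianMonoidalCategory.lift (1 : T ⟶ G) h ≫ G ◁ i) ≫ μ[G] = (1 : T ⟶ G) * (h ≫ i) := by
      rw [Hom.mul_def]
      congr 1
      ext <;> simp
    rw [h2, _root_.one_mul, Groth.Agent.Lib.helper22.comp_orbitMap,
      Groth.Agent.Lib.helper22.comp_orbitMap, Groth.Agent.Lib.helper22.one_smul] at h1
    exact h1.symm
  refine ⟨?_, ?_, ?_⟩
  · intro T g m
    suffices hsuff : ∃ m', m' ≫ n = g * (m ≫ n) * g⁻¹ by
      obtain ⟨m', hm'⟩ := hsuff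
      exact ⟨m', hm'.symm⟩
    apply (hN T _).mpr
    intro T' s x
    rw [hsm, MonObj.comp_mul, MonObj.comp_mul, GrpObj.comp_inv, Groth.Agent.Lib.helper22.mul_smul,
      Groth.Agent.Lib.helper22.mul_smul, ← Category.assoc, hNtriv,
      Groth.Agent.Lib.helper22.smul_inv_smul]
  · have h1 : (1 : N ⟶ G) ≫ a.orbitMap o = n ≫ a.orbitMap o := by
      rw [Groth.Agent.Lib.helper22.comp_orbitMap, Groth.Agent.Lib.helper22.comp_orbitMap,
        Groth.Agent.Lib.helper22.one_smul]
      have := hNtriv (𝟙 N) (toUnit N ≫ o)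
      rw [Category.id_comp] at this
      exact this.symm
    refine ⟨hpb.lift (1 : N ⟶ G) n h1 ≫ snd G H, ?_⟩
    have h2 := hpb.lift_snd (1 : N ⟶ G) n h1
    have h3 := hpb.lift_fst (1 : N ⟶ G) n h1
    have h4 : hpb.lift (1 : N ⟶ G) n h1 ≫ (G ◁ i) ≫ μ[G] =
        (hpb.lift (1 : N ⟶ G) n h1 ≫ fst G H) * (hpb.lift (1 : N ⟶ G) n h1 ≫ snd G H ≫ i) := by
      rw [Hom.mul_def, ← Category.assoc]
      congr 1
      ext <;> simp
    rw [h4, h3, _root_.one_mul] at h2
    rw [Category.assoc]
    exact h2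
  · intro N' _ n' _ _ hn' ⟨f, hf⟩
    apply (hN N' n').mpr
    intro T' s x
    rw [hsm]
    have hcov : Groth.Agent.Lib.helper22.IsCover (a.orbitMap o) := ⟨hflat, hsurj⟩
    obtain ⟨T'', p, y, hp, hy⟩ := Groth.Agent.Lib.helper22.exists_lift_of_cover (a.orbitMap o) hcov x
    have := hp.epi
    rw [← cancel_epi p, Groth.Agent.Lib.helper22.comp_smul, ← hy,
      Groth.Agent.Lib.helper22.comp_orbitMap, ← Groth.Agent.Lib.helper22.mul_smul]
    obtain ⟨m', hm'⟩ := hn' T'' y⁻¹ (p ≫ s)
    rw [_root_.inv_inv] at hm'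
    have e1 : (p ≫ s ≫ n') * y = y * (m' ≫ n') := by
      rw [← hm', ← Category.assoc]
      group
    rw [e1, Groth.Agent.Lib.helper22.mul_smul, ← hf, ← Category.assoc, hHfix]

end Groth.Agent.S14641
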