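import Groth.Statements.S14643
import Groth.Agent.Lib.Helper14.QuotAct
import Groth.Agent.Lib.Helper14.SepGrpField

set_option autoImplicit false
universe u
open CategoryTheory MonoidalCategory CartesianMonoidalCategory MonObj GrpObj AlgebraicGeometry CategoryTheory.Limits
open AlgGrp

namespace Groth.Agent.S14643

/-- Over a field k, let G be a smooth k-group scheme of finite type acting on a variety X (a separated,
geometrically integral k-scheme of finite type). Let n : N → G be the kernel of the action: a closed
subgroup scheme such that, for every k-scheme T, a T-point of G factors through N exactly when it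
acts as the identity on all points of X over T-schemes. Let π : G → Q be a homomorphism onto a
k-group scheme of finite type which is flat and surjective with kernel N (the quotient G/N). Then
there is a unique action of Q on X inducing the given one along π; this action of Q is faithful (a
T-point of Q acting as the identity on all points of X over T-schemes is the unit); and X is
homogeneous under G (surjective graph morphism (g, x) ↦ (x, g·x)) if and only if it is homogeneous
under Q, and almost homogeneous under G (dominant graph morphism) if and only if it is almost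
homogeneous under Q. -/
theorem result (k : Type u) [Field k]
    (G N Q X : Over (Spec (CommRingCat.of k))) [GrpObj G] [Smooth G.hom] [QuasiCompact G.hom]
    [IsSeparated X.hom] [LocallyOfFiniteType X.hom] [QuasiCompact X.hom] [GeometricallyIntegral X.hom] (a : AlgGrp.Action G X)
    [GrpObj N] (n : N ⟶ G) [IsMonHom n] [IsClosedImmersion n.left]
    (hN : ∀ (T : Over (Spec (CommRingCat.of k))) (g : T ⟶ G),
      (∃ m : T ⟶ N, m ≫ n = g) ↔
        ∀ (T' : Over (Spec (CommRingCat.of k))) (s : T' ⟶ T) (x : T' ⟶ X), CartesianMonoidalCategory.lift (s ≫ g) x ≫ a.act = x)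
    [GrpObj Q] [LocallyOfFiniteType Q.hom] [QuasiCompact Q.hom] (π : G ⟶ Q) [IsMonHom π] [Flat π.left] [Surjective π.left]
    (hker : AlgGrp.IsKernel n π) :
    (∃! b : AlgGrp.Action Q X, (π ▷ X) ≫ b.act = a.act) ∧
    ∀ b : AlgGrp.Action Q X, (π ▷ X) ≫ b.act = a.act →
      (∀ (T : Over (Spec (CommRingCat.of k))) (q : T ⟶ Q),
        (∀ (T' : Over (Spec (CommRingCat.of k))) (s : T' ⟶ T) (x : T' ⟶ X), CartesianMonoidalCategory.lift (s ≫ q) x ≫ b.act = x) → q = 1) ∧
      (Surjective (CartesianMonoidalCategory.lift (CartesianMonoidalCategory.snd G X) a.act).left ↔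
        Surjective (CartesianMonoidalCategory.lift (CartesianMonoidalCategory.snd Q X) b.act).left) ∧
      (IsDominant (CartesianMonoidalCategory.lift (CartesianMonoidalCategory.snd G X) a.act).left ↔
        IsDominant (CartesianMonoidalCategory.lift (CartesianMonoidalCategory.snd Q X) b.act).left) := by
  haveI : IsSeparated Q.hom := Groth.Agent.Lib.Helper14.SepGrpField.isSeparated_of_grpObj Q
  haveI : QuasiCompact (π.left ≫ Q.hom) := by rw [Over.w]; infer_instance
  haveI : QuasiCompact π.left := QuasiCompact.of_comp π.left Q.hom
  have htriv : ∀ (T : Over (Spec (CommRingCat.of k))) (m : T ⟶ N) (x : T ⟶ X),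
      lift (m ≫ n) x ≫ a.act = x := by
    intro T m x
    have := (hN T (m ≫ n)).mp ⟨m, rfl⟩ T (𝟙 T) x
    rwa [Category.id_comp] at this
  haveI hepi : Epi (π ▷ X) := Groth.Agent.Lib.Helper14.QuotAct.epi_whiskerRight π X
  haveI hsurjP : Surjective (π ▷ X).left :=
    Groth.Agent.Lib.Helper14.QuotAct.surjective_whiskerRight π X
  refine ⟨?_, ?_⟩
  · obtain ⟨b, hb⟩ := Groth.Agent.Lib.Helper14.QuotAct.exists_action a n π hker htriv
    refine ⟨b, hb, fun b' hb' => ?_⟩
    have h : b'.act = b.act := by rw [← cancel_epi (π ▷ X), hb, hb']
    cases b
    cases b'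
    congr
  · intro b hb
    refine ⟨?_, ?_, ?_⟩
    · intro T q hq
      -- lift `q` locally to `G`
      haveI : Flat (pullback.fst q π).left := by
        have sq := (IsPullback.of_hasPullback q π).map (Over.forget _)
        exact MorphismProperty.of_isPullback (P := @Flat) sq.flip (inferInstanceAs (Flat π.left))
      haveI : Surjective (pullback.fst q π).left := by
        have sq := (IsPullback.of_hasPullback q π).map (Over.forget _)
        exact MorphismProperty.of_isPullback (P := @Surjective) sq.flip
          (inferInstanceAs (Surjective π.left))
      haveI : Epi (pullback.fst q π) := Groth.Agent.Lib.Helper14.QuotAct.epi_of_ff _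
      set s₀ := pullback.fst q π with hs₀
      set g := pullback.snd q π with hg
      have hsg : s₀ ≫ q = g ≫ π := pullback.condition
      have hgt : ∀ (T' : Over (Spec (CommRingCat.of k))) (s : T' ⟶ pullback q π) (x : T' ⟶ X),
          lift (s ≫ g) x ≫ a.act = x := by
        intro T' s x
        rw [← hb, ← Category.assoc, lift_whiskerRight, Category.assoc, ← hsg, ← Category.assoc]
        exact hq T' (s ≫ s₀) x
      obtain ⟨m, hm⟩ := (hN _ g).mpr hgt
      have hw : n ≫ π = toUnit N ≫ η[Q] := hker.w
      rw [← cancel_epi s₀, hsg, ← hm, Category.assoc, hw, Hom.one_def]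
      simp
    · have hgraph : lift (snd G X) a.act = (π ▷ X) ≫ lift (snd Q X) b.act := by
        apply CartesianMonoidalCategory.hom_ext
        · simp
        · simp [hb]
      rw [hgraph, Over.comp_left]
      constructor
      · intro h
        exact Surjective.of_comp (π ▷ X).left _
      · intro h
        infer_instance
    · have hgraph : lift (snd G X) a.act = (π ▷ X) ≫ lift (snd Q X) b.act := by
        apply CartesianMonoidalCategory.hom_ext
        · simp
        · simp [hb]
      rw [hgraph, Over.comp_left]
      constructor
      · intro h
        exact IsDominant.of_comp (π ▷ X).left _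
      · intro h
        infer_instance

end Groth.Agent.S14643
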