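import Groth.Statements.S14645
import Groth.Agent.Lib.Helper14.KPtsDense2

set_option autoImplicit false
universe u
open CategoryTheory MonoidalCategory CartesianMonoidalCategory MonObj GrpObj AlgebraicGeometry CategoryTheory.Limits
open AlgGrp

namespace Groth.Agent.S14645

/-- Over a field k with algebraic closure K, let G be a smooth k-group scheme of finite type acting on a
variety X (a separated, geometrically integral k-scheme of finite type). Then X is homogeneous under
G, i.e. the graph morphism G × X → X × X, (g, x) ↦ (x, g·x), is surjective, if and only if the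
abstract group G(K) of K-points over k acts transitively on the set X(K): for all K-points x, y of X
there is a K-point g of G with g · x = y. -/
theorem result (k : Type u) [Field k]
    (G X : Over (Spec (CommRingCat.of k))) [GrpObj G] [Smooth G.hom] [QuasiCompact G.hom]
    [IsSeparated X.hom] [LocallyOfFiniteType X.hom] [QuasiCompact X.hom] [GeometricallyIntegral X.hom] (a : AlgGrp.Action G X)
    (K : Type u) [Field K] [Algebra k K] [IsAlgClosure k K] :
    Surjective (CartesianMonoidalCategory.lift (CartesianMonoidalCategory.snd G X) a.act).left ↔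
      ∀ x y : Over.mk (Spec.map (CommRingCat.ofHom (algebraMap k K))) ⟶ X, ∃ g : Over.mk (Spec.map (CommRingCat.ofHom (algebraMap k K))) ⟶ G, CartesianMonoidalCategory.lift g x ≫ a.act = y := by
  haveI : IsAlgClosed K := IsAlgClosure.isAlgClosed k
  haveI : LocallyOfFiniteType G.hom := inferInstance
  haveI hGX : LocallyOfFiniteType (G ⊗ X).hom :=
    Groth.Agent.Lib.Helper14.KPtsDense.locallyOfFiniteType_tensor G X
  haveI hXX : LocallyOfFiniteType (X ⊗ X).hom :=
    Groth.Agent.Lib.Helper14.KPtsDense.locallyOfFiniteType_tensor X X
  set Ψ : G ⊗ X ⟶ X ⊗ X := CartesianMonoidalCategory.lift (CartesianMonoidalCategory.snd G X) a.act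
    with hΨ
  haveI : LocallyOfFiniteType Ψ.left := by
    haveI h1 : LocallyOfFiniteType (Ψ.left ≫ (X ⊗ X).hom) := by rw [Over.w Ψ]; infer_instance
    exact locallyOfFiniteType_of_comp Ψ.left (X ⊗ X).hom
  have hcomp : ∀ (z : Groth.Agent.Lib.Helper14.KPtsDense.ptK (k := k) K ⟶ G ⊗ X),
      z ≫ Ψ = CartesianMonoidalCategory.lift (z ≫ CartesianMonoidalCategory.snd G X)
        (z ≫ a.act) := by
    intro z
    rw [hΨ, CartesianMonoidalCategory.comp_lift]
  constructor
  · intro hs x y
    haveI : Surjective Ψ.left := hs
    obtain ⟨z, hz⟩ := Groth.Agent.Lib.Helper14.KPtsDense.exists_kpt_lift_of_surjective (K := K) Ψ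
      (CartesianMonoidalCategory.lift x y)
    rw [hcomp z] at hz
    have h1 : z ≫ CartesianMonoidalCategory.snd G X = x := by
      have := congrArg (fun t => t ≫ CartesianMonoidalCategory.fst X X) hz
      simpa using this
    have h2 : z ≫ a.act = y := by
      have := congrArg (fun t => t ≫ CartesianMonoidalCategory.snd X X) hz
      simpa using this
    refine ⟨z ≫ CartesianMonoidalCategory.fst G X, ?_⟩
    have h3 : CartesianMonoidalCategory.lift (z ≫ CartesianMonoidalCategory.fst G X) x = z := by
      apply CartesianMonoidalCategory.hom_ext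
      · simp
      · simp [h1]
    rw [h3, h2]
  · intro h
    haveI : QuasiCompact (G ⊗ X).hom := by
      have h1 : (G ⊗ X).hom = (CartesianMonoidalCategory.snd G X).left ≫ X.hom :=
        (Over.w (CartesianMonoidalCategory.snd G X)).symm
      haveI : QuasiCompact (CartesianMonoidalCategory.snd G X).left := by
        change QuasiCompact (Limits.pullback.snd G.hom X.hom); infer_instance
      rw [h1]
      infer_instance
    haveI : IsSeparated (X ⊗ X).hom := by
      have h1 : (X ⊗ X).hom = (CartesianMonoidalCategory.snd X X).left ≫ X.hom :=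
        (Over.w (CartesianMonoidalCategory.snd X X)).symm
      haveI : IsSeparated (CartesianMonoidalCategory.snd X X).left := by
        change IsSeparated (Limits.pullback.snd X.hom X.hom); infer_instance
      rw [h1]
      infer_instance
    haveI : QuasiCompact Ψ.left := by
      haveI h1 : QuasiCompact (Ψ.left ≫ (X ⊗ X).hom) := by rw [Over.w Ψ]; infer_instance
      exact MorphismProperty.of_postcomp (W := @QuasiCompact) (W' := @QuasiSeparated) Ψ.left
        (X ⊗ X).hom inferInstance h1
    apply Groth.Agent.Lib.Helper14.KPtsDense.surjective_of_kpts (K := K) Ψ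
    intro y
    obtain ⟨g, hg⟩ := h (y ≫ CartesianMonoidalCategory.fst X X) (y ≫ CartesianMonoidalCategory.snd X X)
    refine ⟨CartesianMonoidalCategory.lift g (y ≫ CartesianMonoidalCategory.fst X X), ?_⟩
    rw [hcomp, hg]
    apply CartesianMonoidalCategory.hom_ext
    · simp
    · simp

end Groth.Agent.S14645
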