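import Groth.Statements.S1465
import Groth.Agent.Lib.Helper12.FerrandFun2
import Groth.Agent.Lib.Helper12.Ferrand5
import Groth.Agent.Lib.Helper12.Ferrand6
import Groth.Agent.Lib.Helper12.JointProper
import Groth.Agent.Lib.Helper12.QAffAvoid
import Groth.Agent.Lib.Helper12.MilnorQF

set_option autoImplicit false
universe u
open FlatMor

namespace Groth.Agent.S1465

open AlgebraicGeometry CategoryTheory Limits in
/-- Let i : Z → X be a closed immersion and j : Z → Y an integral morphism such that each fibre of j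
lies in the preimage of an affine open of X. Let i' : Z' → X', j' : Z' → Y' and f : X' → X, g : Y' →
Y, h : Z' → Z form cartesian squares over i and j, with f, g, h separated and locally quasi-finite.
Then the pushouts W of (i, j) and W' of (i', j') exist in the category of schemes, the induced W' →
W is separated and locally quasi-finite, and the squares comparing Y' → W', X' → W' with Y → W, X →
W are cartesian. -/
theorem result {X Y Z X' Y' Z' : Scheme.{u}}
    (i : Z ⟶ X) [IsClosedImmersion i] (j : Z ⟶ Y) [IsIntegralHom j]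
    (h3 : ∀ y : Y, ∃ U : X.Opens, IsAffineOpen U ∧ j ⁻¹' {y} ⊆ (i ⁻¹ᵁ U : Set ↑Z))
    (i' : Z' ⟶ X') (j' : Z' ⟶ Y') (f : X' ⟶ X) (g : Y' ⟶ Y) (h : Z' ⟶ Z)
    (hX : IsPullback h i' i f) (hY : IsPullback h j' j g)
    [IsSeparated f] [LocallyQuasiFinite f] [LocallyOfFiniteType f] [IsSeparated g] [LocallyQuasiFinite g] [LocallyOfFiniteType g]
    [IsSeparated h] [LocallyQuasiFinite h] [LocallyOfFiniteType h] :
    ∃ (W W' : Scheme.{u}) (a : Y ⟶ W) (b : X ⟶ W) (a' : Y' ⟶ W') (b' : X' ⟶ W') (k : W' ⟶ W),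
      IsPushout j i a b ∧ IsPushout j' i' a' b' ∧ a' ≫ k = g ≫ a ∧ b' ≫ k = f ≫ b ∧
      IsSeparated k ∧ LocallyQuasiFinite k ∧ LocallyOfFiniteType k ∧ IsPullback g a' a k ∧ IsPullback f b' b k := by
  classical
  have hi' : IsClosedImmersion i' := MorphismProperty.of_isPullback hX inferInstance
  have hj' : IsIntegralHom j' := MorphismProperty.of_isPullback hY inferInstance
  have hX' : IsPullback i' h f i := hX.flip
  have hY' : IsPullback j' h g j := hY.flip
  have hraw := Groth.Agent.Lib.Helper12.Ferrand5.exists_goodPair i j h3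
  have hcov : ∀ y : Y, ∃ k : Groth.Agent.Lib.Helper12.Ferrand.GoodPair i j, y ∈ k.V := by
    intro y
    obtain ⟨U₀, V₀, hU₀, hV₀, hy, hh⟩ := hraw y
    exact ⟨⟨U₀, V₀, hU₀, hV₀, hh⟩, hy⟩
  have haff' : ∀ y' : Y', ∃ U' : X'.Opens, IsAffineOpen U' ∧
      j' ⁻¹' {y'} ⊆ (i' ⁻¹ᵁ U' : Set ↑Z') := by
    intro y'
    obtain ⟨U₀, hU₀, hfib⟩ := h3 (g y')
    exact Groth.Agent.Lib.Helper12.QAffAvoid.exists_affine_of_lqf i j i' j' f g h hX.w hY.w y' U₀
      hU₀ hfib
  have hraw' := Groth.Agent.Lib.Helper12.Ferrand5.exists_goodPair i' j' haff'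
  have hcov' : ∀ y' : Y', ∃ k : Groth.Agent.Lib.Helper12.Ferrand.GoodPair i' j', y' ∈ k.V := by
    intro y'
    obtain ⟨U₀, V₀, hU₀, hV₀, hy, hh⟩ := hraw' y'
    exact ⟨⟨U₀, V₀, hU₀, hV₀, hh⟩, hy⟩
  have hP := Groth.Agent.Lib.Helper12.Ferrand.isPushout i j hcov
  have hP' := Groth.Agent.Lib.Helper12.Ferrand.isPushout i' j' hcov'
  obtain ⟨-, hbcl, haint, -⟩ := Groth.Agent.Lib.Helper12.Ferrand6.of_isPushout i j hraw _ _ hP
  have haint' := haint inferInstance
  obtain ⟨-, hbcl', haint0', -⟩ :=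
    Groth.Agent.Lib.Helper12.Ferrand6.of_isPushout i' j' hraw' _ _ hP'
  have haint'' := haint0' inferInstance
  let k : Groth.Agent.Lib.Helper12.Ferrand.P i' j' ⟶ Groth.Agent.Lib.Helper12.Ferrand.P i j :=
    hP'.desc (f ≫ Groth.Agent.Lib.Helper12.Ferrand.a i j hcov)
      (g ≫ Groth.Agent.Lib.Helper12.Ferrand.b i j hcov)
      (Groth.Agent.Lib.Helper12.FerrandFun.hsq' hP hX' hY')
  have ha : Groth.Agent.Lib.Helper12.Ferrand.a i' j' hcov' ≫ k =
      f ≫ Groth.Agent.Lib.Helper12.Ferrand.a i j hcov := hP'.inl_desc _ _ _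
  have hb : Groth.Agent.Lib.Helper12.Ferrand.b i' j' hcov' ≫ k =
      g ≫ Groth.Agent.Lib.Helper12.Ferrand.b i j hcov := hP'.inr_desc _ _ _
  have hloft : LocallyOfFiniteType k :=
    (Groth.Agent.Lib.Helper12.FerrandFun.iff_of_charts hcov' hP hP' hX' hY' k ha hb
      @LocallyOfFiniteType RingHom.FiniteType (fun ι _ => inferInstance)
      (fun O hO k' hU' hV' =>
        (Groth.Agent.Lib.Helper12.FerrandFun.charts_iff hcov hP hX' hY' O hO k' hU'
          hV').1)).mpr ⟨inferInstance, inferInstance⟩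
  have hlqf : LocallyQuasiFinite k :=
    (Groth.Agent.Lib.Helper12.FerrandFun.iff_of_charts hcov' hP hP' hX' hY' k ha hb
      @LocallyQuasiFinite RingHom.QuasiFinite (fun ι _ => inferInstance)
      (fun O hO k' hU' hV' =>
        Groth.Agent.Lib.Helper12.MilnorQF.charts_iff_qf hcov hP hX' hY' O hO k' hU'
          hV')).mpr ⟨inferInstance, inferInstance⟩
  have hsep : IsSeparated k := by
    have : IsSeparated (Groth.Agent.Lib.Helper12.Ferrand.a i' j' hcov' ≫ k) := by
      rw [ha]; infer_instance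
    have : IsSeparated (Groth.Agent.Lib.Helper12.Ferrand.b i' j' hcov' ≫ k) := by
      rw [hb]; infer_instance
    exact Groth.Agent.Lib.Helper12.JointProper.isSeparated_of_joint
      (Groth.Agent.Lib.Helper12.Ferrand.a i' j' hcov')
      (Groth.Agent.Lib.Helper12.Ferrand.b i' j' hcov') k
      (Groth.Agent.Lib.Helper12.FerrandFun.joint_surj hcov' hP')
  refine ⟨_, _, Groth.Agent.Lib.Helper12.Ferrand.b i j hcov,
    Groth.Agent.Lib.Helper12.Ferrand.a i j hcov, Groth.Agent.Lib.Helper12.Ferrand.b i' j' hcov',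
    Groth.Agent.Lib.Helper12.Ferrand.a i' j' hcov', k, hP.flip, hP'.flip, hb, ha, hsep, hlqf,
    hloft, ?_, ?_⟩
  · exact (Groth.Agent.Lib.Helper12.FerrandFun.isPullback_Y hcov hcov' hP hP' hX' hY' k ha
      hb).flip
  · exact (Groth.Agent.Lib.Helper12.FerrandFun.isPullback_X hcov hcov' hP hP' hX' hY' k ha
      hb).flip

end Groth.Agent.S1465
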