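import Groth.Statements.S14654
import Groth.Agent.Lib.Helper26.GrLoc8

set_option autoImplicit false
universe u
open FiltBl

namespace Groth.Agent.S14654

open AlgebraicGeometry in
/-- Let A be a Noetherian ℕ-graded commutative ring which is normal, i.e. every localization of A at a
prime ideal is an integrally closed domain. Then the scheme Proj A is normal: every local ring of
Proj A is an integrally closed domain. -/
theorem result (A : Type u) [CommRing A] [IsNoetherianRing A]
    (𝒜 : ℕ → AddSubgroup A) [GradedRing 𝒜]
    (hA : ∀ (p : Ideal A) [p.IsPrime], IsDomain (Localization.AtPrime p) ∧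
      IsIntegrallyClosed (Localization.AtPrime p))
    (x : Proj 𝒜) :
    IsDomain ((Proj 𝒜).presheaf.stalk x) ∧ IsIntegrallyClosed ((Proj 𝒜).presheaf.stalk x) := by
  obtain ⟨h1, h2⟩ := Groth.Agent.Lib.helper26.GrLoc.isIntegrallyClosed_atPrime 𝒜
    x.asHomogeneousIdeal.toIdeal x.asHomogeneousIdeal.isHomogeneous hA
  let e := (Proj.stalkIso 𝒜 x).commRingCatIsoToRingEquiv
  haveI : IsDomain ((Proj 𝒜).presheaf.stalk x) :=
    Function.Injective.isDomain e.toRingHom e.injective
  exact ⟨inferInstance, IsIntegrallyClosed.of_equiv e.symm⟩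

end Groth.Agent.S14654
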