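import Groth.Statements.S14666
import Groth.Agent.Lib.Helper14.Rigid8

set_option autoImplicit false
universe u
open CategoryTheory CategoryTheory.Limits AlgebraicGeometry
open AbSch

namespace Groth.Agent.S14666

/-- Let S be a locally Noetherian scheme, ξ : X ⟶ S a proper morphism all of whose geometric fibres are
integral and for which O_S ⟶ ξ_*O_X is an isomorphism (the map Γ(U, O_S) → Γ(ξ⁻¹U, O_X) is bijective
for every open U of S), v : Y ⟶ S an arbitrary S-scheme and f : X ⟶ Y a morphism over S. Let U be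
the set of points s of S such that f sends every point of the fibre ξ⁻¹(s) to one and the same point
of Y. Then U is open in S, and for every morphism τ : T ⟶ S the base change of f to T factors
through the projection X ×_S T ⟶ T — that is, there is r : T ⟶ Y with r ≫ v = τ and fst ≫ f = snd ≫
r on X ×_S T — if and only if τ maps every point of T into U. -/
theorem result {X Y S : Scheme.{u}} [IsLocallyNoetherian S]
    (ξ : X ⟶ S) [IsProper ξ] [GeometricallyIntegral ξ]
    (h0 : ∀ U : S.Opens, Function.Bijective (ξ.app U).hom)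
    (v : Y ⟶ S) (f : X ⟶ Y) (hf : f ≫ v = ξ) :
    IsOpen {s : ↥S | ∃ y : ↥Y, ∀ x : ↥X, ξ.base x = s → f.base x = y} ∧
    ∀ (T : Scheme.{u}) (τ : T ⟶ S),
      ((∃ r : T ⟶ Y, r ≫ v = τ ∧ pullback.fst ξ τ ≫ f = pullback.snd ξ τ ≫ r) ↔
        ∀ t : ↥T, τ.base t ∈ {s : ↥S | ∃ y : ↥Y, ∀ x : ↥X, ξ.base x = s → f.base x = y}) := by
  classical
  have hp : ∀ V : S.Opens, IsIso (ξ.app V) := fun V =>
    (ConcreteCategory.isIso_iff_bijective _).mpr (h0 V)
  haveI : Surjective ξ := inferInstance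
  have hU : {s : ↥S | ∃ y : ↥Y, ∀ x : ↥X, ξ.base x = s → f.base x = y} =
      Groth.Agent.Lib.Helper14.Rigid.TT ξ f := by
    ext s
    constructor
    · rintro ⟨y, hy⟩ x x' hx hx'
      rw [hy x hx, hy x' hx']
    · intro hs
      obtain ⟨x₀, hx₀⟩ := ξ.surjective s
      exact ⟨f.base x₀, fun x hx => hs x x₀ hx hx₀⟩
  have hloc := Groth.Agent.Lib.Helper14.Rigid.exists_local_factor_of_mem_TT ξ f hp
  have hopen : IsOpen (Groth.Agent.Lib.Helper14.Rigid.TT ξ f) := by
    rw [isOpen_iff_forall_mem_open]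
    intro s hs
    obtain ⟨V, hsV, t, ht⟩ := hloc s hs
    exact ⟨V, Groth.Agent.Lib.Helper14.Rigid.subset_TT_of_local_factor ξ f V t ht, V.isOpen, hsV⟩
  rw [hU]
  refine ⟨hopen, ?_⟩
  intro T τ
  constructor
  · rintro ⟨r, hr, hfr⟩ t x x' hx hx'
    have key : ∀ x : X, ξ.base x = τ.base t → f.base x = r.base t := by
      intro x hx
      obtain ⟨z, hz1, hz2⟩ := Scheme.Pullback.exists_preimage_pullback (f := ξ) (g := τ) x t hx
      have h3 := congrArg (fun φ : pullback ξ τ ⟶ Y => φ.base z) hfr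
      have h4 : f.base ((pullback.fst ξ τ).base z) = r.base ((pullback.snd ξ τ).base z) := h3
      rw [← hz1, ← hz2]
      exact h4
    rw [key x hx, key x' hx']
  · intro hτ
    let U' : S.Opens := ⟨Groth.Agent.Lib.Helper14.Rigid.TT ξ f, hopen⟩
    haveI : Surjective (ξ ∣_ U') := IsZariskiLocalAtTarget.restrict ‹Surjective ξ› U'
    have hcl' : IsClosedMap (ξ ∣_ U').base := by
      haveI : UniversallyClosed (ξ ∣_ U') :=
        IsZariskiLocalAtTarget.restrict (inferInstance : UniversallyClosed ξ) U'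
      exact (ξ ∣_ U').isClosedMap
    have hp' : ∀ V, IsIso ((ξ ∣_ U').app V) :=
      Groth.Agent.Lib.Helper14.Rigid.isIso_app_restrict ξ hp U'
    have hval : ∀ x : ↥(ξ ⁻¹ᵁ U'), ((ξ ∣_ U').base x).1 = ξ.base x.1 := by
      intro x
      have := congrArg (fun φ : (ξ ⁻¹ᵁ U').toScheme ⟶ S => φ.base x) (morphismRestrict_ι ξ U')
      exact this
    have hTT' : Groth.Agent.Lib.Helper14.Rigid.TT (ξ ∣_ U') ((ξ ⁻¹ᵁ U').ι ≫ f) = Set.univ := by
      rw [Set.eq_univ_iff_forall]
      intro s x x' hx hx'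
      have h1 : ξ.base x.1 = s.1 := by rw [← hval, hx]
      have h1' : ξ.base x'.1 = s.1 := by rw [← hval, hx']
      exact s.2 x.1 x'.1 h1 h1'
    obtain ⟨r₀, hr₀⟩ := Groth.Agent.Lib.Helper14.Rigid.exists_factor_of_TT_eq_univ (ξ ∣_ U')
      ((ξ ⁻¹ᵁ U').ι ≫ f) hcl' hp' hTT'
    have hrange : Set.range τ.base ⊆ Set.range U'.ι.base := by
      rintro _ ⟨t, rfl⟩
      rw [Scheme.Opens.range_ι]
      exact hτ t
    let τ' := IsOpenImmersion.lift U'.ι τ hrange
    have hτ' : τ' ≫ U'.ι = τ := IsOpenImmersion.lift_fac _ _ _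
    haveI : Epi (ξ ∣_ U') := Groth.Agent.Lib.Helper14.Rigid.epi_restrict ξ hp U'
    have hr₀v : r₀ ≫ v = U'.ι := by
      rw [← cancel_epi (ξ ∣_ U'), ← Category.assoc, ← hr₀, Category.assoc, hf, morphismRestrict_ι]
    refine ⟨τ' ≫ r₀, by rw [Category.assoc, hr₀v, hτ'], ?_⟩
    have hrange2 : Set.range (pullback.fst ξ τ).base ⊆ Set.range (ξ ⁻¹ᵁ U').ι.base := by
      rintro _ ⟨z, rfl⟩
      rw [Scheme.Opens.range_ι]
      show ξ.base ((pullback.fst ξ τ).base z) ∈ U'
      have h5 : ξ.base ((pullback.fst ξ τ).base z) = τ.base ((pullback.snd ξ τ).base z) := by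
        have := congrArg (fun φ : pullback ξ τ ⟶ S => φ.base z)
          (pullback.condition (f := ξ) (g := τ))
        exact this
      rw [h5]
      exact hτ _
    let φ := IsOpenImmersion.lift (ξ ⁻¹ᵁ U').ι (pullback.fst ξ τ) hrange2
    have hφ : φ ≫ (ξ ⁻¹ᵁ U').ι = pullback.fst ξ τ := IsOpenImmersion.lift_fac _ _ _
    have h3 : φ ≫ (ξ ∣_ U') = pullback.snd ξ τ ≫ τ' := by
      rw [← cancel_mono U'.ι, Category.assoc, Category.assoc, morphismRestrict_ι, ← Category.assoc,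
        hφ, hτ', pullback.condition]
    calc pullback.fst ξ τ ≫ f = φ ≫ (ξ ⁻¹ᵁ U').ι ≫ f := by rw [← hφ, Category.assoc]
      _ = φ ≫ (ξ ∣_ U') ≫ r₀ := by rw [hr₀]
      _ = pullback.snd ξ τ ≫ τ' ≫ r₀ := by rw [← Category.assoc, h3, Category.assoc]

end Groth.Agent.S14666
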