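import Groth.Statements.S14667
import Groth.Agent.Lib.Helper14.Rigid6
import Groth.Agent.Lib.Helper14.UnivPush
import Groth.Agent.Lib.Helper21.GeomFibre
import Groth.Agent.Lib.Helper21.Seesaw

set_option autoImplicit false
universe u
open CategoryTheory CategoryTheory.Limits AlgebraicGeometry
open AbSch

namespace Groth.Agent.S14667

/-- Let S be a locally Noetherian scheme, ξ : X ⟶ S a proper flat morphism all of whose geometric fibres
are integral, v : Y ⟶ S a separated morphism and f : X ⟶ Y a morphism over S. Then the set U of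
points s of S such that f sends every point of the fibre ξ⁻¹(s) to one and the same point of Y is
closed and open in S. (Under flatness the condition that O_S ⟶ ξ_*O_X be an isomorphism, assumed for
openness in the non-flat case, holds automatically.) -/
theorem result {X Y S : Scheme.{u}} [IsLocallyNoetherian S]
    (ξ : X ⟶ S) [IsProper ξ] [Flat ξ] [GeometricallyIntegral ξ]
    (v : Y ⟶ S) [IsSeparated v] (f : X ⟶ Y) (hf : f ≫ v = ξ) :
    IsClosed {s : ↥S | ∃ y : ↥Y, ∀ x : ↥X, ξ.base x = s → f.base x = y} ∧ IsOpen {s : ↥S | ∃ y : ↥Y, ∀ x : ↥X, ξ.base x = s → f.base x = y} := by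
  classical
  haveI : GeometricallyConnected ξ :=
    Groth.Agent.Lib.helper21.Seesaw.geometricallyConnected_of_geometricallyIntegral ξ
  have h0 : ∀ y : S, Module.finrank (S.residueField y) Γ(ξ.fiber y, ⊤) = 1 := fun y =>
    Groth.Agent.Lib.helper21.GeomFibre.finrank_fiber_eq_one_of_geom ξ y
  have hp : ∀ V : S.Opens, IsIso (ξ.app V) := by
    intro V
    have h1 : IsIso ((pullback.snd ξ (𝟙 S)).app V) :=
      Groth.Agent.Lib.Helper14.UnivPush.isIso_app ξ h0 (𝟙 S) V
    have e : pullback.snd ξ (𝟙 S) = pullback.fst ξ (𝟙 S) ≫ ξ := by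
      simpa using (pullback.condition (f := ξ) (g := 𝟙 S)).symm
    rw [e, Scheme.Hom.comp_app] at h1
    have h2 : IsIso ((pullback.fst ξ (𝟙 S)).app (ξ ⁻¹ᵁ V)) := inferInstance
    exact @IsIso.of_isIso_comp_right _ _ _ _ _ (ξ.app V)
      ((pullback.fst ξ (𝟙 S)).app (ξ ⁻¹ᵁ V)) h2 h1
  have hsurj : ∀ s : S, ∃ x : X, ξ.base x = s := fun s =>
    Groth.Agent.Lib.Helper14.UnivPush.exists_preimage_of_finrank ξ s (h0 s)
  have hU : {s : ↥S | ∃ y : ↥Y, ∀ x : ↥X, ξ.base x = s → f.base x = y} =
      Groth.Agent.Lib.Helper14.Rigid.TT ξ f := by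
    ext s
    constructor
    · rintro ⟨y, hy⟩ x x' hx hx'
      rw [hy x hx, hy x' hx']
    · intro hs
      obtain ⟨x₀, hx₀⟩ := hsurj s
      exact ⟨f.base x₀, fun x hx => hs x x₀ hx hx₀⟩
  rw [hU]
  have := Groth.Agent.Lib.Helper14.Rigid.isClopen_TT ξ v f hf hp
  exact ⟨this.1, this.2⟩

end Groth.Agent.S14667
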