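import Groth.Statements.S14673
import Mathlib
import Groth.Agent.Lib.Helper6.PSNorm
import Groth.Agent.Lib.Helper6.TSFlat2
import Groth.Agent.Lib.Helper6.GammaCoef

set_option autoImplicit false
universe u
open scoped TensorProduct
open SymTen

namespace Groth.Agent.S14673

open Groth.Agent.Lib.helper6 Groth.Agent.Lib.helper6.GammaGen Groth.Agent.Lib.helper6.GammaUniv

section aux
variable (R : Type u) [CommRing R] (A : Type u) [CommRing A] [Algebra R A] (n : ℕ)

/-- the generators `σ_j(a)` -/
def gens : Set (⨂[R] _ : Fin n, A) := {t : ⨂[R] _ : Fin n, A | ∃ (a : A) (j : ℕ),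
      t = ∑ I ∈ (Finset.univ : Finset (Fin n)).powersetCard j,
        PiTensorProduct.tprod R (fun i : Fin n => if i ∈ I then a else (1 : A))}

theorem prod_single_ite (a : A) (I : Finset (Fin n)) :
    ∏ i ∈ I, PiTensorProduct.singleAlgHom (R := R) (A := fun _ : Fin n => A) i a =
      PiTensorProduct.tprod R (fun i : Fin n => if i ∈ I then a else (1 : A)) := by
  simp only [PiTensorProduct.singleAlgHom_apply, MonoidHom.mulSingle_apply]
  rw [← PiTensorProduct.tprod_prod]
  congr 1
  funext k
  rw [Finset.prod_apply]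
  simp only [Pi.mulSingle_apply]
  exact Finset.prod_ite_eq I k (fun _ => a)

theorem gens_subset_TS : gens R A n ⊆ (SymTen.TS R A n : Set (⨂[R] _ : Fin n, A)) := by
  rintro _ ⟨a, j, rfl⟩
  rw [SetLike.mem_coe, SymTen.mem_TS_iff]
  intro π
  rw [map_sum]
  simp only [PiTensorProduct.reindex_tprod]
  refine Finset.sum_equiv (Equiv.finsetCongr π) ?_ ?_
  · intro I
    simp [Finset.mem_powersetCard]
  · intro I _
    congr 1
    funext i
    simp [Finset.mem_map_equiv]

theorem core (S : Type u) [CommRing S] [Algebra R S] (x : S ⊗[R] A) :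
    (SymTen.tpowLaw R A n).law.toFun' S x ∈
      LinearMap.range ((Algebra.adjoin R (gens R A n)).val.toLinearMap.lTensor S) := by
  classical
  let Φ : S ⊗[R] (Algebra.adjoin R (gens R A n)) →ₐ[S] S ⊗[R] (⨂[R] _ : Fin n, A) :=
    Algebra.TensorProduct.map (AlgHom.id S S) (Algebra.adjoin R (gens R A n)).val
  have hΦ : ∀ w, Φ w = (Algebra.adjoin R (gens R A n)).val.toLinearMap.lTensor S w := by
    intro w
    induction w using TensorProduct.induction_on with
    | zero => simp
    | tmul s e => rfl
    | add x y hx hy => rw [map_add, map_add, hx, hy]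
  let G : Subring (S ⊗[R] (⨂[R] _ : Fin n, A)) := Φ.range.toSubring
  let ι : Fin n → ((S ⊗[R] A) →+* (S ⊗[R] (⨂[R] _ : Fin n, A))) := fun i =>
    (Algebra.TensorProduct.map (AlgHom.id S S)
      (PiTensorProduct.singleAlgHom (R := R) (A := fun _ : Fin n => A) i)).toRingHom
  let P : Set (S ⊗[R] A) := {c | ∃ (s : S) (a : A), c = s ⊗ₜ[R] a}
  have hP : ∀ c : S ⊗[R] A, c ∈ AddSubmonoid.closure P := by
    intro c
    induction c using TensorProduct.induction_on with
    | zero => exact zero_mem _
    | tmul s a => exact AddSubmonoid.subset_closure ⟨s, a, rfl⟩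
    | add x y hx hy => exact add_mem hx hy
  have hσ : ∀ c ∈ P, ∀ j, PSNorm.sig ι c j ∈ G := by
    rintro _ ⟨s, a, rfl⟩ j
    have h1 : PSNorm.sig ι (s ⊗ₜ[R] a) j = Φ ((s ^ j) ⊗ₜ[R]
        (⟨∑ I ∈ (Finset.univ : Finset (Fin n)).powersetCard j,
          PiTensorProduct.tprod R (fun i : Fin n => if i ∈ I then a else (1 : A)),
          Algebra.subset_adjoin ⟨a, j, rfl⟩⟩ : Algebra.adjoin R (gens R A n))) := by
      unfold PSNorm.sig
      show ∑ I ∈ (Finset.univ : Finset (Fin n)).powersetCard j, ∏ i ∈ I,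
        (Algebra.TensorProduct.map (AlgHom.id S S)
          (PiTensorProduct.singleAlgHom (R := R) (A := fun _ : Fin n => A) i)) (s ⊗ₜ[R] a) =
        (s ^ j) ⊗ₜ[R] (∑ I ∈ (Finset.univ : Finset (Fin n)).powersetCard j,
          PiTensorProduct.tprod R (fun i : Fin n => if i ∈ I then a else (1 : A)))
      simp only [Algebra.TensorProduct.map_tmul, AlgHom.id_apply]
      rw [TensorProduct.tmul_sum]
      refine Finset.sum_congr rfl fun I hI => ?_
      rw [TSBasis.prod_tmul, Finset.prod_const, (Finset.mem_powersetCard.mp hI).2,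
        prod_single_ite]
    rw [h1]
    exact ⟨_, rfl⟩
  have hmain := PSNorm.coeff_Nps_mem ι G P hP hσ (PowerSeries.X * PowerSeries.C x) (by simp) n
  rw [PSNorm.coeff_top] at hmain
  have hmain' : ∏ i, ι i x ∈ Φ.range := hmain
  obtain ⟨w, hw⟩ := hmain'
  refine ⟨w, ?_⟩
  rw [← hΦ]
  exact hw

theorem hasLifts_adjoin :
    HasLifts (tsLaw R A n) ((Algebra.adjoin R (gens R A n)).comap (SymTen.TS R A n).val) := by
  intro σ x
  obtain ⟨F, hF⟩ := decomp (A := R) (C := SymTen.TS R A n) σ
    ((tsLaw R A n).law.toFun' (MvPolynomial σ R) x)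
  have hmem : ∀ m : σ →₀ ℕ, coefv (C := SymTen.TS R A n) (MvPolynomial σ R)
      (MvPolynomial.lcoeff R m) ((tsLaw R A n).law.toFun' (MvPolynomial σ R) x) ∈
        (Algebra.adjoin R (gens R A n)).comap (SymTen.TS R A n).val := by
    intro m
    have e1 : ((SymTen.TS R A n).val.toLinearMap)
        (coefv (C := SymTen.TS R A n) (MvPolynomial σ R) (MvPolynomial.lcoeff R m)
          ((tsLaw R A n).law.toFun' (MvPolynomial σ R) x)) =
        coefv (MvPolynomial σ R) (MvPolynomial.lcoeff R m)
          ((SymTen.tpowLaw R A n).law.toFun' (MvPolynomial σ R) x) := by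
      rw [← coefv_lTensor, tsLaw_val]
    obtain ⟨w, hw⟩ := core R A n (MvPolynomial σ R) x
    have e2 : coefv (MvPolynomial σ R) (MvPolynomial.lcoeff R m)
          ((SymTen.tpowLaw R A n).law.toFun' (MvPolynomial σ R) x) =
        (Algebra.adjoin R (gens R A n)).val.toLinearMap
          (coefv (MvPolynomial σ R) (MvPolynomial.lcoeff R m) w) := by
      rw [← hw, coefv_lTensor]
    rw [Subalgebra.mem_comap]
    have e3 : (SymTen.TS R A n).val
        (coefv (C := SymTen.TS R A n) (MvPolynomial σ R) (MvPolynomial.lcoeff R m)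
          ((tsLaw R A n).law.toFun' (MvPolynomial σ R) x)) =
        ((coefv (MvPolynomial σ R) (MvPolynomial.lcoeff R m) w :
          Algebra.adjoin R (gens R A n)) : ⨂[R] _ : Fin n, A) := e1.trans e2
    rw [e3]
    exact (coefv (MvPolynomial σ R) (MvPolynomial.lcoeff R m) w).2
  rw [LinearMap.mem_range]
  refine ⟨∑ m ∈ F, (MvPolynomial.monomial m (1 : R)) ⊗ₜ[R]
    (⟨_, hmem m⟩ : (Algebra.adjoin R (gens R A n)).comap (SymTen.TS R A n).val), ?_⟩
  rw [map_sum]
  conv_rhs => rw [hF]
  refine Finset.sum_congr rfl fun m _ => ?_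
  rw [LinearMap.lTensor_tmul]
  rfl

theorem TS_le [Module.Flat R A] : SymTen.TS R A n ≤ Algebra.adjoin R (gens R A n) := by
  have htop : (Algebra.adjoin R (gens R A n)).comap (SymTen.TS R A n).val = ⊤ :=
    eq_top_of_hasLifts (TSFlat.isGammaD_tsLaw_of_flat R A n) (hasLifts_adjoin R A n)
  intro u hu
  have h1 : (⟨u, hu⟩ : SymTen.TS R A n) ∈
      (Algebra.adjoin R (gens R A n)).comap (SymTen.TS R A n).val := by
    rw [htop]; exact Algebra.mem_top
  exact h1

end aux



/-- Let R be a commutative ring, A a commutative R-algebra which is flat as an R-module, and n ≥ 0. For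
a ∈ A and j ≥ 0 write σ_j(a) for the j-th elementary symmetric polynomial in the n elements 1 ⊗ ⋯ ⊗
a ⊗ ⋯ ⊗ 1 of the n-fold tensor power of A over R, that is, the sum over the j-element sets I of
indices of the pure tensors having a in the places of I and 1 in the other places. Then the
subalgebra TS^n_R(A) of symmetric tensors (tensors fixed by every permutation of the factors) equals
the R-subalgebra generated by all the σ_j(a). -/
theorem result (R : Type u) [CommRing R] (A : Type u) [CommRing A] [Algebra R A]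
    [Module.Flat R A] (n : ℕ) :
    SymTen.TS R A n = Algebra.adjoin R {t : ⨂[R] _ : Fin n, A | ∃ (a : A) (j : ℕ),
      t = ∑ I ∈ (Finset.univ : Finset (Fin n)).powersetCard j,
        PiTensorProduct.tprod R (fun i : Fin n => if i ∈ I then a else (1 : A))} := by
  show SymTen.TS R A n = Algebra.adjoin R (gens R A n)
  exact le_antisymm (TS_le R A n) (Algebra.adjoin_le (gens_subset_TS R A n))


end Groth.Agent.S14673
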