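import Groth.Statements.S14677
import Mathlib

set_option autoImplicit false
universe u
open CAlg

namespace Groth.Agent.S14677



/-- Let A be a Noetherian commutative ring, I and J ideals of A and M a finitely generated A-module.
Then the map of I-adic completions induced by the inclusion of the submodule JM into M is injective
with image exactly J·M̂, where M̂ is the I-adic completion of M; that is, the completion of JM is J
times the completion of M. (The published statement does not say that A is Noetherian; its proof
uses exactness of completion on finitely generated modules, which needs it, so this row assumes A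
Noetherian.) -/
theorem result (A : Type u) [CommRing A] [IsNoetherianRing A] (I J : Ideal A)
    (M : Type u) [AddCommGroup M] [Module A M] [Module.Finite A M] :
    Function.Injective (AdicCompletion.map I (J • (⊤ : Submodule A M)).subtype) ∧
      LinearMap.range (AdicCompletion.map I (J • (⊤ : Submodule A M)).subtype) =
        (J.map (algebraMap A (AdicCompletion I A))) • (⊤ : Submodule (AdicCompletion I A) (AdicCompletion I M)) := by
  classical
  refine ⟨AdicCompletion.map_injective I (J • (⊤ : Submodule A M)).injective_subtype, ?_⟩
  apply le_antisymm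
  · rintro _ ⟨yh, rfl⟩
    obtain ⟨s, hs⟩ := (isNoetherianRing_iff_ideal_fg A).mp ‹_› J
    have hsJ : ∀ i : s, (i : A) ∈ J := fun i => hs ▸ Ideal.subset_span i.2
    let P : (s → M) →ₗ[A] M := ∑ i : s, (i : A) • (LinearMap.proj i : (s → M) →ₗ[A] M)
    have hPapp : ∀ z : s → M, P z = ∑ i : s, (i : A) • z i := by
      intro z
      show (∑ i : s, (i : A) • (LinearMap.proj i : (s → M) →ₗ[A] M)) z = _
      rw [LinearMap.sum_apply]
      rfl
    have hPN : ∀ z, P z ∈ J • (⊤ : Submodule A M) := by
      intro z
      rw [hPapp]
      refine Submodule.sum_mem _ fun i _ => ?_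
      exact Submodule.smul_mem_smul (hsJ i) Submodule.mem_top
    let p : (s → M) →ₗ[A] ↥(J • (⊤ : Submodule A M)) :=
      LinearMap.codRestrict (J • (⊤ : Submodule A M)) P hPN
    have hp : Function.Surjective p := by
      rintro ⟨y, hy⟩
      have hyr : y ∈ LinearMap.range P := by
        refine Submodule.smul_induction_on hy ?_ ?_
        · intro r hr m _
          rw [← hs] at hr
          obtain ⟨c, -, hc⟩ := Submodule.mem_span_finset.mp hr
          refine ⟨fun i => c i • m, ?_⟩
          rw [hPapp, ← hc, Finset.sum_smul, ← Finset.sum_coe_sort s (fun a => (c a • a) • m)]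
          refine Finset.sum_congr rfl fun i _ => ?_
          rw [smul_smul, smul_eq_mul, mul_comm]
        · intro x y hx hy; exact add_mem hx hy
      obtain ⟨z, hz⟩ := hyr
      exact ⟨z, Subtype.ext hz⟩
    obtain ⟨zh, rfl⟩ := AdicCompletion.map_surjective I hp yh
    rw [AdicCompletion.map_comp_apply]
    have hcomp : (J • (⊤ : Submodule A M)).subtype ∘ₗ p = P := LinearMap.ext fun z => rfl
    rw [hcomp]
    have key : AdicCompletion.map I P zh = ∑ i : s, algebraMap A (AdicCompletion I A) (i : A) •
        AdicCompletion.map I (LinearMap.proj i : (s → M) →ₗ[A] M) zh := by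
      apply AdicCompletion.ext
      intro n
      rw [AdicCompletion.val_sum_apply, AdicCompletion.map_val_apply]
      obtain ⟨z, hz⟩ := Submodule.Quotient.mk_surjective _ (zh.val n)
      rw [← hz, LinearMap.reduceModIdeal_apply, hPapp, ← Submodule.mkQ_apply, map_sum]
      refine Finset.sum_congr rfl fun i _ => ?_
      rw [Submodule.mkQ_apply, algebraMap_smul, AdicCompletion.val_smul_apply, AdicCompletion.map_val_apply, ← hz,
        LinearMap.reduceModIdeal_apply, Submodule.Quotient.mk_smul]
      rfl
    rw [key]
    refine Submodule.sum_mem _ fun i _ => Submodule.smul_mem_smul ?_ Submodule.mem_top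
    exact Ideal.mem_map_of_mem _ (hsJ i)
  · have hQ : ∀ r ∈ J.map (algebraMap A (AdicCompletion I A)), ∀ x : AdicCompletion I M,
        r • x ∈ LinearMap.range (AdicCompletion.map I (J • (⊤ : Submodule A M)).subtype) := by
      intro r hr
      refine Submodule.span_induction (p := fun r _ => ∀ x : AdicCompletion I M,
        r • x ∈ LinearMap.range (AdicCompletion.map I (J • (⊤ : Submodule A M)).subtype))
        ?_ ?_ ?_ ?_ hr
      · rintro _ ⟨a, ha, rfl⟩ x
        let μ : M →ₗ[A] ↥(J • (⊤ : Submodule A M)) :=
          LinearMap.codRestrict (J • (⊤ : Submodule A M)) (a • LinearMap.id)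
            (fun m => Submodule.smul_mem_smul ha Submodule.mem_top)
        refine ⟨AdicCompletion.map I μ x, ?_⟩
        rw [AdicCompletion.map_comp_apply]
        apply AdicCompletion.ext
        intro n
        rw [AdicCompletion.map_val_apply, algebraMap_smul, AdicCompletion.val_smul_apply]
        obtain ⟨m, hm⟩ := Submodule.Quotient.mk_surjective _ (x.val n)
        rw [← hm, LinearMap.reduceModIdeal_apply, ← Submodule.Quotient.mk_smul]
        rfl
      · intro x
        rw [zero_smul]; exact zero_mem _
      · intro r r' _ _ h h' x
        rw [add_smul]; exact add_mem (h x) (h' x)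
      · intro b r _ h x
        rw [smul_eq_mul, mul_comm, mul_smul]
        exact h (b • x)
    rw [Submodule.smul_le]
    intro r hr x _
    exact hQ r hr x


end Groth.Agent.S14677
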