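import Groth.Statements.S14679
import Mathlib

set_option autoImplicit false
universe u
open CategoryTheory CategoryTheory.Limits AlgebraicGeometry
open EtBase

namespace Groth.Agent.S14679

open AlgebraicGeometry.Scheme.Pullback in
/-- Abstract form: if the residue field map at `x` is bijective and `Y'` has a single point, there is
exactly one point of `X ×_Y Y'` above `x`. -/
theorem aux {X Y Y' : Scheme.{u}} (f : X ⟶ Y) (g : Y' ⟶ Y) (x : ↥X)
    (hx : Function.Bijective (f.residueFieldMap x).hom) [Subsingleton ↥Y'] (pt : ↥Y')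
    (hpt : f x = g pt) :
    ∃! z : ↥(pullback f g), (pullback.fst f g) z = x := by
  let T₀ : Triplet f g := Triplet.mk' x pt hpt
  -- the tensor has a unique prime
  have hiso1 : IsIso (f.residueFieldMap x) :=
    (ConcreteCategory.isIso_iff_bijective _).mpr hx
  have hiso2 : IsIso ((Y.residueFieldCongr T₀.hx).inv ≫ f.residueFieldMap T₀.x) := by
    change IsIso ((Y.residueFieldCongr hpt).inv ≫ f.residueFieldMap x)
    infer_instance
  have hiso3 : IsIso (T₀.tensorInr) := by
    unfold Triplet.tensorInr
    exact pushout_inr_iso_of_left_iso _ _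
  let e : (Y'.residueField T₀.y) ≃+* T₀.tensor := (asIso T₀.tensorInr).commRingCatIsoToRingEquiv
  have hsub : Subsingleton ↥(Spec T₀.tensor) :=
    (PrimeSpectrum.comapEquiv e).symm.toEquiv.subsingleton
  have hne : Nonempty ↥(Spec T₀.tensor) :=
    inferInstanceAs (Nonempty (PrimeSpectrum T₀.tensor))
  obtain ⟨p₀⟩ := hne
  refine ⟨T₀.SpecTensorTo p₀, Triplet.fst_SpecTensorTo_apply T₀ p₀, fun z hz => ?_⟩
  have hT : Triplet.ofPoint z = T₀ := by
    apply Triplet.ext
    · exact hz
    · exact Subsingleton.elim _ _
  have key : ∀ (T : Triplet f g) (_ : T = T₀) (q : ↥(Spec T.tensor)),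
      T.SpecTensorTo q = T₀.SpecTensorTo p₀ := by
    intro T hT q
    subst hT
    rw [Subsingleton.elim q p₀]
  rw [← SpecTensorTo_SpecOfPoint z]
  exact key _ hT _


/-- Given a morphism of schemes f : X ⟶ Y and a point x ∈ X with image y = f(x), such that the residue
field map κ(y) → κ(x) is bijective; let ℓ be an algebraic extension field of κ(y) and form the base
change X ×_Y Spec ℓ along Spec ℓ ⟶ Spec κ(y) ⟶ Y. Then there is exactly one point of X ×_Y Spec ℓ
mapping to x under the first projection. (The published statement takes ℓ to be an algebraic closure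
of κ(y), noting that any algebraic extension works, and also identifies the local ring at the point
with O_{X,x} ⊗_{O_{Y,y}} ℓ; this row allows any algebraic extension ℓ and states only the first
assertion.) -/
theorem result {X Y : Scheme.{u}} (f : X ⟶ Y) (x : ↥X)
    (hx : Function.Bijective (f.residueFieldMap x).hom)
    (ℓ : Type u) [Field ℓ] [Algebra (Y.residueField (f.base x)) ℓ] [Algebra.IsAlgebraic (Y.residueField (f.base x)) ℓ] :
    ∃! z : ↥(pullback f (Spec.map (CommRingCat.ofHom (algebraMap (Y.residueField (f.base x)) ℓ)) ≫ Y.fromSpecResidueField (f.base x))),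
      (pullback.fst f (Spec.map (CommRingCat.ofHom (algebraMap (Y.residueField (f.base x)) ℓ)) ≫ Y.fromSpecResidueField (f.base x))).base z = x := by
  have hsub : Subsingleton ↥(Spec (CommRingCat.of ℓ)) :=
    inferInstanceAs (Subsingleton (PrimeSpectrum ℓ))
  have hne : Nonempty ↥(Spec (CommRingCat.of ℓ)) :=
    inferInstanceAs (Nonempty (PrimeSpectrum ℓ))
  obtain ⟨pt⟩ := hne
  refine aux f _ x hx pt ?_
  rw [Scheme.Hom.comp_apply, Scheme.fromSpecResidueField_apply]

end Groth.Agent.S14679
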