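import Groth.Statements.S14680
import Mathlib

set_option autoImplicit false
universe u
open CAlg

namespace Groth.Agent.S14680

section Aux
variable {A : Type u} [CommRing A] [IsNoetherianRing A]

lemma L0 (X : Type u) [AddCommGroup X] [Module A X] [Module.Finite A X]
    (h : ∀ (m : Ideal A) [m.IsMaximal], Subsingleton (AdicCompletion m X)) : Subsingleton X := by
  by_contra hne
  have hann : Module.annihilator A X ≠ ⊤ := by
    intro htop
    apply hne
    refine ⟨fun x y => ?_⟩
    have h1 : (1 : A) ∈ Module.annihilator A X := htop ▸ Submodule.mem_top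
    have hx := Module.mem_annihilator.mp h1 x
    have hy := Module.mem_annihilator.mp h1 y
    rw [one_smul] at hx hy
    rw [hx, hy]
  obtain ⟨m, hm, hle⟩ := Ideal.exists_le_maximal _ hann
  have := hm
  have hsub := h m
  have htop : (⊤ : Submodule A X) ≤ m • ⊤ := by
    intro x _
    have h0 : AdicCompletion.of m X x = 0 := Subsingleton.elim _ _
    have h1 : (AdicCompletion.of m X x).val 1 = 0 := by rw [h0]; rfl
    rw [AdicCompletion.of_apply, pow_one] at h1
    exact (Submodule.Quotient.mk_eq_zero _).mp h1
  obtain ⟨r, hr1, hr2⟩ := Submodule.exists_sub_one_mem_and_smul_eq_zero_of_fg_of_le_smul m ⊤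
    Module.Finite.fg_top htop
  have hrann : r ∈ Module.annihilator A X :=
    Module.mem_annihilator.mpr fun x => hr2 x Submodule.mem_top
  have h1m : (1 : A) ∈ m := by
    have := m.sub_mem (hle hrann) hr1
    simpa using this
  exact hm.ne_top ((Ideal.eq_top_iff_one m).mpr h1m)

lemma L1 {X Y : Type u} [AddCommGroup X] [Module A X] [AddCommGroup Y] [Module A Y]
    [Module.Finite A X] [Module.Finite A Y] (h : X →ₗ[A] Y)
    (hh : ∀ (m : Ideal A) [m.IsMaximal], Function.Injective (AdicCompletion.map m h)) :
    Function.Injective h := by
  have hN : IsNoetherian A X := isNoetherian_of_isNoetherianRing_of_finite A X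
  have hs : Subsingleton (LinearMap.ker h) := by
    apply L0 (A := A)
    intro m _
    refine ⟨fun a b => ?_⟩
    have hι : Function.Injective (AdicCompletion.map m (LinearMap.ker h).subtype) :=
      AdicCompletion.map_injective m (Submodule.injective_subtype _)
    apply hι
    apply hh m
    rw [AdicCompletion.map_comp_apply, AdicCompletion.map_comp_apply]
    have h0 : h ∘ₗ (LinearMap.ker h).subtype = 0 := LinearMap.comp_ker_subtype h
    rw [h0, AdicCompletion.map_zero]
    rfl
  rw [← LinearMap.ker_eq_bot]
  exact Submodule.eq_bot_of_subsingleton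

lemma L2 {X Y : Type u} [AddCommGroup X] [Module A X] [AddCommGroup Y] [Module A Y]
    [Module.Finite A X] [Module.Finite A Y] (h : X →ₗ[A] Y)
    (hh : ∀ (m : Ideal A) [m.IsMaximal], Function.Surjective (AdicCompletion.map m h)) :
    Function.Surjective h := by
  have hs : Subsingleton (Y ⧸ LinearMap.range h) := by
    apply L0 (A := A)
    intro m _
    have hπ : Function.Surjective (AdicCompletion.map m (LinearMap.range h).mkQ) :=
      AdicCompletion.map_surjective m (Submodule.mkQ_surjective _)
    have key : ∀ c : AdicCompletion m (Y ⧸ LinearMap.range h), c = 0 := by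
      intro c
      obtain ⟨y, rfl⟩ := hπ c
      obtain ⟨x, rfl⟩ := hh m y
      rw [AdicCompletion.map_comp_apply]
      have h0 : (LinearMap.range h).mkQ ∘ₗ h = 0 := LinearMap.range_mkQ_comp h
      rw [h0, AdicCompletion.map_zero]
      rfl
    exact ⟨fun a b => by rw [key a, key b]⟩
  rw [← LinearMap.range_eq_top]
  exact Submodule.Quotient.subsingleton_iff.mp hs

lemma L3 {X Y : Type u} [AddCommGroup X] [Module A X] [AddCommGroup Y] [Module A Y]
    [Module.Finite A X] [Module.Finite A Y] (h : X →ₗ[A] Y)
    (hh : ∀ (m : Ideal A) [m.IsMaximal], AdicCompletion.map m h = 0) : h = 0 := by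
  have hs : Subsingleton (LinearMap.range h) := by
    apply L0 (A := A)
    intro m _
    have hι : Function.Injective (AdicCompletion.map m (LinearMap.range h).subtype) :=
      AdicCompletion.map_injective m (Submodule.injective_subtype _)
    have hρ : Function.Surjective (AdicCompletion.map m h.rangeRestrict) :=
      AdicCompletion.map_surjective m h.surjective_rangeRestrict
    have key : ∀ c : AdicCompletion m (LinearMap.range h), c = 0 := by
      intro c
      obtain ⟨x, rfl⟩ := hρ c
      apply hι
      rw [AdicCompletion.map_comp_apply, _root_.map_zero]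
      have h0 : (LinearMap.range h).subtype ∘ₗ h.rangeRestrict = h :=
        LinearMap.subtype_comp_codRestrict _ _ _
      rw [h0, hh m]
      rfl
    exact ⟨fun a b => by rw [key a, key b]⟩
  ext x
  have h0 : (⟨h x, LinearMap.mem_range_self h x⟩ : LinearMap.range h) = 0 := Subsingleton.elim _ _
  exact congrArg Subtype.val h0

end Aux



/-- Let A be a Noetherian commutative ring and f : M' → M, g : M → M'' linear maps between finitely
generated A-modules. Then the sequence 0 → M' → M → M'' → 0 is exact — f injective, the image of f
equal to the kernel of g, g surjective — if and only if for every maximal ideal m of A the sequence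
of m-adic completions 0 → M'^ → M^ → M''^ → 0 (maps induced by f and g) is exact in the same sense. -/
theorem result (A : Type u) [CommRing A] [IsNoetherianRing A]
    (M' M M'' : Type u) [AddCommGroup M'] [Module A M'] [AddCommGroup M] [Module A M] [AddCommGroup M''] [Module A M'']
    [Module.Finite A M'] [Module.Finite A M] [Module.Finite A M''] (f : M' →ₗ[A] M) (g : M →ₗ[A] M'') :
    (Function.Injective f ∧ Function.Exact f g ∧ Function.Surjective g) ↔
      ∀ (m : Ideal A) [m.IsMaximal],
        Function.Injective (AdicCompletion.map m f) ∧ Function.Exact (AdicCompletion.map m f) (AdicCompletion.map m g) ∧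
          Function.Surjective (AdicCompletion.map m g) := by
  constructor
  · rintro ⟨hf, hfg, hg⟩ m _
    exact ⟨AdicCompletion.map_injective m hf, AdicCompletion.map_exact hf hfg hg,
      AdicCompletion.map_surjective m hg⟩
  · intro H
    have hf := L1 f (fun m _ => (H m).1)
    have hg := L2 g (fun m _ => (H m).2.2)
    have hgf : g ∘ₗ f = 0 := L3 _ (fun m _ => by
      rw [← AdicCompletion.map_comp]
      exact LinearMap.ext fun x => (H m).2.1.apply_apply_eq_zero x)
    refine ⟨hf, ?_, hg⟩
    refine LinearMap.exact_of_comp_eq_zero_of_ker_le_range hgf ?_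
    have hle : LinearMap.range f ≤ LinearMap.ker g := LinearMap.range_le_ker_iff.mpr hgf
    have hbar : Function.Injective ((LinearMap.range f).liftQ g hle) := by
      apply L1
      intro m _
      rw [injective_iff_map_eq_zero]
      intro c hc
      obtain ⟨y, rfl⟩ := AdicCompletion.map_surjective m
        (Submodule.mkQ_surjective (LinearMap.range f)) c
      rw [AdicCompletion.map_comp_apply] at hc
      have h0 : (LinearMap.range f).liftQ g hle ∘ₗ (LinearMap.range f).mkQ = g :=
        Submodule.liftQ_mkQ _ _ _
      rw [h0] at hc
      obtain ⟨z, rfl⟩ := ((H m).2.1 y).mp hc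
      rw [AdicCompletion.map_comp_apply, LinearMap.range_mkQ_comp, AdicCompletion.map_zero]
      rfl
    intro y hy
    have h1 : (LinearMap.range f).liftQ g hle ((LinearMap.range f).mkQ y) = 0 := by
      rw [Submodule.mkQ_apply, Submodule.liftQ_apply]
      exact hy
    have h2 := (injective_iff_map_eq_zero _).mp hbar _ h1
    exact (Submodule.Quotient.mk_eq_zero _).mp h2


end Groth.Agent.S14680
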