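import Groth.Statements.S1469
import Groth.Agent.Lib.Helper24.SmoothRegularHom
import Groth.Agent.Lib.Helper24.FormalFibreDescent

set_option autoImplicit false
universe u
open FlatMor

namespace Groth.Agent.S1469

/-- A regular homomorphism is normal. -/
theorem isNormalHom_of_isRegularHom (A B : Type u) [CommRing A] [CommRing B] [Algebra A B]
    (h : CAlg.IsRegularHom A B) : EGA4.IsNormalHom A B := by
  refine ⟨h.1, fun p _ => ?_⟩
  intro k' _ _ hfin
  haveI := (h.2 p).2 k' hfin
  exact Groth.Agent.Lib.Helper24.FormalFibreDescent.isNormalRing_of_isRegularRing _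


open AlgebraicGeometry CategoryTheory Limits in
/-- A smooth morphism is normal; concretely, for affine opens U ⊆ f⁻¹(V) the ring map O_Y(V) → O_X(U) is
flat with geometrically normal fibre rings. -/
theorem result {X Y : Scheme.{u}} (f : X ⟶ Y) [Smooth f] (U : X.Opens) (V : Y.Opens) (hU : IsAffineOpen U) (hV : IsAffineOpen V) (hUV : U ≤ f ⁻¹ᵁ V) :
    letI := (f.appLE V U hUV).hom.toAlgebra
    EGA4.IsNormalHom Γ(Y, V) Γ(X, U) := by
  letI := (f.appLE V U hUV).hom.toAlgebra
  have h1 : RingHom.Smooth (f.appLE V U hUV).hom :=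
    HasRingHomProperty.appLE (P := @Smooth) f inferInstance ⟨V, hV⟩ ⟨U, hU⟩ hUV
  haveI : Algebra.Smooth Γ(Y, V) Γ(X, U) := by
    apply RingHom.smooth_algebraMap.1
    rw [RingHom.algebraMap_toAlgebra]
    exact h1
  exact isNormalHom_of_isRegularHom _ _
    (Groth.Agent.Lib.Helper24.SmoothRegularHom.isRegularHom_of_smooth Γ(Y, V) Γ(X, U))

end Groth.Agent.S1469
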