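import Groth.Statements.S14693
import Mathlib

set_option autoImplicit false
universe u
open CategoryTheory AlgebraicGeometry
open SekSuwa

namespace Groth.Agent.S14693

/-- For any commutative ring R, λ ∈ R and N such that λ is a non-zero-divisor and λ^N divides (1 + λX)^N
− 1 in R[X] with quotient P_{λ,N}, the closed subgroup scheme G_{λ,N} = Spec R[T]/(P_{λ,N}(T)) of
the affine R-group G^(λ) = Spec R[T, 1/(1+λT)] (group law s + t + λst) is the kernel of the
homomorphism ψ_{λ,N} : G^(λ) → G^(λ^N), T ↦ P_{λ,N}(T): the square with sides the inclusion G_{λ,N}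
→ G^(λ), ψ_{λ,N}, the unit section of G^(λ^N) and G_{λ,N} → Spec R is cartesian. (The published
text, over a discrete valuation ring and with N = p^n, introduces G_{λ,n} as the kernel of the
isogeny ψ_{λ,n}; this row is that assertion for every N, including the degenerate N = 0 where ψ is
trivial and G_{λ,0} = G^(λ).) -/
theorem result (R : Type u) [CommRing R] (lam : R) (N : ℕ) (h : SekSuwa.DivCond lam N) :
    AlgGrp.IsKernel (SekSuwa.incl R lam N h) (SekSuwa.psi R lam N h) := by
  unfold AlgGrp.IsKernel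
  apply IsPullback.of_map_of_faithful (Over.forget _)
  have hu : (CartesianMonoidalCategory.toUnit (SekSuwa.GK R lam N h)).left =
      Spec.map (CommRingCat.ofHom (algebraMap R (SekSuwa.AK R lam N h))) := by
    rw [← Category.comp_id (CartesianMonoidalCategory.toUnit (SekSuwa.GK R lam N h)).left]
    exact Over.w (CartesianMonoidalCategory.toUnit (SekSuwa.GK R lam N h))
  change IsPullback
    (Spec.map (CommRingCat.ofHom ((SekSuwa.AK.mkHom R lam N h : A R lam →ₐc[R] AK R lam N h) :
      A R lam →+* AK R lam N h)))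
    (CartesianMonoidalCategory.toUnit (SekSuwa.GK R lam N h)).left
    (Spec.map (CommRingCat.ofHom ((SekSuwa.psiHom R lam N h : A R (lam ^ N) →ₐc[R] A R lam) :
      A R (lam ^ N) →+* A R lam)))
    (Spec.map (CommRingCat.ofHom ((Bialgebra.counitAlgHom R (A R (lam ^ N)) :
      A R (lam ^ N) →ₐ[R] R) : A R (lam ^ N) →+* R)))
  rw [hu]
  apply isPullback_SpecMap_of_isPushout
  have hcomm : CommRingCat.ofHom ((SekSuwa.psiHom R lam N h : A R (lam ^ N) →ₐc[R] A R lam) :
      A R (lam ^ N) →+* A R lam) ≫
      CommRingCat.ofHom ((SekSuwa.AK.mkHom R lam N h : A R lam →ₐc[R] AK R lam N h) :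
      A R lam →+* AK R lam N h) =
      CommRingCat.ofHom ((Bialgebra.counitAlgHom R (A R (lam ^ N)) :
      A R (lam ^ N) →ₐ[R] R) : A R (lam ^ N) →+* R) ≫
      CommRingCat.ofHom (algebraMap R (SekSuwa.AK R lam N h)) := by
    ext z
    have := DFunLike.congr_fun (SekSuwa.mkHom_comp_psiHom R lam N h) z
    exact this
  -- algebraMap R A = psiHom ∘ algebraMap R A'
  have key : ∀ (B : CommRingCat.{u}) (f : CommRingCat.of (A R lam) ⟶ B)
      (g : CommRingCat.of R ⟶ B),
      CommRingCat.ofHom ((SekSuwa.psiHom R lam N h : A R (lam ^ N) →ₐc[R] A R lam) :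
        A R (lam ^ N) →+* A R lam) ≫ f =
      CommRingCat.ofHom ((Bialgebra.counitAlgHom R (A R (lam ^ N)) :
        A R (lam ^ N) →ₐ[R] R) : A R (lam ^ N) →+* R) ≫ g →
      (∀ r : R, f.hom (algebraMap R (A R lam) r) = g.hom r) ∧
        f.hom (SekSuwa.kerGen lam N h) = 0 := by
    intro B f g hfg
    constructor
    · intro r
      have h1 := congrArg (fun φ => φ.hom (algebraMap R (A R (lam ^ N)) r)) hfg
      simp only [CommRingCat.hom_comp, CommRingCat.hom_ofHom, RingHom.comp_apply] at h1
      have h2 : (SekSuwa.psiHom R lam N h) (algebraMap R (A R (lam ^ N)) r) =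
          algebraMap R (A R lam) r := ((SekSuwa.psiHom R lam N h : A R (lam ^ N) →ₐc[R] A R lam) : A R (lam ^ N) →ₐ[R] A R lam).commutes r
      have h3 : (Bialgebra.counitAlgHom R (A R (lam ^ N))) (algebraMap R (A R (lam ^ N)) r) =
          r := (Bialgebra.counitAlgHom R (A R (lam ^ N))).commutes r
      have h2' : ((SekSuwa.psiHom R lam N h : A R (lam ^ N) →ₐc[R] A R lam) :
          A R (lam ^ N) →+* A R lam) (algebraMap R (A R (lam ^ N)) r) =
          algebraMap R (A R lam) r := h2
      have h3' : ((Bialgebra.counitAlgHom R (A R (lam ^ N)) :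
          A R (lam ^ N) →ₐ[R] R) : A R (lam ^ N) →+* R) (algebraMap R (A R (lam ^ N)) r) =
          r := h3
      rw [h2', h3'] at h1
      exact h1
    · have h1 := congrArg (fun φ => φ.hom (A.t : A R (lam ^ N))) hfg
      simp only [CommRingCat.hom_comp, CommRingCat.hom_ofHom, RingHom.comp_apply] at h1
      have h2' : ((SekSuwa.psiHom R lam N h : A R (lam ^ N) →ₐc[R] A R lam) :
          A R (lam ^ N) →+* A R lam) (A.t : A R (lam ^ N)) = SekSuwa.kerGen lam N h :=
        SekSuwa.psiHom_t R lam N h
      have h3' : ((Bialgebra.counitAlgHom R (A R (lam ^ N)) :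
          A R (lam ^ N) →ₐ[R] R) : A R (lam ^ N) →+* R) (A.t : A R (lam ^ N)) = 0 :=
        A.counit_t
      rw [h2', h3', map_zero] at h1
      exact h1
  refine ⟨⟨hcomm⟩, ⟨Limits.PushoutCocone.IsColimit.mk _ (fun s => ?_) ?_ ?_ ?_⟩⟩
  · have hk := (key s.pt s.inl s.inr s.condition).2
    exact CommRingCat.ofHom
      (Ideal.Quotient.lift (SekSuwa.kerIdeal lam N h) s.inl.hom (by
        intro a ha
        rw [SekSuwa.kerIdeal, Ideal.mem_span_singleton'] at ha
        obtain ⟨c, rfl⟩ := ha
        rw [map_mul, hk, mul_zero]) : AK R lam N h →+* s.pt)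
  · intro s
    ext z
    rfl
  · intro s
    ext r
    have hk := (key s.pt s.inl s.inr s.condition).1 r
    simp only [CommRingCat.hom_comp, CommRingCat.hom_ofHom, RingHom.comp_apply]
    rw [← hk]
    rfl
  · intro s m hm1 hm2
    ext z
    obtain ⟨z, rfl⟩ := Ideal.Quotient.mk_surjective (I := SekSuwa.kerIdeal lam N h) z
    have := congrArg (fun φ => φ.hom z) hm1
    exact this

end Groth.Agent.S14693
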