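import Groth.Statements.S14695
import Mathlib
import Groth.Agent.S18858
import Groth.Agent.S13152
-- import your own Groth.Agent.* helpers here

set_option autoImplicit false
universe u
open CategoryTheory AlgebraicGeometry
open NonAbH1

namespace Groth.Agent.S14695

/-- In the case where the morphism Y → X is the identity of X: let X be a normal integral scheme
(integral, with every local ring an integrally closed domain), G and G' X-group schemes which are
finite and flat over X, and g : G → G' a homomorphism which becomes an isomorphism after base change
to the spectrum of the function field of X. If an fppf G-torsor P over X becomes trivial after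
extension of the structure group along g — there is an fppf G'-torsor P' over X with a g-equivariant
X-morphism P → P', and P' has a section over X — then P has a section over X. (The published
statement takes G, G' commutative and all schemes Noetherian, allows also composition with the
pull-back along a morphism Y → X admitting a rational section, and is phrased as injectivity of
H¹(X, G) → H¹(Y, G'_Y); this row is the case where Y → X is the identity of X, as the trivial-kernel
assertion the argument establishes, for which commutativity and the Noetherian condition are not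
needed.) -/
theorem result {X : Scheme.{u}} [IsIntegral X]
    (hX : Pi1.IsNormalScheme X) (G G' : Over X) [GrpObj G] [GrpObj G']
    [IsFinite G.hom] [Flat G.hom] [IsFinite G'.hom] [Flat G'.hom]
    (g : G ⟶ G') [IsMonHom g]
    (hg : IsIso ((Over.pullback (X.fromSpecStalk (genericPoint X))).map g))
    (P : Over X) (a : AlgGrp.Action G P) (hP : NonAbH1.IsTorsorFor Scheme.fppfPrecoverage a)
    (P' : Over X) (a' : AlgGrp.Action G' P') (hP' : NonAbH1.IsTorsorFor Scheme.fppfPrecoverage a')
    (hpush : NonAbH1.IsPushforwardAlongSch g a a') (htriv : NonAbH1.HasSectionOver P' (𝟙 X)) :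
    NonAbH1.HasSectionOver P (𝟙 X) := by
  obtain ⟨f, hf⟩ := hpush
  have heq : AlgGrp.Action.IsEquivariant a (a'.restrict g) f := by
    unfold AlgGrp.Action.IsEquivariant
    rw [hf, AlgGrp.Action.restrict_act, ← Category.assoc]
    congr 1
    apply CartesianMonoidalCategory.hom_ext <;> simp
  have heqK := AlgGrp.Action.isEquivariant_bc (X.fromSpecStalk (genericPoint X)) heq
  rw [AlgGrp.Action.bc_restrict] at heqK
  have hPK : NonAbH1.IsTorsorFor Scheme.fpqcPrecoverage
      (a.bc (X.fromSpecStalk (genericPoint X))) := by
    obtain ⟨h1, R, hR, h2⟩ :=
      NonAbH1.isTorsorFor_bc (X.fromSpecStalk (genericPoint X)) Scheme.fppfPrecoverage hP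
    exact ⟨h1, R, Scheme.fppfPrecoverage_le_fpqcPrecoverage _ hR, h2⟩
  have hP'K : NonAbH1.IsTorsorFor Scheme.fpqcPrecoverage
      ((a'.bc (X.fromSpecStalk (genericPoint X))).restrict
        ((Over.pullback (X.fromSpecStalk (genericPoint X))).map g)) := by
    obtain ⟨h1, R, hR, h2⟩ :=
      NonAbH1.isTorsorFor_bc (X.fromSpecStalk (genericPoint X)) Scheme.fppfPrecoverage hP'
    refine ⟨?_, R, Scheme.fppfPrecoverage_le_fpqcPrecoverage _ hR, h2⟩
    unfold NonAbH1.IsPseudoTorsorSch at h1 ⊢
    have e : CartesianMonoidalCategory.lift
        ((a'.bc (X.fromSpecStalk (genericPoint X))).restrict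
          ((Over.pullback (X.fromSpecStalk (genericPoint X))).map g)).act
        (CartesianMonoidalCategory.snd _ _) =
        (MonoidalCategoryStruct.whiskerRight
          ((Over.pullback (X.fromSpecStalk (genericPoint X))).map g) _) ≫
          CartesianMonoidalCategory.lift (a'.bc (X.fromSpecStalk (genericPoint X))).act
            (CartesianMonoidalCategory.snd _ _) := by
      apply CartesianMonoidalCategory.hom_ext <;> simp
    rw [e]
    infer_instance
  have hiso : IsIso ((Over.pullback (X.fromSpecStalk (genericPoint X))).map f) :=
    Groth.Agent.S18858.result _ _ hPK hP'K _ heqK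
  obtain ⟨σ', hσ'⟩ := htriv
  refine Groth.Agent.S13152.result hX G P a hP ⟨?_, ?_⟩
  · exact Limits.pullback.lift (X.fromSpecStalk (genericPoint X) ≫ σ') (𝟙 _)
      (by rw [Category.assoc, hσ', Category.comp_id, Category.id_comp]) ≫
      (inv ((Over.pullback (X.fromSpecStalk (genericPoint X))).map f)).left ≫
      Limits.pullback.fst P.hom (X.fromSpecStalk (genericPoint X))
  · have hw : (inv ((Over.pullback (X.fromSpecStalk (genericPoint X))).map f)).left ≫
        Limits.pullback.snd P.hom (X.fromSpecStalk (genericPoint X)) =
        Limits.pullback.snd P'.hom (X.fromSpecStalk (genericPoint X)) :=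
      Over.w (inv ((Over.pullback (X.fromSpecStalk (genericPoint X))).map f))
    simp only [Category.assoc]
    rw [Limits.pullback.condition, reassoc_of% hw, Limits.pullback.lift_snd_assoc, Category.id_comp]

end Groth.Agent.S14695
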