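import Groth.Statements.S14708
import Mathlib
import Groth.Agent.Lib.Helper13.ExtNat
-- import your own Groth.Agent.* helpers here

set_option autoImplicit false
universe u
open HRes

namespace Groth.Agent.S14708

section Aux
open CategoryTheory AlgebraicGeometry CategoryTheory.Abelian
namespace S14708aux

variable (K : Precoverage Scheme.{u}) (S : Scheme.{u})

/-- pullConst for the identity is the identity-pullback iso at the constant sheaf -/
lemma pullConst_id (M : AddCommGrpCat.{u + 1}) :
    (HRes.pullConst K (𝟙 S) M).inv ≫
      (K.toGrothendieck.overMapPullbackId AddCommGrpCat.{u + 1} S).hom.app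
        ((constantSheaf (QuotSh.J K S) AddCommGrpCat.{u + 1}).obj M) = 𝟙 _ := by
  apply Sheaf.hom_ext
  apply sheafify_hom_ext _ _ _ ((constantSheaf (QuotSh.J K S) AddCommGrpCat.{u + 1}).obj M).property
  rw [ObjectProperty.FullSubcategory.comp_hom, ObjectProperty.FullSubcategory.id_hom]
  erw [← Category.assoc]
  erw [Functor.toSheafify_pullbackSheafificationCompatibility]
  refine NatTrans.ext (funext fun U => ?_)
  simp only [NatTrans.comp_app, Functor.whiskerLeft_app]
  erw [GrothendieckTopology.overMapPullbackId_hom_app_hom_app]
  have := (toSheafify (QuotSh.J K S) ((Functor.const (Over S)ᵒᵖ).obj M)).naturality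
    ((Over.mapId S).inv.app (Opposite.unop U)).op
  erw [← this]
  simp
  rfl

end S14708aux
end Aux


open CategoryTheory AlgebraicGeometry in
/-- Let S be a scheme, K a precoverage on schemes with its big site over S, F an abelian sheaf on that
site and n ≥ 0. For every class x ∈ H^n(S, F), restricting x along the identity of S and then
applying the map induced on cohomology by the canonical isomorphism (𝟙_S)⁻¹ F ≅ F gives back x; this
is the identity law of the presheaf U ↦ H^n(U, F) given by the restriction maps. The statement is
asserted for every precoverage K; it has no hypothesis depending on K. -/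
theorem result (K : Precoverage Scheme.{u}) (S : Scheme.{u})
    (F : BigSite.Ab K S) (n : ℕ) (x : BigSite.H K S F n) :
    Sheaf.H.map ((K.toGrothendieck.overMapPullbackId AddCommGrpCat.{u + 1} S).hom.app F) n
      (HRes.pull K (𝟙 S) F n x) = x := by
  rw [HRes.pull_apply, Sheaf.H.map_apply, Abelian.Ext.comp_assoc_of_third_deg_zero]
  have h1 := Groth.Agent.Lib.Helper13.ExtNat.mapExactFunctor_natTrans
    (BigSite.pullBig K (𝟙 S) AddCommGrpCat.{u + 1}) (𝟭 _)
    (K.toGrothendieck.overMapPullbackId AddCommGrpCat.{u + 1} S).hom x
  rw [Groth.Agent.Lib.Helper13.ExtNat.mapExactFunctor_id] at h1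
  erw [h1]
  rw [← Abelian.Ext.comp_assoc_of_second_deg_zero, Abelian.Ext.mk₀_comp_mk₀]
  erw [S14708aux.pullConst_id]
  simp

end Groth.Agent.S14708
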