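import Groth.Statements.S14709
import Mathlib
import Groth.Agent.Lib.Helper13.ExtNat
-- import your own Groth.Agent.* helpers here

set_option autoImplicit false
universe u
open HRes

namespace Groth.Agent.S14709

section Aux
open CategoryTheory AlgebraicGeometry CategoryTheory.Abelian
namespace S14709aux

variable (K : Precoverage Scheme.{u}) {S T T' : Scheme.{u}} (f : T ⟶ S) (g : T' ⟶ T)

lemma toSheafify_pullConst_inv (M : AddCommGrpCat.{u + 1}) :
    toSheafify (QuotSh.J K T) ((Functor.const (Over T)ᵒᵖ).obj M) ≫ (HRes.pullConst K f M).inv.hom =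
      Functor.whiskerLeft (Over.map f).op
        (toSheafify (QuotSh.J K S) ((Functor.const (Over S)ᵒᵖ).obj M)) := by
  erw [Functor.toSheafify_pullbackSheafificationCompatibility]

@[reassoc]
lemma toSheafify_app_pullConst_inv_app (M : AddCommGrpCat.{u + 1}) (U : (Over T)ᵒᵖ) :
    (toSheafify (QuotSh.J K T) ((Functor.const (Over T)ᵒᵖ).obj M)).app U ≫
      (HRes.pullConst K f M).inv.hom.app U =
    (toSheafify (QuotSh.J K S) ((Functor.const (Over S)ᵒᵖ).obj M)).app
      (Opposite.op ((Over.map f).obj U.unop)) :=
  congr_app (toSheafify_pullConst_inv K f M) U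

/-- pullConst for a composition -/
lemma pullConst_comp (M : AddCommGrpCat.{u + 1}) :
    (HRes.pullConst K (g ≫ f) M).inv =
    (HRes.pullConst K g M).inv ≫ (BigSite.pullBig K g AddCommGrpCat.{u + 1}).map (HRes.pullConst K f M).inv ≫
      (K.toGrothendieck.overMapPullbackComp AddCommGrpCat.{u + 1} g f).hom.app
        ((constantSheaf (QuotSh.J K S) AddCommGrpCat.{u + 1}).obj M) := by
  apply Sheaf.hom_ext
  apply sheafify_hom_ext _ _ _
    ((BigSite.pullBig K (g ≫ f) AddCommGrpCat.{u + 1}).obj
      ((constantSheaf (QuotSh.J K S) AddCommGrpCat.{u + 1}).obj M)).property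
  refine NatTrans.ext (funext fun U => ?_)
  simp only [NatTrans.comp_app, ObjectProperty.FullSubcategory.comp_hom]
  rw [toSheafify_app_pullConst_inv_app K (g ≫ f) M U]
  erw [toSheafify_app_pullConst_inv_app_assoc K g M U]
  have h2 : ((BigSite.pullBig K g AddCommGrpCat.{u + 1}).map (HRes.pullConst K f M).inv).hom.app U =
      (HRes.pullConst K f M).inv.hom.app (Opposite.op ((Over.map g).obj (Opposite.unop U))) := rfl
  rw [h2]
  erw [toSheafify_app_pullConst_inv_app_assoc K f M (Opposite.op ((Over.map g).obj (Opposite.unop U)))]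
  erw [GrothendieckTopology.overMapPullbackComp_hom_app_hom_app]
  have := (toSheafify (QuotSh.J K S) ((Functor.const (Over S)ᵒᵖ).obj M)).naturality
    ((Over.mapComp g f).hom.app (Opposite.unop U)).op
  erw [← this]
  simp

end S14709aux
end Aux


open CategoryTheory AlgebraicGeometry in
/-- Let g : T' ⟶ T and f : T ⟶ S be morphisms of schemes, K a precoverage on schemes with its big sites,
F an abelian sheaf on the big site of S and n ≥ 0. For every x ∈ H^n(S, F), the restriction of x
along g ≫ f is the restriction of x along f, restricted further along g, and then carried along the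
map induced on cohomology by the canonical isomorphism g⁻¹(f⁻¹ F) ≅ (g ≫ f)⁻¹ F; this is the
composition law of the presheaf U ↦ H^n(U, F) given by the restriction maps. The statement is
asserted for every precoverage K; it has no hypothesis depending on K. -/
theorem result (K : Precoverage Scheme.{u}) {S T T' : Scheme.{u}}
    (f : T ⟶ S) (g : T' ⟶ T) (F : BigSite.Ab K S) (n : ℕ) (x : BigSite.H K S F n) :
    HRes.pull K (g ≫ f) F n x =
      Sheaf.H.map ((K.toGrothendieck.overMapPullbackComp AddCommGrpCat.{u + 1} g f).hom.app F) n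
        (HRes.pull K g ((BigSite.pullBig K f AddCommGrpCat.{u + 1}).obj F) n (HRes.pull K f F n x)) := by
  rw [HRes.pull_apply, HRes.pull_apply, HRes.pull_apply, Sheaf.H.map_apply,
    Abelian.Ext.mapExactFunctor_comp, Abelian.Ext.mapExactFunctor_mk₀,
    Groth.Agent.Lib.Helper13.ExtNat.mapExactFunctor_comp_functor,
    Abelian.Ext.comp_assoc_of_third_deg_zero, Abelian.Ext.comp_assoc_of_third_deg_zero]
  have h1 := Groth.Agent.Lib.Helper13.ExtNat.mapExactFunctor_natTrans
    (BigSite.pullBig K f AddCommGrpCat.{u + 1} ⋙ BigSite.pullBig K g AddCommGrpCat.{u + 1})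
    (BigSite.pullBig K (g ≫ f) AddCommGrpCat.{u + 1})
    (K.toGrothendieck.overMapPullbackComp AddCommGrpCat.{u + 1} g f).hom x
  erw [h1]
  rw [← Abelian.Ext.comp_assoc_of_second_deg_zero, ← Abelian.Ext.comp_assoc_of_second_deg_zero,
    Abelian.Ext.mk₀_comp_mk₀, Abelian.Ext.mk₀_comp_mk₀, Category.assoc]
  erw [← S14709aux.pullConst_comp]

end Groth.Agent.S14709
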