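import Groth.Statements.S1471
import Groth.Agent.Lib.Helper5.FiberReduced
import Groth.Agent.S4368

set_option autoImplicit false
universe u
open FlatMor

namespace Groth.Agent.S1471

open AlgebraicGeometry CategoryTheory Limits in
/-- Let f : X → Y and η a generic point of an irreducible component of Y. Then the fibre over η of the
composite X_red → X → Y is reduced; since it is a closed subscheme of X_η with the same underlying
set, this says (X_η)_red = (X_red)_η. -/
theorem result {X Y : Scheme.{u}} (f : X ⟶ Y) (η : Y) (W : Set ↑Y) (hW : W ∈ irreducibleComponents ↑Y) (hη : IsGenericPoint η W) :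
    IsReduced ((X.nilradical.subschemeι ≫ f).fiber η) := by
  have hred : IsReduced X.nilradical.subscheme :=
    (Groth.Agent.S4368.result X X.nilradical (Scheme.support_nilradical X)).2 rfl
  refine Groth.Agent.Lib.helper5.FiberReduced.isReduced_fiber_of_forall_specializes _ η ?_
  intro y hy
  have hcl : closure ({η} : Set ↑Y) ⊆ closure {y} := hy.closure_subset
  have hW' : closure ({η} : Set ↑Y) = W := hη.def
  have hirr : IsIrreducible (closure ({y} : Set ↑Y)) := isIrreducible_singleton.closure
  have hmax : Maximal IsIrreducible W := hW
  have hsub : W ⊆ closure ({y} : Set ↑Y) := hW' ▸ hcl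
  have hle : closure ({y} : Set ↑Y) ⊆ W := hmax.2 hirr hsub
  have hy' : IsGenericPoint y W := Set.Subset.antisymm hle hsub
  exact hy'.eq hη

end Groth.Agent.S1471
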