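import Groth.Statements.S14727
import Mathlib

set_option autoImplicit false
universe u
open ValPrufer

namespace Groth.Agent.S14727

section limit
variable {R : Type u} [CommRing R] (I : Ideal R)
    {M : Type u} [AddCommGroup M] [Module R M] {J : Type u} (N : J → Type u)
    [∀ j, AddCommGroup (N j)] [∀ j, Module R (N j)] (f : ∀ j, M →ₗ[R] N j)

theorem pi_map_bijective_of_levelwise
    (hlev : ∀ n, Function.Bijective (fun (x : M ⧸ (I ^ n • ⊤ : Submodule R M)) (j : J) =>
        (f j).reduceModIdeal (I ^ n) x)) :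
    Function.Bijective (LinearMap.pi (fun j => AdicCompletion.map I (f j))) := by
  constructor
  · intro x x' h
    apply AdicCompletion.ext
    intro n
    apply (hlev n).1
    funext j
    have := congrArg (fun y => (y j).val n) h
    simpa using this
  · intro y
    have hex : ∀ n, ∃ x : M ⧸ (I ^ n • ⊤ : Submodule R M),
        ∀ j, (f j).reduceModIdeal (I ^ n) x = (y j).val n := by
      intro n
      obtain ⟨x, hx⟩ := (hlev n).2 (fun j => (y j).val n)
      exact ⟨x, fun j => congrFun hx j⟩
    choose x hx using hex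
    have hcompat : ∀ {m n} (hmn : m ≤ n), AdicCompletion.transitionMap I M hmn (x n) = x m := by
      intro m n hmn
      apply (hlev m).1
      funext j
      show (f j).reduceModIdeal (I ^ m) (AdicCompletion.transitionMap I M hmn (x n)) =
        (f j).reduceModIdeal (I ^ m) (x m)
      have h1 := LinearMap.congr_fun
        (AdicCompletion.transitionMap_comp_reduceModIdeal I (f j) hmn) (x n)
      have h2 : (f j).reduceModIdeal (I ^ m) (AdicCompletion.transitionMap I M hmn (x n)) =
          AdicCompletion.transitionMap I (N j) hmn ((f j).reduceModIdeal (I ^ n) (x n)) := h1.symm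
      rw [h2, hx, hx]
      exact (y j).2 hmn
    refine ⟨⟨x, hcompat⟩, ?_⟩
    funext j
    apply AdicCompletion.ext
    intro n
    show (AdicCompletion.map I (f j) ⟨x, hcompat⟩).val n = (y j).val n
    rw [AdicCompletion.map_val_apply]
    exact hx n j

end limit

section level
variable {R : Type u} [CommRing R] (I : Ideal R)

/-- kernel of `R → R_P / I^n R_P` -/
noncomputable def q (P : Ideal R) [P.IsPrime] (n : ℕ) : Ideal R :=
  Ideal.comap (algebraMap R (Localization.AtPrime P))
    (Ideal.map (algebraMap R (Localization.AtPrime P)) (I ^ n))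

theorem mem_q (P : Ideal R) [P.IsPrime] (n : ℕ) (x : R) :
    x ∈ q I P n ↔ ∃ s, s ∉ P ∧ s * x ∈ I ^ n := by
  unfold q
  rw [Ideal.mem_comap, IsLocalization.mem_map_algebraMap_iff P.primeCompl]
  constructor
  · rintro ⟨⟨⟨a, ha⟩, ⟨s, hs⟩⟩, h⟩
    simp only at h
    rw [← map_mul, IsLocalization.eq_iff_exists P.primeCompl] at h
    obtain ⟨c, hc⟩ := h
    refine ⟨c * s, P.primeCompl.mul_mem c.2 hs, ?_⟩
    have : c * s * x = c * a := by rw [← hc]; ring
    rw [this]
    exact Ideal.mul_mem_left _ _ ha
  · rintro ⟨s, hs, hsx⟩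
    refine ⟨⟨⟨s * x, hsx⟩, ⟨s, hs⟩⟩, ?_⟩
    simp only
    rw [← map_mul, mul_comm]

variable (hI : ∀ (p : Ideal R), p.IsPrime → I ≤ p → p.IsMaximal)
include hI

theorem exists_pow_mem_q (P : Ideal R) [P.IsPrime] (n : ℕ) (t : R) (ht : t ∈ P) :
    ∃ N : ℕ, t ^ N ∈ q I P n := by
  by_contra hcon
  have hcon' : ∀ N : ℕ, t ^ N ∉ q I P n := fun N hN => hcon ⟨N, hN⟩
  let S : Submonoid R := P.primeCompl ⊔ Submonoid.powers t
  have hdisj : Disjoint ((I ^ n : Ideal R) : Set R) S := by
    rw [Set.disjoint_left]
    intro y hy hyS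
    obtain ⟨s, hs, z, ⟨k, rfl⟩, rfl⟩ := Submonoid.mem_sup.mp hyS
    exact hcon' k ((mem_q I P n _).mpr ⟨s, hs, hy⟩)
  obtain ⟨P', hP', hle, hdisj'⟩ := Ideal.exists_le_prime_disjoint (I ^ n) S hdisj
  have hP'P : P' ≤ P := by
    intro y hy
    by_contra hyP
    exact Set.disjoint_left.mp hdisj' hy (Submonoid.mem_sup_left hyP)
  have hIP' : I ≤ P' := Ideal.IsPrime.le_of_pow_le hle
  have hmax : P'.IsMaximal := hI P' hP' hIP'
  have heq : P' = P := hmax.eq_of_le (Ideal.IsPrime.ne_top inferInstance) hP'P
  have htP' : t ∈ P' := heq ▸ ht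
  exact Set.disjoint_left.mp hdisj' htP' (Submonoid.mem_sup_right (Submonoid.mem_powers t))

theorem le_of_q_le (P : Ideal R) [P.IsPrime] (n : ℕ) (p : Ideal R) [hp : p.IsPrime]
    (h : q I P n ≤ p) : P ≤ p := by
  intro t ht
  obtain ⟨N, hN⟩ := exists_pow_mem_q I hI P n t ht
  exact hp.mem_of_pow_mem N (h hN)

theorem q_sup_q (P P' : Ideal R) [hP : P.IsMaximal] [hP' : P'.IsMaximal] (hne : P ≠ P') (n : ℕ) :
    q I P n ⊔ q I P' n = ⊤ := by
  by_contra hcon
  obtain ⟨p, hp, hle⟩ := Ideal.exists_le_maximal _ hcon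
  have := hp.isPrime
  have h1 : P ≤ p := le_of_q_le I hI P n p (le_trans le_sup_left hle)
  have h2 : P' ≤ p := le_of_q_le I hI P' n p (le_trans le_sup_right hle)
  have e1 : P = p := hP.eq_of_le hp.ne_top h1
  have e2 : P' = p := hP'.eq_of_le hp.ne_top h2
  exact hne (e1.trans e2.symm)

theorem exists_inv_mod_q (P : Ideal R) [hP : P.IsMaximal] (n : ℕ) (s : R) (hs : s ∉ P) :
    ∃ w : R, s * w - 1 ∈ q I P n := by
  obtain ⟨u, v, hv, huv⟩ := hP.exists_inv hs
  obtain ⟨N, hN⟩ := exists_pow_mem_q I hI P n v hv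
  refine ⟨u * ∑ i ∈ Finset.range N, v ^ i, ?_⟩
  have h1 : u * s = 1 - v := by rw [← huv]; ring
  have h2 : s * (u * ∑ i ∈ Finset.range N, v ^ i) - 1 = - v ^ N := by
    have : s * (u * ∑ i ∈ Finset.range N, v ^ i) = (u * s) * ∑ i ∈ Finset.range N, v ^ i := by ring
    rw [this, h1, mul_neg_geom_sum]; ring
  rw [h2]
  exact (Ideal.neg_mem_iff _).mpr hN

theorem exists_approx (P : Ideal R) [hP : P.IsMaximal] (n : ℕ) (y : Localization.AtPrime P) :
    ∃ b : R, algebraMap R (Localization.AtPrime P) b - y ∈
      Ideal.map (algebraMap R (Localization.AtPrime P)) (I ^ n) := by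
  obtain ⟨a, s, rfl⟩ := IsLocalization.exists_mk'_eq P.primeCompl y
  obtain ⟨w, hw⟩ := exists_inv_mod_q I hI P n s.1 s.2
  refine ⟨a * w, ?_⟩
  have h1 : algebraMap R (Localization.AtPrime P) (a * w) - IsLocalization.mk' _ a s =
      IsLocalization.mk' (Localization.AtPrime P) a s *
        algebraMap R (Localization.AtPrime P) (s.1 * w - 1) := by
    have h2 : IsLocalization.mk' (Localization.AtPrime P) a s *
        algebraMap R (Localization.AtPrime P) s.1 = algebraMap R _ a :=
      IsLocalization.mk'_spec _ a s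
    rw [map_sub, map_mul, map_mul, map_one, ← h2]
    ring
  rw [h1]
  exact Ideal.mul_mem_left _ _ hw

theorem levelwise (hR : Finite (MaximalSpectrum R)) (n : ℕ) :
    Function.Bijective (fun (x : R ⧸ (I ^ n • ⊤ : Submodule R R))
      (m : {m : MaximalSpectrum R // I ≤ m.asIdeal}) =>
        (Algebra.linearMap R (Localization.AtPrime m.1.asIdeal)).reduceModIdeal (I ^ n) x) := by
  have hmemR : ∀ z : R, z ∈ (I ^ n • ⊤ : Submodule R R) ↔ z ∈ I ^ n := by
    intro z
    rw [smul_eq_mul, Ideal.mul_top]
  have hmemL : ∀ (m : {m : MaximalSpectrum R // I ≤ m.asIdeal})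
      (z : Localization.AtPrime m.1.asIdeal),
      z ∈ (I ^ n • ⊤ : Submodule R (Localization.AtPrime m.1.asIdeal)) ↔
        z ∈ Ideal.map (algebraMap R (Localization.AtPrime m.1.asIdeal)) (I ^ n) := by
    intro m z
    rw [Ideal.smul_top_eq_map, Submodule.restrictScalars_mem]
  constructor
  · intro x x' h
    obtain ⟨a, rfl⟩ := Submodule.Quotient.mk_surjective _ x
    obtain ⟨a', rfl⟩ := Submodule.Quotient.mk_surjective _ x'
    rw [Submodule.Quotient.eq, hmemR]
    have hz : ∀ m : {m : MaximalSpectrum R // I ≤ m.asIdeal}, a - a' ∈ q I m.1.asIdeal n := by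
      intro m
      have hm := congrFun h m
      simp only [LinearMap.reduceModIdeal_apply] at hm
      rw [Submodule.Quotient.eq, hmemL] at hm
      unfold q
      rw [Ideal.mem_comap, map_sub]
      exact hm
    by_contra hcon
    let K : Ideal R := Submodule.comap (LinearMap.mulRight R (a - a')) (I ^ n)
    have hK : ∀ r, r ∈ K ↔ r * (a - a') ∈ I ^ n := fun r => Iff.rfl
    have hKtop : K ≠ ⊤ := by
      intro htop
      have : (1 : R) ∈ K := by rw [htop]; trivial
      rw [hK, one_mul] at this
      exact hcon this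
    obtain ⟨p, hp, hKp⟩ := Ideal.exists_le_maximal K hKtop
    have hIK : I ^ n ≤ K := fun r hr => (hK r).mpr (Ideal.mul_mem_right _ _ hr)
    have := hp.isPrime
    have hIp : I ≤ p := Ideal.IsPrime.le_of_pow_le (hIK.trans hKp)
    obtain ⟨s, hs, hsz⟩ := (mem_q I p n _).mp (hz ⟨⟨p, hp⟩, hIp⟩)
    exact hs (hKp ((hK s).mpr hsz))
  · intro y
    have hex : ∀ m : {m : MaximalSpectrum R // I ≤ m.asIdeal}, ∃ b : R,
        Submodule.Quotient.mk (algebraMap R (Localization.AtPrime m.1.asIdeal) b) = y m := by
      intro m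
      obtain ⟨y', hy'⟩ := Submodule.Quotient.mk_surjective _ (y m)
      obtain ⟨b, hb⟩ := exists_approx I hI m.1.asIdeal n y'
      refine ⟨b, ?_⟩
      rw [← hy', Submodule.Quotient.eq, hmemL]
      exact hb
    choose b hb using hex
    have hcop : Pairwise (Function.onFun IsCoprime
        (fun m : {m : MaximalSpectrum R // I ≤ m.asIdeal} => q I m.1.asIdeal n)) := by
      intro m m' hne
      show IsCoprime (q I m.1.asIdeal n) (q I m'.1.asIdeal n)
      rw [Ideal.isCoprime_iff_sup_eq]
      apply q_sup_q I hI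
      intro heq
      exact hne (Subtype.ext (MaximalSpectrum.ext heq))
    obtain ⟨x, hx⟩ := Ideal.exists_forall_sub_mem_ideal hcop b
    refine ⟨Submodule.Quotient.mk x, ?_⟩
    funext m
    simp only [LinearMap.reduceModIdeal_apply]
    rw [← hb m, Submodule.Quotient.eq, hmemL]
    have := hx m
    unfold q at this
    rw [Ideal.mem_comap, map_sub] at this
    exact this

end level

/-- Let R be a semilocal ring (finitely many maximal ideals) and I an ideal of R of co-height zero, i.e.
every prime ideal containing I is maximal. Then the canonical map from the I-adic completion of R to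
the product, over the maximal ideals m ⊇ I, of the I-adic completions of the local rings R_m
(equivalently their IR_m-adic completions) is bijective; it is the continuous ring isomorphism of
the source, stated here as bijectivity of the canonical map of completed modules. -/
theorem result
    (R : Type u) [CommRing R] (hR : Finite (MaximalSpectrum R)) (I : Ideal R)
    (hI : ∀ (p : Ideal R), p.IsPrime → I ≤ p → p.IsMaximal) :
    Function.Bijective (LinearMap.pi (fun m : {m : MaximalSpectrum R // I ≤ m.asIdeal} =>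
      AdicCompletion.map I (Algebra.linearMap R (Localization.AtPrime m.1.asIdeal)))) := by
  exact pi_map_bijective_of_levelwise I _ _ (levelwise I hI hR)

end Groth.Agent.S14727
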