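import Groth.Statements.S14728
-- import your own Groth.Agent.* helpers here

set_option autoImplicit false
universe u
open ValPrufer

namespace Groth.Agent.S14728

theorem lemW {R : Type u} [CommRing R] [IsDomain R] (p : Ideal R) [p.IsPrime]
    (hp : ValuationRing (Localization.AtPrime p))
    {C : Type u} [CommRing C] [IsDomain C] (φ : R →+* C)
    (h1 : ∀ u : R, u ∉ p → IsUnit (φ u))
    (h2 : ∀ c : C, ∃ r : R, ∃ w : Cˣ, c = φ r * w) : ValuationRing C := by
  rw [ValuationRing.iff_dvd_total]
  refine ⟨fun c1 c2 => ?_⟩
  obtain ⟨r1, w1, rfl⟩ := h2 c1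
  obtain ⟨r2, w2, rfl⟩ := h2 c2
  -- divisibility in R_p
  have key : ∀ a b : R, (algebraMap R (Localization.AtPrime p) a ∣ algebraMap R (Localization.AtPrime p) b) →
      φ a ∣ φ b := by
    intro a b ⟨c, hc⟩
    obtain ⟨⟨z, u⟩, hzu⟩ := IsLocalization.surj p.primeCompl c
    -- c * u = z
    have : algebraMap R (Localization.AtPrime p) (b * u) = algebraMap R (Localization.AtPrime p) (a * z) := by
      rw [map_mul, map_mul, hc, mul_assoc, hzu]
    have inj : Function.Injective (algebraMap R (Localization.AtPrime p)) :=
      IsLocalization.injective _ p.primeCompl_le_nonZeroDivisors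
    have e := inj this
    obtain ⟨uu, huu⟩ := h1 u u.2
    refine ⟨φ z * ↑uu⁻¹, ?_⟩
    have : φ b * φ u = φ a * φ z := by rw [← map_mul, ← map_mul, e]
    rw [← mul_assoc, ← this, ← huu, mul_assoc, Units.mul_inv, mul_one]
  rcases (ValuationRing.iff_dvd_total.mp hp).total (algebraMap R _ r1) (algebraMap R _ r2) with h | h
  · left
    exact (Units.mul_right_dvd).mpr ((Units.dvd_mul_right).mpr (key _ _ h))
  · right
    exact (Units.mul_right_dvd).mpr ((Units.dvd_mul_right).mpr (key _ _ h))



/-- Let R be a Prüfer domain, i.e. a domain all of whose local rings at primes are valuation rings. (a)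
For a multiplicative subset S, any localisation B = S⁻¹R that is a domain (S not containing 0) is a
Prüfer domain. (b) For a prime ideal I, the quotient R/I is a Prüfer domain. -/
theorem result
    (R : Type u) [CommRing R] [IsDomain R]
    (hR : ∀ (p : Ideal R) [p.IsPrime], ValuationRing (Localization.AtPrime p))
    (S : Submonoid R) (B : Type u) [CommRing B] [IsDomain B] [Algebra R B] [IsLocalization S B]
    (I : Ideal R) [I.IsPrime] :
    (∀ (q : Ideal B) [q.IsPrime], ValuationRing (Localization.AtPrime q)) ∧
      (∀ (q : Ideal (R ⧸ I)) [q.IsPrime], ValuationRing (Localization.AtPrime q)) := by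
  constructor
  · intro q _
    have : (q.comap (algebraMap R B)).IsPrime := Ideal.comap_isPrime _ _
    refine lemW (q.comap (algebraMap R B)) (hR _)
      ((algebraMap B (Localization.AtPrime q)).comp (algebraMap R B)) ?_ ?_
    · intro u hu
      exact IsLocalization.map_units (Localization.AtPrime q)
        (⟨algebraMap R B u, hu⟩ : q.primeCompl)
    · intro c
      obtain ⟨⟨b, t⟩, hbt⟩ := IsLocalization.surj q.primeCompl c
      obtain ⟨⟨r, s⟩, hrs⟩ := IsLocalization.surj S b
      have ut : IsUnit (algebraMap B (Localization.AtPrime q) t) := IsLocalization.map_units _ t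
      have us : IsUnit (algebraMap B (Localization.AtPrime q) (algebraMap R B s)) :=
        (IsLocalization.map_units B s).map _
      refine ⟨r, (ut.unit * us.unit)⁻¹, ?_⟩
      rw [Units.eq_mul_inv_iff_mul_eq]
      simp only [Units.val_mul, IsUnit.unit_spec, RingHom.comp_apply]
      rw [← mul_assoc, hbt, ← map_mul, hrs]
  · intro q _
    have : (q.comap (Ideal.Quotient.mk I)).IsPrime := Ideal.comap_isPrime _ _
    refine lemW (q.comap (Ideal.Quotient.mk I)) (hR _)
      ((algebraMap (R ⧸ I) (Localization.AtPrime q)).comp (Ideal.Quotient.mk I)) ?_ ?_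
    · intro u hu
      exact IsLocalization.map_units (Localization.AtPrime q)
        (⟨Ideal.Quotient.mk I u, hu⟩ : q.primeCompl)
    · intro c
      obtain ⟨⟨b, t⟩, hbt⟩ := IsLocalization.surj q.primeCompl c
      obtain ⟨r, rfl⟩ := Ideal.Quotient.mk_surjective b
      have ut : IsUnit (algebraMap (R ⧸ I) (Localization.AtPrime q) t) := IsLocalization.map_units _ t
      refine ⟨r, ut.unit⁻¹, ?_⟩
      rw [Units.eq_mul_inv_iff_mul_eq]
      simp only [IsUnit.unit_spec, RingHom.comp_apply]
      exact hbt

end Groth.Agent.S14728
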