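import Groth.Statements.S14731
import Mathlib

set_option autoImplicit false
universe u
open ValPrufer

namespace Groth.Agent.S14731

section aux

universe v

/-- Generic smoothness: a field `K`, formally smooth over a Noetherian ring `R` and the fraction
field of a finite type `R`-subalgebra `A₀`, is the fraction field of a finite type smooth
`R`-subalgebra. -/
theorem generic_smooth {R : Type v} {K : Type u} [CommRing R] [IsNoetherianRing R] [Field K] [Algebra R K]
    [Algebra.FormallySmooth R K] (A₀ : Subalgebra R K) [hft : Algebra.FiniteType R A₀]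
    (hsurj : ∀ z : K, ∃ x y : A₀, z = algebraMap A₀ K x / algebraMap A₀ K y) :
    ∃ A : Subalgebra R K, Algebra.FiniteType R A ∧ Algebra.Smooth R A ∧ A₀ ≤ A := by
  classical
  haveI hfp : Algebra.FinitePresentation R A₀ :=
    Algebra.FinitePresentation.of_finiteType.mp hft
  haveI : FaithfulSMul A₀ K :=
    (faithfulSMul_iff_algebraMap_injective A₀ K).mpr Subtype.val_injective
  haveI hfr : IsFractionRing A₀ K := IsFractionRing.of_field A₀ K hsurj
  haveI hK : IsLocalization (⊥ : Ideal A₀).primeCompl K := by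
    rw [Ideal.primeCompl_bot]; exact hfr
  let e : K ≃ₐ[A₀] Localization.AtPrime (⊥ : Ideal A₀) :=
    IsLocalization.algEquiv (⊥ : Ideal A₀).primeCompl K _
  haveI : Algebra.IsSmoothAt R (⊥ : Ideal A₀) :=
    Algebra.FormallySmooth.of_equiv (e.restrictScalars R)
  obtain ⟨g, hg, hsm⟩ := Algebra.IsSmoothAt.exists_notMem_smooth R (⊥ : Ideal A₀)
  have hg0 : g ≠ 0 := fun h => hg (h ▸ Submodule.zero_mem _)
  have hgK : (g : K) ≠ 0 := fun h => hg0 (Subtype.ext h)
  have hf : ∀ y : Submonoid.powers g, IsUnit (A₀.val (y : A₀)) := by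
    rintro ⟨y, n, rfl⟩
    show IsUnit (A₀.val (g ^ n))
    rw [map_pow]
    exact (IsUnit.mk0 _ hgK).pow n
  let φ : Localization.Away g →ₐ[R] K := IsLocalization.liftAlgHom hf
  have hφ_alg : ∀ x : A₀, φ (algebraMap A₀ (Localization.Away g) x) = (x : K) :=
    fun x => IsLocalization.lift_eq hf x
  have hφinj : Function.Injective φ := by
    refine (IsLocalization.lift_injective_iff (hg := hf)).mpr (fun x y => ?_)
    have h1 : Function.Injective (algebraMap A₀ (Localization.Away g)) :=
      IsLocalization.injective _ (powers_le_nonZeroDivisors_of_noZeroDivisors hg0)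
    exact ⟨fun h => congrArg _ (h1 h), fun h => congrArg _ (Subtype.val_injective h)⟩
  let eA : Localization.Away g ≃ₐ[R] φ.range := AlgEquiv.ofInjective φ hφinj
  haveI := hsm.finitePresentation
  refine ⟨φ.range, ?_, ?_, ?_⟩
  · exact Algebra.FiniteType.equiv inferInstance eA
  · exact Algebra.Smooth.of_equiv eA
  · intro x hx
    exact ⟨algebraMap A₀ (Localization.Away g) ⟨x, hx⟩, hφ_alg ⟨x, hx⟩⟩

end aux



/-- In characteristic zero, every field K generated as a field by a finite set is the fraction field of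
a subring A of K of finite type and smooth over the integers. -/
theorem result
    (K : Type u) [Field K] [CharZero K] (s : Finset K)
    (hs : Subfield.closure (↑s : Set K) = ⊤) :
    ∃ A : Subring K, Algebra.FiniteType ℤ A ∧ Algebra.Smooth ℤ A ∧ IsFractionRing A K := by
  classical
  let A₀ : Subalgebra ℤ K := Algebra.adjoin ℤ (s : Set K)
  haveI hft : Algebra.FiniteType ℤ A₀ :=
    (Subalgebra.fg_iff_finiteType A₀).mp (Subalgebra.fg_adjoin_finset s)
  haveI : FaithfulSMul A₀ K :=
    (faithfulSMul_iff_algebraMap_injective A₀ K).mpr Subtype.val_injective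
  have hsurj : ∀ z : K, ∃ x y : A₀, z = algebraMap A₀ K x / algebraMap A₀ K y := by
    intro z
    have hz : z ∈ Subfield.closure (s : Set K) := by rw [hs]; exact Subfield.mem_top z
    obtain ⟨x, hx, y, hy, rfl⟩ := Subfield.mem_closure_iff.mp hz
    have hle : Subring.closure (s : Set K) ≤ A₀.toSubring :=
      Subring.closure_le.mpr (fun a ha => Algebra.subset_adjoin ha)
    exact ⟨⟨x, hle hx⟩, ⟨y, hle hy⟩, rfl⟩
  haveI hfr : IsFractionRing A₀ K := IsFractionRing.of_field A₀ K hsurj
  haveI : Algebra.EssFiniteType A₀ K :=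
    Algebra.EssFiniteType.of_isLocalization K (nonZeroDivisors A₀)
  haveI : Algebra.EssFiniteType ℤ K := Algebra.EssFiniteType.comp ℤ A₀ K
  haveI : Algebra.EssFiniteType ℚ K := Algebra.EssFiniteType.of_comp ℤ ℚ K
  haveI : Algebra.FormallySmooth ℚ K := inferInstance
  haveI : Algebra.FormallySmooth ℤ ℚ :=
    Algebra.FormallySmooth.of_isLocalization (nonZeroDivisors ℤ)
  haveI : Algebra.FormallySmooth ℤ K := Algebra.FormallySmooth.comp ℤ ℚ K
  obtain ⟨A, hA1, hA2, hle⟩ := generic_smooth A₀ hsurj
  let eR : ↥A ≃+* ↥A.toSubring :=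
    { toFun := fun x => ⟨x.1, x.2⟩
      invFun := fun x => ⟨x.1, x.2⟩
      left_inv := fun _ => rfl
      right_inv := fun _ => rfl
      map_mul' := fun _ _ => rfl
      map_add' := fun _ _ => rfl }
  let eA : ↥A ≃ₐ[ℤ] ↥A.toSubring :=
    AlgEquiv.ofRingEquiv (f := eR) (fun r => by rw [eq_intCast, eq_intCast, map_intCast])
  refine ⟨A.toSubring, ?_, ?_, ?_⟩
  · exact Algebra.FiniteType.equiv hA1 eA
  · exact Algebra.Smooth.of_equiv eA
  · haveI : FaithfulSMul A.toSubring K :=
      (faithfulSMul_iff_algebraMap_injective A.toSubring K).mpr Subtype.val_injective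
    refine IsFractionRing.of_field _ K (fun z => ?_)
    obtain ⟨x, y, hxy⟩ := hsurj z
    exact ⟨⟨(x : K), hle x.2⟩, ⟨(y : K), hle y.2⟩, hxy⟩


end Groth.Agent.S14731
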