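import Groth.Statements.S14732
import Mathlib

set_option autoImplicit false
universe u
open ValPrufer

namespace Groth.Agent.S14732



/-- In characteristic p > 0, a field K that is finitely generated over its prime subfield F (a field
with p elements) is the fraction field of an integral scheme smooth over F; concretely, there is an
F-subalgebra A of K, of finite type and smooth over F, whose fraction field is K. -/
theorem result
    (K : Type u) [Field K] (p : ℕ) [Fact p.Prime] [CharP K p] (s : Finset K)
    (hs : Subfield.closure (↑s : Set K) = ⊤) :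
    ∃ A : Subalgebra (⊥ : Subfield K) K, Algebra.FiniteType (⊥ : Subfield K) A ∧
      Algebra.Smooth (⊥ : Subfield K) A ∧ IsFractionRing A K := by
  classical
  letI : Algebra (ZMod p) K := ZMod.algebra K p
  haveI : Finite (⊥ : Subfield K) := by
    have h : (⊥ : Subfield K) = (algebraMap (ZMod p) K).fieldRange :=
      Subfield.bot_eq_of_zMod_algebra p
    rw [h]
    exact Set.finite_coe_iff.mpr ((Set.finite_range (algebraMap (ZMod p) K)).subset
      (fun x hx => RingHom.mem_fieldRange.mp hx))
  let A₀ : Subalgebra (⊥ : Subfield K) K := Algebra.adjoin (⊥ : Subfield K) (s : Set K)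
  haveI hft : Algebra.FiniteType (⊥ : Subfield K) A₀ :=
    (Subalgebra.fg_iff_finiteType A₀).mp (Subalgebra.fg_adjoin_finset s)
  haveI hfp : Algebra.FinitePresentation (⊥ : Subfield K) A₀ :=
    Algebra.FinitePresentation.of_finiteType.mp hft
  haveI : FaithfulSMul A₀ K :=
    (faithfulSMul_iff_algebraMap_injective A₀ K).mpr Subtype.val_injective
  have hsurj : ∀ z : K, ∃ x y : A₀, z = algebraMap A₀ K x / algebraMap A₀ K y := by
    intro z
    have hz : z ∈ Subfield.closure (s : Set K) := by rw [hs]; exact Subfield.mem_top z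
    obtain ⟨x, hx, y, hy, rfl⟩ := Subfield.mem_closure_iff.mp hz
    have hle : Subring.closure (s : Set K) ≤ A₀.toSubring :=
      Subring.closure_le.mpr (fun a ha => Algebra.subset_adjoin ha)
    exact ⟨⟨x, hle hx⟩, ⟨y, hle hy⟩, rfl⟩
  haveI hfr : IsFractionRing A₀ K := IsFractionRing.of_field A₀ K hsurj
  haveI hK : IsLocalization (⊥ : Ideal A₀).primeCompl K := by
    rw [Ideal.primeCompl_bot]; exact hfr
  let e : K ≃ₐ[A₀] Localization.AtPrime (⊥ : Ideal A₀) :=
    IsLocalization.algEquiv (⊥ : Ideal A₀).primeCompl K _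
  haveI : Algebra.EssFiniteType A₀ K :=
    Algebra.EssFiniteType.of_isLocalization K (nonZeroDivisors A₀)
  haveI : Algebra.EssFiniteType (⊥ : Subfield K) K :=
    Algebra.EssFiniteType.comp (⊥ : Subfield K) A₀ K
  haveI : Algebra.FormallySmooth (⊥ : Subfield K) K := inferInstance
  haveI : Algebra.IsSmoothAt (⊥ : Subfield K) (⊥ : Ideal A₀) :=
    Algebra.FormallySmooth.of_equiv (e.restrictScalars (⊥ : Subfield K))
  obtain ⟨g, hg, hsm⟩ := Algebra.IsSmoothAt.exists_notMem_smooth (⊥ : Subfield K) (⊥ : Ideal A₀)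
  have hg0 : g ≠ 0 := fun h => hg (h ▸ Submodule.zero_mem _)
  have hgK : (g : K) ≠ 0 := fun h => hg0 (Subtype.ext h)
  have hf : ∀ y : Submonoid.powers g, IsUnit (A₀.val (y : A₀)) := by
    rintro ⟨y, n, rfl⟩
    show IsUnit (A₀.val (g ^ n))
    rw [map_pow]
    exact (IsUnit.mk0 _ hgK).pow n
  let φ : Localization.Away g →ₐ[(⊥ : Subfield K)] K := IsLocalization.liftAlgHom hf
  have hφ_alg : ∀ x : A₀, φ (algebraMap A₀ (Localization.Away g) x) = (x : K) :=
    fun x => IsLocalization.lift_eq hf x
  have hφinj : Function.Injective φ := by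
    refine (IsLocalization.lift_injective_iff (hg := hf)).mpr (fun x y => ?_)
    have h1 : Function.Injective (algebraMap A₀ (Localization.Away g)) :=
      IsLocalization.injective _ (powers_le_nonZeroDivisors_of_noZeroDivisors hg0)
    exact ⟨fun h => congrArg _ (h1 h), fun h => congrArg _ (Subtype.val_injective h)⟩
  let eA : Localization.Away g ≃ₐ[(⊥ : Subfield K)] φ.range := AlgEquiv.ofInjective φ hφinj
  haveI := hsm.finitePresentation
  refine ⟨φ.range, ?_, ?_, ?_⟩
  · exact Algebra.FiniteType.equiv inferInstance eA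
  · exact Algebra.Smooth.of_equiv eA
  · haveI : FaithfulSMul φ.range K :=
      (faithfulSMul_iff_algebraMap_injective φ.range K).mpr Subtype.val_injective
    refine IsFractionRing.of_field _ K (fun z => ?_)
    obtain ⟨x, y, hxy⟩ := hsurj z
    exact ⟨⟨(x : K), ⟨algebraMap A₀ (Localization.Away g) x, hφ_alg x⟩⟩,
      ⟨(y : K), ⟨algebraMap A₀ (Localization.Away g) y, hφ_alg y⟩⟩, hxy⟩


end Groth.Agent.S14732
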