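import Groth.Statements.S14741
import Groth.Agent.Lib.Helper21.GCMain
import Groth.Agent.Lib.Helper12.Hyperplane3

set_option autoImplicit false
universe u
open CategoryTheory AlgebraicGeometry
open ValPrufer

namespace Groth.Agent.S14741

/-- Let R be a semilocal Prüfer domain (an integral domain with finitely many maximal ideals whose
localisations at primes are valuation rings) of finite Krull dimension, m ≥ 1, X a closed subscheme
of projective (m-1)-space over R which is flat over R, and F a finitely presented (equivalently,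
coherent) O_X-module. Then H^q(X, F) = 0 for all q > m. -/
theorem result
    (R : Type u) [CommRing R] [IsDomain R]
    (hR : ∀ (p : Ideal R) [p.IsPrime], ValuationRing (Localization.AtPrime p))
    (hfin : Finite (MaximalSpectrum R)) (hdim : ringKrullDim R < ⊤)
    (m : ℕ) (hm : 1 ≤ m) (X : Scheme.{u}) (ι : X ⟶ CohB1.ProjSpace (m - 1) R) [IsClosedImmersion ι]
    [Flat (ι ≫ CohB1.ProjSpace.toSpec (m - 1) R)]
    (F : X.Modules) (hF : CohB1.IsFP F) (q : ℕ) (hq : m < q) :
    Subsingleton (Coh.HH X F q) := by
  haveI : F.IsQuasicoherent := by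
    haveI : SheafOfModules.IsFinitePresentation (R := X.ringCatSheaf) F := hF
    infer_instance
  let ι' : X ⟶ Proj (CohB1.polyGrading (m - 1) R) := ι
  haveI : IsClosedImmersion ι' := ‹IsClosedImmersion ι›
  haveI : IsSeparated (ι' ≫ Proj.toSpecZero (CohB1.polyGrading (m - 1) R)) := inferInstance
  have hd := Groth.Agent.Lib.helper21.GCCech.affine_inf_of_isSeparated
    (ι' ≫ Proj.toSpecZero (CohB1.polyGrading (m - 1) R))
  let U : ULift.{u} (Fin (m - 1 + 1)) → X.Opens := fun i =>
    ι' ⁻¹ᵁ Proj.basicOpen (CohB1.polyGrading (m - 1) R) (MvPolynomial.X i.down)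
  have hU : ∀ i, IsAffineOpen (U i) := fun i =>
    (Proj.isAffineOpen_basicOpen (CohB1.polyGrading (m - 1) R) _
      (Groth.Agent.Lib.helper28.TwistPn.X_mem (m - 1) R i.down) one_pos).preimage ι'
  have hcov : iSup U = ⊤ := by
    have h := Groth.Agent.Lib.Helper12.Hyperplane.iSup_basicOpen_X (m - 1) R
    have h2 : iSup U = ι' ⁻¹ᵁ (⨆ i : Fin (m - 1 + 1),
        Proj.basicOpen (CohB1.polyGrading (m - 1) R) (MvPolynomial.X i)) := by
      rw [Scheme.Hom.preimage_iSup]
      exact (Equiv.ulift.symm.iSup_comp (g := U)).symm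
    rw [h2, h]
    rfl
  refine Groth.Agent.Lib.helper21.GCCech.subsingleton_HH_of_cover F hd U hU hcov q ?_
  rw [Nat.card_eq_fintype_card, Fintype.card_ulift, Fintype.card_fin]
  omega

end Groth.Agent.S14741
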