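import Groth.Statements.S14743
-- import your own Groth.Agent.* helpers here

set_option autoImplicit false
universe u
open CategoryTheory MonoidalCategory CartesianMonoidalCategory MonObj GrpObj AlgebraicGeometry
open AlgGrp

namespace Groth.Agent.S14743

/-- Over an algebraically closed field k let L, G, B be commutative k-group schemes, i : L → G and π : G
→ B homomorphisms with i the kernel of π, and suppose that every k-morphism B × B → L is constant
(factors through a k-point of L). If π admits a section which is a morphism of k-schemes, then it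
admits a section which is a homomorphism, so the extension splits. (The published statement is for
algebraic groups, that is, of finite type over k; finiteness plays no role and is not assumed here.) -/
theorem result (k : Type u) [Field k] [IsAlgClosed k]
    (L G B : Over (Spec (CommRingCat.of k))) [GrpObj L] [GrpObj G] [GrpObj B]
    [IsCommMonObj L] [IsCommMonObj G] [IsCommMonObj B]
    (i : L ⟶ G) [IsMonHom i] (π : G ⟶ B) [IsMonHom π] (hker : AlgGrp.IsKernel i π)
    (hconst : ∀ f : B ⊗ B ⟶ L, ∃ l : 𝟙_ (Over (Spec (CommRingCat.of k))) ⟶ L, f = toUnit (B ⊗ B) ≫ l)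
    (s : B ⟶ G) (hs : s ≫ π = 𝟙 B) :
    ∃ s' : B ⟶ G, IsMonHom s' ∧ s' ≫ π = 𝟙 B := by
  -- the "cocycle" of the section
  set p1 : B ⊗ B ⟶ B := fst B B with hp1
  set p2 : B ⊗ B ⟶ B := snd B B with hp2
  have hμ : μ[B] = p1 * p2 := MonObj.mul_eq_mul B
  set c : B ⊗ B ⟶ G := (μ[B] ≫ s) / ((p1 ≫ s) * (p2 ≫ s)) with hc
  have hcπ : c ≫ π = toUnit (B ⊗ B) ≫ η[B] := by
    rw [hc, GrpObj.div_comp, MonObj.mul_comp,
      Category.assoc, Category.assoc, Category.assoc, hs, Category.comp_id, Category.comp_id,
      Category.comp_id, hμ, ← CategoryTheory.Hom.one_def, div_self']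
  obtain ⟨f, hfi, -⟩ := hker.exists_lift c (toUnit (B ⊗ B)) hcπ
  obtain ⟨l, hl⟩ := hconst f
  set g0 : 𝟙_ (Over (Spec (CommRingCat.of k))) ⟶ G := l ≫ i with hg0
  have hcg0 : c = toUnit (B ⊗ B) ≫ g0 := by rw [← hfi, hl, Category.assoc]
  have hg0π : g0 ≫ π = η[B] := by
    rw [hg0, Category.assoc, hker.w, ← Category.assoc]
    have : l ≫ toUnit L = 𝟙 _ := toUnit_unique _ _
    rw [this, Category.id_comp]
  -- the corrected section
  refine ⟨(toUnit B ≫ g0) * s, ?_, ?_⟩
  · have hmul : μ[B] ≫ ((toUnit B ≫ g0) * s) =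
        (p1 ≫ ((toUnit B ≫ g0) * s)) * (p2 ≫ ((toUnit B ≫ g0) * s)) := by
      have h1 : μ[B] ≫ s = c * ((p1 ≫ s) * (p2 ≫ s)) := by
        rw [hc, div_mul_cancel]
      rw [MonObj.comp_mul, MonObj.comp_mul, MonObj.comp_mul, h1]
      have e : ∀ q : B ⊗ B ⟶ B, q ≫ toUnit B ≫ g0 = c := fun q => by
        rw [hcg0, ← Category.assoc, toUnit_unique (q ≫ toUnit B) (toUnit (B ⊗ B))]
      have e0 := e μ[B]
      have e1 := e p1
      have e2 := e p2
      rw [e0, e1, e2]
      -- commutative group computation
      rw [mul_mul_mul_comm c (p1 ≫ s) c (p2 ≫ s), _root_.mul_assoc c c]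
    constructor
    · -- unit
      set s' := (toUnit B ≫ g0) * s with hs'
      have h2 := congrArg (fun t => lift η[B] η[B] ≫ t) hmul
      simp only [MonObj.comp_mul] at h2
      rw [← Category.assoc, ← Category.assoc, ← Category.assoc] at h2
      rw [lift_fst, lift_snd] at h2
      have h3 : lift η[B] η[B] ≫ μ[B] = η[B] := by
        rw [← CategoryTheory.Hom.mul_def, MonObj.one_eq_one, _root_.mul_one]
      rw [h3] at h2
      have h4 : η[B] ≫ s' = 1 := by
        have := h2
        exact (mul_eq_left (a := η[B] ≫ s')).mp this.symm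
      rw [h4, MonObj.one_eq_one]
    · -- multiplication
      rw [hmul, CategoryTheory.Hom.mul_def, ← lift_fst_comp_snd_comp]
  · rw [MonObj.mul_comp, hs, Category.assoc, hg0π, ← CategoryTheory.Hom.one_def, _root_.one_mul]

end Groth.Agent.S14743
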