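import Groth.Statements.S14754
import Mathlib
import Groth.Agent.Lib.Helper15.DSBridge
import Groth.Agent.Lib.Helper15.GroupAlgHom
import Groth.Agent.Lib.Helper15.BTExactSch

set_option autoImplicit false
universe u
open CategoryTheory CategoryTheory.Limits MonoidalCategory CartesianMonoidalCategory MonObj GrpObj AlgebraicGeometry
open AlgGrp

namespace Groth.Agent.S14754

/-- Over an algebraically closed field k, every exact sequence of split tori splits: if K, G, Q are
split tori over k, i : K → G a closed subgroup scheme which is the kernel of a flat surjective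
homomorphism π : G → Q, then π has a section which is a homomorphism. -/
theorem result (k : Type u) [Field k] [IsAlgClosed k]
    (K G Q : Over (Spec (CommRingCat.of k))) [GrpObj K] [GrpObj G] [GrpObj Q] (nK nG nQ : ℕ)
    (hK : Red.IsSplitTorusWith (Fin nK → ℤ) K) (hG : Red.IsSplitTorusWith (Fin nG → ℤ) G)
    (hQ : Red.IsSplitTorusWith (Fin nQ → ℤ) Q)
    (i : K ⟶ G) [IsMonHom i] [IsClosedImmersion i.left]
    (π : G ⟶ Q) [IsMonHom π] [Flat π.left] [Surjective π.left] (hker : AlgGrp.IsKernel i π) :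
    ∃ s : Q ⟶ G, IsMonHom s ∧ s ≫ π = 𝟙 Q := by
  classical
  obtain ⟨εK⟩ := hK
  obtain ⟨εG⟩ := hG
  obtain ⟨εQ⟩ := hQ
  obtain ⟨aK, aK1, aK2⟩ := Groth.Agent.Lib.helper15.HopfDict.exists_iso_of_grpIso εK
  obtain ⟨aG, aG1, aG2⟩ := Groth.Agent.Lib.helper15.HopfDict.exists_iso_of_grpIso εG
  obtain ⟨aQ, aQ1, aQ2⟩ := Groth.Agent.Lib.helper15.HopfDict.exists_iso_of_grpIso εQ
  obtain ⟨bK, bK1, bK2⟩ := Groth.Agent.Lib.helper15.DSBridge.exists_iso_groupAlg k (Fin nK → ℤ)
  obtain ⟨bG, bG1, bG2⟩ := Groth.Agent.Lib.helper15.DSBridge.exists_iso_groupAlg k (Fin nG → ℤ)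
  obtain ⟨bQ, bQ1, bQ2⟩ := Groth.Agent.Lib.helper15.DSBridge.exists_iso_groupAlg k (Fin nQ → ℤ)
  let cK := aK ≪≫ bK
  let cG := aG ≪≫ bG
  let cQ := aQ ≪≫ bQ
  have cK1 : IsMonHom cK.hom := by change IsMonHom (aK.hom ≫ bK.hom); infer_instance
  have cG1 : IsMonHom cG.hom := by change IsMonHom (aG.hom ≫ bG.hom); infer_instance
  have cG2 : IsMonHom cG.inv := by change IsMonHom (bG.inv ≫ aG.inv); infer_instance
  have cQ1 : IsMonHom cQ.hom := by change IsMonHom (aQ.hom ≫ bQ.hom); infer_instance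
  have cQ2 : IsMonHom cQ.inv := by change IsMonHom (bQ.inv ≫ aQ.inv); infer_instance
  have cK2 : IsMonHom cK.inv := by change IsMonHom (bK.inv ≫ aK.inv); infer_instance
  let π' := cG.inv ≫ π ≫ cQ.hom
  let i' := cK.inv ≫ i ≫ cG.hom
  have hπ' : IsMonHom π' := inferInstance
  have hi' : IsMonHom i' := inferInstance
  have hker' : IsPullback i' (toUnit _) π' η[_] := by
    refine IsPullback.of_iso hker cK cG (Iso.refl _) cQ ?_ ?_ ?_ ?_
    · simp [i']
    · exact toUnit_unique _ _
    · simp [π']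
    · rw [IsMonHom.one_hom, Iso.refl_hom, Category.id_comp]
  obtain ⟨ψ, hψ⟩ := Groth.Agent.Lib.helper15.HopfDict.exists_bialgHom_of_isMonHom π'
  obtain ⟨χ, hχ⟩ := Groth.Agent.Lib.helper15.HopfDict.exists_bialgHom_of_isMonHom i'
  have hconn : ∀ e : k, IsIdempotentElem e → e = 0 ∨ e = 1 := by
    intro e he
    rcases eq_or_ne e 0 with h | h
    · exact Or.inl h
    · right
      have : e * e = e * 1 := by rw [he.eq, _root_.mul_one]
      exact mul_left_cancel₀ h this
  obtain ⟨f, hf⟩ := Groth.Agent.Lib.helper15.GroupAlgHom.exists_monoidHom_of_bialgHom hconn ψ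
  obtain ⟨g, hg⟩ := Groth.Agent.Lib.helper15.GroupAlgHom.exists_monoidHom_of_bialgHom hconn χ
  -- `ψ` is injective
  have hψinj : Function.Injective ψ := by
    have h1 : Flat π'.left ∧ Surjective π'.left := by
      have i1 : IsIso cG.inv.left := inferInstanceAs (IsIso ((Over.forget _).map cG.inv))
      have i2 : IsIso cQ.hom.left := inferInstanceAs (IsIso ((Over.forget _).map cQ.hom))
      constructor
      · change Flat (cG.inv.left ≫ π.left ≫ cQ.hom.left)
        infer_instance
      · change Surjective (cG.inv.left ≫ π.left ≫ cQ.hom.left)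
        infer_instance
    have h2 : π'.left = Spec.map (CommRingCat.ofHom (ψ : _ →ₐ[k] _).toRingHom) := by
      rw [hψ]
      rfl
    rw [h2] at h1
    exact ((flat_and_surjective_SpecMap_iff _).mp h1).injective
  have hsingle : ∀ {P : Type} [CommGroup P], Function.Injective
      (fun p : P => (MonoidAlgebra.single p (1 : k) : MonoidAlgebra k P)) := fun {P} _ =>
    MonoidAlgebra.single_left_injective (R := k) (M := P) (one_ne_zero (α := k))
  have hfinj : Function.Injective f := by
    intro a b hab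
    apply hsingle
    apply hψinj
    change ψ (MonoidAlgebra.single a 1) = ψ (MonoidAlgebra.single b 1)
    rw [hf, hf, hab]
  -- `g ∘ f = 1`
  have hcomp : i' ≫ π' = 1 := by
    rw [hker'.w, Hom.one_def]
  have hgf : ∀ n, g (f n) = 1 := by
    intro n
    rw [hχ, hψ, ← Groth.Agent.Lib.helper15.HopfDict.specMap_comp,
      Groth.Agent.Lib.helper15.BTExactSch.specMap_eq_one_iff] at hcomp
    have h1 := hcomp (MonoidAlgebra.single n 1)
    rw [AlgHom.comp_apply] at h1
    change χ (ψ (MonoidAlgebra.single n 1)) = _ at h1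
    rw [hf, hg, MonoidAlgebra.counit_single, CommSemiring.counit_apply,
      Algebra.algebraMap_eq_smul_one, one_smul, MonoidAlgebra.one_def] at h1
    exact hsingle h1
  -- `ker g ⊆ range f`
  have hkerg : ∀ m, g m = 1 → ∃ n, f n = m := by
    intro m hm
    let q : Multiplicative (Fin nG → ℤ) →* Multiplicative (Fin nG → ℤ) ⧸ f.range :=
      QuotientGroup.mk' f.range
    let c := Groth.Agent.Lib.helper15.HopfDict.specMap
      ((MonoidAlgebra.mapDomainBialgHom k q :
        MonoidAlgebra k (Multiplicative (Fin nG → ℤ)) →ₐc[k]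
          MonoidAlgebra k (Multiplicative (Fin nG → ℤ) ⧸ f.range)) :
        MonoidAlgebra k (Multiplicative (Fin nG → ℤ)) →ₐ[k]
          MonoidAlgebra k (Multiplicative (Fin nG → ℤ) ⧸ f.range))
    have hc : c ≫ π' = toUnit _ ≫ η[_] := by
      rw [← Hom.one_def, hψ, ← Groth.Agent.Lib.helper15.HopfDict.specMap_comp,
        Groth.Agent.Lib.helper15.BTExactSch.specMap_eq_one_iff]
      have hAlg : ((MonoidAlgebra.mapDomainBialgHom k q :
          MonoidAlgebra k (Multiplicative (Fin nG → ℤ)) →ₐc[k]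
            MonoidAlgebra k (Multiplicative (Fin nG → ℤ) ⧸ f.range)) :
          MonoidAlgebra k (Multiplicative (Fin nG → ℤ)) →ₐ[k]
            MonoidAlgebra k (Multiplicative (Fin nG → ℤ) ⧸ f.range)).comp
          (ψ : MonoidAlgebra k (Multiplicative (Fin nQ → ℤ)) →ₐ[k]
            MonoidAlgebra k (Multiplicative (Fin nG → ℤ))) =
          (Algebra.ofId k _).comp (Bialgebra.counitAlgHom k _) := by
        refine MonoidAlgebra.algHom_ext ?_ (Subsingleton.elim _ _)
        intro n
        change MonoidAlgebra.mapDomainBialgHom k q (ψ (MonoidAlgebra.single n 1)) =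
          algebraMap k _ (Coalgebra.counit (R := k) (MonoidAlgebra.single n (1 : k)))
        rw [hf, MonoidAlgebra.mapDomainBialgHom_single, MonoidAlgebra.counit_single,
          CommSemiring.counit_apply, Algebra.algebraMap_eq_smul_one, one_smul,
          MonoidAlgebra.one_def]
        congr 1
        exact (QuotientGroup.eq_one_iff _).mpr ⟨n, rfl⟩
      intro b
      exact DFunLike.congr_fun hAlg b
    let z := hker'.lift c (toUnit _) hc
    have hz : z ≫ i' = c := hker'.lift_fst _ _ _
    obtain ⟨ζ, hζ⟩ := Groth.Agent.Lib.helper15.BTExactSch.exists_specMap_eq z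
    rw [← hζ, hχ, ← Groth.Agent.Lib.helper15.HopfDict.specMap_comp] at hz
    have hz' := Groth.Agent.Lib.helper15.BTExactSch.specMap_injective hz
    have h2 := congrArg (fun φ : _ →ₐ[k] _ => φ (MonoidAlgebra.single m 1)) hz'
    simp only [AlgHom.comp_apply] at h2
    change ζ (χ (MonoidAlgebra.single m 1)) =
      MonoidAlgebra.mapDomainBialgHom k q (MonoidAlgebra.single m 1) at h2
    rw [hg, hm, MonoidAlgebra.mapDomainBialgHom_single, ← MonoidAlgebra.one_def, map_one,
      MonoidAlgebra.one_def] at h2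
    have h3 : q m = 1 := (hsingle h2).symm
    exact (QuotientGroup.eq_one_iff _).mp h3
  -- the retraction
  obtain ⟨r₀, hr₀⟩ := Groth.Agent.Lib.helper15.GroupAlgHom.exists_retraction
    (Pi.basisFun ℤ (Fin nK)) (AddMonoidHom.toMultiplicative.symm f)
    (AddMonoidHom.toMultiplicative.symm g) hfinj hkerg hgf
  let r : Multiplicative (Fin nG → ℤ) →* Multiplicative (Fin nQ → ℤ) :=
    AddMonoidHom.toMultiplicative r₀
  have hr : ∀ n, r (f n) = n := hr₀
  let ρ : MonoidAlgebra k (Multiplicative (Fin nG → ℤ)) →ₐc[k]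
      MonoidAlgebra k (Multiplicative (Fin nQ → ℤ)) := MonoidAlgebra.mapDomainBialgHom k r
  have hρψ : (ρ : MonoidAlgebra k (Multiplicative (Fin nG → ℤ)) →ₐ[k]
      MonoidAlgebra k (Multiplicative (Fin nQ → ℤ))).comp
      (ψ : MonoidAlgebra k (Multiplicative (Fin nQ → ℤ)) →ₐ[k]
        MonoidAlgebra k (Multiplicative (Fin nG → ℤ))) = AlgHom.id k _ := by
    refine MonoidAlgebra.algHom_ext ?_ (Subsingleton.elim _ _)
    intro n
    change ρ (ψ (MonoidAlgebra.single n 1)) = MonoidAlgebra.single n 1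
    rw [hf, MonoidAlgebra.mapDomainBialgHom_single, hr]
  let s' := Groth.Agent.Lib.helper15.HopfDict.specMap
    (ρ : MonoidAlgebra k (Multiplicative (Fin nG → ℤ)) →ₐ[k]
      MonoidAlgebra k (Multiplicative (Fin nQ → ℤ)))
  have hs'mon : IsMonHom s' := Groth.Agent.Lib.helper15.DSMap.isMonHom_specMap ρ
  have hs'π : s' ≫ π' = 𝟙 _ := by
    rw [hψ, ← Groth.Agent.Lib.helper15.HopfDict.specMap_comp, hρψ,
      Groth.Agent.Lib.helper15.HopfDict.specMap_id]
  refine ⟨cQ.hom ≫ s' ≫ cG.inv, inferInstance, ?_⟩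
  have h1 : cG.inv ≫ π = π' ≫ cQ.inv := by
    simp [π']
  rw [Category.assoc, Category.assoc, h1, ← Category.assoc s', hs'π, Category.id_comp,
    cQ.hom_inv_id]

end Groth.Agent.S14754
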