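import Groth.Statements.S14758
import Mathlib
import Groth.Agent.Lib.Helper27.HpullHmap
-- import your own Groth.Agent.* helpers here

set_option autoImplicit false
universe u
open CategoryTheory CategoryTheory.Limits MonoidalCategory CartesianMonoidalCategory MonObj GrpObj AlgebraicGeometry
open EtAdic

namespace Groth.Agent.S14758

section Aux
open CategoryTheory CategoryTheory.Limits AlgebraicGeometry CategoryTheory.Abelian
open Groth.Agent.Lib.helper27 Groth.Agent.Lib.helper27.PullFunEt Groth.Agent.Lib.helper27.HpullHmap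
namespace S14758aux

set_option backward.isDefEq.respectTransparency.types false

variable (M : AddCommGrpCat.{u + 1})

/-- the canonical map `M_X ⟶ f_* M_Y` -/
noncomputable def cM {Y X : Scheme.{u}} (f : Y ⟶ X) :
    (cst X).obj M ⟶ (EtCoh.push f).obj ((cst Y).obj M) :=
  (adj f).unit.app ((cst X).obj M) ≫ (EtCoh.push f).map ((pullCstIso f).hom.app M)

lemma cM_comp {Z Y X : Scheme.{u}} (h : Z ⟶ Y) (g : Y ⟶ X) :
    (cM M g ≫ (EtCoh.push g).map (cM M h)) ≫ (pushCompIso h g).hom.app ((cst Z).obj M) =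
      cM M (h ≫ g) := by
  have h1 := congrArg (fun e => e.hom.app M) (pullCstIso_assoc h g)
  simp only [Iso.trans_hom, NatTrans.comp_app, Functor.isoWhiskerLeft_hom, Functor.whiskerLeft_app,
    Iso.symm_hom, Functor.associator_inv_app, Functor.isoWhiskerRight_hom, Functor.whiskerRight_app,
    Category.id_comp] at h1
  have h2 := CategoryTheory.unit_conjugateEquiv ((adj g).comp (adj h)) (adj (h ≫ g))
    (pullCompIso h g).inv ((cst X).obj M)
  have h3 : conjugateEquiv ((adj g).comp (adj h)) (adj (h ≫ g)) (pullCompIso h g).inv =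
      (pushCompIso h g).hom := by
    rw [← τ_comp_eq, Equiv.apply_symm_apply]
  rw [h3] at h2
  have h4 : (pullCstIso (h ≫ g)).hom.app M =
      (pullCompIso h g).inv.app ((cst X).obj M) ≫
        (EtCoh.pull h).map ((pullCstIso g).hom.app M) ≫ (pullCstIso h).hom.app M := by
    rw [← h1, Iso.inv_hom_id_app_assoc]
  have nat := (pushCompIso h g).hom.naturality
    ((EtCoh.pull h).map ((pullCstIso g).hom.app M) ≫ (pullCstIso h).hom.app M)
  have natu := (adj h).unit.naturality ((pullCstIso g).hom.app M)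
  simp only [Functor.id_obj, Functor.id_map, Functor.comp_obj, Functor.comp_map] at nat natu h2
  have e1 : cM M (h ≫ g) = ((adj g).comp (adj h)).unit.app ((cst X).obj M) ≫
      (EtCoh.push g).map ((EtCoh.push h).map
        ((EtCoh.pull h).map ((pullCstIso g).hom.app M) ≫ (pullCstIso h).hom.app M)) ≫
      (pushCompIso h g).hom.app ((cst Z).obj M) := by
    rw [nat, ← Category.assoc, h2, Category.assoc, ← Functor.map_comp, ← h4]
    rfl
  rw [e1, Adjunction.comp_unit_app]
  unfold cM
  simp only [Functor.map_comp, Category.assoc]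
  congr 1
  rw [← Category.assoc ((EtCoh.push g).map ((pullCstIso g).hom.app M)), ← Functor.map_comp, natu]
  simp only [Functor.map_comp, Category.assoc]

lemma adic_eq (ℓ ν : ℕ) {Y X : Scheme.{u}} (f : Y ⟶ X) (hf : PreservesFiniteLimits (EtCoh.pull f))
    (i : ℕ) (x : EtAdic.Hmod X ℓ i ν) :
    EtAdic.Hmap ℓ f hf i ν x =
      PullFunEt.Hmap f (cM (AddCommGrpCat.of (ULift.{u + 1} (ZMod (ℓ ^ ν)))) f) i x := by
  have e : (EtCore.pullConst f (ZMod (ℓ ^ ν))).hom =
      (pullCstIso f).hom.app (AddCommGrpCat.of (ULift.{u + 1} (ZMod (ℓ ^ ν)))) := by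
    rw [← pullConstIso_eq]
    rfl
  haveI := hf
  have e2 : EtAdic.Hmap ℓ f hf i ν x =
      ((EtCoh.HF Y i).map (EtCore.pullConst f (ZMod (ℓ ^ ν))).hom).hom
        (EtCore.Hpull f (EtCoh.const X (ZMod (ℓ ^ ν))) i x) := rfl
  rw [e2, HF_map_apply, Hpull_eq_Hmap, Hmap_postcomp, e]
  rfl

lemma adic_comp (ℓ ν : ℕ) {Z Y X : Scheme.{u}} (h : Z ⟶ Y) (g : Y ⟶ X) (k : Z ⟶ X) (w : h ≫ g = k)
    (hh : PreservesFiniteLimits (EtCoh.pull h)) (hg : PreservesFiniteLimits (EtCoh.pull g))
    (hk : PreservesFiniteLimits (EtCoh.pull k))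
    (i : ℕ) (x : EtAdic.Hmod X ℓ i ν) :
    EtAdic.Hmap ℓ k hk i ν x = EtAdic.Hmap ℓ h hh i ν (EtAdic.Hmap ℓ g hg i ν x) := by
  subst w
  rw [adic_eq, adic_eq, adic_eq, Hmap_comp, cM_comp]

end S14758aux
end Aux


/-- Let k be a field, ℓ, ν natural numbers, G and G' commutative k-group schemes and φ, ψ : G → G'
homomorphisms. If x ∈ H^r(G'_et, Z/ℓ^ν) is primitive, that is m^*x = p_1^*x + p_2^*x for the
multiplication m and the projections p_1, p_2 of G' × G', then (φ + ψ)^*x = φ^*x + ψ^*x, where φ + ψ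
is the sum in the group of homomorphisms. (The published lemma is for H^r_T(−, L) with T any of the
Zariski, étale or flat topologies and L any commutative algebraic group as coefficients; this row is
its case T = étale, L = Z/ℓ^ν constant, the one used later.) -/
theorem result (k : Type u) [Field k] (ℓ ν r : ℕ)
    (G G' : Over (Spec (CommRingCat.of k))) [GrpObj G] [GrpObj G'] [IsCommMonObj G] [IsCommMonObj G']
    (φ ψ : G ⟶ G') [IsMonHom φ] [IsMonHom ψ]
    [hm : PreservesFiniteLimits (EtCoh.pull (μ[G']).left)]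
    [h1 : PreservesFiniteLimits (EtCoh.pull (fst G' G').left)]
    [h2 : PreservesFiniteLimits (EtCoh.pull (snd G' G').left)]
    [hφ : PreservesFiniteLimits (EtCoh.pull φ.left)] [hψ : PreservesFiniteLimits (EtCoh.pull ψ.left)]
    [hs : PreservesFiniteLimits (EtCoh.pull (φ * ψ).left)]
    (x : EtAdic.Hmod G'.left ℓ r ν)
    (hx : EtAdic.Hmap ℓ (μ[G']).left hm r ν x =
      EtAdic.Hmap ℓ (fst G' G').left h1 r ν x + EtAdic.Hmap ℓ (snd G' G').left h2 r ν x) :
    EtAdic.Hmap ℓ (φ * ψ).left hs r ν x = EtAdic.Hmap ℓ φ.left hφ r ν x + EtAdic.Hmap ℓ ψ.left hψ r ν x := by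
  have hl : PreservesFiniteLimits (EtCoh.pull (lift φ ψ).left) := Groth.Agent.S0101.result _
  have w0 : (lift φ ψ).left ≫ (μ[G']).left = (φ * ψ).left := by
    rw [Hom.mul_def]
    rfl
  have w1 : (lift φ ψ).left ≫ (fst G' G').left = φ.left := by
    rw [← Over.comp_left, lift_fst]
  have w2 : (lift φ ψ).left ≫ (snd G' G').left = ψ.left := by
    rw [← Over.comp_left, lift_snd]
  rw [S14758aux.adic_comp ℓ ν _ _ _ w0 hl hm hs, hx, map_add,
    ← S14758aux.adic_comp ℓ ν _ _ _ w1 hl h1 hφ, ← S14758aux.adic_comp ℓ ν _ _ _ w2 hl h2 hψ]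

end Groth.Agent.S14758
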