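import Groth.Statements.S14789
import Mathlib.AlgebraicGeometry.Properties

set_option autoImplicit false
universe u
open CategoryTheory CategoryTheory.Limits AlgebraicGeometry
open Subtr

namespace Groth.Agent.S14789

/-- Let f : X ⟶ Y be a morphism of schemes with the lifting property for ordered pairs of points, and U
⊆ Y a subset containing every maximal point of Y (every point all of whose generizations are equal
to it). Then the closure of f⁻¹(U) maps onto Y. -/
theorem result {X Y : Scheme.{u}} (f : X ⟶ Y)
    (hf : Subtr.IsSSubtrusive f) (U : Set Y) (hU : ∀ y : Y, (∀ y' : Y, y' ⤳ y → y' = y) → y ∈ U) :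
    f '' closure (f ⁻¹' U) = Set.univ := by
  apply Set.eq_univ_of_forall
  intro y
  -- the generic point of the irreducible component of `y`
  have hirr : IsIrreducible (irreducibleComponent y) := isIrreducible_irreducibleComponent
  have hcl : IsClosed (irreducibleComponent y) := isClosed_irreducibleComponent
  obtain ⟨y', hy'⟩ := QuasiSober.sober hirr hcl
  have hspec : y' ⤳ y := hy'.specializes mem_irreducibleComponent
  have hmax : ∀ y'' : Y, y'' ⤳ y' → y'' = y' := by
    intro y'' h
    have hsub : irreducibleComponent y ⊆ closure {y''} := by
      rw [← hy'.def]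
      exact h.closure_subset
    have heq : closure {y''} = irreducibleComponent y :=
      eq_irreducibleComponent isIrreducible_singleton.closure.isPreirreducible hsub
    have h1 : IsGenericPoint y'' (irreducibleComponent y) := heq
    exact h1.eq hy'
  obtain ⟨x, x', hxx', hx, hx'⟩ := hf hspec
  refine ⟨x, ?_, hx⟩
  have hx'U : x' ∈ f ⁻¹' U := by
    change f x' ∈ U
    rw [hx']
    exact hU y' hmax
  exact hxx'.mem_closed isClosed_closure (subset_closure hx'U)

end Groth.Agent.S14789
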