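import Groth.Statements.S14795
import Groth.Agent.Lib.Helper2.FiltColimUH

set_option autoImplicit false
universe u
open CategoryTheory CategoryTheory.Limits AlgebraicGeometry
open Subtr

namespace Groth.Agent.S14795


open Groth.Agent.Lib.helper2 TensorProduct

/-- extension of a field-valued point along an injective integral ring map, after enlarging the
field. -/
theorem exists_extension {D B K : Type u} [CommRing D] [CommRing B] [Field K] (ι : D →+* B)
    (hinj : Function.Injective ι) (hint : ι.IsIntegral) (χ : D →+* K) :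
    ∃ (L : Type u) (_ : Field L) (j : K →+* L) (χ' : B →+* L), χ'.comp ι = j.comp χ := by
  have hker : RingHom.ker ι ≤ nilradical D := by
    rw [(RingHom.injective_iff_ker_eq_bot ι).1 hinj]
    exact bot_le
  have hsurj := FiltColimUH.comap_surjective_of_integral_of_ker ι hint hker
  haveI : Surjective (Spec.map (CommRingCat.ofHom ι)) := ⟨fun x => hsurj x⟩
  let f := Spec.map (CommRingCat.ofHom ι)
  let g := Spec.map (CommRingCat.ofHom χ)
  have hs : Surjective (pullback.snd f g) := inferInstance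
  obtain ⟨x, -⟩ := hs.surj (IsLocalRing.closedPoint K)
  let L := (pullback f g).residueField x
  let e : Spec L ⟶ pullback f g := (pullback f g).fromSpecResidueField x
  obtain ⟨χ', hχ'⟩ := Spec.map_surjective (e ≫ pullback.fst f g)
  obtain ⟨j, hj⟩ := Spec.map_surjective (e ≫ pullback.snd f g)
  refine ⟨L, inferInstance, j.hom, χ'.hom, ?_⟩
  have h1 : Spec.map χ' ≫ f = Spec.map j ≫ g := by
    rw [hχ', hj, Category.assoc, Category.assoc, pullback.condition]
  have h2 : Spec.map (CommRingCat.ofHom ι ≫ χ') = Spec.map (CommRingCat.ofHom χ ≫ j) := by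
    rw [Spec.map_comp, Spec.map_comp]
    exact h1
  have h3 := Spec.map_injective h2
  exact congrArg CommRingCat.Hom.hom h3


theorem nilpotent_of_isUnivHomeo {A C : Type u} [CommRing A] [CommRing C] [Algebra A C]
    (hC : FlatMor.IsUnivHomeo (Spec.map (CommRingCat.ofHom (algebraMap A C)))) (c : C) :
    IsNilpotent (c ⊗ₜ[A] (1 : C) - (1 : C) ⊗ₜ[A] c) := by
  rw [nilpotent_iff_mem_prime]
  intro Q hQ
  haveI := hQ
  let K := FractionRing ((C ⊗[A] C) ⧸ Q)
  let θ : C ⊗[A] C →+* K := (algebraMap ((C ⊗[A] C) ⧸ Q) K).comp (Ideal.Quotient.mk Q)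
  have hθ : ∀ x, θ x = 0 → x ∈ Q := by
    intro x hx
    have h1 : (Ideal.Quotient.mk Q) x = 0 := by
      apply IsFractionRing.injective ((C ⊗[A] C) ⧸ Q) K
      rw [map_zero]
      exact hx
    exact Ideal.Quotient.eq_zero_iff_mem.1 h1
  apply hθ
  let χ₁ : C →+* K := θ.comp Algebra.TensorProduct.includeLeftRingHom
  let χ₂ : C →+* K := θ.comp (Algebra.TensorProduct.includeRight : C →ₐ[A] C ⊗[A] C).toRingHom
  have h12 : χ₁.comp (algebraMap A C) = χ₂.comp (algebraMap A C) := by
    ext a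
    show θ ((algebraMap A C a) ⊗ₜ[A] (1 : C)) = θ ((1 : C) ⊗ₜ[A] (algebraMap A C a))
    congr 1
    rw [Algebra.algebraMap_eq_smul_one, TensorProduct.smul_tmul]
  have h := SpecResidue.hom_ext_of_isUnivHomeo_Spec (algebraMap A C) hC K χ₁ χ₂ h12
  have h3 : θ (c ⊗ₜ[A] (1 : C)) = θ ((1 : C) ⊗ₜ[A] c) := congrArg (fun f => f c) h
  rw [map_sub, sub_eq_zero]
  exact h3

set_option maxHeartbeats 1000000 in
theorem isUnivHomeo_adjoin_of_nilpotent {A B : Type u} [CommRing A] [CommRing B] [Algebra A B]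
    (hinj : Function.Injective (algebraMap A B)) [Algebra.IsIntegral A B] (b : B)
    (hb : IsNilpotent (b ⊗ₜ[A] (1 : B) - (1 : B) ⊗ₜ[A] b)) :
    FlatMor.IsUnivHomeo (Spec.map (CommRingCat.ofHom
      (algebraMap A (Algebra.adjoin A ({b} : Set B))))) := by
  set D := Algebra.adjoin A ({b} : Set B) with hD
  have hint : (algebraMap A D).IsIntegral := by
    intro d
    have h1 : IsIntegral A (D.val d) := Algebra.IsIntegral.isIntegral _
    exact (isIntegral_algHom_iff D.val Subtype.val_injective).1 h1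
  have hinjD : Function.Injective (algebraMap A D) := by
    intro a a' h
    apply hinj
    exact congrArg Subtype.val h
  have hker : RingHom.ker (algebraMap A D) ≤ nilradical A := by
    rw [(RingHom.injective_iff_ker_eq_bot _).1 hinjD]
    exact bot_le
  refine SpecResidue.isUnivHomeo_Spec_of _ hint
    (FiltColimUH.comap_surjective_of_integral_of_ker _ hint hker) ?_
  intro K _ χ₁ χ₂ h12
  let ι : D →+* B := D.val.toRingHom
  have hιinj : Function.Injective ι := Subtype.val_injective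
  have hιint : ι.IsIntegral := by
    refine RingHom.IsIntegral.tower_top (algebraMap A D) ι ?_
    intro x
    exact Algebra.IsIntegral.isIntegral (R := A) x
  obtain ⟨L₁, _, j₁, χ₁', h₁⟩ := exists_extension ι hιinj hιint χ₁
  obtain ⟨L₂, _, j₂, χ₂', h₂⟩ := exists_extension ι hιinj hιint (j₁.comp χ₂)
  let ψ₁ : B →+* L₂ := j₂.comp χ₁'
  let ψ₂ : B →+* L₂ := χ₂'
  have hψ₁ : ∀ d : D, ψ₁ (ι d) = j₂ (j₁ (χ₁ d)) := by
    intro d
    have := congrArg (fun f => f d) h₁
    show j₂ (χ₁' (ι d)) = _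
    exact congrArg j₂ this
  have hψ₂ : ∀ d : D, ψ₂ (ι d) = j₂ (j₁ (χ₂ d)) := by
    intro d
    exact congrArg (fun f => f d) h₂
  have hA : ∀ a : A, ψ₂ (algebraMap A B a) = ψ₁ (algebraMap A B a) := by
    intro a
    have e : algebraMap A B a = ι (algebraMap A D a) := rfl
    rw [e, hψ₁, hψ₂]
    have := congrArg (fun f => f a) h12
    exact congrArg (fun z => j₂ (j₁ z)) this.symm
  letI : Algebra A L₂ := (ψ₁.comp (algebraMap A B)).toAlgebra
  let ψ₁' : B →ₐ[A] L₂ := { ψ₁ with commutes' := fun a => rfl }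
  let ψ₂' : B →ₐ[A] L₂ := { ψ₂ with commutes' := fun a => hA a }
  let θ : B ⊗[A] B →ₐ[A] L₂ := Algebra.TensorProduct.productMap ψ₁' ψ₂'
  have hθ : θ (b ⊗ₜ[A] (1 : B) - (1 : B) ⊗ₜ[A] b) = ψ₁ b - ψ₂ b := by
    rw [map_sub]
    simp only [θ, Algebra.TensorProduct.productMap_apply_tmul, map_one, mul_one, one_mul]
    rfl
  have hnil : IsNilpotent (ψ₁ b - ψ₂ b) := by
    rw [← hθ]
    exact hb.map θ
  have h0 : ψ₁ b = ψ₂ b := sub_eq_zero.1 hnil.eq_zero
  have hbD : b ∈ D := Algebra.subset_adjoin rfl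
  have hb' : χ₁ ⟨b, hbD⟩ = χ₂ ⟨b, hbD⟩ := by
    apply j₁.injective
    apply j₂.injective
    rw [← hψ₁ ⟨b, hbD⟩, ← hψ₂ ⟨b, hbD⟩]
    exact h0
  have hall : ∀ (d : B) (hd : d ∈ D), χ₁ ⟨d, hd⟩ = χ₂ ⟨d, hd⟩ := by
    intro d hd
    induction hd using Algebra.adjoin_induction with
    | mem x hx =>
      have : x = b := hx
      subst this
      exact hb'
    | algebraMap a => exact congrArg (fun f => f a) h12
    | add x y hx hy h1 h2 =>
      have e : (⟨x + y, Subalgebra.add_mem _ hx hy⟩ : D) = ⟨x, hx⟩ + ⟨y, hy⟩ := rfl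
      rw [e, map_add, map_add, h1, h2]
    | mul x y hx hy h1 h2 =>
      have e : (⟨x * y, Subalgebra.mul_mem _ hx hy⟩ : D) = ⟨x, hx⟩ * ⟨y, hy⟩ := rfl
      rw [e, map_mul, map_mul, h1, h2]
  ext ⟨d, hd⟩
  exact hall d hd

/-- Let A ⊆ B be an integral ring extension and C ⊆ B the weak subintegral closure of A in B, that is
the largest A-subalgebra C of B such that Spec C ⟶ Spec A is a universal homeomorphism (C is
characterised here by that maximality). Then b ∈ B lies in C if and only if b ⊗ 1 − 1 ⊗ b is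
nilpotent in B ⊗_A B (b ⊗ 1 = 1 ⊗ b in the reduction of B ⊗_A B). -/
theorem result {A B : Type u} [CommRing A] [CommRing B]
    [Algebra A B] (hinj : Function.Injective (algebraMap A B)) [Algebra.IsIntegral A B]
    (C : Subalgebra A B) (hC : FlatMor.IsUnivHomeo (Spec.map (CommRingCat.ofHom (algebraMap A C))))
    (hmax : ∀ D : Subalgebra A B, FlatMor.IsUnivHomeo (Spec.map (CommRingCat.ofHom (algebraMap A D))) → D ≤ C) (b : B) :
    b ∈ C ↔ IsNilpotent (b ⊗ₜ[A] (1 : B) - (1 : B) ⊗ₜ[A] b) := by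
  constructor
  · intro hb
    have h1 := (nilpotent_of_isUnivHomeo hC ⟨b, hb⟩).map (Algebra.TensorProduct.map C.val C.val)
    simpa using h1
  · intro hb
    have h1 := hmax _ (isUnivHomeo_adjoin_of_nilpotent hinj b hb)
    exact h1 (Algebra.subset_adjoin rfl)

end Groth.Agent.S14795
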