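import Groth.Statements.S14799
import Mathlib
import Groth.Agent.Lib.Helper28.HJ
-- import your own Groth.Agent.* helpers here

set_option autoImplicit false
open HJFrac

namespace Groth.Agent.S14799

/-- Let 0 < r < n be coprime integers and n/r = b₁ - 1/(b₂ - 1/(⋯ - 1/b_λ)) the Hirzebruch–Jung
expansion (λ ≥ 1, every b_i ≥ 2); let m₁, m₂ be positive integers prime to n with r m₂ + m₁ ≡ 0 mod
n, and let μ₁, …, μ_λ be positive integers with b_i μ_i = μ_{i-1} + μ_{i+1} for 1 ≤ i ≤ λ, where μ₀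
= m₂ and μ_{λ+1} = m₁. Then gcd(m₁, μ₁, …, μ_λ, m₂) = gcd(m₁, m₂); equivalently gcd(m₁, m₂) divides
every μ_i. -/
theorem result (l : ℕ) (hl : 1 ≤ l) (b : ℕ → ℤ)
    (hb : ∀ i, 1 ≤ i → i ≤ l → 2 ≤ b i)
    (n r : ℕ) (hr : 0 < r) (hrn : r < n) (hcop : Nat.Coprime r n)
    (hhj : (n : ℚ) / r = HJFrac.hjVal ((List.range l).map fun i => b (i + 1)))
    (m₁ m₂ : ℕ) (hm₁ : 0 < m₁) (hm₂ : 0 < m₂) (h₁ : Nat.Coprime m₁ n) (h₂ : Nat.Coprime m₂ n)
    (hdvd : (n : ℤ) ∣ r * m₂ + m₁)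
    (μ : ℕ → ℤ) (hμ0 : μ 0 = m₂) (hμl : μ (l + 1) = m₁) (hμpos : ∀ i, i ≤ l + 1 → 0 < μ i)
    (hsys : ∀ i, 1 ≤ i → i ≤ l → b i * μ i = μ (i - 1) + μ (i + 1)) :
    ∀ i, i ≤ l + 1 → ((Nat.gcd m₁ m₂ : ℕ) : ℤ) ∣ μ i := by
  set L : List ℤ := (List.range l).map fun i => b (i + 1) with hL
  have hlen : L.length = l := by simp [hL]
  have hLb : ∀ c ∈ L, 2 ≤ c := by
    intro c hc
    simp only [hL, List.mem_map, List.mem_range] at hc
    obtain ⟨i, hi, rfl⟩ := hc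
    exact hb (i + 1) (by omega) (by omega)
  have hrec : ∀ i (h : i < L.length), L[i] * μ (i + 1) = μ i + μ (i + 2) := by
    intro i hi
    have hi' : i < l := by rw [hlen] at hi; exact hi
    have := hsys (i + 1) (by omega) (by omega)
    simp only [hL, List.getElem_map, List.getElem_range]
    simpa using this
  obtain ⟨hN, hQ⟩ := Groth.Agent.Lib.helper28.HJ.nd_eq L hLb (by omega) n r hr (by omega) hcop hhj
  have hW := Groth.Agent.Lib.helper28.HJ.wronsk L μ hrec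
  rw [hlen, hN, hQ, hμ0, hμl] at hW
  have hd1 : ((Nat.gcd m₁ m₂ : ℕ) : ℤ) ∣ (m₁ : ℤ) := Int.natCast_dvd_natCast.2 (Nat.gcd_dvd_left _ _)
  have hd2 : ((Nat.gcd m₁ m₂ : ℕ) : ℤ) ∣ (m₂ : ℤ) := Int.natCast_dvd_natCast.2 (Nat.gcd_dvd_right _ _)
  have hdn : IsCoprime ((Nat.gcd m₁ m₂ : ℕ) : ℤ) (n : ℤ) := by
    have : Nat.Coprime (Nat.gcd m₁ m₂) n := Nat.Coprime.coprime_dvd_left (Nat.gcd_dvd_left m₁ m₂) h₁
    exact Nat.isCoprime_iff_coprime.2 this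
  have h1 : ((Nat.gcd m₁ m₂ : ℕ) : ℤ) ∣ μ 1 := by
    have : ((Nat.gcd m₁ m₂ : ℕ) : ℤ) ∣ μ 1 * n := by
      have e : μ 1 * n = m₂ * r + m₁ := by linarith
      rw [e]; exact dvd_add (Dvd.dvd.mul_right hd2 _) hd1
    exact hdn.dvd_of_dvd_mul_right this
  have key : ∀ i, i ≤ l → ((Nat.gcd m₁ m₂ : ℕ) : ℤ) ∣ μ i ∧ ((Nat.gcd m₁ m₂ : ℕ) : ℤ) ∣ μ (i + 1) := by
    intro i
    induction i with
    | zero => intro _; exact ⟨by rw [hμ0]; exact hd2, h1⟩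
    | succ i ih =>
      intro hi
      obtain ⟨a, b'⟩ := ih (by omega)
      refine ⟨b', ?_⟩
      have := hsys (i + 1) (by omega) (by omega)
      have e : μ (i + 1 + 1) = b (i + 1) * μ (i + 1) - μ i := by
        simp only [Nat.add_sub_cancel] at this
        linarith
      rw [e]; exact dvd_sub (Dvd.dvd.mul_left b' _) a
  intro i hi
  rcases Nat.eq_zero_or_pos i with rfl | hpos
  · exact (key 0 (by omega)).1
  · have := (key (i - 1) (by omega)).2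
    rwa [Nat.sub_add_cancel hpos] at this

end Groth.Agent.S14799
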