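import Groth.Statements.S14803
import Mathlib
import Groth.Agent.Lib.Helper6.MTree2

set_option autoImplicit false
universe u
open Finset
open LabGraph

namespace Groth.Agent.S14803


open Groth.Agent.Lib.helper28.GJ Groth.Agent.Lib.helper28.ChainCtr
open Groth.Agent.Lib.helper6 Groth.Agent.Lib.helper6.MTree
open Matrix

section aux

variable {V E : Type u} [Fintype V] [Fintype E] [DecidableEq V] [DecidableEq E]

lemma no_loop (ends : E → V × V) (T : Finset E)
    (hF : ∀ C : Finset E, C ⊆ T → ¬ IsCircuit ends C) {e : E} (he : e ∈ T) :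
    (ends e).1 ≠ (ends e).2 := by
  intro h
  apply hF {e} (Finset.singleton_subset_iff.2 he)
  refine ⟨Finset.singleton_nonempty e, fun v => ?_, fun C' hC' hne => ?_⟩
  · unfold endCount
    rw [Finset.sum_singleton, h]
    by_cases hv : (ends e).2 = v
    · rw [if_pos hv]; exact ⟨1, rfl⟩
    · rw [if_neg hv]; exact ⟨0, rfl⟩
  · exfalso
    have h1 := Finset.ssubset_singleton_iff.1 hC'
    rw [h1] at hne
    exact Finset.not_nonempty_empty hne

lemma no_parallel (ends : E → V × V) (T : Finset E)
    (hF : ∀ C : Finset E, C ⊆ T → ¬ IsCircuit ends C) {e e' : E} (he : e ∈ T) (he' : e' ∈ T)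
    {v w : V} (hvw : v ≠ w) (h : ends e = (v, w) ∨ ends e = (w, v))
    (h' : ends e' = (v, w) ∨ ends e' = (w, v)) : e = e' := by
  by_contra hne
  have hsub : ({e, e'} : Finset E) ⊆ T := by
    intro x hx
    rcases Finset.mem_insert.1 hx with hx | hx
    · rw [hx]; exact he
    · rw [Finset.mem_singleton.1 hx]; exact he'
  apply hF {e, e'} hsub
  have hform : ∀ x : E, (ends x = (v, w) ∨ ends x = (w, v)) → ∀ y,
      ec ends x y = (if v = y then 1 else 0) + (if w = y then 1 else 0) := by
    intro x hx y
    unfold ec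
    rcases hx with hx | hx
    · rw [hx]
    · rw [hx]; exact add_comm _ _
  have hmem : ∀ x ∈ ({e, e'} : Finset E), ends x = (v, w) ∨ ends x = (w, v) := by
    intro x hx
    rcases Finset.mem_insert.1 hx with hx | hx
    · rw [hx]; exact h
    · rw [Finset.mem_singleton.1 hx]; exact h'
  have hv1 : ∀ x ∈ ({e, e'} : Finset E), ec ends x v = 1 := by
    intro x hx
    rw [hform x (hmem x hx) v, if_pos rfl, if_neg hvw.symm]
  refine ⟨⟨e, Finset.mem_insert_self _ _⟩, fun y => ?_, fun C' hC' hne' => ?_⟩
  · rw [endCount_eq, Finset.sum_pair hne, hform e h y, hform e' h' y]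
    exact ⟨_, rfl⟩
  · refine ⟨v, ?_⟩
    have hcard : C'.card = 1 := by
      have h1 := Finset.card_lt_card hC'
      rw [Finset.card_pair hne] at h1
      have h2 := Finset.card_pos.2 hne'
      omega
    have h3 : endCount ends C' v = 1 := by
      rw [endCount_eq, Finset.sum_congr rfl (fun x hx => hv1 x (hC'.1 hx)), Finset.sum_const, hcard]
      rfl
    rw [h3]
    exact Nat.not_even_one

/-- the other endpoint -/
def other (ends : E → V × V) (v : V) (e : E) : V :=
  if (ends e).1 = v then (ends e).2 else (ends e).1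

lemma other_spec (ends : E → V × V) (T : Finset E)
    (hF : ∀ C : Finset E, C ⊆ T → ¬ IsCircuit ends C) (v : V) {e : E} (heT : e ∈ T)
    (hev : (ends e).1 = v ∨ (ends e).2 = v) :
    other ends v e ≠ v ∧ (ends e = (v, other ends v e) ∨ ends e = (other ends v e, v)) := by
  have hl := no_loop ends T hF heT
  unfold other
  by_cases h1 : (ends e).1 = v
  · rw [if_pos h1]
    refine ⟨fun h => hl (h1.trans h.symm), Or.inl ?_⟩
    rw [← h1]
  · have h2 : (ends e).2 = v := hev.resolve_left h1
    rw [if_neg h1]
    refine ⟨h1, Or.inr ?_⟩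
    rw [← h2]

lemma nbrCount_eq_endCount (ends : E → V × V) (T : Finset E)
    (hF : ∀ C : Finset E, C ⊆ T → ¬ IsCircuit ends C) (v : V) :
    nbrCount ends T v = endCount ends T v := by
  classical
  have hA : endCount ends T v =
      (T.filter (fun e => (ends e).1 = v ∨ (ends e).2 = v)).card := by
    rw [endCount_eq, Finset.card_filter]
    refine Finset.sum_congr rfl (fun e he => ?_)
    have hl := no_loop ends T hF he
    unfold ec
    by_cases h1 : (ends e).1 = v
    · have h2 : (ends e).2 ≠ v := fun h2 => hl (h1.trans h2.symm)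
      rw [if_pos h1, if_neg h2, if_pos (Or.inl h1)]
    · by_cases h2 : (ends e).2 = v
      · rw [if_neg h1, if_pos h2, if_pos (Or.inr h2)]
      · rw [if_neg h1, if_neg h2, if_neg (fun h => h.elim h1 h2)]
  rw [hA]
  unfold nbrCount
  symm
  refine Finset.card_bij (fun e _ => other ends v e) ?_ ?_ ?_
  · intro e he
    obtain ⟨heT, hev⟩ := Finset.mem_filter.1 he
    obtain ⟨h1, h2⟩ := other_spec ends T hF v heT hev
    exact Finset.mem_filter.2 ⟨Finset.mem_univ _, h1, e, heT, h2⟩
  · intro e he e' he' heq
    obtain ⟨heT, hev⟩ := Finset.mem_filter.1 he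
    obtain ⟨heT', hev'⟩ := Finset.mem_filter.1 he'
    obtain ⟨h1, h2⟩ := other_spec ends T hF v heT hev
    obtain ⟨_, h2'⟩ := other_spec ends T hF v heT' hev'
    rw [← heq] at h2'
    exact no_parallel ends T hF heT heT' (Ne.symm h1) h2 h2'
  · intro w hw
    obtain ⟨_, hwv, e, heT, hjoin⟩ := Finset.mem_filter.1 hw
    have hev : (ends e).1 = v ∨ (ends e).2 = v := by
      rcases hjoin with hj | hj
      · left; rw [hj]
      · right; rw [hj]
    refine ⟨e, Finset.mem_filter.2 ⟨heT, hev⟩, ?_⟩
    unfold other
    rcases hjoin with hj | hj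
    · rw [if_pos (by rw [hj]), hj]
    · rw [if_neg (by rw [hj]; exact hwv), hj]

lemma prod_cw (ends : E → V × V) (β : V → ℤ) (T : Finset E) :
    ∏ e ∈ T, cw ends β e = ∏ v, β v ^ endCount ends T v := by
  classical
  have h : ∀ e, cw ends β e = ∏ v, β v ^ ec ends e v := by
    intro e
    unfold cw ec
    simp only [pow_add, Finset.prod_mul_distrib]
    congr 1
    · rw [Finset.prod_eq_single (ends e).1]
      · rw [if_pos rfl, pow_one]
      · intro v _ hv; rw [if_neg (Ne.symm hv), pow_zero]
      · intro h; exact absurd (Finset.mem_univ _) h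
    · rw [Finset.prod_eq_single (ends e).2]
      · rw [if_pos rfl, pow_one]
      · intro v _ hv; rw [if_neg (Ne.symm hv), pow_zero]
      · intro h; exact absurd (Finset.mem_univ _) h
  rw [Finset.prod_congr rfl (fun e _ => h e), Finset.prod_comm]
  refine Finset.prod_congr rfl (fun v _ => ?_)
  rw [Finset.prod_pow_eq_pow_sum, endCount_eq]

end aux


open Classical in
/-- Let (G, β) be a connected finite multigraph with a multiplicity function, α its matrix (α_{vw} =
#edges(v, w) for v ≠ w, Σ_w β(w) α_{vw} = 0) and Φ(G) = ker β / im α its component group; let m be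
the gcd of all the values β(v). Then Φ(G) is finite of order m² · Σ_T Π_v β(v)^{#N_T(v) - 2}, where
T runs over the spanning trees of G and N_T(v) is the set of neighbours of v in T. (The published
statement gives this order for the Néron component group of a curve's Jacobian, G being the weighted
dual graph of a proper regular model and β its component multiplicities; this row states the
identity for every connected pair (G, β) with a positive multiplicity function.) -/
theorem result {V E : Type u} [Fintype V] [Fintype E] [DecidableEq V] [DecidableEq E]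
    (ends : E → V × V) (β : V → ℤ) (hβ : LabGraph.IsMultFn ends β) (hG : LabGraph.Connected ends) :
    (Nat.card (LabGraph.CompGrp ends β) : ℚ) =
      ((univ.gcd β : ℤ) : ℚ) ^ 2 *
        ∑ T ∈ univ.powerset.filter (fun T : Finset E => LabGraph.IsSpanningTree ends T),
          ∏ v : V, ((β v : ℚ) ^ ((LabGraph.nbrCount ends T v : ℤ) - 2)) := by
  classical
  obtain ⟨r⟩ := hG.1
  have hne : ∀ i, β i ≠ 0 := fun i => (hβ i).1.ne'
  have hpos : ∀ i, 0 < β i := fun i => (hβ i).1
  have hlat := LatGen.relIndex_mul_sq r β hne (mfMatrix ends β) (lap ends β)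
    (fun x => by
      rw [LatGen.Ssum_apply]
      simp only [LatGen.Dm_apply]
      exact beta_dot_mulVec ends β hβ x)
    (mulVec_beta ends β hβ)
    (fun x hx => ker_desc ends β hβ hG x hx)
    (fun z => lap_eq ends β hβ z)
    (lap_row ends β) (lap_col ends β)
  have hK : LinearMap.ker (betaHom β) = LinearMap.ker (LatGen.Ssum V ∘ₗ LatGen.Dm β) := by
    ext x
    rw [LinearMap.mem_ker, LinearMap.mem_ker, LinearMap.comp_apply, LatGen.Ssum_apply]
    simp only [LatGen.Dm_apply]
    unfold betaHom
    rw [Fintype.linearCombination_apply]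
    have e : ∑ i, x i • β i = ∑ i, β i * x i :=
      Finset.sum_congr rfl (fun i _ => by rw [smul_eq_mul, mul_comm])
    rw [e]
  have hcard : Nat.card (CompGrp ends β) =
      (LinearMap.range (mfMatrix ends β).mulVecLin).toAddSubgroup.relIndex
        (LinearMap.ker (LatGen.Ssum V ∘ₗ LatGen.Dm β)).toAddSubgroup := by
    rw [← hK]
    rfl
  have hcardV : Fintype.card {v // v ≠ r} + 1 = Fintype.card V := by
    have h := LatGen.sum_split r (fun _ => (1:ℤ))
    simp only [Finset.sum_const, Finset.card_univ, nsmul_eq_mul, mul_one] at h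
    omega
  have hdet : ((lap ends β).submatrix (Subtype.val : {v // v ≠ r} → V)
      (Subtype.val : {v // v ≠ r} → V)).det =
      ∑ T ∈ univ.powerset.filter (fun T : Finset E => IsSpanningTree ends T),
        ∏ e ∈ T, cw ends β e := by
    rw [det_lap_sub]
    have h1 : ∀ S ∈ (univ : Finset E).powersetCard (Fintype.card {v // v ≠ r}),
        (∏ e ∈ S, cw ends β e) * ((incS ends r S) * (incS ends r S)ᵀ).det =
          if IsSpanningTree ends S then ∏ e ∈ S, cw ends β e else 0 := by
      intro S hS
      have hSc : S.card = Fintype.card {v // v ≠ r} := (Finset.mem_powersetCard.1 hS).2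
      by_cases hconn : ∀ v w, SConn ends S v w
      · rw [det_incS_conn ends r S hSc hconn, mul_one, if_pos]
        exact (isSpanningTree_iff_card ends S r).2 ⟨hconn, by omega⟩
      · rw [det_incS_not_conn ends r S hconn, mul_zero, if_neg]
        exact fun h => hconn ((isSpanningTree_iff_card ends S r).1 h).1
    rw [Finset.sum_congr rfl h1, ← Finset.sum_filter]
    refine Finset.sum_congr ?_ (fun _ _ => rfl)
    ext S
    simp only [Finset.mem_filter, Finset.mem_powersetCard, Finset.mem_powerset]
    constructor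
    · rintro ⟨⟨h1, _⟩, h2⟩
      exact ⟨h1, h2⟩
    · rintro ⟨h1, h2⟩
      refine ⟨⟨h1, ?_⟩, h2⟩
      have := ((isSpanningTree_iff_card ends S r).1 h2).2
      omega
  have hdet_nonneg : 0 ≤ ((lap ends β).submatrix (Subtype.val : {v // v ≠ r} → V)
      (Subtype.val : {v // v ≠ r} → V)).det := by
    rw [hdet]
    refine Finset.sum_nonneg (fun T _ => Finset.prod_nonneg (fun e _ => ?_))
    exact (mul_pos (hpos _) (hpos _)).le
  have hZ : (Nat.card (CompGrp ends β) : ℤ) * (∏ i, β i) ^ 2 =
      (univ.gcd β) ^ 2 * ∑ T ∈ univ.powerset.filter (fun T : Finset E => IsSpanningTree ends T),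
        ∏ e ∈ T, cw ends β e := by
    rw [← hdet, hcard]
    have h := congrArg (Nat.cast : ℕ → ℤ) hlat
    push_cast at h
    rw [sq_abs, sq_abs, abs_of_nonneg hdet_nonneg] at h
    exact h
  have hP : (∏ i, (β i : ℚ)) ≠ 0 :=
    Finset.prod_ne_zero_iff.2 (fun i _ => by exact_mod_cast hne i)
  have hterm : ∀ T ∈ univ.powerset.filter (fun T : Finset E => IsSpanningTree ends T),
      ∏ v : V, ((β v : ℚ) ^ ((nbrCount ends T v : ℤ) - 2)) =
        ((∏ e ∈ T, cw ends β e : ℤ) : ℚ) / (∏ i, (β i : ℚ)) ^ 2 := by
    intro T hT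
    have hTree := (Finset.mem_filter.1 hT).2
    have hF := ((isSpanningTree_iff ends T r).1 hTree).2
    have h1 : ∀ v, (β v : ℚ) ^ ((nbrCount ends T v : ℤ) - 2) =
        (β v : ℚ) ^ (endCount ends T v) / (β v : ℚ) ^ 2 := by
      intro v
      have hb : (β v : ℚ) ≠ 0 := by exact_mod_cast hne v
      rw [zpow_sub₀ hb, zpow_natCast, zpow_ofNat, nbrCount_eq_endCount ends T hF v]
    rw [Finset.prod_congr rfl (fun v _ => h1 v), Finset.prod_div_distrib, Finset.prod_pow, prod_cw]
    simp only [Int.cast_prod, Int.cast_pow]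
  rw [Finset.sum_congr rfl hterm, ← Finset.sum_div, mul_div_assoc', eq_div_iff (pow_ne_zero 2 hP)]
  have hZq := congrArg (Int.cast : ℤ → ℚ) hZ
  push_cast at hZq ⊢
  exact hZq


end Groth.Agent.S14803
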