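import Groth.Statements.S14804
import Mathlib
import Groth.Agent.Lib.Helper6.MTree2

set_option autoImplicit false
universe u
open Finset
open LabGraph

namespace Groth.Agent.S14804


open Groth.Agent.Lib.helper28.GJ
open Groth.Agent.Lib.helper6 Groth.Agent.Lib.helper6.MTree



/-- In a connected finite multigraph G, a vertex v belongs to some cycle of G (here: v is an endpoint of
an edge of some circuit, a circuit being a minimal nonempty edge set meeting every vertex in an even
number of edge-ends, which includes loops and pairs of parallel edges) if and only if G has a
spanning tree T such that some edge outside T has v as an endpoint. (The published statement is for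
an arbitrary multigraph; when G is disconnected it has no spanning tree while a vertex may lie on a
cycle, so G is taken connected here, the case of dual graphs for which it is used.) -/
theorem result
    {V E : Type u} [Fintype V] [Fintype E] [DecidableEq V] [DecidableEq E]
    (ends : E → V × V) (hG : LabGraph.Connected ends) (v : V) :
    (∃ C : Finset E, LabGraph.IsCircuit ends C ∧ LabGraph.endCount ends C v ≠ 0) ↔
      ∃ T : Finset E, LabGraph.IsSpanningTree ends T ∧
        ∃ e : E, e ∉ T ∧ ((ends e).1 = v ∨ (ends e).2 = v) := by
  classical
  obtain ⟨r⟩ := hG.1
  constructor
  · rintro ⟨C, hC, hv⟩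
    obtain ⟨e, heC, hev⟩ : ∃ e ∈ C, ec ends e v ≠ 0 := by
      by_contra hcon
      apply hv
      rw [endCount_eq]
      refine Finset.sum_eq_zero (fun e he => ?_)
      by_contra h
      exact hcon ⟨e, he, h⟩
    have hev' : (ends e).1 = v ∨ (ends e).2 = v := by
      by_contra hcon
      rw [not_or] at hcon
      apply hev
      unfold ec
      rw [if_neg hcon.1, if_neg hcon.2]
    have hFor : ∀ C' : Finset E, C' ⊆ C.erase e → ¬ IsCircuit ends C' := by
      intro C' hC' hcirc
      have hss : C' ⊂ C := by
        refine ⟨hC'.trans (Finset.erase_subset _ _), fun h => ?_⟩
        exact Finset.notMem_erase e C (hC' (h heC))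
      obtain ⟨w, hw⟩ := hC.2.2 C' hss hcirc.1
      exact hw (hcirc.2.1 w)
    obtain ⟨T, hTmem, hTmax⟩ := Finset.exists_max_image
      (univ.powerset.filter (fun T : Finset E =>
        C.erase e ⊆ T ∧ ∀ C' : Finset E, C' ⊆ T → ¬ IsCircuit ends C')) Finset.card
      ⟨C.erase e, Finset.mem_filter.2
        ⟨Finset.mem_powerset.2 (Finset.subset_univ _), Finset.Subset.refl _, hFor⟩⟩
    obtain ⟨_, hFT, hTfor⟩ := Finset.mem_filter.1 hTmem
    have hTconn : ∀ a b, SConn ends T a b := by
      intro a b
      have hab := hG.2 a b
      induction hab with
      | refl => exact Relation.ReflTransGen.refl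
      | @tail c d _ hcd ih =>
        refine ih.trans ?_
        obtain ⟨e', he'⟩ := hcd
        by_contra hnc
        have he'T : e' ∉ T := by
          intro h
          apply hnc
          rcases he' with h' | h'
          · exact Relation.ReflTransGen.single ⟨e', h, Or.inl h'⟩
          · exact Relation.ReflTransGen.single ⟨e', h, Or.inr h'⟩
        have hfor' : ∀ C' : Finset E, C' ⊆ insert e' T → ¬ IsCircuit ends C' := by
          intro C' hC' hcirc
          by_cases hin : e' ∈ C'
          · have hsub : C'.erase e' ⊆ T := by
              intro x hx
              rcases Finset.mem_insert.1 (hC' (Finset.mem_of_mem_erase hx)) with h | h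
              · exact absurd h (Finset.ne_of_mem_erase hx)
              · exact h
            have hcd' : SConn ends T (ends e').1 (ends e').2 := by
              by_cases hab : (ends e').1 = (ends e').2
              · rw [hab]; exact Relation.ReflTransGen.refl
              · have heven : ∀ w, (endCount ends C' w : ZMod 2) = 0 := fun w =>
                  (ZMod.natCast_eq_zero_iff_even).2 (hcirc.2.1 w)
                have hjoin : IsJoin ends (C'.erase e') (ends e').1 (ends e').2 := by
                  intro w
                  have h1 := heven w
                  rw [endCount_eq, ← Finset.add_sum_erase _ _ hin] at h1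
                  push_cast at h1
                  rw [ec_cast] at h1
                  rw [endCount_eq]
                  push_cast
                  linear_combination h1 - (dl (ends e').1 w + dl (ends e').2 w) * two_zero
                exact sConn_mono ends hsub (conn_of_join ends hab hjoin)
            apply hnc
            rcases he' with h' | h'
            · have h1 : (ends e').1 = c := by rw [h']
              have h2 : (ends e').2 = d := by rw [h']
              rw [h1, h2] at hcd'; exact hcd'
            · have h1 : (ends e').1 = d := by rw [h']
              have h2 : (ends e').2 = c := by rw [h']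
              rw [h1, h2] at hcd'; exact sConn_symm ends T hcd'
          · apply hTfor C' _ hcirc
            intro x hx
            rcases Finset.mem_insert.1 (hC' hx) with h | h
            · exact absurd (h ▸ hx) hin
            · exact h
        have hmem : insert e' T ∈ univ.powerset.filter (fun T : Finset E =>
            C.erase e ⊆ T ∧ ∀ C' : Finset E, C' ⊆ T → ¬ IsCircuit ends C') :=
          Finset.mem_filter.2 ⟨Finset.mem_powerset.2 (Finset.subset_univ _),
            hFT.trans (Finset.subset_insert _ _), hfor'⟩
        have hle := hTmax _ hmem
        rw [Finset.card_insert_of_notMem he'T] at hle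
        omega
    have heT : e ∉ T := by
      intro h
      apply hTfor C _ hC
      intro x hx
      by_cases hxe : x = e
      · rw [hxe]; exact h
      · exact hFT (Finset.mem_erase.2 ⟨hxe, hx⟩)
    exact ⟨T, (isSpanningTree_iff ends T r).2 ⟨hTconn, hTfor⟩, e, heT, hev'⟩
  · rintro ⟨T, hT, e, heT, hev⟩
    obtain ⟨hconn, hF⟩ := (isSpanningTree_iff ends T r).1 hT
    obtain ⟨P, hPT, hcirc⟩ := exists_circuit_of_conn ends heT (hconn (ends e).1 (ends e).2)
    refine ⟨insert e P, hcirc, ?_⟩
    have heP : e ∉ P := fun h => heT (hPT h)
    rw [endCount_eq, Finset.sum_insert heP]
    have h1 : ec ends e v ≠ 0 := by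
      unfold ec
      rcases hev with h | h
      · rw [if_pos h]; omega
      · rw [if_pos h]; omega
    omega


end Groth.Agent.S14804
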