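import Groth.Statements.S14807
import Mathlib.GroupTheory.OrderOfElement
import Mathlib.Data.Nat.Factorization.Basic

set_option autoImplicit false
universe u
open CAlg

namespace Groth.Agent.S14807

/-- Let G be a finite abelian group, written additively, and ℓ a prime number. Every sequence (g_n)_{n ≥
0} of elements of G with ℓ^n · g_n = 0 and ℓ · g_{n+1} = g_n for all n is identically zero; in other
words the inverse limit of the subgroups of ℓ^n-torsion elements, with transition maps
multiplication by ℓ, vanishes. -/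
theorem result (G : Type u) [AddCommGroup G] [Finite G]
    (ℓ : ℕ) (hℓ : ℓ.Prime) (g : ℕ → G) (htor : ∀ n : ℕ, ℓ ^ n • g n = 0)
    (hcomp : ∀ n : ℕ, ℓ • g (n + 1) = g n) (n : ℕ) : g n = 0 := by
  have hN : Nat.card G ≠ 0 := Nat.card_pos.ne'
  set a := (Nat.card G).factorization ℓ with ha
  -- `g n = ℓ ^ k • g (n + k)`
  have hshift : ∀ k : ℕ, g n = ℓ ^ k • g (n + k) := by
    intro k
    induction k with
    | zero => simp
    | succ k ih =>
      rw [ih, ← add_assoc, ← hcomp (n + k), smul_smul, pow_succ]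
  rw [hshift a]
  set x := g (n + a) with hx
  have h1 : addOrderOf x ∣ ℓ ^ (n + a) := addOrderOf_dvd_of_nsmul_eq_zero (htor (n + a))
  have h2 : addOrderOf x ∣ Nat.card G := addOrderOf_dvd_natCard x
  obtain ⟨k, -, hk⟩ := (Nat.dvd_prime_pow hℓ).mp h1
  have hka : k ≤ a := by
    rw [hk] at h2
    exact (hℓ.pow_dvd_iff_le_factorization hN).mp h2
  have h3 : addOrderOf x ∣ ℓ ^ a := by
    rw [hk]
    exact pow_dvd_pow ℓ hka
  exact addOrderOf_dvd_iff_nsmul_eq_zero.mp h3

end Groth.Agent.S14807
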