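import Groth.Statements.S14808
import Groth.Agent.Lib.Helper11.InvHom

set_option autoImplicit false
universe u
open CategoryTheory CategoryTheory.Limits AlgebraicGeometry
open PicF

namespace Groth.Agent.S14808

/-- Let X be an integral scheme such that Γ(X, O_X) is a field and L an invertible O_X-module. If L has
a nonzero global section (a nonzero morphism O_X → L) and its dual has a nonzero global section (a
nonzero morphism L → O_X), then L is isomorphic to O_X. -/
theorem result (X : Scheme.{u}) [IsIntegral X]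
    (hfield : IsField (Γ(X, ⊤) : Type u)) (L : X.Modules) (hL : PicF.IsInvertible L)
    (s : Coh.structureModule X ⟶ L) (hs : s ≠ 0) (t : L ⟶ Coh.structureModule X) (ht : t ≠ 0) :
    Nonempty (L ≅ Coh.structureModule X) := by
  have hO := Groth.Agent.Lib.helper11.InvMod.isInvertible_structureModule X
  have h1 : s ≫ t ≠ 0 := Groth.Agent.Lib.helper11.InvHom.comp_ne_zero hO hL hO s t hs ht
  have h2 : Groth.Agent.Lib.helper11.GenLocus.fn (s ≫ t) ⊤ ≠ 0 := by
    intro h0
    apply h1
    rw [← Groth.Agent.Lib.helper11.InvHom.isZeroOn_top_iff,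
      Groth.Agent.Lib.helper11.InvHom.isZeroOn_iff_sec]
    exact h0
  have h3 : IsUnit (Groth.Agent.Lib.helper11.GenLocus.fn (s ≫ t) ⊤) := by
    obtain ⟨b, hb⟩ := hfield.mul_inv_cancel h2
    exact IsUnit.of_mul_eq_one _ hb
  have h4 : IsIso (s ≫ t) :=
    (Groth.Agent.Lib.helper11.InvHom.isIso_iff_isUnit_fn_top (s ≫ t)).mpr h3
  have h5 := (Groth.Agent.Lib.helper11.InvHom.isIso_of_isIso_comp hO hL hO s t).1
  exact ⟨(asIso s).symm⟩

end Groth.Agent.S14808
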