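import Groth.Statements.S14809
import Groth.Agent.Lib.Lead.GenLocusInt
import Groth.Agent.Lib.Helper12.AmpleBasis
-- import your own Groth.Agent.* helpers here

set_option autoImplicit false
set_option backward.isDefEq.respectTransparency false
universe u
open CategoryTheory CategoryTheory.Limits AlgebraicGeometry
open PicF

namespace Groth.Agent.S14809

/-- Let X be an integral scheme such that Γ(X, O_X) is a field and L an invertible O_X-module with a
nonzero global section (a nonzero morphism O_X → L). If some tensor power L^{⊗d} with d ≥ 1 is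
isomorphic to O_X, then L itself is isomorphic to O_X. -/
theorem result (X : Scheme.{u}) [IsIntegral X]
    (hfield : IsField (Γ(X, ⊤) : Type u)) (L : X.Modules) (hL : PicF.IsInvertible L)
    (s : Coh.structureModule X ⟶ L) (hs : s ≠ 0) (d : ℕ) (hd : 0 < d)
    (htriv : Nonempty (CohB1.tensorPow L d ≅ Coh.structureModule X)) :
    Nonempty (L ≅ Coh.structureModule X) := by
  obtain ⟨e⟩ := htriv
  obtain ⟨j, rfl⟩ : ∃ j, d = j + 1 := ⟨d - 1, by omega⟩
  have h1 : CohB1.genLocus _ (SecTwist.powHom s (j + 1) ≫ e.hom) = CohB1.genLocus L s := by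
    rw [Groth.Agent.Lib.helper11.IsoLocus.genLocus_comp_iso,
      Groth.Agent.Lib.helper12.AmpleBasis.genLocus_powHom hL s j]
  have h2 : CohB1.genLocus _ (SecTwist.powHom s (j + 1) ≫ e.hom) ≠ ⊥ := by
    rw [h1]
    exact Groth.Agent.Lib.Lead.GenLocusInt.genLocus_ne_bot hL s hs
  have h3 := Groth.Agent.Lib.Lead.GenLocusInt.genLocus_eq_top_of_isField hfield _ h2
  rw [h1, Groth.Agent.Lib.helper11.IsoLocus.genLocus_eq_top_iff] at h3
  exact ⟨(asIso s).symm⟩

end Groth.Agent.S14809
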