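import Groth.Statements.S14811
import Groth.Agent.Lib.Helper7.NefBC

set_option autoImplicit false
universe u
open CategoryTheory CategoryTheory.Limits AlgebraicGeometry
open Pic13

namespace Groth.Agent.S14811

/-- Let X be a proper scheme over a field k, L an invertible O_X-module and k ⊆ E an arbitrary field
extension. Then L is numerically trivial on X (degree 0 on every closed subscheme of X which is
integral of dimension one) if and only if the pullback of L to X_E = X ×_k Spec E is numerically
trivial on X_E regarded as a scheme over E. -/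
theorem result (k : Type u) [Field k] (X : Scheme.{u})
    [X.Over (Spec (CommRingCat.of k))] [IsProper (X ↘ Spec (CommRingCat.of k))] (L : X.Modules) (hL : PicF.IsInvertible L)
    (E : Type u) [Field E] [Algebra k E] :
    Pic13.IsNumEquivZero k X L ↔
      @Pic13.IsNumEquivZero E _ (pullback (X ↘ Spec (CommRingCat.of k)) (Spec.map (CommRingCat.ofHom (algebraMap k E))))
        ⟨pullback.snd (X ↘ Spec (CommRingCat.of k)) (Spec.map (CommRingCat.ofHom (algebraMap k E)))⟩
        ((Scheme.Modules.pullback (pullback.fst (X ↘ Spec (CommRingCat.of k)) (Spec.map (CommRingCat.ofHom (algebraMap k E))))).obj L) := by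
  letI : (pullback (X ↘ Spec (CommRingCat.of k))
      (Spec.map (CommRingCat.ofHom (algebraMap k E)))).Over (Spec (CommRingCat.of E)) :=
    ⟨pullback.snd (X ↘ Spec (CommRingCat.of k)) (Spec.map (CommRingCat.ofHom (algebraMap k E)))⟩
  haveI : IsProper ((pullback (X ↘ Spec (CommRingCat.of k))
      (Spec.map (CommRingCat.ofHom (algebraMap k E)))) ↘ Spec (CommRingCat.of E)) := by
    change IsProper (pullback.snd (X ↘ Spec (CommRingCat.of k))
      (Spec.map (CommRingCat.ofHom (algebraMap k E))))
    infer_instance
  have hpb : IsPullback (pullback.fst (X ↘ Spec (CommRingCat.of k))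
      (Spec.map (CommRingCat.ofHom (algebraMap k E))))
      ((pullback (X ↘ Spec (CommRingCat.of k))
        (Spec.map (CommRingCat.ofHom (algebraMap k E)))) ↘ Spec (CommRingCat.of E))
      (X ↘ Spec (CommRingCat.of k)) (Spec.map (CommRingCat.ofHom (algebraMap k E))) :=
    IsPullback.of_hasPullback _ _
  have hgL := Groth.Agent.Lib.helper11.InvMod.isInvertible_pullback (pullback.fst
    (X ↘ Spec (CommRingCat.of k)) (Spec.map (CommRingCat.ofHom (algebraMap k E)))) hL
  have key := Groth.Agent.Lib.helper7.NefBC.numTriv_bc_iff k X E _ _ hpb hL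
  constructor
  · intro h Y i _ hY hdim
    exact Groth.Agent.Lib.helper7.NumEq.forall_curveDeg_of_forall_nefq E _ hgL hgL
      (fun a _ => a = 0)
      (key.mp (Groth.Agent.Lib.helper7.NumEq.forall_nefq_of_forall_curveDeg k X hL hL
        (fun a _ => a = 0) (fun Y i _ hY hdim => h Y i hY hdim))) Y i hY hdim
  · intro h Y i _ hY hdim
    exact Groth.Agent.Lib.helper7.NumEq.forall_curveDeg_of_forall_nefq k X hL hL
      (fun a _ => a = 0)
      (key.mpr (Groth.Agent.Lib.helper7.NumEq.forall_nefq_of_forall_curveDeg E _ hgL hgL
        (fun a _ => a = 0) (fun Y i _ hY hdim => h Y i hY hdim))) Y i hY hdim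

end Groth.Agent.S14811
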