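import Groth.Statements.S14813
import Mathlib
import Groth.Agent.Lib.Helper8.EtaleEulerN
-- import your own Groth.Agent.* helpers here

set_option autoImplicit false
universe u
open CategoryTheory CategoryTheory.Limits AlgebraicGeometry
open FGA

namespace Groth.Agent.S14813

theorem main (k : Type u) [Field k] (X X' : Scheme.{u})
    [X.Over (Spec (CommRingCat.of k))] [X'.Over (Spec (CommRingCat.of k))]
    [IsProper (X ↘ Spec (CommRingCat.of k))] [IsProper (X' ↘ Spec (CommRingCat.of k))] [Smooth (X ↘ Spec (CommRingCat.of k))] [Smooth (X' ↘ Spec (CommRingCat.of k))]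
    [IsIntegral X] [IsIntegral X'] (φ : X' ⟶ X) [Etale φ] (hφ : φ ≫ (X ↘ Spec (CommRingCat.of k)) = X' ↘ Spec (CommRingCat.of k))
    (d : ℕ) (hd : Mor2.IsFinLocFreeOfDeg d φ) (n : ℕ) (hn : topologicalKrullDim X = n) :
    FGA.eulerCharLE k X' (Coh.structureModule X') n = d * FGA.eulerCharLE k X (Coh.structureModule X) n := by
  obtain ⟨⟨hfin, hflat, hfp⟩, hdeg⟩ := hd
  haveI := hfin
  haveI := Groth.Agent.Lib.Lead.ProperEuler.compactSpace k X
  haveI := Groth.Agent.Lib.Lead.ProperEuler.compactSpace k X'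
  haveI := Groth.Agent.Lib.Lead.ProperEuler.quasiSeparatedSpace k X
  haveI := Groth.Agent.Lib.Lead.ProperEuler.quasiSeparatedSpace k X'
  have hdimX' : topologicalKrullDim X' ≤ n :=
    (Groth.Agent.Lib.helper9.VABC3.dim_le_of_isIntegralHom φ).trans hn.le
  rw [← Groth.Agent.Lib.Helper18.HH.euler_eq_eulerCharLE k (Coh.structureModule X') n
      (fun i hi => Groth.Agent.Lib.Lead.GrothVanish.subsingleton_HH_of_dim_le X' n hdimX' _ i hi),
    ← Groth.Agent.Lib.Helper18.HH.euler_eq_eulerCharLE k (Coh.structureModule X) n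
      (fun i hi => Groth.Agent.Lib.Lead.GrothVanish.subsingleton_HH_of_dim_le X n hn.le _ i hi)]
  have hd1 : 1 ≤ d := by
    obtain ⟨x⟩ := (inferInstance : Nonempty X')
    rw [← hdeg (φ x)]
    exact Scheme.Hom.one_le_finrank_map φ x
  exact Groth.Agent.Lib.helper8.EtaleEulerN.euler_of_finite_etale k φ hφ d hd1 hdeg


/-- Let k be an arbitrary field and let X and X' be smooth, integral, proper k-schemes, X of dimension
n, with an étale k-morphism φ : X' → X (it is then finite étale); suppose φ is finite locally free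
of constant degree d. Then χ(O_{X'}) = d · χ(O_X), where χ denotes the alternating sum of dim_k
H^i(·, O) over 0 ≤ i ≤ n (X' has dimension n as well). -/
theorem result (k : Type u) [Field k] (X X' : Scheme.{u})
    [X.Over (Spec (CommRingCat.of k))] [X'.Over (Spec (CommRingCat.of k))]
    [IsProper (X ↘ Spec (CommRingCat.of k))] [IsProper (X' ↘ Spec (CommRingCat.of k))] [Smooth (X ↘ Spec (CommRingCat.of k))] [Smooth (X' ↘ Spec (CommRingCat.of k))]
    [IsIntegral X] [IsIntegral X'] (φ : X' ⟶ X) [Etale φ] (hφ : φ ≫ (X ↘ Spec (CommRingCat.of k)) = X' ↘ Spec (CommRingCat.of k))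
    (d : ℕ) (hd : Mor2.IsFinLocFreeOfDeg d φ) (n : ℕ) (hn : topologicalKrullDim X = n) :
    FGA.eulerCharLE k X' (Coh.structureModule X') n = d * FGA.eulerCharLE k X (Coh.structureModule X) n := by
  exact main k X X' φ hφ d hd n hn

end Groth.Agent.S14813
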