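import Groth.Statements.S14819
import Mathlib
import Groth.Agent.Lib.Helper8.PTors4
import Groth.Agent.Lib.Helper12.PullAmple
import Groth.Agent.Lib.Helper12.TensorInv
import Groth.Agent.Lib.Lead.ModTensor
-- import your own Groth.Agent.* helpers here

set_option autoImplicit false
universe u
open CategoryTheory CategoryTheory.Limits AlgebraicGeometry
open PicF

namespace Groth.Agent.S14819

open Groth.Agent.Lib.Lead.ModTensor in
theorem main (X X' : Scheme.{u})
    [IsIntegral X] (hnorm : Pi1.IsNormalScheme X)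
    (p : ℕ) [Fact (Nat.Prime p)] [CharP (Γ(X, ⊤) : Type u) p]
    (L : X.Modules) (hL : PicF.IsInvertible L) (d : ℕ) (hd : 0 < d)
    (hord : Nonempty (CohB1.tensorPow L d ≅ Coh.structureModule X))
    (hmin : ∀ i : ℕ, 0 < i → i < d → IsEmpty (CohB1.tensorPow L i ≅ Coh.structureModule X))
    (hpd : p ∣ d) [ConnectedSpace X']
    (hroot : ∀ u : (Γ(X', ⊤) : Type u), IsUnit u → ∃ v : (Γ(X', ⊤) : Type u), v ^ p = u)
    (f : X' ⟶ X) [IsFinite f] [Etale f] :
    IsEmpty ((Scheme.Modules.pullback f).obj L ≅ Coh.structureModule X') := by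
  refine ⟨fun ψ => ?_⟩
  obtain ⟨m, hm⟩ := hpd
  have hp : p.Prime := Fact.out
  have hm0 : 0 < m := by
    rcases Nat.eq_zero_or_pos m with h | h
    · rw [h, Nat.mul_zero] at hm
      omega
    · exact h
  have hmd : m < d := by
    rw [hm]
    have := hp.two_le
    nlinarith
  obtain ⟨φ⟩ := hord
  have hM := Groth.Agent.Lib.helper12.TensorInv.isInvertible_tensorPow hL m
  have hmp : m * p = d := by rw [hm, Nat.mul_comm]
  let φp : CohB1.tensorPow (CohB1.tensorPow L m) p ≅ Coh.structureModule X :=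
    tensorPowMul L m p ≪≫ eqToIso (by rw [hmp]) ≪≫ φ
  let ψm : (Scheme.Modules.pullback f).obj (CohB1.tensorPow L m) ≅ Coh.structureModule X' :=
    Groth.Agent.Lib.helper12.PullAmple.pullTensorPowIso f hL m ≪≫ tensorPowIso ψ m ≪≫
      tensorPowUnit m
  have hp0 : ((p : ℕ) : Γ(X, ⊤)) = 0 := CharP.cast_eq_zero _ p
  obtain ⟨e⟩ := Groth.Agent.Lib.helper8.PTors.nonempty_iso_of_pullback_iso hnorm p hp0
    (CohB1.tensorPow L m) hM φp hroot f ψm
  exact (hmin m hm0 hmd).false e


/-- Let X be an integral Noetherian scheme which is normal (all local rings integrally closed domains)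
and whose ring of global functions Γ(X, O_X) is a field of characteristic p > 0; let L be an
invertible O_X-module of exact order d in Pic(X), i.e. L^{⊗d} ≅ O_X with d ≥ 1 and L^{⊗i} not
isomorphic to O_X for 0 < i < d, and suppose p divides d. Let X' be a connected scheme such that
every unit of Γ(X', O_{X'}) has a p-th root. Then no finite étale morphism f : X' → X (a finite
étale covering of X by X') satisfies f^*L ≅ O_{X'}. -/
theorem result (X X' : Scheme.{u})
    [IsIntegral X] [IsNoetherian X] (hnorm : Pi1.IsNormalScheme X)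
    (hfield : IsField (Γ(X, ⊤) : Type u)) (p : ℕ) [Fact (Nat.Prime p)] [CharP (Γ(X, ⊤) : Type u) p]
    (L : X.Modules) (hL : PicF.IsInvertible L) (d : ℕ) (hd : 0 < d)
    (hord : Nonempty (CohB1.tensorPow L d ≅ Coh.structureModule X))
    (hmin : ∀ i : ℕ, 0 < i → i < d → IsEmpty (CohB1.tensorPow L i ≅ Coh.structureModule X))
    (hpd : p ∣ d) [ConnectedSpace X']
    (hroot : ∀ u : (Γ(X', ⊤) : Type u), IsUnit u → ∃ v : (Γ(X', ⊤) : Type u), v ^ p = u)
    (f : X' ⟶ X) [IsFinite f] [Etale f] :
    IsEmpty ((Scheme.Modules.pullback f).obj L ≅ Coh.structureModule X') := by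
  exact main X X' hnorm p L hL d hd hord hmin hpd hroot f

end Groth.Agent.S14819
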