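import Groth.Statements.S14821
import Groth.Agent.Lib.Helper8.SteinAlgClosed
import Groth.Agent.Lib.Helper8.SteinAlgClosed2

set_option autoImplicit false
universe u
open CategoryTheory CategoryTheory.Limits AlgebraicGeometry
open CohIII

namespace Groth.Agent.S14821

/-- Let k be a field and f : X → Y a surjective k-morphism between integral proper k-schemes which are
both normal (all local rings integrally closed domains). Then f is a fibration, i.e. O_Y → f_*O_X is
an isomorphism (Γ(U, O_Y) → Γ(f⁻¹U, O_X) is bijective for every open U ⊆ Y), exactly when K(Y) is
algebraically closed inside K(X): every element of the function field of X which is integral over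
the function field of Y, embedded through the stalk map of f at the generic points, lies in the
image of K(Y). (The published statement assumes only Y normal; without normality of X the forward
implication fails — for a quadratic field extension k ⊂ k', the projective line over k' with one
k'-rational point pinched to a k-rational point, mapped to Spec k, has ring of global functions k
although k is not algebraically closed in its function field k'(t) — and the published proof
resolves the indeterminacy of a rational map on the generic fibre by a graph whose projection is a
fibration, which needs X normal; so this row assumes X normal as well. The reverse implication holds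
without it.) -/
theorem result (k : Type u) [Field k]
    (X Y : Scheme.{u}) [X.Over (Spec (CommRingCat.of k))] [Y.Over (Spec (CommRingCat.of k))]
    [IsProper (X ↘ Spec (CommRingCat.of k))] [IsProper (Y ↘ Spec (CommRingCat.of k))] [IsIntegral X] [IsIntegral Y]
    (hX : Pi1.IsNormalScheme X) (hY : Pi1.IsNormalScheme Y) (f : X ⟶ Y) [Surjective f] (hf : f ≫ (Y ↘ Spec (CommRingCat.of k)) = X ↘ Spec (CommRingCat.of k))
    (h : f.base (genericPoint ↥X) ⤳ genericPoint ↥Y) :
    (∀ U : Y.Opens, IsIso (f.app U)) ↔
      ∀ x : ↑X.functionField, (CohIII.stalkToFunctionField f (genericPoint ↥Y) h).IsIntegralElem x → x ∈ (CohIII.stalkToFunctionField f (genericPoint ↥Y) h).range := by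
  haveI : IsProper f := by
    haveI : IsProper (f ≫ (Y ↘ Spec (CommRingCat.of k))) := by
      rw [hf]
      infer_instance
    exact IsProper.of_comp f (Y ↘ Spec (CommRingCat.of k))
  haveI : IsLocallyNoetherian Y :=
    LocallyOfFiniteType.isLocallyNoetherian (Y ↘ Spec (CommRingCat.of k))
  constructor
  · intro hfib x hx
    exact Groth.Agent.Lib.helper8.SteinAC.mem_range_of_isIntegralElem_of_fibration f h
      (fun ξ => (hX ξ).2) hfib x hx
  · intro hcl
    have halg : ∀ x : X.functionField,
        (∃ q : Polynomial Y.functionField, q ≠ 0 ∧
          Polynomial.eval₂ (CohIII.stalkToFunctionField f (genericPoint Y) h) x q = 0) →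
        x ∈ Set.range (CohIII.stalkToFunctionField f (genericPoint Y) h) := by
      rintro x ⟨q, hq0, hq⟩
      have := hcl x ⟨q * Polynomial.C q.leadingCoeff⁻¹, Polynomial.monic_mul_leadingCoeff_inv hq0, by
        rw [Polynomial.eval₂_mul, hq, zero_mul]⟩
      exact this
    intro U
    refine Groth.Agent.Lib.helper8.SteinAC.isIso_app_of_locally_surjective_at f
      (Groth.Agent.Lib.helper8.SteinAC.app_injective' f h) U (fun y hy => ?_)
    obtain ⟨U', hyU', hU'⟩ :=
      Groth.Agent.Lib.helper8.SteinAC.exists_nhd_isIso_app f h halg y (hY y).2
    refine ⟨U ⊓ U', ⟨hy, hyU'⟩, inf_le_left, ?_⟩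
    exact ((ConcreteCategory.isIso_iff_bijective _).mp (hU' (U ⊓ U') inf_le_right)).2

end Groth.Agent.S14821
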