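import Groth.Statements.S14822
import Groth.Agent.Lib.Helper8.SteinAlgClosed
import Groth.Agent.Lib.Helper3.FTFieldDim
import Groth.Agent.Lib.Helper3.FTFieldChain
import Groth.Agent.Lib.Helper3.FTFieldClosureDim
import Groth.Agent.Lib.Helper3.IrredDim

set_option autoImplicit false
universe u
open CategoryTheory CategoryTheory.Limits AlgebraicGeometry
open CohIII

namespace Groth.Agent.S14822

open Groth.Agent.Lib.helper3.FTField in
/-- the dimension of an integral scheme locally of finite type over a field is the transcendence degree of its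
function field -/
theorem dim_eq_trdeg_genericPoint (k : Type u) [Field k] (X : Scheme.{u})
    [X.Over (Spec (CommRingCat.of k))] [LocallyOfFiniteType (X ↘ Spec (CommRingCat.of k))]
    [IsIntegral X] (n : ℕ)
    (hn : @Algebra.trdeg k (X.residueField (genericPoint X)) _ _
      (Curv2.resAlgebra k X (genericPoint X)) = n) :
    topologicalKrullDim ↥X = (n : WithBot ℕ∞) := by
  have h1 := dim_closure_eq_trdeg k X (genericPoint X) n hn
  have h2 : closure ({genericPoint X} : Set X) = Set.univ := genericPoint_spec X
  rw [h2, Groth.Agent.Lib.helper3.IrredDim.dim_univ_eq] at h1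
  exact h1

open Groth.Agent.Lib.helper3.FTField in
/-- a point of a closed set not containing the generic point has residue field of smaller transcendence
degree than the function field -/
theorem trdeg_lt_of_mem_closed (k : Type u) [Field k] (X : Scheme.{u})
    [X.Over (Spec (CommRingCat.of k))] [LocallyOfFiniteType (X ↘ Spec (CommRingCat.of k))]
    [IsIntegral X] (Z : Set X) (hZ : IsClosed Z) (hη : genericPoint X ∉ Z) (z : X) (hz : z ∈ Z)
    (nX nz : ℕ)
    (hnX : @Algebra.trdeg k (X.residueField (genericPoint X)) _ _
      (Curv2.resAlgebra k X (genericPoint X)) = nX)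
    (hnz : @Algebra.trdeg k (X.residueField z) _ _ (Curv2.resAlgebra k X z) = nz) :
    nz + 1 ≤ nX := by
  obtain ⟨c, hc, hcmem⟩ := exists_chain_in_open k X z Set.univ isOpen_univ trivial nz hnz
  let c' : Fin (nz + 1 + 1) → X := Fin.cons (genericPoint X) c
  have hgen : ∀ x : X, genericPoint X ⤳ x := fun x => (genericPoint_spec X).specializes trivial
  refine length_le_trdeg_of_mem_closure k X (genericPoint X) nX hnX (nz + 1) c' ?_ (hgen _)
  intro i
  refine Fin.cases ?_ (fun j => ?_) i
  · refine ⟨hgen _, fun h => hη ?_⟩
    have h0 : c 0 ∈ Z := by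
      have := (hcmem 0).2
      exact (closure_minimal (Set.singleton_subset_iff.mpr hz) hZ) this
    have : genericPoint X ∈ closure ({c 0} : Set X) := by
      simpa [c', specializes_iff_mem_closure] using h
    exact (closure_minimal (Set.singleton_subset_iff.mpr h0) hZ) this
  · simpa [c'] using hc j


/-- Let k be a field and f : X → Y a surjective k-morphism between integral proper k-schemes of the same
dimension, with Y normal (all local rings integrally closed domains). Then f is a fibration (Γ(U,
O_Y) → Γ(f⁻¹U, O_X) bijective for every open U ⊆ Y) if and only if f is birational: the embedding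
K(Y) → K(X) of function fields given by the stalk map at the generic points is bijective. -/
theorem result (k : Type u) [Field k]
    (X Y : Scheme.{u}) [X.Over (Spec (CommRingCat.of k))] [Y.Over (Spec (CommRingCat.of k))]
    [IsProper (X ↘ Spec (CommRingCat.of k))] [IsProper (Y ↘ Spec (CommRingCat.of k))] [IsIntegral X] [IsIntegral Y]
    (hY : Pi1.IsNormalScheme Y) (f : X ⟶ Y) [Surjective f] (hf : f ≫ (Y ↘ Spec (CommRingCat.of k)) = X ↘ Spec (CommRingCat.of k))
    (hdim : topologicalKrullDim ↥X = topologicalKrullDim ↥Y)
    (h : f.base (genericPoint ↥X) ⤳ genericPoint ↥Y) :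
    (∀ U : Y.Opens, IsIso (f.app U)) ↔ Function.Bijective (CohIII.stalkToFunctionField f (genericPoint ↥Y) h) := by
  haveI : IsProper f := by
    haveI : IsProper (f ≫ (Y ↘ Spec (CommRingCat.of k))) := by
      rw [hf]
      infer_instance
    exact IsProper.of_comp f (Y ↘ Spec (CommRingCat.of k))
  haveI : IsLocallyNoetherian Y :=
    LocallyOfFiniteType.isLocallyNoetherian (Y ↘ Spec (CommRingCat.of k))
  constructor
  · intro hfib
    refine ⟨(CohIII.stalkToFunctionField f (genericPoint Y) h).injective, ?_⟩
    intro t
    obtain ⟨W, hηW, s, rfl⟩ := TopCat.Presheaf.exists_germ_eq X.presheaf (x := genericPoint X) t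
    -- the closed complement
    set Z : Set X := (W : Set X)ᶜ with hZ
    have hZcl : IsClosed Z := W.isOpen.isClosed_compl
    have hηZ : genericPoint X ∉ Z := fun hh => hh hηW
    have hfZ : IsClosed (f.base '' Z) := f.isClosedMap _ hZcl
    have hηY : genericPoint Y ∉ f.base '' Z := by
      rintro ⟨z, hz, hfz⟩
      obtain ⟨nX, hnX⟩ := Groth.Agent.Lib.helper3.FTField.exists_nat_trdeg_residueField k X
        (genericPoint X)
      obtain ⟨nY, hnY⟩ := Groth.Agent.Lib.helper3.FTField.exists_nat_trdeg_residueField k Y
        (genericPoint Y)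
      obtain ⟨nz, hnz⟩ := Groth.Agent.Lib.helper3.FTField.exists_nat_trdeg_residueField k X z
      have h1 := trdeg_lt_of_mem_closed k X Z hZcl hηZ z hz nX nz hnX hnz
      have h2 := Groth.Agent.Lib.helper3.FTField.trdeg_residueField_le_of_hom k
        (Y ↘ Spec (CommRingCat.of k)) (X ↘ Spec (CommRingCat.of k)) f hf z
      have h3 := dim_eq_trdeg_genericPoint k X nX hnX
      have h4 := dim_eq_trdeg_genericPoint k Y nY hnY
      rw [hdim, h4] at h3
      have h5 : nY = nX := by exact_mod_cast h3
      have h6 : (nY : Cardinal.{u}) ≤ nz := by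
        rw [hfz] at h2
        rw [← hnY, ← hnz]
        exact h2
      have h7 : nY ≤ nz := by exact_mod_cast h6
      omega
    let V' : Y.Opens := ⟨(f.base '' Z)ᶜ, hfZ.isOpen_compl⟩
    have hηV' : genericPoint Y ∈ V' := hηY
    have hle : f ⁻¹ᵁ V' ≤ W := by
      intro x hx
      by_contra hxW
      exact hx ⟨x, hxW, rfl⟩
    haveI := hfib V'
    let a : Γ(Y, V') := (inv (f.app V')).hom (X.presheaf.map (homOfLE hle).op s)
    refine ⟨Y.presheaf.germ V' (genericPoint Y) hηV' a, ?_⟩
    rw [Groth.Agent.Lib.helper8.SteinRad.stalkToFunctionField_germ f (genericPoint Y) h V' hηV' a]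
    have ha : (f.app V').hom a = X.presheaf.map (homOfLE hle).op s := by
      change ((inv (f.app V')) ≫ f.app V').hom _ = _
      rw [IsIso.inv_hom_id]
      rfl
    rw [ha]
    exact TopCat.Presheaf.germ_res_apply X.presheaf (homOfLE hle) (genericPoint X) _ s
  · intro hbij
    have halg : ∀ x : X.functionField,
        (∃ q : Polynomial Y.functionField, q ≠ 0 ∧
          Polynomial.eval₂ (CohIII.stalkToFunctionField f (genericPoint Y) h) x q = 0) →
        x ∈ Set.range (CohIII.stalkToFunctionField f (genericPoint Y) h) := by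
      rintro x -
      exact hbij.2 x
    intro U
    refine Groth.Agent.Lib.helper8.SteinAC.isIso_app_of_locally_surjective_at f
      (Groth.Agent.Lib.helper8.SteinAC.app_injective' f h) U (fun y hy => ?_)
    obtain ⟨U', hyU', hU'⟩ :=
      Groth.Agent.Lib.helper8.SteinAC.exists_nhd_isIso_app f h halg y (hY y).2
    refine ⟨U ⊓ U', ⟨hy, hyU'⟩, inf_le_left, ?_⟩
    exact ((ConcreteCategory.isIso_iff_bijective _).mp (hU' (U ⊓ U') inf_le_right)).2

end Groth.Agent.S14822
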