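import Groth.Statements.S14825
import Groth.Agent.Lib.Helper18.HHZero

set_option autoImplicit false
universe u
open CategoryTheory MonoidalCategory CartesianMonoidalCategory MonObj GrpObj AlgebraicGeometry
open AbVar

namespace Groth.Agent.S14825


/-- a `k`-algebra of dimension one is `k` -/
theorem bijective_of_finrank_eq_one {k B : Type*} [Field k] [CommRing B] (φ : k →+* B)
    (h : @Module.finrank k B _ _ (Module.compHom B φ) = 1) : Function.Bijective φ := by
  letI := φ.toAlgebra
  have h' : Module.finrank k B = 1 := h
  haveI : Nontrivial B := Module.nontrivial_of_finrank_pos (R := k) (by rw [h']; exact one_pos)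
  refine ⟨φ.injective, ?_⟩
  have := Subalgebra.bot_eq_top_of_finrank_eq_one h'
  exact Algebra.surjective_algebraMap_iff.mpr this.symm

/-- if `k → Γ(X, O_X)` is bijective, a morphism from `X` landing in an affine open factors through
`Spec k` -/
theorem exists_factor {k : Type u} [Field k] {X Z : Scheme.{u}} (p : X ⟶ Spec (CommRingCat.of k))
    (hbij : Function.Bijective (Coh.toGlobal p)) (a : X ⟶ Z) (U : Z.Opens) (hU : IsAffineOpen U)
    (hr : Set.range a.base ⊆ U) : ∃ c : Spec (CommRingCat.of k) ⟶ Z, a = p ≫ c := by
  haveI : IsAffine U.toScheme := hU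
  let φ' : CommRingCat.of k ⟶ Γ(X, ⊤) := (Scheme.ΓSpecIso (CommRingCat.of k)).inv ≫ p.appTop
  haveI : IsIso φ' := (ConcreteCategory.isIso_iff_bijective φ').mpr hbij
  have hp : p = X.toSpecΓ ≫ Spec.map φ' := by
    have h1 := Scheme.toSpecΓ_naturality p
    rw [Spec.map_comp, ← Category.assoc, ← h1, Category.assoc, toSpecΓ_SpecMap_ΓSpecIso_inv,
      Category.comp_id]
  let l : X ⟶ U.toScheme := IsOpenImmersion.lift U.ι a (by rw [Scheme.Opens.range_ι]; exact hr)
  have hl : l ≫ U.ι = a := IsOpenImmersion.lift_fac _ _ _
  have hl2 : l ≫ U.toScheme.toSpecΓ = X.toSpecΓ ≫ Spec.map l.appTop := Scheme.toSpecΓ_naturality l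
  refine ⟨Spec.map (inv φ') ≫ Spec.map l.appTop ≫ inv U.toScheme.toSpecΓ ≫ U.ι, ?_⟩
  have hX : X.toSpecΓ = p ≫ Spec.map (inv φ') := by
    conv_rhs => rw [hp]
    rw [Category.assoc, ← Spec.map_comp, IsIso.inv_hom_id, Spec.map_id, Category.comp_id]
  rw [← hl, ← Category.assoc p, ← hX, ← Category.assoc, ← Category.assoc, ← hl2]
  simp

/-- In the pointed case, let k be a field and X a proper k-scheme with H^0(X, O_X) one-dimensional and a
k-rational point x₀; let alb : X → A be the Albanese morphism (A an abelian variety over k — proper,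
geometrically integral group scheme — with alb(x₀) = 0, universal among pointed k-morphisms from X
to abelian varieties, the latter being geometrically reduced, connected, proper group schemes). Then
X has Albanese dimension zero, i.e. the image of alb is a single point of A (X is connected, so this
says the image is zero-dimensional), if and only if A is the trivial abelian variety, i.e. A → Spec
k is an isomorphism. (The published statement does not assume a rational point (it works with the
Albanese torsor); this row assumes one.) -/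
theorem result (k : Type u) [Field k] (X : Scheme.{u}) [X.Over (Spec (CommRingCat.of k))]
    [IsProper (X ↘ Spec (CommRingCat.of k))] (h0 : Module.finrank k (Coh.HH X (Coh.structureModule X) 0) = 1)
    (x₀ : 𝟙_ (Over (Spec (CommRingCat.of k))) ⟶ Over.mk (X ↘ Spec (CommRingCat.of k)))
    (A : Over (Spec (CommRingCat.of k))) [GrpObj A] [IsProper A.hom] [GeometricallyIntegral A.hom]
    (alb : Over.mk (X ↘ Spec (CommRingCat.of k)) ⟶ A) (halb : x₀ ≫ alb = η[A])
    (huniv : ∀ (B : Over (Spec (CommRingCat.of k))) [GrpObj B] [IsProper B.hom] [GeometricallyReduced B.hom] [ConnectedSpace ↥B.left]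
      (g : Over.mk (X ↘ Spec (CommRingCat.of k)) ⟶ B), x₀ ≫ g = η[B] → ∃! h : A ⟶ B, IsMonHom h ∧ alb ≫ h = g) :
    (Set.range alb.left.base).Subsingleton ↔ IsIso A.hom := by
  have hx0 : x₀.left ≫ (X ↘ Spec (CommRingCat.of k)) = 𝟙 (Spec (CommRingCat.of k)) := by
    have := Over.w x₀
    simpa using this
  constructor
  · intro hsub
    have hbij : Function.Bijective (Coh.toGlobal (X ↘ Spec (CommRingCat.of k))) := by
      let φc : k →+* Γ(X, ⊤) := ((X ↘ Spec (CommRingCat.of k)).appTop).hom.comp
        (Scheme.ΓSpecIso (CommRingCat.of k)).inv.hom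
      have : Function.Bijective φc := by
        apply bijective_of_finrank_eq_one
        letI := Groth.Agent.Lib.Helper18.HH.sectionsModuleOver k (Coh.structureModule X)
        rw [← h0]
        exact (Groth.Agent.Lib.Helper18.HH.equiv₀Over k (Coh.structureModule X)).symm.finrank_eq
      exact this
    -- base point
    obtain ⟨pt⟩ : Nonempty (Spec (CommRingCat.of k)) := inferInstance
    let x : X := x₀.left.base pt
    obtain ⟨U, hU, he0U, -⟩ := exists_isAffineOpen_mem_and_subset (x := alb.left.base x)
      (U := ⊤) trivial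
    have hr : Set.range alb.left.base ⊆ U := by
      rintro _ ⟨x', rfl⟩
      have := hsub ⟨x', rfl⟩ ⟨x, rfl⟩
      rw [this]
      exact he0U
    obtain ⟨c, hc⟩ := exists_factor (X ↘ Spec (CommRingCat.of k)) hbij alb.left U hU hr
    have hcA : c ≫ A.hom = 𝟙 (Spec (CommRingCat.of k)) := by
      have h1 : alb.left ≫ A.hom = X ↘ Spec (CommRingCat.of k) := Over.w alb
      calc c ≫ A.hom = (x₀.left ≫ (X ↘ Spec (CommRingCat.of k))) ≫ c ≫ A.hom := by
            rw [hx0]
            exact (Category.id_comp _).symm
        _ = x₀.left ≫ alb.left ≫ A.hom := by rw [hc]; simp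
        _ = 𝟙 _ := by rw [h1, hx0]; rfl
    let cO : 𝟙_ (Over (Spec (CommRingCat.of k))) ⟶ A := Over.homMk c (by simpa using hcA)
    have halb' : alb = toUnit _ ≫ cO := by
      ext1
      simp [cO, hc]
    have hcO : cO = η[A] := by
      rw [← halb, halb', ← Category.assoc, toUnit_unique (x₀ ≫ toUnit _) (𝟙 _), Category.id_comp]
    haveI : IrreducibleSpace A.left :=
      GeometricallyIrreducible.irreducibleSpace_of_subsingleton A.hom
    obtain ⟨h, -, huniq⟩ := huniv A alb halb
    have h1 := huniq (𝟙 A) ⟨inferInstance, Category.comp_id _⟩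
    have h2 := huniq (toUnit A ≫ η[A]) ⟨inferInstance, by
      rw [halb', hcO, Category.assoc, ← Category.assoc η[A], toUnit_unique (η[A] ≫ toUnit A) (𝟙 _),
        Category.id_comp]⟩
    have hid : 𝟙 A = toUnit A ≫ η[A] := h1.trans h2.symm
    refine ⟨(η[A]).left, ?_, ?_⟩
    · have := congrArg (fun φ => φ.left) hid
      simpa using this.symm
    · exact Over.w η[A]
  · intro hiso
    haveI : Subsingleton A.left := by
      exact (A.hom.homeomorph).injective.subsingleton
    exact Set.subsingleton_of_subsingleton

end Groth.Agent.S14825
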