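import Groth.Statements.S14831
import Mathlib
import Groth.Agent.Lib.Helper8.CycConn
import Groth.Agent.Lib.Helper28.SymGradedExists
-- import your own Groth.Agent.* helpers here

set_option autoImplicit false
universe u
open CategoryTheory CategoryTheory.Limits AlgebraicGeometry
open PicF

namespace Groth.Agent.S14831

open Groth.Agent.Lib.helper8.CycCover in
theorem main (X : Scheme.{u}) [IsIntegral X]
    (hfield : IsField (Γ(X, ⊤) : Type u)) (L : X.Modules) (hL : PicF.IsInvertible L) (d : ℕ) (hd : 0 < d)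
    (hord : Nonempty (CohB1.tensorPow L d ≅ Coh.structureModule X))
    (hmin : ∀ i : ℕ, 0 < i → i < d → IsEmpty (CohB1.tensorPow L i ≅ Coh.structureModule X)) :
    (∃ (X' : Scheme.{u}) (g : X' ⟶ X), ConnectedSpace ↥X' ∧ Mor2.IsFinLocFreeOfDeg d g ∧
        Nonempty ((Scheme.Modules.pullback g).obj L ≅ Coh.structureModule X')) ∧
      (IsUnit ((d : ℕ) : (Γ(X, ⊤) : Type u)) →
        ∃ (X' : Scheme.{u}) (g : X' ⟶ X), ConnectedSpace ↥X' ∧ Mor2.IsFinLocFreeOfDeg d g ∧ Etale g ∧
          Nonempty ((Scheme.Modules.pullback g).obj L ≅ Coh.structureModule X')) := by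
  haveI : L.IsQuasicoherent :=
    Groth.Agent.Lib.helper12.AmpleBasis.isQuasicoherent_of_isInvertible hL
  obtain ⟨𝒮L, j, hj⟩ := Groth.Agent.Lib.helper28.SymGradedExists.exists_isGrSymAlg L
  obtain ⟨φ⟩ := hord
  have hflf := isFinLocFreeOfDeg_cycπ j φ hj hL hd
  haveI : Nonempty (cyc j φ) := by
    haveI := hflf.1.1
    haveI := hflf.1.2.1
    haveI := hflf.1.2.2
    have hsurj : Surjective (cycπ j φ) := by
      rw [← Scheme.Hom.one_le_finrank_iff_surjective]
      intro y
      rw [hflf.2 y]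
      exact hd
    obtain ⟨x, -⟩ := hsurj.surj (Classical.arbitrary X)
    exact ⟨x⟩
  have hconn := connectedSpace_cyc j φ hj hL hfield hd hmin
  have hpull := nonempty_pullback_iso j φ hL hj hd
  exact ⟨⟨cyc j φ, cycπ j φ, hconn, hflf, hpull⟩,
    fun hdu => ⟨cyc j φ, cycπ j φ, hconn, hflf, etale_cycπ j φ hj hL hd hdu, hpull⟩⟩


/-- Let X be an integral Noetherian scheme such that Γ(X, O_X) is a field, and L an invertible
O_X-module of exact order d ≥ 1 in Pic(X) (L^{⊗d} ≅ O_X and L^{⊗i} ≇ O_X for 0 < i < d). Then there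
are a connected scheme X' and a finite locally free morphism g : X' → X of constant degree d (a
finite flat covering of degree d) with g^*L ≅ O_{X'}; if moreover d is invertible in Γ(X, O_X), such
a g exists which is in addition étale. (The published proof constructs g as the spectrum of the
O_X-algebra O_X ⊕ L^{−1} ⊕ ⋯ ⊕ L^{−(d−1)}; this row states only existence.) -/
theorem result (X : Scheme.{u}) [IsIntegral X] [IsNoetherian X]
    (hfield : IsField (Γ(X, ⊤) : Type u)) (L : X.Modules) (hL : PicF.IsInvertible L) (d : ℕ) (hd : 0 < d)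
    (hord : Nonempty (CohB1.tensorPow L d ≅ Coh.structureModule X))
    (hmin : ∀ i : ℕ, 0 < i → i < d → IsEmpty (CohB1.tensorPow L i ≅ Coh.structureModule X)) :
    (∃ (X' : Scheme.{u}) (g : X' ⟶ X), ConnectedSpace ↥X' ∧ Mor2.IsFinLocFreeOfDeg d g ∧
        Nonempty ((Scheme.Modules.pullback g).obj L ≅ Coh.structureModule X')) ∧
      (IsUnit ((d : ℕ) : (Γ(X, ⊤) : Type u)) →
        ∃ (X' : Scheme.{u}) (g : X' ⟶ X), ConnectedSpace ↥X' ∧ Mor2.IsFinLocFreeOfDeg d g ∧ Etale g ∧
          Nonempty ((Scheme.Modules.pullback g).obj L ≅ Coh.structureModule X')) := by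
  exact main X hfield L hL d hd hord hmin

end Groth.Agent.S14831
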