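import Groth.Statements.S14836
import Groth.Agent.Lib.Helper11.PullUnit

set_option autoImplicit false
universe u
open CategoryTheory CategoryTheory.Limits AlgebraicGeometry
open Formal2

namespace Groth.Agent.S14836

/-- Let k be a field and f : X → Y a k-morphism between proper k-schemes which is a fibration, i.e. O_Y
→ f_*O_X is an isomorphism (Γ(V, O_Y) → Γ(f⁻¹V, O_X) bijective for every open V ⊆ Y). Then N ↦ f^*N
is injective on Picard groups: every invertible O_Y-module whose pullback to X is trivial is
trivial. -/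
theorem result (k : Type u) [Field k] (X Y : Scheme.{u})
    [X.Over (Spec (CommRingCat.of k))] [Y.Over (Spec (CommRingCat.of k))] [IsProper (X ↘ Spec (CommRingCat.of k))] [IsProper (Y ↘ Spec (CommRingCat.of k))]
    (f : X ⟶ Y) (hf : f ≫ (Y ↘ Spec (CommRingCat.of k)) = X ↘ Spec (CommRingCat.of k)) (hfib : ∀ V : Y.Opens, IsIso (f.app V)) :
    Formal2.PicPullbackInjective f := by
  intro L hL ⟨e⟩
  have hbij : ∀ U : Y.Opens, Function.Bijective (f.app U) := fun U =>
    (ConcreteCategory.isIso_iff_bijective (f.app U)).mp (hfib U)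
  haveI h1 := Groth.Agent.Lib.helper11.PullUnit.isIso_unit_of_isInvertible f hbij L hL
  haveI h2 := Groth.Agent.Lib.helper11.PullUnit.isIso_unitToPush f hbij
  exact ⟨asIso ((AlgebraicGeometry.Scheme.Modules.pullbackPushforwardAdjunction f).unit.app L) ≪≫
    (AlgebraicGeometry.Scheme.Modules.pushforward f).mapIso e ≪≫
    (asIso (Groth.Agent.Lib.helper11.InvPullback.unitToPush f)).symm⟩

end Groth.Agent.S14836
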