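import Groth.Statements.S1484
import Mathlib.RingTheory.LocalRing.ResidueField.Ideal
import Mathlib.RingTheory.Algebraic.Basic
import Mathlib.RingTheory.Algebraic.Integral

set_option autoImplicit false
universe u
open FlatMor

namespace Groth.Agent.S1484

/-- Let R be a ring, p_1, …, p_r primes of R none of which is contained in another, k_i ⊆ κ(p_i)
subfields over which κ(p_i) is not algebraic, and J an ideal of R contained in none of the p_i. Then
some x ∈ J has image in κ(p_i) transcendental over k_i for every i. -/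
theorem result {R : Type u} [CommRing R] {r : ℕ} (p : Fin r → Ideal R) [∀ i, (p i).IsPrime]
    (hp : ∀ i j, i ≠ j → ¬ p i ≤ p j) (k : ∀ i, Subfield (p i).ResidueField)
    (hk : ∀ i, ¬ Algebra.IsAlgebraic ↥(k i) (p i).ResidueField) (J : Ideal R) (hJ : ∀ i, ¬ J ≤ p i) :
    ∃ x ∈ J, ∀ i, Transcendental ↥(k i) (algebraMap R (p i).ResidueField x) := by
  classical
  have hz : ∀ i, ∃ z : R, Transcendental (k i) (algebraMap R (p i).ResidueField z) := by
    intro i
    by_contra hcon
    push Not at hcon
    apply hk i
    constructor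
    intro x
    obtain ⟨a, b, hb, rfl⟩ := IsFractionRing.div_surjective (A := R ⧸ p i) x
    obtain ⟨a, rfl⟩ := Ideal.Quotient.mk_surjective a
    obtain ⟨b, rfl⟩ := Ideal.Quotient.mk_surjective b
    have ha := not_not.1 (hcon a)
    have hb' := not_not.1 (hcon b)
    rw [div_eq_mul_inv]
    exact IsAlgebraic.mul ha hb'.inv
  choose z hz using hz
  have ha : ∀ i, ∃ a ∈ J, a ∉ p i ∧ ∀ j, j ≠ i → a ∈ p j := by
    intro i
    have h1 : ∀ j, j ≠ i → ∃ b ∈ p j, b ∉ p i := fun j hj => SetLike.not_le_iff_exists.1 (hp j i hj)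
    obtain ⟨c, hcJ, hci⟩ := SetLike.not_le_iff_exists.1 (hJ i)
    let b : Fin r → R := fun j => if hj : j ≠ i then (h1 j hj).choose else 1
    have hb1 : ∀ j, j ≠ i → b j ∈ p j := fun j hj => by
      simp only [b, dif_pos hj]; exact (h1 j hj).choose_spec.1
    have hb2 : ∀ j, b j ∉ p i := fun j => by
      by_cases hj : j ≠ i
      · simp only [b, dif_pos hj]; exact (h1 j hj).choose_spec.2
      · simp only [b, dif_neg hj]; exact fun h => (inferInstance : (p i).IsPrime).ne_top ((Ideal.eq_top_iff_one _).2 h)
    refine ⟨c * ∏ j, b j, J.mul_mem_right _ hcJ, ?_, ?_⟩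
    · intro h
      rcases (inferInstance : (p i).IsPrime).mem_or_mem h with h | h
      · exact hci h
      · obtain ⟨j, _, hj⟩ := (Ideal.IsPrime.prod_mem_iff).1 h
        exact hb2 j hj
    · intro j hj
      refine Ideal.mul_mem_left _ _ ?_
      exact Ideal.mem_of_dvd _ (Finset.dvd_prod_of_mem b (Finset.mem_univ j)) (hb1 j hj)
  choose a haJ hai haj using ha
  let w : Fin r → R := fun i => if IsAlgebraic (k i) (algebraMap R (p i).ResidueField (a i)) then z i else 1
  refine ⟨∑ i, a i * w i, J.sum_mem (fun i _ => J.mul_mem_right _ (haJ i)), fun i => ?_⟩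
  have hsum : algebraMap R (p i).ResidueField (∑ j, a j * w j) =
      algebraMap R (p i).ResidueField (a i) * algebraMap R (p i).ResidueField (w i) := by
    rw [map_sum, Finset.sum_eq_single i]
    · rw [map_mul]
    · intro j _ hji
      rw [map_mul, Ideal.algebraMap_residueField_eq_zero.2 (haj j i (Ne.symm hji)), zero_mul]
    · intro h; exact absurd (Finset.mem_univ i) h
  rw [hsum]
  have hne : algebraMap R (p i).ResidueField (a i) ≠ 0 := fun h =>
    hai i (Ideal.algebraMap_residueField_eq_zero.1 h)
  by_cases halg : IsAlgebraic (k i) (algebraMap R (p i).ResidueField (a i))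
  · simp only [w, if_pos halg]
    intro hcon
    apply hz i
    have : algebraMap R (p i).ResidueField (z i) =
        (algebraMap R (p i).ResidueField (a i))⁻¹ * (algebraMap R (p i).ResidueField (a i) * algebraMap R (p i).ResidueField (z i)) := by
      rw [← mul_assoc, inv_mul_cancel₀ hne, one_mul]
    rw [this]
    exact IsAlgebraic.mul halg.inv hcon
  · simp only [w, if_neg halg, map_one, mul_one]
    exact halg

end Groth.Agent.S1484
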