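import Groth.Statements.S14843
import Groth.Agent.Lib.Helper22.CoeffSS

set_option autoImplicit false
universe u v
open HopfRep

namespace Groth.Agent.S14843

open TensorProduct in
/-- Over a field K, a coalgebra C is cosemisimple, i.e. C is the internal direct sum of a family of
simple subcoalgebras, if and only if every right C-comodule is completely reducible (every
subcomodule admits a complementary subcomodule). Here a subcoalgebra of C is a subspace B whose
comultiplication lands in the image of B ⊗ B, and a simple subcoalgebra is a nonzero subcoalgebra D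
whose only subcoalgebras contained in D are 0 and D. (Comodules are quantified in the universe of C;
the published statement is for left comodules, and the equivalence of 'direct sum of simple
subcomodules' with 'every subcomodule is a direct summand' is the standard one.) -/
theorem result {K : Type u} {C : Type v} [Field K]
    [AddCommGroup C] [Module K C] [Coalgebra K C] :
    (∃ (ι : Type v) (D : ι → Submodule K C), iSupIndep D ∧ iSup D = ⊤ ∧ ∀ i,
        D i ≠ ⊥ ∧ (∀ b ∈ D i, CoalgebraStruct.comul (R := K) b ∈ LinearMap.range (TensorProduct.map (D i).subtype (D i).subtype)) ∧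
        ∀ B : Submodule K C, B ≤ D i → (∀ b ∈ B, CoalgebraStruct.comul (R := K) b ∈ LinearMap.range (TensorProduct.map B.subtype B.subtype)) → B = ⊥ ∨ B = D i) ↔
      ∀ (V : Type v) [AddCommGroup V] [Module K V] [HopfRep.Comod K C V],
        HopfRep.IsSemisimpleComod K C V := by
  classical
  constructor
  · rintro ⟨ι, D, -, hsup, hD⟩ V _ _ _
    have hex : ∀ i, ∃ E : Submodule K C, E ≤ D i ∧ E ≠ ⊥ ∧ HopfRep.IsSubcomod (k := K) (A := C) E ∧
        (∀ E' : Submodule K C, E' ≤ E → HopfRep.IsSubcomod (k := K) (A := C) E' → E' = ⊥ ∨ E' = E) ∧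
        Groth.Agent.Lib.helper22.cfOn C E = D i := fun i =>
      Groth.Agent.Lib.helper22.exists_simple_subcomod_cfOn_eq (D i) (hD i).1 (hD i).2.1
        (fun B hB hBs => (hD i).2.2 B hB hBs)
    choose E hED hE0 hE hmin hcf using hex
    have hss : IsSemisimpleModule (Groth.Agent.Lib.helper22.DualAlg K C)
        (Groth.Agent.Lib.helper22.RegMod K C) :=
      Groth.Agent.Lib.helper22.isSemisimpleModule_regMod E hE hE0 hmin (by simp_rw [hcf]; exact hsup)
    exact Groth.Agent.Lib.helper22.isSemisimpleComod_of_regMod hss
  · intro h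
    have hss : IsSemisimpleModule (Groth.Agent.Lib.helper22.DualAlg K C)
        (Groth.Agent.Lib.helper22.RegMod K C) :=
      (Groth.Agent.Lib.helper22.isSemisimpleComod_iff (HopfRep.Comod.regular K C)).mp (h C)
    refine ⟨isotypicComponents (Groth.Agent.Lib.helper22.DualAlg K C) (Groth.Agent.Lib.helper22.RegMod K C),
      fun i => Groth.Agent.Lib.helper22.ofSub (HopfRep.Comod.regular K C) i.1, ?_, ?_, ?_⟩
    · exact (Groth.Agent.Lib.helper22.iSupIndep_ofSub_iff (HopfRep.Comod.regular K C)
        (fun i : isotypicComponents (Groth.Agent.Lib.helper22.DualAlg K C)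
          (Groth.Agent.Lib.helper22.RegMod K C) => i.1)).mpr
        ((sSupIndep_iff _).mp (sSupIndep_isotypicComponents _ _))
    · rw [← Groth.Agent.Lib.helper22.ofSub_iSup, ← sSup_eq_iSup', sSup_isotypicComponents,
        Groth.Agent.Lib.helper22.ofSub_top]
    · rintro ⟨comp, S, hS, rfl⟩
      obtain ⟨W, hWdef⟩ : ∃ W : Submodule K C,
        W = Groth.Agent.Lib.helper22.ofSub (HopfRep.Comod.regular K C) S := ⟨_, rfl⟩
      have hW : HopfRep.IsSubcomod (k := K) (A := C) W :=
        hWdef ▸ Groth.Agent.Lib.helper22.isSubcomod_ofSub _ S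
      have htoSub : Groth.Agent.Lib.helper22.toSub (HopfRep.Comod.regular K C) W hW = S := by
        subst hWdef
        exact Groth.Agent.Lib.helper22.toSub_ofSub _ S
      obtain ⟨cW, hcW⟩ : ∃ cW : HopfRep.Comod K C W,
        cW = ComodSub.Comod.restr (HopfRep.Comod.regular K C) W hW := ⟨_, rfl⟩
      have e : Groth.Agent.Lib.helper22.AsMod cW ≃ₗ[Groth.Agent.Lib.helper22.DualAlg K C] S :=
        hcW ▸ (Groth.Agent.Lib.helper22.restrEquiv (HopfRep.Comod.regular K C) W hW).trans
          (LinearEquiv.ofEq _ _ htoSub)
      have hsimpM : IsSimpleModule (Groth.Agent.Lib.helper22.DualAlg K C)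
          (Groth.Agent.Lib.helper22.AsMod cW) := IsSimpleModule.congr (N := S) e
      have hsimple : @HopfRep.IsSimpleComod K C _ _ _ _ W _ _ cW :=
        (Groth.Agent.Lib.helper22.isSimpleComod_iff cW).mpr hsimpM
      have hcomp : isotypicComponent (Groth.Agent.Lib.helper22.DualAlg K C)
          (Groth.Agent.Lib.helper22.RegMod K C) S =
          isotypicComponent (Groth.Agent.Lib.helper22.DualAlg K C)
            (Groth.Agent.Lib.helper22.RegMod K C) (Groth.Agent.Lib.helper22.AsMod cW) :=
        (LinearEquiv.isotypicComponent_eq e).symm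
      have hD : Groth.Agent.Lib.helper22.ofSub (HopfRep.Comod.regular K C)
          (isotypicComponent (Groth.Agent.Lib.helper22.DualAlg K C)
            (Groth.Agent.Lib.helper22.RegMod K C) S) =
          @Groth.Agent.Lib.helper22.cfOn K _ C _ _ _ W _ _ cW ⊤ := by
        rw [hcomp]
        exact Groth.Agent.Lib.helper22.ofSub_isotypicComponent (c := cW) hsimple
      have key : ∀ D' : Submodule K C, D' = @Groth.Agent.Lib.helper22.cfOn K _ C _ _ _ W _ _ cW ⊤ →
          (D' ≠ ⊥ ∧ (∀ b ∈ D', CoalgebraStruct.comul (R := K) b ∈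
            LinearMap.range (TensorProduct.map D'.subtype D'.subtype)) ∧
            ∀ B : Submodule K C, B ≤ D' → (∀ b ∈ B, CoalgebraStruct.comul (R := K) b ∈
              LinearMap.range (TensorProduct.map B.subtype B.subtype)) → B = ⊥ ∨ B = D') := by
        intro D' hD'
        subst hD'
        obtain ⟨h1, h2, h3⟩ := Groth.Agent.Lib.helper22.isSimpleSubcoalg_cfOn_top (c := cW) hsimple
        exact ⟨h1, h2, fun B hB hBs => h3 B hB hBs⟩
      exact key _ hD

end Groth.Agent.S14843
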