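import Groth.Statements.S14844
-- import your own Groth.Agent.* helpers here

set_option autoImplicit false
universe u v w w'
open HopfRep

namespace Groth.Agent.S14844


open TensorProduct in
/-- projections of an internal direct sum -/
theorem exists_proj {R : Type u} {C : Type v} [CommRing R] [AddCommGroup C] [Module R C]
    {ι : Type w} [DecidableEq ι] (D : ι → Submodule R C) (hind : iSupIndep D) (htop : iSup D = ⊤) :
    ∃ π' : ∀ i, C →ₗ[R] D i, ∀ i j, ∀ d ∈ D j, ((π' i d : D i) : C) = if i = j then d else 0 := by
  have hint : DirectSum.IsInternal D :=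
    (DirectSum.isInternal_submodule_iff_iSupIndep_and_iSup_eq_top D).mpr ⟨hind, htop⟩
  let dec : C ≃ₗ[R] DirectSum ι (fun i => D i) :=
    (LinearEquiv.ofBijective (DirectSum.coeLinearMap D) hint).symm
  refine ⟨fun i => DirectSum.component R ι (fun i => D i) i ∘ₗ dec.toLinearMap, ?_⟩
  intro i j d hd
  have h1 : dec d = DirectSum.lof R ι (fun i => D i) j ⟨d, hd⟩ := by
    rw [LinearEquiv.symm_apply_eq]
    simp
  simp only [LinearMap.comp_apply, LinearEquiv.coe_coe, h1, DirectSum.component.of]
  by_cases hij : i = j
  · subst hij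
    simp
  · have hji : ¬ j = i := fun h => hij h.symm
    rw [dif_neg hji, if_neg hij]
    rfl

open TensorProduct in
theorem sum_proj {R : Type u} {C : Type v} [CommRing R] [AddCommGroup C] [Module R C]
    {ι : Type w} [DecidableEq ι] (D : ι → Submodule R C) (htop : iSup D = ⊤) (π : ι → C →ₗ[R] C)
    (hπ : ∀ i j, ∀ d ∈ D j, π i d = if i = j then d else 0) (c : C) :
    ∃ S : Finset ι, ∀ S' : Finset ι, S ⊆ S' → ∑ i ∈ S', π i c = c := by
  have hc : c ∈ iSup D := by rw [htop]; exact Submodule.mem_top
  induction hc using Submodule.iSup_induction' with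
  | mem j d hd =>
    refine ⟨{j}, fun S' hS' => ?_⟩
    have hj : j ∈ S' := hS' (Finset.mem_singleton_self j)
    simp only [hπ _ j d hd]
    rw [Finset.sum_ite_eq' S' j (fun _ => d), if_pos hj]
  | zero => exact ⟨∅, fun S' _ => by simp⟩
  | add x y _ _ hx hy =>
    obtain ⟨S₁, h₁⟩ := hx
    obtain ⟨S₂, h₂⟩ := hy
    refine ⟨S₁ ∪ S₂, fun S' hS' => ?_⟩
    simp only [map_add, Finset.sum_add_distrib]
    rw [h₁ S' (Finset.union_subset_left hS'), h₂ S' (Finset.union_subset_right hS')]

open TensorProduct in
/-- Let R be a commutative ring and C an R-coalgebra, flat over R, which is the internal direct sum of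
subcoalgebras D_i (submodules whose comultiplication lands in the image of D_i ⊗ D_i, independent
and with supremum C). Then every right C-comodule V is the internal direct sum of the subcomodules
V_i, where V_i is the preimage under the coaction of the image of V ⊗ D_i in V ⊗ C, and the coaction
maps V_i into the image of V_i ⊗ D_i, so that the comodule structure of V_i reduces to a
D_i-comodule structure. (The published statement is for a flat sheaf of coalgebras over a base
scheme and left comodules on a scheme over it; this row is the case of an affine base with modules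
of global sections, for right comodules.) -/
theorem result {R : Type u} {C : Type v} [CommRing R]
    [AddCommGroup C] [Module R C] [Coalgebra R C] [Module.Flat R C]
    {ι : Type w} (D : ι → Submodule R C)
    (hD : ∀ i, ∀ d ∈ D i, CoalgebraStruct.comul (R := R) d ∈
      LinearMap.range (TensorProduct.map (D i).subtype (D i).subtype))
    (hind : iSupIndep D) (htop : iSup D = ⊤)
    {V : Type w'} [AddCommGroup V] [Module R V] [HopfRep.Comod R C V] :
    (∀ i, HopfRep.IsSubcomod (k := R) (A := C) ((LinearMap.range (LinearMap.lTensor V (D i).subtype)).comap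
        (HopfRep.Comod.coact (k := R) (A := C) (V := V)))) ∧
    iSupIndep (fun i => ((LinearMap.range (LinearMap.lTensor V (D i).subtype)).comap
        (HopfRep.Comod.coact (k := R) (A := C) (V := V)))) ∧
    (⨆ i, ((LinearMap.range (LinearMap.lTensor V (D i).subtype)).comap
        (HopfRep.Comod.coact (k := R) (A := C) (V := V)))) = ⊤ ∧
    ∀ i, ∀ v ∈ ((LinearMap.range (LinearMap.lTensor V (D i).subtype)).comap
        (HopfRep.Comod.coact (k := R) (A := C) (V := V))),
      HopfRep.Comod.coact (k := R) (A := C) v ∈
        LinearMap.range (TensorProduct.map ((LinearMap.range (LinearMap.lTensor V (D i).subtype)).comap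
        (HopfRep.Comod.coact (k := R) (A := C) (V := V))).subtype (D i).subtype) := by
  classical
  obtain ⟨π', hπ'⟩ := exists_proj D hind htop
  obtain ⟨ρ, hρ⟩ : ∃ ρ, ρ = HopfRep.Comod.coact (k := R) (A := C) (V := V) := ⟨_, rfl⟩
  obtain ⟨ε, hε⟩ : ∃ ε, ε = CoalgebraStruct.counit (R := R) (A := C) := ⟨_, rfl⟩
  obtain ⟨Δ, hΔ⟩ : ∃ Δ, Δ = CoalgebraStruct.comul (R := R) (A := C) := ⟨_, rfl⟩
  simp only [← hρ]
  let π : ι → C →ₗ[R] C := fun i => (D i).subtype ∘ₗ π' i
  have hπ : ∀ i j, ∀ d ∈ D j, π i d = if i = j then d else 0 := hπ'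
  -- the key identities for the comultiplication
  have F3 : ∀ i, (TensorProduct.rid R C).toLinearMap ∘ₗ (ε ∘ₗ π i).lTensor C ∘ₗ Δ = π i := by
    intro i
    apply LinearMap.ext
    intro c
    have hc : c ∈ iSup D := by rw [htop]; exact Submodule.mem_top
    induction hc using Submodule.iSup_induction' with
    | mem j d hd =>
      obtain ⟨t, ht⟩ := hD j d hd
      have key : ∀ t : (D j) ⊗[R] (D j), (TensorProduct.rid R C)
          ((ε ∘ₗ π i).lTensor C (TensorProduct.map (D j).subtype (D j).subtype t)) =
          if i = j then (TensorProduct.rid R C)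
            (ε.lTensor C (TensorProduct.map (D j).subtype (D j).subtype t)) else 0 := by
        intro t
        induction t using TensorProduct.induction_on with
        | zero => simp
        | tmul x y =>
          simp only [TensorProduct.map_tmul, LinearMap.lTensor_tmul, LinearMap.comp_apply,
            Submodule.subtype_apply, TensorProduct.rid_tmul]
          rw [hπ i j y y.2]
          split_ifs <;> simp
        | add t₁ t₂ h₁ h₂ =>
          simp only [map_add, h₁, h₂]
          split_ifs <;> simp
      simp only [LinearMap.comp_apply, LinearEquiv.coe_coe]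
      rw [hΔ, ← ht, key, ht, hπ i j d hd, hε]
      erw [Coalgebra.lTensor_counit_comul]
      simp
    | zero => simp
    | add x y _ _ hx hy => simp only [map_add, hx, hy]
  have F3' : ∀ i, (TensorProduct.lid R C).toLinearMap ∘ₗ (ε ∘ₗ π i).rTensor C ∘ₗ Δ = π i := by
    intro i
    apply LinearMap.ext
    intro c
    have hc : c ∈ iSup D := by rw [htop]; exact Submodule.mem_top
    induction hc using Submodule.iSup_induction' with
    | mem j d hd =>
      obtain ⟨t, ht⟩ := hD j d hd
      have key : ∀ t : (D j) ⊗[R] (D j), (TensorProduct.lid R C)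
          ((ε ∘ₗ π i).rTensor C (TensorProduct.map (D j).subtype (D j).subtype t)) =
          if i = j then (TensorProduct.lid R C)
            (ε.rTensor C (TensorProduct.map (D j).subtype (D j).subtype t)) else 0 := by
        intro t
        induction t using TensorProduct.induction_on with
        | zero => simp
        | tmul x y =>
          simp only [TensorProduct.map_tmul, LinearMap.rTensor_tmul, LinearMap.comp_apply,
            Submodule.subtype_apply, TensorProduct.lid_tmul]
          rw [hπ i j x x.2]
          split_ifs <;> simp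
        | add t₁ t₂ h₁ h₂ =>
          simp only [map_add, h₁, h₂]
          split_ifs <;> simp
      simp only [LinearMap.comp_apply, LinearEquiv.coe_coe]
      rw [hΔ, ← ht, key, ht, hπ i j d hd, hε]
      erw [Coalgebra.rTensor_counit_comul]
      simp
    | zero => simp
    | add x y _ _ hx hy => simp only [map_add, hx, hy]
  -- the projections of `V`
  let sl : (C →ₗ[R] R) → (V ⊗[R] C →ₗ[R] V) := fun f => (TensorProduct.rid R V).toLinearMap ∘ₗ f.lTensor V
  let p : ι → V →ₗ[R] V := fun i => sl (ε ∘ₗ π i) ∘ₗ ρ
  have hcoassoc : ∀ v : V, ρ.rTensor C (ρ v) =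
      (TensorProduct.assoc R V C C).symm (Δ.lTensor V (ρ v)) := by
    intro v
    have h := LinearMap.congr_fun (HopfRep.Comod.coassoc (k := R) (A := C) (V := V)) v
    simp only [LinearMap.comp_apply, LinearEquiv.coe_coe] at h
    rw [hρ, hΔ, ← h, LinearEquiv.symm_apply_apply]
  have hcounit : ∀ v : V, (TensorProduct.rid R V) (ε.lTensor V (ρ v)) = v := by
    intro v
    have h := LinearMap.congr_fun (HopfRep.Comod.counit_comp (k := R) (A := C) (V := V)) v
    simp only [LinearMap.comp_apply] at h
    rw [hρ, hε, h]
    simp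
  -- ρ ∘ p i = (id ⊗ π i) ∘ ρ
  have P1 : ∀ i v, ρ (p i v) = (π i).lTensor V (ρ v) := by
    intro i v
    have e1 : ∀ x : V ⊗[R] C, ρ (sl (ε ∘ₗ π i) x) =
        (TensorProduct.rid R (V ⊗[R] C)) ((ε ∘ₗ π i).lTensor (V ⊗[R] C) (ρ.rTensor C x)) := by
      intro x
      induction x using TensorProduct.induction_on with
      | zero => simp
      | tmul v c => simp [sl]
      | add x y hx hy => simp only [map_add, hx, hy]
    have e2 : ∀ y : V ⊗[R] C, (TensorProduct.rid R (V ⊗[R] C)) ((ε ∘ₗ π i).lTensor (V ⊗[R] C)
        ((TensorProduct.assoc R V C C).symm (Δ.lTensor V y))) =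
        ((TensorProduct.rid R C).toLinearMap ∘ₗ (ε ∘ₗ π i).lTensor C ∘ₗ Δ).lTensor V y := by
      intro y
      induction y using TensorProduct.induction_on with
      | zero => simp
      | tmul v c =>
        simp only [LinearMap.lTensor_tmul, LinearMap.comp_apply, LinearEquiv.coe_coe]
        generalize Δ c = t
        induction t using TensorProduct.induction_on with
        | zero => simp
        | tmul a b => simp [TensorProduct.tmul_smul]
        | add t₁ t₂ h₁ h₂ => simp only [TensorProduct.tmul_add, map_add, h₁, h₂]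
      | add x y hx hy => simp only [map_add, hx, hy]
    change ρ (sl (ε ∘ₗ π i) (ρ v)) = _
    rw [e1, hcoassoc, e2, F3]
  have P2 : ∀ i v, (p i).rTensor C (ρ v) = (π i).lTensor V (ρ v) := by
    intro i v
    have e2 : ∀ y : V ⊗[R] C, (sl (ε ∘ₗ π i)).rTensor C
        ((TensorProduct.assoc R V C C).symm (Δ.lTensor V y)) =
        ((TensorProduct.lid R C).toLinearMap ∘ₗ (ε ∘ₗ π i).rTensor C ∘ₗ Δ).lTensor V y := by
      intro y
      induction y using TensorProduct.induction_on with
      | zero => simp
      | tmul v c =>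
        simp only [LinearMap.lTensor_tmul, LinearMap.comp_apply, LinearEquiv.coe_coe]
        generalize Δ c = t
        induction t using TensorProduct.induction_on with
        | zero => simp
        | tmul a b => simp [sl, TensorProduct.smul_tmul, TensorProduct.tmul_smul]
        | add t₁ t₂ h₁ h₂ => simp only [TensorProduct.tmul_add, map_add, h₁, h₂]
      | add x y hx hy => simp only [map_add, hx, hy]
    change (sl (ε ∘ₗ π i) ∘ₗ ρ).rTensor C (ρ v) = _
    rw [LinearMap.rTensor_comp, LinearMap.comp_apply, hcoassoc, e2, F3']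
  obtain ⟨Vi, hVi⟩ : ∃ Vi : ι → Submodule R V, Vi = fun i =>
      (LinearMap.range (LinearMap.lTensor V (D i).subtype)).comap ρ := ⟨_, rfl⟩
  have hVi' : ∀ i, (LinearMap.range (LinearMap.lTensor V (D i).subtype)).comap ρ = Vi i := by
    intro i; rw [hVi]
  simp only [hVi']
  have hmemVi : ∀ i v, v ∈ Vi i ↔ ρ v ∈ LinearMap.range (LinearMap.lTensor V (D i).subtype) := by
    intro i v; rw [hVi]; rfl
  have P3 : ∀ i v, p i v ∈ Vi i := by
    intro i v
    rw [hmemVi, P1]
    change (LinearMap.lTensor V ((D i).subtype ∘ₗ π' i)) (ρ v) ∈ _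
    rw [LinearMap.lTensor_comp, LinearMap.comp_apply]
    exact LinearMap.mem_range_self _ _
  have P4 : ∀ i j, ∀ v ∈ Vi j, p i v = if i = j then v else 0 := by
    intro i j v hv
    obtain ⟨t, ht⟩ := (hmemVi j v).mp hv
    have key : ∀ t : V ⊗[R] (D j), sl (ε ∘ₗ π i) (LinearMap.lTensor V (D j).subtype t) =
        if i = j then sl ε (LinearMap.lTensor V (D j).subtype t) else 0 := by
      intro t
      induction t using TensorProduct.induction_on with
      | zero => simp
      | tmul v y =>
        simp only [sl, LinearMap.lTensor_tmul, LinearMap.comp_apply, LinearEquiv.coe_coe,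
          Submodule.subtype_apply, TensorProduct.rid_tmul]
        rw [hπ i j y y.2]
        split_ifs <;> simp
      | add t₁ t₂ h₁ h₂ =>
        simp only [map_add, h₁, h₂]
        split_ifs <;> simp
    change sl (ε ∘ₗ π i) (ρ v) = _
    rw [← ht, key, ht]
    congr 1
    exact hcounit v
  have P5 : ∀ v : V, ∃ S : Finset ι, v = ∑ i ∈ S, p i v := by
    intro v
    have Q : ∀ x : V ⊗[R] C, ∃ S : Finset ι, ∀ S' : Finset ι, S ⊆ S' →
        ∑ i ∈ S', sl (ε ∘ₗ π i) x = sl ε x := by
      intro x
      induction x using TensorProduct.induction_on with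
      | zero => exact ⟨∅, fun S' _ => by simp⟩
      | tmul v c =>
        obtain ⟨S, hS⟩ := sum_proj D htop π hπ c
        refine ⟨S, fun S' hS' => ?_⟩
        simp only [sl, LinearMap.comp_apply, LinearMap.lTensor_tmul, LinearEquiv.coe_coe,
          TensorProduct.rid_tmul]
        rw [← Finset.sum_smul, ← map_sum, hS S' hS']
      | add x y hx hy =>
        obtain ⟨S₁, h₁⟩ := hx
        obtain ⟨S₂, h₂⟩ := hy
        refine ⟨S₁ ∪ S₂, fun S' hS' => ?_⟩
        simp only [map_add, Finset.sum_add_distrib]
        rw [h₁ S' (Finset.union_subset_left hS'), h₂ S' (Finset.union_subset_right hS')]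
    obtain ⟨S, hS⟩ := Q (ρ v)
    refine ⟨S, ?_⟩
    have := hS S (Finset.Subset.refl S)
    change ∑ i ∈ S, p i v = _ at this
    rw [this]
    exact (hcounit v).symm
  have hfix : ∀ i, ∀ v ∈ Vi i, p i v = v := fun i v hv => by rw [P4 i i v hv, if_pos rfl]
  refine ⟨?_, ?_, ?_, ?_⟩
  · -- subcomodule
    intro i v hv
    have h1 : ρ v = (p i).rTensor C (ρ v) := by
      rw [P2, ← P1, hfix i v hv]
    have h2 : p i = (Vi i).subtype ∘ₗ (p i).codRestrict (Vi i) (P3 i) := by
      apply LinearMap.ext; intro x; rfl
    rw [← hρ, h1, h2, LinearMap.rTensor_comp, LinearMap.comp_apply]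
    exact LinearMap.mem_range_self _ _
  · -- independence
    rw [iSupIndep_def]
    intro i
    rw [Submodule.disjoint_def]
    intro v hv hv'
    have hker : (⨆ j, ⨆ (_ : j ≠ i), Vi j) ≤ LinearMap.ker (p i) := by
      refine iSup_le fun j => iSup_le fun hj => ?_
      intro w hw
      rw [LinearMap.mem_ker, P4 i j w hw, if_neg (Ne.symm hj)]
    rw [← hfix i v hv]
    exact LinearMap.mem_ker.mp (hker hv')
  · rw [eq_top_iff]
    intro v _
    obtain ⟨S, hS⟩ := P5 v
    rw [hS]
    exact Submodule.sum_mem _ fun i _ => Submodule.mem_iSup_of_mem i (P3 i v)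
  · intro i v hv
    have h1 : ρ v = (p i).rTensor C (ρ v) := by
      rw [P2, ← P1, hfix i v hv]
    have h3 : ρ v = (π i).lTensor V (ρ v) := by
      rw [← P1, hfix i v hv]
    have h2 : p i = (Vi i).subtype ∘ₗ (p i).codRestrict (Vi i) (P3 i) := by
      apply LinearMap.ext; intro x; rfl
    have h4 : ρ v = TensorProduct.map (p i) (π i) (ρ v) := by
      conv_lhs => rw [h1, h3]
      rw [← LinearMap.comp_apply, LinearMap.rTensor_comp_lTensor]
    have hfin : TensorProduct.map (p i) (π i) (ρ v) ∈
        LinearMap.range (TensorProduct.map (Vi i).subtype (D i).subtype) := by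
      change TensorProduct.map (p i) ((D i).subtype ∘ₗ π' i) (ρ v) ∈ _
      rw [h2, TensorProduct.map_comp, LinearMap.comp_apply]
      exact ⟨_, rfl⟩
    rw [← h4] at hfin
    subst hVi hρ
    exact hfin

end Groth.Agent.S14844
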