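import Groth.Statements.S14845
import Mathlib

set_option autoImplicit false
open CategoryTheory CategoryTheory.Limits AlgebraicGeometry
universe u
open HilbD

namespace Groth.Agent.S14845


section helpers

variable {X S : Scheme.{u}} (f : X ⟶ S)

/-- the graph of a section -/
noncomputable abbrev gr (T : Over S) (x : T.left ⟶ X) (hx : x ≫ f = T.hom) :
    T.left ⟶ PicF.XT f T :=
  pullback.lift x (𝟙 T.left) (by simpa using hx)

lemma secGraph_eq (T : Over S) (x : T.left ⟶ X) (hx : x ≫ f = T.hom) :
    HilbD.secGraph f T x hx = (gr f T x hx).ker := rfl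

lemma gr_fst (T : Over S) (x : T.left ⟶ X) (hx : x ≫ f = T.hom) :
    gr f T x hx ≫ pullback.fst f T.hom = x := pullback.lift_fst _ _ _

lemma gr_snd (T : Over S) (x : T.left ⟶ X) (hx : x ≫ f = T.hom) :
    gr f T x hx ≫ pullback.snd f T.hom = 𝟙 _ := pullback.lift_snd _ _ _

lemma XTmap_fst {T T' : Over S} (g : T' ⟶ T) :
    PicF.XTmap f g ≫ pullback.fst f T.hom = pullback.fst f T'.hom := by
  unfold PicF.XTmap
  rw [pullback.lift_fst, Category.comp_id]

lemma XTmap_snd {T T' : Over S} (g : T' ⟶ T) :
    PicF.XTmap f g ≫ pullback.snd f T.hom = pullback.snd f T'.hom ≫ g.left := by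
  unfold PicF.XTmap
  rw [pullback.lift_snd]

/-- the diagonal -/
noncomputable abbrev dg : X ⟶ PicF.XT f (Over.mk f) := gr f (Over.mk f) (𝟙 X) (Category.id_comp f)

instance [IsSeparated f] : IsClosedImmersion (dg f) := by
  have h : dg f = pullback.diagonal f := by
    apply pullback.hom_ext
    · exact (gr_fst f (Over.mk f) (𝟙 X) _).trans (pullback.diagonal_fst f).symm
    · exact (gr_snd f (Over.mk f) (𝟙 X) _).trans (pullback.diagonal_snd f).symm
  rw [h]
  infer_instance

lemma gr_XTmap (T : Over S) (g : T ⟶ Over.mk f) :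
    gr f T g.left (Over.w g) ≫ PicF.XTmap f g = g.left ≫ dg f := by
  apply pullback.hom_ext
  · rw [Category.assoc, XTmap_fst, gr_fst, Category.assoc, gr_fst]
    exact (Category.comp_id _).symm
  · rw [Category.assoc, XTmap_snd, ← Category.assoc, gr_snd, Category.id_comp, Category.assoc,
      gr_snd]
    exact (Category.comp_id _).symm

lemma isPullback_gr (T : Over S) (g : T ⟶ Over.mk f) :
    IsPullback (gr f T g.left (Over.w g)) g.left (PicF.XTmap f g) (dg f) := by
  refine ⟨⟨gr_XTmap f T g⟩, ⟨PullbackCone.IsLimit.mk _ (fun s => s.fst ≫ pullback.snd _ _)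
    ?_ ?_ ?_⟩⟩
  · intro s
    have hc := s.condition
    have h1 := congrArg (fun φ => φ ≫ pullback.fst f (Over.mk f).hom) hc
    have h2 := congrArg (fun φ => φ ≫ pullback.snd f (Over.mk f).hom) hc
    simp only [Category.assoc] at h1 h2
    rw [XTmap_fst, gr_fst] at h1
    rw [XTmap_snd, gr_snd] at h2
    apply pullback.hom_ext
    · rw [Category.assoc, gr_fst, Category.assoc, h1]
      exact h2
    · rw [Category.assoc, gr_snd, Category.comp_id]
  · intro s
    have hc := s.condition
    have h2 := congrArg (fun φ => φ ≫ pullback.snd f (Over.mk f).hom) hc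
    simp only [Category.assoc] at h2
    rw [XTmap_snd, gr_snd, Category.comp_id] at h2
    rw [Category.assoc]
    exact h2
  · intro s m hm1 hm2
    have := congrArg (fun φ => φ ≫ pullback.snd f T.hom) hm1
    simp only [Category.assoc] at this
    rw [gr_snd, Category.comp_id] at this
    exact this

instance gr_closed [IsSeparated f] (T : Over S) (x : T.left ⟶ X) (hx : x ≫ f = T.hom) :
    IsClosedImmersion (gr f T x hx) :=
  MorphismProperty.of_isPullback (P := @IsClosedImmersion)
    (isPullback_gr f T (Over.homMk x hx)).flip inferInstance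

lemma pull_diag [IsSeparated f] (T : Over S) (g : T ⟶ Over.mk f) :
    HilbD.pull f g (dg f).ker = (gr f T g.left (Over.w g)).ker := by
  unfold HilbD.pull
  have e1 : (pullback.snd (dg f).ker.subschemeι (PicF.XTmap f g)).ker =
      ((dg f).ker).comap (PicF.XTmap f g) := by
    rw [Scheme.IdealSheafData.comap, ← Scheme.Hom.ker_comp_of_isIso (pullbackSymmetry _ _).hom,
      pullbackSymmetry_hom_comp_snd]
  rw [e1, ← Scheme.IdealSheafData.ker_fst_of_isClosedImmersion]
  have h := isPullback_gr f T g
  rw [← h.isoPullback_hom_fst, Scheme.Hom.ker_comp_of_isIso]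

theorem result' [IsSeparated f] : ∃ Δ : HilbD.Obj f 1 (Over.mk f),
    Δ.1 = HilbD.secGraph f (Over.mk f) (𝟙 X) (Category.id_comp f) ∧
      HilbD.IsUniversal f 1 (Over.mk f) Δ := by
  have hΔ : Mor2.IsFinLocFreeOfDeg 1 ((dg f).ker.subschemeι ≫ PicF.XTproj f (Over.mk f)) := by
    have e : (dg f).ker.subschemeι ≫ PicF.XTproj f (Over.mk f) = inv (dg f).toImage := by
      rw [← cancel_epi (dg f).toImage, IsIso.hom_inv_id, ← Category.assoc]
      show ((dg f).toImage ≫ (dg f).imageι) ≫ _ = _
      rw [Scheme.Hom.toImage_imageι]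
      exact gr_snd f (Over.mk f) (𝟙 X) _
    rw [e]
    refine ⟨⟨inferInstance, inferInstance, inferInstance⟩, fun y => ?_⟩
    rw [Scheme.Hom.finrank_eq_one_of_isIso]
    rfl
  refine ⟨⟨(dg f).ker, hΔ⟩, rfl, ?_⟩
  intro T Z'
  obtain ⟨I', ⟨hfin, hflat, hfp⟩, hrk⟩ := Z'
  haveI := hfin
  haveI := hflat
  haveI := hfp
  haveI hiso : IsIso (I'.subschemeι ≫ PicF.XTproj f T) :=
    (Scheme.Hom.isIso_iff_finrank_eq _).mpr (funext hrk)
  let σ : T.left ⟶ PicF.XT f T := inv (I'.subschemeι ≫ PicF.XTproj f T) ≫ I'.subschemeι
  have hσsnd : σ ≫ pullback.snd f T.hom = 𝟙 _ := by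
    show (inv (I'.subschemeι ≫ PicF.XTproj f T) ≫ I'.subschemeι) ≫ PicF.XTproj f T = 𝟙 _
    rw [Category.assoc, IsIso.inv_hom_id]
  have hx : (σ ≫ pullback.fst f T.hom) ≫ f = T.hom := by
    rw [Category.assoc, pullback.condition, ← Category.assoc, hσsnd, Category.id_comp]
  have hσ : gr f T (σ ≫ pullback.fst f T.hom) hx = σ := by
    apply pullback.hom_ext
    · rw [gr_fst]
    · rw [gr_snd, hσsnd]
  have hker : (gr f T (σ ≫ pullback.fst f T.hom) hx).ker = I' := by
    rw [hσ, Scheme.Hom.ker_comp_of_isIso, Scheme.IdealSheafData.ker_subschemeι]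
  refine ⟨Over.homMk (σ ≫ pullback.fst f T.hom) hx, ?_, ?_⟩
  · show HilbD.pull f _ (dg f).ker = I'
    rw [pull_diag]
    exact hker
  · intro g' hg'
    have hg'' : HilbD.pull f g' (dg f).ker = I' := hg'
    rw [pull_diag] at hg''
    -- the two graphs have the same kernel
    have hle : (gr f T (σ ≫ pullback.fst f T.hom) hx).ker ≤ (gr f T g'.left (Over.w g')).ker := by
      rw [hker, hg'']
    have hl := IsClosedImmersion.lift_fac (gr f T (σ ≫ pullback.fst f T.hom) hx)
      (gr f T g'.left (Over.w g')) hle
    have h1 : IsClosedImmersion.lift (gr f T (σ ≫ pullback.fst f T.hom) hx)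
      (gr f T g'.left (Over.w g')) hle = 𝟙 _ := by
      have := congrArg (fun φ => φ ≫ pullback.snd f T.hom) hl
      simp only [Category.assoc] at this
      rw [gr_snd, gr_snd, Category.comp_id] at this
      exact this
    rw [h1, Category.id_comp] at hl
    apply Over.OverMorphism.ext
    have h2 : gr f T (σ ≫ pullback.fst f T.hom) hx ≫ pullback.fst f T.hom =
        gr f T g'.left (Over.w g') ≫ pullback.fst f T.hom := congrArg (fun φ => φ ≫ pullback.fst f T.hom) hl
    rw [gr_fst, gr_fst] at h2
    exact h2.symm

end helpers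



/-- For a separated morphism f : X → S, the Hilbert functor of one point of X over S is represented by X
with the diagonal as universal family: the diagonal of X ×_S X (the graph of the identity section of
X over itself) is a closed subscheme finite locally free of degree 1 over X, and every closed
subscheme of X ×_S T which is finite locally free of degree 1 over T is its base change along a
unique S-morphism T → X. (The published statement takes S Noetherian, f locally of finite type and
the Hilbert functor on locally Noetherian S-schemes with flat proper families of Hilbert polynomial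
1; this row uses the functor of families finite locally free of degree 1 on all S-schemes, for which
the same argument applies without Noetherian hypotheses.) -/
theorem result {X S : Scheme.{u}} (f : X ⟶ S) [IsSeparated f] :
    ∃ Δ : HilbD.Obj f 1 (Over.mk f),
      Δ.1 = HilbD.secGraph f (Over.mk f) (𝟙 X) (Category.id_comp f) ∧
      HilbD.IsUniversal f 1 (Over.mk f) Δ := by
  exact Groth.Agent.S14845.result' f

end Groth.Agent.S14845
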