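import Groth.Statements.S14846
import Mathlib
-- import your own Groth.Agent.* helpers here

set_option autoImplicit false
universe u v w
open Brauer

namespace Groth.Agent.S14846

section helpers
open TensorProduct

section
variable {K : Type u} {L : Type v} [Field K] [Field L] [Algebra K L]
    {A : Type w} [Ring A] [Algebra K A]

/-- the action of the Galois group on the base change -/
noncomputable def Gm (γ : L ≃ₐ[K] L) : L ⊗[K] A →ₐ[K] L ⊗[K] A :=
  Algebra.TensorProduct.map (γ : L →ₐ[K] L) (AlgHom.id K A)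

theorem Gm_tmul (γ : L ≃ₐ[K] L) (x : L) (a : A) : Gm γ (x ⊗ₜ[K] a) = (γ x) ⊗ₜ[K] a := by
  simp [Gm]

theorem Gm_mul (γ δ : L ≃ₐ[K] L) (t : L ⊗[K] A) : Gm (γ * δ) t = Gm γ (Gm δ t) := by
  induction t using TensorProduct.induction_on with
  | zero => simp
  | tmul x a => simp [Gm_tmul]
  | add x y hx hy => rw [map_add, map_add, map_add, hx, hy]

theorem Gm_one (t : L ⊗[K] A) : Gm (1 : L ≃ₐ[K] L) t = t := by
  induction t using TensorProduct.induction_on with
  | zero => simp
  | tmul x a => simp [Gm_tmul]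
  | add x y hx hy => rw [map_add, hx, hy]

theorem Gm_inv_Gm (γ : L ≃ₐ[K] L) (t : L ⊗[K] A) : Gm γ⁻¹ (Gm γ t) = t := by
  rw [← Gm_mul, inv_mul_cancel, Gm_one]

theorem Gm_Gm_inv (γ : L ≃ₐ[K] L) (t : L ⊗[K] A) : Gm γ (Gm γ⁻¹ t) = t := by
  rw [← Gm_mul, mul_inv_cancel, Gm_one]

theorem repr_Gm {ι : Type*} (b : Module.Basis ι K A) (γ : L ≃ₐ[K] L) (t : L ⊗[K] A) (i : ι) :
    (Algebra.TensorProduct.basis L b).repr (Gm γ t) i
      = γ ((Algebra.TensorProduct.basis L b).repr t i) := by
  induction t using TensorProduct.induction_on with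
  | zero => simp
  | tmul x a =>
    rw [Gm_tmul]
    simp [Algebra.TensorProduct.basis_repr_tmul]
  | add x y hx hy => simp [map_add, hx, hy]

theorem exists_of_fixed [IsGalois K L] {ι : Type*} (b : Module.Basis ι K A) (t : L ⊗[K] A)
    (ht : ∀ γ : L ≃ₐ[K] L, Gm γ t = t) : ∃ a : A, t = (1 : L) ⊗ₜ[K] a := by
  classical
  let B := Algebra.TensorProduct.basis L b
  have hfix : ∀ i, ∃ r : K, algebraMap K L r = B.repr t i := by
    intro i
    have h1 : ∀ γ : L ≃ₐ[K] L, γ (B.repr t i) = B.repr t i := by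
      intro γ
      rw [← repr_Gm, ht γ]
    exact (InfiniteGalois.mem_range_algebraMap_iff_fixed (k := K) (K := L) (B.repr t i)).mpr h1
  choose r hr using hfix
  refine ⟨∑ i ∈ (B.repr t).support, r i • b i, ?_⟩
  rw [TensorProduct.tmul_sum]
  conv_lhs => rw [← B.linearCombination_repr t, Finsupp.linearCombination_apply, Finsupp.sum]
  refine Finset.sum_congr rfl fun i _ => ?_
  rw [← hr i, Algebra.TensorProduct.basis_apply, TensorProduct.tmul_smul, algebraMap_smul]

end

section key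
variable {K : Type u} {L : Type v} [Field K] [Field L] [Algebra K L] [IsGalois K L]
    {A : Type w} [Ring A] [Algebra K A] [IsSimpleRing A]

theorem one_mem_of_stable (N : TwoSidedIdeal (L ⊗[K] A))
    (hN : ∀ (γ : L ≃ₐ[K] L) (x : L ⊗[K] A), x ∈ N → Gm γ x ∈ N) (hne : N ≠ ⊥) :
    (1 : L ⊗[K] A) ∈ N := by
  classical
  let b := Module.Basis.ofVectorSpace K A
  let B := Algebra.TensorProduct.basis L b
  -- nonzero element
  have hex : ∃ x ∈ N, x ≠ 0 := by
    by_contra h
    push Not at h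
    apply hne
    rw [eq_bot_iff]
    intro x hx
    rw [TwoSidedIdeal.mem_bot]
    exact h x hx
  have hP : ∃ n : ℕ, ∃ x ∈ N, x ≠ 0 ∧ (B.repr x).support.card = n := by
    obtain ⟨x, hx, hx0⟩ := hex
    exact ⟨_, x, hx, hx0, rfl⟩
  obtain ⟨x, hxN, hx0, hxcard⟩ := Nat.find_spec hP
  have hmin : ∀ z ∈ N, (B.repr z).support.card < Nat.find hP → z = 0 := by
    intro z hz hlt
    by_contra hz0
    exact Nat.find_min hP hlt ⟨z, hz, hz0, rfl⟩
  -- pick index in the support
  have hsupp : (B.repr x).support.Nonempty := by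
    rw [Finsupp.support_nonempty_iff]
    intro h
    exact hx0 (B.repr.map_eq_zero_iff.mp h)
  obtain ⟨i₀, hi₀⟩ := hsupp
  set c := B.repr x i₀ with hc
  have hc0 : c ≠ 0 := Finsupp.mem_support_iff.mp hi₀
  -- normalize
  have hsmul_mem : ∀ (d : L) (z : L ⊗[K] A), z ∈ N → d • z ∈ N := by
    intro d z hz
    rw [Algebra.smul_def]
    exact N.mul_mem_left _ _ hz
  set x' := c⁻¹ • x with hx'
  have hx'N : x' ∈ N := hsmul_mem _ _ hxN
  have hrepr' : ∀ i, B.repr x' i = c⁻¹ * B.repr x i := by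
    intro i
    rw [hx', map_smul, Finsupp.smul_apply, smul_eq_mul]
  have hx'i₀ : B.repr x' i₀ = 1 := by
    rw [hrepr', ← hc, inv_mul_cancel₀ hc0]
  have hx'0 : x' ≠ 0 := by
    intro h
    rw [h, map_zero, Finsupp.zero_apply] at hx'i₀
    exact zero_ne_one hx'i₀
  have hsupp' : (B.repr x').support ⊆ (B.repr x).support := by
    intro i hi
    rw [Finsupp.mem_support_iff] at hi ⊢
    intro h
    apply hi
    rw [hrepr', h, mul_zero]
  -- fixed by the Galois group
  have hfixed : ∀ γ : L ≃ₐ[K] L, Gm γ x' = x' := by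
    intro γ
    have hd : Gm γ x' - x' ∈ N := N.sub_mem (hN γ x' hx'N) hx'N
    have hsub : (B.repr (Gm γ x' - x')).support ⊆ (B.repr x).support.erase i₀ := by
      intro i hi
      rw [Finsupp.mem_support_iff, map_sub, Finsupp.sub_apply, repr_Gm] at hi
      rw [Finset.mem_erase]
      constructor
      · rintro rfl
        apply hi
        rw [hx'i₀, map_one, sub_self]
      · apply hsupp'
        rw [Finsupp.mem_support_iff]
        intro h
        apply hi
        rw [h, map_zero, sub_self]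
    have hlt : (B.repr (Gm γ x' - x')).support.card < Nat.find hP := by
      calc (B.repr (Gm γ x' - x')).support.card ≤ ((B.repr x).support.erase i₀).card :=
            Finset.card_le_card hsub
        _ < (B.repr x).support.card := Finset.card_erase_lt_of_mem hi₀
        _ = Nat.find hP := hxcard
    exact sub_eq_zero.mp (hmin _ hd hlt)
  obtain ⟨a, ha⟩ := exists_of_fixed b x' hfixed
  have ha0 : a ≠ 0 := by
    rintro rfl
    rw [TensorProduct.tmul_zero] at ha
    exact hx'0 ha
  -- the comap ideal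
  let N' : TwoSidedIdeal A :=
    TwoSidedIdeal.comap (Algebra.TensorProduct.includeRight : A →ₐ[K] L ⊗[K] A) N
  have haN' : a ∈ N' := by
    rw [TwoSidedIdeal.mem_comap]
    show (1 : L) ⊗ₜ[K] a ∈ N
    rw [← ha]
    exact hx'N
  have hN' : N' = ⊤ := by
    rcases eq_bot_or_eq_top N' with h | h
    · rw [h, TwoSidedIdeal.mem_bot] at haN'
      exact absurd haN' ha0
    · exact h
  have h1 : (1 : A) ∈ N' := by
    rw [hN']
    exact TwoSidedIdeal.mem_top _
  rw [TwoSidedIdeal.mem_comap] at h1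
  have h2 : (Algebra.TensorProduct.includeRight : A →ₐ[K] L ⊗[K] A) 1 = 1 := map_one _
  rw [h2] at h1
  exact h1

end key

section mainsec
variable {K : Type u} {L : Type v} [Field K] [Field L] [Algebra K L] [IsGalois K L]
    {A : Type w} [Ring A] [Algebra K A] [IsSimpleRing A]

theorem main (I J : TwoSidedIdeal (L ⊗[K] A)) (hI : IsAtom I) (hJ : IsAtom J) :
    ∃ γ : L ≃ₐ[K] L, (J : Set (L ⊗[K] A)) =
      Algebra.TensorProduct.map (γ : L →ₐ[K] L) (AlgHom.id K A) '' (I : Set (L ⊗[K] A)) := by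
  by_contra hcon
  push Not at hcon
  have hA : ∀ (γ : L ≃ₐ[K] L), ∀ x ∈ J, ∀ y ∈ I, x * Gm γ y = 0 := by
    intro γ x hx y hy
    by_contra hne
    apply hcon γ
    let γI : TwoSidedIdeal (L ⊗[K] A) :=
      TwoSidedIdeal.comap (Gm γ⁻¹ : L ⊗[K] A →ₐ[K] L ⊗[K] A) I
    have hz : x * Gm γ y ∈ J ⊓ γI := by
      rw [TwoSidedIdeal.mem_inf]
      refine ⟨J.mul_mem_right _ _ hx, ?_⟩
      rw [TwoSidedIdeal.mem_comap, map_mul, Gm_inv_Gm]
      exact I.mul_mem_left _ _ hy
    have hle : J ≤ γI := by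
      have h1 : J ⊓ γI ≤ J := inf_le_left
      rcases hJ.le_iff.mp h1 with h | h
      · rw [h, TwoSidedIdeal.mem_bot] at hz
        exact absurd hz hne
      · rw [← h]
        exact inf_le_right
    let J' : TwoSidedIdeal (L ⊗[K] A) :=
      TwoSidedIdeal.comap (Gm γ : L ⊗[K] A →ₐ[K] L ⊗[K] A) J
    have hJ'le : J' ≤ I := by
      intro y hy
      rw [TwoSidedIdeal.mem_comap] at hy
      have := hle hy
      rw [TwoSidedIdeal.mem_comap, Gm_inv_Gm] at this
      exact this
    have hJ'ne : J' ≠ ⊥ := by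
      intro h
      have h2 : Gm γ⁻¹ x ∈ J' := by
        rw [TwoSidedIdeal.mem_comap, Gm_Gm_inv]
        exact hx
      rw [h, TwoSidedIdeal.mem_bot] at h2
      apply hne
      rw [← Gm_Gm_inv γ x, h2, map_zero, zero_mul]
    have hJ'eq : J' = I := by
      rcases hI.le_iff.mp hJ'le with h | h
      · exact absurd h hJ'ne
      · exact h
    ext z
    constructor
    · intro hz
      refine ⟨Gm γ⁻¹ z, ?_, Gm_Gm_inv γ z⟩
      rw [SetLike.mem_coe, ← hJ'eq, TwoSidedIdeal.mem_comap, Gm_Gm_inv]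
      exact hz
    · rintro ⟨y, hy, rfl⟩
      rw [SetLike.mem_coe, ← hJ'eq, TwoSidedIdeal.mem_comap] at hy
      exact hy
  let N : TwoSidedIdeal (L ⊗[K] A) :=
    TwoSidedIdeal.mk' {r | ∀ (γ : L ≃ₐ[K] L), ∀ x ∈ J, x * Gm γ r = 0}
      (fun γ x _ => by rw [map_zero, mul_zero])
      (fun {r s} hr hs γ x hx => by rw [map_add, mul_add, hr γ x hx, hs γ x hx, add_zero])
      (fun {r} hr γ x hx => by rw [map_neg, mul_neg, hr γ x hx, neg_zero])
      (fun {r s} hs γ x hx => by
        rw [map_mul, ← mul_assoc]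
        exact hs γ _ (J.mul_mem_right _ _ hx))
      (fun {r s} hr γ x hx => by rw [map_mul, ← mul_assoc, hr γ x hx, zero_mul])
  have hNmem : ∀ r, r ∈ N ↔ ∀ (γ : L ≃ₐ[K] L), ∀ x ∈ J, x * Gm γ r = 0 := fun r =>
    TwoSidedIdeal.mem_mk' _ _ _ _ _ _ r
  have hIN : I ≤ N := by
    intro y hy
    rw [hNmem]
    intro γ x hx
    exact hA γ x hx y hy
  have hNne : N ≠ ⊥ := by
    intro h
    rw [h, le_bot_iff] at hIN
    exact hI.1 hIN
  have hNst : ∀ (γ : L ≃ₐ[K] L) (x : L ⊗[K] A), x ∈ N → Gm γ x ∈ N := by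
    intro δ r hr
    rw [hNmem] at hr ⊢
    intro γ x hx
    rw [← Gm_mul]
    exact hr (γ * δ) x hx
  have h1 := one_mem_of_stable N hNst hNne
  rw [hNmem] at h1
  apply hJ.1
  rw [eq_bot_iff]
  intro x hx
  rw [TwoSidedIdeal.mem_bot]
  have := h1 1 x hx
  rwa [map_one, mul_one] at this

end mainsec
end helpers

open TensorProduct in
/-- Let L/K be a Galois extension with group Γ = Aut_K(L), and A a K-algebra which is a simple ring. If
L ⊗_K A is semisimple, then Γ, acting on L ⊗_K A through the first tensor factor, permutes its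
simple components, i.e. its minimal nonzero two-sided ideals, transitively: any minimal two-sided
ideal is carried onto any other by some γ ⊗ id. -/
theorem result
    {K : Type u} {L : Type v} [Field K] [Field L] [Algebra K L] [IsGalois K L]
    {A : Type w} [Ring A] [Algebra K A] [IsSimpleRing A]
    [IsSemisimpleRing (L ⊗[K] A)]
    (I J : TwoSidedIdeal (L ⊗[K] A)) (hI : IsAtom I) (hJ : IsAtom J) :
    ∃ γ : L ≃ₐ[K] L, (J : Set (L ⊗[K] A)) =
      Algebra.TensorProduct.map (γ : L →ₐ[K] L) (AlgHom.id K A) '' (I : Set (L ⊗[K] A)) := by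
  exact main I J hI hJ

end Groth.Agent.S14846
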