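import Groth.Statements.S14848
import Groth.Agent.Lib.Helper2.SL2Root
import Mathlib.Tactic.IntervalCases
import Mathlib.GroupTheory.OrderOfElement

set_option autoImplicit false
universe u v
open McKay

namespace Groth.Agent.S14848

/-- Let K be a field of characteristic zero, L an extension field of K and ξ ∈ L a primitive n-th root
of unity (n ≥ 1) with ξ + ξ⁻¹ ∈ K, say ξ + ξ⁻¹ = 2c with c ∈ K (the character of the natural
two-dimensional representation of the cyclic group of order n takes values in K). Then the cyclic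
group of order n is realisable over K as a subgroup of SL(2, K): there is an element of SL(2, K) of
order n. -/
theorem result {K : Type u} {L : Type v} [Field K] [Field L]
    [CharZero K] [Algebra K L] (n : ℕ) (hn : 1 ≤ n) (ξ : L) (hξ : IsPrimitiveRoot ξ n) (c : K)
    (hc : algebraMap K L (2 * c) = ξ + ξ⁻¹) :
    ∃ M : Matrix.SpecialLinearGroup (Fin 2) K, orderOf M = n := by
  classical
  have hξ0 : ξ ≠ 0 := hξ.ne_zero (by omega)
  rcases Nat.lt_or_ge n 3 with hlt | hge
  · interval_cases n
    · exact ⟨1, orderOf_one⟩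
    · let M : Matrix.SpecialLinearGroup (Fin 2) K :=
        ⟨!![-1, 0; 0, -1], by rw [Matrix.det_fin_two_of]; ring⟩
      have h2 : M ^ 2 = 1 := by
        apply Subtype.ext
        rw [Matrix.SpecialLinearGroup.coe_pow]
        ext i j
        fin_cases i <;> fin_cases j <;> simp [M, pow_two, Matrix.mul_apply, Fin.sum_univ_two]
      have h1 : M ≠ 1 := by
        intro h
        have := congrArg (fun A : Matrix.SpecialLinearGroup (Fin 2) K => (A : Matrix (Fin 2) (Fin 2) K) 0 0) h
        simp only [M, Matrix.SpecialLinearGroup.coe_one, Matrix.one_apply_eq,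
          Matrix.of_apply, Matrix.cons_val', Matrix.cons_val_zero] at this
        have h2 : (2 : K) = 0 := by linear_combination -this
        exact two_ne_zero h2
      have : Fact (Nat.Prime 2) := ⟨Nat.prime_two⟩
      exact ⟨M, orderOf_eq_prime h2 h1⟩
  · set γ := algebraMap K L c with hγdef
    have hγ : 2 * γ = ξ + ξ⁻¹ := by rw [← hc, map_mul, map_ofNat]
    have hne : ξ - ξ⁻¹ ≠ 0 := by
      intro h
      have h2 : ξ ^ 2 = 1 := by
        have h3 : ξ = ξ⁻¹ := sub_eq_zero.1 h
        rw [pow_two]
        nth_rewrite 2 [h3]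
        exact mul_inv_cancel₀ hξ0
      have := Nat.le_of_dvd (by norm_num) (hξ.dvd_of_pow_eq_one 2 h2)
      omega
    have key : ∀ k, Groth.Agent.Lib.helper2.SL2Root.σ c ^ k = 1 ↔ n ∣ k := by
      intro k
      rw [Groth.Agent.Lib.helper2.SL2Root.σ_pow_eq_iff (L := L) c k 1]
      have h1 : ((1 : Matrix.SpecialLinearGroup (Fin 2) K) : Matrix (Fin 2) (Fin 2) K).map
          (algebraMap K L) = 1 := by
        rw [Matrix.SpecialLinearGroup.coe_one]
        exact Matrix.map_one _ (map_zero _) (map_one _)
      rw [h1]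
      constructor
      · intro h
        exact hξ.dvd_of_pow_eq_one k
          (Groth.Agent.Lib.helper2.SL2Root.pow_eq_one_of_N_pow hξ0 hγ k h)
      · rintro ⟨m, rfl⟩
        have e1 : ξ ^ (n * m) = 1 := by rw [pow_mul, hξ.pow_eq_one, one_pow]
        have e2 : ξ⁻¹ ^ (n * m) = 1 := by rw [inv_pow, e1, inv_one]
        rw [Groth.Agent.Lib.helper2.SL2Root.N_pow_eq_scalar hξ0 hγ hne _ 1 e1 e2]
        simp
    exact ⟨Groth.Agent.Lib.helper2.SL2Root.σ c,
      Nat.dvd_antisymm (orderOf_dvd_of_pow_eq_one ((key n).2 dvd_rfl))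
        ((key _).1 (pow_orderOf_eq_one _))⟩

end Groth.Agent.S14848
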