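import Groth.Statements.S14849
import Groth.Agent.Lib.Helper2.SL2Root
import Mathlib.GroupTheory.OrderOfElement
import Mathlib.Data.ZMod.Basic

set_option autoImplicit false
universe u v
open McKay

namespace Groth.Agent.S14849

/-- Let K be a field of characteristic zero, L an extension field of K, n ≥ 2, and ξ ∈ L a primitive
2n-th root of unity with ξ + ξ⁻¹ = 2c for some c ∈ K. If the Hilbert symbol of -1 and c² - 1 over K
equals 1, i.e. x² - (c² - 1) y² = -1 has a solution in K, then the binary dihedral group of order 4n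
(generators σ, τ with τ² = σⁿ = (τσ)²) is isomorphic to a subgroup of SL(2, K). (The published
statement is an equivalence; this row is the direction realising the group from a solution of the
conic.) -/
theorem result {K : Type u} {L : Type v}
    [Field K] [Field L] [CharZero K] [Algebra K L] (n : ℕ) (hn : 2 ≤ n) (ξ : L)
    (hξ : IsPrimitiveRoot ξ (2 * n)) (c : K) (hc : algebraMap K L (2 * c) = ξ + ξ⁻¹)
    (hsol : ∃ x y : K, x ^ 2 - (c ^ 2 - 1) * y ^ 2 = -1) :
    ∃ f : QuaternionGroup n →* Matrix.SpecialLinearGroup (Fin 2) K, Function.Injective f := by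
  classical
  obtain ⟨x, y, hxy⟩ := hsol
  have hξ0 : ξ ≠ 0 := hξ.ne_zero (by omega)
  set γ := algebraMap K L c with hγdef
  have hγ : 2 * γ = ξ + ξ⁻¹ := by rw [← hc, map_mul, map_ofNat]
  have hne : ξ - ξ⁻¹ ≠ 0 := by
    intro h
    have h2 : ξ ^ 2 = 1 := by
      have h3 : ξ = ξ⁻¹ := sub_eq_zero.1 h
      rw [pow_two]
      nth_rewrite 2 [h3]
      exact mul_inv_cancel₀ hξ0
    have := Nat.le_of_dvd (by norm_num) (hξ.dvd_of_pow_eq_one 2 h2)
    omega
  set s := Groth.Agent.Lib.helper2.SL2Root.σ c with hs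
  let τ : Matrix.SpecialLinearGroup (Fin 2) K :=
    ⟨!![x, -(c ^ 2 - 1) * y; y, -x], by rw [Matrix.det_fin_two_of]; linear_combination -hxy⟩
  have key : ∀ k, s ^ k = 1 ↔ 2 * n ∣ k := by
    intro k
    rw [hs, Groth.Agent.Lib.helper2.SL2Root.σ_pow_eq_iff (L := L) c k 1]
    have h1 : ((1 : Matrix.SpecialLinearGroup (Fin 2) K) : Matrix (Fin 2) (Fin 2) K).map
        (algebraMap K L) = 1 := by
      rw [Matrix.SpecialLinearGroup.coe_one]
      exact Matrix.map_one _ (map_zero _) (map_one _)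
    rw [h1]
    constructor
    · intro h
      exact hξ.dvd_of_pow_eq_one k
        (Groth.Agent.Lib.helper2.SL2Root.pow_eq_one_of_N_pow hξ0 hγ k h)
    · rintro ⟨m, rfl⟩
      have e1 : ξ ^ (2 * n * m) = 1 := by rw [pow_mul, hξ.pow_eq_one, one_pow]
      have e2 : ξ⁻¹ ^ (2 * n * m) = 1 := by rw [inv_pow, e1, inv_one]
      rw [Groth.Agent.Lib.helper2.SL2Root.N_pow_eq_scalar hξ0 hγ hne _ 1 e1 e2]
      simp
  have hξn : ξ ^ n = -1 := by
    have h1 : ξ ^ n * ξ ^ n = 1 := by rw [← pow_add, ← two_mul, hξ.pow_eq_one]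
    rcases mul_self_eq_one_iff.1 h1 with h | h
    · exfalso
      have := Nat.le_of_dvd (by omega) (hξ.dvd_of_pow_eq_one n h)
      omega
    · exact h
  have hττ : ((τ * τ : Matrix.SpecialLinearGroup (Fin 2) K) : Matrix (Fin 2) (Fin 2) K)
      = Matrix.scalar (Fin 2) (-1) := by
    rw [Matrix.SpecialLinearGroup.coe_mul]
    ext i j
    fin_cases i <;> fin_cases j <;>
      simp [τ, Matrix.mul_apply, Fin.sum_univ_two] <;>
      first | ring1 | linear_combination hxy
  have hsn : s ^ n = τ * τ := by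
    rw [hs, Groth.Agent.Lib.helper2.SL2Root.σ_pow_eq_iff (L := L) c n (τ * τ), hττ]
    have e1 : ξ⁻¹ ^ n = -1 := by rw [inv_pow, hξn, inv_neg, inv_one]
    rw [Groth.Agent.Lib.helper2.SL2Root.N_pow_eq_scalar hξ0 hγ hne _ (-1) hξn e1]
    ext i j
    fin_cases i <;> fin_cases j <;> simp
  have hsts : s * τ * s = τ := by
    apply Subtype.ext
    rw [Matrix.SpecialLinearGroup.coe_mul, Matrix.SpecialLinearGroup.coe_mul, hs,
      Groth.Agent.Lib.helper2.SL2Root.σ_coe]
    ext i j
    fin_cases i <;> fin_cases j <;>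
      simp [τ, Matrix.mul_apply, Fin.sum_univ_two] <;> ring
  have h2n : s ^ (2 * n) = 1 := (key _).2 dvd_rfl
  have hNZ : NeZero (2 * n) := ⟨by omega⟩
  let E : ZMod (2 * n) → Matrix.SpecialLinearGroup (Fin 2) K := fun i => s ^ i.val
  have hE_add : ∀ i j, E (i + j) = E i * E j := by
    intro i j
    simp only [E]
    rw [ZMod.val_add, ← pow_add, ← pow_eq_pow_mod _ h2n]
  have hE_sub : ∀ i j, E (j - i) = E j * (E i)⁻¹ := by
    intro i j
    rw [eq_mul_inv_iff_mul_eq, ← hE_add, sub_add_cancel]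
  have hE_comm : ∀ i j, Commute (E i) (E j) := by
    intro i j
    change E i * E j = E j * E i
    rw [← hE_add, ← hE_add, add_comm]
  have h1 : s * τ = τ * s⁻¹ := by rw [eq_mul_inv_iff_mul_eq]; exact hsts
  have hpow_τ : ∀ k : ℕ, s ^ k * τ = τ * (s ^ k)⁻¹ := by
    intro k
    induction k with
    | zero => simp
    | succ k ih =>
      calc s ^ (k + 1) * τ = s ^ k * (s * τ) := by rw [pow_succ, mul_assoc]
        _ = (s ^ k * τ) * s⁻¹ := by rw [h1, mul_assoc]
        _ = τ * ((s ^ k)⁻¹ * s⁻¹) := by rw [ih, mul_assoc]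
        _ = τ * (s ^ (k + 1))⁻¹ := by rw [← mul_inv_rev, ← pow_succ']
  have hEτ : ∀ i, E i * τ = τ * (E i)⁻¹ := fun i => hpow_τ _
  have hEn : E (n : ZMod (2 * n)) = τ * τ := by
    simp only [E]
    rw [ZMod.val_natCast, Nat.mod_eq_of_lt (by omega)]
    exact hsn
  let f : QuaternionGroup n → Matrix.SpecialLinearGroup (Fin 2) K := fun g =>
    match g with
    | QuaternionGroup.a i => E i
    | QuaternionGroup.xa i => τ * E i
  have hfa : ∀ i, f (QuaternionGroup.a i) = E i := fun i => rfl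
  have hfxa : ∀ i, f (QuaternionGroup.xa i) = τ * E i := fun i => rfl
  have hmul : ∀ g h, f (g * h) = f g * f h := by
    rintro (i | i) (j | j)
    · rw [QuaternionGroup.a_mul_a, hfa, hfa, hfa, hE_add]
    · rw [QuaternionGroup.a_mul_xa, hfa, hfxa, hfxa, hE_sub, ← mul_assoc (E i), hEτ, mul_assoc,
        ((hE_comm i j).inv_left).eq]
    · rw [QuaternionGroup.xa_mul_a, hfa, hfxa, hfxa, hE_add, mul_assoc]
    · rw [QuaternionGroup.xa_mul_xa, hfa, hfxa, hfxa, hE_sub, hE_add, hEn]
      have e1 : τ * E i * (τ * E j) = τ * (E i * τ) * E j := by simp only [mul_assoc]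
      rw [e1, hEτ, ← mul_assoc τ τ, mul_assoc (τ * τ), mul_assoc (τ * τ),
        ((hE_comm i j).inv_left).eq]
  refine ⟨MonoidHom.mk' f hmul, ?_⟩
  rw [injective_iff_map_eq_one]
  rintro (i | i) hg
  · change E i = 1 at hg
    simp only [E] at hg
    have hdvd := (key _).1 hg
    have hlt : i.val < 2 * n := ZMod.val_lt i
    have h0 : i.val = 0 := Nat.eq_zero_of_dvd_of_lt hdvd hlt
    rw [(ZMod.val_eq_zero i).1 h0]
    exact QuaternionGroup.a_zero
  · exfalso
    change τ * E i = 1 at hg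
    have hτ : τ = (E i)⁻¹ := eq_inv_of_mul_eq_one_left hg
    have hcomm : Commute s (E i)⁻¹ := by
      have : Commute s (E i) := (Commute.refl s).pow_right _
      exact this.inv_right
    have h3 : s * (E i)⁻¹ * s = (E i)⁻¹ := by rw [← hτ]; exact hsts
    rw [hcomm.eq, mul_assoc] at h3
    have h4 : s * s = 1 := by
      have := mul_left_cancel (a := (E i)⁻¹) (b := s * s) (c := 1) (by rw [h3, mul_one])
      exact this
    have h5 : s ^ 2 = 1 := by rw [pow_two, h4]
    have := Nat.le_of_dvd (by norm_num) ((key 2).1 h5)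
    omega

end Groth.Agent.S14849
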