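import Groth.Statements.S14850
import Groth.Agent.Lib.Helper22.CoeffSS

set_option autoImplicit false
universe u v
open HopfRep

namespace Groth.Agent.S14850

open TensorProduct in
/-- Over a field K, a nonzero coalgebra C is simple if and only if C is isotypic as a right comodule
over itself, i.e. C is the internal direct sum of the images of a family of injective comodule maps
from one simple right C-comodule E. Here a subcoalgebra of C is a subspace B whose comultiplication
lands in the image of B ⊗ B, and C is simple when its only subcoalgebras are 0 and C. (Stated for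
the right regular comodule; the published statement allows left or right.) -/
theorem result {K : Type u} {C : Type v} [Field K] [AddCommGroup C]
    [Module K C] [Coalgebra K C] [Nontrivial C] :
    (∀ B : Submodule K C, (∀ b ∈ B, CoalgebraStruct.comul (R := K) b ∈ LinearMap.range (TensorProduct.map B.subtype B.subtype)) → B = ⊥ ∨ B = ⊤) ↔
    ∃ (E : Type v) (_ : AddCommGroup E) (_ : Module K E) (_ : HopfRep.Comod K C E),
      HopfRep.IsSimpleComod K C E ∧
      ∃ (ι : Type v) (f : ι → (E →ₗ[K] C)),
        (∀ i, Hoch.IsComodHom C (f i) ∧ Function.Injective (f i)) ∧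
        iSupIndep (fun i => LinearMap.range (f i)) ∧ (⨆ i, LinearMap.range (f i)) = ⊤ := by
  classical
  constructor
  · intro h
    obtain ⟨E₁, -, hE0, hE, hmin⟩ :=
      Groth.Agent.Lib.helper22.exists_simple_subcomod_le (k := K) (C := C) (V := C) ⊤
        Groth.Agent.Lib.helper22.isSubcomod_top top_ne_bot
    have hcf : Groth.Agent.Lib.helper22.cfOn C E₁ = ⊤ :=
      (h _ (Groth.Agent.Lib.helper22.isSubcoalg_cfOn E₁ hE)).resolve_left
        (Groth.Agent.Lib.helper22.cfOn_ne_bot hE0)
    have hss : IsSemisimpleModule (Groth.Agent.Lib.helper22.DualAlg K C)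
        (Groth.Agent.Lib.helper22.RegMod K C) :=
      Groth.Agent.Lib.helper22.isSemisimpleModule_regMod (ι := PUnit.{1}) (fun _ => E₁)
        (fun _ => hE) (fun _ => hE0) (fun _ => hmin) (by rw [iSup_const, hcf])
    obtain ⟨cE, hcE⟩ : ∃ cE : HopfRep.Comod K C E₁,
        cE = ComodSub.Comod.restr (HopfRep.Comod.regular K C) E₁ hE := ⟨_, rfl⟩
    have hsimple : @HopfRep.IsSimpleComod K C _ _ _ _ E₁ _ _ cE :=
      hcE ▸ Groth.Agent.Lib.helper22.isSimpleComod_restr (HopfRep.Comod.regular K C) E₁ hE hE0 hmin
    have hcf' : @Groth.Agent.Lib.helper22.cfOn K _ C _ _ _ E₁ _ _ cE ⊤ = ⊤ :=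
      (h _ (Groth.Agent.Lib.helper22.isSimpleSubcoalg_cfOn_top (c := cE) hsimple).2.1).resolve_left
        (Groth.Agent.Lib.helper22.isSimpleSubcoalg_cfOn_top (c := cE) hsimple).1
    obtain ⟨s, hind, hsup, hsimp⟩ := IsSemisimpleModule.exists_sSupIndep_sSup_simples_eq_top
      (Groth.Agent.Lib.helper22.DualAlg K C) (Groth.Agent.Lib.helper22.RegMod K C)
    have hequiv : ∀ m : s, Nonempty (m.1 ≃ₗ[Groth.Agent.Lib.helper22.DualAlg K C]
        Groth.Agent.Lib.helper22.AsMod cE) := by
      intro m
      have := hsimp m.1 m.2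
      exact Groth.Agent.Lib.helper22.nonempty_linearEquiv_of_le_cfOn_top (c := cE) hsimple m.1
        (by rw [hcf']; exact le_top)
    choose e he using (fun m : s => ⟨(hequiv m).some, trivial⟩ :
      ∀ m : s, ∃ _ : m.1 ≃ₗ[Groth.Agent.Lib.helper22.DualAlg K C] Groth.Agent.Lib.helper22.AsMod cE, True)
    have hrange : ∀ m : s, LinearMap.range (Groth.Agent.Lib.helper22.linToHom cE (HopfRep.Comod.regular K C)
        (m.1.subtype ∘ₗ (e m).symm.toLinearMap)) =
          Groth.Agent.Lib.helper22.ofSub (HopfRep.Comod.regular K C) m.1 := by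
      intro m
      ext x
      constructor
      · rintro ⟨y, rfl⟩
        exact ((e m).symm (Groth.Agent.Lib.helper22.toAsMod cE y)).2
      · intro hx
        refine ⟨(Groth.Agent.Lib.helper22.toAsMod cE).symm (e m ⟨_, hx⟩), ?_⟩
        rw [Groth.Agent.Lib.helper22.linToHom_apply, LinearEquiv.apply_symm_apply]
        simp only [LinearMap.comp_apply, LinearEquiv.coe_coe, LinearEquiv.symm_apply_apply,
          Submodule.subtype_apply, LinearEquiv.symm_apply_apply]
        rfl
    refine ⟨E₁, inferInstance, inferInstance, cE, hsimple, s,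
      fun m => Groth.Agent.Lib.helper22.linToHom cE (HopfRep.Comod.regular K C)
        (m.1.subtype ∘ₗ (e m).symm.toLinearMap), ?_, ?_, ?_⟩
    · intro m
      refine ⟨Groth.Agent.Lib.helper22.isComodHom_linToHom cE _ _, ?_⟩
      intro x y hxy
      have h1 := (Groth.Agent.Lib.helper22.toAsMod (HopfRep.Comod.regular K C)).symm.injective hxy
      have h2 := (e m).symm.injective (m.1.subtype_injective h1)
      exact (Groth.Agent.Lib.helper22.toAsMod cE).injective h2
    · simp_rw [hrange]
      exact (Groth.Agent.Lib.helper22.iSupIndep_ofSub_iff (HopfRep.Comod.regular K C)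
        (fun m : s => m.1)).mpr ((sSupIndep_iff s).mp hind)
    · simp_rw [hrange]
      rw [← Groth.Agent.Lib.helper22.ofSub_iSup, ← sSup_eq_iSup', hsup,
        Groth.Agent.Lib.helper22.ofSub_top]
  · rintro ⟨E, iA, iM, cE, hsimple, ι, f, hf, -, hsup⟩ B hB
    have hcf : Groth.Agent.Lib.helper22.cfOn C (⊤ : Submodule K E) = ⊤ := by
      rw [← top_le_iff, ← hsup]
      apply iSup_le
      intro i
      rintro _ ⟨x, rfl⟩
      have := LinearMap.congr_fun
        (Groth.Agent.Lib.helper22.eq_coeffMap_of_isComodHom (f i) (hf i).1) x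
      rw [this]
      exact Groth.Agent.Lib.helper22.coeffMap_mem_cfOn ⊤ _ Submodule.mem_top
    have := Groth.Agent.Lib.helper22.eq_bot_or_eq_cfOn_top_of_isSubcoalg hsimple B hB
      (by rw [hcf]; exact le_top)
    rw [hcf] at this
    exact this

end Groth.Agent.S14850
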