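import Groth.Statements.S14855
import Mathlib


set_option autoImplicit false
universe u
open CAlg

namespace Groth.Agent.S14855

set_option linter.style.haveILetI false
set_option linter.unusedSectionVars false
set_option linter.unusedVariables false

variable (p : ℕ) [Fact p.Prime]

open WittVector

section general
variable (S : Type u) [CommRing S]

lemma truncate_eq_zero_iff (y : WittVector p S) (r : ℕ) :
    WittVector.truncate (p := p) (R := S) r y = 0 ↔ ∀ i < r, y.coeff i = 0 := by
  constructor
  · intro h i hi
    have := congrArg (fun t => t.coeff ⟨i, hi⟩) h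
    simpa [WittVector.coeff_truncate] using this
  · intro h
    refine TruncatedWittVector.ext fun i => ?_
    rw [WittVector.coeff_truncate, h i i.2, TruncatedWittVector.coeff_zero]

lemma natCast_pow_mul_iterate_verschiebung (N n : ℕ) (w : WittVector p S) :
    (p : WittVector p S) ^ N * (verschiebung^[n] w) = verschiebung^[n] ((p : WittVector p S) ^ N * w) := by
  have h1 : ∀ y : WittVector p S, (p : WittVector p S) ^ N * y = (p ^ N) • y := by
    intro y
    rw [nsmul_eq_mul, Nat.cast_pow]
  rw [h1, h1, iterate_map_nsmul]

/-- If `p^N = 0` in `S` then `p^(n N)` kills the first `n` components of every Witt vector. -/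
lemma coeff_pow_mul_eq_zero (N : ℕ) (hN : (p : S) ^ N = 0) :
    ∀ (n : ℕ) (x : WittVector p S), ∀ i < n, ((p : WittVector p S) ^ (n * N) * x).coeff i = 0 := by
  intro n
  induction n with
  | zero => intro x i hi; omega
  | succ n ih =>
    intro x i hi
    set z := (p : WittVector p S) ^ (n * N) * x with hz
    have hz0 : ∀ i < n, z.coeff i = 0 := ih x
    have e1 : (p : WittVector p S) ^ ((n + 1) * N) * x = (p : WittVector p S) ^ N * z := by
      rw [hz, ← mul_assoc, ← pow_add]
      congr 2
      ring
    rw [e1, eq_iterate_verschiebung hz0, natCast_pow_mul_iterate_verschiebung]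
    rcases Nat.lt_succ_iff_lt_or_eq.mp hi with hi' | rfl
    · exact iterate_verschiebung_coeff_eq_zero _ hi'
    · have := iterate_verschiebung_coeff (p := p) ((p : WittVector p S) ^ N * z.shift i) i 0
      rw [zero_add] at this
      rw [this, WittVector.mul_coeff_zero]
      have h2 : ((p : WittVector p S) ^ N).coeff 0 = (p : S) ^ N := by
        have := map_pow (WittVector.constantCoeff (p := p) (R := S)) (p : WittVector p S) N
        rw [map_natCast] at this
        exact this
      rw [h2, hN, zero_mul]

end general

variable (R : Type u) [CommRing R]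

/-- reduction to `W_k(R/p^N)` -/
noncomputable def phi (k N : ℕ) :
    WittVector p R →+* TruncatedWittVector p k (R ⧸ Ideal.span {(p : R) ^ N}) :=
  (WittVector.truncate k).comp (WittVector.map (Ideal.Quotient.mk (Ideal.span {(p : R) ^ N})))

lemma phi_eq_iff (k N : ℕ) (x y : WittVector p R) :
    phi p R k N x = phi p R k N y ↔ ∀ i < k, x.coeff i - y.coeff i ∈ Ideal.span {(p : R) ^ N} := by
  constructor
  · intro h i hi
    have := congrArg (fun t => t.coeff ⟨i, hi⟩) h
    simp only [phi, RingHom.comp_apply, WittVector.coeff_truncate, WittVector.map_coeff] at this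
    exact Ideal.Quotient.eq.mp this
  · intro h
    refine TruncatedWittVector.ext fun i => ?_
    simp only [phi, RingHom.comp_apply, WittVector.coeff_truncate, WittVector.map_coeff]
    exact Ideal.Quotient.eq.mpr (h i i.2)

lemma phi_pow_mul (k N : ℕ) (w : WittVector p R) :
    phi p R k N ((p : WittVector p R) ^ (k * N) * w) = 0 := by
  simp only [phi, RingHom.comp_apply]
  rw [truncate_eq_zero_iff, map_mul, map_pow, map_natCast]
  apply coeff_pow_mul_eq_zero p _ N
  have e : ((p : R ⧸ Ideal.span {(p : R) ^ N})) ^ N
      = Ideal.Quotient.mk (Ideal.span {(p : R) ^ N}) ((p : R) ^ N) := by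
    rw [map_pow, map_natCast]
  rw [e]
  exact Ideal.Quotient.eq_zero_iff_mem.mpr (Ideal.mem_span_singleton_self _)

lemma phi_eq_of_sub (k N M : ℕ) (hM : k * N ≤ M) (x y w : WittVector p R)
    (h : x - y = (p : WittVector p R) ^ M * w) : phi p R k N x = phi p R k N y := by
  rw [← sub_eq_zero, ← map_sub, h]
  obtain ⟨d, rfl⟩ := Nat.exists_eq_add_of_le hM
  rw [pow_add, mul_assoc]
  exact phi_pow_mul p R k N _

variable [hR : IsAdicComplete (Ideal.span {(p : R)}) R]

lemma span_pow_smul_top (N : ℕ) :
    ((Ideal.span {(p : R)}) ^ N • ⊤ : Submodule R R) = Ideal.span {(p : R) ^ N} := by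
  rw [Ideal.span_singleton_pow, smul_eq_mul, Ideal.mul_top]

include hR in
lemma ext_of_phi (x y : WittVector p R) (h : ∀ k N, phi p R k N x = phi p R k N y) : x = y := by
  ext i
  rw [← sub_eq_zero]
  apply IsHausdorff.haus (hR.toIsHausdorff)
  intro N
  rw [SModEq.zero, span_pow_smul_top]
  exact (phi_eq_iff p R (i + 1) N x y).mp (h (i + 1) N) i (by omega)

include hR in
/-- limits of `p`-adically Cauchy sequences in the componentwise topology -/
lemma exists_limit (g : ℕ → WittVector p R)
    (hg : ∀ M M', M ≤ M' → ∃ w, g M' - g M = (p : WittVector p R) ^ M * w) :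
    ∃ L : WittVector p R, ∀ k N M, k * N ≤ M → phi p R k N L = phi p R k N (g M) := by
  have hcomp : ∀ (k N M M' : ℕ), k * N ≤ M → k * N ≤ M' → ∀ i < k,
      (g M).coeff i - (g M').coeff i ∈ Ideal.span {(p : R) ^ N} := by
    intro k N M M' h1 h2 i hi
    rcases le_total M M' with hMM | hMM
    · obtain ⟨w, hw⟩ := hg M M' hMM
      have := (phi_eq_iff p R k N _ _).mp (phi_eq_of_sub p R k N M h1 _ _ w hw) i hi
      rw [← neg_sub]
      exact neg_mem this
    · obtain ⟨w, hw⟩ := hg M' M hMM
      exact (phi_eq_iff p R k N _ _).mp (phi_eq_of_sub p R k N M' h2 _ _ w hw) i hi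
  have hlim : ∀ i : ℕ, ∃ l : R, ∀ j : ℕ,
      (g ((i + 1) * j)).coeff i - l ∈ Ideal.span {(p : R) ^ j} := by
    intro i
    obtain ⟨l, hl⟩ := IsPrecomplete.prec (hR.toIsPrecomplete)
      (f := fun j => (g ((i + 1) * j)).coeff i) (by
        intro m n hmn
        rw [SModEq.sub_mem, span_pow_smul_top]
        exact hcomp (i + 1) m _ _ le_rfl (Nat.mul_le_mul_left _ hmn) i (by omega))
    refine ⟨l, fun j => ?_⟩
    have := hl j
    rw [SModEq.sub_mem, span_pow_smul_top] at this
    exact this
  choose l hl using hlim
  refine ⟨WittVector.mk p l, fun k N M hM => ?_⟩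
  rw [phi_eq_iff]
  intro i hi
  have h1 := hl i N
  have h2 := hcomp (i + 1) N ((i + 1) * N) M le_rfl
    (le_trans (Nat.mul_le_mul_right _ (by omega)) hM) i (by omega)
  have : (WittVector.mk p l).coeff i - (g M).coeff i
      = -((g ((i + 1) * N)).coeff i - l i) + ((g ((i + 1) * N)).coeff i - (g M).coeff i) := by
    change l i - _ = _
    ring
  rw [this]
  exact add_mem (neg_mem h1) h2

include hR in
/-- `W(R)` is `p`-adically precomplete, in explicit form. -/
lemma exists_padic_limit (f : ℕ → WittVector p R)
    (hf : ∀ n, ∃ y, f (n + 1) - f n = (p : WittVector p R) ^ n * y) :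
    ∃ L : WittVector p R, ∀ n, ∃ u, L - f n = (p : WittVector p R) ^ n * u := by
  choose y hy using hf
  -- partial sums starting at n
  let g : ℕ → ℕ → WittVector p R := fun n M => ∑ j ∈ Finset.range M, (p : WittVector p R) ^ j * y (n + j)
  have hgC : ∀ n M M', M ≤ M' → ∃ w, g n M' - g n M = (p : WittVector p R) ^ M * w := by
    intro n M M' hMM
    obtain ⟨d, rfl⟩ := Nat.exists_eq_add_of_le hMM
    refine ⟨∑ j ∈ Finset.range d, (p : WittVector p R) ^ j * y (n + (M + j)), ?_⟩
    change ∑ j ∈ Finset.range (M + d), _ - ∑ j ∈ Finset.range M, _ = _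
    rw [Finset.sum_range_add, add_sub_cancel_left, Finset.mul_sum]
    refine Finset.sum_congr rfl fun j _ => ?_
    rw [pow_add, mul_assoc]
  have hu : ∀ n, ∃ u : WittVector p R, ∀ k N M, k * N ≤ M → phi p R k N u = phi p R k N (g n M) :=
    fun n => exists_limit p R (g n) (hgC n)
  choose u hu using hu
  -- telescoping
  have htel : ∀ n M, f (n + M) - f n = (p : WittVector p R) ^ n * g n M := by
    intro n M
    induction M with
    | zero => simp [g]
    | succ M ih =>
      have e : f (n + (M + 1)) - f n = (f (n + M + 1) - f (n + M)) + (f (n + M) - f n) := by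
        rw [← add_assoc]; ring
      rw [e, ih, hy]
      change _ = _ * ∑ j ∈ Finset.range (M + 1), _
      rw [Finset.sum_range_succ, mul_add, pow_add, mul_assoc]
      change _ = (p : WittVector p R) ^ n * g n M + _
      ring
  refine ⟨f 0 + u 0, fun n => ⟨u n, ?_⟩⟩
  apply ext_of_phi p R
  intro k N
  have h1 := hu 0 k N (n + k * N) (by omega)
  have h2 := hu n k N (k * N) le_rfl
  have h3 := htel 0 (n + k * N)
  have h4 := htel 0 n
  have h5 := htel n (k * N)
  simp only [zero_add, pow_zero, one_mul] at h3 h4
  rw [map_sub, map_add, map_mul, h1, h2, ← map_mul, ← map_add, ← map_sub]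
  congr 1
  rw [← h3, ← h5]
  ring

include hR in
lemma padic_hausdorff (x : WittVector p R)
    (hx : ∀ n, ∃ u, x = (p : WittVector p R) ^ n * u) : x = 0 := by
  apply ext_of_phi p R
  intro k N
  obtain ⟨u, hu⟩ := hx (k * N)
  rw [map_zero, hu]
  exact phi_pow_mul p R k N u

lemma mem_span_pow_smul_top_iff (n : ℕ) (x : WittVector p R) :
    x ∈ ((Ideal.span {(p : WittVector p R)}) ^ n • ⊤ : Submodule (WittVector p R) (WittVector p R)) ↔
      ∃ u, x = (p : WittVector p R) ^ n * u := by
  rw [Ideal.span_singleton_pow, smul_eq_mul, Ideal.mul_top, Ideal.mem_span_singleton']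
  constructor
  · rintro ⟨a, ha⟩; exact ⟨a, by rw [← ha, mul_comm]⟩
  · rintro ⟨u, hu⟩; exact ⟨u, by rw [hu, mul_comm]⟩

include hR in
theorem padic_complete :
    IsAdicComplete (Ideal.span {(p : WittVector p R)}) (WittVector p R) := by
  haveI : IsHausdorff (Ideal.span {(p : WittVector p R)}) (WittVector p R) := by
    constructor
    intro x hx
    apply padic_hausdorff p R x
    intro n
    have := hx n
    rw [SModEq.zero, mem_span_pow_smul_top_iff] at this
    exact this
  haveI : IsPrecomplete (Ideal.span {(p : WittVector p R)}) (WittVector p R) := by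
    constructor
    intro f hf
    obtain ⟨L, hL⟩ := exists_padic_limit p R f (by
      intro n
      have := (hf (Nat.le_succ n)).symm
      rw [SModEq.sub_mem, mem_span_pow_smul_top_iff] at this
      exact this)
    refine ⟨L, fun n => ?_⟩
    refine SModEq.symm ?_
    rw [SModEq.sub_mem, mem_span_pow_smul_top_iff]
    exact hL n
  exact {}

section Iadic

omit [IsAdicComplete (Ideal.span {(p : R)}) R]

lemma verschiebung_pow_mul (n : ℕ) (z : WittVector p R) :
    verschiebung ((p : WittVector p R) ^ n * z) = (p : WittVector p R) ^ n * verschiebung z := by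
  have h1 : ∀ y : WittVector p R, (p : WittVector p R) ^ n * y = (p ^ n) • y := by
    intro y
    rw [nsmul_eq_mul, Nat.cast_pow]
  rw [h1, h1, map_nsmul]

lemma verschiebung_mul_verschiebung (x y : WittVector p R) :
    verschiebung x * verschiebung y = (p : WittVector p R) * verschiebung (x * y) := by
  rw [← verschiebung_mul_frobenius, frobenius_verschiebung]
  have := verschiebung_pow_mul p R 1 (x * y)
  rw [pow_one] at this
  rw [← this]
  congr 1
  ring

lemma mem_ker_iff (x : WittVector p R) :
    x ∈ RingHom.ker (WittVector.constantCoeff : WittVector p R →+* R) ↔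
      ∃ z, x = verschiebung z := by
  rw [RingHom.mem_ker]
  constructor
  · intro h
    have h0 : ∀ i < 1, x.coeff i = 0 := by
      intro i hi
      obtain rfl : i = 0 := by omega
      exact h
    exact ⟨x.shift 1, eq_iterate_verschiebung h0⟩
  · rintro ⟨z, rfl⟩
    exact verschiebung_coeff_zero z

lemma ker_mul_ker :
    (RingHom.ker (WittVector.constantCoeff : WittVector p R →+* R)) *
        (RingHom.ker (WittVector.constantCoeff : WittVector p R →+* R)) =
      Ideal.span {(p : WittVector p R)} *
        (RingHom.ker (WittVector.constantCoeff : WittVector p R →+* R)) := by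
  apply le_antisymm
  · rw [Ideal.mul_le]
    intro a ha b hb
    obtain ⟨a', rfl⟩ := (mem_ker_iff p R a).mp ha
    obtain ⟨b', rfl⟩ := (mem_ker_iff p R b).mp hb
    rw [verschiebung_mul_verschiebung]
    exact Ideal.mul_mem_mul (Ideal.mem_span_singleton_self _) ((mem_ker_iff p R _).mpr ⟨_, rfl⟩)
  · rw [Ideal.mul_le]
    intro r hr s hs
    obtain ⟨c, rfl⟩ := Ideal.mem_span_singleton'.mp hr
    obtain ⟨s', rfl⟩ := (mem_ker_iff p R s).mp hs
    have e : c * (p : WittVector p R) * verschiebung s'
        = c * (verschiebung 1 * verschiebung s') := by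
      rw [verschiebung_mul_verschiebung, one_mul]
      ring
    rw [e]
    exact Ideal.mul_mem_left _ _
      (Ideal.mul_mem_mul ((mem_ker_iff p R _).mpr ⟨_, rfl⟩) ((mem_ker_iff p R _).mpr ⟨_, rfl⟩))

lemma ker_pow_succ (n : ℕ) :
    (RingHom.ker (WittVector.constantCoeff : WittVector p R →+* R)) ^ (n + 1) =
      Ideal.span {(p : WittVector p R) ^ n} *
        (RingHom.ker (WittVector.constantCoeff : WittVector p R →+* R)) := by
  induction n with
  | zero => simp
  | succ n ih =>
    rw [pow_succ, ih, mul_assoc, ker_mul_ker, ← mul_assoc, Ideal.span_singleton_mul_span_singleton,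
      ← pow_succ]

lemma mem_ker_pow_succ_iff (n : ℕ) (x : WittVector p R) :
    x ∈ ((RingHom.ker (WittVector.constantCoeff : WittVector p R →+* R)) ^ (n + 1) • ⊤ :
        Submodule (WittVector p R) (WittVector p R)) ↔
      ∃ z, x = (p : WittVector p R) ^ n * verschiebung z := by
  rw [smul_eq_mul, Ideal.mul_top, ker_pow_succ, Ideal.mem_span_singleton_mul]
  constructor
  · rintro ⟨b, hb, rfl⟩
    obtain ⟨z, rfl⟩ := (mem_ker_iff p R b).mp hb
    exact ⟨z, rfl⟩
  · rintro ⟨z, rfl⟩
    exact ⟨_, (mem_ker_iff p R _).mpr ⟨z, rfl⟩, rfl⟩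

end Iadic

include hR in
theorem Iadic_complete :
    IsAdicComplete (RingHom.ker (WittVector.constantCoeff : WittVector p R →+* R))
      (WittVector p R) := by
  haveI : IsHausdorff (RingHom.ker (WittVector.constantCoeff : WittVector p R →+* R))
      (WittVector p R) := by
    constructor
    intro x hx
    apply padic_hausdorff p R x
    intro n
    have := hx (n + 1)
    rw [SModEq.zero, mem_ker_pow_succ_iff] at this
    obtain ⟨z, hz⟩ := this
    exact ⟨_, hz⟩
  haveI : IsPrecomplete (RingHom.ker (WittVector.constantCoeff : WittVector p R →+* R))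
      (WittVector p R) := by
    constructor
    intro f hf
    have hz : ∀ n, ∃ z, f (n + 2) - f (n + 1) = (p : WittVector p R) ^ n * verschiebung z := by
      intro n
      have := (hf (Nat.le_succ (n + 1))).symm
      rw [SModEq.sub_mem, mem_ker_pow_succ_iff] at this
      exact this
    choose z hz using hz
    let t : ℕ → WittVector p R := fun n => ∑ j ∈ Finset.range n, (p : WittVector p R) ^ j * z j
    obtain ⟨Z, hZ⟩ := exists_padic_limit p R t (by
      intro n
      refine ⟨z n, ?_⟩
      change ∑ j ∈ Finset.range (n + 1), _ - ∑ j ∈ Finset.range n, _ = _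
      rw [Finset.sum_range_succ, add_sub_cancel_left])
    have hft : ∀ n, f (n + 1) = f 1 + verschiebung (t n) := by
      intro n
      induction n with
      | zero => simp [t]
      | succ n ih =>
        have e : f (n + 1 + 1) = (f (n + 2) - f (n + 1)) + f (n + 1) := by ring
        rw [e, hz, ih]
        change _ = f 1 + verschiebung (∑ j ∈ Finset.range (n + 1), _)
        rw [Finset.sum_range_succ, map_add, verschiebung_pow_mul]
        change _ = f 1 + (verschiebung (t n) + _)
        ring
    refine ⟨f 1 + verschiebung Z, fun n => ?_⟩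
    refine SModEq.symm ?_
    rw [SModEq.sub_mem]
    rcases n with _ | n
    · simp
    · rw [mem_ker_pow_succ_iff]
      obtain ⟨u, hu⟩ := hZ n
      refine ⟨u, ?_⟩
      rw [hft n, ← verschiebung_pow_mul, ← hu, map_sub]
      ring
  exact {}

include hR in
theorem main :
    IsAdicComplete (Ideal.span {(p : WittVector p R)}) (WittVector p R) ∧
      IsAdicComplete (RingHom.ker (WittVector.constantCoeff : WittVector p R →+* R)) (WittVector p R) :=
  ⟨padic_complete p R, Iadic_complete p R⟩



/-- Let p be a prime and R a commutative ring which is complete and separated for the p-adic topology.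
Then the ring W(R) of p-typical Witt vectors of R is complete and separated for its own p-adic
topology, and it is also complete and separated for the adic topology of the ideal I_R, the kernel
of the projection of W(R) onto the zeroth Witt component. -/
theorem result (p : ℕ) [Fact p.Prime] (R : Type u) [CommRing R]
    [IsAdicComplete (Ideal.span {(p : R)}) R] :
    IsAdicComplete (Ideal.span {(p : WittVector p R)}) (WittVector p R) ∧
      IsAdicComplete (RingHom.ker (WittVector.constantCoeff : WittVector p R →+* R)) (WittVector p R) := by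
  exact main p R

end Groth.Agent.S14855
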