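import Groth.Statements.S14856
import Mathlib

set_option autoImplicit false
universe u
open CAlg

namespace Groth.Agent.S14856

set_option linter.style.haveILetI false
set_option linter.unusedSectionVars false
set_option linter.unusedVariables false



variable (p : ℕ) [Fact p.Prime] (S : Type u) [CommRing S]

theorem ghost_eq (x : WittVector p S) (n : ℕ) :
    WittVector.ghostComponent n x =
      ∑ i ∈ Finset.range (n + 1), (p : S) ^ i * x.coeff i ^ p ^ (n - i) := by
  rw [WittVector.ghostComponent_apply, aeval_wittPolynomial]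

theorem le_pow_sub_one (k : ℕ) : k ≤ p ^ k - 1 := by
  have hp : 2 ≤ p := (Fact.out : p.Prime).two_le
  have : k < p ^ k := Nat.lt_pow_self hp
  omega

/-- a term `p^i x_i^{p^{n-i}}` with `p^s ∣ x_i`, `i ≤ n`, is divisible by `p^{n+s}`. -/
theorem term_dvd (s : ℕ) (hs : 1 ≤ s) (n i : ℕ) (hi : i ≤ n) (a : S) (ha : (p : S) ^ s ∣ a) :
    (p : S) ^ (n + s) ∣ (p : S) ^ i * a ^ p ^ (n - i) := by
  obtain ⟨y, rfl⟩ := ha
  have h1 : n + s ≤ i + s * p ^ (n - i) := by
    have h2 := le_pow_sub_one p (n - i)
    have h3 : 1 ≤ p ^ (n - i) := Nat.one_le_pow _ _ (Fact.out : p.Prime).pos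
    have h4 : s * (p ^ (n - i) - 1) ≥ 1 * (n - i) := Nat.mul_le_mul hs h2
    have h5 : s * p ^ (n - i) = s * (p ^ (n - i) - 1) + s := by
      have : p ^ (n - i) = (p ^ (n - i) - 1) + 1 := by omega
      conv_lhs => rw [this]
      ring
    omega
  rw [mul_pow, ← pow_mul, ← mul_assoc, ← pow_add]
  exact Dvd.dvd.mul_right (pow_dvd_pow _ h1) _

theorem main (hS : ∀ y : S, (p : S) * y = 0 → y = 0) (x : WittVector p S) (m s : ℕ) (hs : 1 ≤ s) :
    (∀ i ≤ m, (p : S) ^ s ∣ x.coeff i) ↔
      (∀ n ≤ m, (p : S) ^ (n + s) ∣ WittVector.ghostComponent n x) := by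
  have hcancel : ∀ (k : ℕ) (a b : S), (p : S) ^ k * a = (p : S) ^ k * b → a = b := by
    intro k
    induction k with
    | zero => intro a b h; simpa using h
    | succ k ih =>
      intro a b h
      apply ih
      have : (p : S) * ((p : S) ^ k * a - (p : S) ^ k * b) = 0 := by
        rw [pow_succ] at h
        linear_combination h
      exact sub_eq_zero.mp (hS _ this)
  constructor
  · intro h n hn
    rw [ghost_eq]
    apply Finset.dvd_sum
    intro i hi
    have hi' : i ≤ n := Nat.lt_succ_iff.mp (Finset.mem_range.mp hi)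
    exact term_dvd p S s hs n i hi' _ (h i (hi'.trans hn))
  · intro h i
    induction i using Nat.strong_induction_on with
    | _ i ih =>
      intro hi
      have h1 := h i hi
      rw [ghost_eq, Finset.sum_range_succ, Nat.sub_self, pow_zero, pow_one] at h1
      have h2 : (p : S) ^ (i + s) ∣ ∑ j ∈ Finset.range i, (p : S) ^ j * x.coeff j ^ p ^ (i - j) := by
        apply Finset.dvd_sum
        intro j hj
        have hj' : j < i := Finset.mem_range.mp hj
        exact term_dvd p S s hs i j hj'.le _ (ih j hj' (hj'.le.trans hi))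
      have h3 : (p : S) ^ (i + s) ∣ (p : S) ^ i * x.coeff i := (dvd_add_right h2).mp h1
      obtain ⟨y, hy⟩ := h3
      rw [pow_add, mul_assoc] at hy
      exact ⟨y, hcancel i _ _ hy⟩



/-- Let p be a prime and S a commutative ring in which p is a non-zero-divisor. For a p-typical Witt
vector x over S, a natural number m and an integer s ≥ 1, the power p^s divides each of the Witt
components x_0, …, x_m if and only if p^(n+s) divides the n-th ghost component w_n(x) = x_0^(p^n) +
p x_1^(p^(n-1)) + ⋯ + p^n x_n for every n ≤ m. -/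
theorem result (p : ℕ) [Fact p.Prime] (S : Type u) [CommRing S]
    (hS : ∀ y : S, (p : S) * y = 0 → y = 0) (x : WittVector p S) (m s : ℕ) (hs : 1 ≤ s) :
    (∀ i ≤ m, (p : S) ^ s ∣ x.coeff i) ↔
      (∀ n ≤ m, (p : S) ^ (n + s) ∣ WittVector.ghostComponent n x) := by
  exact main p S hS x m s hs

end Groth.Agent.S14856
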