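import Groth.Statements.S14857
import Groth.Agent.Lib.Helper17.Witt
import Mathlib

set_option autoImplicit false
open CAlg

namespace Groth.Agent.S14857

open Groth.Agent.Lib.helper17 in
/-- Over any commutative ring, `p ∣ [a] ^ p` whenever `[a]` and `p` have the same zeroth coefficient
and `2 ≤ p`. -/
theorem dvd_teichmuller_pow (p : ℕ) [Fact p.Prime] (R : Type*) [CommRing R] :
    (p : WittVector p R) ∣ WittVector.teichmuller p ((p : R) ^ p) := by
  rw [map_pow]
  set x := WittVector.teichmuller p (p : R) with hx
  have hv0 : (x - (p : WittVector p R)).coeff 0 = 0 := by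
    have : WittVector.constantCoeff (x - (p : WittVector p R)) = 0 := by
      rw [map_sub, map_natCast, WittVector.constantCoeff_apply, hx,
        WittVector.teichmuller_coeff_zero, sub_self]
    exact this
  obtain ⟨z, hz⟩ := Witt.exists_verschiebung_of_coeff_zero _ hv0
  have h1 : (p : WittVector p R) ∣ x ^ p - (x - (p : WittVector p R)) ^ p := by
    have := sub_dvd_pow_sub_pow x (x - (p : WittVector p R)) p
    rwa [sub_sub_cancel] at this
  have h2 : (p : WittVector p R) ∣ (x - (p : WittVector p R)) ^ p := by
    have hp2 : 2 ≤ p := (Fact.out : p.Prime).two_le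
    obtain ⟨k, rfl⟩ : ∃ k, p = 2 + k := ⟨p - 2, by omega⟩
    rw [pow_add, hz, pow_two, Witt.verschiebung_mul_verschiebung, mul_assoc]
    exact dvd_mul_right _ _
  have := dvd_add h1 h2
  rwa [sub_add_cancel] at this

/-- For a prime p, the Teichmüller representative [p^p] of the element p^p of the p-adic integers is
divisible by p in the ring of p-typical Witt vectors W(ℤ_p). -/
theorem result (p : ℕ) [Fact p.Prime] :
    (p : WittVector p ℤ_[p]) ∣ WittVector.teichmuller p ((p : ℤ_[p]) ^ p) := by
  exact dvd_teichmuller_pow p ℤ_[p]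

end Groth.Agent.S14857
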