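import Groth.Statements.S14860
import Mathlib

set_option autoImplicit false
universe u v
open CAlg

namespace Groth.Agent.S14860


section general

variable {R : Type u} [CommRing R]

theorem mem_smul_top_pi {ι : Type*} [Fintype ι] [DecidableEq ι] (I : Ideal R) (v : ι → R) :
    v ∈ I • (⊤ : Submodule R (ι → R)) ↔ ∀ i, v i ∈ I := by
  constructor
  · intro h
    refine Submodule.smul_induction_on h ?_ ?_
    · intro r hr n _ i
      rw [Pi.smul_apply, smul_eq_mul]
      exact I.mul_mem_right _ hr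
    · intro x y hx hy i
      rw [Pi.add_apply]
      exact I.add_mem (hx i) (hy i)
  · intro h
    rw [pi_eq_sum_univ v]
    refine Submodule.sum_mem _ fun i _ => ?_
    exact Submodule.smul_mem_smul (h i) Submodule.mem_top

theorem finsupp_coeff_mem {α : Type*} (I : Ideal R) (v : α →₀ R)
    (h : v ∈ I • (⊤ : Submodule R (α →₀ R))) (a : α) : v a ∈ I := by
  refine Submodule.smul_induction_on h ?_ ?_
  · intro r hr n _
    rw [Finsupp.smul_apply, smul_eq_mul]
    exact I.mul_mem_right _ hr
  · intro x y hx hy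
    rw [Finsupp.add_apply]
    exact I.add_mem hx hy

theorem lift_of_proj (I : Ideal R) {Q M N : Type*}
    [AddCommGroup Q] [Module R Q] [Module (R ⧸ I) Q] [IsScalarTower R (R ⧸ I) Q]
    [Module.Projective (R ⧸ I) Q]
    [AddCommGroup M] [Module R M] [AddCommGroup N] [Module R N]
    (hM : ∀ r ∈ I, ∀ m : M, r • m = 0)
    (f : M →ₗ[R] N) (hf : Function.Surjective f) (g : Q →ₗ[R] N) :
    ∃ h : Q →ₗ[R] M, f ∘ₗ h = g := by
  classical
  obtain ⟨s, hs⟩ := (Module.projective_def' (R := R ⧸ I) (P := Q)).1 inferInstance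
  choose m hm using fun q : Q => hf (g q)
  let ℓ : Q → (R ⧸ I) →ₗ[R] M := fun q =>
    Submodule.liftQ I (LinearMap.toSpanSingleton R M (m q)) (by
      intro r hr
      rw [LinearMap.mem_ker, LinearMap.toSpanSingleton_apply]
      exact hM r hr (m q))
  let H : (Q →₀ (R ⧸ I)) →ₗ[R] M := Finsupp.lsum ℕ ℓ
  have hH : ∀ v : Q →₀ (R ⧸ I), f (H v) = g (Finsupp.linearCombination (R ⧸ I) id v) := by
    intro v
    refine Finsupp.induction_linear v ?_ ?_ ?_
    · simp
    · intro v w hv hw
      simp only [map_add]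
      rw [hv, hw]
    · intro q c
      obtain ⟨r, rfl⟩ := Ideal.Quotient.mk_surjective c
      have h1 : H (Finsupp.single q (Ideal.Quotient.mk I r)) = r • m q := by
        show (Finsupp.lsum ℕ ℓ) (Finsupp.single q (Ideal.Quotient.mk I r)) = r • m q
        rw [Finsupp.lsum_single]
        rfl
      have h2 : (Ideal.Quotient.mk I r) • q = r • q := algebraMap_smul (R ⧸ I) r q
      rw [h1, map_smul, hm, Finsupp.linearCombination_single, id_eq, h2, map_smul]
  refine ⟨H ∘ₗ (s.restrictScalars R), ?_⟩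
  refine LinearMap.ext fun q => ?_
  rw [LinearMap.comp_apply, LinearMap.comp_apply, LinearMap.restrictScalars_apply, hH]
  have h3 := LinearMap.congr_fun hs q
  rw [LinearMap.comp_apply, LinearMap.id_apply] at h3
  rw [h3]

theorem smul_quot_eq_zero (I : Ideal R) {M : Type*} [AddCommGroup M] [Module R M] (r : R)
    (hr : r ∈ I) (y : M ⧸ I • (⊤ : Submodule R M)) : r • y = 0 := by
  obtain ⟨z, rfl⟩ := Submodule.Quotient.mk_surjective _ y
  rw [← Submodule.Quotient.mk_smul, Submodule.Quotient.mk_eq_zero]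
  exact Submodule.smul_mem_smul hr Submodule.mem_top

theorem smul_top_quot_eq_bot (I : Ideal R) {M : Type*} [AddCommGroup M] [Module R M] :
    I • (⊤ : Submodule R (M ⧸ I • (⊤ : Submodule R M))) = ⊥ := by
  rw [eq_bot_iff]
  intro y hy
  rw [Submodule.mem_bot]
  refine Submodule.smul_induction_on hy ?_ ?_
  · intro r hr n _
    exact smul_quot_eq_zero I r hr n
  · intro x y hx hy
    rw [hx, hy, add_zero]

theorem isUnit_of_sub_one_mem {M : Type*} [AddCommGroup M] [Module R M] (I : Ideal R) (j : ℕ)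
    (hI : I ^ j • (⊤ : Submodule R M) = ⊥) (u : Module.End R M)
    (hu : ∀ y, u y - y ∈ I • (⊤ : Submodule R M)) : IsUnit u := by
  obtain ⟨D, hDdef⟩ : ∃ D : Module.End R M, D = u - 1 := ⟨_, rfl⟩
  have hD : ∀ y, D y ∈ I • (⊤ : Submodule R M) := fun y => by
    rw [hDdef, LinearMap.sub_apply, Module.End.one_apply]; exact hu y
  have hmap : ∀ (K : Ideal R) (z : M), z ∈ K • (⊤ : Submodule R M) →
      D z ∈ (K * I) • (⊤ : Submodule R M) := by
    intro K z hz
    rw [Submodule.mul_smul]
    refine Submodule.smul_induction_on hz ?_ ?_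
    · intro r hr n _
      rw [map_smul]
      exact Submodule.smul_mem_smul hr (hD n)
    · intro x y hx hy
      rw [map_add]
      exact Submodule.add_mem _ hx hy
  have hpow : ∀ k y, (D ^ k) y ∈ I ^ k • (⊤ : Submodule R M) := by
    intro k
    induction k with
    | zero =>
      intro y
      simp only [pow_zero, Ideal.one_eq_top, Submodule.top_smul, Submodule.mem_top]
    | succ k ih =>
      intro y
      rw [pow_succ' D k, Module.End.mul_apply, pow_succ I k]
      exact hmap _ _ (ih y)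
  have hnil : IsNilpotent D := ⟨j, LinearMap.ext fun y => by
    have h1 := hpow j y
    rw [hI, Submodule.mem_bot] at h1
    rw [h1]; rfl⟩
  have hud : u = D + 1 := by rw [hDdef, sub_add_cancel]
  rw [hud]
  exact hnil.isUnit_add_one

variable (J : ℕ → Ideal R)

/-- the quotient `M / J_n M`. -/
abbrev Qt (M : Type*) [AddCommGroup M] [Module R M] (n : ℕ) : Type _ :=
  M ⧸ J n • (⊤ : Submodule R M)

/-- the induced map on quotients. -/
def phiQ {F P : Type*} [AddCommGroup F] [Module R F] [AddCommGroup P] [Module R P]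
    (φ : F →ₗ[R] P) (n : ℕ) : Qt J F n →ₗ[R] Qt J P n :=
  Submodule.mapQ _ _ φ (Submodule.smul_top_le_comap_smul_top (J n) φ)

/-- the transition map. -/
def piQ (hJ : Antitone J) (M : Type*) [AddCommGroup M] [Module R M] (n : ℕ) :
    Qt J M (n + 1) →ₗ[R] Qt J M n :=
  Submodule.factor (Submodule.smul_mono_left (hJ n.le_succ))

theorem phiQ_mk {F P : Type*} [AddCommGroup F] [Module R F] [AddCommGroup P] [Module R P]
    (φ : F →ₗ[R] P) (n : ℕ) (a : F) :
    phiQ J φ n (Submodule.Quotient.mk a : Qt J F n) = (Submodule.Quotient.mk (φ a) : Qt J P n) :=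
  rfl

theorem piQ_mk (hJ : Antitone J) (M : Type*) [AddCommGroup M] [Module R M] (n : ℕ) (a : M) :
    piQ J hJ M n (Submodule.Quotient.mk a : Qt J M (n + 1)) = (Submodule.Quotient.mk a : Qt J M n) :=
  rfl

theorem phiQ_piQ (hJ : Antitone J) {F P : Type*} [AddCommGroup F] [Module R F] [AddCommGroup P]
    [Module R P] (φ : F →ₗ[R] P) (n : ℕ) (y : Qt J F (n + 1)) :
    phiQ J φ n (piQ J hJ F n y) = piQ J hJ P n (phiQ J φ (n + 1) y) := by
  obtain ⟨a, rfl⟩ := Submodule.Quotient.mk_surjective _ y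
  rfl

theorem sec_step (hJ : Antitone J) (hnil : ∀ n, ∃ j, J 1 ^ j ≤ J n)
    {F P : Type*} [AddCommGroup F] [Module R F] [AddCommGroup P] [Module R P] (φ : F →ₗ[R] P)
    (n : ℕ) (hn : 1 ≤ n)
    [Module.Projective (R ⧸ J (n + 1)) (Qt J P (n + 1))]
    (σ : Qt J P n →ₗ[R] Qt J F n) (hσ : phiQ J φ n ∘ₗ σ = LinearMap.id) :
    ∃ σ' : Qt J P (n + 1) →ₗ[R] Qt J F (n + 1),
      phiQ J φ (n + 1) ∘ₗ σ' = LinearMap.id ∧
      piQ J hJ F n ∘ₗ σ' = σ ∘ₗ piQ J hJ P n := by
  have hπsurj : Function.Surjective (piQ J hJ F n) := by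
    intro y
    obtain ⟨z, rfl⟩ := Submodule.Quotient.mk_surjective _ y
    exact ⟨Submodule.Quotient.mk z, rfl⟩
  obtain ⟨s', hs'⟩ := lift_of_proj (J (n + 1)) (Q := Qt J P (n + 1)) (M := Qt J F (n + 1))
    (N := Qt J F n) (fun r hr m => smul_quot_eq_zero (J (n + 1)) r hr m)
    (piQ J hJ F n) hπsurj (σ ∘ₗ piQ J hJ P n)
  have hs'' : ∀ y, piQ J hJ F n (s' y) = σ (piQ J hJ P n y) := fun y =>
    LinearMap.congr_fun hs' y
  have hσ' : ∀ y, phiQ J φ n (σ y) = y := fun y => LinearMap.congr_fun hσ y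
  let u : Module.End R (Qt J P (n + 1)) := phiQ J φ (n + 1) ∘ₗ s'
  have hπu : ∀ y, piQ J hJ P n (u y) = piQ J hJ P n y := by
    intro y
    show piQ J hJ P n (phiQ J φ (n + 1) (s' y)) = piQ J hJ P n y
    rw [← phiQ_piQ, hs'', hσ']
  have hu : ∀ y, u y - y ∈ J 1 • (⊤ : Submodule R (Qt J P (n + 1))) := by
    intro y
    have h1 : piQ J hJ P n (u y - y) = 0 := by rw [map_sub, hπu, sub_self]
    obtain ⟨z, hz⟩ := Submodule.Quotient.mk_surjective _ (u y - y)
    rw [← hz] at h1 ⊢
    rw [piQ_mk] at h1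
    have hz' : z ∈ J n • (⊤ : Submodule R P) := (Submodule.Quotient.mk_eq_zero _).1 h1
    have hz1 : z ∈ J 1 • (⊤ : Submodule R P) := Submodule.smul_mono_left (hJ hn) hz'
    exact Submodule.smul_top_le_comap_smul_top (J 1) (Submodule.mkQ _) hz1
  obtain ⟨j, hj⟩ := hnil (n + 1)
  have hI : J 1 ^ j • (⊤ : Submodule R (Qt J P (n + 1))) = ⊥ :=
    eq_bot_iff.2 ((Submodule.smul_mono_left hj).trans (smul_top_quot_eq_bot (J (n + 1))).le)
  obtain ⟨U, hU⟩ := isUnit_of_sub_one_mem (J 1) j hI u hu
  have huv : ∀ y, u ((↑U⁻¹ : Module.End R (Qt J P (n + 1))) y) = y := by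
    intro y
    have h3 := congrArg (fun f : Module.End R (Qt J P (n + 1)) => f y) U.mul_inv
    rw [hU] at h3
    exact h3
  refine ⟨s' ∘ₗ (↑U⁻¹ : Module.End R (Qt J P (n + 1))), LinearMap.ext fun y => ?_,
    LinearMap.ext fun y => ?_⟩
  · exact huv y
  · show piQ J hJ F n (s' ((↑U⁻¹ : Module.End R (Qt J P (n + 1))) y)) = σ (piQ J hJ P n y)
    rw [hs'', ← hπu ((↑U⁻¹ : Module.End R (Qt J P (n + 1))) y), huv]

theorem exists_dep_seq {T : ℕ → Type*} (C : ∀ k, T k → T (k + 1) → Prop) (a0 : T 0)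
    (h : ∀ k (a : T k), ∃ b : T (k + 1), C k a b) :
    ∃ seq : ∀ k, T k, ∀ k, C k (seq k) (seq (k + 1)) :=
  ⟨fun k => Nat.rec (motive := T) a0 (fun k a => (h k a).choose) k,
    fun k => (h k _).choose_spec⟩

/-- sections at level `k+1`. -/
abbrev SecT {F P : Type*} [AddCommGroup F] [Module R F] [AddCommGroup P] [Module R P]
    (φ : F →ₗ[R] P) (k : ℕ) : Type _ :=
  {σ : Qt J P (k + 1) →ₗ[R] Qt J F (k + 1) // phiQ J φ (k + 1) ∘ₗ σ = LinearMap.id}

theorem complete_pi (hJ : Antitone J)
    (hcomp : ∀ r : ℕ → R, (∀ k, r (k + 1) - r k ∈ J (k + 1)) → ∃ w, ∀ k, w - r k ∈ J (k + 1))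
    {m : ℕ} (c : ∀ k, Qt J (Fin m → R) (k + 1))
    (hc : ∀ k, piQ J hJ (Fin m → R) (k + 1) (c (k + 1)) = c k) :
    ∃ w : Fin m → R, ∀ k, (Submodule.Quotient.mk w : Qt J (Fin m → R) (k + 1)) = c k := by
  classical
  choose r hr using fun k => Submodule.Quotient.mk_surjective _ (c k)
  have hdiff : ∀ k i, r (k + 1) i - r k i ∈ J (k + 1) := by
    intro k i
    have h1 := hc k
    rw [← hr (k + 1), ← hr k, piQ_mk, Submodule.Quotient.eq] at h1
    exact (mem_smul_top_pi (J (k + 1)) _).1 h1 i
  choose w hw using fun i => hcomp (fun k => r k i) (fun k => hdiff k i)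
  refine ⟨w, fun k => ?_⟩
  rw [← hr k, Submodule.Quotient.eq, mem_smul_top_pi]
  intro i
  exact hw i k

theorem unique_pi (hsepR : ∀ a : R, (∀ k, a ∈ J (k + 1)) → a = 0) {m : ℕ} (w w' : Fin m → R)
    (h : ∀ k, (Submodule.Quotient.mk w : Qt J (Fin m → R) (k + 1)) = Submodule.Quotient.mk w') :
    w = w' := by
  classical
  funext i
  rw [← sub_eq_zero]
  apply hsepR
  intro k
  have h1 := h k
  rw [Submodule.Quotient.eq, mem_smul_top_pi] at h1
  exact h1 i

theorem proj_of_complete (hanti : ∀ n, J (n + 1) ≤ J n)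
    (hnil : ∀ n, ∃ j, J 1 ^ j ≤ J n)
    (hcomp : ∀ r : ℕ → R, (∀ k, r (k + 1) - r k ∈ J (k + 1)) → ∃ w, ∀ k, w - r k ∈ J (k + 1))
    (hsepR : ∀ a : R, (∀ k, a ∈ J (k + 1)) → a = 0)
    (P : Type v) [AddCommGroup P] [Module R P]
    (hsep : ⨅ n, J n • (⊤ : Submodule R P) = ⊥)
    (hfin : Module.Finite (R ⧸ J 1) (P ⧸ J 1 • (⊤ : Submodule R P)))
    (hproj : ∀ n, Module.Projective (R ⧸ J n) (P ⧸ J n • (⊤ : Submodule R P))) :
    Module.Finite R P ∧ Module.Projective R P := by
  classical
  have hJ : Antitone J := antitone_nat_of_succ_le hanti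
  obtain ⟨m, t, ht⟩ := Submodule.fg_iff_exists_fin_generating_family.1
    (Module.Finite.fg_top (R := R ⧸ J 1) (M := P ⧸ J 1 • (⊤ : Submodule R P)))
  choose x hx using fun i => Submodule.Quotient.mk_surjective (J 1 • (⊤ : Submodule R P)) (t i)
  obtain ⟨φ, hφ⟩ : ∃ φ : (Fin m → R) →ₗ[R] P, φ = Fintype.linearCombination R x := ⟨_, rfl⟩
  have hN1 : LinearMap.range φ ⊔ J 1 • (⊤ : Submodule R P) = ⊤ := by
    have hmap : Submodule.map (Submodule.mkQ (J 1 • (⊤ : Submodule R P))) (LinearMap.range φ)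
        = ⊤ := by
      rw [hφ, Fintype.range_linearCombination, Submodule.map_span, ← Set.range_comp]
      have hcompx : (Submodule.mkQ (J 1 • (⊤ : Submodule R P))) ∘ x = t := funext hx
      rw [hcompx, ← Submodule.restrictScalars_span R (R ⧸ J 1) Ideal.Quotient.mk_surjective, ht,
        Submodule.restrictScalars_top]
    have h2 := Submodule.comap_map_eq (Submodule.mkQ (J 1 • (⊤ : Submodule R P)))
      (LinearMap.range φ)
    rw [hmap, Submodule.comap_top, Submodule.ker_mkQ] at h2
    exact h2.symm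
  have hNj : ∀ j, LinearMap.range φ ⊔ (J 1 ^ j) • (⊤ : Submodule R P) = ⊤ := by
    intro j
    induction j with
    | zero => rw [pow_zero, Ideal.one_eq_top, Submodule.top_smul, sup_top_eq]
    | succ j ih =>
      apply top_le_iff.1
      calc (⊤ : Submodule R P) = LinearMap.range φ ⊔ J 1 • (⊤ : Submodule R P) := hN1.symm
        _ = LinearMap.range φ ⊔ J 1 • (LinearMap.range φ ⊔ (J 1 ^ j) • (⊤ : Submodule R P)) := by
            rw [ih]
        _ = LinearMap.range φ ⊔ (J 1 • LinearMap.range φ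
              ⊔ J 1 • (J 1 ^ j) • (⊤ : Submodule R P)) := by
            rw [Submodule.smul_sup]
        _ ≤ LinearMap.range φ ⊔ (J 1 ^ (j + 1)) • (⊤ : Submodule R P) := by
            rw [← Submodule.mul_smul, ← pow_succ']
            exact sup_le le_sup_left
              (sup_le (le_sup_of_le_left Submodule.smul_le_right) le_sup_right)
  have hN : ∀ n, LinearMap.range φ ⊔ J n • (⊤ : Submodule R P) = ⊤ := by
    intro n
    obtain ⟨j, hj⟩ := hnil n
    exact top_le_iff.1 ((hNj j).symm.le.trans (sup_le_sup_left (Submodule.smul_mono_left hj) _))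
  have hφsurj : ∀ n, Function.Surjective (phiQ J φ n) := by
    intro n y
    obtain ⟨z, rfl⟩ := Submodule.Quotient.mk_surjective _ y
    have hz : z ∈ LinearMap.range φ ⊔ J n • (⊤ : Submodule R P) := by
      rw [hN n]; exact Submodule.mem_top
    obtain ⟨y1, ⟨a, rfl⟩, y2, hy2, rfl⟩ := Submodule.mem_sup.1 hz
    refine ⟨Submodule.Quotient.mk a, ?_⟩
    rw [phiQ_mk, Submodule.Quotient.eq, sub_add_cancel_left]
    exact Submodule.neg_mem _ hy2
  have hσ1 : ∃ σ : Qt J P 1 →ₗ[R] Qt J (Fin m → R) 1, phiQ J φ 1 ∘ₗ σ = LinearMap.id := by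
    haveI := hproj 1
    exact lift_of_proj (J 1) (Q := Qt J P 1) (M := Qt J (Fin m → R) 1) (N := Qt J P 1)
      (fun r hr y => smul_quot_eq_zero (J 1) r hr y) (phiQ J φ 1) (hφsurj 1) LinearMap.id
  obtain ⟨seq, hseq⟩ := exists_dep_seq (T := SecT J φ)
    (fun k a b => piQ J hJ (Fin m → R) (k + 1) ∘ₗ b.1 = a.1 ∘ₗ piQ J hJ P (k + 1))
    ⟨hσ1.choose, hσ1.choose_spec⟩
    (fun k a => by
      haveI := hproj (k + 1 + 1)
      obtain ⟨σ', h1, h2⟩ := sec_step J hJ hnil φ (k + 1) (by omega) a.1 a.2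
      exact ⟨⟨σ', h1⟩, h2⟩)
  have hc : ∀ (y : P) (k : ℕ), piQ J hJ (Fin m → R) (k + 1)
      ((seq (k + 1)).1 (Submodule.Quotient.mk y : Qt J P (k + 1 + 1)))
      = (seq k).1 (Submodule.Quotient.mk y : Qt J P (k + 1)) := by
    intro y k
    have h1 := LinearMap.congr_fun (hseq k) (Submodule.Quotient.mk y : Qt J P (k + 1 + 1))
    rw [LinearMap.comp_apply, LinearMap.comp_apply, piQ_mk] at h1
    exact h1
  have hex : ∀ y : P, ∃ w : Fin m → R, ∀ k,
      (Submodule.Quotient.mk w : Qt J (Fin m → R) (k + 1))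
        = (seq k).1 (Submodule.Quotient.mk y : Qt J P (k + 1)) :=
    fun y => complete_pi J hJ hcomp
      (fun k => (seq k).1 (Submodule.Quotient.mk y : Qt J P (k + 1))) (hc y)
  choose s hs using hex
  have hadd : ∀ y z, s (y + z) = s y + s z := fun y z =>
    unique_pi J hsepR _ _ fun k => by
      simp only [hs, Submodule.Quotient.mk_add, map_add]
  have hsmul : ∀ (a : R) y, s (a • y) = a • s y := fun a y =>
    unique_pi J hsepR _ _ fun k => by
      simp only [hs, Submodule.Quotient.mk_smul, map_smul]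
  let sl : P →ₗ[R] (Fin m → R) := { toFun := s, map_add' := hadd, map_smul' := hsmul }
  have hφs : ∀ y, φ (s y) = y := by
    intro y
    rw [← sub_eq_zero, ← Submodule.mem_bot R, ← hsep, Submodule.mem_iInf]
    intro n
    have hk : ∀ k, φ (s y) - y ∈ J (k + 1) • (⊤ : Submodule R P) := by
      intro k
      rw [← Submodule.Quotient.eq]
      have h1 := LinearMap.congr_fun (seq k).2 (Submodule.Quotient.mk y : Qt J P (k + 1))
      rw [LinearMap.comp_apply, LinearMap.id_apply, ← hs y k, phiQ_mk] at h1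
      exact h1
    rcases n with _ | k
    · exact Submodule.smul_mono_left (hJ (Nat.zero_le 1)) (hk 0)
    · exact hk k
  have hcompid : φ ∘ₗ sl = LinearMap.id := LinearMap.ext hφs
  exact ⟨Module.Finite.of_surjective φ (fun y => ⟨s y, hφs y⟩),
    Module.Projective.of_split sl φ hcompid⟩

theorem trunc_of_proj (hsepR : ⨅ n, J n = ⊥) (P : Type v) [AddCommGroup P] [Module R P]
    [Module.Finite R P] [Module.Projective R P] :
    (⨅ n, J n • (⊤ : Submodule R P)) = ⊥ ∧
      ∀ n, Module.Finite (R ⧸ J n) (P ⧸ J n • (⊤ : Submodule R P)) ∧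
        Module.Projective (R ⧸ J n) (P ⧸ J n • (⊤ : Submodule R P)) := by
  refine ⟨?_, fun n => ⟨Module.Finite.of_restrictScalars_finite R (R ⧸ J n) _,
    Module.Projective.of_equiv ((TensorProduct.quotTensorEquivQuotSMul P (J n)).extendScalarsOfSurjective
      Ideal.Quotient.mk_surjective)⟩⟩
  obtain ⟨s, hs⟩ := (Module.projective_def' (R := R) (P := P)).1 inferInstance
  rw [eq_bot_iff]
  intro y hy
  rw [Submodule.mem_iInf] at hy
  have h0 : s y = 0 := by
    refine Finsupp.ext fun q => ?_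
    rw [Finsupp.zero_apply, ← Submodule.mem_bot R, ← hsepR, Submodule.mem_iInf]
    intro n
    exact finsupp_coeff_mem (J n) (s y)
      (Submodule.smul_top_le_comap_smul_top (J n) s (hy n)) q
  have h1 := LinearMap.congr_fun hs y
  rw [LinearMap.comp_apply, h0, map_zero, LinearMap.id_apply] at h1
  rw [Submodule.mem_bot]
  exact h1.symm

end general

section witt

variable (p : ℕ) [Fact p.Prime] (R : Type u) [CommRing R]

/-- the ideal of Witt vectors with vanishing first `n` components. -/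
noncomputable abbrev Iw (n : ℕ) : Ideal (WittVector p R) :=
  RingHom.ker (WittVector.truncate (p := p) (R := R) n)

theorem mem_Iw (n : ℕ) (x : WittVector p R) : x ∈ Iw p R n ↔ ∀ i < n, x.coeff i = 0 :=
  WittVector.mem_ker_truncate n x

theorem Iw_anti (n : ℕ) : Iw p R (n + 1) ≤ Iw p R n := by
  intro x hx
  rw [mem_Iw] at hx ⊢
  exact fun i hi => hx i (Nat.lt_succ_of_lt hi)

theorem Iw_zero : Iw p R 0 = ⊤ := by
  rw [eq_top_iff]
  intro x _
  rw [mem_Iw]
  exact fun i hi => absurd hi (Nat.not_lt_zero i)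

theorem exists_V_of_mem_I1 (x : WittVector p R) (hx : x ∈ Iw p R 1) :
    ∃ y, x = WittVector.verschiebung y := by
  rw [mem_Iw] at hx
  have h := WittVector.eq_iterate_verschiebung (n := 1) hx
  rw [Function.iterate_one] at h
  exact ⟨_, h⟩

theorem V_mem_I1 (y : WittVector p R) : WittVector.verschiebung y ∈ Iw p R 1 := by
  rw [mem_Iw]
  intro i hi
  have h0 : i = 0 := by omega
  rw [h0]
  exact WittVector.verschiebung_coeff_zero y

theorem V_mul_V (a b : WittVector p R) :
    WittVector.verschiebung a * WittVector.verschiebung b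
      = (p : WittVector p R) * WittVector.verschiebung (a * b) := by
  rw [← WittVector.verschiebung_mul_frobenius, WittVector.frobenius_verschiebung]
  have h : a * (b * (p : WittVector p R)) = p • (a * b) := by rw [nsmul_eq_mul]; ring
  rw [h, map_nsmul, nsmul_eq_mul]

theorem I1_sq : Iw p R 1 * Iw p R 1 ≤ Ideal.span {(p : WittVector p R)} * Iw p R 1 := by
  rw [Ideal.mul_le]
  intro x hx y hy
  obtain ⟨a, rfl⟩ := exists_V_of_mem_I1 p R x hx
  obtain ⟨b, rfl⟩ := exists_V_of_mem_I1 p R y hy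
  rw [V_mul_V]
  exact Ideal.mul_mem_mul (Ideal.mem_span_singleton_self _) (V_mem_I1 p R _)

theorem I1_pow (j : ℕ) :
    Iw p R 1 ^ (j + 1) ≤ Ideal.span {(p : WittVector p R)} ^ j * Iw p R 1 := by
  induction j with
  | zero => rw [pow_zero, one_mul, zero_add, pow_one]
  | succ j ih =>
    calc Iw p R 1 ^ (j + 1 + 1) = Iw p R 1 ^ (j + 1) * Iw p R 1 := pow_succ _ _
      _ ≤ (Ideal.span {(p : WittVector p R)} ^ j * Iw p R 1) * Iw p R 1 :=
          Ideal.mul_mono_left ih
      _ = Ideal.span {(p : WittVector p R)} ^ j * (Iw p R 1 * Iw p R 1) := mul_assoc _ _ _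
      _ ≤ Ideal.span {(p : WittVector p R)} ^ j
            * (Ideal.span {(p : WittVector p R)} * Iw p R 1) :=
          Ideal.mul_mono_right (I1_sq p R)
      _ = Ideal.span {(p : WittVector p R)} ^ (j + 1) * Iw p R 1 := by
          rw [← mul_assoc, ← pow_succ]

theorem pN_mul_mem (N : ℕ) (hN : (p : R) ^ N = 0) (n : ℕ) (x : WittVector p R)
    (hx : x ∈ Iw p R n) : x * (p : WittVector p R) ^ N ∈ Iw p R (n + 1) := by
  rw [mem_Iw] at hx
  have hfix : (⇑(WittVector.frobenius : WittVector p R →+* WittVector p R))^[n]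
      ((p : WittVector p R) ^ N) = (p : WittVector p R) ^ N :=
    Function.iterate_fixed (by rw [map_pow, map_natCast]) n
  have h1 : x * (p : WittVector p R) ^ N
      = (⇑(WittVector.verschiebung : WittVector p R →+ WittVector p R))^[n]
          (x.shift n * (p : WittVector p R) ^ N) := by
    calc x * (p : WittVector p R) ^ N
        = (⇑(WittVector.verschiebung : WittVector p R →+ WittVector p R))^[n] (x.shift n)
            * (p : WittVector p R) ^ N := by
          rw [← WittVector.eq_iterate_verschiebung hx]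
      _ = _ := by rw [WittVector.iterate_verschiebung_mul_left, hfix]
  rw [h1, mem_Iw]
  intro i hi
  rcases Nat.lt_succ_iff_lt_or_eq.1 hi with hlt | heq
  · exact WittVector.iterate_verschiebung_coeff_eq_zero _ hlt
  · rw [heq]
    have h2 := WittVector.iterate_verschiebung_coeff
      (x.shift n * (p : WittVector p R) ^ N) n 0
    rw [zero_add] at h2
    have h3 : ((p : WittVector p R) ^ N).coeff 0 = 0 := by
      rw [← WittVector.constantCoeff_apply, map_pow, map_natCast, hN]
    rw [h2, WittVector.mul_coeff_zero, h3, mul_zero]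

theorem span_pN_pow_le (N : ℕ) (hN : (p : R) ^ N = 0) (n : ℕ) :
    Ideal.span {(p : WittVector p R) ^ N} ^ n ≤ Iw p R n := by
  induction n with
  | zero => rw [Iw_zero]; exact le_top
  | succ n ih =>
    rw [pow_succ, Ideal.mul_le]
    intro x hx y hy
    obtain ⟨c, rfl⟩ := Ideal.mem_span_singleton'.1 hy
    have h1 : x * (c * (p : WittVector p R) ^ N) = (x * c) * (p : WittVector p R) ^ N := by ring
    rw [h1]
    exact pN_mul_mem p R N hN n (x * c) (Ideal.mul_mem_right _ _ (ih hx))

theorem I1_nilp (hp' : IsNilpotent (p : R)) (n : ℕ) : ∃ j, Iw p R 1 ^ j ≤ Iw p R n := by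
  obtain ⟨N, hN⟩ := hp'
  refine ⟨N * n + 1, ?_⟩
  calc Iw p R 1 ^ (N * n + 1) ≤ Ideal.span {(p : WittVector p R)} ^ (N * n) * Iw p R 1 :=
        I1_pow p R _
    _ ≤ Ideal.span {(p : WittVector p R)} ^ (N * n) := Ideal.mul_le_left
    _ = Ideal.span {(p : WittVector p R) ^ N} ^ n := by
        rw [pow_mul, Ideal.span_singleton_pow]
    _ ≤ Iw p R n := span_pN_pow_le p R N hN n

theorem witt_complete (r : ℕ → WittVector p R) (hr : ∀ k, r (k + 1) - r k ∈ Iw p R (k + 1)) :
    ∃ w, ∀ k, w - r k ∈ Iw p R (k + 1) := by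
  have hcoeff : ∀ k i, i < k + 1 → (r (k + 1)).coeff i = (r k).coeff i := by
    intro k i hi
    have h1 := RingHom.mem_ker.1 (hr k)
    rw [map_sub, sub_eq_zero] at h1
    have h2 := congrArg (fun z => TruncatedWittVector.coeff ⟨i, hi⟩ z) h1
    simpa [WittVector.coeff_truncate] using h2
  have hstab : ∀ i l, (r (i + l)).coeff i = (r i).coeff i := by
    intro i l
    induction l with
    | zero => rfl
    | succ l ih =>
      rw [← ih, ← add_assoc]
      exact hcoeff (i + l) i (by omega)
  obtain ⟨w, hw⟩ : ∃ w : WittVector p R, ∀ i, w.coeff i = (r i).coeff i :=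
    ⟨WittVector.mk p (fun i => (r i).coeff i), fun i => rfl⟩
  refine ⟨w, fun k => ?_⟩
  rw [RingHom.mem_ker, map_sub, sub_eq_zero]
  apply TruncatedWittVector.ext
  intro i
  rw [WittVector.coeff_truncate, WittVector.coeff_truncate, hw]
  have hle : (i : ℕ) ≤ k := Nat.lt_succ_iff.1 i.2
  have h4 := hstab i (k - i)
  rw [Nat.add_sub_cancel' hle] at h4
  exact h4.symm

theorem witt_sep (a : WittVector p R) (h : ∀ k, a ∈ Iw p R (k + 1)) : a = 0 := by
  ext n
  rw [WittVector.zero_coeff]
  exact (mem_Iw p R (n + 1) a).1 (h n) n (Nat.lt_succ_self n)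

end witt


/-- Let p be a prime and R a commutative ring in which p is nilpotent; write W = W(R) for the p-typical
Witt vectors and, for n ≥ 0, I_n ⊆ W for the ideal of Witt vectors whose first n components vanish
(the kernel of the truncation W → W_n(R), so W/I_n = W_n(R)). For a W-module P conditions (i) and
(ii) below are equivalent: (i) P is a projective W-module of finite type; (ii) P is separated for
the filtration by the submodules I_n P, and for every n the W_n(R)-module P/I_n P is finitely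
generated and projective. (The published statement is made for every ℤ_(p)-algebra R, the section's
standing convention; over R = ℚ, where W(ℚ) ≅ ℚ^ℕ by the ghost map, the module ⊕_ℕ ℚ satisfies (ii)
but is not finitely generated, and the published proof uses that I_1 is nilpotent in each W_n(R),
which holds when p is nilpotent in R; so p is taken nilpotent here. The third equivalent condition
of the published statement, freeness Zariski-locally on R, is not rendered.) -/
theorem result (p : ℕ) [Fact p.Prime] (R : Type u) [CommRing R]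
    (hp : IsNilpotent (p : R))
    (P : Type v) [AddCommGroup P] [Module (WittVector p R) P] :
    (Module.Finite (WittVector p R) P ∧ Module.Projective (WittVector p R) P) ↔
      ((⨅ n : ℕ, (RingHom.ker (WittVector.truncate (p := p) (R := R) n) • (⊤ : Submodule (WittVector p R) P))) = ⊥ ∧
        ∀ n : ℕ, Module.Finite (WittVector p R ⧸ RingHom.ker (WittVector.truncate (p := p) (R := R) n))
              (P ⧸ (RingHom.ker (WittVector.truncate (p := p) (R := R) n) • (⊤ : Submodule (WittVector p R) P))) ∧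
            Module.Projective (WittVector p R ⧸ RingHom.ker (WittVector.truncate (p := p) (R := R) n))
              (P ⧸ (RingHom.ker (WittVector.truncate (p := p) (R := R) n) • (⊤ : Submodule (WittVector p R) P)))) := by
  constructor
  · rintro ⟨hfin, hproj⟩
    haveI := hfin
    haveI := hproj
    exact trunc_of_proj (Iw p R) TruncatedWittVector.iInf_ker_truncate P
  · rintro ⟨hsep, h⟩
    exact proj_of_complete (Iw p R) (Iw_anti p R) (I1_nilp p R hp) (witt_complete p R)
      (witt_sep p R) P hsep (h 1).1 (fun n => (h n).2)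


end Groth.Agent.S14860
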