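import Groth.Statements.S14861
import Mathlib
import Groth.Agent.S14856

set_option autoImplicit false
universe u
open CAlg

namespace Groth.Agent.S14861

set_option linter.style.haveILetI false
set_option linter.unusedSectionVars false
set_option linter.unusedVariables false

variable (p : ℕ) [Fact p.Prime] (R : Type u) [CommRing R]

open Groth.Agent.S14856 in
theorem main (hR : ∀ y : R, (p : R) * y = 0 → y = 0)
    (a : WittVector p R) (m u : ℕ)
    (h : ∀ s : ℕ, ∃ z : WittVector p R, ∀ i < m,
      ((p : WittVector p R) ^ u * z - a).coeff i ∈ Ideal.span {(p : R) ^ s}) :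
    ∃ x : WittVector p R, ∀ i < m, ((p : WittVector p R) ^ u * x - a).coeff i = 0 := by
  have hcancel : ∀ (k : ℕ) (a b : R), (p : R) ^ k * a = (p : R) ^ k * b → a = b := by
    intro k
    induction k with
    | zero => intro a b h; simpa using h
    | succ k ih =>
      intro a b h
      apply ih
      have : (p : R) * ((p : R) ^ k * a - (p : R) ^ k * b) = 0 := by
        rw [pow_succ] at h
        linear_combination h
      exact sub_eq_zero.mp (hR _ this)
  rcases Nat.eq_zero_or_pos m with hm | hm
  · exact ⟨0, fun i hi => absurd hi (by omega)⟩
  obtain ⟨m', rfl⟩ : ∃ m', m = m' + 1 := ⟨m - 1, by omega⟩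
  obtain ⟨z, hz⟩ := h (u + 1)
  have hgw : ∀ (x : WittVector p R) (n : ℕ),
      WittVector.ghostComponent n ((p : WittVector p R) ^ u * x - a)
        = (p : R) ^ u * WittVector.ghostComponent n x - WittVector.ghostComponent n a := by
    intro x n
    rw [map_sub, map_mul, map_pow, map_natCast]
  -- ghost congruences for z
  have hzg : ∀ n ≤ m', (p : R) ^ (n + (u + 1)) ∣
      (p : R) ^ u * WittVector.ghostComponent n z - WittVector.ghostComponent n a := by
    intro n hn
    rw [← hgw]
    refine (Groth.Agent.S14856.main p R hR _ m' (u + 1) (by omega)).mp ?_ n hn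
    intro i hi
    exact Ideal.mem_span_singleton.mp (hz i (by omega))
  -- the inductive construction
  have key : ∀ n ≤ m' + 1, ∃ x : WittVector p R,
      (∀ j < n, (p : R) ^ u * WittVector.ghostComponent j x = WittVector.ghostComponent j a) ∧
      (∀ i < n, (p : R) ∣ z.coeff i - x.coeff i) := by
    intro n
    induction n with
    | zero => intro _; exact ⟨0, fun j hj => absurd hj (by omega), fun j hj => absurd hj (by omega)⟩
    | succ n ih =>
      intro hn
      obtain ⟨x, hx1, hx2⟩ := ih (by omega)
      obtain ⟨c, hc⟩ := hzg n (by omega)
      -- D = sum of differences, divisible by p^(n+1)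
      have hD : (p : R) ^ (n + 1) ∣ ∑ i ∈ Finset.range n,
          (p : R) ^ i * (z.coeff i ^ p ^ (n - i) - x.coeff i ^ p ^ (n - i)) := by
        apply Finset.dvd_sum
        intro i hi
        have hi' : i < n := Finset.mem_range.mp hi
        have h1 := dvd_sub_pow_of_dvd_sub (hx2 i hi') (n - i)
        have h2 : n + 1 = i + (n - i + 1) := by omega
        rw [h2, pow_add]
        exact mul_dvd_mul_left _ h1
      obtain ⟨e, he⟩ := hD
      set t : R := z.coeff n + (p : R) * e - (p : R) * c with ht
      set x' : WittVector p R := WittVector.mk p (fun i => if i = n then t else x.coeff i) with hx'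
      have hx'c : ∀ i, x'.coeff i = if i = n then t else x.coeff i := fun i => rfl
      refine ⟨x', ?_, ?_⟩
      · intro j hj
        rcases Nat.lt_succ_iff_lt_or_eq.mp hj with hj' | rfl
        · rw [← hx1 j hj']
          congr 1
          rw [ghost_eq, ghost_eq]
          refine Finset.sum_congr rfl fun i hi => ?_
          have : i ≠ n := by
            have := Finset.mem_range.mp hi
            omega
          rw [hx'c, if_neg this]
        · -- j = n
          rw [ghost_eq, Finset.sum_range_succ, Nat.sub_self, pow_zero, pow_one, hx'c, if_pos rfl]
          have h3 : ∑ i ∈ Finset.range j, (p : R) ^ i * x'.coeff i ^ p ^ (j - i)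
              = ∑ i ∈ Finset.range j, (p : R) ^ i * x.coeff i ^ p ^ (j - i) := by
            refine Finset.sum_congr rfl fun i hi => ?_
            have : i ≠ j := by
              have := Finset.mem_range.mp hi
              omega
            rw [hx'c, if_neg this]
          rw [h3]
          have h4 : WittVector.ghostComponent j z
              = ∑ i ∈ Finset.range j, (p : R) ^ i * z.coeff i ^ p ^ (j - i) + (p : R) ^ j * z.coeff j := by
            rw [ghost_eq, Finset.sum_range_succ, Nat.sub_self, pow_zero, pow_one]
          have h5 : ∑ i ∈ Finset.range j, (p : R) ^ i * z.coeff i ^ p ^ (j - i)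
              = ∑ i ∈ Finset.range j, (p : R) ^ i * x.coeff i ^ p ^ (j - i) + (p : R) ^ (j + 1) * e := by
            rw [← he, ← Finset.sum_add_distrib]
            refine Finset.sum_congr rfl fun i _ => ?_
            ring
          rw [h4, h5] at hc
          rw [ht]
          have h6 : (p : R) ^ (j + (u + 1)) = (p : R) ^ u * (p : R) ^ (j + 1) := by
            rw [← pow_add]; congr 1; omega
          rw [h6] at hc
          linear_combination hc
      · intro i hi
        rw [hx'c]
        split_ifs with hin
        · rw [hin, ht]
          exact ⟨c - e, by ring⟩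
        · exact hx2 i (by omega)
  obtain ⟨x, hx1, _⟩ := key (m' + 1) le_rfl
  refine ⟨x, ?_⟩
  have hg0 : ∀ j < m' + 1, WittVector.ghostComponent j ((p : WittVector p R) ^ u * x - a) = 0 := by
    intro j hj
    rw [hgw, hx1 j hj, sub_self]
  set y := (p : WittVector p R) ^ u * x - a with hy
  intro i
  induction i using Nat.strong_induction_on with
  | _ i ih =>
    intro hi
    have h1 := hg0 i hi
    rw [ghost_eq, Finset.sum_range_succ, Nat.sub_self, pow_zero, pow_one] at h1
    have h2 : ∑ j ∈ Finset.range i, (p : R) ^ j * y.coeff j ^ p ^ (i - j) = 0 := by
      apply Finset.sum_eq_zero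
      intro j hj
      have hj' : j < i := Finset.mem_range.mp hj
      rw [ih j hj' (by omega), zero_pow (pow_ne_zero _ (Fact.out : p.Prime).ne_zero), mul_zero]
    rw [h2, zero_add] at h1
    exact hcancel i _ _ (by rw [h1, mul_zero])



/-- Let p be a prime and R a commutative ring without p-torsion which is complete and separated for the
p-adic topology. Let a be a p-typical Witt vector over R and m, u natural numbers. Suppose that for
every s the equation p^u·x = a has a solution in the truncated Witt ring W_m(R/p^s R), i.e. there is
z ∈ W(R) such that the first m Witt components of p^u·z − a lie in p^s R. Then the equation has a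
solution in W_m(R): there is x ∈ W(R) such that the first m Witt components of p^u·x − a vanish.
(The published statement asks only that R have no p-torsion; R is moreover taken p-adically complete
and separated here, which is the standing situation of the surrounding argument and is what the
published proof uses when it passes to the limit over s.) -/
theorem result (p : ℕ) [Fact p.Prime] (R : Type u) [CommRing R]
    (hR : ∀ y : R, (p : R) * y = 0 → y = 0) [IsAdicComplete (Ideal.span {(p : R)}) R]
    (a : WittVector p R) (m u : ℕ)
    (h : ∀ s : ℕ, ∃ z : WittVector p R, ∀ i < m, ((p : WittVector p R) ^ u * z - a).coeff i ∈ Ideal.span {(p : R) ^ s}) :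
    ∃ x : WittVector p R, ∀ i < m, ((p : WittVector p R) ^ u * x - a).coeff i = 0 := by
  exact main p R hR a m u h

end Groth.Agent.S14861
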