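import Groth.Statements.S14862
import Mathlib
import Groth.Agent.S14861

set_option autoImplicit false
universe u
open CAlg

namespace Groth.Agent.S14862

set_option linter.style.haveILetI false
set_option linter.unusedSectionVars false
set_option linter.unusedVariables false

variable (p : ℕ) [Fact p.Prime] (S : Type u) [CommRing S]

open Groth.Agent.S14856 in
lemma coeff_zero_of_ghost (hS : ∀ y : S, (p : S) * y = 0 → y = 0) (y : WittVector p S) (r : ℕ)
    (hg0 : ∀ n < r, WittVector.ghostComponent n y = 0) : ∀ i < r, y.coeff i = 0 := by
  have hcancel : ∀ (k : ℕ) (a b : S), (p : S) ^ k * a = (p : S) ^ k * b → a = b := by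
    intro k
    induction k with
    | zero => intro a b h; simpa using h
    | succ k ih =>
      intro a b h
      apply ih
      have : (p : S) * ((p : S) ^ k * a - (p : S) ^ k * b) = 0 := by
        rw [pow_succ] at h
        linear_combination h
      exact sub_eq_zero.mp (hS _ this)
  intro i
  induction i using Nat.strong_induction_on with
  | _ i ih =>
    intro hi
    have h1 := hg0 i hi
    rw [ghost_eq, Finset.sum_range_succ, Nat.sub_self, pow_zero, pow_one] at h1
    have h2 : ∑ j ∈ Finset.range i, (p : S) ^ j * y.coeff j ^ p ^ (i - j) = 0 := by
      apply Finset.sum_eq_zero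
      intro j hj
      have hj' : j < i := Finset.mem_range.mp hj
      rw [ih j hj' (by omega), zero_pow (pow_ne_zero _ (Fact.out : p.Prime).ne_zero), mul_zero]
    rw [h2, zero_add] at h1
    exact hcancel i _ _ (by rw [h1, mul_zero])

open Groth.Agent.S14856 in
lemma ghost_zero_of_coeff (y : WittVector p S) (r : ℕ)
    (h0 : ∀ i < r, y.coeff i = 0) : ∀ n < r, WittVector.ghostComponent n y = 0 := by
  intro n hn
  rw [ghost_eq]
  apply Finset.sum_eq_zero
  intro j hj
  have hj' : j < n + 1 := Finset.mem_range.mp hj
  rw [h0 j (by omega), zero_pow (pow_ne_zero _ (Fact.out : p.Prime).ne_zero), mul_zero]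

lemma truncate_eq_zero_iff (y : WittVector p S) (r : ℕ) :
    WittVector.truncate (p := p) (R := S) r y = 0 ↔ ∀ i < r, y.coeff i = 0 := by
  constructor
  · intro h i hi
    have := congrArg (fun t => t.coeff ⟨i, hi⟩) h
    simpa [WittVector.coeff_truncate] using this
  · intro h
    refine TruncatedWittVector.ext fun i => ?_
    rw [WittVector.coeff_truncate, h i i.2, TruncatedWittVector.coeff_zero]

theorem main (hS : ∀ y : S, (p : S) * y = 0 → y = 0) (u : ℕ) :
    (⨅ r : ℕ, ⨅ s : ℕ,
        Ideal.span {(p : WittVector p S) ^ u} ⊔ RingHom.ker (WittVector.truncate (p := p) (R := S) r) ⊔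
          RingHom.ker (WittVector.map (p := p) (Ideal.Quotient.mk (Ideal.span {(p : S) ^ s})))) =
      Ideal.span {(p : WittVector p S) ^ u} := by
  apply le_antisymm
  · intro a ha
    -- for each r, a solution x_r
    have hsol : ∀ r : ℕ, ∃ x : WittVector p S, ∀ i < r,
        ((p : WittVector p S) ^ u * x - a).coeff i = 0 := by
      intro r
      apply Groth.Agent.S14861.main p S hS a r u
      intro s
      have h1 := (Submodule.mem_iInf _).mp ((Submodule.mem_iInf _).mp ha r) s
      obtain ⟨y, hy, c, hc, hyc⟩ := Submodule.mem_sup.mp h1
      obtain ⟨a', ha', b, hb, hab⟩ := Submodule.mem_sup.mp hy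
      obtain ⟨z, rfl⟩ := Ideal.mem_span_singleton'.mp ha'
      refine ⟨z, fun i hi => ?_⟩
      have e1 : (p : WittVector p S) ^ u * z - a = (-b) + (-c) := by
        rw [← hyc, ← hab]; ring
      have e2 : WittVector.truncate (p := p) (R := S) r ((p : WittVector p S) ^ u * z - a)
          = WittVector.truncate r (-c) := by
        rw [e1, map_add, map_neg, RingHom.mem_ker.mp hb, neg_zero, zero_add]
      have e3 := congrArg (fun t => t.coeff ⟨i, hi⟩) e2
      simp only [WittVector.coeff_truncate] at e3
      rw [e3]
      have hc' : -c ∈ RingHom.ker (WittVector.map (p := p)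
          (Ideal.Quotient.mk (Ideal.span {(p : S) ^ s}))) := neg_mem hc
      have e4 := congrArg (fun t => t.coeff i) (RingHom.mem_ker.mp hc')
      simp only [WittVector.map_coeff, WittVector.zero_coeff] at e4
      exact Ideal.Quotient.eq_zero_iff_mem.mp e4
    choose x hx using hsol
    -- compatibility
    have hcompat : ∀ r r' : ℕ, r ≤ r' → ∀ i < r, (x r).coeff i = (x r').coeff i := by
      intro r r' hrr' i hi
      set y := x r - x r' with hy
      have h1 : ∀ j < r, ((p : WittVector p S) ^ u * y).coeff j = 0 := by
        rw [← truncate_eq_zero_iff]
        have e : (p : WittVector p S) ^ u * y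
            = ((p : WittVector p S) ^ u * x r - a) - ((p : WittVector p S) ^ u * x r' - a) := by
          rw [hy]; ring
        rw [e, map_sub, (truncate_eq_zero_iff p S _ r).mpr (hx r),
          (truncate_eq_zero_iff p S _ r).mpr (fun j hj => hx r' j (by omega)), sub_zero]
      have h2 := ghost_zero_of_coeff p S _ r h1
      have h3 : ∀ n < r, WittVector.ghostComponent n y = 0 := by
        intro n hn
        have h4 := h2 n hn
        rw [map_mul, map_pow, map_natCast] at h4
        have hcancel : ∀ (k : ℕ) (a : S), (p : S) ^ k * a = 0 → a = 0 := by
          intro k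
          induction k with
          | zero => intro a h; simpa using h
          | succ k ih =>
            intro a h
            apply ih
            apply hS
            rw [← mul_assoc, ← pow_succ']
            exact h
        exact hcancel u _ h4
      have h5 := coeff_zero_of_ghost p S hS y r h3
      have h6 := (truncate_eq_zero_iff p S y r).mpr h5
      rw [hy, map_sub, sub_eq_zero] at h6
      have h7 := congrArg (fun t => t.coeff ⟨i, hi⟩) h6
      simpa [WittVector.coeff_truncate] using h7
    set X : WittVector p S := WittVector.mk p (fun i => (x (i + 1)).coeff i) with hX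
    have hXr : ∀ r, WittVector.truncate (p := p) (R := S) r X = WittVector.truncate r (x r) := by
      intro r
      refine TruncatedWittVector.ext fun i => ?_
      rw [WittVector.coeff_truncate, WittVector.coeff_truncate]
      change (x (i.1 + 1)).coeff i.1 = _
      exact hcompat (i.1 + 1) r (by have := i.2; omega) i.1 (by omega)
    have hfin : (p : WittVector p S) ^ u * X = a := by
      rw [← sub_eq_zero]
      ext i
      rw [WittVector.zero_coeff]
      have h1 : WittVector.truncate (p := p) (R := S) (i + 1) ((p : WittVector p S) ^ u * X - a) = 0 := by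
        rw [map_sub, map_mul, hXr, ← map_mul, ← map_sub]
        exact (truncate_eq_zero_iff p S _ (i + 1)).mpr (hx (i + 1))
      exact (truncate_eq_zero_iff p S _ (i + 1)).mp h1 i (by omega)
    rw [← hfin]
    exact Ideal.mem_span_singleton'.mpr ⟨X, mul_comm _ _⟩
  · refine le_iInf fun r => le_iInf fun s => ?_
    exact le_sup_of_le_left le_sup_left



/-- Let p be a prime and S a commutative ring without p-torsion which is complete and separated for the
p-adic topology; write W = W(S) for the p-typical Witt vectors, I_r ⊆ W for the ideal of Witt
vectors whose first r components vanish (the image of the r-th iterate of the Verschiebung) and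
W(p^s S) ⊆ W for the ideal of Witt vectors all of whose components lie in p^s S (the kernel of W(S)
→ W(S/p^s S)). Then for every natural number u the ideal p^u W is closed for the linear topology on
W in which the ideals I_r + W(p^s S) form a neighbourhood basis of zero: the intersection over all r
and s of p^u W + I_r + W(p^s S) equals p^u W. (The published statement asks only that S have no
p-torsion; S is moreover taken p-adically complete and separated here, the case in which the result
is applied and through which the published proof goes.) -/
theorem result (p : ℕ) [Fact p.Prime] (S : Type u) [CommRing S]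
    (hS : ∀ y : S, (p : S) * y = 0 → y = 0) [IsAdicComplete (Ideal.span {(p : S)}) S] (u : ℕ) :
    (⨅ r : ℕ, ⨅ s : ℕ,
        Ideal.span {(p : WittVector p S) ^ u} ⊔ RingHom.ker (WittVector.truncate (p := p) (R := S) r) ⊔
          RingHom.ker (WittVector.map (p := p) (Ideal.Quotient.mk (Ideal.span {(p : S) ^ s})))) =
      Ideal.span {(p : WittVector p S) ^ u} := by
  exact main p S hS u

end Groth.Agent.S14862
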