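import Groth.Statements.S16222
import Mathlib
import Groth.Agent.Lib.Helper10.Dieu2
import Groth.Agent.Lib.Helper10.Dieu3
import Groth.Agent.Lib.Helper10.Dieu5

set_option autoImplicit false
universe u v
open Disp

namespace Groth.Agent.S16222

lemma torsion_free_of_projective {W : Type*} [CommRing W] (π : W) (hπ : ∀ w : W, π * w = 0 → w = 0)
    {M : Type*} [AddCommGroup M] [Module W M] [Module.Projective W M] (x : M) (hx : π • x = 0) :
    x = 0 := by
  classical
  obtain ⟨s, hs⟩ := (Module.projective_def' (R := W) (P := M)).mp inferInstance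
  have h1 : s x = 0 := by
    ext c
    have h2 : π • s x = 0 := by rw [← map_smul, hx, map_zero]
    have h3 := DFunLike.congr_fun h2 c
    rw [Finsupp.smul_apply, smul_eq_mul, Finsupp.zero_apply] at h3
    rw [Finsupp.zero_apply]
    exact hπ _ h3
  have h4 := DFunLike.congr_fun hs x
  rw [LinearMap.comp_apply, h1, map_zero, LinearMap.id_apply] at h4
  exact h4.symm

lemma mem_pM_iff {W : Type*} [CommRing W] (π : W) {M : Type*} [AddCommGroup M] [Module W M] (x : M) :
    x ∈ Ideal.span {π} • (⊤ : Submodule W M) ↔ ∃ y : M, x = π • y := by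
  rw [Submodule.ideal_span_singleton_smul]
  constructor
  · intro h
    obtain ⟨y, _, rfl⟩ := (Submodule.mem_smul_pointwise_iff_exists _ _ _).mp h
    exact ⟨y, rfl⟩
  · rintro ⟨y, rfl⟩
    exact Submodule.smul_mem_pointwise_smul _ _ _ Submodule.mem_top

lemma half_W {W : Type*} [CommRing W] (q : ℕ) {M : Type*} [AddCommGroup M] [Module W M]
    (hM : ∀ x : M, (q : W) • x = 0 → x = 0) {σ τ : W →+* W} (F : M →ₛₗ[σ] M) (V : M →ₛₗ[τ] M)
    (hFV : ∀ m : M, F (V m) = (q : W) • m) (hVF : ∀ m : M, V (F m) = (q : W) • m) :
    (Ideal.span {(q : W)} • (⊤ : Submodule W M)).comap F =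
      Submodule.span W (Set.range V) ⊔ Ideal.span {(q : W)} • (⊤ : Submodule W M) := by
  apply le_antisymm
  · intro x hx
    rw [Submodule.mem_comap, mem_pM_iff] at hx
    obtain ⟨y, hy⟩ := hx
    have h0 : F (x - V y) = 0 := by rw [map_sub, hFV, hy, sub_self]
    have h1 : (q : W) • (x - V y) = 0 := by rw [← hVF, h0, map_zero]
    have h2 := hM _ h1
    have : x = V y := sub_eq_zero.mp h2
    rw [this]
    exact Submodule.mem_sup_left (Submodule.subset_span ⟨y, rfl⟩)
  · apply sup_le
    · rw [Submodule.span_le]
      rintro _ ⟨m, rfl⟩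
      rw [SetLike.mem_coe, Submodule.mem_comap, hFV, mem_pM_iff]
      exact ⟨m, rfl⟩
    · intro x hx
      rw [mem_pM_iff] at hx
      obtain ⟨y, rfl⟩ := hx
      rw [Submodule.mem_comap, LinearMap.map_smulₛₗ, map_natCast, mem_pM_iff]
      exact ⟨F y, rfl⟩


/-- Let p be a prime and k a perfect ring of characteristic p, so that the Frobenius σ of W = W(k) is
bijective and W has no p-torsion. Let M be a projective Dieudonné module over k: a finitely
generated projective W-module with a σ-semilinear F : M → M and a σ⁻¹-semilinear V : M → M such that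
FV = VF = p. Then the reduction M/pM satisfies the level-one conditions: the preimage of pM under F
is VM + pM, the preimage of pM under V is FM + pM (so Ker F = Im V and Ker V = Im F on M/pM), and
M/VM, that is M/pM divided by the image of V, is a projective module over W/pW, which the first Witt
component identifies with k. -/
theorem result (p : ℕ) [Fact p.Prime] (k : Type u) [CommRing k]
    [CharP k p] [PerfectRing k p]
    (M : Type v) [AddCommGroup M] [Module (WittVector p k) M] [Module.Finite (WittVector p k) M] [Module.Projective (WittVector p k) M]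
    (F : M →ₛₗ[(WittVector.frobenius : WittVector p k →+* WittVector p k)] M)
    (V : M →ₛₗ[((WittVector.frobeniusEquiv p k).symm : WittVector p k →+* WittVector p k)] M)
    (hFV : ∀ m : M, F (V m) = (p : WittVector p k) • m) (hVF : ∀ m : M, V (F m) = (p : WittVector p k) • m) :
    ((Ideal.span {(p : WittVector p k)} • (⊤ : Submodule (WittVector p k) M)).comap F =
        Submodule.span (WittVector p k) (Set.range V) ⊔ Ideal.span {(p : WittVector p k)} • (⊤ : Submodule (WittVector p k) M) ∧
      (Ideal.span {(p : WittVector p k)} • (⊤ : Submodule (WittVector p k) M)).comap V =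
        Submodule.span (WittVector p k) (Set.range F) ⊔ Ideal.span {(p : WittVector p k)} • (⊤ : Submodule (WittVector p k) M)) ∧
    Module.Projective (WittVector p k ⧸ Ideal.span {(p : WittVector p k)})
      ((M ⧸ (Ideal.span {(p : WittVector p k)} • (⊤ : Submodule (WittVector p k) M))) ⧸
        Submodule.span (WittVector p k ⧸ Ideal.span {(p : WittVector p k)})
          (Set.range fun m : M => (Ideal.span {(p : WittVector p k)} • (⊤ : Submodule (WittVector p k) M)).mkQ (V m))) := by
  classical
  have hp : ∀ w : WittVector p k, (p : WittVector p k) * w = 0 → w = 0 := by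
    intro w hw
    apply WittVector.eq_zero_of_p_mul_eq_zero
    rw [mul_comm]; exact hw
  have hM : ∀ x : M, (p : WittVector p k) • x = 0 → x = 0 :=
    fun x hx => torsion_free_of_projective (p : WittVector p k) hp x hx
  refine ⟨⟨half_W p hM F V hFV hVF, half_W p hM V F hVF hFV⟩, ?_⟩
  have hS : Function.Surjective (algebraMap (WittVector p k) (WittVector p k)) :=
    Function.surjective_id
  have : Module.Projective (WittVector p k ⧸ Ideal.span {(p : WittVector p k)})
      (M ⧸ (Ideal.span {(p : WittVector p k)} • (⊤ : Submodule (WittVector p k) M))) :=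
    Groth.Agent.Lib.helper10.projective_quotient_smul_top _ hS
      (Ideal.Quotient.mkₐ (WittVector p k) (Ideal.span {(p : WittVector p k)}))
  refine Groth.Agent.Lib.helper10.dieu_core p k F V hFV hVF ?_
  intro 𝔄 hsatA z hz
  refine Groth.Agent.Lib.helper10.mem_sup_of_smul_mem (p : WittVector p k) 𝔄 hS ?_ z hz
  intro t ht
  have hker : RingHom.ker (algebraMap (WittVector p k) (WittVector p k)) = ⊥ := by
    rw [Algebra.algebraMap_self]
    exact (RingHom.injective_iff_ker_eq_bot _).mp Function.injective_id
  rw [hker, sup_bot_eq] at ht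
  exact Submodule.mem_sup_left (hsatA t ht)

end Groth.Agent.S16222
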