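import Groth.Statements.S14863
import Mathlib
import Groth.Agent.S16222
import Groth.Agent.Lib.Helper10.NormDec
import Groth.Agent.Lib.Helper10.DispNormal

set_option autoImplicit false
universe u v
open Disp

namespace Groth.Agent.S14863

set_option linter.style.haveILetI false
set_option linter.unusedSectionVars false

open W4c1extbt610

section
variable (p : ℕ) [Fact p.Prime] (k : Type u) [CommRing k] [CharP k p] [PerfectRing k p]

theorem versch_eq (w : WittVector p k) :
    WittVector.verschiebung w = (WittVector.frobeniusEquiv p k).symm w * (p : WittVector p k) := by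
  have h1 : WittVector.frobenius ((WittVector.frobeniusEquiv p k).symm w) = w := by
    rw [← WittVector.frobeniusEquiv_apply, RingEquiv.apply_symm_apply]
  conv_lhs => rw [← h1]
  exact WittVector.verschiebung_frobenius _

theorem IV_eq_span : IV p k = Ideal.span {(p : WittVector p k)} := by
  apply le_antisymm
  · unfold IV
    rw [Ideal.span_le]
    rintro _ ⟨w, rfl⟩
    rw [versch_eq, SetLike.mem_coe, Ideal.mem_span_singleton]
    exact Dvd.intro_left _ rfl
  · rw [Ideal.span_le, Set.singleton_subset_iff, SetLike.mem_coe]
    have : (p : WittVector p k) = WittVector.verschiebung (WittVector.frobenius (1 : WittVector p k)) := by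
      rw [WittVector.verschiebung_frobenius, one_mul]
    rw [this]
    exact verschiebung_mem_IV p k _

end

theorem main (p : ℕ) [Fact p.Prime] (k : Type u) [CommRing k]
    [CharP k p] [PerfectRing k p]
    (M : Type v) [AddCommGroup M] [Module (WittVector p k) M]
    [Module.Finite (WittVector p k) M] [Module.Projective (WittVector p k) M]
    (F : M →ₛₗ[(WittVector.frobenius : WittVector p k →+* WittVector p k)] M)
    (V : M →ₛₗ[((WittVector.frobeniusEquiv p k).symm : WittVector p k →+* WittVector p k)] M)
    (hFV : ∀ m : M, F (V m) = (p : WittVector p k) • m) (hVF : ∀ m : M, V (F m) = (p : WittVector p k) • m) :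
    ∃ D : W4c1extbt610.Display3n p k M,
      D.F = F ∧ (∀ x : M, x ∈ D.Q ↔ x ∈ Set.range V) ∧
        ∀ (m : M) (h : V m ∈ D.Q), D.Vinv ⟨V m, h⟩ = m := by
  classical
  have hp : ∀ w : WittVector p k, (p : WittVector p k) * w = 0 → w = 0 := by
    intro w hw
    apply WittVector.eq_zero_of_p_mul_eq_zero
    rw [mul_comm]; exact hw
  have hM : ∀ x : M, (p : WittVector p k) • x = 0 → x = 0 :=
    fun x hx => Groth.Agent.S16222.torsion_free_of_projective (p : WittVector p k) hp x hx
  have hVinj : Function.Injective V := by
    intro a b hab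
    have h1 : V (a - b) = 0 := by rw [map_sub, hab, sub_self]
    have h2 : (p : WittVector p k) • (a - b) = 0 := by rw [← hFV, h1, map_zero]
    exact sub_eq_zero.1 (hM _ h2)
  have hVsmul : ∀ (w : WittVector p k) (m : M),
      V (WittVector.frobenius w • m) = w • V m := by
    intro w m
    rw [LinearMap.map_smulₛₗ]
    congr 1
    show (WittVector.frobeniusEquiv p k).symm (WittVector.frobenius w) = w
    rw [← WittVector.frobeniusEquiv_apply, RingEquiv.symm_apply_apply]
  have hVsmul' : ∀ (w : WittVector p k) (m : M),
      V (w • m) = (WittVector.frobeniusEquiv p k).symm w • V m := by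
    intro w m
    rw [LinearMap.map_smulₛₗ]; rfl
  -- the submodule Q
  let Q : Submodule (WittVector p k) M :=
    { carrier := Set.range V
      add_mem' := by
        rintro _ _ ⟨a, rfl⟩ ⟨b, rfl⟩
        exact ⟨a + b, map_add V a b⟩
      zero_mem' := ⟨0, map_zero V⟩
      smul_mem' := by
        rintro w _ ⟨a, rfl⟩
        exact ⟨WittVector.frobenius w • a, hVsmul w a⟩ }
  have hQmem : ∀ x, x ∈ Q ↔ x ∈ Set.range V := fun x => Iff.rfl
  -- versch smul
  have hversch : ∀ (w : WittVector p k) (x : M),
      WittVector.verschiebung w • x = V (w • F x) := by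
    intro w x
    rw [hVsmul', hVF, versch_eq, mul_smul]
  have hIVQ : IV p k • (⊤ : Submodule (WittVector p k) M) ≤ Q := by
    rw [Submodule.smul_le]
    intro r hr n _
    obtain ⟨w, rfl⟩ := Groth.Agent.Lib.helper10.DispNormal.mem_IV p k r hr
    rw [hversch]
    exact ⟨_, rfl⟩
  -- Vinv
  let vinvFun : Q → M := fun q => Classical.choose q.2
  have hvinv : ∀ q : Q, V (vinvFun q) = q := fun q => Classical.choose_spec q.2
  let Vinv : Q →ₛₗ[(WittVector.frobenius : WittVector p k →+* WittVector p k)] M :=
    { toFun := vinvFun
      map_add' := by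
        intro a b
        apply hVinj
        rw [map_add, hvinv, hvinv, hvinv]; rfl
      map_smul' := by
        intro w a
        apply hVinj
        rw [hVsmul, hvinv, hvinv]; rfl }
  have hVinvV : ∀ (m : M) (h : V m ∈ Q), Vinv ⟨V m, h⟩ = m := by
    intro m h
    apply hVinj
    exact hvinv ⟨V m, h⟩
  -- normal decomposition
  have hnormal : ∃ L T : Submodule (WittVector p k) M, IsCompl L T ∧ Q = L ⊔ IV p k • T := by
    haveI : IsAdicComplete (IV p k) (WittVector p k) := by
      rw [IV_eq_span]; infer_instance
    have hproj := (Groth.Agent.S16222.result p k M F V hFV hVF).2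
    set 𝔭 : Ideal (WittVector p k) := Ideal.span {(p : WittVector p k)} with h𝔭
    set N : Submodule (WittVector p k) M := 𝔭 • ⊤ with hN
    set Sbar : Submodule (WittVector p k ⧸ 𝔭) (M ⧸ N) :=
      Submodule.span (WittVector p k ⧸ 𝔭) (Set.range fun m : M => N.mkQ (V m)) with hSbar
    obtain ⟨t, ht⟩ := Module.projective_lifting_property Sbar.mkQ LinearMap.id
      (Submodule.mkQ_surjective Sbar)
    have ht' : ∀ z, Sbar.mkQ (t z) = z := fun z => by
      have := LinearMap.congr_fun ht z
      simpa using this
    have hNQ : N ≤ Q := by rw [hN, h𝔭, ← IV_eq_span]; exact hIVQ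
    -- S̄ consists of images of elements of Q
    have hSQ : ∀ y ∈ Sbar, ∃ q ∈ Q, N.mkQ q = y := by
      intro y hy
      refine Submodule.span_induction ?_ ?_ ?_ ?_ hy
      · rintro _ ⟨m, rfl⟩
        exact ⟨V m, ⟨m, rfl⟩, rfl⟩
      · exact ⟨0, Q.zero_mem, map_zero _⟩
      · rintro _ _ _ _ ⟨a, ha, rfl⟩ ⟨b, hb, rfl⟩
        exact ⟨a + b, Q.add_mem ha hb, map_add _ _ _⟩
      · rintro w _ _ ⟨a, ha, rfl⟩
        obtain ⟨w', rfl⟩ := Ideal.Quotient.mk_surjective w
        exact ⟨w' • a, Q.smul_mem _ ha, rfl⟩
    let C : Submodule (WittVector p k) M :=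
      { carrier := {x | N.mkQ x ∈ LinearMap.range t}
        add_mem' := by
          intro a b ha hb
          show N.mkQ (a + b) ∈ LinearMap.range t
          rw [map_add]; exact Submodule.add_mem _ ha hb
        zero_mem' := by
          show N.mkQ 0 ∈ LinearMap.range t
          rw [map_zero]; exact Submodule.zero_mem _
        smul_mem' := by
          intro w a ha
          show N.mkQ (w • a) ∈ LinearMap.range t
          have : N.mkQ (w • a) = Ideal.Quotient.mk 𝔭 w • N.mkQ a := rfl
          rw [this]; exact Submodule.smul_mem _ _ ha }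
    have hCmem : ∀ x, x ∈ C ↔ N.mkQ x ∈ LinearMap.range t := fun x => Iff.rfl
    apply Groth.Agent.Lib.helper10.NormDec.exists_normal_decomposition (IV p k) Q C
    · rw [eq_top_iff]
      intro x _
      -- decompose N.mkQ x
      set z := Sbar.mkQ (N.mkQ x) with hz
      have h1 : N.mkQ x - t z ∈ Sbar := by
        have h0 : N.mkQ x - t z ∈ LinearMap.ker Sbar.mkQ := by
          rw [LinearMap.mem_ker, map_sub, ht', sub_self]
        rwa [Submodule.ker_mkQ] at h0
      obtain ⟨q, hq, hq'⟩ := hSQ _ h1
      obtain ⟨c, hc⟩ := Submodule.mkQ_surjective N (t z)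
      have hcC : c ∈ C := (hCmem c).2 ⟨z, hc.symm⟩
      have h2 : x - q - c ∈ N := by
        rw [← Submodule.ker_mkQ N, LinearMap.mem_ker, map_sub, map_sub, hq', hc]; abel
      have h3 : x = (q + (x - q - c)) + c := by abel
      rw [h3]
      exact Submodule.add_mem _ (Submodule.mem_sup_left (Q.add_mem hq (hNQ h2)))
        (Submodule.mem_sup_right hcC)
    · rw [IV_eq_span]
      apply le_antisymm
      · rintro x ⟨hxQ, hxC⟩
        obtain ⟨m, rfl⟩ := hxQ
        obtain ⟨z, hz⟩ := (hCmem _).1 hxC
        have h1 : N.mkQ (V m) ∈ Sbar := Submodule.subset_span ⟨m, rfl⟩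
        have h2 : z = 0 := by
          rw [← ht' z, hz]
          rw [← LinearMap.mem_ker, Submodule.ker_mkQ]; exact h1
        rw [h2, map_zero] at hz
        have : V m ∈ LinearMap.ker N.mkQ := hz.symm
        rwa [Submodule.ker_mkQ] at this
      · apply le_inf hNQ
        intro x hx
        rw [hCmem]
        have : N.mkQ x = 0 := by
          rw [← LinearMap.mem_ker, Submodule.ker_mkQ]; exact hx
        rw [this]; exact Submodule.zero_mem _
  refine ⟨{ Q := Q
            F := F
            Vinv := Vinv
            finite := inferInstance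
            projective := inferInstance
            IV_smul_le := hIVQ
            exists_normal := hnormal
            span_range_Vinv := ?_
            Vinv_verschiebung_smul := ?_ }, rfl, hQmem, hVinvV⟩
  · rw [eq_top_iff]
    intro m _
    exact Submodule.subset_span ⟨⟨V m, ⟨m, rfl⟩⟩, hVinvV m _⟩
  · intro w x
    apply hVinj
    exact (hvinv _).trans (hversch w x)



/-- Let p be a prime and k a perfect commutative ring of characteristic p, so that the Frobenius σ of W
= W(k) is an automorphism. Let M be a Dieudonné module over k, that is, a projective W-module of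
finite type with a σ-semilinear operator F and a σ⁻¹-semilinear operator V such that FV = VF = p.
Then (M, VM, F, V⁻¹) is a 3n-display over k: there exists a 3n-display structure on the W-module M
whose distinguished submodule is exactly the image of V, whose Frobenius operator is F, and whose
operator V⁻¹ sends V m to m for every m. (The published statement is the equivalence of the category
of 3n-displays over k with that of Dieudonné modules, displays corresponding to topologically
nilpotent V; this row is the passage from a Dieudonné module to a 3n-display.) -/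
theorem result (p : ℕ) [Fact p.Prime] (k : Type u) [CommRing k]
    [CharP k p] [PerfectRing k p]
    (M : Type v) [AddCommGroup M] [Module (WittVector p k) M]
    [Module.Finite (WittVector p k) M] [Module.Projective (WittVector p k) M]
    (F : M →ₛₗ[(WittVector.frobenius : WittVector p k →+* WittVector p k)] M)
    (V : M →ₛₗ[((WittVector.frobeniusEquiv p k).symm : WittVector p k →+* WittVector p k)] M)
    (hFV : ∀ m : M, F (V m) = (p : WittVector p k) • m) (hVF : ∀ m : M, V (F m) = (p : WittVector p k) • m) :
    ∃ D : W4c1extbt610.Display3n p k M,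
      D.F = F ∧ (∀ x : M, x ∈ D.Q ↔ x ∈ Set.range V) ∧
        ∀ (m : M) (h : V m ∈ D.Q), D.Vinv ⟨V m, h⟩ = m := by
  exact main p k M F V hFV hVF

end Groth.Agent.S14863
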