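import Groth.Statements.S14864
import Groth.Agent.Lib.Helper17.Witt
import Mathlib

set_option autoImplicit false
universe u
open CAlg

namespace Groth.Agent.S14864

open Groth.Agent.Lib.helper17 in
/-- Let p be a prime and R a commutative ring in which p is nilpotent; write W = W(R) for the p-typical
Witt vectors, I ⊆ W for the kernel of the projection onto the zeroth component, and I_n ⊆ W for the
kernel of the truncation W → W_n(R). The p-adic topology on W equals its I-adic topology — every
power of the ideal pW contains some power of I and every power of I contains some power of pW — and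
this common topology is finer than the V-adic one: every I_n contains some power of pW. -/
theorem result (p : ℕ) [Fact p.Prime] (R : Type u) [CommRing R]
    (hp : IsNilpotent (p : R)) :
    (∀ n : ℕ, ∃ m : ℕ, (RingHom.ker (WittVector.constantCoeff : WittVector p R →+* R)) ^ m ≤ Ideal.span {(p : WittVector p R)} ^ n) ∧
      (∀ n : ℕ, ∃ m : ℕ, Ideal.span {(p : WittVector p R)} ^ m ≤ (RingHom.ker (WittVector.constantCoeff : WittVector p R →+* R)) ^ n) ∧
        ∀ n : ℕ, ∃ m : ℕ, Ideal.span {(p : WittVector p R)} ^ m ≤ RingHom.ker (WittVector.truncate (p := p) (R := R) n) := by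
  set I := RingHom.ker (WittVector.constantCoeff : WittVector p R →+* R) with hI
  set P : Ideal (WittVector p R) := Ideal.span {(p : WittVector p R)} with hP
  obtain ⟨N, hN⟩ := hp
  have hpN : (p : WittVector p R) ^ N ∈ I := by
    rw [hI, RingHom.mem_ker, map_pow, map_natCast, hN]
  refine ⟨?_, ?_, ?_⟩
  · -- I * I ≤ P * I
    have hII : I * I ≤ P * I := by
      rw [Ideal.mul_le]
      intro a ha b hb
      obtain ⟨x, rfl⟩ := (Witt.mem_ker_constantCoeff_iff_exists a).mp ha
      obtain ⟨y, rfl⟩ := (Witt.mem_ker_constantCoeff_iff_exists b).mp hb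
      rw [Witt.verschiebung_mul_verschiebung]
      exact Ideal.mul_mem_mul (Ideal.mem_span_singleton_self _)
        ((Witt.mem_ker_constantCoeff_iff_exists _).mpr ⟨_, rfl⟩)
    have key : ∀ n : ℕ, I ^ (n + 1) ≤ P ^ n * I := by
      intro n
      induction n with
      | zero => simp
      | succ n ih =>
        calc I ^ (n + 1 + 1) = I ^ (n + 1) * I := pow_succ _ _
          _ ≤ P ^ n * I * I := Ideal.mul_mono_left ih
          _ = P ^ n * (I * I) := mul_assoc _ _ _
          _ ≤ P ^ n * (P * I) := Ideal.mul_mono_right hII
          _ = P ^ (n + 1) * I := by rw [← mul_assoc, ← pow_succ]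
    intro n
    exact ⟨n + 1, (key n).trans Ideal.mul_le_left⟩
  · intro n
    refine ⟨N * n, ?_⟩
    rw [pow_mul]
    refine Ideal.pow_right_mono ?_ n
    rw [hP, Ideal.span_singleton_pow, Ideal.span_singleton_le_iff_mem]
    exact hpN
  · intro n
    refine ⟨N * n, ?_⟩
    rw [hP, Ideal.span_singleton_pow, Ideal.span_singleton_le_iff_mem]
    induction n with
    | zero =>
      rw [WittVector.mem_ker_truncate]
      intro i hi
      omega
    | succ n ih =>
      obtain ⟨z, hz⟩ := (Witt.mem_ker_truncate_iff_exists _ n).mp ih
      rw [Witt.mem_ker_truncate_iff_exists]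
      have hfix : (⇑(WittVector.frobenius (p := p) (R := R)))^[n] ((p : WittVector p R) ^ N) =
          (p : WittVector p R) ^ N := by
        apply Function.iterate_fixed
        rw [map_pow, map_natCast]
      have hzI : z * (p : WittVector p R) ^ N ∈ I := I.mul_mem_left _ hpN
      obtain ⟨w, hw⟩ := (Witt.mem_ker_constantCoeff_iff_exists _).mp hzI
      refine ⟨w, ?_⟩
      rw [Function.iterate_succ_apply, ← hw, mul_add, mul_one, pow_add, hz]
      conv_rhs => rw [← hfix]
      rw [Witt.iterate_verschiebung_mul_iterate_frobenius]

end Groth.Agent.S14864
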