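import Groth.Statements.S14869
import Mathlib
-- import your own Groth.Agent.* helpers here

set_option autoImplicit false
universe u v w
open CAlg

namespace Groth.Agent.S14869

open TensorProduct

/-- Let S → R be a surjective homomorphism of commutative rings, let π : P_1 → P_2 be a surjective
homomorphism of S-modules with P_2 projective, and let π̄ : R ⊗_S P_1 → R ⊗_S P_2 be its base
change. Then every R-linear section σ̄ of π̄ lifts to a section of π: there is an S-linear map σ :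
P_2 → P_1 with π ∘ σ = id whose base change R ⊗_S σ is σ̄. -/
theorem result (S R : Type u) [CommRing S] [CommRing R] [Algebra S R]
    (hSR : Function.Surjective (algebraMap S R))
    (P₁ : Type v) [AddCommGroup P₁] [Module S P₁]
    (P₂ : Type w) [AddCommGroup P₂] [Module S P₂] [Module.Projective S P₂]
    (π : P₁ →ₗ[S] P₂) (hπ : Function.Surjective π)
    (σ' : R ⊗[S] P₂ →ₗ[R] R ⊗[S] P₁) (hσ' : (π.baseChange R).comp σ' = LinearMap.id) :
    ∃ σ : P₂ →ₗ[S] P₁, π.comp σ = LinearMap.id ∧ σ.baseChange R = σ' := by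
  obtain ⟨σ₀, hσ₀⟩ := Module.projective_lifting_property π LinearMap.id hπ
  have hσ₀' : ∀ y, π (σ₀ y) = y := fun y => LinearMap.congr_fun hσ₀ y
  have hσ'' : ∀ z, π.baseChange R (σ' z) = z := fun z => LinearMap.congr_fun hσ' z
  let m₁ : P₁ →ₗ[S] R ⊗[S] P₁ := TensorProduct.mk S R P₁ 1
  let m₂ : P₂ →ₗ[S] R ⊗[S] P₂ := TensorProduct.mk S R P₂ 1
  have hm₁ : Function.Surjective m₁ := TensorProduct.mk_surjective S P₁ R hSR
  have hm₂ : Function.Surjective m₂ := TensorProduct.mk_surjective S P₂ R hSR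
  let τ : P₂ →ₗ[S] R ⊗[S] P₁ := (σ'.restrictScalars S) ∘ₗ m₂ - m₁ ∘ₗ σ₀
  obtain ⟨δ₀, hδ₀⟩ := Module.projective_lifting_property m₁ τ hm₁
  have hδ₀' : ∀ y, (1 : R) ⊗ₜ[S] δ₀ y = σ' ((1 : R) ⊗ₜ[S] y) - (1 : R) ⊗ₜ[S] σ₀ y :=
    fun y => LinearMap.congr_fun hδ₀ y
  -- projection onto the kernel
  let q : P₁ →ₗ[S] P₁ := LinearMap.id - σ₀ ∘ₗ π
  have hπq : ∀ x, π (q x) = 0 := by
    intro x
    simp [q, hσ₀']
  refine ⟨σ₀ + q ∘ₗ δ₀, ?_, ?_⟩
  · apply LinearMap.ext
    intro y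
    simp [hσ₀', hπq]
  · apply LinearMap.ext
    intro z
    obtain ⟨y, rfl⟩ := hm₂ z
    change (σ₀ + q ∘ₗ δ₀).baseChange R ((1 : R) ⊗ₜ[S] y) = σ' ((1 : R) ⊗ₜ[S] y)
    rw [LinearMap.baseChange_tmul]
    simp only [LinearMap.add_apply, LinearMap.comp_apply, q, LinearMap.sub_apply,
      LinearMap.id_apply, TensorProduct.tmul_add, TensorProduct.tmul_sub]
    rw [hδ₀']
    -- remaining: `1 ⊗ σ₀ (π (δ₀ y)) = 0`
    have h1 : (1 : R) ⊗ₜ[S] π (δ₀ y) = 0 := by
      have := congrArg (π.baseChange R) (hδ₀' y)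
      rw [LinearMap.baseChange_tmul, map_sub, hσ'', LinearMap.baseChange_tmul, hσ₀', sub_self] at this
      exact this
    have h2 : (1 : R) ⊗ₜ[S] σ₀ (π (δ₀ y)) = 0 := by
      have := congrArg (σ₀.baseChange R) h1
      rwa [LinearMap.baseChange_tmul, map_zero] at this
    rw [h2]
    abel

end Groth.Agent.S14869
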