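import Groth.Statements.S14871
import Mathlib.Algebra.Lie.IdealOperations
-- import your own Groth.Agent.* helpers here

set_option autoImplicit false
universe u v
open PLie

namespace Groth.Agent.S14871

/-- `(ad x)^n w` lies in an ideal `N` containing `x`, for `n ≥ 1`. -/
theorem ad_pow_mem {k : Type u} [CommRing k] {L : Type v} [LieRing L] [LieAlgebra k L]
    (N : LieIdeal k L) (x : L) (hx : x ∈ N) (n : ℕ) (hn : n ≠ 0) (w : L) :
    (LieAlgebra.ad k L x ^ n) w ∈ N := by
  obtain ⟨m, rfl⟩ := Nat.exists_eq_succ_of_ne_zero hn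
  rw [pow_succ', Module.End.mul_apply, LieAlgebra.ad_apply]
  rw [← lie_skew]
  exact N.neg_mem (N.lie_mem hx)

/-- The ideal of elements whose brackets all land in `N`. -/
def colon {k : Type u} [CommRing k] {L : Type v} [LieRing L] [LieAlgebra k L]
    (N : LieIdeal k L) : LieIdeal k L where
  carrier := {z | ∀ w : L, ⁅w, z⁆ ∈ N}
  add_mem' := by
    intro a b ha hb w
    rw [lie_add]
    exact N.add_mem (ha w) (hb w)
  zero_mem' := by
    intro w
    rw [lie_zero]
    exact N.zero_mem
  smul_mem' := by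
    intro c a ha w
    rw [lie_smul]
    exact N.smul_mem c (ha w)
  lie_mem := by
    intro u z hz w
    exact N.lie_mem (hz u)

theorem mem_colon {k : Type u} [CommRing k] {L : Type v} [LieRing L] [LieAlgebra k L]
    (N : LieIdeal k L) (z : L) : z ∈ colon N ↔ ∀ w : L, ⁅w, z⁆ ∈ N := Iff.rfl

/-- Let `L` be a finite-dimensional Lie algebra over a field of characteristic `p` equipped with a
`p`-mapping `φ`. Then the solvable radical of `L` is stable under `φ` (it is a `p`-subalgebra). -/
theorem result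
    (k : Type u) [Field k] (p : ℕ) [Fact p.Prime] [CharP k p]
    (L : Type v) [LieRing L] [LieAlgebra k L] [Module.Finite k L]
    (φ : PLie.PMap k p L) (x : L) (hx : x ∈ LieAlgebra.radical k L) :
    φ x ∈ LieAlgebra.radical k L := by
  set N := LieAlgebra.radical k L with hNdef
  have hp : p ≠ 0 := (Fact.out : p.Prime).ne_zero
  -- N is solvable
  obtain ⟨m, hm⟩ := LieAlgebra.IsSolvable.solvable k N
  rw [LieIdeal.derivedSeries_eq_bot_iff] at hm
  -- the colon ideal is solvable
  have h1 : LieAlgebra.derivedSeriesOfIdeal k L 1 (colon N) ≤ N := by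
    rw [LieAlgebra.derivedSeriesOfIdeal_succ, LieAlgebra.derivedSeriesOfIdeal_zero,
      LieSubmodule.lie_le_iff]
    intro a _ b hb
    exact hb a
  have h2 : LieAlgebra.derivedSeriesOfIdeal k L (m + 1) (colon N) = ⊥ := by
    rw [LieAlgebra.derivedSeriesOfIdeal_add, eq_bot_iff, ← hm]
    exact LieAlgebra.derivedSeriesOfIdeal_mono h1 m
  have hsol : LieAlgebra.IsSolvable (colon N) :=
    LieAlgebra.IsSolvable.mk (R := k) ((LieIdeal.derivedSeries_eq_bot_iff (colon N) (m + 1)).mpr h2)
  have hle : colon N ≤ N := le_sSup hsol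
  apply hle
  rw [mem_colon]
  intro w
  rw [← lie_skew]
  apply N.neg_mem
  have : ⁅φ x, w⁆ = (LieAlgebra.ad k L x ^ p) w := by
    rw [← φ.ad_map x, LieAlgebra.ad_apply]
  rw [this]
  exact ad_pow_mem N x hx p hp w


end Groth.Agent.S14871
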