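import Groth.Statements.S14872
import Mathlib.Algebra.Lie.Engel
import Mathlib.Algebra.Lie.IdealOperations
-- import your own Groth.Agent.* helpers here

set_option autoImplicit false
universe u v
open PLie

namespace Groth.Agent.S14872

theorem coe_ad_pow {k : Type u} [CommRing k] {L : Type v} [LieRing L]
    [LieAlgebra k L] (I : LieIdeal k L) (z w : I) (m : ℕ) :
    (((LieAlgebra.ad k I z) ^ m) w : L) = ((LieAlgebra.ad k L (z : L)) ^ m) (w : L) := by
  induction m generalizing w with
  | zero => simp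
  | succ m ih =>
    rw [pow_succ, pow_succ, Module.End.mul_apply, Module.End.mul_apply, ih]
    simp [LieAlgebra.ad_apply]

/-- An ideal all of whose elements are ad-nilpotent on `L` is a nilpotent Lie ring. -/
theorem isNilpotent_of_forall_ad {k : Type u} [Field k] {L : Type v} [LieRing L]
    [LieAlgebra k L] [Module.Finite k L] (I : LieIdeal k L)
    (h : ∀ z ∈ I, IsNilpotent (LieAlgebra.ad k L z)) : LieRing.IsNilpotent I := by
  rw [LieAlgebra.isNilpotent_iff_forall (R := k)]
  intro z
  obtain ⟨m, hm⟩ := h (z : L) z.2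
  refine ⟨m, ?_⟩
  ext w
  rw [coe_ad_pow, hm]
  simp

/-- Elements of a nilpotent ideal are ad-nilpotent on `L`. -/
theorem isNilpotent_ad_of_mem {k : Type u} [Field k] {L : Type v} [LieRing L]
    [LieAlgebra k L] [Module.Finite k L] (N : LieIdeal k L) (hN : LieRing.IsNilpotent N)
    (n : L) (hn : n ∈ N) : IsNilpotent (LieAlgebra.ad k L n) := by
  rw [LieAlgebra.isNilpotent_iff_forall (R := k)] at hN
  obtain ⟨m, hm⟩ := hN ⟨n, hn⟩
  refine ⟨m + 1, ?_⟩
  ext w
  rw [pow_succ, Module.End.mul_apply, LieAlgebra.ad_apply]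
  have hw : ⁅n, w⁆ ∈ N := by
    rw [← lie_skew]; exact N.neg_mem (N.lie_mem hn)
  have := coe_ad_pow N ⟨n, hn⟩ ⟨⁅n, w⁆, hw⟩ m
  rw [hm] at this
  simpa using this.symm

/-- The ideal of elements whose adjoint action shifts the `N`-adic filtration of `L`. -/
def shiftIdeal {k : Type u} [CommRing k] {L : Type v} [LieRing L] [LieAlgebra k L]
    (N : LieIdeal k L) : LieIdeal k L where
  carrier := {z | ∀ (j : ℕ) (f : L), f ∈ N.lcs L j → ⁅z, f⁆ ∈ N.lcs L (j + 1)}
  add_mem' := by
    intro a b ha hb j f hf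
    rw [add_lie]
    exact (N.lcs L (j + 1)).add_mem (ha j f hf) (hb j f hf)
  zero_mem' := by
    intro j f _
    rw [zero_lie]
    exact (N.lcs L (j + 1)).zero_mem
  smul_mem' := by
    intro c a ha j f hf
    rw [smul_lie]
    exact (N.lcs L (j + 1)).smul_mem c (ha j f hf)
  lie_mem := by
    intro u z hz j f hf
    rw [lie_lie]
    exact (N.lcs L (j + 1)).sub_mem ((N.lcs L (j + 1)).lie_mem (hz j f hf))
      (hz j _ ((N.lcs L j).lie_mem hf))

theorem mem_shiftIdeal {k : Type u} [CommRing k] {L : Type v} [LieRing L] [LieAlgebra k L]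
    (N : LieIdeal k L) (z : L) :
    z ∈ shiftIdeal N ↔ ∀ (j : ℕ) (f : L), f ∈ N.lcs L j → ⁅z, f⁆ ∈ N.lcs L (j + 1) := Iff.rfl

theorem le_shiftIdeal {k : Type u} [CommRing k] {L : Type v} [LieRing L] [LieAlgebra k L]
    (N : LieIdeal k L) : N ≤ shiftIdeal N := by
  intro n hn
  rw [mem_shiftIdeal]
  intro j f hf
  rw [LieIdeal.lcs_succ]
  exact LieSubmodule.lie_mem_lie hn hf

theorem lcs_succ_le {k : Type u} [CommRing k] {L : Type v} [LieRing L] [LieAlgebra k L]
    (N : LieIdeal k L) (j : ℕ) : N.lcs L (j + 1) ≤ N.lcs L j := by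
  rw [LieIdeal.lcs_succ]
  exact LieSubmodule.lie_le_right _ _

theorem ad_pow_mem_lcs {k : Type u} [CommRing k] {L : Type v} [LieRing L] [LieAlgebra k L]
    (N : LieIdeal k L) (z : L) (hz : z ∈ shiftIdeal N) (j : ℕ) (w : L) :
    (LieAlgebra.ad k L z ^ j) w ∈ N.lcs L j := by
  induction j with
  | zero => simp
  | succ j ih =>
    rw [pow_succ', Module.End.mul_apply, LieAlgebra.ad_apply]
    exact hz j _ ih

theorem ad_pow_mem_succ {k : Type u} [CommRing k] {L : Type v} [LieRing L] [LieAlgebra k L]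
    (N : LieIdeal k L) (z : L) (hz : z ∈ shiftIdeal N) (n : ℕ) (hn : n ≠ 0) (j : ℕ) (f : L)
    (hf : f ∈ N.lcs L j) : (LieAlgebra.ad k L z ^ n) f ∈ N.lcs L (j + 1) := by
  obtain ⟨m, rfl⟩ := Nat.exists_eq_succ_of_ne_zero hn
  induction m with
  | zero => simpa using hz j f hf
  | succ m ih =>
    rw [pow_succ', Module.End.mul_apply, LieAlgebra.ad_apply]
    exact hz j _ (lcs_succ_le N j (ih (Nat.succ_ne_zero m)))

/-- Let `L` be a finite-dimensional Lie algebra over a field of characteristic `p` equipped with a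
`p`-mapping `φ`, and let `N` be its nilradical, i.e. the ideal of `L` that is nilpotent as a Lie
ring and contains every ideal of `L` nilpotent as a Lie ring. Then `N` is stable under `φ` (it is a
`p`-subalgebra). (The nilradical is given here through its characterising property; it is not the
largest submodule on which `L` acts nilpotently.) -/
theorem result
    (k : Type u) [Field k] (p : ℕ) [Fact p.Prime] [CharP k p]
    (L : Type v) [LieRing L] [LieAlgebra k L] [Module.Finite k L]
    (φ : PLie.PMap k p L) (N : LieIdeal k L) (hN : LieRing.IsNilpotent N)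
    (hmax : ∀ I : LieIdeal k L, LieRing.IsNilpotent I → I ≤ N)
    (x : L) (hx : x ∈ N) : φ x ∈ N := by
  have hp : p ≠ 0 := (Fact.out : p.Prime).ne_zero
  -- `L` is nilpotent as an `N`-module
  have hNL : LieModule.IsNilpotent N L := by
    rw [LieModule.isNilpotent_iff_forall' (R := k)]
    intro n
    obtain ⟨m, hm⟩ := isNilpotent_ad_of_mem N hN (n : L) n.2
    refine ⟨m, ?_⟩
    ext w
    have : ∀ (m : ℕ) (w : L), ((LieModule.toEnd k N L n) ^ m) w = ((LieAlgebra.ad k L (n : L)) ^ m) w := by
      intro m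
      induction m with
      | zero => simp
      | succ m ih =>
        intro w
        rw [pow_succ, pow_succ, Module.End.mul_apply, Module.End.mul_apply, ih]
        rfl
    rw [this, hm]
  obtain ⟨M, hM⟩ := (LieModule.isNilpotent_iff k N L).mp hNL
  have hFM : ∀ f ∈ N.lcs L M, f = 0 := by
    intro f hf
    have h1 : f ∈ LieSubmodule.toSubmodule (N.lcs L M) := hf
    rw [LieIdeal.coe_lcs_eq, hM] at h1
    simpa using h1
  -- the shift ideal is nilpotent
  have hnil : LieRing.IsNilpotent (shiftIdeal N) := by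
    apply isNilpotent_of_forall_ad
    intro z hz
    refine ⟨M, ?_⟩
    ext w
    exact hFM _ (ad_pow_mem_lcs N z hz M w)
  apply hmax _ hnil
  rw [mem_shiftIdeal]
  intro j f hf
  have : ⁅φ x, f⁆ = (LieAlgebra.ad k L x ^ p) f := by
    rw [← φ.ad_map x, LieAlgebra.ad_apply]
  rw [this]
  exact ad_pow_mem_succ N x (le_shiftIdeal N hx) p hp j f hf


end Groth.Agent.S14872
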