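import Groth.Statements.S14873
import Mathlib.Algebra.Lie.Engel
-- import your own Groth.Agent.* helpers here

set_option autoImplicit false
universe u v
open PLie

namespace Groth.Agent.S14873

theorem ad_iterate {k : Type u} [CommRing k] {p : ℕ} [CharP k p] {L : Type v} [LieRing L]
    [LieAlgebra k L] (φ : PLie.PMap k p L) (z : L) (n : ℕ) :
    LieAlgebra.ad k L (φ.toFun^[n] z) = LieAlgebra.ad k L z ^ (p ^ n) := by
  induction n with
  | zero => simp
  | succ n ih =>
    rw [Function.iterate_succ_apply', φ.ad_map, ih, ← pow_mul, pow_succ]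

theorem coe_ad_pow {k : Type u} [CommRing k] {L : Type v} [LieRing L]
    [LieAlgebra k L] (I : LieIdeal k L) (z w : I) (m : ℕ) :
    (((LieAlgebra.ad k I z) ^ m) w : L) = ((LieAlgebra.ad k L (z : L)) ^ m) (w : L) := by
  induction m generalizing w with
  | zero => simp
  | succ m ih =>
    rw [pow_succ, pow_succ, Module.End.mul_apply, Module.End.mul_apply, ih]
    simp [LieAlgebra.ad_apply]

theorem isNilpotent_ad_of_isPNilpotent {k : Type u} [CommRing k] {p : ℕ} [CharP k p] {L : Type v}
    [LieRing L] [LieAlgebra k L] (φ : PLie.PMap k p L) (z : L) (hz : PLie.IsPNilpotent φ z) :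
    IsNilpotent (LieAlgebra.ad k L z) := by
  obtain ⟨n, hn⟩ := hz
  refine ⟨p ^ n, ?_⟩
  rw [← ad_iterate, hn, map_zero]

/-- Let `L` be a finite-dimensional Lie algebra over a field of characteristic `p` equipped with a
`p`-mapping `φ`, and let `I` be an ideal of `L` stable under `φ` all of whose elements are
`p`-nilpotent (for instance the `p`-radical, the largest such ideal). Then `I` is nilpotent as a Lie
ring, hence lies in the nilradical of `L`. (The published item also records that the nilradical lies
in the solvable radical, which is immediate since nilpotent ideals are solvable.) -/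
theorem result
    (k : Type u) [Field k] (p : ℕ) [Fact p.Prime] [CharP k p]
    (L : Type v) [LieRing L] [LieAlgebra k L] [Module.Finite k L]
    (φ : PLie.PMap k p L) (I : LieIdeal k L) (hsub : ∀ x ∈ I, φ x ∈ I)
    (hnil : ∀ x ∈ I, PLie.IsPNilpotent φ x) : LieRing.IsNilpotent I := by
  rw [LieAlgebra.isNilpotent_iff_forall (R := k)]
  intro z
  obtain ⟨m, hm⟩ := isNilpotent_ad_of_isPNilpotent φ (z : L) (hnil z z.2)
  refine ⟨m, ?_⟩
  ext w
  rw [coe_ad_pow, hm]
  simp


end Groth.Agent.S14873
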