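import Groth.Statements.S14875
import Groth.Agent.S14873
import Mathlib.Algebra.Lie.Engel
import Mathlib.Algebra.Lie.IdealOperations
import Mathlib.LinearAlgebra.BilinearForm.Orthogonal
import Mathlib.LinearAlgebra.Trace
-- import your own Groth.Agent.* helpers here

set_option autoImplicit false
universe u v
open PLie

namespace Groth.Agent.S14875

open LieModule in
theorem lcs_stable {k : Type u} [CommRing k] {L : Type v} [LieRing L] [LieAlgebra k L]
    (U : LieSubalgebra k L) (h : L) (hh : ∀ u ∈ U, ⁅h, u⁆ ∈ U) (j : ℕ) :
    ∀ g ∈ lowerCentralSeries k U L j, ⁅h, g⁆ ∈ lowerCentralSeries k U L j := by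
  induction j with
  | zero => intro g _; simp
  | succ j ih =>
    intro g hg
    rw [lowerCentralSeries_succ, ← LieSubmodule.mem_toSubmodule,
      LieSubmodule.lieIdeal_oper_eq_linear_span'] at hg
    refine Submodule.span_induction ?_ ?_ ?_ ?_ hg
    · rintro - ⟨u, -, g', hg', rfl⟩
      rw [LieSubalgebra.coe_bracket_of_module, leibniz_lie]
      apply add_mem
      · have : ⁅⁅h, (u : L)⁆, g'⁆ = ⁅(⟨⁅h, (u : L)⁆, hh u u.2⟩ : U), g'⁆ := rfl
        rw [this, lowerCentralSeries_succ]
        exact LieSubmodule.lie_mem_lie (LieSubmodule.mem_top _) hg'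
      · rw [← LieSubalgebra.coe_bracket_of_module, lowerCentralSeries_succ]
        exact LieSubmodule.lie_mem_lie (LieSubmodule.mem_top _) (ih _ hg')
    · simp
    · intro a b _ _ ha hb
      rw [lie_add]
      exact add_mem ha hb
    · intro t a _ ha
      rw [lie_smul]
      exact (lowerCentralSeries k U L (j + 1)).smul_mem t ha

open LieModule in
theorem trace_eq_zero {k : Type u} [Field k] {L : Type v} [LieRing L] [LieAlgebra k L]
    [Module.Finite k L] (U : LieSubalgebra k L)
    (hUnil : ∀ u ∈ U, IsNilpotent (LieAlgebra.ad k L u)) (h x : L)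
    (hh : ∀ u ∈ U, ⁅h, u⁆ ∈ U) (hx : x ∈ U) :
    LinearMap.trace k L (LieAlgebra.ad k L h ∘ₗ LieAlgebra.ad k L x) = 0 := by
  have hUL : LieModule.IsNilpotent U L := by
    rw [LieModule.isNilpotent_iff_forall' (R := k)]
    intro u
    exact hUnil u u.2
  obtain ⟨M, hM⟩ := (LieModule.isNilpotent_iff k U L).mp hUL
  have hT : ∀ (j : ℕ) (w : L), ((LieAlgebra.ad k L h ∘ₗ LieAlgebra.ad k L x) ^ j) w ∈
      lowerCentralSeries k U L j := by
    intro j
    induction j with
    | zero => simp
    | succ j ih =>
      intro w
      rw [pow_succ', Module.End.mul_apply]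
      apply lcs_stable U h hh (j + 1)
      rw [lowerCentralSeries_succ]
      exact LieSubmodule.lie_mem_lie (LieSubmodule.mem_top (⟨x, hx⟩ : U)) (ih w)
  have hnil : IsNilpotent (LieAlgebra.ad k L h ∘ₗ LieAlgebra.ad k L x) := by
    refine ⟨M, ?_⟩
    ext w
    have := hT M w
    rw [hM] at this
    simpa using this
  exact (LinearMap.isNilpotent_trace_of_isNilpotent hnil).eq_zero

/-- Let `L` be a finite-dimensional Lie algebra over a field of characteristic `p` equipped with a
`p`-mapping `φ`, whose Killing form is non-degenerate. Let `U` and `H` be Lie subalgebras of `L`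
such that `H` is the normaliser of `U`, `U` is the set of elements of `H` that lie in the solvable
radical of `H` and are `p`-nilpotent, and the orthogonal of `U` for the Killing form is closed under
the bracket. Then `U` is the orthogonal of `H` for the Killing form. (The published statement is for
the Lie algebra of a reductive group over a field of characteristic `p` with its canonical
`p`-structure; this row states it for any finite-dimensional Lie algebra with a `p`-mapping.) -/
theorem result
    (k : Type u) [Field k] (p : ℕ) [Fact p.Prime] [CharP k p]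
    (L : Type v) [LieRing L] [LieAlgebra k L] [Module.Finite k L]
    (φ : PLie.PMap k p L) (hκ : (killingForm k L).Nondegenerate)
    (U H : LieSubalgebra k L) (hH : H = U.normalizer)
    (hU : ∀ x : L, x ∈ U ↔ ∃ hx : x ∈ H, (⟨x, hx⟩ : ↥H) ∈ LieAlgebra.radical k ↥H ∧ PLie.IsPNilpotent φ x)
    (hperp : ∀ a b : L, (∀ y ∈ U, killingForm k L a y = 0) → (∀ y ∈ U, killingForm k L b y = 0) →
      ∀ y ∈ U, killingForm k L ⁅a, b⁆ y = 0) :
    ∀ x : L, x ∈ U ↔ ∀ h ∈ H, killingForm k L h x = 0 := by
  have hsymm : ∀ a b : L, killingForm k L a b = killingForm k L b a :=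
    LieModule.traceForm_comm k L L
  have hrefl : (killingForm k L).IsRefl := (LieModule.traceForm_isSymm k L L).isRefl
  have hUU : (killingForm k L).orthogonal ((killingForm k L).orthogonal U.toSubmodule) =
      U.toSubmodule := LinearMap.BilinForm.orthogonal_orthogonal hκ hrefl _
  have hUnil : ∀ u ∈ U, IsNilpotent (LieAlgebra.ad k L u) := by
    intro u hu
    obtain ⟨_, _, hpn⟩ := (hU u).mp hu
    exact Groth.Agent.S14873.isNilpotent_ad_of_isPNilpotent φ u hpn
  intro x
  constructor
  · intro hx h hh
    rw [killingForm_apply_apply]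
    apply trace_eq_zero U hUnil h x _ hx
    rw [hH, LieSubalgebra.mem_normalizer_iff] at hh
    exact hh
  · intro hx
    -- U^⊥ ⊆ H
    have hperpH : ∀ a ∈ (killingForm k L).orthogonal U.toSubmodule, a ∈ H := by
      intro a ha
      rw [LinearMap.BilinForm.mem_orthogonal_iff] at ha
      rw [hH, LieSubalgebra.mem_normalizer_iff]
      intro u hu
      have : ⁅a, u⁆ ∈ (killingForm k L).orthogonal
          ((killingForm k L).orthogonal U.toSubmodule) := by
        rw [LinearMap.BilinForm.mem_orthogonal_iff]
        intro b hb
        rw [LinearMap.BilinForm.mem_orthogonal_iff] at hb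
        rw [← LieModule.traceForm_apply_lie_apply]
        refine hperp b a (fun y hy => ?_) (fun y hy => ?_) u hu
        · rw [hsymm]; exact hb y hy
        · rw [hsymm]; exact ha y hy
      rw [hUU] at this
      exact this
    have : x ∈ (killingForm k L).orthogonal ((killingForm k L).orthogonal U.toSubmodule) := by
      rw [LinearMap.BilinForm.mem_orthogonal_iff]
      intro a ha
      exact hx a (hperpH a ha)
    rw [hUU] at this
    exact this


end Groth.Agent.S14875
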