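import Groth.Statements.S14877
import Groth.Agent.Lib.Helper14.LocIsotriv
import Groth.Agent.Lib.Helper14.PrincBundle
import Groth.Agent.Lib.Helper4.FlatDescends

set_option autoImplicit false
universe u
open CategoryTheory MonoidalCategory CartesianMonoidalCategory MonObj GrpObj AlgebraicGeometry CategoryTheory.Limits
open AlgGrp

namespace Groth.Agent.S14877

/-- Over an algebraically closed field k of characteristic zero, let G be an algebraic group (a smooth
k-group scheme of finite type) acting on a variety P (reduced, separated, of finite type over k),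
and let π : P → X be a geometric quotient by this action onto a variety X: π is invariant,
surjective and open, the map (g, p) ↦ (g·p, p) from G × P to P ×_X P is surjective on points, and
for every open U of X the sections of O_X over U are exactly the invariant sections of O_P over
π⁻¹U. Suppose the bundle is locally isotrivial: every point of X has an open neighbourhood U with a
finite étale surjective morphism U' → U and a morphism s : U' → P lifting U' → U → X such that (u,
g) ↦ g·s(u) exhibits U' × G as the fibre product U' ×_X P. Then the bundle is principal: (g, p) ↦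
(g·p, p) is an isomorphism of G × P onto P ×_X P, and π is flat. (The published definition of an
étale covering asks only for a finite étale morphism; this row also requires it to be surjective,
since an empty cover would make every bundle isotrivial.) -/
theorem result (k : Type u) [Field k] [IsAlgClosed k] [CharZero k]
    (G P X : Over (Spec (CommRingCat.of k))) [GrpObj G] [Smooth G.hom] [QuasiCompact G.hom]
    [LocallyOfFiniteType P.hom] [QuasiCompact P.hom] [IsSeparated P.hom] [IsReduced P.left]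
    [LocallyOfFiniteType X.hom] [QuasiCompact X.hom] [IsSeparated X.hom] [IsReduced X.left]
    (a : AlgGrp.Action G P) (π : P ⟶ X) (hinv : GIT.IsInvariant a π)
    (hq : Function.Surjective π.left.base ∧ IsOpenMap π.left.base ∧
      Function.Surjective (GIT.PsiY a π hinv).base ∧
      ∀ U : X.left.Opens, Function.Injective (π.left.app U) ∧
        Set.range (π.left.app U) = {f | GIT.IsInvSection a π U f})
    (hli : ∀ x : ↥X.left, ∃ (U : X.left.Opens) (_ : x ∈ U) (U' : Scheme.{u}) (φ : U' ⟶ ↑U)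
      (_ : IsFinite φ) (_ : Etale φ) (_ : Surjective φ) (s : Over.mk (φ ≫ U.ι ≫ X.hom) ⟶ P),
      s.left ≫ π.left = φ ≫ U.ι ∧
      IsPullback (fst (Over.mk (φ ≫ U.ι ≫ X.hom)) G).left (lift (snd (Over.mk (φ ≫ U.ι ≫ X.hom)) G) (fst (Over.mk (φ ≫ U.ι ≫ X.hom)) G ≫ s) ≫ a.act).left
        (φ ≫ U.ι) π.left) :
    IsIso (GIT.PsiY a π hinv) ∧ Flat π.left := by
  haveI : IsLocallyNoetherian X.left := LocallyOfFiniteType.isLocallyNoetherian X.hom
  obtain ⟨πs, hπs⟩ : ∃ πs : P.left ⟶ X.left, πs = π.left := ⟨_, rfl⟩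
  obtain ⟨m, hm⟩ : ∃ m : (G ⊗ P).left ⟶ P.left, m = a.act.left := ⟨_, rfl⟩
  obtain ⟨pr, hpr⟩ : ∃ pr : (G ⊗ P).left ⟶ P.left, pr = (snd G P).left := ⟨_, rfl⟩
  have hw : m ≫ πs = pr ≫ πs := by rw [hm, hpr, hπs]; exact hinv.left
  -- scheme-level package of the local trivializations
  have key : ∀ x : X.left, ∃ (U : X.left.Opens) (_ : x ∈ U) (U' : Scheme.{u}) (ι' : U' ⟶ X.left)
      (T : Scheme.{u}) (fstT : T ⟶ U') (ρ : T ⟶ P.left) (A' : Scheme.{u})
      (a' : A' ⟶ (G ⊗ P).left) (sndT : A' ⟶ T) (mTs : A' ⟶ T),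
      Flat ι' ∧ QuasiCompact ι' ∧ Set.range ι' = (U : Set X.left) ∧ Flat fstT ∧
        IsPullback fstT ρ ι' πs ∧ IsPullback a' sndT pr ρ ∧ IsPullback mTs sndT fstT fstT ∧
        mTs ≫ ρ = a' ≫ m := by
    intro x
    obtain ⟨U, hxU, U', φ, hfin, het, hsurj, s, hs, hpb⟩ := hli x
    let Uo : Over (Spec (CommRingCat.of k)) := Over.mk (φ ≫ U.ι ≫ X.hom)
    refine ⟨U, hxU, U', φ ≫ U.ι, (Uo ⊗ G).left, (fst Uo G).left,
      (Groth.Agent.Lib.Helper14.LocIsotriv.rho a s).left, (G ⊗ (Uo ⊗ G)).left,
      (G ◁ Groth.Agent.Lib.Helper14.LocIsotriv.rho a s).left, (snd G (Uo ⊗ G)).left,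
      (Groth.Agent.Lib.Helper14.LocIsotriv.mT G Uo).left, ?_, ?_, ?_, ?_, ?_, ?_, ?_, ?_⟩
    · infer_instance
    · infer_instance
    · ext y
      constructor
      · rintro ⟨u, rfl⟩
        rw [Scheme.Hom.comp_apply]
        exact (φ u).2
      · intro hy
        obtain ⟨u, hu⟩ := hsurj.surj ⟨y, hy⟩
        exact ⟨u, by rw [Scheme.Hom.comp_apply, hu]; rfl⟩
    · exact inferInstanceAs (Flat (Limits.pullback.fst Uo.hom G.hom))
    · rw [hπs]; exact hpb
    · rw [hpr]
      exact Groth.Agent.Lib.Helper14.PrincBundle.isPullback_whiskerLeft_snd_left G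
        (Groth.Agent.Lib.Helper14.LocIsotriv.rho a s)
    · have := (Groth.Agent.Lib.Helper14.LocIsotriv.isPullback_mT G Uo).map (Over.forget _)
      simpa only [Over.forget_obj, Over.forget_map] using this
    · rw [hm, ← Over.comp_left, ← Over.comp_left,
        Groth.Agent.Lib.Helper14.LocIsotriv.mT_rho a s]
  constructor
  · -- `PsiY` is an isomorphism
    obtain ⟨c, hc⟩ : ∃ c : (G ⊗ P).left ⟶ Limits.pullback π.left π.left,
      c = GIT.PsiY a π hinv := ⟨_, rfl⟩
    rw [← hc]
    obtain ⟨fstB, hfstB⟩ : ∃ fstB : Limits.pullback π.left π.left ⟶ P.left,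
      fstB = Limits.pullback.fst π.left π.left := ⟨_, rfl⟩
    obtain ⟨sndB, hsndB⟩ : ∃ sndB : Limits.pullback π.left π.left ⟶ P.left,
      sndB = Limits.pullback.snd π.left π.left := ⟨_, rfl⟩
    have hB : IsPullback fstB sndB πs πs := by
      rw [hfstB, hsndB, hπs]; exact IsPullback.of_hasPullback _ _
    have hc1 : c ≫ fstB = m := by
      rw [hc, hfstB, hm]; exact Limits.pullback.lift_fst _ _ _
    have hc2 : c ≫ sndB = pr := by
      rw [hc, hsndB, hpr]; exact Limits.pullback.lift_snd _ _ _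
    suffices h : MorphismProperty.isomorphisms Scheme.{u} c from h
    refine Groth.Agent.Lib.Helper14.LocIsotriv.descend_local
      (MorphismProperty.isomorphisms Scheme.{u}) c fun b => ?_
    obtain ⟨U, hxU, U', ι', T, fstT, ρ, A', a', sndT, mTs, hfl, hqc, hrange, -, hstar, hprod,
      htors, heq⟩ := key ((sndB ≫ πs) b)
    have hρfl : Flat ρ := MorphismProperty.of_isPullback (P := @Flat) hstar hfl
    have hρqc : QuasiCompact ρ := MorphismProperty.of_isPullback (P := @QuasiCompact) hstar hqc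
    have hρrange : Set.range ρ = πs ⁻¹' (U : Set X.left) := by
      ext p
      constructor
      · rintro ⟨t, rfl⟩
        show πs (ρ t) ∈ (U : Set X.left)
        rw [← hrange, ← Scheme.Hom.comp_apply, ← hstar.w, Scheme.Hom.comp_apply]
        exact ⟨_, rfl⟩
      · intro hp
        have hp' : πs p ∈ Set.range ι' := by rw [hrange]; exact hp
        obtain ⟨u, hu⟩ := hp'
        obtain ⟨t, -, ht⟩ :=
          Groth.Agent.Lib.Helper14.LocIsotriv.exists_preimage_of_isPullback hstar u p hu
        exact ⟨t, ht⟩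
    obtain ⟨b'₀, hb'₀⟩ : ∃ b'₀ : Limits.pullback sndB ρ ⟶ Limits.pullback π.left π.left,
      b'₀ = Limits.pullback.fst sndB ρ := ⟨_, rfl⟩
    obtain ⟨snd', hsnd'⟩ : ∃ snd' : Limits.pullback sndB ρ ⟶ T,
      snd' = Limits.pullback.snd sndB ρ := ⟨_, rfl⟩
    have hB' : IsPullback b'₀ snd' sndB ρ := by
      rw [hb'₀, hsnd']; exact IsPullback.of_hasPullback _ _
    have hb'fl : Flat b'₀ := by rw [hb'₀]; infer_instance
    have hb'qc : QuasiCompact b'₀ := by rw [hb'₀]; infer_instance
    have hb'range : Set.range b'₀ = (((sndB ≫ πs) ⁻¹ᵁ U : (Limits.pullback π.left π.left).Opens) :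
        Set ↥(Limits.pullback π.left π.left)) := by
      rw [hb'₀, Scheme.Pullback.range_fst, hρrange]
      rfl
    have hcomm : (a' ≫ c) ≫ sndB = sndT ≫ ρ := by
      rw [Category.assoc, hc2, hprod.w]
    obtain ⟨c', hc'1, hc'2⟩ : ∃ c' : A' ⟶ Limits.pullback sndB ρ,
        c' ≫ b'₀ = a' ≫ c ∧ c' ≫ snd' = sndT :=
      ⟨hB'.lift (a' ≫ c) sndT hcomm, hB'.lift_fst _ _ _, hB'.lift_snd _ _ _⟩
    -- `c'` is an isomorphism
    have hB'' : IsPullback (b'₀ ≫ fstB) snd' πs (ρ ≫ πs) := hB'.paste_horiz hB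
    have hA'' : IsPullback (a' ≫ m) sndT πs (ρ ≫ πs) := by
      have := htors.paste_horiz hstar.flip
      rwa [heq, hstar.w] at this
    have hc'iso : IsIso c' := by
      have : c' = (hA''.isoIsPullback _ _ hB'').hom := by
        apply hB''.hom_ext
        · rw [IsPullback.isoIsPullback_hom_fst, ← Category.assoc, hc'1, Category.assoc, hc1]
        · rw [IsPullback.isoIsPullback_hom_snd, hc'2]
      rw [this]; infer_instance
    have hsq : IsPullback a' c' c b'₀ := by
      refine (IsPullback.of_right ?_ hc'1 hB'.flip).flip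
      rw [hc'2, hc2]
      exact hprod.flip
    exact ⟨(sndB ≫ πs) ⁻¹ᵁ U, hxU, A', Limits.pullback sndB ρ, a', c', b'₀, hsq, hb'fl, hb'qc,
      hb'range, hc'iso⟩
  · -- flatness
    rw [← hπs]
    refine Groth.Agent.Lib.Helper14.LocIsotriv.descend_local @Flat πs fun x => ?_
    obtain ⟨U, hxU, U', ι', T, fstT, ρ, A', a', sndT, mTs, hfl, hqc, hrange, hfstfl, hstar, -,
      -, -⟩ := key x
    exact ⟨U, hxU, T, U', ρ, fstT, ι', hstar.flip, hfl, hqc, hrange, hfstfl⟩

end Groth.Agent.S14877
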