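import Groth.Statements.S14879
import Mathlib
-- import your own Groth.Agent.* helpers here

set_option autoImplicit false
universe u
open Finset
open AlgGrp

namespace Groth.Agent.S14879

open Equiv in
lemma core {R : Type*} [CommRing R] (p r : ℕ) (M : Matrix (Fin (p + r)) (Fin (p + r)) R)
    (a : Fin p → Fin (p + r)) (b : Fin r → Fin (p + r)) :
    ∑ π : Perm (Fin (p + r)), (((Perm.sign π : ℤˣ) : ℤ) : R) *
      (M.submatrix a (fun i => π.symm (Fin.castAdd r i))).det *
      (M.submatrix b (fun j => π.symm (Fin.natAdd p j))).det =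
    ((p.factorial * r.factorial : ℕ) : R) *
      (M.submatrix (Sum.elim a b) finSumFinEquiv).det := by
  classical
  have hdetN : (M.submatrix (Sum.elim a b) finSumFinEquiv).det =
      ∑ σ : Perm (Fin p ⊕ Fin r), (((Perm.sign σ : ℤˣ) : ℤ) : R) *
        ((∏ i, M (a i) (finSumFinEquiv (σ (Sum.inl i)))) *
          ∏ j, M (b j) (finSumFinEquiv (σ (Sum.inr j)))) := by
    rw [← Matrix.det_transpose, Matrix.det_apply']
    refine Finset.sum_congr rfl (fun σ _ => ?_)
    rw [Fintype.prod_sum_type]
    simp [Matrix.transpose_apply, Matrix.submatrix_apply]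
  have hdetA : ∀ π : Perm (Fin (p + r)),
      (M.submatrix a (fun i => π.symm (Fin.castAdd r i))).det =
        ∑ τ : Perm (Fin p), (((Perm.sign τ : ℤˣ) : ℤ) : R) *
          ∏ i, M (a i) (π.symm (Fin.castAdd r (τ i))) := by
    intro π
    rw [← Matrix.det_transpose, Matrix.det_apply']
    simp [Matrix.transpose_apply, Matrix.submatrix_apply]
  have hdetB : ∀ π : Perm (Fin (p + r)),
      (M.submatrix b (fun j => π.symm (Fin.natAdd p j))).det =
        ∑ ρ : Perm (Fin r), (((Perm.sign ρ : ℤˣ) : ℤ) : R) *
          ∏ j, M (b j) (π.symm (Fin.natAdd p (ρ j))) := by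
    intro π
    rw [← Matrix.det_transpose, Matrix.det_apply']
    simp [Matrix.transpose_apply, Matrix.submatrix_apply]
  have key : ∀ (τ : Perm (Fin p)) (ρ : Perm (Fin r)),
      ∑ π : Perm (Fin (p + r)), (((Perm.sign π : ℤˣ) : ℤ) : R) *
        ((((Perm.sign τ : ℤˣ) : ℤ) : R) * ∏ i, M (a i) (π.symm (Fin.castAdd r (τ i)))) *
        ((((Perm.sign ρ : ℤˣ) : ℤ) : R) * ∏ j, M (b j) (π.symm (Fin.natAdd p (ρ j)))) =
      (M.submatrix (Sum.elim a b) finSumFinEquiv).det := by
    intro τ ρ
    rw [hdetN]
    let E : Perm (Fin (p + r)) ≃ Perm (Fin p ⊕ Fin r) :=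
      (Equiv.inv _).trans ((finSumFinEquiv.symm.permCongr).trans (Equiv.mulRight (Perm.sumCongr τ ρ)))
    apply Fintype.sum_equiv E
    intro π
    have hE : E π = (finSumFinEquiv.symm.permCongr π⁻¹) * Perm.sumCongr τ ρ := rfl
    have hsign : Perm.sign (E π) = Perm.sign π * Perm.sign τ * Perm.sign ρ := by
      rw [hE, Perm.sign_mul, Perm.sign_permCongr, Perm.sign_inv, Perm.sign_sumCongr, mul_assoc]
    have hl : ∀ i, finSumFinEquiv ((E π) (Sum.inl i)) = π.symm (Fin.castAdd r (τ i)) := by
      intro i
      rw [hE]
      simp [Equiv.permCongr_apply]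
    have hr : ∀ j, finSumFinEquiv ((E π) (Sum.inr j)) = π.symm (Fin.natAdd p (ρ j)) := by
      intro j
      rw [hE]
      simp [Equiv.permCongr_apply]
    rw [hsign]
    simp only [hl, hr]
    push_cast
    ring
  calc ∑ π : Perm (Fin (p + r)), (((Perm.sign π : ℤˣ) : ℤ) : R) *
        (M.submatrix a (fun i => π.symm (Fin.castAdd r i))).det *
        (M.submatrix b (fun j => π.symm (Fin.natAdd p j))).det
      = ∑ π : Perm (Fin (p + r)), ∑ τ : Perm (Fin p), ∑ ρ : Perm (Fin r),
          (((Perm.sign π : ℤˣ) : ℤ) : R) *
          ((((Perm.sign τ : ℤˣ) : ℤ) : R) * ∏ i, M (a i) (π.symm (Fin.castAdd r (τ i)))) *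
          ((((Perm.sign ρ : ℤˣ) : ℤ) : R) * ∏ j, M (b j) (π.symm (Fin.natAdd p (ρ j)))) := by
        refine Finset.sum_congr rfl (fun π _ => ?_)
        rw [hdetA, hdetB, mul_assoc, Finset.sum_mul_sum, Finset.mul_sum]
        refine Finset.sum_congr rfl (fun τ _ => ?_)
        rw [Finset.mul_sum]
        refine Finset.sum_congr rfl (fun ρ _ => ?_)
        ring
    _ = ∑ τ : Perm (Fin p), ∑ ρ : Perm (Fin r), ∑ π : Perm (Fin (p + r)),
          (((Perm.sign π : ℤˣ) : ℤ) : R) *
          ((((Perm.sign τ : ℤˣ) : ℤ) : R) * ∏ i, M (a i) (π.symm (Fin.castAdd r (τ i)))) *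
          ((((Perm.sign ρ : ℤˣ) : ℤ) : R) * ∏ j, M (b j) (π.symm (Fin.natAdd p (ρ j)))) := by
        rw [Finset.sum_comm]
        refine Finset.sum_congr rfl (fun τ _ => ?_)
        rw [Finset.sum_comm]
    _ = ∑ τ : Perm (Fin p), ∑ ρ : Perm (Fin r),
          (M.submatrix (Sum.elim a b) finSumFinEquiv).det := by
        refine Finset.sum_congr rfl (fun τ _ => ?_)
        refine Finset.sum_congr rfl (fun ρ _ => ?_)
        exact key τ ρ
    _ = _ := by
        simp only [Finset.sum_const, Finset.card_univ, Fintype.card_perm, Fintype.card_fin,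
          nsmul_eq_mul]
        push_cast
        ring

lemma sign_shuffle {n : ℕ} (p : ℕ) (σ : Equiv.Perm (Fin n)) (A : Finset (Fin n))
    (hmem : ∀ i, σ i ∈ A ↔ i.val < p)
    (hmono : ∀ i j, i < j → (j.val < p ∨ p ≤ i.val) → σ i < σ j) :
    ((Equiv.Perm.sign σ : ℤˣ) : ℤ) =
      (-1) ^ ((A ×ˢ Aᶜ).filter (fun ab => ab.2 < ab.1)).card := by
  classical
  rw [Equiv.Perm.sign_eq_prod_prod_Iio, Finset.prod_sigma', Finset.prod_ite]
  simp only [Finset.prod_const_one, one_mul, Finset.prod_const]
  rw [Units.val_pow_eq_pow_val, Units.val_neg, Units.val_one]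
  congr 1
  apply Finset.card_bij (fun x _ => (σ x.2, σ x.1))
  · intro x hx
    simp only [Finset.mem_filter, Finset.mem_sigma, Finset.mem_univ, true_and, Finset.mem_Iio] at hx
    obtain ⟨hlt, hnot⟩ := hx
    have h1 : ¬ (x.1.val < p ∨ p ≤ x.2.val) := fun h => hnot (hmono _ _ hlt h)
    have h2 : x.2.val < p := by omega
    have h3 : ¬ x.1.val < p := by omega
    simp only [Finset.mem_filter, Finset.mem_product, Finset.mem_compl]
    refine ⟨⟨(hmem _).2 h2, fun h => h3 ((hmem _).1 h)⟩, ?_⟩
    rcases lt_trichotomy (σ x.2) (σ x.1) with h | h | h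
    · exact absurd h hnot
    · exact absurd (σ.injective h) (ne_of_lt hlt)
    · exact h
  · intro x hx y hy hxy
    simp only [Prod.mk.injEq] at hxy
    have e1 := σ.injective hxy.1
    have e2 := σ.injective hxy.2
    cases x; cases y
    simp only at e1 e2
    subst e1 e2
    rfl
  · intro ab hab
    simp only [Finset.mem_filter, Finset.mem_product, Finset.mem_compl] at hab
    obtain ⟨⟨h1, h2⟩, h3⟩ := hab
    refine ⟨⟨σ.symm ab.2, σ.symm ab.1⟩, ?_, ?_⟩
    · simp only [Finset.mem_filter, Finset.mem_sigma, Finset.mem_univ, true_and, Finset.mem_Iio,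
        Equiv.apply_symm_apply]
      have h4 : (σ.symm ab.1).val < p := (hmem _).1 (by simpa using h1)
      have h5 : ¬ (σ.symm ab.2).val < p := fun h => h2 (by simpa using (hmem (σ.symm ab.2)).2 h)
      refine ⟨?_, not_lt.2 h3.le⟩
      apply Fin.lt_def.2
      omega
    · simp

/-- Let k be a field of characteristic zero, n = p + r with p, r ≥ 1, M an n × n matrix over k, A a set
of p row indices and B a set of r row indices, both listed increasingly. For a permutation π of the
indices, with permutation matrix P_π, let Y_A(M·P_π) be the minor of M·P_π on the rows A and the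
first p columns, and Z_B(M·P_π) the minor on the rows B and the last r columns. Then the sum over
all π of sign(π)·Y_A(M·P_π)·Z_B(M·P_π) equals p!·r!·(−1)^N·det M when B is the complement of A,
where N is the number of pairs (a, b) with a in A, b outside A and b < a, and equals 0 otherwise.
Taking det M = 1 this says that the pairing (f, h) ↦ Σ_π sign(π) f(π) h(π) between the spans of the
left p-minors and of the right r-minors is invariant under left translation by matrices of
determinant one and pairs Y_A with the signed complementary minor to p!·r!. (The published statement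
asserts that the two families of minors are dual bases for this pairing, that is, the value 1 in
place of p!·r!; the p!·r! permutations preserving the two column blocks each contribute the same
signed term, so this row carries that factor, which is 1 only for n = 2.) -/
theorem result (k : Type u) [Field k] [CharZero k]
    (p r : ℕ) (hp : 1 ≤ p) (hr : 1 ≤ r) (M : Matrix (Fin (p + r)) (Fin (p + r)) k)
    (A : Finset (Fin (p + r))) (hA : A.card = p) (B : Finset (Fin (p + r))) (hB : B.card = r) :
    ∑ π : Equiv.Perm (Fin (p + r)), (((Equiv.Perm.sign π : ℤˣ) : ℤ) : k) *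
      ((M * π.permMatrix k).submatrix (A.orderEmbOfFin hA) (Fin.castAdd r)).det *
      ((M * π.permMatrix k).submatrix (B.orderEmbOfFin hB) (Fin.natAdd p)).det =
    if B = Aᶜ then ((p.factorial * r.factorial : ℕ) : k) *
      (-1 : k) ^ ((A ×ˢ Aᶜ).filter (fun ab => ab.2 < ab.1)).card * M.det else 0 := by
  classical
  set a := A.orderEmbOfFin hA with ha
  set b := B.orderEmbOfFin hB with hb
  have hmat1 : ∀ π : Equiv.Perm (Fin (p + r)),
      (M * π.permMatrix k).submatrix a (Fin.castAdd r) =
        M.submatrix a (fun i => π.symm (Fin.castAdd r i)) := by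
    intro π
    unfold Equiv.Perm.permMatrix
    rw [PEquiv.mul_toMatrix_toPEquiv]
    rfl
  have hmat2 : ∀ π : Equiv.Perm (Fin (p + r)),
      (M * π.permMatrix k).submatrix b (Fin.natAdd p) =
        M.submatrix b (fun j => π.symm (Fin.natAdd p j)) := by
    intro π
    unfold Equiv.Perm.permMatrix
    rw [PEquiv.mul_toMatrix_toPEquiv]
    rfl
  have h1 := core p r M a b
  simp only [hmat1, hmat2]
  rw [h1]
  have hamem : ∀ i, a i ∈ A := fun i => Finset.orderEmbOfFin_mem A hA i
  have hbmem : ∀ j, b j ∈ B := fun j => Finset.orderEmbOfFin_mem B hB j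
  split_ifs with hBA
  · -- complementary case
    have hinj : Function.Injective (Sum.elim a b) := by
      intro s t hst
      cases s with
      | inl i =>
        cases t with
        | inl i' => simp only [Sum.elim_inl] at hst; rw [a.injective hst]
        | inr j' =>
          simp only [Sum.elim_inl, Sum.elim_inr] at hst
          have h2 := hbmem j'
          rw [hBA, Finset.mem_compl, ← hst] at h2
          exact absurd (hamem i) h2
      | inr j =>
        cases t with
        | inl i' =>
          simp only [Sum.elim_inl, Sum.elim_inr] at hst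
          have h2 := hbmem j
          rw [hBA, Finset.mem_compl, hst] at h2
          exact absurd (hamem i') h2
        | inr j' => simp only [Sum.elim_inr] at hst; rw [b.injective hst]
    have hbij : Function.Bijective (fun x : Fin (p + r) => Sum.elim a b (finSumFinEquiv.symm x)) := by
      rw [← Finite.injective_iff_bijective]
      exact hinj.comp finSumFinEquiv.symm.injective
    set σ : Equiv.Perm (Fin (p + r)) := Equiv.ofBijective _ hbij with hσ
    have hσl : ∀ i, σ (finSumFinEquiv (Sum.inl i)) = a i := by
      intro i; simp [hσ]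
    have hσr : ∀ j, σ (finSumFinEquiv (Sum.inr j)) = b j := by
      intro j; simp [hσ]
    have hN : M.submatrix (Sum.elim a b) finSumFinEquiv =
        (M.submatrix σ id).submatrix finSumFinEquiv finSumFinEquiv := by
      ext s t
      cases s with
      | inl i => simp only [Matrix.submatrix_apply, hσl, Sum.elim_inl, id]
      | inr j => simp only [Matrix.submatrix_apply, hσr, Sum.elim_inr, id]
    rw [hN, Matrix.det_submatrix_equiv_self, Matrix.det_permute]
    have hs := sign_shuffle p σ A ?_ ?_
    · rw [hs]
      push_cast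
      ring
    · intro i
      obtain ⟨s, rfl⟩ := finSumFinEquiv.surjective i
      cases s with
      | inl i' =>
        rw [hσl]
        simp only [finSumFinEquiv_apply_left, Fin.coe_castAdd]
        exact ⟨fun _ => i'.isLt, fun _ => hamem i'⟩
      | inr j' =>
        rw [hσr]
        simp only [finSumFinEquiv_apply_right, Fin.coe_natAdd]
        constructor
        · intro h
          have h2 := hbmem j'
          rw [hBA, Finset.mem_compl] at h2
          exact absurd h h2
        · intro h; omega
    · intro i j hij hcond
      obtain ⟨s, rfl⟩ := finSumFinEquiv.surjective i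
      obtain ⟨t, rfl⟩ := finSumFinEquiv.surjective j
      cases s with
      | inl i' =>
        cases t with
        | inl j' =>
          rw [hσl, hσl]
          apply a.strictMono
          simp only [finSumFinEquiv_apply_left, Fin.lt_def, Fin.coe_castAdd] at hij
          exact Fin.lt_def.2 hij
        | inr j' =>
          simp only [finSumFinEquiv_apply_left, finSumFinEquiv_apply_right, Fin.coe_castAdd,
            Fin.coe_natAdd] at hcond
          have := i'.isLt
          omega
      | inr i' =>
        cases t with
        | inl j' =>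
          simp only [finSumFinEquiv_apply_left, finSumFinEquiv_apply_right, Fin.lt_def,
            Fin.coe_castAdd, Fin.coe_natAdd] at hij
          have := j'.isLt
          omega
        | inr j' =>
          rw [hσr, hσr]
          apply b.strictMono
          simp only [finSumFinEquiv_apply_right, Fin.lt_def, Fin.coe_natAdd] at hij
          exact Fin.lt_def.2 (by omega)
  · -- non-complementary case: a repeated row
    have hex : ∃ x, x ∈ A ∧ x ∈ B := by
      by_contra hcon
      apply hBA
      have hsub : B ⊆ Aᶜ := by
        intro x hx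
        rw [Finset.mem_compl]
        intro hxA
        exact hcon ⟨x, hxA, hx⟩
      apply Finset.eq_of_subset_of_card_le hsub
      rw [Finset.card_compl, hA, hB, Fintype.card_fin]
      omega
    obtain ⟨x, hxA, hxB⟩ := hex
    have h2 : x ∈ Set.range a := by
      rw [ha, Finset.range_orderEmbOfFin]; exact hxA
    have h3 : x ∈ Set.range b := by
      rw [hb, Finset.range_orderEmbOfFin]; exact hxB
    obtain ⟨i, hi⟩ := h2
    obtain ⟨j, hj⟩ := h3
    have hdet : (M.submatrix (Sum.elim a b) finSumFinEquiv).det = 0 := by
      apply Matrix.det_zero_of_row_eq (i := Sum.inl i) (j := Sum.inr j) (by simp)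
      funext t
      simp only [Matrix.submatrix_apply, Sum.elim_inl, Sum.elim_inr, hi, hj]
    rw [hdet, mul_zero]

end Groth.Agent.S14879
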