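import Groth.Statements.S14885
import Mathlib

set_option autoImplicit false
universe u v
open CategoryTheory TopologicalSpace Opposite AlgebraicGeometry Topology
open AlgGrp

namespace Groth.Agent.S14885

theorem exists_lift {A B C : CommRingCat.{u}} (p : A ⟶ B) (hp : Function.Injective p)
    (t : C ⟶ B) (ht : ∀ s, t s ∈ Set.range p) : ∃ c : C ⟶ A, c ≫ p = t := by
  let e : A ≃+* p.hom.range := RingEquiv.ofBijective p.hom.rangeRestrict
    ⟨fun a b hab => hp (congrArg Subtype.val hab), p.hom.rangeRestrict_surjective⟩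
  refine ⟨CommRingCat.ofHom (e.symm.toRingHom.comp
    (t.hom.codRestrict p.hom.range (fun s => ht s))), ?_⟩
  ext s
  have : p.hom.rangeRestrict (e.symm (t.hom.codRestrict p.hom.range (fun s => ht s) s)) =
      t.hom.codRestrict p.hom.range (fun s => ht s) s := e.apply_symm_apply _
  exact congrArg Subtype.val this

theorem aux4 {𝒞 : Type*} [Category 𝒞] {Z1 Z2 Y1 Y2 X1 X2 X1' X2' : 𝒞}
    (zi : Z1 ⟶ Z2) (f1 : Z1 ⟶ X1) (f2 : Z2 ⟶ X2) (x1 : X1 ⟶ X2)
    (yj : Y1 ⟶ Y2) (p1 : Y1 ⟶ X1') (p2 : Y2 ⟶ X2') (x2 : X1' ⟶ X2')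
    (c1 : Z1 ⟶ Y1) (c2 : Z2 ⟶ Y2) (e1 : X1 ⟶ X1') (e2 : X2 ⟶ X2')
    (n1 : zi ≫ f2 = f1 ≫ x1) (n2 : yj ≫ p2 = p1 ≫ x2)
    (s1 : c1 ≫ p1 = f1 ≫ e1) (s2 : c2 ≫ p2 = f2 ≫ e2) (thin : x1 ≫ e2 = e1 ≫ x2) :
    (zi ≫ c2) ≫ p2 = (c1 ≫ yj) ≫ p2 := by
  rw [Category.assoc, s2, reassoc_of% n1, thin, Category.assoc, n2, reassoc_of% s1]

theorem aux5 {𝒞 : Type*} [Category 𝒞] {A B C D : 𝒞} (c : A ⟶ B) (p : B ⟶ C) (w : C ⟶ D)
    (a : A ⟶ D) (e : D ⟶ C) (s : c ≫ p = a ≫ e) (hw : e ≫ w = 𝟙 D) : (c ≫ p) ≫ w = a := by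
  rw [s, Category.assoc, hw, Category.comp_id]

theorem aux6 {𝒞 : Type*} [Category 𝒞] {A B1 B2 C1 C2 : 𝒞} (a1 : A ⟶ B1) (a2 : A ⟶ B2)
    (p1 : B1 ⟶ C1) (p2 : B2 ⟶ C2) (x : C2 ⟶ C1) (x' : C1 ⟶ C2) (y : B1 ⟶ B2)
    (e1 : a1 ≫ p1 = (a2 ≫ p2) ≫ x) (nat : y ≫ p2 = p1 ≫ x') (thin : x ≫ x' = 𝟙 C2) :
    (a1 ≫ y) ≫ p2 = a2 ≫ p2 := by
  rw [Category.assoc, nat, reassoc_of% e1, thin, Category.comp_id]

section
variable {X Y : SheafedSpace CommRingCat.{u}} {Γ : Type v} [Group Γ]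
    (τ : Γ →* Aut X) (π : X ⟶ Y) (hτ : ∀ g : Γ, (τ g).hom ≫ π = π)
    (h1 : IsQuotientMap π.hom.base)
    (h2 : ∀ x x' : X, π.hom.base x = π.hom.base x' ↔ ∃ g : Γ, (τ g).hom.hom.base x = x')
    (h3 : ∀ V : Opens Y, Function.Injective (π.hom.c.app (op V)) ∧
      Set.range (π.hom.c.app (op V)) =
        {s | ∀ g : Γ, (τ g).hom.hom.c.app (op ((Opens.map π.hom.base).obj V)) s =
          X.presheaf.map (eqToHom (congrArg (fun f : X ⟶ Y => op ((Opens.map f.hom.base).obj V)) (hτ g).symm)) s})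
    {Z : SheafedSpace CommRingCat.{u}} (f : X ⟶ Z) (hf : ∀ g : Γ, (τ g).hom ≫ f = f)

theorem aux3 {𝒞 : Type*} [Category 𝒞] {A B C D C' : 𝒞} (a : A ⟶ B) (p : B ⟶ C) (q : C ⟶ D)
    (r : B ⟶ C') (s : C' ⟶ D) (h : p ≫ q = r ≫ s) : (a ≫ p) ≫ q = (a ≫ r) ≫ s := by
  simp only [Category.assoc, h]

include h2 hf in
theorem hfib (x x' : X) (hx : π.hom.base x = π.hom.base x') : f.hom.base x = f.hom.base x' := by
  obtain ⟨g, rfl⟩ := (h2 x x').1 hx
  exact (congrArg (fun k : X ⟶ Z => k.hom.base x) (hf g)).symm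

/-- the base map -/
noncomputable def vb : (Y : TopCat) ⟶ (Z : TopCat) :=
  TopCat.ofHom (h1.lift f.hom.base.hom (fun x y hxy => hfib τ π h2 f hf x y hxy))

theorem hb : π.hom.base ≫ vb τ π h1 h2 f hf = f.hom.base := by
  ext x
  exact congrFun (congrArg DFunLike.coe (h1.lift_comp f.hom.base.hom
    (fun x y hxy => hfib τ π h2 f hf x y hxy))) x

theorem eW (W : Opens Z) : (Opens.map f.hom.base).obj W =
    (Opens.map π.hom.base).obj ((Opens.map (vb τ π h1 h2 f hf)).obj W) := by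
  rw [← hb τ π h1 h2 f hf]; rfl

/-- the map to invariant sections -/
noncomputable def tW (W : Opens Z) : Z.presheaf.obj (op W) ⟶
    X.presheaf.obj (op ((Opens.map π.hom.base).obj ((Opens.map (vb τ π h1 h2 f hf)).obj W))) :=
  f.hom.c.app (op W) ≫ X.presheaf.map (eqToHom (congrArg op (eW τ π h1 h2 f hf W)))

theorem tW_inv (W : Opens Z) (g : Γ) :
    tW τ π h1 h2 f hf W ≫ (τ g).hom.hom.c.app
      (op ((Opens.map π.hom.base).obj ((Opens.map (vb τ π h1 h2 f hf)).obj W))) =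
    tW τ π h1 h2 f hf W ≫ X.presheaf.map (eqToHom (congrArg (fun k : X ⟶ Y =>
      op ((Opens.map k.hom.base).obj ((Opens.map (vb τ π h1 h2 f hf)).obj W))) (hτ g).symm)) := by
  have e1 := SheafedSpace.congr_hom_app (hf g) (op W)
  rw [SheafedSpace.comp_hom_c_app] at e1
  have e2 := (τ g).hom.hom.c.naturality (eqToHom (congrArg op (eW τ π h1 h2 f hf W)))
  unfold tW
  rw [Category.assoc, e2, ← Category.assoc, e1]
  refine aux3 _ _ _ _ _ ?_
  exact (X.presheaf.map_comp _ _).symm.trans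
    ((congrArg X.presheaf.map (Subsingleton.elim _ _)).trans (X.presheaf.map_comp _ _))

include hτ h3 in
theorem tW_range (W : Opens Z) (s : Z.presheaf.obj (op W)) :
    tW τ π h1 h2 f hf W s ∈ Set.range (π.hom.c.app (op ((Opens.map (vb τ π h1 h2 f hf)).obj W))) := by
  rw [(h3 _).2]
  intro g
  exact congrArg (fun k => (ConcreteCategory.hom k) s) (tW_inv τ π hτ h1 h2 f hf W g)

/-- the section map -/
noncomputable def cW (W : Opens Z) : Z.presheaf.obj (op W) ⟶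
    Y.presheaf.obj (op ((Opens.map (vb τ π h1 h2 f hf)).obj W)) :=
  (exists_lift _ (h3 _).1 (tW τ π h1 h2 f hf W) (tW_range τ π hτ h1 h2 h3 f hf W)).choose

theorem cW_spec (W : Opens Z) : cW τ π hτ h1 h2 h3 f hf W ≫
    π.hom.c.app (op ((Opens.map (vb τ π h1 h2 f hf)).obj W)) = tW τ π h1 h2 f hf W :=
  (exists_lift _ (h3 _).1 (tW τ π h1 h2 f hf W) (tW_range τ π hτ h1 h2 h3 f hf W)).choose_spec

include h3 in
theorem mono_pi (V : Opens Y) : Mono (π.hom.c.app (op V)) :=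
  ConcreteCategory.mono_of_injective _ (h3 V).1

/-- the sheaf map -/
noncomputable def vc : Z.presheaf ⟶ (vb τ π h1 h2 f hf) _* Y.presheaf where
  app W := cW τ π hτ h1 h2 h3 f hf W.unop
  naturality W₁ W₂ i := by
    haveI := mono_pi τ π hτ h3 ((Opens.map (vb τ π h1 h2 f hf)).obj W₂.unop)
    rw [← cancel_mono (π.hom.c.app (op ((Opens.map (vb τ π h1 h2 f hf)).obj W₂.unop)))]
    refine aux4 _ _ _ _ _ _ _ _ _ _ _ _ (f.hom.c.naturality i)
      (π.hom.c.naturality ((Opens.map (vb τ π h1 h2 f hf)).op.map i))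
      (cW_spec τ π hτ h1 h2 h3 f hf W₁.unop) (cW_spec τ π hτ h1 h2 h3 f hf W₂.unop) ?_
    exact (X.presheaf.map_comp _ _).symm.trans
      ((congrArg X.presheaf.map (Subsingleton.elim _ _)).trans (X.presheaf.map_comp _ _))

/-- the descended morphism of presheafed spaces -/
noncomputable def fbarP : Y.toPresheafedSpace ⟶ Z.toPresheafedSpace :=
  ⟨vb τ π h1 h2 f hf, vc τ π hτ h1 h2 h3 f hf⟩

theorem comp_fbarP : π.hom ≫ fbarP τ π hτ h1 h2 h3 f hf = f.hom := by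
  refine PresheafedSpace.ext _ _ (hb τ π h1 h2 f hf) ?_
  refine TopCat.Presheaf.ext (fun W' => ?_)
  erw [TopCat.Presheaf.comp_app, PresheafedSpace.comp_c_app]
  refine aux5 _ _ _ _ _ (cW_spec τ π hτ h1 h2 h3 f hf W') ?_
  rw [Functor.whiskerRight_app, eqToHom_app]
  exact (X.presheaf.map_comp _ _).symm.trans
    ((congrArg X.presheaf.map (Subsingleton.elim _ _)).trans (X.presheaf.map_id _))

include hτ h1 h3 in
theorem uniq (k₁ k₂ : Y ⟶ Z) (hk : π ≫ k₁ = π ≫ k₂) : k₁ = k₂ := by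
  have hbase : k₁.hom.base = k₂.hom.base := by
    ext y
    obtain ⟨x, rfl⟩ := h1.surjective y
    exact congrArg (fun k : X ⟶ Z => k.hom.base x) hk
  refine SheafedSpace.ext _ _ hbase ?_
  refine TopCat.Presheaf.ext (fun W' => ?_)
  have := mono_pi τ π hτ h3 ((Opens.map k₂.hom.base).obj W')
  rw [← cancel_mono (π.hom.c.app (op ((Opens.map k₂.hom.base).obj W')))]
  have e1 := SheafedSpace.congr_hom_app hk (op W')
  rw [SheafedSpace.comp_hom_c_app, SheafedSpace.comp_hom_c_app] at e1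
  erw [TopCat.Presheaf.comp_app]
  rw [Functor.whiskerRight_app, eqToHom_app]
  refine aux6 _ _ _ _ _ _ _ e1 (π.hom.c.naturality _) ?_
  exact (X.presheaf.map_comp _ _).symm.trans
    ((congrArg X.presheaf.map (Subsingleton.elim _ _)).trans (X.presheaf.map_id _))

end


/-- Let a group Γ act on a ringed space X (a topological space with a sheaf of rings) by automorphisms
τ_g, and let π : X → Y be a Γ-invariant morphism of ringed spaces which exhibits Y as the quotient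
ringed space X/Γ: the underlying continuous map of π is a topological quotient map whose fibres are
exactly the Γ-orbits, and for every open subset V of Y the ring map O_Y(V) → O_X(π⁻¹V) is injective
with image the sections s satisfying τ_g^♯(s) = s for all g. Then (Y, π) is a categorical quotient
for the action in the category of ringed spaces: every morphism of ringed spaces f : X → Z with f ∘
τ_g = f for all g (as morphisms of ringed spaces) factors uniquely as f = f̄ ∘ π. -/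
theorem result (X Y : SheafedSpace CommRingCat.{u}) (Γ : Type v) [Group Γ]
    (τ : Γ →* Aut X) (π : X ⟶ Y) (hτ : ∀ g : Γ, (τ g).hom ≫ π = π)
    (h1 : IsQuotientMap π.hom.base)
    (h2 : ∀ x x' : X, π.hom.base x = π.hom.base x' ↔ ∃ g : Γ, (τ g).hom.hom.base x = x')
    (h3 : ∀ V : Opens Y, Function.Injective (π.hom.c.app (op V)) ∧
      Set.range (π.hom.c.app (op V)) =
        {s | ∀ g : Γ, (τ g).hom.hom.c.app (op ((Opens.map π.hom.base).obj V)) s =
          X.presheaf.map (eqToHom (congrArg (fun f : X ⟶ Y => op ((Opens.map f.hom.base).obj V)) (hτ g).symm)) s})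
    (Z : SheafedSpace CommRingCat.{u}) (f : X ⟶ Z) (hf : ∀ g : Γ, (τ g).hom ≫ f = f) :
    ∃! fbar : Y ⟶ Z, π ≫ fbar = f := by
  refine ⟨InducedCategory.homMk (fbarP τ π hτ h1 h2 h3 f hf),
    InducedCategory.hom_ext (comp_fbarP τ π hτ h1 h2 h3 f hf), fun k hk => ?_⟩
  refine uniq τ π hτ h1 h3 k _ (hk.trans ?_)
  exact (InducedCategory.hom_ext (comp_fbarP τ π hτ h1 h2 h3 f hf)).symm

end Groth.Agent.S14885
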