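import Groth.Statements.S14886
import Groth.Agent.Lib.Helper14.AssocBundle
import Mathlib

set_option autoImplicit false
universe u
open CategoryTheory MonoidalCategory CartesianMonoidalCategory MonObj GrpObj AlgebraicGeometry CategoryTheory.Limits
open AlgGrp

namespace Groth.Agent.S14886

/-- Over an algebraically closed field k of characteristic zero, let G be a connected algebraic group (a
smooth connected k-group scheme of finite type) and H an algebraic subgroup (a smooth closed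
subgroup scheme, j : H → G). Let π : G → B be the quotient of G by H (a geometric quotient for the
action h·g = g·h⁻¹ which is a principal H-bundle: (h, g) ↦ (g·h⁻¹, g) is an isomorphism H × G ≅ G
×_B G and π is flat). Let X and Y be varieties (reduced, separated, of finite type over k) with
H-actions, in each of which every finite set of points lies in an affine open subset, and let qX : G
× X → QX, qY : G × Y → QY and qXY : G × (X × Y) → QXY be the associated bundles G_H(X), G_H(Y) and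
G_H(X × Y): geometric quotients (invariant, surjective, open, fibre-pair map surjective on points,
sections = invariant sections) which are principal H-bundles, for the actions h·(g, x) = (g·h⁻¹,
h·x), h·(g, y) = (g·h⁻¹, h·y) and h·(g, x, y) = (g·h⁻¹, h·x, h·y), with QX, QY, QXY varieties over B
= G/H through pX, pY, pXY satisfying p ∘ q = π ∘ pr₁. Let fX : QXY → QX and fY : QXY → QY be the
morphisms over B induced by the projections, fX ∘ qXY = qX ∘ (id × pr₁) and fY ∘ qXY = qY ∘ (id ×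
pr₂). Then the square formed by fX, fY, pX, pY is cartesian: G_H(X × Y) is the fibre product of
G_H(X) and G_H(Y) over G/H. -/
theorem result (k : Type u) [Field k] [IsAlgClosed k] [CharZero k]
    (G H : Over (Spec (CommRingCat.of k))) [GrpObj G] [Smooth G.hom] [QuasiCompact G.hom]
    [ConnectedSpace ↥G.left] [GrpObj H] (j : H ⟶ G) [IsMonHom j] [IsClosedImmersion j.left] [Smooth H.hom]
    (B : Over (Spec (CommRingCat.of k))) [LocallyOfFiniteType B.hom] [QuasiCompact B.hom] [IsSeparated B.hom] [IsReduced B.left]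
    (r : AlgGrp.Action H G) (hr : ∀ (T : Over (Spec (CommRingCat.of k))) (h : T ⟶ H) (g : T ⟶ G),
      lift h g ≫ r.act = g * (h ≫ j)⁻¹)
    (π : G ⟶ B) (hπinv : GIT.IsInvariant r π)
    (hπ : (Function.Surjective π.left.base ∧ IsOpenMap π.left.base ∧
      Function.Surjective (GIT.PsiY r π hπinv).base ∧
      (∀ U : B.left.Opens, Function.Injective (π.left.app U) ∧
        Set.range (π.left.app U) = {f | GIT.IsInvSection r π U f}) ∧
      IsIso (GIT.PsiY r π hπinv) ∧ Flat π.left))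
    (X Y : Over (Spec (CommRingCat.of k))) [LocallyOfFiniteType X.hom] [QuasiCompact X.hom] [IsSeparated X.hom] [IsReduced X.left] [LocallyOfFiniteType Y.hom] [QuasiCompact Y.hom] [IsSeparated Y.hom] [IsReduced Y.left]
    (hFX : ∀ F : Finset ↥X.left, ∃ U : X.left.Opens, IsAffineOpen U ∧ (↑F : Set ↥X.left) ⊆ (U : Set ↥X.left))
    (hFY : ∀ F : Finset ↥Y.left, ∃ U : Y.left.Opens, IsAffineOpen U ∧ (↑F : Set ↥Y.left) ⊆ (U : Set ↥Y.left))
    (aX : AlgGrp.Action H X) (aY : AlgGrp.Action H Y)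
    (b : AlgGrp.Action H (G ⊗ X))
    (hb : ∀ (T : Over (Spec (CommRingCat.of k))) (h : T ⟶ H) (g : T ⟶ G) (x : T ⟶ X),
      lift h (lift g x) ≫ b.act = lift (g * (h ≫ j)⁻¹) (lift h x ≫ aX.act))
    (c : AlgGrp.Action H (G ⊗ Y))
    (hc : ∀ (T : Over (Spec (CommRingCat.of k))) (h : T ⟶ H) (g : T ⟶ G) (x : T ⟶ Y),
      lift h (lift g x) ≫ c.act = lift (g * (h ≫ j)⁻¹) (lift h x ≫ aY.act))
    (d : AlgGrp.Action H (G ⊗ (X ⊗ Y)))
    (hd : ∀ (T : Over (Spec (CommRingCat.of k))) (h : T ⟶ H) (g : T ⟶ G) (x : T ⟶ X) (y : T ⟶ Y),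
      lift h (lift g (lift x y)) ≫ d.act = lift (g * (h ≫ j)⁻¹) (lift (lift h x ≫ aX.act) (lift h y ≫ aY.act)))
    (QX QY QXY : Over (Spec (CommRingCat.of k))) [LocallyOfFiniteType QX.hom] [QuasiCompact QX.hom] [IsSeparated QX.hom] [IsReduced QX.left] [LocallyOfFiniteType QY.hom] [QuasiCompact QY.hom] [IsSeparated QY.hom] [IsReduced QY.left] [LocallyOfFiniteType QXY.hom] [QuasiCompact QXY.hom] [IsSeparated QXY.hom] [IsReduced QXY.left]
    (qX : G ⊗ X ⟶ QX) (hqXinv : GIT.IsInvariant b qX) (hqX : (Function.Surjective qX.left.base ∧ IsOpenMap qX.left.base ∧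
      Function.Surjective (GIT.PsiY b qX hqXinv).base ∧
      (∀ U : QX.left.Opens, Function.Injective (qX.left.app U) ∧
        Set.range (qX.left.app U) = {f | GIT.IsInvSection b qX U f}) ∧
      IsIso (GIT.PsiY b qX hqXinv) ∧ Flat qX.left))
    (qY : G ⊗ Y ⟶ QY) (hqYinv : GIT.IsInvariant c qY) (hqY : (Function.Surjective qY.left.base ∧ IsOpenMap qY.left.base ∧
      Function.Surjective (GIT.PsiY c qY hqYinv).base ∧
      (∀ U : QY.left.Opens, Function.Injective (qY.left.app U) ∧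
        Set.range (qY.left.app U) = {f | GIT.IsInvSection c qY U f}) ∧
      IsIso (GIT.PsiY c qY hqYinv) ∧ Flat qY.left))
    (qXY : G ⊗ (X ⊗ Y) ⟶ QXY) (hqXYinv : GIT.IsInvariant d qXY) (hqXY : (Function.Surjective qXY.left.base ∧ IsOpenMap qXY.left.base ∧
      Function.Surjective (GIT.PsiY d qXY hqXYinv).base ∧
      (∀ U : QXY.left.Opens, Function.Injective (qXY.left.app U) ∧
        Set.range (qXY.left.app U) = {f | GIT.IsInvSection d qXY U f}) ∧
      IsIso (GIT.PsiY d qXY hqXYinv) ∧ Flat qXY.left))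
    (pX : QX ⟶ B) (hpX : qX ≫ pX = fst G X ≫ π) (pY : QY ⟶ B) (hpY : qY ≫ pY = fst G Y ≫ π)
    (pXY : QXY ⟶ B) (hpXY : qXY ≫ pXY = fst G (X ⊗ Y) ≫ π)
    (fX : QXY ⟶ QX) (hfX : qXY ≫ fX = (G ◁ fst X Y) ≫ qX) (hfXp : fX ≫ pX = pXY)
    (fY : QXY ⟶ QY) (hfY : qXY ≫ fY = (G ◁ snd X Y) ≫ qY) (hfYp : fY ≫ pY = pXY) :
    IsPullback fX.left fY.left pX.left pY.left := by
  obtain ⟨-, -, -, -, hπiso, -⟩ := hπ
  obtain ⟨hqXs, -, -, -, hqXiso, hqXflat⟩ := hqX
  obtain ⟨hqYs, -, -, -, hqYiso, hqYflat⟩ := hqY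
  obtain ⟨hqXYs, -, -, -, hqXYiso, hqXYflat⟩ := hqXY
  haveI : Flat qX.left := hqXflat
  haveI : Flat qY.left := hqYflat
  haveI : Flat qXY.left := hqXYflat
  haveI : Surjective qX.left := ⟨hqXs⟩
  haveI : Surjective qY.left := ⟨hqYs⟩
  haveI : Surjective qXY.left := ⟨hqXYs⟩
  haveI : QuasiCompact (G ⊗ X).hom := by
    rw [Over.tensorObj_hom]
    infer_instance
  haveI : QuasiCompact (G ⊗ Y).hom := by
    rw [Over.tensorObj_hom]
    infer_instance
  haveI : QuasiCompact (X ⊗ Y).hom := by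
    rw [Over.tensorObj_hom]
    infer_instance
  haveI : QuasiCompact (G ⊗ (X ⊗ Y)).hom := by
    rw [Over.tensorObj_hom]
    infer_instance
  haveI : QuasiCompact (qX.left ≫ QX.hom) := by rw [Over.w qX]; infer_instance
  haveI : QuasiCompact qX.left := QuasiCompact.of_comp qX.left QX.hom
  haveI : QuasiCompact (qY.left ≫ QY.hom) := by rw [Over.w qY]; infer_instance
  haveI : QuasiCompact qY.left := QuasiCompact.of_comp qY.left QY.hom
  haveI : QuasiCompact (qXY.left ≫ QXY.hom) := by rw [Over.w qXY]; infer_instance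
  haveI : QuasiCompact qXY.left := QuasiCompact.of_comp qXY.left QXY.hom
  -- equivariance of the first projection `G × Y → G`
  have hequivY : c.act ≫ fst G Y = (H ◁ fst G Y) ≫ r.act := by
    have h1 := hc (H ⊗ (G ⊗ Y)) (fst H (G ⊗ Y)) (snd H (G ⊗ Y) ≫ fst G Y)
      (snd H (G ⊗ Y) ≫ snd G Y)
    have h2 := hr (H ⊗ (G ⊗ Y)) (fst H (G ⊗ Y)) (snd H (G ⊗ Y) ≫ fst G Y)
    have e1 : lift (fst H (G ⊗ Y)) (lift (snd H (G ⊗ Y) ≫ fst G Y) (snd H (G ⊗ Y) ≫ snd G Y)) =
        𝟙 _ := by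
      apply CartesianMonoidalCategory.hom_ext
      · simp
      · apply CartesianMonoidalCategory.hom_ext <;> simp
    have e2 : lift (fst H (G ⊗ Y)) (snd H (G ⊗ Y) ≫ fst G Y) = H ◁ fst G Y := by
      apply CartesianMonoidalCategory.hom_ext <;> simp
    rw [e1, Category.id_comp] at h1
    rw [e2] at h2
    rw [h1, lift_fst, h2]
  -- equivariance of `G × (X × Y) → G × X`
  have hequivA : d.act ≫ (G ◁ fst X Y) = (H ◁ (G ◁ fst X Y)) ≫ b.act := by
    have h1 := hd (H ⊗ (G ⊗ (X ⊗ Y))) (fst H (G ⊗ (X ⊗ Y))) (snd H (G ⊗ (X ⊗ Y)) ≫ fst G (X ⊗ Y))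
      (snd H (G ⊗ (X ⊗ Y)) ≫ snd G (X ⊗ Y) ≫ fst X Y)
      (snd H (G ⊗ (X ⊗ Y)) ≫ snd G (X ⊗ Y) ≫ snd X Y)
    have h2 := hb (H ⊗ (G ⊗ (X ⊗ Y))) (fst H (G ⊗ (X ⊗ Y))) (snd H (G ⊗ (X ⊗ Y)) ≫ fst G (X ⊗ Y))
      (snd H (G ⊗ (X ⊗ Y)) ≫ snd G (X ⊗ Y) ≫ fst X Y)
    have e1 : lift (fst H (G ⊗ (X ⊗ Y))) (lift (snd H (G ⊗ (X ⊗ Y)) ≫ fst G (X ⊗ Y))
        (lift (snd H (G ⊗ (X ⊗ Y)) ≫ snd G (X ⊗ Y) ≫ fst X Y)
          (snd H (G ⊗ (X ⊗ Y)) ≫ snd G (X ⊗ Y) ≫ snd X Y))) = 𝟙 _ := by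
      apply CartesianMonoidalCategory.hom_ext
      · simp
      · apply CartesianMonoidalCategory.hom_ext
        · simp
        · apply CartesianMonoidalCategory.hom_ext <;> simp
    have e2 : lift (fst H (G ⊗ (X ⊗ Y))) (lift (snd H (G ⊗ (X ⊗ Y)) ≫ fst G (X ⊗ Y))
        (snd H (G ⊗ (X ⊗ Y)) ≫ snd G (X ⊗ Y) ≫ fst X Y)) = H ◁ (G ◁ fst X Y) := by
      apply CartesianMonoidalCategory.hom_ext
      · simp
      · apply CartesianMonoidalCategory.hom_ext <;> simp
    rw [e1, Category.id_comp] at h1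
    rw [e2] at h2
    rw [h1, h2]
    apply CartesianMonoidalCategory.hom_ext <;> simp
  have h4 := Groth.Agent.Lib.Helper14.PrincBundle.isPullback_of_equivariant c qY hqYinv hqYiso
    r π hπinv hπiso (fst G Y) pY hequivY hpY
  have hA := Groth.Agent.Lib.Helper14.PrincBundle.isPullback_of_equivariant d qXY hqXYinv hqXYiso
    b qX hqXinv hqXiso (G ◁ fst X Y) fX hequivA hfX
  have hprod := (Groth.Agent.Lib.Helper14.AssocBundle.isPullback_whiskerLeft_fst_snd G X Y).map
    (Over.forget _)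
  simp only [Over.forget_obj, Over.forget_map] at hprod
  refine Groth.Agent.Lib.Helper14.AssocBundle.isPullback_of_cover (G ◁ fst X Y).left
    (G ◁ snd X Y).left (fst G X).left (fst G Y).left π.left qX.left qY.left qXY.left pX.left
    pY.left fX.left fY.left hprod h4 hA ?_ ?_ ?_
  · rw [← Over.comp_left, ← Over.comp_left, hfY]
  · rw [← Over.comp_left, ← Over.comp_left, hpX]
  · rw [← Over.comp_left, ← Over.comp_left, hfXp, hfYp]

end Groth.Agent.S14886
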