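import Groth.Statements.S14893
import Groth.Agent.Lib.Helper3.ValRank3

set_option autoImplicit false
universe u
open CAlg

namespace Groth.Agent.S14893

/-- Every valuation ring R is a filtered union of subrings which are valuation rings with finite
spectrum (finite height): there is a nonempty directed index type and a monotone family of such
subrings of R whose supremum is R. -/
theorem result
    (R : Type u) [CommRing R] [IsDomain R] [ValuationRing R] :
    ∃ (ι : Type u) (_ : Preorder ι) (_ : IsDirected ι (fun a b ↦ a ≤ b)) (_ : Nonempty ι)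
      (F : ι → Subring R), Monotone F ∧ (⨆ i, F i) = ⊤ ∧
        ∀ i, ValuationRing (F i) ∧ Finite (PrimeSpectrum (F i)) := by
  classical
  refine ⟨Finset R, inferInstance, inferInstance, ⟨∅⟩,
    Groth.Agent.Lib.helper3.ValRank.Fsub R, Groth.Agent.Lib.helper3.ValRank.Fsub_mono, ?_,
    fun s => ⟨Groth.Agent.Lib.helper3.ValRank.valuationRing_Fsub s,
      Groth.Agent.Lib.helper3.ValRank.finite_primeSpectrum_Fsub s⟩⟩
  rw [eq_top_iff]
  intro r _
  have h1 : r ∈ Groth.Agent.Lib.helper3.ValRank.Fsub R {r} :=
    Groth.Agent.Lib.helper3.ValRank.subset_Fsub _ (Finset.mem_singleton_self r)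
  exact (le_iSup (Groth.Agent.Lib.helper3.ValRank.Fsub R) {r}) h1

end Groth.Agent.S14893
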