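import Groth.Statements.S14901
import Mathlib
import Groth.Agent.Lib.Helper3.ChainDim
import Groth.Agent.Lib.Helper3.HeightMin
import Groth.Agent.Lib.Helper3.FTFieldChain
import Groth.Agent.Lib.Helper3.DimFun

set_option autoImplicit false
universe u
open MovLem

namespace Groth.Agent.S14901
open Groth.Agent.Lib.helper3.FTField Groth.Agent.Lib.helper3.DimIneq Groth.Agent.Lib.helper3.ChainDim

open AlgebraicGeometry CategoryTheory in
/-- a generization of a generic point of an irreducible component is that point. -/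
theorem eq_of_specializes_generic {T : Type u} [TopologicalSpace T] [T0Space T] (η y : T)
    (hη : closure {η} ∈ irreducibleComponents T) (h : y ⤳ η) : y = η := by
  have h1 : closure {η} ⊆ closure {y} := h.closure_subset
  have h2 : closure {y} ⊆ closure {η} := hη.2 isIrreducible_singleton.closure h1
  have h3 : η ⤳ y := by
    rw [specializes_iff_mem_closure]; exact h2 (subset_closure rfl)
  exact (h.antisymm h3).eq

open AlgebraicGeometry CategoryTheory in
theorem exists_generic_specializes {T : Type u} [TopologicalSpace T] [QuasiSober T] (x : T) :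
    ∃ ξ : T, closure {ξ} ∈ irreducibleComponents T ∧ ξ ⤳ x := by
  obtain ⟨ξ, hξ⟩ := QuasiSober.sober (isIrreducible_irreducibleComponent (x := x))
    isClosed_irreducibleComponent
  refine ⟨ξ, ?_, ?_⟩
  · rw [hξ.def]; exact irreducibleComponent_mem_irreducibleComponents x
  · rw [specializes_iff_mem_closure, hξ.def]; exact mem_irreducibleComponent

open AlgebraicGeometry CategoryTheory in
/-- Let k be a field, let S and X be separated k-schemes of finite type that are locally equidimensional
(all irreducible components passing through a given point have the same dimension), let f : S → X be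
a k-morphism and Z ⊆ X a closed subset. Let d be the dimension of the image f(S), as a subspace of
X. If every point s of S with f(s) ∈ Z satisfies dim O_{S,s} ≥ d + 1 (equivalently: the closed
subset f⁻¹(Z) of S has local codimension at least d + 1 at each of its points), then f⁻¹(Z) is
empty. -/
theorem result (k : Type u) [Field k] (S X : Scheme.{u})
    (pS : S ⟶ Spec (CommRingCat.of k)) (pX : X ⟶ Spec (CommRingCat.of k))
    [IsSeparated pS] [LocallyOfFiniteType pS] [QuasiCompact pS]
    [IsSeparated pX] [LocallyOfFiniteType pX] [QuasiCompact pX]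
    (hS : ∀ (s : S) (A B : Set S), A ∈ irreducibleComponents (S : Type u) → B ∈ irreducibleComponents (S : Type u) →
      s ∈ A → s ∈ B → topologicalKrullDim A = topologicalKrullDim B)
    (hX : ∀ (x : X) (A B : Set X), A ∈ irreducibleComponents (X : Type u) → B ∈ irreducibleComponents (X : Type u) →
      x ∈ A → x ∈ B → topologicalKrullDim A = topologicalKrullDim B)
    (f : S ⟶ X) (hf : f ≫ pX = pS) (Z : Set X) (hZ : IsClosed Z)
    (h : ∀ s : S, f.base s ∈ Z →
      topologicalKrullDim (Set.range f.base) + 1 ≤ ringKrullDim (S.presheaf.stalk s)) :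
    f.base ⁻¹' Z = ∅ := by
  by_contra hne
  obtain ⟨s₀, hs₀⟩ := Set.nonempty_iff_ne_empty.mpr hne
  letI : X.Over (Spec (CommRingCat.of k)) := ⟨pX⟩
  letI : S.Over (Spec (CommRingCat.of k)) := ⟨pS⟩
  haveI : LocallyOfFiniteType (X ↘ Spec (CommRingCat.of k)) := ‹LocallyOfFiniteType pX›
  haveI : LocallyOfFiniteType (S ↘ Spec (CommRingCat.of k)) := ‹LocallyOfFiniteType pS›
  -- generic point of a component of `f⁻¹ Z`
  have hcl : IsClosed (f.base ⁻¹' Z) := hZ.preimage f.continuous
  haveI : QuasiSober ↥(f.base ⁻¹' Z) := hcl.isClosedEmbedding_subtypeVal.quasiSober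
  obtain ⟨σ, hσ, -⟩ := exists_generic_specializes (⟨s₀, hs₀⟩ : ↥(f.base ⁻¹' Z))
  obtain ⟨s, hsZ⟩ := σ
  have hsZ' : f.base s ∈ Z := hsZ
  have hgen : ∀ s' : S, f.base s' ∈ Z → s' ⤳ s → s' = s := by
    intro s' hs' hsp
    have h1 : (⟨s', hs'⟩ : ↥(f.base ⁻¹' Z)) ⤳ ⟨s, hsZ⟩ :=
      Topology.IsInducing.subtypeVal.specializes_iff.1 hsp
    have h2 := eq_of_specializes_generic _ _ hσ h1
    exact congrArg Subtype.val h2
  -- Chevalley
  haveI : IsLocallyNoetherian X := LocallyOfFiniteType.isLocallyNoetherian pX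
  haveI : LocallyOfFiniteType (f ≫ pX) := by rw [hf]; infer_instance
  haveI : LocallyOfFiniteType f := locallyOfFiniteType_of_comp f pX
  haveI : LocallyOfFinitePresentation f :=
    LocallyOfFinitePresentation.iff_locallyOfFiniteType.mpr inferInstance
  haveI : CompactSpace X := QuasiCompact.compactSpace_of_compactSpace pX
  haveI : CompactSpace S := QuasiCompact.compactSpace_of_compactSpace pS
  haveI : QuasiSeparatedSpace X := quasiSeparatedSpace_of_quasiSeparated pX
  have hE : Topology.IsConstructible (Set.range f.base) := by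
    have := f.isConstructible_image (s := Set.univ) Topology.IsConstructible.univ
    rwa [Set.image_univ] at this
  -- charts
  obtain ⟨U, hU, hxU, -⟩ := exists_isAffineOpen_mem_and_subset (x := f.base s) (U := ⊤) trivial
  obtain ⟨V, hV, hsV, e⟩ := exists_isAffineOpen_mem_and_subset (x := s) (U := f ⁻¹ᵁ U) hxU
  haveI : IsNoetherianRing Γ(X, U) := isNoetherianRing_of_isAffineOpen k X hU
  haveI : IsNoetherianRing Γ(S, V) := isNoetherianRing_of_isAffineOpen k S hV
  set φ := (f.appLE U V e).hom with hφ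
  set q' := (hV.primeIdealOf ⟨s, hsV⟩).asIdeal with hq'
  have hcomap : ∀ (t : S) (ht : t ∈ V), (hV.primeIdealOf ⟨t, ht⟩).asIdeal.comap φ =
      (hU.primeIdealOf ⟨f.base t, e ht⟩).asIdeal := by
    intro t ht
    have := IsAffineOpen.comap_primeIdealOf_appLE (f := f) (x := t) U hU V hV e ht
    exact congrArg PrimeSpectrum.asIdeal this
  have hmin : q' ∈ ((q'.comap φ).map φ).minimalPrimes := by
    refine ⟨⟨inferInstance, Ideal.map_comap_le⟩, ?_⟩
    rintro P ⟨hPp, hPge⟩ hPle
    haveI := hPp
    obtain ⟨s', hs'V, hs'P⟩ := exists_point_of_prime hV P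
    have hsp : s' ⤳ s := by
      rw [specializes_iff_primeIdealOf_le hV s' s hs'V hsV, hs'P]; exact hPle
    have h1 : P.comap φ = q'.comap φ := by
      apply le_antisymm (Ideal.comap_mono hPle)
      exact Ideal.le_comap_map.trans (Ideal.comap_mono hPge)
    have h2 : f.base s' = f.base s := by
      apply eq_of_primeIdealOf_eq hU (f.base s') (f.base s) (e hs'V) (e hsV)
      rw [← hcomap s' hs'V, ← hcomap s hsV, hs'P]
      exact h1
    have h3 : s' = s := hgen s' (by rw [h2]; exact hsZ') hsp
    subst h3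
    exact le_of_eq hs'P
  obtain ⟨q0, hq0min, hq0le, hq0ht⟩ := exists_minimalPrimes_height_map_eq q'
  haveI : q0.IsPrime := hq0min.1.1
  have hht : (q'.map (Ideal.Quotient.mk q0)).height = q'.height := hq0ht
  have hH := Groth.Agent.Lib.helper3.HeightMin.height_map_le_of_mem_minimalPrimes φ q0 q' hq0le hmin
  obtain ⟨ξ, hξV, hξq⟩ := exists_point_of_prime hV q0
  have hx'q : (hU.primeIdealOf ⟨f.base ξ, e hξV⟩).asIdeal = q0.comap φ := by
    rw [← hcomap ξ hξV, hξq]
  have hxq : (hU.primeIdealOf ⟨f.base s, e hsV⟩).asIdeal = q'.comap φ := (hcomap s hsV).symm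
  have hle : (hU.primeIdealOf ⟨f.base ξ, e hξV⟩).asIdeal ≤
      (hU.primeIdealOf ⟨f.base s, e hsV⟩).asIdeal := by
    rw [hx'q, hxq]; exact Ideal.comap_mono hq0le
  have h1 := height_map_add_trdeg_residueField k X hU (f.base ξ) (f.base s) (e hξV) (e hsV) hle
  obtain ⟨n, hn⟩ := exists_nat_trdeg_residueField k X (f.base ξ)
  rw [hn] at h1
  have h2 : (((hU.primeIdealOf ⟨f.base s, e hsV⟩).asIdeal.map
      (Ideal.Quotient.mk (hU.primeIdealOf ⟨f.base ξ, e hξV⟩).asIdeal)).height : ℕ∞) ≤ n := by
    have : ((((hU.primeIdealOf ⟨f.base s, e hsV⟩).asIdeal.map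
      (Ideal.Quotient.mk (hU.primeIdealOf ⟨f.base ξ, e hξV⟩).asIdeal)).height : ℕ∞) :
        Cardinal.{u}) ≤ (n : Cardinal.{u}) := by
      rw [← h1]; exact le_self_add
    exact_mod_cast this
  have h3 : q'.height ≤ n := by
    rw [← hht]
    refine hH.trans ?_
    have hcongr : ∀ (I I' J J' : Ideal Γ(X, U)) (_ : I = I') (_ : J = J'),
        (J.map (Ideal.Quotient.mk I)).height = (J'.map (Ideal.Quotient.mk I')).height := by
      intro I I' J J' hI hJ; subst hI; subst hJ; rfl
    rw [hcongr _ _ _ _ hx'q.symm hxq.symm]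
    exact h2
  -- the chain inside the range
  obtain ⟨W, hWo, hx'W, hWsub⟩ := (exists_open_of_isConstructible (f.base ξ) hE).1 ⟨ξ, rfl⟩
  obtain ⟨c, hc, hcm⟩ := exists_chain_in_open k X (f.base ξ) W hWo hx'W n hn
  have hD := length_le_dim_of_mem (Set.range f.base) n c hc (fun i => hWsub (hcm i))
  have h4 := h s hsZ'
  rw [ringKrullDim_stalk_eq_height hV s hsV] at h4
  have h5 : ((hV.primeIdealOf ⟨s, hsV⟩).asIdeal.height : WithBot ℕ∞) ≤ (n : WithBot ℕ∞) := by
    exact_mod_cast h3
  have h6 : (n : WithBot ℕ∞) + 1 ≤ (n : WithBot ℕ∞) :=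
    (add_le_add_left hD 1).trans (h4.trans h5)
  have h7 : ((n + 1 : ℕ) : WithBot ℕ∞) ≤ ((n : ℕ) : WithBot ℕ∞) := by exact_mod_cast h6
  have h8 : n + 1 ≤ n := by exact_mod_cast h7
  omega

end Groth.Agent.S14901
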