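import Groth.Statements.S14909
import Mathlib

set_option autoImplicit false
universe u
open Neron

namespace Groth.Agent.S14909

section aux

open MvPowerSeries Finsupp in
/-- `aeval` at a tuple in an ideal with `𝔫 ^ n = ⊥` kills polynomials without terms of degree `< n`. -/
lemma aeval_eq_zero_of_coeff {R : Type*} [CommRing R] {σ : Type*} [Finite σ]
    {T : Type*} [CommRing T] [Algebra R T]
    (t : σ → T) (𝔫 : Ideal T) (ht : ∀ i, t i ∈ 𝔫) (n : ℕ) (h𝔫 : 𝔫 ^ n = ⊥)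
    (F : MvPolynomial σ R) (hF : ∀ x : σ →₀ ℕ, x.degree < n → F.coeff x = 0) :
    MvPolynomial.aeval t F = 0 := by
  classical
  rw [MvPolynomial.aeval_def, MvPolynomial.eval₂_eq]
  apply Finset.sum_eq_zero
  intro d hd
  have hdeg : n ≤ d.degree := by
    by_contra hlt
    exact (MvPolynomial.mem_support_iff.mp hd) (hF d (not_le.mp hlt))
  have hmem : ∏ i ∈ d.support, t i ^ d i ∈ 𝔫 ^ d.degree := by
    rw [Finsupp.degree_apply]
    have h1 : ∏ i ∈ d.support, t i ^ d i ∈ ∏ i ∈ d.support, 𝔫 ^ d i :=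
      Ideal.prod_mem_prod (fun i _ => Ideal.pow_mem_pow (ht i) _)
    rwa [Finset.prod_pow_eq_pow_sum] at h1
  have h0 : ∏ i ∈ d.support, t i ^ d i = 0 := by
    have h2 : ∏ i ∈ d.support, t i ^ d i ∈ (⊥ : Ideal T) := by
      rw [← h𝔫]
      exact Ideal.pow_le_pow_right hdeg hmem
    exact (Ideal.mem_bot).mp h2
  rw [h0, mul_zero]

open MvPowerSeries in
/-- Evaluation of power series at a tuple lying in a nilpotent ideal. -/
lemma exists_evalHom {R : Type*} [CommRing R] [Nontrivial R] {σ : Type*} [Finite σ]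
    {T : Type*} [CommRing T] [Algebra R T]
    (t : σ → T) (𝔫 : Ideal T) (ht : ∀ i, t i ∈ 𝔫) (n : ℕ) (hn : 2 ≤ n) (h𝔫 : 𝔫 ^ n = ⊥) :
    ∃ Ψ : MvPowerSeries σ R →ₐ[R] T, ∀ i, Ψ (MvPowerSeries.X i) = t i := by
  classical
  have hn0 : n ≠ 0 := by omega
  let ψ : MvPowerSeries σ R →ₗ[R] T := (MvPolynomial.aeval t).toLinearMap ∘ₗ (truncTotal n)
  have hψ : ∀ p, ψ p = MvPolynomial.aeval t (truncTotal n p) := fun p => rfl
  have h1 : ψ 1 = 1 := by rw [hψ, truncTotal_one hn0, map_one]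
  have hmul : ∀ p q, ψ (p * q) = ψ p * ψ q := by
    intro p q
    rw [hψ, hψ, hψ, ← map_mul, ← sub_eq_zero, ← map_sub]
    apply aeval_eq_zero_of_coeff t 𝔫 ht n h𝔫
    intro x hx
    rw [MvPolynomial.coeff_sub, coeff_truncTotal _ hx,
      coeff_truncTotal_mul_truncTotal_eq_coeff_mul _ _ hx, sub_self]
  refine ⟨AlgHom.ofLinearMap ψ h1 hmul, fun i => ?_⟩
  show ψ (MvPowerSeries.X i) = t i
  rw [hψ]
  have h2 : truncTotal n (MvPowerSeries.X i : MvPowerSeries σ R) = MvPolynomial.X i := by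
    rw [← MvPolynomial.coe_X, truncTotal_coe_eq_self_iff _ hn0, MvPolynomial.totalDegree_X]
    omega
  rw [h2, MvPolynomial.aeval_X]

lemma mul_mem_sup' {S : Type*} [CommRing S] (M I : Ideal S) {e b : S} {m n : ℕ}
    (he : e ∈ I ⊔ M ^ m) (hb : b ∈ M ^ n) : e * b ∈ I ⊔ M ^ (m + n) := by
  obtain ⟨e₁, he₁, e₂, he₂, rfl⟩ := Submodule.mem_sup.mp he
  rw [add_mul]
  exact Ideal.add_mem _ (Ideal.mem_sup_left (I.mul_mem_right _ he₁))
    (Ideal.mem_sup_right (by rw [pow_add]; exact Ideal.mul_mem_mul he₂ hb))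

open Pointwise in
lemma gen_step {S : Type*} [CommRing S] (M I : Ideal S) (p x y : S)
    (hM : M = Ideal.span {p, x, y}) (hp : p ∈ I ⊔ M ^ 2) (hx2 : x ^ 2 ∈ I ⊔ M ^ 3) (j : ℕ) :
    M ^ (j + 1) ≤ Ideal.span {y ^ (j + 1), x * y ^ j} ⊔ I ⊔ M ^ (j + 2) := by
  have hxM : x ∈ M := by rw [hM]; exact Ideal.subset_span (by simp)
  have hyM : y ∈ M := by rw [hM]; exact Ideal.subset_span (by simp)
  induction j with
  | zero =>
    simp only [zero_add, pow_one, pow_zero, mul_one]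
    calc M = Ideal.span {p, x, y} := hM
      _ ≤ _ := by
        apply Ideal.span_le.mpr
        intro z hz
        simp only [Set.mem_insert_iff, Set.mem_singleton_iff] at hz
        rcases hz with rfl | rfl | rfl
        · exact (sup_le (le_sup_of_le_left le_sup_right) le_sup_right :
            I ⊔ M ^ 2 ≤ Ideal.span {y, x} ⊔ I ⊔ M ^ 2) hp
        · exact Ideal.mem_sup_left (Ideal.mem_sup_left (Ideal.subset_span (by simp)))
        · exact Ideal.mem_sup_left (Ideal.mem_sup_left (Ideal.subset_span (by simp)))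
  | succ j ih =>
    have e3 : j + 1 + 2 = (j + 2) + 1 := by omega
    rw [pow_succ' M (j + 1)]
    refine (Ideal.mul_mono_right ih).trans ?_
    rw [Ideal.mul_sup, Ideal.mul_sup]
    refine sup_le (sup_le ?_ ?_) ?_
    · have hyj : y ^ j ∈ M ^ j := Ideal.pow_mem_pow hyM j
      have hyj1 : y ^ (j + 1) ∈ M ^ (j + 1) := Ideal.pow_mem_pow hyM (j + 1)
      have hxyj : x * y ^ j ∈ M ^ (j + 1) := by
        rw [pow_succ']; exact Ideal.mul_mem_mul hxM hyj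
      have tgt : I ⊔ M ^ (j + 1 + 2) ≤
          Ideal.span {y ^ (j + 1 + 1), x * y ^ (j + 1)} ⊔ I ⊔ M ^ (j + 1 + 2) :=
        sup_le (le_sup_of_le_left le_sup_right) le_sup_right
      have g1 : y ^ (j + 1 + 1) ∈
          Ideal.span {y ^ (j + 1 + 1), x * y ^ (j + 1)} ⊔ I ⊔ M ^ (j + 1 + 2) :=
        Ideal.mem_sup_left (Ideal.mem_sup_left (Ideal.subset_span (by simp)))
      have g2 : x * y ^ (j + 1) ∈
          Ideal.span {y ^ (j + 1 + 1), x * y ^ (j + 1)} ⊔ I ⊔ M ^ (j + 1 + 2) :=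
        Ideal.mem_sup_left (Ideal.mem_sup_left (Ideal.subset_span (by simp)))
      have q1 : p * y ^ (j + 1) ∈
          Ideal.span {y ^ (j + 1 + 1), x * y ^ (j + 1)} ⊔ I ⊔ M ^ (j + 1 + 2) := by
        have h := mul_mem_sup' M I hp hyj1
        rw [show 2 + (j + 1) = j + 1 + 2 by omega] at h
        exact tgt h
      have q2 : p * (x * y ^ j) ∈
          Ideal.span {y ^ (j + 1 + 1), x * y ^ (j + 1)} ⊔ I ⊔ M ^ (j + 1 + 2) := by
        have h := mul_mem_sup' M I hp hxyj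
        rw [show 2 + (j + 1) = j + 1 + 2 by omega] at h
        exact tgt h
      have q4 : x * (x * y ^ j) ∈
          Ideal.span {y ^ (j + 1 + 1), x * y ^ (j + 1)} ⊔ I ⊔ M ^ (j + 1 + 2) := by
        have h := mul_mem_sup' M I hx2 hyj
        rw [show 3 + j = j + 1 + 2 by omega] at h
        have e : x * (x * y ^ j) = x ^ 2 * y ^ j := by ring
        rw [e]; exact tgt h
      have q5 : y * y ^ (j + 1) ∈
          Ideal.span {y ^ (j + 1 + 1), x * y ^ (j + 1)} ⊔ I ⊔ M ^ (j + 1 + 2) := by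
        rw [← pow_succ']; exact g1
      have q6 : y * (x * y ^ j) ∈
          Ideal.span {y ^ (j + 1 + 1), x * y ^ (j + 1)} ⊔ I ⊔ M ^ (j + 1 + 2) := by
        have e : y * (x * y ^ j) = x * y ^ (j + 1) := by ring
        rw [e]; exact g2
      have hMs : M * Ideal.span {y ^ (j + 1), x * y ^ j} =
          Ideal.span ({p, x, y} * {y ^ (j + 1), x * y ^ j}) := by
        rw [← Ideal.span_mul_span', ← hM]
      rw [hMs]
      apply Ideal.span_le.mpr
      rw [Set.mul_subset_iff]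
      intro r hr s hs
      simp only [Set.mem_insert_iff, Set.mem_singleton_iff] at hr hs
      rcases hr with rfl | rfl | rfl <;> rcases hs with rfl | rfl
      · exact q1
      · exact q2
      · exact g2
      · exact q4
      · exact q5
      · exact q6
    · exact Ideal.mul_le_right.trans (le_sup_of_le_left le_sup_right)
    · rw [← pow_succ', ← e3]; exact le_sup_right

lemma part1_gen {S : Type*} [CommRing S] (M I : Ideal S) (p x y : S)
    (hM : M = Ideal.span {p, x, y}) (hp : p ∈ I ⊔ M ^ 2) (hx2 : x ^ 2 ∈ I ⊔ M ^ 3)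
    (hjac : M ≤ Ideal.jacobson ⊥) (j : ℕ) :
    M ^ (j + 1) ⊔ I = Ideal.span {y ^ (j + 1), x * y ^ j} ⊔ I := by
  have hMfg : M.FG := by rw [hM]; exact Submodule.fg_span (Set.toFinite _)
  have hfg : (M ^ (j + 1)).FG := hMfg.pow
  have key : M ^ (j + 1) ≤ Ideal.span {y ^ (j + 1), x * y ^ j} ⊔ I := by
    apply Submodule.le_of_le_smul_of_le_jacobson_bot hfg hjac
    rw [Ideal.smul_eq_mul, ← pow_succ']
    exact gen_step M I p x y hM hp hx2 j
  have hxM : x ∈ M := by rw [hM]; exact Ideal.subset_span (by simp)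
  have hyM : y ∈ M := by rw [hM]; exact Ideal.subset_span (by simp)
  apply le_antisymm
  · exact sup_le key le_sup_right
  · refine sup_le (le_sup_of_le_left ?_) le_sup_right
    apply Ideal.span_le.mpr
    intro z hz
    simp only [Set.mem_insert_iff, Set.mem_singleton_iff] at hz
    rcases hz with rfl | rfl
    · exact Ideal.pow_mem_pow hyM _
    · rw [SetLike.mem_coe, pow_succ']
      exact Ideal.mul_mem_mul hxM (Ideal.pow_mem_pow hyM _)

open QuadraticAlgebra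

variable {R : Type u} [CommRing R]

/-- `D₀ = R[Y]/(Y² - c)`. -/
abbrev D0 (c : R) := QuadraticAlgebra R c 0

/-- Dual numbers over `D₀`. -/
abbrev TT (c : R) := QuadraticAlgebra (QuadraticAlgebra R c 0) 0 0

/-- The class of `Y` in `D₀`. -/
def Y (c : R) : D0 c := ⟨0, 1⟩
/-- `Y` in the dual numbers. -/
def Yt (c : R) : TT c := ⟨Y c, 0⟩
/-- `ε` in the dual numbers. -/
def Et (c : R) : TT c := ⟨0, 1⟩

@[simp] lemma Y_re (c : R) : (Y c).re = 0 := rfl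
@[simp] lemma Y_im (c : R) : (Y c).im = 1 := rfl
@[simp] lemma Yt_re (c : R) : (Yt c).re = Y c := rfl
@[simp] lemma Yt_im (c : R) : (Yt c).im = 0 := rfl
@[simp] lemma Et_re (c : R) : (Et c).re = 0 := rfl
@[simp] lemma Et_im (c : R) : (Et c).im = 1 := rfl
@[simp] lemma algT_re (c a : R) : (algebraMap R (TT c) a).re = algebraMap R (D0 c) a := rfl
@[simp] lemma algT_im (c a : R) : (algebraMap R (TT c) a).im = 0 := rfl

lemma Y_mul_Y (c : R) : Y c * Y c = algebraMap R (D0 c) c := by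
  ext <;> simp

lemma Y_pow_even (c : R) (k : ℕ) : Y c ^ (2 * k) = algebraMap R (D0 c) (c ^ k) := by
  rw [pow_mul, sq, Y_mul_Y, ← map_pow]

lemma Y_mul (c : R) (p : D0 c) : Y c * p = ⟨c * p.im, p.re⟩ := by
  ext <;> simp

lemma Y_regular [IsDomain R] {c : R} (hc : c ≠ 0) : IsLeftRegular (Y c) := by
  intro p q h
  simp only at h
  rw [Y_mul, Y_mul] at h
  have h1 := congrArg QuadraticAlgebra.re h
  have h2 := congrArg QuadraticAlgebra.im h
  dsimp only at h1 h2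
  ext
  · exact h2
  · exact mul_left_cancel₀ hc h1

lemma Y_dvd [IsDomain R] {c : R} (hc : c ≠ 0) (k : ℕ) (a : R)
    (h : Y c ^ (k + 1) ∣ a • Y c ^ k) : c ∣ a := by
  obtain ⟨d, hd⟩ := h
  have h1 : Y c ^ k * algebraMap R (D0 c) a = Y c ^ k * (Y c * d) := by
    rw [← mul_assoc, ← pow_succ, ← hd, Algebra.smul_def, mul_comm]
  have h2 : algebraMap R (D0 c) a = Y c * d := ((Y_regular hc).pow k) h1
  have h3 := congrArg QuadraticAlgebra.re h2
  rw [Y_mul] at h3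
  simp only [algebraMap_re] at h3
  exact ⟨d.im, h3⟩

/-- The ideal `(Y, ε)^(n+1)` of the dual numbers, described componentwise. -/
def K (c : R) (n : ℕ) : Ideal (TT c) where
  carrier := {t | Y c ^ (n + 1) ∣ t.re ∧ Y c ^ n ∣ t.im}
  add_mem' := by
    intro s t hs ht
    exact ⟨by rw [re_add]; exact dvd_add hs.1 ht.1, by rw [im_add]; exact dvd_add hs.2 ht.2⟩
  zero_mem' := ⟨dvd_zero _, dvd_zero _⟩
  smul_mem' := by
    intro s t ht
    refine ⟨?_, ?_⟩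
    · show _ ∣ (s * t).re
      rw [re_mul, zero_mul, zero_mul, add_zero]
      exact dvd_mul_of_dvd_right ht.1 _
    · show _ ∣ (s * t).im
      rw [im_mul, zero_mul, zero_mul, add_zero]
      exact dvd_add (dvd_mul_of_dvd_right ht.2 _)
        (dvd_mul_of_dvd_right ((pow_dvd_pow _ (Nat.le_succ n)).trans ht.1) _)

lemma mem_K {c : R} {n : ℕ} {t : TT c} :
    t ∈ K c n ↔ Y c ^ (n + 1) ∣ t.re ∧ Y c ^ n ∣ t.im := Iff.rfl

lemma K_mul (c : R) (n : ℕ) : K c 0 * K c n ≤ K c (n + 1) := by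
  rw [Ideal.mul_le]
  intro r hr s hs
  rw [mem_K] at hr hs ⊢
  obtain ⟨hr1, -⟩ := hr
  obtain ⟨hs1, hs2⟩ := hs
  constructor
  · rw [re_mul, zero_mul, zero_mul, add_zero]
    have h := mul_dvd_mul hr1 hs1
    rwa [← pow_add, show 0 + 1 + (n + 1) = n + 1 + 1 by omega] at h
  · rw [im_mul, zero_mul, zero_mul, add_zero]
    apply dvd_add
    · have h := mul_dvd_mul hr1 hs2
      rwa [← pow_add, show 0 + 1 + n = n + 1 by omega] at h
    · exact dvd_mul_of_dvd_right hs1 _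

lemma K_pow (c : R) (n : ℕ) : K c 0 ^ (n + 1) ≤ K c n := by
  induction n with
  | zero => simp
  | succ n ih =>
    rw [pow_succ']
    exact (Ideal.mul_mono_right ih).trans (K_mul c n)

lemma mem_K_mk {c : R} (v : ℕ) (r1 s0 s1 : R) (h2 : c ^ v ∣ r1)
    (h3 : c ^ v ∣ s0) (h4 : c ^ v ∣ s1) :
    (⟨⟨0, r1⟩, ⟨s0, s1⟩⟩ : TT c) ∈ K c (2 * v) := by
  rw [mem_K]
  constructor
  · obtain ⟨w, hw⟩ := h2
    refine ⟨⟨w, 0⟩, ?_⟩
    rw [pow_succ, Y_pow_even, mul_assoc, Y_mul]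
    ext
    · simp only [re_mul, algebraMap_re, algebraMap_im]
      ring
    · simp only [im_mul, algebraMap_re, algebraMap_im, hw]
      ring
  · rw [Y_pow_even, algebraMap_dvd_iff]
    exact ⟨h3, h4⟩

lemma Yt_pow (c : R) (k : ℕ) : Yt c ^ k = ⟨Y c ^ k, 0⟩ := by
  have h : Yt c = algebraMap (D0 c) (TT c) (Y c) := rfl
  rw [h, ← map_pow]
  rfl

open MvPowerSeries in
theorem part2 [IsDomain R] (ϖ a₁ a₆ : R) (hϖ : ϖ ≠ 0) (v : ℕ) (hv : 1 ≤ v)
    (u₁ u₆ : Rˣ) (ha₁ : a₁ = u₁ * ϖ ^ v) (ha₆ : a₆ = u₆ * ϖ) (c2 : R) (hc2 : (2 : R) = ϖ ^ v * c2)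
    (I M : Ideal (MvPowerSeries (Fin 2) R))
    (hI : I = Ideal.span {(X 1 : MvPowerSeries (Fin 2) R) ^ 2 + a₁ • (X 0 * X 1) - X 0 ^ 3 -
        algebraMap R (MvPowerSeries (Fin 2) R) a₆,
      2 * X 1 + a₁ • X 0, 3 * X 0 ^ 2 - a₁ • X 1})
    (hM : M = Ideal.span {algebraMap R (MvPowerSeries (Fin 2) R) ϖ, X 0, X 1}) (a b : R)
    (hab : a • (X 1 : MvPowerSeries (Fin 2) R) ^ (2 * v) + b • (X 0 * X 1 ^ (2 * v - 1)) ∈
      M ^ (2 * v + 1) ⊔ I) : ϖ ∣ a ∧ ϖ ∣ b := by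
  classical
  have hc : a₆ ≠ 0 := by rw [ha₆]; exact mul_ne_zero u₆.ne_zero hϖ
  have hcϖ : a₆ ∣ ϖ := ⟨↑u₆⁻¹, by rw [ha₆, mul_comm (↑u₆ : R) ϖ, mul_assoc, Units.mul_inv, mul_one]⟩
  have hϖc : ϖ ∣ a₆ := ⟨↑u₆, by rw [ha₆, mul_comm]⟩
  have hdvd : ∀ z : R, ϖ ^ v ∣ z → a₆ ^ v ∣ z := by
    intro z hz
    rw [ha₆, mul_pow]
    exact ((u₆.isUnit).pow v).mul_left_dvd.mpr hz
  have hda₁ : a₆ ^ v ∣ a₁ := hdvd _ ⟨↑u₁, by rw [ha₁, mul_comm]⟩
  have hd2 : a₆ ^ v ∣ (2 : R) := hdvd _ ⟨c2, hc2⟩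
  let Q := TT a₆ ⧸ K a₆ (2 * v)
  let q : TT a₆ →ₐ[R] Q := Ideal.Quotient.mkₐ R (K a₆ (2 * v))
  have hq0 : ∀ z, z ∈ K a₆ (2 * v) → q z = 0 := fun z hz =>
    Ideal.Quotient.eq_zero_iff_mem.mpr hz
  let 𝔫 : Ideal Q := (K a₆ 0).map (Ideal.Quotient.mk (K a₆ (2 * v)))
  have h𝔫 : 𝔫 ^ (2 * v + 1) = ⊥ := by
    rw [eq_bot_iff, ← Ideal.map_pow]
    calc Ideal.map (Ideal.Quotient.mk (K a₆ (2 * v))) (K a₆ 0 ^ (2 * v + 1))
        ≤ Ideal.map (Ideal.Quotient.mk (K a₆ (2 * v))) (K a₆ (2 * v)) :=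
          Ideal.map_mono (K_pow a₆ (2 * v))
      _ = ⊥ := Ideal.map_quotient_self _
  let t : Fin 2 → Q := ![q (Et a₆), q (Yt a₆)]
  have hEt : Et a₆ ∈ K a₆ 0 := mem_K.mpr ⟨by simp, by simp⟩
  have hYt : Yt a₆ ∈ K a₆ 0 := mem_K.mpr ⟨by simp, by simp⟩
  have ht : ∀ i, t i ∈ 𝔫 := by
    intro i
    fin_cases i
    · exact Ideal.mem_map_of_mem _ hEt
    · exact Ideal.mem_map_of_mem _ hYt
  obtain ⟨Ψ, hΨ⟩ := exists_evalHom (R := R) t 𝔫 ht (2 * v + 1) (by omega) h𝔫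
  have hΨ0 : Ψ (X 0) = q (Et a₆) := hΨ 0
  have hΨ1 : Ψ (X 1) = q (Yt a₆) := hΨ 1
  -- `Ψ` kills `M ^ (2v+1)`
  have hMle : M ≤ Ideal.comap Ψ 𝔫 := by
    rw [hM]
    apply Ideal.span_le.mpr
    intro z hz
    simp only [Set.mem_insert_iff, Set.mem_singleton_iff] at hz
    rcases hz with rfl | rfl | rfl
    · rw [SetLike.mem_coe, Ideal.mem_comap, AlgHom.commutes]
      have e : algebraMap R Q ϖ = Ideal.Quotient.mk (K a₆ (2 * v)) (algebraMap R (TT a₆) ϖ) := rfl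
      rw [e]
      apply Ideal.mem_map_of_mem
      rw [mem_K]
      refine ⟨?_, by simp⟩
      rw [algT_re, zero_add, pow_one]
      exact (Dvd.intro _ (Y_mul_Y a₆)).trans (map_dvd (algebraMap R (D0 a₆)) hcϖ)
    · rw [SetLike.mem_coe, Ideal.mem_comap, hΨ 0]; exact ht 0
    · rw [SetLike.mem_coe, Ideal.mem_comap, hΨ 1]; exact ht 1
  have hMpow : M ^ (2 * v + 1) ≤ RingHom.ker Ψ := by
    calc M ^ (2 * v + 1) ≤ (Ideal.comap Ψ 𝔫) ^ (2 * v + 1) := Ideal.pow_right_mono hMle _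
      _ ≤ Ideal.comap Ψ (𝔫 ^ (2 * v + 1)) := Ideal.le_comap_pow _ _
      _ = RingHom.ker Ψ := by rw [h𝔫]; rfl
  -- `Ψ` kills `I`
  have hF : Yt a₆ ^ 2 + a₁ • (Et a₆ * Yt a₆) - Et a₆ ^ 3 - algebraMap R (TT a₆) a₆ =
      ⟨⟨0, 0⟩, ⟨0, a₁⟩⟩ := by
    ext <;> simp [sq, pow_three]
  have hG : 2 * Yt a₆ + a₁ • Et a₆ = ⟨⟨0, 2⟩, ⟨a₁, 0⟩⟩ := by
    ext <;> simp
  have hH : 3 * Et a₆ ^ 2 - a₁ • Yt a₆ = ⟨⟨0, -a₁⟩, ⟨0, 0⟩⟩ := by
    ext <;> simp [sq]
  have hIle : I ≤ RingHom.ker Ψ := by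
    rw [hI]
    apply Ideal.span_le.mpr
    intro z hz
    simp only [Set.mem_insert_iff, Set.mem_singleton_iff] at hz
    rcases hz with rfl | rfl | rfl
    · rw [SetLike.mem_coe, RingHom.mem_ker]
      have e : Ψ ((X 1 : MvPowerSeries (Fin 2) R) ^ 2 + a₁ • (X 0 * X 1) - X 0 ^ 3 -
          algebraMap R (MvPowerSeries (Fin 2) R) a₆) =
          q (Yt a₆ ^ 2 + a₁ • (Et a₆ * Yt a₆) - Et a₆ ^ 3 - algebraMap R (TT a₆) a₆) := by
        simp only [map_sub, map_add, map_mul, map_pow, map_smul, AlgHom.commutes, hΨ0, hΨ1]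
      rw [e, hF]
      exact hq0 _ (mem_K_mk v 0 0 a₁ (dvd_zero _) (dvd_zero _) hda₁)
    · rw [SetLike.mem_coe, RingHom.mem_ker]
      have e : Ψ (2 * (X 1 : MvPowerSeries (Fin 2) R) + a₁ • X 0) =
          q (2 * Yt a₆ + a₁ • Et a₆) := by
        simp only [map_add, map_mul, map_smul, map_ofNat, hΨ0, hΨ1]
      rw [e, hG]
      exact hq0 _ (mem_K_mk v 2 a₁ 0 hd2 hda₁ (dvd_zero _))
    · rw [SetLike.mem_coe, RingHom.mem_ker]
      have e : Ψ (3 * (X 0 : MvPowerSeries (Fin 2) R) ^ 2 - a₁ • X 1) =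
          q (3 * Et a₆ ^ 2 - a₁ • Yt a₆) := by
        simp only [map_sub, map_mul, map_pow, map_smul, map_ofNat, hΨ0, hΨ1]
      rw [e, hH]
      exact hq0 _ (mem_K_mk v (-a₁) 0 0 ((dvd_neg).mpr hda₁) (dvd_zero _) (dvd_zero _))
  have hkill : Ψ (a • (X 1 : MvPowerSeries (Fin 2) R) ^ (2 * v) +
      b • (X 0 * X 1 ^ (2 * v - 1))) = 0 :=
    RingHom.mem_ker.mp ((sup_le hMpow hIle) hab)
  have e : Ψ (a • (X 1 : MvPowerSeries (Fin 2) R) ^ (2 * v) + b • (X 0 * X 1 ^ (2 * v - 1))) =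
      q (a • Yt a₆ ^ (2 * v) + b • (Et a₆ * Yt a₆ ^ (2 * v - 1))) := by
    simp only [map_add, map_mul, map_pow, map_smul, hΨ0, hΨ1]
  rw [e] at hkill
  have hK : a • Yt a₆ ^ (2 * v) + b • (Et a₆ * Yt a₆ ^ (2 * v - 1)) ∈ K a₆ (2 * v) :=
    Ideal.Quotient.eq_zero_iff_mem.mp hkill
  rw [mem_K] at hK
  have e1 : (a • Yt a₆ ^ (2 * v) + b • (Et a₆ * Yt a₆ ^ (2 * v - 1))).re = a • Y a₆ ^ (2 * v) := by
    rw [Yt_pow, Yt_pow]; simp
  have e2 : (a • Yt a₆ ^ (2 * v) + b • (Et a₆ * Yt a₆ ^ (2 * v - 1))).im =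
      b • Y a₆ ^ (2 * v - 1) := by
    rw [Yt_pow, Yt_pow]; simp
  obtain ⟨hK1, hK2⟩ := hK
  rw [e1] at hK1
  rw [e2] at hK2
  obtain ⟨k, hk⟩ : ∃ k, 2 * v = k + 1 := ⟨2 * v - 1, by omega⟩
  have hk' : 2 * v - 1 = k := by omega
  rw [hk', hk] at hK2
  exact ⟨hϖc.trans (Y_dvd hc _ a hK1), hϖc.trans (Y_dvd hc _ b hK2)⟩

end aux



/-- Let R be a discrete valuation ring with uniformizer ϖ, let a₁, a₆ ∈ R with a₁ of valuation v ≥ 1, a₆
of valuation 1, and 2 of valuation at least v (so the residue characteristic is 2; 2 = 0 is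
allowed). In the power series ring S = R[[x, y]] let M = (ϖ, x, y) be the maximal ideal and I the
ideal generated by y² + a₁xy − x³ − a₆, 2y + a₁x and 3x² − a₁y, so that S/I is a local ring with
maximal ideal m = M/I. Then the classes of y^(2v) and x·y^(2v−1) form a basis of the vector space
m^(2v)/m^(2v+1) over the residue field: M^(2v) + I = (y^(2v), x·y^(2v−1)) + I, and whenever a·y^(2v)
+ b·x·y^(2v−1) ∈ M^(2v+1) + I with a, b ∈ R, both a and b lie in the maximal ideal of R. (Generation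
holds with any exponent i ≥ 1 in place of 2v: M^i + I = (y^i, x·y^(i−1)) + I.) -/
theorem result (R : Type u) [CommRing R] [IsDomain R] [IsDiscreteValuationRing R]
    (ϖ a₁ a₆ : R) (hϖ : Irreducible ϖ) (v : ℕ) (hv : 1 ≤ v) (u₁ u₆ : Rˣ) (ha₁ : a₁ = u₁ * ϖ ^ v) (ha₆ : a₆ = u₆ * ϖ)
    (h2 : (2 : R) ∈ IsLocalRing.maximalIdeal R ^ v)
    (x y : MvPowerSeries (Fin 2) R) (hx : x = MvPowerSeries.X 0) (hy : y = MvPowerSeries.X 1)
    (I M : Ideal (MvPowerSeries (Fin 2) R))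
    (hI : I = Ideal.span {y ^ 2 + a₁ • (x * y) - x ^ 3 - algebraMap R (MvPowerSeries (Fin 2) R) a₆,
      2 * y + a₁ • x, 3 * x ^ 2 - a₁ • y})
    (hM : M = Ideal.span {algebraMap R (MvPowerSeries (Fin 2) R) ϖ, x, y}) :
    M ^ (2 * v) ⊔ I = Ideal.span {y ^ (2 * v), x * y ^ (2 * v - 1)} ⊔ I ∧
      ∀ a b : R, a • y ^ (2 * v) + b • (x * y ^ (2 * v - 1)) ∈ M ^ (2 * v + 1) ⊔ I →
        a ∈ IsLocalRing.maximalIdeal R ∧ b ∈ IsLocalRing.maximalIdeal R := by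
  subst hx hy
  have hmax : IsLocalRing.maximalIdeal R = Ideal.span {ϖ} := hϖ.maximalIdeal_eq
  have h2m : (2 : R) ∈ IsLocalRing.maximalIdeal R := Ideal.pow_le_self (by omega) h2
  obtain ⟨c2, hc2⟩ : ∃ c2, (2 : R) = ϖ ^ v * c2 := by
    rw [hmax, Ideal.span_singleton_pow, Ideal.mem_span_singleton] at h2
    exact h2
  have h3 : IsUnit (3 : R) := by
    by_contra h3
    have h3m : (3 : R) ∈ IsLocalRing.maximalIdeal R := (IsLocalRing.mem_maximalIdeal _).mpr h3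
    have h1m : (1 : R) ∈ IsLocalRing.maximalIdeal R := by
      have h := Ideal.sub_mem _ h3m h2m
      have e : (3 : R) - 2 = 1 := by norm_num
      rwa [e] at h
    exact (Ideal.ne_top_iff_one _).mp (IsLocalRing.maximalIdeal.isMaximal R).ne_top h1m
  have hxM : (MvPowerSeries.X 0 : MvPowerSeries (Fin 2) R) ∈ M := by
    rw [hM]; exact Ideal.subset_span (by simp)
  have hyM : (MvPowerSeries.X 1 : MvPowerSeries (Fin 2) R) ∈ M := by
    rw [hM]; exact Ideal.subset_span (by simp)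
  have hfI : (MvPowerSeries.X 1 : MvPowerSeries (Fin 2) R) ^ 2 +
      a₁ • (MvPowerSeries.X 0 * MvPowerSeries.X 1) - MvPowerSeries.X 0 ^ 3 -
      algebraMap R (MvPowerSeries (Fin 2) R) a₆ ∈ I := by
    rw [hI]; exact Ideal.subset_span (by simp)
  have hhI : 3 * (MvPowerSeries.X 0 : MvPowerSeries (Fin 2) R) ^ 2 - a₁ • MvPowerSeries.X 1 ∈ I := by
    rw [hI]; exact Ideal.subset_span (by simp)
  have hp : algebraMap R (MvPowerSeries (Fin 2) R) ϖ ∈ I ⊔ M ^ 2 := by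
    have hm2 : (MvPowerSeries.X 1 : MvPowerSeries (Fin 2) R) ^ 2 +
        a₁ • (MvPowerSeries.X 0 * MvPowerSeries.X 1) - MvPowerSeries.X 0 ^ 3 ∈ M ^ 2 := by
      refine Ideal.sub_mem _ (Ideal.add_mem _ (Ideal.pow_mem_pow hyM 2) ?_) ?_
      · rw [Algebra.smul_def]
        apply Ideal.mul_mem_left
        rw [sq]
        exact Ideal.mul_mem_mul hxM hyM
      · rw [pow_succ]
        exact Ideal.mul_mem_right _ _ (Ideal.pow_mem_pow hxM 2)
    have e : algebraMap R (MvPowerSeries (Fin 2) R) ϖ =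
        algebraMap R (MvPowerSeries (Fin 2) R) ↑u₆⁻¹ *
          (((MvPowerSeries.X 1 : MvPowerSeries (Fin 2) R) ^ 2 +
            a₁ • (MvPowerSeries.X 0 * MvPowerSeries.X 1) - MvPowerSeries.X 0 ^ 3) -
          ((MvPowerSeries.X 1 : MvPowerSeries (Fin 2) R) ^ 2 +
            a₁ • (MvPowerSeries.X 0 * MvPowerSeries.X 1) - MvPowerSeries.X 0 ^ 3 -
            algebraMap R (MvPowerSeries (Fin 2) R) a₆)) := by
      rw [sub_sub_cancel, ha₆, map_mul, ← mul_assoc, ← map_mul, Units.inv_mul, map_one, one_mul]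
    rw [e]
    exact Ideal.mul_mem_left _ _ (Ideal.sub_mem _ (Ideal.mem_sup_right hm2) (Ideal.mem_sup_left hfI))
  have hx2 : (MvPowerSeries.X 0 : MvPowerSeries (Fin 2) R) ^ 2 ∈ I ⊔ M ^ 3 := by
    have hpy : algebraMap R (MvPowerSeries (Fin 2) R) ϖ * MvPowerSeries.X 1 ∈ I ⊔ M ^ 3 := by
      have h := mul_mem_sup' M I hp
        (show (MvPowerSeries.X 1 : MvPowerSeries (Fin 2) R) ∈ M ^ 1 by rw [pow_one]; exact hyM)
      exact h
    have ha1y : a₁ • (MvPowerSeries.X 1 : MvPowerSeries (Fin 2) R) ∈ I ⊔ M ^ 3 := by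
      obtain ⟨w, hw⟩ : ∃ w, v = w + 1 := ⟨v - 1, by omega⟩
      have e : a₁ • (MvPowerSeries.X 1 : MvPowerSeries (Fin 2) R) =
          (algebraMap R (MvPowerSeries (Fin 2) R) ↑u₁ *
            algebraMap R (MvPowerSeries (Fin 2) R) ϖ ^ w) *
          (algebraMap R (MvPowerSeries (Fin 2) R) ϖ * MvPowerSeries.X 1) := by
        rw [Algebra.smul_def, ha₁, hw, map_mul, map_pow]
        ring
      rw [e]
      exact Ideal.mul_mem_left _ _ hpy
    have h3x : 3 * (MvPowerSeries.X 0 : MvPowerSeries (Fin 2) R) ^ 2 ∈ I ⊔ M ^ 3 := by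
      have e : 3 * (MvPowerSeries.X 0 : MvPowerSeries (Fin 2) R) ^ 2 =
          (3 * MvPowerSeries.X 0 ^ 2 - a₁ • MvPowerSeries.X 1) + a₁ • MvPowerSeries.X 1 := by ring
      rw [e]
      exact Ideal.add_mem _ (Ideal.mem_sup_left hhI) ha1y
    obtain ⟨b3, hb3⟩ := h3.exists_left_inv
    have e : (MvPowerSeries.X 0 : MvPowerSeries (Fin 2) R) ^ 2 =
        algebraMap R (MvPowerSeries (Fin 2) R) b3 * (3 * MvPowerSeries.X 0 ^ 2) := by
      have h : algebraMap R (MvPowerSeries (Fin 2) R) b3 * 3 = 1 := by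
        rw [← map_ofNat (algebraMap R (MvPowerSeries (Fin 2) R)) 3, ← map_mul, hb3, map_one]
      rw [← mul_assoc, h, one_mul]
    rw [e]
    exact Ideal.mul_mem_left _ _ h3x
  have hjac : M ≤ Ideal.jacobson ⊥ := by
    rw [IsLocalRing.jacobson_eq_maximalIdeal ⊥ bot_ne_top, hM]
    apply Ideal.span_le.mpr
    intro z hz
    simp only [Set.mem_insert_iff, Set.mem_singleton_iff] at hz
    rw [SetLike.mem_coe, IsLocalRing.mem_maximalIdeal, mem_nonunits_iff,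
      MvPowerSeries.isUnit_iff_constantCoeff]
    rcases hz with rfl | rfl | rfl
    · have e : MvPowerSeries.constantCoeff (algebraMap R (MvPowerSeries (Fin 2) R) ϖ) = ϖ := by
        simp [MvPowerSeries.algebraMap_apply]
      rw [e]
      exact hϖ.not_isUnit
    · simp
    · simp
  refine ⟨?_, ?_⟩
  · have e : 2 * v = (2 * v - 1) + 1 := by omega
    have h := part1_gen M I (algebraMap R (MvPowerSeries (Fin 2) R) ϖ) (MvPowerSeries.X 0)
      (MvPowerSeries.X 1) hM hp hx2 hjac (2 * v - 1)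
    rw [← e] at h
    exact h
  · intro a b hab
    have h := part2 ϖ a₁ a₆ hϖ.ne_zero v hv u₁ u₆ ha₁ ha₆ c2 hc2 I M hI hM a b hab
    rw [hmax, Ideal.mem_span_singleton, Ideal.mem_span_singleton]
    exact h


end Groth.Agent.S14909
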