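import Groth.Statements.S14919
import Groth.Agent.Lib.Helper2.PerfSchImm

set_option autoImplicit false
universe u
open CategoryTheory AlgebraicGeometry
open PerfSch

namespace Groth.Agent.S14919

/-- Let p be a prime and let X, Y, X', Y' be schemes of characteristic p (p = 0 in the structure sheaf).
Let π_X : X' ⟶ X and π_Y : Y' ⟶ Y be perfections: X' is perfect (its absolute Frobenius is an
isomorphism) and every morphism from a perfect scheme of characteristic p to X factors uniquely
through π_X, and likewise for π_Y. Let f : X ⟶ Y be a morphism and f' : X' ⟶ Y' the induced morphism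
of perfections, the one with f' ≫ π_Y = π_X ≫ f. If f is a closed immersion, then so is f'. -/
theorem result (p : ℕ) [Fact p.Prime] {X Y XP YP : Scheme.{u}}
    [FrobSch.IsCharP X p] [FrobSch.IsCharP Y p] [FrobSch.IsCharP XP p] [FrobSch.IsCharP YP p]
    (πX : XP ⟶ X) (πY : YP ⟶ Y) (hX : FrobSch.IsPerfection πX p) (hY : FrobSch.IsPerfection πY p)
    (f : X ⟶ Y) (fP : XP ⟶ YP) (w : fP ≫ πY = πX ≫ f)
    [AlgebraicGeometry.IsClosedImmersion f] : AlgebraicGeometry.IsClosedImmersion fP := by
  have hX' := Groth.Agent.Lib.helper2.PerfSchLib.isUnivHomeo_of_isPerfection p πX hX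
  have hY' := Groth.Agent.Lib.helper2.PerfSchLib.isUnivHomeo_of_isPerfection p πY hY
  haveI := Groth.Agent.Lib.helper2.PerfSchFamily.isIntegralHom_of_isUnivHomeo πX hX'
  haveI := Groth.Agent.Lib.helper2.PerfSchFamily.universallyInjective_of_isUnivHomeo πX hX'
  haveI := Groth.Agent.Lib.helper2.PerfSchFamily.isSeparated_of_isUnivHomeo πY hY'
  haveI : IsIntegralHom (fP ≫ πY) := by rw [w]; infer_instance
  haveI : IsIntegralHom fP := Groth.Agent.Lib.helper2.PerfSchImm.isIntegralHom_of_comp fP πY
  have hui : UniversallyInjective (fP ≫ πY) := by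
    rw [w]
    exact MorphismProperty.comp_mem _ _ _ (inferInstance : UniversallyInjective πX)
      (inferInstance : UniversallyInjective f)
  have hui' := Groth.Agent.Lib.helper2.PerfSchImm.univInj_of_comp fP πY hui
  haveI : AlgebraicGeometry.IsReduced XP :=
    Groth.Agent.Lib.helper2.PerfSchLib.isReduced_of_isPerfect p XP hX.1
  exact Groth.Agent.Lib.helper2.PerfSchImm.isClosedImmersion_of_integral_univInj p hY.1 fP hui'

end Groth.Agent.S14919
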