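import Groth.Statements.S14920
import Groth.Agent.Lib.Helper2.PerfSchFamily

set_option autoImplicit false
universe u
open CategoryTheory AlgebraicGeometry
open PerfSch

namespace Groth.Agent.S14920

/-- Let p be a prime and let X, Y, X', Y' be schemes of characteristic p (p = 0 in the structure sheaf).
Let π_X : X' ⟶ X and π_Y : Y' ⟶ Y be perfections: X' is perfect (its absolute Frobenius is an
isomorphism) and every morphism from a perfect scheme of characteristic p to X factors uniquely
through π_X, and likewise for π_Y. Let f : X ⟶ Y be a morphism and f' : X' ⟶ Y' the induced morphism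
of perfections, the one with f' ≫ π_Y = π_X ≫ f. If f is an open immersion, then so is f'. -/
theorem result (p : ℕ) [Fact p.Prime] {X Y XP YP : Scheme.{u}}
    [FrobSch.IsCharP X p] [FrobSch.IsCharP Y p] [FrobSch.IsCharP XP p] [FrobSch.IsCharP YP p]
    (πX : XP ⟶ X) (πY : YP ⟶ Y) (hX : FrobSch.IsPerfection πX p) (hY : FrobSch.IsPerfection πY p)
    (f : X ⟶ Y) (fP : XP ⟶ YP) (w : fP ≫ πY = πX ≫ f)
    [AlgebraicGeometry.IsOpenImmersion f] : AlgebraicGeometry.IsOpenImmersion fP := by
  have hX' := Groth.Agent.Lib.helper2.PerfSchLib.isUnivHomeo_of_isPerfection p πX hX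
  have hY' := Groth.Agent.Lib.helper2.PerfSchLib.isUnivHomeo_of_isPerfection p πY hY
  have hfst : FlatMor.IsUnivHomeo (Limits.pullback.fst f πY) :=
    MorphismProperty.pullback_fst _ _ hY'
  let u : XP ⟶ Limits.pullback f πY := Limits.pullback.lift πX fP w.symm
  have hu1 : u ≫ Limits.pullback.fst f πY = πX := Limits.pullback.lift_fst _ _ _
  have hu2 : u ≫ Limits.pullback.snd f πY = fP := Limits.pullback.lift_snd _ _ _
  have huUH : FlatMor.IsUnivHomeo u := by
    refine (Groth.Agent.S0416.result u (Limits.pullback.fst f πY)).2 ?_ hfst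
    rw [hu1]
    exact hX'
  have hP : HTop.IsAWN (Limits.pullback f πY) :=
    Groth.Agent.Lib.helper2.AWNScheme.isAWN_of_isOpenImmersion (Limits.pullback.snd f πY)
      (Groth.Agent.Lib.helper2.PerfSchLib.isAWN_of_isPerfect p YP hY.1)
  haveI : AlgebraicGeometry.IsReduced XP :=
    Groth.Agent.Lib.helper2.PerfSchLib.isReduced_of_isPerfect p XP hX.1
  haveI : IsIso u := Groth.Agent.Lib.helper2.AWNScheme.isIso_of_isAWN u hP huUH
  rw [← hu2]
  infer_instance

end Groth.Agent.S14920
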