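import Groth.Statements.S14921
import Groth.Agent.Lib.Helper2.PerfSchImm

set_option autoImplicit false
universe u
open CategoryTheory AlgebraicGeometry
open PerfSch

namespace Groth.Agent.S14921

/-- Let p be a prime and let X, Y, X', Y' be schemes of characteristic p (p = 0 in the structure sheaf).
Let π_X : X' ⟶ X and π_Y : Y' ⟶ Y be perfections: X' is perfect (its absolute Frobenius is an
isomorphism) and every morphism from a perfect scheme of characteristic p to X factors uniquely
through π_X, and likewise for π_Y. Let f : X ⟶ Y be a morphism and f' : X' ⟶ Y' the induced morphism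
of perfections, the one with f' ≫ π_Y = π_X ≫ f. If f is an immersion (a closed immersion into an
open subscheme), then so is f'. -/
theorem result (p : ℕ) [Fact p.Prime] {X Y XP YP : Scheme.{u}}
    [FrobSch.IsCharP X p] [FrobSch.IsCharP Y p] [FrobSch.IsCharP XP p] [FrobSch.IsCharP YP p]
    (πX : XP ⟶ X) (πY : YP ⟶ Y) (hX : FrobSch.IsPerfection πX p) (hY : FrobSch.IsPerfection πY p)
    (f : X ⟶ Y) (fP : XP ⟶ YP) (w : fP ≫ πY = πX ≫ f)
    [AlgebraicGeometry.IsImmersion f] : AlgebraicGeometry.IsImmersion fP := by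
  have hX' := Groth.Agent.Lib.helper2.PerfSchLib.isUnivHomeo_of_isPerfection p πX hX
  have hY' := Groth.Agent.Lib.helper2.PerfSchLib.isUnivHomeo_of_isPerfection p πY hY
  haveI := Groth.Agent.Lib.helper2.PerfSchFamily.isIntegralHom_of_isUnivHomeo πX hX'
  haveI := Groth.Agent.Lib.helper2.PerfSchFamily.universallyInjective_of_isUnivHomeo πX hX'
  haveI : AlgebraicGeometry.IsReduced XP :=
    Groth.Agent.Lib.helper2.PerfSchLib.isReduced_of_isPerfect p XP hX.1
  -- the open `V` of `Y` in which `X` is closed, and its preimage in `YP`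
  set V : Y.Opens := f.coborderRange with hV
  set V' : YP.Opens := πY ⁻¹ᵁ V with hV'
  have hfV : f.liftCoborder ≫ V.ι = f := f.liftCoborder_ι
  have hw : ∀ x, πY (fP x) = f (πX x) := fun x => by
    rw [← Scheme.Hom.comp_apply, w, Scheme.Hom.comp_apply]
  have hrange : Set.range fP ⊆ Set.range V'.ι := by
    rw [Scheme.Opens.range_ι]
    rintro _ ⟨x, rfl⟩
    show πY (fP x) ∈ V
    rw [hw, ← hfV, Scheme.Hom.comp_apply]
    exact (f.liftCoborder (πX x)).2
  let fP' : XP ⟶ V'.toScheme := IsOpenImmersion.lift V'.ι fP hrange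
  have hfP' : fP' ≫ V'.ι = fP := IsOpenImmersion.lift_fac _ _ _
  -- `V'` is perfect
  haveI : FrobSch.IsCharP (V' : Scheme) p := FrobSch.IsCharP.of_hom V'.ι p
  have hV'awn : HTop.IsAWN (V' : Scheme) :=
    Groth.Agent.Lib.helper2.AWNScheme.isAWN_of_isOpenImmersion V'.ι
      (Groth.Agent.Lib.helper2.PerfSchLib.isAWN_of_isPerfect p YP hY.1)
  have hV'perf : FrobSch.IsPerfect (V' : Scheme) p :=
    Groth.Agent.Lib.helper2.PerfSchLib.isPerfect_of_isAWN p _ hV'awn
  -- the restriction of `πY`
  have hπV : FlatMor.IsUnivHomeo (πY ∣_ V) := IsZariskiLocalAtTarget.restrict hY' V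
  haveI := Groth.Agent.Lib.helper2.PerfSchFamily.isSeparated_of_isUnivHomeo (πY ∣_ V) hπV
  have hcomm : fP' ≫ (πY ∣_ V) = πX ≫ f.liftCoborder := by
    rw [← cancel_mono V.ι, Category.assoc, Category.assoc, morphismRestrict_ι, hfV,
      ← Category.assoc, hfP', w]
  haveI : IsIntegralHom (fP' ≫ (πY ∣_ V)) := by rw [hcomm]; infer_instance
  haveI : IsIntegralHom fP' := Groth.Agent.Lib.helper2.PerfSchImm.isIntegralHom_of_comp fP' (πY ∣_ V)
  have hui : UniversallyInjective (fP' ≫ (πY ∣_ V)) := by
    rw [hcomm]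
    exact MorphismProperty.comp_mem _ _ _ (inferInstance : UniversallyInjective πX)
      (inferInstance : UniversallyInjective f.liftCoborder)
  have hui' := Groth.Agent.Lib.helper2.PerfSchImm.univInj_of_comp fP' (πY ∣_ V) hui
  haveI : IsClosedImmersion fP' :=
    Groth.Agent.Lib.helper2.PerfSchImm.isClosedImmersion_of_integral_univInj p hV'perf fP' hui'
  rw [← hfP']
  infer_instance

end Groth.Agent.S14921
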