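import Groth.Statements.S14922
import Groth.Agent.Lib.Helper2.PerfSchFamily
import Groth.Agent.Lib.Helper2.FrobLib
import Groth.Agent.S0425

set_option autoImplicit false
universe u
open CategoryTheory AlgebraicGeometry
open PerfSch

namespace Groth.Agent.S14922

/-- Let p be a prime and let X, Y, X', Y' be schemes of characteristic p (p = 0 in the structure sheaf).
Let π_X : X' ⟶ X and π_Y : Y' ⟶ Y be perfections: X' is perfect (its absolute Frobenius is an
isomorphism) and every morphism from a perfect scheme of characteristic p to X factors uniquely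
through π_X, and likewise for π_Y. Let f : X ⟶ Y be a morphism and f' : X' ⟶ Y' the induced morphism
of perfections, the one with f' ≫ π_Y = π_X ≫ f. If f is etale, then the commutative square formed
by f', π_X, π_Y and f is cartesian, i.e. X' with the maps f' and π_X is a fibre product of Y' and X
over Y; in particular f', being a base change of f, is etale. (The published item states that the
perfection of an etale morphism is etale; this row states what its proof establishes, that X' ⟶ X
×_Y Y' is an isomorphism, from which etaleness of f' follows by base change.) -/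
theorem result (p : ℕ) [Fact p.Prime] {X Y XP YP : Scheme.{u}}
    [FrobSch.IsCharP X p] [FrobSch.IsCharP Y p] [FrobSch.IsCharP XP p] [FrobSch.IsCharP YP p]
    (πX : XP ⟶ X) (πY : YP ⟶ Y) (hX : FrobSch.IsPerfection πX p) (hY : FrobSch.IsPerfection πY p)
    (f : X ⟶ Y) (fP : XP ⟶ YP) (w : fP ≫ πY = πX ≫ f)
    [AlgebraicGeometry.Etale f] : IsPullback fP πX πY f := by
  have hX' := Groth.Agent.Lib.helper2.PerfSchLib.isUnivHomeo_of_isPerfection p πX hX
  have hY' := Groth.Agent.Lib.helper2.PerfSchLib.isUnivHomeo_of_isPerfection p πY hY
  -- the fibre product and its projections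
  set P := Limits.pullback πY f with hP
  have hsnd : FlatMor.IsUnivHomeo (Limits.pullback.snd πY f) :=
    MorphismProperty.pullback_snd _ _ hY'
  haveI : FrobSch.IsCharP P p := FrobSch.IsCharP.of_hom (Limits.pullback.fst πY f) p
  -- `P` is perfect: its Frobenius is a weakly etale universal homeomorphism
  haveI : IsIso (FrobSch.frob YP p) := hY.1
  haveI : WeaklyEtale (FrobSch.frob P p ≫ Limits.pullback.fst πY f) := by
    rw [FrobSch.frob_comp]
    infer_instance
  haveI : WeaklyEtale (FrobSch.frob P p) :=
    WeaklyEtale.of_comp (FrobSch.frob P p) (Limits.pullback.fst πY f)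
  have hPperf : FrobSch.IsPerfect P p :=
    Groth.Agent.S0425.result (FrobSch.frob P p)
      (Groth.Agent.Lib.helper2.FrobLib.isUnivHomeo_frob p P)
  have hPawn : HTop.IsAWN P := Groth.Agent.Lib.helper2.PerfSchLib.isAWN_of_isPerfect p P hPperf
  -- the comparison map
  let u : XP ⟶ P := Limits.pullback.lift fP πX w
  have hu1 : u ≫ Limits.pullback.fst πY f = fP := Limits.pullback.lift_fst _ _ _
  have hu2 : u ≫ Limits.pullback.snd πY f = πX := Limits.pullback.lift_snd _ _ _
  have huUH : FlatMor.IsUnivHomeo u := by
    refine (Groth.Agent.S0416.result u (Limits.pullback.snd πY f)).2 ?_ hsnd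
    rw [hu2]
    exact hX'
  haveI : AlgebraicGeometry.IsReduced XP :=
    Groth.Agent.Lib.helper2.PerfSchLib.isReduced_of_isPerfect p XP hX.1
  haveI : IsIso u := Groth.Agent.Lib.helper2.AWNScheme.isIso_of_isAWN u hPawn huUH
  exact IsPullback.of_iso_pullback ⟨w⟩ (asIso u) hu1 hu2

end Groth.Agent.S14922
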