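import Groth.Statements.S14955
import Groth.Agent.Lib.Helper12.Milnor
-- import your own Groth.Agent.* helpers here

set_option autoImplicit false
universe u
open TensorProduct
open EtAlg

namespace Groth.Agent.S14955

/-- Let B' = B ×_A A' be a fibre product of commutative rings with A' → A surjective. Then the square is
also a pushout of commutative rings: the canonical map B ⊗_{B'} A' → A is an isomorphism. -/
theorem result (B' B A' A : Type u) [CommRing B'] [CommRing B] [CommRing A'] [CommRing A]
    [Algebra B' B] [Algebra B' A'] [Algebra B A] [Algebra A' A] [Algebra B' A] [IsScalarTower B' B A] [IsScalarTower B' A' A]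
    (hsq : EtMil.IsFibreSquare B' B A' A) : Algebra.IsPushout B' B A' A := by
  have hsurj := Groth.Agent.Lib.helper12.milnor_surjective hsq
  let f : A' →ₗ[B'] A := (IsScalarTower.toAlgHom B' A' A).toLinearMap
  let μ : B ⊗[B'] A' →ₗ[B] A := f.liftBaseChange B
  -- every element is of the form 1 ⊗ a'
  have hform : ∀ t : B ⊗[B'] A', ∃ a' : A', t = (1 : B) ⊗ₜ[B'] a' := by
    intro t
    induction t using TensorProduct.induction_on with
    | zero => exact ⟨0, (TensorProduct.tmul_zero _ _).symm⟩
    | tmul b a' =>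
      obtain ⟨b', rfl⟩ := hsurj b
      refine ⟨b' • a', ?_⟩
      rw [TensorProduct.tmul_smul, TensorProduct.smul_tmul', Algebra.smul_def, mul_one]
    | add x y hx hy =>
      obtain ⟨a, rfl⟩ := hx
      obtain ⟨b, rfl⟩ := hy
      exact ⟨a + b, (TensorProduct.tmul_add _ _ _).symm⟩
  have hμ1 : ∀ a' : A', μ ((1 : B) ⊗ₜ[B'] a') = algebraMap A' A a' := by
    intro a'
    simp [μ, f]
  have hbij : Function.Bijective μ := by
    constructor
    · rw [injective_iff_map_eq_zero]
      intro t ht
      obtain ⟨a', rfl⟩ := hform t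
      rw [hμ1] at ht
      obtain ⟨j, ⟨hj1, hj2⟩, _⟩ := hsq.2 0 a' (by rw [map_zero, ht])
      rw [← hj2, Algebra.algebraMap_eq_smul_one, TensorProduct.tmul_smul,
        TensorProduct.smul_tmul', Algebra.smul_def, hj1, zero_mul, TensorProduct.zero_tmul]
    · intro a
      obtain ⟨a', rfl⟩ := hsq.1 a
      exact ⟨(1 : B) ⊗ₜ[B'] a', hμ1 a'⟩
  exact ⟨IsBaseChange.of_equiv (LinearEquiv.ofBijective μ hbij) (fun x => hμ1 x)⟩

end Groth.Agent.S14955
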