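import Groth.Statements.S14958
import Groth.Agent.Lib.Helper7.TorAPI4

set_option autoImplicit false
universe u
open TensorProduct CategoryTheory CategoryTheory.Limits
open EtAlg

namespace Groth.Agent.S14958


open Groth.Agent.Lib.helper7

/-- Let B' = B ×_A A' be a fibre product of commutative rings with A' → A surjective and L' a B'-module.
Then L' is a fixed point of the glueing adjunction, i.e. the canonical map from L' to the compatible
pairs in (B ⊗_{B'} L') × (A' ⊗_{B'} L') is injective (it is always surjective), if and only if the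
map Tor_1(L', B) ⊕ Tor_1(L', A') → Tor_1(L', A) over B' induced by B → A and A' → A is surjective.
Here Tor_1(L', –) is the first left derived functor of L' ⊗_{B'} – on B'-modules. -/
theorem result (B' B A' A : Type u) [CommRing B'] [CommRing B] [CommRing A'] [CommRing A]
    [Algebra B' B] [Algebra B' A'] [Algebra B A] [Algebra A' A] [Algebra B' A] [IsScalarTower B' B A] [IsScalarTower B' A' A]
    (hsq : EtMil.IsFibreSquare B' B A' A)
    (L' : Type u) [AddCommGroup L'] [Module B' L'] :
    (∀ l : L', ((1 : B) ⊗ₜ[B'] l : B ⊗[B'] L') = 0 → ((1 : A') ⊗ₜ[B'] l : A' ⊗[B'] L') = 0 → l = 0) ↔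
    Epi (biprod.desc
      (((Tor (ModuleCat.{u} B') 1).obj (ModuleCat.of B' L')).map
        (ModuleCat.ofHom (IsScalarTower.toAlgHom B' B A).toLinearMap))
      (((Tor (ModuleCat.{u} B') 1).obj (ModuleCat.of B' L')).map
        (ModuleCat.ofHom (IsScalarTower.toAlgHom B' A' A).toLinearMap))) := by
  classical
  obtain ⟨hsurj, hfib⟩ := hsq
  obtain ⟨p, hp⟩ : ∃ p : B →ₗ[B'] A, p = (IsScalarTower.toAlgHom B' B A).toLinearMap := ⟨_, rfl⟩
  obtain ⟨q, hq⟩ : ∃ q : A' →ₗ[B'] A, q = (IsScalarTower.toAlgHom B' A' A).toLinearMap := ⟨_, rfl⟩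
  have hp' : ∀ b, p b = algebraMap B A b := fun b => by rw [hp]; rfl
  have hq' : ∀ a, q a = algebraMap A' A a := fun a => by rw [hq]; rfl
  let ι : B' →ₗ[B'] B × A' := (Algebra.linearMap B' B).prod (-(Algebra.linearMap B' A'))
  have hι' : ∀ b', ι b' = (algebraMap B' B b', -(algebraMap B' A' b')) := fun b' => rfl
  let φ : B × A' →ₗ[B'] A := p.coprod q
  have hφ' : ∀ x, φ x = algebraMap B A x.1 + algebraMap A' A x.2 := fun x => by
    change p x.1 + q x.2 = _
    rw [hp', hq']
  have hcompat : ∀ b', algebraMap B A (algebraMap B' B b') =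
      algebraMap A' A (algebraMap B' A' b') := fun b' => by
    rw [← IsScalarTower.algebraMap_apply, ← IsScalarTower.algebraMap_apply]
  have hex : Function.Exact ι φ := by
    intro x
    constructor
    · intro hx
      rw [hφ'] at hx
      have hx' : algebraMap B A x.1 = algebraMap A' A (-x.2) := by
        rw [map_neg]; exact eq_neg_of_add_eq_zero_left hx
      obtain ⟨b', ⟨hb1, hb2⟩, -⟩ := hfib x.1 (-x.2) hx'
      refine ⟨b', ?_⟩
      rw [hι']
      apply Prod.ext
      · exact hb1
      · change -(algebraMap B' A' b') = x.2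
        rw [hb2, neg_neg]
    · rintro ⟨b', rfl⟩
      rw [hφ', hι']
      change algebraMap B A (algebraMap B' B b') + algebraMap A' A (-(algebraMap B' A' b')) = 0
      rw [map_neg, hcompat, add_neg_cancel]
  have hιinj : Function.Injective ι := by
    intro b' c' h
    rw [hι', hι'] at h
    have h1 : algebraMap B' B b' = algebraMap B' B c' := congrArg Prod.fst h
    have h2 : algebraMap B' A' b' = algebraMap B' A' c' := neg_injective (congrArg Prod.snd h)
    obtain ⟨d, -, hd⟩ := hfib (algebraMap B' B b') (algebraMap B' A' b') (hcompat b')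
    rw [hd b' ⟨rfl, rfl⟩, hd c' ⟨h1.symm, h2.symm⟩]
  have hφsurj : Function.Surjective φ := by
    intro a
    obtain ⟨a', rfl⟩ := hsurj a
    exact ⟨(0, a'), by rw [hφ']; simp⟩
  have hS := ModSES.mkSES_shortExact ι φ hex hιinj hφsurj
  rw [← hp, ← hq, TorAPI.epi_biprod_desc_iff ((Tor (ModuleCat.{u} B') 1).obj (ModuleCat.of B' L')) p q]
  have key := TorAPI.epi_T_one_map_g_iff (ModuleCat.of B' L') hS
  have key' : Epi (((Tor (ModuleCat.{u} B') 1).obj (ModuleCat.of B' L')).map
      (ModuleCat.ofHom (p.coprod q))) ↔ Function.Injective (LinearMap.lTensor L' ι) := key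
  rw [key']
  have hι1 : ι 1 = ((1 : B), -(1 : A')) := by rw [hι']; simp
  constructor
  · intro H
    rw [injective_iff_map_eq_zero]
    intro t ht
    obtain ⟨l, rfl⟩ : ∃ l : L', t = l ⊗ₜ[B'] (1 : B') :=
      ⟨TensorProduct.rid B' L' t, by
        rw [← TensorProduct.rid_symm_apply, LinearEquiv.symm_apply_apply]⟩
    rw [LinearMap.lTensor_tmul, hι1] at ht
    have h1 : (l ⊗ₜ[B'] (1 : B) : L' ⊗[B'] B) = 0 := by
      have := congrArg (LinearMap.lTensor L' (LinearMap.fst B' B A')) ht
      simpa using this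
    have h2 : (l ⊗ₜ[B'] (1 : A') : L' ⊗[B'] A') = 0 := by
      have := congrArg (LinearMap.lTensor L' (LinearMap.snd B' B A')) ht
      simpa [TensorProduct.tmul_neg] using this
    have h1' : ((1 : B) ⊗ₜ[B'] l : B ⊗[B'] L') = 0 := by
      have := congrArg (TensorProduct.comm B' L' B) h1
      simpa using this
    have h2' : ((1 : A') ⊗ₜ[B'] l : A' ⊗[B'] L') = 0 := by
      have := congrArg (TensorProduct.comm B' L' A') h2
      simpa using this
    rw [H l h1' h2', TensorProduct.zero_tmul]
  · intro H l h1' h2'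
    have h1 : (l ⊗ₜ[B'] (1 : B) : L' ⊗[B'] B) = 0 := by
      have := congrArg (TensorProduct.comm B' B L') h1'
      simpa using this
    have h2 : (l ⊗ₜ[B'] (1 : A') : L' ⊗[B'] A') = 0 := by
      have := congrArg (TensorProduct.comm B' A' L') h2'
      simpa using this
    have h3 : LinearMap.lTensor L' ι (l ⊗ₜ[B'] (1 : B')) = 0 := by
      rw [LinearMap.lTensor_tmul, hι1]
      have e : ((1 : B), -(1 : A')) = LinearMap.inl B' B A' 1 - LinearMap.inr B' B A' 1 := by
        simp
      rw [e, TensorProduct.tmul_sub]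
      have e1 : l ⊗ₜ[B'] (LinearMap.inl B' B A' 1) =
          LinearMap.lTensor L' (LinearMap.inl B' B A') (l ⊗ₜ[B'] (1 : B)) := by
        rw [LinearMap.lTensor_tmul]
      have e2 : l ⊗ₜ[B'] (LinearMap.inr B' B A' 1) =
          LinearMap.lTensor L' (LinearMap.inr B' B A') (l ⊗ₜ[B'] (1 : A')) := by
        rw [LinearMap.lTensor_tmul]
      rw [e1, e2, h1, h2, map_zero, map_zero, sub_zero]
    have h4 : (l ⊗ₜ[B'] (1 : B') : L' ⊗[B'] B') = 0 := by
      apply H
      rw [h3, map_zero]
    have := congrArg (TensorProduct.rid B' L') h4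
    simpa using this

end Groth.Agent.S14958
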