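import Groth.Statements.S1496
import Mathlib
import Groth.Agent.Lib.Helper12.VAmple6
import Groth.Agent.Lib.Helper12.RelAmpleComp
import Groth.Agent.Lib.Helper12.AmpleRestrict
-- import your own Groth.Agent.* helpers here

set_option autoImplicit false
universe u
attribute [local instance] HasDerivedCategory.standard
open FlatMor

namespace Groth.Agent.S1496

open AlgebraicGeometry CategoryTheory Limits in
/-- Let S be a scheme carrying an ample invertible sheaf and f : X → S a morphism. Then f is a closed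
immersion into some projective space over S (f factors as a closed immersion X → Pⁿ_S followed by
the projection Pⁿ_S → S, for some n) if and only if f is proper and X carries an ample invertible
sheaf; and the latter holds if and only if f is proper and some O_X-module is ample relative to f. -/
theorem result {X S : Scheme.{u}} (hS : ∃ N : S.Modules, CohB1.IsAmple N) (f : X ⟶ S) :
    ((∃ (n : ℕ) (i : X ⟶ CohB1.ProjSpaceOver n S), IsClosedImmersion i ∧ i ≫ pullback.snd (CohB1.ProjSpace.toSpec n (ULift.{u} ℤ)) (specULiftZIsTerminal.from S) = f) ↔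
      (IsProper f ∧ ∃ L : X.Modules, CohB1.IsAmple L)) ∧
    ((IsProper f ∧ ∃ L : X.Modules, CohB1.IsAmple L) ↔ (IsProper f ∧ ∃ L : X.Modules, RelAmple.IsRelAmple f L)) := by
  obtain ⟨N, hN⟩ := hS
  have key2 : ∀ (_ : IsProper f) (L : X.Modules), RelAmple.IsRelAmple f L →
      ∃ L' : X.Modules, CohB1.IsAmple L' := by
    intro hp L hL
    obtain ⟨n₀, -, hn⟩ :=
      Groth.Agent.Lib.helper12.RelAmpleComp.isAmple_tensor_pullback_tensorPow_eventually f hL hN
    exact ⟨_, hn n₀ le_rfl⟩
  have key1 : ∀ (_ : IsProper f) (L : X.Modules), CohB1.IsAmple L →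
      RelAmple.IsRelAmple f L := by
    intro hp L hL
    refine ⟨inferInstance, fun V => ?_⟩
    exact Groth.Agent.Lib.helper12.AmpleRestrict.isAmple_restrict_opens hL _
      (f.isCompact_preimage V.2.isCompact)
  refine ⟨⟨?_, ?_⟩, ⟨?_, ?_⟩⟩
  · rintro ⟨n, i, hi, hif⟩
    have := Groth.Agent.Lib.helper19.ProjSpaceProper.proper_toBase n S
    have hp : IsProper f := by
      rw [← hif]
      exact (inferInstance : IsProper (i ≫ CohB1.ProjSpaceOver.toBase n S))
    refine ⟨hp, ?_⟩
    exact key2 hp _ (Groth.Agent.Lib.helper12.VAmple5.isRelAmple_of_isRelVeryAmplePn f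
      ⟨n, i, inferInstance, hif, ⟨Iso.refl _⟩⟩)
  · rintro ⟨hp, L, hL⟩
    obtain ⟨k₀, hk⟩ := Groth.Agent.Lib.helper12.VAmple4.isRelVeryAmplePn_tensorPow_eventually f hL
    obtain ⟨n, i, hi, hif, -⟩ := hk k₀ le_rfl
    have := Groth.Agent.Lib.helper19.ProjSpaceProper.proper_toBase n S
    have hif' : i ≫ CohB1.ProjSpaceOver.toBase n S = f := hif
    have : IsProper (i ≫ CohB1.ProjSpaceOver.toBase n S) := by rw [hif']; exact hp
    have hpi : IsProper i := IsProper.of_comp i (CohB1.ProjSpaceOver.toBase n S)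
    have hcl : IsClosed (Set.range i) := i.isClosedMap.isClosed_range
    exact ⟨n, i, IsClosedImmersion.of_isPreimmersion i hcl, hif⟩
  · rintro ⟨hp, L, hL⟩
    exact ⟨hp, L, key1 hp L hL⟩
  · rintro ⟨hp, L, hL⟩
    exact ⟨hp, key2 hp L hL⟩

end Groth.Agent.S1496
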