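import Groth.Statements.S14965
import Mathlib
import Groth.Agent.Lib.Helper8.MilnorAzumaya

set_option autoImplicit false
universe u
open TensorProduct
open Brauer

namespace Groth.Agent.S14965

/-- Let B' = B ×_A A' be a fibre product of commutative rings with A' → A surjective, N an Azumaya
B-algebra, M' an Azumaya A'-algebra and φ : A ⊗_B N ≅ A ⊗_{A'} M' an isomorphism of A-algebras. If a
B'-algebra D' with B'-algebra homomorphisms π₁ : D' → N and π₂ : D' → M' is the glued algebra N ×_φ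
M', in the sense that (π₁, π₂) is injective with image the pairs (n, m') satisfying φ(1 ⊗ n) = 1 ⊗
m', then D' is an Azumaya B'-algebra. (The published statement is for Azumaya algebras on the
pushout scheme of a closed immersion and an affine morphism, glued as u_*B' ×_{h_*} f_*A; this row
is the case of an affine pushout.) -/
theorem result (B' B A' A : Type u) [CommRing B'] [CommRing B] [CommRing A'] [CommRing A]
    [Algebra B' B] [Algebra B' A'] [Algebra B A] [Algebra A' A] [Algebra B' A] [IsScalarTower B' B A] [IsScalarTower B' A' A]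
    (hsq : EtMil.IsFibreSquare B' B A' A)
    (N : Type u) [Ring N] [Algebra B N] [Algebra B' N] [IsScalarTower B' B N] [IsAzumaya B N]
    (M' : Type u) [Ring M'] [Algebra A' M'] [Algebra B' M'] [IsScalarTower B' A' M'] [IsAzumaya A' M']
    (φ : A ⊗[B] N ≃ₐ[A] A ⊗[A'] M')
    (D' : Type u) [Ring D'] [Algebra B' D'] (π₁ : D' →ₐ[B'] N) (π₂ : D' →ₐ[B'] M')
    (hinj : ∀ d : D', π₁ d = 0 → π₂ d = 0 → d = 0)
    (himg : ∀ (n : N) (m' : M'), φ ((1 : A) ⊗ₜ[B] n) = (1 : A) ⊗ₜ[A'] m' ↔ ∃ d : D', π₁ d = n ∧ π₂ d = m') :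
    IsAzumaya B' D' := by
  classical
  let φl : A ⊗[B] N ≃ₗ[A] A ⊗[A'] M' := φ.toLinearEquiv
  have hmem : ∀ d : D', ((π₁ d, π₂ d) : N × M') ∈ EtMil.glue B' φl := fun d =>
    (himg (π₁ d) (π₂ d)).mpr ⟨d, rfl, rfl⟩
  let Pm : D' →ₗ[B'] EtMil.glue B' φl :=
    { toFun := fun d => ⟨(π₁ d, π₂ d), hmem d⟩
      map_add' := fun x y => Subtype.ext (by simp)
      map_smul' := fun c x => Subtype.ext (by simp) }
  have hPm : Function.Bijective Pm := by
    constructor
    · rw [injective_iff_map_eq_zero]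
      intro d hd
      have h1 : π₁ d = 0 := congrArg (fun z => z.1.1) hd
      have h2 : π₂ d = 0 := congrArg (fun z => z.1.2) hd
      exact hinj d h1 h2
    · rintro ⟨⟨n, m'⟩, hx⟩
      obtain ⟨d, h1, h2⟩ := (himg n m').mp hx
      exact ⟨d, Subtype.ext (Prod.ext h1 h2)⟩
  let Pe : D' ≃ₗ[B'] EtMil.glue B' φl := LinearEquiv.ofBijective Pm hPm
  -- the two base changes
  let ψ₁ : B ⊗[B'] D' →ₐ[B] N :=
    Algebra.TensorProduct.lift (Algebra.ofId B N) π₁ (fun b d => Algebra.commutes b (π₁ d))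
  let ψ₂ : A' ⊗[B'] D' →ₐ[A'] M' :=
    Algebra.TensorProduct.lift (Algebra.ofId A' M') π₂ (fun b d => Algebra.commutes b (π₂ d))
  have hψ₁ : Function.Bijective ψ₁ := by
    have h1 : ∀ z, ψ₁ z = Groth.Agent.Lib.helper8.Mil.glueFstEquiv φl hsq
        (LinearEquiv.lTensor B Pe z) := by
      intro z
      induction z using TensorProduct.induction_on with
      | zero => simp
      | add x y hx hy => rw [map_add, map_add, map_add, hx, hy]
      | tmul b d =>
        rw [LinearEquiv.lTensor_tmul, Groth.Agent.Lib.helper8.Mil.glueFstEquiv_tmul]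
        simp only [ψ₁, Algebra.TensorProduct.lift_tmul, Algebra.ofId_apply]
        rw [Algebra.smul_def]
        rfl
    have h2 : (ψ₁ : B ⊗[B'] D' → N) = ⇑(Groth.Agent.Lib.helper8.Mil.glueFstEquiv φl hsq) ∘
        ⇑(LinearEquiv.lTensor B Pe) := funext h1
    rw [h2]
    exact (LinearEquiv.bijective _).comp (LinearEquiv.bijective _)
  have hψ₂ : Function.Bijective ψ₂ := by
    have h1 : ∀ z, ψ₂ z = Groth.Agent.Lib.helper8.Mil.glueSndEquiv φl hsq
        (LinearEquiv.lTensor A' Pe z) := by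
      intro z
      induction z using TensorProduct.induction_on with
      | zero => simp
      | add x y hx hy => rw [map_add, map_add, map_add, hx, hy]
      | tmul b d =>
        rw [LinearEquiv.lTensor_tmul, Groth.Agent.Lib.helper8.Mil.glueSndEquiv_tmul]
        simp only [ψ₂, Algebra.TensorProduct.lift_tmul, Algebra.ofId_apply]
        rw [Algebra.smul_def]
        rfl
    have h2 : (ψ₂ : A' ⊗[B'] D' → M') = ⇑(Groth.Agent.Lib.helper8.Mil.glueSndEquiv φl hsq) ∘
        ⇑(LinearEquiv.lTensor A' Pe) := funext h1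
    rw [h2]
    exact (LinearEquiv.bijective _).comp (LinearEquiv.bijective _)
  haveI : IsAzumaya B (B ⊗[B'] D') :=
    IsAzumaya.of_AlgEquiv B N (B ⊗[B'] D') (AlgEquiv.ofBijective ψ₁ hψ₁).symm
  haveI : IsAzumaya A' (A' ⊗[B'] D') :=
    IsAzumaya.of_AlgEquiv A' M' (A' ⊗[B'] D') (AlgEquiv.ofBijective ψ₂ hψ₂).symm
  exact Groth.Agent.Lib.helper8.Mil.isAzumaya_of_baseChangePair hsq D'

end Groth.Agent.S14965
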