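import Groth.Statements.S14966
-- import your own Groth.Agent.* helpers here

set_option autoImplicit false
universe u
open EtAlg

namespace Groth.Agent.S14966

/-- Let A → A' be an injective homomorphism of commutative rings and let I ⊆ A be the conductor, i.e.
the annihilator of the A-module A'/A. Then the conductor square formed by A → A/I, A → A', A/I →
A'/IA' and A' → A'/IA' is a fibre product square of rings with A' → A'/IA' surjective: A = A/I
×_{A'/IA'} A'. (The published Lemma is for the conductor square of a finite modification of schemes;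
this row is the underlying statement for one injective ring map, which needs no finiteness.) -/
theorem result (A A' : Type u) [CommRing A] [CommRing A'] [Algebra A A']
    (hinj : Function.Injective (algebraMap A A')) :
    EtMil.IsFibreSquare A (A ⧸ Module.annihilator A (A' ⧸ LinearMap.range (Algebra.linearMap A A'))) A'
      (A' ⧸ Ideal.map (algebraMap A A') (Module.annihilator A (A' ⧸ LinearMap.range (Algebra.linearMap A A')))) := by
  set Rg : Submodule A A' := LinearMap.range (Algebra.linearMap A A') with hRg
  set I : Ideal A := Module.annihilator A (A' ⧸ Rg) with hIdef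
  have memI : ∀ i : A, i ∈ I ↔ ∀ a' : A', ∃ c : A, algebraMap A A' c = algebraMap A A' i * a' := by
    intro i
    rw [hIdef, Module.mem_annihilator]
    constructor
    · intro h a'
      have := h (Submodule.Quotient.mk a')
      rw [← Submodule.Quotient.mk_smul, Submodule.Quotient.mk_eq_zero] at this
      obtain ⟨c, hc⟩ := this
      exact ⟨c, by rw [← Algebra.smul_def]; exact hc⟩
    · intro h m
      obtain ⟨a', rfl⟩ := Submodule.Quotient.mk_surjective _ m
      rw [← Submodule.Quotient.mk_smul, Submodule.Quotient.mk_eq_zero]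
      obtain ⟨c, hc⟩ := h a'
      exact ⟨c, by rw [Algebra.smul_def]; exact hc⟩
  have hmap : ∀ x ∈ Ideal.map (algebraMap A A') I, ∃ i ∈ I, algebraMap A A' i = x := by
    intro x hx
    rw [Ideal.map] at hx
    induction hx using Submodule.span_induction with
    | mem y hy =>
      obtain ⟨i, hi, rfl⟩ := hy
      exact ⟨i, hi, rfl⟩
    | zero => exact ⟨0, I.zero_mem, map_zero _⟩
    | add y z _ _ hy hz =>
      obtain ⟨i, hi, rfl⟩ := hy
      obtain ⟨j, hj, rfl⟩ := hz
      exact ⟨i + j, I.add_mem hi hj, map_add _ _ _⟩
    | smul a' y _ hy =>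
      obtain ⟨i, hi, rfl⟩ := hy
      obtain ⟨c, hc⟩ := (memI i).mp hi a'
      refine ⟨c, (memI c).mpr ?_, ?_⟩
      · intro a''
        obtain ⟨d, hd⟩ := (memI i).mp hi (a' * a'')
        exact ⟨d, by rw [hd, hc, mul_assoc]⟩
      · rw [hc, smul_eq_mul, mul_comm]
  refine ⟨Ideal.Quotient.mk_surjective, ?_⟩
  intro b a' hba
  obtain ⟨b₀, rfl⟩ := Ideal.Quotient.mk_surjective b
  rw [Ideal.Quotient.algebraMap_quotient_map_quotient, Ideal.Quotient.algebraMap_eq,
    Ideal.Quotient.eq] at hba
  obtain ⟨i, hi, hi'⟩ := hmap _ hba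
  refine ⟨b₀ - i, ⟨?_, ?_⟩, ?_⟩
  · rw [Ideal.Quotient.algebraMap_eq, map_sub, Ideal.Quotient.eq_zero_iff_mem.mpr hi, sub_zero]
  · rw [map_sub, hi']; ring
  · rintro c ⟨_, hc⟩
    apply hinj
    rw [hc, map_sub, hi']; ring

end Groth.Agent.S14966
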