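import Groth.Statements.S1497
import Mathlib
import Groth.Agent.Lib.Helper12.VAmple6
import Groth.Agent.Lib.Helper12.RelAmpleComp
-- import your own Groth.Agent.* helpers here

set_option autoImplicit false
universe u
attribute [local instance] HasDerivedCategory.standard
open FlatMor

namespace Groth.Agent.S1497

open AlgebraicGeometry CategoryTheory Limits in
/-- Let S be a scheme with an ample invertible sheaf and f : X → S a morphism. Then f is a quasi-compact
immersion into some projective space P^n_S over S if and only if f is of finite type and X has an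
ample invertible sheaf. -/
theorem result {X S : Scheme.{u}} (hS : ∃ N : S.Modules, CohB1.IsAmple N) (f : X ⟶ S) :
    (∃ (n : ℕ) (i : X ⟶ CohB1.ProjSpaceOver n S), IsImmersion i ∧ QuasiCompact i ∧ i ≫ pullback.snd (CohB1.ProjSpace.toSpec n (ULift.{u} ℤ)) (specULiftZIsTerminal.from S) = f) ↔
      (LocallyOfFiniteType f ∧ QuasiCompact f ∧ ∃ L : X.Modules, CohB1.IsAmple L) := by
  obtain ⟨N, hN⟩ := hS
  constructor
  · rintro ⟨n, i, hi, hqc, hif⟩
    have := Groth.Agent.Lib.helper19.ProjSpaceProper.proper_toBase n S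
    have hft : LocallyOfFiniteType f := by
      rw [← hif]
      exact (inferInstance : LocallyOfFiniteType (i ≫ CohB1.ProjSpaceOver.toBase n S))
    have hqc' : QuasiCompact f := by
      rw [← hif]
      exact (inferInstance : QuasiCompact (i ≫ CohB1.ProjSpaceOver.toBase n S))
    refine ⟨hft, hqc', ?_⟩
    have hL := Groth.Agent.Lib.helper12.VAmple5.isRelAmple_of_isRelVeryAmplePn f
      ⟨n, i, hi, hif, ⟨Iso.refl _⟩⟩
    obtain ⟨n₀, -, hn⟩ :=
      Groth.Agent.Lib.helper12.RelAmpleComp.isAmple_tensor_pullback_tensorPow_eventually f hL hN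
    exact ⟨_, hn n₀ le_rfl⟩
  · rintro ⟨hft, hqc, L, hL⟩
    obtain ⟨n, i, hi, hqci, hif⟩ :=
      Groth.Agent.Lib.helper12.VAmple6.isHQuasiProjective_of_isAmple f hL
    exact ⟨n, i, hi, hqci, hif⟩

end Groth.Agent.S1497
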