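import Groth.Statements.S14984
-- import your own Groth.Agent.* helpers here

set_option autoImplicit false
universe u v w
open HopfRep

namespace Groth.Agent.S14984

section Helpers
open TensorProduct
variable (R : Type u) (A : Type v) (B : Type w)
    [CommRing R] [CommRing A] [HopfAlgebra R A]
    [CommRing B] [Algebra R B] [HopfRep.Comod R A B] [GLin.IsCoactAlg R A B]

local notation "C" => (GLin.invariants R A B)

noncomputable def muB : TensorProduct R C B →ₐ[C] B :=
  Algebra.TensorProduct.lift (Algebra.ofId C B) (AlgHom.id R B) (fun _ _ => Commute.all _ _)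

noncomputable def nu : TensorProduct C (TensorProduct R C B) (TensorProduct R C A) →ₗ[C] TensorProduct R B A :=
  (TensorProduct.AlgebraTensorModule.cancelBaseChange R C C B A).toLinearMap ∘ₗ
    TensorProduct.AlgebraTensorModule.map (muB R A B).toLinearMap LinearMap.id

theorem nu_tmul (y : TensorProduct R C B) (c' : C) (a : A) :
    nu R A B (y ⊗ₜ[C] (c' ⊗ₜ[R] a)) = (c'.1 * muB R A B y) ⊗ₜ[R] a := by
  simp [nu]
  rfl

theorem coact_muB (y : TensorProduct R C B) :
    HopfRep.Comod.coact (k := R) (A := A) (muB R A B y) =
      nu R A B ((CoactBr.Comod.baseChange R C A B).coact y) := by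
  induction y using TensorProduct.induction_on with
  | zero => simp
  | tmul c b =>
    rw [CoactBr.baseChange_coact_tmul]
    have h1 : muB R A B (c ⊗ₜ[R] b) = c.1 * b := by simp [muB]
    rw [h1, GLin.IsCoactAlg.coact_mul (k := R) (A := A), c.2]
    generalize HopfRep.Comod.coact (k := R) (A := A) b = t
    induction t using TensorProduct.induction_on with
    | zero => simp
    | tmul b' a' =>
      rw [TensorProduct.AlgebraTensorModule.tensorTensorTensorComm_tmul, nu_tmul]
      simp [muB]
    | add t₁ t₂ h₁ h₂ => simp only [map_add, TensorProduct.tmul_add, mul_add, h₁, h₂]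
  | add y₁ y₂ h₁ h₂ => simp only [map_add, h₁, h₂]

theorem main (β : TensorProduct R C A →ₗ[C] TensorProduct R C B)
    (hβ : @Hoch.IsComodHom C _ (TensorProduct R C A) _ _ _
        (TensorProduct R C A) _ _
        (HopfRep.Comod.regular C (TensorProduct R C A))
        (TensorProduct R C B) _ _
        (CoactBr.Comod.baseChange R C A B) β) (hβ1 : β 1 = 1) :
    ∃ α : A →ₗ[R] B, Hoch.IsComodHom A α ∧ α 1 = 1 := by
  refine ⟨(muB R A B).toLinearMap.restrictScalars R ∘ₗ β.restrictScalars R ∘ₗ
    (TensorProduct.mk R C A 1), ?_, ?_⟩
  · apply LinearMap.ext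
    intro a
    simp only [LinearMap.comp_apply, LinearMap.restrictScalars_apply, TensorProduct.mk_apply,
      AlgHom.toLinearMap_apply]
    rw [coact_muB]
    have h := LinearMap.congr_fun hβ ((1 : C) ⊗ₜ[R] a)
    simp only [LinearMap.comp_apply] at h
    rw [h]
    change nu R A B (β.rTensor (TensorProduct R C A)
      (CoactBr.extCoact R C C C A A ((1 : C) ⊗ₜ[R] a))) = _
    rw [CoactBr.extCoact_tmul]
    change nu R A B (β.rTensor (TensorProduct R C A)
      (TensorProduct.AlgebraTensorModule.tensorTensorTensorComm R C R C C C A A
        (((1 : C) ⊗ₜ[C] (1 : C)) ⊗ₜ[R] CoalgebraStruct.comul (R := R) a))) =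
      ((muB R A B).toLinearMap.restrictScalars R ∘ₗ β.restrictScalars R ∘ₗ
        (TensorProduct.mk R C A 1)).rTensor A (CoalgebraStruct.comul (R := R) a)
    generalize CoalgebraStruct.comul (R := R) a = t
    induction t using TensorProduct.induction_on with
    | zero => simp
    | tmul a' a'' =>
      rw [TensorProduct.AlgebraTensorModule.tensorTensorTensorComm_tmul, LinearMap.rTensor_tmul,
        nu_tmul]
      simp
    | add t₁ t₂ h₁ h₂ => simp only [map_add, TensorProduct.tmul_add, h₁, h₂]
  · simp only [LinearMap.comp_apply, LinearMap.restrictScalars_apply, TensorProduct.mk_apply,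
      AlgHom.toLinearMap_apply]
    rw [← Algebra.TensorProduct.one_def, hβ1, map_one]

end Helpers

/-- Let `R` be a commutative ring, `A` a commutative Hopf algebra over `R`, flat as an `R`-module, `B` a
commutative `R`-algebra with a coaction of `A` that is an algebra map (an action of `G = Spec A` on
`X = Spec B`), and `C = B^A` the ring of invariants. If the action base-changed along `R → C` — the
`C`-Hopf algebra `C ⊗ A` coacting on `C ⊗ B` — is tame, i.e. there is a `C`-linear comodule map `β :
C ⊗ A → C ⊗ B` (regular coaction on the source, base-changed coaction on the target) with `β 1 = 1`,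
then the original action is tame: there is an `R`-linear comodule map `α : A → B` with `α 1 = 1`.
(The converse is the case `S = C` of stability of tameness under base change. The published lemma
also lists, as a third equivalent condition, tameness of the action of `C ⊗ A` on `B` itself over
`C`; that condition is not stated here.) -/
theorem result
    (R : Type u) (A : Type v) (B : Type w)
    [CommRing R] [CommRing A] [HopfAlgebra R A] [Module.Flat R A]
    [CommRing B] [Algebra R B] [HopfRep.Comod R A B] [GLin.IsCoactAlg R A B]
    (h : ∃ β : TensorProduct R ↥(GLin.invariants R A B) A →ₗ[↥(GLin.invariants R A B)]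
        TensorProduct R ↥(GLin.invariants R A B) B,
      @Hoch.IsComodHom ↥(GLin.invariants R A B) _ (TensorProduct R ↥(GLin.invariants R A B) A) _ _ _
        (TensorProduct R ↥(GLin.invariants R A B) A) _ _
        (HopfRep.Comod.regular ↥(GLin.invariants R A B) (TensorProduct R ↥(GLin.invariants R A B) A))
        (TensorProduct R ↥(GLin.invariants R A B) B) _ _
        (CoactBr.Comod.baseChange R ↥(GLin.invariants R A B) A B) β ∧ β 1 = 1) :
    ∃ α : A →ₗ[R] B, Hoch.IsComodHom A α ∧ α 1 = 1 := by
  obtain ⟨β, hβ, hβ1⟩ := h
  exact main R A B β hβ hβ1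

end Groth.Agent.S14984
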