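import Groth.Statements.S14988
import Groth.Agent.Lib.Helper16.FLFTensor

set_option autoImplicit false
universe u
open CategoryTheory CategoryTheory.Limits AlgebraicGeometry
open ResProp
open Groth.Agent.Lib.helper16.FLFTensor

namespace Groth.Agent.S14988

/-- In the case of schemes, let f : X ⟶ Y be a morphism of quasi-compact quasi-separated schemes. If
every quasi-coherent module on Y is a quotient of a direct sum of finite locally free modules (Y has
the resolution property) and some family (W_i) of finite locally free modules on X is f-generating,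
i.e. every quasi-coherent module on X is a quotient of a direct sum of modules W_i ⊗ f^*N with N
quasi-coherent on Y, then every quasi-coherent module on X is a quotient of a direct sum of finite
locally free modules (X has the resolution property). (The published statement is for quasi-compact
quasi-separated morphisms of algebraic stacks and assumes the family universally f-generating; this
row is the case of schemes and assumes the family only f-generating, which is what the argument
uses.) -/
theorem result {X Y : Scheme.{u}}
    [CompactSpace X] [QuasiSeparatedSpace X] [CompactSpace Y] [QuasiSeparatedSpace Y] (f : X ⟶ Y)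
    (hY : ∀ N : Y.Modules, Coh.IsQCoh N →
      ∃ (κ : Type u) (V : κ → Y.Modules) (π : (∐ V) ⟶ N), (∀ k, FlatMod.IsFinLocFree (V k)) ∧ Epi π)
    {ι : Type u} (W : ι → X.Modules) (hW : ∀ i, FlatMod.IsFinLocFree (W i))
    (hf : ∀ M : X.Modules, Coh.IsQCoh M →
      ∃ (κ : Type u) (j : κ → ι) (N : κ → Y.Modules)
        (π : (∐ fun k => CohB1.tensorMod (W (j k)) ((Scheme.Modules.pullback f).obj (N k))) ⟶ M),
        (∀ k, Coh.IsQCoh (N k)) ∧ Epi π) :
    ∀ M : X.Modules, Coh.IsQCoh M →
      ∃ (κ : Type u) (E : κ → X.Modules) (π : (∐ E) ⟶ M), (∀ k, FlatMod.IsFinLocFree (E k)) ∧ Epi π := by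
  intro M hM
  obtain ⟨κ, j, N, π, hN, hπ⟩ := hf M hM
  choose κ' V ρ hV hρ using fun k => hY (N k) (hN k)
  -- the functors F_k
  let F : ∀ k : κ, Y.Modules ⥤ X.Modules := fun k => Scheme.Modules.pullback f ⋙ T (W (j k))
  have hF : ∀ k, PreservesColimitsOfSize.{u, u} (F k) := fun k => by
    haveI := T_pres (W (j k))
    haveI : PreservesColimitsOfSize.{u, u} (Scheme.Modules.pullback f) :=
      (Scheme.Modules.pullbackPushforwardAdjunction f).leftAdjoint_preservesColimits
    exact comp_preservesColimits _ _
  refine ⟨Σ k : κ, κ' k, fun p => (F p.1).obj (V p.1 p.2),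
    Sigma.desc (fun p => (F p.1).map (Sigma.ι (V p.1) p.2 ≫ ρ p.1) ≫
      Sigma.ι (fun k => CohB1.tensorMod (W (j k)) ((Scheme.Modules.pullback f).obj (N k))) p.1 ≫ π),
    ?_, ?_⟩
  · intro p
    exact isFinLocFree_tensor (hW _)
      (Groth.Agent.Lib.helper16.FLF.isFinLocFree_pullback f (hV p.1 p.2))
  · constructor
    intro Z g h hgh
    rw [← cancel_epi π]
    apply Sigma.hom_ext
    intro k
    -- F_k preserves epis
    haveI := hF k
    haveI : Epi ((F k).map (ρ k)) := by
      haveI : (F k).PreservesEpimorphisms := inferInstance
      haveI := hρ k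
      infer_instance
    refine (cancel_epi ((F k).map (ρ k))).mp ?_
    -- F_k preserves the coproduct
    have hc : IsColimit ((F k).mapCocone (colimit.cocone (Discrete.functor (V k)))) :=
      isColimitOfPreserves (F k) (colimit.isColimit _)
    apply hc.hom_ext
    rintro ⟨l⟩
    have := congrArg (fun t => Sigma.ι (fun p : Σ k : κ, κ' k => (F p.1).obj (V p.1 p.2)) ⟨k, l⟩ ≫ t) hgh
    simp only [Sigma.ι_desc_assoc, Functor.map_comp, Category.assoc] at this
    simp only [Functor.mapCocone_pt, Functor.mapCocone_ι_app, colimit.cocone_ι, Functor.const_obj_obj]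
    exact this

end Groth.Agent.S14988
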