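import Groth.Statements.S1499
import Groth.Agent.Lib.Helper12.RelAmpleComp

set_option autoImplicit false
universe u
attribute [local instance] HasDerivedCategory.standard
open FlatMor

namespace Groth.Agent.S1499

open Groth.Agent.Lib.helper12.PullTensor Groth.Agent.Lib.helper12.PullAmple
open Groth.Agent.Lib.helper12.PullAmpleRel Groth.Agent.Lib.helper12.AmpleEventually
open Groth.Agent.Lib.helper12.TensorInv Groth.Agent.Lib.helper12.AmplePow
open Groth.Agent.Lib.helper12.AmpleBasis Groth.Agent.Lib.helper12.AmpleBasis2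
open Groth.Agent.Lib.helper12.AmpleLocal Groth.Agent.Lib.helper12.AmpleSep
open Groth.Agent.Lib.helper12.AmpleRestrict Groth.Agent.Lib.helper12.TensorRestrict
open Groth.Agent.Lib.helper12.RelAmpleComp
open Groth.Agent.Lib.helper11.InvMod Groth.Agent.Lib.helper11.GenLocus
open Groth.Agent.Lib.helper11.InvPullback Groth.Agent.Lib.helper11.IsoLocus
open AlgebraicGeometry.Scheme.Modules

open AlgebraicGeometry CategoryTheory Limits in
/-- Let f : X → Y with Y having an ample family of invertible modules, and suppose some O_X-module is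
ample relative to f. Then X has an ample family of invertible modules. -/
theorem result {X Y : Scheme.{u}} (f : X ⟶ Y)
    (hY : MoreMor.HasAmpleFamily Y) (L : X.Modules) (hL : RelAmple.IsRelAmple f L) :
    MoreMor.HasAmpleFamily X := by
  classical
  obtain ⟨hcY, hfam⟩ := hY
  have hqc : QuasiCompact f := hL.1
  have hsY : QuasiSeparatedSpace Y := by
    have h1 : IsAffineHom (Limits.pullback.diagonal (Limits.terminal.from Y)) :=
      Groth.Agent.S7390.result Y (fun y => by
        obtain ⟨M, n, t, hM, hn, hyt, haff⟩ := hfam y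
        exact ⟨_, t, isInvertible_tensorPow hM n, hyt, haff⟩)
    rw [quasiSeparatedSpace_iff_quasiSeparated]
    exact ⟨inferInstance⟩
  have hcX : CompactSpace X := QuasiCompact.compactSpace_of_compactSpace f
  have hsf : IsSeparated f := isSeparated_of_isRelAmple f hL
  have hsX : QuasiSeparatedSpace X := quasiSeparatedSpace_of_quasiSeparated f
  have hLinv : PicF.IsInvertible L := isInvertible_of_isRelAmple f hL
  refine ⟨hcX, fun x => ?_⟩
  obtain ⟨M, n, t, hM, hn, hyt, haff⟩ := hfam (f x)
  obtain ⟨a, rfl⟩ : ∃ a, n = a + 1 := ⟨n - 1, (Nat.sub_add_cancel hn).symm⟩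
  have hN : PicF.IsInvertible ((Scheme.Modules.pullback f).obj M) := isInvertible_pullback f hM
  have hxτ : x ∈ CohB1.genLocus _ (pullSec f hM (a + 1) t) := by
    rw [genLocus_pullSec]; exact hyt
  have hA : CohB1.IsAmple (L.restrict (CohB1.genLocus _ (pullSec f hM (a + 1) t)).ι) := by
    have h1 := hL.2 ⟨_, haff⟩
    refine (isAmple_restrict_iff_of_range_eq _ _ ?_ L).mp h1
    rw [Scheme.Opens.range_ι, Scheme.Opens.range_ι, genLocus_pullSec]
  obtain ⟨m, k, w, hxw, haffw, -⟩ :=
    exists_section_of_isAmple_restrict hLinv hN (pullSec f hM (a + 1) t) hA x hxτ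
  have hNa : PicF.IsInvertible (CohB1.tensorPow ((Scheme.Modules.pullback f).obj M) (a + 1)) :=
    isInvertible_tensorPow hN (a + 1)
  have hW : PicF.IsInvertible (CohB1.tensorMod (CohB1.tensorMod (CohB1.tensorPow L (m + 1))
      (CohB1.tensorPow (CohB1.tensorPow ((Scheme.Modules.pullback f).obj M) (a + 1)) k))
      (CohB1.tensorPow ((Scheme.Modules.pullback f).obj M) (a + 1))) :=
    isInvertible_tensorMod (isInvertible_tensorMod (isInvertible_tensorPow hLinv (m + 1))
      (isInvertible_tensorPow hNa k)) hNa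
  refine ⟨_, 1, w ≫ (Groth.Agent.Lib.Lead.ModTensor.tensorPowOne _).inv, hW, le_rfl, ?_, ?_⟩
  · have := genLocus_comp_iso w (Groth.Agent.Lib.Lead.ModTensor.tensorPowOne _).symm
    rw [Iso.symm_hom] at this
    rw [this]; exact hxw
  · have := genLocus_comp_iso w (Groth.Agent.Lib.Lead.ModTensor.tensorPowOne _).symm
    rw [Iso.symm_hom] at this
    rw [this]; exact haffw

end Groth.Agent.S1499
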