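import Groth.Statements.S14994
import Mathlib
import Groth.Agent.Lib.Helper6.Reflexive

set_option autoImplicit false
universe u
open CAlg

namespace Groth.Agent.S14994



/-- Let A be a Noetherian integrally closed domain, M a finitely generated torsion-free A-module, N a
submodule of M and ι : M → M** the canonical map to the double dual. Write N** → M** for the double
dual of the inclusion N → M. Then every m ∈ M whose image ι(m) lies in the image of N** is a torsion
element modulo N: some nonzero a ∈ A satisfies a·m ∈ N. In other words the preimage of N** under ι
is contained in the saturation of N in M (the preimage of the torsion submodule of M/N), and the two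
coincide when M/N is torsion-free. (The published statement asserts equality of the preimage with
the saturation for every N; for N = xA inside M = A = k[x] the saturation is all of M while N** has
image xA = N under the identification M** = M, so only the inclusion stated here holds, and it is
the inclusion later used, for saturated N, where the two sides agree.) -/
theorem result (A : Type u) [CommRing A] [IsDomain A]
    [IsNoetherianRing A] [IsIntegrallyClosed A]
    (M : Type u) [AddCommGroup M] [Module A M] [Module.Finite A M] [NoZeroSMulDivisors A M]
    (N : Submodule A M) :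
    (LinearMap.range N.subtype.dualMap.dualMap).comap (Module.Dual.eval A M) ≤
      (Submodule.torsion A (M ⧸ N)).comap N.mkQ := by
  intro m hm
  rw [Submodule.mem_comap] at hm ⊢
  obtain ⟨φ, hφ⟩ := hm
  obtain ⟨c, hc, -, hcok⟩ := Groth.Agent.Lib.Helper6.Reflexive.eval_ker_coker (R := A) N
  obtain ⟨c', hc', hker', -⟩ := Groth.Agent.Lib.Helper6.Reflexive.eval_ker_coker (R := A) M
  obtain ⟨n₀, hn₀⟩ := hcok φ
  have h1 : Module.Dual.eval A M (c • m - (n₀ : M)) = 0 := by
    rw [map_sub, map_smul, ← hφ, ← map_smul, ← hn₀, sub_eq_zero]
    ext θ; rfl
  have h2 := hker' _ h1
  rw [Submodule.mem_torsion_iff]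
  refine ⟨⟨c' * c, mem_nonZeroDivisors_of_ne_zero (mul_ne_zero hc' hc)⟩, ?_⟩
  show (c' * c) • N.mkQ m = 0
  rw [← map_smul, Submodule.mkQ_apply, Submodule.Quotient.mk_eq_zero]
  have h3 : (c' * c) • m = c' • (n₀ : M) := by
    rw [smul_sub, sub_eq_zero] at h2; rw [mul_smul]; exact h2
  rw [h3]; exact N.smul_mem _ n₀.2


end Groth.Agent.S14994
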