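import Groth.Statements.S14997
import Mathlib

set_option autoImplicit false
open HilbPol

namespace Groth.Agent.S14997

section helpers
open Polynomial
lemma comp_eq_taylor (a : ℚ) (H : ℚ[X]) : H.comp (X - C a) = taylor (-a) H := by
  rw [taylor_apply, C_neg, sub_eq_add_neg]

lemma delta_coeff_eq_zero (a : ℚ) (H : ℚ[X]) (m : ℕ) (hH : H.natDegree ≤ m) (k : ℕ) (hk : m ≤ k) :
    (H - H.comp (X - C a)).coeff k = 0 := by
  rw [comp_eq_taylor, coeff_sub, taylor_coeff]
  have hdeg : (hasseDeriv k H).natDegree < 1 := by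
    have := natDegree_hasseDeriv_le H k
    omega
  rw [eval_eq_sum_range' hdeg]
  simp [hasseDeriv_coeff]

lemma delta_coeff_pred (a : ℚ) (H : ℚ[X]) (m : ℕ) (hm : 1 ≤ m) (hH : H.natDegree ≤ m) :
    (H - H.comp (X - C a)).coeff (m - 1) = a * m * H.coeff m := by
  rw [comp_eq_taylor, coeff_sub, taylor_coeff]
  have hdeg : (hasseDeriv (m - 1) H).natDegree < 2 := by
    have := natDegree_hasseDeriv_le H (m - 1)
    omega
  rw [eval_eq_sum_range' hdeg]
  simp only [Finset.sum_range_succ, Finset.sum_range_zero, hasseDeriv_coeff, zero_add, pow_zero,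
    mul_one, pow_one]
  have h1 : 1 + (m - 1) = m := by omega
  rw [h1, Nat.choose_self, Nat.cast_one, one_mul]
  have h2 : m.choose (m - 1) = m := by
    rw [Nat.choose_symm hm, Nat.choose_one_right]
  rw [h2]
  ring


lemma lex_iff {ℓ : ℕ} (x y x' y' : Fin ℓ → ℚ)
    (K : ∀ j : Fin ℓ, (∀ i < j, x i = y i) →
      ((∀ i < j, x' i = y' i) ∧ y' j - x' j = y j - x j)) :
    toLex x ≤ toLex y ↔ toLex x' ≤ toLex y' := by
  have hlt : ∀ (u v u' v' : Fin ℓ → ℚ), (∀ j : Fin ℓ, (∀ i < j, u i = v i) →
      ((∀ i < j, u' i = v' i) ∧ v' j - u' j = v j - u j)) → toLex u < toLex v →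
      toLex u' < toLex v' := by
    rintro u v u' v' K ⟨j, hj, hlt⟩
    obtain ⟨h1, h2⟩ := K j hj
    refine ⟨j, h1, ?_⟩
    change u' j < v' j
    have : u j < v j := hlt
    linarith
  have heq : x = y → x' = y' := by
    intro h
    funext j
    have := (K j (fun i _ => congrFun h i)).2
    rw [h] at this
    linarith
  have Ksymm : ∀ j : Fin ℓ, (∀ i < j, y i = x i) →
      ((∀ i < j, y' i = x' i) ∧ x' j - y' j = x j - y j) := by
    intro j h
    obtain ⟨h1, h2⟩ := K j (fun i hi => (h i hi).symm)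
    exact ⟨fun i hi => (h1 i hi).symm, by linarith⟩
  constructor
  · intro h
    rcases h.lt_or_eq with h | h
    · exact (hlt x y x' y' K h).le
    · have := heq (toLex.injective h)
      rw [this]
  · intro h
    by_contra hcon
    have h1 : toLex y < toLex x := not_le.mp hcon
    have h2 := hlt y x y' x' Ksymm h1
    exact absurd h (not_le.mpr h2)


end helpers

open Polynomial in
/-- Let d and ℓ be natural numbers with ℓ + 1 ≤ d, let a be a nonzero rational number and let P, Q be
polynomials with rational coefficients, both of degree exactly d. For a polynomial R of degree e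
write R(m) = Σ_i α_i(R) m^i / i! (so α_i(R) = i! · coeff_i(R)) and let r_ℓ(R) ∈ ℚ^ℓ be the vector
(α_{e−1}(R)/α_e(R), …, α_{e−ℓ}(R)/α_e(R)) of the ℓ coefficients after the leading one of the reduced
polynomial R/α_e(R), ordered lexicographically. The polynomials P(m) − P(m − a) and Q(m) − Q(m − a)
have degree d − 1, and r_ℓ(P) ≤ r_ℓ(Q) lexicographically if and only if r_ℓ(P(m) − P(m − a)) ≤
r_ℓ(Q(m) − Q(m − a)) lexicographically (hence the same with strict inequalities, by exchanging P and
Q). When P and Q are the Hilbert polynomials of pure d-dimensional coherent sheaves E → F on a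
polarized projective scheme and D is a hypersurface section of degree a containing no associated
point of E or F, the Hilbert polynomials of E|_D and F|_D are P(m) − P(m − a) and Q(m) − Q(m − a),
and the two sides are the comparisons of the ℓ-truncated reduced Hilbert polynomials p_ℓ(E) ≥ p_ℓ(F)
and p_ℓ(E|_D) ≥ p_ℓ(F|_D). (The published statement is phrased for the sheaves; this row is the
statement about their Hilbert polynomials that the displayed coefficient formula yields.) -/
theorem result (d ℓ : ℕ) (hℓ : ℓ + 1 ≤ d) (a : ℚ) (ha : a ≠ 0)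
    (P Q : ℚ[X]) (hP : P.natDegree = d) (hQ : Q.natDegree = d) (hP0 : P ≠ 0) (hQ0 : Q ≠ 0) :
    toLex (fun j : Fin ℓ => ((P).coeff (d - 1 - (j : ℕ)) * (Nat.factorial (d - 1 - (j : ℕ)) : ℚ)) / ((P).coeff (d) * (Nat.factorial (d) : ℚ))) ≤ toLex (fun j : Fin ℓ => ((Q).coeff (d - 1 - (j : ℕ)) * (Nat.factorial (d - 1 - (j : ℕ)) : ℚ)) / ((Q).coeff (d) * (Nat.factorial (d) : ℚ))) ↔
      toLex (fun j : Fin ℓ => ((P - P.comp (X - C a)).coeff ((d - 1) - 1 - (j : ℕ)) * (Nat.factorial ((d - 1) - 1 - (j : ℕ)) : ℚ)) / ((P - P.comp (X - C a)).coeff ((d - 1)) * (Nat.factorial ((d - 1)) : ℚ))) ≤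
        toLex (fun j : Fin ℓ => ((Q - Q.comp (X - C a)).coeff ((d - 1) - 1 - (j : ℕ)) * (Nat.factorial ((d - 1) - 1 - (j : ℕ)) : ℚ)) / ((Q - Q.comp (X - C a)).coeff ((d - 1)) * (Nat.factorial ((d - 1)) : ℚ))) := by
  have hpd : P.coeff d ≠ 0 := by
    rw [← hP]; exact leadingCoeff_ne_zero.mpr hP0
  have hqd : Q.coeff d ≠ 0 := by
    rw [← hQ]; exact leadingCoeff_ne_zero.mpr hQ0
  have hd1 : 1 ≤ d := by omega
  have hdq : (d : ℚ) ≠ 0 := by exact_mod_cast (by omega : d ≠ 0)
  have hPlead : (P - P.comp (X - C a)).coeff (d - 1) = a * d * P.coeff d :=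
    delta_coeff_pred a P d hd1 hP.le
  have hQlead : (Q - Q.comp (X - C a)).coeff (d - 1) = a * d * Q.coeff d :=
    delta_coeff_pred a Q d hd1 hQ.le
  set H : ℚ[X] := C (P.coeff d)⁻¹ * P - C (Q.coeff d)⁻¹ * Q with hH
  have hHcoeff : ∀ k, H.coeff k = (P.coeff d)⁻¹ * P.coeff k - (Q.coeff d)⁻¹ * Q.coeff k := by
    intro k; rw [hH, coeff_sub, coeff_C_mul, coeff_C_mul]
  have hΔH : H - H.comp (X - C a) = C (P.coeff d)⁻¹ * (P - P.comp (X - C a)) -
      C (Q.coeff d)⁻¹ * (Q - Q.comp (X - C a)) := by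
    rw [hH, sub_comp, mul_comp, mul_comp, C_comp, C_comp]; ring
  have hΔHcoeff : ∀ k, (H - H.comp (X - C a)).coeff k =
      (P.coeff d)⁻¹ * (P - P.comp (X - C a)).coeff k -
        (Q.coeff d)⁻¹ * (Q - Q.comp (X - C a)).coeff k := by
    intro k; rw [hΔH, coeff_sub, coeff_C_mul, coeff_C_mul]
  apply lex_iff
  intro j hj
  have hjl : (j : ℕ) < ℓ := j.2
  set m := d - 1 - (j : ℕ) with hm
  have hm1 : 1 ≤ m := by omega
  -- H coefficients vanish above m
  have hHdeg : H.natDegree ≤ m := by
    rw [natDegree_le_iff_coeff_eq_zero]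
    intro N hN
    rw [hHcoeff]
    by_cases hNd : d < N
    · have hPN : P.coeff N = 0 := coeff_eq_zero_of_natDegree_lt (by omega)
      have hQN : Q.coeff N = 0 := coeff_eq_zero_of_natDegree_lt (by omega)
      rw [hPN, hQN]; ring
    by_cases hNd' : N = d
    · subst hNd'
      rw [inv_mul_cancel₀ hpd, inv_mul_cancel₀ hqd, sub_self]
    · have hi : d - 1 - N < (j : ℕ) := by omega
      have h1 := hj ⟨d - 1 - N, by omega⟩ (by exact hi)
      simp only at h1
      have hN' : d - 1 - (d - 1 - N) = N := by omega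
      rw [hN'] at h1
      have hfac : ((N.factorial : ℕ) : ℚ) ≠ 0 := by exact_mod_cast N.factorial_ne_zero
      have hdfac : ((d.factorial : ℕ) : ℚ) ≠ 0 := by exact_mod_cast d.factorial_ne_zero
      field_simp at h1 ⊢
      linarith
  constructor
  · intro i hi
    have hik : m ≤ d - 1 - 1 - (i : ℕ) := by
      have : (i : ℕ) < (j : ℕ) := hi
      omega
    have h0 := delta_coeff_eq_zero a H m hHdeg _ hik
    rw [hΔHcoeff] at h0
    rw [hPlead, hQlead]
    have hfac : (((d - 1).factorial : ℕ) : ℚ) ≠ 0 := by exact_mod_cast (d - 1).factorial_ne_zero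
    field_simp at h0 ⊢
    linear_combination h0
  · have h0 := delta_coeff_pred a H m hm1 hHdeg
    rw [hΔHcoeff, hHcoeff] at h0
    have hm' : m - 1 = d - 1 - 1 - (j : ℕ) := by omega
    rw [hPlead, hQlead, ← hm']
    have hfac : (((d - 1).factorial : ℕ) : ℚ) ≠ 0 := by exact_mod_cast (d - 1).factorial_ne_zero
    have hdfac : ((d.factorial : ℕ) : ℚ) ≠ 0 := by exact_mod_cast d.factorial_ne_zero
    have hmfac : ((m.factorial : ℕ) : ℚ) = m * ((m - 1).factorial : ℚ) := by
      have : m = (m - 1) + 1 := by omega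
      conv_lhs => rw [this, Nat.factorial_succ]
      push_cast
      congr 1
      have : ((m - 1 : ℕ) : ℚ) + 1 = m := by
        have h := this
        exact_mod_cast h.symm
      exact this
    have hdfac' : ((d.factorial : ℕ) : ℚ) = d * ((d - 1).factorial : ℚ) := by
      have : d = (d - 1) + 1 := by omega
      conv_lhs => rw [this, Nat.factorial_succ]
      push_cast
      congr 1
      have : ((d - 1 : ℕ) : ℚ) + 1 = d := by
        have h := this
        exact_mod_cast h.symm
      exact this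
    rw [hmfac, hdfac']
    field_simp
    field_simp at h0
    linear_combination (-1 : ℚ) * h0


end Groth.Agent.S14997
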