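import Groth.Statements.S1500
import Groth.Agent.Lib.Helper11.TwistH1
import Groth.Agent.Lib.Helper11.IdealGG
import Groth.Agent.Lib.Helper7.IdealCartier
import Groth.Agent.Lib.Helper12.InvDual2
import Groth.Agent.Lib.Helper12.RelAmpleComp

set_option autoImplicit false
universe u
open FlatMor

namespace Groth.Agent.S1500

open CategoryTheory CategoryTheory.Limits AlgebraicGeometry TopologicalSpace Opposite
open Groth.Agent.Lib.helper12.PullTensor Groth.Agent.Lib.helper12.PullAmple
open Groth.Agent.Lib.helper12.PullAmpleRel Groth.Agent.Lib.helper12.AmpleEventually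
open Groth.Agent.Lib.helper12.TensorInv Groth.Agent.Lib.helper12.AmplePow
open Groth.Agent.Lib.helper12.AmpleBasis Groth.Agent.Lib.helper12.AmpleBasis2
open Groth.Agent.Lib.helper12.AmpleLocal Groth.Agent.Lib.helper12.AmpleSep
open Groth.Agent.Lib.helper12.AmpleRestrict Groth.Agent.Lib.helper12.TensorRestrict
open Groth.Agent.Lib.helper12.RelAmpleComp Groth.Agent.Lib.helper12.AmpleQAff
open Groth.Agent.Lib.helper12.InvDual
open Groth.Agent.Lib.helper11.InvMod Groth.Agent.Lib.helper11.GenLocus
open Groth.Agent.Lib.helper11.InvPullback Groth.Agent.Lib.helper11.IsoLocus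
open Groth.Agent.Lib.helper11.IdealGG Groth.Agent.Lib.helper11.TwistH1
open Groth.Agent.Lib.helper7 Groth.Agent.Lib.helper7.IdealCartier
open Groth.Agent.Lib.Lead.ModTensor
open AlgebraicGeometry.Scheme.Modules

/-- For an effective Cartier ideal `D` there is an invertible module `N` with a section `s` whose
non-vanishing locus is the complement of the support of `D` (`N = O(D)`, `s = 1_D`). -/
theorem exists_section_compl_support {X : Scheme.{u}} (D : X.IdealSheafData)
    (hD : BlowUp.IsEffCartierIdeal D) :
    ∃ (N : X.Modules) (s : Coh.structureModule X ⟶ N), PicF.IsInvertible N ∧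
      CohB1.genLocus N s = D.support.compl := by
  have hI : PicF.IsInvertible (ClSub.idealMod D) := invertible_of_effCartier D hD
  obtain ⟨N, hN, ⟨e⟩, -⟩ := exists_inverse hI
  refine ⟨CohB1.tensorMod (Coh.structureModule X) N,
    e.inv ≫ tensorMap (ClSub.idealModι D) (𝟙 N),
    isInvertible_tensorMod (isInvertible_structureModule X) hN, ?_⟩
  apply le_antisymm
  · refine genLocus_tensorMap_le hN (ClSub.idealModι D) ?_ e.inv
    intro W a z hz
    by_contra hzU
    have hzs : z ∈ D.support := by
      by_contra h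
      exact hzU h
    exact not_mem_basicOpen_of_mem_support' D W a z hzs hz
  · have h1 : D.support.compl ≤ isoLocus (ClSub.idealModι D) :=
      le_isoLocus_kernel_ι (ClSub.toSubscheme D) _ (fun V hV =>
        subsingleton_quotMod_of_disjoint D V (Set.disjoint_left.mpr fun x hxV hxZ => hV hxV hxZ))
    have h2 : D.support.compl ≤ isoLocus (tensorMap (ClSub.idealModι D) (𝟙 N)) :=
      le_trans (le_inf h1 (by
        rw [(isoLocus_eq_top_iff (𝟙 N)).mpr inferInstance]; exact le_top))
        (isoLocus_inf_le_tensorMap (ClSub.idealModι D) (𝟙 N))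
    rw [genLocus_eq_isoLocus, isoLocus_comp_of_isIso_left]
    exact h2

open AlgebraicGeometry CategoryTheory Limits in
/-- Let D_1, …, D_m be effective Cartier divisors on X (ideal sheaves locally generated by a
nonzerodivisor) with empty common support, and L_1, …, L_m invertible O_X-modules with L_i ample on
the open complement of D_i. Then X has an ample family of invertible modules. -/
theorem result {X : Scheme.{u}} {m : ℕ} (D : Fin m → X.IdealSheafData)
    (hD : ∀ i, BlowUp.IsEffCartierIdeal (D i)) (hcap : ⋂ i, ((D i).support : Set ↑X) = ∅)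
    (L : Fin m → X.Modules) (hL : ∀ i, PicF.IsInvertible (L i)) (hamp : ∀ i, CohB1.IsAmple ((L i).restrict (Scheme.Opens.ι (D i).support.compl))) :
    MoreMor.HasAmpleFamily X := by
  classical
  choose N s hN hs using fun i => exists_section_compl_support (D i) (hD i)
  have hcov : ∀ x : X, ∃ i, x ∈ (D i).support.compl := by
    intro x
    by_contra hcon
    push Not at hcon
    have hx : x ∈ ⋂ i, ((D i).support : Set ↑X) := Set.mem_iInter.mpr fun i => by
      by_contra h
      exact hcon i h
    rw [hcap] at hx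
    exact hx
  -- `X` is quasi-compact
  have hcX : CompactSpace X := by
    constructor
    have hun : (Set.univ : Set X) = ⋃ i, (((D i).support.compl : X.Opens) : Set X) := by
      ext x
      simp only [Set.mem_univ, Set.mem_iUnion, true_iff]
      exact hcov x
    rw [hun]
    refine isCompact_iUnion fun i => ?_
    have : CompactSpace (↑((D i).support.compl) : Scheme.{u}) := (hamp i).2.1
    exact isCompact_iff_compactSpace.mpr this
  -- `X` is quasi-separated
  have hqsU : ∀ i, IsQuasiSeparated (((D i).support.compl : X.Opens) : Set X) := by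
    intro i
    refine (isQuasiSeparated_iff_quasiSeparatedSpace _ ((D i).support.compl).2).mpr ?_
    have : (↑((D i).support.compl) : Scheme.{u}).IsSeparated := isSeparated_of_isAmple (hamp i)
    exact (quasiSeparatedSpace_iff_quasiSeparated (↑((D i).support.compl) : Scheme.{u})).mpr
      inferInstance
  have hsX : QuasiSeparatedSpace X := by
    let I := {V : X.affineOpens // ∃ i, V.1 ≤ (D i).support.compl}
    refine Scheme.quasiSeparatedSpace_of_isOpenCover (fun V : I => V.1.1) ?_ (fun V => V.1.2) ?_
    · rw [IsOpenCover, eq_top_iff]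
      intro x _
      obtain ⟨i, hi⟩ := hcov x
      obtain ⟨V, hV, hxV, hVU⟩ := (Opens.isBasis_iff_nbhd.mp X.isBasis_affineOpens) hi
      exact Opens.mem_iSup.mpr ⟨⟨⟨V, hV⟩, i, hVU⟩, hxV⟩
    · rintro ⟨V, i, hVi⟩ ⟨W, j, hWj⟩
      have hA : IsAffineOpen (V.1 ⊓ CohB1.genLocus (N j) (s j)) :=
        isAffineOpen_inf_genLocus (hN j) (s j) V.2
      have hB : IsAffineOpen (W.1 ⊓ CohB1.genLocus (N i) (s i)) :=
        isAffineOpen_inf_genLocus (hN i) (s i) W.2
      have heq : ((V.1 : Set X) ∩ (W.1 : Set X)) =
          ((V.1 ⊓ CohB1.genLocus (N j) (s j) : X.Opens) : Set X) ∩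
            ((W.1 ⊓ CohB1.genLocus (N i) (s i) : X.Opens) : Set X) := by
        ext x
        simp only [Set.mem_inter_iff, SetLike.mem_coe, Opens.coe_inf]
        constructor
        · rintro ⟨hxV, hxW⟩
          refine ⟨⟨hxV, ?_⟩, ⟨hxW, ?_⟩⟩
          · rw [hs j]; exact hWj hxW
          · rw [hs i]; exact hVi hxV
        · rintro ⟨⟨hxV, -⟩, ⟨hxW, -⟩⟩
          exact ⟨hxV, hxW⟩
      change IsCompact ((V.1 : Set X) ∩ (W.1 : Set X))
      rw [heq]
      refine hqsU i _ _ ?_ (Opens.isOpen _) hA.isCompact ?_ (Opens.isOpen _) hB.isCompact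
      · intro x hx
        exact hVi hx.1
      · intro x hx
        have := hx.2
        rw [hs i] at this
        exact this
  refine ⟨hcX, fun x => ?_⟩
  obtain ⟨i, hxi⟩ := hcov x
  let τ : Coh.structureModule X ⟶ CohB1.tensorPow (N i) (0 + 1) :=
    s i ≫ (tensorPowOne (N i)).inv
  have hτ : CohB1.genLocus _ τ = (D i).support.compl := by
    have := genLocus_comp_iso (s i) (tensorPowOne (N i)).symm
    rw [Iso.symm_hom] at this
    rw [this, hs i]
  have hA : CohB1.IsAmple ((L i).restrict (CohB1.genLocus _ τ).ι) := by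
    refine (isAmple_restrict_iff_of_range_eq _ _ ?_ (L i)).mp (hamp i)
    rw [Scheme.Opens.range_ι, Scheme.Opens.range_ι, hτ]
  have hxτ : x ∈ CohB1.genLocus _ τ := by rw [hτ]; exact hxi
  obtain ⟨m, k, w, hxw, haffw, -⟩ :=
    exists_section_of_isAmple_restrict (hL i) (hN i) τ hA x hxτ
  have hNa : PicF.IsInvertible (CohB1.tensorPow (N i) (0 + 1)) := isInvertible_tensorPow (hN i) _
  have hW : PicF.IsInvertible (CohB1.tensorMod (CohB1.tensorMod (CohB1.tensorPow (L i) (m + 1))
      (CohB1.tensorPow (CohB1.tensorPow (N i) (0 + 1)) k)) (CohB1.tensorPow (N i) (0 + 1))) :=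
    isInvertible_tensorMod (isInvertible_tensorMod (isInvertible_tensorPow (hL i) (m + 1))
      (isInvertible_tensorPow hNa k)) hNa
  refine ⟨_, 1, w ≫ (tensorPowOne _).inv, hW, le_rfl, ?_, ?_⟩
  · have := genLocus_comp_iso w (tensorPowOne _).symm
    rw [Iso.symm_hom] at this
    rw [this]; exact hxw
  · have := genLocus_comp_iso w (tensorPowOne _).symm
    rw [Iso.symm_hom] at this
    rw [this]; exact haffw

end Groth.Agent.S1500
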