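import Groth.Statements.S15004
import Mathlib

set_option autoImplicit false
universe u v
open Harb

namespace Groth.Agent.S15004

/-- Let C be a finite family of d curves, recorded as an incidence relation between a type of points and
a finite index type, such that any two distinct curves of the family meet in exactly h points; for a
point p write r_p for the number of curves of the family through p. Then for every curve C_i of the
family, Σ_{p ∈ C_i} (r_p − 1) = h (d − 1), the sum being finitely supported. (The published
statement is for a transversal arrangement of curves on a geometrically ruled surface with invariant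
e, all numerically equivalent to a C₀ + b f, where any two of the curves meet transversally in h =
2ab − a²e points; only this common pairwise intersection count enters the proof, and this row states
the identity for an abstract incidence relation.) -/
theorem result (P : Type u) (ι : Type v) [Fintype ι]
    (inc : P → ι → Prop) (h : ℕ)
    (hfin : ∀ i j : ι, i ≠ j → {p : P | inc p i ∧ inc p j}.Finite)
    (hcount : ∀ i j : ι, i ≠ j → {p : P | inc p i ∧ inc p j}.ncard = h) (i : ι) :
    ∑ᶠ p ∈ {p : P | inc p i}, (Nat.card {j : ι // inc p j} - 1) = h * (Fintype.card ι - 1) := by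
  classical
  -- the finite set of points of C_i lying on another curve
  have hSfin : (⋃ j ∈ (Finset.univ.erase i : Finset ι), {p : P | inc p i ∧ inc p j}).Finite := by
    apply Set.Finite.biUnion (Finset.finite_toSet _)
    intro j hj
    exact hfin i j (Finset.ne_of_mem_erase hj).symm
  set S : Finset P := hSfin.toFinset with hS
  have hmemS : ∀ p, p ∈ S ↔ inc p i ∧ ∃ j, j ≠ i ∧ inc p j := by
    intro p
    rw [hS, Set.Finite.mem_toFinset]
    simp only [Set.mem_iUnion, Set.mem_ofPred_eq, Finset.mem_erase, Finset.mem_univ, and_true,
      exists_prop]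
    constructor
    · rintro ⟨j, hj, hpi, hpj⟩
      exact ⟨hpi, j, hj, hpj⟩
    · rintro ⟨hpi, j, hj, hpj⟩
      exact ⟨j, hj, hpi, hpj⟩
  -- the summand on C_i
  have hF : ∀ p, inc p i → Nat.card {j : ι // inc p j} - 1 =
      ∑ j ∈ Finset.univ.erase i, if inc p j then 1 else 0 := by
    intro p hp
    rw [Nat.card_eq_fintype_card, Fintype.card_subtype, ← Finset.card_filter,
      Finset.filter_erase, Finset.card_erase_of_mem (by simp [hp])]
  rw [finsum_mem_eq_sum_of_inter_support_eq (t := S)]
  · have h1 : ∑ p ∈ S, (Nat.card {j : ι // inc p j} - 1) =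
        ∑ p ∈ S, ∑ j ∈ Finset.univ.erase i, if inc p j then 1 else 0 := by
      apply Finset.sum_congr rfl
      intro p hp
      exact hF p ((hmemS p).mp hp).1
    rw [h1, Finset.sum_comm]
    have h2 : ∀ j ∈ Finset.univ.erase i, (∑ p ∈ S, if inc p j then 1 else 0) = h := by
      intro j hj
      have hji : j ≠ i := Finset.ne_of_mem_erase hj
      rw [← Finset.card_filter, ← hcount i j hji.symm, Set.ncard_eq_toFinset_card _ (hfin i j hji.symm)]
      congr 1
      ext p
      rw [Finset.mem_filter, hmemS, Set.Finite.mem_toFinset, Set.mem_ofPred_eq]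
      constructor
      · rintro ⟨⟨hpi, _⟩, hpj⟩
        exact ⟨hpi, hpj⟩
      · rintro ⟨hpi, hpj⟩
        exact ⟨⟨hpi, j, hji, hpj⟩, hpj⟩
    rw [Finset.sum_congr rfl h2, Finset.sum_const, smul_eq_mul, Finset.card_erase_of_mem (Finset.mem_univ i),
      Finset.card_univ, mul_comm]
  · ext p
    simp only [Set.mem_inter_iff, Set.mem_ofPred_eq, Function.mem_support, Finset.mem_coe]
    constructor
    · rintro ⟨hpi, hne⟩
      refine ⟨?_, hne⟩
      rw [hmemS]
      refine ⟨hpi, ?_⟩
      by_contra hno
      apply hne
      rw [hF p hpi]
      apply Finset.sum_eq_zero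
      intro j hj
      rw [if_neg]
      intro hpj
      exact hno ⟨j, Finset.ne_of_mem_erase hj, hpj⟩
    · rintro ⟨hpS, hne⟩
      exact ⟨((hmemS p).mp hpS).1, hne⟩

end Groth.Agent.S15004
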