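import Groth.Statements.S15005
import Mathlib

set_option autoImplicit false
universe u v
open Harb

namespace Groth.Agent.S15005

/-- Let C be a finite family of d curves, recorded as an incidence relation between a type of points and
a finite index type, such that any two distinct curves of the family meet in exactly h points; let
t_k be the number of k-fold points (points lying on exactly k curves of the family). Then f₂ − f₁ =
Σ_{k ≥ 2} k(k − 1) t_k equals h d(d − 1), where f_i = Σ_{k ≥ 2} k^i t_k. (The published statement is
for a transversal arrangement of curves on a geometrically ruled surface with invariant e, all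
numerically equivalent to a C₀ + b f, where any two of the curves meet transversally in h = 2ab −
a²e points; only this common pairwise intersection count enters the proof, and this row states the
identity for an abstract incidence relation.) -/
theorem result (P : Type u) (ι : Type v) [Fintype ι]
    (inc : P → ι → Prop) (h : ℕ)
    (hfin : ∀ i j : ι, i ≠ j → {p : P | inc p i ∧ inc p j}.Finite)
    (hcount : ∀ i j : ι, i ≠ j → {p : P | inc p i ∧ inc p j}.ncard = h) :
    ∑ k ∈ Finset.Icc 2 (Fintype.card ι), k * (k - 1) * Nat.card {p : P // Nat.card {j : ι // inc p j} = k} =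
      h * (Fintype.card ι * (Fintype.card ι - 1)) := by
  classical
  set d := Fintype.card ι with hd
  -- multiplicity
  let S : P → Finset ι := fun p => Finset.univ.filter (fun j => inc p j)
  have hm : ∀ p, Nat.card {j : ι // inc p j} = (S p).card := by
    intro p
    rw [Nat.card_eq_fintype_card, Fintype.card_subtype]
  have hmle : ∀ p, (S p).card ≤ d := fun p => Finset.card_le_univ _
  -- pairs
  let D : Finset (ι × ι) := (Finset.univ : Finset ι).offDiag
  have hDcard : D.card = d * (d - 1) := by
    rw [Finset.offDiag_card, Finset.card_univ, Nat.mul_sub_one]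
  have hDne : ∀ ij ∈ D, ij.1 ≠ ij.2 := fun ij hij => (Finset.mem_offDiag.mp hij).2.2
  let F : ι × ι → Finset P := fun ij =>
    if hne : ij.1 ≠ ij.2 then (hfin ij.1 ij.2 hne).toFinset else ∅
  have hF : ∀ ij ∈ D, ∀ p, p ∈ F ij ↔ inc p ij.1 ∧ inc p ij.2 := by
    intro ij hij p
    simp only [F, dif_pos (hDne ij hij), Set.Finite.mem_toFinset, Set.mem_setOf_eq]
  have hFcard : ∀ ij ∈ D, (F ij).card = h := by
    intro ij hij
    have := hcount ij.1 ij.2 (hDne ij hij)
    rw [Set.ncard_eq_toFinset_card _ (hfin ij.1 ij.2 (hDne ij hij))] at this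
    simp only [F, dif_pos (hDne ij hij)]
    exact this
  let U : Finset P := D.biUnion F
  have hU : ∀ p, p ∈ U ↔ 2 ≤ (S p).card := by
    intro p
    constructor
    · intro hp
      obtain ⟨ij, hij, hpF⟩ := Finset.mem_biUnion.mp hp
      have h1 := (hF ij hij p).mp hpF
      have : ({ij.1, ij.2} : Finset ι) ⊆ S p := by
        intro j hj
        simp only [Finset.mem_insert, Finset.mem_singleton] at hj
        simp only [S, Finset.mem_filter, Finset.mem_univ, true_and]
        rcases hj with rfl | rfl
        · exact h1.1
        · exact h1.2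
      calc 2 = ({ij.1, ij.2} : Finset ι).card := (Finset.card_pair (hDne ij hij)).symm
        _ ≤ (S p).card := Finset.card_le_card this
    · intro hp
      obtain ⟨i, hi, j, hj, hij⟩ := Finset.one_lt_card.mp hp
      simp only [S, Finset.mem_filter, Finset.mem_univ, true_and] at hi hj
      have hD : (i, j) ∈ D := Finset.mem_offDiag.mpr ⟨Finset.mem_univ _, Finset.mem_univ _, hij⟩
      exact Finset.mem_biUnion.mpr ⟨(i, j), hD, (hF (i, j) hD p).mpr ⟨hi, hj⟩⟩
  -- double counting
  have hdc := Finset.sum_card_bipartiteAbove_eq_sum_card_bipartiteBelow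
    (r := fun (ij : ι × ι) (p : P) => inc p ij.1 ∧ inc p ij.2) (s := D) (t := U)
  have hleft : ∀ ij ∈ D, (U.bipartiteAbove (fun (ij : ι × ι) (p : P) => inc p ij.1 ∧ inc p ij.2) ij).card
      = h := by
    intro ij hij
    rw [← hFcard ij hij]
    congr 1
    ext p
    simp only [Finset.bipartiteAbove, Finset.mem_filter]
    rw [hF ij hij p]
    constructor
    · exact fun hp => hp.2
    · intro hp
      exact ⟨Finset.mem_biUnion.mpr ⟨ij, hij, (hF ij hij p).mpr hp⟩, hp⟩
  have hright : ∀ p ∈ U, (D.bipartiteBelow (fun (ij : ι × ι) (p : P) => inc p ij.1 ∧ inc p ij.2) p).card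
      = (S p).card * ((S p).card - 1) := by
    intro p _
    have : D.bipartiteBelow (fun (ij : ι × ι) (p : P) => inc p ij.1 ∧ inc p ij.2) p = (S p).offDiag := by
      ext ij
      simp only [Finset.bipartiteBelow, Finset.mem_filter, Finset.mem_offDiag, D, S, Finset.mem_univ,
        true_and]
      tauto
    rw [this, Finset.offDiag_card, Nat.mul_sub_one]
  rw [Finset.sum_congr rfl hleft, Finset.sum_congr rfl hright, Finset.sum_const, smul_eq_mul,
    hDcard] at hdc
  -- regroup by multiplicity
  have hmaps : ∀ p ∈ U, (S p).card ∈ Finset.Icc 2 d := fun p hp =>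
    Finset.mem_Icc.mpr ⟨(hU p).mp hp, hmle p⟩
  have hfib := Finset.sum_fiberwise_of_maps_to' hmaps (fun k => k * (k - 1))
  rw [mul_comm, hdc, ← hfib]
  refine Finset.sum_congr rfl fun k hk => ?_
  rw [Finset.sum_const, smul_eq_mul, mul_comm]
  congr 1
  have hk2 : 2 ≤ k := (Finset.mem_Icc.mp hk).1
  have hset : {p : P | Nat.card {j : ι // inc p j} = k} = ↑(U.filter fun p => (S p).card = k) := by
    ext p
    simp only [Set.mem_setOf_eq, Finset.coe_filter, hm]
    constructor
    · intro hp
      exact ⟨(hU p).mpr (hp ▸ hk2), hp⟩
    · exact fun hp => hp.2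
  have : Nat.card {p : P // Nat.card {j : ι // inc p j} = k} =
      Set.ncard {p : P | Nat.card {j : ι // inc p j} = k} := rfl
  rw [this, hset, Set.ncard_coe_finset]

end Groth.Agent.S15005
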