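import Groth.Statements.S15006
import Mathlib
-- import your own Groth.Agent.* helpers here

set_option autoImplicit false
universe u v
open Harb

namespace Groth.Agent.S15006

/-- Let C be a finite family of d ≥ 2 curves, recorded as an incidence relation between a type of points
and a finite index type, such that any two distinct curves of the family meet in exactly h ≥ 1
points and no point lies on every curve of the family. Then f₀ ≥ d: the number of multiple points
(points lying on at least two of the curves) is at least the number of curves. (The published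
statement is for a transversal arrangement of d ≥ 4 curves on a geometrically ruled surface with
invariant e ≥ 4, all numerically equivalent to a C₀ + b f with a ≥ 1 and b ≥ ae and with no point
common to all of them, satisfying in addition either a ≥ 2, or a = 1 with some four of the curves
having no point in common, where any two of the curves meet transversally in h = 2ab − a²e ≥ 1
points; only d ≥ 2, h ≥ 1 and the absence of a common point enter the proof, and this row states the
bound for an abstract incidence relation.) -/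
theorem result (P : Type u) (ι : Type v) [Fintype ι]
    (inc : P → ι → Prop) (h : ℕ) (hh : 0 < h) (hd : 2 ≤ Fintype.card ι)
    (hfin : ∀ i j : ι, i ≠ j → {p : P | inc p i ∧ inc p j}.Finite)
    (hcount : ∀ i j : ι, i ≠ j → {p : P | inc p i ∧ inc p j}.ncard = h)
    (hnone : ∀ p : P, ∃ i : ι, ¬ inc p i) :
    Fintype.card ι ≤ Nat.card {p : P // 2 ≤ Nat.card {j : ι // inc p j}} := by
  classical
  set M : Set P := {q | 2 ≤ Nat.card {j : ι // inc q j}} with hM
  have key : ∀ (q : P) (a b : ι), a ≠ b → inc q a → inc q b → q ∈ M := by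
    intro q a b hab ha hb
    show 2 ≤ Nat.card {j : ι // inc q j}
    have : 1 < Nat.card {j : ι // inc q j} := by
      rw [Finite.one_lt_card_iff_nontrivial]
      exact ⟨⟨a, ha⟩, ⟨b, hb⟩, fun h => hab (congrArg Subtype.val h)⟩
    exact this
  have hMf : M.Finite := by
    have : M ⊆ ⋃ (x : {x : ι × ι // x.1 ≠ x.2}), {q | inc q x.1.1 ∧ inc q x.1.2} := by
      intro q hq
      have hq' : 1 < Nat.card {j : ι // inc q j} := hq
      rw [Finite.one_lt_card_iff_nontrivial] at hq'
      obtain ⟨⟨a, ha⟩, ⟨b, hb⟩, hab⟩ := hq'
      have hab' : a ≠ b := fun h => hab (Subtype.ext h)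
      exact Set.mem_iUnion.2 ⟨⟨(a, b), hab'⟩, ha, hb⟩
    refine Set.Finite.subset (Set.finite_iUnion fun x => ?_) this
    exact hfin x.1.1 x.1.2 x.2
  have hcard : Nat.card {p : P // 2 ≤ Nat.card {j : ι // inc p j}} = hMf.toFinset.card := by
    rw [← Set.ncard_eq_toFinset_card M hMf]
    exact Nat.card_coe_set_eq M
  rw [hcard]
  set Mf : Finset P := hMf.toFinset with hMfdef
  have hmem : ∀ q, q ∈ Mf ↔ q ∈ M := fun q => Set.Finite.mem_toFinset hMf
  -- characteristic functions
  let χ : ι → P → ℝ := fun i p => if inc p i then 1 else 0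
  let N : ι → ι → ℝ := fun i j => ∑ p ∈ Mf, χ i p * χ j p
  have hNcard : ∀ i j, N i j = ((Mf.filter (fun p => inc p i ∧ inc p j)).card : ℝ) := by
    intro i j
    simp only [N, χ]
    rw [Finset.card_filter, Nat.cast_sum]
    refine Finset.sum_congr rfl (fun p _ => ?_)
    by_cases h1 : inc p i <;> by_cases h2 : inc p j <;> simp [h1, h2]
  have hfilter : ∀ i j (hij : i ≠ j), Mf.filter (fun p => inc p i ∧ inc p j) = (hfin i j hij).toFinset := by
    intro i j hij
    ext q
    simp only [Finset.mem_filter, Set.Finite.mem_toFinset, Set.mem_setOf_eq, hmem]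
    exact ⟨fun h => h.2, fun h => ⟨key q i j hij h.1 h.2, h⟩⟩
  have hNoff : ∀ i j, i ≠ j → N i j = h := by
    intro i j hij
    rw [hNcard, hfilter i j hij, ← Set.ncard_eq_toFinset_card _ (hfin i j hij), hcount i j hij]
  have hNdiag : ∀ i, (h : ℝ) + 1 ≤ N i i := by
    intro i
    obtain ⟨j, hji⟩ : ∃ j, j ≠ i := by
      obtain ⟨a, b, hab⟩ := Fintype.one_lt_card_iff.1 (by omega : 1 < Fintype.card ι)
      by_cases ha : a = i
      · exact ⟨b, fun hb => hab (ha.trans hb.symm)⟩
      · exact ⟨a, ha⟩
    rw [hNcard]
    have hsub : (hfin i j hji.symm).toFinset ⊆ Mf.filter (fun p => inc p i ∧ inc p i) := by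
      intro q hq
      rw [Set.Finite.mem_toFinset] at hq
      rw [Finset.mem_filter, hmem]
      exact ⟨key q i j hji.symm hq.1 hq.2, hq.1, hq.1⟩
    have hc1 : (hfin i j hji.symm).toFinset.card = h := by
      rw [← Set.ncard_eq_toFinset_card _ (hfin i j hji.symm), hcount i j hji.symm]
    have hne : (hfin i j hji.symm).toFinset ≠ Mf.filter (fun p => inc p i ∧ inc p i) := by
      intro heq
      -- a point of C_i ∩ C_j lies on all curves
      have hpos : 0 < (hfin i j hji.symm).toFinset.card := by rw [hc1]; exact hh
      obtain ⟨q, hq⟩ := Finset.card_pos.1 hpos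
      have hq' := hq
      rw [Set.Finite.mem_toFinset] at hq'
      obtain ⟨k, hk⟩ := hnone q
      have hki : k ≠ i := by rintro rfl; exact hk hq'.1
      -- q ∈ C_i ∩ C_k? all points of X_i = C_i∩C_j; C_i ∩ C_k ⊆ X_i has same card so equal
      have hsub2 : (hfin i k hki.symm).toFinset ⊆ (hfin i j hji.symm).toFinset := by
        rw [heq]
        intro r hr
        rw [Set.Finite.mem_toFinset] at hr
        rw [Finset.mem_filter, hmem]
        exact ⟨key r i k hki.symm hr.1 hr.2, hr.1, hr.1⟩
      have hc2 : (hfin i k hki.symm).toFinset.card = h := by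
        rw [← Set.ncard_eq_toFinset_card _ (hfin i k hki.symm), hcount i k hki.symm]
      have heq2 := Finset.eq_of_subset_of_card_le hsub2 (by rw [hc1, hc2])
      rw [← heq2, Set.Finite.mem_toFinset] at hq
      exact hk hq.2
    have hlt := Finset.card_lt_card (Finset.ssubset_iff_subset_ne.2 ⟨hsub, hne⟩)
    rw [hc1] at hlt
    exact_mod_cast hlt
  -- linear independence of the incidence vectors on Mf
  let v : ι → (↥Mf → ℝ) := fun i p => χ i p.1
  have hli : LinearIndependent ℝ v := by
    rw [Fintype.linearIndependent_iff]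
    intro g hg
    have hp : ∀ p ∈ Mf, ∑ i, g i * χ i p = 0 := by
      intro p hpM
      have := congrFun hg ⟨p, hpM⟩
      simpa [v, Finset.sum_apply, Pi.smul_apply, smul_eq_mul] using this
    have h0 : ∑ p ∈ Mf, (∑ i, g i * χ i p) * (∑ j, g j * χ j p) = 0 :=
      Finset.sum_eq_zero (fun p hpM => by rw [hp p hpM, zero_mul])
    have h1 : ∑ p ∈ Mf, (∑ i, g i * χ i p) * (∑ j, g j * χ j p) = ∑ i, ∑ j, g i * g j * N i j := by
      calc ∑ p ∈ Mf, (∑ i, g i * χ i p) * (∑ j, g j * χ j p)
          = ∑ p ∈ Mf, ∑ i, ∑ j, (g i * χ i p) * (g j * χ j p) := by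
            refine Finset.sum_congr rfl (fun p _ => ?_)
            rw [Finset.sum_mul_sum]
        _ = ∑ i, ∑ p ∈ Mf, ∑ j, (g i * χ i p) * (g j * χ j p) := Finset.sum_comm
        _ = ∑ i, ∑ j, ∑ p ∈ Mf, (g i * χ i p) * (g j * χ j p) := by
            refine Finset.sum_congr rfl (fun i _ => ?_)
            exact Finset.sum_comm
        _ = ∑ i, ∑ j, g i * g j * N i j := by
            refine Finset.sum_congr rfl (fun i _ => ?_)
            refine Finset.sum_congr rfl (fun j _ => ?_)
            simp only [N]
            rw [Finset.mul_sum]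
            refine Finset.sum_congr rfl (fun p _ => ?_)
            ring
    have h2 : ∀ i j, N i j = h + (if i = j then N i i - h else 0) := by
      intro i j
      by_cases hij : i = j
      · subst hij; simp
      · rw [if_neg hij, add_zero, hNoff i j hij]
    have h3 : ∑ i, ∑ j, g i * g j * N i j = h * (∑ i, g i) ^ 2 + ∑ i, g i ^ 2 * (N i i - h) := by
      have : ∀ i, ∑ j, g i * g j * N i j = h * (g i * ∑ j, g j) + g i ^ 2 * (N i i - h) := by
        intro i
        have e : ∀ j, g i * g j * N i j = h * (g i * g j) + (if i = j then g i * g j * (N i i - h) else 0) := by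
          intro j
          rw [h2 i j]
          by_cases hij : i = j
          · simp [hij]; ring
          · simp [hij]; ring
        simp only [e, Finset.sum_add_distrib, ← Finset.mul_sum]
        rw [Finset.sum_ite_eq Finset.univ i, if_pos (Finset.mem_univ _)]
        ring
      simp only [this, Finset.sum_add_distrib, ← Finset.mul_sum, ← Finset.sum_mul]
      ring
    rw [h1, h3] at h0
    have hnn : ∀ i ∈ Finset.univ, 0 ≤ g i ^ 2 * (N i i - h) := by
      intro i _
      have := hNdiag i
      exact mul_nonneg (sq_nonneg _) (by linarith)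
    have hsum0 : ∑ i, g i ^ 2 * (N i i - h) = 0 := by
      have h4 : 0 ≤ (h : ℝ) * (∑ i, g i) ^ 2 := mul_nonneg (Nat.cast_nonneg _) (sq_nonneg _)
      have h5 := Finset.sum_nonneg hnn
      linarith
    intro i
    have := (Finset.sum_eq_zero_iff_of_nonneg hnn).1 hsum0 i (Finset.mem_univ _)
    have hpos : 0 < N i i - h := by have := hNdiag i; linarith
    rcases mul_eq_zero.1 this with h6 | h6
    · exact pow_eq_zero_iff (by norm_num) |>.1 h6
    · exact absurd h6 hpos.ne'
  have := hli.fintype_card_le_finrank
  rw [Module.finrank_fintype_fun_eq_card, Fintype.card_coe] at this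
  exact this

end Groth.Agent.S15006
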