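import Groth.Statements.S15007
import Mathlib
-- import your own Groth.Agent.* helpers here

set_option autoImplicit false
universe u v
open Harb

namespace Groth.Agent.S15007

/-- Let C be a finite family of d ≥ 2 curves, recorded as an incidence relation between a type of points
and a finite index type, such that any two distinct curves of the family meet in exactly h ≥ 1
points and no point lies on every curve of the family. Then f₀ ≥ h + 2: the number of multiple
points (points lying on at least two of the curves) is at least h + 2. (The published claim reads f₀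
≥ 2ab − a²e + 2 for a transversal arrangement of d ≥ 4 curves on a geometrically ruled surface with
invariant e ≥ 4, all numerically equivalent to a C₀ + b f with a ≥ 1 and b ≥ ae and with no point
common to all of them, satisfying in addition either a ≥ 2, or a = 1 with some four of the curves
having no point in common, where any two of the curves meet transversally in h = 2ab − a²e ≥ 1
points; only d ≥ 2, h ≥ 1 and the absence of a common point enter the proof, and this row states the
bound for an abstract incidence relation.) -/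
theorem result (P : Type u) (ι : Type v) [Fintype ι]
    (inc : P → ι → Prop) (h : ℕ) (hh : 0 < h) (hd : 2 ≤ Fintype.card ι)
    (hfin : ∀ i j : ι, i ≠ j → {p : P | inc p i ∧ inc p j}.Finite)
    (hcount : ∀ i j : ι, i ≠ j → {p : P | inc p i ∧ inc p j}.ncard = h)
    (hnone : ∀ p : P, ∃ i : ι, ¬ inc p i) :
    h + 2 ≤ Nat.card {p : P // 2 ≤ Nat.card {j : ι // inc p j}} := by
  classical
  obtain ⟨i₁, i₂, h12⟩ := Fintype.one_lt_card_iff.1 (by omega : 1 < Fintype.card ι)
  have hSn : {p : P | inc p i₁ ∧ inc p i₂}.ncard = h := hcount i₁ i₂ h12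
  have hSf := hfin i₁ i₂ h12
  have hSne : {p : P | inc p i₁ ∧ inc p i₂}.Nonempty := by
    rw [← Set.ncard_pos hSf, hSn]; exact hh
  obtain ⟨p, hp1, hp2⟩ := hSne
  obtain ⟨j, hj⟩ := hnone p
  have h1j : i₁ ≠ j := by rintro rfl; exact hj hp1
  have h2j : i₂ ≠ j := by rintro rfl; exact hj hp2
  set S : Set P := {q | inc q i₁ ∧ inc q i₂} with hS
  set A : Set P := {q | inc q i₁ ∧ inc q j} with hA
  set B : Set P := {q | inc q i₂ ∧ inc q j} with hB
  set T : Set P := {q | inc q i₁ ∧ inc q i₂ ∧ inc q j} with hT
  have hAf : A.Finite := hfin i₁ j h1j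
  have hBf : B.Finite := hfin i₂ j h2j
  have hAn : A.ncard = h := hcount i₁ j h1j
  have hBn : B.ncard = h := hcount i₂ j h2j
  have hAB : A ∩ B = T := by
    ext q; simp only [hA, hB, hT, Set.mem_inter_iff, Set.mem_setOf_eq]; tauto
  have hABS : (A ∪ B) ∩ S = T := by
    ext q; simp only [hA, hB, hS, hT, Set.mem_inter_iff, Set.mem_union, Set.mem_setOf_eq]; tauto
  have hTS : T ⊂ S := by
    rw [Set.ssubset_def]
    refine ⟨fun q hq => ⟨hq.1, hq.2.1⟩, fun hsub => ?_⟩
    have : p ∈ T := hsub ⟨hp1, hp2⟩
    exact hj this.2.2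
  have hTlt : T.ncard < h := by
    rw [← hSn]; exact Set.ncard_lt_ncard hTS hSf
  have e1 := Set.ncard_union_add_ncard_inter A B hAf hBf
  have e2 := Set.ncard_union_add_ncard_inter (A ∪ B) S (hAf.union hBf) hSf
  rw [hAB] at e1
  rw [hABS] at e2
  -- the set of multiple points
  set M : Set P := {q | 2 ≤ Nat.card {j : ι // inc q j}} with hM
  have hMf : M.Finite := by
    have : M ⊆ ⋃ (x : {x : ι × ι // x.1 ≠ x.2}), {q | inc q x.1.1 ∧ inc q x.1.2} := by
      intro q hq
      have hq' : 1 < Nat.card {j : ι // inc q j} := hq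
      rw [Finite.one_lt_card_iff_nontrivial] at hq'
      obtain ⟨⟨a, ha⟩, ⟨b, hb⟩, hab⟩ := hq'
      have hab' : a ≠ b := fun h => hab (Subtype.ext h)
      exact Set.mem_iUnion.2 ⟨⟨(a, b), hab'⟩, ha, hb⟩
    refine Set.Finite.subset (Set.finite_iUnion fun x => ?_) this
    exact hfin x.1.1 x.1.2 x.2
  have hsub : (A ∪ B) ∪ S ⊆ M := by
    have key : ∀ (q : P) (a b : ι), a ≠ b → inc q a → inc q b → q ∈ M := by
      intro q a b hab ha hb
      show 2 ≤ Nat.card {j : ι // inc q j}
      have : 1 < Nat.card {j : ι // inc q j} := by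
        rw [Finite.one_lt_card_iff_nontrivial]
        exact ⟨⟨a, ha⟩, ⟨b, hb⟩, fun h => hab (congrArg Subtype.val h)⟩
      exact this
    rintro q ((hq | hq) | hq)
    · exact key q i₁ j h1j hq.1 hq.2
    · exact key q i₂ j h2j hq.1 hq.2
    · exact key q i₁ i₂ h12 hq.1 hq.2
  have hle := Set.ncard_le_ncard hsub hMf
  have hcard : Nat.card {p : P // 2 ≤ Nat.card {j : ι // inc p j}} = M.ncard := by
    exact Nat.card_coe_set_eq M
  rw [hcard]
  omega

end Groth.Agent.S15007
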