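import Groth.Statements.S15008
import Groth.Agent.Lib.Helper15.CanDual4

set_option autoImplicit false
set_option linter.style.haveILetI false
universe u
open CategoryTheory
open TFCurv
open Groth.Agent.Lib.helper15.CanDual Groth.Agent.Lib.helper15.RelLen

namespace Groth.Agent.S15008

/-- Let O be a one-dimensional Noetherian local domain with algebraically closed residue field whose
integral closure O~ in its fraction field K is a finite O-module, and suppose O is not Gorenstein.
If w is an O-submodule of K with O ⊆ w ⊆ O~ whose injective dimension as an O-module is at most one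
(a canonical ideal placed between O and O~), then length(w/O) + length(O~/C) = 2 · length(O~/O),
where C is the conductor of O in O~. -/
theorem result (O : Type u) [CommRing O] [IsDomain O] [IsNoetherianRing O] [IsLocalRing O] (hdim : ringKrullDim O = 1) [IsAlgClosed (IsLocalRing.ResidueField O)] (K : Type u) [Field K] [Algebra O K] [IsFractionRing O K] (hfin : Module.Finite O ↥(integralClosure O K)) (hG : ¬ LocCoh.IsGorensteinLocalRing O) (ω : Submodule O K) (hω1 : (1 : Submodule O K) ≤ ω) (hω2 : ω ≤ (Subalgebra.toSubmodule (integralClosure O K))) (hωinj : HasInjectiveDimensionLT (ModuleCat.of O ↥ω) 2) : Module.length O (↥ω ⧸ Submodule.comap ω.subtype (1 : Submodule O K)) + Module.length O (↥(integralClosure O K) ⧸ ((1 : Submodule O K).colon (Subalgebra.toSubmodule (integralClosure O K))) • (⊤ : Submodule O ↥(integralClosure O K))) = 2 * Module.length O (↥(integralClosure O K) ⧸ Submodule.comap (Subalgebra.toSubmodule (integralClosure O K)).subtype (1 : Submodule O K)) := by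
  classical
  set OT : Submodule O K := Subalgebra.toSubmodule (integralClosure O K) with hOT
  have hω0 : ω ≠ ⊥ := fun h => one_ne_bot (O := O) (K := K) (le_bot_iff.mp (h ▸ hω1))
  have hOTfg : OT.FG := Module.Finite.iff_fg.mp hfin
  have hωfg : ω.FG := by
    haveI : IsNoetherian O ↥OT := isNoetherian_of_isNoetherianRing_of_finite O ↥OT
    have : IsNoetherian O ↥ω := isNoetherian_of_injective (Submodule.inclusion hω2)
      (Submodule.inclusion_injective hω2)
    exact Module.Finite.iff_fg.mp inferInstance
  have hOT0 : OT ≠ ⊥ := fun h => hω0 (le_bot_iff.mp (h ▸ hω2))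
  haveI : Module.Injective O (K ⧸ ω) := injective_quotient_of_hasInjectiveDimensionLT O K ω hωinj
  have hωω : ω / ω = 1 := div_self_eq_one ω hdim hω0 hωfg
  -- the conductor inside `K`
  set CK : Submodule O K := 1 / OT with hCK
  have hOTmul : ∀ x ∈ OT, ∀ y ∈ OT, x * y ∈ OT := fun x hx y hy =>
    (integralClosure O K).mul_mem hx hy
  have hOT1 : (1 : K) ∈ OT := (integralClosure O K).one_mem
  have hdiv : ω / OT = CK := by
    apply le_antisymm
    · intro y hy
      rw [hCK, Submodule.mem_div_iff_forall_mul_mem]
      intro x hx
      -- y * x ∈ ω / ω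
      rw [← hωω, Submodule.mem_div_iff_forall_mul_mem]
      intro w hw
      rw [mul_assoc]
      exact (Submodule.mem_div_iff_forall_mul_mem.1 hy) _ (hOTmul x hx w (hω2 hw))
    · intro y hy
      rw [Submodule.mem_div_iff_forall_mul_mem]
      intro x hx
      exact hω1 ((Submodule.mem_div_iff_forall_mul_mem.1 hy) x hx)
  have hCK1 : CK ≤ 1 := by
    intro y hy
    have := (Submodule.mem_div_iff_forall_mul_mem.1 hy) 1 hOT1
    rwa [mul_one] at this
  have h1OT : (1 : Submodule O K) ≤ OT := hω1.trans hω2
  -- duality for the pair `(ω, OT)`
  have hdual : rl CK 1 = rl ω OT := by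
    have := rl_div_of_fg ω hdim hω0 hωfg hω0 hωfg hOT0 hOTfg
    rwa [hdiv, hωω] at this
  have e1 : rl CK OT = rl 1 OT + rl CK 1 := rl_add hCK1 h1OT
  have e2 : rl 1 OT = rl ω OT + rl 1 ω := rl_add hω1 hω2
  -- translate the statement
  have t1 : Module.length O (↥ω ⧸ Submodule.comap ω.subtype (1 : Submodule O K)) = rl 1 ω := rfl
  have t3 : Module.length O (↥(integralClosure O K) ⧸
      Submodule.comap (Subalgebra.toSubmodule (integralClosure O K)).subtype
        (1 : Submodule O K)) = rl 1 OT := rfl
  have t2 : Module.length O (↥(integralClosure O K) ⧸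
      ((1 : Submodule O K).colon (Subalgebra.toSubmodule (integralClosure O K))) •
        (⊤ : Submodule O ↥(integralClosure O K))) = rl CK OT := by
    have : (((1 : Submodule O K).colon (Subalgebra.toSubmodule (integralClosure O K))) •
        (⊤ : Submodule O ↥(integralClosure O K))) = CK.submoduleOf OT := by
      apply le_antisymm
      · rw [Submodule.smul_le]
        intro r hr x _
        change ((r • x : ↥(integralClosure O K)) : K) ∈ CK
        rw [hCK, Submodule.mem_div_iff_forall_mul_mem]
        intro y hy
        rw [Submodule.mem_colon] at hr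
        have : ((r • x : ↥(integralClosure O K)) : K) * y = r • ((x : K) * y) := by
          have h0 : ((r • x : ↥(integralClosure O K)) : K) = r • (x : K) := rfl
          rw [h0, Algebra.smul_mul_assoc]
        rw [this]
        exact hr _ (hOTmul _ x.2 _ hy)
      · intro x hx
        have hx' : (x : K) ∈ CK := hx
        obtain ⟨r, hr⟩ := Submodule.mem_one.1 (hCK1 hx')
        have hrC : r ∈ (1 : Submodule O K).colon (Subalgebra.toSubmodule (integralClosure O K)) := by
          rw [Submodule.mem_colon]
          intro y hy
          rw [Algebra.smul_def, hr]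
          exact (Submodule.mem_div_iff_forall_mul_mem.1 hx') y hy
        have : x = r • (1 : ↥(integralClosure O K)) := by
          apply Subtype.ext
          change (x : K) = r • (1 : K)
          rw [Algebra.smul_def, mul_one, hr]
        rw [this]
        exact Submodule.smul_mem_smul hrC Submodule.mem_top
    rw [this]
    rfl
  rw [t1, t2, t3, e1, ← hdual] at *
  rw [e2, hdual]
  ring

end Groth.Agent.S15008
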