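import Groth.Statements.S15010
import Mathlib

set_option autoImplicit false
universe u
open TFCurv

namespace Groth.Agent.S15010

section aux
variable {O : Type u} [CommRing O] {K : Type u} [Field K] [Algebra O K] {n : ℕ}

lemma single_mem (j : Fin n) : (Pi.single j (1 : K) : Fin n → K) ∈
    Submodule.pi Set.univ (fun _ : Fin n => (1 : Submodule O K)) := by
  intro i _
  by_cases h : i = j
  · subst h; rw [Pi.single_eq_same]; exact Submodule.mem_one.2 ⟨1, map_one _⟩
  · rw [Pi.single_eq_of_ne h]; exact zero_mem _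

lemma key [IsDomain O] [IsFractionRing O K] (M : Submodule O (Fin n → K))
    (hM1 : Submodule.pi Set.univ (fun _ : Fin n => (1 : Submodule O K)) ≤ M)
    (ψ : M →ₗ[O] (Fin n → K)) (x : M) :
    ψ x = (Matrix.of fun i j => ψ ⟨Pi.single j 1, hM1 (single_mem j)⟩ i).mulVec
      (x : Fin n → K) := by
  classical
  obtain ⟨c, hc⟩ := IsLocalization.exist_integer_multiples_of_finite (nonZeroDivisors O)
    (fun i => (x : Fin n → K) i)
  have hc' : ∀ i, ∃ y : O, algebraMap O K y = (c : O) • (x : Fin n → K) i := fun i => hc i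
  choose y hy using hc'
  have hc0 : algebraMap O K (c : O) ≠ 0 :=
    (map_ne_zero_iff _ (IsFractionRing.injective O K)).2 (nonZeroDivisors.ne_zero c.2)
  have h1 : (c : O) • x = ∑ j, y j • (⟨Pi.single j 1, hM1 (single_mem j)⟩ : M) := by
    apply Subtype.ext
    rw [Submodule.coe_smul, Submodule.coe_sum]
    funext i
    simp only [Pi.smul_apply, Finset.sum_apply, Submodule.coe_smul, Pi.single_apply]
    rw [Finset.sum_eq_single i]
    · rw [if_pos rfl, ← hy i, Algebra.smul_def, mul_one]
    · intro j _ hji; rw [if_neg (Ne.symm hji), smul_zero]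
    · intro h; exact absurd (Finset.mem_univ i) h
  have h2 := congrArg ψ h1
  rw [map_smul, map_sum] at h2
  funext i
  have h3 := congrFun h2 i
  simp only [Pi.smul_apply, Finset.sum_apply, map_smul] at h3
  apply mul_left_cancel₀ hc0
  rw [← Algebra.smul_def, h3, Matrix.mulVec, dotProduct, Finset.mul_sum]
  refine Finset.sum_congr rfl (fun j _ => ?_)
  simp only [Matrix.of_apply]
  rw [Algebra.smul_def, hy j, Algebra.smul_def]; ring

end aux

/-- Let O be a one-dimensional Noetherian local domain with algebraically closed residue field whose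
integral closure O~ in its fraction field K is a finite O-module. If M and N are O-submodules of K^n
with O^n ⊆ M ⊆ O~^n and O^n ⊆ N ⊆ O~^n, then every O-linear isomorphism M → N is the restriction of
x ↦ A·x for an invertible n × n matrix A with entries in O~. -/
theorem result (O : Type u) [CommRing O] [IsDomain O] [IsNoetherianRing O] [IsLocalRing O] (hdim : ringKrullDim O = 1) [IsAlgClosed (IsLocalRing.ResidueField O)] (K : Type u) [Field K] [Algebra O K] [IsFractionRing O K] (hfin : Module.Finite O ↥(integralClosure O K)) (n : ℕ) (M N : Submodule O (Fin n → K)) (hM1 : Submodule.pi Set.univ (fun _ : Fin n => (1 : Submodule O K)) ≤ M) (hM2 : M ≤ Submodule.pi Set.univ (fun _ : Fin n => (Subalgebra.toSubmodule (integralClosure O K)))) (hN1 : Submodule.pi Set.univ (fun _ : Fin n => (1 : Submodule O K)) ≤ N) (hN2 : N ≤ Submodule.pi Set.univ (fun _ : Fin n => (Subalgebra.toSubmodule (integralClosure O K)))) (φ : ↥M ≃ₗ[O] ↥N) : ∃ A : Matrix (Fin n) (Fin n) ↥(integralClosure O K), IsUnit A ∧ ∀ x : ↥M, ((φ x : ↥N)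 : Fin n → K) = (A.map (algebraMap ↥(integralClosure O K) K)).mulVec (x : Fin n → K) := by
  classical
  let ψ : M →ₗ[O] (Fin n → K) := N.subtype ∘ₗ φ.toLinearMap
  let ψ' : N →ₗ[O] (Fin n → K) := M.subtype ∘ₗ φ.symm.toLinearMap
  let AK : Matrix (Fin n) (Fin n) K :=
    Matrix.of fun i j => ψ ⟨Pi.single j 1, hM1 (single_mem j)⟩ i
  let BK : Matrix (Fin n) (Fin n) K :=
    Matrix.of fun i j => ψ' ⟨Pi.single j 1, hN1 (single_mem j)⟩ i
  have hA : ∀ i j, AK i j ∈ integralClosure O K := fun i j =>
    hN2 (φ ⟨Pi.single j 1, hM1 (single_mem j)⟩).2 i (Set.mem_univ i)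
  have hB : ∀ i j, BK i j ∈ integralClosure O K := fun i j =>
    hM2 (φ.symm ⟨Pi.single j 1, hN1 (single_mem j)⟩).2 i (Set.mem_univ i)
  let A : Matrix (Fin n) (Fin n) (integralClosure O K) := Matrix.of fun i j => ⟨AK i j, hA i j⟩
  let B : Matrix (Fin n) (Fin n) (integralClosure O K) := Matrix.of fun i j => ⟨BK i j, hB i j⟩
  have hAm : A.map (algebraMap (integralClosure O K) K) = AK := by ext i j; rfl
  have hBm : B.map (algebraMap (integralClosure O K) K) = BK := by ext i j; rfl
  have hφ : ∀ x : M, ((φ x : N) : Fin n → K) = AK.mulVec x := fun x => key M hM1 ψ x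
  have hφ' : ∀ y : N, ((φ.symm y : M) : Fin n → K) = BK.mulVec y := fun y => key N hN1 ψ' y
  have hBA : BK * AK = 1 := by
    ext i j
    have h1 : (BK * AK).mulVec (Pi.single j 1) = Pi.single j 1 := by
      rw [← Matrix.mulVec_mulVec]
      have e1 := hφ ⟨Pi.single j 1, hM1 (single_mem j)⟩
      have e2 := hφ' (φ ⟨Pi.single j 1, hM1 (single_mem j)⟩)
      rw [φ.symm_apply_apply] at e2
      rw [← e1, ← e2]
    have h2 := congrFun h1 i
    rw [Matrix.mulVec_single_one, Matrix.col_apply] at h2
    rw [Matrix.one_apply, h2, Pi.single_apply]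
  have hBA' : B * A = 1 := by
    apply Matrix.map_injective (f := algebraMap (integralClosure O K) K)
      (FaithfulSMul.algebraMap_injective _ _)
    show (B * A).map (algebraMap (integralClosure O K) K)
      = (1 : Matrix (Fin n) (Fin n) (integralClosure O K)).map (algebraMap (integralClosure O K) K)
    rw [Matrix.map_mul, hAm, hBm, hBA, Matrix.map_one _ (map_zero _) (map_one _)]
  refine ⟨A, (Matrix.isUnit_iff_isUnit_det A).2 (Matrix.isUnit_det_of_left_inverse hBA'), ?_⟩
  intro x
  rw [hAm]
  exact hφ x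

end Groth.Agent.S15010
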