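import Groth.Statements.S15012
import Groth.Agent.Lib.Helper15.LatShrink
import Groth.Agent.Lib.Helper19.Refl3
import Groth.Agent.S15009

set_option linter.style.haveILetI false
open Groth.Agent.Lib.helper15.LatDual Groth.Agent.Lib.helper15.RelLen

set_option autoImplicit false
universe u
open TFCurv

namespace Groth.Agent.S15012

section aux

set_option linter.unusedSectionVars false

variable {O : Type u} [CommRing O] [IsDomain O] [IsNoetherianRing O] [IsLocalRing O]
  {K : Type u} [Field K] [Algebra O K] [IsFractionRing O K] {n : ℕ}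

/-- the conductor ideal, viewed inside `K`, is the fractional ideal `(O : Õ)` -/
theorem colon_smul_one :
    ((1 : Submodule O K).colon (Subalgebra.toSubmodule (integralClosure O K))) •
      (1 : Submodule O K) = (1 : Submodule O K) / OT O K := by
  apply le_antisymm
  · rw [Submodule.smul_le]
    intro c hc z hz
    rw [Submodule.mem_colon] at hc
    obtain ⟨r, rfl⟩ := Submodule.mem_one.1 hz
    rw [Submodule.mem_div_iff_forall_mul_mem]
    intro x hx
    have : (c • algebraMap O K r) * x = r • (c • x) := by
      rw [Algebra.smul_def, Algebra.smul_def, Algebra.smul_def]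
      ring
    rw [this]
    exact Submodule.smul_mem _ r (hc x hx)
  · intro y hy
    have hy1 : y ∈ (1 : Submodule O K) := by
      have := (Submodule.mem_div_iff_forall_mul_mem.1 hy) 1 ((integralClosure O K).one_mem)
      rwa [mul_one] at this
    obtain ⟨c, rfl⟩ := Submodule.mem_one.1 hy1
    have hc : c ∈ (1 : Submodule O K).colon (Subalgebra.toSubmodule (integralClosure O K)) := by
      rw [Submodule.mem_colon]
      intro x hx
      rw [Algebra.smul_def]
      exact (Submodule.mem_div_iff_forall_mul_mem.1 hy) x hx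
    have : algebraMap O K c = c • (1 : K) := by rw [Algebra.smul_def, mul_one]
    rw [this]
    exact Submodule.smul_mem_smul hc (Submodule.one_le.mp le_rfl)

theorem length_quot_colon :
    Module.length O (O ⧸ ((1 : Submodule O K).colon
      (Subalgebra.toSubmodule (integralClosure O K)))) =
      rl ((1 : Submodule O K) / OT O K) (1 : Submodule O K) := by
  have h1 : (⊤ : Submodule O O).map (Algebra.linearMap O K) = 1 := by
    rw [Submodule.map_top, Submodule.one_eq_range]
  have h2 : ((1 : Submodule O K) / OT O K).comap (Algebra.linearMap O K) =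
      (1 : Submodule O K).colon (Subalgebra.toSubmodule (integralClosure O K)) := by
    ext x
    rw [Submodule.mem_comap, Submodule.mem_colon, Submodule.mem_div_iff_forall_mul_mem]
    constructor
    · intro h z hz
      rw [Algebra.smul_def]
      exact h z hz
    · intro h z hz
      have := h z hz
      rwa [Algebra.smul_def] at this
  have h3 := rl_map (Algebra.linearMap O K) ((1 : Submodule O K) / OT O K) ⊤
  rw [h1, h2, Groth.Agent.Lib.helper15.RelLen.rl_top] at h3
  exact h3

theorem Cn_le_On : Cn O K n ≤ On O K n := by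
  intro y hy
  rw [Submodule.mem_pi] at hy ⊢
  intro i hi
  have := (Submodule.mem_div_iff_forall_mul_mem.1 (hy i hi)) 1 ((integralClosure O K).one_mem)
  rwa [mul_one] at this

theorem dual_On : dual (On O K n) = On O K n := by
  rw [On, dual_pi, Groth.Agent.Lib.helper15.CanDual.div_one']

end aux

/-- Let O be a one-dimensional Gorenstein local domain with algebraically closed residue field whose
integral closure O~ in its fraction field K is a finite O-module, and let C ⊆ O be the conductor of
O in O~. Every finitely generated torsion-free O-module of rank n is isomorphic to an O-submodule M'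
of K^n with C^n ⊆ M' ⊆ O~^n and length(M'/C^n) = n · length(O/C); that is, every isomorphism class
of rank-n torsion-free modules is represented by a submodule of (O~/C)^n of the same length as
(O/C)^n. -/
theorem result (O : Type u) [CommRing O] [IsDomain O] [LocCoh.IsGorensteinLocalRing O] (hdim : ringKrullDim O = 1) [IsAlgClosed (IsLocalRing.ResidueField O)] (K : Type u) [Field K] [Algebra O K] [IsFractionRing O K] (hfin : Module.Finite O ↥(integralClosure O K)) (M : Type u) [AddCommGroup M] [Module O M] [Module.Finite O M] [NoZeroSMulDivisors O M] (n : ℕ) (hn : Module.finrank K (TensorProduct O K M) = n) : ∃ M' : Submodule O (Fin n → K), Submodule.pi Set.univ (fun _ : Fin n => (((1 : Submodule O K).colon (Subalgebra.toSubmodule (integralClosure O K))) • (1 : Submodule O K))) ≤ M' ∧ M' ≤ Submodule.pi Set.univ (fun _ : Fin n => (Subalgebra.toSubmodule (integralClosure O K))) ∧ Nonempty (M ≃ₗ[O] ↥M') ∧ Module.length O (↥M' ⧸ Submodule.comap M'.subtype (Submodule.pi Set.univ (fun _ : Fin n => (((1 : Submodule O K).colon (Subalgebra.toSubmodule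 (integralClosure O K))) • (1 : Submodule O K))))) = (n : ℕ∞) * Module.length O (O ⧸ ((1 : Submodule O K).colon (Subalgebra.toSubmodule (integralClosure O K)))) := by
  classical
  haveI : IsNoetherianRing O := inferInstance
  haveI : IsLocalRing O := inferInstance
  -- `K / O` is injective
  have hinjO : CategoryTheory.HasInjectiveDimensionLE (ModuleCat.of O O) 1 :=
    Groth.Agent.Lib.helper19.Refl.hasInjectiveDimensionLE_of_gorensteinLocal O 1
      (by rw [hdim]; rfl)
  let σ : O ≃ₗ[O] ↥(1 : Submodule O K) :=
    (LinearEquiv.ofInjective (Algebra.linearMap O K) (IsFractionRing.injective O K)).trans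
      (LinearEquiv.ofEq _ _ Submodule.one_eq_range.symm)
  have hinj1 : CategoryTheory.HasInjectiveDimensionLT (ModuleCat.of O ↥(1 : Submodule O K)) 2 := by
    haveI : CategoryTheory.HasInjectiveDimensionLT (ModuleCat.of O O) 2 := hinjO
    have e : ModuleCat.of O O ≅ ModuleCat.of O ↥(1 : Submodule O K) := LinearEquiv.toModuleIso σ
    exact CategoryTheory.hasInjectiveDimensionLT_of_iso e 2
  haveI : Module.Injective O (K ⧸ (1 : Submodule O K)) :=
    Groth.Agent.Lib.helper15.CanDual.injective_quotient_of_hasInjectiveDimensionLT O K 1 hinj1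
  rw [colon_smul_one, length_quot_colon]
  change ∃ M' : Submodule O (Fin n → K), Cn O K n ≤ M' ∧ M' ≤ OTn O K n ∧ Nonempty (M ≃ₗ[O] ↥M') ∧
    rl (Cn O K n) M' = (n : ℕ∞) * rl ((1 : Submodule O K) / OT O K) (1 : Submodule O K)
  have hA : dual (Cn O K n) = OTn O K n := dual_Cn hdim hfin
  have hB : dual (OTn O K n) = Cn O K n := dual_OTn
  have hfinAB : rl (Cn O K n) (OTn O K n) ≠ ⊤ := rl_Cn_OTn_ne_top hdim hfin
  -- counts
  have hc1 : rl (Cn O K n) (On O K n) =
      (n : ℕ∞) * rl ((1 : Submodule O K) / OT O K) (1 : Submodule O K) := rl_pi _ _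
  have hc2 : rl (On O K n) (OTn O K n) = rl (Cn O K n) (On O K n) := by
    have := rl_bot_dual hdim hA hB hfinAB (Cn_le_On (O := O) (K := K) (n := n)) On_le_OTn
    rw [dual_On] at this
    exact this.symm
  have hδ : rl (On O K n) (OTn O K n) ≠ ⊤ := by
    have e := rl_add (Cn_le_On (O := O) (K := K) (n := n)) On_le_OTn
    intro h
    rw [h, top_add] at e
    exact hfinAB e
  -- the induction
  have key : ∀ m : ℕ, ∀ L : Submodule O (Fin n → K), Cn O K n ≤ L → L ≤ OTn O K n →
      rl (Cn O K n) L = rl (On O K n) (OTn O K n) + m →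
      ∃ L' : Submodule O (Fin n → K), Cn O K n ≤ L' ∧ L' ≤ OTn O K n ∧
        Nonempty (↥L ≃ₗ[O] ↥L') ∧ rl (Cn O K n) L' = rl (On O K n) (OTn O K n) := by
    intro m
    induction m with
    | zero =>
      intro L h1 h2 h
      refine ⟨L, h1, h2, ⟨LinearEquiv.refl _ _⟩, ?_⟩
      rw [h, Nat.cast_zero, add_zero]
    | succ m ih =>
      intro L h1 h2 h
      have hlt : rl (On O K n) (OTn O K n) < rl (Cn O K n) L := by
        rw [h]
        lift rl (On O K n) (OTn O K n) to ℕ using hδ with d
        norm_cast
        omega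
      obtain ⟨L', h1', h2', ⟨e⟩, hrl⟩ := shrink hdim hfin L h1 h2 hlt
      have hL'fin : rl (Cn O K n) L' ≠ ⊤ := by
        have e0 := rl_add h1' h2'
        intro h'
        rw [h', add_top] at e0
        exact hfinAB e0
      have h' : rl (Cn O K n) L' = rl (On O K n) (OTn O K n) + m := by
        rw [h] at hrl
        lift rl (On O K n) (OTn O K n) to ℕ using hδ with d
        lift rl (Cn O K n) L' to ℕ using hL'fin with d'
        norm_cast at hrl ⊢
        omega
      obtain ⟨L'', h1'', h2'', ⟨e'⟩, hrl''⟩ := ih L' h1' h2' h'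
      exact ⟨L'', h1'', h2'', ⟨e.trans e'⟩, hrl''⟩
  -- the starting lattice
  obtain ⟨M₀, hM1, hM2, ⟨e0⟩⟩ := Groth.Agent.S15009.result O hdim K hfin M n hn
  have hM1' : On O K n ≤ M₀ := hM1
  have hM2' : M₀ ≤ OTn O K n := hM2
  have hstart := rl_add (Cn_le_On (O := O) (K := K) (n := n)) hM1'
  have hfin0 : rl (On O K n) M₀ ≠ ⊤ := by
    have e1 := rl_add (Cn_le_On.trans hM1') hM2'
    intro h'
    rw [hstart, h', top_add, add_top] at e1
    exact hfinAB e1
  obtain ⟨L', h1', h2', ⟨e'⟩, hrl'⟩ := key (rl (On O K n) M₀).toNat M₀ (Cn_le_On.trans hM1') hM2'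
    (by rw [hstart, hc2, add_comm, ENat.natCast_toNat hfin0])
  exact ⟨L', h1', h2', ⟨e0.trans e'⟩, by rw [hrl', hc2, hc1]⟩

end Groth.Agent.S15012
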