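import Groth.Statements.S15013
import Mathlib
import Groth.Agent.Lib.Helper6.Reflexive2
-- import your own Groth.Agent.* helpers here

set_option autoImplicit false
universe u
open CategoryTheory
open TFCurv

namespace Groth.Agent.S15013

/-- Let O be a one-dimensional Noetherian local domain with algebraically closed residue field whose
integral closure O~ in its fraction field K is a finite O-module, and let w be a canonical ideal of
O, taken here as a nonzero finitely generated O-submodule of K whose injective dimension as an
O-module is at most one. Then Ext^i_O(M, w) vanishes for all i ≥ 1 and every finitely generated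
torsion-free O-module M. -/
theorem result (O : Type u) [CommRing O] [IsDomain O] [IsNoetherianRing O] [IsLocalRing O] (hdim : ringKrullDim O = 1) [IsAlgClosed (IsLocalRing.ResidueField O)] (K : Type u) [Field K] [Algebra O K] [IsFractionRing O K] (hfin : Module.Finite O ↥(integralClosure O K)) (ω : Submodule O K) (hω0 : ω ≠ ⊥) (hωfg : ω.FG) (hωinj : HasInjectiveDimensionLT (ModuleCat.of O ↥ω) 2) (M : Type u) [AddCommGroup M] [Module O M] [Module.Finite O M] [NoZeroSMulDivisors O M] (i : ℕ) (hi : 1 ≤ i) : Subsingleton (Abelian.Ext (ModuleCat.of O M) (ModuleCat.of O ↥ω) i) := by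
  by_cases h2 : 2 ≤ i
  · exact HasInjectiveDimensionLT.subsingleton (ModuleCat.of O ↥ω) 2 i h2 _
  have hi1 : i = 1 := by omega
  subst hi1
  haveI : Module.IsTorsionFree O M := by
    refine Module.IsTorsionFree.of_smul_eq_zero (fun r m h => ?_)
    exact smul_eq_zero.1 h
  obtain ⟨k, ι, hι⟩ := Groth.Agent.Lib.Helper6.Reflexive.exists_embedding_free (R := O) M
  -- the short exact sequence 0 → M → O^k → C → 0
  let S : CategoryTheory.ShortComplex (ModuleCat.{u} O) :=
    CategoryTheory.ShortComplex.mk (ModuleCat.ofHom ι)
      (ModuleCat.ofHom (LinearMap.range ι).mkQ) (by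
        ext m
        change (LinearMap.range ι).mkQ (ι m) = 0
        rw [Submodule.mkQ_apply, Submodule.Quotient.mk_eq_zero]
        exact ⟨m, rfl⟩)
  have hS : S.ShortExact := by
    refine CategoryTheory.ShortComplex.ShortExact.mk' ?_ ?_ ?_
    · rw [CategoryTheory.ShortComplex.ShortExact.moduleCat_exact_iff_function_exact]
      intro y
      change (LinearMap.range ι).mkQ y = 0 ↔ y ∈ Set.range ι
      rw [Submodule.mkQ_apply, Submodule.Quotient.mk_eq_zero]
      rfl
    · exact (ModuleCat.mono_iff_injective _).2 hι
    · exact (ModuleCat.epi_iff_surjective _).2 (Submodule.mkQ_surjective _)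
  refine ⟨fun a b => ?_⟩
  have key : ∀ x : Abelian.Ext (ModuleCat.of O M) (ModuleCat.of O ↥ω) 1, x = 0 := by
    intro x
    have h0 : hS.extClass.comp x (show 1 + 1 = 2 by rfl) = 0 :=
      (HasInjectiveDimensionLT.subsingleton (ModuleCat.of O ↥ω) 2 2 le_rfl _).elim _ _
    obtain ⟨x₂, hx₂⟩ := Abelian.Ext.contravariant_sequence_exact₁ hS (ModuleCat.of O ↥ω) x
      (show 1 + 1 = 2 by rfl) h0
    haveI : Projective S.X₂ := by
      change Projective (ModuleCat.of O (Fin k → O))
      exact ModuleCat.projective_of_free (Pi.basisFun O (Fin k))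
    have : x₂ = 0 := Abelian.Ext.eq_zero_of_projective x₂
    rw [← hx₂, this, Abelian.Ext.comp_zero]
  rw [key a, key b]

end Groth.Agent.S15013
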