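import Groth.Statements.S15014
import Groth.Agent.Lib.Helper15.ExtDual4
import Groth.Agent.Lib.Helper15.CanDual4
import Groth.Agent.S15013

set_option autoImplicit false
set_option linter.style.haveILetI false
open Groth.Agent.Lib.helper15.ExtDual
universe u
open CategoryTheory
open TFCurv

namespace Groth.Agent.S15014

/-- Let O be a one-dimensional Noetherian local domain with algebraically closed residue field whose
integral closure O~ in its fraction field K is a finite O-module, and w a canonical ideal (a nonzero
finitely generated O-submodule of K of injective dimension at most one). For a finitely generated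
torsion-free O-module M with dual M* = Hom_O(M, w), the groups Ext^i_O(M, M) and Ext^i_O(M*, M*) are
isomorphic for every i ≥ 0 (existence of an additive isomorphism only). -/
theorem result (O : Type u) [CommRing O] [IsDomain O] [IsNoetherianRing O] [IsLocalRing O] (hdim : ringKrullDim O = 1) [IsAlgClosed (IsLocalRing.ResidueField O)] (K : Type u) [Field K] [Algebra O K] [IsFractionRing O K] (hfin : Module.Finite O ↥(integralClosure O K)) (ω : Submodule O K) (hω0 : ω ≠ ⊥) (hωfg : ω.FG) (hωinj : HasInjectiveDimensionLT (ModuleCat.of O ↥ω) 2) (M : Type u) [AddCommGroup M] [Module O M] [Module.Finite O M] [NoZeroSMulDivisors O M] (i : ℕ) : Nonempty (Abelian.Ext (ModuleCat.of O M) (ModuleCat.of O M) i ≃+ Abelian.Ext (ModuleCat.of O (M →ₗ[O] ↥ω)) (ModuleCat.of O (M →ₗ[O] ↥ω)) i) := by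
  haveI : Module.Finite O ↥ω := Module.Finite.iff_fg.mpr hωfg
  haveI : Module.Injective O (K ⧸ ω) :=
    Groth.Agent.Lib.helper15.CanDual.injective_quotient_of_hasInjectiveDimensionLT O K ω hωinj
  have hωω : ω / ω = 1 := Groth.Agent.Lib.helper15.CanDual.div_self_eq_one ω hdim hω0 hωfg
  have hW : TF O ↥ω := tf_submodule (tf_field (O := O) (K := K)) ω
  have hM : TF O M := fun c x h => smul_eq_zero.mp h
  refine extDual ↥ω hW (fun r => ev_free_surjective ω hω0 hωω r)
    (fun M' _ _ _ hM' => ev_injective_of_tf ω hω0 M' hM') ?_ i M M hM hM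
  intro M' _ _ _ hM' j hj
  haveI : NoZeroSMulDivisors O M' := ⟨fun h => hM' _ _ h⟩
  exact Groth.Agent.S15013.result O hdim K hfin ω hω0 hωfg hωinj M' j hj

end Groth.Agent.S15014
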