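import Groth.Statements.S15015
import Mathlib
-- import your own Groth.Agent.* helpers here

set_option autoImplicit false
universe u
open TFCurv

namespace Groth.Agent.S15015

section helpers
open PowerSeries

/-- a nonzero element of the conductor -/
lemma exists_conductor_elt (k : Type u) [Field k] (A : Subalgebra k (PowerSeries k))
    (hA : Module.Finite ↥A (PowerSeries k))
    (hbir : ∀ f : PowerSeries k, ∃ a ∈ A, a ≠ 0 ∧ a * f ∈ A) :
    ∃ a ∈ A, a ≠ 0 ∧ ∀ f : PowerSeries k, a * f ∈ A := by
  classical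
  obtain ⟨s, hs⟩ := hA.fg_top
  choose d hdA hd0 hd using hbir
  refine ⟨∏ x ∈ s, d x, A.prod_mem (fun x _ => hdA x), Finset.prod_ne_zero_iff.mpr (fun x _ => hd0 x), ?_⟩
  intro f
  have hf : f ∈ Submodule.span ↥A (s : Set (PowerSeries k)) := by rw [hs]; trivial
  induction hf using Submodule.span_induction with
  | mem x hx =>
    have hx' : x ∈ s := hx
    rw [← Finset.mul_prod_erase s d hx', mul_comm (d x), mul_assoc]
    exact A.mul_mem (A.prod_mem (fun y _ => hdA y)) (hd x)
  | zero => simp [A.zero_mem]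
  | add x y _ _ hx hy => rw [mul_add]; exact A.add_mem hx hy
  | smul r x _ hx =>
    have : (∏ x ∈ s, d x) * (r • x) = (r : PowerSeries k) * ((∏ x ∈ s, d x) * x) := by
      rw [Algebra.smul_def]
      change _ * ((r : PowerSeries k) * x) = _
      ring
    rw [this]
    exact A.mul_mem r.2 hx

open PowerSeries in
/-- a closed subalgebra contains every power series of order at least the conductor of its value semigroup -/
lemma mem_of_le_order (k : Type u) [Field k] (A : Subalgebra k (PowerSeries k))
    (hcl : ∀ f : PowerSeries k, (∀ n : ℕ, ∃ g ∈ A, (n : ℕ∞) ≤ PowerSeries.order (f - g)) → f ∈ A)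
    (c : ℕ) (hc : ∀ n : ℕ, c ≤ n → ∃ f ∈ A, PowerSeries.order f = n)
    (h : PowerSeries k) (hh : (c : ℕ∞) ≤ PowerSeries.order h) : h ∈ A := by
  apply hcl
  intro N
  induction N with
  | zero => exact ⟨0, A.zero_mem, by simp⟩
  | succ N ih =>
    obtain ⟨g, hgA, hg⟩ := ih
    by_cases hN : N + 1 ≤ c
    · refine ⟨0, A.zero_mem, ?_⟩
      rw [sub_zero]
      exact le_trans (by exact_mod_cast hN) hh
    · have hcN : c ≤ N := by omega
      obtain ⟨aN, haA, haN⟩ := hc N hcN
      have ha0 : aN ≠ 0 := by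
        rw [← order_finite_iff_ne_zero, haN]; exact ENat.natCast_lt_top N
      have hcoeff : coeff N aN ≠ 0 := by
        have := coeff_order ha0
        rwa [haN, ENat.toNat_natCast] at this
      refine ⟨g + (coeff N (h - g) * (coeff N aN)⁻¹) • aN, A.add_mem hgA (A.smul_mem haA _), ?_⟩
      apply nat_le_order
      intro i hi
      rcases Nat.lt_succ_iff_lt_or_eq.mp hi with hlt | rfl
      · have h1 : coeff i (h - g) = 0 :=
          coeff_of_lt_order i (lt_of_lt_of_le (by exact_mod_cast hlt) hg)
        have h2 : coeff i aN = 0 := coeff_of_lt_order i (by rw [haN]; exact_mod_cast hlt)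
        have : h - (g + (coeff N (h - g) * (coeff N aN)⁻¹) • aN) =
            (h - g) - (coeff N (h - g) * (coeff N aN)⁻¹) • aN := by ring
        rw [this, map_sub, h1, coeff_smul, h2]
        simp
      · have : h - (g + (coeff i (h - g) * (coeff i aN)⁻¹) • aN) =
            (h - g) - (coeff i (h - g) * (coeff i aN)⁻¹) • aN := by ring
        rw [this, map_sub, coeff_smul, smul_eq_mul, mul_assoc, inv_mul_cancel₀ hcoeff, mul_one,
          sub_self]


lemma order_sub_ge {k : Type u} [Field k] (φ ψ : PowerSeries k) (N : ℕ) (hφ : (N : ℕ∞) ≤ order φ)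
    (hψ : (N : ℕ∞) ≤ order ψ) (hc : coeff N φ = coeff N ψ) : ((N + 1 : ℕ) : ℕ∞) ≤ order (φ - ψ) := by
  apply nat_le_order
  intro i hi
  rcases Nat.lt_succ_iff_lt_or_eq.mp hi with hlt | rfl
  · rw [map_sub, coeff_of_lt_order i (lt_of_lt_of_le (by exact_mod_cast hlt) hφ),
      coeff_of_lt_order i (lt_of_lt_of_le (by exact_mod_cast hlt) hψ), sub_zero]
  · rw [map_sub, hc, sub_self]

theorem main (k : Type u) [Field k] [IsAlgClosed k] (A : Subalgebra k (PowerSeries k)) (hA : Module.Finite ↥A (PowerSeries k)) (hcl : ∀ f : PowerSeries k, (∀ n : ℕ, ∃ g ∈ A, (n : ℕ∞) ≤ PowerSeries.order (f - g)) → f ∈ A) (hsing : A ≠ ⊤) (hbir : ∀ f : PowerSeries k, ∃ a ∈ A, a ≠ 0 ∧ a * f ∈ A) (Γ : Set ℕ) (hΓ : ∀ n : ℕ, n ∈ Γ ↔ ∃ f ∈ A, PowerSeries.order f = n) : Γᶜ.Finite ∧ Module.finrank k (PowerSeries k ⧸ Subalgebra.toSubmodule A) = Γᶜ.ncard := by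
  classical
  obtain ⟨a, haA, ha0, ha⟩ := exists_conductor_elt k A hA hbir
  obtain ⟨n₀, hn₀⟩ : ∃ n : ℕ, order a = n := ⟨(order a).toNat, (coe_toNat_order ha0).symm⟩
  have hΓbig : ∀ n, n₀ ≤ n → n ∈ Γ := fun n hn => (hΓ n).mpr ⟨a * X ^ (n - n₀), ha _, by
    rw [order_mul, order_X_pow, hn₀]
    have : n₀ + (n - n₀) = n := by omega
    exact_mod_cast this⟩
  have hbig : ∀ h : PowerSeries k, (n₀ : ℕ∞) ≤ order h → h ∈ A := fun h hh =>
    mem_of_le_order k A hcl n₀ (fun n hn => (hΓ n).mp (hΓbig n hn)) h hh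
  have hfin : Γᶜ.Finite := (Set.finite_lt_nat n₀).subset (fun n hn => by
    by_contra h
    exact hn (hΓbig n (not_lt.mp h)))
  refine ⟨hfin, ?_⟩
  haveI : Fintype ↥Γᶜ := hfin.fintype
  let b : ↥Γᶜ → PowerSeries k := fun g => X ^ (g : ℕ)
  have hcoeff : ∀ (l : ↥Γᶜ → k) (n : ℕ),
      coeff n (∑ g, l g • b g) = if h : n ∈ Γᶜ then l ⟨n, h⟩ else 0 := by
    intro l n
    simp only [map_sum, coeff_smul, b, coeff_X_pow, smul_eq_mul, mul_ite, mul_one, mul_zero]
    split_ifs with h
    · rw [Finset.sum_eq_single ⟨n, h⟩]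
      · simp
      · intro g _ hg
        rw [if_neg]
        intro e
        exact hg (Subtype.ext e.symm)
      · simp
    · apply Finset.sum_eq_zero
      intro g _
      rw [if_neg]
      intro e
      exact h (e ▸ g.2)
  have hLI : LinearIndependent k b := by
    rw [Fintype.linearIndependent_iff]
    intro l hl g
    have := hcoeff l g
    rw [hl, dif_pos g.2] at this
    simpa using this.symm
  set T := Submodule.span k (Set.range b) with hT
  have hdisj : Disjoint (Subalgebra.toSubmodule A) T := by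
    rw [Submodule.disjoint_def]
    intro x hxA hxT
    obtain ⟨l, rfl⟩ := (Submodule.mem_span_range_iff_exists_fun k).mp hxT
    by_contra hx0
    obtain ⟨n, hn⟩ : ∃ n : ℕ, order (∑ g, l g • b g) = n := ⟨_, (coe_toNat_order hx0).symm⟩
    have h1 : coeff n (∑ g, l g • b g) ≠ 0 := by
      have := coeff_order hx0
      rwa [hn, ENat.toNat_natCast] at this
    rw [hcoeff] at h1
    split_ifs at h1 with h
    · exact h ((hΓ n).mpr ⟨_, hxA, hn⟩)
    · exact h1 rfl
  have hcodisj : Codisjoint (Subalgebra.toSubmodule A) T := by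
    rw [codisjoint_iff, eq_top_iff]
    have claim : ∀ d : ℕ, ∀ h : PowerSeries k, ((n₀ - d : ℕ) : ℕ∞) ≤ order h →
        h ∈ Subalgebra.toSubmodule A ⊔ T := by
      intro d
      induction d with
      | zero => intro h hh; exact Submodule.mem_sup_left (hbig h hh)
      | succ d ih =>
        intro h hh
        set N := n₀ - (d+1) with hN
        have hle : ((n₀ - d : ℕ) : ℕ∞) ≤ ((N + 1 : ℕ) : ℕ∞) := by
          have : n₀ - d ≤ N + 1 := by omega
          exact_mod_cast this
        by_cases hNΓ : N ∈ Γ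
        · obtain ⟨aN, haNA, haN⟩ := (hΓ N).mp hNΓ
          have haN0 : aN ≠ 0 := by
            rw [← order_finite_iff_ne_zero, haN]; exact ENat.natCast_lt_top N
          have hcN : coeff N aN ≠ 0 := by
            have := coeff_order haN0
            rwa [haN, ENat.toNat_natCast] at this
          have h1 : h - (coeff N h * (coeff N aN)⁻¹) • aN ∈ Subalgebra.toSubmodule A ⊔ T := by
            apply ih
            refine le_trans hle (order_sub_ge _ _ N hh ?_ ?_)
            · exact le_trans haN.ge le_order_smul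
            · rw [coeff_smul, smul_eq_mul, mul_assoc, inv_mul_cancel₀ hcN, mul_one]
          have h2 : (coeff N h * (coeff N aN)⁻¹) • aN ∈ Subalgebra.toSubmodule A ⊔ T :=
            Submodule.mem_sup_left (A.smul_mem haNA _)
          have := Submodule.add_mem _ h1 h2
          simpa using this
        · have h1 : h - (coeff N h) • (X : PowerSeries k) ^ N ∈ Subalgebra.toSubmodule A ⊔ T := by
            apply ih
            refine le_trans hle (order_sub_ge _ _ N hh ?_ ?_)
            · exact le_trans (order_X_pow (R := k) N).ge le_order_smul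
            · rw [coeff_smul, coeff_X_pow, if_pos rfl, smul_eq_mul, mul_one]
          have h2 : (coeff N h) • (X : PowerSeries k) ^ N ∈ Subalgebra.toSubmodule A ⊔ T :=
            Submodule.mem_sup_right (Submodule.smul_mem _ _ (Submodule.subset_span ⟨⟨N, hNΓ⟩, rfl⟩))
          have := Submodule.add_mem _ h1 h2
          simpa using this
    intro h _
    exact claim n₀ h (by simp)
  have hcompl : IsCompl (Subalgebra.toSubmodule A) T := ⟨hdisj, hcodisj⟩
  have e := Submodule.quotientEquivOfIsCompl _ _ hcompl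
  rw [e.finrank_eq, hT, finrank_span_eq_card hLI, Set.ncard_eq_toFinset_card', Set.toFinset_card]

end helpers

/-- Let k be an algebraically closed field and A ≠ k[[t]] a k-subalgebra of k[[t]] that is closed in the
t-adic topology, over which k[[t]] is a finite module, and such that every power series is carried
into A by multiplication with some nonzero element of A (so k[[t]] lies in the fraction field of A
and is its normalisation, as for the complete local ring of a unibranch curve singularity), and let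
Γ ⊆ ℕ be the set of t-orders of the nonzero elements of A (its value semigroup). Then ℕ ∖ Γ is
finite and the k-dimension of k[[t]]/A equals the number of gaps of Γ. -/
theorem result (k : Type u) [Field k] [IsAlgClosed k] (A : Subalgebra k (PowerSeries k)) (hA : Module.Finite ↥A (PowerSeries k)) (hcl : ∀ f : PowerSeries k, (∀ n : ℕ, ∃ g ∈ A, (n : ℕ∞) ≤ PowerSeries.order (f - g)) → f ∈ A) (hsing : A ≠ ⊤) (hbir : ∀ f : PowerSeries k, ∃ a ∈ A, a ≠ 0 ∧ a * f ∈ A) (Γ : Set ℕ) (hΓ : ∀ n : ℕ, n ∈ Γ ↔ ∃ f ∈ A, PowerSeries.order f = n) : Γᶜ.Finite ∧ Module.finrank k (PowerSeries k ⧸ Subalgebra.toSubmodule A) = Γᶜ.ncard := by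
  exact main k A hA hcl hsing hbir Γ hΓ

end Groth.Agent.S15015
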