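import Groth.Statements.S15016
import Mathlib
-- import your own Groth.Agent.* helpers here

set_option autoImplicit false
universe u
open TFCurv

namespace Groth.Agent.S15016

open PowerSeries in
/-- a closed subalgebra contains every power series of order at least the conductor of its value semigroup -/
lemma mem_of_le_order (k : Type u) [Field k] (A : Subalgebra k (PowerSeries k))
    (hcl : ∀ f : PowerSeries k, (∀ n : ℕ, ∃ g ∈ A, (n : ℕ∞) ≤ PowerSeries.order (f - g)) → f ∈ A)
    (c : ℕ) (hc : ∀ n : ℕ, c ≤ n → ∃ f ∈ A, PowerSeries.order f = n)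
    (h : PowerSeries k) (hh : (c : ℕ∞) ≤ PowerSeries.order h) : h ∈ A := by
  apply hcl
  intro N
  induction N with
  | zero => exact ⟨0, A.zero_mem, by simp⟩
  | succ N ih =>
    obtain ⟨g, hgA, hg⟩ := ih
    by_cases hN : N + 1 ≤ c
    · refine ⟨0, A.zero_mem, ?_⟩
      rw [sub_zero]
      exact le_trans (by exact_mod_cast hN) hh
    · have hcN : c ≤ N := by omega
      obtain ⟨aN, haA, haN⟩ := hc N hcN
      have ha0 : aN ≠ 0 := by
        rw [← order_finite_iff_ne_zero, haN]; exact ENat.natCast_lt_top N
      have hcoeff : coeff N aN ≠ 0 := by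
        have := coeff_order ha0
        rwa [haN, ENat.toNat_natCast] at this
      refine ⟨g + (coeff N (h - g) * (coeff N aN)⁻¹) • aN, A.add_mem hgA (A.smul_mem haA _), ?_⟩
      apply nat_le_order
      intro i hi
      rcases Nat.lt_succ_iff_lt_or_eq.mp hi with hlt | rfl
      · have h1 : coeff i (h - g) = 0 :=
          coeff_of_lt_order i (lt_of_lt_of_le (by exact_mod_cast hlt) hg)
        have h2 : coeff i aN = 0 := coeff_of_lt_order i (by rw [haN]; exact_mod_cast hlt)
        have : h - (g + (coeff N (h - g) * (coeff N aN)⁻¹) • aN) =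
            (h - g) - (coeff N (h - g) * (coeff N aN)⁻¹) • aN := by ring
        rw [this, map_sub, h1, coeff_smul, h2]
        simp
      · have : h - (g + (coeff i (h - g) * (coeff i aN)⁻¹) • aN) =
            (h - g) - (coeff i (h - g) * (coeff i aN)⁻¹) • aN := by ring
        rw [this, map_sub, coeff_smul, smul_eq_mul, mul_assoc, inv_mul_cancel₀ hcoeff, mul_one,
          sub_self]

/-- Let k be an algebraically closed field and A ≠ k[[t]] a k-subalgebra of k[[t]] that is closed in the
t-adic topology and over which k[[t]] is a finite module (as for the complete local ring of a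
unibranch curve singularity inside its normalisation), and let Γ ⊆ ℕ be the set of t-orders of the
nonzero elements of A (its value semigroup); let c be the conductor of Γ, so that every n ≥ c lies
in Γ and c − 1 does not. Then for a power series f, f · k[[t]] ⊆ A holds exactly when the order of f
is at least c: the conductor of A in k[[t]] is t^c · k[[t]], of codimension c. -/
theorem result (k : Type u) [Field k] [IsAlgClosed k] (A : Subalgebra k (PowerSeries k)) (hA : Module.Finite ↥A (PowerSeries k)) (hcl : ∀ f : PowerSeries k, (∀ n : ℕ, ∃ g ∈ A, (n : ℕ∞) ≤ PowerSeries.order (f - g)) → f ∈ A) (hsing : A ≠ ⊤) (Γ : Set ℕ) (hΓ : ∀ n : ℕ, n ∈ Γ ↔ ∃ f ∈ A, PowerSeries.order f = n) (c : ℕ) (hc : ∀ n : ℕ, c ≤ n → n ∈ Γ) (hc0 : c ≠ 0) (hc1 : c - 1 ∉ Γ) (f : PowerSeries k) : (∀ g : PowerSeries k, g * f ∈ A) ↔ (c : ℕ∞) ≤ PowerSeries.order f := by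
  constructor
  · intro hf
    by_contra hlt
    rw [not_le] at hlt
    have hf0 : f ≠ 0 := by
      rw [← PowerSeries.order_finite_iff_ne_zero]
      exact lt_of_lt_of_le hlt le_top
    obtain ⟨n, hn⟩ : ∃ n : ℕ, PowerSeries.order f = n := by
      refine ⟨(PowerSeries.order f).toNat, (PowerSeries.coe_toNat_order hf0).symm⟩
    rw [hn] at hlt
    have hnc : n < c := by exact_mod_cast hlt
    apply hc1
    rw [hΓ]
    refine ⟨PowerSeries.X ^ (c - 1 - n) * f, hf _, ?_⟩
    rw [PowerSeries.order_mul, PowerSeries.order_X_pow, hn]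
    have : c - 1 - n + n = c - 1 := by omega
    exact_mod_cast this
  · intro hf g
    apply mem_of_le_order k A hcl c (fun n hn => (hΓ n).mp (hc n hn))
    rw [PowerSeries.order_mul]
    exact le_trans hf le_add_self

end Groth.Agent.S15016
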