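import Groth.Statements.S15017
import Mathlib
-- import your own Groth.Agent.* helpers here

set_option autoImplicit false
open TFCurv

namespace Groth.Agent.S15017

/-- Let Γ be a numerical semigroup (a submonoid of (ℕ, +) with finite complement), Γ ≠ ℕ, with conductor
c (every n ≥ c lies in Γ, c − 1 does not). If Γ is symmetric (for x < c, x is a gap exactly when c −
1 − x ∈ Γ) and has multiplicity greater than 2 (neither 1 nor 2 lies in Γ), then Γ is generated by
its elements smaller than c: every minimal generator of Γ is less than the conductor. -/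
theorem result (Γ : AddSubmonoid ℕ) (c : ℕ) (hc : ∀ n : ℕ, c ≤ n → n ∈ Γ) (hc0 : c ≠ 0) (hc1 : c - 1 ∉ Γ) (hsymm : ∀ x : ℕ, x < c → (x ∉ Γ ↔ c - 1 - x ∈ Γ)) (he : (1 : ℕ) ∉ Γ ∧ (2 : ℕ) ∉ Γ) : AddSubmonoid.closure {γ : ℕ | γ ∈ Γ ∧ γ < c} = Γ := by
  classical
  apply le_antisymm
  · exact AddSubmonoid.closure_le.mpr (fun γ hγ => hγ.1)
  -- multiplicity
  have hex : ∃ n, n ∈ Γ ∧ n ≠ 0 := ⟨c, hc c le_rfl, hc0⟩
  set e := Nat.find hex with he_def
  have heΓ : e ∈ Γ := (Nat.find_spec hex).1
  have he0 : e ≠ 0 := (Nat.find_spec hex).2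
  have hemin : ∀ γ, γ ∈ Γ → γ ≠ 0 → e ≤ γ := fun γ h1 h2 => Nat.find_min' hex ⟨h1, h2⟩
  have he3 : 3 ≤ e := by
    have h1 : e ≠ 1 := fun h => he.1 (h ▸ heΓ)
    have h2 : e ≠ 2 := fun h => he.2 (h ▸ heΓ)
    omega
  have hsmall : ∀ x, 0 < x → x < e → x ∉ Γ := by
    intro x hx0 hxe hx
    have := hemin x hx (by omega)
    omega
  have hec : e < c := by
    by_contra hle
    push_neg at hle
    have hce : e ≤ c := hemin c (hc c le_rfl) hc0
    have hcc : c = e := le_antisymm hle hce
    have h1 : (1 : ℕ) ∉ Γ ↔ c - 1 - 1 ∈ Γ := hsymm 1 (by omega)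
    have h2 : c - 1 - 1 ∈ Γ := h1.1 he.1
    exact hsmall (c - 1 - 1) (by omega) (by omega) h2
  intro n
  induction n using Nat.strong_induction_on with
  | _ n ih =>
    intro hn
    by_cases hnc : n < c
    · exact AddSubmonoid.subset_closure ⟨hn, hnc⟩
    push_neg at hnc
    have heG : e ∈ AddSubmonoid.closure {γ : ℕ | γ ∈ Γ ∧ γ < c} :=
      AddSubmonoid.subset_closure ⟨heΓ, hec⟩
    by_cases hbig : c + e ≤ n
    · have h1 : n - e ∈ Γ := hc _ (by omega)
      have h2 := ih (n - e) (by omega) h1
      have : n = (n - e) + e := by omega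
      rw [this]; exact AddSubmonoid.add_mem _ h2 heG
    push_neg at hbig
    by_cases hk : n < c - 1 + e
    · -- n - e is in Γ by symmetry
      have hlt : n - e < c := by omega
      have hs := hsymm (n - e) hlt
      have h1 : n - e ∈ Γ := by
        by_contra hcon
        have := hs.1 hcon
        exact hsmall (c - 1 - (n - e)) (by omega) (by omega) this
      have h2 := ih (n - e) (by omega) h1
      have : n = (n - e) + e := by omega
      rw [this]; exact AddSubmonoid.add_mem _ h2 heG
    · push_neg at hk
      have hn_eq : n = c - 1 + e := by omega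
      -- least element of Γ not divisible by e
      have hex2 : ∃ x, x ∈ Γ ∧ ¬ e ∣ x := by
        by_cases hdiv : e ∣ c
        · refine ⟨c + 1, hc _ (by omega), ?_⟩
          intro h
          have : e ∣ 1 := (Nat.dvd_add_right hdiv).mp h
          have := Nat.le_of_dvd (by omega) this
          omega
        · exact ⟨c, hc c le_rfl, hdiv⟩
      set a := Nat.find hex2 with ha_def
      have haΓ : a ∈ Γ := (Nat.find_spec hex2).1
      have hadiv : ¬ e ∣ a := (Nat.find_spec hex2).2
      have hamin : ∀ x, x ∈ Γ → ¬ e ∣ x → a ≤ x := fun x h1 h2 => Nat.find_min' hex2 ⟨h1, h2⟩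
      have ha0 : a ≠ 0 := by rintro h; rw [h] at hadiv; exact hadiv (dvd_zero e)
      have hae : e ≤ a := hemin a haΓ ha0
      have hae' : e < a := by
        rcases Nat.lt_or_ge e a with h | h
        · exact h
        · exfalso; have : a = e := le_antisymm h hae; rw [this] at hadiv; exact hadiv (dvd_refl e)
      have hac : a ≤ c + 1 := by
        obtain ⟨x, hx1, hx2⟩ : ∃ x, x ≤ c + 1 ∧ (x ∈ Γ ∧ ¬ e ∣ x) := by
          by_cases hdiv : e ∣ c
          · refine ⟨c + 1, le_rfl, hc _ (by omega), ?_⟩
            intro h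
            have : e ∣ 1 := (Nat.dvd_add_right hdiv).mp h
            have := Nat.le_of_dvd (by omega) this
            omega
          · exact ⟨c, by omega, hc c le_rfl, hdiv⟩
        exact le_trans (hamin x hx2.1 hx2.2) hx1
      have hae_not : a - e ∉ Γ := by
        intro hmem
        have hnd : ¬ e ∣ a - e := by
          intro hd
          apply hadiv
          have : a = (a - e) + e := by omega
          rw [this]; exact Dvd.dvd.add hd (dvd_refl e)
        have := hamin (a - e) hmem hnd
        omega
      have hlt : n - a < c := by omega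
      have hs := hsymm (n - a) hlt
      have h1 : n - a ∈ Γ := by
        by_contra hcon
        have h3 := hs.1 hcon
        have : c - 1 - (n - a) = a - e := by omega
        rw [this] at h3
        exact hae_not h3
      have h2 := ih (n - a) (by omega) h1
      have h3 := ih a (by omega) haΓ
      have : n = (n - a) + a := by omega
      rw [this]; exact AddSubmonoid.add_mem _ h2 h3

end Groth.Agent.S15017
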