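import Groth.Statements.S15018
-- import your own Groth.Agent.* helpers here

set_option autoImplicit false
open TFCurv

namespace Groth.Agent.S15018

/-- Let Γ be a numerical semigroup (a submonoid of (ℕ, +) with finite complement), Γ ≠ ℕ, with conductor
c (every n ≥ c lies in Γ, c − 1 does not). Then Γ is symmetric (for x < c, x is a gap exactly when c
− 1 − x ∈ Γ) if and only if there is exactly one gap n of Γ such that Γ ∪ {n} is again stable under
adding elements of Γ, i.e. n + γ ∈ Γ for every nonzero γ ∈ Γ. -/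
theorem result (Γ : AddSubmonoid ℕ) (c : ℕ) (hc : ∀ n : ℕ, c ≤ n → n ∈ Γ) (hc0 : c ≠ 0) (hc1 : c - 1 ∉ Γ) : (∀ x : ℕ, x < c → (x ∉ Γ ↔ c - 1 - x ∈ Γ)) ↔ ∃! n : ℕ, n ∉ Γ ∧ ∀ γ : ℕ, γ ∈ Γ → γ ≠ 0 → n + γ ∈ Γ := by
  have hF : c - 1 ∉ Γ ∧ ∀ γ : ℕ, γ ∈ Γ → γ ≠ 0 → c - 1 + γ ∈ Γ :=
    ⟨hc1, fun γ _ hγ0 => hc _ (by omega)⟩
  have hgap : ∀ n, n ∉ Γ → n < c := by
    intro n hn
    by_contra h
    push_neg at h
    exact hn (hc n h)
  constructor
  · intro hsymm
    refine ⟨c - 1, hF, ?_⟩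
    rintro n ⟨hn, hPF⟩
    have hlt := hgap n hn
    have h1 : c - 1 - n ∈ Γ := (hsymm n hlt).1 hn
    by_contra hne
    have h0 : c - 1 - n ≠ 0 := by omega
    have := hPF _ h1 h0
    have e : n + (c - 1 - n) = c - 1 := by omega
    rw [e] at this
    exact hc1 this
  · rintro ⟨f, ⟨hf, hfPF⟩, huniq⟩
    have hfc : f = c - 1 := (huniq (c - 1) hF).symm
    intro x hx
    constructor
    · intro hxg
      -- largest gap g with g - x ∈ Γ, x ≤ g
      classical
      have hfin : {g | g ∉ Γ ∧ x ≤ g ∧ g - x ∈ Γ}.Finite :=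
        (Set.finite_lt_nat c).subset (fun g hg => hgap g hg.1)
      obtain ⟨g, hg, hmax⟩ := Set.Finite.exists_maximal hfin ⟨x, hxg, le_refl x, by simp⟩
      have hgPF : g ∉ Γ ∧ ∀ γ : ℕ, γ ∈ Γ → γ ≠ 0 → g + γ ∈ Γ := by
        refine ⟨hg.1, fun γ hγ hγ0 => ?_⟩
        by_contra hcon
        have hmem : g + γ ∈ {g | g ∉ Γ ∧ x ≤ g ∧ g - x ∈ Γ} := by
          refine ⟨hcon, by have := hg.2.1; omega, ?_⟩
          have e : g + γ - x = (g - x) + γ := by have := hg.2.1; omega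
          rw [e]
          exact Γ.add_mem hg.2.2 hγ
        have := hmax hmem (by omega)
        omega
      have hgc : g = c - 1 := by
        rw [← hfc]; exact huniq g hgPF
      rw [← hgc]; exact hg.2.2
    · intro h1 hx2
      apply hc1
      have e : x + (c - 1 - x) = c - 1 := by omega
      rw [← e]
      exact Γ.add_mem hx2 h1

end Groth.Agent.S15018
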