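import Groth.Statements.S15019
import Mathlib
-- import your own Groth.Agent.* helpers here

set_option autoImplicit false
open TFCurv

namespace Groth.Agent.S15019

/-- Let Γ be a numerical semigroup (a submonoid of (ℕ, +) with finite complement), Γ ≠ ℕ, with conductor
c (every n ≥ c lies in Γ, c − 1 does not), let e be its multiplicity (the least nonzero element of
Γ), and let S ⊆ ℕ be a Γ-module in normal form: 0 ∈ S and γ + s ∈ S for all γ ∈ Γ, s ∈ S. Then the
set of gaps n of S with S ∪ {n} again a Γ-module (n + γ ∈ S for every nonzero γ ∈ Γ) has at most e −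
1 elements, and so does the set of nonzero s ∈ S with S ∖ {s} again a Γ-module (s − γ ∉ S for every
nonzero γ ∈ Γ with γ ≤ s). -/
theorem result (Γ : AddSubmonoid ℕ) (c : ℕ) (hc : ∀ n : ℕ, c ≤ n → n ∈ Γ) (hc0 : c ≠ 0) (hc1 : c - 1 ∉ Γ) (e : ℕ) (he : e ∈ Γ) (he0 : e ≠ 0) (hemin : ∀ γ : ℕ, γ ∈ Γ → γ ≠ 0 → e ≤ γ) (S : Set ℕ) (hS0 : (0 : ℕ) ∈ S) (hS : ∀ γ : ℕ, γ ∈ Γ → ∀ s : ℕ, s ∈ S → γ + s ∈ S) : {n : ℕ | n ∉ S ∧ ∀ γ : ℕ, γ ∈ Γ → γ ≠ 0 → n + γ ∈ S}.encard ≤ ((e - 1 : ℕ) : ℕ∞) ∧ {s : ℕ | s ∈ S ∧ s ≠ 0 ∧ ∀ γ : ℕ, γ ∈ Γ → γ ≠ 0 → γ ≤ s → s - γ ∉ S}.encard ≤ ((e - 1 : ℕ) : ℕ∞) := by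
  have hepos : 0 < e := Nat.pos_of_ne_zero he0
  -- multiples of e are in Γ
  have hmul : ∀ k : ℕ, k * e ∈ Γ := by
    intro k
    induction k with
    | zero => simp
    | succ k ih =>
      have : (k + 1) * e = k * e + e := by ring
      rw [this]; exact Γ.add_mem ih he
  have hmulS : ∀ k : ℕ, k * e ∈ S := fun k => by simpa using hS _ (hmul k) 0 hS0
  have hcard : (Set.Ioo 0 e : Set ℕ).encard = ((e - 1 : ℕ) : ℕ∞) := by
    rw [← Finset.coe_Ioo, Set.encard_coe_eq_coe_finsetCard, Nat.card_Ioo]; simp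
  -- key arithmetic fact
  have hdecomp : ∀ a b : ℕ, a < b → a % e = b % e → ∃ k : ℕ, k ≠ 0 ∧ b = a + k * e := by
    intro a b hab hmod
    have h1 : (b - a) % e = 0 := by
      have : b % e = (a + (b - a)) % e := by congr 1; omega
      exact Nat.sub_mod_eq_zero_of_mod_eq hmod.symm
    obtain ⟨k, hk⟩ := Nat.dvd_of_mod_eq_zero h1
    refine ⟨k, ?_, ?_⟩
    · rintro rfl; simp at hk; omega
    · have : b = a + (b - a) := by omega
      rw [this, hk]; ring
  constructor
  · rw [← hcard]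
    apply Set.encard_le_encard_of_injOn (f := fun n => n % e)
    · rintro n ⟨hn, hPF⟩
      refine ⟨?_, Nat.mod_lt _ hepos⟩
      show 0 < n % e
      by_contra h0
      have h0' : n % e = 0 := by omega
      obtain ⟨k, hk⟩ := Nat.dvd_of_mod_eq_zero h0'
      apply hn
      rw [hk, mul_comm]; exact hmulS k
    · rintro n ⟨hn, hPF⟩ n' ⟨hn', hPF'⟩ hmod
      simp only at hmod
      by_contra hne
      rcases Nat.lt_or_gt_of_ne hne with hlt | hlt
      · obtain ⟨k, hk0, hk⟩ := hdecomp n n' hlt hmod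
        apply hn'
        rw [hk]
        exact hPF _ (hmul k) (by positivity)
      · obtain ⟨k, hk0, hk⟩ := hdecomp n' n hlt hmod.symm
        apply hn
        rw [hk]
        exact hPF' _ (hmul k) (by positivity)
  · rw [← hcard]
    apply Set.encard_le_encard_of_injOn (f := fun n => n % e)
    · rintro s ⟨hs, hs0, hmin⟩
      refine ⟨?_, Nat.mod_lt _ hepos⟩
      show 0 < s % e
      by_contra h0
      have h0' : s % e = 0 := by omega
      obtain ⟨k, hk⟩ := Nat.dvd_of_mod_eq_zero h0'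
      have hk0 : k ≠ 0 := by rintro rfl; simp at hk; exact hs0 hk
      have hle : e ≤ s := by rw [hk]; exact Nat.le_mul_of_pos_right e (Nat.pos_of_ne_zero hk0)
      apply hmin e he he0 hle
      have : s - e = (k - 1) * e := by
        rw [hk, Nat.sub_mul, one_mul, mul_comm]
      rw [this]; exact hmulS _
    · rintro s ⟨hs, hs0, hmin⟩ s' ⟨hs', hs0', hmin'⟩ hmod
      simp only at hmod
      by_contra hne
      rcases Nat.lt_or_gt_of_ne hne with hlt | hlt
      · obtain ⟨k, hk0, hk⟩ := hdecomp s s' hlt hmod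
        apply hmin' (k * e) (hmul k) (by positivity) (by omega)
        have : s' - k * e = s := by omega
        rw [this]; exact hs
      · obtain ⟨k, hk0, hk⟩ := hdecomp s' s hlt hmod.symm
        apply hmin (k * e) (hmul k) (by positivity) (by omega)
        have : s - k * e = s' := by omega
        rw [this]; exact hs'

end Groth.Agent.S15019
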