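import Groth.Statements.S15022
import Groth.Agent.Lib.Helper15.PSCan3
import Groth.Agent.S15016

set_option autoImplicit false
universe u
open CategoryTheory
open TFCurv

namespace Groth.Agent.S15022

/-- Let k be an algebraically closed field and A ≠ k[[t]] a k-subalgebra of k[[t]] that is closed in the
t-adic topology and over which k[[t]] is a finite module (as for the complete local ring of a
unibranch curve singularity inside its normalisation), and let Γ ⊆ ℕ be the set of t-orders of the
nonzero elements of A (its value semigroup); let c be the conductor of Γ (every n ≥ c lies in Γ, c −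
1 does not) and suppose A is not Gorenstein. If w is an A-submodule of k[[t]] with 1 ∈ w whose
injective dimension as an A-module is at most one (a canonical ideal of A placed between A and
k[[t]]), then the value set of w is the dual of Γ: a natural number n is the t-order of some element
of w exactly when n ≥ c or c − 1 − n is a gap of Γ. (The published statement does not exclude the
Gorenstein case; this row assumes that A is not Gorenstein.) -/
theorem result (k : Type u) [Field k] [IsAlgClosed k] (A : Subalgebra k (PowerSeries k)) (hA : Module.Finite ↥A (PowerSeries k)) (hcl : ∀ f : PowerSeries k, (∀ n : ℕ, ∃ g ∈ A, (n : ℕ∞) ≤ PowerSeries.order (f - g)) → f ∈ A) (hsing : A ≠ ⊤) (Γ : Set ℕ) (hΓ : ∀ n : ℕ, n ∈ Γ ↔ ∃ f ∈ A, PowerSeries.order f = n) (c : ℕ) (hc : ∀ n : ℕ, c ≤ n → n ∈ Γ) (hc0 : c ≠ 0) (hc1 : c - 1 ∉ Γ) (hG : ¬ LocCoh.IsGorensteinLocalRing ↥A) (ω : Submodule ↥A (PowerSeries k)) (hω1 : (1 : PowerSeries k) ∈ ω) (hωfg : ω.FG) (hωinj : HasInjectiveDimensionLT (ModuleCat.of ↥A ↥ω) 2)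 (n : ℕ) : (∃ f ∈ ω, PowerSeries.order f = n) ↔ (c ≤ n ∨ c - 1 - n ∉ Γ) := by
  haveI := hA
  have hbig : ∀ h : PowerSeries k, (c : ℕ∞) ≤ PowerSeries.order h → h ∈ A :=
    Groth.Agent.S15016.mem_of_le_order k A hcl c (fun n hn => (hΓ n).mp (hc n hn))
  have hc1' : ∀ a ∈ A, PowerSeries.order a ≠ ((c - 1 : ℕ) : ℕ∞) :=
    fun a ha h => hc1 ((hΓ (c - 1)).mpr ⟨a, ha, h⟩)
  set M : Submodule ↥A (PowerSeries k) := Submodule.span ↥A {1} with hM
  have hM1 : (1 : PowerSeries k) ∈ M := Submodule.subset_span rfl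
  have hMfg : M.FG := Submodule.fg_span_singleton _
  have hMmem : ∀ m : PowerSeries k, m ∈ M ↔ m ∈ A := by
    intro m
    constructor
    · intro hm
      obtain ⟨a, rfl⟩ := Submodule.mem_span_singleton.1 hm
      have : a • (1 : PowerSeries k) = (a : PowerSeries k) := by
        change (a : PowerSeries k) * 1 = a
        rw [mul_one]
      rw [this]
      exact a.2
    · intro hm
      exact Groth.Agent.Lib.helper15.PSCan.mem_of_one_mem A M hM1 m hm
  have key := Groth.Agent.Lib.helper15.PSCan.main A c hc0 hbig hc1' ω hω1 hωfg hωinj M hMfg hM1 n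
  have e1 : (∃ f ∈ ω, PowerSeries.order f = n) ↔
      (∃ u : PowerSeries k, PowerSeries.order u = n ∧ ∀ m ∈ M, u * m ∈ ω) := by
    constructor
    · rintro ⟨f, hf, hfo⟩
      refine ⟨f, hfo, fun m hm => ?_⟩
      have hmA : m ∈ A := (hMmem m).1 hm
      have : f * m = (⟨m, hmA⟩ : ↥A) • f := by
        change f * m = m * f
        rw [mul_comm]
      rw [this]
      exact ω.smul_mem _ hf
    · rintro ⟨u, huo, hu⟩
      refine ⟨u, ?_, huo⟩
      have := hu 1 hM1
      rwa [mul_one] at this
  have e2 : (c - 1 - n ∉ Γ) ↔ ¬ ∃ m ∈ M, PowerSeries.order m = ((c - 1 - n : ℕ) : ℕ∞) := by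
    rw [hΓ]
    constructor
    · rintro h ⟨m, hm, hmo⟩
      exact h ⟨m, (hMmem m).1 hm, hmo⟩
    · rintro h ⟨m, hm, hmo⟩
      exact h ⟨m, (hMmem m).2 hm, hmo⟩
  rw [e1, e2]
  exact key

end Groth.Agent.S15022
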