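import Groth.Statements.S15024
import Groth.Agent.Lib.Helper7.TorAPI4
import Groth.Agent.Lib.Helper7.TorsionAux

set_option autoImplicit false
universe u
open CategoryTheory
open TFCurv

namespace Groth.Agent.S15024


open Groth.Agent.Lib.helper7

/-- Let O be a one-dimensional Noetherian local domain with algebraically closed residue field whose
integral closure O~ in its fraction field K is a finite O-module, M a finitely generated
torsion-free O-module and f : O^n → M an injective O-linear map whose cokernel T has finite length.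
Then Tor_1^O(O~, M) and Tor_1^O(O~, T) are isomorphic (existence of an isomorphism only), and O~ ⊗_O
f : O~ ⊗ O^n → O~ ⊗ M is injective, so that 0 → O~^n → O~ ⊗ M → O~ ⊗ T → 0 is exact. -/
theorem result (O : Type u) [CommRing O] [IsDomain O] [IsNoetherianRing O] [IsLocalRing O] (hdim : ringKrullDim O = 1) [IsAlgClosed (IsLocalRing.ResidueField O)] (K : Type u) [Field K] [Algebra O K] [IsFractionRing O K] (hfin : Module.Finite O ↥(integralClosure O K)) (M : Type u) [AddCommGroup M] [Module O M] [Module.Finite O M] [NoZeroSMulDivisors O M] (n : ℕ) (f : (Fin n → O) →ₗ[O] M) (hf : Function.Injective f) (hT : IsFiniteLength O (M ⧸ LinearMap.range f)) : Nonempty (((Tor (ModuleCat.{u} O) 1).obj (ModuleCat.of O ↥(integralClosure O K))).obj (ModuleCat.of O M) ≅ ((Tor (ModuleCat.{u} O) 1).obj (ModuleCat.of O ↥(integralClosure O K))).obj (ModuleCat.of O (M ⧸ LinearMap.range f))) ∧ Function.Injective (LinearMap.lTensor ↥(integralClosure O K) f) := by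
  classical
  -- abbreviations
  obtain ⟨E, hE⟩ : ∃ E : Subalgebra O K, E = integralClosure O K := ⟨_, rfl⟩
  rw [← hE]
  have hOfield : ¬ IsField O := by
    intro h
    have := ringKrullDim_eq_zero_of_isField h
    rw [hdim] at this
    exact one_ne_zero this
  haveI : NoZeroSMulDivisors O E := by
    refine ⟨fun {c x} h => ?_⟩
    have h' : algebraMap O K c * (x : K) = 0 := by
      have := congrArg (Subtype.val : E → K) h
      simpa [Algebra.smul_def] using this
    rcases mul_eq_zero.1 h' with h1 | h1
    · left
      exact (IsFractionRing.injective O K) (by rw [h1, map_zero])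
    · right
      exact Subtype.ext h1
  obtain ⟨a, ha0, ha⟩ := TorsionAux.exists_ne_zero_smul_eq_zero_of_isFiniteLength hOfield hT
  obtain ⟨g, hgf, hfg⟩ := TorsionAux.exists_quasi_inverse f hf a ha
  -- injectivity of E ⊗ f
  have hinj : Function.Injective (LinearMap.lTensor E f) := by
    have hcomp : ∀ x, LinearMap.lTensor E g (LinearMap.lTensor E f x) = a • x := by
      intro x
      rw [← LinearMap.comp_apply, ← LinearMap.lTensor_comp]
      have : g ∘ₗ f = a • LinearMap.id := LinearMap.ext hgf
      rw [this, LinearMap.lTensor_smul, LinearMap.lTensor_id]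
      rfl
    intro x y hxy
    apply TorsionAux.smul_tensor_injective E (Fin n → O) ha0
    change a • x = a • y
    rw [← hcomp, ← hcomp, hxy]
  refine ⟨?_, hinj⟩
  -- the short exact sequence
  have hex : Function.Exact f (LinearMap.range f).mkQ := LinearMap.exact_map_mkQ_range f
  have hS := ModSES.mkSES_shortExact f (LinearMap.range f).mkQ hex hf
    (Submodule.mkQ_surjective _)
  haveI : Projective (ModSES.mkSES f (LinearMap.range f).mkQ hex).X₁ := by
    change Projective (ModuleCat.of O (Fin n → O))
    exact ModuleCat.projective_of_free (Pi.basisFun O (Fin n))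
  have hepi : Epi ((TorAPI.T 1 (ModuleCat.of O E)).map (ModSES.mkSES f (LinearMap.range f).mkQ hex).g) :=
    (TorAPI.epi_T_one_map_g_iff (ModuleCat.of O E) hS).2 hinj
  have hmono : Mono ((TorAPI.T 1 (ModuleCat.of O E)).map
      (ModSES.mkSES f (LinearMap.range f).mkQ hex).g) :=
    (TorAPI.T_exact₂ (ModuleCat.of O E) hS 1).mono_g
      ((TorAPI.isZero_T_projective (ModuleCat.of O E) _ 0).eq_of_src _ _)
  have hiso : IsIso ((TorAPI.T 1 (ModuleCat.of O E)).map
      (ModSES.mkSES f (LinearMap.range f).mkQ hex).g) := isIso_of_mono_of_epi _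
  exact ⟨@asIso _ _ _ _ _ hiso⟩

end Groth.Agent.S15024
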