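import Groth.Statements.S15025
import Groth.Agent.Lib.Helper7.TorAPI4
import Groth.Agent.Lib.Helper7.TorsionAux

set_option autoImplicit false
universe u
open CategoryTheory
open TFCurv

namespace Groth.Agent.S15025


open Groth.Agent.Lib.helper7

/-- Let O be a one-dimensional Noetherian local domain with algebraically closed residue field whose
integral closure O~ in its fraction field K is a finite O-module, M a finitely generated
torsion-free O-module and g : M → O^n an injective O-linear map whose cokernel T' has finite length.
Then the torsion submodule of O~ ⊗_O M is O-linearly isomorphic to Tor_1^O(O~, T') (existence of an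
isomorphism only). -/
theorem result (O : Type u) [CommRing O] [IsDomain O] [IsNoetherianRing O] [IsLocalRing O] (hdim : ringKrullDim O = 1) [IsAlgClosed (IsLocalRing.ResidueField O)] (K : Type u) [Field K] [Algebra O K] [IsFractionRing O K] (hfin : Module.Finite O ↥(integralClosure O K)) (M : Type u) [AddCommGroup M] [Module O M] [Module.Finite O M] [NoZeroSMulDivisors O M] (n : ℕ) (g : M →ₗ[O] (Fin n → O)) (hg : Function.Injective g) (hT : IsFiniteLength O ((Fin n → O) ⧸ LinearMap.range g)) : Nonempty (↥(Submodule.torsion O (TensorProduct O ↥(integralClosure O K) M)) ≃ₗ[O] ↑(((Tor (ModuleCat.{u} O) 1).obj (ModuleCat.of O ↥(integralClosure O K))).obj (ModuleCat.of O ((Fin n → O) ⧸ LinearMap.range g)))) := by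
  classical
  obtain ⟨E, hE⟩ : ∃ E : Subalgebra O K, E = integralClosure O K := ⟨_, rfl⟩
  rw [← hE]
  have hOfield : ¬ IsField O := by
    intro h
    have := ringKrullDim_eq_zero_of_isField h
    rw [hdim] at this
    exact one_ne_zero this
  haveI : NoZeroSMulDivisors O E := by
    refine ⟨fun {c x} h => ?_⟩
    have h' : algebraMap O K c * (x : K) = 0 := by
      have := congrArg (Subtype.val : E → K) h
      simpa [Algebra.smul_def] using this
    rcases mul_eq_zero.1 h' with h1 | h1
    · left
      exact (IsFractionRing.injective O K) (by rw [h1, map_zero])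
    · right
      exact Subtype.ext h1
  obtain ⟨a, ha0, ha⟩ := TorsionAux.exists_ne_zero_smul_eq_zero_of_isFiniteLength hOfield hT
  obtain ⟨h, hhg, hgh⟩ := TorsionAux.exists_quasi_inverse g hg a ha
  -- kernel of E ⊗ g is the torsion submodule
  have hker : LinearMap.ker (LinearMap.lTensor E g) =
      Submodule.torsion O (TensorProduct O E M) := by
    ext x
    rw [LinearMap.mem_ker, Submodule.mem_torsion_iff]
    constructor
    · intro hx
      refine ⟨⟨a, mem_nonZeroDivisors_of_ne_zero ha0⟩, ?_⟩
      have hcomp : LinearMap.lTensor E h (LinearMap.lTensor E g x) = a • x := by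
        rw [← LinearMap.comp_apply, ← LinearMap.lTensor_comp]
        have : h ∘ₗ g = a • LinearMap.id := LinearMap.ext hhg
        rw [this, LinearMap.lTensor_smul, LinearMap.lTensor_id]
        rfl
      change a • x = 0
      rw [← hcomp, hx, map_zero]
    · rintro ⟨b, hb⟩
      have hb0 : (b : O) ≠ 0 := nonZeroDivisors.ne_zero b.2
      apply TorsionAux.smul_tensor_injective E (Fin n → O) hb0
      change (b : O) • (LinearMap.lTensor E g x) = (b : O) • 0
      rw [← map_smul, smul_zero]
      have : (b : O) • x = 0 := hb
      rw [this, map_zero]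
  -- the short exact sequence
  have hex : Function.Exact g (LinearMap.range g).mkQ := LinearMap.exact_map_mkQ_range g
  have hS := ModSES.mkSES_shortExact g (LinearMap.range g).mkQ hex hg
    (Submodule.mkQ_surjective _)
  haveI : Projective (ModSES.mkSES g (LinearMap.range g).mkQ hex).X₂ := by
    change Projective (ModuleCat.of O (Fin n → O))
    exact ModuleCat.projective_of_free (Pi.basisFun O (Fin n))
  obtain ⟨d, hd, hrange⟩ := TorAPI.exists_linearMap_tor_one (ModuleCat.of O E) hS
    (TorAPI.isZero_T_projective (ModuleCat.of O E) _ 0)
  have hrange' : LinearMap.range d = Submodule.torsion O (TensorProduct O E M) := by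
    rw [← hker]
    exact hrange
  exact ⟨(LinearEquiv.ofEq _ _ hrange').symm.trans (LinearEquiv.ofInjective d hd).symm⟩

end Groth.Agent.S15025
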