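import Groth.Statements.S15030
import Groth.Agent.Lib.Helper15.TwoGenExt4
import Groth.Agent.Lib.Helper15.CubExt5

set_option autoImplicit false
set_option linter.style.haveILetI false
universe u
open CategoryTheory
open TFCurv

namespace Groth.Agent.S15030

open Groth.Agent.Lib.helper15.TwoGenExt

/-- the semigroup `⟨2, 2δ+1⟩` -/
def Γe (δ s : ℕ) : Prop := s % 2 = 0 ∨ 2 * δ + 1 ≤ s

theorem mem_closure_iff (δ s : ℕ) :
    s ∈ AddSubmonoid.closure ({2, 2 * δ + 1} : Set ℕ) ↔ Γe δ s := by
  constructor
  · intro hs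
    induction hs using AddSubmonoid.closure_induction with
    | mem x hx =>
      rcases hx with rfl | rfl
      · left
        rfl
      · right
        exact le_rfl
    | zero =>
      left
      rfl
    | add x y _ _ hx hy =>
      unfold Γe at *
      omega
  · intro hs
    have h2 : (2 : ℕ) ∈ AddSubmonoid.closure ({2, 2 * δ + 1} : Set ℕ) :=
      AddSubmonoid.subset_closure (Or.inl rfl)
    have h3 : (2 * δ + 1 : ℕ) ∈ AddSubmonoid.closure ({2, 2 * δ + 1} : Set ℕ) :=
      AddSubmonoid.subset_closure (Or.inr rfl)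
    by_cases hev : s % 2 = 0
    · have : s = (s / 2) • 2 := by
        rw [smul_eq_mul]
        omega
      rw [this]
      exact AddSubmonoid.nsmul_mem _ h2 _
    · have hge : 2 * δ + 1 ≤ s := by
        rcases hs with h1 | h1
        · exact absurd h1 hev
        · exact h1
      have : s = (2 * δ + 1) + ((s - (2 * δ + 1)) / 2) • 2 := by
        rw [smul_eq_mul]
        omega
      rw [this]
      exact add_mem h3 (AddSubmonoid.nsmul_mem _ h2 _)

theorem cardZ (δ i j : ℕ) (hi : i ≤ δ) (hj : j ≤ δ) :
    {s | ¬ ZP (PP (Γe δ) (2 * δ + 1 - 2 * j)) (2 * δ) (2 * δ + 1 - 2 * i) s}.ncard =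
      δ + (2 * δ - max i j) := by
  apply ncard_parity
  intro s
  simp only [ZP, PP, Γe]
  rcases le_total i j with hij | hij
  · rw [max_eq_right hij]
    omega
  · rw [max_eq_left hij]
    omega

theorem cardY (δ i j : ℕ) (hi : i ≤ δ) (hj : j ≤ δ) :
    {s | ¬ YP (Γe δ) (PP (Γe δ) (2 * δ + 1 - 2 * j)) (2 * δ) (2 * δ + 1 - 2 * i) s}.ncard =
      (δ - min i j) + (2 * δ - i - j) := by
  apply ncard_parity
  intro s
  simp only [YP, PP, Γe]
  constructor
  · intro hs
    by_contra hcon
    apply hs
    intro γ hγ hγm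
    rcases le_total i j with hij | hij
    · rw [min_eq_left hij] at hcon
      omega
    · rw [min_eq_right hij] at hcon
      omega
  · intro hs hall
    have h1 := hall (2 * i) (by omega) (by omega)
    have h2 := hall (2 * δ + 1) (by omega) (by omega)
    rcases le_total i j with hij | hij
    · rw [min_eq_left hij] at hs
      omega
    · rw [min_eq_right hij] at hs
      omega

theorem final_arith (δ i j E' : ℕ) (hi : i ≤ δ) (hj : j ≤ δ)
    (hE : δ + (2 * δ - max i j) = (δ - min i j) + (2 * δ - i - j) + E') : E' = 2 * min i j := by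
  rcases le_total i j with hij | hij
  · rw [max_eq_right hij, min_eq_left hij] at hE
    rw [min_eq_left hij]
    omega
  · rw [max_eq_left hij, min_eq_right hij] at hE
    rw [min_eq_right hij]
    omega

/-- Let k be an algebraically closed field of characteristic zero, δ ≥ 1, and A ⊂ k[[t]] the complete
local ring of the A_{2δ} singularity, i.e. the k-subalgebra of power series all of whose exponents
lie in the semigroup generated by 2 and 2δ + 1 (so A = k[[t², t^{2δ+1}]]). For 0 ≤ i ≤ δ let M_i ⊂
k[[t]] be the A-submodule generated by 1 and t^{2δ+1−2i} (these represent all rank-one torsion-free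
A-modules). Then for 0 ≤ i, j ≤ δ the A-module Ext¹_A(M_i, M_j) has length 2·min(i, j) (length over
A equals k-dimension here). (The published statement also covers the two-branch case n = 2δ − 1 with
the same value; only the one-branch case is stated.) -/
theorem result (k : Type u) [Field k] [IsAlgClosed k] [CharZero k] (δ : ℕ) (hδ : 1 ≤ δ) (A : Subalgebra k (PowerSeries k)) (hmono : ∀ f : PowerSeries k, f ∈ A ↔ ∀ n : ℕ, PowerSeries.coeff n f ≠ 0 → n ∈ AddSubmonoid.closure ({2, 2 * δ + 1} : Set ℕ)) (i j : ℕ) (hi : i ≤ δ) (hj : j ≤ δ) : Module.length ↥A (Abelian.Ext (ModuleCat.of ↥A ↥(Submodule.span ↥A ({1, (PowerSeries.X : PowerSeries k) ^ (2 * δ + 1 - 2 * i)} : Set (PowerSeries k)))) (ModuleCat.of ↥A ↥(Submodule.span ↥A ({1, (PowerSeries.X : PowerSeries k) ^ (2 * δ + 1 - 2 * j)} : Set (PowerSeries k)))) 1) = ((2 * min i j : ℕ) : ℕ∞) := by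
  have h : IsMono A (Γe δ) := fun f => by
    rw [hmono]
    simp only [mem_closure_iff]
  have hcΓ : ∀ s, 2 * δ ≤ s → Γe δ s := fun s hs => by
    unfold Γe
    omega
  haveI : Module.Finite ↥A (PowerSeries k) := finite_of_isMono h (2 * δ) (by omega) hcΓ
  haveI : IsLocalRing ↥A := Groth.Agent.Lib.helper15.PSCan.isLocalRing A
  rw [span_pair_eq h, span_pair_eq h]
  have hLF := length_ext_mono h (2 * δ) hcΓ (2 * δ + 1 - 2 * i)
    (PP (Γe δ) (2 * δ + 1 - 2 * j)) (hPP h _) (2 * δ) (fun s hs => Or.inl (hcΓ s hs))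
  rw [cardZ δ i j hi hj, cardY δ i j hi hj] at hLF
  obtain ⟨E', hE, hE'⟩ := Groth.Agent.Lib.helper15.CubExt.enat_aux hLF
  rw [hE]
  have hE'' : δ + (2 * δ - max i j) = (δ - min i j) + (2 * δ - i - j) + E' := by
    exact_mod_cast hE'
  rw [final_arith δ i j E' hi hj hE'']

end Groth.Agent.S15030
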