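import Groth.Statements.S15031
import Groth.Agent.Lib.Helper15.CubExt5

set_option autoImplicit false
set_option linter.style.haveILetI false
universe u
open CategoryTheory
open TFCurv

namespace Groth.Agent.S15031

open Groth.Agent.Lib.helper15.CubExt

/-- the support condition of the module `M_i` -/
def Pc (i n m : ℕ) : Prop := m ≤ i ∨ n ≤ m

theorem cX_card (i n : ℕ) (hi : i + 2 ≤ n) :
    {m | ¬ (n ≤ m ∧ (Pc i n) (m - n))}.ncard = n + (n - 1 - i) := by
  have := ncard_two_Ico (fun m => n ≤ m ∧ (Pc i n) (m - n)) 0 n (n + i + 1) (2 * n) (by omega)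
    (fun m => by
      simp only [Pc]
      omega)
  rw [this]
  omega

theorem cN_card (i n : ℕ) (hi : i + 2 ≤ n) : {m | ¬ (∀ j, (Pc i n) (m + j))}.ncard = n := by
  have := ncard_two_Ico (fun m => ∀ j, (Pc i n) (m + j)) 0 n n n le_rfl (fun m => by
    simp only [Pc]
    constructor
    · intro hm
      by_contra hc
      apply hm
      intro j
      right
      omega
    · rintro (⟨-, hm⟩ | ⟨h1, h2⟩)
      · intro hall
        by_cases hmi : m ≤ i
        · have := hall (i + 1 - m)
          omega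
        · have := hall 0
          omega
      · omega)
  rw [this]
  omega

theorem cE_card (i n : ℕ) (hi : i + 2 ≤ n) :
    {s | ¬ ((Pc i n) s ∧ ∀ l : Fin i, (Pc i n) (s + ((l.succ : Fin (i + 1)) : ℕ)))}.ncard =
      n - 1 := by
  have := ncard_two_Ico (fun s => (Pc i n) s ∧ ∀ l : Fin i, (Pc i n) (s + ((l.succ : Fin (i + 1)) : ℕ)))
    1 n n n le_rfl (fun s => by
    simp only [Pc, Fin.val_succ]
    constructor
    · intro hs
      by_contra hc
      apply hs
      have hs' : s = 0 ∨ n ≤ s := by omega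
      rcases hs' with rfl | hs'
      · exact ⟨Or.inl (Nat.zero_le _), fun l => Or.inl (by have := l.2; omega)⟩
      · exact ⟨Or.inr hs', fun l => Or.inr (by omega)⟩
    · rintro (⟨hs1, hs2⟩ | ⟨h1, h2⟩)
      · rintro ⟨hPs, hall⟩
        rcases hPs with hsi | hsn
        · have := hall ⟨i - s, by omega⟩
          simp only at this
          omega
        · omega
      · omega)
  rw [this]
  omega

theorem cM_card (i n : ℕ) (hi : i + 2 ≤ n) : {m | ¬ (Pc i n) m}.ncard = n - 1 - i := by
  have := ncard_two_Ico (Pc i n) (i + 1) n n n le_rfl (fun m => by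
    simp only [Pc]
    omega)
  rw [this]
  omega

theorem final_arith (i n E' L' T' : ℕ) (hi : i + 2 ≤ n) (hL : n - 1 = n - 1 - i + L')
    (hT : i * (n + (n - 1 - i)) = i * n + T') (hE : T' = E' + L') : E' = i * (n - 2 - i) := by
  obtain ⟨t, rfl⟩ : ∃ t, n = i + 2 + t := ⟨n - 2 - i, by omega⟩
  have e1 : i + 2 + t - 2 - i = t := by omega
  have e2 : i + 2 + t - 1 - i = t + 1 := by omega
  rw [e1]
  rw [e2] at hT hL
  have hL3 : L' = i := by omega
  subst hL3
  nlinarith [hT, hE]

/-- Let k be an algebraically closed field, n ≥ 2, and A = R_n ⊂ k[[t]] the monomial ring of the cubical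
semigroup ⟨n, n+1, …, 2n−1⟩, i.e. the k-subalgebra of power series with no terms of degree 1, …,
n−1. For 0 ≤ i ≤ n − 2 let M_i ⊂ k[[t]] be the A-submodule generated by 1, t, …, t^i (the monomial
module whose value set is Γ_n together with 1, …, i). Then the A-module Ext¹_A(M_i, M_i) has length
i·(n − 2 − i); as the A-endomorphisms of M_i are the scalars, this number is the invariant χ₁(M_i) =
dim Ext¹(M_i, M_i) − dim(End(M_i)/A). (The published statement asserts the value for every module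
with this value set; only the monomial module is stated here.) -/
theorem result (k : Type u) [Field k] [IsAlgClosed k] (n : ℕ) (hn : 2 ≤ n) (A : Subalgebra k (PowerSeries k)) (hmono : ∀ f : PowerSeries k, f ∈ A ↔ ∀ m : ℕ, PowerSeries.coeff m f ≠ 0 → (m = 0 ∨ n ≤ m)) (i : ℕ) (hi : i + 2 ≤ n) : Module.length ↥A (Abelian.Ext (ModuleCat.of ↥A ↥(Submodule.span ↥A ((fun a : ℕ => (PowerSeries.X : PowerSeries k) ^ a) '' Set.Iic i))) (ModuleCat.of ↥A ↥(Submodule.span ↥A ((fun a : ℕ => (PowerSeries.X : PowerSeries k) ^ a) '' Set.Iic i))) 1) = ((i * (n - 2 - i) : ℕ) : ℕ∞) := by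
  classical
  have h : IsCub A n := hmono
  haveI : Module.Finite ↥A (PowerSeries k) := finite_of_isCub h (by omega)
  haveI : IsLocalRing ↥A := Groth.Agent.Lib.helper15.PSCan.isLocalRing A
  -- the monomial description of the module
  have hP : ∀ m γ, Pc i n m → n ≤ γ → Pc i n (m + γ) := fun m γ _ hγ => Or.inr (by omega)
  have hM : Submodule.span ↥A ((fun a : ℕ => (PowerSeries.X : PowerSeries k) ^ a) '' Set.Iic i) =
      suppMod h (Pc i n) hP := by
    apply le_antisymm
    · rw [Submodule.span_le]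
      rintro _ ⟨a, ha, rfl⟩
      exact X_pow_mem_suppMod h (Pc i n) hP (Or.inl ha)
    · intro f hf
      obtain ⟨a, ha⟩ := exists_coeffs h (fun j : Fin (i + 1) => (j : ℕ)) Fin.val_injective
        (fun j => by have := j.2; omega) rfl f (fun m hm hne => by
          rcases hf m hne with h1 | h1
          · exact ⟨⟨m, by omega⟩, rfl⟩
          · omega)
      rw [ha]
      refine Submodule.sum_mem _ (fun j _ => ?_)
      have : ((a j : ↥A) : PowerSeries k) * PowerSeries.X ^ (j : ℕ) =
          a j • (PowerSeries.X : PowerSeries k) ^ (j : ℕ) := rfl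
      rw [this]
      exact Submodule.smul_mem _ _ (Submodule.subset_span ⟨j, by
        have := j.2
        change (j : ℕ) ≤ i
        omega, rfl⟩)
  rw [hM]
  -- the data
  obtain ⟨ι, hιdef⟩ : ∃ ι : ↥(suppMod h (Pc i n) hP) →ₗ[↥A] PowerSeries k,
      ι = (suppMod h (Pc i n) hP).subtype := ⟨_, rfl⟩
  obtain ⟨v, hv⟩ : ∃ v : Fin (i + 1) → ↥(suppMod h (Pc i n) hP),
      ∀ j, ((v j : ↥(suppMod h (Pc i n) hP)) : PowerSeries k) = PowerSeries.X ^ (j : ℕ) :=
    ⟨fun j => ⟨PowerSeries.X ^ (j : ℕ),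
      X_pow_mem_suppMod h (Pc i n) hP (Or.inl (by have := j.2; omega))⟩, fun j => rfl⟩
  have hι : Function.Injective ι := by
    rw [hιdef]
    exact Submodule.injective_subtype _
  have hvd : ∀ j, ι (v j) = PowerSeries.X ^ (j : ℕ) := by
    intro j
    rw [hιdef]
    exact hv j
  have h1 : ι (v 0) = 1 := by
    rw [hvd]
    simp
  have h3 : ∀ α : Fin (i + 1) → k,
      (PowerSeries.X : PowerSeries k) ^ n ∣ ∑ j, PowerSeries.C (α j) * ι (v j) → α = 0 := by
    intro α hα
    simp only [hvd] at hα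
    exact indep_monomials (fun j : Fin (i + 1) => (j : ℕ)) Fin.val_injective
      (fun j => by have := j.2; omega) α hα
  have h2 : Submodule.span ↥A (Set.range v) = ⊤ :=
    span_range_eq_top h (Pc i n) hP (fun j : Fin (i + 1) => (j : ℕ)) Fin.val_injective
      (fun j => by have := j.2; omega) rfl (fun m hm hPm => by
        rcases hPm with h1 | h1
        · exact ⟨⟨m, by omega⟩, rfl⟩
        · omega) v hv
  have hr : LinearMap.range ι = suppMod h (Pc i n) hP := by
    rw [hιdef]
    exact Submodule.range_subtype _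
  have f1 := @length_formula k _ A n _ _ _ ι i v h hι h1
  have f2 := f1 h3
  have formula := f2 h2
  have eX := XM_eq (Mm := ↥(suppMod h (Pc i n) hP)) h (Pc i n) hP ι hr
  have eN := Nn_eq (Mm := ↥(suppMod h (Pc i n) hP)) h (Pc i n) hP ι hr
  have eE := EE_eq (Mm := ↥(suppMod h (Pc i n) hP)) h (Pc i n) hP ι hr v (fun j : Fin (i + 1) => (j : ℕ)) hvd
  rw [eX, eN, eE] at formula
  -- the lengths
  obtain ⟨-, lX⟩ := length_quot_suppMod h (fun m => n ≤ m ∧ (Pc i n) (m - n))
    (fun m γ hm hγ => ⟨by omega, by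
      have : m + γ - n = (m - n) + γ := by omega
      rw [this]
      exact hP _ _ hm.2 hγ⟩) (2 * n) (by omega)
    (fun m hm => ⟨by omega, Or.inr (by omega)⟩)
  obtain ⟨-, lN⟩ := length_quot_suppMod h (fun m => ∀ j, (Pc i n) (m + j))
    (fun m γ hm _ j => by
      rw [add_assoc]
      exact hm _) n le_rfl (fun m hm j => Or.inr (by omega))
  obtain ⟨-, lE⟩ := length_quot_suppMod h
    (fun s => (Pc i n) s ∧ ∀ l : Fin i, (Pc i n) (s + ((l.succ : Fin (i + 1)) : ℕ)))
    (fun m γ hm hγ => ⟨hP _ _ hm.1 hγ, fun l => by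
        have : m + γ + ((l.succ : Fin (i + 1)) : ℕ) = (m + ((l.succ : Fin (i + 1)) : ℕ)) + γ := by
          omega
        rw [this]
        exact hP _ _ (hm.2 l) hγ⟩) n le_rfl
    (fun m hm => ⟨Or.inr hm, fun l => Or.inr (by omega)⟩)
  obtain ⟨-, lM⟩ := length_quot_suppMod h (Pc i n) hP n le_rfl (fun m hm => Or.inr hm)
  have cX := cX_card i n hi
  have cN := cN_card i n hi
  have cE := cE_card i n hi
  have cM := cM_card i n hi
  have hEle : suppMod h (fun s => (Pc i n) s ∧ ∀ l : Fin i, (Pc i n) (s + ((l.succ : Fin (i + 1)) : ℕ)))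
      (fun m γ hm hγ => ⟨hP _ _ hm.1 hγ, fun l => by
        have : m + γ + ((l.succ : Fin (i + 1)) : ℕ) = (m + ((l.succ : Fin (i + 1)) : ℕ)) + γ := by
          omega
        rw [this]
        exact hP _ _ (hm.2 l) hγ⟩) ≤ LinearMap.range ι := by
    rw [hr]
    intro f hf m hm
    exact (hf m hm).1
  have lQ := length_quot_comap (Mm := ↥(suppMod h (Pc i n) hP)) ι _ hEle
  rw [hr, lE, lM, cE, cM] at lQ
  rw [lX, lN, cX, cN] at formula
  obtain ⟨L', hL', hL''⟩ := enat_aux lQ
  rw [hL', nsmul_eq_mul, nsmul_eq_mul] at formula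
  have formula' : ((i * (n + (n - 1 - i)) : ℕ) : ℕ∞) = ((i * n : ℕ) : ℕ∞) +
      (Module.length ↥A (Abelian.Ext (ModuleCat.of ↥A ↥(suppMod h (Pc i n) hP))
        (ModuleCat.of ↥A ↥(suppMod h (Pc i n) hP)) 1) + (L' : ℕ∞)) := by
    push_cast
    exact formula
  obtain ⟨T', hT', hT''⟩ := enat_aux formula'
  obtain ⟨E', hE', hE''⟩ : ∃ E' : ℕ, Module.length ↥A (Abelian.Ext (ModuleCat.of ↥A ↥(suppMod h (Pc i n) hP))
        (ModuleCat.of ↥A ↥(suppMod h (Pc i n) hP)) 1) = E' ∧ T' = E' + L' := by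
    have hne : Module.length ↥A (Abelian.Ext (ModuleCat.of ↥A ↥(suppMod h (Pc i n) hP))
        (ModuleCat.of ↥A ↥(suppMod h (Pc i n) hP)) 1) ≠ ⊤ := by
      intro htop
      rw [htop, top_add] at hT'
      exact ENat.top_ne_natCast _ hT'
    lift Module.length ↥A (Abelian.Ext (ModuleCat.of ↥A ↥(suppMod h (Pc i n) hP))
        (ModuleCat.of ↥A ↥(suppMod h (Pc i n) hP)) 1) to ℕ using hne with E'
    exact ⟨E', rfl, by exact_mod_cast hT'.symm⟩
  rw [hE']
  congr 1
  exact final_arith i n E' L' T' hi hL'' hT'' hE''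

end Groth.Agent.S15031
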