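import Groth.Statements.S15032
import Groth.Agent.Lib.Helper15.CubExt5

set_option autoImplicit false
set_option linter.style.haveILetI false
universe u
open CategoryTheory
open TFCurv

namespace Groth.Agent.S15032

open Groth.Agent.Lib.helper15.CubExt

theorem length_quot_eq_zero_of_eq_top {R M : Type*} [Ring R] [AddCommGroup M] [Module R M]
    (p : Submodule R M) (hp : p = ⊤) : Module.length R (M ⧸ p) = 0 := by
  rw [Module.length_eq_zero_iff, Submodule.Quotient.subsingleton_iff]
  exact hp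

theorem cX_card (n : ℕ) : {m | ¬ (n ≤ m ∧ True)}.ncard = n := by
  have := ncard_two_Ico (fun m => n ≤ m ∧ True) 0 n n n le_rfl (fun m => by
    simp only [and_true]
    omega)
  rw [this]
  omega

theorem cA_card (n : ℕ) (hn : 2 ≤ n) : {m | ¬ (m = 0 ∨ n ≤ m)}.ncard = n - 1 := by
  have := ncard_two_Ico (fun m => m = 0 ∨ n ≤ m) 1 n n n le_rfl (fun m => by omega)
  rw [this]
  omega

section endo

variable {k : Type u} [Field k] {A : Subalgebra k (PowerSeries k)} {n : ℕ}

/-- evaluation at `1` identifies the `A`-linear endomorphisms of `k[[t]]` with `k[[t]]` -/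
noncomputable def evOne (h : IsCub A n) :
    (PowerSeries k →ₗ[↥A] PowerSeries k) ≃ₗ[↥A] PowerSeries k where
  toFun ψ := ψ 1
  map_add' ψ ψ' := rfl
  map_smul' a ψ := rfl
  invFun b := LinearMap.mulRight ↥A b
  left_inv ψ := by
    apply LinearMap.ext
    intro x
    rw [LinearMap.mulRight_apply]
    exact (hom_eq_mul h ψ x).symm
  right_inv b := by
    change (LinearMap.mulRight ↥A b) 1 = b
    rw [LinearMap.mulRight_apply, one_mul]

theorem map_range_lsmul (h : IsCub A n) :
    (LinearMap.range (Algebra.lsmul ↥A ↥A (PowerSeries k) :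
      ↥A →ₐ[↥A] Module.End ↥A (PowerSeries k)).toLinearMap).map (evOne h).toLinearMap =
      suppMod h (fun m => m = 0 ∨ n ≤ m) (fun m γ _ hγ => Or.inr (by omega)) := by
  ext f
  rw [Submodule.mem_map, mem_suppMod]
  constructor
  · rintro ⟨_, ⟨a, rfl⟩, rfl⟩
    have : (evOne h).toLinearMap ((Algebra.lsmul ↥A ↥A (PowerSeries k) :
      ↥A →ₐ[↥A] Module.End ↥A (PowerSeries k)).toLinearMap a) = (a : PowerSeries k) := by
      change a • (1 : PowerSeries k) = (a : PowerSeries k)
      rw [Groth.Agent.Lib.helper15.CubExt.smul_eq_mul, mul_one]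
    rw [this]
    exact (h a).mp a.2
  · intro hf
    have hfA : f ∈ A := (h f).mpr hf
    refine ⟨_, ⟨⟨f, hfA⟩, rfl⟩, ?_⟩
    change (⟨f, hfA⟩ : ↥A) • (1 : PowerSeries k) = f
    rw [Groth.Agent.Lib.helper15.CubExt.smul_eq_mul, mul_one]

theorem length_end_quot (h : IsCub A n) (hn : 2 ≤ n) :
    Module.length ↥A ((PowerSeries k →ₗ[↥A] PowerSeries k) ⧸
      LinearMap.range (Algebra.lsmul ↥A ↥A (PowerSeries k) :
        ↥A →ₐ[↥A] Module.End ↥A (PowerSeries k)).toLinearMap) = ((n - 1 : ℕ) : ℕ∞) := by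
  haveI : Module.Finite ↥A (PowerSeries k) := finite_of_isCub h (by omega)
  haveI : IsLocalRing ↥A := Groth.Agent.Lib.helper15.PSCan.isLocalRing A
  rw [(Submodule.Quotient.equiv _ _ (evOne h) (map_range_lsmul h)).length_eq]
  obtain ⟨-, lA⟩ := length_quot_suppMod h (fun m => m = 0 ∨ n ≤ m)
    (fun m γ _ hγ => Or.inr (by omega)) n le_rfl (fun m hm => Or.inr hm)
  rw [lA, cA_card n hn]

/-- the generators `1, t, …, t^e` of `k[[t]]` -/
noncomputable def vB (k : Type u) [Field k] (e : ℕ) : Fin (e + 1) → PowerSeries k :=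
  fun j => PowerSeries.X ^ (j : ℕ)

theorem formula_B (e : ℕ) (h : IsCub A (e + 1)) :
    e • Module.length ↥A (PowerSeries k ⧸ XM (n := e + 1) (LinearMap.id : PowerSeries k →ₗ[↥A] PowerSeries k)) =
      e • Module.length ↥A (PowerSeries k ⧸ Nn (LinearMap.id : PowerSeries k →ₗ[↥A] PowerSeries k)) +
        (Module.length ↥A (Abelian.Ext.{u} (ModuleCat.of ↥A (PowerSeries k))
          (ModuleCat.of ↥A (PowerSeries k)) 1) +
          Module.length ↥A (PowerSeries k ⧸ EE (LinearMap.id : PowerSeries k →ₗ[↥A] PowerSeries k)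
            (vB k e))) := by
  classical
  have hι : Function.Injective (LinearMap.id : PowerSeries k →ₗ[↥A] PowerSeries k) :=
    Function.injective_id
  have hvd : ∀ j, (LinearMap.id : PowerSeries k →ₗ[↥A] PowerSeries k) (vB k e j) =
      PowerSeries.X ^ (j : ℕ) := fun j => rfl
  have h1 : (LinearMap.id : PowerSeries k →ₗ[↥A] PowerSeries k) (vB k e 0) = 1 := by
    rw [hvd]
    simp
  have h3 : ∀ α : Fin (e + 1) → k,
      (PowerSeries.X : PowerSeries k) ^ (e + 1) ∣ ∑ j, PowerSeries.C (α j) *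
        (LinearMap.id : PowerSeries k →ₗ[↥A] PowerSeries k) (vB k e j) → α = 0 := by
    intro α hα
    simp only [hvd] at hα
    exact indep_monomials (fun j : Fin (e + 1) => (j : ℕ)) Fin.val_injective (fun j => j.2) α hα
  have h2 : Submodule.span ↥A (Set.range (vB k e)) = ⊤ := by
    rw [_root_.eq_top_iff]
    rintro f -
    obtain ⟨a, ha⟩ := exists_coeffs h (fun j : Fin (e + 1) => (j : ℕ)) Fin.val_injective
      (fun j => j.2) rfl f (fun m hm _ => ⟨⟨m, hm⟩, rfl⟩)
    rw [ha]
    refine Submodule.sum_mem _ (fun j _ => ?_)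
    have : ((a j : ↥A) : PowerSeries k) * PowerSeries.X ^ (j : ℕ) = a j • vB k e j := rfl
    rw [this]
    exact Submodule.smul_mem _ _ (Submodule.subset_span ⟨j, rfl⟩)
  have f1 := @length_formula k _ A (e + 1) _ _ _ (LinearMap.id : PowerSeries k →ₗ[↥A] PowerSeries k)
    e (vB k e) h hι h1
  have f2 := f1 h3
  exact f2 h2

theorem length_ext_self (h : IsCub A n) (hn : 2 ≤ n) :
    Module.length ↥A (Abelian.Ext.{u} (ModuleCat.of ↥A (PowerSeries k))
      (ModuleCat.of ↥A (PowerSeries k)) 1) = (((n - 1) * n : ℕ) : ℕ∞) := by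
  classical
  haveI : Module.Finite ↥A (PowerSeries k) := finite_of_isCub h (by omega)
  haveI : IsLocalRing ↥A := Groth.Agent.Lib.helper15.PSCan.isLocalRing A
  obtain ⟨e, rfl⟩ : ∃ e, n = e + 1 := ⟨n - 1, by omega⟩
  have formula := formula_B e h
  have hr : LinearMap.range (LinearMap.id : PowerSeries k →ₗ[↥A] PowerSeries k) =
      suppMod h (fun _ => True) (fun _ _ _ _ => trivial) := by
    rw [LinearMap.range_id, eq_comm, _root_.eq_top_iff]
    intro f _ m _
    trivial
  have eX := XM_eq (Mm := PowerSeries k) h (fun _ => True) (fun _ _ _ _ => trivial)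
    (LinearMap.id : PowerSeries k →ₗ[↥A] PowerSeries k) hr
  have eN : Nn (LinearMap.id : PowerSeries k →ₗ[↥A] PowerSeries k) = ⊤ := by
    rw [_root_.eq_top_iff]
    intro θ _ b
    rw [LinearMap.range_id]
    trivial
  have eE : EE (LinearMap.id : PowerSeries k →ₗ[↥A] PowerSeries k) (vB k e) = ⊤ := by
    rw [_root_.eq_top_iff]
    rintro m₀ - l
    change _ ∈ LinearMap.range (LinearMap.id : PowerSeries k →ₗ[↥A] PowerSeries k)
    rw [LinearMap.range_id]
    trivial
  have l0 := length_quot_eq_zero_of_eq_top (R := ↥A) (M := PowerSeries k) _ eE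
  have l1 := length_quot_eq_zero_of_eq_top (R := ↥A) (M := PowerSeries k) _ eN
  obtain ⟨-, lX⟩ := length_quot_suppMod h (fun m => e + 1 ≤ m ∧ True)
    (fun m γ hm hγ => ⟨by omega, trivial⟩) (e + 1) le_rfl (fun m hm => ⟨hm, trivial⟩)
  rw [eX, l0, l1, lX, cX_card, add_zero, smul_zero, zero_add, nsmul_eq_mul] at formula
  rw [← formula]
  push_cast
  simp

end endo


/-- Let k be an algebraically closed field, n ≥ 2, and A = R_n ⊂ k[[t]] the monomial ring of the cubical
semigroup ⟨n, n+1, …, 2n−1⟩, i.e. the k-subalgebra of power series with no terms of degree 1, …,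
n−1. For the normalisation R~ = k[[t]] viewed as an A-module, χ₁(R~) = (n − 1)², where χ₁(M) = dim_k
Ext¹_A(M, M) − dim_k(End_A(M)/A): the length of the A-module Ext¹_A(k[[t]], k[[t]]) equals (n − 1)²
plus the length of the A-linear endomorphisms of k[[t]] modulo multiplications by elements of A. -/
theorem result (k : Type u) [Field k] [IsAlgClosed k] (n : ℕ) (hn : 2 ≤ n) (A : Subalgebra k (PowerSeries k)) (hmono : ∀ f : PowerSeries k, f ∈ A ↔ ∀ m : ℕ, PowerSeries.coeff m f ≠ 0 → (m = 0 ∨ n ≤ m)) : Module.length ↥A (Abelian.Ext (ModuleCat.of ↥A (PowerSeries k)) (ModuleCat.of ↥A (PowerSeries k)) 1) = (((n - 1) ^ 2 : ℕ) : ℕ∞) + Module.length ↥A ((PowerSeries k →ₗ[↥A] PowerSeries k) ⧸ LinearMap.range (Algebra.lsmul ↥A ↥A (PowerSeries k) : ↥A →ₐ[↥A] Module.End ↥A (PowerSeries k)).toLinearMap) := by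
  have h : IsCub A n := hmono
  rw [length_ext_self h hn, length_end_quot h hn]
  obtain ⟨e, rfl⟩ : ∃ e, n = e + 1 := ⟨n - 1, by omega⟩
  simp only [Nat.add_sub_cancel]
  norm_cast
  ring

end Groth.Agent.S15032
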