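import Groth.Statements.S15033
import Groth.Agent.Lib.Helper15.CubExt5

set_option autoImplicit false
set_option linter.style.haveILetI false
universe u
open CategoryTheory
open TFCurv

namespace Groth.Agent.S15033

open Groth.Agent.Lib.helper15.CubExt

theorem length_quot_eq_zero_of_eq_top {R M : Type*} [Ring R] [AddCommGroup M] [Module R M]
    (p : Submodule R M) (hp : p = ⊤) : Module.length R (M ⧸ p) = 0 := by
  rw [Module.length_eq_zero_iff, Submodule.Quotient.subsingleton_iff]
  exact hp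

/-- the support condition of the overring `R_{n-i}` -/
def Pc (i n m : ℕ) : Prop := m = 0 ∨ n - i ≤ m

/-- the exponents of the generators -/
def dd (i n : ℕ) (j : Fin (i + 1)) : ℕ := if (j : ℕ) = 0 then 0 else n - i - 1 + j

theorem dd_injective (i n : ℕ) (hi : i + 2 ≤ n) : Function.Injective (dd i n) := by
  intro j j' hjj
  apply Fin.ext
  unfold dd at hjj
  split_ifs at hjj with h1 h2 h2 <;> omega

theorem dd_lt (i n : ℕ) (hi : i + 2 ≤ n) (j : Fin (i + 1)) : dd i n j < n := by
  unfold dd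
  have := j.2
  split_ifs <;> omega

theorem dd_zero (i n : ℕ) : dd i n 0 = 0 := by
  unfold dd
  simp

theorem dd_succ (i n : ℕ) (hi : i + 2 ≤ n) (l : Fin i) : dd i n l.succ = n - i + l := by
  unfold dd
  have := l.2
  rw [if_neg (by simp)]
  simp only [Fin.val_succ]
  omega

theorem Pc_dd (i n : ℕ) (hi : i + 2 ≤ n) (j : Fin (i + 1)) : Pc i n (dd i n j) := by
  unfold Pc dd
  have := j.2
  split_ifs <;> omega

theorem exists_dd (i n : ℕ) (hi : i + 2 ≤ n) (m : ℕ) (hm : m < n) (hPm : Pc i n m) :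
    ∃ j, dd i n j = m := by
  rcases hPm with rfl | h1
  · exact ⟨0, dd_zero i n⟩
  · refine ⟨⟨m - (n - i - 1), by omega⟩, ?_⟩
    unfold dd
    simp only
    rw [if_neg (by omega)]
    omega

theorem cX_card (i n : ℕ) (hi : i + 2 ≤ n) :
    {m | ¬ (n ≤ m ∧ (Pc i n) (m - n))}.ncard = n + (n - i - 1) := by
  have := ncard_two_Ico (fun m => n ≤ m ∧ (Pc i n) (m - n)) 0 n (n + 1) (2 * n - i) (by omega)
    (fun m => by
      simp only [Pc]
      omega)
  rw [this]
  omega

theorem cN_card (i n : ℕ) (hi : i + 2 ≤ n) : {m | ¬ (∀ j, (Pc i n) (m + j))}.ncard = n - i := by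
  have := ncard_two_Ico (fun m => ∀ j, (Pc i n) (m + j)) 0 (n - i) (n - i) (n - i) le_rfl
    (fun m => by
    simp only [Pc]
    constructor
    · intro hm
      by_contra hc
      apply hm
      intro j
      right
      omega
    · rintro (⟨-, hm⟩ | ⟨h1, h2⟩)
      · intro hall
        by_cases hm0 : m = 0
        · have := hall 1
          omega
        · have := hall 0
          omega
      · omega)
  rw [this]
  omega

theorem final_arith (i n E' : ℕ) (hi : i + 2 ≤ n)
    (hT : i * (n + (n - i - 1)) = i * (n - i) + E') : E' = i * (n - 1) := by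
  obtain ⟨t, rfl⟩ : ∃ t, n = i + 2 + t := ⟨n - 2 - i, by omega⟩
  have e1 : i + 2 + t - i - 1 = t + 1 := by omega
  have e2 : i + 2 + t - i = t + 2 := by omega
  have e3 : i + 2 + t - 1 = i + 1 + t := by omega
  rw [e3]
  rw [e1, e2] at hT
  nlinarith [hT]

/-- Let k be an algebraically closed field, n ≥ 2, and A = R_n ⊂ k[[t]] the monomial ring of the cubical
semigroup ⟨n, n+1, …, 2n−1⟩, i.e. the k-subalgebra of power series with no terms of degree 1, …,
n−1. For 0 ≤ i < n − 1 let R_{n−i} ⊂ k[[t]] be the A-submodule generated by 1, t^{n−i}, t^{n−i+1},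
…, t^{n−1}, i.e. the overring of A consisting of the power series with no terms of degree 1, …, n −
i − 1. Then the A-module Ext¹_A(R_{n−i}, R_{n−i}) has length i·(n − 1). Since the A-endomorphisms of
R_{n−i} are the multiplications by elements of R_{n−i}, of colength i over A, this is the published
value χ₁(R_{n−i}) = i·(n − 2) of χ₁(M) = dim Ext¹(M, M) − dim(End(M)/A). -/
theorem result (k : Type u) [Field k] [IsAlgClosed k] (n : ℕ) (hn : 2 ≤ n) (A : Subalgebra k (PowerSeries k)) (hmono : ∀ f : PowerSeries k, f ∈ A ↔ ∀ m : ℕ, PowerSeries.coeff m f ≠ 0 → (m = 0 ∨ n ≤ m)) (i : ℕ) (hi : i + 2 ≤ n) : Module.length ↥A (Abelian.Ext (ModuleCat.of ↥A ↥(Submodule.span ↥A ((fun a : ℕ => (PowerSeries.X : PowerSeries k) ^ a) '' ({0} ∪ Set.Icc (n - i) (n - 1))))) (ModuleCat.of ↥A ↥(Submodule.span ↥A ((fun a : ℕ => (PowerSeries.X : PowerSeries k) ^ a) '' ({0} ∪ Set.Icc (n - i) (n - 1))))) 1) = ((i * (n - 1) : ℕ) : ℕ∞) := by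
  classical
  have h : IsCub A n := hmono
  haveI : Module.Finite ↥A (PowerSeries k) := finite_of_isCub h (by omega)
  haveI : IsLocalRing ↥A := Groth.Agent.Lib.helper15.PSCan.isLocalRing A
  -- the monomial description of the module
  have hP : ∀ m γ, Pc i n m → n ≤ γ → Pc i n (m + γ) := fun m γ _ hγ => Or.inr (by omega)
  have hM : Submodule.span ↥A ((fun a : ℕ => (PowerSeries.X : PowerSeries k) ^ a) ''
      ({0} ∪ Set.Icc (n - i) (n - 1))) = suppMod h (Pc i n) hP := by
    apply le_antisymm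
    · rw [Submodule.span_le]
      rintro _ ⟨a, ha, rfl⟩
      refine X_pow_mem_suppMod h (Pc i n) hP ?_
      rcases ha with ha | ha
      · exact Or.inl ha
      · exact Or.inr ha.1
    · intro f hf
      obtain ⟨a, ha⟩ := exists_coeffs h (dd i n) (dd_injective i n hi) (dd_lt i n hi)
        (dd_zero i n) f (fun m hm hne => exists_dd i n hi m hm (hf m hne))
      rw [ha]
      refine Submodule.sum_mem _ (fun j _ => ?_)
      have : ((a j : ↥A) : PowerSeries k) * PowerSeries.X ^ (dd i n j) =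
          a j • (PowerSeries.X : PowerSeries k) ^ (dd i n j) := rfl
      rw [this]
      refine Submodule.smul_mem _ _ (Submodule.subset_span ⟨dd i n j, ?_, rfl⟩)
      have h1 := Pc_dd i n hi j
      have h2 := dd_lt i n hi j
      rcases h1 with h1 | h1
      · exact Or.inl h1
      · exact Or.inr ⟨h1, by omega⟩
  rw [hM]
  -- the data
  obtain ⟨ι, hιdef⟩ : ∃ ι : ↥(suppMod h (Pc i n) hP) →ₗ[↥A] PowerSeries k,
      ι = (suppMod h (Pc i n) hP).subtype := ⟨_, rfl⟩
  obtain ⟨v, hv⟩ : ∃ v : Fin (i + 1) → ↥(suppMod h (Pc i n) hP),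
      ∀ j, ((v j : ↥(suppMod h (Pc i n) hP)) : PowerSeries k) = PowerSeries.X ^ (dd i n j) :=
    ⟨fun j => ⟨PowerSeries.X ^ (dd i n j),
      X_pow_mem_suppMod h (Pc i n) hP (Pc_dd i n hi j)⟩, fun j => rfl⟩
  have hι : Function.Injective ι := by
    rw [hιdef]
    exact Submodule.injective_subtype _
  have hvd : ∀ j, ι (v j) = PowerSeries.X ^ (dd i n j) := by
    intro j
    rw [hιdef]
    exact hv j
  have h1 : ι (v 0) = 1 := by
    rw [hvd, dd_zero]
    simp
  have h3 : ∀ α : Fin (i + 1) → k,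
      (PowerSeries.X : PowerSeries k) ^ n ∣ ∑ j, PowerSeries.C (α j) * ι (v j) → α = 0 := by
    intro α hα
    simp only [hvd] at hα
    exact indep_monomials (dd i n) (dd_injective i n hi) (dd_lt i n hi) α hα
  have h2 : Submodule.span ↥A (Set.range v) = ⊤ :=
    span_range_eq_top h (Pc i n) hP (dd i n) (dd_injective i n hi) (dd_lt i n hi) (dd_zero i n)
      (exists_dd i n hi) v hv
  have hr : LinearMap.range ι = suppMod h (Pc i n) hP := by
    rw [hιdef]
    exact Submodule.range_subtype _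
  have f1 := @length_formula k _ A n _ _ _ ι i v h hι h1
  have f2 := f1 h3
  have formula := f2 h2
  have eX := XM_eq (Mm := ↥(suppMod h (Pc i n) hP)) h (Pc i n) hP ι hr
  have eN := Nn_eq (Mm := ↥(suppMod h (Pc i n) hP)) h (Pc i n) hP ι hr
  have eE : EE ι v = ⊤ := by
    rw [_root_.eq_top_iff]
    rintro m₀ - l
    change ι (v l.succ) * ι m₀ ∈ LinearMap.range ι
    rw [hr, hvd, dd_succ i n hi]
    intro m hm
    rw [PowerSeries.coeff_X_pow_mul'] at hm
    by_cases hdm : n - i + (l : ℕ) ≤ m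
    · exact Or.inr (by omega)
    · rw [if_neg hdm] at hm
      exact absurd rfl hm
  rw [eX, eN] at formula
  -- the lengths
  obtain ⟨-, lX⟩ := length_quot_suppMod h (fun m => n ≤ m ∧ (Pc i n) (m - n))
    (fun m γ hm hγ => ⟨by omega, by
      have : m + γ - n = (m - n) + γ := by omega
      rw [this]
      exact hP _ _ hm.2 hγ⟩) (2 * n) (by omega)
    (fun m hm => ⟨by omega, Or.inr (by omega)⟩)
  obtain ⟨-, lN⟩ := length_quot_suppMod h (fun m => ∀ j, (Pc i n) (m + j))
    (fun m γ hm _ j => by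
      rw [add_assoc]
      exact hm _) n le_rfl (fun m hm j => Or.inr (by omega))
  have cX := cX_card i n hi
  have cN := cN_card i n hi
  have l0 := length_quot_eq_zero_of_eq_top (R := ↥A) (M := ↥(suppMod h (Pc i n) hP)) (EE ι v) eE
  rw [lX, lN, cX, cN, l0, add_zero, nsmul_eq_mul, nsmul_eq_mul] at formula
  have formula' : ((i * (n + (n - i - 1)) : ℕ) : ℕ∞) = ((i * (n - i) : ℕ) : ℕ∞) +
      Module.length ↥A (Abelian.Ext (ModuleCat.of ↥A ↥(suppMod h (Pc i n) hP))
        (ModuleCat.of ↥A ↥(suppMod h (Pc i n) hP)) 1) := by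
    push_cast
    exact formula
  obtain ⟨E', hE', hE''⟩ := enat_aux formula'
  rw [hE']
  congr 1
  exact final_arith i n E' hi hE''

end Groth.Agent.S15033
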