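import Groth.Statements.S15035
import Groth.Agent.Lib.Helper15.LatDual
import Groth.Agent.Lib.Helper15.CanDual4
import Groth.Agent.Lib.Helper19.Refl3
import Groth.Agent.S15009

set_option autoImplicit false
set_option linter.style.haveILetI false
open Groth.Agent.Lib.helper15.LatDual
universe u
open TFCurv

namespace Groth.Agent.S15035

/-- Let O be a one-dimensional Gorenstein local domain with algebraically closed residue field whose
integral closure O~ in its fraction field K is a finite O-module, and C ⊆ O the conductor of O in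
O~. Then every finitely generated torsion-free O-module of rank n is isomorphic to an O-submodule
M'' of K^n with C^n ⊆ M'' ⊆ O^n. (For a general O the published statement places M'' between (O~*)^n
and ω^n for the canonical ideal ω; only the Gorenstein case ω = O, O~* = C is stated.) -/
theorem result (O : Type u) [CommRing O] [IsDomain O] [LocCoh.IsGorensteinLocalRing O] (hdim : ringKrullDim O = 1) [IsAlgClosed (IsLocalRing.ResidueField O)] (K : Type u) [Field K] [Algebra O K] [IsFractionRing O K] (hfin : Module.Finite O ↥(integralClosure O K)) (M : Type u) [AddCommGroup M] [Module O M] [Module.Finite O M] [NoZeroSMulDivisors O M] (n : ℕ) (hn : Module.finrank K (TensorProduct O K M) = n) : ∃ M'' : Submodule O (Fin n → K), Submodule.pi Set.univ (fun _ : Fin n => (((1 : Submodule O K).colon (Subalgebra.toSubmodule (integralClosure O K))) • (1 : Submodule O K))) ≤ M'' ∧ M'' ≤ Submodule.pi Set.univ (fun _ : Fin n => (1 : Submodule O K)) ∧ Nonempty (M ≃ₗ[O] ↥M'') := by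
  classical
  haveI : IsNoetherianRing O := inferInstance
  haveI : IsLocalRing O := inferInstance
  set OT : Submodule O K := Subalgebra.toSubmodule (integralClosure O K) with hOT
  set C : Ideal O := (1 : Submodule O K).colon OT with hC
  have hCmem : ∀ c ∈ C, ∀ x ∈ OT, c • x ∈ (1 : Submodule O K) := by
    intro c hc x hx
    rw [hC, Submodule.mem_colon] at hc
    exact hc x hx
  -- a nonzero element of the conductor
  have hOTfg : OT.FG := Module.Finite.iff_fg.mp hfin
  obtain ⟨a, ha0, ha⟩ := Groth.Agent.Lib.helper15.CanDual.exists_smul_le (O := O) (K := K)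
    hOTfg (Groth.Agent.Lib.helper15.CanDual.one_ne_bot (O := O) (K := K))
  have haC : a ∈ C := by
    rw [hC, Submodule.mem_colon]
    exact ha
  -- Step 1: a lattice between `O^n` and `Õ^n`
  obtain ⟨L, hL1, hL2, ⟨e0⟩⟩ := Groth.Agent.S15009.result O hdim K hfin M n hn
  haveI : Module.Finite O ↥L := Module.Finite.equiv e0
  have hinj : CategoryTheory.HasInjectiveDimensionLE (ModuleCat.of O O) 1 :=
    Groth.Agent.Lib.helper19.Refl.hasInjectiveDimensionLE_of_gorensteinLocal O 1
      (by rw [hdim]; rfl)
  haveI : Module.IsReflexive O ↥L :=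
    Groth.Agent.Lib.helper19.Refl.isReflexive_of_eval_injective hinj ↥L
      (Groth.Agent.Lib.helper19.Refl.eval_injective_of_torsionFree O O ↥L)
  -- Step 2: the dual lattice
  set N := dual L with hN
  have e1 : Module.Dual O ↥L ≃ₗ[O] ↥N := dualEquiv L hL1
  have hN1 : Submodule.pi Set.univ (fun _ : Fin n => C • (1 : Submodule O K)) ≤ N :=
    Cn_le_dual C OT hCmem hL2
  haveI : Module.Finite O ↥N := Module.Finite.equiv e1
  have hspan : Submodule.span K (Set.range N.subtype) = ⊤ := by
    rw [eq_top_iff, ← (Pi.basisFun K (Fin n)).span_eq, Submodule.span_le]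
    rintro _ ⟨i, rfl⟩
    have haK : algebraMap O K a ≠ 0 := by
      rw [Ne, map_eq_zero_iff _ (IsFractionRing.injective O K)]
      exact ha0
    have hmem : Pi.single i (algebraMap O K a) ∈ N := by
      apply hN1
      rw [Submodule.mem_pi]
      intro j _
      by_cases h : j = i
      · subst h
        rw [Pi.single_eq_same]
        have : algebraMap O K a = a • (1 : K) := by rw [Algebra.smul_def, mul_one]
        rw [this]
        exact Submodule.smul_mem_smul haC (Submodule.one_le.mp le_rfl)
      · rw [Pi.single_eq_of_ne h]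
        exact zero_mem _
    have h1 : (Pi.basisFun K (Fin n)) i =
        (algebraMap O K a)⁻¹ • (Pi.single i (algebraMap O K a) : Fin n → K) := by
      rw [Pi.basisFun_apply]
      funext j
      rw [Pi.smul_apply, Pi.single_apply, Pi.single_apply]
      split_ifs
      · rw [smul_eq_mul, inv_mul_cancel₀ haK]
      · rw [smul_zero]
    rw [h1]
    exact Submodule.smul_mem _ _ (Submodule.subset_span ⟨⟨_, hmem⟩, rfl⟩)
  -- Step 3: move the dual lattice between `O^n` and `Õ^n`
  obtain ⟨T, hT1, hT2⟩ :=
    Groth.Agent.S15009.exists_lattice_aux O hdim K hfin ↥N n N.subtype hspan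
  let Φ : ↥N →ₗ[O] (Fin n → K) := (T.toLinearMap.restrictScalars O).comp N.subtype
  have hΦ : Function.Injective Φ := T.injective.comp N.subtype_injective
  have hΦa : ∀ x, Φ x = T (N.subtype x) := fun x => rfl
  set N' := LinearMap.range Φ with hN'
  have hN'1 : On O K n ≤ N' := by
    intro x hx
    rw [Submodule.mem_pi] at hx
    have hx' : ∀ b, ∃ c : O, algebraMap O K c = x b := fun b =>
      Submodule.mem_one.mp (hx b (Set.mem_univ b))
    choose c hc using hx'
    choose m hm using hT1
    refine ⟨∑ b, c b • m b, ?_⟩
    rw [map_sum]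
    funext a'
    rw [Finset.sum_apply]
    have hterm : ∀ b, Φ (c b • m b) a' = c b • (if a' = b then (1 : K) else 0) := by
      intro b
      rw [map_smul, hΦa, hm, Pi.smul_apply, Pi.single_apply]
    simp only [hterm]
    rw [Finset.sum_eq_single a']
    · rw [if_pos rfl, Algebra.smul_def, mul_one, hc]
    · intro b _ hb
      rw [if_neg (Ne.symm hb), smul_zero]
    · intro h
      exact absurd (Finset.mem_univ a') h
  have hN'2 : N' ≤ Submodule.pi Set.univ (fun _ : Fin n => OT) := by
    rintro _ ⟨x, rfl⟩
    rw [Submodule.mem_pi]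
    intro b _
    exact hT2 x b
  let e2 : ↥N ≃ₗ[O] ↥N' := LinearEquiv.ofInjective Φ hΦ
  have e3 : Module.Dual O ↥N' ≃ₗ[O] ↥(dual N') := dualEquiv N' hN'1
  refine ⟨dual N', Cn_le_dual C OT hCmem hN'2, dual_le_On hN'1, ⟨?_⟩⟩
  exact e0.trans ((Module.evalEquiv O ↥L).trans (e1.dualMap.symm.trans (e2.dualMap.symm.trans e3)))

end Groth.Agent.S15035
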