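import Groth.Statements.S15036
import Mathlib

set_option autoImplicit false
open TFCurv

namespace Groth.Agent.S15036

section aux

lemma inf_of_cofinal (S : Set ℕ) (cS : ℕ) (h : ∀ n, cS ≤ n → n ∈ S) :
    (Set.ofPred fun m => m ∈ S).Infinite := by
  apply Set.infinite_of_not_bddAbove
  rintro ⟨b, hb⟩
  have h1 : (max b cS + 1) ∈ (Set.ofPred fun m => m ∈ S) := h _ (by omega)
  have := hb h1
  omega

open Classical in
lemma count_insert (S : Set ℕ) (s : ℕ) (hs : s ∉ S) (n : ℕ) :
    Nat.count (fun m => m ∈ insert s S) n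
      = Nat.count (fun m => m ∈ S) n + (if s < n then 1 else 0) := by
  induction n with
  | zero => simp
  | succ n ih =>
    rw [Nat.count_succ, Nat.count_succ, ih]
    by_cases h1 : n = s
    · subst h1
      have h3 : n ∈ insert n S := Set.mem_insert _ _
      rw [if_pos h3, if_neg hs, if_neg (lt_irrefl n), if_pos (Nat.lt_succ_self n)]
    · have h3 : (n ∈ insert s S) ↔ n ∈ S := by simp [Set.mem_insert_iff, h1]
      by_cases h2 : s < n
      · have h4 : s < n + 1 := by omega
        rw [if_pos h2, if_pos h4]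
        by_cases h5 : n ∈ S
        · rw [if_pos h5, if_pos (h3.2 h5)]
        · rw [if_neg h5, if_neg (fun h => h5 (h3.1 h))]
      · have h4 : ¬ s < n + 1 := by omega
        rw [if_neg h2, if_neg h4]
        by_cases h5 : n ∈ S
        · rw [if_pos h5, if_pos (h3.2 h5)]
        · rw [if_neg h5, if_neg (fun h => h5 (h3.1 h))]

end aux

/-- Let Γ be a numerical semigroup (a submonoid of (ℕ, +) with finite complement), Γ ≠ ℕ, with conductor
c (every n ≥ c lies in Γ, c − 1 does not); let S ⊆ ℕ be a Γ-module in normal form (0 ∈ S, γ + s ∈ S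
for γ ∈ Γ, s ∈ S) with conductor c(S) (all n ≥ c(S) in S, c(S) − 1 ∉ S), and let s be a gap of S
such that S ∪ {s} is again a Γ-module. Enumerate S increasingly as s_0 < s_1 < ⋯ and put τ_i(S) =
s_i + ℓ(S), where ℓ counts the gaps of Γ filled; since ℓ(S ∪ {s}) = ℓ(S) + 1, the termwise
comparison τ(S) ≤ τ(S ∪ {s}) says that the i-th element of S is at most one more than the i-th
element of S ∪ {s} for every i. This holds if and only if s = c(S) − 1, the largest gap of S. -/
theorem result (Γ : AddSubmonoid ℕ) (c : ℕ) (hc : ∀ n : ℕ, c ≤ n → n ∈ Γ) (hc0 : c ≠ 0) (hc1 : c - 1 ∉ Γ) (S : Set ℕ) (hS0 : (0 : ℕ) ∈ S) (hS : ∀ γ : ℕ, γ ∈ Γ → ∀ s : ℕ, s ∈ S → γ + s ∈ S) (cS : ℕ) (hcS : ∀ n : ℕ, cS ≤ n → n ∈ S) (hcS0 : cS ≠ 0) (hcS1 : cS - 1 ∉ S) (s : ℕ) (hs : s ∉ S) (hs' : ∀ γ : ℕ, γ ∈ Γ → γ ≠ 0 → s + γ ∈ S) : (∀ i : ℕ, Nat.nth (fun m => m ∈ S) i ≤ Nat.nth (fun m => m ∈ insert s S) i + 1) ↔ s + 1 = cS := by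
  classical
  have hSinf := inf_of_cofinal S cS hcS
  have hTinf : (Set.ofPred fun m => m ∈ insert s S).Infinite :=
    inf_of_cofinal (insert s S) cS (fun n hn => Set.mem_insert_of_mem _ (hcS n hn))
  have hslt : s < cS := by
    by_contra h
    exact hs (hcS s (by omega))
  constructor
  · intro H
    by_contra hne
    have h2 : s + 1 < cS := by omega
    have hcT : cS - 1 ∉ insert s S := by
      rw [Set.mem_insert_iff]
      rintro (h | h)
      · omega
      · exact hcS1 h
    have e1 : Nat.nth (fun m => m ∈ S) (Nat.count (fun m => m ∈ S) cS) = cS :=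
      Nat.nth_count (p := fun m => m ∈ S) (hcS cS le_rfl)
    have e2 : Nat.count (fun m => m ∈ insert s S) cS = Nat.count (fun m => m ∈ S) cS + 1 := by
      rw [count_insert S s hs, if_pos hslt]
    have e3 : Nat.nth (fun m => m ∈ insert s S) (Nat.count (fun m => m ∈ S) cS + 1) = cS := by
      rw [← e2]
      exact Nat.nth_count (p := fun m => m ∈ insert s S) (Set.mem_insert_of_mem _ (hcS cS le_rfl))
    have e4 : Nat.nth (fun m => m ∈ insert s S) (Nat.count (fun m => m ∈ S) cS) < cS := by
      conv_rhs => rw [← e3]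
      exact Nat.nth_strictMono hTinf (Nat.lt_succ_self _)
    have e5 : Nat.nth (fun m => m ∈ insert s S) (Nat.count (fun m => m ∈ S) cS) ∈ insert s S :=
      Nat.nth_mem_of_infinite hTinf _
    have e6 : Nat.nth (fun m => m ∈ insert s S) (Nat.count (fun m => m ∈ S) cS) ≠ cS - 1 :=
      fun h => hcT (h ▸ e5)
    have := H (Nat.count (fun m => m ∈ S) cS)
    rw [e1] at this
    omega
  · intro hsc i
    have htT : Nat.nth (fun m => m ∈ insert s S) i ∈ insert s S := Nat.nth_mem_of_infinite hTinf i
    have hcnt : Nat.count (fun m => m ∈ insert s S) (Nat.nth (fun m => m ∈ insert s S) i) = i :=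
      Nat.count_nth_of_infinite hTinf i
    generalize Nat.nth (fun m => m ∈ insert s S) i = t at htT hcnt ⊢
    by_cases hts : t < s
    · have htS : t ∈ S := by
        rcases Set.mem_insert_iff.1 htT with h | h
        · omega
        · exact h
      have c0 : Nat.count (fun m => m ∈ S) t = i := by
        rw [count_insert S s hs, if_neg (by omega)] at hcnt
        simpa using hcnt
      have : Nat.nth (fun m => m ∈ S) i = t := by
        rw [← c0]; exact Nat.nth_count (p := fun m => m ∈ S) htS
      omega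
    · have ht1 : t + 1 ∈ S := hcS _ (by omega)
      have c1 : Nat.count (fun m => m ∈ insert s S) (t + 1) = i + 1 := by
        rw [Nat.count_succ, hcnt, if_pos htT]
      have c2 : Nat.count (fun m => m ∈ S) (t + 1) = i := by
        rw [count_insert S s hs, if_pos (by omega)] at c1
        omega
      have : Nat.nth (fun m => m ∈ S) i = t + 1 := by
        rw [← c2]; exact Nat.nth_count (p := fun m => m ∈ S) ht1
      omega

end Groth.Agent.S15036
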