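import Groth.Statements.S15037
import Mathlib

set_option autoImplicit false
open TFCurv

namespace Groth.Agent.S15037

section aux

lemma inf_of_cofinal (S : Set ℕ) (cS : ℕ) (h : ∀ n, cS ≤ n → n ∈ S) :
    (Set.ofPred fun m => m ∈ S).Infinite := by
  apply Set.infinite_of_not_bddAbove
  rintro ⟨b, hb⟩
  have h1 : (max b cS + 1) ∈ (Set.ofPred fun m => m ∈ S) := h _ (by omega)
  have := hb h1
  omega

open Classical in
lemma count_add_count (S : Set ℕ) (n : ℕ) :
    Nat.count (fun m => m ∈ S) n + Nat.count (fun m => m ∉ S) n = n := by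
  induction n with
  | zero => simp
  | succ n ih =>
    rw [Nat.count_succ, Nat.count_succ]
    by_cases h : n ∈ S
    · rw [if_pos h, if_neg (not_not.2 h)]; omega
    · rw [if_neg h, if_pos h]; omega

open Classical in
lemma gaps_const (S : Set ℕ) (cS : ℕ) (h : ∀ n, cS ≤ n → n ∈ S) (k : ℕ) :
    Nat.count (fun m => m ∉ S) (cS + k) = Nat.count (fun m => m ∉ S) cS := by
  induction k with
  | zero => rfl
  | succ k ih =>
    rw [← add_assoc, Nat.count_succ, ih, if_neg (not_not.2 (h _ (by omega))), add_zero]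

open Classical in
lemma gaps_le (S : Set ℕ) (cS : ℕ) (h : ∀ n, cS ≤ n → n ∈ S) (n : ℕ) :
    Nat.count (fun m => m ∉ S) n ≤ Nat.count (fun m => m ∉ S) cS := by
  by_cases hn : n ≤ cS
  · exact Nat.count_monotone _ hn
  · obtain ⟨k, rfl⟩ := Nat.exists_eq_add_of_le (not_le.1 hn).le
    rw [gaps_const S cS h k]

open Classical in
lemma ncard_compl (S : Set ℕ) (cS : ℕ) (h : ∀ n, cS ≤ n → n ∈ S) :
    Sᶜ.ncard = Nat.count (fun m => m ∉ S) cS := by
  rw [Nat.count_eq_card_filter_range, ← Set.ncard_coe_finset]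
  congr 1
  ext n
  simp only [Set.mem_compl_iff, Finset.coe_filter, Finset.mem_range, Set.mem_ofPred_eq]
  constructor
  · intro hn
    refine ⟨?_, hn⟩
    by_contra hc
    exact hn (h n (not_lt.1 hc))
  · exact fun hn => hn.2

open Classical in
lemma ncard_below (S : Set ℕ) (cS : ℕ) :
    (S ∩ Set.Iio cS).ncard = Nat.count (fun m => m ∈ S) cS := by
  rw [Nat.count_eq_card_filter_range, ← Set.ncard_coe_finset]
  congr 1
  ext n
  simp only [Set.mem_inter_iff, Set.mem_Iio, Finset.coe_filter, Finset.mem_range,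
    Set.mem_ofPred_eq]
  exact and_comm

open Classical in
lemma nth_le (S : Set ℕ) (cS : ℕ) (h : ∀ n, cS ≤ n → n ∈ S) (i : ℕ) :
    Nat.nth (fun m => m ∈ S) i ≤ i + Nat.count (fun m => m ∉ S) cS := by
  have h1 : Nat.count (fun m => m ∈ S) (Nat.nth (fun m => m ∈ S) i) = i :=
    Nat.count_nth_of_infinite (inf_of_cofinal S cS h) i
  have h2 := count_add_count S (Nat.nth (fun m => m ∈ S) i)
  have h3 := gaps_le S cS h (Nat.nth (fun m => m ∈ S) i)
  omega

open Classical in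
lemma nth_eq (S : Set ℕ) (cS : ℕ) (h : ∀ n, cS ≤ n → n ∈ S) (i : ℕ)
    (hi : Nat.count (fun m => m ∈ S) cS ≤ i) :
    Nat.nth (fun m => m ∈ S) i = i + Nat.count (fun m => m ∉ S) cS := by
  have h0 := count_add_count S cS
  obtain ⟨k, rfl⟩ := Nat.exists_eq_add_of_le hi
  have e : Nat.count (fun m => m ∈ S) cS + k + Nat.count (fun m => m ∉ S) cS = cS + k := by
    omega
  rw [e]
  have h1 := count_add_count S (cS + k)
  rw [gaps_const S cS h k] at h1
  have h2 : Nat.count (fun m => m ∈ S) (cS + k) = Nat.count (fun m => m ∈ S) cS + k := by omega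
  rw [← h2]
  exact Nat.nth_count (p := fun m => m ∈ S) (h _ (by omega))

end aux

/-- Let Γ be a numerical semigroup (a submonoid of (ℕ, +) with finite complement), Γ ≠ ℕ, with conductor
c (every n ≥ c lies in Γ, c − 1 does not); let S and S' ⊆ ℕ be Γ-modules in normal form with
conductors c(S), c(S'), let δ(S), δ(S') be their numbers of gaps and r(S), r(S') their numbers of
elements below the conductor, and enumerate them increasingly as s_i, s'_i (i ≥ 0). With τ_i(S) =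
s_i + ℓ(S) and ℓ(S) = δ(Γ) − δ(S), the termwise order τ(S) ≤ τ(S') reads s_i + δ(S') ≤ s'_i + δ(S)
for all i. It holds if and only if r(S') ≤ r(S) and s_i + δ(S') ≤ s'_i + δ(S) for all i < r(S')
(beyond r(S) the entries τ_i(S) = i + δ(Γ) are the largest possible). -/
theorem result (Γ : AddSubmonoid ℕ) (c : ℕ) (hc : ∀ n : ℕ, c ≤ n → n ∈ Γ) (hc0 : c ≠ 0) (hc1 : c - 1 ∉ Γ) (S : Set ℕ) (hS0 : (0 : ℕ) ∈ S) (hS : ∀ γ : ℕ, γ ∈ Γ → ∀ s : ℕ, s ∈ S → γ + s ∈ S) (cS : ℕ) (hcS : ∀ n : ℕ, cS ≤ n → n ∈ S) (hcS1 : cS = 0 ∨ cS - 1 ∉ S) (S' : Set ℕ) (hS'0 : (0 : ℕ) ∈ S') (hS' : ∀ γ : ℕ, γ ∈ Γ → ∀ s : ℕ, s ∈ S' → γ + s ∈ S') (cS' : ℕ) (hcS' : ∀ n : ℕ, cS' ≤ n → n ∈ S') (hcS'1 : cS' = 0 ∨ cS' - 1 ∉ S') : (∀ i : ℕ, Nat.nth (fun m => m ∈ S) i + S'ᶜ.ncard ≤ Nat.nth (fun m => m ∈ S') i + Sᶜ.ncard) ↔ ((S' ∩ Set.Iio cS').ncard ≤ (S ∩ Set.Iio cS).ncard ∧ ∀ i : ℕ, i < (S' ∩ Set.Iio cS').ncard → Nat.nth (fun m => m ∈ S) i + S'ᶜ.ncard ≤ Nat.nth (fun m => m ∈ S')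 i + Sᶜ.ncard) := by
  classical
  rw [ncard_compl S cS hcS, ncard_compl S' cS' hcS', ncard_below S cS, ncard_below S' cS']
  constructor
  · intro H
    refine ⟨?_, fun i _ => H i⟩
    by_contra hlt
    rw [not_le] at hlt
    have hr := H (Nat.count (fun m => m ∈ S) cS)
    rw [nth_eq S cS hcS _ le_rfl] at hr
    have ht : Nat.nth (fun m => m ∈ S') (Nat.count (fun m => m ∈ S) cS) < cS' :=
      Nat.nth_lt_of_lt_count hlt
    have htm : Nat.nth (fun m => m ∈ S') (Nat.count (fun m => m ∈ S) cS) ∈ S' :=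
      Nat.nth_mem_of_infinite (inf_of_cofinal S' cS' hcS') _
    have hcnt : Nat.count (fun m => m ∈ S')
        (Nat.nth (fun m => m ∈ S') (Nat.count (fun m => m ∈ S) cS))
        = Nat.count (fun m => m ∈ S) cS :=
      Nat.count_nth_of_infinite (inf_of_cofinal S' cS' hcS') _
    generalize Nat.nth (fun m => m ∈ S') (Nat.count (fun m => m ∈ S) cS) = t at hr ht htm hcnt
    have hc'0 : cS' ≠ 0 := by omega
    have hgap : cS' - 1 ∉ S' := by
      rcases hcS'1 with h | h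
      · exact absurd h hc'0
      · exact h
    have htne : t ≠ cS' - 1 := fun h => hgap (h ▸ htm)
    have h3 := count_add_count S' t
    have h4 : Nat.count (fun m => m ∉ S') t ≤ Nat.count (fun m => m ∉ S') (cS' - 1) :=
      Nat.count_monotone _ (by omega)
    have h5 : Nat.count (fun m => m ∉ S') cS' = Nat.count (fun m => m ∉ S') (cS' - 1) + 1 := by
      conv_lhs => rw [show cS' = (cS' - 1) + 1 by omega]
      rw [Nat.count_succ, if_pos hgap]
    omega
  · rintro ⟨hr, H⟩ i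
    by_cases hi : i < Nat.count (fun m => m ∈ S') cS'
    · exact H i hi
    · rw [nth_eq S' cS' hcS' i (not_lt.1 hi)]
      have := nth_le S cS hcS i
      omega

end Groth.Agent.S15037
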