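import Groth.Statements.S15038
import Mathlib

set_option autoImplicit false
open TFCurv

namespace Groth.Agent.S15038



/-- Let Γ be a numerical semigroup (a submonoid of (ℕ, +) with finite complement), Γ ≠ ℕ, with conductor
c (every n ≥ c lies in Γ, c − 1 does not). If Γ is symmetric (for x < c, x is a gap exactly when c −
1 − x ∈ Γ) and its multiplicity e, the least nonzero element of Γ, is greater than 2, then Γ is
generated as an additive monoid by at most e − 1 elements. -/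
theorem result (Γ : AddSubmonoid ℕ) (c : ℕ) (hc : ∀ n : ℕ, c ≤ n → n ∈ Γ) (hc0 : c ≠ 0) (hc1 : c - 1 ∉ Γ) (hsymm : ∀ x : ℕ, x < c → (x ∉ Γ ↔ c - 1 - x ∈ Γ)) (e : ℕ) (he : e ∈ Γ) (he0 : e ≠ 0) (hemin : ∀ γ : ℕ, γ ∈ Γ → γ ≠ 0 → e ≤ γ) (he2 : 2 < e) : ∃ G : Finset ℕ, G.card ≤ e - 1 ∧ AddSubmonoid.closure (↑G : Set ℕ) = Γ := by
  classical
  have hepos : 0 < e := Nat.pos_of_ne_zero he0
  have hmul : ∀ k, e * k ∈ Γ := fun k => by
    have := AddSubmonoid.nsmul_mem Γ he k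
    rwa [smul_eq_mul, mul_comm] at this
  have hb : ∀ γ, (γ ∈ Γ ∧ γ ≠ 0 ∧ γ - e ∉ Γ) → γ < c + e := by
    rintro γ ⟨h1, h2, h3⟩
    by_contra hcon
    apply h3
    apply hc
    omega
  have hcF : (c - 1 + e ∈ Γ ∧ c - 1 + e ≠ 0 ∧ c - 1 + e - e ∉ Γ) := by
    refine ⟨hc _ (by omega), by omega, ?_⟩
    rw [Nat.add_sub_cancel]; exact hc1
  have hd' : ∀ γ γ', (γ ∈ Γ ∧ γ ≠ 0 ∧ γ - e ∉ Γ) → (γ' ∈ Γ ∧ γ' ≠ 0 ∧ γ' - e ∉ Γ) →
      γ ≤ γ' → γ % e = γ' % e → γ = γ' := by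
    rintro γ γ' ⟨h1, h2, h3⟩ ⟨h1', h2', h3'⟩ hle hmod
    have hdvd : e ∣ γ' - γ := (Nat.modEq_iff_dvd' hle).mp hmod
    obtain ⟨k, hk⟩ := hdvd
    rcases Nat.eq_zero_or_pos k with hk0 | hkpos
    · rw [hk0, mul_zero] at hk; omega
    · exfalso
      apply h3'
      obtain ⟨k', rfl⟩ : ∃ k', k = k' + 1 := ⟨k - 1, by omega⟩
      rw [Nat.mul_succ] at hk
      have h4 : γ' - e = γ + e * k' := by omega
      rw [h4]
      exact Γ.add_mem h1 (hmul k')
  have hmod0 : ∀ γ, (γ ∈ Γ ∧ γ ≠ 0 ∧ γ - e ∉ Γ) → γ % e ≠ 0 := by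
    rintro γ ⟨h1, h2, h3⟩ h0
    obtain ⟨k, hk⟩ := Nat.dvd_of_mod_eq_zero h0
    rcases Nat.eq_zero_or_pos k with hk0 | hkpos
    · rw [hk0, mul_zero] at hk; exact h2 hk
    · apply h3
      obtain ⟨k', rfl⟩ : ∃ k', k = k' + 1 := ⟨k - 1, by omega⟩
      rw [Nat.mul_succ] at hk
      have h4 : γ - e = e * k' := by omega
      rw [h4]
      exact hmul k'
  -- decomposition of c - 1 + e
  have hdec : ∃ γ₁ γ₂ : ℕ, γ₁ ∈ Γ ∧ γ₂ ∈ Γ ∧ γ₁ ≠ 0 ∧ γ₂ ≠ 0 ∧ γ₁ + γ₂ = c - 1 + e := by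
    obtain ⟨i, hi_lt, hi0, hiF⟩ : ∃ i, i < e ∧ i ≠ 0 ∧ i ≠ (c - 1) % e := by
      by_cases h1 : (c - 1) % e = 1
      · exact ⟨2, he2, by omega, by omega⟩
      · exact ⟨1, by omega, by omega, fun h => h1 h.symm⟩
    have hex : ∃ γ, γ ∈ Γ ∧ γ % e = i := by
      refine ⟨i + c * e, hc _ ?_, ?_⟩
      · have : c * 1 ≤ c * e := Nat.mul_le_mul_left c hepos
        omega
      · rw [Nat.add_mul_mod_self_right, Nat.mod_eq_of_lt hi_lt]
    obtain ⟨γ₁, hγ₁_def⟩ : ∃ γ₁, γ₁ = Nat.find hex := ⟨_, rfl⟩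
    have hγ₁ : γ₁ ∈ Γ ∧ γ₁ % e = i := by rw [hγ₁_def]; exact Nat.find_spec hex
    have hγ₁min : ∀ m, m < γ₁ → ¬ (m ∈ Γ ∧ m % e = i) := by
      intro m hm; rw [hγ₁_def] at hm; exact Nat.find_min hex hm
    have hγ₁0 : γ₁ ≠ 0 := by
      intro h0
      have := hγ₁.2
      rw [h0, Nat.zero_mod] at this
      exact hi0 this.symm
    have hγ₁e : e ≤ γ₁ := hemin γ₁ hγ₁.1 hγ₁0
    have hxmod : (γ₁ - e) % e = i := by
      have h1 : γ₁ = (γ₁ - e) + e := by omega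
      have h2 := hγ₁.2
      rw [h1, Nat.add_mod_right] at h2
      exact h2
    have hxnot : γ₁ - e ∉ Γ := fun hx => hγ₁min (γ₁ - e) (by omega) ⟨hx, hxmod⟩
    have hxc : γ₁ - e < c := by
      by_contra hcon
      exact hxnot (hc _ (by omega))
    have hxF : γ₁ - e ≠ c - 1 := by
      intro h
      rw [h] at hxmod
      exact hiF hxmod.symm
    have hγ₂ : c - 1 - (γ₁ - e) ∈ Γ := (hsymm (γ₁ - e) hxc).mp hxnot
    exact ⟨γ₁, c - 1 - (γ₁ - e), hγ₁.1, hγ₂, hγ₁0, by omega, by omega⟩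
  -- the generating set
  obtain ⟨Ap', hAp'⟩ : ∃ Ap' : Finset ℕ, Ap' = (Finset.range (c + e)).filter
      (fun γ => (γ ∈ Γ ∧ γ ≠ 0 ∧ γ - e ∉ Γ) ∧ γ ≠ c - 1 + e) := ⟨_, rfl⟩
  have hmemAp : ∀ γ, γ ∈ Ap' ↔ ((γ ∈ Γ ∧ γ ≠ 0 ∧ γ - e ∉ Γ) ∧ γ ≠ c - 1 + e) := by
    intro γ
    rw [hAp', Finset.mem_filter, Finset.mem_range]
    constructor
    · exact fun h => h.2
    · exact fun h => ⟨hb γ h.1, h⟩
  have hcardAp : Ap'.card ≤ e - 2 := by
    have hT : (((Finset.range e).erase 0).erase ((c - 1 + e) % e)).card = e - 2 := by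
      rw [Finset.card_erase_of_mem, Finset.card_erase_of_mem, Finset.card_range]
      · omega
      · exact Finset.mem_range.mpr hepos
      · rw [Finset.mem_erase, Finset.mem_range]
        exact ⟨hmod0 _ hcF, Nat.mod_lt _ hepos⟩
    rw [← hT]
    apply Finset.card_le_card_of_injOn (fun γ => γ % e)
    · intro γ hγ
      have hγ' := (hmemAp γ).mp (Finset.mem_coe.mp hγ)
      rw [Finset.mem_coe, Finset.mem_erase, Finset.mem_erase, Finset.mem_range]
      refine ⟨?_, hmod0 γ hγ'.1, Nat.mod_lt _ hepos⟩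
      intro heq
      apply hγ'.2
      have hle : γ ≤ c - 1 + e := by have := hb γ hγ'.1; omega
      exact hd' γ (c - 1 + e) hγ'.1 hcF hle heq
    · intro γ hγ γ' hγ' heq
      have h1 := (hmemAp γ).mp (Finset.mem_coe.mp hγ)
      have h2 := (hmemAp γ').mp (Finset.mem_coe.mp hγ')
      rcases le_total γ γ' with hle | hle
      · exact hd' γ γ' h1.1 h2.1 hle heq
      · exact (hd' γ' γ h2.1 h1.1 hle heq.symm).symm
  refine ⟨insert e Ap', ?_, ?_⟩
  · have := Finset.card_insert_le e Ap'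
    omega
  · apply le_antisymm
    · rw [AddSubmonoid.closure_le]
      intro x hx
      rw [Finset.mem_coe, Finset.mem_insert] at hx
      rcases hx with rfl | hx
      · exact he
      · exact ((hmemAp x).mp hx).1.1
    · have he_cl : e ∈ AddSubmonoid.closure (↑(insert e Ap') : Set ℕ) :=
        AddSubmonoid.subset_closure (Finset.mem_coe.mpr (Finset.mem_insert_self e Ap'))
      intro γ
      induction γ using Nat.strong_induction_on with
      | _ γ ih =>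
        intro hγ
        by_cases h0 : γ = 0
        · rw [h0]; exact AddSubmonoid.zero_mem _
        · have hge : e ≤ γ := hemin γ hγ h0
          by_cases hsub : γ - e ∈ Γ
          · have h1 := ih (γ - e) (by omega) hsub
            have h2 : γ = (γ - e) + e := by omega
            rw [h2]
            exact AddSubmonoid.add_mem _ h1 he_cl
          · by_cases hF : γ = c - 1 + e
            · obtain ⟨γ₁, γ₂, h1, h2, h10, h20, hsum⟩ := hdec
              rw [hF, ← hsum]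
              exact AddSubmonoid.add_mem _ (ih γ₁ (by omega) h1) (ih γ₂ (by omega) h2)
            · apply AddSubmonoid.subset_closure
              rw [Finset.mem_coe, Finset.mem_insert]
              right
              exact (hmemAp γ).mpr ⟨⟨hγ, h0, hsub⟩, hF⟩


end Groth.Agent.S15038
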