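import Groth.Statements.S15040
import Groth.Agent.Lib.Helper15.ExtDual5
import Groth.Agent.Lib.Helper19.Refl3
import Groth.Agent.S15013

set_option autoImplicit false
set_option linter.style.haveILetI false
universe u
open CategoryTheory
open TFCurv

namespace Groth.Agent.S15040

/-- Let O be a one-dimensional Gorenstein local domain with algebraically closed residue field whose
integral closure O~ in its fraction field K is a finite O-module, and let M be an intermediate ring
O ⊆ M ⊆ O~ (an overring of O), viewed as an O-module. Put M⁻¹ = {x ∈ K | x·M ⊆ O}, which lies in O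
and is identified with an ideal of O. Then Ext¹_O(M, M) and Hom_O(M⁻¹, O/M⁻¹) are isomorphic abelian
groups (existence of an additive isomorphism only). -/
theorem result (O : Type u) [CommRing O] [IsDomain O] [LocCoh.IsGorensteinLocalRing O] (hdim : ringKrullDim O = 1) [IsAlgClosed (IsLocalRing.ResidueField O)] (K : Type u) [Field K] [Algebra O K] [IsFractionRing O K] (hfin : Module.Finite O ↥(integralClosure O K)) (M : Subalgebra O K) (hM : M ≤ integralClosure O K) : Nonempty (Abelian.Ext (ModuleCat.of O ↥M) (ModuleCat.of O ↥M) 1 ≃+ (↥((1 : Submodule O K) / Subalgebra.toSubmodule M) →ₗ[O] (O ⧸ Submodule.comap (Algebra.linearMap O K) ((1 : Submodule O K) / Subalgebra.toSubmodule M)))) := by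
  haveI : IsNoetherianRing O := inferInstance
  haveI : IsLocalRing O := inferInstance
  have hω0 : (1 : Submodule O K) ≠ ⊥ := Groth.Agent.Lib.helper15.CanDual.one_ne_bot
  have hωfg : (1 : Submodule O K).FG := Groth.Agent.Lib.helper15.CanDual.one_fg'
  have hinjO : CategoryTheory.HasInjectiveDimensionLE (ModuleCat.of O O) 1 :=
    Groth.Agent.Lib.helper19.Refl.hasInjectiveDimensionLE_of_gorensteinLocal O 1
      (by rw [hdim]; rfl)
  let σ : O ≃ₗ[O] ↥(1 : Submodule O K) :=
    (LinearEquiv.ofInjective (Algebra.linearMap O K) (IsFractionRing.injective O K)).trans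
      (LinearEquiv.ofEq _ _ Submodule.one_eq_range.symm)
  have hinj1 : HasInjectiveDimensionLT (ModuleCat.of O ↥(1 : Submodule O K)) 2 := by
    haveI : HasInjectiveDimensionLT (ModuleCat.of O O) 2 := hinjO
    have e : ModuleCat.of O O ≅ ModuleCat.of O ↥(1 : Submodule O K) := LinearEquiv.toModuleIso σ
    exact hasInjectiveDimensionLT_of_iso e 2
  haveI : Module.Finite O ↥M := by
    haveI : IsNoetherian O ↥(integralClosure O K) :=
      isNoetherian_of_isNoetherianRing_of_finite O ↥(integralClosure O K)
    exact Module.Finite.of_injective (Subalgebra.inclusion hM).toLinearMap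
      (Subalgebra.inclusion_injective hM)
  refine Groth.Agent.Lib.helper15.ExtDual.ext_one_overring hdim hinj1 ?_ M
  intro M' _ _ _ hM' j hj
  haveI : NoZeroSMulDivisors O M' := ⟨fun h => hM' _ _ h⟩
  exact Groth.Agent.S15013.result O hdim K hfin 1 hω0 hωfg hinj1 M' j hj

end Groth.Agent.S15040
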