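import Groth.Statements.S15041
import Groth.Agent.Lib.Helper15.TwoGenExt4
import Groth.Agent.Lib.Helper15.ThreeGenExt1
import Groth.Agent.Lib.Helper15.CubExt5

set_option autoImplicit false
set_option linter.style.haveILetI false
universe u
open CategoryTheory
open TFCurv

namespace Groth.Agent.S15041

open Groth.Agent.Lib.helper15 Groth.Agent.Lib.helper15.TwoGenExt PowerSeries

/-- the semigroup `⟨3, 4⟩` -/
def Γ6 (s : ℕ) : Prop := s = 0 ∨ s = 3 ∨ s = 4 ∨ 6 ≤ s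

theorem mem_closure_iff (s : ℕ) : s ∈ AddSubmonoid.closure ({3, 4} : Set ℕ) ↔ Γ6 s := by
  constructor
  · intro hs
    induction hs using AddSubmonoid.closure_induction with
    | mem x hx =>
      rcases hx with rfl | rfl
      · right
        left
        rfl
      · right
        right
        left
        rfl
    | zero =>
      left
      rfl
    | add x y _ _ hx hy =>
      unfold Γ6 at *
      omega
  · intro hs
    have h3 : (3 : ℕ) ∈ AddSubmonoid.closure ({3, 4} : Set ℕ) :=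
      AddSubmonoid.subset_closure (Or.inl rfl)
    have h4 : (4 : ℕ) ∈ AddSubmonoid.closure ({3, 4} : Set ℕ) :=
      AddSubmonoid.subset_closure (Or.inr rfl)
    obtain ⟨a, b, hab⟩ : ∃ a b : ℕ, s = a • 3 + b • 4 := by
      unfold Γ6 at hs
      by_cases h0 : s % 3 = 0
      · exact ⟨s / 3, 0, by simp only [smul_eq_mul]; omega⟩
      · by_cases h1 : s % 3 = 1
        · exact ⟨(s - 4) / 3, 1, by simp only [smul_eq_mul]; omega⟩
        · exact ⟨(s - 8) / 3, 2, by simp only [smul_eq_mul]; omega⟩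
    rw [hab]
    exact add_mem (AddSubmonoid.nsmul_mem _ h3 _) (AddSubmonoid.nsmul_mem _ h4 _)

theorem ncard_of_finset (Q : ℕ → Prop) (F : Finset ℕ) (hQ : ∀ s, ¬ Q s ↔ s ∈ F) :
    {s | ¬ Q s}.ncard = F.card := by
  have : {s | ¬ Q s} = ↑F := by
    ext s
    exact hQ s
  rw [this, Set.ncard_coe_finset]

theorem cardZ5 : {s | ¬ ZP (PP Γ6 5) 6 5 s}.ncard = 8 := by
  rw [ncard_of_finset _ {0, 1, 2, 3, 4, 5, 7, 8} (fun s => by
    simp only [ZP, PP, Γ6, Finset.mem_insert, Finset.mem_singleton]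
    omega)]
  rfl

theorem cardY5 : {s | ¬ YP Γ6 (PP Γ6 5) 6 5 s}.ncard = 6 := by
  rw [ncard_of_finset _ (Finset.range 6) (fun s => by
    simp only [YP, PP, Γ6, Finset.mem_range]
    constructor
    · intro hs
      by_contra hcon
      apply hs
      intro γ hγ hγm
      omega
    · intro hs hall
      have h3 := hall 3 (by omega) (by omega)
      have h4 := hall 4 (by omega) (by omega)
      omega)]
  rfl

theorem cardZ1 : {s | ¬ ZP (PP Γ6 1) 6 1 s}.ncard = 6 := by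
  rw [ncard_of_finset _ (Finset.range 6) (fun s => by
    simp only [ZP, PP, Γ6, Finset.mem_range]
    omega)]
  rfl

theorem cardY1 : {s | ¬ YP Γ6 (PP Γ6 1) 6 1 s}.ncard = 4 := by
  rw [ncard_of_finset _ {0, 1, 2, 5} (fun s => by
    simp only [YP, PP, Γ6, Finset.mem_insert, Finset.mem_singleton]
    constructor
    · intro hs
      by_contra hcon
      apply hs
      intro γ hγ hγm
      omega
    · intro hs hall
      have h3 := hall 3 (by omega) (by omega)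
      omega)]
  rfl

theorem cardZ2 : {s | ¬ ZP (PP Γ6 2) 6 2 s}.ncard = 7 := by
  rw [ncard_of_finset _ {0, 1, 2, 3, 4, 5, 7} (fun s => by
    simp only [ZP, PP, Γ6, Finset.mem_insert, Finset.mem_singleton]
    omega)]
  rfl

theorem cardY2 : {s | ¬ YP Γ6 (PP Γ6 2) 6 2 s}.ncard = 3 := by
  rw [ncard_of_finset _ {0, 1, 3} (fun s => by
    simp only [YP, PP, Γ6, Finset.mem_insert, Finset.mem_singleton]
    constructor
    · intro hs
      by_contra hcon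
      apply hs
      intro γ hγ hγm
      omega
    · intro hs hall
      have h4 := hall 4 (by omega) (by omega)
      omega)]
  rfl

theorem hcΓ6 : ∀ s, 6 ≤ s → Γ6 s := fun s hs => by
  unfold Γ6
  omega

section parts

variable {k : Type u} [Field k] {A : Subalgebra k (PowerSeries k)} (h : IsMono A Γ6)

include h in
theorem part [Module.Finite ↥A (PowerSeries k)] [IsLocalRing ↥A] (T nZ nY E : ℕ)
    (hZ : {s | ¬ ZP (PP Γ6 T) 6 T s}.ncard = nZ)
    (hY : {s | ¬ YP Γ6 (PP Γ6 T) 6 T s}.ncard = nY) (hE : nZ = nY + E) :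
    Module.length ↥A (Abelian.Ext.{u}
      (ModuleCat.of ↥A ↥(Submodule.span ↥A ({1, (X : PowerSeries k) ^ T} : Set (PowerSeries k))))
      (ModuleCat.of ↥A ↥(Submodule.span ↥A ({1, (X : PowerSeries k) ^ T} : Set (PowerSeries k))))
      1) = ((E : ℕ) : ℕ∞) := by
  rw [span_pair_eq h T]
  have hLF := length_ext_mono h 6 hcΓ6 T (PP Γ6 T) (hPP h T) 6 (fun s hs => Or.inl (hcΓ6 s hs))
  rw [hZ, hY] at hLF
  obtain ⟨E', hE1, hE2⟩ := CubExt.enat_aux hLF
  rw [hE1]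
  congr 1
  omega

/-- support condition `n ≤ s` -/
def Pge (n s : ℕ) : Prop := n ≤ s

theorem hPge (n : ℕ) : ∀ m γ, Pge n m → Γ6 γ → Pge n (m + γ) := fun m γ hm _ => by
  unfold Pge at *
  omega

theorem mem_suppG_Pge (n : ℕ) (f : PowerSeries k) :
    f ∈ suppG h (Pge n) (hPge n) ↔ X ^ n ∣ f := by
  rw [X_pow_dvd_iff]
  constructor
  · intro hf m hm
    by_contra hne
    have : n ≤ m := hf m hne
    omega
  · intro hf m hm
    change n ≤ m
    by_contra hlt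
    exact hm (hf m (by omega))

theorem cardPge (n : ℕ) : {s | ¬ Pge n s}.ncard = n := by
  rw [ncard_of_finset _ (Finset.range n) (fun s => by
    simp only [Pge, Finset.mem_range]
    omega)]
  exact Finset.card_range n

include h in
theorem decomp (f : PowerSeries k) : ∃ a b c : PowerSeries k, a ∈ A ∧ b ∈ A ∧ c ∈ A ∧
    f = a + b * X + c * X ^ 2 := by
  obtain ⟨z₁, w, rfl, hz₁, hw⟩ := exists_split Γ6 (PP Γ6 1) 1 f (fun s _ => by
    simp only [PP, Γ6]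
    omega)
  obtain ⟨w₁, w₂, rfl, hw₁, hw₂⟩ := exists_split Γ6 Γ6 1 w hw
  refine ⟨z₁, w₁, w₂, (h z₁).mpr hz₁, (h w₁).mpr hw₁, (h w₂).mpr hw₂, ?_⟩
  ring

include h in
theorem span_eq_top :
    Submodule.span ↥A ({1, (X : PowerSeries k), X ^ 2} : Set (PowerSeries k)) = ⊤ := by
  rw [_root_.eq_top_iff]
  rintro f -
  obtain ⟨a, b, c, ha, hb, hc, rfl⟩ := decomp h f
  rw [Submodule.mem_span_triple]
  refine ⟨⟨a, ha⟩, ⟨b, hb⟩, ⟨c, hc⟩, ?_⟩
  rw [TwoGenExt.smul_def, TwoGenExt.smul_def, TwoGenExt.smul_def]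
  ring

include h in
theorem KK_dvd (x : ↥(ThreeGenExt.KK A (X : PowerSeries k) (X ^ 2))) :
    (X : PowerSeries k) ^ 3 ∣ ThreeGenExt.c1 X (X ^ 2) x ∧
      (X : PowerSeries k) ^ 3 ∣ ThreeGenExt.c2 X (X ^ 2) x := by
  obtain ⟨d1, hd1⟩ : ∃ d : PowerSeries k, d = ThreeGenExt.c1 X (X ^ 2) x := ⟨_, rfl⟩
  obtain ⟨d2, hd2⟩ : ∃ d : PowerSeries k, d = ThreeGenExt.c2 X (X ^ 2) x := ⟨_, rfl⟩
  have hc1A : d1 ∈ A := by
    rw [hd1]
    exact ((x : ↥A × ↥A).1).2
  have hc2A : d2 ∈ A := by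
    rw [hd2]
    exact ((x : ↥A × ↥A).2).2
  have hcomb : d1 * X + d2 * X ^ 2 ∈ A := by
    rw [hd1, hd2]
    exact x.2
  rw [← hd1, ← hd2]
  have g1 := (h _).mp hc1A
  have g2 := (h _).mp hc2A
  have g3 := (h _).mp hcomb
  have e1 : coeff 1 (d1 * X + d2 * X ^ 2) = coeff 0 d1 := by
    rw [map_add, coeff_mul_X_pow', if_neg (by omega), add_zero]
    exact coeff_succ_mul_X 0 _
  have e2 : coeff 2 (d1 * X + d2 * X ^ 2) = coeff 1 d1 + coeff 0 d2 := by
    rw [map_add, coeff_mul_X_pow', if_pos le_rfl, Nat.sub_self]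
    congr 1
    exact coeff_succ_mul_X 1 _
  have n1 : ¬ Γ6 1 := by
    unfold Γ6
    omega
  have n2 : ¬ Γ6 2 := by
    unfold Γ6
    omega
  have a1 : coeff 1 d1 = 0 := by
    by_contra hne
    exact n1 (g1 1 hne)
  have a2 : coeff 2 d1 = 0 := by
    by_contra hne
    exact n2 (g1 2 hne)
  have b1 : coeff 1 d2 = 0 := by
    by_contra hne
    exact n1 (g2 1 hne)
  have b2 : coeff 2 d2 = 0 := by
    by_contra hne
    exact n2 (g2 2 hne)
  have a0 : coeff 0 d1 = 0 := by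
    by_contra hne
    apply n1
    apply g3 1
    rw [e1]
    exact hne
  have b0 : coeff 0 d2 = 0 := by
    by_contra hne
    apply n2
    apply g3 2
    rw [e2, a1, zero_add]
    exact hne
  constructor
  · rw [X_pow_dvd_iff]
    intro m hm
    interval_cases m
    · exact a0
    · exact a1
    · exact a2
  · rw [X_pow_dvd_iff]
    intro m hm
    interval_cases m
    · exact b0
    · exact b1
    · exact b2

section NN

variable {Nm : Type u} [AddCommGroup Nm] [Module ↥A Nm] (ιN : Nm →ₗ[↥A] PowerSeries k)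
  (hN : Function.Surjective ιN)

include hN in
theorem range_Lam4 :
    LinearMap.range (ThreeGenExt.Lam (A := A) (X : PowerSeries k) (X ^ 2) (X ^ 6) ιN) =
      (suppG h (Pge 6) (hPge 6)).prod (suppG h (Pge 6) (hPge 6)) := by
  apply le_antisymm
  · rintro _ ⟨⟨p, q, r⟩, rfl⟩
    rw [ThreeGenExt.Lam_apply, Submodule.mem_prod]
    exact ⟨(mem_suppG_Pge h 6 _).mpr (Dvd.intro _ rfl), (mem_suppG_Pge h 6 _).mpr (Dvd.intro _ rfl)⟩
  · rintro ⟨y₁, y₂⟩ ⟨hy₁, hy₂⟩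
    obtain ⟨z₁, hz₁⟩ := (mem_suppG_Pge h 6 _).mp hy₁
    obtain ⟨z₂, hz₂⟩ := (mem_suppG_Pge h 6 _).mp hy₂
    simp only at hz₁ hz₂
    subst hz₁ hz₂
    obtain ⟨q, rfl⟩ := hN z₁
    obtain ⟨r, rfl⟩ := hN z₂
    refine ⟨(0, q, r), ?_⟩
    rw [ThreeGenExt.Lam_apply]
    simp only [map_zero, mul_zero, sub_zero]

include hN in
theorem YY4 :
    ThreeGenExt.YY (A := A) (X : PowerSeries k) (X ^ 2) (X ^ 6) ιN =
      (suppG h (Pge 3) (hPge 3)).prod (suppG h (Pge 3) (hPge 3)) := by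
  apply le_antisymm
  · rintro ⟨y₁, y₂⟩ hy
    rw [ThreeGenExt.mem_YY] at hy
    have hA3 : (X : PowerSeries k) ^ 3 ∈ A := X_pow_mem h (Or.inr (Or.inl rfl))
    have hA4 : (X : PowerSeries k) ^ 4 ∈ A := X_pow_mem h (Or.inr (Or.inr (Or.inl rfl)))
    have hk1 : ((⟨X ^ 3, hA3⟩ : ↥A), (0 : ↥A)) ∈ ThreeGenExt.KK A (X : PowerSeries k) (X ^ 2) := by
      change (X : PowerSeries k) ^ 3 * X + ((0 : ↥A) : PowerSeries k) * X ^ 2 ∈ A
      rw [Subalgebra.coe_zero, zero_mul, add_zero]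
      have : (X : PowerSeries k) ^ 3 * X = X ^ 4 := by ring
      rw [this]
      exact hA4
    have hk2 : ((⟨X ^ 4, hA4⟩ : ↥A), (⟨-X ^ 3, A.neg_mem hA3⟩ : ↥A)) ∈
        ThreeGenExt.KK A (X : PowerSeries k) (X ^ 2) := by
      change (X : PowerSeries k) ^ 4 * X + (-X ^ 3) * X ^ 2 ∈ A
      have : (X : PowerSeries k) ^ 4 * X + (-X ^ 3) * X ^ 2 = 0 := by ring
      rw [this]
      exact A.zero_mem
    obtain ⟨n1, hn1⟩ := hy ⟨_, hk1⟩
    obtain ⟨n2, hn2⟩ := hy ⟨_, hk2⟩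
    change X ^ 6 * ιN n1 = X ^ 3 * y₁ + ((0 : ↥A) : PowerSeries k) * y₂ at hn1
    change X ^ 6 * ιN n2 = X ^ 4 * y₁ + (-X ^ 3) * y₂ at hn2
    rw [Subalgebra.coe_zero, zero_mul, add_zero] at hn1
    have hy₁ : (X : PowerSeries k) ^ 3 ∣ y₁ := by
      have : (X : PowerSeries k) ^ 3 * (X ^ 3 * ιN n1) = X ^ 3 * y₁ := by
        rw [← hn1]
        ring
      exact ⟨_, (X_pow_mul_cancel this).symm⟩
    obtain ⟨z₁, rfl⟩ := hy₁
    have hy₂ : (X : PowerSeries k) ^ 3 ∣ y₂ := by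
      have : (X : PowerSeries k) ^ 3 * (X ^ 3 * (X * z₁ - ιN n2)) = X ^ 3 * y₂ := by
        linear_combination (-1 : PowerSeries k) * hn2
      exact ⟨_, (X_pow_mul_cancel this).symm⟩
    rw [Submodule.mem_prod]
    exact ⟨(mem_suppG_Pge h 3 _).mpr (Dvd.intro _ rfl), (mem_suppG_Pge h 3 _).mpr hy₂⟩
  · rintro ⟨y₁, y₂⟩ ⟨hy₁, hy₂⟩
    obtain ⟨z₁, hz₁⟩ := (mem_suppG_Pge h 3 _).mp hy₁
    obtain ⟨z₂, hz₂⟩ := (mem_suppG_Pge h 3 _).mp hy₂
    simp only at hz₁ hz₂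
    subst hz₁ hz₂
    rw [ThreeGenExt.mem_YY]
    intro x
    obtain ⟨⟨u₁, hu₁⟩, ⟨u₂, hu₂⟩⟩ := KK_dvd h x
    obtain ⟨nn, hnn⟩ := hN (u₁ * z₁ + u₂ * z₂)
    refine ⟨nn, ?_⟩
    rw [hnn, hu₁, hu₂]
    ring

end NN

include h in
theorem part4 [Module.Finite ↥A (PowerSeries k)] [IsLocalRing ↥A] :
    Module.length ↥A (Abelian.Ext.{u}
      (ModuleCat.of ↥A ↥(⊤ : Submodule ↥A (PowerSeries k)))
      (ModuleCat.of ↥A ↥(⊤ : Submodule ↥A (PowerSeries k))) 1) = ((6 : ℕ) : ℕ∞) := by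
  have hxA : ∀ b : PowerSeries k, X ^ 6 * b ∈ A := fun b =>
    mem_of_le_order h 6 hcΓ6 _ (by
      rw [order_mul, order_X_pow]
      exact le_self_add)
  have hx₀ : ∀ b b' : PowerSeries k, X ^ 6 * b = X ^ 6 * b' → b = b' := fun b b' hbb =>
    X_pow_mul_cancel hbb
  obtain ⟨ι, hι⟩ : ∃ ι : ↥(⊤ : Submodule ↥A (PowerSeries k)) →ₗ[↥A] PowerSeries k,
      ι = (⊤ : Submodule ↥A (PowerSeries k)).subtype := ⟨_, rfl⟩
  obtain ⟨v₀, hv₀⟩ : ∃ v : ↥(⊤ : Submodule ↥A (PowerSeries k)), (v : PowerSeries k) = 1 :=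
    ⟨⟨1, Submodule.mem_top⟩, rfl⟩
  obtain ⟨v₁, hv₁⟩ : ∃ v : ↥(⊤ : Submodule ↥A (PowerSeries k)), (v : PowerSeries k) = X :=
    ⟨⟨X, Submodule.mem_top⟩, rfl⟩
  obtain ⟨v₂, hv₂⟩ : ∃ v : ↥(⊤ : Submodule ↥A (PowerSeries k)), (v : PowerSeries k) = X ^ 2 :=
    ⟨⟨X ^ 2, Submodule.mem_top⟩, rfl⟩
  have hspan : Submodule.span ↥A {v₀, v₁, v₂} = ⊤ := by
    rw [_root_.eq_top_iff]
    rintro ⟨f, hf⟩ -
    obtain ⟨a, b, c, ha, hb, hc, hfe⟩ := decomp h f
    rw [Submodule.mem_span_triple]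
    refine ⟨⟨a, ha⟩, ⟨b, hb⟩, ⟨c, hc⟩, ?_⟩
    apply Subtype.ext
    rw [Submodule.coe_add, Submodule.coe_add, Submodule.coe_smul, Submodule.coe_smul,
      Submodule.coe_smul, hv₀, hv₁, hv₂, TwoGenExt.smul_def, TwoGenExt.smul_def,
      TwoGenExt.smul_def]
    change a * 1 + b * X + c * X ^ 2 = f
    rw [hfe]
    ring
  have hιinj : Function.Injective ι := by
    rw [hι]
    exact Subtype.val_injective
  have hιsurj : Function.Surjective ι := by
    rw [hι]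
    intro f
    exact ⟨⟨f, Submodule.mem_top⟩, rfl⟩
  have hv₀' : ι v₀ = 1 := by
    rw [hι]
    exact hv₀
  have hv₁' : ι v₁ = X := by
    rw [hι]
    exact hv₁
  have hv₂' : ι v₂ = X ^ 2 := by
    rw [hι]
    exact hv₂
  have hLF := ThreeGenExt.length_formula (A := A) (Mm := ↥(⊤ : Submodule ↥A (PowerSeries k)))
    (Nm := ↥(⊤ : Submodule ↥A (PowerSeries k))) X (X ^ 2) (X ^ 6) hxA ι ι v₀ v₁ v₂ hx₀ hιinj hιinj
    hv₀' hv₁' hv₂' hspan
  rw [range_Lam4 (Nm := ↥(⊤ : Submodule ↥A (PowerSeries k))) h ι hιsurj,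
    YY4 (Nm := ↥(⊤ : Submodule ↥A (PowerSeries k))) h ι hιsurj,
    ThreeGenExt.length_quot_prod, ThreeGenExt.length_quot_prod,
    length_quot_suppG h (Pge 6) (hPge 6) 6 hcΓ6 (fun s hs => hs),
    length_quot_suppG h (Pge 3) (hPge 3) 6 hcΓ6 (fun s (hs : 6 ≤ s) => (show 3 ≤ s by omega)),
    cardPge, cardPge] at hLF
  have hLF' : ((12 : ℕ) : ℕ∞) = ((6 : ℕ) : ℕ∞) + Module.length ↥A (Abelian.Ext.{u}
      (ModuleCat.of ↥A ↥(⊤ : Submodule ↥A (PowerSeries k)))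
      (ModuleCat.of ↥A ↥(⊤ : Submodule ↥A (PowerSeries k))) 1) := by
    have e12 : ((12 : ℕ) : ℕ∞) = ((6 : ℕ) : ℕ∞) + ((6 : ℕ) : ℕ∞) := by norm_cast
    have e6 : ((6 : ℕ) : ℕ∞) = ((3 : ℕ) : ℕ∞) + ((3 : ℕ) : ℕ∞) := by norm_cast
    rw [e12, hLF, ← e6]
  obtain ⟨E', hE1, hE2⟩ := CubExt.enat_aux hLF'
  rw [hE1]
  congr 1
  omega

end parts

/-- Let k be an algebraically closed field of characteristic zero and A ⊂ k[[t]] the complete local ring
of the E_6 singularity, i.e. the k-subalgebra of power series all of whose exponents lie in the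
semigroup generated by 3 and 4 (A = k[[t³, t⁴]]). Its rank-one torsion-free modules are A, M₁ = A +
A·t⁵, its dual M₁* = A + A·t, M₂ = A + A·t² and M₃ = A + A·t + A·t² = k[[t]], of index 0, 1, 1, 2,
3. Then Ext¹_A(M, M) has length 2·index(M): length 2 for M₁ and for M₁*, 4 for M₂ and 6 for M₃
(length over A equals k-dimension). As End_A(M₁) = End_A(M₁*) = M₁, End_A(M₂) = M₂, End_A(M₃) = M₃
have colength 1, 1, 2, 3 over A, this is the identity χ₁(M) = dim Ext¹(M, M) − dim(End(M)/A) =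
index(M). -/
theorem result (k : Type u) [Field k] [IsAlgClosed k] [CharZero k] (A : Subalgebra k (PowerSeries k)) (hmono : ∀ f : PowerSeries k, f ∈ A ↔ ∀ n : ℕ, PowerSeries.coeff n f ≠ 0 → n ∈ AddSubmonoid.closure ({3, 4} : Set ℕ)) : Module.length ↥A (Abelian.Ext (ModuleCat.of ↥A ↥(Submodule.span ↥A ({1, (PowerSeries.X : PowerSeries k) ^ 5} : Set (PowerSeries k)))) (ModuleCat.of ↥A ↥(Submodule.span ↥A ({1, (PowerSeries.X : PowerSeries k) ^ 5} : Set (PowerSeries k)))) 1) = 2 ∧ Module.length ↥A (Abelian.Ext (ModuleCat.of ↥A ↥(Submodule.span ↥A ({1, (PowerSeries.X : PowerSeries k)} : Set (PowerSeries k)))) (ModuleCat.of ↥A ↥(Submodule.span ↥A ({1, (PowerSeries.X : PowerSeries k)} : Set (PowerSeries k)))) 1) = 2 ∧ Module.length ↥A (Abelian.Ext (ModuleCat.of ↥A ↥(Submodule.span ↥A ({1, (PowerSeries.X : PowerSeries k) ^ 2} : Set (PowerSeries k)))) (ModuleCat.of ↥A ↥(Submodule.span ↥A ({1, (PowerSeries.X :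 PowerSeries k) ^ 2} : Set (PowerSeries k)))) 1) = 4 ∧ Module.length ↥A (Abelian.Ext (ModuleCat.of ↥A ↥(Submodule.span ↥A ({1, (PowerSeries.X : PowerSeries k), (PowerSeries.X : PowerSeries k) ^ 2} : Set (PowerSeries k)))) (ModuleCat.of ↥A ↥(Submodule.span ↥A ({1, (PowerSeries.X : PowerSeries k), (PowerSeries.X : PowerSeries k) ^ 2} : Set (PowerSeries k)))) 1) = 6 := by
  have h : IsMono A Γ6 := fun f => by
    rw [hmono]
    simp only [mem_closure_iff]
  haveI : Module.Finite ↥A (PowerSeries k) := finite_of_isMono h 6 (by omega) hcΓ6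
  haveI : IsLocalRing ↥A := Groth.Agent.Lib.helper15.PSCan.isLocalRing A
  refine ⟨?_, ?_, ?_, ?_⟩
  · exact_mod_cast part h 5 8 6 2 cardZ5 cardY5 rfl
  · have e : ({1, (PowerSeries.X : PowerSeries k)} : Set (PowerSeries k)) =
        {1, (PowerSeries.X : PowerSeries k) ^ 1} := by
      rw [pow_one]
    rw [e]
    exact_mod_cast part h 1 6 4 2 cardZ1 cardY1 rfl
  · exact_mod_cast part h 2 7 3 4 cardZ2 cardY2 rfl
  · rw [span_eq_top h]
    exact_mod_cast part4 h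

end Groth.Agent.S15041
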