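import Groth.Statements.S18934
import Mathlib
-- import your own Groth.Agent.* helpers here

set_option autoImplicit false
universe u
open Synt

namespace Groth.Agent.S18934

open Polynomial TensorProduct in
theorem fibre_aux (A : Type u) [CommRing A] (κ : Type u) [Field κ] [Algebra A κ] (g : A[X])
    (hg : g.Monic) (hdeg : 0 < g.natDegree) :
    ∃ ψ : AdjoinRoot (g.map (algebraMap A κ)) →ₐ[κ] (κ ⊗[A] AdjoinRoot g), Function.Bijective ψ := by
  haveI : Nontrivial A := (algebraMap A κ).domain_nontrivial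
  set T := κ ⊗[A] AdjoinRoot g
  set x : T := (1 : κ) ⊗ₜ AdjoinRoot.root g with hx
  set g' := g.map (algebraMap A κ) with hg'
  have hg'm : g'.Monic := hg.map _
  have hg'deg : g'.natDegree = g.natDegree := hg.natDegree_map _
  have hroot : aeval x g' = 0 := by
    rw [hg', aeval_map_algebraMap]
    have : x = (Algebra.TensorProduct.includeRight : AdjoinRoot g →ₐ[A] T) (AdjoinRoot.root g) := rfl
    rw [this, aeval_algHom_apply, AdjoinRoot.aeval_eq, AdjoinRoot.mk_self, map_zero]
  let ψ : AdjoinRoot g' →ₐ[κ] T := AdjoinRoot.liftAlgHom g' (Algebra.ofId κ T) x (by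
    rw [← hroot, aeval_def]; rfl)
  have hψroot : ψ (AdjoinRoot.root g') = x := AdjoinRoot.liftAlgHom_root _ _ _ _
  have hsurj : Function.Surjective ψ := by
    intro t
    induction t using TensorProduct.induction_on with
    | zero => exact ⟨0, map_zero _⟩
    | add t₁ t₂ h₁ h₂ =>
      obtain ⟨y₁, rfl⟩ := h₁
      obtain ⟨y₂, rfl⟩ := h₂
      exact ⟨y₁ + y₂, map_add _ _ _⟩
    | tmul c s =>
      obtain ⟨f, rfl⟩ := AdjoinRoot.mk_surjective s
      refine ⟨c • AdjoinRoot.mk g' (f.map (algebraMap A κ)), ?_⟩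
      rw [map_smul]
      have h1 : ψ (AdjoinRoot.mk g' (f.map (algebraMap A κ))) = aeval x (f.map (algebraMap A κ)) := by
        rw [← AdjoinRoot.aeval_eq, ← aeval_algHom_apply, hψroot]
      rw [h1, aeval_map_algebraMap]
      have : x = (Algebra.TensorProduct.includeRight : AdjoinRoot g →ₐ[A] T) (AdjoinRoot.root g) := rfl
      rw [this, aeval_algHom_apply, AdjoinRoot.aeval_eq, Algebra.TensorProduct.includeRight_apply,
        TensorProduct.smul_tmul', smul_eq_mul, mul_one]
  haveI : Module.Free A (AdjoinRoot g) := hg.free_adjoinRoot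
  haveI : Module.Finite A (AdjoinRoot g) := hg.finite_adjoinRoot
  haveI : Module.Finite κ (AdjoinRoot g') := hg'm.finite_adjoinRoot
  have hrank : Module.finrank κ (AdjoinRoot g') = Module.finrank κ T := by
    rw [Module.finrank_baseChange, (AdjoinRoot.powerBasis' hg).finrank,
      (AdjoinRoot.powerBasis' hg'm).finrank, AdjoinRoot.powerBasis'_dim, AdjoinRoot.powerBasis'_dim,
      hg'deg]
  refine ⟨ψ, ?_, hsurj⟩
  exact (LinearMap.injective_iff_surjective_of_finrank_eq_finrank (f := ψ.toLinearMap) hrank).mpr hsurj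

open Polynomial TensorProduct in
theorem isLCIOver_aux (A : Type u) [CommRing A] (κ : Type u) [Field κ] [Algebra A κ] (g : A[X])
    (hg : g.Monic) (hdeg : 0 < g.natDegree) :
    Synt.IsLCIOver κ (κ ⊗[A] AdjoinRoot g) := by
  haveI : Nontrivial A := (algebraMap A κ).domain_nontrivial
  set T := κ ⊗[A] AdjoinRoot g
  set g' := g.map (algebraMap A κ) with hg'
  obtain ⟨ψ, hψ⟩ : ∃ ψ : AdjoinRoot g' →ₐ[κ] T, Function.Bijective ψ := fibre_aux A κ g hg hdeg
  have hg'm : g'.Monic := hg.map _
  have hg'deg : g'.natDegree = g.natDegree := hg.natDegree_map _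
  haveI : Module.Finite A (AdjoinRoot g) := hg.finite_adjoinRoot
  haveI : Module.Free A (AdjoinRoot g) := hg.free_adjoinRoot
  haveI : Module.Finite κ T := inferInstance
  have hfr : Module.finrank κ T = g.natDegree := by
    rw [Module.finrank_baseChange, (AdjoinRoot.powerBasis' hg).finrank, AdjoinRoot.powerBasis'_dim]
  haveI : Nontrivial T := Module.nontrivial_of_finrank_pos (R := κ) (by rw [hfr]; exact hdeg)
  haveI : IsArtinianRing T := IsArtinianRing.of_finite κ T
  have hdimT : ringKrullDim T = 0 := ringKrullDimZero_iff_ringKrullDim_eq_zero.mp inferInstance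
  refine ⟨inferInstance, fun q => ⟨1, ?_, Or.inr ⟨1, 1, le_rfl, ?_⟩⟩⟩
  · exact fun h => q.2.ne_top ((Ideal.eq_top_iff_one _).mpr h)
  set L := Localization.Away (1 : T)
  let ι : T ≃ₐ[T] L := IsLocalization.atOne T L
  let e : MvPolynomial (Fin 1) κ ≃ₐ[κ] κ[X] := MvPolynomial.uniqueAlgEquiv κ (Fin 1)
  let φ : MvPolynomial (Fin 1) κ →ₐ[κ] L :=
    ((ι.toAlgHom.restrictScalars κ).comp ψ).comp ((AdjoinRoot.mkₐ g').comp e.toAlgHom)
  refine ⟨φ, fun _ => e.symm g', ?_, ?_, ?_⟩
  · intro y
    obtain ⟨t, rfl⟩ := ι.surjective y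
    obtain ⟨z, rfl⟩ := hψ.2 t
    obtain ⟨f, rfl⟩ := AdjoinRoot.mk_surjective z
    exact ⟨e.symm f, by simp [φ]⟩
  · have hconst : Set.range (fun _ : Fin 1 => e.symm g') = {e.symm g'} := Set.range_const
    rw [hconst]
    ext f
    have h1 : φ f = ι (ψ (AdjoinRoot.mk g' (e f))) := rfl
    rw [RingHom.mem_ker]
    change φ f = 0 ↔ _
    rw [h1, map_eq_zero_iff _ ι.injective, map_eq_zero_iff _ hψ.1, AdjoinRoot.mk_eq_zero,
      Ideal.mem_span_singleton]
    constructor
    · rintro ⟨h, hh⟩
      refine ⟨e.symm h, ?_⟩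
      rw [← map_mul, ← hh, AlgEquiv.symm_apply_apply]
    · rintro ⟨h, hh⟩
      refine ⟨e h, ?_⟩
      rw [hh, map_mul, AlgEquiv.apply_symm_apply]
  · rw [← ringKrullDim_eq_of_ringEquiv ι.toRingEquiv, hdimT]; rfl

open Polynomial in
/-- Let p be a prime, A a commutative ring and a an element of A. Then the A-algebra A[T]/(T^p − a) is
syntomic and faithfully flat over A. This is the step of the source's proof showing that adjoining a
p-th root of any element is a covering for the syntomic topology. -/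
theorem result (p : ℕ) [Fact p.Prime]
    (A : Type u) [CommRing A] (a : A) :
    Synt.IsSyntomic A (AdjoinRoot (X ^ p - C a)) ∧ Module.FaithfullyFlat A (AdjoinRoot (X ^ p - C a)) := by
  have hp : 0 < p := (Fact.out : p.Prime).pos
  rcases subsingleton_or_nontrivial A with hA | hA
  · haveI : Subsingleton (AdjoinRoot (X ^ p - C a : A[X])) :=
      (algebraMap A (AdjoinRoot (X ^ p - C a : A[X]))).codomain_trivial
    refine ⟨⟨inferInstance, ?_, fun q => ?_⟩, ?_⟩
    · exact Algebra.FinitePresentation.of_surjective (f := Algebra.ofId A _)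
        (fun y => ⟨0, Subsingleton.elim _ _⟩) (by
          have : RingHom.ker (Algebra.ofId A (AdjoinRoot (X ^ p - C a : A[X]))).toRingHom = ⊥ :=
            Subsingleton.elim _ _
          rw [this]; exact Submodule.fg_bot)
    · exact absurd (inferInstance : Subsingleton A) (not_subsingleton_iff_nontrivial.mpr
        ⟨⟨0, 1, fun h => q.2.ne_top ((Ideal.eq_top_iff_one _).mpr (h ▸ q.asIdeal.zero_mem))⟩⟩)
    · exact ⟨fun m hm => absurd (Subsingleton.elim m ⊤) hm.ne_top⟩
  have hmonic : (X ^ p - C a : A[X]).Monic := monic_X_pow_sub_C a hp.ne'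
  have hdeg : (X ^ p - C a : A[X]).natDegree = p := natDegree_X_pow_sub_C
  haveI : Module.Free A (AdjoinRoot (X ^ p - C a : A[X])) := hmonic.free_adjoinRoot
  haveI : Module.Finite A (AdjoinRoot (X ^ p - C a : A[X])) := hmonic.finite_adjoinRoot
  haveI : Nontrivial (AdjoinRoot (X ^ p - C a : A[X])) :=
    Module.nontrivial_of_finrank_pos (R := A) (by
      rw [(AdjoinRoot.powerBasis' hmonic).finrank, AdjoinRoot.powerBasis'_dim, hdeg]; exact hp)
  refine ⟨⟨inferInstance, ?_, fun q => ?_⟩, inferInstance⟩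
  · exact Algebra.FinitePresentation.quotient (Submodule.fg_span_singleton _)
  · exact isLCIOver_aux A q.asIdeal.ResidueField _ hmonic (by rw [hdeg]; exact hp)

end Groth.Agent.S18934
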