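import Groth.Statements.S15044
import Groth.Agent.LibSyntComp29
import Groth.Agent.LibKoszulSynt29
import Groth.Agent.S18934
import Groth.Agent.S9699
-- import your own Groth.Agent.* helpers here

set_option autoImplicit false
open CategoryTheory AlgebraicGeometry
universe u
open Quiet

namespace Groth.Agent.S15044

open Groth.Agent.LibSyntHomProp29

theorem isSyntomic_of_isRootTower (p : ℕ) [Fact p.Prime] : ∀ (n : ℕ) (A B : Type u) [CommRing A]
    [CommRing B] [Algebra A B], Quiet.IsRootTower p n A B → Synt.IsSyntomic A B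
  | 0, A, B, _, _, _ => by
    rintro ⟨e⟩
    exact Groth.Agent.LibSyntTransport29.isSyntomic_of_algEquiv e.symm
      (Groth.Agent.S9699.isSyntomic_of_smooth A A)
  | n + 1, A, B, _, _, _ => by
    rintro ⟨a, alg, htower, h⟩
    have h1 := isSyntomic_of_isRootTower p n (Quiet.RootRing p A a) B h
    have h2 := (Groth.Agent.S18934.result p A a).1
    exact Groth.Agent.LibSyntComp29.isSyntomic_trans A (Quiet.RootRing p A a) B h2 h1

theorem isSyntomicMor_of_isPthRoot (p : ℕ) [Fact p.Prime] {X Y : Scheme.{u}} (f : Y ⟶ X)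
    (hf : Quiet.IsPthRoot p f) : Synt.IsSyntomicMor f := by
  intro y
  obtain ⟨U, hxU, haff, n, hn⟩ := hf (f.base y)
  refine ⟨⟨f ⁻¹ᵁ U.1, haff⟩, U, le_rfl, hxU, ?_⟩
  have heq : f.app U.1 = f.appLE U.1 (f ⁻¹ᵁ U.1) le_rfl := Scheme.Hom.app_eq_appLE f
  have h := @isSyntomic_of_isRootTower p _ n Γ(X, U.1) Γ(Y, f ⁻¹ᵁ U.1) _ _
    (f.app U.1).hom.toAlgebra hn
  rw [heq] at h
  exact h


/-- Over a scheme `X` of prime characteristic `p`, a quasi-etale morphism `f : Y ⟶ X` (locally on the
source an extraction of `p`-th roots followed by an etale morphism) is syntomic: every point of `Y`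
has an affine open neighbourhood mapping into an affine open of `X` such that the induced ring map
is flat, finitely presented and has local complete intersection fibres. -/
theorem result (p : ℕ) [Fact p.Prime] {X Y : Scheme.{u}} [FrobSch.IsCharP X p]
    (f : Y ⟶ X) (hf : Quiet.IsQuiet p f) : Synt.IsSyntomicMor f := by
  intro y
  obtain ⟨V, Y', r, e, hyV, hr, he, hfac⟩ := hf y
  have h1 : Synt.IsSyntomicMor r := isSyntomicMor_of_isPthRoot p r hr
  have h2 : Synt.IsSyntomicMor e := Groth.Agent.S9699.result e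
  have h3 : Synt.IsSyntomicMor (V.ι ≫ f) := by
    rw [← hfac]
    exact Groth.Agent.LibSyntComp29.isSyntomicMor_comp r e h1 h2
  exact Groth.Agent.LibKoszulSynt29.isSyntomicAt_of_ι_comp f V ⟨y, hyV⟩ (h3 ⟨y, hyV⟩)

end Groth.Agent.S15044
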