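import Groth.Statements.S15045
import Mathlib
import Groth.Agent.Lib.Helper8.QuietSch1
import Groth.Agent.Lib.Helper8.QuietSch2
import Groth.Agent.Lib.Helper8.QuietLift
-- import your own Groth.Agent.* helpers here

set_option autoImplicit false
open CategoryTheory AlgebraicGeometry
universe u
open Quiet

namespace Groth.Agent.S15045
open Groth.Agent.Lib.helper8.QuietR Groth.Agent.Lib.helper8.QuietS CategoryTheory.Limits Opposite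

theorem QA_shrink (p n : ℕ) {Y Y' X : Scheme.{u}} (f : Y ⟶ X) (e : Y' ⟶ X) {V : Y.Opens}
    (hV : IsAffineOpen V) {U' : Y'.Opens} (hU' : IsAffineOpen U') (ψ : Γ(Y', U') ⟶ Γ(Y, V))
    (hT : Tower p n Γ(Y', U') Γ(Y, V) ψ.hom)
    (hc : Spec.map ψ ≫ hU'.fromSpec ≫ e = hV.fromSpec ≫ f) (w : Spec Γ(Y, V)) (s : Γ(Y', U'))
    (hs : Spec.map ψ w ∈ PrimeSpectrum.basicOpen s) :
    ∃ γ : Γ(Y', Y'.basicOpen s) ⟶ Γ(Y, Y.basicOpen (ψ.hom s)),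
      Tower p n Γ(Y', Y'.basicOpen s) Γ(Y, Y.basicOpen (ψ.hom s)) γ.hom ∧
      Spec.map γ ≫ (hU'.basicOpen s).fromSpec ≫ e = (hV.basicOpen (ψ.hom s)).fromSpec ≫ f ∧
      hV.fromSpec w ∈ Y.basicOpen (ψ.hom s) := by
  obtain ⟨γ, hγT, hγc⟩ := tower_shrink p n hV hU' ψ hT s
  refine ⟨γ, hγT, ?_, ?_⟩
  · calc Spec.map γ ≫ (hU'.basicOpen s).fromSpec ≫ e
        = (Spec.map γ ≫ (hU'.basicOpen s).fromSpec) ≫ e := by rw [Category.assoc]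
      _ = Spec.map (Y.presheaf.map (homOfLE (Y.basicOpen_le (ψ.hom s))).op) ≫
            (Spec.map ψ ≫ hU'.fromSpec ≫ e) := by rw [hγc]; simp only [Category.assoc]
      _ = (hV.basicOpen (ψ.hom s)).fromSpec ≫ f := by
          rw [hc, ← hV.map_fromSpec (hV.basicOpen (ψ.hom s))
            (homOfLE (Y.basicOpen_le (ψ.hom s))).op]
          simp only [Category.assoc]
  · have h2 : w ∈ PrimeSpectrum.basicOpen (ψ.hom s) := hs
    rw [← hV.fromSpec_preimage_basicOpen] at h2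
    exact h2

theorem ker_app_le_nilradical {T U : Scheme.{u}} (i : U ⟶ T) [Surjective i] (T₀ : T.Opens)
    (hT₀ : IsAffineOpen T₀) : RingHom.ker (i.app T₀).hom ≤ nilradical Γ(T, T₀) := by
  intro x hx
  rw [RingHom.mem_ker] at hx
  rw [mem_nilradical, ← PrimeSpectrum.basicOpen_eq_bot_iff, ← hT₀.fromSpec_preimage_basicOpen]
  have hbot : T.basicOpen x = ⊥ := by
    rw [eq_bot_iff]
    intro t ht
    obtain ⟨u', rfl⟩ := i.surjective t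
    have : u' ∈ i ⁻¹ᵁ (T.basicOpen x) := ht
    rw [Scheme.preimage_basicOpen, hx, Scheme.basicOpen_zero] at this
    exact this
  rw [hbot]
  rfl

theorem exists_standardEtale_shrink {Y X : Scheme.{u}} (e : Y ⟶ X) [Etale e] {U : X.Opens}
    (hU : IsAffineOpen U) {W : Y.Opens} (hW : IsAffineOpen W) (hWU : W ≤ e ⁻¹ᵁ U)
    (P : Ideal Γ(Y, W)) [P.IsPrime] :
    ∃ (f₀ : Γ(Y, W)) (hle : Y.basicOpen f₀ ≤ e ⁻¹ᵁ U), f₀ ∉ P ∧
      @Algebra.IsStandardEtale Γ(X, U) Γ(Y, Y.basicOpen f₀) _ _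
        (e.appLE U (Y.basicOpen f₀) hle).hom.toAlgebra := by
  have hε : (e.appLE U W hWU).hom.Etale :=
    HasRingHomProperty.appLE (P := @Etale) e inferInstance ⟨_, hU⟩ ⟨_, hW⟩ hWU
  letI alg1 := (e.appLE U W hWU).hom.toAlgebra
  haveI : Algebra.Etale Γ(X, U) Γ(Y, W) := hε
  haveI : Algebra.FormallyEtale Γ(Y, W) (Localization.AtPrime P) :=
    .of_isLocalization P.primeCompl
  haveI : Algebra.IsEtaleAt Γ(X, U) P :=
    Algebra.FormallyEtale.comp Γ(X, U) Γ(Y, W) _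
  obtain ⟨f₀, hf₀, h⟩ := Algebra.IsEtaleAt.exists_isStandardEtale (R := Γ(X, U)) P
  have hle : Y.basicOpen f₀ ≤ e ⁻¹ᵁ U := (Y.basicOpen_le f₀).trans hWU
  refine ⟨f₀, hle, hf₀, ?_⟩
  letI alg2 := (e.appLE U (Y.basicOpen f₀) hle).hom.toAlgebra
  haveI : IsScalarTower Γ(X, U) Γ(Y, W) Γ(Y, Y.basicOpen f₀) := by
    refine IsScalarTower.of_algebraMap_eq' ?_
    simp only [RingHom.algebraMap_toAlgebra]
    rw [← CommRingCat.hom_comp, Scheme.Hom.appLE_map]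
  haveI := hW.isLocalization_basicOpen f₀
  exact Algebra.IsStandardEtale.of_equiv
    ((IsLocalization.algEquiv (Submonoid.powers f₀) (Localization.Away f₀)
      Γ(Y, Y.basicOpen f₀)).restrictScalars Γ(X, U))

theorem pullback_assemble {T U U' Y₁ : Scheme.{u}} (i : U ⟶ T) (f' : U' ⟶ U) (e₁ : Y₁ ⟶ U)
    {T₀ : T.Opens} (hT₀ : IsAffineOpen T₀) (hU₀ : IsAffineOpen (i ⁻¹ᵁ T₀))
    {W₃ : Y₁.Opens} (hW₃ : IsAffineOpen W₃) (hle : W₃ ≤ e₁ ⁻¹ᵁ (i ⁻¹ᵁ T₀))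
    {V₃ : U'.Opens} (hV₃ : IsAffineOpen V₃)
    (γ₂ : Γ(Y₁, W₃) ⟶ Γ(U', V₃))
    (hγ₂c : Spec.map γ₂ ≫ hW₃.fromSpec ≫ e₁ = hV₃.fromSpec ≫ f')
    {A' E' : CommRingCat.{u}} (φ : Γ(T, T₀) ⟶ A') (π₂ : A' ⟶ Γ(Y₁, W₃)) (ψ' : A' ⟶ E')
    (π₃ : E' ⟶ Γ(U', V₃))
    (hPO₂ : IsPushout φ (i.app T₀) π₂ (e₁.appLE (i ⁻¹ᵁ T₀) W₃ hle))
    (hPO₃ : IsPushout ψ' π₂ π₃ γ₂) :
    IsPullback (hV₃.isoSpec.hom ≫ Spec.map π₃) (V₃.ι ≫ f')
      (Spec.map ψ' ≫ Spec.map φ ≫ hT₀.fromSpec) i := by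
  have Sq1 := isPullback_SpecMap_of_isPushout _ _ _ _ hPO₃
  have Sq2 := isPullback_SpecMap_of_isPushout _ _ _ _ hPO₂
  have Sq3 : IsPullback (Spec.map (i.app T₀)) hU₀.fromSpec hT₀.fromSpec i := by
    apply IsOpenImmersion.isPullback
    · rw [Scheme.Hom.app_eq_appLE]
      exact (IsAffineOpen.SpecMap_appLE_fromSpec i hT₀ hU₀ le_rfl).symm
    · rw [hT₀.opensRange_fromSpec, hU₀.opensRange_fromSpec]
  have Sq123 := (Sq1.paste_vert Sq2).paste_vert Sq3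
  have hleft : V₃.ι ≫ f' = hV₃.isoSpec.hom ≫
      ((Spec.map γ₂ ≫ Spec.map (e₁.appLE (i ⁻¹ᵁ T₀) W₃ hle)) ≫ hU₀.fromSpec) := by
    rw [Category.assoc, IsAffineOpen.SpecMap_appLE_fromSpec e₁ hU₀ hW₃ hle, hγ₂c,
      ← Category.assoc, hV₃.isoSpec_hom_fromSpec]
  have Sq0 : IsPullback hV₃.isoSpec.hom (V₃.ι ≫ f')
      ((Spec.map γ₂ ≫ Spec.map (e₁.appLE (i ⁻¹ᵁ T₀) W₃ hle)) ≫ hU₀.fromSpec) (𝟙 U) :=
    IsPullback.of_horiz_isIso ⟨by rw [Category.comp_id, hleft]⟩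
  have := Sq0.paste_horiz Sq123
  rw [Category.id_comp] at this
  simpa only [Category.assoc] using this

theorem main (p : ℕ) [Fact p.Prime] {T U U' : Scheme.{u}}
    [FrobSch.IsCharP T p] (i : U ⟶ T) [IsClosedImmersion i] [Surjective i] (f' : U' ⟶ U)
    (hf' : Quiet.IsQuiet p f') (u : U') :
    ∃ (V : U'.Opens) (T' : Scheme.{u}) (q : T' ⟶ T) (j : (V : Scheme.{u}) ⟶ T'),
      u ∈ V ∧ Quiet.IsQuiet p q ∧ IsPullback j (V.ι ≫ f') q i := by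
  obtain ⟨V₁, hV₁, Y₁, e₁, W₁, hW₁, ψ₁, n, hu, he₁, hT₁, hc₁⟩ := QA_of_quiet p f' hf' u
  obtain ⟨T₀, hT₀, hxT₀, -⟩ := exists_isAffineOpen_mem_and_subset (x := i (f' u)) (U := ⊤) trivial
  have hU₀ : IsAffineOpen (i ⁻¹ᵁ T₀) := hT₀.preimage i
  -- first shrink
  obtain ⟨w, hw⟩ : ∃ w, hV₁.fromSpec w = u := by
    have : u ∈ Set.range hV₁.fromSpec := by rw [hV₁.range_fromSpec]; exact hu
    exact this
  have hey₁ : e₁ (hW₁.fromSpec (Spec.map ψ₁ w)) = f' u := by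
    have := congrArg (fun φ => φ w) hc₁
    simp only [Scheme.Hom.comp_apply] at this
    rw [this, hw]
  have hy₁N : hW₁.fromSpec (Spec.map ψ₁ w) ∈ e₁ ⁻¹ᵁ (i ⁻¹ᵁ T₀) := by
    show i (e₁ _) ∈ T₀
    rw [hey₁]; exact hxT₀
  have hy₁W : hW₁.fromSpec (Spec.map ψ₁ w) ∈ W₁ := by
    have : hW₁.fromSpec (Spec.map ψ₁ w) ∈ Set.range hW₁.fromSpec := ⟨_, rfl⟩
    rwa [hW₁.range_fromSpec] at this
  obtain ⟨s, hsN, hys⟩ := hW₁.exists_basicOpen_le (V := e₁ ⁻¹ᵁ (i ⁻¹ᵁ T₀)) ⟨_, hy₁N⟩ hy₁W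
  have hs' : Spec.map ψ₁ w ∈ PrimeSpectrum.basicOpen s := by
    have h1 : Spec.map ψ₁ w ∈ hW₁.fromSpec ⁻¹ᵁ (Y₁.basicOpen s) := hys
    rwa [hW₁.fromSpec_preimage_basicOpen] at h1
  obtain ⟨γ, hγT, hγc, hmem⟩ := QA_shrink p n f' e₁ hV₁ hW₁ ψ₁ hT₁ hc₁ w s hs'
  rw [hw] at hmem
  have hV₂ := hV₁.basicOpen (ψ₁.hom s)
  have hW₂ := hW₁.basicOpen s
  -- the étale ring map into `Γ(Y₁, W₂)`
  have hε : (e₁.appLE (i ⁻¹ᵁ T₀) (Y₁.basicOpen s) hsN).hom.Etale :=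
    HasRingHomProperty.appLE (P := @Etale) e₁ he₁ ⟨_, hU₀⟩ ⟨_, hW₂⟩ hsN
  obtain ⟨w₂, hw₂⟩ : ∃ w₂, hV₂.fromSpec w₂ = u := by
    have : u ∈ Set.range hV₂.fromSpec := by rw [hV₂.range_fromSpec]; exact hmem
    exact this
  -- standard étale locus
  haveI : Etale e₁ := he₁
  obtain ⟨f₀, hle, hf₀Q, hstd⟩ :=
    exists_standardEtale_shrink e₁ hU₀ hW₂ hsN (Spec.map γ w₂).asIdeal
  -- second shrink
  obtain ⟨γ₂, hγ₂T, hγ₂c, hmem₂⟩ := QA_shrink p n f' e₁ hV₂ hW₂ γ hγT hγc w₂ f₀ hf₀Q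
  rw [hw₂] at hmem₂
  have hV₃ := hV₂.basicOpen (γ.hom f₀)
  have hW₃ := hW₂.basicOpen f₀
  -- the lifts
  have hπ : Function.Surjective (i.app T₀).hom := i.app_surjective T₀ hT₀
  have hnil := ker_app_le_nilradical i T₀ hT₀
  letI alg := (e₁.appLE (i ⁻¹ᵁ T₀) (Y₁.basicOpen f₀) hle).hom.toAlgebra
  obtain ⟨A', _, φ, π₂, hφ, hπ₂, hPO₂⟩ :=
    exists_lift_standardEtale (i.app T₀).hom hπ hnil Γ(Y₁, Y₁.basicOpen f₀)
  obtain ⟨E', _, ψ', π₃, hψ'T, hPO₃⟩ :=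
    exists_lift_tower p n A' Γ(Y₁, Y₁.basicOpen f₀) Γ(U', U'.basicOpen (γ.hom f₀)) π₂ hπ₂
      γ₂.hom hγ₂T
  have hPB := pullback_assemble i f' e₁ hT₀ hU₀ hW₃ hle hV₃ γ₂ hγ₂c
    (CommRingCat.ofHom φ) (CommRingCat.ofHom π₂) (CommRingCat.ofHom ψ') (CommRingCat.ofHom π₃)
    hPO₂ hPO₃
  refine ⟨U'.basicOpen (γ.hom f₀), Spec (CommRingCat.of E'),
    Spec.map (CommRingCat.ofHom ψ') ≫ Spec.map (CommRingCat.ofHom φ) ≫ hT₀.fromSpec,
    hV₃.isoSpec.hom ≫ Spec.map (CommRingCat.ofHom π₃), hmem₂, ?_, hPB⟩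
  apply quiet_of_QS
  intro y
  haveI : Etale (Spec.map (CommRingCat.ofHom φ)) :=
    (HasRingHomProperty.Spec_iff (P := @Etale)).mpr hφ
  refine ⟨CommRingCat.of E', CommRingCat.of A', 𝟙 _, inferInstance,
    Spec.map (CommRingCat.ofHom φ) ≫ hT₀.fromSpec, CommRingCat.ofHom ψ', n, ⟨y, rfl⟩,
    inferInstance, hψ'T, ?_⟩
  rw [Category.id_comp]


/-- Let `T` be a scheme of prime characteristic `p`, `i : U ⟶ T` a closed immersion which is surjective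
on points, and `f' : U' ⟶ U` quasi-etale (locally on `U'` an extraction of `p`-th roots followed by
an etale morphism). Then every point of `U'` has an open neighbourhood `V` which is the base change
along `i` of a quasi-etale `T`-scheme: there are a quasi-etale `q : T' ⟶ T` and `j : V ⟶ T'` making
`V`, with `j` and `V ⟶ U' ⟶ U`, the fibre product of `q` and `i`. (The published statement asks `U ⟶
T` to be a closed nil-immersion, a term it does not define; this row takes any closed immersion that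
is surjective on points, which is all the printed argument uses.) -/
theorem result (p : ℕ) [Fact p.Prime] {T U U' : Scheme.{u}}
    [FrobSch.IsCharP T p] (i : U ⟶ T) [IsClosedImmersion i] [Surjective i] (f' : U' ⟶ U)
    (hf' : Quiet.IsQuiet p f') (u : U') :
    ∃ (V : U'.Opens) (T' : Scheme.{u}) (q : T' ⟶ T) (j : (V : Scheme.{u}) ⟶ T'),
      u ∈ V ∧ Quiet.IsQuiet p q ∧ IsPullback j (V.ι ≫ f') q i := by
  exact main p i f' hf' u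

end Groth.Agent.S15045
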