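import Groth.Statements.S15046
import Mathlib
import Groth.Agent.Lib.Helper8.QuietFrob1
-- import your own Groth.Agent.* helpers here

set_option autoImplicit false
open CategoryTheory AlgebraicGeometry
universe u
open Quiet

namespace Groth.Agent.S15046
open Groth.Agent.Lib.helper8.QuietR CategoryTheory.Limits Opposite

theorem main' (p : ℕ) [Fact p.Prime]
    (k : Type u) [Field k] [CharP k p] [PerfectRing k p] (R : CommRingCat.{u}) [Algebra k R]
    [CharP R p] [Algebra.Smooth k R] (F : R ⟶ R) (hF : F.hom = frobenius R p) :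
    Quiet.IsPthRoot p (Spec.map F) := by
  intro x
  obtain ⟨f, hfq, n, hL⟩ := tower_of_frobenius_localization p k R x.asIdeal
  have hU : IsAffineOpen (X := Spec R) (PrimeSpectrum.basicOpen f) :=
    IsAffineOpen.Spec_basicOpen f
  have hFf : F.hom f = f ^ p := by rw [hF, frobenius_def]
  have hpre : (Spec.map F) ⁻¹ᵁ (PrimeSpectrum.basicOpen f) = PrimeSpectrum.basicOpen (f ^ p) := by
    rw [← hFf]; rfl
  have hU' : IsAffineOpen ((Spec.map F) ⁻¹ᵁ (PrimeSpectrum.basicOpen f)) := by
    rw [hpre]; exact IsAffineOpen.Spec_basicOpen (f ^ p)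
  refine ⟨⟨PrimeSpectrum.basicOpen f, hU⟩, hfq, hU', ?_⟩
  letI := ((Spec.map F).app (PrimeSpectrum.basicOpen f)).hom.toAlgebra
  refine ⟨n, (tower_iff p n _ _).mpr ?_⟩
  haveI l2 : IsLocalization.Away (f ^ p) Γ(Spec R, (Spec.map F) ⁻¹ᵁ (PrimeSpectrum.basicOpen f)) := by
    rw [hpre]; infer_instance
  refine hL Γ(Spec R, PrimeSpectrum.basicOpen f)
    Γ(Spec R, (Spec.map F) ⁻¹ᵁ (PrimeSpectrum.basicOpen f))
    ((Spec.map F).app (PrimeSpectrum.basicOpen f)).hom ?_
  have nat := Scheme.ΓSpecIso_inv_naturality F
  have key : ((Scheme.ΓSpecIso R).inv ≫ (Spec R).presheaf.map (homOfLE le_top).op) ≫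
      (Spec.map F).app (PrimeSpectrum.basicOpen f) =
      F ≫ ((Scheme.ΓSpecIso R).inv ≫ (Spec R).presheaf.map (homOfLE le_top).op) := by
    rw [← Category.assoc, nat, Category.assoc, Category.assoc]
    congr 1
  have := congrArg CommRingCat.Hom.hom key
  rw [CommRingCat.hom_comp, CommRingCat.hom_comp, CommRingCat.hom_comp, hF] at this
  exact this

theorem main (p : ℕ) [Fact p.Prime]
    (k : Type u) [Field k] [CharP k p] [PerfectRing k p] (A : Type u) [CommRing A] [Algebra k A]
    [CharP A p] [Algebra.Smooth k A] :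
    (frobenius A p).FaithfullyFlat ∧
      Quiet.IsPthRoot p (Spec.map (CommRingCat.ofHom (frobenius A p))) :=
  ⟨faithfullyFlat_frobenius_of_smooth p k A,
    main' p k (CommRingCat.of A) (CommRingCat.ofHom (frobenius A p)) rfl⟩


/-- Let `k` be a perfect field of prime characteristic `p` and `A` a smooth `k`-algebra of
characteristic `p`. Then the Frobenius endomorphism `a ↦ a ^ p` of `A` is faithfully flat, and the
endomorphism of `Spec A` it induces is an extraction of `p`-th roots: every point has an affine open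
neighbourhood with affine preimage over which the induced ring map is a tower of finitely many
elementary extractions `B → B[x]/(x^p - b)`. -/
theorem result (p : ℕ) [Fact p.Prime]
    (k : Type u) [Field k] [CharP k p] [PerfectRing k p] (A : Type u) [CommRing A] [Algebra k A]
    [CharP A p] [Algebra.Smooth k A] :
    (frobenius A p).FaithfullyFlat ∧
      Quiet.IsPthRoot p (Spec.map (CommRingCat.ofHom (frobenius A p))) := by
  exact main p k A

end Groth.Agent.S15046
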