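import Groth.Statements.S15047
import Mathlib.RingTheory.Flat.FaithfullyFlat.Algebra
-- import your own Groth.Agent.* helpers here

set_option autoImplicit false
universe u
open TensorProduct
open Desc

namespace Groth.Agent.S15047

section
variable (A A' : Type u) [CommRing A] [CommRing A'] [Algebra A A']
  (N : Type u) [AddCommGroup N] [Module A N]

/-- the difference map `A' ⊗ N → (A' ⊗ A') ⊗ N` -/
noncomputable def dd : A' ⊗[A] N →ₗ[A] (A' ⊗[A] A') ⊗[A] N :=
  LinearMap.rTensor N (Algebra.TensorProduct.includeLeft : A' →ₐ[A] A' ⊗[A] A').toLinearMap -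
    LinearMap.rTensor N (Algebra.TensorProduct.includeRight : A' →ₐ[A] A' ⊗[A] A').toLinearMap

/-- contraction `A' ⊗ (A' ⊗ N) → A' ⊗ N` -/
noncomputable def mu : A' ⊗[A] (A' ⊗[A] N) →ₗ[A] A' ⊗[A] N :=
  (LinearMap.mul' A A').rTensor N ∘ₗ (TensorProduct.assoc A A' A' N).symm.toLinearMap

/-- contraction `A' ⊗ ((A' ⊗ A') ⊗ N) → A' ⊗ (A' ⊗ N)` -/
noncomputable def sg : A' ⊗[A] ((A' ⊗[A] A') ⊗[A] N) →ₗ[A] A' ⊗[A] (A' ⊗[A] N) :=
  (LinearMap.mul' A A').rTensor (A' ⊗[A] N) ∘ₗ
    (TensorProduct.assoc A A' A' (A' ⊗[A] N)).symm.toLinearMap ∘ₗ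
      LinearMap.lTensor A' (TensorProduct.assoc A A' A' N).toLinearMap

theorem homotopy :
    LinearMap.lTensor A' (TensorProduct.mk A A' N 1) ∘ₗ mu A A' N -
      sg A A' N ∘ₗ LinearMap.lTensor A' (dd A A' N) = LinearMap.id := by
  ext a b n
  simp [mu, sg, dd]

theorem exact_amitsur [Module.FaithfullyFlat A A'] :
    Function.Exact (TensorProduct.mk A A' N 1) (dd A A' N) := by
  apply Module.FaithfullyFlat.lTensor_reflects_exact A A'
  intro y
  constructor
  · intro hy
    refine ⟨mu A A' N y, ?_⟩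
    have := congrArg (fun f => f y) (homotopy A A' N)
    simp only [LinearMap.sub_apply, LinearMap.comp_apply, LinearMap.id_apply, hy, map_zero,
      sub_zero] at this
    exact this
  · rintro ⟨x, rfl⟩
    rw [← LinearMap.comp_apply, ← LinearMap.lTensor_comp]
    have : dd A A' N ∘ₗ TensorProduct.mk A A' N 1 = 0 := by
      ext n
      simp [dd]
    rw [this, LinearMap.lTensor_zero, LinearMap.zero_apply]

end

/-- Let A → A' be a faithfully flat homomorphism of commutative rings and M, N any A-modules. An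
A'-linear map f : A' ⊗_A M → A' ⊗_A N whose two base changes to A' ⊗_A A' (along a ↦ a ⊗ 1 and a ↦ 1
⊗ a) coincide is the base change of a unique A-linear map h : M → N. Since (A' ⊗_A A') ⊗_A M is
generated over A' ⊗_A A' by the elements 1 ⊗ m, the agreement of the two base changes is stated on
these generators: for every m, the two images of f (1 ⊗ m) in (A' ⊗_A A') ⊗_A N agree. Equivalently,
the sequence Hom_A(M, N) → Hom_{A'}(A' ⊗ M, A' ⊗ N) ⇉ Hom_{A' ⊗ A'}(A' ⊗ A' ⊗ M, A' ⊗ A' ⊗ N) is an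
equalizer diagram. -/
theorem result (A A' : Type u) [CommRing A] [CommRing A'] [Algebra A A']
    [Module.FaithfullyFlat A A'] (M N : Type u) [AddCommGroup M] [Module A M] [AddCommGroup N] [Module A N]
    (f : A' ⊗[A] M →ₗ[A'] A' ⊗[A] N)
    (hf : ∀ m : M,
      LinearMap.rTensor N (Algebra.TensorProduct.includeLeft : A' →ₐ[A] A' ⊗[A] A').toLinearMap (f (1 ⊗ₜ[A] m)) =
        LinearMap.rTensor N (Algebra.TensorProduct.includeRight : A' →ₐ[A] A' ⊗[A] A').toLinearMap (f (1 ⊗ₜ[A] m))) :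
    ∃! h : M →ₗ[A] N, h.baseChange A' = f := by
  have hinj : Function.Injective (TensorProduct.mk A A' N 1) :=
    Module.FaithfullyFlat.tensorProduct_mk_injective N
  have hex := exact_amitsur A A' N
  have hmem : ∀ m : M, f (1 ⊗ₜ[A] m) ∈ LinearMap.range (TensorProduct.mk A A' N 1) := by
    intro m
    rw [← hex.linearMap_ker_eq, LinearMap.mem_ker]
    simp only [dd, LinearMap.sub_apply]
    rw [hf m, sub_self]
  -- the A-linear map m ↦ f (1 ⊗ m), corestricted to the range
  let f0 : M →ₗ[A] A' ⊗[A] N := (f.restrictScalars A) ∘ₗ (TensorProduct.mk A A' M 1)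
  let f1 : M →ₗ[A] LinearMap.range (TensorProduct.mk A A' N 1) :=
    f0.codRestrict _ (fun m => hmem m)
  let e : N ≃ₗ[A] LinearMap.range (TensorProduct.mk A A' N 1) := LinearEquiv.ofInjective _ hinj
  let h : M →ₗ[A] N := e.symm.toLinearMap ∘ₗ f1
  have hh : ∀ m, (1 : A') ⊗ₜ[A] h m = f (1 ⊗ₜ[A] m) := by
    intro m
    have : (e (h m) : A' ⊗[A] N) = f1 m := by
      simp [h]
    have h2 : (e (h m) : A' ⊗[A] N) = (1 : A') ⊗ₜ[A] h m := rfl
    rw [← h2, this]
    rfl
  refine ⟨h, ?_, ?_⟩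
  · ext m
    simp [hh]
  · intro h' hh'
    ext m
    apply hinj
    have := congrArg (fun g => g (1 ⊗ₜ[A] m)) hh'
    simp only [LinearMap.baseChange_tmul] at this
    simp only [TensorProduct.mk_apply]
    rw [this, hh]

end Groth.Agent.S15047
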