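import Groth.Statements.S15048
import Mathlib
import Groth.Agent.Lib.Helper22.DeligneDual

set_option autoImplicit false
universe u v
open Hopf

namespace Groth.Agent.S15048

/-- Let R be a commutative ring and A a commutative and cocommutative Hopf algebra over R which is
finitely generated and projective as an R-module and has rank n at every prime of R (a commutative
finite locally free group scheme G = Spec A over Spec R of constant order n). Then n kills G: in the
convolution group of R-algebra endomorphisms of A the n-th power of the identity is the neutral
element, the counit followed by the unit; equivalently every point g of G with values in an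
R-algebra satisfies gⁿ = 1. (The published setting has a Noetherian base ring; the argument is the
same for any commutative base ring, which is allowed here.) -/
theorem result (R : Type u) [CommRing R] (A : Type v) [CommRing A] [HopfAlgebra R A]
    [Coalgebra.IsCocomm R A] [Module.Finite R A] [Module.Projective R A] (n : ℕ)
    (hn : ∀ p : PrimeSpectrum R, Module.rankAtStalk A p = n) :
    (WithConv.toConv (AlgHom.id R A)) ^ n = 1 := by
  classical
  apply WithConv.ofConv_injective
  ext a
  apply Module.eq_of_localization_maximal
    (fun P _ => TensorProduct R (Localization.AtPrime P) A)
    (fun P _ => TensorProduct.mk R (Localization.AtPrime P) A 1)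
  intro P hP
  -- the point `j : A → S = R_P ⊗ A`
  let j : A →ₐ[R] TensorProduct R (Localization.AtPrime P) A := Algebra.TensorProduct.includeRight
  have hfree : Module.Free (Localization.AtPrime P) (TensorProduct R (Localization.AtPrime P) A) :=
    Module.free_of_flat_of_isLocalRing
  have hfr : Module.finrank (Localization.AtPrime P)
      (TensorProduct R (Localization.AtPrime P) A) = n := by
    rw [← Module.rankAtStalk_eq_finrank_tensorProduct (M := A) ⟨P, hP.isPrime⟩, hn]
  let c : Module.Basis (Fin n) (Localization.AtPrime P)
      (TensorProduct R (Localization.AtPrime P) A) := Module.finBasisOfFinrankEq _ _ hfr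
  let c' := Algebra.TensorProduct.basis (TensorProduct R (Localization.AtPrime P) A) c
  let e := TensorProduct.AlgebraTensorModule.cancelBaseChange R (Localization.AtPrime P)
    (TensorProduct R (Localization.AtPrime P) A) (TensorProduct R (Localization.AtPrime P) A) A
  let b := c'.map e
  have h1 := Groth.Agent.Lib.helper22.DeligneDual.point_pow_card' b j
  rw [Fintype.card_fin] at h1
  change j _ = j _
  exact Groth.Agent.Lib.helper22.DeligneDual.apply_pow_id_eq j n h1 a

end Groth.Agent.S15048
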