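import Groth.Statements.S15050
import Mathlib
import Groth.Agent.S15051
import Groth.Agent.S15058

set_option autoImplicit false
universe u
open LubinTate

namespace Groth.Agent.S15050


open Groth.Agent.S15051 Groth.Agent.S15058
open MvPowerSeries

section Aux

theorem frob_mv {k : Type*} [Field k] [Finite k] {τ : Type*} (G : MvPowerSeries τ k) :
    subst (fun s => (X s : MvPowerSeries τ k) ^ Nat.card k) G = G ^ Nat.card k := by
  haveI : Fintype k := Fintype.ofFinite k
  obtain ⟨p, hchar, n, hp, hcard⟩ := FiniteField.card' k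
  haveI := hchar
  haveI : ExpChar k p := ExpChar.prime hp
  have hq : Nat.card k = p ^ (n : ℕ) := by rw [Nat.card_eq_fintype_card, hcard]
  have hp0 : p ≠ 0 := hp.ne_zero
  have h := map_iterateFrobenius_expand p hp0 G n
  have hid : iterateFrobenius k p n = RingHom.id k := by
    ext x
    rw [iterateFrobenius_def, ← hcard]
    exact FiniteField.pow_card x
  have h2 : expand (p ^ (n : ℕ)) (pow_ne_zero n hp0) G =
      subst (fun s => (X s : MvPowerSeries τ k) ^ p ^ (n : ℕ)) G :=
    substAlgHom_apply (HasSubst.X_pow (pow_ne_zero n hp0)) G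
  rw [hq, ← h2, ← h, hid, MvPowerSeries.map_id, RingHom.id_apply]

theorem LT_exists (O : Type*) [CommRing O] [IsDomain O] [IsDiscreteValuationRing O]
    [Finite (IsLocalRing.ResidueField O)] (π : O) (hπ : Irreducible π) (f : PowerSeries O)
    (hf : f = π • PowerSeries.X + PowerSeries.X ^ Nat.card (IsLocalRing.ResidueField O))
    {τ : Type*} [Fintype τ] (L : τ → O) :
    ∃ G : MvPowerSeries τ O, constantCoeff G = 0 ∧ (∀ s, coeff (Finsupp.single s 1) G = L s) ∧
      subst (fun _ : Unit => G) f =
        subst (fun i : τ => subst (fun _ : Unit => (X i : MvPowerSeries τ O)) f) G := by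
  classical
  obtain ⟨q, hqdef⟩ : ∃ q, q = Nat.card (IsLocalRing.ResidueField O) := ⟨_, rfl⟩
  rw [← hqdef] at hf
  have hq : 2 ≤ q := by rw [hqdef]; exact Finite.one_lt_card
  have hf0 : PowerSeries.constantCoeff f = 0 := LT_cc hq hf
  obtain ⟨fX, hfX⟩ : ∃ fX : τ → MvPowerSeries τ O,
      fX = fun i => subst (fun _ : Unit => (X i : MvPowerSeries τ O)) f := ⟨_, rfl⟩
  rw [← hfX]
  have hfXi : ∀ i, fX i = π • X i + X i ^ q := by
    intro i
    rw [hfX]
    exact LT_subst hf (X i) (constantCoeff_X i)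
  have hfX0 : ∀ i, constantCoeff (fX i) = 0 := by
    intro i
    rw [hfXi, map_add, map_pow, constantCoeff_X, zero_pow (by omega), add_zero, smul_eq_C_mul,
      map_mul, constantCoeff_X, mul_zero]
  have hfXs : HasSubst fX := hasSubst_of_constantCoeff_zero hfX0
  have hfX1 : ∀ i, V 1 (fX i) := fun i => V_one_of_cc (hfX0 i)
  obtain ⟨pX, hpX⟩ : ∃ pX : τ → MvPowerSeries τ O,
      pX = (fun _ : τ => π) • (X : τ → MvPowerSeries τ O) := ⟨_, rfl⟩
  have hpXi : ∀ i, pX i = π • X i := by intro i; rw [hpX]; rfl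
  have hpXs : HasSubst pX := by rw [hpX]; exact HasSubst.smul_X _
  have hpX1 : ∀ i, V 1 (pX i) := fun i => by rw [hpXi]; exact V_smul π (V_X i)
  have hdiff : ∀ i, V 2 (fX i - pX i) := by
    intro i
    rw [hfXi, hpXi, add_sub_cancel_left]
    exact V_mono hq (V_pow (V_X i) q)
  have hresc : ∀ G : MvPowerSeries τ O, rescale (fun _ => π) G = subst pX G := by
    intro G; rw [hpX]; exact rescale_eq_subst _ G
  have hcoefresc : ∀ (G : MvPowerSeries τ O) (d : τ →₀ ℕ),
      coeff d (subst pX G) = π ^ d.degree * coeff d G := by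
    intro G d
    rw [← hresc, coeff_rescale]
    have : (d.prod fun s m => (fun _ : τ => π) s ^ m) = π ^ d.degree := by
      show ∏ s ∈ d.support, π ^ d s = π ^ d.degree
      rw [Finset.prod_pow_eq_pow_sum, Finsupp.degree_apply]
    rw [this]
  obtain ⟨B, hB⟩ : ∃ B : MvPowerSeries τ O → MvPowerSeries τ O,
      B = fun G => G ^ q - (subst fX G - subst pX G) := ⟨_, rfl⟩
  have hBG : ∀ G, B G = G ^ q - (subst fX G - subst pX G) := by intro G; rw [hB]
  have hB2 : ∀ G, V 1 G → V 2 (B G) := by
    intro G hG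
    rw [hBG]
    refine V_sub (V_mono hq (V_pow hG q)) ?_
    exact V_subst_sub hfXs hpXs hfX1 hpX1 (m := 2) (by omega) hdiff (k := 0) hG
  have hBc : ∀ G G', V 1 G → V 1 G' → ∀ m, 1 ≤ m → V m (G - G') →
      V (m + 1) (B G - B G') := by
    intro G G' hG hG' m hm hV
    have e : B G - B G' = (G ^ q - G' ^ q) - (subst fX (G - G') - subst pX (G - G')) := by
      rw [hBG, hBG, subst_sub hfXs, subst_sub hpXs]; ring
    rw [e]
    refine V_sub ?_ ?_
    · obtain ⟨j, hj⟩ : ∃ j, q = j + 1 := ⟨q - 1, by omega⟩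
      rw [hj]
      exact V_mono (by omega) (V_pow_sub hG hG' hV j)
    · obtain ⟨k, rfl⟩ : ∃ k, m = k + 1 := ⟨m - 1, by omega⟩
      exact V_mono (by omega)
        (V_subst_sub hfXs hpXs hfX1 hpX1 (m := 2) (by omega) hdiff (k := k) hV)
  obtain ⟨ρ, hρ⟩ : ∃ ρ : O →+* IsLocalRing.ResidueField O, ρ = IsLocalRing.residue O :=
    ⟨_, rfl⟩
  have hρπ : ρ π = 0 := by
    rw [hρ, IsLocalRing.residue_eq_zero_iff]
    exact (IsLocalRing.mem_maximalIdeal π).mpr hπ.not_isUnit
  have hρdvd : ∀ x : O, ρ x = 0 → π ∣ x := by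
    intro x hx
    rw [hρ, IsLocalRing.residue_eq_zero_iff, hπ.maximalIdeal_eq, Ideal.mem_span_singleton] at hx
    exact hx
  have hK1 : ∀ G : MvPowerSeries τ O, V 1 G → ∀ d, π ∣ coeff d (B G) := by
    intro G hG d
    apply hρdvd
    rw [← coeff_map]
    have hmap : MvPowerSeries.map ρ (B G) = 0 := by
      rw [hBG, map_sub, map_sub, map_pow, map_subst hfXs G]
      have e1 : (fun i => MvPowerSeries.map ρ (fX i)) =
          fun i => (X i : MvPowerSeries τ (IsLocalRing.ResidueField O)) ^ q := by
        funext i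
        rw [hfXi, map_add, map_pow, MvPowerSeries.map_X, smul_eq_C_mul, map_mul,
          MvPowerSeries.map_C, hρπ, map_zero, zero_mul, zero_add]
      rw [e1]
      have e2 : MvPowerSeries.map ρ (subst pX G) = 0 := by
        ext d
        rw [coeff_map, hcoefresc, map_zero]
        by_cases hd : d.degree = 0
        · have hd0 : d = 0 := (Finsupp.degree_eq_zero_iff d).mp hd
          rw [hd0, coeff_zero_eq_constantCoeff_apply, cc_of_V le_rfl hG, mul_zero, map_zero]
        · obtain ⟨j, hj⟩ : ∃ j, d.degree = j + 1 := ⟨d.degree - 1, by omega⟩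
          rw [hj, pow_succ, map_mul, map_mul, hρπ, mul_zero, zero_mul]
      rw [e2, sub_zero, hqdef, frob_mv, sub_self]
    rw [hmap, map_zero]
  have hunit : ∀ n : ℕ, ∃ e : O, 2 ≤ n → (π ^ (n - 1) - 1) * e = 1 := by
    intro n
    by_cases hn : 2 ≤ n
    · have hnu : π ^ (n - 1) ∈ nonunits O := by
        rw [mem_nonunits_iff, isUnit_pow_iff (by omega)]
        exact hπ.not_isUnit
      have hu : IsUnit (1 - π ^ (n - 1)) :=
        IsLocalRing.isUnit_one_sub_self_of_mem_nonunits _ hnu
      obtain ⟨e, he⟩ := hu.exists_right_inv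
      exact ⟨-e, fun _ => by linear_combination he⟩
    · exact ⟨0, fun h => absurd h hn⟩
  choose ε hε using hunit
  have hdiv : ∀ x : O, ∃ y : O, π ∣ x → π * y = x := by
    intro x
    by_cases h : π ∣ x
    · obtain ⟨y, hy⟩ := h
      exact ⟨y, fun _ => hy.symm⟩
    · exact ⟨0, fun h' => absurd h' h⟩
  choose dv hdv using hdiv
  obtain ⟨Lin, hLin⟩ : ∃ Lin : MvPowerSeries τ O,
      Lin = ∑ s, L s • (X s : MvPowerSeries τ O) := ⟨_, rfl⟩
  have hLin0 : coeff 0 Lin = 0 := by
    rw [hLin, map_sum]
    apply Finset.sum_eq_zero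
    intro s _
    rw [map_smul, coeff_zero_X, smul_zero]
  have hLin1 : ∀ t, coeff (Finsupp.single t 1) Lin = L t := by
    intro t
    rw [hLin, map_sum, Finset.sum_eq_single t]
    · rw [map_smul, coeff_index_single_self_X, smul_eq_mul, mul_one]
    · intro s _ hs
      rw [map_smul, coeff_index_single_X, if_neg (Ne.symm hs), smul_zero]
    · intro h; exact absurd (Finset.mem_univ t) h
  obtain ⟨T, hT⟩ : ∃ T : MvPowerSeries τ O → MvPowerSeries τ O, ∀ G d, coeff d (T G) =
      if d.degree ≤ 1 then coeff d Lin else ε d.degree * dv (coeff d (B G)) :=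
    ⟨fun G => fun d => if d.degree ≤ 1 then coeff d Lin else ε d.degree * dv (coeff d (B G)),
      fun G d => rfl⟩
  have hT1 : ∀ G, V 1 G → V 1 (T G) := by
    intro G _ d hd
    have hd0 : d = 0 := (Finsupp.degree_eq_zero_iff d).mp (by omega)
    have h1 : d.degree ≤ 1 := by omega
    rw [hT, if_pos h1, hd0, hLin0]
  have hTc : ∀ G G', V 1 G → V 1 G' → ∀ m, V m (G - G') → V (m + 1) (T G - T G') := by
    intro G G' hG hG' m hV d hd
    rw [map_sub, hT, hT]
    by_cases h1 : d.degree ≤ 1
    · rw [if_pos h1, if_pos h1, sub_self]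
    · rw [if_neg h1, if_neg h1]
      have hB := hBc G G' hG hG' m (by omega) hV d hd
      rw [map_sub, sub_eq_zero] at hB
      rw [hB, sub_self]
  obtain ⟨G, hG1, hfix⟩ := fixedpt1 T hT1 hTc
  have hcoef : ∀ d, coeff d (B G) = (π ^ d.degree - π) * coeff d G := by
    intro d
    by_cases h1 : d.degree ≤ 1
    · rw [hB2 G hG1 d (by omega)]
      by_cases h0 : d.degree = 0
      · have hd0 : d = 0 := (Finsupp.degree_eq_zero_iff d).mp h0
        rw [hd0, coeff_zero_eq_constantCoeff_apply, cc_of_V le_rfl hG1, mul_zero]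
      · have h11 : d.degree = 1 := by omega
        rw [h11, pow_one, sub_self, zero_mul]
    · have hGd : coeff d G = ε d.degree * dv (coeff d (B G)) := by
        conv_lhs => rw [← hfix]
        rw [hT, if_neg h1]
      have hεd := hε d.degree (by omega)
      have hdvd := hdv _ (hK1 G hG1 d)
      have hpn : π ^ d.degree = π * π ^ (d.degree - 1) := by
        rw [← pow_succ']; congr 1; omega
      rw [hGd]
      linear_combination (-1 : O) * hdvd - π * dv (coeff d (B G)) * hεd -
        ε d.degree * dv (coeff d (B G)) * hpn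
  have hBeq : B G = subst pX G - π • G := by
    ext d
    rw [hcoef, map_sub, hcoefresc, map_smul, smul_eq_mul]; ring
  refine ⟨G, cc_of_V le_rfl hG1, ?_, ?_⟩
  · intro s
    conv_lhs => rw [← hfix]
    rw [hT, if_pos (by rw [Finsupp.degree_single]), hLin1]
  · have h1 : subst (fun _ : Unit => G) f = π • G + G ^ q :=
      LT_subst hf G (cc_of_V le_rfl hG1)
    rw [h1]
    rw [hBG] at hBeq
    linear_combination hBeq

end Aux



/-- Let O be a discrete valuation ring with finite residue field of cardinality q, π a uniformizer of O,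
and f = πT + T^q ∈ O[[T]]. For every α ∈ O there is a unique power series g = [α] ∈ O[[T]] with zero
constant term and linear coefficient α which commutes with f under substitution, g(f(T)) = f(g(T)).
(The published statement is for the ring of integers of a finite extension of ℚ_p or of 𝔽_q((X));
completeness is not used and any discrete valuation ring with finite residue field is allowed here.) -/
theorem result (O : Type u) [CommRing O] [IsDomain O] [IsDiscreteValuationRing O]
    [Finite (IsLocalRing.ResidueField O)] (π : O) (hπ : Irreducible π) (f : PowerSeries O)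
    (hf : f = π • PowerSeries.X + PowerSeries.X ^ Nat.card (IsLocalRing.ResidueField O)) (α : O) :
    ∃! g : PowerSeries O, g.constantCoeff = 0 ∧ g.coeff 1 = α ∧
      PowerSeries.subst g f = PowerSeries.subst f g := by
  classical
  obtain ⟨G, hG0, hG1, hGf⟩ := LT_exists O π hπ f hf (τ := Unit) (fun _ => α)
  obtain ⟨q, hqdef⟩ : ∃ q, q = Nat.card (IsLocalRing.ResidueField O) := ⟨_, rfl⟩
  rw [← hqdef] at hf
  have hq : 2 ≤ q := by rw [hqdef]; exact Finite.one_lt_card
  have hc := pi_pow_ne hπ
  have hfam : (fun i : Unit => subst (fun _ : Unit => (X i : MvPowerSeries Unit O)) f) =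
      fun _ : Unit => f := by
    funext i
    exact PowerSeries.X_subst f
  rw [hfam] at hGf
  refine ⟨G, ⟨hG0, hG1 (), hGf⟩, ?_⟩
  rintro g' ⟨h0, h1, hf'⟩
  exact LT_unique_one hc hq hf g' G h0 hG0 (h1.trans (hG1 ()).symm) hf' hGf


end Groth.Agent.S15050
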