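import Groth.Statements.S15049
import Mathlib
import Groth.Agent.S15051
import Groth.Agent.S15058
import Groth.Agent.S15050

set_option autoImplicit false
universe u
open LubinTate

namespace Groth.Agent.S15049


open Groth.Agent.S15051 Groth.Agent.S15058 Groth.Agent.S15050
open MvPowerSeries

section Aux
variable {R : Type*} [CommRing R] {τ : Type*}

/-- `P` commutes with `f`. -/
def Cm (f : PowerSeries R) (P : MvPowerSeries τ R) : Prop :=
  subst (fun _ : Unit => P) f =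
    subst (fun i : τ => subst (fun _ : Unit => (X i : MvPowerSeries τ R)) f) P

theorem hasSubst_fX [Finite τ] {f : PowerSeries R} (hf0 : PowerSeries.constantCoeff f = 0) :
    (∀ i : τ, constantCoeff (subst (fun _ : Unit => (X i : MvPowerSeries τ R)) f) = 0) ∧
    HasSubst (fun i : τ => subst (fun _ : Unit => (X i : MvPowerSeries τ R)) f) := by
  have h0 : ∀ i : τ, constantCoeff (subst (fun _ : Unit => (X i : MvPowerSeries τ R)) f) = 0 :=
    fun i => constantCoeff_subst_eq_zero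
      (hasSubst_of_constantCoeff_zero (fun _ => constantCoeff_X i))
      (fun _ => constantCoeff_X i) hf0
  exact ⟨h0, hasSubst_of_constantCoeff_zero h0⟩

theorem Cm_X [Finite τ] {f : PowerSeries R} (hf0 : PowerSeries.constantCoeff f = 0) (j : τ) :
    Cm f (X j : MvPowerSeries τ R) := by
  show subst (fun _ : Unit => (X j : MvPowerSeries τ R)) f = subst _ (X j)
  rw [subst_X (hasSubst_fX hf0).2]

theorem Cm_subst [Finite τ] {f : PowerSeries R} (hf0 : PowerSeries.constantCoeff f = 0)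
    {Φ : MvPowerSeries (Fin 2) R} (hΦ0 : constantCoeff Φ = 0) (hΦ : Cm f Φ)
    (p : Fin 2 → MvPowerSeries τ R) (hp0 : ∀ i, constantCoeff (p i) = 0)
    (hp : ∀ i, Cm f (p i)) : Cm f (subst p Φ) := by
  have hcX2 : ∀ i : Fin 2, HasSubst (fun _ : Unit => (X i : MvPowerSeries (Fin 2) R)) :=
    fun i => hasSubst_of_constantCoeff_zero (fun _ => constantCoeff_X i)
  obtain ⟨fX2, hfX2⟩ : ∃ fX2 : Fin 2 → MvPowerSeries (Fin 2) R,
      fX2 = fun i => subst (fun _ : Unit => (X i : MvPowerSeries (Fin 2) R)) f := ⟨_, rfl⟩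
  obtain ⟨fXτ, hfXτ⟩ : ∃ fXτ : τ → MvPowerSeries τ R,
      fXτ = fun i => subst (fun _ : Unit => (X i : MvPowerSeries τ R)) f := ⟨_, rfl⟩
  have hfX2i : ∀ i, fX2 i = subst (fun _ : Unit => (X i : MvPowerSeries (Fin 2) R)) f := by
    intro i; rw [hfX2]
  have hfX2s : HasSubst fX2 := by rw [hfX2]; exact (hasSubst_fX hf0).2
  have hfXτs : HasSubst fXτ := by rw [hfXτ]; exact (hasSubst_fX hf0).2
  have hps : HasSubst p := hasSubst_of_constantCoeff_zero hp0
  have hcΦ : HasSubst (fun _ : Unit => Φ) := hasSubst_of_constantCoeff_zero (fun _ => hΦ0)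
  have hΦ' : subst (fun _ : Unit => Φ) f = subst fX2 Φ := by rw [hfX2]; exact hΦ
  have hp' : ∀ i, subst (fun _ : Unit => p i) f = subst fXτ (p i) := by
    intro i; rw [hfXτ]; exact hp i
  have hswap : ∀ i, subst p (fX2 i) = subst fXτ (p i) := by
    intro i
    rw [hfX2i, subst_comp_subst_apply (hcX2 i) hps f, ← hp' i]
    congr 1
    funext _
    exact subst_X hps i
  show subst (fun _ : Unit => subst p Φ) f =
    subst (fun i : τ => subst (fun _ : Unit => (X i : MvPowerSeries τ R)) f) (subst p Φ)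
  rw [← hfXτ]
  calc subst (fun _ : Unit => subst p Φ) f
      = subst p (subst (fun _ : Unit => Φ) f) := (subst_comp_subst_apply hcΦ hps f).symm
    _ = subst p (subst fX2 Φ) := by rw [hΦ']
    _ = subst (fun i => subst p (fX2 i)) Φ := subst_comp_subst_apply hfX2s hps Φ
    _ = subst (fun i => subst fXτ (p i)) Φ := by congr 1; funext i; exact hswap i
    _ = subst fXτ (subst p Φ) := (subst_comp_subst_apply hps hfXτs Φ).symm

theorem V2_subst_two {Φ : MvPowerSeries (Fin 2) R} (hΦ0 : constantCoeff Φ = 0)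
    (hX : coeff (Finsupp.single 0 1) Φ = 1) (hY : coeff (Finsupp.single 1 1) Φ = 1)
    (p : Fin 2 → MvPowerSeries τ R) (hp0 : ∀ i, constantCoeff (p i) = 0) :
    V 2 (subst p Φ - (p 0 + p 1)) := by
  have h := V2_subst_sub_lin (hasSubst_of_constantCoeff_zero hp0) hp0 (H := Φ) hΦ0
  rw [Fin.sum_univ_two, hX, hY, one_smul, one_smul] at h
  exact h

theorem V2_two {Φ : MvPowerSeries (Fin 2) R} (hΦ0 : constantCoeff Φ = 0)
    (hX : coeff (Finsupp.single 0 1) Φ = 1) (hY : coeff (Finsupp.single 1 1) Φ = 1) :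
    V 2 (Φ - (X 0 + X 1)) := by
  have h := V2_sub_lin (H := Φ) hΦ0
  rw [Fin.sum_univ_two, hX, hY, one_smul, one_smul] at h
  exact h

end Aux



/-- Let O be a discrete valuation ring with finite residue field of cardinality q, π a uniformizer of O,
and f = πT + T^q ∈ O[[T]]. Then there is a one-dimensional commutative formal group law F(X,Y) over
O for which f is an endomorphism, f(F(X,Y)) = F(f(X), f(Y)); and F is the unique power series in
O[[X,Y]] with zero constant term and linear part X + Y satisfying this identity. (The published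
statement is for the ring of integers of a finite extension of ℚ_p or of 𝔽_q((X)); completeness is
not used and any discrete valuation ring with finite residue field is allowed here.) -/
theorem result (O : Type u) [CommRing O] [IsDomain O] [IsDiscreteValuationRing O]
    [Finite (IsLocalRing.ResidueField O)] (π : O) (hπ : Irreducible π) (f : PowerSeries O)
    (hf : f = π • PowerSeries.X + PowerSeries.X ^ Nat.card (IsLocalRing.ResidueField O)) :
    ∃ F : FormalGroup O, F.IsComm ∧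
      PowerSeries.subst F.toPowerSeries f =
        MvPowerSeries.subst (fun i : Fin 2 => PowerSeries.subst (MvPowerSeries.X i : MvPowerSeries (Fin 2) O) f) F.toPowerSeries ∧
      ∀ G : MvPowerSeries (Fin 2) O, G.constantCoeff = 0 → G.coeff (Finsupp.single 0 1) = 1 →
        G.coeff (Finsupp.single 1 1) = 1 →
        PowerSeries.subst G f =
        MvPowerSeries.subst (fun i : Fin 2 => PowerSeries.subst (MvPowerSeries.X i : MvPowerSeries (Fin 2) O) f) G →
        G = F.toPowerSeries := by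
  classical
  obtain ⟨Φ, hΦ0, hΦ1, hΦf⟩ := LT_exists O π hπ f hf (τ := Fin 2) (fun _ => 1)
  obtain ⟨q, hqdef⟩ : ∃ q, q = Nat.card (IsLocalRing.ResidueField O) := ⟨_, rfl⟩
  rw [← hqdef] at hf
  have hq : 2 ≤ q := by rw [hqdef]; exact Finite.one_lt_card
  have hc := pi_pow_ne hπ
  have hf0 : PowerSeries.constantCoeff f = 0 := LT_cc hq hf
  have hX : coeff (Finsupp.single 0 1) Φ = 1 := hΦ1 0
  have hY : coeff (Finsupp.single 1 1) Φ = 1 := hΦ1 1
  have hΦC : Cm f Φ := hΦf
  have hassoc : subst ![subst ![(X 0 : MvPowerSeries (Fin 3) O), X 1] Φ, X 2] Φ =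
      subst ![(X 0 : MvPowerSeries (Fin 3) O), subst ![(X 1 : MvPowerSeries (Fin 3) O), X 2] Φ] Φ := by
    obtain ⟨A, hA⟩ : ∃ A, A = subst ![(X 0 : MvPowerSeries (Fin 3) O), X 1] Φ := ⟨_, rfl⟩
    obtain ⟨B, hB⟩ : ∃ B, B = subst ![(X 1 : MvPowerSeries (Fin 3) O), X 2] Φ := ⟨_, rfl⟩
    rw [← hA, ← hB]
    have hp01 : ∀ i, constantCoeff (![(X 0 : MvPowerSeries (Fin 3) O), X 1] i) = 0 :=
      Fin.forall_fin_two.mpr ⟨constantCoeff_X 0, constantCoeff_X 1⟩
    have hp12 : ∀ i, constantCoeff (![(X 1 : MvPowerSeries (Fin 3) O), X 2] i) = 0 :=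
      Fin.forall_fin_two.mpr ⟨constantCoeff_X 1, constantCoeff_X 2⟩
    have hA0 : constantCoeff A = 0 := by
      rw [hA]; exact constantCoeff_subst_eq_zero (hasSubst_of_constantCoeff_zero hp01) hp01 hΦ0
    have hB0 : constantCoeff B = 0 := by
      rw [hB]; exact constantCoeff_subst_eq_zero (hasSubst_of_constantCoeff_zero hp12) hp12 hΦ0
    have hAC : Cm f A := by
      rw [hA]
      exact Cm_subst hf0 hΦ0 hΦC _ hp01 (Fin.forall_fin_two.mpr ⟨Cm_X hf0 0, Cm_X hf0 1⟩)
    have hBC : Cm f B := by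
      rw [hB]
      exact Cm_subst hf0 hΦ0 hΦC _ hp12 (Fin.forall_fin_two.mpr ⟨Cm_X hf0 1, Cm_X hf0 2⟩)
    have hpA : ∀ i, constantCoeff (![A, (X 2 : MvPowerSeries (Fin 3) O)] i) = 0 :=
      Fin.forall_fin_two.mpr ⟨hA0, constantCoeff_X 2⟩
    have hpB : ∀ i, constantCoeff (![(X 0 : MvPowerSeries (Fin 3) O), B] i) = 0 :=
      Fin.forall_fin_two.mpr ⟨constantCoeff_X 0, hB0⟩
    have hG1C : Cm f (subst ![A, (X 2 : MvPowerSeries (Fin 3) O)] Φ) :=
      Cm_subst hf0 hΦ0 hΦC _ hpA (Fin.forall_fin_two.mpr ⟨hAC, Cm_X hf0 2⟩)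
    have hG2C : Cm f (subst ![(X 0 : MvPowerSeries (Fin 3) O), B] Φ) :=
      Cm_subst hf0 hΦ0 hΦC _ hpB (Fin.forall_fin_two.mpr ⟨Cm_X hf0 0, hBC⟩)
    have hG10 : constantCoeff (subst ![A, (X 2 : MvPowerSeries (Fin 3) O)] Φ) = 0 :=
      constantCoeff_subst_eq_zero (hasSubst_of_constantCoeff_zero hpA) hpA hΦ0
    have hG20 : constantCoeff (subst ![(X 0 : MvPowerSeries (Fin 3) O), B] Φ) = 0 :=
      constantCoeff_subst_eq_zero (hasSubst_of_constantCoeff_zero hpB) hpB hΦ0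
    have l1 : V 2 (subst ![A, (X 2 : MvPowerSeries (Fin 3) O)] Φ - (A + X 2)) :=
      V2_subst_two hΦ0 hX hY _ hpA
    have l2 : V 2 (A - (X 0 + X 1)) := by rw [hA]; exact V2_subst_two hΦ0 hX hY _ hp01
    have l3 : V 2 (subst ![(X 0 : MvPowerSeries (Fin 3) O), B] Φ - (X 0 + B)) :=
      V2_subst_two hΦ0 hX hY _ hpB
    have l4 : V 2 (B - (X 1 + X 2)) := by rw [hB]; exact V2_subst_two hΦ0 hX hY _ hp12
    have h2 : V 2 (subst ![A, (X 2 : MvPowerSeries (Fin 3) O)] Φ -
        subst ![(X 0 : MvPowerSeries (Fin 3) O), B] Φ) := by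
      have e : subst ![A, (X 2 : MvPowerSeries (Fin 3) O)] Φ -
          subst ![(X 0 : MvPowerSeries (Fin 3) O), B] Φ =
          (subst ![A, (X 2 : MvPowerSeries (Fin 3) O)] Φ - (A + X 2)) + (A - (X 0 + X 1)) -
          (subst ![(X 0 : MvPowerSeries (Fin 3) O), B] Φ - (X 0 + B)) - (B - (X 1 + X 2)) := by
        abel
      rw [e]
      exact V_sub (V_sub (V_add l1 l2) l3) l4
    exact LT_unique hc hq hf _ _ hG10 hG20 h2 hG1C hG2C
  have hcomm : Φ = subst ![(X 1 : MvPowerSeries (Fin 2) O), X 0] Φ := by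
    have hp10 : ∀ i, constantCoeff (![(X 1 : MvPowerSeries (Fin 2) O), X 0] i) = 0 :=
      Fin.forall_fin_two.mpr ⟨constantCoeff_X 1, constantCoeff_X 0⟩
    have hG'C : Cm f (subst ![(X 1 : MvPowerSeries (Fin 2) O), X 0] Φ) :=
      Cm_subst hf0 hΦ0 hΦC _ hp10 (Fin.forall_fin_two.mpr ⟨Cm_X hf0 1, Cm_X hf0 0⟩)
    have hG'0 : constantCoeff (subst ![(X 1 : MvPowerSeries (Fin 2) O), X 0] Φ) = 0 :=
      constantCoeff_subst_eq_zero (hasSubst_of_constantCoeff_zero hp10) hp10 hΦ0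
    have l1 : V 2 (subst ![(X 1 : MvPowerSeries (Fin 2) O), X 0] Φ - (X 1 + X 0)) :=
      V2_subst_two hΦ0 hX hY _ hp10
    have l2 : V 2 (Φ - (X 0 + X 1)) := V2_two hΦ0 hX hY
    have h2 : V 2 (Φ - subst ![(X 1 : MvPowerSeries (Fin 2) O), X 0] Φ) := by
      have e : Φ - subst ![(X 1 : MvPowerSeries (Fin 2) O), X 0] Φ =
          (Φ - (X 0 + X 1)) - (subst ![(X 1 : MvPowerSeries (Fin 2) O), X 0] Φ - (X 1 + X 0)) := by
        abel
      rw [e]; exact V_sub l2 l1
    exact LT_unique hc hq hf _ _ hΦ0 hG'0 h2 hΦC hG'C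
  refine ⟨⟨Φ, hΦ0, hX, hY, hassoc⟩, ⟨hcomm⟩, hΦf, ?_⟩
  intro G hG0 hGX hGY hGf
  have l1 : V 2 (G - (X 0 + X 1)) := V2_two hG0 hGX hGY
  have l2 : V 2 (Φ - (X 0 + X 1)) := V2_two hΦ0 hX hY
  have h2 : V 2 (G - Φ) := by
    have e : G - Φ = (G - (X 0 + X 1)) - (Φ - (X 0 + X 1)) := by abel
    rw [e]; exact V_sub l1 l2
  exact LT_unique hc hq hf G Φ hG0 hΦ0 h2 hGf hΦC


end Groth.Agent.S15049
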