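import Groth.Statements.S15052
import Mathlib
import Groth.Agent.S15051

set_option autoImplicit false
universe u
open LubinTate

namespace Groth.Agent.S15052


open Groth.Agent.S15051
open MvPowerSeries

section Aux
variable {R : Type*} [CommRing R] {τ : Type*}

theorem LT_lin_unique [IsDomain R] [Finite τ] {c : R} (hc : ∀ m : ℕ, 2 ≤ m → c ^ m ≠ c) {q : ℕ}
    (hq : 2 ≤ q) {f : PowerSeries R} (hf : f = c • PowerSeries.X + PowerSeries.X ^ q)
    (H : MvPowerSeries τ R) (h2 : V 2 H)
    (eH : subst (fun i : τ => subst (fun _ : Unit => (X i : MvPowerSeries τ R)) f) H = c • H) :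
    H = 0 := by
  classical
  obtain ⟨a, ha⟩ : ∃ a : τ → MvPowerSeries τ R,
      a = fun i => subst (fun _ : Unit => (X i : MvPowerSeries τ R)) f := ⟨_, rfl⟩
  rw [← ha] at eH
  obtain ⟨u, hu⟩ : ∃ u : τ → MvPowerSeries τ R, u = fun i => C c + X i ^ (q - 1) := ⟨_, rfl⟩
  have hau : ∀ s, a s = X s * u s := by
    intro s
    rw [ha, hu]
    show PowerSeries.subst (X s) f = _
    rw [LT_subst hf (X s) (constantCoeff_X s), LT_factor hq]
  have hucc : ∀ s, constantCoeff (u s) = c := by
    intro s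
    rw [hu]
    show constantCoeff (C c + X s ^ (q - 1)) = c
    rw [map_add, constantCoeff_C, map_pow, constantCoeff_X, zero_pow (by omega), add_zero]
  have hacc : ∀ s, constantCoeff (a s) = 0 := by
    intro s; rw [hau, map_mul, constantCoeff_X, zero_mul]
  have has : HasSubst a := hasSubst_of_constantCoeff_zero hacc
  refine uniq_core has c hc hau hucc H h2 (fun m _ _ => ?_)
  rw [eH, sub_self]
  exact V_zero _

theorem LT_lin_unique_one [IsDomain R] {c : R} (hc : ∀ m : ℕ, 2 ≤ m → c ^ m ≠ c) {q : ℕ}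
    (hq : 2 ≤ q) {f : PowerSeries R} (hf : f = c • PowerSeries.X + PowerSeries.X ^ q)
    (H : PowerSeries R) (h0 : PowerSeries.constantCoeff H = 0) (h1 : PowerSeries.coeff 1 H = 0)
    (eH : subst (fun _ : Unit => f) H = c • H) : H = 0 := by
  have hfam : (fun i : Unit => subst (fun _ : Unit => (X i : MvPowerSeries Unit R)) f) =
      fun _ : Unit => f := by
    funext i
    exact PowerSeries.X_subst f
  have h2 : V 2 (H : MvPowerSeries Unit R) := by
    apply V_ps
    intro k hk
    have hk' : k = 0 ∨ k = 1 := by omega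
    rcases hk' with rfl | rfl
    · rw [PowerSeries.coeff_zero_eq_constantCoeff_apply, h0]
    · exact h1
  refine LT_lin_unique (τ := Unit) hc hq hf H h2 ?_
  rw [hfam]; exact eH

noncomputable def bco {K : Type*} [Field K] (c : K) (f : PowerSeries K) : ℕ → K
  | 0 => 0
  | 1 => 1
  | (n + 2) => (∑ k : Fin (n + 2), bco c f k.1 * PowerSeries.coeff (n + 2) (f ^ k.1)) /
      (c - c ^ (n + 2))
termination_by n => n
decreasing_by exact k.2

theorem exists_log {K : Type*} [Field K] {c : K} (hc : ∀ m : ℕ, 2 ≤ m → c ^ m ≠ c) {q : ℕ}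
    (hq : 2 ≤ q) {f : PowerSeries K} (hf : f = c • PowerSeries.X + PowerSeries.X ^ q) :
    ∃ ℓ : PowerSeries K, PowerSeries.constantCoeff ℓ = 0 ∧ PowerSeries.coeff 1 ℓ = 1 ∧
      PowerSeries.subst f ℓ = c • ℓ := by
  obtain ⟨b, hb⟩ : ∃ b : ℕ → K, b = bco c f := ⟨_, rfl⟩
  have hb0 : b 0 = 0 := by rw [hb, bco]
  have hb1 : b 1 = 1 := by rw [hb, bco]
  have hb2 : ∀ n, b (n + 2) = (∑ k ∈ Finset.range (n + 2),
      b k * PowerSeries.coeff (n + 2) (f ^ k)) / (c - c ^ (n + 2)) := by
    intro n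
    rw [hb, bco, Fin.sum_univ_eq_sum_range
      (fun k => bco c f k * PowerSeries.coeff (n + 2) (f ^ k)) (n + 2)]
  obtain ⟨u, hu⟩ : ∃ u : PowerSeries K, u = PowerSeries.C c + PowerSeries.X ^ (q - 1) :=
    ⟨_, rfl⟩
  have hfu : f = PowerSeries.X * u := by
    obtain ⟨k, rfl⟩ : ∃ k, q = k + 1 := ⟨q - 1, by omega⟩
    rw [hf, hu, Nat.add_sub_cancel, PowerSeries.smul_eq_C_mul, pow_succ]; ring
  have hucc : PowerSeries.constantCoeff u = c := by
    rw [hu, map_add, PowerSeries.constantCoeff_C, map_pow, PowerSeries.constantCoeff_X,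
      zero_pow (by omega), add_zero]
  have hpow : ∀ d n : ℕ, PowerSeries.coeff n (f ^ d) =
      if d ≤ n then PowerSeries.coeff (n - d) (u ^ d) else 0 := by
    intro d n
    rw [hfu, mul_pow, PowerSeries.coeff_X_pow_mul']
  have hT1 : ∀ d n : ℕ, n < d → PowerSeries.coeff n (f ^ d) = 0 := by
    intro d n hnd; rw [hpow, if_neg (by omega)]
  have hT2 : ∀ n : ℕ, PowerSeries.coeff n (f ^ n) = c ^ n := by
    intro n
    rw [hpow, if_pos le_rfl, Nat.sub_self, PowerSeries.coeff_zero_eq_constantCoeff_apply,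
      map_pow, hucc]
  have hf0 : PowerSeries.constantCoeff f = 0 := LT_cc hq hf
  have hfs : PowerSeries.HasSubst f := PowerSeries.HasSubst.of_constantCoeff_zero' hf0
  refine ⟨PowerSeries.mk b, ?_, ?_, ?_⟩
  · rw [← PowerSeries.coeff_zero_eq_constantCoeff_apply, PowerSeries.coeff_mk, hb0]
  · rw [PowerSeries.coeff_mk, hb1]
  · refine PowerSeries.ext fun n => ?_
    rw [PowerSeries.coeff_subst' hfs, map_smul, PowerSeries.coeff_mk, smul_eq_mul]
    rw [finsum_eq_sum_of_support_subset (s := Finset.range (n + 1))]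
    · simp only [PowerSeries.coeff_mk, smul_eq_mul]
      rw [Finset.sum_range_succ, hT2 n]
      match n with
      | 0 => rw [Finset.sum_range_zero, hb0]; ring
      | 1 => rw [Finset.sum_range_one, hb0, hb1]; ring
      | (n + 2) =>
        have hne : c - c ^ (n + 2) ≠ 0 :=
          fun h => hc (n + 2) (by omega) (sub_eq_zero.mp h).symm
        have h := hb2 n
        rw [eq_div_iff hne] at h
        rw [← h]; ring
    · intro d hd
      rw [Finset.coe_range, Set.mem_Iio]
      by_contra hcon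
      apply hd
      show PowerSeries.coeff d (PowerSeries.mk b) • PowerSeries.coeff n (f ^ d) = 0
      rw [hT1 d n (by omega), smul_zero]

end Aux



/-- Let O be a discrete valuation ring with finite residue field of cardinality q, π a uniformizer of O,
and f = πT + T^q ∈ O[[T]]; let K be the fraction field of O and F a one-dimensional formal group law
over O for which f is an endomorphism, f(F(X,Y)) = F(f(X), f(Y)). Then there is a unique power
series ℓ ∈ K[[T]] with zero constant term and linear coefficient 1 such that ℓ(f(T)) = π·ℓ(T); this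
logarithm is a homomorphism to the additive formal group, ℓ(F(T,S)) = ℓ(T) + ℓ(S), and it is
O-linear in the sense that ℓ(g(T)) = α·ℓ(T) for every α ∈ O and every series g ∈ O[[T]] with zero
constant term and linear coefficient α commuting with f. (The published statement is for the ring of
integers of a finite extension of ℚ_p; completeness is not used and any discrete valuation ring with
finite residue field is allowed here.) -/
theorem result (O : Type u) [CommRing O] [IsDomain O] [IsDiscreteValuationRing O]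
    [Finite (IsLocalRing.ResidueField O)] (K : Type u) [Field K] [Algebra O K] [IsFractionRing O K]
    (π : O) (hπ : Irreducible π) (f : PowerSeries O)
    (hf : f = π • PowerSeries.X + PowerSeries.X ^ Nat.card (IsLocalRing.ResidueField O))
    (F : FormalGroup O)
    (hF : PowerSeries.subst F.toPowerSeries f =
        MvPowerSeries.subst (fun i : Fin 2 => PowerSeries.subst (MvPowerSeries.X i : MvPowerSeries (Fin 2) O) f) F.toPowerSeries) :
    ∃ ℓ : PowerSeries K, (ℓ.constantCoeff = 0 ∧ ℓ.coeff 1 = 1 ∧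
      PowerSeries.subst (PowerSeries.map (algebraMap O K) f) ℓ = algebraMap O K π • ℓ) ∧
      (∀ ℓ' : PowerSeries K, ℓ'.constantCoeff = 0 → ℓ'.coeff 1 = 1 →
        PowerSeries.subst (PowerSeries.map (algebraMap O K) f) ℓ' = algebraMap O K π • ℓ' → ℓ' = ℓ) ∧
      PowerSeries.subst ((F.toPowerSeries).map (algebraMap O K)) ℓ =
        PowerSeries.subst (MvPowerSeries.X (0 : Fin 2) : MvPowerSeries (Fin 2) K) ℓ +
          PowerSeries.subst (MvPowerSeries.X (1 : Fin 2) : MvPowerSeries (Fin 2) K) ℓ ∧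
      (∀ (α : O) (g : PowerSeries O), g.constantCoeff = 0 → g.coeff 1 = α →
        PowerSeries.subst g f = PowerSeries.subst f g →
        PowerSeries.subst (PowerSeries.map (algebraMap O K) g) ℓ = algebraMap O K α • ℓ) := by
  classical
  obtain ⟨q, hqdef⟩ : ∃ q, q = Nat.card (IsLocalRing.ResidueField O) := ⟨_, rfl⟩
  rw [← hqdef] at hf
  have hq : 2 ≤ q := by rw [hqdef]; exact Finite.one_lt_card
  obtain ⟨φ, hφ⟩ : ∃ φ : O →+* K, φ = algebraMap O K := ⟨_, rfl⟩
  rw [← hφ]
  have hφinj : Function.Injective φ := by rw [hφ]; exact IsFractionRing.injective O K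
  obtain ⟨c, hcdef⟩ : ∃ c : K, c = φ π := ⟨_, rfl⟩
  have hc : ∀ m : ℕ, 2 ≤ m → c ^ m ≠ c := by
    intro m hm h
    rw [hcdef, ← map_pow] at h
    exact pi_pow_ne hπ m hm (hφinj h)
  obtain ⟨fK, hfKdef⟩ : ∃ fK : PowerSeries K, fK = PowerSeries.map φ f := ⟨_, rfl⟩
  have hfK : fK = c • PowerSeries.X + PowerSeries.X ^ q := by
    rw [hfKdef, hf, map_add, map_pow, PowerSeries.map_X, PowerSeries.smul_eq_C_mul, map_mul,
      PowerSeries.map_C, PowerSeries.map_X, ← PowerSeries.smul_eq_C_mul, hcdef]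
  have hf0 : PowerSeries.constantCoeff f = 0 := LT_cc hq hf
  have hfK0 : PowerSeries.constantCoeff fK = 0 := LT_cc hq hfK
  obtain ⟨Ff, hFf⟩ : ∃ Ff, Ff = F.toPowerSeries := ⟨_, rfl⟩
  have hF0 : constantCoeff Ff = 0 := by rw [hFf]; exact F.zero_constantCoeff
  have hFX : coeff (Finsupp.single 0 1) Ff = 1 := by rw [hFf]; exact F.lin_coeff_X
  have hFY : coeff (Finsupp.single 1 1) Ff = 1 := by rw [hFf]; exact F.lin_coeff_Y
  obtain ⟨FK, hFKdef⟩ : ∃ FK : MvPowerSeries (Fin 2) K, FK = MvPowerSeries.map φ Ff := ⟨_, rfl⟩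
  have hFK0 : constantCoeff FK = 0 := by
    rw [hFKdef, ← coeff_zero_eq_constantCoeff_apply, coeff_map, coeff_zero_eq_constantCoeff_apply,
      hF0, map_zero]
  have hFKX : coeff (Finsupp.single 0 1) FK = 1 := by rw [hFKdef, coeff_map, hFX, map_one]
  have hFKY : coeff (Finsupp.single 1 1) FK = 1 := by rw [hFKdef, coeff_map, hFY, map_one]
  obtain ⟨fX, hfX⟩ : ∃ fX : Fin 2 → MvPowerSeries (Fin 2) O,
      fX = fun i => subst (fun _ : Unit => (X i : MvPowerSeries (Fin 2) O)) f :=
    ⟨_, rfl⟩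
  have hfXi : ∀ i, fX i = subst (fun _ : Unit => (X i : MvPowerSeries (Fin 2) O)) f := by
    intro i; rw [hfX]
  have hF' : subst (fun _ : Unit => Ff) f = subst fX Ff := by
    rw [hFf, hfX]; exact hF
  obtain ⟨fKX, hfKX⟩ : ∃ fKX : Fin 2 → MvPowerSeries (Fin 2) K,
      fKX = fun i => subst (fun _ : Unit => (X i : MvPowerSeries (Fin 2) K)) fK :=
    ⟨_, rfl⟩
  have hfKXi : ∀ i, fKX i = subst (fun _ : Unit => (X i : MvPowerSeries (Fin 2) K)) fK := by
    intro i; rw [hfKX]
  have hcX : ∀ i : Fin 2, HasSubst (fun _ : Unit => (X i : MvPowerSeries (Fin 2) O)) :=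
    fun i => hasSubst_of_constantCoeff_zero (fun _ => constantCoeff_X i)
  have hcXK : ∀ i : Fin 2, HasSubst (fun _ : Unit => (X i : MvPowerSeries (Fin 2) K)) :=
    fun i => hasSubst_of_constantCoeff_zero (fun _ => constantCoeff_X i)
  have hcF : HasSubst (fun _ : Unit => Ff) := hasSubst_of_constantCoeff_zero (fun _ => hF0)
  have hcFK : HasSubst (fun _ : Unit => FK) := hasSubst_of_constantCoeff_zero (fun _ => hFK0)
  have hcf : HasSubst (fun _ : Unit => f) := hasSubst_of_constantCoeff_zero (fun _ => hf0)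
  have hcfK : HasSubst (fun _ : Unit => fK) := hasSubst_of_constantCoeff_zero (fun _ => hfK0)
  have hfX0 : ∀ i, constantCoeff (fX i) = 0 := by
    intro i
    rw [hfXi]
    exact constantCoeff_subst_eq_zero (hcX i) (fun _ => constantCoeff_X i) hf0
  have hfXs : HasSubst fX := hasSubst_of_constantCoeff_zero hfX0
  have hfKX0 : ∀ i, constantCoeff (fKX i) = 0 := by
    intro i
    rw [hfKXi]
    exact constantCoeff_subst_eq_zero (hcXK i) (fun _ => constantCoeff_X i) hfK0
  have hfKXs : HasSubst fKX := hasSubst_of_constantCoeff_zero hfKX0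
  have hmapfX : ∀ i, MvPowerSeries.map φ (fX i) = fKX i := by
    intro i
    rw [hfXi, hfKXi, map_subst (hcX i) f, hfKdef]
    show subst (fun _ : Unit => MvPowerSeries.map φ (X i)) (MvPowerSeries.map φ f) = _
    rw [MvPowerSeries.map_X]
    rfl
  have hFK : subst (fun _ : Unit => FK) fK = subst fKX FK := by
    have h := congrArg (MvPowerSeries.map φ) hF'
    rw [map_subst hcF f, map_subst hfXs Ff] at h
    have e : (fun i => MvPowerSeries.map φ (fX i)) = fKX := funext hmapfX
    rw [e] at h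
    rw [hFKdef, hfKdef]; exact h
  obtain ⟨ℓ, hℓ0, hℓ1, hℓf⟩ := exists_log hc hq hfK
  have hℓf' : subst (fun _ : Unit => fK) ℓ = c • ℓ := hℓf
  have hcℓ : HasSubst (fun _ : Unit => ℓ) := hasSubst_of_constantCoeff_zero (fun _ => hℓ0)
  refine ⟨ℓ, ⟨hℓ0, hℓ1, ?_⟩, ?_, ?_, ?_⟩
  · rw [← hfKdef, ← hcdef]; exact hℓf
  · intro ℓ' h0 h1 hf'
    rw [← hfKdef, ← hcdef] at hf'
    have hf'' : subst (fun _ : Unit => fK) ℓ' = c • ℓ' := hf'
    have hH := LT_lin_unique_one hc hq hfK (ℓ' - ℓ) (by rw [map_sub, h0, hℓ0, sub_zero])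
      (by rw [map_sub, h1, hℓ1, sub_self])
      (by rw [subst_sub hcfK, hf'', hℓf', smul_sub])
    exact sub_eq_zero.mp hH
  · rw [← hFf, ← hFKdef]
    show subst (fun _ : Unit => FK) ℓ =
      subst (fun _ : Unit => (X 0 : MvPowerSeries (Fin 2) K)) ℓ +
        subst (fun _ : Unit => (X 1 : MvPowerSeries (Fin 2) K)) ℓ
    obtain ⟨H, hHdef⟩ : ∃ H : MvPowerSeries (Fin 2) K, H = subst (fun _ : Unit => FK) ℓ -
      (subst (fun _ : Unit => (X 0 : MvPowerSeries (Fin 2) K)) ℓ +
        subst (fun _ : Unit => (X 1 : MvPowerSeries (Fin 2) K)) ℓ) := ⟨_, rfl⟩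
    have B1 : V 2 (subst (fun _ : Unit => FK) ℓ - FK) := by
      have h := V2_ps_subst_sub_lin FK hFK0 ℓ hℓ0
      rw [hℓ1, one_smul] at h
      exact h
    have B2 : V 2 (FK - (X 0 + X 1)) := by
      have h := V2_sub_lin (H := FK) hFK0
      rw [Fin.sum_univ_two, hFKX, hFKY, one_smul, one_smul] at h
      exact h
    have B3 : ∀ i : Fin 2, V 2 (subst (fun _ : Unit => (X i : MvPowerSeries (Fin 2) K)) ℓ - X i) := by
      intro i
      have h := V2_ps_subst_sub_lin (X i : MvPowerSeries (Fin 2) K) (constantCoeff_X i) ℓ hℓ0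
      rw [hℓ1, one_smul] at h
      exact h
    have h2 : V 2 H := by
      have e : H = (subst (fun _ : Unit => FK) ℓ - FK) + (FK - (X 0 + X 1)) -
          (subst (fun _ : Unit => (X 0 : MvPowerSeries (Fin 2) K)) ℓ - X 0) -
          (subst (fun _ : Unit => (X 1 : MvPowerSeries (Fin 2) K)) ℓ - X 1) := by
        rw [hHdef]; abel
      rw [e]
      exact V_sub (V_sub (V_add B1 B2) (B3 0)) (B3 1)
    have E1 : subst fKX (subst (fun _ : Unit => FK) ℓ) = c • subst (fun _ : Unit => FK) ℓ := by
      calc subst fKX (subst (fun _ : Unit => FK) ℓ)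
          = subst (fun _ : Unit => subst fKX FK) ℓ := subst_comp_subst_apply hcFK hfKXs ℓ
        _ = subst (fun _ : Unit => subst (fun _ : Unit => FK) fK) ℓ := by rw [hFK]
        _ = subst (fun _ : Unit => FK) (subst (fun _ : Unit => fK) ℓ) :=
            (subst_comp_subst_apply hcfK hcFK ℓ).symm
        _ = subst (fun _ : Unit => FK) (c • ℓ) := by rw [hℓf']
        _ = c • subst (fun _ : Unit => FK) ℓ := subst_smul hcFK c ℓ
    have E2 : ∀ i : Fin 2, subst fKX (subst (fun _ : Unit => (X i : MvPowerSeries (Fin 2) K)) ℓ) =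
        c • subst (fun _ : Unit => (X i : MvPowerSeries (Fin 2) K)) ℓ := by
      intro i
      calc subst fKX (subst (fun _ : Unit => (X i : MvPowerSeries (Fin 2) K)) ℓ)
          = subst (fun _ : Unit => subst fKX (X i : MvPowerSeries (Fin 2) K)) ℓ :=
            subst_comp_subst_apply (hcXK i) hfKXs ℓ
        _ = subst (fun _ : Unit => subst (fun _ : Unit => (X i : MvPowerSeries (Fin 2) K)) fK) ℓ := by
            rw [subst_X hfKXs i, hfKXi]
        _ = subst (fun _ : Unit => (X i : MvPowerSeries (Fin 2) K)) (subst (fun _ : Unit => fK) ℓ) :=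
            (subst_comp_subst_apply hcfK (hcXK i) ℓ).symm
        _ = subst (fun _ : Unit => (X i : MvPowerSeries (Fin 2) K)) (c • ℓ) := by rw [hℓf']
        _ = c • subst (fun _ : Unit => (X i : MvPowerSeries (Fin 2) K)) ℓ :=
            subst_smul (hcXK i) c ℓ
    have eH : subst fKX H = c • H := by
      rw [hHdef, subst_sub hfKXs, subst_add hfKXs, E1, E2 0, E2 1, smul_sub, smul_add]
    rw [hfKX] at eH
    have hH0 := LT_lin_unique hc hq hfK H h2 eH
    rw [hHdef] at hH0
    exact sub_eq_zero.mp hH0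
  · intro α g hg0 hg1 hgf
    have hgf' : subst (fun _ : Unit => g) f = subst (fun _ : Unit => f) g := hgf
    have hcg : HasSubst (fun _ : Unit => g) := hasSubst_of_constantCoeff_zero (fun _ => hg0)
    obtain ⟨gK, hgKdef⟩ : ∃ gK : PowerSeries K, gK = PowerSeries.map φ g := ⟨_, rfl⟩
    rw [← hgKdef]
    have hgK0 : PowerSeries.constantCoeff gK = 0 := by
      rw [hgKdef, ← PowerSeries.coeff_zero_eq_constantCoeff_apply, PowerSeries.coeff_map,
        PowerSeries.coeff_zero_eq_constantCoeff_apply, hg0, map_zero]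
    have hgK1 : PowerSeries.coeff 1 gK = φ α := by
      rw [hgKdef, PowerSeries.coeff_map, hg1]
    have hcgK : HasSubst (fun _ : Unit => gK) := hasSubst_of_constantCoeff_zero (fun _ => hgK0)
    have hgfK : subst (fun _ : Unit => gK) fK = subst (fun _ : Unit => fK) gK := by
      have h := congrArg (MvPowerSeries.map φ) hgf'
      rw [map_subst hcg f, map_subst hcf g] at h
      rw [hgKdef, hfKdef]; exact h
    show subst (fun _ : Unit => gK) ℓ = φ α • ℓ
    have hlin : PowerSeries.coeff 1 (subst (fun _ : Unit => gK) ℓ : PowerSeries K) = φ α := by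
      have h := V2_ps_subst_sub_lin (gK : MvPowerSeries Unit K) hgK0 ℓ hℓ0
      have h' := h (Finsupp.single () 1) (by rw [Finsupp.degree_single]; decide)
      rw [map_sub, map_smul, smul_eq_mul, sub_eq_zero] at h'
      calc PowerSeries.coeff 1 (subst (fun _ : Unit => gK) ℓ : PowerSeries K)
          = PowerSeries.coeff 1 ℓ * PowerSeries.coeff 1 gK := h'
        _ = φ α := by rw [hℓ1, hgK1, one_mul]
    have hcc : PowerSeries.constantCoeff (subst (fun _ : Unit => gK) ℓ : PowerSeries K) = 0 :=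
      constantCoeff_subst_eq_zero hcgK (fun _ => hgK0) hℓ0
    have E : subst (fun _ : Unit => fK) (subst (fun _ : Unit => gK) ℓ) =
        c • subst (fun _ : Unit => gK) ℓ := by
      calc subst (fun _ : Unit => fK) (subst (fun _ : Unit => gK) ℓ)
          = subst (fun _ : Unit => subst (fun _ : Unit => fK) gK) ℓ :=
            subst_comp_subst_apply hcgK hcfK ℓ
        _ = subst (fun _ : Unit => subst (fun _ : Unit => gK) fK) ℓ := by rw [hgfK]
        _ = subst (fun _ : Unit => gK) (subst (fun _ : Unit => fK) ℓ) :=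
            (subst_comp_subst_apply hcfK hcgK ℓ).symm
        _ = subst (fun _ : Unit => gK) (c • ℓ) := by rw [hℓf']
        _ = c • subst (fun _ : Unit => gK) ℓ := subst_smul hcgK c ℓ
    have hH := LT_lin_unique_one hc hq hfK (subst (fun _ : Unit => gK) ℓ - φ α • ℓ)
      (by rw [map_sub, hcc, ← PowerSeries.coeff_zero_eq_constantCoeff_apply, map_smul,
            PowerSeries.coeff_zero_eq_constantCoeff_apply, hℓ0, smul_zero, sub_zero])
      (by rw [map_sub, hlin, map_smul, hℓ1, smul_eq_mul, mul_one, sub_self])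
      (by rw [subst_sub hcfK, E, subst_smul hcfK, hℓf', smul_sub, smul_comm])
    exact sub_eq_zero.mp hH


end Groth.Agent.S15052
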