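import Groth.Statements.S15054
-- import your own Groth.Agent.* helpers here

set_option autoImplicit false
universe u
open CategoryTheory CategoryTheory.Limits MonoidalCategory CartesianMonoidalCategory MonObj GrpObj AlgebraicGeometry
open BTGrp

namespace Groth.Agent.S15054

section
variable {S : Scheme.{u}}

theorem isKernel_iff {N G Q : Over S} [GrpObj Q] (i : N ⟶ G) (q : G ⟶ Q) :
    AlgGrp.IsKernel i q ↔
      (i ≫ q = 1) ∧ ∀ (T : Over S) (x : T ⟶ G), x ≫ q = 1 → ∃! z : T ⟶ N, z ≫ i = x := by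
  unfold AlgGrp.IsKernel
  constructor
  · intro h
    refine ⟨by rw [h.w, Hom.one_def], ?_⟩
    intro T x hx
    refine ⟨h.lift x (toUnit T) (by rw [hx, Hom.one_def]), h.lift_fst _ _ _, ?_⟩
    intro z hz
    apply h.hom_ext
    · rw [hz, h.lift_fst]
    · exact toUnit_unique _ _
  · rintro ⟨h1, h2⟩
    have hs : ∀ s : PullbackCone q η[Q], s.fst ≫ q = 1 := by
      intro s
      rw [s.condition, Hom.one_def, toUnit_unique s.snd]
    refine ⟨⟨by rw [h1, Hom.one_def]⟩, ⟨PullbackCone.IsLimit.mk _
      (fun s => (h2 s.pt s.fst (hs s)).choose)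
      ?_ ?_ ?_⟩⟩
    · intro s
      exact (h2 s.pt s.fst (hs s)).choose_spec.1
    · intro s
      exact toUnit_unique _ _
    · intro s m hm _
      exact (h2 s.pt s.fst (hs s)).choose_spec.2 m hm

end

/-- Let ℓ be a prime and G = (G_ν)_ν an ℓ-divisible (Barsotti–Tate) group of height h over a scheme S,
given as the system of its finite locally free layers G_ν of order ℓ^{νh} with inclusions G_ν →
G_{ν+1} exhibiting G_ν as the ℓ^ν-torsion of G_{ν+1} and projections G_{ν+1} → G_ν (multiplication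
by ℓ). Let i_t : G_1 → G_{t+1} denote the iterated inclusions, pinned by i_0 = id and i_{t+1} = i_t
followed by G_{t+1} → G_{t+2}. Then for every t, i_t identifies G_1 with the kernel of
multiplication by ℓ on G_{t+1}: the ℓ-torsion of every layer is the first layer. (The published
statement identifies G_v with the ℓ^v-torsion of G_{v+t} for all v; this row is its case v = 1. The
published base is the spectrum of a Noetherian ring; the argument is formal and any base scheme is
allowed here.) -/
theorem result {S : Scheme.{u}} (ℓ h : ℕ) [Fact ℓ.Prime] (G : BTGrp.ProBT ℓ S h)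
    (i : (t : ℕ) → (G.G 1 ⟶ G.G (t + 1))) (hi0 : i 0 = 𝟙 (G.G 1))
    (hi : ∀ t : ℕ, i (t + 1) = i t ≫ G.incl (t + 1)) (t : ℕ) :
    AlgGrp.IsKernel (i t) ((𝟙 (G.G (t + 1))) ^ ℓ) := by
  induction t with
  | zero =>
    rw [isKernel_iff, hi0]
    have h0 := (isKernel_iff _ _).mp (G.isKernel 0)
    have hincl : G.incl 0 = 1 := by
      have := h0.1
      simpa using this
    have hl : (𝟙 (G.G (0 + 1))) ^ ℓ = 1 := by
      rw [← G.proj_incl 0, hincl, MonObj.comp_one]
    refine ⟨by rw [Category.id_comp, hl], ?_⟩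
    intro T x _
    exact ⟨x, Category.comp_id _, fun z hz => by rw [← hz, Category.comp_id]⟩
  | succ t ih =>
    rw [isKernel_iff] at ih ⊢
    have hk := (isKernel_iff _ _).mp (G.isKernel (t + 1))
    have hmono : ∀ (T : Over S) (a b : T ⟶ G.G (t + 1)),
        a ≫ G.incl (t + 1) = b ≫ G.incl (t + 1) → a = b := by
      intro T a b hab
      have ha : (a ≫ G.incl (t + 1)) ≫ (𝟙 (G.G (t + 1 + 1))) ^ (ℓ ^ (t + 1)) = 1 := by
        rw [Category.assoc, hk.1, MonObj.comp_one]
      obtain ⟨z, _, hz⟩ := hk.2 T (a ≫ G.incl (t + 1)) ha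
      rw [hz a rfl, hz b hab.symm]
    rw [hi t]
    constructor
    · have e1 : (i t ≫ G.incl (t + 1)) ≫ (𝟙 (G.G (t + 1 + 1))) ^ ℓ =
          (i t ≫ (𝟙 (G.G (t + 1))) ^ ℓ) ≫ G.incl (t + 1) := by
        rw [MonObj.comp_pow, Category.comp_id, MonObj.comp_pow, Category.comp_id,
          MonObj.pow_comp]
      rw [e1, ih.1, MonObj.one_comp]
    · intro T x hx
      rw [MonObj.comp_pow, Category.comp_id] at hx
      have hx2 : x ≫ (𝟙 (G.G (t + 1 + 1))) ^ (ℓ ^ (t + 1)) = 1 := by
        rw [MonObj.comp_pow, Category.comp_id, pow_succ', pow_mul, hx, one_pow]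
      obtain ⟨y, hy, -⟩ := hk.2 T x hx2
      have hy2 : y ≫ (𝟙 (G.G (t + 1))) ^ ℓ = 1 := by
        rw [MonObj.comp_pow, Category.comp_id]
        apply hmono
        rw [MonObj.pow_comp, hy, hx, MonObj.one_comp]
      obtain ⟨z, hz, hzu⟩ := ih.2 T y hy2
      refine ⟨z, by simp only [← Category.assoc, hz, hy], ?_⟩
      intro z' hz'
      apply hzu
      apply hmono
      rw [Category.assoc]
      exact hz'.trans hy.symm

end Groth.Agent.S15054
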