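import Groth.Statements.S15056
import Mathlib

set_option autoImplicit false
universe u
open scoped TensorProduct
open FrobAlg

namespace Groth.Agent.S15056

/-- Let p be a prime number, R a Noetherian ring of characteristic p and A a finitely generated
commutative Hopf algebra over R (an affine algebraic R-group G = Spec A). The n-fold relative
Frobenius of G is the trivial homomorphism exactly when a^(p^n) = 0 for every a in the augmentation
ideal; G has finite Frobenius height when this holds for some n. Then G has finite Frobenius height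
if and only if A is a finite R-module and, for every algebraically closed field K and every ring
homomorphism R → K, the base change K ⊗_R A is a local ring (G is finite over R with connected
geometric fibres). -/
theorem result (p : ℕ) [Fact p.Prime] (R : Type u) [CommRing R] [CharP R p]
    [IsNoetherianRing R] (A : Type u) [CommRing A] [HopfAlgebra R A] [Algebra.FiniteType R A] :
    (∃ n : ℕ, ∀ a : A, Bialgebra.counitAlgHom R A a = 0 → a ^ p ^ n = 0) ↔
      (Module.Finite R A ∧ ∀ (K : Type u) [Field K] [IsAlgClosed K] [Algebra R K], IsLocalRing (K ⊗[R] A)) := by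
  classical
  have hp : p.Prime := Fact.out
  constructor
  · rintro ⟨n, hn⟩
    have hnil : ∀ a : A, IsNilpotent (a - algebraMap R A (Bialgebra.counitAlgHom R A a)) := by
      intro a
      refine ⟨p ^ n, hn _ ?_⟩
      rw [map_sub, AlgHom.commutes, Algebra.algebraMap_self_apply, sub_self]
    refine ⟨?_, ?_⟩
    · have hint : Algebra.IsIntegral R A := by
        refine ⟨fun a => ?_⟩
        have h1 : IsIntegral R (a - algebraMap R A (Bialgebra.counitAlgHom R A a)) := by
          obtain ⟨m, hm⟩ := hnil a
          rcases Nat.eq_zero_or_pos m with h0 | h0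
          · subst h0
            rw [pow_zero] at hm
            have : Subsingleton A := subsingleton_of_zero_eq_one hm.symm
            rw [Subsingleton.elim (a - _) 0]
            exact isIntegral_zero
          · refine IsIntegral.of_pow h0 ?_
            rw [hm]; exact isIntegral_zero
        have h2 := h1.add (isIntegral_algebraMap (x := Bialgebra.counitAlgHom R A a))
        rwa [sub_add_cancel] at h2
      exact Algebra.IsIntegral.finite
    · intro K _ _ _
      let ψ : K ⊗[R] A →ₐ[K] K :=
        (Algebra.TensorProduct.rid R K K).toAlgHom.comp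
          (Algebra.TensorProduct.map (AlgHom.id K K) (Bialgebra.counitAlgHom R A))
      have hψ : ∀ (c : K) (a : A), ψ (c ⊗ₜ[R] a) = Bialgebra.counitAlgHom R A a • c := by
        intro c a
        simp [ψ]
      have key : ∀ x : K ⊗[R] A, IsNilpotent (x - algebraMap K (K ⊗[R] A) (ψ x)) := by
        intro x
        induction x with
        | zero => simp
        | tmul c a =>
          have e : c ⊗ₜ[R] a - algebraMap K (K ⊗[R] A) (ψ (c ⊗ₜ[R] a)) =
              c ⊗ₜ[R] (a - algebraMap R A (Bialgebra.counitAlgHom R A a)) := by
            rw [hψ, Algebra.TensorProduct.algebraMap_apply, Algebra.algebraMap_self_apply,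
              TensorProduct.tmul_sub, Algebra.algebraMap_eq_smul_one (A := A),
              TensorProduct.tmul_smul, TensorProduct.smul_tmul']
          rw [e]
          obtain ⟨m, hm⟩ := hnil a
          refine ⟨m, ?_⟩
          rw [Algebra.TensorProduct.tmul_pow, hm, TensorProduct.tmul_zero]
        | add x y hx hy =>
          have e : x + y - algebraMap K (K ⊗[R] A) (ψ (x + y)) =
              (x - algebraMap K (K ⊗[R] A) (ψ x)) + (y - algebraMap K (K ⊗[R] A) (ψ y)) := by
            rw [map_add, map_add]; ring
          rw [e]
          exact Commute.isNilpotent_add (Commute.all _ _) hx hy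
      have hnt : Nontrivial (K ⊗[R] A) := by
        refine ⟨⟨0, 1, fun h => ?_⟩⟩
        have := congrArg ψ h
        rw [map_zero, map_one] at this
        exact zero_ne_one this
      have hunit : ∀ x : K ⊗[R] A, ψ x ≠ 0 → IsUnit x := by
        intro x hx
        have hu : IsUnit (algebraMap K (K ⊗[R] A) (ψ x)) := (IsUnit.mk0 _ hx).map _
        have := (key x).isUnit_add_left_of_commute hu (Commute.all _ _)
        rwa [add_sub_cancel] at this
      refine IsLocalRing.of_isUnit_or_isUnit_one_sub_self fun x => ?_
      by_cases hx : ψ x = 0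
      · right
        apply hunit
        rw [map_sub, map_one, hx, sub_zero]
        exact one_ne_zero
      · left; exact hunit x hx
  · rintro ⟨hfin, hloc⟩
    have hNA : IsNoetherianRing A := Algebra.FiniteType.isNoetherianRing R A
    have hle : RingHom.ker (Bialgebra.counitAlgHom R A : A →+* R) ≤ nilradical A := by
      rw [nilradical_eq_sInf]
      refine le_sInf fun Q hQ => ?_
      haveI : Q.IsPrime := hQ
      intro a ha
      let F := FractionRing (A ⧸ Q)
      let L := AlgebraicClosure F
      let g₀ : A →+* L := (algebraMap F L).comp ((algebraMap (A ⧸ Q) F).comp (Ideal.Quotient.mk Q))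
      letI : Algebra R L := (g₀.comp (algebraMap R A)).toAlgebra
      let g : A →ₐ[R] L := ⟨g₀, fun r => rfl⟩
      haveI := hloc L
      let ψ₁ : L ⊗[R] A →ₐ[L] L :=
        Algebra.TensorProduct.lift (AlgHom.id L L) g (fun _ _ => Commute.all _ _)
      let ψ₂ : L ⊗[R] A →ₐ[L] L :=
        Algebra.TensorProduct.lift (AlgHom.id L L)
          ((Algebra.ofId R L).comp (Bialgebra.counitAlgHom R A)) (fun _ _ => Commute.all _ _)
      have hs1 : Function.Surjective ψ₁ := fun c => ⟨c ⊗ₜ[R] 1, by simp [ψ₁]⟩
      have hs2 : Function.Surjective ψ₂ := fun c => ⟨c ⊗ₜ[R] 1, by simp [ψ₂]⟩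
      have h1 : (RingHom.ker (ψ₁ : L ⊗[R] A →+* L)).IsMaximal :=
        RingHom.ker_isMaximal_of_surjective _ hs1
      have h2 : (RingHom.ker (ψ₂ : L ⊗[R] A →+* L)).IsMaximal :=
        RingHom.ker_isMaximal_of_surjective _ hs2
      have heq : RingHom.ker (ψ₁ : L ⊗[R] A →+* L) = RingHom.ker (ψ₂ : L ⊗[R] A →+* L) :=
        (IsLocalRing.eq_maximalIdeal h1).trans (IsLocalRing.eq_maximalIdeal h2).symm
      have ha0 : Bialgebra.counitAlgHom R A a = 0 := ha
      have e2 : (1 : L) ⊗ₜ[R] a ∈ RingHom.ker (ψ₂ : L ⊗[R] A →+* L) := by
        rw [RingHom.mem_ker]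
        change ψ₂ ((1 : L) ⊗ₜ[R] a) = 0
        simp [ψ₂, ha0]
      rw [← heq, RingHom.mem_ker] at e2
      have e1 : g₀ a = 0 := by
        have : ψ₁ ((1 : L) ⊗ₜ[R] a) = g a := by simp [ψ₁]
        rw [← e2]
        exact this.symm
      have hinj : Function.Injective ((algebraMap F L).comp (algebraMap (A ⧸ Q) F)) :=
        (algebraMap F L).injective.comp (IsFractionRing.injective (A ⧸ Q) F)
      have : Ideal.Quotient.mk Q a = 0 := hinj (by rw [map_zero]; exact e1)
      exact Ideal.Quotient.eq_zero_iff_mem.1 this
    obtain ⟨N, hN⟩ := IsNoetherianRing.isNilpotent_nilradical A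
    refine ⟨N, fun a ha => ?_⟩
    have hmem : a ^ N ∈ nilradical A ^ N := Ideal.pow_mem_pow (hle ha) N
    rw [hN] at hmem
    have h0 : a ^ N = 0 := hmem
    exact pow_eq_zero_of_le (Nat.lt_pow_self hp.one_lt).le h0

end Groth.Agent.S15056
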