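import Groth.Statements.S15059
import Mathlib
import Groth.Agent.Lib.Helper15.KTGalois

set_option autoImplicit false
universe u v
open scoped TensorProduct
open Hopf

namespace Groth.Agent.S15059


section BC
variable (R : Type u) [CommRing R] (S : Type u) [CommRing S] [Algebra R S]
  (A : Type v) [CommRing A] [HopfAlgebra R A] (C : Type v) [CommRing C] [HopfAlgebra R C]
  (π : A →ₐc[R] C)

/-- base change of a bialgebra map. -/
noncomputable def pi' : S ⊗[R] A →ₐc[S] S ⊗[R] C :=
  Bialgebra.TensorProduct.map (BialgHom.id S S) π

theorem pi'_tmul (s : S) (a : A) : pi' R S A C π (s ⊗ₜ[R] a) = s ⊗ₜ[R] π a := by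
  simp [pi']

theorem pi'_surjective (hπ : Function.Surjective π) : Function.Surjective (pi' R S A C π) := by
  intro z
  induction z using TensorProduct.induction_on with
  | zero => exact ⟨0, map_zero _⟩
  | add x y hx hy =>
    obtain ⟨a, rfl⟩ := hx
    obtain ⟨b, rfl⟩ := hy
    exact ⟨a + b, map_add _ _ _⟩
  | tmul s c =>
    obtain ⟨a, rfl⟩ := hπ c
    exact ⟨s ⊗ₜ[R] a, pi'_tmul R S A C π s a⟩

theorem comul_bc (s : S) (a : A) : Coalgebra.comul (R := S) (s ⊗ₜ[R] a) =
    TensorProduct.AlgebraTensorModule.distribBaseChange R S A A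
      (s ⊗ₜ[R] Coalgebra.comul (R := R) a) := by
  rw [TensorProduct.comul_tmul]
  generalize Coalgebra.comul (R := R) a = T
  induction T using TensorProduct.induction_on with
  | zero => simp
  | add x y hx hy => simp only [TensorProduct.tmul_add, map_add, hx, hy]
  | tmul x y =>
    simp only [CommSemiring.comul_apply,
      TensorProduct.AlgebraTensorModule.tensorTensorTensorComm_tmul,
      TensorProduct.AlgebraTensorModule.distribBaseChange_tmul]
    have h1 : s ⊗ₜ[R] y = s • ((1 : S) ⊗ₜ[R] y) := by
      rw [TensorProduct.smul_tmul', smul_eq_mul, mul_one]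
    have h2 : s ⊗ₜ[R] x = s • ((1 : S) ⊗ₜ[R] x) := by
      rw [TensorProduct.smul_tmul', smul_eq_mul, mul_one]
    rw [h1, h2, TensorProduct.tmul_smul, TensorProduct.smul_tmul']

open Groth.Agent.Lib.helper15.KTGalois in
theorem T1 (x : S ⊗[R] A) :
    TensorProduct.AlgebraTensorModule.distribBaseChange R S A C
      (Algebra.TensorProduct.map (AlgHom.id S S) (rho π) x) = rho (pi' R S A C π) x := by
  induction x using TensorProduct.induction_on with
  | zero => simp
  | add x y hx hy => simp only [map_add, hx, hy]
  | tmul s a =>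
    rw [Algebra.TensorProduct.map_tmul, AlgHom.id_apply, rho_apply, rho_apply, comul_bc]
    generalize Coalgebra.comul (R := R) a = T
    induction T using TensorProduct.induction_on with
    | zero => simp
    | add x y hx hy => simp only [TensorProduct.tmul_add, map_add, hx, hy]
    | tmul x y =>
      simp only [LinearMap.lTensor_tmul, TensorProduct.AlgebraTensorModule.distribBaseChange_tmul]
      change _ = (s ⊗ₜ[R] x) ⊗ₜ[S] (pi' R S A C π ((1 : S) ⊗ₜ[R] y))
      rw [pi'_tmul]
      rfl

theorem T2 (x : S ⊗[R] A) :
    TensorProduct.AlgebraTensorModule.distribBaseChange R S A C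
      (Algebra.TensorProduct.map (AlgHom.id S S)
        (Algebra.TensorProduct.includeLeft : A →ₐ[R] A ⊗[R] C) x) = x ⊗ₜ[S] (1 : S ⊗[R] C) := by
  induction x using TensorProduct.induction_on with
  | zero => simp
  | add x y hx hy => simp only [map_add, hx, hy, TensorProduct.add_tmul]
  | tmul s a =>
    rw [Algebra.TensorProduct.map_tmul, AlgHom.id_apply, Algebra.TensorProduct.includeLeft_apply,
      TensorProduct.AlgebraTensorModule.distribBaseChange_tmul, Algebra.TensorProduct.one_def]

open Groth.Agent.Lib.helper15.KTGalois in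
theorem equalizer_eq :
    AlgHom.equalizer (Algebra.TensorProduct.map (AlgHom.id S S) (rho π))
      (Algebra.TensorProduct.map (AlgHom.id S S)
        (Algebra.TensorProduct.includeLeft : A →ₐ[R] A ⊗[R] C)) = coinv (pi' R S A C π) := by
  ext x
  rw [AlgHom.mem_equalizer, mem_coinv, ← T1, ← T2]
  exact (TensorProduct.AlgebraTensorModule.distribBaseChange R S A C).injective.eq_iff.symm

end BC

/-- Let R be a Noetherian ring, A a commutative Hopf algebra over R which is finitely generated and
projective as an R-module (a finite flat R-group G = Spec A) and I a Hopf ideal of A such that A/I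
is projective over R (a finite flat closed subgroup G' = Spec (A/I) of G). Let B ⊆ A be the
R-subalgebra of functions invariant under right translation by G', namely the equaliser of the two
algebra maps A → A ⊗_R (A/I) given by a ↦ (id ⊗ π)(Δ a) and a ↦ a ⊗ 1, so that the quotient G/G' is
Spec B and its rank is the index (G : G'). Then for every prime q of R the rank of A at q is the
rank of A/I at q times the rank of B at q: the order of G is the order of G' times the index. -/
theorem result (R : Type u) [CommRing R] [IsNoetherianRing R] (A : Type v) [CommRing A]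
    [HopfAlgebra R A] [Module.Finite R A] [Module.Projective R A] (I : Ideal A) [I.IsHopfIdeal R]
    [Module.Projective R (A ⧸ I)] (q : PrimeSpectrum R) :
    Module.rankAtStalk A q =
      Module.rankAtStalk (A ⧸ I) q *
        Module.rankAtStalk
          (↥(AlgHom.equalizer
            ((Algebra.TensorProduct.map (AlgHom.id R A) (Ideal.Quotient.mkₐ R I)).comp (Bialgebra.comulAlgHom R A))
            (Algebra.TensorProduct.includeLeft : A →ₐ[R] A ⊗[R] (A ⧸ I)))) q := by
  let S := Localization.AtPrime q.asIdeal
  let π : A →ₐc[R] A ⧸ I := Bialgebra.Quotient.mkBialgHom (R := R) I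
  have hπ' : Function.Surjective (pi' R S A (A ⧸ I) π) :=
    pi'_surjective R S A (A ⧸ I) π Ideal.Quotient.mk_surjective
  have : Module.Free S (S ⊗[R] (A ⧸ I)) := Module.free_of_flat_of_isLocalRing
  have h4 := Groth.Agent.Lib.helper15.KTGalois.finrank_eq_mul_local (pi' R S A (A ⧸ I) π) hπ'
  rw [Module.rankAtStalk_eq_finrank_tensorProduct, Module.rankAtStalk_eq_finrank_tensorProduct,
    Module.rankAtStalk_eq_finrank_tensorProduct]
  change Module.finrank S (S ⊗[R] A) = Module.finrank S (S ⊗[R] (A ⧸ I)) * _
  rw [h4]
  congr 1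
  have heq := equalizer_eq R S A (A ⧸ I) π
  exact ((AlgHom.tensorEqualizerEquiv S S (Groth.Agent.Lib.helper15.KTGalois.rho π)
    (Algebra.TensorProduct.includeLeft : A →ₐ[R] A ⊗[R] (A ⧸ I))).toLinearEquiv.trans
      (Subalgebra.equivOfEq _ _ heq).toLinearEquiv).finrank_eq.symm

end Groth.Agent.S15059
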