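import Groth.Statements.S15060
import Mathlib
import Groth.Agent.S15051

set_option autoImplicit false
universe u
open LubinTate

namespace Groth.Agent.S15060


open Groth.Agent.S15051
open MvPowerSeries



/-- Let O be a discrete valuation ring with finite residue field of cardinality q, π a uniformizer of O,
f = πT + T^q ∈ O[[T]], and F a one-dimensional formal group law over O for which f is an
endomorphism, f(F(X,Y)) = F(f(X), f(Y)). For α ∈ O write [α] for a power series with zero constant
term and linear coefficient α commuting with f (it is unique). Then for all α, β ∈ O and all such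
series [α], [β], [αβ], [α+β] one has [α]([β](T)) = [αβ](T) and F([α](T), [β](T)) = [α+β](T): the map
α ↦ [α] is a ring homomorphism from O to the endomorphisms of F with their formal-group addition and
composition. (The published statement is for the ring of integers of a finite extension of ℚ_p or of
𝔽_q((X)); completeness is not used and any discrete valuation ring with finite residue field is
allowed here.) -/
theorem result (O : Type u) [CommRing O] [IsDomain O] [IsDiscreteValuationRing O]
    [Finite (IsLocalRing.ResidueField O)] (π : O) (hπ : Irreducible π) (f : PowerSeries O)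
    (hf : f = π • PowerSeries.X + PowerSeries.X ^ Nat.card (IsLocalRing.ResidueField O))
    (F : FormalGroup O)
    (hF : PowerSeries.subst F.toPowerSeries f =
        MvPowerSeries.subst (fun i : Fin 2 => PowerSeries.subst (MvPowerSeries.X i : MvPowerSeries (Fin 2) O) f)
          F.toPowerSeries)
    (α β : O) (gα gβ gαβ gs : PowerSeries O)
    (hα0 : gα.constantCoeff = 0) (hα1 : gα.coeff 1 = α) (hαf : PowerSeries.subst gα f = PowerSeries.subst f gα)
    (hβ0 : gβ.constantCoeff = 0) (hβ1 : gβ.coeff 1 = β) (hβf : PowerSeries.subst gβ f = PowerSeries.subst f gβ)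
    (hαβ0 : gαβ.constantCoeff = 0) (hαβ1 : gαβ.coeff 1 = α * β)
    (hαβf : PowerSeries.subst gαβ f = PowerSeries.subst f gαβ)
    (hs0 : gs.constantCoeff = 0) (hs1 : gs.coeff 1 = α + β) (hsf : PowerSeries.subst gs f = PowerSeries.subst f gs) :
    PowerSeries.subst gβ gα = gαβ ∧ F.toPowerSeries.subst ![gα, gβ] = gs := by
  classical
  obtain ⟨q, hqdef⟩ : ∃ q, q = Nat.card (IsLocalRing.ResidueField O) := ⟨_, rfl⟩
  rw [← hqdef] at hf
  have hq : 2 ≤ q := by rw [hqdef]; exact Finite.one_lt_card
  have hc := pi_pow_ne hπ
  have hf0 : PowerSeries.constantCoeff f = 0 := LT_cc hq hf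
  obtain ⟨Ff, hFf⟩ : ∃ Ff, Ff = F.toPowerSeries := ⟨_, rfl⟩
  have hF0 : constantCoeff Ff = 0 := by rw [hFf]; exact F.zero_constantCoeff
  have hFX : coeff (Finsupp.single 0 1) Ff = 1 := by rw [hFf]; exact F.lin_coeff_X
  have hFY : coeff (Finsupp.single 1 1) Ff = 1 := by rw [hFf]; exact F.lin_coeff_Y
  obtain ⟨fX, hfX⟩ : ∃ fX : Fin 2 → MvPowerSeries (Fin 2) O,
      fX = fun i => subst (fun _ : Unit => (X i : MvPowerSeries (Fin 2) O)) f :=
    ⟨_, rfl⟩
  have hfXi : ∀ i, fX i = subst (fun _ : Unit => (X i : MvPowerSeries (Fin 2) O)) f := by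
    intro i; rw [hfX]
  have hF' : subst (fun _ : Unit => Ff) f = subst fX Ff := by
    rw [hFf, hfX]; exact hF
  have hαf' : subst (fun _ : Unit => gα) f = subst (fun _ : Unit => f) gα := hαf
  have hβf' : subst (fun _ : Unit => gβ) f = subst (fun _ : Unit => f) gβ := hβf
  have hαβf' : subst (fun _ : Unit => gαβ) f = subst (fun _ : Unit => f) gαβ := hαβf
  have hsf' : subst (fun _ : Unit => gs) f = subst (fun _ : Unit => f) gs := hsf
  have hcX : ∀ i : Fin 2, HasSubst (fun _ : Unit => (X i : MvPowerSeries (Fin 2) O)) :=
    fun i => hasSubst_of_constantCoeff_zero (fun _ => constantCoeff_X i)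
  have hcF : HasSubst (fun _ : Unit => Ff) := hasSubst_of_constantCoeff_zero (fun _ => hF0)
  have hcf : HasSubst (fun _ : Unit => f) := hasSubst_of_constantCoeff_zero (fun _ => hf0)
  have hcα : HasSubst (fun _ : Unit => gα) := hasSubst_of_constantCoeff_zero (fun _ => hα0)
  have hcβ : HasSubst (fun _ : Unit => gβ) := hasSubst_of_constantCoeff_zero (fun _ => hβ0)
  have hfX0 : ∀ i, constantCoeff (fX i) = 0 := by
    intro i
    rw [hfXi]
    exact constantCoeff_subst_eq_zero (hcX i) (fun _ => constantCoeff_X i) hf0
  have hfXs : HasSubst fX := hasSubst_of_constantCoeff_zero hfX0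
  have part1 : subst (fun _ : Unit => gβ) gα = gαβ := by
    obtain ⟨G, hGdef⟩ : ∃ G : PowerSeries O, G = subst (fun _ : Unit => gβ) gα := ⟨_, rfl⟩
    rw [← hGdef]
    have hG0 : PowerSeries.constantCoeff G = 0 := by
      rw [hGdef]; exact constantCoeff_subst_eq_zero hcβ (fun _ => hβ0) hα0
    have hG1 : PowerSeries.coeff 1 G = PowerSeries.coeff 1 gαβ := by
      have h := V2_ps_subst_sub_lin (gβ : MvPowerSeries Unit O) hβ0 gα hα0
      rw [← hGdef] at h
      have h' := h (Finsupp.single () 1) (by rw [Finsupp.degree_single]; decide)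
      rw [map_sub, map_smul, smul_eq_mul, sub_eq_zero] at h'
      rw [hαβ1]
      calc PowerSeries.coeff 1 G = PowerSeries.coeff 1 gα * PowerSeries.coeff 1 gβ := h'
        _ = α * β := by rw [hα1, hβ1]
    have eG : subst (fun _ : Unit => G) f = subst (fun _ : Unit => f) G := by
      rw [hGdef]
      calc subst (fun _ : Unit => subst (fun _ : Unit => gβ) gα) f
          = subst (fun _ : Unit => gβ) (subst (fun _ : Unit => gα) f) :=
            (subst_comp_subst_apply hcα hcβ f).symm
        _ = subst (fun _ : Unit => gβ) (subst (fun _ : Unit => f) gα) := by rw [hαf']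
        _ = subst (fun _ : Unit => subst (fun _ : Unit => gβ) f) gα :=
            subst_comp_subst_apply hcf hcβ gα
        _ = subst (fun _ : Unit => subst (fun _ : Unit => f) gβ) gα := by rw [hβf']
        _ = subst (fun _ : Unit => f) (subst (fun _ : Unit => gβ) gα) :=
            (subst_comp_subst_apply hcβ hcf gα).symm
    exact LT_unique_one hc hq hf G gαβ hG0 hαβ0 hG1 eG hαβf'
  have part2 : ∀ p : Fin 2 → PowerSeries O, p 0 = gα → p 1 = gβ → subst p Ff = gs := by
    intro p hp0 hp1
    have hpcc : ∀ i, constantCoeff (p i) = 0 := by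
      intro i; fin_cases i
      · show constantCoeff (p 0) = 0
        rw [hp0]; exact hα0
      · show constantCoeff (p 1) = 0
        rw [hp1]; exact hβ0
    have hps : HasSubst p := hasSubst_of_constantCoeff_zero hpcc
    have hpf : ∀ i, subst (fun _ : Unit => p i) f = subst (fun _ : Unit => f) (p i) := by
      intro i; fin_cases i
      · show subst (fun _ : Unit => p 0) f = subst (fun _ : Unit => f) (p 0)
        rw [hp0]; exact hαf'
      · show subst (fun _ : Unit => p 1) f = subst (fun _ : Unit => f) (p 1)
        rw [hp1]; exact hβf'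
    obtain ⟨G, hGdef⟩ : ∃ G : PowerSeries O, G = subst p Ff := ⟨_, rfl⟩
    rw [← hGdef]
    have hG0 : PowerSeries.constantCoeff G = 0 := by
      rw [hGdef]; exact constantCoeff_subst_eq_zero hps hpcc hF0
    have hG1 : PowerSeries.coeff 1 G = PowerSeries.coeff 1 gs := by
      have h := V2_subst_sub_lin hps hpcc (H := Ff) hF0
      rw [Fin.sum_univ_two, hFX, hFY, one_smul, one_smul, ← hGdef, hp0, hp1] at h
      have h' := h (Finsupp.single () 1) (by rw [Finsupp.degree_single]; decide)
      rw [map_sub, map_add, sub_eq_zero] at h'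
      rw [hs1]
      calc PowerSeries.coeff 1 G = PowerSeries.coeff 1 gα + PowerSeries.coeff 1 gβ := h'
        _ = α + β := by rw [hα1, hβ1]
    have hswap : ∀ i, subst p (fX i) = subst (fun _ : Unit => f) (p i) := by
      intro i
      rw [hfXi, subst_comp_subst_apply (hcX i) hps f, ← hpf i]
      congr 1
      funext _
      exact subst_X hps i
    have eG : subst (fun _ : Unit => G) f = subst (fun _ : Unit => f) G := by
      rw [hGdef]
      calc subst (fun _ : Unit => subst p Ff) f
          = subst p (subst (fun _ : Unit => Ff) f) := (subst_comp_subst_apply hcF hps f).symm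
        _ = subst p (subst fX Ff) := by rw [hF']
        _ = subst (fun i => subst p (fX i)) Ff := subst_comp_subst_apply hfXs hps Ff
        _ = subst (fun i => subst (fun _ : Unit => f) (p i)) Ff := by
            congr 1; funext i; exact hswap i
        _ = subst (fun _ : Unit => f) (subst p Ff) := (subst_comp_subst_apply hps hcf Ff).symm
    exact LT_unique_one hc hq hf G gs hG0 hs0 hG1 eG hsf'
  rw [hFf] at part2
  exact ⟨part1, part2 ![gα, gβ] rfl rfl⟩


end Groth.Agent.S15060
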