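import Groth.Statements.S15062
import Mathlib

set_option autoImplicit false
universe u
open scoped TensorProduct
open Hopf

namespace Groth.Agent.S15062

/-- Let R be a henselian Noetherian local ring and A a commutative Hopf algebra over R which is finite
and flat as an R-module (a finite flat R-group G = Spec A, not assumed commutative); let e ∈ A be an
idempotent with ε(e) = 1 such that A/(1 − e) is a local ring, so that G⁰ = Spec A/(1 − e) is the
connected component of the unit section, and let B ⊆ A be the subalgebra of functions invariant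
under right translation by G⁰: the equaliser of a ↦ (id ⊗ π)(Δ a) and a ↦ a ⊗ 1 into A ⊗_R A/(1 − e)
(so Spec B = G^ét). Then: (2) for every commutative Hopf algebra C over R which is finite étale over
R (a finite étale R-group H) and every bialgebra homomorphism φ : C → A (a homomorphism G → H), the
image of φ lies in B — the homomorphism factors (necessarily uniquely, A being faithfully flat over
B) through G → G^ét; (3) for every commutative Hopf algebra D over R which is finite and flat over R
and a local ring (a connected finite flat R-group H) and every bialgebra homomorphism ψ : A → D (a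
homomorphism H → G), ψ(e) = 1, i.e. ψ kills the ideal (1 − e) and the homomorphism factors
(uniquely) through G⁰ → G. -/
theorem result (R : Type u) [CommRing R] [HenselianLocalRing R] [IsNoetherianRing R]
    (A : Type u) [CommRing A] [HopfAlgebra R A] [Module.Finite R A] [Module.Flat R A]
    (e : A) (he : IsIdempotentElem e) (hε : Bialgebra.counitAlgHom R A e = 1)
    [IsLocalRing (A ⧸ Ideal.span ({1 - e} : Set A))] :
    (∀ (C : Type u) [CommRing C] [HopfAlgebra R C] [Module.Finite R C] [Algebra.Etale R C] (φ : C →ₐc[R] A) (c : C),
        φ c ∈ (AlgHom.equalizer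
          ((Algebra.TensorProduct.map (AlgHom.id R A) (Ideal.Quotient.mkₐ R (Ideal.span ({1 - e} : Set A)))).comp
            (Bialgebra.comulAlgHom R A))
          (Algebra.TensorProduct.includeLeft : A →ₐ[R] A ⊗[R] (A ⧸ Ideal.span ({1 - e} : Set A))))) ∧
      ∀ (D : Type u) [CommRing D] [HopfAlgebra R D] [Module.Finite R D] [Module.Flat R D] [IsLocalRing D]
        (ψ : A →ₐc[R] D), ψ e = 1 := by
  -- idempotents of local rings
  have hidem : ∀ (S : Type u) [CommRing S] [IsLocalRing S] (a : S), IsIdempotentElem a →
      a = 0 ∨ a = 1 := by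
    intro S _ _ a ha
    rcases IsLocalRing.isUnit_or_isUnit_one_sub_self a with h | h
    · right
      have h1 : a * (a - 1) = 0 := by rw [mul_sub, mul_one, ha.eq, sub_self]
      exact sub_eq_zero.1 (h.mul_right_eq_zero.1 h1)
    · left
      have h1 : (1 - a) * a = 0 := by rw [sub_mul, one_mul, ha.eq, sub_self]
      exact h.mul_right_eq_zero.1 h1
  have hRnt : Nontrivial R := inferInstance
  refine ⟨?_, ?_⟩
  · intro C _ _ _ _ φ c
    -- the counit of `A⁰`
    have hker : ∀ a ∈ Ideal.span ({1 - e} : Set A), Bialgebra.counitAlgHom R A a = 0 := by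
      intro a ha
      obtain ⟨b, rfl⟩ := Ideal.mem_span_singleton'.1 ha
      rw [map_mul, map_sub, map_one, hε, sub_self, mul_zero]
    let ε₀ : (A ⧸ Ideal.span ({1 - e} : Set A)) →ₐ[R] R :=
      Ideal.Quotient.liftₐ _ (Bialgebra.counitAlgHom R A) hker
    let π : A →ₐ[R] (A ⧸ Ideal.span ({1 - e} : Set A)) := Ideal.Quotient.mkₐ R _
    let θ : C →ₐ[R] (A ⧸ Ideal.span ({1 - e} : Set A)) := π.comp (φ : C →ₐ[R] A)
    have hθε : ∀ c : C, ε₀ (θ c) = Bialgebra.counitAlgHom R C c := by
      intro c
      change Bialgebra.counitAlgHom R A (φ c) = _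
      exact CoalgHomClass.counit_comp_apply φ c
    -- the idempotent of `C` cutting out the unit section
    let Ψ : TensorProduct R C C →ₐ[R] C :=
      Algebra.TensorProduct.lift ((Algebra.ofId R C).comp (Bialgebra.counitAlgHom R C))
        (AlgHom.id R C) (fun _ _ => Commute.all _ _)
    let f : C := Ψ (Algebra.FormallyUnramified.elem R C)
    have hf1 : ∀ s : C, (s - algebraMap R C (Bialgebra.counitAlgHom R C s)) * f = 0 := by
      intro s
      have := congrArg Ψ (Algebra.FormallyUnramified.one_tmul_sub_tmul_one_mul_elem (R := R) s)
      rw [map_mul, map_sub, map_zero] at this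
      simpa [Ψ] using this
    have hf2 : Bialgebra.counitAlgHom R C f = 1 := by
      have h1 : (Bialgebra.counitAlgHom R C).comp Ψ =
          (Bialgebra.counitAlgHom R C).comp (Algebra.TensorProduct.lmul' R) := by
        ext x <;> simp [Ψ]
      have h2 := AlgHom.congr_fun h1 (Algebra.FormallyUnramified.elem R C)
      rw [AlgHom.comp_apply, AlgHom.comp_apply, Algebra.FormallyUnramified.lmul_elem,
        map_one] at h2
      exact h2
    have hfid : IsIdempotentElem f := by
      have := hf1 f
      rw [hf2, map_one, sub_mul, one_mul, sub_eq_zero] at this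
      exact this
    have hθf : θ f = 1 := by
      rcases hidem _ (θ f) (hfid.map θ) with h | h
      · exfalso
        have := hθε f
        rw [h, map_zero, hf2] at this
        exact zero_ne_one this
      · exact h
    have hθ : ∀ c : C, θ c = algebraMap R _ (Bialgebra.counitAlgHom R C c) := by
      intro c
      have h1 := congrArg θ (hf1 c)
      rw [map_mul, map_sub, hθf, mul_one, map_zero, AlgHom.commutes, sub_eq_zero] at h1
      exact h1
    rw [AlgHom.mem_equalizer]
    have hθ' : θ = (Algebra.ofId R _).comp (Bialgebra.counitAlgHom R C) := by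
      ext c
      exact hθ c
    have h1 : (Algebra.TensorProduct.map (AlgHom.id R A) π) (Coalgebra.comul (φ c)) =
        Algebra.TensorProduct.map (φ : C →ₐ[R] A) θ (Coalgebra.comul c) := by
      rw [← CoalgHomClass.map_comp_comul_apply φ c]
      have h2 : (Algebra.TensorProduct.map (AlgHom.id R A) π).toLinearMap ∘ₗ
          TensorProduct.map (φ : C →ₗ[R] A) (φ : C →ₗ[R] A) =
          (Algebra.TensorProduct.map (φ : C →ₐ[R] A) θ).toLinearMap := by
        apply TensorProduct.ext'
        intro x y
        rfl
      exact LinearMap.congr_fun h2 (Coalgebra.comul c)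
    have h3 : Algebra.TensorProduct.map (φ : C →ₐ[R] A) θ (Coalgebra.comul c) =
        Algebra.TensorProduct.map (φ : C →ₐ[R] A) (Algebra.ofId R _)
          ((Coalgebra.counit (R := R) (A := C)).lTensor C (Coalgebra.comul c)) := by
      rw [hθ']
      have h4 : (Algebra.TensorProduct.map (φ : C →ₐ[R] A)
          ((Algebra.ofId R (A ⧸ Ideal.span ({1 - e} : Set A))).comp
            (Bialgebra.counitAlgHom R C))).toLinearMap =
          (Algebra.TensorProduct.map (φ : C →ₐ[R] A)
            (Algebra.ofId R (A ⧸ Ideal.span ({1 - e} : Set A)))).toLinearMap ∘ₗ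
            (Coalgebra.counit (R := R) (A := C)).lTensor C := by
        apply TensorProduct.ext'
        intro x y
        rfl
      exact LinearMap.congr_fun h4 (Coalgebra.comul c)
    change (Algebra.TensorProduct.map (AlgHom.id R A) π) (Coalgebra.comul (φ c)) = _
    rw [h1, h3, Coalgebra.lTensor_counit_comul]
    simp
  · intro D _ _ _ _ _ ψ
    rcases hidem D (ψ e) (he.map ψ) with h | h
    · exfalso
      have h1 : Bialgebra.counitAlgHom R D (ψ e) = Bialgebra.counitAlgHom R A e :=
        CoalgHomClass.counit_comp_apply ψ e
      rw [h, map_zero, hε] at h1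
      exact zero_ne_one h1
    · exact h

end Groth.Agent.S15062
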