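import Groth.Statements.S15065
import Mathlib
import Groth.Agent.Lib.Helper22.FinEtSub

set_option autoImplicit false
universe u
open Hopf

namespace Groth.Agent.S15065

/-- Let k be an algebraically closed field and A a finite-dimensional commutative and cocommutative Hopf
algebra over k which is reduced (a finite étale commutative k-group G = Spec A), with dim_k A > 1,
and assume G is simple: every Hopf ideal of A is either zero or the augmentation ideal (no closed
subgroup schemes other than G and 1). Then the order dim_k A is a prime number ℓ, so that G is the
constant group ℤ/ℓℤ. (The published statement lists the simple finite commutative groups over an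
algebraically closed field of characteristic p > 0; the étale case does not use the characteristic
and is stated here for any algebraically closed field.) -/
theorem result (k : Type u) [Field k] [IsAlgClosed k] (A : Type u) [CommRing A] [HopfAlgebra k A]
    [Coalgebra.IsCocomm k A] [FiniteDimensional k A] [IsReduced A] (hA : 1 < Module.finrank k A)
    (hsimple : ∀ I : Ideal A, I.IsHopfIdeal k → I = ⊥ ∨ I = RingHom.ker (Bialgebra.counitAlgHom k A)) :
    (Module.finrank k A).Prime := by
  classical
  have hcard : Nat.card (WithConv (A →ₐ[k] k)) = Module.finrank k A := by
    rw [← Groth.Agent.Lib.helper22.FinEtAC.card_points k A]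
    exact Nat.card_congr (WithConv.equiv _)
  have hfin : Finite (WithConv (A →ₐ[k] k)) := Finite.of_equiv _ (WithConv.equiv _).symm
  have hnt : Nontrivial (WithConv (A →ₐ[k] k)) := by
    rw [← Finite.one_lt_card_iff_nontrivial, hcard]
    exact hA
  have hsg : IsSimpleGroup (WithConv (A →ₐ[k] k)) := by
    refine ⟨fun H _ => ?_⟩
    rcases hsimple _ (Groth.Agent.Lib.helper22.FinEtSub.isHopfIdeal_vanishing k A H) with h | h
    · exact Or.inr (Groth.Agent.Lib.helper22.FinEtSub.eq_top_of_vanishing_eq_bot k A H h)
    · exact Or.inl (Groth.Agent.Lib.helper22.FinEtSub.eq_bot_of_vanishing_eq_ker k A H h)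
  rw [← hcard]
  exact IsSimpleGroup.prime_card

end Groth.Agent.S15065
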