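import Groth.Statements.S15066
import Mathlib
import Groth.Agent.Lib.Helper22.GrpLikeBasis
import Groth.Agent.Lib.Helper22.FinEtAC
import Groth.Agent.Lib.Helper22.CartDualPts

set_option autoImplicit false
universe u
open Hopf

namespace Groth.Agent.S15066

/-- Let k be an algebraically closed field of characteristic p > 0 and A a finite-dimensional
commutative and cocommutative Hopf algebra over k (a finite commutative k-group G = Spec A) which is
a local ring (G connected) and whose dual algebra Hom_k(A, k) with the convolution product is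
reduced (the Cartier dual of G is étale, i.e. G is multiplicative), with dim_k A > 1, and assume G
is simple: every Hopf ideal of A is either zero or the augmentation ideal (no closed subgroup
schemes other than G and 1). Then G is isomorphic to μ_p: A has a group-like element g (Δ(g) = g ⊗
g, ε(g) = 1) with g^p = 1 whose powers 1, g, …, g^(p−1) are linearly independent over k, and dim_k A
= p (so A = k[g]/(g^p − 1)). -/
theorem result (k : Type u) [Field k] [IsAlgClosed k] (p : ℕ) [Fact p.Prime]
    [CharP k p] (A : Type u) [CommRing A] [HopfAlgebra k A] [Coalgebra.IsCocomm k A] [FiniteDimensional k A]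
    [IsLocalRing A] (hdual : IsReduced (WithConv (A →ₗ[k] k))) (hA : 1 < Module.finrank k A)
    (hsimple : ∀ I : Ideal A, I.IsHopfIdeal k → I = ⊥ ∨ I = RingHom.ker (Bialgebra.counitAlgHom k A)) :
    ∃ g : A, IsGroupLikeElem k g ∧ g ^ p = 1 ∧ LinearIndependent k (fun i : Fin p => g ^ (i : ℕ)) ∧
      Module.finrank k A = p := by
  classical
  have hDred : IsReduced (CartDual.D k A) := hdual
  have hfinX := Groth.Agent.Lib.helper22.GrpLikeBasis.finite_groupLike k A
  -- the number of group-like elements is the dimension
  have hcardX : Nat.card (GroupLike k A) = Module.finrank k A := by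
    apply le_antisymm (Groth.Agent.Lib.helper22.GrpLikeBasis.card_le k A)
    obtain ⟨e, -⟩ := Groth.Agent.Lib.helper22.CartDualPts.main k A k
    have h1 : Nat.card (CartDual.D k A →ₐ[k] k) = Module.finrank k (CartDual.D k A) :=
      Groth.Agent.Lib.helper22.FinEtAC.card_points k (CartDual.D k A)
    have h2 : Module.finrank k (CartDual.D k A) = Module.finrank k A := by
      rw [(CartDual.toDual k A).finrank_eq, Subspace.dual_finrank_eq]
    have h3 : Nat.card (GroupLike k (TensorProduct k k A)) = Module.finrank k A := by
      rw [Nat.card_congr e.toEquiv, Nat.card_congr (WithConv.equiv _), h1, h2]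
    let ι : GroupLike k (TensorProduct k k A) → GroupLike k A :=
      fun g => ⟨Bialgebra.TensorProduct.lid k A g.val, g.2.map _⟩
    have hι : Function.Injective ι := by
      intro g g' hgg
      apply GroupLike.val_injective
      apply (Bialgebra.TensorProduct.lid k A).injective
      exact congrArg GroupLike.val hgg
    rw [← h3]
    exact Nat.card_le_card_of_injective ι hι
  have hntX : Nontrivial (GroupLike k A) := by
    rw [← Finite.one_lt_card_iff_nontrivial, hcardX]
    exact hA
  have hsg : IsSimpleGroup (GroupLike k A) :=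
    ⟨fun H _ => Groth.Agent.Lib.helper22.GrpLikeBasis.subgroup_eq_bot_or_top k A hcardX hsimple H⟩
  have hprime : (Nat.card (GroupLike k A)).Prime := IsSimpleGroup.prime_card
  obtain ⟨g, hg⟩ := exists_ne (1 : GroupLike k A)
  -- `g - 1` is nilpotent
  have hnil : IsNilpotent (g.val - 1) := by
    have hart : IsArtinianRing A := IsArtinianRing.of_finite k A
    have hmem : g.val - 1 ∈ IsLocalRing.maximalIdeal A := by
      have hmax : (RingHom.ker (Bialgebra.counitAlgHom k A)).IsMaximal :=
        RingHom.ker_isMaximal_of_surjective _ (fun r => ⟨algebraMap k A r, by simp⟩)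
      rw [← IsLocalRing.eq_maximalIdeal hmax, RingHom.mem_ker, map_sub, map_one]
      change Coalgebra.counit g.val - 1 = 0
      rw [g.2.counit_eq_one, sub_self]
    have hnilp : IsNilpotent (IsLocalRing.maximalIdeal A) := by
      rw [← IsLocalRing.jacobson_eq_maximalIdeal ⊥ bot_ne_top]
      exact IsArtinianRing.isNilpotent_jacobson_bot
    obtain ⟨N, hN⟩ := hnilp
    refine ⟨N, ?_⟩
    have := Ideal.pow_mem_pow hmem N
    rw [hN] at this
    exact this
  obtain ⟨N, hN⟩ := hnil
  have hcharA : CharP A p := charP_of_injective_algebraMap (algebraMap k A).injective p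
  have hpow : g.val ^ (p ^ N) = 1 := by
    have h0 : (g.val - 1) ^ (p ^ N) = 0 :=
      pow_eq_zero_of_le (Nat.lt_pow_self (Fact.out : p.Prime).one_lt).le hN
    rw [sub_pow_char_pow, one_pow, sub_eq_zero] at h0
    exact h0
  have hgpow : g ^ (p ^ N) = 1 :=
    GroupLike.val_injective (by rw [GroupLike.val_pow, hpow, GroupLike.val_one])
  have hord : orderOf g = Nat.card (GroupLike k A) := by
    have h1 := orderOf_dvd_natCard g
    rcases (Nat.dvd_prime hprime).1 h1 with h | h
    · exact absurd (orderOf_eq_one_iff.1 h) hg
    · exact h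
  have hdvd : orderOf g ∣ p ^ N := orderOf_dvd_of_pow_eq_one hgpow
  have hℓp : Nat.card (GroupLike k A) = p := by
    rw [hord] at hdvd
    exact (Nat.prime_dvd_prime_iff_eq hprime Fact.out).1 (hprime.dvd_of_dvd_pow hdvd)
  refine ⟨g.val, g.2, ?_, ?_, ?_⟩
  · rw [← GroupLike.val_pow, ← hℓp, ← hord, pow_orderOf_eq_one, GroupLike.val_one]
  · have hfun : (fun i : Fin p => g.val ^ (i : ℕ)) =
        GroupLike.val ∘ (fun i : Fin p => g ^ (i : ℕ)) := by
      ext i
      simp
    rw [hfun]
    apply (linearIndep_groupLikeVal (R := k) (A := A)).comp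
    intro i j hij
    apply Fin.ext
    have hi : (i : ℕ) < orderOf g := by rw [hord, hℓp]; exact i.2
    have hj : (j : ℕ) < orderOf g := by rw [hord, hℓp]; exact j.2
    exact pow_injOn_Iio_orderOf hi hj hij
  · rw [← hcardX, hℓp]

end Groth.Agent.S15066
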