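import Groth.Statements.S15067
import Groth.Agent.Lib.Helper22.ConvPts

set_option autoImplicit false
universe u
open scoped TensorProduct
open Hopf

namespace Groth.Agent.S15067

/-- Let R be a henselian Noetherian local ring, A and A'' commutative Hopf algebras over R which are
finite and flat as R-modules (finite flat R-groups G = Spec A, G'' = Spec A''), and A'' → A an
R-algebra homomorphism compatible with the comultiplications and counits (a homomorphism π : G →
G'') making A a faithfully flat A''-module (π faithfully flat). Let J ⊆ A be the ideal generated by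
the image of the augmentation ideal of A'', so that G' = Spec A/J is the kernel of π and 1 → G' → G
→ G'' → 1 is an exact sequence of finite flat R-groups. Then: (2) if A'' and A/J are local rings
(G'' and G' connected), A is a local ring (G is connected); (3) if A'' and A/J are étale over R (G''
and G' finite étale), A is étale over R (G is finite étale). -/
theorem result (R : Type u) [CommRing R] [HenselianLocalRing R] [IsNoetherianRing R]
    (A A'' : Type u) [CommRing A] [HopfAlgebra R A] [Module.Finite R A] [Module.Flat R A]
    [CommRing A''] [HopfAlgebra R A''] [Module.Finite R A''] [Module.Flat R A'']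
    [Algebra A'' A] [IsScalarTower R A'' A] [Module.FaithfullyFlat A'' A]
    (hΔ : (Bialgebra.comulAlgHom R A).comp (IsScalarTower.toAlgHom R A'' A) =
      (Algebra.TensorProduct.map (IsScalarTower.toAlgHom R A'' A) (IsScalarTower.toAlgHom R A'' A)).comp
        (Bialgebra.comulAlgHom R A''))
    (hε : (Bialgebra.counitAlgHom R A).comp (IsScalarTower.toAlgHom R A'' A) = Bialgebra.counitAlgHom R A'') :
    ((IsLocalRing A'' ∧
        IsLocalRing (A ⧸ (RingHom.ker (Bialgebra.counitAlgHom R A'')).map (algebraMap A'' A))) → IsLocalRing A) ∧
      ((Algebra.Etale R A'' ∧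
        Algebra.Etale R (A ⧸ (RingHom.ker (Bialgebra.counitAlgHom R A'')).map (algebraMap A'' A))) →
        Algebra.Etale R A) := by
  classical
  have hfinA : Module.Finite A'' A := Module.Finite.of_restrictScalars_finite R A'' A
  have hint : Algebra.IsIntegral A'' A := Algebra.IsIntegral.of_finite A'' A
  set J : Ideal A := (RingHom.ker (Bialgebra.counitAlgHom R A'')).map (algebraMap A'' A) with hJ
  have hεapp : ∀ a : A'', Bialgebra.counitAlgHom R A (algebraMap A'' A a) =
      Bialgebra.counitAlgHom R A'' a := fun a => AlgHom.congr_fun hε a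
  constructor
  · rintro ⟨hloc'', hlocJ⟩
    have hI'' : RingHom.ker (Bialgebra.counitAlgHom R A'') ≤ IsLocalRing.maximalIdeal A'' := by
      apply IsLocalRing.le_maximalIdeal
      intro htop
      have : (1 : A'') ∈ RingHom.ker (Bialgebra.counitAlgHom R A'') := by rw [htop]; trivial
      rw [RingHom.mem_ker, map_one] at this
      exact one_ne_zero this
    have hJle : ∀ 𝔫 : Ideal A, 𝔫.IsMaximal → J ≤ 𝔫 := by
      intro 𝔫 h𝔫
      rw [hJ, Ideal.map_le_iff_le_comap]
      have hmax : (𝔫.comap (algebraMap A'' A)).IsMaximal :=
        Ideal.isMaximal_comap_of_isIntegral_of_isMaximal 𝔫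
      rw [IsLocalRing.eq_maximalIdeal hmax]
      exact hI''
    let 𝔫₀ : Ideal A := (IsLocalRing.maximalIdeal (A ⧸ J)).comap (Ideal.Quotient.mk J)
    have h𝔫₀ : 𝔫₀.IsMaximal :=
      Ideal.comap_isMaximal_of_surjective _ Ideal.Quotient.mk_surjective
    refine IsLocalRing.of_unique_max_ideal ⟨𝔫₀, h𝔫₀, ?_⟩
    intro 𝔫 h𝔫
    have hle := hJle 𝔫 h𝔫
    have hmap : (𝔫.map (Ideal.Quotient.mk J)).IsMaximal := by
      refine (Ideal.map_eq_top_or_isMaximal_of_surjective _ Ideal.Quotient.mk_surjective h𝔫).resolve_left ?_
      intro htop
      have h1 : (𝔫.map (Ideal.Quotient.mk J)).comap (Ideal.Quotient.mk J) = 𝔫 := by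
        rw [Ideal.comap_map_of_surjective _ Ideal.Quotient.mk_surjective, sup_eq_left]
        rw [← RingHom.ker_eq_comap_bot, Ideal.mk_ker]
        exact hle
      rw [htop, Ideal.comap_top] at h1
      exact h𝔫.ne_top h1.symm
    have h2 : 𝔫.map (Ideal.Quotient.mk J) = IsLocalRing.maximalIdeal (A ⧸ J) :=
      IsLocalRing.eq_maximalIdeal hmap
    have h1 : (𝔫.map (Ideal.Quotient.mk J)).comap (Ideal.Quotient.mk J) = 𝔫 := by
      rw [Ideal.comap_map_of_surjective _ Ideal.Quotient.mk_surjective, sup_eq_left]
      rw [← RingHom.ker_eq_comap_bot, Ideal.mk_ker]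
      exact hle
    rw [← h1, h2]
  · rintro ⟨het'', hetJ⟩
    have hfp : Algebra.FinitePresentation R A :=
      Algebra.FinitePresentation.of_finiteType.mp inferInstance
    have hunr : Algebra.FormallyUnramified R A := by
      rw [Algebra.FormallyUnramified.iff_comp_injective]
      intro C _ _ I hI g₁ g₂ hg
      let q : C →ₐ[R] C ⧸ I := Ideal.Quotient.mkₐ R I
      let x : WithConv (A →ₐ[R] C) := WithConv.toConv g₁
      let y : WithConv (A →ₐ[R] C) := WithConv.toConv g₂
      let z : WithConv (A →ₐ[R] C) := x * Groth.Agent.Lib.helper22.cinv y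
      -- z reduces to the trivial point
      have hz : q.comp z.ofConv = (1 : WithConv (A →ₐ[R] C ⧸ I)).ofConv := by
        have e1 := AlgHom.comp_convMul_distrib q x (Groth.Agent.Lib.helper22.cinv y)
        have e2 := AlgHom.comp_convMul_distrib q y (Groth.Agent.Lib.helper22.cinv y)
        have hxy : q.comp x.ofConv = q.comp y.ofConv := hg
        rw [hxy, ← e2, Groth.Agent.Lib.helper22.mul_cinv] at e1
        rw [e1]
        rfl
      -- z restricted to A'' is trivial
      have hz'' : z.ofConv.comp (IsScalarTower.toAlgHom R A'' A) =
          (1 : WithConv (A'' →ₐ[R] C)).ofConv := by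
        have hunr'' : Algebra.FormallyUnramified R A'' := inferInstance
        apply Algebra.FormallyUnramified.comp_injective I hI
        change q.comp (z.ofConv.comp (IsScalarTower.toAlgHom R A'' A)) =
          q.comp (1 : WithConv (A'' →ₐ[R] C)).ofConv
        rw [← AlgHom.comp_assoc, hz]
        apply AlgHom.ext
        intro a
        change algebraMap R (C ⧸ I) (Coalgebra.counit (R := R) (algebraMap A'' A a)) =
          q (algebraMap R C (Coalgebra.counit (R := R) a))
        rw [AlgHom.commutes]
        congr 1
        exact hεapp a
      have hkill : ∀ a ∈ J, z.ofConv a = 0 := by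
        intro a ha
        have hle : J ≤ RingHom.ker (z.ofConv : A →+* C) := by
          rw [hJ, Ideal.map_le_iff_le_comap]
          intro b hb
          rw [RingHom.mem_ker] at hb
          rw [Ideal.mem_comap, RingHom.mem_ker]
          have := AlgHom.congr_fun hz'' b
          change z.ofConv (algebraMap A'' A b) = algebraMap R C (Coalgebra.counit (R := R) b) at this
          change z.ofConv (algebraMap A'' A b) = 0
          rw [this]
          change algebraMap R C (Bialgebra.counitAlgHom R A'' b) = 0
          rw [hb, map_zero]
        exact hle ha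
      have hkillε : ∀ a ∈ J, Bialgebra.counitAlgHom R A a = 0 := by
        intro a ha
        have hle : J ≤ RingHom.ker (Bialgebra.counitAlgHom R A : A →+* R) := by
          rw [hJ, Ideal.map_le_iff_le_comap]
          intro b hb
          rw [RingHom.mem_ker] at hb
          rw [Ideal.mem_comap, RingHom.mem_ker]
          change Bialgebra.counitAlgHom R A (algebraMap A'' A b) = 0
          rw [hεapp, hb]
        exact hle ha
      let zbar : A ⧸ J →ₐ[R] C := Ideal.Quotient.liftₐ J z.ofConv hkill
      let tbar : A ⧸ J →ₐ[R] C :=
        (Algebra.ofId R C).comp (Ideal.Quotient.liftₐ J (Bialgebra.counitAlgHom R A) hkillε)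
      have hzt : zbar = tbar := by
        have hunrJ : Algebra.FormallyUnramified R (A ⧸ J) := inferInstance
        apply Algebra.FormallyUnramified.comp_injective I hI
        apply AlgHom.ext
        intro a
        obtain ⟨a, rfl⟩ := Ideal.Quotient.mk_surjective a
        change q (z.ofConv a) = q (algebraMap R C (Bialgebra.counitAlgHom R A a))
        have := AlgHom.congr_fun hz a
        change q (z.ofConv a) = algebraMap R (C ⧸ I) (Coalgebra.counit (R := R) a) at this
        rw [this, AlgHom.commutes]
        rfl
      have hz1 : z = 1 := by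
        apply WithConv.ofConv_injective
        apply AlgHom.ext
        intro a
        have := AlgHom.congr_fun hzt (Ideal.Quotient.mk J a)
        exact this
      have hxy : x = y := by
        calc x = x * (Groth.Agent.Lib.helper22.cinv y * y) := by
              rw [Groth.Agent.Lib.helper22.cinv_mul, mul_one]
          _ = z * y := by rw [mul_assoc]
          _ = y := by rw [hz1, one_mul]
      exact congrArg WithConv.ofConv hxy
    exact Algebra.Etale.of_formallyUnramified_of_flat

end Groth.Agent.S15067
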