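import Groth.Statements.S15068
import Mathlib

set_option autoImplicit false
universe u
open scoped TensorProduct
open Hopf

namespace Groth.Agent.S15068

/-- Let R be a henselian Noetherian local ring, A and A'' commutative Hopf algebras over R which are
finite and flat as R-modules, and A'' → A an R-algebra homomorphism compatible with
comultiplications and counits making A faithfully flat over A'' (a faithfully flat homomorphism π :
G → G'' of finite flat R-groups); let J ⊆ A be the ideal generated by the image of the augmentation
ideal of A'' (G' = Spec A/J = ker π, so 1 → G' → G → G'' → 1 is exact). Assume A'' is a local ring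
(G'' connected) and A/J is étale over R (G' finite étale), and let e ∈ A be an idempotent with ε(e)
= 1 such that A/(1 − e) is local (G⁰ = Spec A/(1 − e), the unit component of G). Then the composite
A'' → A → A/(1 − e) is bijective: the restriction G⁰ → G'' of π is an isomorphism, whose inverse
splits the extension, G ≅ G' × G''. -/
theorem result (R : Type u) [CommRing R] [HenselianLocalRing R]
    [IsNoetherianRing R] (A A'' : Type u) [CommRing A] [HopfAlgebra R A] [Module.Finite R A] [Module.Flat R A]
    [CommRing A''] [HopfAlgebra R A''] [Module.Finite R A''] [Module.Flat R A'']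
    [Algebra A'' A] [IsScalarTower R A'' A] [Module.FaithfullyFlat A'' A]
    (hΔ : (Bialgebra.comulAlgHom R A).comp (IsScalarTower.toAlgHom R A'' A) =
      (Algebra.TensorProduct.map (IsScalarTower.toAlgHom R A'' A) (IsScalarTower.toAlgHom R A'' A)).comp
        (Bialgebra.comulAlgHom R A''))
    (hε : (Bialgebra.counitAlgHom R A).comp (IsScalarTower.toAlgHom R A'' A) = Bialgebra.counitAlgHom R A'')
    [IsLocalRing A''] [Algebra.Etale R (A ⧸ (RingHom.ker (Bialgebra.counitAlgHom R A'')).map (algebraMap A'' A))]
    (e : A) (he : IsIdempotentElem e) (heε : Bialgebra.counitAlgHom R A e = 1)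
    [IsLocalRing (A ⧸ Ideal.span ({1 - e} : Set A))] :
    Function.Bijective ((Ideal.Quotient.mkₐ R (Ideal.span ({1 - e} : Set A))).comp (IsScalarTower.toAlgHom R A'' A)) := by
  classical
  set J : Ideal A := (RingHom.ker (Bialgebra.counitAlgHom R A'')).map (algebraMap A'' A) with hJ
  set E : Ideal A := Ideal.span ({1 - e} : Set A) with hE
  have hεapp : ∀ a : A'', Bialgebra.counitAlgHom R A (algebraMap A'' A a) =
      Bialgebra.counitAlgHom R A'' a := fun a => AlgHom.congr_fun hε a
  have hfinA : Module.Finite A'' A := Module.Finite.of_restrictScalars_finite R A'' A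
  -- the counit kills J and E
  have hJε : J ≤ RingHom.ker (Bialgebra.counitAlgHom R A : A →+* R) := by
    rw [hJ, Ideal.map_le_iff_le_comap]
    intro b hb
    rw [RingHom.mem_ker] at hb
    rw [Ideal.mem_comap, RingHom.mem_ker]
    change Bialgebra.counitAlgHom R A (algebraMap A'' A b) = 0
    rw [hεapp, hb]
  have hEε : E ≤ RingHom.ker (Bialgebra.counitAlgHom R A : A →+* R) := by
    rw [hE, Ideal.span_le]
    intro x hx
    rw [Set.mem_singleton_iff] at hx
    subst hx
    change (Bialgebra.counitAlgHom R A : A →+* R) (1 - e) = 0
    rw [map_sub, map_one]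
    change 1 - Bialgebra.counitAlgHom R A e = 0
    rw [heε, sub_self]
  -- the quotient S = A / (J + E)
  let S := A ⧸ (J ⊔ E)
  have hJEε : ∀ a ∈ J ⊔ E, Bialgebra.counitAlgHom R A a = 0 := by
    intro a ha
    have : J ⊔ E ≤ RingHom.ker (Bialgebra.counitAlgHom R A : A →+* R) := sup_le hJε hEε
    exact this ha
  let εS : S →ₐ[R] R := Ideal.Quotient.liftₐ (J ⊔ E) (Bialgebra.counitAlgHom R A) hJEε
  have hSnt : Nontrivial S := by
    refine ⟨⟨0, 1, fun h => ?_⟩⟩
    have := congrArg εS h
    rw [map_zero, map_one] at this
    exact zero_ne_one this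
  have hSloc : IsLocalRing S := by
    let g : A ⧸ E →+* S := Ideal.Quotient.factor (le_sup_right : E ≤ J ⊔ E)
    have hg : Function.Surjective g :=
      Ideal.Quotient.factor_surjective (le_sup_right : E ≤ J ⊔ E)
    exact IsLocalRing.of_surjective' g hg
  have hSunr : Algebra.FormallyUnramified R S := by
    let g : A ⧸ J →ₐ[R] S := Ideal.Quotient.factorₐ R (le_sup_left : J ≤ J ⊔ E)
    have hg : Function.Surjective g :=
      Ideal.Quotient.factor_surjective (le_sup_left : J ≤ J ⊔ E)
    exact Algebra.FormallyUnramified.of_surjective g hg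
  have hSlochom : IsLocalHom (algebraMap R S) := by
    constructor
    intro r hr
    have := hr.map εS
    rwa [AlgHom.commutes] at this
  have hmapmax : (IsLocalRing.maximalIdeal R).map (algebraMap R S) = IsLocalRing.maximalIdeal S :=
    Algebra.FormallyUnramified.map_maximalIdeal
  -- R → S is surjective
  have hRS : Function.Surjective (algebraMap R S) := by
    have hle : (⊤ : Submodule R S) ≤ LinearMap.range (Algebra.linearMap R S) := by
      apply Submodule.le_of_le_smul_of_le_jacobson_bot (I := IsLocalRing.maximalIdeal R)
        Module.Finite.fg_top (IsLocalRing.maximalIdeal_le_jacobson _)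
      intro s _
      have hs : s - algebraMap R S (εS s) ∈ IsLocalRing.maximalIdeal S := by
        have hker : RingHom.ker (εS : S →+* R) ≤ IsLocalRing.maximalIdeal S := by
          apply IsLocalRing.le_maximalIdeal
          intro htop
          have : (1 : S) ∈ RingHom.ker (εS : S →+* R) := by rw [htop]; trivial
          rw [RingHom.mem_ker] at this
          have h1 : εS 1 = 0 := this
          rw [map_one] at h1
          exact one_ne_zero h1
        apply hker
        rw [RingHom.mem_ker]
        change εS (s - algebraMap R S (εS s)) = 0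
        rw [map_sub, AlgHom.commutes]
        simp
      rw [← hmapmax] at hs
      have hs' : s - algebraMap R S (εS s) ∈ (IsLocalRing.maximalIdeal R) • (⊤ : Submodule R S) := by
        rw [Ideal.smul_top_eq_map]; exact hs
      have : s = algebraMap R S (εS s) + (s - algebraMap R S (εS s)) := by ring
      rw [this]
      exact Submodule.add_mem_sup ⟨εS s, rfl⟩ hs'
    intro s
    obtain ⟨r, hr⟩ := hle (Submodule.mem_top : s ∈ ⊤)
    exact ⟨r, hr⟩
  -- every element of A is a scalar modulo J + E
  have hdecomp : ∀ a : A, ∃ r : R, a - algebraMap R A r ∈ J ⊔ E := by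
    intro a
    obtain ⟨r, hr⟩ := hRS (Ideal.Quotient.mk (J ⊔ E) a)
    refine ⟨r, ?_⟩
    rw [← Ideal.Quotient.eq_zero_iff_mem, map_sub, sub_eq_zero, ← hr]
    rfl
  -- notation for the map
  let f : A'' →ₐ[R] A ⧸ E := (Ideal.Quotient.mkₐ R E).comp (IsScalarTower.toAlgHom R A'' A)
  change Function.Bijective f
  have hfalg : ∀ a : A'', f a = algebraMap A'' (A ⧸ E) a := fun a => rfl
  have hI'' : RingHom.ker (Bialgebra.counitAlgHom R A'') ≤ IsLocalRing.maximalIdeal A'' := by
    apply IsLocalRing.le_maximalIdeal
    intro htop
    have : (1 : A'') ∈ RingHom.ker (Bialgebra.counitAlgHom R A'') := by rw [htop]; trivial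
    rw [RingHom.mem_ker, map_one] at this
    exact one_ne_zero this
  constructor
  · -- injective: faithfully flat
    have hflat : Module.Flat A'' (A ⧸ E) := by
      let i : A ⧸ E →ₗ[A''] A := Submodule.liftQ (E.restrictScalars A'')
        ((LinearMap.mulLeft A'' e)) (by
          intro x hx
          rw [LinearMap.mem_ker, LinearMap.mulLeft_apply]
          have hx' : x ∈ E := hx
          rw [hE, Ideal.mem_span_singleton'] at hx'
          obtain ⟨c, rfl⟩ := hx'
          have : e * (c * (1 - e)) = c * (e - e * e) := by ring
          rw [this, he.eq, sub_self, mul_zero])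
      let r : A →ₗ[A''] A ⧸ E := (E.restrictScalars A'').mkQ
      refine Module.Flat.of_retract i r ?_
      apply LinearMap.ext
      intro x
      obtain ⟨a, rfl⟩ := Ideal.Quotient.mk_surjective x
      change Ideal.Quotient.mk E (e * a) = Ideal.Quotient.mk E a
      rw [Ideal.Quotient.eq, hE, Ideal.mem_span_singleton']
      exact ⟨-a, by ring⟩
    have hlochom : IsLocalHom (algebraMap A'' (A ⧸ E)) := by
      constructor
      intro a ha
      by_contra hna
      have ham : a ∈ IsLocalRing.maximalIdeal A'' := (IsLocalRing.mem_maximalIdeal a).mpr hna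
      -- the image of a in S lies in the maximal ideal, but is a unit
      let g : A ⧸ E →+* S := Ideal.Quotient.factor (le_sup_right : E ≤ J ⊔ E)
      have hunit : IsUnit (g (algebraMap A'' (A ⧸ E) a)) := ha.map g
      have hval : εS (g (algebraMap A'' (A ⧸ E) a)) = Bialgebra.counitAlgHom R A'' a := by
        change Bialgebra.counitAlgHom R A (algebraMap A'' A a) = _
        exact hεapp a
      have hunitR : IsUnit (Bialgebra.counitAlgHom R A'' a) := by
        rw [← hval]; exact hunit.map εS
      -- ε''⁻¹(𝔪_R) is the maximal ideal of A''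
      have hcomap : (IsLocalRing.maximalIdeal R).comap (Bialgebra.counitAlgHom R A'' : A'' →+* R) =
          IsLocalRing.maximalIdeal A'' := by
        apply IsLocalRing.eq_maximalIdeal
        apply Ideal.comap_isMaximal_of_surjective
        intro r
        exact ⟨algebraMap R A'' r, by simp⟩
      rw [← hcomap, Ideal.mem_comap, IsLocalRing.mem_maximalIdeal] at ham
      exact ham hunitR
    have hlocE : IsLocalRing (A ⧸ E) := inferInstance
    have hff : Module.FaithfullyFlat A'' (A ⧸ E) := Module.FaithfullyFlat.of_flat_of_isLocalHom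
    intro a b hab
    have : Function.Injective (algebraMap A'' (A ⧸ E)) := FaithfulSMul.algebraMap_injective A'' (A ⧸ E)
    exact this hab
  · -- surjective: Nakayama over A''
    have hle : (⊤ : Submodule A'' (A ⧸ E)) ≤ LinearMap.range (Algebra.linearMap A'' (A ⧸ E)) := by
      apply Submodule.le_of_le_smul_of_le_jacobson_bot (I := IsLocalRing.maximalIdeal A'')
        Module.Finite.fg_top (IsLocalRing.maximalIdeal_le_jacobson _)
      intro x _
      obtain ⟨a, rfl⟩ := Ideal.Quotient.mk_surjective x
      obtain ⟨r, hr⟩ := hdecomp a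
      obtain ⟨u, hu, v, hv, huv⟩ := Submodule.mem_sup.mp hr
      have hmk : Ideal.Quotient.mk E a =
          algebraMap A'' (A ⧸ E) (algebraMap R A'' r) + Ideal.Quotient.mk E u := by
        have h1 : a = algebraMap R A r + u + v := by rw [add_assoc, huv]; ring
        rw [h1, map_add, map_add, Ideal.Quotient.eq_zero_iff_mem.mpr hv, add_zero]
        congr 1
        rw [IsScalarTower.algebraMap_apply R A'' A]
        rfl
      rw [hmk]
      refine Submodule.add_mem_sup ⟨algebraMap R A'' r, rfl⟩ ?_
      rw [Ideal.smul_top_eq_map]
      change Ideal.Quotient.mk E u ∈ Ideal.map (algebraMap A'' (A ⧸ E)) (IsLocalRing.maximalIdeal A'')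
      have h2 : Ideal.Quotient.mk E u ∈ Ideal.map (Ideal.Quotient.mk E) J := Ideal.mem_map_of_mem _ hu
      rw [hJ, Ideal.map_map] at h2
      exact Ideal.map_mono hI'' h2
    intro x
    obtain ⟨a, ha⟩ := hle (Submodule.mem_top : x ∈ ⊤)
    exact ⟨a, ha⟩

end Groth.Agent.S15068
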