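import Groth.Statements.S15071
import Groth.Agent.Lib.Helper20.SurfKernel

set_option autoImplicit false
universe u
open CategoryTheory CategoryTheory.Limits AlgebraicGeometry
open OrdSurf

namespace Groth.Agent.S15071

/-- Let k be an algebraically closed field of characteristic zero and X a smooth projective surface over
k (an integral k-scheme, smooth over k, of dimension two, admitting a closed immersion over k into
some projective space P^n_k). Let φ : M → N be a monomorphism between finite locally free
O_X-modules. Then either φ is an isomorphism, or the support of the cokernel of φ contains a point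
of X whose local ring has Krull dimension at most one, i.e. the support has codimension at most one
in X. (The published statement phrases the first alternative as M and N being isomorphic; the
argument shows that the given monomorphism is an isomorphism, which is the form stated here.) -/
theorem result (k : Type u) [Field k] [IsAlgClosed k] [CharZero k]
    (X : Scheme.{u}) [X.Over (Spec (CommRingCat.of k))] [IsIntegral X]
    [Smooth (X ↘ Spec (CommRingCat.of k))] (hdim : topologicalKrullDim X = 2)
    (hproj : ∃ (n : ℕ) (ι : X ⟶ CohB1.ProjSpace n k), IsClosedImmersion ι ∧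
      ι ≫ CohB1.ProjSpace.toSpec n k = X ↘ Spec (CommRingCat.of k))
    (M N : X.Modules) (hM : FlatMod.IsFinLocFree M) (hN : FlatMod.IsFinLocFree N)
    (φ : M ⟶ N) [Mono φ] :
    IsIso φ ∨ ∃ x : X, x ∈ CohB1.support (cokernel φ) ∧ ringKrullDim (X.presheaf.stalk x) ≤ 1 := by
  haveI : IsLocallyNoetherian X :=
    LocallyOfFiniteType.isLocallyNoetherian (X ↘ Spec (CommRingCat.of k))
  have hreg : ∀ x : X, IsRegularLocalRing (X.presheaf.stalk x) := fun x =>
    Groth.Agent.Lib.Helper20.SurfKernel.isRegularLocalRing_stalk_of_smooth k X x
  by_contra hcon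
  push_neg at hcon
  obtain ⟨hni, hx⟩ := hcon
  apply hni
  have hMc : Coh.IsCoh M := Groth.Agent.Lib.Lead.SerreFin.isCoh_of_isFinLocFree hM
  have hNc : Coh.IsCoh N := Groth.Agent.Lib.Lead.SerreFin.isCoh_of_isFinLocFree hN
  refine Groth.Agent.Lib.Helper20.SurfKernel.isIso_of_mono_of_support_cokernel hreg hMc
    (Groth.Agent.Lib.Helper20.Rank2Simple.isReflexive_of_isFinLocFree hM) hNc
    (Groth.Agent.Lib.Helper20.Rank2Simple.isReflexive_of_isFinLocFree hN) φ (fun x hxs => ?_)
  have h1 := hx x hxs
  have h2 : (1 : WithBot ℕ∞) < ringKrullDim (X.presheaf.stalk x) := h1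
  generalize ringKrullDim (X.presheaf.stalk x) = d at h2
  induction d with
  | bot => exact absurd h2 (by simp)
  | coe a =>
    have h3 : (1 : ℕ∞) < a := by exact_mod_cast h2
    have h4 : (2 : ℕ∞) ≤ a := by
      have := Order.add_one_le_of_lt h3
      simpa [one_add_one_eq_two] using this
    have h5 : ((2 : ℕ∞) : WithBot ℕ∞) ≤ (a : WithBot ℕ∞) := WithBot.coe_le_coe.2 h4
    exact h5

end Groth.Agent.S15071
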