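import Groth.Statements.S15075
import Groth.Agent.Lib.Helper24.NCStalk
import Groth.Agent.Lib.Lead.TorsPure

set_option autoImplicit false
universe u
open CategoryTheory CategoryTheory.Limits AlgebraicGeometry TopologicalSpace Opposite
open OrdSurf

namespace Groth.Agent.S15075

open Groth.Agent.Lib.Helper24.NCStalk

section aux

variable {X : Scheme.{u}} [IsIntegral X]
  {A : Sheaf (Opens.grothendieckTopology X) RingCat.{u}} (φ : X.ringCatSheaf ⟶ A)

/-- a section of a sheaf of `A`-modules whose underlying `O_X`-module is quasi-coherent and torsion
free vanishes as soon as its germ at the generic point vanishes -/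
theorem eq_zero_of_germ_genericPoint (N : SheafOfModules.{u} A)
    (hNq : ((SheafOfModules.restrictScalars φ).obj N : X.Modules).IsQuasicoherent)
    (hNt : TorSh.IsTorsionFree (X := X) ((SheafOfModules.restrictScalars φ).obj N))
    (U : X.Opens) (s : N.val.obj (op U))
    (h : ∀ hη : genericPoint X ∈ U,
      TopCat.Presheaf.germ N.val.presheaf U (genericPoint X) hη s = 0) : s = 0 := by
  haveI := hNq
  refine TopCat.Presheaf.section_ext ⟨N.val.presheaf, N.isSheaf⟩ U s 0 (fun x hx => ?_)
  have hη : genericPoint X ∈ U :=
    ((genericPoint_spec X).mem_open_set_iff U.isOpen).mpr ⟨x, trivial, hx⟩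
  have h2 := Groth.Agent.Lib.Lead.TorsPure.germ_eq_zero_of_germ_genericPoint_eq_zero
    ((SheafOfModules.restrictScalars φ).obj N) hNt x hx s hη (h hη)
  exact h2.trans (map_zero _).symm

end aux


/-- Let k be an algebraically closed field of characteristic zero and X a smooth projective surface over
k (an integral k-scheme, smooth over k, of dimension two, admitting a closed immersion over k into
some projective space P^n_k), with generic point η. Let A be a sheaf of rings on X with a morphism φ
: O_X → A of sheaves of rings with central image (a sheaf of O_X-algebras) whose generic stalk A_η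
is a division ring, i.e. simple as a left module over itself. Let M and N be sheaves of A-modules
whose underlying O_X-modules (through φ) are coherent with torsion-free stalks, and whose generic
stalks M_η and N_η are simple A_η-modules (one-dimensional over the division ring A_η). Then every
nonzero morphism of sheaves of A-modules M → N is a monomorphism. (The published statement takes A
to be an order on X — coherent and torsion-free over O_X with A_η a central division algebra over
k(X) — and M, N torsion-free A-modules of rank one; of these hypotheses only the ones listed are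
assumed here, the others playing no role in the argument.) -/
theorem result (k : Type u) [Field k] [IsAlgClosed k] [CharZero k]
    (X : Scheme.{u}) [X.Over (Spec (CommRingCat.of k))] [IsIntegral X]
    [Smooth (X ↘ Spec (CommRingCat.of k))] (hdim : topologicalKrullDim X = 2)
    (hproj : ∃ (n : ℕ) (ι : X ⟶ CohB1.ProjSpace n k), IsClosedImmersion ι ∧
      ι ≫ CohB1.ProjSpace.toSpec n k = X ↘ Spec (CommRingCat.of k))
    (A : Sheaf (Opens.grothendieckTopology X) RingCat.{u}) (φ : X.ringCatSheaf ⟶ A)
    (hcen : ∀ (U : (Opens X)ᵒᵖ) (s : X.ringCatSheaf.obj.obj U) (a : A.obj.obj U),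
      φ.hom.app U s * a = a * φ.hom.app U s)
    (hAη : IsSimpleModule (↑(TopCat.Presheaf.stalk (C := RingCat.{u}) (X := X.carrier) A.obj (genericPoint X))) (↑(TopCat.Presheaf.stalk (C := RingCat.{u}) (X := X.carrier) A.obj (genericPoint X))))
    (M N : SheafOfModules.{u} A)
    (hMc : Coh.IsCoh (X := X) ((SheafOfModules.restrictScalars φ).obj M))
    (hNc : Coh.IsCoh (X := X) ((SheafOfModules.restrictScalars φ).obj N))
    (hMt : TorSh.IsTorsionFree (X := X) ((SheafOfModules.restrictScalars φ).obj M))
    (hNt : TorSh.IsTorsionFree (X := X) ((SheafOfModules.restrictScalars φ).obj N))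
    (hMη : IsSimpleModule (↑(TopCat.Presheaf.stalk (C := RingCat.{u}) (X := X.carrier) A.obj (genericPoint X))) (↑(TopCat.Presheaf.stalk (C := Ab.{u}) (X := X.carrier) M.val.presheaf (genericPoint X))))
    (hNη : IsSimpleModule (↑(TopCat.Presheaf.stalk (C := RingCat.{u}) (X := X.carrier) A.obj (genericPoint X))) (↑(TopCat.Presheaf.stalk (C := Ab.{u}) (X := X.carrier) N.val.presheaf (genericPoint X))))
    (ψ : M ⟶ N) (hψ : ψ ≠ 0) : Mono ψ := by
  classical
  haveI hMq : ((SheafOfModules.restrictScalars φ).obj M : X.Modules).IsQuasicoherent := hMc.1
  haveI hNq : ((SheafOfModules.restrictScalars φ).obj N : X.Modules).IsQuasicoherent := hNc.1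
  -- the generic stalk map
  rcases LinearMap.bijective_or_eq_zero (stalkLin ψ.val (genericPoint X)) with hb | h0
  · -- injective on sections
    have hinj : ∀ U : (Opens X)ᵒᵖ, Function.Injective (ψ.val.app U).hom := by
      intro U
      rw [injective_iff_map_eq_zero]
      intro s hs
      obtain ⟨U⟩ := U
      refine eq_zero_of_germ_genericPoint φ M hMq hMt U s (fun hη => ?_)
      apply hb.1
      rw [stalkLin_germ, map_zero]
      erw [hs]
      exact map_zero _
    haveI : Mono ψ.val := PresheafOfModules.mono_of_injective (fun U => hinj U)
    exact (SheafOfModules.forget A).mono_of_mono_map (inferInstanceAs (Mono ψ.val))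
  · exfalso
    apply hψ
    apply SheafOfModules.hom_ext
    apply PresheafOfModules.hom_ext
    intro U
    ext s
    obtain ⟨U⟩ := U
    change (ψ.val.app (op U)).hom s = 0
    refine eq_zero_of_germ_genericPoint φ N hNq hNt U _ (fun hη => ?_)
    rw [← stalkLin_germ, h0]
    rfl

end Groth.Agent.S15075
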