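import Groth.Statements.S15078
import Mathlib

set_option autoImplicit false
universe u v
open MovLem

namespace Groth.Agent.S15078

section helpers

section helpers
open Polynomial in
/-- `P` has degree at most `D` with `D`-th coefficient `a`. -/
def HasTop {R : Type*} [CommRing R] (P : Polynomial R) (D : ℕ) (a : R) : Prop :=
  P.natDegree ≤ D ∧ P.coeff D = a

namespace HasTop
variable {R : Type*} [CommRing R]
open Polynomial

lemma mul {P P' : R[X]} {D D' : ℕ} {a a' : R} (h : HasTop P D a) (h' : HasTop P' D' a') :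
    HasTop (P * P') (D + D') (a * a') :=
  ⟨(natDegree_mul_le).trans (add_le_add h.1 h'.1),
    by rw [coeff_mul_add_eq_of_natDegree_le h.1 h'.1, h.2, h'.2]⟩

lemma one : HasTop (1 : R[X]) 0 1 := ⟨by simp, by simp⟩

lemma pow {P : R[X]} {D : ℕ} {a : R} (h : HasTop P D a) (n : ℕ) :
    HasTop (P ^ n) (n * D) (a ^ n) := by
  induction n with
  | zero => simpa using one
  | succ n ih =>
    rw [pow_succ, pow_succ, Nat.succ_mul]
    exact ih.mul h

lemma prod {ι : Type*} (s : Finset ι) (P : ι → R[X]) (D : ι → ℕ) (a : ι → R)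
    (h : ∀ i ∈ s, HasTop (P i) (D i) (a i)) :
    HasTop (∏ i ∈ s, P i) (∑ i ∈ s, D i) (∏ i ∈ s, a i) := by
  classical
  induction s using Finset.induction_on with
  | empty => simpa using one
  | insert i s hi ih =>
    rw [Finset.prod_insert hi, Finset.sum_insert hi, Finset.prod_insert hi]
    exact (h i (Finset.mem_insert_self i s)).mul
      (ih fun j hj => h j (Finset.mem_insert_of_mem hj))

lemma add {P P' : R[X]} {D : ℕ} {a a' : R} (h : HasTop P D a) (h' : HasTop P' D a') :
    HasTop (P + P') D (a + a') :=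
  ⟨(natDegree_add_le _ _).trans (max_le h.1 h'.1), by rw [coeff_add, h.2, h'.2]⟩

lemma zero (D : ℕ) : HasTop (0 : R[X]) D 0 := ⟨by simp, by simp⟩

lemma sum {ι : Type*} (s : Finset ι) (P : ι → R[X]) (D : ℕ) (a : ι → R)
    (h : ∀ i ∈ s, HasTop (P i) D (a i)) :
    HasTop (∑ i ∈ s, P i) D (∑ i ∈ s, a i) := by
  classical
  induction s using Finset.induction_on with
  | empty => simpa using zero D
  | insert i s hi ih =>
    rw [Finset.sum_insert hi, Finset.sum_insert hi]
    exact (h i (Finset.mem_insert_self i s)).add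
      (ih fun j hj => h j (Finset.mem_insert_of_mem hj))

lemma mono {P : R[X]} {D D' : ℕ} {a : R} (h : HasTop P D a) (hD : D < D') : HasTop P D' 0 :=
  ⟨h.1.trans hD.le, coeff_eq_zero_of_natDegree_lt (lt_of_le_of_lt h.1 hD)⟩

lemma C_mul {P : R[X]} {D : ℕ} {a : R} (c : R) (h : HasTop P D a) : HasTop (C c * P) D (c * a) :=
  ⟨(natDegree_C_mul_le _ _).trans h.1, by rw [coeff_C_mul, h.2]⟩

lemma mul_X_pow {P : R[X]} {D : ℕ} {a : R} (h : HasTop P D a) (j : ℕ) :
    HasTop (P * X ^ j) (D + j) a :=
  ⟨(natDegree_mul_le).trans (add_le_add h.1 (natDegree_X_pow_le j)), by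
    rw [coeff_mul_X_pow, h.2]⟩

lemma leadingCoeff {P : R[X]} {D : ℕ} {a : R} (h : HasTop P D a) (ha : a ≠ 0) :
    P.leadingCoeff = a := by
  have : P.natDegree = D := natDegree_eq_of_le_of_coeff_ne_zero h.1 (by rw [h.2]; exact ha)
  rw [Polynomial.leadingCoeff, this, h.2]

lemma gen (x b : R) {N : ℕ} (hN : 1 ≤ N) : HasTop (C x + C b * X ^ N) N b := by
  refine ⟨(natDegree_add_le _ _).trans (max_le (by simp) (natDegree_C_mul_X_pow_le _ _)), ?_⟩
  rw [coeff_add, coeff_C, if_neg (by omega), coeff_C_mul, coeff_X_pow, if_pos rfl, zero_add,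
    mul_one]

end HasTop

open MvPolynomial in
/-- the substitution homomorphism -/
noncomputable def sub {k : Type u} [Field k] (r N : ℕ) (K : Type v) [Field K] [Algebra k K]
    (g : Fin r → K) : MvPolynomial (Fin r) k →ₐ[k] Polynomial (MvPolynomial (Fin r) K) :=
  MvPolynomial.aeval (fun i : Fin r => Polynomial.C (MvPolynomial.X i) +
    Polynomial.C (MvPolynomial.C (g i)) * Polynomial.X ^ N)

open MvPolynomial in
lemma sub_monomial {k : Type u} [Field k] (r N : ℕ) (hN : 1 ≤ N) (K : Type v) [Field K]
    [Algebra k K] (g : Fin r → K) (α : Fin r →₀ ℕ) (c : k) :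
    HasTop (sub r N K g (monomial α c)) (N * α.degree)
      (MvPolynomial.C (MvPolynomial.aeval g (monomial α c))) := by
  have h1 : sub r N K g (monomial α c) =
      Polynomial.C (MvPolynomial.C (algebraMap k K c)) *
        ∏ i, (Polynomial.C (MvPolynomial.X i) +
          Polynomial.C (MvPolynomial.C (g i)) * Polynomial.X ^ N) ^ (α i) := by
    rw [sub, MvPolynomial.aeval_monomial, Finsupp.prod_fintype _ _ (fun i => pow_zero _)]
    rfl
  have h2 : (MvPolynomial.C (MvPolynomial.aeval g (monomial α c)) : MvPolynomial (Fin r) K) =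
      MvPolynomial.C (algebraMap k K c) * ∏ i : Fin r, (MvPolynomial.C (g i)) ^ (α i) := by
    rw [MvPolynomial.aeval_monomial, Finsupp.prod_fintype _ _ (fun i => pow_zero _)]
    simp [map_prod]
  have h3 : N * α.degree = ∑ i : Fin r, α i * N := by
    rw [Finsupp.degree_eq_sum, Finset.mul_sum]
    exact Finset.sum_congr rfl fun i _ => mul_comm _ _
  rw [h1, h2, h3]
  apply HasTop.C_mul
  apply HasTop.prod
  intro i _
  exact (HasTop.gen _ _ hN).pow _

open MvPolynomial in
lemma sub_top {k : Type u} [Field k] (r N : ℕ) (hN : 1 ≤ N) (K : Type v) [Field K]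
    [Algebra k K] (g : Fin r → K) (F : MvPolynomial (Fin r) k) :
    HasTop (sub r N K g F) (N * F.totalDegree)
      (MvPolynomial.C (MvPolynomial.aeval g (homogeneousComponent F.totalDegree F))) := by
  classical
  have hF : sub r N K g F = ∑ α ∈ F.support, sub r N K g (monomial α (coeff α F)) := by
    conv_lhs => rw [F.as_sum, map_sum]
  have htop : (MvPolynomial.C (MvPolynomial.aeval g (homogeneousComponent F.totalDegree F)) :
      MvPolynomial (Fin r) K) = ∑ α ∈ F.support, (if α.degree = F.totalDegree then
        MvPolynomial.C (MvPolynomial.aeval g (monomial α (coeff α F))) else 0) := by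
    rw [homogeneousComponent_apply, map_sum, map_sum, Finset.sum_filter]
  rw [hF, htop]
  apply HasTop.sum
  intro α hα
  have hle : α.degree ≤ F.totalDegree := le_totalDegree hα
  split_ifs with h
  · rw [← h]; exact sub_monomial r N hN K g α _
  · have hlt : α.degree < F.totalDegree := lt_of_le_of_ne hle h
    exact (sub_monomial r N hN K g α _).mono (Nat.mul_lt_mul_of_pos_left hlt (by omega))

open MvPolynomial in
lemma homogeneousComponent_totalDegree_ne_zero {k : Type u} [Field k] {r : ℕ}
    (F : MvPolynomial (Fin r) k) (hF : F ≠ 0) : homogeneousComponent F.totalDegree F ≠ 0 := by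
  classical
  obtain ⟨α, hα, hdeg⟩ : ∃ α ∈ F.support, α.degree = F.totalDegree := by
    have hne : F.support.Nonempty := by
      rw [Finset.nonempty_iff_ne_empty, Ne, MvPolynomial.support_eq_empty]; exact hF
    obtain ⟨α, hα, h⟩ := Finset.exists_mem_eq_sup F.support hne (fun s => s.sum fun _ e => e)
    exact ⟨α, hα, h.symm⟩
  intro h0
  have := coeff_homogeneousComponent F.totalDegree F α
  rw [h0, if_pos hdeg, coeff_zero] at this
  exact (mem_support_iff.mp hα) this.symm

end helpers


end helpers

/-- Let k be an infinite perfect field, r, m ≥ 1, and let f be a nonzero polynomial in the variable t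
with coefficients in the polynomial ring k[x_1, …, x_r]. Then there are a nonzero polynomial h in
k[x_1, …, x_r] and an integer s₀ such that for every s ≥ s₀, every field K over k and every point g
of K^r with h(g) ≠ 0, the polynomial obtained from f by the substitution x_i ↦ x_i + t^{s(m+1)} g_i,
t ↦ t has as leading coefficient in t a nonzero constant of K; in particular, after dividing by that
constant it is monic in t over K[x_1, …, x_r]. (The published statement asks for a nonempty open
subset of affine r-space over k, independent of s, such that this holds at each of its points g with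
residue field K = k(g); the locus h ≠ 0 used here is such an open subset, and every nonempty open
subset contains one of this form.) -/
theorem result
    {k : Type u} [Field k] [Infinite k] [PerfectField k] (r m : ℕ) (hr : 1 ≤ r) (hm : 1 ≤ m)
    (f : Polynomial (MvPolynomial (Fin r) k)) (hf : f ≠ 0) :
    ∃ h : MvPolynomial (Fin r) k, h ≠ 0 ∧ ∃ s₀ : ℕ, ∀ s : ℕ, s₀ ≤ s →
      ∀ (K : Type v) [Field K] [Algebra k K] (g : Fin r → K), MvPolynomial.aeval g h ≠ 0 →
        ∃ c : K, c ≠ 0 ∧
          (Polynomial.eval₂ (MvPolynomial.aeval (fun i : Fin r => Polynomial.C (MvPolynomial.X i) + Polynomial.C (MvPolynomial.C (g i)) * Polynomial.X ^ (s * (m + 1))) : MvPolynomial (Fin r) k →ₐ[k] Polynomial (MvPolynomial (Fin r) K)).toRingHom Polynomial.X f).leadingCoeff = MvPolynomial.C c := by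
  classical
  set N₀ := f.natDegree + 1 with hN₀
  have hsupp : f.support.Nonempty := by
    rw [Finset.nonempty_iff_ne_empty, Ne, Polynomial.support_eq_empty]; exact hf
  obtain ⟨j₀, hj₀, hmax⟩ := Finset.exists_max_image f.support
    (fun j => N₀ * (f.coeff j).totalDegree + j) hsupp
  have hcj₀ : f.coeff j₀ ≠ 0 := Polynomial.mem_support_iff.mp hj₀
  refine ⟨MvPolynomial.homogeneousComponent (f.coeff j₀).totalDegree (f.coeff j₀),
    homogeneousComponent_totalDegree_ne_zero _ hcj₀, N₀, ?_⟩
  intro s hs K _ _ g hg
  refine ⟨_, hg, ?_⟩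
  set N := s * (m + 1) with hN
  have hNN₀ : N₀ ≤ N := by
    rw [hN]; nlinarith
  have hN1 : 1 ≤ N := le_trans (by omega) hNN₀
  have hev : Polynomial.eval₂ (sub r N K g).toRingHom Polynomial.X f =
      ∑ j ∈ f.support, (sub r N K g (f.coeff j)) * Polynomial.X ^ j := by
    rw [Polynomial.eval₂_eq_sum, Polynomial.sum_def]
    rfl
  set dj := fun j => (f.coeff j).totalDegree with hdj
  have key : HasTop (Polynomial.eval₂ (sub r N K g).toRingHom Polynomial.X f)
      (N * dj j₀ + j₀)
      (∑ j ∈ f.support, if j = j₀ then (MvPolynomial.C (MvPolynomial.aeval g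
        (MvPolynomial.homogeneousComponent (f.coeff j₀).totalDegree (f.coeff j₀))) :
          MvPolynomial (Fin r) K) else 0) := by
    rw [hev]
    apply HasTop.sum
    intro j hj
    split_ifs with hjj
    · subst hjj
      exact (sub_top r N hN1 K g (f.coeff j)).mul_X_pow j
    · have h1 := (sub_top r N hN1 K g (f.coeff j)).mul_X_pow j
      refine h1.mono ?_
      have hjle : j ≤ f.natDegree := Polynomial.le_natDegree_of_mem_supp _ hj
      have hj₀le : j₀ ≤ f.natDegree := Polynomial.le_natDegree_of_mem_supp _ hj₀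
      have hm : N₀ * dj j + j ≤ N₀ * dj j₀ + j₀ := hmax j hj
      show N * dj j + j < N * dj j₀ + j₀
      have hd : dj j ≤ dj j₀ := by
        by_contra hcon
        push Not at hcon
        have : N₀ * (dj j₀ + 1) ≤ N₀ * dj j := Nat.mul_le_mul_left _ hcon
        nlinarith
      rcases lt_or_eq_of_le hd with hlt | heq
      · have : N * (dj j + 1) ≤ N * dj j₀ := Nat.mul_le_mul_left _ hlt
        nlinarith
      · have hjlt : j < j₀ := by
          rw [heq] at hm
          have : j ≤ j₀ := by omega
          exact lt_of_le_of_ne this hjj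
        rw [heq]; omega
  rw [Finset.sum_ite_eq' f.support j₀, if_pos hj₀] at key
  exact key.leadingCoeff (by
    rw [Ne, MvPolynomial.C_eq_zero]; exact hg)

end Groth.Agent.S15078
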