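import Groth.Statements.S15079
import Mathlib
import Groth.Agent.S15078

set_option autoImplicit false
universe u v
open MovLem

namespace Groth.Agent.S15079

section helpers
section hh
open Groth.Agent.S15078

theorem result_deg
    {k : Type u} [Field k] (r m : ℕ)
    (f : Polynomial (MvPolynomial (Fin r) k)) (hf : f ≠ 0) (hdeg : 1 ≤ f.natDegree) :
    ∃ h : MvPolynomial (Fin r) k, h ≠ 0 ∧ ∃ s₀ : ℕ, ∀ s : ℕ, s₀ ≤ s →
      ∀ (K : Type v) [Field K] [Algebra k K] (g : Fin r → K), MvPolynomial.aeval g h ≠ 0 →
        ∃ c : K, c ≠ 0 ∧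
          (Polynomial.eval₂ (MvPolynomial.aeval (fun i : Fin r => Polynomial.C (MvPolynomial.X i) + Polynomial.C (MvPolynomial.C (g i)) * Polynomial.X ^ (s * (m + 1))) : MvPolynomial (Fin r) k →ₐ[k] Polynomial (MvPolynomial (Fin r) K)).toRingHom Polynomial.X f).leadingCoeff = MvPolynomial.C c ∧
          1 ≤ (Polynomial.eval₂ (MvPolynomial.aeval (fun i : Fin r => Polynomial.C (MvPolynomial.X i) + Polynomial.C (MvPolynomial.C (g i)) * Polynomial.X ^ (s * (m + 1))) : MvPolynomial (Fin r) k →ₐ[k] Polynomial (MvPolynomial (Fin r) K)).toRingHom Polynomial.X f).natDegree := by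
  classical
  set N₀ := f.natDegree + 1 with hN₀
  have hsupp : f.support.Nonempty := by
    rw [Finset.nonempty_iff_ne_empty, Ne, Polynomial.support_eq_empty]; exact hf
  obtain ⟨j₀, hj₀, hmax⟩ := Finset.exists_max_image f.support
    (fun j => N₀ * (f.coeff j).totalDegree + j) hsupp
  have hcj₀ : f.coeff j₀ ≠ 0 := Polynomial.mem_support_iff.mp hj₀
  refine ⟨MvPolynomial.homogeneousComponent (f.coeff j₀).totalDegree (f.coeff j₀),
    homogeneousComponent_totalDegree_ne_zero _ hcj₀, N₀, ?_⟩
  intro s hs K _ _ g hg
  set N := s * (m + 1) with hN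
  have hNN₀ : N₀ ≤ N := by
    rw [hN]; nlinarith
  have hN1 : 1 ≤ N := le_trans (by omega) hNN₀
  have hev : Polynomial.eval₂ (sub r N K g).toRingHom Polynomial.X f =
      ∑ j ∈ f.support, (sub r N K g (f.coeff j)) * Polynomial.X ^ j := by
    rw [Polynomial.eval₂_eq_sum, Polynomial.sum_def]
    rfl
  set dj := fun j => (f.coeff j).totalDegree with hdj
  have key : HasTop (Polynomial.eval₂ (sub r N K g).toRingHom Polynomial.X f)
      (N * dj j₀ + j₀)
      (∑ j ∈ f.support, if j = j₀ then (MvPolynomial.C (MvPolynomial.aeval g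
        (MvPolynomial.homogeneousComponent (f.coeff j₀).totalDegree (f.coeff j₀))) :
          MvPolynomial (Fin r) K) else 0) := by
    rw [hev]
    apply HasTop.sum
    intro j hj
    split_ifs with hjj
    · subst hjj
      exact (sub_top r N hN1 K g (f.coeff j)).mul_X_pow j
    · have h1 := (sub_top r N hN1 K g (f.coeff j)).mul_X_pow j
      refine h1.mono ?_
      have hjle : j ≤ f.natDegree := Polynomial.le_natDegree_of_mem_supp _ hj
      have hj₀le : j₀ ≤ f.natDegree := Polynomial.le_natDegree_of_mem_supp _ hj₀
      have hm : N₀ * dj j + j ≤ N₀ * dj j₀ + j₀ := hmax j hj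
      show N * dj j + j < N * dj j₀ + j₀
      have hd : dj j ≤ dj j₀ := by
        by_contra hcon
        push Not at hcon
        have : N₀ * (dj j₀ + 1) ≤ N₀ * dj j := Nat.mul_le_mul_left _ hcon
        nlinarith
      rcases lt_or_eq_of_le hd with hlt | heq
      · have : N * (dj j + 1) ≤ N * dj j₀ := Nat.mul_le_mul_left _ hlt
        nlinarith
      · have hjlt : j < j₀ := by
          rw [heq] at hm
          have : j ≤ j₀ := by omega
          exact lt_of_le_of_ne this hjj
        rw [heq]; omega
  rw [Finset.sum_ite_eq' f.support j₀, if_pos hj₀] at key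
  have hne : (MvPolynomial.C (MvPolynomial.aeval g
      (MvPolynomial.homogeneousComponent (f.coeff j₀).totalDegree (f.coeff j₀))) :
        MvPolynomial (Fin r) K) ≠ 0 := by
    rw [Ne, MvPolynomial.C_eq_zero]; exact hg
  refine ⟨_, hg, key.leadingCoeff hne, ?_⟩
  have hnat : (Polynomial.eval₂ (sub r N K g).toRingHom Polynomial.X f).natDegree
      = N * dj j₀ + j₀ :=
    Polynomial.natDegree_eq_of_le_of_coeff_ne_zero key.1 (by rw [key.2]; exact hne)
  change 1 ≤ (Polynomial.eval₂ (sub r N K g).toRingHom Polynomial.X f).natDegree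
  rw [hnat]
  -- the top index is positive
  have hj₁ : f.natDegree ∈ f.support := Polynomial.natDegree_mem_support_of_nonzero hf
  have h1 : N₀ * (f.coeff f.natDegree).totalDegree + f.natDegree
      ≤ N₀ * (f.coeff j₀).totalDegree + j₀ := hmax f.natDegree hj₁
  by_contra hcon
  push Not at hcon
  have hz : N * dj j₀ + j₀ = 0 := by omega
  have hj0 : j₀ = 0 := by omega
  have hd0 : dj j₀ = 0 := by
    have : N * dj j₀ = 0 := by omega
    rcases Nat.mul_eq_zero.mp this with h | h
    · omega
    · exact h
  have hd0' : (f.coeff j₀).totalDegree = 0 := hd0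
  rw [hd0', hj0] at h1
  omega

theorem finite_inj {R : Type*} [CommRing R] [IsDomain R] (F : Polynomial R) (u : R) (hu : IsUnit u)
    (hlead : F.leadingCoeff = u) (hdeg : 1 ≤ F.natDegree) :
    Module.Finite R (Polynomial R ⧸ Ideal.span {F}) ∧
      Function.Injective ((Ideal.Quotient.mk (Ideal.span {F})).comp
        (algebraMap R (Polynomial R))) := by
  constructor
  · obtain ⟨v, hv⟩ := hu
    set G := Polynomial.C (↑v⁻¹ : R) * F with hG
    have hGm : G.Monic := by
      rw [Polynomial.Monic, hG, Polynomial.leadingCoeff_mul, Polynomial.leadingCoeff_C, hlead, ← hv]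
      simp
    have hspan : Ideal.span {F} = Ideal.span {G} := by
      rw [hG, Ideal.span_singleton_mul_left_unit]
      exact (Polynomial.isUnit_C.mpr (Units.isUnit _))
    rw [hspan]
    exact hGm.finite_adjoinRoot
  · rw [injective_iff_map_eq_zero]
    intro p hp
    rw [RingHom.comp_apply, Ideal.Quotient.eq_zero_iff_mem, Ideal.mem_span_singleton] at hp
    obtain ⟨q, hq⟩ := hp
    by_cases hq0 : q = 0
    · rw [hq0, mul_zero] at hq
      exact (Polynomial.C_eq_zero).mp hq
    · exfalso
      have hF0 : F ≠ 0 := by
        intro h; rw [h] at hdeg; simp at hdeg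
      have h1 := congrArg Polynomial.natDegree hq
      rw [Polynomial.natDegree_mul hF0 hq0] at h1
      have h2 : (algebraMap R (Polynomial R) p).natDegree = 0 := Polynomial.natDegree_C p
      omega

end hh


end helpers

/-- Let k be an infinite perfect field, r, m ≥ 1, and let f be an irreducible polynomial in t over
k[x_1, …, x_r] whose constant term in t is a unit of k[x_1, …, x_r], so that the hypersurface Z : f
= 0 in affine (r+1)-space with coordinates x_1, …, x_r, t is integral and does not meet the divisor
t = 0 (the modulus condition in cubical degree one). Then there are a nonzero polynomial h in k[x_1,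
…, x_r] and an integer s₀ such that for every s ≥ s₀, every field K over k and every point g of K^r
with h(g) ≠ 0, the translate of Z_K by the automorphism x_i ↦ x_i + t^{s(m+1)} g_i, t ↦ t is finite
and surjective over affine r-space over K: the quotient of K[x_1, …, x_r][t] by the translated
equation is a finitely generated K[x_1, …, x_r]-module and K[x_1, …, x_r] maps injectively into it.
(The published statement allows every nonzero point g of affine r-space; for r = 2 and f = x_1 t − 1
the point g = (0, 1) translates Z to itself, which is not finite over the affine plane, so the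
conclusion is stated here for g in a nonempty open subset h ≠ 0, which is what the published proof
establishes.) -/
theorem result
    {k : Type u} [Field k] [Infinite k] [PerfectField k] (r m : ℕ) (hr : 1 ≤ r) (hm : 1 ≤ m)
    (f : Polynomial (MvPolynomial (Fin r) k)) (hirr : Irreducible f) (h0 : IsUnit (f.coeff 0)) :
    ∃ h : MvPolynomial (Fin r) k, h ≠ 0 ∧ ∃ s₀ : ℕ, ∀ s : ℕ, s₀ ≤ s →
      ∀ (K : Type v) [Field K] [Algebra k K] (g : Fin r → K), MvPolynomial.aeval g h ≠ 0 →
        ∀ F : Polynomial (MvPolynomial (Fin r) K),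
          F = Polynomial.eval₂ (MvPolynomial.aeval (fun i : Fin r => Polynomial.C (MvPolynomial.X i) + Polynomial.C (MvPolynomial.C (g i)) * Polynomial.X ^ (s * (m + 1))) : MvPolynomial (Fin r) k →ₐ[k] Polynomial (MvPolynomial (Fin r) K)).toRingHom Polynomial.X f →
          Module.Finite (MvPolynomial (Fin r) K) (Polynomial (MvPolynomial (Fin r) K) ⧸ Ideal.span {F}) ∧
          Function.Injective ((Ideal.Quotient.mk (Ideal.span {F})).comp (algebraMap (MvPolynomial (Fin r) K) (Polynomial (MvPolynomial (Fin r) K)))) := by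
  have hf0 : f ≠ 0 := hirr.ne_zero
  have hdeg : 1 ≤ f.natDegree := by
    by_contra hcon
    have hd0 : f.natDegree = 0 := by omega
    have hfC : f = Polynomial.C (f.coeff 0) := Polynomial.eq_C_of_natDegree_eq_zero hd0
    apply hirr.not_isUnit
    rw [hfC]
    exact Polynomial.isUnit_C.mpr h0
  obtain ⟨h, hh0, s₀, hs₀⟩ := result_deg.{u, v} r m f hf0 hdeg
  refine ⟨h, hh0, s₀, ?_⟩
  intro s hs K _ _ g hg F hF
  obtain ⟨c, hc0, hlead, hnat⟩ := hs₀ s hs K g hg
  rw [← hF] at hlead hnat
  exact finite_inj F (MvPolynomial.C c)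
    ((isUnit_iff_ne_zero.mpr hc0).map MvPolynomial.C) hlead hnat

end Groth.Agent.S15079
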