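import Groth.Statements.S15083
-- import your own Groth.Agent.* helpers here

set_option autoImplicit false
universe u
open MovLem

namespace Groth.Agent.S15083

open Matrix Matrix.SpecialLinearGroup in
private lemma weyl {ι : Type*} [Fintype ι] [DecidableEq ι] {R : Type*} [CommRing R] {i j : ι}
    (hij : i ≠ j) (a b : R) (hab : a * b = -1) :
    ((1 : Matrix ι ι R) + single i j a) * (1 + single j i b) * (1 + single i j a)
      = 1 + single i j a + single j i b - single i i 1 - single j j 1 := by
  have hba : b * a = -1 := by rw [mul_comm]; exact hab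
  simp only [mul_add, add_mul, mul_one, one_mul, single_mul_single_same,
    single_mul_single_of_ne _ _ _ _ hij.symm, hab, hba,
    add_zero, neg_mul, ← single_neg]
  abel

open Matrix Matrix.SpecialLinearGroup in
private lemma weyl_mul {ι : Type*} [Fintype ι] [DecidableEq ι] {R : Type*} [CommRing R] {i j : ι}
    (hij : i ≠ j) (a b : R) :
    ((1 : Matrix ι ι R) + single i j a + single j i b - single i i 1 - single j j 1) *
      (1 + single i j (-1) + single j i 1 - single i i 1 - single j j 1) =
      1 + (single i i a - single i i 1) + (single j j (-b) - single j j 1) := by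
  simp only [mul_add, add_mul, mul_one, one_mul, single_mul_single_same, mul_sub, sub_mul,
    single_mul_single_of_ne _ _ _ _ hij.symm, single_mul_single_of_ne _ _ _ _ hij,
    add_zero, ← single_neg, mul_neg, sub_zero]
  abel

open Matrix Matrix.SpecialLinearGroup in
private lemma diag2n_decompose {ι : Type*} [Fintype ι] [DecidableEq ι] {F : Type*} [Field F]
    {i j : ι} (hij : i ≠ j) (a : F) (ha : a ≠ 0) :
    diag2n hij a ha = transvection hij a * transvection hij.symm (-a⁻¹) * transvection hij a *
      (transvection hij (-1) * transvection hij.symm 1 * transvection hij (-1)) := by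
  apply Subtype.ext
  simp only [coe_mul, transvection_coe]
  rw [weyl hij a (-a⁻¹) (by rw [mul_neg, mul_inv_cancel₀ ha]),
    weyl hij (-1 : F) 1 (by simp), weyl_mul hij, diag2n_coe, neg_neg]
  ext k l
  simp only [diagonal_apply, Matrix.add_apply, Matrix.sub_apply, one_apply, single_apply]
  by_cases hkl : k = l
  · subst hkl
    by_cases hki : k = i
    · subst hki
      simp [hij.symm]
    · by_cases hkj : k = j
      · subst hkj
        simp [hij, hij.symm]
      · simp [hki, hkj, Ne.symm hki, Ne.symm hkj]
  · have h1 : ¬ (i = k ∧ i = l) := fun h => hkl (h.1.symm.trans h.2)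
    have h2 : ¬ (j = k ∧ j = l) := fun h => hkl (h.1.symm.trans h.2)
    simp [hkl, h1, h2]

open Matrix Matrix.SpecialLinearGroup in
private lemma map_transvection {ι : Type*} [Fintype ι] [DecidableEq ι] {R S : Type*} [CommRing R]
    [CommRing S] (f : R →+* S) {i j : ι} (hij : i ≠ j) (b : R) :
    Matrix.SpecialLinearGroup.map f (transvection hij b) = transvection hij (f b) := by
  apply Subtype.ext
  ext k l
  simp only [map_apply_coe, RingHom.mapMatrix_apply, transvection_coe, Matrix.map_apply,
    Matrix.add_apply, one_apply, single_apply]
  split_ifs <;> simp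

/-- Let K be a field and r ≥ 1. For every element A of the special linear group SL_{r+1}(K) there is an
algebraic path in SL_{r+1} from the identity to A defined over K: a matrix M of determinant 1 with
entries in the polynomial ring K[y] such that M(0) is the identity matrix and M(1) = A. (The
published statement takes K to be the function field of SL_{r+1} over the ground field, A its
generic point viewed as a K-rational point, and the parameter space to be the projective line minus
the point 1, with endpoints 0 and ∞; this row gives the path for an arbitrary K-point A on the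
affine line with endpoints 0 and 1, which is what the published construction provides before
composing with the coordinate change y ↦ y/(y − 1).) -/
theorem result
    (K : Type u) [Field K] (r : ℕ) (hr : 1 ≤ r)
    (A : Matrix.SpecialLinearGroup (Fin (r + 1)) K) :
    ∃ M : Matrix.SpecialLinearGroup (Fin (r + 1)) (Polynomial K),
      Matrix.SpecialLinearGroup.map (Polynomial.evalRingHom (0 : K)) M = 1 ∧
      Matrix.SpecialLinearGroup.map (Polynomial.evalRingHom (1 : K)) M = A := by
  classical
  have : Nontrivial (Fin (r + 1)) := Fin.nontrivial_iff_two_le.mpr (by omega)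
  have htrans : ∀ (i j : Fin (r + 1)) (hij : i ≠ j) (a : K),
      ∃ M : Matrix.SpecialLinearGroup (Fin (r + 1)) (Polynomial K),
      Matrix.SpecialLinearGroup.map (Polynomial.evalRingHom (0 : K)) M = 1 ∧
      Matrix.SpecialLinearGroup.map (Polynomial.evalRingHom (1 : K)) M =
        Matrix.SpecialLinearGroup.transvection hij a := by
    intro i j hij a
    refine ⟨Matrix.SpecialLinearGroup.transvection hij (Polynomial.C a * Polynomial.X), ?_, ?_⟩
    · rw [map_transvection]; simp
    · rw [map_transvection]; simp
  have hmul : ∀ A B : Matrix.SpecialLinearGroup (Fin (r + 1)) K,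
      (∃ M : Matrix.SpecialLinearGroup (Fin (r + 1)) (Polynomial K),
      Matrix.SpecialLinearGroup.map (Polynomial.evalRingHom (0 : K)) M = 1 ∧
      Matrix.SpecialLinearGroup.map (Polynomial.evalRingHom (1 : K)) M = A) →
      (∃ M : Matrix.SpecialLinearGroup (Fin (r + 1)) (Polynomial K),
      Matrix.SpecialLinearGroup.map (Polynomial.evalRingHom (0 : K)) M = 1 ∧
      Matrix.SpecialLinearGroup.map (Polynomial.evalRingHom (1 : K)) M = B) →
      ∃ M : Matrix.SpecialLinearGroup (Fin (r + 1)) (Polynomial K),
      Matrix.SpecialLinearGroup.map (Polynomial.evalRingHom (0 : K)) M = 1 ∧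
      Matrix.SpecialLinearGroup.map (Polynomial.evalRingHom (1 : K)) M = A * B := by
    rintro A B ⟨MA, hA0, hA1⟩ ⟨MB, hB0, hB1⟩
    exact ⟨MA * MB, by rw [map_mul, hA0, hB0, one_mul], by rw [map_mul, hA1, hB1]⟩
  refine Matrix.SpecialLinearGroup.diagonal_transvection_induction'
    (fun A => ∃ M : Matrix.SpecialLinearGroup (Fin (r + 1)) (Polynomial K),
      Matrix.SpecialLinearGroup.map (Polynomial.evalRingHom (0 : K)) M = 1 ∧
      Matrix.SpecialLinearGroup.map (Polynomial.evalRingHom (1 : K)) M = A) A ?_ ?_ ?_
  · intro i j hij c hc
    rw [diag2n_decompose hij c hc]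
    have ht := htrans
    exact hmul _ _ (hmul _ _ (hmul _ _ (ht i j hij c) (ht j i hij.symm _)) (ht i j hij c))
      (hmul _ _ (hmul _ _ (ht i j hij _) (ht j i hij.symm _)) (ht i j hij _))
  · exact htrans
  · exact hmul

end Groth.Agent.S15083
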