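import Groth.Statements.S15084
-- import your own Groth.Agent.* helpers here

set_option autoImplicit false
universe u
open MovLem

namespace Groth.Agent.S15084

/-- Let A be a Noetherian integrally closed domain with fraction field K, let B be a domain with
fraction field L, and let A → B be an injective ring homomorphism, with K → L the induced map of
fraction fields, such that Spec B → Spec A is surjective (every prime ideal of A is the contraction
of a prime ideal of B). If a ∈ K is such that its image in L lies in B, then a ∈ A. (The published
statement: for a surjective morphism f : Y → X of normal integral separated schemes of finite type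
over a perfect field and a Cartier divisor D on X, if f^*D is effective then D is effective; a
Cartier divisor is locally the divisor of a nonzero rational function a, effectivity of div(a) on a
normal scheme means that a is a regular function, and this row is that local statement, which is
what the published proof establishes.) -/
theorem result
    (A B K L : Type u) [CommRing A] [IsDomain A] [IsNoetherianRing A] [IsIntegrallyClosed A]
    [CommRing B] [IsDomain B] [Field K] [Field L]
    [Algebra A B] [Algebra A K] [IsFractionRing A K] [Algebra B L] [IsFractionRing B L]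
    [Algebra K L] [Algebra A L] [IsScalarTower A K L] [IsScalarTower A B L]
    (hinj : Function.Injective (algebraMap A B))
    (hsurj : ∀ p : Ideal A, p.IsPrime → ∃ q : Ideal B, q.IsPrime ∧ q.comap (algebraMap A B) = p)
    (a : K) (ha : algebraMap K L a ∈ (algebraMap B L).range) :
    a ∈ (algebraMap A K).range := by
  classical
  by_contra hna
  obtain ⟨x, ⟨y, hy⟩, rfl⟩ := IsLocalization.exists_mk'_eq (nonZeroDivisors A) a
  have hy0 : y ≠ 0 := nonZeroDivisors.ne_zero hy
  obtain ⟨b, hb⟩ := ha
  set N : Ideal A := Ideal.span {y} with hN
  -- x ∉ N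
  have hxN : x ∉ N := by
    intro hx
    obtain ⟨c, rfl⟩ := Ideal.mem_span_singleton'.mp hx
    apply hna
    refine ⟨c, ?_⟩
    rw [IsLocalization.eq_mk'_iff_mul_eq]
    simp [map_mul]
  -- maximal colon ideal
  let S : Set (Ideal A) := {P | ∃ c : A, c * x ∉ N ∧ P = Submodule.colon N {c * x}}
  have hSne : S.Nonempty := ⟨_, 1, by simpa using hxN, rfl⟩
  obtain ⟨P, ⟨c, hcx, rfl⟩, hmax⟩ :=
    set_has_maximal_iff_noetherian.mpr (inferInstance : IsNoetherianRing A) S hSne
  set z := c * x with hz
  set P : Ideal A := Submodule.colon N {z} with hP
  have hmemP : ∀ r, r ∈ P ↔ r * z ∈ N := fun r => by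
    rw [hP, Submodule.mem_colon_singleton, smul_eq_mul]
  have hyP : y ∈ P := by
    rw [hmemP]; exact Ideal.mul_mem_right _ _ (Ideal.mem_span_singleton_self y)
  have hPprime : P.IsPrime := by
    refine ⟨?_, ?_⟩
    · intro htop
      have : (1 : A) ∈ P := htop ▸ Submodule.mem_top
      rw [hmemP, one_mul] at this
      exact hcx this
    · intro r r' hrr'
      by_contra hcon
      push Not at hcon
      obtain ⟨hr, hr'⟩ := hcon
      have hrz : (r * c) * x ∉ N := by
        rw [hmemP] at hr
        rwa [mul_assoc]
      have hle : P ≤ Submodule.colon N {(r * c) * x} := by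
        intro w hw
        rw [hmemP] at hw
        rw [Submodule.mem_colon_singleton, smul_eq_mul]
        have : w * (r * c * x) = r * (w * z) := by rw [hz]; ring
        rw [this]
        exact Ideal.mul_mem_left _ _ hw
      have hnlt := hmax _ ⟨r * c, hrz, rfl⟩
      have heq : P = Submodule.colon N {(r * c) * x} := by
        by_contra hne
        exact hnlt (lt_of_le_of_ne hle hne)
      apply hr'
      rw [heq, Submodule.mem_colon_singleton, smul_eq_mul]
      have : r' * (r * c * x) = (r * r') * z := by rw [hz]; ring
      rw [this, ← hmemP]
      exact hrr'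
  -- t = z / y
  set t : K := IsLocalization.mk' K z (⟨y, hy⟩ : nonZeroDivisors A) with ht
  have hty : t * algebraMap A K y = algebraMap A K z := by
    rw [ht]; exact IsLocalization.mk'_spec K z ⟨y, hy⟩
  have hyK : algebraMap A K y ≠ 0 := by
    rw [Ne, map_eq_zero_iff _ (IsFractionRing.injective A K)]; exact hy0
  have htc : t = algebraMap A K c * IsLocalization.mk' K x (⟨y, hy⟩ : nonZeroDivisors A) := by
    rw [ht, hz, IsLocalization.mul_mk'_eq_mk'_of_mul]
  -- key: ∃ π ∈ P, ∃ s ∉ P, π * z = s * y
  have key : ∃ π ∈ P, ∃ s, s ∉ P ∧ π * z = s * y := by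
    by_contra hcon
    push Not at hcon
    -- t stabilises the image of P in K
    have hstab : ∀ n ∈ Submodule.map (Algebra.linearMap A K) P, t • n ∈
        Submodule.map (Algebra.linearMap A K) P := by
      rintro _ ⟨π, hπ, rfl⟩
      have hπz : π * z ∈ N := (hmemP π).mp hπ
      obtain ⟨s, hs⟩ := Ideal.mem_span_singleton'.mp hπz
      have hsP : s ∈ P := by
        by_contra hsP
        exact hcon π hπ s hsP hs.symm
      refine ⟨s, hsP, ?_⟩
      simp only [Algebra.linearMap_apply, smul_eq_mul]
      apply mul_right_cancel₀ hyK
      rw [← map_mul, hs, map_mul, mul_right_comm, hty, mul_comm]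
    have hne : Submodule.map (Algebra.linearMap A K) P ≠ ⊥ := by
      intro h
      have : algebraMap A K y ∈ Submodule.map (Algebra.linearMap A K) P := ⟨y, hyP, rfl⟩
      rw [h, Submodule.mem_bot] at this
      exact hyK this
    have hfg : (Submodule.map (Algebra.linearMap A K) P).FG :=
      Submodule.FG.map _ (IsNoetherian.noetherian P)
    have hint : IsIntegral A t :=
      isIntegral_of_smul_mem_submodule _ hne hfg t hstab
    obtain ⟨w, hw⟩ := IsIntegrallyClosed.isIntegral_iff.mp hint
    apply hcx
    rw [hN, Ideal.mem_span_singleton']
    refine ⟨w, ?_⟩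
    apply IsFractionRing.injective A K
    rw [map_mul, hw, hty]
  obtain ⟨π, hπ, s, hs, hπs⟩ := key
  obtain ⟨q, hq, hqP⟩ := hsurj P hPprime
  apply hs
  rw [← hqP, Ideal.mem_comap]
  -- algebraMap A B s = algebraMap A B π * (algebraMap A B c * b)
  have hπq : algebraMap A B π ∈ q := by
    rw [← Ideal.mem_comap, hqP]; exact hπ
  have : algebraMap A B s = algebraMap A B π * (algebraMap A B c * b) := by
    apply IsFractionRing.injective B L
    have h1 : algebraMap K L t = algebraMap B L (algebraMap A B c * b) := by
      rw [htc, map_mul, map_mul, hb, ← IsScalarTower.algebraMap_apply A K L,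
        ← IsScalarTower.algebraMap_apply A B L]
    have h2 : algebraMap A K π * t = algebraMap A K s := by
      apply mul_right_cancel₀ hyK
      rw [mul_assoc, hty, ← map_mul, ← map_mul, hπs]
    rw [map_mul, ← h1, ← IsScalarTower.algebraMap_apply A B L, ← IsScalarTower.algebraMap_apply A B L,
      IsScalarTower.algebraMap_apply A K L, IsScalarTower.algebraMap_apply A K L π, ← map_mul, h2]
  rw [this]
  exact Ideal.mul_mem_right _ _ hπq

end Groth.Agent.S15084
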