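import Groth.Statements.S15086
import Groth.Agent.S10863
import Mathlib

set_option autoImplicit false
universe u
open CategoryTheory CategoryTheory.Limits AlgebraicGeometry
open MovLem

namespace Groth.Agent.S15086

open TensorProduct in
/-- For a finite extension `κ` of a perfect field `k` and an algebraically closed extension `K`,
`K ⊗[k] κ` has exactly `[κ : k]` primes. -/
theorem card_primeSpectrum_tensor (k κ K : Type u) [Field k] [PerfectField k] [Field κ]
    [Algebra k κ] [Module.Finite k κ] [Field K] [Algebra k K] [IsAlgClosed K] :
    ENat.card (PrimeSpectrum (K ⊗[k] κ)) = (Module.finrank k κ : ℕ∞) := by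
  classical
  haveI : IsArtinianRing (K ⊗[k] κ) := IsArtinianRing.of_finite K _
  rw [ENat.card_congr (IsArtinianRing.primeSpectrumEquivMaximalSpectrum (R := K ⊗[k] κ)),
    ENat.card_eq_coe_natCard]
  congr 1
  have key := Groth.Agent.S10863.result k κ K
  have hL : Field.finSepDegree k (IsLocalRing.ResidueField κ) = Module.finrank k κ := by
    have e : κ ≃ₐ[k] IsLocalRing.ResidueField κ :=
      AlgEquiv.ofBijective (IsScalarTower.toAlgHom k κ (IsLocalRing.ResidueField κ))
        ⟨(IsScalarTower.toAlgHom k κ (IsLocalRing.ResidueField κ)).toRingHom.injective,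
          IsLocalRing.residue_surjective⟩
    rw [← Field.finSepDegree_eq_of_equiv k κ _ e]
    exact Field.finSepDegree_eq_finrank_of_isSeparable k κ
  have hR : ∀ m : MaximalSpectrum (K ⊗[k] κ),
      Field.finSepDegree K (IsLocalRing.ResidueField (Localization.AtPrime m.asIdeal)) = 1 := by
    intro m
    haveI := m.isMaximal
    let L := m.asIdeal.ResidueField
    let πm : (K ⊗[k] κ) →ₐ[K] L := IsScalarTower.toAlgHom K _ L
    have hπm : Function.Surjective πm := m.asIdeal.algebraMap_residueField_surjective
    haveI : Module.Finite K L := Module.Finite.of_surjective πm.toLinearMap hπm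
    change Field.finSepDegree K L = 1
    have hb : Function.Bijective (algebraMap K L) :=
      IsAlgClosed.algebraMap_bijective_of_isIntegral
    have e : K ≃ₐ[K] L := AlgEquiv.ofBijective (Algebra.ofId K L) hb
    rw [← Field.finSepDegree_eq_of_equiv K K L e]
    exact Field.finSepDegree_self K
  rw [hL] at key
  haveI : Fintype (MaximalSpectrum (K ⊗[k] κ)) := Fintype.ofFinite _
  rw [key, finsum_eq_sum_of_fintype, Finset.sum_congr rfl fun m _ => hR m]
  simp [Nat.card_eq_fintype_card]

/-- The fibre of `X_{k̄} ⟶ X` over a closed point `x` has `[κ(x) : k]` points. -/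
theorem fibre_encard {k : Type u} [Field k] [PerfectField k] {X : Scheme.{u}}
    (sX : X ⟶ Spec (CommRingCat.of k)) [LocallyOfFiniteType sX]
    (x : X) (hx : IsClosed ({x} : Set X)) [Algebra k (X.residueField x)]
    (halg : Spec.map (CommRingCat.ofHom (algebraMap k (X.residueField x))) =
      X.fromSpecResidueField x ≫ sX) :
    Module.Finite k (X.residueField x) ∧
      ((pullback.fst sX (Spec.map (CommRingCat.ofHom
        (algebraMap k (AlgebraicClosure k))))).base ⁻¹' {x}).encard =
        (Module.finrank k (X.residueField x) : ℕ∞) := by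
  have hfin : Module.Finite k (X.residueField x) := by
    have : IsFinite (X.fromSpecResidueField x ≫ sX) := by
      rw [isClosed_singleton_iff_isClosedImmersion] at hx
      rw [isFinite_iff_locallyOfFiniteType_of_jacobsonSpace]
      infer_instance
    rw [← halg, IsFinite.SpecMap_iff] at this
    exact RingHom.finite_algebraMap.mp this
  refine ⟨hfin, ?_⟩
  have s := (IsPullback.of_hasPullback (pullback.fst sX (Spec.map (CommRingCat.ofHom
        (algebraMap k (AlgebraicClosure k))))) (X.fromSpecResidueField x)).flip
  have t := IsPullback.of_hasPullback sX (Spec.map (CommRingCat.ofHom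
        (algebraMap k (AlgebraicClosure k))))
  have st := (s.paste_vert t).flip
  rw [← halg] at st
  let e := st.isoPullback ≪≫ pullbackSpecIso k (AlgebraicClosure k) (X.residueField x)
  have h1 := (pullback.fst sX (Spec.map (CommRingCat.ofHom
        (algebraMap k (AlgebraicClosure k))))).fiberHomeo x
  have h2 := Scheme.homeoOfIso e
  exact (ENat.card_congr (h1.symm.toEquiv.trans h2.toEquiv)).trans
    (card_primeSpectrum_tensor k (X.residueField x) (AlgebraicClosure k))


/-- Let k be an infinite perfect field with algebraic closure k̄, let φ : X → Y be a finite morphism of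
k-schemes locally of finite type, let x be a closed point of X and y = φ(x). Let π_X : X_{k̄} → X
and π_Y : Y_{k̄} → Y be the base-change projections and φ_{k̄} : X_{k̄} → Y_{k̄} the induced
morphism. Then the number of points of π_Y⁻¹(y) is at most the number of points of π_X⁻¹(x);
equality holds if and only if the residue field extension k(y) → k(x) is an isomorphism; and
equality holds whenever φ_{k̄} is injective on π_X⁻¹(x). (Cardinalities are taken in ℕ ∪ {∞}; both
fibres are in fact finite.) -/
theorem result
    {k : Type u} [Field k] [Infinite k] [PerfectField k] {X Y : Scheme.{u}}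
    (sX : X ⟶ Spec (CommRingCat.of k)) (sY : Y ⟶ Spec (CommRingCat.of k))
    [LocallyOfFiniteType sX] [LocallyOfFiniteType sY]
    (φ : X ⟶ Y) (hφ : φ ≫ sY = sX) [IsFinite φ]
    (i : Spec (CommRingCat.of (AlgebraicClosure k)) ⟶ Spec (CommRingCat.of k))
    (hi : i = Spec.map (CommRingCat.ofHom (algebraMap k (AlgebraicClosure k))))
    (φbar : pullback sX i ⟶ pullback sY i)
    (h1 : φbar ≫ pullback.fst sY i = pullback.fst sX i ≫ φ)
    (h2 : φbar ≫ pullback.snd sY i = pullback.snd sX i)
    (x : X) (hx : IsClosed ({x} : Set X)) :
    ((pullback.fst sY i).base ⁻¹' {φ.base x}).encard ≤ ((pullback.fst sX i).base ⁻¹' {x}).encard ∧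
      (((pullback.fst sY i).base ⁻¹' {φ.base x}).encard = ((pullback.fst sX i).base ⁻¹' {x}).encard ↔
          Function.Bijective (φ.residueFieldMap x).hom) ∧
      (Set.InjOn φbar.base ((pullback.fst sX i).base ⁻¹' {x}) →
        ((pullback.fst sY i).base ⁻¹' {φ.base x}).encard = ((pullback.fst sX i).base ⁻¹' {x}).encard) := by
  subst hi
  have hyc : IsClosed ({φ.base x} : Set Y) := by
    have := φ.isClosedMap _ hx
    rwa [Set.image_singleton] at this
  let ρx : CommRingCat.of k ⟶ X.residueField x :=
    Spec.preimage (X.fromSpecResidueField x ≫ sX)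
  let ρy : CommRingCat.of k ⟶ Y.residueField (φ.base x) :=
    Spec.preimage (Y.fromSpecResidueField (φ.base x) ≫ sY)
  letI ax : Algebra k (X.residueField x) := ρx.hom.toAlgebra
  letI ay : Algebra k (Y.residueField (φ.base x)) := ρy.hom.toAlgebra
  letI axy : Algebra (Y.residueField (φ.base x)) (X.residueField x) :=
    (φ.residueFieldMap x).hom.toAlgebra
  have hρ : ρy ≫ φ.residueFieldMap x = ρx := by
    apply Spec.map_injective
    rw [Spec.map_comp, Spec.map_preimage, Spec.map_preimage,
      Scheme.Hom.SpecMap_residueFieldMap_fromSpecResidueField_assoc, hφ]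
  haveI : IsScalarTower k (Y.residueField (φ.base x)) (X.residueField x) :=
    IsScalarTower.of_algebraMap_eq' (by
      change ρx.hom = (φ.residueFieldMap x).hom.comp ρy.hom
      rw [← hρ]
      rfl)
  obtain ⟨fx, ex⟩ := fibre_encard sX x hx (Spec.map_preimage _)
  obtain ⟨fy, ey⟩ := fibre_encard sY (φ.base x) hyc (Spec.map_preimage _)
  rw [ex, ey]
  have hmul : Module.finrank k (Y.residueField (φ.base x)) *
      Module.finrank (Y.residueField (φ.base x)) (X.residueField x) =
      Module.finrank k (X.residueField x) := Module.finrank_mul_finrank k _ _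
  haveI : Module.Finite (Y.residueField (φ.base x)) (X.residueField x) :=
    Module.Finite.of_restrictScalars_finite k _ _
  have hpos : 0 < Module.finrank (Y.residueField (φ.base x)) (X.residueField x) :=
    Module.finrank_pos
  have hposy : 0 < Module.finrank k (Y.residueField (φ.base x)) := Module.finrank_pos
  have hle : Module.finrank k (Y.residueField (φ.base x)) ≤
      Module.finrank k (X.residueField x) := by
    rw [← hmul]
    exact Nat.le_mul_of_pos_right _ hpos
  have hiff : Module.finrank k (Y.residueField (φ.base x)) =
      Module.finrank k (X.residueField x) ↔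
      Function.Bijective (φ.residueFieldMap x).hom := by
    rw [← hmul]
    change _ ↔ Function.Bijective (algebraMap (Y.residueField (φ.base x)) (X.residueField x))
    rw [← Algebra.finrank_eq_one_iff_bijective_algebraMap]
    constructor
    · intro h
      exact Nat.eq_of_mul_eq_mul_left hposy (by rw [← h, mul_one])
    · intro h
      rw [h, mul_one]
  have hfirst : ((Module.finrank k (Y.residueField (φ.base x)) : ℕ) : ℕ∞) ≤
      ((Module.finrank k (X.residueField x) : ℕ) : ℕ∞) := by
    exact_mod_cast hle
  refine ⟨hfirst, ?_, ?_⟩
  · rw [← hiff]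
    exact Nat.cast_inj
  · intro hinj
    refine le_antisymm hfirst ?_
    rw [← ex, ← ey]
    refine Set.encard_le_encard_of_injOn (f := φbar.base) ?_ hinj
    intro z hz
    have hz' : (pullback.fst sX _).base z = x := hz
    have := congrArg (fun f => f.base z) h1
    change (pullback.fst sY _).base (φbar.base z) = φ.base x
    rw [← hz']
    exact this

end Groth.Agent.S15086
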