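import Groth.Statements.S1510
import Groth.Agent.LibSecRegApp29
import Groth.Agent.LibRegImmBasic29
import Groth.Agent.Lib.Helper3.PerfKos2
import Groth.Agent.Lib.Helper3.PCBC3
import Groth.Agent.S1508

set_option autoImplicit false
universe u
attribute [local instance] HasDerivedCategory.standard
open FlatMor

namespace Groth.Agent.S1510

open AlgebraicGeometry CategoryTheory Limits in
/-- Let f : X → Y and g : Y → S with g smooth and f ≫ g perfect. Then f is perfect. -/
theorem result {X Y S : Scheme.{u}} (f : X ⟶ Y) (g : Y ⟶ S) [Smooth g] (h : MoreMor.IsPerfectMor (f ≫ g)) :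
    MoreMor.IsPerfectMor f := by
  let p : X ⟶ S := f ≫ g
  let Γ : X ⟶ pullback p g := pullback.lift (𝟙 X) f (by rw [Category.id_comp])
  have hΓ1 : Γ ≫ pullback.fst p g = 𝟙 X := pullback.lift_fst _ _ _
  have hΓ2 : Γ ≫ pullback.snd p g = f := pullback.lift_snd _ _ _
  have hΓreg : RegImm.IsRegularImmersion .koszul Γ :=
    Groth.Agent.LibRegImmBasic29.isRegularImmersion_koszul_of_regular Γ
      (Groth.Agent.LibSecRegApp29.isRegularImmersion_of_section (pullback.fst p g) Γ hΓ1)
  have h1 : MoreMor.IsPerfectMor Γ :=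
    Groth.Agent.Lib.helper3.PerfKos.isPerfectMor_of_forall_koszul Γ hΓreg.2
  have h2 : MoreMor.IsPerfectMor (pullback.snd p g) :=
    (Groth.Agent.Lib.helper3.PCBC.baseChange_of_flat p (pullback.snd p g) (pullback.fst p g) g
      (IsPullback.of_hasPullback p g)).2 h
  rw [← hΓ2]
  exact Groth.Agent.S1508.result Γ _ h1 h2

end Groth.Agent.S1510
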