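import Groth.Statements.S15100
import Mathlib

set_option autoImplicit false
universe u
open TensorProduct
open CAlg

namespace Groth.Agent.S15100

section aux

open IsLocalRing

/-- If `M = F / span{w}` localized at `P` is projective and `w ∈ P • F`-ish (coordinates in `P`),
then `w/1 = 0`. -/
theorem loc_zero_of_projective {A : Type u} [CommRing A] (P : Ideal A) [P.IsPrime]
    {F M : Type u} [AddCommGroup F] [Module A F] [AddCommGroup M] [Module A M]
    (q : F →ₗ[A] M) (hq : Function.Surjective q) (w : F)
    (hker : LinearMap.ker q = Submodule.span A {w})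
    (a b : A) (f₁ f₂ : F) (hw : w = a • f₁ + b • f₂) (ha : a ∈ P) (hb : b ∈ P)
    [Module.Projective (Localization.AtPrime P) (LocalizedModule P.primeCompl M)] :
    LocalizedModule.mk w (1 : P.primeCompl) = 0 := by
  set S := P.primeCompl with hS
  set qP := LocalizedModule.map S q with hqP
  have hqPs : Function.Surjective qP := by
    intro y
    induction y using LocalizedModule.induction_on with
    | h m s =>
      obtain ⟨x, rfl⟩ := hq m
      exact ⟨LocalizedModule.mk x s, LocalizedModule.map_mk S q x s⟩
  obtain ⟨σ, hσ⟩ := Module.projective_lifting_property qP LinearMap.id hqPs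
  set w₁ : LocalizedModule S F := LocalizedModule.mk w 1 with hw₁
  have hqw : q w = 0 := by
    have : w ∈ LinearMap.ker q := by rw [hker]; exact Submodule.mem_span_singleton_self w
    exact this
  have hqw₁ : qP w₁ = 0 := by
    rw [hw₁, hqP, LocalizedModule.map_mk, hqw, LocalizedModule.zero_mk]
  -- kernel of qP
  have hkerP : ∀ y, qP y = 0 → ∃ l : Localization.AtPrime P, y = l • w₁ := by
    intro y
    induction y using LocalizedModule.induction_on with
    | h m s =>
      intro hy
      rw [hqP, LocalizedModule.map_mk, ← LocalizedModule.zero_mk s, LocalizedModule.mk_eq] at hy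
      obtain ⟨u, hu⟩ := hy
      rw [smul_zero, smul_zero, Submonoid.smul_def, Submonoid.smul_def] at hu
      have h1 : ((u : A) * (s : A)) • m ∈ LinearMap.ker q := by
        rw [LinearMap.mem_ker, mul_smul, map_smul, map_smul, hu]
      rw [hker, Submodule.mem_span_singleton] at h1
      obtain ⟨c, hc⟩ := h1
      refine ⟨Localization.mk c (u * s * s), ?_⟩
      rw [hw₁, LocalizedModule.mk_smul_mk, mul_one, hc, LocalizedModule.mk_eq]
      refine ⟨1, ?_⟩
      simp only [one_smul, Submonoid.smul_def, mul_smul]
      rw [smul_comm (s : A) (u : A) ((s : A) • m)]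
  -- the projection
  have hπ : ∀ y, ∃ l : Localization.AtPrime P, y - σ (qP y) = l • w₁ := by
    intro y
    apply hkerP
    rw [map_sub]
    have := LinearMap.congr_fun hσ (qP y)
    simp only [LinearMap.comp_apply, LinearMap.id_apply] at this
    rw [this, sub_self]
  obtain ⟨l₁, hl₁⟩ := hπ (LocalizedModule.mk f₁ 1)
  obtain ⟨l₂, hl₂⟩ := hπ (LocalizedModule.mk f₂ 1)
  have hw₁' : w₁ = algebraMap A (Localization.AtPrime P) a • LocalizedModule.mk f₁ (1 : S) +
      algebraMap A (Localization.AtPrime P) b • LocalizedModule.mk f₂ (1 : S) := by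
    rw [algebraMap_smul, algebraMap_smul, LocalizedModule.smul'_mk, LocalizedModule.smul'_mk,
      LocalizedModule.mk_add_mk, hw₁, hw]
    simp
  have key : w₁ = (algebraMap A (Localization.AtPrime P) a * l₁ +
      algebraMap A (Localization.AtPrime P) b * l₂) • w₁ := by
    have h1 : w₁ - σ (qP w₁) = w₁ := by rw [hqw₁, map_zero, sub_zero]
    conv_lhs => rw [← h1, hw₁']
    simp only [map_add, map_smul]
    rw [add_smul, mul_smul, mul_smul, ← hl₁, ← hl₂]
    simp only [smul_sub]
    abel
  have hmem : algebraMap A (Localization.AtPrime P) a * l₁ +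
      algebraMap A (Localization.AtPrime P) b * l₂ ∈ maximalIdeal (Localization.AtPrime P) := by
    apply Ideal.add_mem
    · exact Ideal.mul_mem_right _ _ ((IsLocalization.AtPrime.to_map_mem_maximal_iff _ P a).mpr ha)
    · exact Ideal.mul_mem_right _ _ ((IsLocalization.AtPrime.to_map_mem_maximal_iff _ P b).mpr hb)
  have hunit : IsUnit (1 - (algebraMap A (Localization.AtPrime P) a * l₁ +
      algebraMap A (Localization.AtPrime P) b * l₂)) := by
    by_contra h
    have h2 : (1 - (algebraMap A (Localization.AtPrime P) a * l₁ +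
      algebraMap A (Localization.AtPrime P) b * l₂)) ∈ maximalIdeal (Localization.AtPrime P) :=
      (mem_maximalIdeal _).mpr h
    have h3 := Ideal.add_mem _ h2 hmem
    rw [sub_add_cancel] at h3
    exact (Ideal.ne_top_iff_one _).mp (maximalIdeal.isMaximal _).ne_top h3
  have h0 : (1 - (algebraMap A (Localization.AtPrime P) a * l₁ +
      algebraMap A (Localization.AtPrime P) b * l₂)) • w₁ = 0 := by
    rw [sub_smul, one_smul, ← key, sub_self]
  exact (hunit.smul_eq_zero).mp h0


theorem key {A : Type u} [CommRing A] [IsDomain A] [IsNoetherianRing A] [IsLocalRing A]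
    (N F M : Type u) [AddCommGroup N] [Module A N] [AddCommGroup F] [Module A F]
    [AddCommGroup M] [Module A M]
    [Module.Free A N] [Module.Free A F] (hN : Module.finrank A N = 1)
    (hF : Module.finrank A F = 2)
    (g : N →ₗ[A] F) (q : F →ₗ[A] M) (hq : Function.Surjective q)
    (hgq : LinearMap.range g = LinearMap.ker q)
    (x : A) (hdim : ringKrullDim A = 3)
    (h0 : ∀ P : PrimeSpectrum A, x ∈ P.asIdeal → P.asIdeal ≠ maximalIdeal A →
      Module.Free (Localization.AtPrime P.asIdeal) (LocalizedModule P.asIdeal.primeCompl M))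
    (hm : ¬ Module.Free A M) :
    ∃ Q : PrimeSpectrum A, x ∉ Q.asIdeal ∧
      ¬ Module.Free (Localization.AtPrime Q.asIdeal) (LocalizedModule Q.asIdeal.primeCompl M) := by
  classical
  haveI : Module.Finite A F := Module.finite_of_finrank_pos (by rw [hF]; norm_num)
  haveI : Module.Finite A N := Module.finite_of_finrank_pos (by rw [hN]; norm_num)
  let bN : Module.Basis (Fin 1) A N := Module.finBasisOfFinrankEq A N hN
  let bF : Module.Basis (Fin 2) A F := Module.finBasisOfFinrankEq A F hF
  set e := bN 0 with he
  set w := g e with hw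
  have hker : LinearMap.ker q = Submodule.span A {w} := by
    rw [← hgq, LinearMap.range_eq_map, ← bN.span_eq, Submodule.map_span]
    congr 1
    ext y
    simp only [Set.mem_image, Set.mem_range, Set.mem_singleton_iff]
    constructor
    · rintro ⟨_, ⟨i, rfl⟩, rfl⟩
      rw [Subsingleton.elim i 0]
    · rintro rfl
      exact ⟨e, ⟨0, rfl⟩, rfl⟩
  set a := bF.repr w 0 with ha
  set b := bF.repr w 1 with hb
  have hwab : w = a • bF 0 + b • bF 1 := by
    rw [← bF.sum_repr w, Fin.sum_univ_two]
  -- main localization lemma
  have hloc : ∀ (P : Ideal A) [P.IsPrime], a ∈ P → b ∈ P →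
      Module.Free (Localization.AtPrime P) (LocalizedModule P.primeCompl M) → w = 0 := by
    intro P hP haP hbP hfree
    haveI := hfree
    have h1 := loc_zero_of_projective P q hq w hker a b (bF 0) (bF 1) hwab haP hbP
    rw [← LocalizedModule.zero_mk (1 : P.primeCompl), LocalizedModule.mk_eq] at h1
    obtain ⟨u, hu⟩ := h1
    rw [smul_zero, smul_zero, one_smul, Submonoid.smul_def] at hu
    have hu0 : (u : A) ≠ 0 := by
      intro h
      exact u.2 (h ▸ P.zero_mem)
    exact (smul_eq_zero.mp hu).resolve_left hu0
  -- w ≠ 0
  have hw0 : w ≠ 0 := by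
    intro h
    apply hm
    have hk : LinearMap.ker q = ⊥ := by rw [hker, h]; simp
    exact Module.Free.of_equiv (LinearEquiv.ofBijective q ⟨LinearMap.ker_eq_bot.mp hk, hq⟩)
  -- a, b ∈ m
  have hab : a ∈ maximalIdeal A ∧ b ∈ maximalIdeal A := by
    by_contra hnot
    apply hm
    have hunit : IsUnit a ∨ IsUnit b := by
      by_contra h
      push Not at h
      exact hnot ⟨(mem_maximalIdeal _).mpr h.1, (mem_maximalIdeal _).mpr h.2⟩
    let c : F →ₗ[A] A := b • bF.coord 0 - a • bF.coord 1
    have hc : ∀ y, c y = b * bF.repr y 0 - a * bF.repr y 1 := by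
      intro y
      simp [c]
    have hc0 : c (bF 0) = b := by rw [hc]; simp
    have hc1 : c (bF 1) = -a := by rw [hc]; simp
    have hcw : c w = 0 := by rw [hc]; ring
    have hcs : Function.Surjective c := by
      intro r
      rcases hunit with h | h
      · obtain ⟨a', ha'⟩ := h.exists_left_inv
        refine ⟨(-(r * a')) • bF 1, ?_⟩
        rw [map_smul, hc1, smul_eq_mul]
        linear_combination r * ha'
      · obtain ⟨b', hb'⟩ := h.exists_left_inv
        refine ⟨(r * b') • bF 0, ?_⟩
        rw [map_smul, hc0, smul_eq_mul]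
        linear_combination r * hb'
    have hck : LinearMap.ker c = Submodule.span A {w} := by
      apply le_antisymm
      · intro y hy
        have hy' : b * bF.repr y 0 - a * bF.repr y 1 = 0 := by
          rw [← hc]; exact hy
        rw [Submodule.mem_span_singleton]
        rcases hunit with h | h
        · obtain ⟨a', ha'⟩ := h.exists_left_inv
          refine ⟨a' * bF.repr y 0, ?_⟩
          apply bF.ext_elem
          intro i
          fin_cases i
          · simp only [map_smul, Finsupp.smul_apply, smul_eq_mul, Fin.zero_eta]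
            rw [← ha]
            linear_combination (bF.repr y 0) * ha'
          · simp only [map_smul, Finsupp.smul_apply, smul_eq_mul, Fin.mk_one]
            rw [← hb]
            linear_combination a' * hy' + (bF.repr y 1) * ha'
        · obtain ⟨b', hb'⟩ := h.exists_left_inv
          refine ⟨b' * bF.repr y 1, ?_⟩
          apply bF.ext_elem
          intro i
          fin_cases i
          · simp only [map_smul, Finsupp.smul_apply, smul_eq_mul, Fin.zero_eta]
            rw [← ha]
            linear_combination (-b') * hy' + (bF.repr y 0) * hb'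
          · simp only [map_smul, Finsupp.smul_apply, smul_eq_mul, Fin.mk_one]
            rw [← hb]
            linear_combination (bF.repr y 1) * hb'
      · rw [Submodule.span_singleton_le_iff_mem]; exact hcw
    have e1 : M ≃ₗ[A] A := (q.quotKerEquivOfSurjective hq).symm ≪≫ₗ
      (Submodule.quotEquivOfEq _ _ (hker.trans hck.symm)) ≪≫ₗ (c.quotKerEquivOfSurjective hcs)
    exact Module.Free.of_equiv e1.symm
  set I : Ideal A := Ideal.span {a, b} with hI
  have hIm : I ≤ maximalIdeal A := by
    rw [hI, Ideal.span_le]
    intro z hz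
    rcases hz with rfl | rfl
    exacts [hab.1, hab.2]
  obtain ⟨Q, hQmin, hQle⟩ := Ideal.exists_minimalPrimes_le hIm
  haveI hQp : Q.IsPrime := hQmin.1.1
  have hIQ : I ≤ Q := hQmin.1.2
  have haQ : a ∈ Q := hIQ (Ideal.subset_span (by simp))
  have hbQ : b ∈ Q := hIQ (Ideal.subset_span (by simp))
  have hnfQ : ¬ Module.Free (Localization.AtPrime Q) (LocalizedModule Q.primeCompl M) :=
    fun h => hw0 (hloc Q haQ hbQ h)
  refine ⟨⟨Q, hQp⟩, ?_, hnfQ⟩
  intro hxQ
  have hQm : Q = maximalIdeal A := by
    by_contra hne
    exact hnfQ (h0 ⟨Q, hQp⟩ hxQ hne)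
  have hht : Q.height ≤ 2 := by
    have h1 := Ideal.height_le_card_of_mem_minimalPrimes_span (s := {a, b}) (Set.toFinite _) hQmin
    refine h1.trans ?_
    have h2 : ({a, b} : Set A).ncard ≤ 2 := by
      refine (Set.ncard_insert_le a {b}).trans ?_
      simp
    exact_mod_cast h2
  rw [hQm] at hht
  have h3 : ((maximalIdeal A).height : WithBot ℕ∞) = 3 := by
    rw [IsLocalRing.maximalIdeal_height_eq_ringKrullDim, hdim]
  have h4 : ((maximalIdeal A).height : WithBot ℕ∞) ≤ ((2 : ℕ∞) : WithBot ℕ∞) :=
    WithBot.coe_le_coe.mpr hht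
  rw [h3] at h4
  have h5 : ((3 : ℕ∞) : WithBot ℕ∞) ≤ ((2 : ℕ∞) : WithBot ℕ∞) := h4
  rw [WithBot.coe_le_coe] at h5
  exact absurd h5 (by decide)

end aux

/-- Let V be a discrete valuation ring with uniformizer u and V → R → A commutative V-algebras with A an
R-algebra compatibly; assume A is a Noetherian local domain of Krull dimension 3 with u in its
maximal ideal, that Ω_{A/V} is a free A-module of rank 2 and that A ⊗_R Ω_{R/V} is a free A-module
of rank 1. Suppose that on the special fibre Ω_{A/R} is locally free exactly away from the closed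
point: for every prime P of A containing u other than the maximal ideal the localization (Ω_{A/R})_P
is free over A_P, while Ω_{A/R} is not free over A. Then Ω_{A/R} is not locally free on the generic
fibre: there is a prime Q of A not containing u with (Ω_{A/R})_Q not free over A_Q. (In the
published statement R is a regular local ring of dimension 2 and A a local ring of dimension 3, both
smooth over V, which yields the two freeness hypotheses used here, and the hypothesis is phrased as
local freeness of Ω of the special fibre of A over that of R away from the closed point.) -/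
theorem result
    (V R A : Type u) [CommRing V] [IsDomain V] [IsDiscreteValuationRing V] [CommRing R] [CommRing A]
    [IsDomain A] [IsNoetherianRing A] [IsLocalRing A]
    [Algebra V R] [Algebra V A] [Algebra R A] [IsScalarTower V R A]
    (u : V) (hu : Irreducible u) (huA : algebraMap V A u ∈ IsLocalRing.maximalIdeal A)
    (hdimA : ringKrullDim A = 3)
    (hΩA : Module.Free A (Ω[A⁄V])) (hrkA : Module.finrank A (Ω[A⁄V]) = 2)
    (hΩR : Module.Free A (A ⊗[R] Ω[R⁄V])) (hrkR : Module.finrank A (A ⊗[R] Ω[R⁄V]) = 1)
    (h0 : ∀ P : PrimeSpectrum A, algebraMap V A u ∈ P.asIdeal → P.asIdeal ≠ IsLocalRing.maximalIdeal A →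
      Module.Free (Localization.AtPrime P.asIdeal) (LocalizedModule P.asIdeal.primeCompl (Ω[A⁄R])))
    (hm : ¬ Module.Free A (Ω[A⁄R])) :
    ∃ Q : PrimeSpectrum A, algebraMap V A u ∉ Q.asIdeal ∧
      ¬ Module.Free (Localization.AtPrime Q.asIdeal) (LocalizedModule Q.asIdeal.primeCompl (Ω[A⁄R])) := by
  exact key (A ⊗[R] Ω[R⁄V]) (Ω[A⁄V]) (Ω[A⁄R]) hrkR hrkA
    (KaehlerDifferential.mapBaseChange V R A) (KaehlerDifferential.map V R A A)
    (KaehlerDifferential.map_surjective V R A) (KaehlerDifferential.range_mapBaseChange V R A)
    (algebraMap V A u) hdimA h0 hm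

end Groth.Agent.S15100
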