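import Groth.Statements.S15115
import Groth.Agent.Lib.Helper22.Reynolds

set_option autoImplicit false
universe u
open HopfRep

namespace Groth.Agent.S15115

open TensorProduct in
/-- Let k be an algebraically closed field, H a finite-dimensional commutative Hopf algebra over k all
of whose finite-dimensional comodules are semisimple (a finite linearly reductive group scheme G
over k), A a commutative k-algebra, and M an A-module with an H-coaction that is A-linear (G acts on
M by A-module maps, A carrying the trivial action). Let A' be a commutative A-algebra and N = A' ⊗_A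
M its base change, exhibited by an A-linear map φ : M → N, with the induced coaction: A'-linear and
compatible with φ. Then invariants commute with this base change: writing M^G for the A-submodule of
coinvariant elements of M, the natural map A' ⊗_A M^G → N, a' ⊗ m ↦ a' φ(m), is injective and its
image is exactly the set of coinvariant elements of N. (The published statement is the isomorphism
ρ^* π_* F → π'_* σ^* F for a tame Deligne–Mumford stack with coarse moduli space π and any base
change ρ of the coarse space; this row is the statement about invariants to which its proof reduces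
it, for modules that need not be finitely generated.) -/
theorem result (k : Type u) [Field k] [IsAlgClosed k]
    (H : Type u) [CommRing H] [HopfAlgebra k H] [Module.Finite k H] (hred : HopfRep.IsLinearlyReductive k H)
    (A : Type u) [CommRing A] [Algebra k A]
    (M : Type u) [AddCommGroup M] [Module k M] [Module A M] [IsScalarTower k A M] [HopfRep.Comod k H M]
    (hlin : ∀ (a : A) (m : M), HopfRep.Comod.coact (k := k) (A := H) (a • m) = a • HopfRep.Comod.coact (k := k) (A := H) m)
    (A' : Type u) [CommRing A'] [Algebra k A'] [Algebra A A'] [IsScalarTower k A A']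
    (N : Type u) [AddCommGroup N] [Module k N] [Module A N] [Module A' N]
    [IsScalarTower k A N] [IsScalarTower A A' N] [IsScalarTower k A' N] [HopfRep.Comod k H N]
    (φ : M →ₗ[A] N) (hφ : IsBaseChange A' φ)
    (hcomp : ∀ m : M, HopfRep.Comod.coact (k := k) (A := H) (φ m) =
      LinearMap.rTensor H (φ.restrictScalars k) (HopfRep.Comod.coact (k := k) (A := H) m))
    (hlinN : ∀ (a' : A') (n : N), HopfRep.Comod.coact (k := k) (A := H) (a' • n) = a' • HopfRep.Comod.coact (k := k) (A := H) n)
    (P : Submodule A M) (hP : (P : Set M) = (HopfRep.fixedPts k H M : Set M)) :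
    Function.Injective (TensorProduct.lift (((Algebra.lsmul A A N : A' →ₐ[A] Module.End A N).toLinearMap).compl₂ (φ ∘ₗ P.subtype))) ∧
      Set.range (TensorProduct.lift (((Algebra.lsmul A A N : A' →ₐ[A] Module.End A N).toLinearMap).compl₂ (φ ∘ₗ P.subtype))) =
        (HopfRep.fixedPts k H N : Set N) := by
  classical
  have hssM : HopfRep.IsSemisimpleComod k H M :=
    Groth.Agent.Lib.helper22.isSemisimpleComod_of_isLinearlyReductive hred M
  have hssN : HopfRep.IsSemisimpleComod k H N :=
    Groth.Agent.Lib.helper22.isSemisimpleComod_of_isLinearlyReductive hred N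
  obtain ⟨EM, hEM⟩ := Groth.Agent.Lib.helper22.exists_isReynolds (k := k) (A := H) (V := M) hssM
  obtain ⟨EN, hEN⟩ := Groth.Agent.Lib.helper22.exists_isReynolds (k := k) (A := H) (V := N) hssN
  -- scalar multiplications are comodule maps
  have hμM : ∀ a : A, Hoch.IsComodHom H ((LinearMap.lsmul A M a).restrictScalars k) := by
    intro a
    apply LinearMap.ext
    intro m
    simp only [LinearMap.comp_apply, LinearMap.coe_restrictScalars, LinearMap.lsmul_apply]
    rw [hlin]
    generalize HopfRep.Comod.coact (k := k) (A := H) m = t
    induction t using TensorProduct.induction_on with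
    | zero => simp
    | tmul b h => simp [TensorProduct.smul_tmul']
    | add t₁ t₂ h₁ h₂ => simp only [map_add, smul_add, h₁, h₂]
  have hμN : ∀ a : A', Hoch.IsComodHom H ((LinearMap.lsmul A' N a).restrictScalars k) := by
    intro a
    apply LinearMap.ext
    intro m
    simp only [LinearMap.comp_apply, LinearMap.coe_restrictScalars, LinearMap.lsmul_apply]
    rw [hlinN]
    generalize HopfRep.Comod.coact (k := k) (A := H) m = t
    induction t using TensorProduct.induction_on with
    | zero => simp
    | tmul b h => simp [TensorProduct.smul_tmul']
    | add t₁ t₂ h₁ h₂ => simp only [map_add, smul_add, h₁, h₂]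
  have hφc : Hoch.IsComodHom H (φ.restrictScalars k) := by
    apply LinearMap.ext
    intro m
    simp only [LinearMap.comp_apply, LinearMap.coe_restrictScalars]
    exact hcomp m
  have hEMs : ∀ (a : A) (m : M), EM (a • m) = a • EM m := fun a m => by
    have := Groth.Agent.Lib.helper22.IsReynolds.natural hssM hEM hEM _ (hμM a) m
    simpa using this
  have hENs : ∀ (a : A') (n : N), EN (a • n) = a • EN n := fun a n => by
    have := Groth.Agent.Lib.helper22.IsReynolds.natural hssN hEN hEN _ (hμN a) n
    simpa using this
  have hENφ : ∀ m : M, EN (φ m) = φ (EM m) := fun m => by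
    have := Groth.Agent.Lib.helper22.IsReynolds.natural hssM hEM hEN _ hφc m
    simpa using this
  -- the A-linear retraction onto P
  let EA : M →ₗ[A] M := { toFun := EM, map_add' := map_add EM, map_smul' := hEMs }
  have hEAP : ∀ m, EA m ∈ P := fun m => by
    rw [← SetLike.mem_coe, hP]; exact hEM.mem_fixedPts m
  let r : M →ₗ[A] P := LinearMap.codRestrict P EA hEAP
  have hr : r ∘ₗ P.subtype = LinearMap.id := by
    apply LinearMap.ext
    intro p
    apply Subtype.ext
    have hp : (p : M) ∈ HopfRep.fixedPts k H M := by
      rw [← SetLike.mem_coe, ← hP]; exact p.2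
    exact (hEM.fix _).mpr hp
  obtain ⟨Φ, hΦ⟩ : ∃ Φ, Φ = TensorProduct.lift (((Algebra.lsmul A A N : A' →ₐ[A] Module.End A N).toLinearMap).compl₂ (φ ∘ₗ P.subtype)) := ⟨_, rfl⟩
  rw [← hΦ]
  have hΦfac : Φ = (hφ.equiv.toLinearMap.restrictScalars A) ∘ₗ (LinearMap.lTensor A' P.subtype) := by
    rw [hΦ]
    apply TensorProduct.ext'
    intro a' p
    simp [IsBaseChange.equiv_tmul]
  have hkey : ∀ t : A' ⊗[A] M, Φ (LinearMap.lTensor A' r t) = EN (hφ.equiv t) := by
    intro t
    induction t using TensorProduct.induction_on with
    | zero => simp
    | tmul a' m =>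
      rw [hΦfac]
      simp only [LinearMap.comp_apply, LinearMap.lTensor_tmul, LinearMap.coe_restrictScalars,
        LinearEquiv.coe_coe, IsBaseChange.equiv_tmul, Submodule.subtype_apply]
      rw [hENs, hENφ]
      rfl
    | add t₁ t₂ h₁ h₂ => simp only [map_add, h₁, h₂]
  constructor
  · rw [hΦfac]
    have hinj : Function.Injective (LinearMap.lTensor A' P.subtype) := by
      apply Function.LeftInverse.injective (g := LinearMap.lTensor A' r)
      intro t
      rw [← LinearMap.comp_apply, ← LinearMap.lTensor_comp, hr, LinearMap.lTensor_id,
        LinearMap.id_apply]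
    intro x y hxy
    apply hinj
    apply hφ.equiv.injective
    simpa using hxy
  · apply Set.eq_of_subset_of_subset
    · rintro _ ⟨t, rfl⟩
      induction t using TensorProduct.induction_on with
      | zero => simp
      | tmul a' p =>
        have hp : (p : M) ∈ HopfRep.fixedPts k H M := by
          rw [← SetLike.mem_coe, ← hP]; exact p.2
        have h1 : φ p ∈ HopfRep.fixedPts k H N :=
          Groth.Agent.Lib.helper22.map_mem_fixedPts _ hφc _ hp
        have h2 := Groth.Agent.Lib.helper22.map_mem_fixedPts _ (hμN a') _ h1
        rw [hΦ]
        simpa using h2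
      | add t₁ t₂ h₁ h₂ =>
        rw [map_add]
        exact (HopfRep.fixedPts k H N).add_mem h₁ h₂
    · intro n hn
      refine ⟨LinearMap.lTensor A' r (hφ.equiv.symm n), ?_⟩
      rw [hkey, LinearEquiv.apply_symm_apply]
      exact (hEN.fix n).mpr hn

end Groth.Agent.S15115
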