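import Groth.Statements.S15116
import Mathlib

set_option autoImplicit false
universe u v
open NRGIT

namespace Groth.Agent.S15116

section aux

variable {k : Type u} [Field k] {A : Type v} [CommRing A] [Algebra k A]
  (𝒜 : ℤ → Submodule k A) [GradedAlgebra 𝒜]

/-- Degree-zero component of `a * g` for homogeneous `g` of degree `j`. -/
lemma proj_zero_mul_of_mem (a g : A) (j : ℤ) (hg : g ∈ 𝒜 j) :
    (DirectSum.decompose 𝒜 (a * g) 0 : A) = (DirectSum.decompose 𝒜 a (-j) : A) * g := by
  have := DirectSum.coe_decompose_mul_add_of_right_mem 𝒜 (i := -j) (j := j) (a := a) hg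
  rwa [neg_add_cancel] at this

end aux

/-- Let k be a characteristic-zero field and A a commutative k-algebra, graded by the integers with all
pieces of positive degree zero, and D a k-derivation of A that raises degrees by a fixed positive
integer l. If no maximal ideal of A contains both every piece of negative degree and the image of D,
then there is f with D f = 1. (The published statement is for an affine variety with an action of
the semidirect product of the additive and multiplicative groups, the multiplicative group acting on
the coordinate ring with non-positive weights and on the Lie algebra of the additive group with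
positive weight: the derivation is a generator of that Lie algebra, the maximal ideals containing
the pieces of negative degree are the limit points under the multiplicative group, and a limit point
has trivial additive stabiliser exactly when the image of D is not contained in its ideal; this row
keeps only this algebraic content, for any such graded algebra. The first assertion of the published
lemma, that every point has a limit in the variety under the multiplicative group as t → 0, is not
part of this row.) -/
theorem result (k : Type u) [Field k] [CharZero k]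
    (A : Type v) [CommRing A] [Algebra k A] (𝒜 : ℤ → Submodule k A) [GradedAlgebra 𝒜]
    (hpos : ∀ i : ℤ, 0 < i → 𝒜 i = ⊥)
    (D : Derivation k A A) (l : ℤ) (hl : 0 < l)
    (hD : ∀ (i : ℤ) (a : A), a ∈ 𝒜 i → D a ∈ 𝒜 (i + l))
    (hfree : ∀ m : Ideal A, m.IsMaximal → (∀ i : ℤ, i < 0 → (𝒜 i : Set A) ⊆ m) → ∃ a : A, D a ∉ m) :
    ∃ f : A, D f = 1 := by
  classical
  -- elements of positive degree vanish
  have hzero : ∀ (i : ℤ) (a : A), 0 < i → a ∈ 𝒜 i → a = 0 := by
    intro i a hi ha
    rw [hpos i hi] at ha
    exact (Submodule.mem_bot k).1 ha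
  set J : Ideal A := Ideal.span ((⋃ i : {i : ℤ // i < 0}, (𝒜 i : Set A)) ∪ Set.range D) with hJ
  have hJtop : J = ⊤ := by
    by_contra hne
    obtain ⟨m, hm, hle⟩ := Ideal.exists_le_maximal J hne
    obtain ⟨a, ha⟩ := hfree m hm (by
      intro i hi x hx
      apply hle
      apply Ideal.subset_span
      left
      exact Set.mem_iUnion.2 ⟨⟨i, hi⟩, hx⟩)
    apply ha
    apply hle
    apply Ideal.subset_span
    right
    exact ⟨a, rfl⟩
  -- the key property
  have hhom : ∀ (a : A) (e : ℤ) (c : A), c ∈ 𝒜 e →
      ∃ f, D f = (DirectSum.decompose 𝒜 (a * D c) 0 : A) := by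
    intro a e c hc
    have hDc := hD e c hc
    rw [proj_zero_mul_of_mem 𝒜 a (D c) (e + l) hDc]
    rcases lt_trichotomy (e + l) 0 with h | h | h
    · refine ⟨0, ?_⟩
      have : (DirectSum.decompose 𝒜 a (-(e + l)) : A) = 0 :=
        hzero (-(e + l)) _ (by omega) (Submodule.coe_mem _)
      rw [this, zero_mul, map_zero]
    · refine ⟨(DirectSum.decompose 𝒜 a (-(e + l)) : A) * c, ?_⟩
      have hD0 : D (DirectSum.decompose 𝒜 a (-(e + l)) : A) = 0 := by
        apply hzero (-(e + l) + l) _ (by omega)
        exact hD _ _ (Submodule.coe_mem _)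
      rw [Derivation.leibniz, hD0, smul_zero, add_zero, smul_eq_mul]
    · refine ⟨0, ?_⟩
      have : D c = 0 := hzero (e + l) _ h hDc
      rw [this, mul_zero, map_zero]
  have hD' : ∀ (a c : A), ∃ f, D f = (DirectSum.decompose 𝒜 (a * D c) 0 : A) := by
    intro a c
    induction c using DirectSum.Decomposition.inductionOn 𝒜 with
    | zero => exact ⟨0, by simp⟩
    | homogeneous m => exact hhom a _ m m.2
    | add x y hx hy =>
      obtain ⟨f1, h1⟩ := hx
      obtain ⟨f2, h2⟩ := hy
      refine ⟨f1 + f2, ?_⟩
      rw [map_add, map_add, mul_add, DirectSum.decompose_add, DirectSum.add_apply,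
        Submodule.coe_add, h1, h2]
  have key : ∀ x ∈ J, ∀ a : A, ∃ f, D f = (DirectSum.decompose 𝒜 (a * x) 0 : A) := by
    intro x hx
    induction hx using Submodule.span_induction with
    | mem g hg =>
      intro a
      rcases hg with hg | hg
      · obtain ⟨⟨i, hi⟩, hgi⟩ := Set.mem_iUnion.1 hg
        refine ⟨0, ?_⟩
        rw [proj_zero_mul_of_mem 𝒜 a g i hgi]
        have : (DirectSum.decompose 𝒜 a (-i) : A) = 0 :=
          hzero (-i) _ (by omega) (Submodule.coe_mem _)
        rw [this, zero_mul, map_zero]
      · obtain ⟨c, rfl⟩ := hg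
        exact hD' a c
    | zero => intro a; exact ⟨0, by simp⟩
    | add x y _ _ hx hy =>
      intro a
      obtain ⟨f1, h1⟩ := hx a
      obtain ⟨f2, h2⟩ := hy a
      refine ⟨f1 + f2, ?_⟩
      rw [map_add, mul_add, DirectSum.decompose_add, DirectSum.add_apply, Submodule.coe_add, h1, h2]
    | smul b x _ hx =>
      intro a
      obtain ⟨f, hf⟩ := hx (a * b)
      refine ⟨f, ?_⟩
      rw [hf, smul_eq_mul, mul_assoc]
  obtain ⟨f, hf⟩ := key 1 (by rw [hJtop]; trivial) 1
  refine ⟨f, ?_⟩
  rw [hf, mul_one]
  exact DirectSum.decompose_of_mem_same 𝒜 (SetLike.GradedOne.one_mem)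

end Groth.Agent.S15116
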