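import Groth.Statements.S15117
import Mathlib

set_option autoImplicit false
universe u v w
open TensorProduct
open NRGIT

namespace Groth.Agent.S15117

/-- Let k be a field, π : A → B a map of commutative bialgebras over k, W a right A-comodule and V ⊆ W a
subcomodule all of whose elements are coinvariant for the B-coaction induced through π. Then the
coaction of every v ∈ V lies in V ⊗ A' ⊆ W ⊗ A, where A' ⊆ A is the set of elements a with (π ⊗
id)(Δ a) = 1 ⊗ a, i.e. coinvariant for the coaction of B on A through π on the left factor; the row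
states membership in the span of the pure tensors w ⊗ a with w ∈ V and a ∈ A'. (The published
statement is for a linear algebraic group H over an algebraically closed field of characteristic
zero, a normal subgroup N and an H-stable space V of N-invariant sections of a linearised line
bundle, with the coaction landing in O(H)^N ⊗ V, where O(H)^N is the ring of functions on H
invariant under N acting by right multiplication; this row is the comodule form, for any bialgebra
map over a field, where normality of N is not needed.) -/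
theorem result (k : Type u) [Field k]
    (A B : Type v) [CommRing A] [CommRing B] [Bialgebra k A] [Bialgebra k B] (π : A →ₐc[k] B)
    (W : Type w) [AddCommGroup W] [Module k W] [HopfRep.Comod k A W]
    (V : Submodule k W) (hV : HopfRep.IsSubcomod (k := k) (A := A) V)
    (hfix : ∀ v ∈ V, (π.toLinearMap.lTensor W) (HopfRep.Comod.coact (k := k) (A := A) v) = v ⊗ₜ[k] (1 : B))
    (v : W) (hv : v ∈ V) :
    HopfRep.Comod.coact (k := k) (A := A) v ∈
      Submodule.span k {x : W ⊗[k] A | ∃ w ∈ V, ∃ a : A,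
        (π.toLinearMap.rTensor A) (Coalgebra.comul (R := k) a) = (1 : B) ⊗ₜ[k] a ∧ x = w ⊗ₜ[k] a} := by
  classical
  -- notation
  set ρ : W →ₗ[k] W ⊗[k] A := HopfRep.Comod.coact (k := k) (A := A) with hρ
  set Δ : A →ₗ[k] A ⊗[k] A := Coalgebra.comul (R := k) with hΔ
  -- the defect map
  let Ψ : A →ₗ[k] B ⊗[k] A := (TensorProduct.mk k B A 1) - (π.toLinearMap.rTensor A) ∘ₗ Δ
  have hΨ : ∀ a, Ψ a = 0 → (π.toLinearMap.rTensor A) (Coalgebra.comul (R := k) a) = (1 : B) ⊗ₜ[k] a := by
    intro a ha
    have : (1 : B) ⊗ₜ[k] a - (π.toLinearMap.rTensor A) (Δ a) = 0 := ha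
    exact (sub_eq_zero.1 this).symm
  -- the two routes
  let T₁ : W ⊗[k] A →ₗ[k] W ⊗[k] (B ⊗[k] A) :=
    (TensorProduct.assoc k W B A).toLinearMap ∘ₗ ((π.toLinearMap.lTensor W) ∘ₗ ρ).rTensor A
  let T₂ : W ⊗[k] A →ₗ[k] W ⊗[k] (B ⊗[k] A) := ((π.toLinearMap.rTensor A) ∘ₗ Δ).lTensor W
  let T₀ : W ⊗[k] A →ₗ[k] W ⊗[k] (B ⊗[k] A) := (TensorProduct.mk k B A 1).lTensor W
  have hT12 : T₁ ∘ₗ ρ = T₂ ∘ₗ ρ := by
    have hco := HopfRep.Comod.coassoc (k := k) (A := A) (V := W)
    have hnat : (TensorProduct.assoc k W B A).toLinearMap ∘ₗ (π.toLinearMap.lTensor W).rTensor A =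
        ((π.toLinearMap.rTensor A).lTensor W) ∘ₗ (TensorProduct.assoc k W A A).toLinearMap := by
      ext w a a'
      simp
    calc T₁ ∘ₗ ρ = ((TensorProduct.assoc k W B A).toLinearMap ∘ₗ
          (π.toLinearMap.lTensor W).rTensor A) ∘ₗ (ρ.rTensor A ∘ₗ ρ) := by
          simp only [T₁, LinearMap.rTensor_comp, LinearMap.comp_assoc]
      _ = ((π.toLinearMap.rTensor A).lTensor W) ∘ₗ
          ((TensorProduct.assoc k W A A).toLinearMap ∘ₗ ρ.rTensor A ∘ₗ ρ) := by
          rw [hnat, LinearMap.comp_assoc]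
      _ = ((π.toLinearMap.rTensor A).lTensor W) ∘ₗ (Δ.lTensor W ∘ₗ ρ) := by rw [hco]
      _ = T₂ ∘ₗ ρ := by
          simp only [T₂, LinearMap.lTensor_comp, LinearMap.comp_assoc]
  have hT10 : T₁ ∘ₗ (V.subtype.rTensor A) = T₀ ∘ₗ (V.subtype.rTensor A) := by
    ext w a
    have := hfix w.1 w.2
    simp only [T₁, T₀, LinearMap.coe_comp, Function.comp_apply, TensorProduct.AlgebraTensorModule.curry_apply,
      TensorProduct.curry_apply, LinearMap.coe_restrictScalars, LinearMap.rTensor_tmul,
      Submodule.subtype_apply, LinearEquiv.coe_coe, LinearMap.lTensor_tmul, TensorProduct.mk_apply]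
    rw [this]
    simp
  -- pull back to V ⊗ A
  obtain ⟨y, hy⟩ := hV v hv
  have hker : (Ψ.lTensor V) y = 0 := by
    have hinj : Function.Injective (V.subtype.rTensor (B ⊗[k] A)) :=
      Module.Flat.rTensor_preserves_injective_linearMap _ (Submodule.injective_subtype V)
    apply hinj
    rw [map_zero]
    have hcomm : (V.subtype.rTensor (B ⊗[k] A)) ((Ψ.lTensor V) y) =
        (Ψ.lTensor W) ((V.subtype.rTensor A) y) := by
      rw [← LinearMap.comp_apply, ← LinearMap.comp_apply, LinearMap.rTensor_comp_lTensor,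
        LinearMap.lTensor_comp_rTensor]
    rw [hcomm]
    have hΨW : Ψ.lTensor W = T₀ - T₂ := by
      simp only [Ψ, T₀, T₂]
      ext w a
      simp
    rw [hΨW, LinearMap.sub_apply]
    have h1 : T₀ ((V.subtype.rTensor A) y) = T₁ ((V.subtype.rTensor A) y) := by
      rw [← LinearMap.comp_apply, ← hT10, LinearMap.comp_apply]
    rw [h1, hy]
    have h2 : T₁ (ρ v) = T₂ (ρ v) := by
      rw [← LinearMap.comp_apply, hT12, LinearMap.comp_apply]
    rw [h2, sub_self]
  -- basis expansion
  let ℬ := Module.Basis.ofVectorSpace k V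
  obtain ⟨c, hc⟩ := TensorProduct.eq_repr_basis_left ℬ y
  have hcΨ : ∀ i, Ψ (c i) = 0 := by
    have hsum : ((c.mapRange Ψ (map_zero Ψ)).sum fun i n => ℬ i ⊗ₜ[k] n) = 0 := by
      rw [Finsupp.sum_mapRange_index (fun i => by simp)]
      have hexp : (LinearMap.lTensor V Ψ) y = c.sum fun i n => ℬ i ⊗ₜ[k] Ψ n := by
        rw [← hc]
        simp [Finsupp.sum, map_sum]
      rw [← hexp, hker]
    have := TensorProduct.sum_tmul_basis_left_eq_zero ℬ _ hsum
    intro i
    have hi := DFunLike.congr_fun this i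
    simpa using hi
  rw [← hy, ← hc, Finsupp.sum, map_sum]
  refine Submodule.sum_mem _ (fun i _ => Submodule.subset_span ?_)
  refine ⟨(ℬ i : W), (ℬ i).2, c i, hΨ _ (hcΨ i), ?_⟩
  simp

end Groth.Agent.S15117
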