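import Groth.Statements.S15121
-- import your own Groth.Agent.* helpers here

set_option autoImplicit false
universe u v w
open InvQ

namespace Groth.Agent.S15121

/-- Let k be a field of characteristic zero and A a commutative k-algebra graded by a finitely generated
free abelian group Λ (the character group of a torus acting on Spec A) whose grading monoid is
positive: if the pieces of degrees w and −w are both non-zero then w = 0. Let δ be a locally
nilpotent k-derivation of A (an action of the additive group) that is homogeneous of degree d, with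
the piece of degree d equal to zero (the graded condition on the Lie algebra weight). Suppose that
no maximal ideal of A contains both all graded pieces of non-zero degree and the image of δ (every
torus-fixed closed point has trivial stabiliser under the additive group). Then δ has a homogeneous
slice: some s of degree −d with δ s = 1. (The published statement is for the coordinate ring of an
affine variety over an algebraically closed field of characteristic zero and concludes moreover that
the quotient map by the additive group is a trivial principal bundle, which follows from the slice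
by a standard argument not restated here; this row keeps the algebraic content, for any such graded
algebra.) -/
theorem result
    (k : Type u) [Field k] [CharZero k]
    (A : Type v) [CommRing A] [Algebra k A]
    (Λ : Type w) [AddCommGroup Λ] [DecidableEq Λ] [Module.Free ℤ Λ] [Module.Finite ℤ Λ]
    (𝒜 : Λ → Submodule k A) [GradedAlgebra 𝒜]
    (hpos : ∀ w : Λ, 𝒜 w ≠ ⊥ → 𝒜 (-w) ≠ ⊥ → w = 0)
    (δ : Derivation k A A) (hnil : ∀ a : A, ∃ n : ℕ, ((δ : A →ₗ[k] A) ^ n) a = 0)
    (d : Λ) (hhom : ∀ (w : Λ) (a : A), a ∈ 𝒜 w → δ a ∈ 𝒜 (w + d)) (hd : 𝒜 d = ⊥)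
    (hfix : ∀ m : Ideal A, m.IsMaximal → (∀ w : Λ, w ≠ 0 → (𝒜 w : Set A) ⊆ m) → ¬ (Set.range δ ⊆ m)) :
    ∃ s ∈ 𝒜 (-d), δ s = 1 := by
  classical
  -- degree-zero component
  have hp0same : ∀ x : A, x ∈ 𝒜 0 → GradedRing.proj 𝒜 0 x = x :=
    fun x hx => by rw [GradedRing.proj_apply]; exact DirectSum.decompose_of_mem_same 𝒜 hx
  have hp0ne : ∀ (x : A) (w : Λ), x ∈ 𝒜 w → w ≠ 0 → GradedRing.proj 𝒜 0 x = 0 :=
    fun x w hx hw => by rw [GradedRing.proj_apply]; exact DirectSum.decompose_of_mem_ne 𝒜 hx hw
  -- positivity: products of opposite nonzero degrees vanish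
  have hposmul : ∀ (w : Λ) (a b : A), w ≠ 0 → a ∈ 𝒜 w → b ∈ 𝒜 (-w) → a = 0 ∨ b = 0 := by
    intro w a b hw ha hb
    by_contra hcon
    push Not at hcon
    apply hw
    apply hpos w
    · intro h
      rw [h, Submodule.mem_bot] at ha
      exact hcon.1 ha
    · intro h
      rw [h, Submodule.mem_bot] at hb
      exact hcon.2 hb
  let T : AddSubgroup A :=
    { carrier := {t | ∃ s ∈ 𝒜 (-d), δ s = GradedRing.proj 𝒜 0 t}
      zero_mem' := ⟨0, Submodule.zero_mem _, by simp⟩
      add_mem' := by
        rintro a b ⟨s₁, hs₁, h₁⟩ ⟨s₂, hs₂, h₂⟩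
        refine ⟨s₁ + s₂, Submodule.add_mem _ hs₁ hs₂, ?_⟩
        rw [map_add, h₁, h₂, map_add]
      neg_mem' := by
        rintro a ⟨s, hs, h⟩
        refine ⟨-s, Submodule.neg_mem _ hs, ?_⟩
        rw [map_neg, h, map_neg] }
  have hTmem : ∀ t, t ∈ T ↔ ∃ s ∈ 𝒜 (-d), δ s = GradedRing.proj 𝒜 0 t := fun t => Iff.rfl
  have hTzero : ∀ t : A, GradedRing.proj 𝒜 0 t = 0 → t ∈ T := by
    intro t ht
    rw [hTmem]
    exact ⟨0, Submodule.zero_mem _, by rw [map_zero, ht]⟩
  -- Claim 1
  have hclaim1 : ∀ r y : A, r * δ y ∈ T := by
    intro r y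
    induction r using DirectSum.Decomposition.inductionOn 𝒜 with
    | zero => rw [zero_mul]; exact T.zero_mem
    | add r₁ r₂ h₁ h₂ => rw [add_mul]; exact T.add_mem h₁ h₂
    | @homogeneous u r =>
      induction y using DirectSum.Decomposition.inductionOn 𝒜 with
      | zero => rw [map_zero, mul_zero]; exact T.zero_mem
      | add y₁ y₂ h₁ h₂ => rw [map_add, mul_add]; exact T.add_mem h₁ h₂
      | @homogeneous v y =>
        have hδy : δ (y : A) ∈ 𝒜 (v + d) := hhom v y y.2
        have hmem : (r : A) * δ (y : A) ∈ 𝒜 (u + (v + d)) := SetLike.GradedMul.mul_mem r.2 hδy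
        by_cases h0 : u + (v + d) = 0
        · by_cases hv : v = 0
          · have : δ (y : A) = 0 := by
              have hvd : v + d = d := by rw [hv, zero_add]
              rw [hvd, hd, Submodule.mem_bot] at hδy
              exact hδy
            rw [this, mul_zero]
            exact T.zero_mem
          · rw [hTmem]
            rw [h0] at hmem
            rw [hp0same _ hmem]
            have huv : u + v = -d := by
              have : u + v + d = 0 := by rw [add_assoc]; exact h0
              exact eq_neg_of_add_eq_zero_left this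
            refine ⟨(r : A) * (y : A), ?_, ?_⟩
            · rw [← huv]
              exact SetLike.GradedMul.mul_mem r.2 y.2
            · rw [Derivation.leibniz, smul_eq_mul, smul_eq_mul]
              have hδr : δ (r : A) ∈ 𝒜 (u + d) := hhom u r r.2
              have hud : u + d = -v := by
                have : u + d + v = 0 := by rw [add_assoc, add_comm d v]; exact h0
                exact eq_neg_of_add_eq_zero_left this
              rw [hud] at hδr
              rcases hposmul v (y : A) (δ (r : A)) hv y.2 hδr with h | h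
              · rw [h, zero_mul, add_zero, map_zero, mul_zero]
              · rw [h, mul_zero, add_zero]
        · exact hTzero _ (hp0ne _ _ hmem h0)
  -- Claim 2
  have hclaim2 : ∀ (r c : A) (w : Λ), w ≠ 0 → c ∈ 𝒜 w → r * c ∈ T := by
    intro r c w hw hc
    induction r using DirectSum.Decomposition.inductionOn 𝒜 with
    | zero => rw [zero_mul]; exact T.zero_mem
    | add r₁ r₂ h₁ h₂ => rw [add_mul]; exact T.add_mem h₁ h₂
    | @homogeneous u r =>
      have hmem : (r : A) * c ∈ 𝒜 (u + w) := SetLike.GradedMul.mul_mem r.2 hc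
      by_cases h0 : u + w = 0
      · have hu : u = -w := eq_neg_of_add_eq_zero_left h0
        have hr : (r : A) ∈ 𝒜 (-w) := hu ▸ r.2
        rcases hposmul w c (r : A) hw hc hr with h | h
        · rw [h, mul_zero]; exact T.zero_mem
        · rw [h, zero_mul]; exact T.zero_mem
      · exact hTzero _ (hp0ne _ _ hmem h0)
  -- the ideal is everything
  let S : Set A := Set.range δ ∪ {c | ∃ w : Λ, w ≠ 0 ∧ c ∈ 𝒜 w}
  have hI : Ideal.span S = ⊤ := by
    by_contra hne
    obtain ⟨m, hm, hle⟩ := Ideal.exists_le_maximal _ hne
    apply hfix m hm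
    · intro w hw c hc
      exact hle (Ideal.subset_span (Or.inr ⟨w, hw, hc⟩))
    · intro x hx
      exact hle (Ideal.subset_span (Or.inl hx))
  have h1 : (1 : A) ∈ Ideal.span S := by rw [hI]; exact Submodule.mem_top
  have h1T : (1 : A) ∈ T := by
    rw [Ideal.span, Submodule.mem_span_set'] at h1
    obtain ⟨N, f, g, hsum⟩ := h1
    rw [← hsum]
    apply T.sum_mem
    intro i _
    rw [smul_eq_mul]
    rcases (g i).2 with ⟨y, hy⟩ | ⟨w, hw, hc⟩
    · rw [← hy]; exact hclaim1 _ _
    · exact hclaim2 _ _ w hw hc
  obtain ⟨s, hs, hδs⟩ := (hTmem 1).mp h1T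
  refine ⟨s, hs, ?_⟩
  rw [hδs, hp0same 1 SetLike.GradedOne.one_mem]

end Groth.Agent.S15121
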