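import Groth.Statements.S15122
import Mathlib

set_option autoImplicit false
universe u v w
open GIT

namespace Groth.Agent.S15122

/-- Let R be a commutative ring, A a commutative R-algebra graded by the natural numbers, σ a
homogeneous element of degree zero, and B the localisation of A away from σ, equipped with a grading
by the natural numbers for which the localisation map ι : A → B is a graded ring homomorphism (such
a grading is necessarily the one induced from A). Then the homogeneous ideal of B generated by the
image of the irrelevant ideal of A is the whole irrelevant ideal of B; in other words the induced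
rational map from Proj B to Proj A is defined everywhere. (The published statement also assumes σ a
non-zero-divisor, which this step does not use, and goes on to conclude that Proj B → Proj A is an
open immersion onto the basic open set of σ.) -/
theorem result
    (R : Type u) (A : Type v) (B : Type w) [CommRing R] [CommRing A] [CommRing B] [Algebra R A] [Algebra R B]
    [Algebra A B] [IsScalarTower R A B]
    (𝒜 : ℕ → Submodule R A) [GradedAlgebra 𝒜] (ℬ : ℕ → Submodule R B) [GradedAlgebra ℬ]
    (σ : A) (hσ0 : σ ∈ 𝒜 0) [IsLocalization.Away σ B]
    (ι : 𝒜 →+*ᵍ ℬ) (hι : ∀ a : A, ι a = algebraMap A B a) :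
    (HomogeneousIdeal.irrelevant 𝒜).map ι = HomogeneousIdeal.irrelevant ℬ := by
  classical
  apply le_antisymm
  · rw [HomogeneousIdeal.map_le_iff_le_comap, HomogeneousIdeal.irrelevant_le]
    intro i hi a ha
    change ι a ∈ HomogeneousIdeal.irrelevant ℬ
    exact HomogeneousIdeal.mem_irrelevant_of_mem ℬ hi (ι.map_mem ha)
  · rw [HomogeneousIdeal.irrelevant_le]
    intro i hi b hb
    change b ∈ ((HomogeneousIdeal.irrelevant 𝒜).map ι).toIdeal
    rw [HomogeneousIdeal.toIdeal_map]
    have hb' : b ∈ ℬ i := hb
    obtain ⟨n, a, ha⟩ := IsLocalization.Away.surj σ b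
    -- `ha : b * algebraMap A B σ ^ n = algebraMap A B a`
    have hσB : algebraMap A B σ ∈ ℬ 0 := by
      rw [← hι]; exact ι.map_mem hσ0
    have hpow : algebraMap A B σ ^ n ∈ ℬ 0 := by
      have := SetLike.pow_mem_graded n hσB
      simpa using this
    have hmem : b * algebraMap A B σ ^ n ∈ ℬ i := by
      have := SetLike.mul_mem_graded hb' hpow
      simpa using this
    have hai : ι (DirectSum.decompose 𝒜 a i) = b * algebraMap A B σ ^ n := by
      rw [GradedRingHom.map_directSumDecompose, hι, ← ha, DirectSum.decompose_of_mem_same ℬ hmem]
    have hu : IsUnit (algebraMap A B σ ^ n) :=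
      (IsLocalization.Away.algebraMap_isUnit σ).pow n
    obtain ⟨u, hu'⟩ := hu
    have hb_eq : b = ι (DirectSum.decompose 𝒜 a i) * ↑u⁻¹ := by
      rw [hai, ← hu', mul_assoc, Units.mul_inv, mul_one]
    rw [hb_eq]
    refine Ideal.mul_mem_right _ _ (Ideal.mem_map_of_mem _ ?_)
    exact HomogeneousIdeal.mem_irrelevant_of_mem 𝒜 hi (SetLike.coe_mem _)

end Groth.Agent.S15122
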