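import Groth.Statements.S15126
import Mathlib

set_option autoImplicit false
universe u
open Formal

namespace Groth.Agent.S15126

noncomputable section

variable (k : Type u) [Field k] (n : ℕ) (R : Type u) [CommRing R]
  [Algebra (MvPowerSeries (Fin n) k) R]

/-- the relations -/
def rel : Set (MvPolynomial (R × (Fin n →₀ ℕ)) k) :=
  {q | (∃ (r s : R) (d : Fin n →₀ ℕ),
          q = MvPolynomial.X (r + s, d) - (MvPolynomial.X (r, d) + MvPolynomial.X (s, d))) ∨
       (∃ (r s : R) (d : Fin n →₀ ℕ),
          q = MvPolynomial.X (r * s, d) -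
            ∑ p ∈ Finset.HasAntidiagonal.antidiagonal d, MvPolynomial.X (r, p.1) * MvPolynomial.X (s, p.2)) ∨
       (∃ (c : MvPowerSeries (Fin n) k) (d : Fin n →₀ ℕ),
          q = MvPolynomial.X (algebraMap (MvPowerSeries (Fin n) k) R c, d) -
            MvPolynomial.C (MvPowerSeries.coeff d c))}

def II : Ideal (MvPolynomial (R × (Fin n →₀ ℕ)) k) := Ideal.span (rel k n R)

abbrev PP : Type u := MvPolynomial (R × (Fin n →₀ ℕ)) k ⧸ II k n R

def gen (r : R) (d : Fin n →₀ ℕ) : PP k n R :=
  Ideal.Quotient.mk (II k n R) (MvPolynomial.X (r, d))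

theorem gen_add (r s : R) (d : Fin n →₀ ℕ) :
    gen k n R (r + s) d = gen k n R r d + gen k n R s d := by
  unfold gen
  rw [← map_add, Ideal.Quotient.eq]
  exact Ideal.subset_span (Or.inl ⟨r, s, d, rfl⟩)

theorem gen_mul (r s : R) (d : Fin n →₀ ℕ) :
    gen k n R (r * s) d = ∑ p ∈ Finset.HasAntidiagonal.antidiagonal d, gen k n R r p.1 * gen k n R s p.2 := by
  unfold gen
  have h : ∑ p ∈ Finset.HasAntidiagonal.antidiagonal d,
      Ideal.Quotient.mk (II k n R) (MvPolynomial.X (r, p.1)) *
        Ideal.Quotient.mk (II k n R) (MvPolynomial.X (s, p.2))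
      = Ideal.Quotient.mk (II k n R)
          (∑ p ∈ Finset.HasAntidiagonal.antidiagonal d, MvPolynomial.X (r, p.1) * MvPolynomial.X (s, p.2)) := by
    rw [map_sum]
    exact Finset.sum_congr rfl (fun p _ => (map_mul _ _ _).symm)
  rw [h, Ideal.Quotient.eq]
  exact Ideal.subset_span (Or.inr (Or.inl ⟨r, s, d, rfl⟩))

theorem gen_alg (c : MvPowerSeries (Fin n) k) (d : Fin n →₀ ℕ) :
    gen k n R (algebraMap (MvPowerSeries (Fin n) k) R c) d
      = algebraMap k (PP k n R) (MvPowerSeries.coeff d c) := by
  unfold gen
  have h : algebraMap k (PP k n R) (MvPowerSeries.coeff d c)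
      = Ideal.Quotient.mk (II k n R) (MvPolynomial.C (MvPowerSeries.coeff d c)) := rfl
  rw [h, Ideal.Quotient.eq]
  exact Ideal.subset_span (Or.inr (Or.inr ⟨c, d, rfl⟩))

def uFun (r : R) : MvPowerSeries (Fin n) (PP k n R) := fun d => gen k n R r d

theorem coeff_uFun (r : R) (d : Fin n →₀ ℕ) :
    MvPowerSeries.coeff d (uFun k n R r) = gen k n R r d := rfl

theorem uFun_alg (c : MvPowerSeries (Fin n) k) :
    uFun k n R (algebraMap (MvPowerSeries (Fin n) k) R c)
      = algebraMap (MvPowerSeries (Fin n) k) (MvPowerSeries (Fin n) (PP k n R)) c := by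
  ext d
  rw [coeff_uFun, gen_alg]
  rfl

def uHom : R →ₐ[MvPowerSeries (Fin n) k] MvPowerSeries (Fin n) (PP k n R) where
  toFun := uFun k n R
  map_one' := by
    have := uFun_alg k n R 1
    rw [map_one, map_one] at this
    exact this
  map_mul' r s := by
    show uFun k n R (r * s) = uFun k n R r * uFun k n R s
    ext d
    rw [coeff_uFun, gen_mul, MvPowerSeries.coeff_mul]
    rfl
  map_zero' := by
    have := uFun_alg k n R 0
    rw [map_zero, map_zero] at this
    exact this
  map_add' r s := by
    show uFun k n R (r + s) = uFun k n R r + uFun k n R s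
    ext d
    rw [coeff_uFun, gen_add, map_add]
    rfl
  commutes' c := uFun_alg k n R c

end



/-- Affine case. Let k be a field, n > 0, and R a commutative algebra over the power series ring
k[[z_1,…,z_n]]; for a commutative k-algebra Q regard Q[[z_1,…,z_n]] as a k[[z]]-algebra
coefficientwise. Then the functor Q ↦ Hom_{k[[z]]-alg}(R, Q[[z]]) on commutative k-algebras is
corepresentable: there exist a commutative k-algebra P and a k[[z]]-algebra homomorphism u : R →
P[[z]] such that every k[[z]]-algebra homomorphism R → Q[[z]] arises from u by applying a unique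
k-algebra homomorphism P → Q coefficientwise. If moreover R is countably generated as a
k[[z]]-algebra, P may be taken countably generated over k. (The published statement is for an adic
formal scheme Y over the formal disc Spf k[[z]], asserting that the sheaf of sections of Y over the
disc is a scheme, affine over the fibre of Y at the origin, and of pro-finite type when Y is; this
row is the case Y = Spf R, to which the published argument reduces, stated for the underlying
algebra R; k is algebraically closed there, which is not used.) -/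
theorem result
    (k : Type u) [Field k] (n : ℕ) (hn : 0 < n)
    (R : Type u) [CommRing R] [Algebra (MvPowerSeries (Fin n) k) R] :
    ∃ (P : Type u) (_ : CommRing P) (_ : Algebra k P)
      (u : R →ₐ[MvPowerSeries (Fin n) k] MvPowerSeries (Fin n) P),
      (∀ (Q : Type u) [CommRing Q] [Algebra k Q]
          (f : R →ₐ[MvPowerSeries (Fin n) k] MvPowerSeries (Fin n) Q),
          ∃! g : P →ₐ[k] Q,
            (MvPowerSeries.map (σ := Fin n) (g : P →+* Q)).comp (u : R →+* MvPowerSeries (Fin n) P) =
              (f : R →+* MvPowerSeries (Fin n) Q)) ∧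
      ((∃ s : Set R, s.Countable ∧ Algebra.adjoin (MvPowerSeries (Fin n) k) s = ⊤) →
        ∃ t : Set P, t.Countable ∧ Algebra.adjoin k t = ⊤) := by
  refine ⟨PP k n R, inferInstance, inferInstance, uHom k n R, ?_, ?_⟩
  · intro Q _ _ f
    obtain ⟨g₀, hg₀⟩ : ∃ g₀ : MvPolynomial (R × (Fin n →₀ ℕ)) k →ₐ[k] Q,
        ∀ r d, g₀ (MvPolynomial.X (r, d)) = MvPowerSeries.coeff d (f r) :=
      ⟨MvPolynomial.aeval (fun p : R × (Fin n →₀ ℕ) => MvPowerSeries.coeff p.2 (f p.1)),
        fun r d => MvPolynomial.aeval_X _ _⟩
    have hker : II k n R ≤ RingHom.ker (g₀ : MvPolynomial (R × (Fin n →₀ ℕ)) k →+* Q) := by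
      unfold II
      rw [Ideal.span_le]
      rintro q (⟨r, s, d, rfl⟩ | ⟨r, s, d, rfl⟩ | ⟨c, d, rfl⟩)
      · rw [SetLike.mem_coe, RingHom.mem_ker]
        show g₀ _ = 0
        rw [map_sub, map_add, hg₀, hg₀, hg₀, map_add, map_add, sub_self]
      · rw [SetLike.mem_coe, RingHom.mem_ker]
        show g₀ _ = 0
        rw [map_sub, map_sum, hg₀, map_mul f, MvPowerSeries.coeff_mul, sub_eq_zero]
        refine Finset.sum_congr rfl (fun p _ => ?_)
        rw [map_mul, hg₀, hg₀]
      · rw [SetLike.mem_coe, RingHom.mem_ker]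
        show g₀ _ = 0
        rw [map_sub, hg₀, AlgHom.commutes f, ← MvPolynomial.algebraMap_eq, AlgHom.commutes g₀,
          sub_eq_zero]
        rfl
    obtain ⟨g, hg⟩ : ∃ g : PP k n R →ₐ[k] Q,
        ∀ r d, g (gen k n R r d) = MvPowerSeries.coeff d (f r) :=
      ⟨Ideal.Quotient.liftₐ (II k n R) g₀ (fun a ha => RingHom.mem_ker.mp (hker ha)),
        fun r d => by
          unfold gen
          rw [Ideal.Quotient.liftₐ_apply, Ideal.Quotient.lift_mk]
          exact hg₀ r d⟩
    refine ⟨g, ?_, ?_⟩
    · apply RingHom.ext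
      intro r
      apply MvPowerSeries.ext
      intro d
      show MvPowerSeries.coeff d (MvPowerSeries.map (g : PP k n R →+* Q) (uFun k n R r))
        = MvPowerSeries.coeff d (f r)
      rw [MvPowerSeries.coeff_map, coeff_uFun]
      exact hg r d
    · intro g' hg'
      have h1 : ∀ r d, g' (gen k n R r d) = MvPowerSeries.coeff d (f r) := by
        intro r d
        have := congrArg
          (fun ψ : R →+* MvPowerSeries (Fin n) Q => MvPowerSeries.coeff d (ψ r)) hg'
        exact this
      apply Ideal.Quotient.algHom_ext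
      apply MvPolynomial.algHom_ext
      intro p
      obtain ⟨r, d⟩ := p
      show g' (gen k n R r d) = g (gen k n R r d)
      rw [h1, hg]
  · rintro ⟨s, hs, hadj⟩
    refine ⟨(fun p : R × (Fin n →₀ ℕ) => gen k n R p.1 p.2) '' (s ×ˢ Set.univ),
      (hs.prod Set.countable_univ).image _, ?_⟩
    obtain ⟨T, hT⟩ : ∃ T : Subalgebra k (PP k n R), T = Algebra.adjoin k
        ((fun p : R × (Fin n →₀ ℕ) => gen k n R p.1 p.2) '' (s ×ˢ Set.univ)) := ⟨_, rfl⟩
    rw [← hT]
    have hgenT : ∀ r : R, ∀ d, gen k n R r d ∈ T := by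
      intro r
      have hr : r ∈ Algebra.adjoin (MvPowerSeries (Fin n) k) s := by
        rw [hadj]; exact Algebra.mem_top
      induction hr using Algebra.adjoin_induction with
      | mem x hx =>
        intro d
        rw [hT]
        exact Algebra.subset_adjoin ⟨(x, d), ⟨hx, Set.mem_univ _⟩, rfl⟩
      | algebraMap c =>
        intro d
        rw [gen_alg]
        exact Subalgebra.algebraMap_mem T _
      | add x y _ _ hx hy =>
        intro d
        rw [gen_add]
        exact Subalgebra.add_mem T (hx d) (hy d)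
      | mul x y _ _ hx hy =>
        intro d
        rw [gen_mul]
        exact Subalgebra.sum_mem T (fun p _ => Subalgebra.mul_mem T (hx _) (hy _))
    rw [eq_top_iff]
    intro x hx
    clear hx
    obtain ⟨q, rfl⟩ := Ideal.Quotient.mk_surjective x
    induction q using MvPolynomial.induction_on with
    | C a => exact Subalgebra.algebraMap_mem T a
    | add p q hp hq =>
      rw [map_add]
      exact Subalgebra.add_mem T hp hq
    | mul_X p i hp =>
      rw [map_mul]
      exact Subalgebra.mul_mem T hp (hgenT i.1 i.2)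


end Groth.Agent.S15126
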