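import Groth.Statements.S15128
import Mathlib

set_option autoImplicit false
universe u v
open CAlg

namespace Groth.Agent.S15128

universe w
open TensorProduct Function
section
variable {A : Type u} [CommRing A] {P L : Type v} [AddCommGroup P] [Module A P] [AddCommGroup L]
  [Module A L] (h : P →ₗ[A] L)

lemma rT_symm_rT {S S' : Type*} [AddCommGroup S] [Module A S] [AddCommGroup S']
    [Module A S'] (e : S ≃ₗ[A] S') (Q : Type*) [AddCommGroup Q] [Module A Q] (x : S ⊗[A] Q) :
    (e.symm.toLinearMap.rTensor Q) ((e.toLinearMap.rTensor Q) x) = x := by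
  rw [← LinearMap.comp_apply, ← LinearMap.rTensor_comp]
  simp

lemma lTensor_inj_of_equiv {S S' : Type*} [AddCommGroup S] [Module A S] [AddCommGroup S']
    [Module A S'] (e : S ≃ₗ[A] S') (hinj : Injective (h.lTensor S')) : Injective (h.lTensor S) := by
  have hc : (h.lTensor S') ∘ₗ (e.toLinearMap.rTensor P) = (e.toLinearMap.rTensor L) ∘ₗ (h.lTensor S) := by
    rw [LinearMap.lTensor_comp_rTensor, LinearMap.rTensor_comp_lTensor]
  rw [injective_iff_map_eq_zero]
  intro x hx
  have h1 : (h.lTensor S') ((e.toLinearMap.rTensor P) x) = 0 := by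
    rw [← LinearMap.comp_apply, hc, LinearMap.comp_apply, hx, map_zero]
  have h2 := hinj (h1.trans (map_zero _).symm)
  rw [← rT_symm_rT e P x, h2, map_zero]

lemma lTensor_surj_of_equiv {S S' : Type*} [AddCommGroup S] [Module A S] [AddCommGroup S']
    [Module A S'] (e : S ≃ₗ[A] S') (hsurj : Surjective (h.lTensor S')) : Surjective (h.lTensor S) := by
  have hc : (h.lTensor S) ∘ₗ (e.symm.toLinearMap.rTensor P) = (e.symm.toLinearMap.rTensor L) ∘ₗ (h.lTensor S') := by
    rw [LinearMap.lTensor_comp_rTensor, LinearMap.rTensor_comp_lTensor]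
  intro y
  obtain ⟨x, hx⟩ := hsurj ((e.toLinearMap.rTensor L) y)
  refine ⟨(e.symm.toLinearMap.rTensor P) x, ?_⟩
  rw [← LinearMap.comp_apply, hc, LinearMap.comp_apply, hx, rT_symm_rT]

/-- main induction -/
theorem key [IsLocalRing A] (T : Type w) [AddCommGroup T] [Module A T] (hT : IsFiniteLength A T) :
    (Injective (h.lTensor (IsLocalRing.ResidueField A)) → Module.Flat A L → Injective (h.lTensor T)) ∧
    (Surjective (h.lTensor (IsLocalRing.ResidueField A)) → Surjective (h.lTensor T)) := by
  induction hT with
  | of_subsingleton =>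
    constructor
    · intro _ _ x y _
      exact Subsingleton.elim _ _
    · intro _ y
      exact ⟨0, Subsingleton.elim _ _⟩
  | @of_simple_quotient T _ _ N hs _ ih =>
    obtain ⟨I, hI, ⟨e⟩⟩ := isSimpleModule_iff_quot_maximal.mp hs
    obtain rfl : I = IsLocalRing.maximalIdeal A := IsLocalRing.eq_maximalIdeal hI
    have hex : Function.Exact N.subtype N.mkQ := by
      intro m
      simp only [Submodule.mkQ_apply, Submodule.Quotient.mk_eq_zero, Set.mem_range,
        Submodule.coe_subtype]
      constructor
      · intro hm; exact ⟨⟨m, hm⟩, rfl⟩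
      · rintro ⟨y, rfl⟩; exact y.2
    have hsurj : Surjective N.mkQ := N.mkQ_surjective
    constructor
    · intro hk hL
      have hq : Injective (h.lTensor (T ⧸ N)) := lTensor_inj_of_equiv h e hk
      have hN : Injective (h.lTensor N) := ih.1 hk hL
      rw [injective_iff_map_eq_zero]
      intro x hx
      have h1 : (h.lTensor (T ⧸ N)) ((N.mkQ.rTensor P) x) = 0 := by
        rw [← LinearMap.comp_apply, LinearMap.lTensor_comp_rTensor, ← LinearMap.rTensor_comp_lTensor,
          LinearMap.comp_apply, hx, map_zero]
      have h2 : (N.mkQ.rTensor P) x = 0 := hq (h1.trans (map_zero _).symm)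
      obtain ⟨y, rfl⟩ := (rTensor_exact P hex hsurj x).mp h2
      have h3 : (N.subtype.rTensor L) ((h.lTensor N) y) = 0 := by
        rw [← LinearMap.comp_apply, LinearMap.rTensor_comp_lTensor, ← LinearMap.lTensor_comp_rTensor,
          LinearMap.comp_apply, hx]
      have h4 : (h.lTensor N) y = 0 :=
        (Module.Flat.rTensor_preserves_injective_linearMap (M := L) N.subtype
          Subtype.val_injective) (h3.trans (map_zero _).symm)
      rw [hN (h4.trans (map_zero _).symm), map_zero]
    · intro hk
      have hq : Surjective (h.lTensor (T ⧸ N)) := lTensor_surj_of_equiv h e hk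
      have hN : Surjective (h.lTensor N) := ih.2 hk
      intro y
      obtain ⟨x1, hx1⟩ := hq ((N.mkQ.rTensor L) y)
      obtain ⟨x2, rfl⟩ := LinearMap.rTensor_surjective P hsurj x1
      have h1 : (N.mkQ.rTensor L) (y - (h.lTensor T) x2) = 0 := by
        rw [map_sub, ← hx1, ← LinearMap.comp_apply, ← LinearMap.comp_apply,
          LinearMap.lTensor_comp_rTensor, LinearMap.rTensor_comp_lTensor, sub_self]
      obtain ⟨z, hz⟩ := (rTensor_exact L hex hsurj _).mp h1
      obtain ⟨w, rfl⟩ := hN z
      refine ⟨x2 + (N.subtype.rTensor P) w, ?_⟩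
      rw [map_add, ← LinearMap.comp_apply (h.lTensor T), LinearMap.lTensor_comp_rTensor,
        ← LinearMap.rTensor_comp_lTensor, LinearMap.comp_apply, hz]
      abel

end



/-- Over an Artinian local ring A with residue field k, a linear map h between flat A-modules (of any
size) is injective, resp. surjective, as soon as its reduction k ⊗_A h is. (The published statement
is for local Artinian algebras over an algebraically closed field of characteristic zero having that
field as residue field; this row allows any Artinian local ring.) -/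
theorem result
    (A : Type u) [CommRing A] [IsLocalRing A] [IsArtinianRing A]
    (P L : Type v) [AddCommGroup P] [Module A P] [AddCommGroup L] [Module A L]
    [Module.Flat A P] [Module.Flat A L] (h : P →ₗ[A] L) :
    (Function.Injective (h.lTensor (IsLocalRing.ResidueField A)) → Function.Injective h) ∧
    (Function.Surjective (h.lTensor (IsLocalRing.ResidueField A)) → Function.Surjective h) := by
  have hA : IsFiniteLength A A := isFiniteLength_iff_isNoetherian_isArtinian.mpr ⟨inferInstance, inferInstance⟩
  have hk := key h A hA
  have hc : (TensorProduct.lid A L).toLinearMap ∘ₗ (h.lTensor A) = h ∘ₗ (TensorProduct.lid A P).toLinearMap := by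
    ext; simp
  constructor
  · intro hi
    have h1 := hk.1 hi inferInstance
    intro x y hxy
    apply (TensorProduct.lid A P).symm.injective
    apply h1
    apply (TensorProduct.lid A L).injective
    have := fun z => congrArg (fun φ => φ z) hc
    simp only [LinearMap.comp_apply, LinearEquiv.coe_coe] at this
    rw [this, this]
    simpa using hxy
  · intro hs
    have h1 := hk.2 hs
    intro y
    obtain ⟨x, hx⟩ := h1 ((TensorProduct.lid A L).symm y)
    refine ⟨TensorProduct.lid A P x, ?_⟩
    have := congrArg (fun φ => φ x) hc
    simp only [LinearMap.comp_apply, LinearEquiv.coe_coe] at this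
    rw [← this, hx]
    simp

end Groth.Agent.S15128
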