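import Groth.Statements.S15129
import Mathlib
import Groth.Agent.Lib.Helper8.LocalFlat

set_option autoImplicit false
universe u v
open CAlg

namespace Groth.Agent.S15129

open TensorProduct Function Groth.Agent.Lib.helper8.LocalFlat
/-- kernel of a surjection of flat modules is flat -/
theorem flat_ker {R M N P : Type*} [CommRing R] [AddCommGroup M] [AddCommGroup N]
    [AddCommGroup P] [Module R M] [Module R N] [Module R P]
    (f : M →ₗ[R] N) (g : N →ₗ[R] P) (hf : Injective f) (hex : Exact f g)
    (hg : Surjective g) [Module.Flat R N] [Module.Flat R P] : Module.Flat R M := by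
  rw [Module.Flat.iff_lTensor_injective']
  intro I
  -- f ⊗ R ∘ (M ⊗ ι) = (N ⊗ ι) ∘ (f ⊗ I)
  have h1 : Injective (f.rTensor I) := by
    rw [← LinearMap.lTensor_inj_iff_rTensor_inj]
    exact LinearMap.lTensor_injective_of_exact_of_flat g hg f hf hex I
  have h2 : Injective (I.subtype.lTensor N) :=
    Module.Flat.lTensor_preserves_injective_linearMap _ Subtype.val_injective
  have hc : (f.rTensor R) ∘ₗ (I.subtype.lTensor M) = (I.subtype.lTensor N) ∘ₗ (f.rTensor I) := by
    rw [LinearMap.rTensor_comp_lTensor, LinearMap.lTensor_comp_rTensor]
  have h3 : Injective ((f.rTensor R) ∘ₗ (I.subtype.lTensor M)) := by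
    rw [hc]; exact h2.comp h1
  exact Injective.of_comp h3



/-- Over an Artinian local ring A with residue field k, for an exact sequence 0 → M → N → P → 0 of
A-modules with N flat: if k ⊗_A M → k ⊗_A N is injective then P is flat; if P is flat then M is flat
and k ⊗_A M → k ⊗_A N is injective. (The published statement is for local Artinian algebras over an
algebraically closed field of characteristic zero having that field as residue field; this row
allows any Artinian local ring.) -/
theorem result
    (A : Type u) [CommRing A] [IsLocalRing A] [IsArtinianRing A]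
    (M N P : Type v) [AddCommGroup M] [Module A M] [AddCommGroup N] [Module A N]
    [AddCommGroup P] [Module A P] [Module.Flat A N] (f : M →ₗ[A] N) (g : N →ₗ[A] P)
    (hf : Function.Injective f) (hg : Function.Surjective g) (hfg : Function.Exact f g) :
    (Function.Injective (f.lTensor (IsLocalRing.ResidueField A)) → Module.Flat A P) ∧
    (Module.Flat A P → Module.Flat A M ∧ Function.Injective (f.lTensor (IsLocalRing.ResidueField A))) := by
  constructor
  · intro hk
    have hnil : IsNilpotent (IsLocalRing.maximalIdeal A) := by
      rw [← IsLocalRing.jacobson_eq_maximalIdeal (⊥ : Ideal A) bot_ne_top]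
      exact IsArtinianRing.isNilpotent_jacobson_bot
    have hex2 : Exact (IsLocalRing.maximalIdeal A).subtype (Ideal.Quotient.mkₐ A (IsLocalRing.maximalIdeal A)).toLinearMap := by
      intro a
      simp only [AlgHom.toLinearMap_apply, Ideal.Quotient.mkₐ_eq_mk, Ideal.Quotient.eq_zero_iff_mem, Set.mem_range,
        Submodule.coe_subtype]
      constructor
      · intro ha; exact ⟨⟨a, ha⟩, rfl⟩
      · rintro ⟨y, rfl⟩; exact y.2
    have hs2 : Surjective (Ideal.Quotient.mkₐ A (IsLocalRing.maximalIdeal A)).toLinearMap :=
      Ideal.Quotient.mk_surjective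
    have h1 : Injective ((IsLocalRing.maximalIdeal A).subtype.lTensor P) :=
      lTensor_injective_of_exact_of_exact_of_rTensor_injective hfg hg hex2 hs2
        (by rw [← LinearMap.lTensor_inj_iff_rTensor_inj]; exact hk)
        (Module.Flat.lTensor_preserves_injective_linearMap _ Subtype.val_injective)
    rw [LinearMap.lTensor_inj_iff_rTensor_inj] at h1
    haveI : Module.Flat (A ⧸ IsLocalRing.maximalIdeal A)
        ((A ⧸ IsLocalRing.maximalIdeal A) ⊗[A] P) := by
      letI : Field (A ⧸ IsLocalRing.maximalIdeal A) := Ideal.Quotient.field _
      infer_instance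
    exact flat_of_isNilpotent (IsLocalRing.maximalIdeal A) P h1 hnil
  · intro hP
    exact ⟨flat_ker f g hf hfg hg, LinearMap.lTensor_injective_of_exact_of_flat g hg f hf hfg _⟩

end Groth.Agent.S15129
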