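import Groth.Statements.S15130
import Mathlib
import Groth.Agent.S15128
import Groth.Agent.S15129

set_option autoImplicit false
universe u v
open CAlg

namespace Groth.Agent.S15130

open TensorProduct Function


/-- Let A be an Artinian local ring with residue field k and P → Q → R → M → 0 a complex of A-modules
with P, Q, R flat which is exact at R and at M. If the reduced complex k ⊗ P → k ⊗ Q → k ⊗ R is
exact (the rest of the reduced sequence is then automatically exact), then M is flat and the
original complex is exact at Q as well. (The published statement is for local Artinian algebras over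
an algebraically closed field of characteristic zero having that field as residue field; this row
allows any Artinian local ring.) -/
theorem result
    (A : Type u) [CommRing A] [IsLocalRing A] [IsArtinianRing A]
    (P Q R M : Type v) [AddCommGroup P] [Module A P] [AddCommGroup Q] [Module A Q]
    [AddCommGroup R] [Module A R] [AddCommGroup M] [Module A M]
    [Module.Flat A P] [Module.Flat A Q] [Module.Flat A R]
    (f : P →ₗ[A] Q) (g : Q →ₗ[A] R) (h : R →ₗ[A] M)
    (hfg : g ∘ₗ f = 0) (hgh : Function.Exact g h) (hh : Function.Surjective h)
    (hred : Function.Exact (f.lTensor (IsLocalRing.ResidueField A)) (g.lTensor (IsLocalRing.ResidueField A))) :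
    Module.Flat A M ∧ Function.Exact f g := by
  -- image of g
  have hιg' : (LinearMap.range g).subtype ∘ₗ g.rangeRestrict = g := by
    ext q; rfl
  have hg'f : g.rangeRestrict ∘ₗ f = 0 := by
    ext p
    have := congrArg (fun φ => φ p) hfg
    simpa using this
  have hg's : Surjective g.rangeRestrict := g.surjective_rangeRestrict
  have hexι : Exact (LinearMap.range g).subtype h := by
    intro r
    rw [hgh r]
    simp
  -- Step 1
  have h1 : Injective ((LinearMap.range g).subtype.lTensor (IsLocalRing.ResidueField A)) := by
    rw [injective_iff_map_eq_zero]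
    intro z hz
    obtain ⟨q, rfl⟩ := LinearMap.lTensor_surjective (IsLocalRing.ResidueField A) hg's z
    rw [← LinearMap.comp_apply, ← LinearMap.lTensor_comp, hιg'] at hz
    obtain ⟨p, rfl⟩ := (hred q).mp hz
    rw [← LinearMap.comp_apply, ← LinearMap.lTensor_comp, hg'f, LinearMap.lTensor_zero,
      LinearMap.zero_apply]
  have r1 := Groth.Agent.S15129.result A (LinearMap.range g) R M (LinearMap.range g).subtype h
    Subtype.val_injective hh hexι
  have hM : Module.Flat A M := r1.1 h1
  refine ⟨hM, ?_⟩
  haveI hI : Module.Flat A (LinearMap.range g) := (r1.2 hM).1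
  -- Step 2
  have hexκ : Exact (LinearMap.ker g).subtype g.rangeRestrict := by
    intro q
    simp only [Set.mem_range, Submodule.coe_subtype]
    constructor
    · intro hq
      refine ⟨⟨q, ?_⟩, rfl⟩
      rw [LinearMap.mem_ker]
      exact congrArg Subtype.val hq
    · rintro ⟨y, rfl⟩
      apply Subtype.ext
      exact y.2
  have r2 := Groth.Agent.S15129.result A (LinearMap.ker g) Q (LinearMap.range g)
    (LinearMap.ker g).subtype g.rangeRestrict Subtype.val_injective hg's hexκ
  obtain ⟨hK, hκ⟩ := r2.2 hI
  -- Step 3
  have hfmem : ∀ p, f p ∈ LinearMap.ker g := fun p => by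
    rw [LinearMap.mem_ker]
    exact congrArg (fun φ => φ p) hfg
  have hκf' : (LinearMap.ker g).subtype ∘ₗ (f.codRestrict (LinearMap.ker g) hfmem) = f := by
    ext p; rfl
  have hgκ : g ∘ₗ (LinearMap.ker g).subtype = 0 := by
    ext y; exact y.2
  have h3 : Surjective ((f.codRestrict (LinearMap.ker g) hfmem).lTensor (IsLocalRing.ResidueField A)) := by
    intro z
    have hz : (g.lTensor (IsLocalRing.ResidueField A))
        (((LinearMap.ker g).subtype.lTensor (IsLocalRing.ResidueField A)) z) = 0 := by
      rw [← LinearMap.comp_apply, ← LinearMap.lTensor_comp, hgκ, LinearMap.lTensor_zero,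
        LinearMap.zero_apply]
    obtain ⟨p, hp⟩ := (hred _).mp hz
    refine ⟨p, hκ ?_⟩
    rw [← LinearMap.comp_apply, ← LinearMap.lTensor_comp, hκf', hp]
  have hf's := (Groth.Agent.S15128.result A P (LinearMap.ker g)
    (f.codRestrict (LinearMap.ker g) hfmem)).2 h3
  -- Step 4
  intro q
  constructor
  · intro hq
    obtain ⟨p, hp⟩ := hf's ⟨q, hq⟩
    exact ⟨p, congrArg Subtype.val hp⟩
  · rintro ⟨p, rfl⟩
    exact hfmem p

end Groth.Agent.S15130
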