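import Groth.Statements.S15132
import Groth.Agent.Lib.Helper17.ArtAct
import Groth.Agent.S12738
import Mathlib

set_option autoImplicit false
universe u v
open CategoryTheory
open ArtFun

namespace Groth.Agent.S15132
open Groth.Agent.Lib.helper17.ArtAct

/-- Let k be a field and F a functor on local Artinian k-algebras with residue field k with F(k) a
single point. If F satisfies (H1), (H2) and (H4) — surjectivity of the comparison map F(A₁ ×_A A₂) →
F(A₁) ×_{F(A)} F(A₂) when A₂ → A is a small extension, bijectivity when A = k and A₂ = k[ε], and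
bijectivity for A₂ ×_A A₂ with A₂ → A a small extension — then F is homogeneous: the comparison map
is bijective for every fibre-product square in which A₂ → A is surjective. (The converse
implications are immediate.) -/
theorem result
    {k : Type u} [Field k] (F : ArtFun.Art k k ⥤ Type v)
    (h0 : ArtFun.H0 F) (h1 : ArtFun.Hbar F) (h2 : ArtFun.Heps F) (h4 : ArtFun.HSq F)
    ⦃B A A' A'' : ArtFun.Art k k⦄ (p' : B ⟶ A') (p'' : B ⟶ A'') (f' : A' ⟶ A) (f'' : A'' ⟶ A)
    (h : ArtFun.Art.IsFibreProd p' p'' f' f'') (hf : Function.Surjective f'') :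
    Function.Bijective (ArtFun.cmp F h) := by
  classical
  revert B A A' A'' p' p'' f' f'' h hf
  apply Groth.Agent.S12738.result F
  intro B A A' A'' p' p'' f' f'' h hsm
  refine ⟨?_, h1 p' p'' f' f'' h hsm⟩
  obtain ⟨t'', ht''0, hker'', ht'', htm''⟩ := exists_gen f'' hsm
  have hf''t : f'' t'' = 0 := by
    have : t'' ∈ RingHom.ker f''.toAlgHom := by rw [hker'']; exact Ideal.mem_span_singleton_self _
    exact this
  obtain ⟨t, htp', htp''⟩ := h.surj 0 t'' (by
    rw [hf''t]
    show f'.toAlgHom 0 = 0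
    rw [map_zero])
  have ht0 : t ≠ 0 := by
    rintro rfl
    apply ht''0
    rw [← htp'']
    show p''.toAlgHom 0 = 0
    rw [map_zero]
  have hmul : ∀ (x : B) (y : B), p' (x * y) = p' x * p' y := fun x y => map_mul p'.toAlgHom x y
  have hmul' : ∀ (x : B) (y : B), p'' (x * y) = p'' x * p'' y := fun x y => map_mul p''.toAlgHom x y
  have ht : ∀ x ∈ IsLocalRing.maximalIdeal B, x * t = 0 := by
    intro x hx
    apply h.inj
    · rw [hmul, htp', mul_zero]
      show _ = p'.toAlgHom 0
      rw [map_zero]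
    · rw [hmul', htp'']
      have : p'' x ∈ IsLocalRing.maximalIdeal A'' := by
        rw [ArtFun.Art.mem_maximalIdeal_iff, ArtFun.Art.res_app p'' x,
          ← ArtFun.Art.mem_maximalIdeal_iff]
        exact hx
      rw [ht'' _ this]
      show _ = p''.toAlgHom 0
      rw [map_zero]
  have htm : t ∈ IsLocalRing.maximalIdeal B := by
    rw [ArtFun.Art.mem_maximalIdeal_iff, ← ArtFun.Art.res_app p' t, htp', map_zero]
  have hkerB : RingHom.ker p'.toAlgHom = Ideal.span {t} := by
    apply le_antisymm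
    · intro b hb
      have hb' : p' b = 0 := hb
      have h1 : p'' b ∈ RingHom.ker f''.toAlgHom := by
        show f'' (p'' b) = 0
        rw [← h.w_apply, hb']
        show f'.toAlgHom 0 = 0
        rw [map_zero]
      rw [hker'', Ideal.mem_span_singleton'] at h1
      obtain ⟨a, ha⟩ := h1
      obtain ⟨x, hx⟩ := B.res_surjective (A''.res a)
      rw [Ideal.mem_span_singleton']
      refine ⟨x, ?_⟩
      apply h.inj
      · rw [hmul, htp', mul_zero, hb']
      · rw [hmul', htp'', ← ha]
        have : p'' x - a ∈ IsLocalRing.maximalIdeal A'' := by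
          rw [ArtFun.Art.mem_maximalIdeal_iff, map_sub, ArtFun.Art.res_app p'' x, hx, sub_self]
        have := ht'' _ this
        rw [sub_mul, sub_eq_zero] at this
        exact this
    · rw [Ideal.span_singleton_le_iff_mem]
      exact htp'
  obtain ⟨QB, q1, q2, s, hQ, hσ, hs1, hs2, hs3⟩ := exists_sigma_t p' t ht0 hkerB ht htm
  obtain ⟨Q'', q1'', q2'', s'', hQ'', hσ'', hs1'', hs2'', hs3''⟩ :=
    exists_sigma_t f'' t'' ht''0 hker'' ht'' htm''
  obtain ⟨P, hP1, hP2⟩ := Groth.Agent.S12727.exists_lift_hom hQ'' (q1 ≫ p'') q2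
    (by rw [ArtFun.Art.eq_toBase ((q1 ≫ p'') ≫ ArtFun.Art.toBase A''),
      ArtFun.Art.eq_toBase (q2 ≫ ArtFun.Art.toBase (ArtFun.Art.dual k k))])
  have hnat := sigma_natural q1 q2 t ht htm q1'' q2'' t'' ht'' htm'' p'' P hP1 hP2 htp''
  apply cmp_injective_of_forall
  intro z₁ z₂ hz1 hz2
  have hp'surj : Function.Surjective p' := by
    intro a'
    obtain ⟨a'', ha''⟩ := hsm.1 (f' a')
    obtain ⟨b, hb, -⟩ := h.surj a' a'' ha''.symm
    exact ⟨b, hb⟩
  have hp'small : ArtFun.Art.IsSmallExt p' := isSmallExt_of_gen p' hp'surj t ht0 hkerB ht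
  obtain ⟨z, hzq, hzσ⟩ := exists_of_cmp_surjective hσ (h1 _ _ _ _ hσ hp'small) z₁ z₂ hz1
  -- push to Q''
  have hz'' : F.map P z = F.map s'' (F.map p'' z₁) := by
    apply eq_of_cmp_injective hσ'' (h4 _ _ _ hσ'' hsm).1
    · rw [← map_comp_apply, hP1, map_comp_apply, hzq, ← map_comp_apply, hs1'', map_id_apply]
    · rw [← map_comp_apply, hnat, map_comp_apply, hzσ, ← map_comp_apply, hs2'', map_id_apply, hz2]
  have hv : F.map q2 z = F.map q2 (F.map s z₁) := by
    have e1 : F.map q2 z = F.map q2'' (F.map P z) := by rw [← map_comp_apply, hP2]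
    have e2 : F.map q2'' (F.map s'' (F.map p'' z₁)) =
        F.map (ArtFun.Art.toBase B ≫ ArtFun.Art.baseToDual) z₁ := by
      rw [← map_comp_apply, hs3'', ← map_comp_apply, ← Category.assoc,
        ArtFun.Art.eq_toBase (p'' ≫ ArtFun.Art.toBase A'')]
    have e3 : F.map q2 (F.map s z₁) = F.map (ArtFun.Art.toBase B ≫ ArtFun.Art.baseToDual) z₁ := by
      rw [← map_comp_apply, hs3]
    rw [e1, hz'', e2, e3]
  have hz : z = F.map s z₁ := by
    apply eq_of_cmp_injective hQ (h2 q1 q2 hQ).1
    · rw [hzq, ← map_comp_apply, hs1, map_id_apply]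
    · exact hv
  rw [← hzσ, hz, ← map_comp_apply, hs2, map_id_apply]

end Groth.Agent.S15132
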