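import Groth.Statements.S15133
import Groth.Agent.Lib.Helper24.ArtCplx1

set_option autoImplicit false
universe u
open CategoryTheory
open CAlg

namespace Groth.Agent.S15133

open CategoryTheory TensorProduct IsLocalRing in
/-- elementwise form of exactness of `k ⊗ C` at `j + 1`. -/
theorem exact_succ (A : Type u) [CommRing A] [IsLocalRing A]
    (C : CochainComplex (ModuleCat.{u} A) ℕ) (j : ℕ)
    (h : (((MonoidalCategory.tensorLeft (ModuleCat.of A (IsLocalRing.ResidueField A))).mapHomologicalComplex
        (ComplexShape.up ℕ)).obj C).ExactAt (j + 1)) :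
    ∀ z : ResidueField A ⊗[A] C.X (j + 1),
      (C.d (j + 1) (j + 1 + 1)).hom.lTensor (ResidueField A) z = 0 →
        ∃ w : ResidueField A ⊗[A] C.X j, (C.d j (j + 1)).hom.lTensor (ResidueField A) w = z := by
  rw [HomologicalComplex.exactAt_iff' _ j (j + 1) (j + 1 + 1) (by simp) (by simp),
    ShortComplex.moduleCat_exact_iff] at h
  intro z hz
  obtain ⟨w, hw⟩ := h z hz
  exact ⟨w, hw⟩

open CategoryTheory TensorProduct IsLocalRing in
/-- elementwise form of exactness of `k ⊗ C` at `0`. -/
theorem exact_zero (A : Type u) [CommRing A] [IsLocalRing A]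
    (C : CochainComplex (ModuleCat.{u} A) ℕ)
    (h : (((MonoidalCategory.tensorLeft (ModuleCat.of A (IsLocalRing.ResidueField A))).mapHomologicalComplex
        (ComplexShape.up ℕ)).obj C).ExactAt 0) :
    ∀ z : ResidueField A ⊗[A] C.X 0,
      (C.d 0 1).hom.lTensor (ResidueField A) z = 0 → z = 0 := by
  rw [HomologicalComplex.exactAt_iff' _ 0 0 1 (by simp) (by simp),
    ShortComplex.moduleCat_exact_iff] at h
  intro z hz
  obtain ⟨w, hw⟩ := h z hz
  have h0 : C.d 0 0 = 0 := C.shape 0 0 (by simp)
  rw [← hw]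
  change ((C.d 0 0).hom.lTensor (ResidueField A)) w = 0
  rw [h0, ModuleCat.hom_zero, LinearMap.lTensor_zero]
  rfl

open TensorProduct IsLocalRing in
theorem one_tmul_eq_zero_iff' (A : Type u) [CommRing A] [IsLocalRing A] {M : Type u} [AddCommGroup M]
    [Module A M] (x : M) :
    ((1 : ResidueField A) ⊗ₜ[A] x = 0) ↔ x ∈ (maximalIdeal A • ⊤ : Submodule A M) :=
  Groth.Agent.Lib.Helper19.ArtFlat.one_tmul_eq_zero_iff (maximalIdeal A) x

/-- Let A be an Artinian local ring with residue field k, n ≥ 1, and 0 → I → P₀ → P₁ → ⋯ → Pₙ a complex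
of A-modules with P₀, …, Pₙ flat whose reduction 0 → k ⊗ I → k ⊗ P₀ → ⋯ → k ⊗ Pₙ is exact. Then I
and coker(Pₙ₋₁ → Pₙ) are flat. The complex is written as a cochain complex C indexed by ℕ with C⁰ =
I and Cⁱ⁺¹ = Pᵢ; its terms in degrees above n + 1 play no role. (The published statement adds that I
maps onto the kernel of k ⊗ P₀ → k ⊗ P₁, which is already part of the exactness hypothesis, and is
for local Artinian algebras over an algebraically closed field of characteristic zero having that
field as residue field; this row allows any Artinian local ring.) -/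
theorem result
    (A : Type u) [CommRing A] [IsLocalRing A] [IsArtinianRing A] (n : ℕ) (hn : 0 < n)
    (C : CochainComplex (ModuleCat.{u} A) ℕ)
    (hflat : ∀ i, i ≤ n → Module.Flat A (C.X (i + 1)))
    (hred : ∀ j, j ≤ n →
      (((MonoidalCategory.tensorLeft (ModuleCat.of A (IsLocalRing.ResidueField A))).mapHomologicalComplex
        (ComplexShape.up ℕ)).obj C).ExactAt j) :
    Module.Flat A (C.X 0) ∧ Module.Flat A (C.X (n + 1) ⧸ LinearMap.range (C.d n (n + 1)).hom) := by
  obtain ⟨j, rfl⟩ : ∃ j, n = j + 1 := ⟨n - 1, by omega⟩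
  have hz := exact_zero A C (hred 0 (by omega))
  have hs := exact_succ A C j (hred (j + 1) le_rfl)
  constructor
  · haveI : Module.Flat A (C.X (0 + 1)) := hflat 0 (by omega)
    refine (Groth.Agent.Lib.Helper24.ArtCplx.injective_and_flat_of_injective_mod
      (C.d 0 1).hom (fun y hy => ?_)).2
    rw [← one_tmul_eq_zero_iff'] at hy ⊢
    apply hz
    rw [LinearMap.lTensor_tmul]
    exact hy
  · haveI : Module.Flat A (C.X (j + 1 + 1)) := hflat (j + 1) le_rfl
    refine Groth.Agent.Lib.Helper24.ArtCplx.flat_coker_of_exact_mod (C.d j (j + 1)).hom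
      (C.d (j + 1) (j + 1 + 1)).hom ?_ (fun y hy => ?_)
    · rw [← ModuleCat.hom_comp, C.d_comp_d]
      rfl
    · rw [← one_tmul_eq_zero_iff'] at hy
      obtain ⟨w, hw⟩ := hs ((1 : IsLocalRing.ResidueField A) ⊗ₜ[A] y) (by
        rw [LinearMap.lTensor_tmul]; exact hy)
      obtain ⟨x, rfl⟩ := TensorProduct.mk_surjective A (C.X j) (IsLocalRing.ResidueField A)
        Ideal.Quotient.mk_surjective w
      rw [TensorProduct.mk_apply, LinearMap.lTensor_tmul] at hw
      have h1 : (1 : IsLocalRing.ResidueField A) ⊗ₜ[A] (y - (C.d j (j + 1)).hom x) = 0 := by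
        rw [TensorProduct.tmul_sub, hw, sub_self]
      rw [one_tmul_eq_zero_iff'] at h1
      have e : y = (C.d j (j + 1)).hom x + (y - (C.d j (j + 1)).hom x) := by abel
      rw [e]
      exact Submodule.add_mem _ (Submodule.mem_sup_left ⟨x, rfl⟩) (Submodule.mem_sup_right h1)

end Groth.Agent.S15133
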