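import Groth.Statements.S15134
import Mathlib
import Groth.Agent.Lib.Helper22.ArtFibre
import Groth.Agent.Lib.Helper17.ArtAct

set_option autoImplicit false
universe u v
open CategoryTheory
open ArtFun

namespace Groth.Agent.S15134

/-- Let k be a field and F a functor on local Artinian k-algebras with residue field k with F(k) a
point. If F satisfies (H2') — the comparison map F(A₁ ×_k A₂) → F(A₁) × F(A₂) is bijective for every
pair of objects — then F satisfies condition (L): for every small extension f : B → A with kernel J,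
writing P = B ×_k B, Q = A ×_k A, r : P → Q for the map induced by f, and C = P/K with K the ideal
of P consisting of the pairs (b, b) with b ∈ J, every element of F(Q) whose two images in F(A) agree
lifts along F(C) → F(Q). Here P and Q are pinned as fibre products over k, K is described through
the two projections, and the two inequalities on K (it lies in the maximal ideal of P and is killed
by r), which always hold, are taken as hypotheses so that the quotient object and the factored map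
can be named. -/
theorem result
    {k : Type u} [Field k] (F : ArtFun.Art k k ⥤ Type v) (h0 : ArtFun.H0 F)
    (h2' : ∀ ⦃P A' A'' : ArtFun.Art k k⦄ (p' : P ⟶ A') (p'' : P ⟶ A'')
      (h : ArtFun.Art.IsFibreProd p' p'' (ArtFun.Art.toBase A') (ArtFun.Art.toBase A'')),
      Function.Bijective (ArtFun.cmp F h))
    ⦃B A : ArtFun.Art k k⦄ (f : B ⟶ A) (hf : ArtFun.Art.IsSmallExt f)
    ⦃P : ArtFun.Art k k⦄ (p₁ p₂ : P ⟶ B)
    (hP : ArtFun.Art.IsFibreProd p₁ p₂ (ArtFun.Art.toBase B) (ArtFun.Art.toBase B))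
    ⦃Q : ArtFun.Art k k⦄ (q₁ q₂ : Q ⟶ A)
    (hQ : ArtFun.Art.IsFibreProd q₁ q₂ (ArtFun.Art.toBase A) (ArtFun.Art.toBase A))
    (r : P ⟶ Q) (hr₁ : r ≫ q₁ = p₁ ≫ f) (hr₂ : r ≫ q₂ = p₂ ≫ f)
    (hK : Ideal.span {z : P | p₁ z = p₂ z ∧ f (p₁ z) = 0} ≤ IsLocalRing.maximalIdeal P)
    (hKr : Ideal.span {z : P | p₁ z = p₂ z ∧ f (p₁ z) = 0} ≤ RingHom.ker r.toAlgHom)
    (y : F.obj Q) (hy : F.map q₁ y = F.map q₂ y) :
    ∃ z : F.obj (ArtFun.Art.quot P (Ideal.span {z : P | p₁ z = p₂ z ∧ f (p₁ z) = 0}) hK),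
      F.map (ArtFun.Art.quotFactor hK r hKr) z = y := by
  classical
  obtain ⟨ΔA, hΔ1, hΔ2⟩ := Groth.Agent.Lib.helper22.IsFibreProd.exists_lift hQ (𝟙 A) (𝟙 A) rfl
  obtain ⟨ΔB, hΔB1, hΔB2⟩ := Groth.Agent.Lib.helper22.IsFibreProd.exists_lift hP (𝟙 B) (𝟙 B) rfl
  have hker : RingHom.ker f.toAlgHom.toRingHom ≤
      RingHom.ker (ΔB ≫ ArtFun.Art.quotMk P _ hK).toAlgHom.toRingHom := by
    intro j hj
    rw [RingHom.mem_ker] at hj ⊢
    change Ideal.Quotient.mk _ (ΔB j) = 0
    rw [Ideal.Quotient.eq_zero_iff_mem]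
    apply Ideal.subset_span
    have e1 : p₁ (ΔB j) = j := by
      change (ΔB ≫ p₁) j = j
      rw [hΔB1]; rfl
    have e2 : p₂ (ΔB j) = j := by
      change (ΔB ≫ p₂) j = j
      rw [hΔB2]; rfl
    refine ⟨e1.trans e2.symm, ?_⟩
    rw [e1]
    exact hj
  have hs := AlgHom.liftOfSurjective_comp f.toAlgHom hf.1
    (ΔB ≫ ArtFun.Art.quotMk P _ hK).toAlgHom hker
  have hres : (ArtFun.Art.quot P _ hK).res.comp (AlgHom.liftOfSurjective f.toAlgHom hf.1
      (ΔB ≫ ArtFun.Art.quotMk P _ hK).toAlgHom hker) = A.res := by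
    apply AlgHom.ext
    intro a
    obtain ⟨b, rfl⟩ := hf.1 a
    have h1 := congrArg (fun φ => (ArtFun.Art.quot P _ hK).res (φ b)) hs
    change (ArtFun.Art.quot P _ hK).res _ = (ArtFun.Art.quot P _ hK).res
      ((ΔB ≫ ArtFun.Art.quotMk P _ hK) b) at h1
    rw [ArtFun.Art.res_app] at h1
    exact h1.trans (ArtFun.Art.res_app f b).symm
  let s : A ⟶ ArtFun.Art.quot P _ hK := ⟨_, hres⟩
  have hsf : f ≫ s = ΔB ≫ ArtFun.Art.quotMk P _ hK := ArtFun.Art.hom_ext hs
  have hsq : s ≫ ArtFun.Art.quotFactor hK r hKr = ΔA := by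
    have h1 : f ≫ (s ≫ ArtFun.Art.quotFactor hK r hKr) = f ≫ ΔA := by
      rw [← Category.assoc, hsf, Category.assoc, ArtFun.Art.quotMk_quotFactor]
      apply ArtFun.Art.hom_ext
      apply AlgHom.ext
      intro b
      apply hQ.inj
      · change ((ΔB ≫ r) ≫ q₁) b = ((f ≫ ΔA) ≫ q₁) b
        rw [Category.assoc, Category.assoc, hr₁, hΔ1, ← Category.assoc, hΔB1, Category.id_comp,
          Category.comp_id]
      · change ((ΔB ≫ r) ≫ q₂) b = ((f ≫ ΔA) ≫ q₂) b
        rw [Category.assoc, Category.assoc, hr₂, hΔ2, ← Category.assoc, hΔB2, Category.id_comp,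
          Category.comp_id]
    apply ArtFun.Art.hom_ext
    apply AlgHom.ext
    intro a
    obtain ⟨b, rfl⟩ := hf.1 a
    exact congrArg (fun φ : B ⟶ Q => φ b) h1
  refine ⟨F.map s (F.map q₁ y), ?_⟩
  rw [← Groth.Agent.Lib.helper17.ArtAct.map_comp_apply, hsq]
  apply Groth.Agent.Lib.helper17.ArtAct.eq_of_cmp_injective hQ (h2' q₁ q₂ hQ).1
  · rw [← Groth.Agent.Lib.helper17.ArtAct.map_comp_apply, hΔ1,
      Groth.Agent.Lib.helper17.ArtAct.map_id_apply]
  · rw [← Groth.Agent.Lib.helper17.ArtAct.map_comp_apply, hΔ2,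
      Groth.Agent.Lib.helper17.ArtAct.map_id_apply]
    exact hy

end Groth.Agent.S15134
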