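import Groth.Statements.S15135
import Mathlib.LinearAlgebra.Isomorphisms
-- import your own Groth.Agent.* helpers here

set_option autoImplicit false
universe u v
open Deform

namespace Groth.Agent.S15135

theorem phi_zero {R : Type u} [CommRing R] {N : Type v} [AddCommGroup N] [Module R N]
    {M : Submodule R N} (φ : M →ₗ[R] (N ⧸ M)) (h : (0 : N) ∈ M) : φ ⟨0, h⟩ = 0 := by
  have : (⟨0, h⟩ : M) = 0 := rfl
  rw [this, map_zero]

/-- The submodule attached to `φ`. -/
def graphSub {R : Type u} [CommRing R] {N : Type v} [AddCommGroup N] [Module R N]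
    {M : Submodule R N} (φ : M →ₗ[R] (N ⧸ M)) : Submodule R (N × N) where
  carrier := {p | ∃ h : p.1 ∈ M, Submodule.Quotient.mk p.2 = φ ⟨p.1, h⟩}
  add_mem' := by
    rintro ⟨x, y⟩ ⟨x', y'⟩ ⟨h, e⟩ ⟨h', e'⟩
    refine ⟨M.add_mem h h', ?_⟩
    have : (⟨x + x', M.add_mem h h'⟩ : M) = ⟨x, h⟩ + ⟨x', h'⟩ := rfl
    change Submodule.Quotient.mk (y + y') = φ ⟨x + x', _⟩
    rw [this, map_add, Submodule.Quotient.mk_add]
    exact congrArg₂ (· + ·) e e'
  zero_mem' := ⟨M.zero_mem, by
    change Submodule.Quotient.mk (0 : N) = φ ⟨0, _⟩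
    rw [phi_zero, Submodule.Quotient.mk_zero]⟩
  smul_mem' := by
    rintro c ⟨x, y⟩ ⟨h, e⟩
    refine ⟨M.smul_mem c h, ?_⟩
    have : (⟨c • x, M.smul_mem c h⟩ : M) = c • ⟨x, h⟩ := rfl
    change Submodule.Quotient.mk (c • y) = φ ⟨c • x, _⟩
    rw [this, map_smul, Submodule.Quotient.mk_smul]
    exact congrArg (c • ·) e

theorem mem_graphSub {R : Type u} [CommRing R] {N : Type v} [AddCommGroup N] [Module R N]
    {M : Submodule R N} (φ : M →ₗ[R] (N ⧸ M)) (x y : N) :
    (x, y) ∈ graphSub φ ↔ ∃ h : x ∈ M, Submodule.Quotient.mk y = φ ⟨x, h⟩ := Iff.rfl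

/-- For R-modules M ⊆ N, the first-order embedded deformations of M in N are in canonical bijection with
Hom_R(M, N/M). Writing N ⊗ k[ε] = N ⊕ εN as N × N (the pair (x, y) standing for x + εy), such a
deformation is an R-submodule L of N × N which is stable under multiplication by ε (if (x, y) ∈ L
then (0, x) ∈ L), reduces to M (x ∈ M exactly when (x, y) ∈ L for some y) and is flat over the dual
numbers, flatness being stated elementwise as: (0, y) ∈ L only if y ∈ M (for a submodule reducing to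
M this is the equality of the kernel and the image of ε on L, i.e. flatness over k[ε] when R is an
algebra over a field k). To φ : M → N/M corresponds the submodule of all (x, y) with x ∈ M and y ≡
φ(x) mod M. The first clause says this rule defines exactly one submodule for each φ; the second
says that a submodule has the three properties precisely when its membership is given by this rule
for some φ. (The published statement is a linear isomorphism t_G ≅ Hom_R(M, N/M) for the functor G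
of flat deformations of M inside N ⊗ A over local Artinian algebras A; this row states only the
underlying bijection, and the obstruction half is not stated here.) -/
theorem result
    (R : Type u) [CommRing R] (N : Type v) [AddCommGroup N] [Module R N] (M : Submodule R N) :
    (∀ φ : M →ₗ[R] (N ⧸ M), ∃! L : Submodule R (N × N),
        ∀ x y : N, (x, y) ∈ L ↔ ∃ h : x ∈ M, Submodule.Quotient.mk y = φ ⟨x, h⟩) ∧
    (∀ L : Submodule R (N × N),
      ((∀ x y : N, (x, y) ∈ L → ((0 : N), x) ∈ L) ∧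
        (∀ x : N, x ∈ M ↔ ∃ y : N, (x, y) ∈ L) ∧
        (∀ y : N, ((0 : N), y) ∈ L → y ∈ M)) ↔
      ∃ φ : M →ₗ[R] (N ⧸ M), ∀ x y : N, (x, y) ∈ L ↔ ∃ h : x ∈ M, Submodule.Quotient.mk y = φ ⟨x, h⟩) := by
  refine ⟨fun φ => ⟨graphSub φ, mem_graphSub φ, fun L hL => ?_⟩, fun L => ⟨?_, ?_⟩⟩
  · ext ⟨x, y⟩
    rw [hL, mem_graphSub]
  · rintro ⟨h1, h2, h3⟩
    let fstL : L →ₗ[R] M := (LinearMap.fst R N N ∘ₗ L.subtype).codRestrict M
      (fun l => (h2 l.1.1).mpr ⟨l.1.2, l.2⟩)
    have hsurj : Function.Surjective fstL := by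
      rintro ⟨x, hx⟩
      obtain ⟨y, hy⟩ := (h2 x).mp hx
      exact ⟨⟨(x, y), hy⟩, rfl⟩
    let ψ : L →ₗ[R] N ⧸ M := M.mkQ ∘ₗ LinearMap.snd R N N ∘ₗ L.subtype
    have hker : LinearMap.ker fstL ≤ LinearMap.ker ψ := by
      rintro ⟨⟨x, y⟩, hl⟩ hx
      rw [LinearMap.mem_ker] at hx ⊢
      have hx0 : x = 0 := congrArg Subtype.val hx
      subst hx0
      change Submodule.Quotient.mk y = 0
      rw [Submodule.Quotient.mk_eq_zero]
      exact h3 y hl
    let φ : M →ₗ[R] N ⧸ M := ((LinearMap.ker fstL).liftQ ψ hker) ∘ₗ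
      (fstL.quotKerEquivOfSurjective hsurj).symm.toLinearMap
    have hφ : ∀ l : L, φ (fstL l) = ψ l := by
      intro l
      have : (fstL.quotKerEquivOfSurjective hsurj).symm (fstL l) =
          Submodule.Quotient.mk l := by
        rw [LinearEquiv.symm_apply_eq]
        rfl
      change (LinearMap.ker fstL).liftQ ψ hker
        ((fstL.quotKerEquivOfSurjective hsurj).symm (fstL l)) = ψ l
      rw [this]
      rfl
    have hfwd : ∀ x y : N, ∀ hl : (x, y) ∈ L, ∃ h : x ∈ M, Submodule.Quotient.mk y = φ ⟨x, h⟩ := by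
      intro x y hl
      exact ⟨(h2 x).mpr ⟨y, hl⟩, (hφ ⟨(x, y), hl⟩).symm⟩
    refine ⟨φ, fun x y => ⟨hfwd x y, ?_⟩⟩
    rintro ⟨h, e⟩
    obtain ⟨y0, hy0⟩ := (h2 x).mp h
    obtain ⟨_, e0⟩ := hfwd x y0 hy0
    have hdiff : y - y0 ∈ M := by
      rw [← Submodule.Quotient.eq, e, e0]
    obtain ⟨z, hz⟩ := (h2 _).mp hdiff
    have h0 := h1 _ _ hz
    have := L.add_mem hy0 h0
    simpa using this
  · rintro ⟨φ, hφ⟩
    refine ⟨fun x y hxy => ?_, fun x => ⟨fun hx => ?_, fun ⟨y, hy⟩ => ?_⟩, fun y hy => ?_⟩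
    · obtain ⟨hx, -⟩ := (hφ x y).mp hxy
      refine (hφ 0 x).mpr ⟨M.zero_mem, ?_⟩
      rw [phi_zero, Submodule.Quotient.mk_eq_zero]
      exact hx
    · obtain ⟨y, hy⟩ := Submodule.Quotient.mk_surjective M (φ ⟨x, hx⟩)
      exact ⟨y, (hφ x y).mpr ⟨hx, hy⟩⟩
    · exact ((hφ x y).mp hy).1
    · obtain ⟨h0, e⟩ := (hφ 0 y).mp hy
      rw [phi_zero, Submodule.Quotient.mk_eq_zero] at e
      exact e

end Groth.Agent.S15135
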