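import Groth.Statements.S1514
import Groth.Agent.Lib.Helper3.LciFP

set_option autoImplicit false
universe u
attribute [local instance] HasDerivedCategory.standard
open FlatMor

namespace Groth.Agent.S1514

open AlgebraicGeometry CategoryTheory Limits in
/-- A local complete intersection morphism (affine-locally: lci ring maps) is locally of finite
presentation, pseudo-coherent and perfect. -/
theorem result {X S : Scheme.{u}} (f : X ⟶ S)
    (hf : (∀ (U : X.Opens) (V : S.Opens) (hU : IsAffineOpen U) (hV : IsAffineOpen V) (hUV : U ≤ f ⁻¹ᵁ V),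
        letI := (f.appLE V U hUV).hom.toAlgebra
        LCI.IsLCI Γ(S, V) Γ(X, U))) :
    LocallyOfFinitePresentation f ∧ MoreMor.IsPseudoCoherentMor f ∧ MoreMor.IsPerfectMor f := by
  refine ⟨?_, ?_, ?_⟩
  · rw [HasRingHomProperty.iff_appLE (P := @LocallyOfFinitePresentation)]
    intro V U e
    have h := hf U.1 V.1 U.2 V.2 e
    exact @Groth.Agent.Lib.helper3.LciPerf.finitePresentation_of_isLCI _ _ _ _
      (f.appLE V.1 U.1 e).hom.toAlgebra h
  · intro U V hU hV hUV
    exact (@Groth.Agent.Lib.helper3.LciPerf.isPerfectHom_of_isLCI _ _ _ _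
      (f.appLE V U hUV).hom.toAlgebra (hf U V hU hV hUV)).1
  · intro U V hU hV hUV
    exact @Groth.Agent.Lib.helper3.LciPerf.isPerfectHom_of_isLCI _ _ _ _
      (f.appLE V U hUV).hom.toAlgebra (hf U V hU hV hUV)

end Groth.Agent.S1514
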