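import Groth.Statements.S15146
import Mathlib.RingTheory.PowerSeries.Inverse
-- import your own Groth.Agent.* helpers here

set_option autoImplicit false
universe u
open HilbZeta

namespace Groth.Agent.S15146

theorem exists_quot {k : Type u} [Field k] (a b : PowerSeries k) (l c : ℕ)
    (ha : a.order = ((l : ℕ) : ℕ∞)) (hb : ((l + c : ℕ) : ℕ∞) ≤ b.order) :
    ∃ q : PowerSeries k, b = q * a ∧ ((c : ℕ) : ℕ∞) ≤ q.order := by
  have ha0 : a ≠ 0 := by
    rintro rfl
    simp at ha
  obtain ⟨u, hu⟩ := PowerSeries.isUnit_divided_by_X_pow_order ha0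
  have ha' : a = PowerSeries.X ^ l * (u : PowerSeries k) := by
    conv_lhs => rw [← PowerSeries.X_pow_order_mul_divXPowOrder (f := a)]
    rw [ha, hu]
    simp
  have hdvd : (PowerSeries.X : PowerSeries k) ^ (l + c) ∣ b := by
    rw [PowerSeries.X_pow_dvd_iff]
    intro m hm
    exact PowerSeries.coeff_of_lt_order m (lt_of_lt_of_le (by exact_mod_cast hm) hb)
  obtain ⟨b', rfl⟩ := hdvd
  refine ⟨PowerSeries.X ^ c * (b' * ((u⁻¹ : (PowerSeries k)ˣ) : PowerSeries k)), ?_, ?_⟩
  · rw [ha', pow_add]
    have h1 : ((u⁻¹ : (PowerSeries k)ˣ) : PowerSeries k) * (u : PowerSeries k) = 1 :=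
      Units.inv_mul u
    calc PowerSeries.X ^ l * PowerSeries.X ^ c * b'
        = PowerSeries.X ^ l * PowerSeries.X ^ c * b' *
            (((u⁻¹ : (PowerSeries k)ˣ) : PowerSeries k) * (u : PowerSeries k)) := by
          rw [h1, mul_one]
      _ = _ := by ring
  · calc ((c : ℕ) : ℕ∞) = (PowerSeries.X ^ c : PowerSeries k).order :=
          (PowerSeries.order_X_pow c).symm
      _ ≤ (PowerSeries.X ^ c : PowerSeries k).order +
          (b' * ((u⁻¹ : (PowerSeries k)ˣ) : PowerSeries k)).order := le_self_add
      _ ≤ _ := PowerSeries.le_order_mul _ _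

/-- Let k be a field, s a natural number and R a k-subalgebra of the product of s copies of the power
series ring k[[x]], of finite codimension δ over k and local with residue field k (all components of
an element of R have the same constant term); write v_i for the x-adic order of the i-th component
of an s-tuple, and let c = (c_1, …, c_s) be the conductor exponents, so that an s-tuple f satisfies
f·g ∈ R for every s-tuple g exactly when v_i(f) ≥ c_i for all i (over an algebraically closed field
such an R is precisely the completed local ring of a reduced curve singularity having s branches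
sitting inside its normalisation, δ is its delta invariant and the conductor ideal is generated by
the x_i^{c_i}). If J is an ideal of R of finite colength which contains, for each i, an element f_i
with v_i(f_i) = l_i, then every s-tuple g with v_i(g) ≥ l_i + c_i for all i lies in R and belongs to
J. (The published statement is over an algebraically closed field; this row allows any field.) -/
theorem result (k : Type u) [Field k] (s : ℕ)
    (R : Subalgebra k (Fin s → PowerSeries k))
    (hfin : Module.Finite k ((Fin s → PowerSeries k) ⧸ Subalgebra.toSubmodule R))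
    (hloc : ∀ f ∈ R, ∀ i j : Fin s, PowerSeries.constantCoeff (f i) = PowerSeries.constantCoeff (f j))
    (c : Fin s → ℕ)
    (hc : ∀ f : Fin s → PowerSeries k,
      (∀ g : Fin s → PowerSeries k, g * f ∈ R) ↔ ∀ i, ((c i : ℕ) : ℕ∞) ≤ (f i).order)
    (J : Ideal ↥R) (hJ : Module.Finite k (↥R ⧸ J))
    (l : Fin s → ℕ) (hl : ∀ i : Fin s, ∃ f ∈ J, ((f : Fin s → PowerSeries k) i).order = ((l i : ℕ) : ℕ∞))
    (g : Fin s → PowerSeries k) (hg : ∀ i : Fin s, ((l i + c i : ℕ) : ℕ∞) ≤ (g i).order) :
    ∃ hgR : g ∈ R, (⟨g, hgR⟩ : ↥R) ∈ J := by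
  classical
  choose f hfJ hford using hl
  have hq : ∀ i, ∃ q : PowerSeries k, g i = q * (f i : Fin s → PowerSeries k) i ∧
      ((c i : ℕ) : ℕ∞) ≤ q.order := fun i => exists_quot _ _ _ _ (hford i) (hg i)
  choose q hgq hqc using hq
  have hmem : ∀ i, (Pi.single i (q i) : Fin s → PowerSeries k) ∈ R := by
    intro i
    have := (hc (Pi.single i (q i))).mpr (fun j => by
      by_cases hji : j = i
      · subst hji
        simpa using hqc j
      · simp [Pi.single_eq_of_ne hji]) 1
    simpa using this
  let t : ↥R := ∑ i, (⟨Pi.single i (q i), hmem i⟩ : ↥R) * f i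
  have htJ : t ∈ J := J.sum_mem fun i _ => Ideal.mul_mem_left _ _ (hfJ i)
  have hval : (t : Fin s → PowerSeries k) = g := by
    funext j
    simp only [t, AddSubmonoidClass.coe_finsetSum, MulMemClass.coe_mul, Finset.sum_apply,
      Pi.mul_apply]
    rw [Finset.sum_eq_single j]
    · simp [hgq j]
    · intro i _ hij
      simp [Pi.single_eq_of_ne (Ne.symm hij)]
    · intro h
      exact absurd (Finset.mem_univ j) h
  have hgR : g ∈ R := hval ▸ t.2
  refine ⟨hgR, ?_⟩
  have : (⟨g, hgR⟩ : ↥R) = t := Subtype.ext hval.symm
  rw [this]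
  exact htJ

end Groth.Agent.S15146
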