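import Groth.Statements.S15149
import Mathlib

set_option autoImplicit false
universe u
open HilbZeta

namespace Groth.Agent.S15149


open PowerSeries

section LemQ
variable {k : Type*} [Field k] {V U Q : Type*} [AddCommGroup V] [Module k V]
  [AddCommGroup U] [Module k U] [AddCommGroup Q] [Module k Q]

lemma exists_inj (A B : Submodule k V) (u : U →ₗ[k] V) (hu : LinearMap.range u = B)
    (q : U →ₗ[k] Q) (hq : Function.Surjective q) (hker : ∀ x, q x = 0 ↔ u x ∈ A) :
    ∃ ψ : Q →ₗ[k] (V ⧸ A), Function.Injective ψ ∧ LinearMap.range ψ = B.map A.mkQ := by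
  have hle : LinearMap.ker q ≤ LinearMap.ker (A.mkQ ∘ₗ u) := by
    intro x hx
    rw [LinearMap.mem_ker] at hx ⊢
    rw [LinearMap.comp_apply, Submodule.mkQ_apply, Submodule.Quotient.mk_eq_zero]
    exact (hker x).mp hx
  obtain ⟨e, he⟩ : ∃ e : (U ⧸ LinearMap.ker q) ≃ₗ[k] Q, ∀ x, e (Submodule.Quotient.mk x) = q x :=
    ⟨LinearMap.quotKerEquivOfSurjective q hq, fun x => rfl⟩
  obtain ⟨ψ, hψ⟩ : ∃ ψ : Q →ₗ[k] (V ⧸ A),
      ψ = ((LinearMap.ker q).liftQ (A.mkQ ∘ₗ u) hle) ∘ₗ e.symm.toLinearMap := ⟨_, rfl⟩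
  have hψq : ∀ x, ψ (q x) = A.mkQ (u x) := by
    intro x
    rw [hψ, LinearMap.comp_apply, ← he x]
    show ((LinearMap.ker q).liftQ (A.mkQ ∘ₗ u) hle) (e.symm (e (Submodule.Quotient.mk x))) = _
    rw [LinearEquiv.symm_apply_apply, Submodule.liftQ_apply]
    rfl
  refine ⟨ψ, ?_, ?_⟩
  · rw [injective_iff_map_eq_zero]
    intro y hy
    obtain ⟨x, rfl⟩ := hq y
    rw [hψq, Submodule.mkQ_apply, Submodule.Quotient.mk_eq_zero] at hy
    exact (hker x).mpr hy
  · apply le_antisymm
    · rintro _ ⟨y, rfl⟩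
      obtain ⟨x, rfl⟩ := hq y
      rw [hψq]
      exact Submodule.mem_map_of_mem (by rw [← hu]; exact LinearMap.mem_range_self u x)
    · rintro _ ⟨b, hb, rfl⟩
      have hb' : b ∈ LinearMap.range u := by rw [hu]; exact hb
      obtain ⟨x, rfl⟩ := hb'
      exact ⟨q x, hψq x⟩

lemma finQ (A B : Submodule k V) (hAB : A ≤ B) (u : U →ₗ[k] V) (hu : LinearMap.range u = B)
    (q : U →ₗ[k] Q) (hq : Function.Surjective q) (hker : ∀ x, q x = 0 ↔ u x ∈ A)
    [Module.Finite k Q] [Module.Finite k (V ⧸ B)] :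
    Module.Finite k (V ⧸ A) ∧
      Module.finrank k (V ⧸ A) = Module.finrank k Q + Module.finrank k (V ⧸ B) := by
  obtain ⟨ψ, hinj, hrange⟩ := exists_inj A B u hu q hq hker
  obtain ⟨eP⟩ : Nonempty (Q ≃ₗ[k] (B.map A.mkQ)) :=
    ⟨(LinearEquiv.ofInjective ψ hinj).trans (LinearEquiv.ofEq _ _ hrange)⟩
  obtain ⟨eQ⟩ : Nonempty (((V ⧸ A) ⧸ B.map A.mkQ) ≃ₗ[k] V ⧸ B) :=
    ⟨Submodule.quotientQuotientEquivQuotient A B hAB⟩
  haveI : Module.Finite k (B.map A.mkQ) := Module.Finite.equiv eP
  haveI : Module.Finite k ((V ⧸ A) ⧸ B.map A.mkQ) := Module.Finite.equiv eQ.symm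
  haveI hfin : Module.Finite k (V ⧸ A) := Module.Finite.of_submodule_quotient (B.map A.mkQ)
  refine ⟨hfin, ?_⟩
  have h1 := Submodule.finrank_quotient_add_finrank (B.map A.mkQ)
  rw [← h1, LinearEquiv.finrank_eq eQ, ← LinearEquiv.finrank_eq eP, add_comm]

lemma finQ' (A B : Submodule k V) (u : U →ₗ[k] V) (hu : LinearMap.range u = B)
    (q : U →ₗ[k] Q) (hq : Function.Surjective q) (hker : ∀ x, q x = 0 ↔ u x ∈ A)
    [Module.Finite k (V ⧸ A)] : Module.Finite k Q := by
  obtain ⟨ψ, hinj, -⟩ := exists_inj A B u hu q hq hker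
  exact Module.Finite.of_injective ψ hinj

end LemQ

section Conc
variable {k : Type u} [Field k] {s : ℕ} (R : Subalgebra k (Fin s → PowerSeries k))

/-- image of an ideal as a `k`-submodule of the ambient product -/
noncomputable def im (I : Ideal R) : Submodule k (Fin s → PowerSeries k) :=
  Submodule.map R.val.toLinearMap (I.restrictScalars k)

lemma mem_im (I : Ideal R) (x : Fin s → PowerSeries k) :
    x ∈ im R I ↔ ∃ r ∈ I, (r : Fin s → PowerSeries k) = x := by
  constructor
  · rintro ⟨r, hr, rfl⟩; exact ⟨r, hr, rfl⟩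
  · rintro ⟨r, hr, rfl⟩; exact ⟨r, hr, rfl⟩

lemma G1a (I : Ideal R) [Module.Finite k ((Fin s → PowerSeries k) ⧸ Subalgebra.toSubmodule R)]
    [Module.Finite k (R ⧸ I)] :
    Module.Finite k ((Fin s → PowerSeries k) ⧸ im R I) ∧
      Module.finrank k ((Fin s → PowerSeries k) ⧸ im R I) =
        Module.finrank k (R ⧸ I) + Module.finrank k ((Fin s → PowerSeries k) ⧸ Subalgebra.toSubmodule R) := by
  refine finQ (im R I) (Subalgebra.toSubmodule R) ?_ R.val.toLinearMap ?_
    ((Submodule.mkQ I).restrictScalars k) ?_ ?_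
  · intro x hx
    obtain ⟨r, _, rfl⟩ := (mem_im R I x).mp hx
    exact r.2
  · ext x
    constructor
    · rintro ⟨r, rfl⟩; exact r.2
    · intro hx; exact ⟨⟨x, hx⟩, rfl⟩
  · exact Submodule.mkQ_surjective I
  · intro r
    show Submodule.Quotient.mk r = 0 ↔ (r : Fin s → PowerSeries k) ∈ im R I
    rw [Submodule.Quotient.mk_eq_zero, mem_im]
    constructor
    · intro h; exact ⟨r, h, rfl⟩
    · rintro ⟨r', hr', h⟩
      have : r' = r := Subtype.ext h
      rw [← this]; exact hr'

lemma G1b (I : Ideal R) [Module.Finite k ((Fin s → PowerSeries k) ⧸ im R I)] :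
    Module.Finite k (R ⧸ I) := by
  refine finQ' (im R I) (Subalgebra.toSubmodule R) R.val.toLinearMap ?_
    ((Submodule.mkQ I).restrictScalars k) ?_ ?_
  · ext x
    constructor
    · rintro ⟨r, rfl⟩; exact r.2
    · intro hx; exact ⟨⟨x, hx⟩, rfl⟩
  · exact Submodule.mkQ_surjective I
  · intro r
    show Submodule.Quotient.mk r = 0 ↔ (r : Fin s → PowerSeries k) ∈ im R I
    rw [Submodule.Quotient.mk_eq_zero, mem_im]
    constructor
    · intro h; exact ⟨r, h, rfl⟩
    · rintro ⟨r', hr', h⟩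
      have : r' = r := Subtype.ext h
      rw [← this]; exact hr'

variable (j : Fin s)

/-- multiplication by ξ -/
noncomputable def mξ : (Fin s → PowerSeries k) →ₗ[k] (Fin s → PowerSeries k) :=
  LinearMap.mulLeft k (Pi.mulSingle j (PowerSeries.X : PowerSeries k))

lemma mξ_apply (f : Fin s → PowerSeries k) : mξ j f = Pi.mulSingle j (PowerSeries.X : PowerSeries k) * f := rfl

lemma ξ_self (f : Fin s → PowerSeries k) :
    ((Pi.mulSingle j (PowerSeries.X : PowerSeries k) : Fin s → PowerSeries k) * f) j = PowerSeries.X * f j := by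
  rw [Pi.mul_apply, Pi.mulSingle_eq_same]

lemma ξ_ne (f : Fin s → PowerSeries k) {i : Fin s} (hi : i ≠ j) :
    ((Pi.mulSingle j (PowerSeries.X : PowerSeries k) : Fin s → PowerSeries k) * f) i = f i := by
  rw [Pi.mul_apply, Pi.mulSingle_eq_of_ne hi, one_mul]

lemma mξ_inj : Function.Injective (mξ (k := k) (s := s) j) := by
  intro f g h
  funext i
  have hi := congrFun h i
  rw [mξ_apply j f, mξ_apply j g] at hi
  by_cases hij : i = j
  · subst hij
    rw [ξ_self, ξ_self] at hi
    exact mul_left_cancel₀ PowerSeries.X_ne_zero hi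
  · rw [ξ_ne j f hij, ξ_ne j g hij] at hi
    exact hi

/-- evaluation of the constant coefficient of the `j`-th component -/
noncomputable def εj : (Fin s → PowerSeries k) →ₗ[k] k :=
  (PowerSeries.coeff 0 : PowerSeries k →ₗ[k] k) ∘ₗ (LinearMap.proj j)

lemma ker_εj : LinearMap.ker (εj (k := k) (s := s) j) = LinearMap.range (mξ (k := k) (s := s) j) := by
  ext f
  rw [LinearMap.mem_ker]
  constructor
  · intro h
    have h0 : PowerSeries.constantCoeff (f j) = 0 := by
      rw [← PowerSeries.coeff_zero_eq_constantCoeff_apply]; exact h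
    obtain ⟨w, hw⟩ := PowerSeries.X_dvd_iff.mpr h0
    refine ⟨Function.update f j w, ?_⟩
    funext i
    rw [mξ_apply j]
    by_cases hij : i = j
    · subst hij
      rw [ξ_self, Function.update_self, hw]
    · rw [ξ_ne j _ hij, Function.update_of_ne hij]
  · rintro ⟨g, rfl⟩
    show PowerSeries.coeff 0 ((mξ j g) j) = 0
    rw [mξ_apply j, ξ_self, PowerSeries.coeff_zero_X_mul]

lemma εj_surj : Function.Surjective (εj (k := k) (s := s) j) := by
  intro c
  refine ⟨fun _ => PowerSeries.C c, ?_⟩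
  show PowerSeries.coeff 0 (PowerSeries.C c) = c
  rw [PowerSeries.coeff_zero_C]

lemma fin_range : Module.Finite k ((Fin s → PowerSeries k) ⧸ LinearMap.range (mξ (k := k) (s := s) j)) ∧
    Module.finrank k ((Fin s → PowerSeries k) ⧸ LinearMap.range (mξ (k := k) (s := s) j)) = 1 := by
  obtain ⟨e⟩ : Nonempty (((Fin s → PowerSeries k) ⧸ LinearMap.range (mξ (k := k) (s := s) j)) ≃ₗ[k] k) :=
    ⟨(Submodule.quotEquivOfEq _ _ (ker_εj j).symm).trans
      (LinearMap.quotKerEquivOfSurjective (εj j) (εj_surj j))⟩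
  exact ⟨Module.Finite.equiv e.symm, by rw [LinearEquiv.finrank_eq e, Module.finrank_self]⟩

lemma G2a (A' : Submodule k (Fin s → PowerSeries k)) [Module.Finite k ((Fin s → PowerSeries k) ⧸ A')] :
    Module.Finite k ((Fin s → PowerSeries k) ⧸ A'.map (mξ j)) ∧
      Module.finrank k ((Fin s → PowerSeries k) ⧸ A'.map (mξ j)) =
        Module.finrank k ((Fin s → PowerSeries k) ⧸ A') + 1 := by
  haveI := (fin_range (k := k) (s := s) j).1
  have h := finQ (A'.map (mξ j)) (LinearMap.range (mξ (k := k) (s := s) j)) (LinearMap.map_le_range)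
    (mξ j) rfl A'.mkQ (Submodule.mkQ_surjective A') (fun f => by
      rw [Submodule.mkQ_apply, Submodule.Quotient.mk_eq_zero]
      constructor
      · intro hf; exact Submodule.mem_map_of_mem hf
      · rintro ⟨g, hg, hgf⟩
        rw [← mξ_inj j hgf]; exact hg)
  rw [(fin_range (k := k) (s := s) j).2] at h
  exact h

lemma G2b (A' : Submodule k (Fin s → PowerSeries k))
    [Module.Finite k ((Fin s → PowerSeries k) ⧸ A'.map (mξ j))] :
    Module.Finite k ((Fin s → PowerSeries k) ⧸ A') := by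
  exact finQ' (A'.map (mξ j)) (LinearMap.range (mξ (k := k) (s := s) j))
    (mξ j) rfl A'.mkQ (Submodule.mkQ_surjective A') (fun f => by
      rw [Submodule.mkQ_apply, Submodule.Quotient.mk_eq_zero]
      constructor
      · intro hf; exact Submodule.mem_map_of_mem hf
      · rintro ⟨g, hg, hgf⟩
        rw [← mξ_inj j hgf]; exact hg)

lemma im_eq (I J : Ideal R)
    (hIJ : (Subtype.val '' (J : Set ↥R)) =
      (fun f => Pi.mulSingle j PowerSeries.X * f) '' (Subtype.val '' (I : Set ↥R))) :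
    im R J = (im R I).map (mξ j) := by
  ext x
  rw [mem_im, Submodule.mem_map]
  constructor
  · rintro ⟨r, hr, rfl⟩
    have h1 : (r : Fin s → PowerSeries k) ∈ Subtype.val '' (J : Set ↥R) := ⟨r, hr, rfl⟩
    rw [hIJ] at h1
    obtain ⟨_, ⟨f, hf, rfl⟩, hfx⟩ := h1
    exact ⟨f, (mem_im R I _).mpr ⟨f, hf, rfl⟩, hfx⟩
  · rintro ⟨y, hy, rfl⟩
    obtain ⟨f, hf, rfl⟩ := (mem_im R I y).mp hy
    have h1 : mξ j (f : Fin s → PowerSeries k) ∈ Subtype.val '' (J : Set ↥R) := by
      rw [hIJ]; exact ⟨_, ⟨f, hf, rfl⟩, rfl⟩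
    obtain ⟨r, hr, hrx⟩ := h1
    exact ⟨r, hr, hrx⟩

lemma dimLem [Module.Finite k ((Fin s → PowerSeries k) ⧸ Subalgebra.toSubmodule R)] (I J : Ideal R)
    (hIJ : (Subtype.val '' (J : Set ↥R)) =
      (fun f => Pi.mulSingle j PowerSeries.X * f) '' (Subtype.val '' (I : Set ↥R)))
    [Module.Finite k (R ⧸ I)] :
    Module.Finite k (R ⧸ J) ∧ Module.finrank k (R ⧸ J) = Module.finrank k (R ⧸ I) + 1 := by
  obtain ⟨h1, h2⟩ := G1a R I
  haveI := h1
  obtain ⟨h3, h4⟩ := G2a j (im R I)
  rw [← im_eq R j I J hIJ] at h3 h4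
  haveI := h3
  haveI hJ : Module.Finite k (R ⧸ J) := G1b R J
  obtain ⟨_, h6⟩ := G1a R J
  refine ⟨hJ, ?_⟩
  omega

lemma dimLem' [Module.Finite k ((Fin s → PowerSeries k) ⧸ Subalgebra.toSubmodule R)] (I J : Ideal R)
    (hIJ : (Subtype.val '' (J : Set ↥R)) =
      (fun f => Pi.mulSingle j PowerSeries.X * f) '' (Subtype.val '' (I : Set ↥R)))
    [Module.Finite k (R ⧸ J)] :
    Module.Finite k (R ⧸ I) := by
  obtain ⟨h1, _⟩ := G1a R J
  rw [im_eq R j I J hIJ] at h1
  haveI := h1
  haveI := G2b j (im R I)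
  exact G1b R I

end Conc

section Main
variable {k : Type u} [Field k] {s : ℕ} (R : Subalgebra k (Fin s → PowerSeries k))
  (c : Fin s → ℕ)
  (hc : ∀ f : Fin s → PowerSeries k,
      (∀ g : Fin s → PowerSeries k, g * f ∈ R) ↔ ∀ i, ((c i : ℕ) : ℕ∞) ≤ (f i).order)
  (j : Fin s)

include hc in
lemma single_mem (h : PowerSeries k) (hh : ((c j : ℕ) : ℕ∞) ≤ h.order) :
    (Pi.single j h : Fin s → PowerSeries k) ∈ R := by
  have h1 : ∀ g : Fin s → PowerSeries k, g * Pi.single j h ∈ R := by
    rw [hc]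
    intro i
    by_cases hij : i = j
    · subst hij; rw [Pi.single_eq_same]; exact hh
    · rw [Pi.single_eq_of_ne hij, PowerSeries.order_zero]; exact le_top
  have h2 := h1 1
  rwa [one_mul] at h2

lemma ord_of_type (I : Ideal R) (i : Fin s) (n : ℕ)
    (ha : Ideal.map ((Pi.evalAlgHom k (fun _ : Fin s => PowerSeries k) i).comp R.val) I =
      Ideal.span {PowerSeries.X ^ n})
    (f : R) (hf : f ∈ I) : ((n : ℕ) : ℕ∞) ≤ ((f : Fin s → PowerSeries k) i).order := by
  have hmem : ((Pi.evalAlgHom k (fun _ : Fin s => PowerSeries k) i).comp R.val) f ∈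
      Ideal.span {(PowerSeries.X : PowerSeries k) ^ n} := by
    rw [← ha]
    exact Ideal.mem_map_of_mem _ hf
  rw [Ideal.mem_span_singleton] at hmem
  obtain ⟨w, hw⟩ := hmem
  change (f : Fin s → PowerSeries k) i = _ at hw
  rw [hw]
  calc ((n : ℕ) : ℕ∞) = (PowerSeries.X ^ n : PowerSeries k).order :=
        (PowerSeries.order_X_pow _).symm
    _ ≤ (PowerSeries.X ^ n : PowerSeries k).order + w.order := le_self_add
    _ ≤ _ := PowerSeries.le_order_mul _ _

lemma ξ_decomp (f : Fin s → PowerSeries k) :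
    (Pi.mulSingle j (PowerSeries.X : PowerSeries k) : Fin s → PowerSeries k) * f =
      f + Pi.single j ((PowerSeries.X - 1) * f j) := by
  funext i
  by_cases hij : i = j
  · subst hij; rw [ξ_self, Pi.add_apply, Pi.single_eq_same]; ring
  · rw [ξ_ne j f hij, Pi.add_apply, Pi.single_eq_of_ne hij, add_zero]

include hc in
lemma ξ_mem (f : Fin s → PowerSeries k) (hf : f ∈ R) (hord : ((c j : ℕ) : ℕ∞) ≤ (f j).order) :
    (Pi.mulSingle j (PowerSeries.X : PowerSeries k) : Fin s → PowerSeries k) * f ∈ R := by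
  rw [ξ_decomp]
  apply R.add_mem hf
  apply single_mem R c hc j
  exact hord.trans ((le_add_self).trans (PowerSeries.le_order_mul _ _))

include hc in
lemma ξ_div (g : Fin s → PowerSeries k) (hg : g ∈ R) (n : ℕ) (hn : c j ≤ n)
    (hord : ((n + 1 : ℕ) : ℕ∞) ≤ (g j).order) :
    ∃ f : Fin s → PowerSeries k, f ∈ R ∧
      g = (Pi.mulSingle j (PowerSeries.X : PowerSeries k) : Fin s → PowerSeries k) * f := by
  have h0 : PowerSeries.constantCoeff (g j) = 0 := by
    rw [← PowerSeries.coeff_zero_eq_constantCoeff_apply]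
    apply PowerSeries.coeff_of_lt_order
    refine lt_of_lt_of_le ?_ hord
    exact_mod_cast Nat.succ_pos n
  obtain ⟨w, hw⟩ := PowerSeries.X_dvd_iff.mpr h0
  have hword : ((n : ℕ) : ℕ∞) ≤ w.order := by
    apply PowerSeries.le_order
    intro m hm
    rw [← PowerSeries.coeff_succ_X_mul, ← hw]
    apply PowerSeries.coeff_of_lt_order
    refine lt_of_lt_of_le ?_ hord
    have hmn : m < n := by exact_mod_cast hm
    exact_mod_cast Nat.succ_lt_succ hmn
  have hgf : g = (Pi.mulSingle j (PowerSeries.X : PowerSeries k) : Fin s → PowerSeries k) *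
      Function.update g j w := by
    funext i
    by_cases hij : i = j
    · subst hij; rw [ξ_self, Function.update_self, hw]
    · rw [ξ_ne j _ hij, Function.update_of_ne hij]
  refine ⟨Function.update g j w, ?_, hgf⟩
  have e : Function.update g j w = g - Pi.single j ((PowerSeries.X - 1) * w) := by
    funext i
    by_cases hij : i = j
    · subst hij; rw [Function.update_self, Pi.sub_apply, Pi.single_eq_same, hw]; ring
    · rw [Function.update_of_ne hij, Pi.sub_apply, Pi.single_eq_of_ne hij, sub_zero]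
  rw [e]
  apply R.sub_mem hg
  apply single_mem R c hc j
  have hcn : ((c j : ℕ) : ℕ∞) ≤ ((n : ℕ) : ℕ∞) := by exact_mod_cast hn
  exact hcn.trans (hword.trans ((le_add_self).trans (PowerSeries.le_order_mul _ _)))

/-- `ξ I` as an ideal of `R` -/
def Jof (I : Ideal R) : Ideal R where
  carrier := {r | ∃ f ∈ I, (r : Fin s → PowerSeries k) =
    (Pi.mulSingle j (PowerSeries.X : PowerSeries k) : Fin s → PowerSeries k) * (f : Fin s → PowerSeries k)}
  add_mem' := by
    rintro a b ⟨f, hf, ha⟩ ⟨g, hg, hb⟩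
    refine ⟨f + g, I.add_mem hf hg, ?_⟩
    show (a : Fin s → PowerSeries k) + b = _ * ((f : Fin s → PowerSeries k) + g)
    rw [ha, hb, mul_add]
  zero_mem' := ⟨0, I.zero_mem, by
    show (0 : Fin s → PowerSeries k) = _ * (0 : Fin s → PowerSeries k)
    rw [mul_zero]⟩
  smul_mem' := by
    rintro r a ⟨f, hf, ha⟩
    refine ⟨r * f, I.mul_mem_left r hf, ?_⟩
    show (r : Fin s → PowerSeries k) * a = _ * ((r : Fin s → PowerSeries k) * f)
    rw [ha]; ring

/-- `ξ⁻¹ J` as an ideal of `R` -/
def Iof (J : Ideal R) : Ideal R where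
  carrier := {r | ∃ g ∈ J, (g : Fin s → PowerSeries k) =
    (Pi.mulSingle j (PowerSeries.X : PowerSeries k) : Fin s → PowerSeries k) * (r : Fin s → PowerSeries k)}
  add_mem' := by
    rintro a b ⟨f, hf, ha⟩ ⟨g, hg, hb⟩
    refine ⟨f + g, J.add_mem hf hg, ?_⟩
    show (f : Fin s → PowerSeries k) + g = _ * ((a : Fin s → PowerSeries k) + b)
    rw [ha, hb, mul_add]
  zero_mem' := ⟨0, J.zero_mem, by
    show (0 : Fin s → PowerSeries k) = _ * (0 : Fin s → PowerSeries k)
    rw [mul_zero]⟩
  smul_mem' := by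
    rintro r a ⟨g, hg, ha⟩
    refine ⟨r * g, J.mul_mem_left r hg, ?_⟩
    show (r : Fin s → PowerSeries k) * g = _ * ((r : Fin s → PowerSeries k) * a)
    rw [ha]; ring

lemma type_ne (I J : Ideal R)
    (hIJ : (Subtype.val '' (J : Set ↥R)) =
      (fun f => Pi.mulSingle j PowerSeries.X * f) '' (Subtype.val '' (I : Set ↥R)))
    {i : Fin s} (hi : i ≠ j) :
    Ideal.map ((Pi.evalAlgHom k (fun _ : Fin s => PowerSeries k) i).comp R.val) J =
      Ideal.map ((Pi.evalAlgHom k (fun _ : Fin s => PowerSeries k) i).comp R.val) I := by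
  have himg : ((Pi.evalAlgHom k (fun _ : Fin s => PowerSeries k) i).comp R.val) '' (J : Set R) =
      ((Pi.evalAlgHom k (fun _ : Fin s => PowerSeries k) i).comp R.val) '' (I : Set R) := by
    ext x
    constructor
    · rintro ⟨r, hr, rfl⟩
      have h1 : (r : Fin s → PowerSeries k) ∈ Subtype.val '' (J : Set ↥R) := ⟨r, hr, rfl⟩
      rw [hIJ] at h1
      obtain ⟨_, ⟨f, hf, rfl⟩, hfx⟩ := h1
      refine ⟨f, hf, ?_⟩
      show (f : Fin s → PowerSeries k) i = (r : Fin s → PowerSeries k) i
      rw [← hfx]; exact (ξ_ne j _ hi).symm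
    · rintro ⟨f, hf, rfl⟩
      have h1 : (Pi.mulSingle j (PowerSeries.X : PowerSeries k) : Fin s → PowerSeries k) *
          (f : Fin s → PowerSeries k) ∈ Subtype.val '' (J : Set ↥R) := by
        rw [hIJ]; exact ⟨_, ⟨f, hf, rfl⟩, rfl⟩
      obtain ⟨r, hr, hrx⟩ := h1
      refine ⟨r, hr, ?_⟩
      show (r : Fin s → PowerSeries k) i = (f : Fin s → PowerSeries k) i
      rw [hrx]; exact ξ_ne j _ hi
  unfold Ideal.map
  rw [himg]

lemma type_eq (I J : Ideal R)
    (hIJ : (Subtype.val '' (J : Set ↥R)) =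
      (fun f => Pi.mulSingle j PowerSeries.X * f) '' (Subtype.val '' (I : Set ↥R))) :
    Ideal.map ((Pi.evalAlgHom k (fun _ : Fin s => PowerSeries k) j).comp R.val) J =
      Submodule.map (LinearMap.mulLeft (PowerSeries k) (PowerSeries.X : PowerSeries k))
        (Ideal.map ((Pi.evalAlgHom k (fun _ : Fin s => PowerSeries k) j).comp R.val) I) := by
  have himg : ((Pi.evalAlgHom k (fun _ : Fin s => PowerSeries k) j).comp R.val) '' (J : Set R) =
      (LinearMap.mulLeft (PowerSeries k) (PowerSeries.X : PowerSeries k)) ''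
        (((Pi.evalAlgHom k (fun _ : Fin s => PowerSeries k) j).comp R.val) '' (I : Set R)) := by
    ext x
    constructor
    · rintro ⟨r, hr, rfl⟩
      have h1 : (r : Fin s → PowerSeries k) ∈ Subtype.val '' (J : Set ↥R) := ⟨r, hr, rfl⟩
      rw [hIJ] at h1
      obtain ⟨_, ⟨f, hf, rfl⟩, hfx⟩ := h1
      refine ⟨_, ⟨f, hf, rfl⟩, ?_⟩
      show PowerSeries.X * (f : Fin s → PowerSeries k) j = (r : Fin s → PowerSeries k) j
      rw [← hfx]; exact (ξ_self j _).symm
    · rintro ⟨_, ⟨f, hf, rfl⟩, rfl⟩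
      have h1 : (Pi.mulSingle j (PowerSeries.X : PowerSeries k) : Fin s → PowerSeries k) *
          (f : Fin s → PowerSeries k) ∈ Subtype.val '' (J : Set ↥R) := by
        rw [hIJ]; exact ⟨_, ⟨f, hf, rfl⟩, rfl⟩
      obtain ⟨r, hr, hrx⟩ := h1
      refine ⟨r, hr, ?_⟩
      show (r : Fin s → PowerSeries k) j = PowerSeries.X * (f : Fin s → PowerSeries k) j
      rw [hrx]; exact ξ_self j _
  show Submodule.span (PowerSeries k) _ = Submodule.map _ (Submodule.span (PowerSeries k) _)
  rw [Submodule.map_span, himg]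

lemma map_span_X (n : ℕ) :
    Submodule.map (LinearMap.mulLeft (PowerSeries k) (PowerSeries.X : PowerSeries k))
      (Ideal.span {(PowerSeries.X : PowerSeries k) ^ n}) =
      Ideal.span {(PowerSeries.X : PowerSeries k) ^ (n + 1)} := by
  show Submodule.map _ (Submodule.span (PowerSeries k) _) = Submodule.span (PowerSeries k) _
  rw [Submodule.map_span, Set.image_singleton, LinearMap.mulLeft_apply, ← pow_succ']

lemma mX_inj : Function.Injective
    (LinearMap.mulLeft (PowerSeries k) (PowerSeries.X : PowerSeries k)) := by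
  intro a b h
  rw [LinearMap.mulLeft_apply, LinearMap.mulLeft_apply] at h
  exact mul_left_cancel₀ PowerSeries.X_ne_zero h

end Main


/-- Let k be a field, s a natural number and R a k-subalgebra of the product of s copies of the power
series ring k[[x]], of finite codimension δ over k and local with residue field k (all components of
an element of R have the same constant term); write v_i for the x-adic order of the i-th component
of an s-tuple, and let c = (c_1, …, c_s) be the conductor exponents, so that an s-tuple f satisfies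
f·g ∈ R for every s-tuple g exactly when v_i(f) ≥ c_i for all i (over an algebraically closed field
such an R is precisely the completed local ring of a reduced curve singularity having s branches
sitting inside its normalisation, δ is its delta invariant and the conductor ideal is generated by
the x_i^{c_i}). Fix a branch j, a colength d and a branch-length vector a = (a_1, …, a_s) with a_j ≥
c_j, and let ξ be the s-tuple with x in the j-th place and 1 elsewhere. Call an ideal I of R of type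
(d, a) when it has colength d and, for every i, the ideal of k[[x]] generated by the i-th components
of its elements is (x^{a_i}). Then multiplication by ξ is a bijection from the ideals of type (d, a)
onto the ideals of type (d + 1, a + e_j), where a + e_j is a with its j-th entry raised by one: for
every ideal I of type (d, a) the set ξ·I is (the image of) an ideal of type (d + 1, a + e_j), and
every ideal of type (d + 1, a + e_j) is ξ·I for some ideal I of type (d, a). (The published
statement is the equality, in the Grothendieck ring of varieties, of the classes of the two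
corresponding branch-length strata of the punctual Hilbert scheme; this row states the bijection on
ideals underlying it, which is what the argument establishes; the published statement is over an
algebraically closed field, and this row allows any field.) -/
theorem result (k : Type u) [Field k] (s : ℕ)
    (R : Subalgebra k (Fin s → PowerSeries k))
    (hfin : Module.Finite k ((Fin s → PowerSeries k) ⧸ Subalgebra.toSubmodule R))
    (hloc : ∀ f ∈ R, ∀ i j : Fin s, PowerSeries.constantCoeff (f i) = PowerSeries.constantCoeff (f j))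
    (c : Fin s → ℕ)
    (hc : ∀ f : Fin s → PowerSeries k,
      (∀ g : Fin s → PowerSeries k, g * f ∈ R) ↔ ∀ i, ((c i : ℕ) : ℕ∞) ≤ (f i).order)
    (j : Fin s) (d : ℕ) (a : Fin s → ℕ) (hj : c j ≤ a j) :
    (∀ I ∈ {I : Ideal ↥R | Module.Finite k (↥R ⧸ I) ∧ Module.finrank k (↥R ⧸ I) = d ∧ (∀ i : Fin s, Ideal.map ((Pi.evalAlgHom k (fun _ : Fin s => PowerSeries k) i).comp R.val) I = Ideal.span {PowerSeries.X ^ (a i)})},
      ∃ J ∈ {I : Ideal ↥R | Module.Finite k (↥R ⧸ I) ∧ Module.finrank k (↥R ⧸ I) = d + 1 ∧ (∀ i : Fin s, Ideal.map ((Pi.evalAlgHom k (fun _ : Fin s => PowerSeries k) i).comp R.val) I = Ideal.span {PowerSeries.X ^ ((Function.update a j (a j + 1)) i)})},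
        (Subtype.val '' (J : Set ↥R)) = (fun f => Pi.mulSingle j PowerSeries.X * f) '' (Subtype.val '' (I : Set ↥R))) ∧
    (∀ J ∈ {I : Ideal ↥R | Module.Finite k (↥R ⧸ I) ∧ Module.finrank k (↥R ⧸ I) = d + 1 ∧ (∀ i : Fin s, Ideal.map ((Pi.evalAlgHom k (fun _ : Fin s => PowerSeries k) i).comp R.val) I = Ideal.span {PowerSeries.X ^ ((Function.update a j (a j + 1)) i)})},
      ∃ I ∈ {I : Ideal ↥R | Module.Finite k (↥R ⧸ I) ∧ Module.finrank k (↥R ⧸ I) = d ∧ (∀ i : Fin s, Ideal.map ((Pi.evalAlgHom k (fun _ : Fin s => PowerSeries k) i).comp R.val) I = Ideal.span {PowerSeries.X ^ (a i)})},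
        (Subtype.val '' (J : Set ↥R)) = (fun f => Pi.mulSingle j PowerSeries.X * f) '' (Subtype.val '' (I : Set ↥R))) := by
  haveI := hfin
  constructor
  · intro I hI
    obtain ⟨hIfin, hIrank, hItype⟩ := hI
    haveI := hIfin
    have hordI : ∀ f ∈ I, ((c j : ℕ) : ℕ∞) ≤ ((f : Fin s → PowerSeries k) j).order := by
      intro f hf
      have h1 := ord_of_type R I j (a j) (hItype j) f hf
      have h2 : ((c j : ℕ) : ℕ∞) ≤ ((a j : ℕ) : ℕ∞) := by exact_mod_cast hj
      exact h2.trans h1
    have hIJ : (Subtype.val '' ((Jof R j I : Ideal R) : Set ↥R)) =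
        (fun f => Pi.mulSingle j PowerSeries.X * f) '' (Subtype.val '' (I : Set ↥R)) := by
      ext x
      constructor
      · rintro ⟨r, ⟨f, hf, hrf⟩, rfl⟩
        exact ⟨f, ⟨f, hf, rfl⟩, hrf.symm⟩
      · rintro ⟨_, ⟨f, hf, rfl⟩, rfl⟩
        have hm := ξ_mem R c hc j (f : Fin s → PowerSeries k) f.2 (hordI f hf)
        exact ⟨⟨_, hm⟩, ⟨f, hf, rfl⟩, rfl⟩
    obtain ⟨hJfin, hJrank⟩ := dimLem R j I (Jof R j I) hIJ
    refine ⟨Jof R j I, ⟨hJfin, by rw [hJrank, hIrank], ?_⟩, hIJ⟩
    intro i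
    by_cases hij : i = j
    · rw [hij, type_eq R j I (Jof R j I) hIJ, hItype j, map_span_X, Function.update_self]
    · rw [type_ne R j I (Jof R j I) hIJ hij, hItype i, Function.update_of_ne hij]
  · intro J hJ
    obtain ⟨hJfin, hJrank, hJtype⟩ := hJ
    haveI := hJfin
    have hordJ : ∀ g ∈ J, ((a j + 1 : ℕ) : ℕ∞) ≤ ((g : Fin s → PowerSeries k) j).order := by
      intro g hg
      have h1 := ord_of_type R J j (Function.update a j (a j + 1) j) (hJtype j) g hg
      rwa [Function.update_self] at h1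
    have hIJ : (Subtype.val '' (J : Set ↥R)) =
        (fun f => Pi.mulSingle j PowerSeries.X * f) '' (Subtype.val '' ((Iof R j J : Ideal R) : Set ↥R)) := by
      ext x
      constructor
      · rintro ⟨g, hg, rfl⟩
        obtain ⟨f, hfR, hgf⟩ := ξ_div R c hc j (g : Fin s → PowerSeries k) g.2 (a j) hj (hordJ g hg)
        exact ⟨f, ⟨⟨f, hfR⟩, ⟨g, hg, hgf⟩, rfl⟩, hgf.symm⟩
      · rintro ⟨_, ⟨r, ⟨g, hg, hgr⟩, rfl⟩, rfl⟩
        exact ⟨g, hg, hgr⟩
    haveI hIfin : Module.Finite k (R ⧸ Iof R j J) := dimLem' R j (Iof R j J) J hIJ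
    obtain ⟨_, hrank⟩ := dimLem R j (Iof R j J) J hIJ
    refine ⟨Iof R j J, ⟨hIfin, by omega, ?_⟩, hIJ⟩
    intro i
    by_cases hij : i = j
    · rw [hij]
      have h1 := type_eq R j (Iof R j J) J hIJ
      rw [hJtype j, Function.update_self, ← map_span_X] at h1
      exact (Submodule.map_injective_of_injective mX_inj h1).symm
    · have h1 := type_ne R j (Iof R j J) J hIJ hij
      rw [hJtype i, Function.update_of_ne hij] at h1
      exact h1.symm


end Groth.Agent.S15149
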