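import Groth.Statements.S15148
import Mathlib
import Groth.Agent.S15147
import Groth.Agent.S15149

set_option autoImplicit false
universe u
open HilbZeta

namespace Groth.Agent.S15148


open Groth.Agent.S15149

section LemM
variable {k : Type*} [Field k] {V : Type*} [AddCommGroup V] [Module k V]

lemma lemM (A B : Submodule k V) (hAB : A ≤ B) [Module.Finite k (V ⧸ A)] :
    Module.finrank k (V ⧸ B) ≤ Module.finrank k (V ⧸ A) ∧
      (A ≠ B → Module.finrank k (V ⧸ B) < Module.finrank k (V ⧸ A)) := by
  haveI hB : Module.Finite k (V ⧸ B) :=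
    Module.Finite.of_surjective (Submodule.mapQ A B LinearMap.id hAB) (by
      intro y
      obtain ⟨v, rfl⟩ := Submodule.mkQ_surjective B y
      exact ⟨Submodule.Quotient.mk v, rfl⟩)
  have hu : LinearMap.range B.subtype = B := Submodule.range_subtype B
  have hker : ∀ x : B, (A.comap B.subtype).mkQ x = 0 ↔ B.subtype x ∈ A := by
    intro x
    rw [Submodule.mkQ_apply, Submodule.Quotient.mk_eq_zero, Submodule.mem_comap]
  haveI hQ : Module.Finite k (↥B ⧸ A.comap B.subtype) :=
    finQ' A B B.subtype hu (A.comap B.subtype).mkQ (Submodule.mkQ_surjective _) hker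
  obtain ⟨_, h⟩ := finQ A B hAB B.subtype hu (A.comap B.subtype).mkQ (Submodule.mkQ_surjective _) hker
  refine ⟨by omega, fun hne => ?_⟩
  have hpos : 0 < Module.finrank k (↥B ⧸ A.comap B.subtype) := by
    rw [Nat.pos_iff_ne_zero]
    intro h0
    rw [finrank_zero_iff_forall_zero] at h0
    apply hne
    apply le_antisymm hAB
    intro b hb
    have := h0 ((A.comap B.subtype).mkQ ⟨b, hb⟩)
    exact (hker ⟨b, hb⟩).mp this
  omega

end LemM

section Conc
variable {k : Type u} [Field k] {s : ℕ}

/-- the truncation map `f ↦ (coeff m (f i))_{m < b i}` -/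
noncomputable def Φ (b : Fin s → ℕ) : (Fin s → PowerSeries k) →ₗ[k] (Π i : Fin s, Fin (b i) → k) :=
  LinearMap.pi fun i => LinearMap.pi fun m =>
    (PowerSeries.coeff (m : ℕ) : PowerSeries k →ₗ[k] k) ∘ₗ LinearMap.proj i

lemma Φ_apply (b : Fin s → ℕ) (f : Fin s → PowerSeries k) (i : Fin s) (m : Fin (b i)) :
    Φ b f i m = PowerSeries.coeff (m : ℕ) (f i) := rfl

lemma mem_ker_Φ (b : Fin s → ℕ) (f : Fin s → PowerSeries k) :
    f ∈ LinearMap.ker (Φ (k := k) b) ↔ ∀ i, ((b i : ℕ) : ℕ∞) ≤ (f i).order := by
  rw [LinearMap.mem_ker]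
  constructor
  · intro h i
    apply PowerSeries.le_order
    intro m hm
    have hm' : m < b i := by exact_mod_cast hm
    have h1 := congrFun (congrFun h i) ⟨m, hm'⟩
    exact h1
  · intro h
    funext i m
    show PowerSeries.coeff (m : ℕ) (f i) = 0
    apply PowerSeries.coeff_of_lt_order
    refine lt_of_lt_of_le ?_ (h i)
    exact_mod_cast m.2

lemma Φ_surj (b : Fin s → ℕ) : Function.Surjective (Φ (k := k) b) := by
  intro y
  refine ⟨fun i => PowerSeries.mk fun m => if h : m < b i then y i ⟨m, h⟩ else 0, ?_⟩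
  funext i m
  show PowerSeries.coeff (m : ℕ) (PowerSeries.mk fun m => if h : m < b i then y i ⟨m, h⟩ else 0) = y i m
  rw [PowerSeries.coeff_mk, dif_pos m.2]

lemma fin_ker_Φ (b : Fin s → ℕ) :
    Module.Finite k ((Fin s → PowerSeries k) ⧸ LinearMap.ker (Φ (k := k) b)) ∧
      Module.finrank k ((Fin s → PowerSeries k) ⧸ LinearMap.ker (Φ (k := k) b)) = ∑ i, b i := by
  obtain ⟨e⟩ : Nonempty (((Fin s → PowerSeries k) ⧸ LinearMap.ker (Φ (k := k) b)) ≃ₗ[k]
      (Π i : Fin s, Fin (b i) → k)) := ⟨LinearMap.quotKerEquivOfSurjective _ (Φ_surj b)⟩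
  refine ⟨Module.Finite.equiv e.symm, ?_⟩
  rw [LinearEquiv.finrank_eq e, Module.finrank_pi_fintype]
  apply Finset.sum_congr rfl
  intro i _
  exact Module.finrank_fin_fun k

end Conc


/-- Let k be a field, s a natural number and R a k-subalgebra of the product of s copies of the power
series ring k[[x]], of finite codimension δ over k and local with residue field k (all components of
an element of R have the same constant term); write v_i for the x-adic order of the i-th component
of an s-tuple, and let c = (c_1, …, c_s) be the conductor exponents, so that an s-tuple f satisfies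
f·g ∈ R for every s-tuple g exactly when v_i(f) ≥ c_i for all i (over an algebraically closed field
such an R is precisely the completed local ring of a reduced curve singularity having s branches
sitting inside its normalisation, δ is its delta invariant and the conductor ideal is generated by
the x_i^{c_i}), and put C = c_1 + ⋯ + c_s. Let I be an ideal of R of finite colength d with
branch-length vector a (for every i the ideal of k[[x]] generated by the i-th components of the
elements of I is (x^{a_i})). Then −δ ≤ d − Σ a_i ≤ C − δ, and the second inequality is strict when R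
is not the whole product (the singularity is not smooth). (The published statement is over an
algebraically closed field; this row allows any field.) -/
theorem result (k : Type u) [Field k] (s : ℕ)
    (R : Subalgebra k (Fin s → PowerSeries k))
    (hfin : Module.Finite k ((Fin s → PowerSeries k) ⧸ Subalgebra.toSubmodule R))
    (hloc : ∀ f ∈ R, ∀ i j : Fin s, PowerSeries.constantCoeff (f i) = PowerSeries.constantCoeff (f j))
    (c : Fin s → ℕ)
    (hc : ∀ f : Fin s → PowerSeries k,
      (∀ g : Fin s → PowerSeries k, g * f ∈ R) ↔ ∀ i, ((c i : ℕ) : ℕ∞) ≤ (f i).order)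
    (I : Ideal ↥R) (hI : Module.Finite k (↥R ⧸ I)) (a : Fin s → ℕ)
    (ha : (∀ i : Fin s, Ideal.map ((Pi.evalAlgHom k (fun _ : Fin s => PowerSeries k) i).comp R.val) I = Ideal.span {PowerSeries.X ^ (a i)})) :
    (∑ i, a i) ≤ Module.finrank k (↥R ⧸ I) + Module.finrank k ((Fin s → PowerSeries k) ⧸ Subalgebra.toSubmodule R) ∧
    Module.finrank k (↥R ⧸ I) + Module.finrank k ((Fin s → PowerSeries k) ⧸ Subalgebra.toSubmodule R) ≤ (∑ i, a i) + ∑ i, c i ∧
    (R ≠ ⊤ → Module.finrank k (↥R ⧸ I) + Module.finrank k ((Fin s → PowerSeries k) ⧸ Subalgebra.toSubmodule R) < (∑ i, a i) + ∑ i, c i) := by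
  haveI := hfin
  haveI := hI
  obtain ⟨h1, h2⟩ := G1a R I
  haveI := h1
  obtain ⟨hS1, hS2⟩ := Groth.Agent.S15147.result k s R hfin hloc c hc I hI a ha
  have hle1 : im R I ≤ LinearMap.ker (Φ (k := k) a) := by
    intro x hx
    obtain ⟨f, hf, rfl⟩ := (mem_im R I x).mp hx
    rw [mem_ker_Φ]
    intro i
    exact hS2 f hf i
  have hle2 : LinearMap.ker (Φ (k := k) (fun i => a i + c i)) ≤ im R I := by
    intro g hg
    rw [mem_ker_Φ] at hg
    obtain ⟨hgR, hgI⟩ := hS1 g hg
    exact (mem_im R I g).mpr ⟨⟨g, hgR⟩, hgI, rfl⟩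
  obtain ⟨hf1, hr1⟩ := fin_ker_Φ (k := k) a
  obtain ⟨hf2, hr2⟩ := fin_ker_Φ (k := k) (fun i => a i + c i)
  haveI := hf2
  obtain ⟨hm1, _⟩ := lemM (im R I) (LinearMap.ker (Φ (k := k) a)) hle1
  obtain ⟨hm2, hm3⟩ := lemM (LinearMap.ker (Φ (k := k) (fun i => a i + c i))) (im R I) hle2
  rw [hr1] at hm1
  rw [hr2, Finset.sum_add_distrib] at hm2 hm3
  refine ⟨by omega, by omega, fun hR => ?_⟩
  have hne : LinearMap.ker (Φ (k := k) (fun i => a i + c i)) ≠ im R I := by
    intro heq
    apply hR
    have hc0 : ∀ i, c i = 0 := by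
      intro i
      have hle : Ideal.map ((Pi.evalAlgHom k (fun _ : Fin s => PowerSeries k) i).comp R.val) I ≤
          Ideal.span {(PowerSeries.X : PowerSeries k) ^ (a i + c i)} := by
        rw [Ideal.map_le_iff_le_comap]
        intro f hf
        rw [Ideal.mem_comap, Ideal.mem_span_singleton]
        change PowerSeries.X ^ (a i + c i) ∣ (f : Fin s → PowerSeries k) i
        have hmem : (f : Fin s → PowerSeries k) ∈ LinearMap.ker (Φ (k := k) (fun i => a i + c i)) := by
          rw [heq]; exact (mem_im R I _).mpr ⟨f, hf, rfl⟩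
        rw [mem_ker_Φ] at hmem
        rw [PowerSeries.X_pow_dvd_iff]
        intro m hm
        apply PowerSeries.coeff_of_lt_order
        refine lt_of_lt_of_le ?_ (hmem i)
        exact_mod_cast hm
      rw [ha i, Ideal.span_singleton_le_span_singleton] at hle
      obtain ⟨w, hw⟩ := hle
      have h3 := congrArg PowerSeries.order hw
      rw [PowerSeries.order_X_pow, PowerSeries.order_mul, PowerSeries.order_X_pow] at h3
      have h4 : ((a i + c i : ℕ) : ℕ∞) ≤ ((a i : ℕ) : ℕ∞) := by
        rw [h3]
        exact le_self_add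
      have h5 : a i + c i ≤ a i := by exact_mod_cast h4
      omega
    rw [eq_top_iff]
    intro g _
    have h6 : ∀ g' : Fin s → PowerSeries k, g' * 1 ∈ R := by
      rw [hc]
      intro i
      rw [hc0 i]
      exact bot_le
    have h7 := h6 g
    rwa [mul_one] at h7
  have := hm3 hne
  omega


end Groth.Agent.S15148
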