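import Groth.Statements.S1515
import Mathlib
import Groth.Agent.Lib.Helper13.GoodChart3
import Groth.Agent.Lib.Helper13.SmDiag
import Groth.Agent.Lib.Helper3.PerfKos2
-- import your own Groth.Agent.* helpers here

set_option autoImplicit false
universe u
attribute [local instance] HasDerivedCategory.standard
open FlatMor

namespace Groth.Agent.S1515

open AlgebraicGeometry CategoryTheory Limits in
/-- (1) ⇔ (2) ⇔ (4): let f : X → Y be separated and of finite type between locally Noetherian schemes,
with diagonal Δ (a closed immersion). Then f is smooth iff f is flat and Δ is a regular closed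
immersion, iff f is flat and Δ is a perfect morphism. -/
theorem result {X Y : Scheme.{u}} (f : X ⟶ Y) [IsSeparated f] [LocallyOfFiniteType f] [QuasiCompact f] [IsLocallyNoetherian X] [IsLocallyNoetherian Y] :
    (Smooth f ↔ Flat f ∧ Mor2.IsRegularClosedImmersion (pullback.diagonal f)) ∧
    (Smooth f ↔ Flat f ∧ MoreMor.IsPerfectMor (pullback.diagonal f)) := by
  have key1 : Smooth f → Mor2.IsRegularClosedImmersion (pullback.diagonal f) := fun h =>
    haveI := h
    Groth.Agent.Lib.helper13.GoodChart.isRegularClosedImmersion_diagonal_of_smooth f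
  have key2 : Mor2.IsRegularClosedImmersion (pullback.diagonal f) →
      MoreMor.IsPerfectMor (pullback.diagonal f) :=
    Groth.Agent.Lib.helper3.PerfKos.isPerfectMor_of_isRegularClosedImmersion _
  have key3 : Flat f → MoreMor.IsPerfectMor (pullback.diagonal f) → Smooth f := fun hfl hp =>
    haveI := hfl
    Groth.Agent.Lib.helper13.SmDiag.smooth_of_flat_of_isPerfectMor_diagonal f hp
  have key0 : Smooth f → Flat f := fun h => haveI := h; inferInstance
  exact ⟨⟨fun h => ⟨key0 h, key1 h⟩, fun h => key3 h.1 (key2 h.2)⟩,
    ⟨fun h => ⟨key0 h, key2 (key1 h)⟩, fun h => key3 h.1 h.2⟩⟩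

end Groth.Agent.S1515
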