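import Groth.Statements.S15150
import Mathlib

set_option autoImplicit false
universe u
open HilbZeta

namespace Groth.Agent.S15150

open TensorProduct

theorem map_pow_eq {K V : Type*} [Field K] [AddCommGroup V] [Module K V] (T : Module.End K V)
    (W : Submodule K V) (h : W.map T = W) (k : ℕ) : W.map (T ^ k) = W := by
  induction k with
  | zero => rw [pow_zero, Module.End.one_eq_id, Submodule.map_id]
  | succ k ih => rw [pow_succ, Module.End.mul_eq_comp, Submodule.map_comp, h, ih]

theorem finrank_map_lt {K V : Type*} [Field K] [AddCommGroup V] [Module K V]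
    [FiniteDimensional K V] (T : Module.End K V) (hT : IsNilpotent T) (W : Submodule K V)
    (hW : W.map T ≤ W) (hne : W ≠ ⊥) :
    Module.finrank K (W.map T) < Module.finrank K W := by
  apply Submodule.finrank_lt_finrank_of_lt
  refine lt_of_le_of_ne hW ?_
  intro heq
  obtain ⟨k, hk⟩ := hT
  have := map_pow_eq T W heq k
  rw [hk, Submodule.map_zero] at this
  exact hne this.symm

theorem mulLeft_pow' (K : Type*) {V : Type*} [Field K] [CommRing V] [Algebra K V] (a : V)
    (k : ℕ) : (LinearMap.mulLeft K a : Module.End K V) ^ k = LinearMap.mulLeft K (a ^ k) := by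
  induction k with
  | zero =>
    rw [pow_zero, pow_zero, LinearMap.mulLeft_one]
    rfl
  | succ k ih =>
    rw [pow_succ, ih, pow_succ, LinearMap.mulLeft_mul]
    rfl

theorem list_prod_nilpotent {K V : Type*} [Field K] [CommRing V] [Algebra K V]
    [FiniteDimensional K V] (l : List V) (hl : ∀ x ∈ l, IsNilpotent x) :
    Module.finrank K (LinearMap.range (LinearMap.mulLeft K l.prod))
      ≤ Module.finrank K V - l.length := by
  induction l with
  | nil =>
    rw [List.length_nil, Nat.sub_zero]
    exact Submodule.finrank_le _
  | cons a l ih =>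
    have ih' := ih (fun x hx => hl x (List.mem_cons.mpr (Or.inr hx)))
    rw [List.prod_cons, LinearMap.mulLeft_mul, LinearMap.range_comp, List.length_cons]
    by_cases hbot : LinearMap.range (LinearMap.mulLeft K l.prod) = ⊥
    · rw [hbot, Submodule.map_bot, finrank_bot]
      exact Nat.zero_le _
    · have hnil : IsNilpotent (LinearMap.mulLeft K a : Module.End K V) := by
        obtain ⟨k, hk⟩ := hl a (List.mem_cons.mpr (Or.inl rfl))
        exact ⟨k, by rw [mulLeft_pow', hk, LinearMap.mulLeft_zero_eq_zero]⟩
      have hstab : (LinearMap.range (LinearMap.mulLeft K l.prod)).map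
          (LinearMap.mulLeft K a : Module.End K V)
          ≤ LinearMap.range (LinearMap.mulLeft K l.prod) := by
        rintro _ ⟨_, ⟨v, rfl⟩, rfl⟩
        refine ⟨a * v, ?_⟩
        rw [LinearMap.mulLeft_apply, LinearMap.mulLeft_apply, LinearMap.mulLeft_apply,
          mul_left_comm]
      have hlt := finrank_map_lt (LinearMap.mulLeft K a : Module.End K V) hnil _ hstab hbot
      omega

theorem tmul_list_prod {A : Type u} [CommRing A] {κ B : Type u} [CommRing κ] [Algebra A κ]
    [CommRing B] [Algebra A B] (l : List B) :
    (1 : κ) ⊗ₜ[A] l.prod = (l.map (fun x => (1 : κ) ⊗ₜ[A] x)).prod := by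
  induction l with
  | nil =>
    rw [List.prod_nil, List.map_nil, List.prod_nil]
    rfl
  | cons a l ih =>
    rw [List.prod_cons, List.map_cons, List.prod_cons, ← ih,
      Algebra.TensorProduct.tmul_mul_tmul, one_mul]

theorem zero_of_fibers {A : Type u} [CommRing A] [IsReduced A] {B : Type u} [AddCommGroup B]
    [Module A B] [Module.Finite A B] [Module.Projective A B] (b : B)
    (h : ∀ p : PrimeSpectrum A, (1 : p.asIdeal.ResidueField) ⊗ₜ[A] b = 0) : b = 0 := by
  classical
  obtain ⟨n, r, i, -, -, hri⟩ := Module.Finite.exists_comp_eq_id_of_projective A B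
  have h2 : ∀ j, i b j = 0 := by
    intro j
    apply IsReduced.eq_zero
    rw [nilpotent_iff_mem_prime]
    intro J hJ
    haveI := hJ
    have h1 : (1 : J.ResidueField) ⊗ₜ[A] (i b) = 0 := by
      have := congrArg (LinearMap.lTensor J.ResidueField i) (h ⟨J, hJ⟩)
      rwa [LinearMap.lTensor_tmul, map_zero] at this
    have := congrFun (congrArg (TensorProduct.piScalarRight A A J.ResidueField (Fin n)) h1) j
    rw [TensorProduct.piScalarRight_apply, TensorProduct.piScalarRightHom_tmul, map_zero]
      at this
    have h' : algebraMap A J.ResidueField (i b j) = 0 := by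
      rw [Algebra.algebraMap_eq_smul_one]
      exact this
    exact Ideal.algebraMap_residueField_eq_zero.mp h'
  have hib : i b = 0 := funext h2
  calc b = r (i b) := (LinearMap.congr_fun hri b).symm
    _ = 0 := by rw [hib, map_zero]


/-- Let A be a reduced commutative ring, S an A-algebra together with an A-algebra homomorphism π : S →
A (a section of Spec S → Spec A), with kernel m, and I an ideal of S such that S/I is a finite
projective A-module of constant rank d and m is contained in the radical of I (the finite flat
subscheme Spec S/I of degree d lies, as a set, on the section). Then m^d ⊆ I: the subscheme lies in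
the (d−1)-st infinitesimal neighbourhood of the section. (The published statement is for a closed
subscheme, flat and proper of degree d over a Noetherian base, of a family of reduced curve
singularities with a section, with no reducedness assumption on the base; over the dual numbers k[ε]
the ideal (x − ε) of k[ε][x] has quotient free of rank one and radical containing x but does not
contain x, so the base is taken reduced here, and the statement is given in its affine form, to
which the argument reduces at once; the curve hypotheses play no role and are dropped; the condition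
that Spec S/I lies set-theoretically on the section, which the published argument deduces from
properness of Z inside the germ, is a hypothesis here.) -/
theorem result (A : Type u) [CommRing A] [IsReduced A]
    (S : Type u) [CommRing S] [Algebra A S] (π : S →ₐ[A] A) (I : Ideal S) (d : ℕ)
    [Module.Finite A (S ⧸ I)] [Module.Projective A (S ⧸ I)]
    (hrank : ∀ p : PrimeSpectrum A, Module.rankAtStalk (R := A) (S ⧸ I) p = d)
    (hsupp : RingHom.ker π ≤ I.radical) :
    RingHom.ker π ^ d ≤ I := by
  classical
  have hprod : ∀ l : List S, (∀ x ∈ l, x ∈ RingHom.ker π) → l.length = d → l.prod ∈ I := by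
    intro l hl hlen
    rw [← Ideal.Quotient.eq_zero_iff_mem]
    apply zero_of_fibers (A := A)
    intro p
    have hfin : Module.finrank p.asIdeal.ResidueField
        (p.asIdeal.ResidueField ⊗[A] (S ⧸ I)) = d := by
      rw [← hrank p]
      exact (Module.rankAtStalk_eq p).symm
    obtain ⟨l', hl'⟩ : ∃ l' : List (S ⧸ I), l' = l.map (Ideal.Quotient.mk I) := ⟨_, rfl⟩
    have hprod' : Ideal.Quotient.mk I l.prod = l'.prod := by rw [hl', map_list_prod]
    have hlen' : l'.length = d := by rw [hl', List.length_map, hlen]
    have hnil' : ∀ b ∈ l', IsNilpotent b := by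
      intro b hb
      rw [hl'] at hb
      obtain ⟨x, hx, rfl⟩ := List.mem_map.mp hb
      obtain ⟨k, hk⟩ := hsupp (hl x hx)
      exact ⟨k, by rw [← map_pow]; exact Ideal.Quotient.eq_zero_iff_mem.mpr hk⟩
    rw [hprod', tmul_list_prod]
    have hnil'' : ∀ z ∈ l'.map (fun b => (1 : p.asIdeal.ResidueField) ⊗ₜ[A] b),
        IsNilpotent z := by
      intro z hz
      obtain ⟨b, hb, rfl⟩ := List.mem_map.mp hz
      obtain ⟨k, hk⟩ := hnil' b hb
      exact ⟨k, by rw [Algebra.TensorProduct.tmul_pow, one_pow, hk, TensorProduct.tmul_zero]⟩
    have hN := list_prod_nilpotent (K := p.asIdeal.ResidueField) _ hnil''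
    rw [List.length_map, hlen', hfin, Nat.sub_self, Nat.le_zero, Submodule.finrank_eq_zero]
      at hN
    have hmem := LinearMap.mem_range_self (LinearMap.mulLeft p.asIdeal.ResidueField
      (l'.map (fun b => (1 : p.asIdeal.ResidueField) ⊗ₜ[A] b)).prod) 1
    rw [hN, Submodule.mem_bot, LinearMap.mulLeft_apply, mul_one] at hmem
    exact hmem
  have hJ : ∀ j : ℕ, ∃ J : Ideal S, ∀ s, s ∈ J ↔ ∀ l : List S,
      (∀ x ∈ l, x ∈ RingHom.ker π) → l.length = j → s * l.prod ∈ I := by
    intro j
    refine ⟨{ carrier := {s | ∀ l : List S, (∀ x ∈ l, x ∈ RingHom.ker π) → l.length = j →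
                s * l.prod ∈ I}
              add_mem' := ?_, zero_mem' := ?_, smul_mem' := ?_ }, fun s => Iff.rfl⟩
    · intro a b ha hb l hl hlen
      rw [add_mul]
      exact I.add_mem (ha l hl hlen) (hb l hl hlen)
    · intro l hl hlen
      rw [zero_mul]
      exact I.zero_mem
    · intro c s hs l hl hlen
      rw [smul_eq_mul, mul_assoc]
      exact I.mul_mem_left c (hs l hl hlen)
  choose J hJ using hJ
  have hstep : ∀ j, RingHom.ker π * J (j + 1) ≤ J j := by
    intro j
    rw [Ideal.mul_le]
    intro r hr s hs
    rw [hJ]
    intro l hl hlen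
    have := (hJ (j+1) s).mp hs (r :: l)
      (by
        intro x hx
        rcases List.mem_cons.mp hx with h | h
        · rw [h]; exact hr
        · exact hl x h)
      (by rw [List.length_cons, hlen])
    rw [List.prod_cons] at this
    have e : r * s * l.prod = s * (r * l.prod) := by ring
    rw [e]
    exact this
  have hmain : ∀ j, j ≤ d → RingHom.ker π ^ j ≤ J (d - j) := by
    intro j
    induction j with
    | zero =>
      intro _
      rw [pow_zero, Ideal.one_eq_top, Nat.sub_zero]
      intro s _
      rw [hJ]
      intro l hl hlen
      exact I.mul_mem_left s (hprod l hl hlen)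
    | succ j ih =>
      intro hj
      have h1 := ih (by omega)
      rw [pow_succ']
      have e : d - j = (d - (j + 1)) + 1 := by omega
      rw [e] at h1
      exact le_trans (Ideal.mul_mono_right h1) (hstep _)
  have hfinal := hmain d le_rfl
  rw [Nat.sub_self] at hfinal
  intro s hs
  have h0 := (hJ 0 s).mp (hfinal hs) [] (by intro x hx; cases hx) rfl
  rw [List.prod_nil, mul_one] at h0
  exact h0


end Groth.Agent.S15150
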