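import Groth.Statements.S15151
import Mathlib
-- import your own Groth.Agent.* helpers here

set_option autoImplicit false
universe u
open CategoryTheory AlgebraicGeometry
open HilbZeta

namespace Groth.Agent.S15151

/-- Let k be a field, and let f : X → Y and g : Y → Spec k[t] be morphisms of schemes with f
quasi-compact and with zero kernel ideal sheaf (Y is the scheme-theoretic image of f), such that the
composite X → Spec k[t] is flat. Then g is flat; in particular a k[t]-subalgebra of a flat
k[t]-algebra is flat. (The published statement has no quasi-compactness hypothesis on f and is over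
an algebraically closed field; this row assumes f quasi-compact and allows any field.) -/
theorem result (k : Type u) [Field k]
    (X Y : Scheme.{u}) (f : X ⟶ Y) (g : Y ⟶ Spec (CommRingCat.of (Polynomial k)))
    [QuasiCompact f] (hker : f.ker = ⊥) [Flat (f ≫ g)] : Flat g := by
  refine HasRingHomProperty.of_iSup_eq_top (P := @Flat) (fun V : Y.affineOpens => V)
    (iSup_affineOpens_eq_top Y) fun V => ?_
  -- the base ring is a Bezout domain
  let e : Γ(Spec (CommRingCat.of (Polynomial k)), ⊤) ≃+* Polynomial k :=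
    (Scheme.ΓSpecIso (CommRingCat.of (Polynomial k))).commRingCatIsoToRingEquiv
  haveI : IsDomain Γ(Spec (CommRingCat.of (Polynomial k)), ⊤) := e.toMulEquiv.isDomain _
  haveI : IsPrincipalIdealRing Γ(Spec (CommRingCat.of (Polynomial k)), ⊤) :=
    IsPrincipalIdealRing.of_surjective e.symm.toRingHom e.symm.surjective
  rw [RingHom.Flat]
  letI := (g.appLE ⊤ V.1 le_top).hom.toAlgebra
  rw [Module.Flat.flat_iff_torsion_eq_bot_of_isBezout, eq_bot_iff]
  rintro a ⟨⟨r, hr⟩, hra⟩
  rw [Submodule.mem_bot]
  have hra' : (g.appLE ⊤ V.1 le_top).hom r * a = 0 := by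
    simpa [Submonoid.smul_def, Algebra.smul_def, RingHom.algebraMap_toAlgebra] using hra
  have hW : ∀ (W : X.affineOpens) (e : W.1 ≤ f ⁻¹ᵁ V.1), (f.appLE V.1 W.1 e).hom a = 0 := by
    intro W e
    have hflat : ((f ≫ g).appLE ⊤ W.1 le_top).hom.Flat :=
      HasRingHomProperty.appLE (P := @Flat) _ inferInstance ⟨⊤, isAffineOpen_top _⟩ W le_top
    rw [RingHom.Flat] at hflat
    letI := ((f ≫ g).appLE ⊤ W.1 le_top).hom.toAlgebra
    have hreg := Module.Flat.isSMulRegular_of_nonZeroDivisors (M := Γ(X, W.1)) hr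
    apply hreg
    simp only [smul_zero]
    rw [Algebra.smul_def, RingHom.algebraMap_toAlgebra]
    have hcomp : (f ≫ g).appLE ⊤ W.1 le_top = g.appLE ⊤ V.1 le_top ≫ f.appLE V.1 W.1 e := by
      rw [Scheme.Hom.appLE_comp_appLE]
    rw [hcomp]
    simp only [CommRingCat.hom_comp, RingHom.comp_apply]
    rw [← map_mul, hra', map_zero]
  have hfa : (f.app V.1).hom a = 0 := by
    refine TopCat.Sheaf.eq_of_locally_eq' X.sheaf
      (fun W : {W : X.affineOpens // W.1 ≤ f ⁻¹ᵁ V.1} => W.1.1) (f ⁻¹ᵁ V.1)
      (fun W => homOfLE W.2) ?_ _ _ ?_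
    · intro x hx
      obtain ⟨_, ⟨W, hW', rfl⟩, hxW, hWV⟩ :=
        X.isBasis_affineOpens.exists_subset_of_mem_open hx (f ⁻¹ᵁ V.1).isOpen
      exact TopologicalSpace.Opens.mem_iSup.mpr ⟨⟨⟨W, hW'⟩, hWV⟩, hxW⟩
    · intro W
      refine Eq.trans ?_ (map_zero _).symm
      exact hW W.1 W.2
  have hmem : a ∈ f.ker.ideal V := by
    rw [Scheme.Hom.ker_apply, RingHom.mem_ker]
    exact hfa
  rw [hker] at hmem
  simpa using hmem

end Groth.Agent.S15151
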