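import Groth.Statements.S15153
import Mathlib
set_option linter.style.haveILetI false

set_option autoImplicit false
universe u
open TensorProduct
open HilbZeta

namespace Groth.Agent.S15153

open Module

/-- (⇐) direction: nonzero determinant of functionals on vectors gives a rank lower bound. -/
lemma le_finrank_span_of_det_ne_zero {K E : Type*} [Field K] [AddCommGroup E] [Module K E]
    [Module.Finite K E] (G : Set E) (n : ℕ) (v : Fin n → E) (hv : ∀ j, v j ∈ G)
    (L : Fin n → (E →ₗ[K] K)) (hdet : (Matrix.of fun i j => L i (v j)).det ≠ 0) :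
    n ≤ finrank K (Submodule.span K G) := by
  have hLI : LinearIndependent K v := by
    rw [Fintype.linearIndependent_iff]
    intro c hc
    have h1 : (Matrix.of fun i j => L i (v j)).mulVec c = 0 := by
      ext i
      simp only [Matrix.mulVec, dotProduct, Matrix.of_apply, Pi.zero_apply]
      have := congrArg (L i) hc
      simpa [map_sum, mul_comm] using this
    have h2 := Matrix.eq_zero_of_mulVec_eq_zero hdet h1
    intro i
    exact congrFun h2 i
  have h3 : finrank K (Submodule.span K (Set.range v)) = n := by
    rw [finrank_span_eq_card hLI, Fintype.card_fin]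
  rw [← h3]
  apply Submodule.finrank_mono
  apply Submodule.span_mono
  rintro _ ⟨j, rfl⟩
  exact hv j

/-- (⇒) direction. -/
lemma exists_det_ne_zero_of_le_finrank_span {K E : Type*} [Field K] [AddCommGroup E] [Module K E]
    [Module.Finite K E] (G : Set E) (F : Set (E →ₗ[K] K))
    (hF : ∀ T : E, (∀ L ∈ F, L T = 0) → T = 0) (n : ℕ)
    (hn : n ≤ finrank K (Submodule.span K G)) :
    ∃ (v : Fin n → E) (L : Fin n → (E →ₗ[K] K)), (∀ j, v j ∈ G) ∧ (∀ i, L i ∈ F) ∧
      (Matrix.of fun i j => L i (v j)).det ≠ 0 := by
  classical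
  -- choose LI family in G
  obtain ⟨b, hbG, hbspan, hbLI⟩ := exists_linearIndependent K G
  have hbfin : b.Finite := hbLI.setFinite
  haveI : Fintype b := hbfin.fintype
  have hcard : finrank K (Submodule.span K G) = Fintype.card b := by
    rw [← hbspan]
    have : Submodule.span K b = Submodule.span K (Set.range (Subtype.val : b → E)) := by
      simp
    rw [this, finrank_span_eq_card hbLI]
  rw [hcard] at hn
  obtain ⟨emb⟩ : Nonempty (Fin n ↪ b) := by
    apply Function.Embedding.nonempty_of_card_le
    simpa using hn
  let v : Fin n → E := fun j => (emb j : E)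
  have hvG : ∀ j, v j ∈ G := fun j => hbG (emb j).2
  have hvLI : LinearIndependent K v := hbLI.comp emb emb.injective
  -- rows
  let R : Set (Fin n → K) := {r | ∃ L ∈ F, r = fun j => L (v j)}
  have hR : Submodule.span K R = ⊤ := by
    by_contra hne
    obtain ⟨f, hf0, hfker⟩ := Submodule.exists_le_ker_of_lt_top _ (lt_top_iff_ne_top.mpr hne)
    let c : Fin n → K := fun j => f (Pi.single j 1)
    have hfc : ∀ r : Fin n → K, f r = ∑ j, r j * c j := by
      intro r
      conv_lhs => rw [← Finset.univ_sum_single r]
      rw [map_sum]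
      apply Finset.sum_congr rfl
      intro j _
      have : (Pi.single j (r j) : Fin n → K) = r j • Pi.single j 1 := by
        rw [← Pi.single_smul, smul_eq_mul, mul_one]
      rw [this, map_smul, smul_eq_mul]
    have hc0 : ∑ j, c j • v j = 0 := by
      apply hF
      intro L hL
      have h1 : f (fun j => L (v j)) = 0 := by
        have : (fun j => L (v j)) ∈ Submodule.span K R := Submodule.subset_span ⟨L, hL, rfl⟩
        exact hfker this
      rw [hfc] at h1
      rw [map_sum]
      simpa [mul_comm] using h1
    have hc : c = 0 := by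
      have := Fintype.linearIndependent_iff.mp hvLI c hc0
      ext j; exact this j
    apply hf0
    apply LinearMap.ext
    intro r
    rw [hfc]
    simp [hc]
  obtain ⟨b', hb'R, hb'span, hb'LI⟩ := exists_linearIndependent K R
  rw [hR] at hb'span
  have hb'fin : b'.Finite := hb'LI.setFinite
  haveI : Fintype b' := hb'fin.fintype
  let B : Basis b' K (Fin n → K) := Basis.mk hb'LI (by
    rw [Subtype.range_coe]; exact hb'span.ge)
  have hcard' : Fintype.card b' = n := by
    have := Module.finrank_eq_card_basis B
    simpa using this.symm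
  let e : Fin n ≃ b' := (Fintype.equivFinOfCardEq hcard').symm
  have hrow : ∀ i, ∃ L ∈ F, ((e i : Fin n → K)) = fun j => L (v j) := fun i => hb'R (e i).2
  choose L hLF hL using hrow
  refine ⟨v, L, hvG, hLF, ?_⟩
  have hM : (Matrix.of fun i j => L i (v j)) = Matrix.of (fun i => ((e i : b') : Fin n → K)) := by
    ext i j
    simp only [Matrix.of_apply]
    rw [hL i]
  rw [hM]
  have hrowsLI : LinearIndependent K (Matrix.of (fun i => ((e i : b') : Fin n → K))).row := by
    have : (Matrix.of (fun i => ((e i : b') : Fin n → K))).row = (Subtype.val : b' → _) ∘ e := by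
      ext i j; rfl
    rw [this]
    exact hb'LI.comp e e.injective
  have := Matrix.linearIndependent_rows_iff_isUnit.mp hrowsLI
  rw [Matrix.isUnit_iff_isUnit_det] at this
  exact this.ne_zero


section
variable {A : Type u} [CommRing A] {Q : Type u} [AddCommGroup Q] [Module A Q]
variable (p : PrimeSpectrum A)

/-- the functional on the fibre induced by `ψ`. -/
noncomputable def barψ (ψ : Q →ₗ[A] A) :
    (p.asIdeal.ResidueField ⊗[A] Q) →ₗ[p.asIdeal.ResidueField] p.asIdeal.ResidueField :=
  (TensorProduct.AlgebraTensorModule.rid A p.asIdeal.ResidueField p.asIdeal.ResidueField).toLinearMap ∘ₗ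
    LinearMap.baseChange p.asIdeal.ResidueField ψ

lemma barψ_tmul (ψ : Q →ₗ[A] A) (c : p.asIdeal.ResidueField) (q : Q) :
    barψ p ψ (c ⊗ₜ q) = c * algebraMap A p.asIdeal.ResidueField (ψ q) := by
  simp [barψ, Algebra.smul_def, mul_comm]

/-- the functional `T ↦ ψ̄ (T (1 ⊗ x))` on endomorphisms of the fibre. -/
noncomputable def Lfun (x : Q) (ψ : Q →ₗ[A] A) :
    ((p.asIdeal.ResidueField ⊗[A] Q) →ₗ[p.asIdeal.ResidueField] (p.asIdeal.ResidueField ⊗[A] Q))
      →ₗ[p.asIdeal.ResidueField] p.asIdeal.ResidueField :=
  barψ p ψ ∘ₗ LinearMap.applyₗ ((1 : p.asIdeal.ResidueField) ⊗ₜ[A] x)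

lemma Lfun_apply (x : Q) (ψ : Q →ₗ[A] A) (T) :
    Lfun p x ψ T = barψ p ψ (T ((1 : p.asIdeal.ResidueField) ⊗ₜ[A] x)) := rfl

lemma Lfun_baseChange (x : Q) (ψ : Q →ₗ[A] A) (g : Q →ₗ[A] Q) :
    Lfun p x ψ (LinearMap.baseChange p.asIdeal.ResidueField g) =
      algebraMap A p.asIdeal.ResidueField (ψ (g x)) := by
  rw [Lfun_apply, LinearMap.baseChange_tmul, barψ_tmul, one_mul]

/-- separation of points by the functionals, for `Q` finite projective. -/
lemma Lfun_separates [Module.Finite A Q] [Module.Projective A Q]
    (T : (p.asIdeal.ResidueField ⊗[A] Q) →ₗ[p.asIdeal.ResidueField] (p.asIdeal.ResidueField ⊗[A] Q))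
    (hT : ∀ (x : Q) (ψ : Q →ₗ[A] A), Lfun p x ψ T = 0) : T = 0 := by
  obtain ⟨m, f, g, -, -, hfg⟩ := Module.Finite.exists_comp_eq_id_of_projective A Q
  let xs : Fin m → Q := fun k => f (Pi.single k 1)
  let ψs : Fin m → (Q →ₗ[A] A) := fun k => LinearMap.proj k ∘ₗ g
  have hq : ∀ q : Q, q = ∑ k, ψs k q • xs k := by
    intro q
    have h1 : f (g q) = q := LinearMap.congr_fun hfg q
    conv_lhs => rw [← h1, ← Finset.univ_sum_single (g q), map_sum]
    apply Finset.sum_congr rfl
    intro k _
    have : (Pi.single k (g q k) : Fin m → A) = g q k • Pi.single k 1 := by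
      rw [← Pi.single_smul, smul_eq_mul, mul_one]
    rw [this, map_smul]
    rfl
  have hy : ∀ y : p.asIdeal.ResidueField ⊗[A] Q,
      y = ∑ k, barψ p (ψs k) y • ((1 : p.asIdeal.ResidueField) ⊗ₜ[A] xs k) := by
    intro y
    induction y using TensorProduct.induction_on with
    | zero => simp
    | tmul c q =>
      simp_rw [barψ_tmul]
      conv_lhs => rw [hq q, tmul_sum]
      apply Finset.sum_congr rfl
      intro k _
      rw [tmul_smul, TensorProduct.smul_tmul', TensorProduct.smul_tmul', smul_eq_mul, mul_one,
        Algebra.smul_def, mul_comm]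
    | add y z hy hz =>
      conv_lhs => rw [hy, hz]
      rw [← Finset.sum_add_distrib]
      apply Finset.sum_congr rfl
      intro k _
      rw [map_add, add_smul]
  apply TensorProduct.AlgebraTensorModule.ext
  intro c x
  have h1 : T (c ⊗ₜ[A] x) = c • T ((1 : p.asIdeal.ResidueField) ⊗ₜ[A] x) := by
    rw [← map_smul, TensorProduct.smul_tmul', smul_eq_mul, mul_one]
  rw [h1, hy (T ((1 : p.asIdeal.ResidueField) ⊗ₜ[A] x))]
  have : ∀ k, barψ p (ψs k) (T ((1 : p.asIdeal.ResidueField) ⊗ₜ[A] x)) = 0 := fun k => hT x (ψs k)
  simp [this]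

end

section
variable (A : Type u) [CommRing A]
    (S : Type u) [CommRing S] [Algebra A S]
    (Q : Type u) [AddCommGroup Q] [Module A Q] [Module S Q] [IsScalarTower A S Q]

/-- the fibre rank function -/
noncomputable def phi (p : PrimeSpectrum A) : ℕ :=
  Module.finrank p.asIdeal.ResidueField
        (Submodule.span p.asIdeal.ResidueField
          (Set.range fun s : S =>
            LinearMap.baseChange p.asIdeal.ResidueField (DistribSMul.toLinearMap A Q s)))

lemma le_phi_iff [Module.Finite A Q] [Module.Projective A Q] (n : ℕ) (p : PrimeSpectrum A) :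
    n ≤ phi A S Q p ↔ ∃ (s : Fin n → S) (x : Fin n → Q) (ψ : Fin n → (Q →ₗ[A] A)),
      (Matrix.of fun i j => ψ i (s j • x i)).det ∉ p.asIdeal := by
  have key : ∀ (s : Fin n → S) (x : Fin n → Q) (ψ : Fin n → (Q →ₗ[A] A)),
      (Matrix.of fun i j => Lfun p (x i) (ψ i)
        (LinearMap.baseChange p.asIdeal.ResidueField (DistribSMul.toLinearMap A Q (s j)))).det =
      algebraMap A p.asIdeal.ResidueField (Matrix.of fun i j => ψ i (s j • x i)).det := by
    intro s x ψ
    rw [RingHom.map_det]
    congr 1
    ext i j
    simp only [Matrix.of_apply, RingHom.mapMatrix_apply, Matrix.map_apply]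
    rw [Lfun_baseChange]
    rfl
  constructor
  · intro hn
    unfold phi at hn
    have hsep : ∀ T : (p.asIdeal.ResidueField ⊗[A] Q) →ₗ[p.asIdeal.ResidueField] (p.asIdeal.ResidueField ⊗[A] Q),
        (∀ L ∈ {L | ∃ (x : Q) (ψ : Q →ₗ[A] A), L = Lfun p x ψ}, L T = 0) → T = 0 := by
      intro T hT
      apply Lfun_separates p T
      intro x ψ
      exact hT (Lfun p x ψ) ⟨x, ψ, rfl⟩
    obtain ⟨v, L, hv, hL, hdet⟩ := exists_det_ne_zero_of_le_finrank_span
      (Set.range fun s : S =>
            LinearMap.baseChange p.asIdeal.ResidueField (DistribSMul.toLinearMap A Q s))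
      {L | ∃ (x : Q) (ψ : Q →ₗ[A] A), L = Lfun p x ψ} hsep n (by convert hn)
    choose s hs using hv
    choose x ψ hxψ using hL
    refine ⟨s, x, ψ, ?_⟩
    intro hmem
    apply hdet
    have h1 := key s x ψ
    rw [(Ideal.algebraMap_residueField_eq_zero).mpr hmem] at h1
    rw [← h1]
    congr 1
    ext i j
    simp only [Matrix.of_apply]
    rw [← hs j, hxψ i]
  · rintro ⟨s, x, ψ, hdet⟩
    unfold phi
    have h2 := le_finrank_span_of_det_ne_zero
      (Set.range fun s : S =>
            LinearMap.baseChange p.asIdeal.ResidueField (DistribSMul.toLinearMap A Q s)) n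
      (fun j => LinearMap.baseChange p.asIdeal.ResidueField (DistribSMul.toLinearMap A Q (s j)))
      (fun j => ⟨s j, rfl⟩) (fun i => Lfun p (x i) (ψ i)) (by
        rw [key]
        intro h
        exact hdet ((Ideal.algebraMap_residueField_eq_zero).mp h))
    convert h2

end


/-- Let A be a Noetherian commutative ring, S a commutative A-algebra and Q an S-module which is finite
and flat as an A-module. For a prime p of A with residue field κ(p), multiplication by an element of
S induces a κ(p)-linear endomorphism of the fibre κ(p) ⊗_A Q; let φ(p) be the κ(p)-dimension of the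
span of these endomorphisms, which is the colength of the annihilator of the fibre module κ(p) ⊗_A Q
in the fibre algebra κ(p) ⊗_A S (the length of the smallest subscheme of the fibre carrying it).
Then p ↦ φ(p) is a constructible function: for every n the primes with φ(p) = n form a constructible
subset of Spec A. (The published statement is for a coherent sheaf, flat and finite over a
Noetherian base, on a family of reduced curve singularities with a section, and its function of the
base point is this colength; the curve hypotheses play no role and the row is the affine form over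
any Noetherian ring.) -/
theorem result (A : Type u) [CommRing A] [IsNoetherianRing A]
    (S : Type u) [CommRing S] [Algebra A S]
    (Q : Type u) [AddCommGroup Q] [Module A Q] [Module S Q] [IsScalarTower A S Q]
    [Module.Finite A Q] [Module.Flat A Q] (n : ℕ) :
    Topology.IsConstructible {p : PrimeSpectrum A |
      Module.finrank p.asIdeal.ResidueField
        (Submodule.span p.asIdeal.ResidueField
          (Set.range fun s : S =>
            LinearMap.baseChange p.asIdeal.ResidueField (DistribSMul.toLinearMap A Q s))) = n} := by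
  haveI : Module.FinitePresentation A Q := Module.finitePresentation_of_finite A Q
  haveI : Module.Projective A Q := Module.Flat.projective_of_finitePresentation
  have hopen : ∀ m, IsOpen {p : PrimeSpectrum A | m ≤ phi A S Q p} := by
    intro m
    have : {p : PrimeSpectrum A | m ≤ phi A S Q p} =
        ⋃ (s : Fin m → S) (x : Fin m → Q) (ψ : Fin m → (Q →ₗ[A] A)),
          (PrimeSpectrum.basicOpen (Matrix.of fun i j => ψ i (s j • x i)).det : Set (PrimeSpectrum A)) := by
      ext p
      rw [Set.mem_ofPred_eq, le_phi_iff]
      simp only [Set.mem_iUnion, SetLike.mem_coe, PrimeSpectrum.mem_basicOpen]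
    rw [this]
    exact isOpen_iUnion fun s => isOpen_iUnion fun x => isOpen_iUnion fun ψ =>
      (PrimeSpectrum.basicOpen _).2
  have hretro : ∀ s : Set (PrimeSpectrum A), IsRetrocompact s :=
    fun s U _ _ => TopologicalSpace.NoetherianSpace.isCompact _
  have hset : {p : PrimeSpectrum A | phi A S Q p = n} =
      {p | n ≤ phi A S Q p} \ {p | n + 1 ≤ phi A S Q p} := by
    ext p
    simp only [Set.mem_ofPred_eq, Set.mem_sdiff]
    omega
  change Topology.IsConstructible {p : PrimeSpectrum A | phi A S Q p = n}
  rw [hset]
  exact (IsRetrocompact.isConstructible (hopen n) (hretro _)).sdiff (IsRetrocompact.isConstructible (hopen (n + 1)) (hretro _))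

end Groth.Agent.S15153
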