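import Groth.Statements.S15155
import Mathlib

set_option autoImplicit false
open CAlg

namespace Groth.Agent.S15155

noncomputable def gen (ι : Type*) : Matrix ι ι (MvPolynomial (ι × ι) ℂ) :=
  fun i j => MvPolynomial.X (i, j) - MvPolynomial.X (j, i)

theorem gen_skew (ι : Type*) (i j : ι) : gen ι j i = - gen ι i j := by
  simp [gen]

def HasPf (ι : Type*) [Fintype ι] [DecidableEq ι] : Prop :=
  ∃ pf : MvPolynomial (ι × ι) ℂ, (gen ι).det = pf ^ 2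

theorem det_eq_sq {ι : Type*} [Fintype ι] [DecidableEq ι] (pf : MvPolynomial (ι × ι) ℂ)
    (hpf : (gen ι).det = pf ^ 2) {T : Type*} [CommRing T] [Algebra ℂ T] (S : Matrix ι ι T)
    (hS : ∀ i j, S j i = - S i j) :
    S.det = (MvPolynomial.aeval (fun p : ι × ι => (1 / 2 : ℂ) • S p.1 p.2) pf) ^ 2 := by
  obtain ⟨φ, hφ⟩ : ∃ φ : MvPolynomial (ι × ι) ℂ →ₐ[ℂ] T,
      φ = MvPolynomial.aeval (fun p : ι × ι => (1 / 2 : ℂ) • S p.1 p.2) := ⟨_, rfl⟩
  rw [← hφ]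
  have hmap : (φ : MvPolynomial (ι × ι) ℂ →+* T).mapMatrix (gen ι) = S := by
    ext i j
    rw [RingHom.mapMatrix_apply, Matrix.map_apply]
    show φ (MvPolynomial.X (i, j) - MvPolynomial.X (j, i)) = S i j
    rw [map_sub, hφ, MvPolynomial.aeval_X, MvPolynomial.aeval_X]
    show (1 / 2 : ℂ) • S i j - (1 / 2 : ℂ) • S j i = S i j
    rw [hS i j, smul_neg, sub_neg_eq_add, ← add_smul]
    norm_num
  calc S.det = ((φ : MvPolynomial (ι × ι) ℂ →+* T).mapMatrix (gen ι)).det := by rw [hmap]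
    _ = (φ : MvPolynomial (ι × ι) ℂ →+* T) ((gen ι).det) := (RingHom.map_det _ _).symm
    _ = (φ pf) ^ 2 := by rw [hpf, map_pow]; rfl

theorem hasPf_of_equiv {ι ι' : Type*} [Fintype ι] [DecidableEq ι] [Fintype ι'] [DecidableEq ι']
    (e : ι ≃ ι') (h : HasPf ι) : HasPf ι' := by
  obtain ⟨pf, hpf⟩ := h
  have hS : ∀ i j, ((gen ι').submatrix e e) j i = -((gen ι').submatrix e e) i j := by
    intro i j
    simp only [Matrix.submatrix_apply]
    exact gen_skew _ _ _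
  have := det_eq_sq pf hpf ((gen ι').submatrix e e) hS
  rw [Matrix.det_submatrix_equiv_self] at this
  exact ⟨_, this⟩

theorem hasPf_step {κ : Type*} [Fintype κ] [DecidableEq κ] (h : HasPf κ) :
    HasPf (Fin 2 ⊕ κ) := by
  obtain ⟨pf, hpf⟩ := h
  obtain ⟨G, hGdef⟩ : ∃ G : Matrix (Fin 2 ⊕ κ) (Fin 2 ⊕ κ)
      (FractionRing (MvPolynomial ((Fin 2 ⊕ κ) × (Fin 2 ⊕ κ)) ℂ)),
      G = (gen (Fin 2 ⊕ κ)).map (algebraMap _ _) := ⟨_, rfl⟩
  have hGe : ∀ i j, G j i = - G i j := by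
    intro i j
    rw [hGdef, Matrix.map_apply, Matrix.map_apply, gen_skew, map_neg]
  have hGdiag : ∀ i, G i i = 0 := by
    intro i
    rw [hGdef, Matrix.map_apply]
    simp [gen]
  have hGdet : G.det = algebraMap _ _ ((gen (Fin 2 ⊕ κ)).det) := by
    rw [hGdef, RingHom.map_det, RingHom.mapMatrix_apply]
  obtain ⟨a, hadef⟩ : ∃ a, a = G (Sum.inl 0) (Sum.inl 1) := ⟨_, rfl⟩
  have ha : a ≠ 0 := by
    rw [hadef, hGdef, Matrix.map_apply]
    intro h0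
    have h1 := (IsFractionRing.injective (MvPolynomial ((Fin 2 ⊕ κ) × (Fin 2 ⊕ κ)) ℂ)
      (FractionRing (MvPolynomial ((Fin 2 ⊕ κ) × (Fin 2 ⊕ κ)) ℂ))) (h0.trans (map_zero _).symm)
    have h2 : (MvPolynomial.X (Sum.inl 0, Sum.inl 1) :
        MvPolynomial ((Fin 2 ⊕ κ) × (Fin 2 ⊕ κ)) ℂ) = MvPolynomial.X (Sum.inl 1, Sum.inl 0) :=
      sub_eq_zero.mp h1
    have h3 := MvPolynomial.X_injective h2
    have h4 := congrArg Prod.fst h3
    simp at h4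
  obtain ⟨A, hA⟩ : ∃ A, A = G.toBlocks₁₁ := ⟨_, rfl⟩
  obtain ⟨B, hB⟩ : ∃ B, B = G.toBlocks₁₂ := ⟨_, rfl⟩
  obtain ⟨C, hC⟩ : ∃ C, C = G.toBlocks₂₁ := ⟨_, rfl⟩
  obtain ⟨D, hD⟩ : ∃ D, D = G.toBlocks₂₂ := ⟨_, rfl⟩
  have hGb : G = Matrix.fromBlocks A B C D := by
    rw [hA, hB, hC, hD, Matrix.fromBlocks_toBlocks]
  have h00 : A 0 0 = 0 := by rw [hA]; exact hGdiag _
  have h11 : A 1 1 = 0 := by rw [hA]; exact hGdiag _
  have h01 : A 0 1 = a := by rw [hA, hadef]; rfl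
  have h10 : A 1 0 = -a := by rw [hA, hadef]; exact hGe _ _
  have hAe : A = !![0, a; -a, 0] := by
    rw [Matrix.eta_fin_two A, h00, h01, h10, h11]
  obtain ⟨A', hA'⟩ : ∃ A' : Matrix (Fin 2) (Fin 2)
      (FractionRing (MvPolynomial ((Fin 2 ⊕ κ) × (Fin 2 ⊕ κ)) ℂ)),
      A' = !![0, -a⁻¹; a⁻¹, 0] := ⟨_, rfl⟩
  have h1 : A * A' = 1 := by
    rw [hAe, hA', Matrix.mul_fin_two, Matrix.one_fin_two]
    simp [ha]
  have h2 : A' * A = 1 := by
    rw [hAe, hA', Matrix.mul_fin_two, Matrix.one_fin_two]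
    simp [ha]
  have hdet1 : G.det = A.det * (D - C * A' * B).det := by
    rw [hGb]
    let _ : Invertible A := ⟨A', h2, h1⟩
    exact Matrix.det_fromBlocks₁₁ A B C D
  have hdetA : A.det = a ^ 2 := by
    rw [hAe, Matrix.det_fin_two_of]; ring
  have hDT : D.transpose = -D := by
    ext i j
    rw [hD]
    exact hGe _ _
  have hCT : C.transpose = -B := by
    ext i j
    rw [hB, hC]
    exact hGe _ _
  have hBT : B.transpose = -C := by
    ext i j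
    rw [hB, hC]
    exact hGe _ _
  have hA'T : A'.transpose = -A' := by
    rw [hA']
    ext i j
    fin_cases i <;> fin_cases j <;> simp
  have hST : (D - C * A' * B).transpose = -(D - C * A' * B) := by
    rw [Matrix.transpose_sub, Matrix.transpose_mul, Matrix.transpose_mul, hDT, hBT, hCT, hA'T]
    simp only [Matrix.neg_mul, Matrix.mul_neg, neg_neg, Matrix.mul_assoc, neg_sub]
    abel
  have hS' : ∀ i j, (D - C * A' * B) j i = -(D - C * A' * B) i j := by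
    intro i j
    have := congrFun (congrFun hST i) j
    simpa [Matrix.transpose_apply] using this
  have hq := det_eq_sq pf hpf (D - C * A' * B) hS'
  obtain ⟨q, hqdef⟩ : ∃ q, q = MvPolynomial.aeval
      (fun p : κ × κ => (1 / 2 : ℂ) • (D - C * A' * B) p.1 p.2) pf := ⟨_, rfl⟩
  rw [← hqdef] at hq
  have hsq : (a * q) ^ 2 = algebraMap _ _ ((gen (Fin 2 ⊕ κ)).det) := by
    rw [← hGdet, hdet1, hdetA, hq]; ring
  have hint : IsIntegral (MvPolynomial ((Fin 2 ⊕ κ) × (Fin 2 ⊕ κ)) ℂ) (a * q) := by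
    apply IsIntegral.of_pow (n := 2) (by norm_num)
    rw [hsq]
    exact isIntegral_algebraMap
  obtain ⟨y, hy⟩ := IsIntegrallyClosed.algebraMap_eq_of_integral hint
  refine ⟨y, ?_⟩
  apply IsFractionRing.injective (MvPolynomial ((Fin 2 ⊕ κ) × (Fin 2 ⊕ κ)) ℂ)
    (FractionRing (MvPolynomial ((Fin 2 ⊕ κ) × (Fin 2 ⊕ κ)) ℂ))
  rw [map_pow, hy, hsq]

theorem hasPf_all (m : ℕ) : HasPf (Fin m ⊕ Fin m) := by
  induction m with
  | zero => exact ⟨1, by rw [Matrix.det_isEmpty, one_pow]⟩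
  | succ m ih =>
    have e : Fin 2 ⊕ (Fin m ⊕ Fin m) ≃ Fin (m + 1) ⊕ Fin (m + 1) :=
      Fintype.equivOfCardEq (by simp only [Fintype.card_sum, Fintype.card_fin]; omega)
    exact hasPf_of_equiv e (hasPf_step ih)

theorem J_sq (m : ℕ) : (Matrix.fromBlocks (0 : Matrix (Fin m) (Fin m) ℂ) (1 : Matrix (Fin m) (Fin m) ℂ) (-1 : Matrix (Fin m) (Fin m) ℂ) (0 : Matrix (Fin m) (Fin m) ℂ)) *
    Matrix.fromBlocks 0 1 (-1) 0 = -1 := by
  have : (-1 : Matrix (Fin m ⊕ Fin m) (Fin m ⊕ Fin m) ℂ) = Matrix.fromBlocks (-1) 0 0 (-1) := by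
    rw [← Matrix.fromBlocks_one, Matrix.fromBlocks_neg]; simp
  rw [this, Matrix.fromBlocks_multiply]
  simp

theorem detJ_sq (m : ℕ) : (Matrix.fromBlocks (0 : Matrix (Fin m) (Fin m) ℂ) (1 : Matrix (Fin m) (Fin m) ℂ) (-1 : Matrix (Fin m) (Fin m) ℂ) (0 : Matrix (Fin m) (Fin m) ℂ)).det *
    (Matrix.fromBlocks (0 : Matrix (Fin m) (Fin m) ℂ) (1 : Matrix (Fin m) (Fin m) ℂ) (-1 : Matrix (Fin m) (Fin m) ℂ) (0 : Matrix (Fin m) (Fin m) ℂ)).det = 1 := by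
  rw [← Matrix.det_mul, J_sq, Matrix.det_neg, Matrix.det_one, mul_one, Fintype.card_sum,
    Fintype.card_fin, ← two_mul, pow_mul]
  norm_num

theorem J_transpose (m : ℕ) : (Matrix.fromBlocks (0 : Matrix (Fin m) (Fin m) ℂ) (1 : Matrix (Fin m) (Fin m) ℂ) (-1 : Matrix (Fin m) (Fin m) ℂ) (0 : Matrix (Fin m) (Fin m) ℂ)).transpose =
    -Matrix.fromBlocks 0 1 (-1) 0 := by
  rw [Matrix.fromBlocks_transpose, Matrix.fromBlocks_neg]
  simp

theorem part2 (m : ℕ) (pf : MvPolynomial ((Fin m ⊕ Fin m) × (Fin m ⊕ Fin m)) ℂ)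
    (hpf : (gen (Fin m ⊕ Fin m)).det = pf ^ 2) :
    ∃ Q : MvPolynomial ((Fin m ⊕ Fin m) × (Fin m ⊕ Fin m)) ℂ,
      ∀ A : Matrix (Fin m ⊕ Fin m) (Fin m ⊕ Fin m) ℂ,
        A.transpose * Matrix.fromBlocks 0 1 (-1) 0 = Matrix.fromBlocks 0 1 (-1) 0 * A →
        A.det = (MvPolynomial.eval (fun ij => A ij.1 ij.2) Q) ^ 2 := by
  obtain ⟨J, hJ⟩ : ∃ J : Matrix (Fin m ⊕ Fin m) (Fin m ⊕ Fin m) ℂ,
      J = Matrix.fromBlocks 0 1 (-1) 0 := ⟨_, rfl⟩
  have hJt : J.transpose = -J := by rw [hJ]; exact J_transpose m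
  have hJd : J.det * J.det = 1 := by rw [hJ]; exact detJ_sq m
  obtain ⟨c, hc⟩ := IsAlgClosed.exists_pow_nat_eq J.det (n := 2) (by norm_num)
  rw [← hJ]
  obtain ⟨XM, hXM⟩ : ∃ XM : Matrix (Fin m ⊕ Fin m) (Fin m ⊕ Fin m)
      (MvPolynomial ((Fin m ⊕ Fin m) × (Fin m ⊕ Fin m)) ℂ),
      XM = Matrix.of fun k j => MvPolynomial.X (k, j) := ⟨_, rfl⟩
  obtain ⟨f, hf⟩ : ∃ f : (Fin m ⊕ Fin m) × (Fin m ⊕ Fin m) →
      MvPolynomial ((Fin m ⊕ Fin m) × (Fin m ⊕ Fin m)) ℂ,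
      f = fun p => (1 / 2 : ℂ) • ((J.map MvPolynomial.C * XM : Matrix (Fin m ⊕ Fin m)
        (Fin m ⊕ Fin m) (MvPolynomial ((Fin m ⊕ Fin m) × (Fin m ⊕ Fin m)) ℂ)) p.1 p.2) :=
      ⟨_, rfl⟩
  refine ⟨MvPolynomial.C c * MvPolynomial.aeval f pf, ?_⟩
  intro A hA
  have hskew : ∀ i j, (J * A) j i = -(J * A) i j := by
    have hST : (J * A).transpose = -(J * A) := by
      rw [Matrix.transpose_mul, hJt, Matrix.mul_neg, hA]
    intro i j
    have := congrFun (congrFun hST i) j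
    simpa [Matrix.transpose_apply] using this
  have h1 := det_eq_sq pf hpf (J * A) hskew
  rw [Matrix.det_mul] at h1
  obtain ⟨g, hg⟩ : ∃ g : (Fin m ⊕ Fin m) × (Fin m ⊕ Fin m) → ℂ, g = fun ij => A ij.1 ij.2 :=
    ⟨_, rfl⟩
  have e1 : MvPolynomial.eval g (MvPolynomial.aeval f pf) =
      MvPolynomial.aeval (fun p => MvPolynomial.aeval g (f p)) pf :=
    MvPolynomial.comp_aeval_apply f (MvPolynomial.aeval g) pf
  have e2 : (fun p => MvPolynomial.aeval g (f p)) = fun p => (1 / 2 : ℂ) • (J * A) p.1 p.2 := by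
    funext p
    rw [hf]
    simp only [map_smul, Matrix.mul_apply, map_sum, map_mul, Matrix.map_apply, hXM,
      Matrix.of_apply, MvPolynomial.aeval_C, MvPolynomial.aeval_X, hg]
    rfl
  rw [← hg, map_mul, MvPolynomial.eval_C, e1, e2]
  obtain ⟨q, hq⟩ : ∃ q, q = MvPolynomial.aeval (fun p : (Fin m ⊕ Fin m) × (Fin m ⊕ Fin m) =>
    (1 / 2 : ℂ) • (J * A) p.1 p.2) pf := ⟨_, rfl⟩
  rw [← hq] at h1 ⊢
  calc A.det = J.det * J.det * A.det := by rw [hJd, one_mul]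
    _ = c ^ 2 * q ^ 2 := by rw [hc, ← h1, mul_assoc]
    _ = (c * q) ^ 2 := by ring

theorem part1 (m : ℕ) (pf : MvPolynomial ((Fin m ⊕ Fin m) × (Fin m ⊕ Fin m)) ℂ)
    (hpf : (gen (Fin m ⊕ Fin m)).det = pf ^ 2) :
    ∃ P : MvPolynomial ((Fin m ⊕ Fin m) × (Fin m ⊕ Fin m)) (Polynomial ℂ),
      ∀ A : Matrix (Fin m ⊕ Fin m) (Fin m ⊕ Fin m) ℂ,
        A.transpose * Matrix.fromBlocks 0 1 (-1) 0 = Matrix.fromBlocks 0 1 (-1) 0 * A →
        A.charpoly = (MvPolynomial.eval (fun ij => Polynomial.C (A ij.1 ij.2)) P) ^ 2 := by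
  obtain ⟨J, hJ⟩ : ∃ J : Matrix (Fin m ⊕ Fin m) (Fin m ⊕ Fin m) ℂ,
      J = Matrix.fromBlocks 0 1 (-1) 0 := ⟨_, rfl⟩
  have hJt : J.transpose = -J := by rw [hJ]; exact J_transpose m
  have hJd : J.det * J.det = 1 := by rw [hJ]; exact detJ_sq m
  obtain ⟨c, hc⟩ := IsAlgClosed.exists_pow_nat_eq J.det (n := 2) (by norm_num)
  rw [← hJ]
  obtain ⟨J1, hJ1⟩ : ∃ J1 : Matrix (Fin m ⊕ Fin m) (Fin m ⊕ Fin m)
      (MvPolynomial ((Fin m ⊕ Fin m) × (Fin m ⊕ Fin m)) (Polynomial ℂ)),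
      J1 = J.map (fun z => MvPolynomial.C (Polynomial.C z)) := ⟨_, rfl⟩
  obtain ⟨M1, hM1def⟩ : ∃ M1 : Matrix (Fin m ⊕ Fin m) (Fin m ⊕ Fin m)
      (MvPolynomial ((Fin m ⊕ Fin m) × (Fin m ⊕ Fin m)) (Polynomial ℂ)),
      M1 = Matrix.scalar (Fin m ⊕ Fin m) (MvPolynomial.C Polynomial.X) -
        (Matrix.of fun k j => MvPolynomial.X (k, j)) := ⟨_, rfl⟩
  obtain ⟨f1, hf1⟩ : ∃ f1 : (Fin m ⊕ Fin m) × (Fin m ⊕ Fin m) →
      MvPolynomial ((Fin m ⊕ Fin m) × (Fin m ⊕ Fin m)) (Polynomial ℂ),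
      f1 = fun p => (1 / 2 : ℂ) • (J1 * M1) p.1 p.2 := ⟨_, rfl⟩
  refine ⟨MvPolynomial.C (Polynomial.C c) * MvPolynomial.aeval f1 pf, ?_⟩
  intro A hA
  have hcomm : Matrix.charmatrix A.transpose * J.map Polynomial.C =
      J.map Polynomial.C * Matrix.charmatrix A := by
    unfold Matrix.charmatrix
    rw [Matrix.sub_mul, Matrix.mul_sub, RingHom.mapMatrix_apply, RingHom.mapMatrix_apply,
      ← Matrix.map_mul, ← Matrix.map_mul, hA]
    congr 1
    exact (Matrix.scalar_commute _ (fun r' => Commute.all _ _) _).eq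
  have hJCt : (J.map Polynomial.C).transpose = -(J.map Polynomial.C) := by
    rw [← Matrix.transpose_map, hJt, Matrix.map_neg _ (fun a => map_neg _ a)]
  have hskew : ∀ i j, (J.map Polynomial.C * Matrix.charmatrix A) j i =
      -(J.map Polynomial.C * Matrix.charmatrix A) i j := by
    have hST : (J.map Polynomial.C * Matrix.charmatrix A).transpose =
        -(J.map Polynomial.C * Matrix.charmatrix A) := by
      rw [Matrix.transpose_mul, ← Matrix.charmatrix_transpose, hJCt, Matrix.mul_neg, hcomm]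
    intro i j
    have := congrFun (congrFun hST i) j
    simpa [Matrix.transpose_apply] using this
  have h1 := det_eq_sq pf hpf (J.map Polynomial.C * Matrix.charmatrix A) hskew
  have hdJ : (J.map Polynomial.C).det = Polynomial.C J.det := by
    rw [RingHom.map_det, RingHom.mapMatrix_apply]
  rw [Matrix.det_mul, hdJ] at h1
  obtain ⟨g1, hg1⟩ : ∃ g1 : (Fin m ⊕ Fin m) × (Fin m ⊕ Fin m) → Polynomial ℂ,
      g1 = fun ij => Polynomial.C (A ij.1 ij.2) := ⟨_, rfl⟩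
  obtain ⟨φ1, hφ1⟩ : ∃ φ1 : MvPolynomial ((Fin m ⊕ Fin m) × (Fin m ⊕ Fin m)) (Polynomial ℂ)
      →ₐ[ℂ] Polynomial ℂ, φ1 = (MvPolynomial.aeval g1).restrictScalars ℂ := ⟨_, rfl⟩
  have hφ1e : ∀ x, φ1 x = MvPolynomial.eval g1 x := by
    intro x; rw [hφ1]; rfl
  have e1 : MvPolynomial.eval g1 (MvPolynomial.aeval f1 pf) =
      MvPolynomial.aeval (fun p => φ1 (f1 p)) pf := by
    rw [← hφ1e]
    exact MvPolynomial.comp_aeval_apply f1 φ1 pf
  have hM1 : ∀ k j, MvPolynomial.eval g1 (M1 k j) = Matrix.charmatrix A k j := by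
    intro k j
    rw [hM1def, Matrix.charmatrix_apply, Matrix.sub_apply, Matrix.scalar_apply,
      Matrix.diagonal_apply, Matrix.diagonal_apply, map_sub, Matrix.of_apply, MvPolynomial.eval_X,
      hg1]
    split_ifs <;> simp
  have e2 : (fun p => φ1 (f1 p)) =
      fun p => (1 / 2 : ℂ) • (J.map Polynomial.C * Matrix.charmatrix A) p.1 p.2 := by
    funext p
    rw [hf1]
    show φ1 ((1 / 2 : ℂ) • (J1 * M1) p.1 p.2) = _
    rw [map_smul, hφ1e]
    congr 1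
    rw [Matrix.mul_apply, Matrix.mul_apply, map_sum]
    refine Finset.sum_congr rfl fun k _ => ?_
    rw [map_mul, hM1 k p.2, hJ1, Matrix.map_apply, Matrix.map_apply, MvPolynomial.eval_C]
  rw [← hg1, map_mul, MvPolynomial.eval_C, e1, e2]
  obtain ⟨q, hq⟩ : ∃ q, q = MvPolynomial.aeval (fun p : (Fin m ⊕ Fin m) × (Fin m ⊕ Fin m) =>
    (1 / 2 : ℂ) • (J.map Polynomial.C * Matrix.charmatrix A) p.1 p.2) pf := ⟨_, rfl⟩
  rw [← hq] at h1 ⊢
  have h1' : Polynomial.C J.det * A.charpoly = q ^ 2 := h1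
  calc A.charpoly = Polynomial.C (J.det * J.det) * A.charpoly := by
        rw [hJd, Polynomial.C_1, one_mul]
    _ = Polynomial.C J.det * (Polynomial.C J.det * A.charpoly) := by
        rw [Polynomial.C_mul, mul_assoc]
    _ = Polynomial.C (c ^ 2) * q ^ 2 := by rw [hc, h1']
    _ = (Polynomial.C c * q) ^ 2 := by rw [Polynomial.C_pow]; ring



/-- Let J be the 2m × 2m block matrix with blocks 0, I_m in the first row and −I_m, 0 in the second,
over the complex numbers. On the set of complex 2m × 2m matrices A with ᵗA · J = J · A (equivalently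
ᵗA = J A J⁻¹, J being invertible), the characteristic polynomial is the square of a single
polynomial in the entries of A with coefficients in ℂ[X], and the determinant is the square of a
single polynomial in the entries of A. -/
theorem result (m : ℕ) :
    (∃ P : MvPolynomial ((Fin m ⊕ Fin m) × (Fin m ⊕ Fin m)) (Polynomial ℂ),
      ∀ A : Matrix (Fin m ⊕ Fin m) (Fin m ⊕ Fin m) ℂ,
        A.transpose * Matrix.fromBlocks 0 1 (-1) 0 = Matrix.fromBlocks 0 1 (-1) 0 * A →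
        A.charpoly = (MvPolynomial.eval (fun ij => Polynomial.C (A ij.1 ij.2)) P) ^ 2) ∧
    (∃ Q : MvPolynomial ((Fin m ⊕ Fin m) × (Fin m ⊕ Fin m)) ℂ,
      ∀ A : Matrix (Fin m ⊕ Fin m) (Fin m ⊕ Fin m) ℂ,
        A.transpose * Matrix.fromBlocks 0 1 (-1) 0 = Matrix.fromBlocks 0 1 (-1) 0 * A →
        A.det = (MvPolynomial.eval (fun ij => A ij.1 ij.2) Q) ^ 2) := by
  obtain ⟨pf, hpf⟩ := hasPf_all m
  exact ⟨part1 m pf hpf, part2 m pf hpf⟩


end Groth.Agent.S15155
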