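import Groth.Statements.S16470
import Groth.Agent.Lib.Lead.VBCurve13
-- import your own Groth.Agent.* helpers here

set_option autoImplicit false
set_option backward.isDefEq.respectTransparency false
universe u
open CategoryTheory CategoryTheory.Limits AlgebraicGeometry
open VBCurve

namespace Groth.Agent.S16470

theorem arith_u (dE1 dE1' dK dI r1 r1' rK rI : ℤ) (hr1 : 0 < r1) (hr1' : 0 < r1') (hrK : 0 ≤ rK)
    (hrk : r1' = rK + rI) (hdeg : dE1' = dK + dI) (hslope : dE1 * r1' = dE1' * r1)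
    (hK : 0 < rK → dK * r1' ≤ dE1' * rK) (hK0 : rK = 0 → dK = 0) (hI : dI * r1 < dE1 * rI) : False := by
  have claim : dE1' * rI ≤ dI * r1' := by
    rcases hrK.eq_or_lt with h0 | hpos
    · have hk := hK0 h0.symm
      subst hk
      have : rK = 0 := h0.symm
      subst this
      simp only [zero_add] at hrk hdeg
      subst hrk hdeg
      exact le_refl _
    · have a := hK hpos
      have e1 : dI * r1' = dE1' * r1' - dK * r1' := by subst hdeg; ring
      have e2 : dE1' * rI = dE1' * r1' - dE1' * rK := by subst hrk; ring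
      linarith
  have h1 : dE1 * rI * r1' ≤ dI * r1 * r1' := by
    calc dE1 * rI * r1' = (dE1 * r1') * rI := by ring
      _ = (dE1' * r1) * rI := by rw [hslope]
      _ = (dE1' * rI) * r1 := by ring
      _ ≤ (dI * r1') * r1 := mul_le_mul_of_nonneg_right claim hr1.le
      _ = dI * r1 * r1' := by ring
  have h2 : dE1 * rI ≤ dI * r1 := le_of_mul_le_mul_right h1 hr1'
  linarith

theorem arith_q (dE1 dQ r1 s : ℤ) (hs : 0 < s) (h : (dE1 + dQ) * r1 ≤ dE1 * (r1 + s))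
    (hne : (dE1 + dQ) * r1 = dE1 * (r1 + s) → r1 + s ≤ r1) : dQ * r1 < dE1 * s := by
  have h1 : dQ * r1 ≤ dE1 * s := by
    have e1 : (dE1 + dQ) * r1 = dE1 * r1 + dQ * r1 := by ring
    have e2 : dE1 * (r1 + s) = dE1 * r1 + dE1 * s := by ring
    linarith
  rcases h1.eq_or_lt with heq | hlt
  · exfalso
    have : (dE1 + dQ) * r1 = dE1 * (r1 + s) := by
      have e1 : (dE1 + dQ) * r1 = dE1 * r1 + dQ * r1 := by ring
      have e2 : dE1 * (r1 + s) = dE1 * r1 + dE1 * s := by ring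
      linarith
    have := hne this
    linarith
  · exact hlt

open Groth.Agent.Lib.Lead.VBCurve in
/-- a maximal-slope submodule whose quotient has strictly smaller slopes contains every maximal-slope submodule -/
theorem factor (k : Type u) [Field k] (X : Scheme.{u}) [X.Over (Spec (CommRingCat.of k))]
    [IsProper (X ↘ Spec (CommRingCat.of k))] [IsIntegral X] (hP : PIDStalks X)
    (hdim : topologicalKrullDim X ≤ 1) {E : X.Modules} {r : ℕ} (hE : FlatMod.IsFinLocFreeOfRank r E)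
    (E₁ E₁' : X.Modules) (r₁ r₁' : ℕ) (i₁ : E₁ ⟶ E) (i₁' : E₁' ⟶ E)
    [Mono i₁] (hr₁ : 0 < r₁) (hE₁ : FlatMod.IsFinLocFreeOfRank r₁ E₁)
    (h1 : ∀ (F : X.Modules) (r' : ℕ) (j : F ⟶ E), Mono j → 0 < r' → FlatMod.IsFinLocFreeOfRank r' F →
        Curv2.deg k X F r' * (r₁ : ℤ) ≤ Curv2.deg k X E₁ r₁ * (r' : ℤ))
    (h2 : ∀ (Q : X.Modules) (s : ℕ) (j : Q ⟶ cokernel i₁), Mono j → 0 < s → FlatMod.IsFinLocFreeOfRank s Q →
        Curv2.deg k X Q s * (r₁ : ℤ) < Curv2.deg k X E₁ r₁ * (s : ℤ))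
    [Mono i₁'] (hr₁' : 0 < r₁') (hE₁' : FlatMod.IsFinLocFreeOfRank r₁' E₁')
    (h1' : ∀ (F : X.Modules) (r' : ℕ) (j : F ⟶ E), Mono j → 0 < r' → FlatMod.IsFinLocFreeOfRank r' F →
        Curv2.deg k X F r' * (r₁' : ℤ) ≤ Curv2.deg k X E₁' r₁' * (r' : ℤ)) :
    ∃ v : E₁' ⟶ E₁, v ≫ i₁ = i₁' := by
  have hr₁z : (0 : ℤ) < (r₁ : ℤ) := by exact_mod_cast hr₁
  have hr₁z' : (0 : ℤ) < (r₁' : ℤ) := by exact_mod_cast hr₁'
  -- equal slopes
  have hslope : Curv2.deg k X E₁ r₁ * (r₁' : ℤ) = Curv2.deg k X E₁' r₁' * (r₁ : ℤ) :=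
    le_antisymm (h1' E₁ r₁ i₁ inferInstance hr₁ hE₁) (h1 E₁' r₁' i₁' inferInstance hr₁' hE₁')
  -- the quotient is locally free
  have hmax : ∀ (G' : X.Modules) (ι' : G' ⟶ E), Mono ι' → FlatMod.IsFinLocFreeOfRank r₁ G' →
      Curv2.deg k X G' r₁ ≤ Curv2.deg k X E₁ r₁ := fun G' ι' hm hG' =>
    le_of_mul_le_mul_right (h1 G' r₁ ι' hm hr₁ hG') hr₁z
  obtain ⟨t, -, hC, -⟩ := cokernel_data_of_maxDeg k X hP hdim hE₁ hE i₁ hmax
  -- the composite to the quotient vanishes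
  have hφ : i₁' ≫ cokernel.π i₁ = 0 := by
    by_contra hne
    obtain ⟨rK, rI, hK, hI, hrr, hdeg, hIpos, -, hdK0⟩ :=
      kernel_image_data k X hP hE₁' hC (i₁' ≫ cokernel.π i₁)
    have hIlt := h2 (Abelian.image (i₁' ≫ cokernel.π i₁)) rI (Abelian.image.ι _) inferInstance (hIpos hne) hI
    have hrr' : (r₁' : ℤ) = (rK : ℤ) + (rI : ℤ) := by exact_mod_cast hrr
    refine arith_u _ _ _ _ _ _ _ _ hr₁z hr₁z' (Int.natCast_nonneg rK) hrr' hdeg hslope (fun hpos => ?_)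
      (fun h0 => hdK0 (by exact_mod_cast h0)) hIlt
    exact h1' (kernel (i₁' ≫ cokernel.π i₁)) rK (kernel.ι _ ≫ i₁') inferInstance (by exact_mod_cast hpos) hK
  exact ⟨Abelian.monoLift i₁ i₁' hφ, Abelian.monoLift_comp i₁ i₁' hφ⟩


/-- Let X be a smooth proper integral curve (integral, smooth and proper of dimension one) over an
algebraically closed field k and E a finite locally free O_X-module of rank r ≥ 1 (degree = χ −
rank·χ(O_X), slope = degree / rank). There is a finite locally free submodule E₁ ⊂ E (a monomorphism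
of O_X-modules) of some rank r₁ ≥ 1, the destabilising sub-bundle, such that: every finite locally
free submodule F ⊂ E of rank r' ≥ 1 has slope at most that of E₁ (deg F · r₁ ≤ deg E₁ · r'); and the
maximal slope drops in the quotient, i.e. every finite locally free submodule G of rank r' ≥ 1 of
the cokernel E/E₁ has deg G · r₁ < deg E₁ · r'. Moreover a submodule with these two properties is
unique: any two are the same subobject of E. (Such an E₁ is slope-semistable, every submodule of E₁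
being a submodule of E; the published statement lists semistability of E₁ as a third property, which
is therefore omitted here.) -/
theorem result (k : Type u) [Field k] [IsAlgClosed k] (X : Scheme.{u}) [X.Over (Spec (CommRingCat.of k))]
    [IsIntegral X] [IsProper (X ↘ Spec (CommRingCat.of k))] [Smooth (X ↘ Spec (CommRingCat.of k))]
    (hdim : topologicalKrullDim X = 1)
    (r : ℕ) (hr : 0 < r) (E : X.Modules) (hE : FlatMod.IsFinLocFreeOfRank r E) :
    (∃ (E₁ : X.Modules) (r₁ : ℕ) (i₁ : E₁ ⟶ E), Mono i₁ ∧ 0 < r₁ ∧ FlatMod.IsFinLocFreeOfRank r₁ E₁ ∧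
      (∀ (F : X.Modules) (r' : ℕ) (j : F ⟶ E), Mono j → 0 < r' → FlatMod.IsFinLocFreeOfRank r' F →
        Curv2.deg k X F r' * (r₁ : ℤ) ≤ Curv2.deg k X E₁ r₁ * (r' : ℤ)) ∧
      (∀ (Q : X.Modules) (s : ℕ) (j : Q ⟶ cokernel i₁), Mono j → 0 < s → FlatMod.IsFinLocFreeOfRank s Q →
        Curv2.deg k X Q s * (r₁ : ℤ) < Curv2.deg k X E₁ r₁ * (s : ℤ))) ∧
    (∀ (E₁ E₁' : X.Modules) (r₁ r₁' : ℕ) (i₁ : E₁ ⟶ E) (i₁' : E₁' ⟶ E),
      Mono i₁ → 0 < r₁ → FlatMod.IsFinLocFreeOfRank r₁ E₁ →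
      (∀ (F : X.Modules) (r' : ℕ) (j : F ⟶ E), Mono j → 0 < r' → FlatMod.IsFinLocFreeOfRank r' F →
        Curv2.deg k X F r' * (r₁ : ℤ) ≤ Curv2.deg k X E₁ r₁ * (r' : ℤ)) →
      (∀ (Q : X.Modules) (s : ℕ) (j : Q ⟶ cokernel i₁), Mono j → 0 < s → FlatMod.IsFinLocFreeOfRank s Q →
        Curv2.deg k X Q s * (r₁ : ℤ) < Curv2.deg k X E₁ r₁ * (s : ℤ)) →
      Mono i₁' → 0 < r₁' → FlatMod.IsFinLocFreeOfRank r₁' E₁' →
      (∀ (F : X.Modules) (r' : ℕ) (j : F ⟶ E), Mono j → 0 < r' → FlatMod.IsFinLocFreeOfRank r' F →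
        Curv2.deg k X F r' * (r₁' : ℤ) ≤ Curv2.deg k X E₁' r₁' * (r' : ℤ)) →
      (∀ (Q : X.Modules) (s : ℕ) (j : Q ⟶ cokernel i₁'), Mono j → 0 < s → FlatMod.IsFinLocFreeOfRank s Q →
        Curv2.deg k X Q s * (r₁' : ℤ) < Curv2.deg k X E₁' r₁' * (s : ℤ)) →
      ∃ e : E₁ ≅ E₁', e.hom ≫ i₁' = i₁) := by
  have hP := Groth.Agent.Lib.Lead.VBCurve.pidStalks_of_smooth k X hdim.le
  have hd := hdim.le
  haveI := Groth.Agent.Lib.Lead.CurveEuler.isNoetherian k X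
  constructor
  · obtain ⟨E₁, r₁, i₁, hm, hr₁, hE₁, hmaxs, hmaxr⟩ :=
      Groth.Agent.Lib.Lead.VBCurve.exists_maxSlope k X hd hr hE
    haveI := hm
    refine ⟨E₁, r₁, i₁, hm, hr₁, hE₁, hmaxs, fun Q s j hj hs hQ => ?_⟩
    haveI := hj
    have hS := Groth.Agent.Lib.Lead.VBCurve.shortExact_cokernel X i₁
    have hq : (cokernel i₁).IsQuasicoherent :=
      (Groth.Agent.Lib.helper7.CohKer.isCoh_cokernel
        (Groth.Agent.Lib.Lead.RankAdd.isCoh_of_isFinLocFreeOfRank hE₁)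
        (Groth.Agent.Lib.Lead.RankAdd.isCoh_of_isFinLocFreeOfRank hE) i₁).1
    obtain ⟨P, a, f', g', ha, -, -, -, hPr, hPd⟩ := Groth.Agent.Lib.Lead.VBCurve.preimage_data k X hP
      (ShortComplex.mk i₁ (cokernel.π i₁) (cokernel.condition i₁)) hS hq hE₁ hE hQ j
    have h := hmaxs P (r₁ + s) a ha (by omega) hPr
    have h' := hmaxr P (r₁ + s) a ha (by omega) hPr
    rw [hPd] at h h'
    push_cast at h h'
    have hs0 : (0 : ℤ) < (s : ℤ) := by exact_mod_cast hs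
    exact arith_q _ _ _ _ hs0 h (fun he => by exact_mod_cast h' he)
  · intro E₁ E₁' r₁ r₁' i₁ i₁' hm hr₁ hE₁ h1 h2 hm' hr₁' hE₁' h1' h2'
    haveI := hm
    haveI := hm'
    obtain ⟨v, hv⟩ := factor k X hP hd hE E₁ E₁' r₁ r₁' i₁ i₁' hr₁ hE₁ h1 h2 hr₁' hE₁' h1'
    obtain ⟨u, hu⟩ := factor k X hP hd hE E₁' E₁ r₁' r₁ i₁' i₁ hr₁' hE₁' h1' h2' hr₁ hE₁ h1
    refine ⟨⟨u, v, ?_, ?_⟩, hu⟩
    · rw [← cancel_mono i₁, Category.assoc, hv, hu, Category.id_comp]
    · rw [← cancel_mono i₁', Category.assoc, hu, hv, Category.id_comp]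

end Groth.Agent.S16470
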