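import Groth.Statements.S15156
import Groth.Agent.S16470
import Groth.Agent.Lib.Helper18.PullEuler
import Groth.Agent.Lib.Helper11.HUOpen
import Groth.Agent.Lib.Lead.VBCurve13
-- import your own Groth.Agent.* helpers here

set_option autoImplicit false
set_option backward.isDefEq.respectTransparency false
open CategoryTheory CategoryTheory.Limits AlgebraicGeometry
open VBCurve

namespace Groth.Agent.S15156

open CategoryTheory AlgebraicGeometry CategoryTheory.Limits Module
open Groth.Agent.Lib.Lead.VBCurve Scheme.Modules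

/-- Euler characteristic is invariant under pullback along an isomorphism over `k` -/
theorem euler_pullback_iso (k : Type) [Field k] {X : Scheme.{0}} [X.Over (Spec (CommRingCat.of k))]
    (σ : X ⟶ X) [IsIso σ] (hσS : σ ≫ (X ↘ Spec (CommRingCat.of k)) = X ↘ Spec (CommRingCat.of k))
    (N : X.Modules) [N.IsQuasicoherent] :
    Curv2.euler k X ((Scheme.Modules.pullback σ).obj N) = Curv2.euler k X N := by
  let M' : X.Modules := (restrictFunctor σ).obj N
  haveI hM' : M'.IsQuasicoherent := inferInstance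
  have hu : IsIso ((restrictAdjunction σ).unit.app N) :=
    Groth.Agent.Lib.helper11.HUOpen.isIso_restrictAdjunction_unit_of_isIso σ N
  let e2 : N ≅ (pushforward σ).obj M' := @asIso _ _ _ _ ((restrictAdjunction σ).unit.app N) hu
  have h1 := Groth.Agent.Lib.Lead.CurveEuler.euler_eq_of_iso k X e2
  have h2 := Groth.Agent.Lib.Helper18.PullEuler.euler_push k σ hσS M'
  have h3 := Groth.Agent.Lib.Lead.CurveEuler.euler_eq_of_iso k X ((restrictFunctorIsoPullback σ).app N)
  rw [← h3, ← h2, ← h1]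


/-- Let X be a smooth proper integral curve of genus at least 2 over the complex numbers with an
involution σ ≠ id over the complex numbers, and (E, φ) a σ-linearized finite locally free module of
rank r ≥ 1: φ : σ^*E ≅ E with φ ∘ σ^*φ equal to the canonical identification σ^*σ^*E ≅ E. A
submodule F ⊂ E is σ-invariant when the composite σ^*F → σ^*E → E factors through F. Then (E, φ) is
semistable with respect to σ-invariant finite locally free submodules (deg F · r ≤ deg E · rk F for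
each such F of positive rank) if and only if E is slope-semistable (the same inequality for every
finite locally free submodule of positive rank); degrees are χ − rank · χ(O). -/
theorem result
    (X : Scheme.{0}) [X.Over (Spec (CommRingCat.of ℂ))] [IsIntegral X] [IsProper (X ↘ Spec (CommRingCat.of ℂ))] [Smooth (X ↘ Spec (CommRingCat.of ℂ))]
    (hdim : topologicalKrullDim X = 1) (hg : 2 ≤ Curv2.genus ℂ X)
    (σ : X ⟶ X) (hσS : σ ≫ (X ↘ Spec (CommRingCat.of ℂ)) = X ↘ Spec (CommRingCat.of ℂ)) (hσ : σ ≫ σ = 𝟙 X) (hσ1 : σ ≠ 𝟙 X)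
    (r : ℕ) (hr : 0 < r) (E : X.Modules) (hE : FlatMod.IsFinLocFreeOfRank r E)
    (φ : (Scheme.Modules.pullback σ).obj E ≅ E)
    (hφ : (Scheme.Modules.pullback σ).map φ.hom ≫ φ.hom =
      (Scheme.Modules.pullbackComp σ σ).hom.app E ≫ (Scheme.Modules.pullbackCongr hσ).hom.app E ≫
        (Scheme.Modules.pullbackId X).hom.app E) :
    (∀ (F : X.Modules) (r' : ℕ) (i : F ⟶ E), Mono i → 0 < r' → FlatMod.IsFinLocFreeOfRank r' F →
      (∃ j : (Scheme.Modules.pullback σ).obj F ⟶ F, j ≫ i = (Scheme.Modules.pullback σ).map i ≫ φ.hom) →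
      Curv2.deg ℂ X F r' * (r : ℤ) ≤ Curv2.deg ℂ X E r * (r' : ℤ)) ↔
    (∀ (F : X.Modules) (r' : ℕ) (i : F ⟶ E), Mono i → 0 < r' → FlatMod.IsFinLocFreeOfRank r' F →
      Curv2.deg ℂ X F r' * (r : ℤ) ≤ Curv2.deg ℂ X E r * (r' : ℤ)) := by
  constructor
  · intro hinv
    have hP := pidStalks_of_smooth ℂ X hdim.le
    haveI : IsIso σ := ⟨σ, hσ, hσ⟩
    obtain ⟨⟨E₁, r₁, i₁, hm₁, hr₁, hE₁, h1, h2⟩, -⟩ := Groth.Agent.S16470.result ℂ X hdim r hr E hE
    haveI := hm₁
    -- the pullback of `E₁`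
    let eqv : X.Modules ≌ X.Modules := CategoryTheory.Equivalence.mk (Scheme.Modules.pullback σ)
      (Scheme.Modules.pullback σ)
      ((Scheme.Modules.pullbackId X).symm ≪≫ (Scheme.Modules.pullbackCongr hσ).symm ≪≫
        (Scheme.Modules.pullbackComp σ σ).symm)
      ((Scheme.Modules.pullbackComp σ σ) ≪≫ (Scheme.Modules.pullbackCongr hσ) ≪≫
        (Scheme.Modules.pullbackId X))
    haveI : (Scheme.Modules.pullback σ).IsEquivalence := eqv.isEquivalence_functor
    haveI : Mono ((Scheme.Modules.pullback σ).map i₁) := inferInstance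
    have hPr : FlatMod.IsFinLocFreeOfRank r₁ ((Scheme.Modules.pullback σ).obj E₁) :=
      Groth.Agent.Lib.helper16.FLF.isFinLocFreeOfRank_pullback σ hE₁
    haveI : E₁.IsQuasicoherent := (Groth.Agent.Lib.Lead.RankAdd.isCoh_of_isFinLocFreeOfRank hE₁).1
    have hχ := euler_pullback_iso ℂ σ hσS E₁
    have hdegP : Curv2.deg ℂ X ((Scheme.Modules.pullback σ).obj E₁) r₁ = Curv2.deg ℂ X E₁ r₁ := by
      unfold Curv2.deg
      rw [hχ]
    obtain ⟨v, hv⟩ := Groth.Agent.S16470.factor ℂ X hP hdim.le hE E₁ ((Scheme.Modules.pullback σ).obj E₁)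
      r₁ r₁ i₁ ((Scheme.Modules.pullback σ).map i₁ ≫ φ.hom) hr₁ hE₁ h1 h2 hr₁ hPr
      (fun F r' j hj hr' hF => by rw [hdegP]; exact h1 F r' j hj hr' hF)
    have hE₁le := hinv E₁ r₁ i₁ hm₁ hr₁ hE₁ ⟨v, hv⟩
    intro F r' i hi hr' hF
    have hF1 := h1 F r' i hi hr' hF
    have hr₁z : (0 : ℤ) < (r₁ : ℤ) := by exact_mod_cast hr₁
    have hr'z : (0 : ℤ) ≤ (r' : ℤ) := Int.natCast_nonneg _
    have hrz : (0 : ℤ) ≤ (r : ℤ) := Int.natCast_nonneg _
    refine le_of_mul_le_mul_right ?_ hr₁z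
    calc Curv2.deg ℂ X F r' * (r : ℤ) * (r₁ : ℤ) = (Curv2.deg ℂ X F r' * (r₁ : ℤ)) * (r : ℤ) := by ring
      _ ≤ (Curv2.deg ℂ X E₁ r₁ * (r' : ℤ)) * (r : ℤ) := mul_le_mul_of_nonneg_right hF1 hrz
      _ = (Curv2.deg ℂ X E₁ r₁ * (r : ℤ)) * (r' : ℤ) := by ring
      _ ≤ (Curv2.deg ℂ X E r * (r₁ : ℤ)) * (r' : ℤ) := mul_le_mul_of_nonneg_right hE₁le hr'z
      _ = Curv2.deg ℂ X E r * (r' : ℤ) * (r₁ : ℤ) := by ring
  · intro hss F r' i hi hr' hF _
    exact hss F r' i hi hr' hF


end Groth.Agent.S15156
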