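import Groth.Statements.S15159
import Mathlib

set_option autoImplicit false
open CAlg

namespace Groth.Agent.S15159

set_option linter.style.haveILetI false
set_option linter.unusedSectionVars false
set_option linter.unusedVariables false

/-! ### Counting lemmas -/

theorem sum_ite_lt (m : ℤ) (T : ℕ) :
    ∑ t ∈ Finset.range T, (if m ≤ (t : ℤ) then (1 : ℤ) else 0) = (T : ℤ) - min (max m 0) T := by
  induction T with
  | zero => simp
  | succ T ih =>
    rw [Finset.sum_range_succ, ih]
    split_ifs <;> push_cast <;> omega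

theorem sum_ite_neg (m : ℤ) (T : ℕ) :
    ∑ t ∈ Finset.range T, (if m ≤ -(t : ℤ) then (1 : ℤ) else 0) = min (max (1 - m) 0) T := by
  induction T with
  | zero => simp
  | succ T ih =>
    rw [Finset.sum_range_succ, ih]
    split_ifs <;> push_cast <;> omega

theorem sum_ite_neg_succ (m : ℤ) (T : ℕ) :
    ∑ t ∈ Finset.range T, (if m ≤ -((t : ℤ) + 1) then (1 : ℤ) else 0) = min (max (-m) 0) T := by
  induction T with
  | zero => simp
  | succ T ih =>
    rw [Finset.sum_range_succ, ih]
    split_ifs <;> push_cast <;> omega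

section Comb

variable {ι : Type*} [Fintype ι] (d : ι → ℕ) (m : ι → ℤ)

/-- weighted count of indices with weight `≤ s` -/
def Ncount (s : ℤ) : ℤ := ∑ i, if m i ≤ s then (d i : ℤ) else 0

theorem exists_bound : ∃ T : ℕ, ∀ i, m i < T ∧ -m i < T := by
  classical
  refine ⟨(∑ i, (m i).natAbs) + 1, fun i => ?_⟩
  have h1 : (m i).natAbs ≤ ∑ i, (m i).natAbs :=
    Finset.single_le_sum (f := fun i => (m i).natAbs) (fun _ _ => Nat.zero_le _) (Finset.mem_univ i)
  constructor <;> rw [Nat.cast_add, Nat.cast_one] <;> omega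

/-- The semistable counting lemma. -/
theorem comb_ss (hsum : ∑ i, m i * (d i : ℤ) = 0)
    (h : ∀ t : ℕ, Ncount d m (-(t : ℤ)) + Ncount d m t ≤ ∑ i, (d i : ℤ)) :
    ∀ i, m i ≤ 0 → d i = 0 := by
  classical
  obtain ⟨T, hT⟩ := exists_bound m
  have h1 : ∑ t ∈ Finset.range T, (Ncount d m (-(t : ℤ)) + Ncount d m t - ∑ i, (d i : ℤ)) ≤ 0 :=
    Finset.sum_nonpos fun t _ => by linarith [h t]
  have h2 : ∑ t ∈ Finset.range T, (Ncount d m (-(t : ℤ)) + Ncount d m t - ∑ i, (d i : ℤ)) =
      ∑ i, (d i : ℤ) * ((if m i ≤ 0 then 1 else 0) - m i) := by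
    unfold Ncount
    simp only [← Finset.sum_add_distrib, ← Finset.sum_sub_distrib]
    rw [Finset.sum_comm]
    refine Finset.sum_congr rfl fun i _ => ?_
    have e1 : ∀ t : ℕ, ((if m i ≤ -(t : ℤ) then (d i : ℤ) else 0) + (if m i ≤ (t : ℤ) then (d i : ℤ) else 0)
        - (d i : ℤ)) = (d i : ℤ) * ((if m i ≤ -(t : ℤ) then (1 : ℤ) else 0) +
          (if m i ≤ (t : ℤ) then (1 : ℤ) else 0) - 1) := by
      intro t
      split_ifs <;> ring
    simp only [e1]
    rw [← Finset.mul_sum, Finset.sum_sub_distrib, Finset.sum_add_distrib, sum_ite_lt, sum_ite_neg]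
    congr 1
    have := hT i
    simp only [Finset.sum_const, Finset.card_range, nsmul_eq_mul, mul_one]
    split_ifs <;> omega
  rw [h2] at h1
  have h3 : ∑ i, (d i : ℤ) * ((if m i ≤ 0 then 1 else 0) - m i) =
      ∑ i, (d i : ℤ) * (if m i ≤ 0 then 1 else 0) := by
    have : ∑ i, (d i : ℤ) * ((if m i ≤ 0 then 1 else 0) - m i) =
        ∑ i, (d i : ℤ) * (if m i ≤ 0 then 1 else 0) - ∑ i, m i * (d i : ℤ) := by
      rw [← Finset.sum_sub_distrib]
      exact Finset.sum_congr rfl fun i _ => by ring
    rw [this, hsum, sub_zero]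
  rw [h3] at h1
  have h4 : ∀ i ∈ Finset.univ, 0 ≤ (d i : ℤ) * (if m i ≤ 0 then 1 else 0) := by
    intro i _
    split_ifs <;> simp
  have h5 := (Finset.sum_eq_zero_iff_of_nonneg h4).1 (le_antisymm h1 (Finset.sum_nonneg h4))
  intro i hi
  have := h5 i (Finset.mem_univ i)
  rw [if_pos hi, mul_one] at this
  exact_mod_cast this

/-- The stable counting lemma. -/
theorem comb_st (hsum : ∑ i, m i * (d i : ℤ) = 0)
    (h : ∀ t : ℕ, Ncount d m (-((t : ℤ) + 1)) + Ncount d m t ≤ ∑ i, (d i : ℤ))
    (h' : ∀ t : ℕ, 0 < Ncount d m (-((t : ℤ) + 1)) →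
      Ncount d m (-((t : ℤ) + 1)) + Ncount d m t < ∑ i, (d i : ℤ)) :
    ∀ i, m i < 0 → d i = 0 := by
  classical
  obtain ⟨T, hT⟩ := exists_bound m
  have h1 : ∀ t ∈ Finset.range T,
      (Ncount d m (-((t : ℤ) + 1)) + Ncount d m t - ∑ i, (d i : ℤ)) ≤ 0 :=
    fun t _ => by linarith [h t]
  have h2 : ∑ t ∈ Finset.range T, (Ncount d m (-((t : ℤ) + 1)) + Ncount d m t - ∑ i, (d i : ℤ)) =
      ∑ i, (d i : ℤ) * (- m i) := by
    unfold Ncount
    simp only [← Finset.sum_add_distrib, ← Finset.sum_sub_distrib]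
    rw [Finset.sum_comm]
    refine Finset.sum_congr rfl fun i _ => ?_
    have e1 : ∀ t : ℕ, ((if m i ≤ -((t : ℤ) + 1) then (d i : ℤ) else 0) +
        (if m i ≤ (t : ℤ) then (d i : ℤ) else 0)
        - (d i : ℤ)) = (d i : ℤ) * ((if m i ≤ -((t : ℤ) + 1) then (1 : ℤ) else 0) +
          (if m i ≤ (t : ℤ) then (1 : ℤ) else 0) - 1) := by
      intro t
      split_ifs <;> ring
    simp only [e1]
    rw [← Finset.mul_sum, Finset.sum_sub_distrib, Finset.sum_add_distrib, sum_ite_lt,
      sum_ite_neg_succ]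
    congr 1
    have := hT i
    simp only [Finset.sum_const, Finset.card_range, nsmul_eq_mul, mul_one]
    omega
  have h3 : ∑ i, (d i : ℤ) * (- m i) = 0 := by
    have : ∑ i, (d i : ℤ) * (- m i) = - ∑ i, m i * (d i : ℤ) := by
      rw [← Finset.sum_neg_distrib]
      exact Finset.sum_congr rfl fun i _ => by ring
    rw [this, hsum, neg_zero]
  rw [h3] at h2
  have h5 := (Finset.sum_eq_zero_iff_of_nonpos h1).1 h2
  intro i hi
  by_contra hdi
  -- take t = -m i - 1
  have hTi := hT i
  obtain ⟨t, ht⟩ : ∃ t : ℕ, (t : ℤ) = - m i - 1 := ⟨(- m i - 1).toNat, by omega⟩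
  have htT : t ∈ Finset.range T := by
    rw [Finset.mem_range]; omega
  have hpos : 0 < Ncount d m (-((t : ℤ) + 1)) := by
    unfold Ncount
    have hnn : ∀ j ∈ Finset.univ, 0 ≤ (if m j ≤ -((t : ℤ) + 1) then (d j : ℤ) else 0) := by
      intro j _
      split_ifs <;> simp
    refine lt_of_lt_of_le ?_ (Finset.single_le_sum hnn (Finset.mem_univ i))
    rw [if_pos (by omega)]
    have : 0 < d i := Nat.pos_of_ne_zero hdi
    exact_mod_cast this
  have := h' t hpos
  have := h5 t htT
  linarith

end Comb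

section Lin

variable {K : Type*} [Field K] {H W : Type*} [AddCommGroup H] [Module K H] [AddCommGroup W]
  [Module K W] [FiniteDimensional K H]
variable (q : H →ₗ[K] H →ₗ[K] W)

/-- The orthogonal `V^⊥ = {x | q x y = 0 for all y ∈ V}`, in the form used in the statement. -/
abbrev perp (V : Submodule K H) : Submodule K H :=
  ⨅ (y : H) (_ : y ∈ V), LinearMap.ker (q.flip y)

theorem mem_perp {V : Submodule K H} {x : H} : x ∈ perp q V ↔ ∀ y ∈ V, q x y = 0 := by
  simp only [perp, Submodule.mem_iInf, LinearMap.mem_ker, LinearMap.flip_apply]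

theorem finrank_sup_of_supIndep {ι : Type*} [DecidableEq ι] (f : ι → Submodule K H)
    (S : Finset ι) (h : S.SupIndep f) :
    Module.finrank K ↥(S.sup f) = ∑ i ∈ S, Module.finrank K ↥(f i) := by
  induction S using Finset.induction_on with
  | empty => simp
  | insert a S ha ih =>
    rw [Finset.sup_insert, Finset.sum_insert ha]
    have hd : Disjoint (f a) (S.sup f) :=
      h (Finset.subset_insert a S) (Finset.mem_insert_self a S) ha
    have := Submodule.finrank_sup_add_finrank_inf_eq (f a) (S.sup f)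
    rw [hd.eq_bot, finrank_bot, add_zero] at this
    rw [this, ih (h.subset (Finset.subset_insert a S))]

section Fwd

variable {ι : Type*} [Fintype ι] [DecidableEq ι] (Hs : ι → Submodule K H)
  (hint : DirectSum.IsInternal Hs) (m : ι → ℤ)

/-- The partial sums of the decomposition. -/
def part (s : ℤ) : Submodule K H := (Finset.univ.filter fun i => m i ≤ s).sup Hs

include hint in
theorem finrank_part (s : ℤ) :
    (Module.finrank K (part Hs m s) : ℤ) = Ncount (fun i => Module.finrank K (Hs i)) m s := by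
  unfold part Ncount
  rw [finrank_sup_of_supIndep _ _ (hint.submodule_iSupIndep.supIndep' _), Finset.sum_filter]
  push_cast
  exact Finset.sum_congr rfl fun i _ => by split_ifs <;> simp

include hint in
theorem finrank_total :
    (Module.finrank K H : ℤ) = ∑ i, (Module.finrank K (Hs i) : ℤ) := by
  have h1 : (Finset.univ : Finset ι).sup Hs = ⊤ := by
    rw [Finset.sup_univ_eq_iSup, hint.submodule_iSup_eq_top]
  have h2 := finrank_sup_of_supIndep Hs Finset.univ (hint.submodule_iSupIndep.supIndep' _)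
  rw [h1, finrank_top] at h2
  rw [h2]
  push_cast
  rfl

theorem part_le_perp (a b : ℤ)
    (h0 : ∀ i j, m i ≤ a → m j ≤ b → ∀ x ∈ Hs i, ∀ y ∈ Hs j, q x y = 0) :
    part Hs m a ≤ perp q (part Hs m b) := by
  unfold part
  rw [Finset.sup_le_iff]
  intro i hi x hx
  rw [mem_perp]
  intro y hy
  have hle : (Finset.univ.filter fun j => m j ≤ b).sup Hs ≤ LinearMap.ker (q x) := by
    rw [Finset.sup_le_iff]
    intro j hj y hy
    exact h0 i j (Finset.mem_filter.1 hi).2 (Finset.mem_filter.1 hj).2 x hx y hy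
  exact hle hy

include hint in
theorem key_ineq (a b : ℤ)
    (h0 : ∀ i j, m i ≤ a → m j ≤ b → ∀ x ∈ Hs i, ∀ y ∈ Hs j, q x y = 0)
    (h0' : ∀ i j, m i ≤ b → m j ≤ b → ∀ x ∈ Hs i, ∀ y ∈ Hs j, q x y = 0)
    (δ : ℤ) (hδ : 0 ≤ δ)
    (hss : ∀ V : Submodule K H, V ≠ ⊥ → (∀ x ∈ V, ∀ y ∈ V, q x y = 0) →
      (Module.finrank K V : ℤ) + Module.finrank K (perp q V) + δ ≤ Module.finrank K H) :
    Ncount (fun i => Module.finrank K (Hs i)) m b + Ncount (fun i => Module.finrank K (Hs i)) m a
        ≤ ∑ i, ((fun i => Module.finrank K (Hs i)) i : ℤ) ∧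
      (0 < Ncount (fun i => Module.finrank K (Hs i)) m b →
        Ncount (fun i => Module.finrank K (Hs i)) m b +
          Ncount (fun i => Module.finrank K (Hs i)) m a + δ
        ≤ ∑ i, ((fun i => Module.finrank K (Hs i)) i : ℤ)) := by
  rw [← finrank_part Hs hint, ← finrank_part Hs hint, ← finrank_total Hs hint]
  have hle : part Hs m a ≤ perp q (part Hs m b) := part_le_perp q Hs m a b h0
  have hmono : (Module.finrank K (part Hs m a) : ℤ) ≤ Module.finrank K (perp q (part Hs m b)) := by
    exact_mod_cast Submodule.finrank_mono hle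
  have hPle : (Module.finrank K (perp q (part Hs m b)) : ℤ) ≤ Module.finrank K H := by
    exact_mod_cast Submodule.finrank_le _
  by_cases hV : part Hs m b = ⊥
  · rw [hV, finrank_bot]
    constructor
    · push_cast; linarith
    · intro h; simp at h
  · have hiso : ∀ x ∈ part Hs m b, ∀ y ∈ part Hs m b, q x y = 0 := by
      intro x hx y hy
      exact (mem_perp q).1 (part_le_perp q Hs m b b h0' hx) y hy
    have := hss _ hV hiso
    constructor
    · linarith
    · intro _; linarith

end Fwd

end Lin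


-- PART2
section Fwd2

variable {K : Type*} [Field K] {H W : Type*} [AddCommGroup H] [Module K H] [AddCommGroup W]
  [Module K W] [FiniteDimensional K H]
variable (q : H →ₗ[K] H →ₗ[K] W)
variable {ι : Type*} [Fintype ι] [DecidableEq ι] (Hs : ι → Submodule K H)
  (hint : DirectSum.IsInternal Hs) (m : ι → ℤ)

include hint in
theorem forward (δ : ℤ) (hδ : δ = 0 ∨ δ = 1)
    (hss : ∀ V : Submodule K H, V ≠ ⊥ → (∀ x ∈ V, ∀ y ∈ V, q x y = 0) →
      (Module.finrank K V : ℤ) + Module.finrank K (perp q V) + δ ≤ Module.finrank K H)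
    (hsum : ∑ i, m i * (Module.finrank K (Hs i) : ℤ) = 0)
    (hex : ∃ i, m i ≠ 0 ∧ Hs i ≠ ⊥) :
    ∃ i j, (∃ x ∈ Hs i, ∃ y ∈ Hs j, q x y ≠ 0) ∧ m i + m j + δ ≤ 0 := by
  by_contra hcon
  push Not at hcon
  have h0 : ∀ i j, m i + m j + δ ≤ 0 → ∀ x ∈ Hs i, ∀ y ∈ Hs j, q x y = 0 := by
    intro i j hij x hx y hy
    by_contra hne
    have := hcon i j ⟨x, hx, y, hy, hne⟩
    linarith
  obtain ⟨i₀, hm₀, hH₀⟩ := hex
  have hd₀ : Module.finrank K (Hs i₀) ≠ 0 := by
    intro h
    exact hH₀ (Submodule.finrank_eq_zero.1 h)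
  have hδ0 : 0 ≤ δ := by rcases hδ with h | h <;> omega
  -- the vanishing of the nonpositive (resp. negative) part
  have hvan : ∀ i, m i + δ ≤ 0 → Module.finrank K (Hs i) = 0 := by
    rcases hδ with rfl | rfl
    · have := comb_ss (fun i => Module.finrank K (Hs i)) m hsum (fun t =>
        (key_ineq q Hs hint m (t : ℤ) (-(t : ℤ))
          (fun i j hi hj => h0 i j (by linarith))
          (fun i j hi hj => h0 i j (by have := Int.natCast_nonneg t; linarith)) 0 le_rfl hss).1)
      intro i hi
      exact this i (by linarith)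
    · have := comb_st (fun i => Module.finrank K (Hs i)) m hsum (fun t =>
        (key_ineq q Hs hint m (t : ℤ) (-((t : ℤ) + 1))
          (fun i j hi hj => h0 i j (by linarith))
          (fun i j hi hj => h0 i j (by have := Int.natCast_nonneg t; linarith)) 1 zero_le_one hss).1)
        (fun t hpos => by
          have := (key_ineq q Hs hint m (t : ℤ) (-((t : ℤ) + 1))
            (fun i j hi hj => h0 i j (by linarith))
            (fun i j hi hj => h0 i j (by have := Int.natCast_nonneg t; linarith)) 1 zero_le_one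
            hss).2 hpos
          linarith)
      intro i hi
      exact this i (by linarith)
  have hnn : ∀ i ∈ Finset.univ, 0 ≤ m i * (Module.finrank K (Hs i) : ℤ) := by
    intro i _
    by_cases hi : m i + δ ≤ 0
    · rw [hvan i hi]; simp
    · have : 0 ≤ m i := by omega
      exact mul_nonneg this (Int.natCast_nonneg _)
  have hz := (Finset.sum_eq_zero_iff_of_nonneg hnn).1 hsum i₀ (Finset.mem_univ i₀)
  rcases mul_eq_zero.1 hz with h | h
  · exact hm₀ h
  · exact hd₀ (by exact_mod_cast h)

end Fwd2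


-- PART3
section Bwd

variable {K : Type*} [Field K] {H W : Type*} [AddCommGroup H] [Module K H] [AddCommGroup W]
  [Module K W] [FiniteDimensional K H]
variable (q : H →ₗ[K] H →ₗ[K] W)

theorem backward (hsym : ∀ x y, q x y = 0 → q y x = 0) (hq0 : q ≠ 0)
    (δ : ℤ) (hδ : δ = 0 ∨ δ = 1)
    (hNC : ∀ (Hs : Fin 3 → Submodule K H) (m : Fin 3 → ℤ), DirectSum.IsInternal Hs →
      (∑ i, m i * (Module.finrank K (Hs i) : ℤ)) = 0 → (∃ i, m i ≠ 0 ∧ Hs i ≠ ⊥) →
      ∃ i j, (∃ x ∈ Hs i, ∃ y ∈ Hs j, q x y ≠ 0) ∧ m i + m j + δ ≤ 0)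
    (V : Submodule K H) (hV : V ≠ ⊥) (hiso : ∀ x ∈ V, ∀ y ∈ V, q x y = 0) :
    (Module.finrank K V : ℤ) + Module.finrank K (perp q V) + δ ≤ Module.finrank K H := by
  by_contra hcon
  push Not at hcon
  set P := perp q V with hP
  have hVP : V ≤ P := fun x hx => (mem_perp q).2 fun y hy => hiso x hx y hy
  obtain ⟨C, hC⟩ := Submodule.exists_isCompl V
  set V' := C ⊓ P with hV'
  obtain ⟨V'', hV''⟩ := Submodule.exists_isCompl P
  have ha : Disjoint V V' := by
    rw [disjoint_iff, eq_bot_iff]
    calc V ⊓ V' ≤ V ⊓ C := inf_le_inf_left _ inf_le_left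
      _ = ⊥ := hC.inf_eq_bot
  have hb : V ⊔ V' = P := by
    rw [hV', ← sup_inf_assoc_of_le C hVP, hC.sup_eq_top, top_inf_eq]
  have hc : Disjoint V'' (V' ⊔ V) := by
    rw [sup_comm, hb]
    exact hV''.disjoint.symm
  have hd : V'' ⊔ (V' ⊔ V) = ⊤ := by
    rw [sup_comm V' V, hb, sup_comm]
    exact hV''.sup_eq_top
  -- dimensions
  have e1 : Module.finrank K P = Module.finrank K V + Module.finrank K V' := by
    have := Submodule.finrank_sup_add_finrank_inf_eq V V'
    rw [hb, ha.eq_bot, finrank_bot, add_zero] at this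
    exact this
  have e2 : Module.finrank K H = Module.finrank K P + Module.finrank K V'' :=
    (Submodule.finrank_add_eq_of_isCompl hV'').symm
  have hd1 : 0 < Module.finrank K V := by
    rw [Nat.pos_iff_ne_zero]
    intro h
    exact hV (Submodule.finrank_eq_zero.1 h)
  -- the decomposition
  let Hs : Fin 3 → Submodule K H := ![V, V', V'']
  let m : Fin 3 → ℤ := ![-((Module.finrank K V' : ℤ) + Module.finrank K V''),
    (Module.finrank K V : ℤ) - Module.finrank K V'',
    (Module.finrank K V : ℤ) + Module.finrank K V']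
  have huniv : (Finset.univ : Finset (Fin 3)) = insert 2 (insert 1 {0}) := by decide
  have hind : iSupIndep Hs := by
    apply Finset.SupIndep.iSupIndep_of_univ
    rw [huniv]
    refine Finset.SupIndep.insert (Finset.SupIndep.insert (Finset.supIndep_singleton _ _) ?_) ?_
    · rw [Finset.sup_singleton]
      exact ha.symm
    · rw [Finset.sup_insert, Finset.sup_singleton]
      exact hc
  have htop : iSup Hs = ⊤ := by
    rw [← Finset.sup_univ_eq_iSup, huniv, Finset.sup_insert, Finset.sup_insert,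
      Finset.sup_singleton]
    exact hd
  have hint : DirectSum.IsInternal Hs :=
    DirectSum.isInternal_submodule_of_iSupIndep_of_iSup_eq_top hind htop
  have hsum : (∑ i, m i * (Module.finrank K (Hs i) : ℤ)) = 0 := by
    rw [Fin.sum_univ_three]
    change (-((Module.finrank K V' : ℤ) + Module.finrank K V'')) * (Module.finrank K V : ℤ) +
      ((Module.finrank K V : ℤ) - Module.finrank K V'') * (Module.finrank K V' : ℤ) +
      ((Module.finrank K V : ℤ) + Module.finrank K V') * (Module.finrank K V'' : ℤ) = 0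
    ring
  have hex : ∃ i, m i ≠ 0 ∧ Hs i ≠ ⊥ := by
    refine ⟨0, ?_, hV⟩
    change -((Module.finrank K V' : ℤ) + Module.finrank K V'') ≠ 0
    intro h0
    have h1 : Module.finrank K V' = 0 := by omega
    have h2 : Module.finrank K V'' = 0 := by omega
    have h3 : V' = ⊥ := Submodule.finrank_eq_zero.1 h1
    have h4 : V'' = ⊥ := Submodule.finrank_eq_zero.1 h2
    have h5 : V = ⊤ := by
      rw [h3, h4] at hd
      simpa using hd
    apply hq0
    ext x y
    exact hiso x (h5 ▸ Submodule.mem_top) y (h5 ▸ Submodule.mem_top)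
  obtain ⟨i, j, ⟨x, hx, y, hy, hxy⟩, hm⟩ := hNC Hs m hint hsum hex
  have hV'P : V' ≤ P := inf_le_right
  -- numerical facts
  have hD : 1 ≤ (Module.finrank K V : ℤ) - Module.finrank K V'' + δ := by
    rw [e2, e1] at hcon
    push_cast at hcon
    linarith
  have hδ' : 0 ≤ δ ∧ δ ≤ 1 := by rcases hδ with h | h <;> omega
  have hd1' : (1 : ℤ) ≤ Module.finrank K V := by exact_mod_cast hd1
  have n2 : (0 : ℤ) ≤ Module.finrank K V' := Int.natCast_nonneg _
  have n3 : (0 : ℤ) ≤ Module.finrank K V'' := Int.natCast_nonneg _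
  fin_cases i <;> fin_cases j
  · exact hxy (hiso x hx y hy)
  · exact hxy (hsym y x ((mem_perp q).1 (hV'P hy) x hx))
  · change -((Module.finrank K V' : ℤ) + Module.finrank K V'') +
      ((Module.finrank K V : ℤ) + Module.finrank K V') + δ ≤ 0 at hm
    linarith
  · exact hxy ((mem_perp q).1 (hV'P hx) y hy)
  · change ((Module.finrank K V : ℤ) - Module.finrank K V'') +
      ((Module.finrank K V : ℤ) - Module.finrank K V'') + δ ≤ 0 at hm
    linarith
  · change ((Module.finrank K V : ℤ) - Module.finrank K V'') +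
      ((Module.finrank K V : ℤ) + Module.finrank K V') + δ ≤ 0 at hm
    linarith
  · change ((Module.finrank K V : ℤ) + Module.finrank K V') +
      (-((Module.finrank K V' : ℤ) + Module.finrank K V'')) + δ ≤ 0 at hm
    linarith
  · change ((Module.finrank K V : ℤ) + Module.finrank K V') +
      ((Module.finrank K V : ℤ) - Module.finrank K V'') + δ ≤ 0 at hm
    linarith
  · change ((Module.finrank K V : ℤ) + Module.finrank K V') +
      ((Module.finrank K V : ℤ) + Module.finrank K V') + δ ≤ 0 at hm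
    linarith

end Bwd


-- PART4

/-- Let W be a finite-dimensional complex vector space with an involution s, H a finite-dimensional
complex vector space and q : H → H → W a nonzero bilinear map with q(x)(y) = s(q(y)(x)). Write V^⊥ =
{x | q(x)(y) = 0 for all y ∈ V} and call V totally isotropic when q vanishes on V × V. The pair (H,
q) is semistable (dim V + dim V^⊥ ≤ dim H for every nonzero totally isotropic subspace V),
respectively stable (strict inequality), if and only if the line of q is semistable, respectively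
stable, for the action of SL(H), the latter being expressed through one-parameter subgroups: for
every decomposition H = ⊕_i H_i into subspaces with integer weights m_i such that Σ_i m_i dim H_i =
0 and some nonzero H_i has nonzero weight, there are indices i, j with q(H_i, H_j) ≠ 0 and m_i + m_j
≤ 0, respectively m_i + m_j < 0. (The published statement speaks of semistability and stability of
the point of the projective space of such forms under SL(H); this row states the numerical condition
on one-parameter subgroups to which that is equivalent and which the published argument verifies.) -/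
theorem result
    (W : Type) [AddCommGroup W] [Module ℂ W] [FiniteDimensional ℂ W]
    (s : W →ₗ[ℂ] W) (hs : s ∘ₗ s = LinearMap.id)
    (H : Type) [AddCommGroup H] [Module ℂ H] [FiniteDimensional ℂ H]
    (q : H →ₗ[ℂ] H →ₗ[ℂ] W) (hq : ∀ x y : H, q x y = s (q y x)) (hq0 : q ≠ 0) :
    ((∀ V : Submodule ℂ H, V ≠ ⊥ → (∀ x ∈ V, ∀ y ∈ V, q x y = 0) →
        Module.finrank ℂ V + Module.finrank ℂ ↥(⨅ (y : H) (_ : y ∈ V), LinearMap.ker (q.flip y) : Submodule ℂ H) ≤ Module.finrank ℂ H) ↔
      (∀ (ι : Type) [Fintype ι] [DecidableEq ι] (Hs : ι → Submodule ℂ H) (m : ι → ℤ),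
        DirectSum.IsInternal Hs → (∑ i, m i * (Module.finrank ℂ (Hs i) : ℤ)) = 0 →
        (∃ i, m i ≠ 0 ∧ Hs i ≠ ⊥) →
        ∃ i j, (∃ x ∈ Hs i, ∃ y ∈ Hs j, q x y ≠ 0) ∧ m i + m j ≤ 0)) ∧
    ((∀ V : Submodule ℂ H, V ≠ ⊥ → (∀ x ∈ V, ∀ y ∈ V, q x y = 0) →
        Module.finrank ℂ V + Module.finrank ℂ ↥(⨅ (y : H) (_ : y ∈ V), LinearMap.ker (q.flip y) : Submodule ℂ H) < Module.finrank ℂ H) ↔
      (∀ (ι : Type) [Fintype ι] [DecidableEq ι] (Hs : ι → Submodule ℂ H) (m : ι → ℤ),
        DirectSum.IsInternal Hs → (∑ i, m i * (Module.finrank ℂ (Hs i) : ℤ)) = 0 →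
        (∃ i, m i ≠ 0 ∧ Hs i ≠ ⊥) →
        ∃ i j, (∃ x ∈ Hs i, ∃ y ∈ Hs j, q x y ≠ 0) ∧ m i + m j < 0)) := by
  have hsym : ∀ x y, q x y = 0 → q y x = 0 := by
    intro x y hxy
    rw [hq y x, hxy, map_zero]
  refine ⟨⟨fun hss ι _ _ Hs m hint hsum hex => ?_, fun hNC V hV hiso => ?_⟩,
    ⟨fun hst ι _ _ Hs m hint hsum hex => ?_, fun hNC V hV hiso => ?_⟩⟩
  · have := forward q Hs hint m 0 (Or.inl rfl) (fun V hV hiso => by
      have := hss V hV hiso
      rw [add_zero]
      exact_mod_cast this) hsum hex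
    obtain ⟨i, j, h1, h2⟩ := this
    exact ⟨i, j, h1, by linarith⟩
  · have := backward q hsym hq0 0 (Or.inl rfl) (fun Hs m hint hsum hex => by
      obtain ⟨i, j, h1, h2⟩ := hNC (Fin 3) Hs m hint hsum hex
      exact ⟨i, j, h1, by linarith⟩) V hV hiso
    rw [add_zero] at this
    exact_mod_cast this
  · have := forward q Hs hint m 1 (Or.inr rfl) (fun V hV hiso => by
      have := hst V hV hiso
      have h2 : (Module.finrank ℂ V : ℤ) + Module.finrank ℂ (perp q V) < Module.finrank ℂ H := by
        exact_mod_cast this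
      linarith) hsum hex
    obtain ⟨i, j, h1, h2⟩ := this
    exact ⟨i, j, h1, by linarith⟩
  · have := backward q hsym hq0 1 (Or.inr rfl) (fun Hs m hint hsum hex => by
      obtain ⟨i, j, h1, h2⟩ := hNC (Fin 3) Hs m hint hsum hex
      exact ⟨i, j, h1, by linarith⟩) V hV hiso
    have h2 : (Module.finrank ℂ V : ℤ) + Module.finrank ℂ (perp q V) < Module.finrank ℂ H := by
      linarith
    exact_mod_cast h2

end Groth.Agent.S15159
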