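import Groth.Statements.S1516
import Mathlib

set_option autoImplicit false
universe u
open FlatMor

namespace Groth.Agent.S1516

section aux
open AlgebraicGeometry CategoryTheory Limits

lemma transport {X S T T' P P' : Scheme.{u}} (f : X ⟶ S) (t : T ⟶ T') (p : P ⟶ P')
    (e1 : T ≅ P) (e2 : T' ≅ P') (sq : e1.hom ≫ p = t ≫ e2.hom)
    (H : ∀ (a' : P ⟶ X) (b' : P' ⟶ S), p ≫ b' = a' ≫ f →
      ∃! l' : P' ⟶ X, p ≫ l' = a' ∧ l' ≫ f = b')
    (a : T ⟶ X) (b : T' ⟶ S) (w : t ≫ b = a ≫ f) :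
    ∃! l : T' ⟶ X, t ≫ l = a ∧ l ≫ f = b := by
  have sq' : p ≫ e2.inv = e1.inv ≫ t := by
    rw [Iso.eq_inv_comp, ← Category.assoc, sq, Category.assoc, Iso.hom_inv_id, Category.comp_id]
  obtain ⟨l', ⟨h1, h2⟩, huniq⟩ := H (e1.inv ≫ a) (e2.inv ≫ b) (by
    rw [← Category.assoc, sq', Category.assoc, w, Category.assoc])
  refine ⟨e2.hom ≫ l', ⟨?_, ?_⟩, ?_⟩
  · rw [← Category.assoc, ← sq, Category.assoc, h1, Iso.hom_inv_id_assoc]
  · rw [Category.assoc, h2, Iso.hom_inv_id_assoc]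
  · rintro l ⟨hl1, hl2⟩
    have := huniq (e2.inv ≫ l) ⟨by rw [← Category.assoc, sq', Category.assoc, hl1],
      by rw [Category.assoc, hl2]⟩
    rw [← this, Iso.hom_inv_id_assoc]

lemma restrict {T T' : Scheme.{u}} (t : T ⟶ T') (ht : MoreMor.IsFirstOrderThickening t)
    (U : T'.Opens) : MoreMor.IsFirstOrderThickening (t ∣_ U) := by
  have : IsClosedImmersion t := ht.1.1
  have hs : Surjective t := ht.1.2
  refine ⟨⟨inferInstance, IsZariskiLocalAtTarget.restrict hs U⟩, ?_⟩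
  ext V : 2
  have h2 : (t.ker * t.ker).ideal ⟨U.ι ''ᵁ V.1, V.2.image_of_isOpenImmersion _⟩ = ⊥ := by
    rw [ht.2]; rfl
  rw [Scheme.IdealSheafData.ideal_mul, Pi.mul_apply] at h2
  rw [Scheme.IdealSheafData.ideal_mul, Pi.mul_apply, Scheme.ker_morphismRestrict_ideal]
  exact h2

lemma affine_case {X S : Scheme.{u}} (f : X ⟶ S) (hf : MoreMor.IsFormallyEtaleHom f)
    {T T' : Scheme.{u}} [IsAffine T'] (t : T ⟶ T') (ht : MoreMor.IsFirstOrderThickening t)
    (a : T ⟶ X) (b : T' ⟶ S) (w : t ≫ b = a ≫ f) :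
    ∃! l : T' ⟶ X, t ≫ l = a ∧ l ≫ f = b := by
  have : IsClosedImmersion t := ht.1.1
  obtain ⟨hT, hsurj⟩ := IsClosedImmersion.isAffine_surjective_of_isAffine t
  let φ : Γ(T', ⊤) →+* Γ(T, ⊤) := t.appTop.hom
  let I : Ideal Γ(T', ⊤) := RingHom.ker φ
  have hI : I ^ 2 = ⊥ := by
    have h1 : t.ker = Scheme.IdealSheafData.equivOfIsAffine.symm I := by
      rw [Scheme.IdealSheafData.equivOfIsAffine_symm_apply]
      exact Scheme.ker_of_isAffine t
    have h2 := ht.2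
    rw [h1, ← map_mul] at h2
    have h3 : I * I = 0 := by
      apply Scheme.IdealSheafData.equivOfIsAffine.symm.injective
      exact h2.trans (map_zero Scheme.IdealSheafData.equivOfIsAffine.symm).symm
    rw [pow_two, h3]; rfl
  let ψ : (Γ(T', ⊤) ⧸ I) ≃+* Γ(T, ⊤) := RingHom.quotientKerEquivOfSurjective hsurj
  have hψ : ψ.toRingHom.comp (Ideal.Quotient.mk I) = φ := by
    ext x; rfl
  let e1 : T ≅ Spec (CommRingCat.of (Γ(T', ⊤) ⧸ I)) :=
    T.isoSpec ≪≫ Scheme.Spec.mapIso ψ.toCommRingCatIso.op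
  let e2 : T' ≅ Spec (CommRingCat.of Γ(T', ⊤)) := T'.isoSpec
  refine transport f t (Spec.map (CommRingCat.ofHom (Ideal.Quotient.mk I))) e1 e2 ?_
    (fun a' b' w' => hf Γ(T', ⊤) I hI a' b' w') a b w
  have h4 : Spec.map (CommRingCat.ofHom ψ.toRingHom) ≫
      Spec.map (CommRingCat.ofHom (Ideal.Quotient.mk I)) = Spec.map t.appTop := by
    rw [← Spec.map_comp, ← CommRingCat.ofHom_comp, hψ]; rfl
  show (T.isoSpec.hom ≫ Spec.map (CommRingCat.ofHom ψ.toRingHom)) ≫ _ = t ≫ T'.isoSpec.hom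
  rw [Category.assoc, h4, Scheme.isoSpec_hom_naturality]

end aux

open AlgebraicGeometry CategoryTheory Limits in
/-- Let f : X → S be formally étale (unique infinitesimal lifting against first order thickenings of
affine schemes). Then for every first order thickening t : T → T' of schemes and every commutative
square with T → X on top and T' → S at the bottom there is exactly one lift T' → X. -/
theorem result {X S : Scheme.{u}} (f : X ⟶ S) (hf : MoreMor.IsFormallyEtaleHom f)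
    {T T' : Scheme.{u}} (t : T ⟶ T') (ht : MoreMor.IsFirstOrderThickening t) (a : T ⟶ X) (b : T' ⟶ S) (w : t ≫ b = a ≫ f) :
    ∃! l : T' ⟶ X, t ≫ l = a ∧ l ≫ f = b := by
  -- local lifts
  have loc : ∀ W : T'.affineOpens, ∃! l : (W : T'.Opens).toScheme ⟶ X,
      (t ∣_ W.1) ≫ l = (t ⁻¹ᵁ W.1).ι ≫ a ∧ l ≫ f = W.1.ι ≫ b := by
    intro W
    have : IsAffine W.1.toScheme := W.2
    refine affine_case f hf (t ∣_ W.1) (restrict t ht W.1) _ _ ?_
    rw [morphismRestrict_ι_assoc, w, Category.assoc]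
  choose g hg using fun W => (loc W).exists
  have huniq : ∀ (W : T'.affineOpens) (l : (W : T'.Opens).toScheme ⟶ X),
      ((t ∣_ W.1) ≫ l = (t ⁻¹ᵁ W.1).ι ≫ a ∧ l ≫ f = W.1.ι ≫ b) → l = g W :=
    fun W l hl => (loc W).unique hl (hg W)
  have hcompat : ∀ (W₁ W₂ : T'.affineOpens) (h : W₁ ≤ W₂), T'.homOfLE h ≫ g W₂ = g W₁ := by
    intro W₁ W₂ h
    apply huniq
    constructor
    · have h1 : (t ∣_ W₁.1) ≫ T'.homOfLE h =
          T.homOfLE (show t ⁻¹ᵁ W₁.1 ≤ t ⁻¹ᵁ W₂.1 from fun x hx => h hx) ≫ (t ∣_ W₂.1) := by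
        rw [← Scheme.Hom.resLE_eq_morphismRestrict, ← Scheme.Hom.resLE_eq_morphismRestrict,
          Scheme.Hom.resLE_map, Scheme.Hom.map_resLE]
      rw [← Category.assoc, h1, Category.assoc, (hg W₂).1, Scheme.homOfLE_ι_assoc]
    · rw [Category.assoc, (hg W₂).2, Scheme.homOfLE_ι_assoc]
  let l : T' ⟶ X := T'.directedAffineCover.glueMorphismsOfLocallyDirected g (by
    intro i j hij
    exact hcompat i j (leOfHom hij))
  have hl : ∀ W : T'.affineOpens, W.1.ι ≫ l = g W := fun W =>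
    T'.directedAffineCover.map_glueMorphismsOfLocallyDirected g _ W
  have hext : ∀ l₁ l₂ : T' ⟶ X, (∀ W : T'.affineOpens, W.1.ι ≫ l₁ = W.1.ι ≫ l₂) → l₁ = l₂ :=
    fun l₁ l₂ h => T'.directedAffineCover.hom_ext _ _ h
  refine ⟨l, ⟨?_, ?_⟩, ?_⟩
  · apply (T'.directedAffineCover.pullback₁ t).hom_ext
    intro W
    show pullback.fst t W.1.ι ≫ t ≫ l = pullback.fst t W.1.ι ≫ a
    rw [← pullbackRestrictIsoRestrict_hom_ι, Category.assoc, Category.assoc, ← (hg W).1,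
      ← morphismRestrict_ι_assoc, hl]
  · apply T'.directedAffineCover.hom_ext
    intro W
    show W.1.ι ≫ l ≫ f = W.1.ι ≫ b
    rw [← Category.assoc, hl, (hg W).2]
  · rintro l' ⟨hl1, hl2⟩
    apply hext
    intro W
    rw [hl]
    apply huniq
    constructor
    · rw [morphismRestrict_ι_assoc, hl1]
    · rw [Category.assoc, hl2]

end Groth.Agent.S1516
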