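import Groth.Statements.S15162
import Mathlib
-- import your own Groth.Agent.* helpers here

set_option autoImplicit false
open Matrix
open BddFin

namespace Groth.Agent.S15162

/-- A 2×2 integer matrix of finite order with determinant one and a nonzero fixed vector is `1`. -/
lemma eq_one_of_det_one (M : Matrix (Fin 2) (Fin 2) ℤ) (hdet : M.det = 1)
    (n : ℕ) (hn : 0 < n) (hMn : M ^ n = 1)
    (v : Fin 2 → ℤ) (hv : v ≠ 0) (hfix : M *ᵥ v = v) : M = 1 := by
  have h1 : (M - 1).det = 0 := by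
    rw [← Matrix.exists_mulVec_eq_zero_iff]
    exact ⟨v, hv, by rw [Matrix.sub_mulVec, hfix, Matrix.one_mulVec, sub_self]⟩
  rw [Matrix.det_fin_two] at h1 hdet
  simp only [Matrix.sub_apply, Matrix.one_apply_eq, Matrix.one_apply_ne, ne_eq, not_false_eq_true, sub_zero, Fin.isValue, one_ne_zero, zero_ne_one] at h1
  have htr : M 0 0 + M 1 1 = 2 := by linarith
  set N := M - 1 with hN
  have hN2 : N * N = 0 := by
    ext i j
    fin_cases i <;> fin_cases j <;>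
      simp [N, Matrix.mul_apply, Fin.sum_univ_two]
    · linear_combination (-1 : ℤ) * hdet + M 0 0 * htr
    · linear_combination M 0 1 * htr
    · linear_combination M 1 0 * htr
    · linear_combination (-1 : ℤ) * hdet + M 1 1 * htr
  have hM : M = 1 + N := by simp [N]
  have hpow : ∀ k : ℕ, M ^ k = 1 + (k : ℤ) • N := by
    intro k
    induction k with
    | zero => simp
    | succ k ih =>
      rw [pow_succ, ih, hM]
      simp only [add_mul, mul_add, one_mul, mul_one, smul_mul_assoc, hN2, smul_zero, add_zero]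
      push_cast
      rw [add_smul, one_smul]
      abel
  have hnN : (n : ℤ) • N = 0 := by
    have := hpow n
    rw [hMn] at this
    have h2 : (1 : Matrix (Fin 2) (Fin 2) ℤ) + 0 = 1 + (n : ℤ) • N := by rw [add_zero]; exact this
    exact (add_left_cancel h2).symm
  have hN0 : N = 0 := by
    ext i j
    have := congrFun (congrFun hnN i) j
    simp only [Matrix.smul_apply, smul_eq_mul, Matrix.zero_apply] at this
    rcases mul_eq_zero.mp this with h | h
    · exact absurd h (by exact_mod_cast hn.ne')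
    · exact h
  rw [hM, hN0, add_zero]

/-- An element of a finite subgroup of `GL₂(ℤ)` with determinant one and a nonzero fixed vector
is trivial. -/
lemma gl_eq_one (Γ : Subgroup (Matrix.GeneralLinearGroup (Fin 2) ℤ)) [Finite Γ]
    (γ : Matrix.GeneralLinearGroup (Fin 2) ℤ) (hγ : γ ∈ Γ)
    (hdet : (γ : Matrix (Fin 2) (Fin 2) ℤ).det = 1)
    (v : Fin 2 → ℤ) (hv : v ≠ 0) (hfix : (γ : Matrix (Fin 2) (Fin 2) ℤ) *ᵥ v = v) : γ = 1 := by
  have hfin : IsOfFinOrder (⟨γ, hγ⟩ : Γ) := isOfFinOrder_of_finite _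
  obtain ⟨n, hn, hpow⟩ := hfin.exists_pow_eq_one
  have hpow' : γ ^ n = 1 := by
    have := congrArg (Subtype.val) hpow
    simpa using this
  have hM : (γ : Matrix (Fin 2) (Fin 2) ℤ) ^ n = 1 := by
    have := congrArg (fun g : Matrix.GeneralLinearGroup (Fin 2) ℤ => (g : Matrix (Fin 2) (Fin 2) ℤ)) hpow'
    simpa using this
  have := eq_one_of_det_one _ hdet n hn hM v hv hfix
  exact Units.ext this

theorem main
    (Γ : Subgroup (Matrix.GeneralLinearGroup (Fin 2) ℤ)) [Finite Γ]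
    (h : ∀ γ ∈ Γ, ∃ v : Fin 2 → ℤ, v ≠ 0 ∧ (γ : Matrix (Fin 2) (Fin 2) ℤ) *ᵥ v = v) :
    ∃ v : Fin 2 → ℤ, v ≠ 0 ∧ ∀ γ ∈ Γ, (γ : Matrix (Fin 2) (Fin 2) ℤ) *ᵥ v = v := by
  have hdet : ∀ γ : Matrix.GeneralLinearGroup (Fin 2) ℤ,
      (γ : Matrix (Fin 2) (Fin 2) ℤ).det = 1 ∨ (γ : Matrix (Fin 2) (Fin 2) ℤ).det = -1 := by
    intro γ
    have hu : IsUnit (γ : Matrix (Fin 2) (Fin 2) ℤ).det :=
      (Matrix.isUnit_iff_isUnit_det _).mp γ.isUnit
    exact Int.isUnit_iff.mp hu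
  by_cases hall : ∀ γ ∈ Γ, γ = 1
  · refine ⟨![1, 0], by simp, fun γ hγ => ?_⟩
    rw [hall γ hγ]; simp
  · push Not at hall
    obtain ⟨γ₀, hγ₀, hne⟩ := hall
    obtain ⟨v₀, hv₀, hfix₀⟩ := h γ₀ hγ₀
    have hdet₀ : (γ₀ : Matrix (Fin 2) (Fin 2) ℤ).det = -1 := by
      rcases hdet γ₀ with h1 | h1
      · exact absurd (gl_eq_one Γ γ₀ hγ₀ h1 v₀ hv₀ hfix₀) hne
      · exact h1
    refine ⟨v₀, hv₀, fun γ hγ => ?_⟩
    rcases hdet γ with h1 | h1
    · obtain ⟨v, hv, hfix⟩ := h γ hγ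
      rw [gl_eq_one Γ γ hγ h1 v hv hfix]; simp
    · -- γ * γ₀⁻¹ has determinant one
      have hmem : γ * γ₀⁻¹ ∈ Γ := Γ.mul_mem hγ (Γ.inv_mem hγ₀)
      obtain ⟨v, hv, hfix⟩ := h _ hmem
      have hd : ((γ * γ₀⁻¹ : Matrix.GeneralLinearGroup (Fin 2) ℤ) : Matrix (Fin 2) (Fin 2) ℤ).det = 1 := by
        have e : (γ * γ₀⁻¹) * γ₀ = γ := by group
        have e' : ((γ * γ₀⁻¹ : Matrix.GeneralLinearGroup (Fin 2) ℤ) : Matrix (Fin 2) (Fin 2) ℤ).det *
            (γ₀ : Matrix (Fin 2) (Fin 2) ℤ).det = (γ : Matrix (Fin 2) (Fin 2) ℤ).det := by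
          rw [← Matrix.det_mul, ← Units.val_mul, e]
        rw [hdet₀, h1] at e'
        linarith
      have := gl_eq_one Γ _ hmem hd v hv hfix
      have hγγ₀ : γ = γ₀ := by
        have e : γ = (γ * γ₀⁻¹) * γ₀ := by group
        rw [e, this, one_mul]
      rw [hγγ₀]; exact hfix₀


/-- Let Γ be a finite subgroup of GL_2(ℤ) acting on ℤ² by matrix multiplication. If every element of Γ
has a non-zero fixed vector in ℤ², then there is a non-zero vector of ℤ² fixed by all of Γ. -/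
theorem result
    (Γ : Subgroup (Matrix.GeneralLinearGroup (Fin 2) ℤ)) [Finite Γ]
    (h : ∀ γ ∈ Γ, ∃ v : Fin 2 → ℤ, v ≠ 0 ∧ (γ : Matrix (Fin 2) (Fin 2) ℤ) *ᵥ v = v) :
    ∃ v : Fin 2 → ℤ, v ≠ 0 ∧ ∀ γ ∈ Γ, (γ : Matrix (Fin 2) (Fin 2) ℤ) *ᵥ v = v := by
  exact main Γ h

end Groth.Agent.S15162
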