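import Groth.Statements.S15163
import Mathlib
import Groth.Agent.S15162

set_option autoImplicit false
open Matrix
open BddFin

namespace Groth.Agent.S15163

section helpers
section hh

/-- Cayley-Hamilton in dimension two -/
theorem sq_eq (M : Matrix (Fin 2) (Fin 2) ℤ) :
    M * M = M.trace • M - M.det • (1 : Matrix (Fin 2) (Fin 2) ℤ) := by
  have htr : M.trace = M 0 0 + M 1 1 := by
    simp [Matrix.trace, Fin.sum_univ_two]
  rw [htr, Matrix.det_fin_two]
  ext i j
  fin_cases i <;> fin_cases j <;>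
    simp only [Matrix.mul_apply, Fin.sum_univ_two, Matrix.sub_apply, Matrix.smul_apply,
      smul_eq_mul, Matrix.one_apply_eq, Matrix.one_apply_ne, ne_eq, Fin.zero_eta, Fin.mk_one,
      Fin.isValue, zero_ne_one, one_ne_zero, not_false_eq_true, mul_one, mul_zero] <;> ring

theorem trace_pow_rec (M : Matrix (Fin 2) (Fin 2) ℤ) (n : ℕ) :
    (M ^ (n + 2)).trace = M.trace * (M ^ (n + 1)).trace - M.det * (M ^ n).trace := by
  have h : M ^ (n + 2) = M.trace • M ^ (n + 1) - M.det • M ^ n := by
    have e : M ^ (n + 2) = M ^ n * (M * M) := by rw [← pow_two, ← pow_add]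
    rw [e, sq_eq, mul_sub, mul_smul_comm, mul_smul_comm, mul_one, ← pow_succ]
  rw [h, Matrix.trace_sub, Matrix.trace_smul, Matrix.trace_smul, smul_eq_mul, smul_eq_mul]


theorem abs_trace_le_two (M : Matrix (Fin 2) (Fin 2) ℤ) (hdet : |M.det| = 1)
    (N : ℕ) (hN : 0 < N) (hMN : M ^ N = 1) : |M.trace| ≤ 2 := by
  by_contra hcon
  push Not at hcon
  have ht : 3 ≤ |M.trace| := by omega
  have key : ∀ n : ℕ, |(M ^ n).trace| < |(M ^ (n + 1)).trace| := by
    intro n
    induction n with
    | zero =>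
      simp only [pow_zero, zero_add, pow_one]
      have : (1 : Matrix (Fin 2) (Fin 2) ℤ).trace = 2 := by simp
      rw [this]
      have : |(2 : ℤ)| = 2 := by norm_num
      omega
    | succ n ih =>
      rw [trace_pow_rec]
      have h1 : |M.trace * (M ^ (n + 1)).trace| - |M.det * (M ^ n).trace|
          ≤ |M.trace * (M ^ (n + 1)).trace - M.det * (M ^ n).trace| :=
        abs_sub_abs_le_abs_sub _ _
      rw [abs_mul, abs_mul, hdet, one_mul] at h1
      have h2 : 3 * |(M ^ (n + 1)).trace| ≤ |M.trace| * |(M ^ (n + 1)).trace| :=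
        mul_le_mul_of_nonneg_right ht (abs_nonneg _)
      have h3 : 0 ≤ |(M ^ n).trace| := abs_nonneg _
      omega
  have mono : ∀ n : ℕ, 0 < n → |(M ^ 0).trace| < |(M ^ n).trace| := by
    intro n hn
    induction n with
    | zero => omega
    | succ n ih =>
      rcases Nat.eq_zero_or_pos n with h | h
      · subst h; exact key 0
      · exact lt_trans (ih h) (key n)
  have := mono N hN
  rw [hMN, pow_zero] at this
  exact lt_irrefl _ this

theorem det_sub_one (M : Matrix (Fin 2) (Fin 2) ℤ) : (M - 1).det = 1 - M.trace + M.det := by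
  have htr : M.trace = M 0 0 + M 1 1 := by
    simp [Matrix.trace, Fin.sum_univ_two]
  rw [htr, Matrix.det_fin_two, Matrix.det_fin_two]
  simp only [Matrix.sub_apply, Matrix.one_apply_eq, Matrix.one_apply_ne, ne_eq, Fin.isValue,
    zero_ne_one, one_ne_zero, not_false_eq_true, sub_zero]
  ring

end hh


end helpers

/-- Let Γ be a finite subgroup of GL_2(ℤ) and d > 6 an integer. Suppose some vector w of (ℤ/dℤ)², with
m·w ≠ 0 for all 0 < m < d, is fixed by the reduction modulo d of every element of Γ. Then some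
non-zero vector of ℤ² is fixed by all of Γ. -/
theorem result
    (Γ : Subgroup (Matrix.GeneralLinearGroup (Fin 2) ℤ)) [Finite Γ] (d : ℕ) (hd : 6 < d)
    (w : Fin 2 → ZMod d) (hw : ∀ m : ℕ, 0 < m → m < d → m • w ≠ 0)
    (hfix : ∀ γ ∈ Γ, ((γ : Matrix (Fin 2) (Fin 2) ℤ).map (Int.castRingHom (ZMod d))) *ᵥ w = w) :
    ∃ v : Fin 2 → ℤ, v ≠ 0 ∧ ∀ γ ∈ Γ, (γ : Matrix (Fin 2) (Fin 2) ℤ) *ᵥ v = v := by
  apply Groth.Agent.S15162.result Γ
  intro γ hγ
  set M : Matrix (Fin 2) (Fin 2) ℤ := (γ : Matrix (Fin 2) (Fin 2) ℤ) with hM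
  -- finite order
  obtain ⟨N, hN, hγN⟩ : ∃ N : ℕ, 0 < N ∧ M ^ N = 1 := by
    have hfo : IsOfFinOrder (⟨γ, hγ⟩ : Γ) := isOfFinOrder_of_finite _
    obtain ⟨N, hN, hpow⟩ := (isOfFinOrder_iff_pow_eq_one).mp hfo
    refine ⟨N, hN, ?_⟩
    have h1 : γ ^ N = 1 := by
      have := congrArg (Subtype.val) hpow
      simpa using this
    have h2 := congrArg (fun g : Matrix.GeneralLinearGroup (Fin 2) ℤ =>
      (g : Matrix (Fin 2) (Fin 2) ℤ)) h1
    simpa using h2
  have hdet : |M.det| = 1 := by
    have hu : IsUnit M.det := (Matrix.isUnit_iff_isUnit_det _).mp γ.isUnit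
    rcases Int.isUnit_iff.mp hu with h | h <;> rw [h] <;> norm_num
  have htr := abs_trace_le_two M hdet N hN hγN
  -- the determinant of M - 1 vanishes
  have hD : (M - 1).det = 0 := by
    by_contra hD0
    set D := (M - 1).det with hDdef
    have hDabs : D.natAbs ≤ 4 := by
      have h1 : D = 1 - M.trace + M.det := det_sub_one M
      have h2 := abs_le.mp htr
      have h3 := abs_le.mp (le_of_eq hdet)
      omega
    have hpos : 0 < D.natAbs := Int.natAbs_pos.mpr hD0
    apply hw D.natAbs hpos (by omega)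
    -- D • w = 0
    have hMw := hfix γ hγ
    set Mbar := M.map (Int.castRingHom (ZMod d)) with hMbar
    have h0 : (Mbar - 1) *ᵥ w = 0 := by
      rw [Matrix.sub_mulVec, hMw, Matrix.one_mulVec, sub_self]
    have h1 : (Mbar - 1).det • w = 0 := by
      have := congrArg (fun x => (Mbar - 1).adjugate *ᵥ x) h0
      simp only [Matrix.mulVec_mulVec, Matrix.adjugate_mul, Matrix.mulVec_zero,
        Matrix.smul_mulVec, Matrix.one_mulVec] at this
      exact this
    have h2 : (Mbar - 1).det = ((D : ℤ) : ZMod d) := by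
      rw [hDdef, hMbar]
      have : M.map (Int.castRingHom (ZMod d)) - 1 = (M - 1).map (Int.castRingHom (ZMod d)) := by
        rw [Matrix.map_sub, Matrix.map_one] <;> simp
      rw [this]
      have := RingHom.map_det (Int.castRingHom (ZMod d)) (M - 1)
      rw [RingHom.mapMatrix_apply] at this
      rw [← this]
      rfl
    rw [h2] at h1
    rw [← Nat.cast_smul_eq_nsmul (ZMod d)]
    rcases Int.natAbs_eq D with hD' | hD'
    · have : ((D : ℤ) : ZMod d) = ((D.natAbs : ℕ) : ZMod d) := by
        have := congrArg (fun z : ℤ => (z : ZMod d)) hD'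
        simpa using this
      rw [← this]
      exact h1
    · have : ((D : ℤ) : ZMod d) = -((D.natAbs : ℕ) : ZMod d) := by
        have := congrArg (fun z : ℤ => (z : ZMod d)) hD'
        simpa using this
      rw [this, neg_smul, neg_eq_zero] at h1
      exact h1
  obtain ⟨v, hv0, hv⟩ := (Matrix.exists_mulVec_eq_zero_iff).mpr hD
  refine ⟨v, hv0, ?_⟩
  rw [Matrix.sub_mulVec, Matrix.one_mulVec, sub_eq_zero] at hv
  exact hv

end Groth.Agent.S15163
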