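import Groth.Statements.S15164
import Groth.Agent.Lib.Helper23.Aniso

set_option autoImplicit false
universe u v
open BddFin

namespace Groth.Agent.S15164

/-- Let K be a field of characteristic p > 2, V a finite-dimensional K-vector space and q a quadratic
form on V that does not represent zero (q x = 0 only for x = 0). Then the group of K-linear
automorphisms of V preserving q has no element of order p: if g preserves q and g ^ p = 1 then g =
1. (Non-degeneracy of q, also assumed in the published statement, follows from anisotropy since 2 is
invertible, so it is not repeated here.) -/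
theorem result
    (K : Type u) [Field K] (p : ℕ) [Fact p.Prime] [CharP K p] (hp : p ≠ 2)
    (V : Type v) [AddCommGroup V] [Module K V] [FiniteDimensional K V]
    (q : QuadraticForm K V) (hq : q.Anisotropic)
    (g : V ≃ₗ[K] V) (hg : ∀ x : V, q (g x) = q x) (hgp : g ^ p = 1) : g = 1 := by
  have h2 : (2 : K) ≠ 0 := by
    intro h
    have : ((2 : ℕ) : K) = 0 := by exact_mod_cast h
    rw [CharP.cast_eq_zero_iff K p] at this
    have hp2 := (Nat.prime_dvd_prime_iff_eq (Fact.out : p.Prime) Nat.prime_two).mp this
    exact hp hp2
  -- the underlying endomorphism
  let f : Module.End K V := g.toLinearMap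
  have hfp : f ^ p = 1 := by
    have := congrArg (LinearEquiv.automorphismGroup.toLinearMapMonoidHom (R := K) (M := V)) hgp
    rw [map_pow, map_one] at this
    exact this
  have hnil : IsNilpotent (f - 1) := by
    refine ⟨p, ?_⟩
    have hpoly : ((Polynomial.X - 1 : Polynomial K)) ^ p = Polynomial.X ^ p - 1 := by
      rw [sub_pow_char, one_pow]
    have := congrArg (Polynomial.aeval f) hpoly
    simpa [hfp] using this
  have hf1 : f = 1 := Groth.Agent.Lib.helper23.eq_one_of_isNilpotent_sub_one h2 q hq f hg hnil
  ext x
  have := congrArg (fun e : Module.End K V => e x) hf1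
  simpa [f] using this

end Groth.Agent.S15164
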