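import Groth.Statements.S15166
import Mathlib

set_option autoImplicit false
universe u v
open Polynomial
open BddFin

namespace Groth.Agent.S15166

section helpers
open Polynomial

variable {K : Type u} [Field K] {V : Type v} [AddCommGroup V] [Module K V]

theorem keyA (h2 : (2 : K) ≠ 0) (q : QuadraticForm K V) (hq : q.Anisotropic)
    (h : Module.End K V) (hh : ∀ x, q (h x) = q x) (v w : V) (hv : h v = v + w) (hw : h w = w) :
    w = 0 := by
  have e1 : q (v + w) = q v := by rw [← hv]; exact hh v
  have e2 : q (v + w + w) = q v := by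
    have h3 : h (h v) = v + w + w := by rw [hv, map_add, hv, hw]
    rw [← h3, hh, hh]
  have hp := QuadraticMap.polar_add_left (Q := q) v w w
  simp only [QuadraticMap.polar] at hp
  have h4 := QuadraticMap.map_add_self q w
  rw [e2, e1, h4] at hp
  have h3 : (2 : K) * q w = 0 := by
    rw [nsmul_eq_mul] at hp
    push_cast at hp
    linear_combination (-1 : K) * hp
  have h5 : q w = 0 := (mul_eq_zero.mp h3).resolve_left h2
  exact hq w h5

theorem sq_one [FiniteDimensional K V] (h2 : (2 : K) ≠ 0) (q : QuadraticForm K V)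
    (hq : q.Anisotropic) (f : Module.End K V) (hf : ∀ x, q (f x) = q x) (n : ℕ) (hn : 0 < n)
    (hfn : f ^ n = 1) (hsplit : (X ^ n - 1 : K[X]).Splits) : f * f = 1 := by
  classical
  have haev : aeval f (X ^ n - 1 : K[X]) = 0 := by
    rw [map_sub, map_pow, aeval_X, map_one, hfn, sub_self]
  have hne : (X ^ n - 1 : K[X]) ≠ 0 := by
    have h1 := (monic_X_pow_sub_C (1 : K) hn.ne').ne_zero
    rwa [C_1] at h1
  have hint : IsIntegral K f := Algebra.IsIntegral.isIntegral f
  have hdvd : minpoly K f ∣ X ^ n - 1 := minpoly.dvd K f haev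
  have hμs : (minpoly K f).Splits := hsplit.of_dvd hne hdvd
  have hmon : (minpoly K f).Monic := minpoly.monic hint
  have hprod := hμs.eq_prod_roots_of_monic hmon
  have hroots : ∀ r ∈ (minpoly K f).roots, r * r = 1 := by
    intro r hr
    have hroot : (minpoly K f).IsRoot r := Polynomial.isRoot_of_mem_roots hr
    have hev := Module.End.hasEigenvalue_of_isRoot hroot
    obtain ⟨v, hv⟩ := hev.exists_hasEigenvector
    have hv1 : f v = r • v := hv.apply_eq_smul
    have hv0 : v ≠ 0 := hv.2
    have h1 := hf v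
    rw [hv1, QuadraticMap.map_smul, smul_eq_mul] at h1
    have hqv : q v ≠ 0 := fun h => hv0 (hq v h)
    have h3 : (r * r - 1) * q v = 0 := by linear_combination h1
    rcases mul_eq_zero.mp h3 with h | h
    · exact sub_eq_zero.mp h
    · exact absurd h hqv
  have hdvd2 : minpoly K f ∣ (X ^ 2 - 1 : K[X]) ^ (Multiset.card (minpoly K f).roots) := by
    have h1 : ((minpoly K f).roots.map (fun r => X - C r)).prod ∣
        ((minpoly K f).roots.map (fun _ => (X ^ 2 - 1 : K[X]))).prod := by
      refine Multiset.prod_dvd_prod_of_dvd (fun r => X - C r) (fun _ => (X ^ 2 - 1 : K[X]))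
        (fun r hr => ?_)
      have hc : (C r : K[X]) * C r = 1 := by rw [← C_mul, hroots r hr, C_1]
      exact ⟨X + C r, by linear_combination hc⟩
    rw [Multiset.map_const', Multiset.prod_replicate] at h1
    exact hprod.dvd.trans h1
  obtain ⟨N, hN⟩ : ∃ N : Module.End K V, N = f * f - 1 := ⟨_, rfl⟩
  have hNnil : N ^ (Multiset.card (minpoly K f).roots) = 0 := by
    obtain ⟨c, hc⟩ := hdvd2
    have h1 := congrArg (aeval f) hc
    rw [map_mul, minpoly.aeval, zero_mul, map_pow, map_sub, map_pow, aeval_X, map_one, pow_two,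
      ← hN] at h1
    exact h1
  have hhq : ∀ x, q ((f * f) x) = q x := fun x => by rw [Module.End.mul_apply, hf, hf]
  have hNapp : ∀ x, (f * f) x = x + N x := by
    intro x
    rw [hN, LinearMap.sub_apply, Module.End.one_apply]
    abel
  have hex : ∃ j, N ^ j = 0 := ⟨_, hNnil⟩
  obtain ⟨j₀, hj₀⟩ : ∃ j₀, j₀ = Nat.find hex := ⟨_, rfl⟩
  have hj₀z : N ^ j₀ = 0 := hj₀ ▸ Nat.find_spec hex
  have hN0 : N = 0 := by
    rcases j₀ with _ | _ | j
    · rw [pow_zero] at hj₀z
      rw [← mul_one N, hj₀z, mul_zero]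
    · rw [pow_one] at hj₀z; exact hj₀z
    · exfalso
      have hmin : ¬ N ^ (j + 1) = 0 := Nat.find_min hex (by rw [← hj₀]; omega)
      apply hmin
      ext v
      show (N ^ (j + 1)) v = 0
      have hw : (f * f) ((N ^ (j + 1)) v) = (N ^ (j + 1)) v := by
        rw [hNapp]
        have h3 : N ((N ^ (j + 1)) v) = (N ^ (j + 1 + 1)) v := by
          rw [pow_succ' N (j + 1), Module.End.mul_apply]
        rw [h3, hj₀z, LinearMap.zero_apply, add_zero]
      have hv : (f * f) ((N ^ j) v) = (N ^ j) v + (N ^ (j + 1)) v := by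
        rw [hNapp, pow_succ' N j, Module.End.mul_apply]
      exact keyA h2 q hq (f * f) hhq _ _ hv hw
  rw [hN] at hN0
  exact sub_eq_zero.mp hN0

theorem simdiag [FiniteDimensional K V] (h2 : (2 : K) ≠ 0) (T : Finset (Module.End K V))
    (hcomm : ∀ t ∈ T, ∀ t' ∈ T, t * t' = t' * t) (hsq : ∀ t ∈ T, t * t = 1) :
    ∀ W : Submodule K V, (∀ t ∈ T, ∀ x ∈ W, t x ∈ W) →
      ∃ (ι : Type) (_ : Fintype ι) (b : ι → V), LinearIndependent K b ∧
        Submodule.span K (Set.range b) = W ∧
          ∀ t ∈ T, ∀ i, t (b i) = b i ∨ t (b i) = - b i := by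
  classical
  induction T using Finset.induction_on with
  | empty =>
    intro W _
    refine ⟨Fin (Module.finrank K W), inferInstance,
      fun i => ((Module.finBasis K W i : W) : V), ?_, ?_, ?_⟩
    · have h1 := (Module.finBasis K W).linearIndependent
      exact h1.map' W.subtype (Submodule.ker_subtype W)
    · have h1 : Set.range (fun i => ((Module.finBasis K W i : W) : V)) =
          W.subtype '' (Set.range (Module.finBasis K W)) := by
        rw [← Set.range_comp]; rfl
      rw [h1, ← Submodule.map_span, (Module.finBasis K W).span_eq, Submodule.map_subtype_top]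
    · intro t ht; exact absurd ht (Finset.notMem_empty t)
  | insert t₀ T hnot ih =>
    intro W hW
    have hcommT : ∀ t ∈ T, ∀ t' ∈ T, t * t' = t' * t := fun t ht t' ht' =>
      hcomm t (Finset.mem_insert_of_mem ht) t' (Finset.mem_insert_of_mem ht')
    have hsqT : ∀ t ∈ T, t * t = 1 := fun t ht => hsq t (Finset.mem_insert_of_mem ht)
    have ht₀sq : t₀ * t₀ = 1 := hsq t₀ (Finset.mem_insert_self _ _)
    have ht₀app : ∀ x, t₀ (t₀ x) = x := fun x => by
      have h1 := LinearMap.congr_fun ht₀sq x
      rwa [Module.End.mul_apply, Module.End.one_apply] at h1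
    have ht₀W : ∀ x ∈ W, t₀ x ∈ W := hW t₀ (Finset.mem_insert_self _ _)
    have hcomm₀ : ∀ t ∈ T, ∀ x, t (t₀ x) = t₀ (t x) := by
      intro t ht x
      have h1 := LinearMap.congr_fun
        (hcomm t (Finset.mem_insert_of_mem ht) t₀ (Finset.mem_insert_self _ _)) x
      rwa [Module.End.mul_apply, Module.End.mul_apply] at h1
    obtain ⟨Wp, hWp⟩ : ∃ Wp : Submodule K V, ∀ x, x ∈ Wp ↔ x ∈ W ∧ t₀ x = x := by
      refine ⟨W ⊓ LinearMap.ker (t₀ - 1), fun x => ?_⟩
      rw [Submodule.mem_inf, LinearMap.mem_ker, LinearMap.sub_apply, Module.End.one_apply,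
        sub_eq_zero]
    obtain ⟨Wm, hWm⟩ : ∃ Wm : Submodule K V, ∀ x, x ∈ Wm ↔ x ∈ W ∧ t₀ x = - x := by
      refine ⟨W ⊓ LinearMap.ker (t₀ + 1), fun x => ?_⟩
      rw [Submodule.mem_inf, LinearMap.mem_ker, LinearMap.add_apply, Module.End.one_apply,
        add_eq_zero_iff_eq_neg]
    have hWpT : ∀ t ∈ T, ∀ x ∈ Wp, t x ∈ Wp := by
      intro t ht x hx
      rw [hWp] at hx ⊢
      refine ⟨hW t (Finset.mem_insert_of_mem ht) x hx.1, ?_⟩
      rw [← hcomm₀ t ht, hx.2]
    have hWmT : ∀ t ∈ T, ∀ x ∈ Wm, t x ∈ Wm := by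
      intro t ht x hx
      rw [hWm] at hx ⊢
      refine ⟨hW t (Finset.mem_insert_of_mem ht) x hx.1, ?_⟩
      rw [← hcomm₀ t ht, hx.2, map_neg]
    obtain ⟨ιp, _, bp, hbpli, hbpspan, hbpe⟩ := ih hcommT hsqT Wp hWpT
    obtain ⟨ιm, _, bm, hbmli, hbmspan, hbme⟩ := ih hcommT hsqT Wm hWmT
    have hdisj : Disjoint Wp Wm := by
      rw [Submodule.disjoint_def]
      intro x hxp hxm
      rw [hWp] at hxp; rw [hWm] at hxm
      have h3 : x = - x := hxp.2.symm.trans hxm.2
      have h4 : x + x = 0 := by
        have h5 : x + -x = 0 := add_neg_cancel x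
        rwa [← h3] at h5
      have h6 : (2 : K) • x = 0 := by rw [two_smul]; exact h4
      exact (smul_eq_zero.mp h6).resolve_left h2
    have hsup : Wp ⊔ Wm = W := by
      apply le_antisymm
      · apply sup_le
        · intro x hx; exact ((hWp x).mp hx).1
        · intro x hx; exact ((hWm x).mp hx).1
      · intro x hx
        have hxp : (2 : K)⁻¹ • (x + t₀ x) ∈ Wp := by
          rw [hWp]
          refine ⟨W.smul_mem _ (W.add_mem hx (ht₀W x hx)), ?_⟩
          rw [map_smul, map_add, ht₀app, add_comm]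
        have hxm : (2 : K)⁻¹ • (x - t₀ x) ∈ Wm := by
          rw [hWm]
          refine ⟨W.smul_mem _ (W.sub_mem hx (ht₀W x hx)), ?_⟩
          rw [map_smul, map_sub, ht₀app, ← smul_neg, neg_sub]
        have hx' : x = (2 : K)⁻¹ • (x + t₀ x) + (2 : K)⁻¹ • (x - t₀ x) := by
          rw [← smul_add, add_add_sub_cancel, ← two_smul K x, smul_smul, inv_mul_cancel₀ h2,
            one_smul]
        rw [hx']
        exact Submodule.add_mem_sup hxp hxm
    refine ⟨ιp ⊕ ιm, inferInstance, Sum.elim bp bm, ?_, ?_, ?_⟩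
    · apply LinearIndependent.sum_type hbpli hbmli
      rw [hbpspan, hbmspan]; exact hdisj
    · rw [Set.Sum.elim_range, Submodule.span_union, hbpspan, hbmspan, hsup]
    · intro t ht i
      rcases Finset.mem_insert.mp ht with rfl | ht
      · rcases i with i | i
        · left
          have h1 : bp i ∈ Wp := by
            rw [← hbpspan]; exact Submodule.subset_span (Set.mem_range_self i)
          exact ((hWp _).mp h1).2
        · right
          have h1 : bm i ∈ Wm := by
            rw [← hbmspan]; exact Submodule.subset_span (Set.mem_range_self i)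
          exact ((hWm _).mp h1).2
      · rcases i with i | i
        · exact hbpe t ht i
        · exact hbme t ht i

end helpers



/-- Let K be a field of characteristic different from 2 such that K contains all roots of unity (for
every n ≥ 1 the polynomial X^n − 1 splits into linear factors over K), V a finite-dimensional
K-vector space and q a quadratic form on V that does not represent zero. Then every finite subgroup
of the group of K-linear automorphisms of V preserving q is abelian and has order at most 2 ^ (dim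
V). (The published statement also covers perfect fields of characteristic 2; this row is the case of
characteristic ≠ 2.) -/
theorem result
    (K : Type u) [Field K] (hK : ∀ n : ℕ, 0 < n → (X ^ n - 1 : K[X]).Splits) (h2 : (2 : K) ≠ 0)
    (V : Type v) [AddCommGroup V] [Module K V] [FiniteDimensional K V]
    (q : QuadraticForm K V) (hq : q.Anisotropic)
    (G : Subgroup (V ≃ₗ[K] V)) [Finite G] (hG : ∀ g ∈ G, ∀ x : V, q (g x) = q x) :
    (∀ g ∈ G, ∀ h ∈ G, g * h = h * g) ∧ Nat.card G ≤ 2 ^ Module.finrank K V := by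
  classical
  have hsq : ∀ g ∈ G, g * g = 1 := by
    intro g hg
    have hfin : 0 < orderOf (⟨g, hg⟩ : G) := orderOf_pos _
    obtain ⟨n, hn⟩ : ∃ n, n = orderOf (⟨g, hg⟩ : G) := ⟨_, rfl⟩
    have hnpos : 0 < n := by rw [hn]; exact hfin
    have hgn : g ^ n = 1 := by
      have h1 : (⟨g, hg⟩ : G) ^ n = 1 := by rw [hn]; exact pow_orderOf_eq_one _
      have h3 := congrArg Subtype.val h1
      simpa using h3
    have hfn : (g : V →ₗ[K] V) ^ n = 1 := by
      have h1 := congrArg (LinearEquiv.automorphismGroup.toLinearMapMonoidHom (R := K) (M := V)) hgn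
      rw [map_pow, map_one] at h1
      exact h1
    have h3 := sq_one h2 q hq (g : V →ₗ[K] V) (fun x => hG g hg x) n hnpos hfn (hK n hnpos)
    apply LinearEquiv.ext
    intro x
    have h4 := LinearMap.congr_fun h3 x
    show g (g x) = x
    exact h4
  refine ⟨?_, ?_⟩
  · intro g hg h hh
    have e := hsq (g * h) (G.mul_mem hg hh)
    have eg := hsq g hg
    have eh := hsq h hh
    calc g * h = g * (g * h * (g * h)) * h := by rw [e, mul_one]
      _ = (g * g) * (h * g) * (h * h) := by simp only [mul_assoc]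
      _ = h * g := by rw [eg, eh, one_mul, mul_one]
  · obtain ⟨T, hT⟩ : ∃ T : Finset (Module.End K V),
        ∀ f, f ∈ T ↔ ∃ g : G, f = ((g : V ≃ₗ[K] V) : V →ₗ[K] V) := by
      refine ⟨(Set.finite_range (fun g : G => ((g : V ≃ₗ[K] V) : V →ₗ[K] V))).toFinset,
        fun f => ?_⟩
      rw [Set.Finite.mem_toFinset, Set.mem_range]
      constructor
      · rintro ⟨g, rfl⟩; exact ⟨g, rfl⟩
      · rintro ⟨g, rfl⟩; exact ⟨g, rfl⟩
    have hcommG : ∀ g ∈ G, ∀ h ∈ G, g * h = h * g := by
      intro g hg h hh
      have e := hsq (g * h) (G.mul_mem hg hh)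
      have eg := hsq g hg
      have eh := hsq h hh
      calc g * h = g * (g * h * (g * h)) * h := by rw [e, mul_one]
        _ = (g * g) * (h * g) * (h * h) := by simp only [mul_assoc]
        _ = h * g := by rw [eg, eh, one_mul, mul_one]
    have hTcomm : ∀ t ∈ T, ∀ t' ∈ T, t * t' = t' * t := by
      intro t ht t' ht'
      obtain ⟨g, rfl⟩ := (hT t).mp ht
      obtain ⟨h, rfl⟩ := (hT t').mp ht'
      have h1 := hcommG g.1 g.2 h.1 h.2
      ext x
      exact LinearEquiv.congr_fun h1 x
    have hTsq : ∀ t ∈ T, t * t = 1 := by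
      intro t ht
      obtain ⟨g, rfl⟩ := (hT t).mp ht
      have h1 := hsq g.1 g.2
      ext x
      exact LinearEquiv.congr_fun h1 x
    obtain ⟨ι, _, b, hbli, hbspan, hbe⟩ :=
      simdiag h2 T hTcomm hTsq ⊤ (fun _ _ _ _ => Submodule.mem_top)
    obtain ⟨B, hB⟩ : ∃ B : Module.Basis ι K V, ∀ i, B i = b i :=
      ⟨Module.Basis.mk hbli (by rw [hbspan]), fun i => Module.Basis.mk_apply _ _ i⟩
    have hcard : Fintype.card ι = Module.finrank K V :=
      (Module.finrank_eq_card_basis B).symm
    have hinj : Function.Injective (fun g : G => fun i : ι =>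
        decide ((((g : V ≃ₗ[K] V) : V →ₗ[K] V)) (b i) = b i)) := by
      intro g h hgh
      have hagree : ∀ i, (((g : V ≃ₗ[K] V) : V →ₗ[K] V)) (b i) =
          (((h : V ≃ₗ[K] V) : V →ₗ[K] V)) (b i) := by
        intro i
        have h1 := congrFun hgh i
        have hg' := hbe _ ((hT _).mpr ⟨g, rfl⟩) i
        have hh' := hbe _ ((hT _).mpr ⟨h, rfl⟩) i
        simp only [decide_eq_decide] at h1
        rcases hg' with hg1 | hg1
        · exact hg1.trans (h1.mp hg1).symm
        · rcases hh' with hh1 | hh1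
          · exact (h1.mpr hh1).trans hh1.symm
          · exact hg1.trans hh1.symm
      apply Subtype.ext
      apply LinearEquiv.toLinearMap_injective
      apply B.ext
      intro i
      rw [hB]
      exact hagree i
    have h5 := Nat.card_le_card_of_injective _ hinj
    rw [Nat.card_eq_fintype_card (α := ι → Bool), Fintype.card_fun, Fintype.card_bool, hcard] at h5
    exact h5


end Groth.Agent.S15166
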