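import Groth.Statements.S15169
import Groth.Agent.Lib.Helper7.DivAlgDeg
import Mathlib.Algebra.CharP.Lemmas
import Mathlib.Algebra.CharP.Algebra
import Mathlib.Algebra.Algebra.Bilinear
import Mathlib.Algebra.Algebra.Subalgebra.Centralizer

set_option autoImplicit false
universe u v
open BddFin

namespace Groth.Agent.S15169

open Polynomial Groth.Agent.Lib.helper7.DivAlgDeg

/-- Step 1: an inseparable element of a central division algebra of dimension `p ^ 2` has its
`p`-th power in `K`, and its minimal polynomial has degree `p`. -/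
lemma pow_mem_of_not_isSeparable (K : Type u) [Field K] (p : ℕ) [Fact p.Prime] [CharP K p]
    (A : Type v) [DivisionRing A] [Algebra K A] [FiniteDimensional K A]
    (hA : Module.finrank K A = p ^ 2) (hnc : ∃ a b : A, a * b ≠ b * a)
    (x : A) (hx : ¬ IsSeparable K x) :
    x ^ p ∈ (algebraMap K A).range ∧ (minpoly K x).natDegree = p := by
  have hp : p.Prime := Fact.out
  have hint : IsIntegral K x := Algebra.IsIntegral.isIntegral x
  have hirr : Irreducible (minpoly K x) := minpoly.irreducible hint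
  rcases separable_or p hirr with h | ⟨_, g, hg, hgf⟩
  · exact absurd h hx
  have hdeg : (minpoly K x).natDegree = (g.natDegree) * p := by
    rw [← hgf, natDegree_expand]
  have hdvd : (minpoly K x).natDegree ∣ p ^ 2 := hA ▸ natDegree_minpoly_dvd_finrank x
  obtain ⟨k, hk, hkd⟩ := (Nat.dvd_prime_pow hp).mp hdvd
  have hk2 : k ≠ 2 := by
    rintro rfl
    obtain ⟨a, b, hab⟩ := hnc
    exact hab (commute_of_natDegree_minpoly_eq x (by rw [hkd, hA]) a b)
  have hk0 : k ≠ 0 := by
    rintro rfl
    rw [pow_zero] at hkd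
    have : p ∣ 1 := by
      rw [← hkd, hdeg]; exact dvd_mul_left _ _
    exact hp.one_lt.ne' (Nat.dvd_one.mp this)
  have hk1 : k = 1 := by omega
  rw [hk1, pow_one] at hkd
  refine ⟨?_, hkd⟩
  have hg1 : g.natDegree = 1 := by
    have : g.natDegree * p = 1 * p := by rw [← hdeg, hkd, one_mul]
    exact Nat.eq_of_mul_eq_mul_right hp.pos this
  have hmonic : g.Monic := by
    have h1 : (minpoly K x).Monic := minpoly.monic hint
    rw [← hgf] at h1
    exact (monic_expand_iff hp.pos).mp h1
  obtain ⟨b, hb⟩ : ∃ b : K, g = X + C b := by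
    refine ⟨g.coeff 0, ?_⟩
    have := hmonic.eq_X_add_C hg1
    exact this
  have h0 : aeval x (minpoly K x) = 0 := minpoly.aeval K x
  rw [← hgf, hb, map_add, expand_X, expand_C, map_add, map_pow, aeval_X, aeval_C] at h0
  refine ⟨-b, ?_⟩
  rw [map_neg]
  exact (eq_neg_of_add_eq_zero_left h0).symm

lemma mul_pow_succ_of_comm_eq_one {A : Type*} [Ring A] {v u : A} (h : v * u = u * v + 1) (n : ℕ) :
    v * u ^ (n + 1) = u ^ (n + 1) * v + ((n + 1 : ℕ) : A) * u ^ n := by
  induction n with
  | zero => simp [h]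
  | succ n ih =>
    calc v * u ^ (n + 1 + 1) = (v * u ^ (n + 1)) * u := by rw [pow_succ _ (n + 1), mul_assoc]
      _ = (u ^ (n + 1) * v + ((n + 1 : ℕ) : A) * u ^ n) * u := by rw [ih]
      _ = u ^ (n + 1) * (v * u) + ((n + 1 : ℕ) : A) * u ^ (n + 1) := by
          rw [add_mul, mul_assoc, mul_assoc, ← pow_succ]
      _ = u ^ (n + 1 + 1) * v + ((n + 1 + 1 : ℕ) : A) * u ^ (n + 1) := by
          rw [h, mul_add, mul_one, ← mul_assoc, ← pow_succ, add_assoc]
          congr 1
          push_cast
          simp only [add_mul, one_mul]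
          abel

/-- Step 2: from a non-central `v` with `v ^ p ∈ K` and `[K(v):K] = p` build `u`. -/
lemma exists_of_pow_mem (K : Type u) [Field K] (p : ℕ) [Fact p.Prime] [CharP K p]
    (A : Type v) [DivisionRing A] [Algebra K A] [Algebra.IsCentral K A] [FiniteDimensional K A]
    (hA : Module.finrank K A = p ^ 2) (v : A) (hvp : v ^ p ∈ (algebraMap K A).range)
    (hdeg : (minpoly K v).natDegree = p) :
    ∃ u : A, u ^ p ∈ (algebraMap K A).range ∧ v * u - u * v = 1 ∧
      Algebra.adjoin K {v, u} = ⊤ := by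
  classical
  have hp : p.Prime := Fact.out
  have hcentral : ∀ a : A, (∀ b : A, b * a = a * b) → a ∈ (algebraMap K A).range := by
    intro a ha
    have h1 : a ∈ Subalgebra.center K A := Subalgebra.mem_center_iff.mpr ha
    rw [Algebra.IsCentral.mem_center_iff] at h1
    obtain ⟨c, hc⟩ := h1
    exact ⟨c, hc.symm⟩
  have hvnc : ∃ y : A, v * y ≠ y * v := by
    by_contra hcon
    push Not at hcon
    have hv : v ∈ (algebraMap K A).range := hcentral v (fun b => (hcon b).symm)
    have h1 : (minpoly K v).natDegree = 1 := minpoly.natDegree_eq_one_iff.mpr hv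
    rw [hdeg] at h1
    exact hp.one_lt.ne' h1
  obtain ⟨y, hy⟩ := hvnc
  have hcharA : CharP A p := charP_of_injective_algebraMap (algebraMap K A).injective p
  obtain ⟨D, hDdef⟩ : ∃ D : Module.End K A, D = LinearMap.mulLeft K v - LinearMap.mulRight K v :=
    ⟨_, rfl⟩
  have hD : ∀ a, D a = v * a - a * v := by
    intro a
    rw [hDdef]
    simp
  have hDp : D ^ p = 0 := by
    have hcomm : Commute (LinearMap.mulLeft K v) (LinearMap.mulRight K v) :=
      LinearMap.commute_mulLeft_right v v
    have hcharE : CharP (Module.End K A) p :=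
      charP_of_injective_algebraMap (algebraMap K (Module.End K A)).injective p
    rw [hDdef, sub_pow_char_of_commute p hcomm, LinearMap.pow_mulLeft, LinearMap.pow_mulRight]
    obtain ⟨c, hc⟩ := hvp
    rw [← hc]
    ext a
    simp [Algebra.commutes]
  have hex : ∃ k, (D ^ k) y = 0 := ⟨p, by rw [hDp]; rfl⟩
  obtain ⟨k, hk⟩ : ∃ k, k = Nat.find hex := ⟨_, rfl⟩
  have hkspec : (D ^ k) y = 0 := hk ▸ Nat.find_spec hex
  have hkmin : ∀ m, m < k → (D ^ m) y ≠ 0 := fun m hm => Nat.find_min hex (hk ▸ hm)
  have hk0 : k ≠ 0 := by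
    rintro rfl
    rw [pow_zero] at hkspec
    have : y = 0 := hkspec
    exact hy (by rw [this, mul_zero, zero_mul])
  have hk1 : k ≠ 1 := by
    rintro rfl
    rw [pow_one, hD] at hkspec
    exact hy (sub_eq_zero.mp hkspec)
  obtain ⟨j, rfl⟩ : ∃ j, k = j + 2 := ⟨k - 2, by omega⟩
  obtain ⟨z, hz⟩ : ∃ z, z = (D ^ j) y := ⟨_, rfl⟩
  have hDz : D z ≠ 0 := by
    have := hkmin (j + 1) (by omega)
    rwa [pow_succ', Module.End.mul_apply, ← hz] at this
  have hDDz : D (D z) = 0 := by
    have := hkspec
    rwa [pow_succ', pow_succ', Module.End.mul_apply, Module.End.mul_apply, ← hz] at this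
  obtain ⟨c, hc⟩ : ∃ c, c = D z := ⟨_, rfl⟩
  rw [← hc] at hDz hDDz
  have hcv : v * c = c * v := sub_eq_zero.mp ((hD c).symm.trans hDDz)
  have hcz : c = v * z - z * v := hc.trans (hD z)
  have hcinv : v * c⁻¹ = c⁻¹ * v := by
    calc v * c⁻¹ = c⁻¹ * (c * v) * c⁻¹ := by rw [← mul_assoc, inv_mul_cancel₀ hDz, one_mul]
      _ = c⁻¹ * (v * c) * c⁻¹ := by rw [hcv]
      _ = c⁻¹ * v := by rw [mul_assoc, mul_assoc, mul_inv_cancel₀ hDz, mul_one]
  have hvu : v * (c⁻¹ * z) - (c⁻¹ * z) * v = 1 := by
    rw [← mul_assoc, hcinv, mul_assoc, mul_assoc, ← mul_sub, ← hcz, inv_mul_cancel₀ hDz]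
  obtain ⟨u, hu⟩ : ∃ u, u = c⁻¹ * z := ⟨_, rfl⟩
  rw [← hu] at hvu
  have hvu' : v * u = u * v + 1 := by rw [← hvu]; abel
  -- adjoin = top
  have htop : Algebra.adjoin K {v, u} = ⊤ := by
    have hle : Algebra.adjoin K {v} ≤ Algebra.adjoin K {v, u} :=
      Algebra.adjoin_mono (by intro a ha; rw [Set.mem_singleton_iff] at ha; rw [ha]; simp)
    have hne : Algebra.adjoin K {v} ≠ Algebra.adjoin K {v, u} := by
      intro heq
      have hu_mem : u ∈ Algebra.adjoin K {v} := by
        rw [heq]; exact Algebra.subset_adjoin (by simp)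
      have hcomm := Algebra.isMulCommutative_adjoin K (s := ({v} : Set A)) (fun a ha b hb => by
        rw [Set.mem_singleton_iff] at ha hb; rw [ha, hb])
      have h1 : (⟨v, Algebra.subset_adjoin (Set.mem_singleton v)⟩ : Algebra.adjoin K {v}) *
          ⟨u, hu_mem⟩ = ⟨u, hu_mem⟩ * ⟨v, Algebra.subset_adjoin (Set.mem_singleton v)⟩ :=
        mul_comm' _ _
      have h2 : v * u = u * v := congrArg Subtype.val h1
      rw [h2, sub_self] at hvu
      exact zero_ne_one hvu
    have hlt : (Algebra.adjoin K {v}).toSubmodule < (Algebra.adjoin K {v, u}).toSubmodule := by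
      refine lt_of_le_of_ne hle ?_
      intro h
      exact hne (Subalgebra.toSubmodule_injective h)
    have hfr := Submodule.finrank_lt_finrank_of_lt hlt
    have h1 : Module.finrank K (Algebra.adjoin K {v}) = p := by
      rw [finrank_adjoin_singleton, hdeg]
    have h2 : Module.finrank K (Algebra.adjoin K {v, u}) ∣ p ^ 2 :=
      hA ▸ finrank_subalgebra_dvd _
    change Module.finrank K (Algebra.adjoin K {v}) < Module.finrank K (Algebra.adjoin K {v, u})
      at hfr
    rw [h1] at hfr
    obtain ⟨i, hi, hid⟩ := (Nat.dvd_prime_pow hp).mp h2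
    have hi2 : i = 2 := by
      rcases Nat.lt_or_ge i 2 with h | h
      · exfalso
        have : p ^ i ≤ p ^ 1 := Nat.pow_le_pow_right hp.pos (by omega)
        rw [pow_one] at this
        omega
      · omega
    rw [hi2, ← hA] at hid
    have h3 : (Algebra.adjoin K {v, u}).toSubmodule = ⊤ := Submodule.eq_top_of_finrank_eq hid
    exact Subalgebra.toSubmodule_injective (by rw [h3]; rfl)
  refine ⟨u, ?_, hvu, htop⟩
  -- `u ^ p` is central
  apply hcentral
  have hle : Algebra.adjoin K {v, u} ≤ Subalgebra.centralizer K {u ^ p} := by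
    apply Algebra.adjoin_le
    intro a ha
    rw [Subalgebra.coe_centralizer, Set.mem_centralizer_iff]
    intro m hm
    rw [Set.mem_singleton_iff] at hm
    subst hm
    rcases ha with rfl | ha
    · obtain ⟨n, hn⟩ : ∃ n, p = n + 1 := ⟨p - 1, by have := hp.pos; omega⟩
      have h1 := mul_pow_succ_of_comm_eq_one hvu' n
      rw [← hn, CharP.cast_eq_zero, zero_mul, add_zero] at h1
      exact h1.symm
    · rw [Set.mem_singleton_iff] at ha
      subst ha
      exact (pow_mul_comm' a p)
  intro b
  have hb : b ∈ Subalgebra.centralizer K {u ^ p} := hle (htop ▸ Algebra.mem_top)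
  rw [Subalgebra.mem_centralizer_iff] at hb
  exact (hb (u ^ p) (Set.mem_singleton _)).symm

/-- (1) ⇒ (2): let K be a field with char K = p > 0 and A a central division K-algebra with dim_K A = p
^ 2. If some element of A is not separable over K, then there are v, u in A with v ^ p and u ^ p in
K and v * u - u * v = 1 which generate A as a K-algebra. -/
theorem result
    (K : Type u) [Field K] (p : ℕ) [Fact p.Prime] [CharP K p]
    (A : Type v) [DivisionRing A] [Algebra K A] [Algebra.IsCentral K A] [FiniteDimensional K A]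
    (hA : Module.finrank K A = p ^ 2) (h : ∃ v : A, ¬ IsSeparable K v) :
    ∃ v u : A, v ^ p ∈ (algebraMap K A).range ∧ u ^ p ∈ (algebraMap K A).range ∧ v * u - u * v = 1 ∧
      Algebra.adjoin K {v, u} = ⊤ := by
  classical
  have hp : p.Prime := Fact.out
  obtain ⟨x, hx⟩ := h
  -- `A` is noncommutative
  have hnc : ∃ a b : A, a * b ≠ b * a := by
    by_contra hcon
    push Not at hcon
    have h1 : ∀ a : A, a ∈ (algebraMap K A).range := by
      intro a
      have ha : a ∈ Subalgebra.center K A := by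
        rw [Subalgebra.mem_center_iff]
        intro b
        exact hcon b a
      rw [Algebra.IsCentral.mem_center_iff] at ha
      obtain ⟨c, hc⟩ := ha
      exact ⟨c, hc.symm⟩
    have h2 : Module.finrank K A ≤ 1 := by
      rw [finrank_le_one_iff]
      refine ⟨1, fun a => ?_⟩
      obtain ⟨c, hc⟩ := h1 a
      exact ⟨c, by rw [Algebra.smul_def, mul_one]; exact hc⟩
    rw [hA] at h2
    have : 2 ^ 2 ≤ p ^ 2 := Nat.pow_le_pow_left hp.two_le 2
    omega
  obtain ⟨hxp, hxdeg⟩ := pow_mem_of_not_isSeparable K p A hA hnc x hx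
  obtain ⟨u, hu1, hu2, hu3⟩ := exists_of_pow_mem K p A hA x hxp hxdeg
  exact ⟨x, u, hxp, hu1, hu2, hu3⟩

end Groth.Agent.S15169
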