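import Groth.Statements.S1517
import Mathlib.RingTheory.TwoSidedIdeal.Operations
import Mathlib.RingTheory.Ideal.Span

set_option autoImplicit false
universe u
open Brauer

namespace Groth.Agent.S1517

/-- Let A be a ring with no nontrivial two-sided ideals and M a nonzero right ideal, viewed as a right
A-module with endomorphism ring A'. Then every A'-linear endomorphism of M is right multiplication
by exactly one element of A; that is, the natural map from A to the bicommutant of M is a bijection. -/
theorem result (A : Type u) [Ring A] [IsSimpleRing A]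
    (M : Submodule Aᵐᵒᵖ A) (hM : M ≠ ⊥)
    (g : Module.End (Module.End Aᵐᵒᵖ M) M) :
    ∃! a : A, ∀ m : M, (g m : A) = (m : A) * a := by
  classical
  -- `M` is a right ideal
  have hmem : ∀ (m : M) (x : A), (m : A) * x ∈ M := fun m x => by
    have := M.smul_mem (MulOpposite.op x) m.2
    simpa using this
  -- left multiplication by an element of `M` is an endomorphism of `M`
  let L : M → Module.End Aᵐᵒᵖ M := fun x =>
    { toFun := fun n => ⟨(x : A) * (n : A), hmem x n⟩
      map_add' := fun n n' => Subtype.ext (by simp [mul_add])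
      map_smul' := fun a n => Subtype.ext (by simp [mul_assoc]) }
  have hL : ∀ (x n : M), (g ⟨(x : A) * (n : A), hmem x n⟩ : A) = (x : A) * (g n : A) := by
    intro x n
    have h := g.map_smul (L x) n
    have h' := congrArg (Subtype.val) h
    exact h'
  -- the left ideal generated by `M` is two-sided, hence everything
  let I : Ideal A := Ideal.span (M : Set A)
  have hI2 : I.IsTwoSided := by
    refine ⟨fun {a} b ha => ?_⟩
    induction ha using Submodule.span_induction with
    | mem x hx => exact Ideal.subset_span (hmem ⟨x, hx⟩ b)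
    | zero => simp
    | add x y _ _ hx hy => rw [add_mul]; exact I.add_mem hx hy
    | smul c x _ hx => 
      rw [smul_eq_mul, mul_assoc]
      exact I.mul_mem_left c hx
  have hone : (1 : A) ∈ I := by
    have hne : I.toTwoSided ≠ ⊥ := by
      intro h
      apply hM
      rw [eq_bot_iff]
      intro x hx
      have hx' : x ∈ I.toTwoSided := Ideal.mem_toTwoSided.mpr (Ideal.subset_span hx)
      rw [h] at hx'
      simpa using hx'
    exact Ideal.mem_toTwoSided.mp (IsSimpleRing.one_mem_of_ne_bot _ hne)
  -- existence
  have hex : ∀ x ∈ I, ∃ a : A, ∀ m : M, (g ⟨(m : A) * x, hmem m x⟩ : A) = (m : A) * a := by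
    intro x hx
    induction hx using Submodule.span_induction with
    | mem x hx => exact ⟨(g ⟨x, hx⟩ : A), fun m => hL m ⟨x, hx⟩⟩
    | zero => 
      refine ⟨0, fun m => ?_⟩
      have : (⟨(m : A) * 0, hmem m 0⟩ : M) = 0 := Subtype.ext (by simp)
      rw [this, map_zero]; simp
    | add x y _ _ hx hy =>
      obtain ⟨a, ha⟩ := hx
      obtain ⟨b, hb⟩ := hy
      refine ⟨a + b, fun m => ?_⟩
      have : (⟨(m : A) * (x + y), hmem m (x + y)⟩ : M) =
          ⟨(m : A) * x, hmem m x⟩ + ⟨(m : A) * y, hmem m y⟩ := Subtype.ext (by simp [mul_add])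
      rw [this, map_add, mul_add, ← ha, ← hb]; rfl
    | smul c x _ hx =>
      obtain ⟨a, ha⟩ := hx
      refine ⟨c * a, fun m => ?_⟩
      have : (⟨(m : A) * (c • x), hmem m (c • x)⟩ : M) =
          ⟨((⟨(m : A) * c, hmem m c⟩ : M) : A) * x, hmem _ x⟩ :=
        Subtype.ext (by simp [mul_assoc])
      rw [this, ha, mul_assoc]
  -- uniqueness
  have huniq : ∀ c : A, (∀ m : M, (m : A) * c = 0) → c = 0 := by
    intro c hc
    have : ∀ x ∈ I, x * c = 0 := by
      intro x hx
      induction hx using Submodule.span_induction with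
      | mem x hx => exact hc ⟨x, hx⟩
      | zero => simp
      | add x y _ _ hx hy => rw [add_mul, hx, hy, add_zero]
      | smul b x _ hx => rw [smul_eq_mul, mul_assoc, hx, mul_zero]
    simpa using this 1 hone
  obtain ⟨a, ha⟩ := hex 1 hone
  refine ⟨a, fun m => ?_, fun b hb => ?_⟩
  · have : (⟨(m : A) * 1, hmem m 1⟩ : M) = m := Subtype.ext (by simp)
    rw [← ha m, this]
  · rw [← sub_eq_zero]
    apply huniq
    intro m
    have : (⟨(m : A) * 1, hmem m 1⟩ : M) = m := Subtype.ext (by simp)
    rw [mul_sub, ← hb m, ← ha m, this, sub_self]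

end Groth.Agent.S1517
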