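import Groth.Statements.S15170
import Mathlib.FieldTheory.Galois.Basic
import Mathlib.RingTheory.Adjoin.PowerBasis
import Mathlib.FieldTheory.Separable
import Mathlib.Algebra.Polynomial.Splits
import Mathlib.RingTheory.IntegralClosure.IsIntegralClosure.Basic

set_option autoImplicit false
universe u v
open BddFin

namespace Groth.Agent.S15170

open Polynomial

lemma semiconj_aeval {K : Type*} [Field K] {A : Type*} [Ring A] [Algebra K A] {a x y : A}
    (h : a * x = y * a) (g : K[X]) : a * aeval x g = aeval y g * a := by
  induction g using Polynomial.induction_on' with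
  | add q r hq hr => rw [map_add, map_add, mul_add, add_mul, hq, hr]
  | monomial n c =>
    have hpow : a * x ^ n = y ^ n * a := (SemiconjBy.pow_right (show SemiconjBy a x y from h) n)
    rw [aeval_monomial, aeval_monomial, ← mul_assoc, ← Algebra.commutes, mul_assoc, hpow,
      mul_assoc]

/-- Core: a commutative subfield `S` of `A` (as a subalgebra that is a field), generated by `w`,
such that `minpoly K w` has the `p` roots `w + i`. -/
lemma core (K : Type u) [Field K] (p : ℕ) [Fact p.Prime] [CharP K p]
    (L : Type v) [Field L] [Algebra K L] [FiniteDimensional K L] (w : L)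
    (htop : Algebra.adjoin K {w} = ⊤)
    (hroot : ∀ i : ℕ, aeval (w + (i : L)) (minpoly K w) = 0)
    (hdeg : (minpoly K w).natDegree ≤ p) :
    IsGalois K L ∧ Module.finrank K L = p := by
  classical
  have hp : p.Prime := Fact.out
  have hint : IsIntegral K w := Algebra.IsIntegral.isIntegral w
  set f := minpoly K w with hf
  have hf0 : f ≠ 0 := minpoly.ne_zero hint
  have hcharL : CharP L p := charP_of_injective_algebraMap (algebraMap K L).injective p
  -- the `p` distinct roots
  have hinj : Set.InjOn (fun i : ℕ => w + (i : L)) (Finset.range p : Set ℕ) := by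
    intro i hi j hj hij
    have h1 : (i : L) = (j : L) := add_left_cancel hij
    rw [CharP.natCast_eq_natCast L p] at h1
    rw [Finset.coe_range, Set.mem_Iio] at hi hj
    exact Nat.ModEq.eq_of_lt_of_lt h1 hi hj
  obtain ⟨R, hR⟩ : ∃ R : Finset L, R = (Finset.range p).image (fun i : ℕ => w + (i : L)) :=
    ⟨_, rfl⟩
  have hRcard : R.card = p := by
    rw [hR, Finset.card_image_of_injOn hinj, Finset.card_range]
  have hfmap0 : f.map (algebraMap K L) ≠ 0 := (Polynomial.map_ne_zero hf0)
  have hRle : R.val ≤ (f.map (algebraMap K L)).roots := by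
    rw [Finset.val_le_iff_val_subset]
    intro x hx
    rw [Finset.mem_val, hR, Finset.mem_image] at hx
    obtain ⟨i, _, rfl⟩ := hx
    rw [mem_roots hfmap0, IsRoot.def, eval_map_algebraMap]
    exact hroot i
  have hcard1 : p ≤ (f.map (algebraMap K L)).roots.card := by
    rw [← hRcard]; exact Multiset.card_le_card hRle
  have hcard2 : (f.map (algebraMap K L)).roots.card ≤ f.natDegree := by
    rw [← natDegree_map (algebraMap K L)]
    exact card_roots' _
  have hdeg' : f.natDegree = p := le_antisymm hdeg (hcard1.trans hcard2)
  have hcard : (f.map (algebraMap K L)).roots.card = (f.map (algebraMap K L)).natDegree := by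
    rw [natDegree_map]; exact le_antisymm hcard2 (hdeg' ▸ hcard1)
  have hsplits : (f.map (algebraMap K L)).Splits := splits_iff_card_roots.mpr hcard
  have hRoots : (f.map (algebraMap K L)).roots = R.val :=
    (Multiset.eq_of_le_of_card_le hRle (by
      rw [Finset.card_val, hRcard, hcard, natDegree_map, hdeg'])).symm
  have hsepL : (f.map (algebraMap K L)).Separable :=
    (nodup_roots_iff_of_splits hfmap0 hsplits).mp (hRoots ▸ R.nodup)
  have hsep : f.Separable := (separable_map (algebraMap K L)).mp hsepL
  have hw_root : w ∈ f.rootSet L := by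
    rw [mem_rootSet]
    exact ⟨hf0, minpoly.aeval K w⟩
  have hsf : f.IsSplittingField K L :=
    ⟨hsplits, top_le_iff.mp (htop ▸ Algebra.adjoin_mono (Set.singleton_subset_iff.mpr hw_root))⟩
  refine ⟨IsGalois.of_separable_splitting_field hsep, ?_⟩
  rw [← hdeg']
  exact (PowerBasis.ofAdjoinEqTop hint htop).finrank

/-- (2) ⇒ (3): let K be a field with char K = p > 0 and A a central division K-algebra with dim_K A = p
^ 2. If v, u in A satisfy v ^ p ∈ K, u ^ p ∈ K and v * u - u * v = 1, then some Galois extension L
of K with [L : K] = p admits a K-algebra embedding into A (so A has a Galois subfield of degree p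
over K). -/
theorem result
    (K : Type u) [Field K] (p : ℕ) [Fact p.Prime] [CharP K p]
    (A : Type v) [DivisionRing A] [Algebra K A] [Algebra.IsCentral K A] [FiniteDimensional K A]
    (hA : Module.finrank K A = p ^ 2) (v u : A) (hv : v ^ p ∈ (algebraMap K A).range)
    (hu : u ^ p ∈ (algebraMap K A).range) (hvu : v * u - u * v = 1) :
    ∃ (L : Type v) (_ : Field L) (_ : Algebra K L), IsGalois K L ∧ Module.finrank K L = p ∧
      Nonempty (L →ₐ[K] A) := by
  classical
  have hp : p.Prime := Fact.out
  have hv0 : v ≠ 0 := by
    rintro rfl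
    rw [zero_mul, mul_zero, sub_zero] at hvu
    exact zero_ne_one hvu
  have hvu' : v * u = u * v + 1 := by rw [← hvu]; abel
  obtain ⟨w, hw⟩ : ∃ w : A, w = u * v := ⟨_, rfl⟩
  have hconj : v * w = (w + 1) * v := by
    rw [hw, ← mul_assoc, hvu']
  have hconj_pow : ∀ i : ℕ, v ^ i * w = (w + (i : A)) * v ^ i := by
    intro i
    induction i with
    | zero => simp
    | succ i ih =>
      have e1 : v * (w + (i : A)) = (w + ((i + 1 : ℕ) : A)) * v := by
        rw [mul_add, hconj, ← (Nat.cast_commute i v).eq, ← add_mul]
        congr 1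
        push_cast
        abel
      calc v ^ (i + 1) * w = v * (v ^ i * w) := by rw [pow_succ', mul_assoc]
        _ = (v * (w + (i : A))) * v ^ i := by rw [ih, mul_assoc]
        _ = (w + ((i + 1 : ℕ) : A)) * v ^ (i + 1) := by rw [e1, mul_assoc, ← pow_succ']
  have hint : IsIntegral K w := Algebra.IsIntegral.isIntegral w
  have hrootA : ∀ i : ℕ, aeval (w + (i : A)) (minpoly K w) = 0 := by
    intro i
    have h1 := semiconj_aeval (hconj_pow i) (minpoly K w)
    rw [minpoly.aeval, mul_zero] at h1
    exact (mul_eq_zero.mp h1.symm).resolve_right (pow_ne_zero i hv0)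
  -- the subalgebra generated by `w`
  obtain ⟨S, hS⟩ : ∃ S : Subalgebra K A, S = Algebra.adjoin K {w} := ⟨_, rfl⟩
  have hwS : w ∈ S := hS ▸ Algebra.subset_adjoin (Set.mem_singleton w)
  have hcomm : ∀ a b : S, a * b = b * a := by
    subst hS
    letI := Algebra.adjoinCommRingOfComm K (s := ({w} : Set A)) (fun a ha b hb => by
      rw [Set.mem_singleton_iff] at ha hb; rw [ha, hb])
    intro a b
    exact mul_comm a b
  letI instCR : CommRing S := { (inferInstance : Ring S) with mul_comm := hcomm }
  have hdom : IsDomain S := NoZeroDivisors.to_isDomain S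
  have hIsInt : Algebra.IsIntegral K S := Algebra.IsIntegral.of_finite K S
  have hfield : IsField S := isField_of_isIntegral_of_isField' (Field.toIsField K)
  letI instF : Field S := hfield.toField
  obtain ⟨w', hw'⟩ : ∃ w' : S, (w' : A) = w := ⟨⟨w, hwS⟩, rfl⟩
  have htop : Algebra.adjoin K {w'} = ⊤ := by
    subst hS
    have h1 := Algebra.adjoin_adjoin_coe_preimage (R := K) (s := ({w} : Set A))
    have h2 : ((↑) : Algebra.adjoin K ({w} : Set A) → A) ⁻¹' {w} = {w'} := by
      ext x
      simp only [Set.mem_preimage, Set.mem_singleton_iff]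
      constructor
      · intro hx
        exact Subtype.ext (hx.trans hw'.symm)
      · intro hx
        rw [hx, hw']
    rw [h2] at h1
    exact h1
  have hmin : minpoly K w' = minpoly K w := by
    rw [← hw']
    exact (minpoly.algHom_eq S.val Subtype.val_injective w').symm
  have hroot : ∀ i : ℕ, aeval (w' + (i : S)) (minpoly K w') = 0 := by
    intro i
    apply Subtype.val_injective
    have h1 : ((aeval (w' + (i : S)) (minpoly K w') : S) : A) =
        aeval (S.val (w' + (i : S))) (minpoly K w') := (aeval_algHom_apply S.val _ _).symm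
    rw [h1, hmin]
    have h2 : S.val (w' + (i : S)) = w + (i : A) := by
      rw [map_add, map_natCast, Subalgebra.val_apply, hw']
    rw [h2, hrootA i]
    rfl
  have hdeg : (minpoly K w').natDegree ≤ p := by
    have hintS : IsIntegral K w' := Algebra.IsIntegral.isIntegral w'
    have hfr : Module.finrank K S = (minpoly K w').natDegree :=
      (PowerBasis.ofAdjoinEqTop hintS htop).finrank
    have hmul : Module.finrank K S * Module.finrank S A = Module.finrank K A :=
      Module.finrank_mul_finrank K S A
    have hdvd : (minpoly K w').natDegree ∣ p ^ 2 := by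
      rw [← hfr, ← hA, ← hmul]
      exact dvd_mul_right _ _
    obtain ⟨k, hk, hkd⟩ := (Nat.dvd_prime_pow hp).mp hdvd
    have hk2 : k ≠ 2 := by
      rintro rfl
      have htopS : S.toSubmodule = ⊤ := by
        apply Submodule.eq_top_of_finrank_eq
        change Module.finrank K S = _
        rw [hfr, hkd, hA]
      have huS : u ∈ S := by
        change u ∈ S.toSubmodule
        rw [htopS]; trivial
      have hvS : v ∈ S := by
        change v ∈ S.toSubmodule
        rw [htopS]; trivial
      have hc := congrArg Subtype.val (hcomm ⟨v, hvS⟩ ⟨u, huS⟩)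
      change v * u = u * v at hc
      rw [hc, sub_self] at hvu
      exact zero_ne_one hvu
    have hk1 : k ≤ 1 := by omega
    rw [hkd]
    calc p ^ k ≤ p ^ 1 := Nat.pow_le_pow_right hp.pos hk1
      _ = p := pow_one p
  obtain ⟨hgal, hfin⟩ := core K p S w' htop hroot hdeg
  exact ⟨S, instF, inferInstance, hgal, hfin, ⟨S.val⟩⟩

end Groth.Agent.S15170
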