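import Groth.Statements.S15172
import Mathlib
-- import your own Groth.Agent.* helpers here

set_option autoImplicit false
universe u v
open Polynomial
open BddFin

namespace Groth.Agent.S15172

/-- translation by an element of `s` permutes `s` -/
lemma prod_translate {L : Type u} [Field L] (s : Finset L)
    (hadd : ∀ a ∈ s, ∀ b ∈ s, a + b ∈ s) {A : Type*} [CommRing A] (φ : L →+* A) (z : A)
    (b : L) (hb : b ∈ s) :
    ∏ a ∈ s, (z + φ b - φ a) = ∏ a ∈ s, (z - φ a) := by
  classical
  have himg : s.image (fun a => a + b) = s := by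
    apply Finset.eq_of_subset_of_card_le
    · intro c hc
      obtain ⟨a, ha, rfl⟩ := Finset.mem_image.mp hc
      exact hadd a ha b hb
    · rw [Finset.card_image_of_injective _ (add_left_injective b)]
  conv_lhs => rw [← himg]
  rw [Finset.prod_image (fun x _ y _ h => add_left_injective b h)]
  refine Finset.prod_congr rfl fun a _ => ?_
  rw [map_add]; ring

theorem additive {L : Type u} [Field L] (s : Finset L) (h0 : (0 : L) ∈ s)
    (hadd : ∀ a ∈ s, ∀ b ∈ s, a + b ∈ s) (R : Type v) [CommRing R] [Algebra L R] (x y : R) :
    aeval (x + y) (∏ a ∈ s, (X - C a)) = aeval x (∏ a ∈ s, (X - C a)) + aeval y (∏ a ∈ s, (X - C a)) := by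
  classical
  -- work in `A[Y]` with `A = L[X]`
  let F : L[X][X] := ∏ a ∈ s, (X - C (C a))
  let g : L[X][X] := F.comp (X + C (X : L[X])) - F - C (F.eval (X : L[X]))
  have hFmonic : F.Monic := monic_prod_of_monic _ _ fun a _ => monic_X_sub_C _
  have hFdeg : F.natDegree = s.card := by
    have := natDegree_prod_of_monic s (fun a : L => (X - C (C a) : L[X][X])) fun a _ => monic_X_sub_C _
    simp only [natDegree_X_sub_C, Finset.sum_const, smul_eq_mul, mul_one] at this
    exact this
  have hcard : 0 < s.card := Finset.card_pos.mpr ⟨0, h0⟩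
  have hg0 : g = 0 := by
    apply eq_zero_of_natDegree_lt_card_of_eval_eq_zero g (ι := s) (f := fun b => C (b : L))
      (fun b c h => Subtype.ext (C_injective h))
    · rintro ⟨b, hb⟩
      have h1 : F.eval (C b) = 0 := by
        simp only [F, eval_prod, eval_sub, eval_X, eval_C]
        exact Finset.prod_eq_zero hb (by simp)
      have h2 : (F.comp (X + C (X : L[X]))).eval (C b) = F.eval (X : L[X]) := by
        simp only [F, eval_comp, eval_prod, eval_sub, eval_X, eval_C, eval_add]
        have := prod_translate s hadd (C : L →+* L[X]) (X : L[X]) b hb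
        rw [← this]
        refine Finset.prod_congr rfl fun a _ => by ring
      simp only [g, eval_sub, eval_C, h1, h2]
      ring
    · rw [Fintype.card_coe]
      by_cases hg : g = 0
      · rw [hg]; simpa using hcard
      rw [natDegree_lt_iff_degree_lt hg]
      have hF₁monic : (F.comp (X + C (X : L[X]))).Monic := hFmonic.comp_X_add_C _
      have hF₁deg : (F.comp (X + C (X : L[X]))).natDegree = s.card := by
        rw [natDegree_comp, natDegree_X_add_C, mul_one, hFdeg]
      have hdeg1 : (F.comp (X + C (X : L[X])) - F).degree < (F.comp (X + C (X : L[X]))).degree := by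
        apply degree_sub_lt_left
        · rw [degree_eq_natDegree hF₁monic.ne_zero, degree_eq_natDegree hFmonic.ne_zero, hF₁deg, hFdeg]
        · exact hF₁monic.ne_zero
        · rw [hF₁monic.leadingCoeff, hFmonic.leadingCoeff]
      rw [degree_eq_natDegree hF₁monic.ne_zero, hF₁deg] at hdeg1
      calc g.degree ≤ max (F.comp (X + C (X : L[X])) - F).degree (C (F.eval (X : L[X]))).degree :=
            degree_sub_le _ _
        _ < (s.card : WithBot ℕ) := by
            apply max_lt hdeg1
            exact lt_of_le_of_lt degree_C_le (by exact_mod_cast hcard)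
  -- specialise
  let φ : L[X] →+* R := (aeval x : L[X] →ₐ[L] R).toRingHom
  have hφ : φ.comp (C : L →+* L[X]) = algebraMap L R := by
    ext a; simp [φ]
  have hF : ∀ z : R, eval₂ φ z F = aeval z (∏ a ∈ s, (X - C a) : L[X]) := by
    intro z
    simp only [F, eval₂_finsetProd, eval₂_sub, eval₂_X, eval₂_C, map_prod, map_sub, aeval_X, aeval_C]
    refine Finset.prod_congr rfl fun a _ => ?_
    simp [φ]
  have hFX : F.eval (X : L[X]) = ∏ a ∈ s, (X - C a) := by
    simp [F, eval_prod]
  have := congrArg (eval₂ φ y) hg0
  simp only [g, eval₂_sub, eval₂_comp, eval₂_add, eval₂_X, eval₂_C, hF, hFX, eval₂_zero] at this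
  have hφX : φ X = x := by simp [φ]
  rw [hφX] at this
  have hφf : φ (∏ a ∈ s, (X - C a)) = aeval x (∏ a ∈ s, (X - C a) : L[X]) := rfl
  rw [hφf, add_comm y x] at this
  linear_combination this


/-- Let L be a field of characteristic p > 0 and s a finite subset of L containing 0 and closed under
addition (a finite additive subgroup). Then the polynomial f = ∏_{a ∈ s} (X - a) is additive: f (x +
y) = f x + f y for all x, y in any commutative L-algebra (equivalently, as an identity of
polynomials in two variables). -/
theorem result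
    (L : Type u) [Field L] (p : ℕ) [Fact p.Prime] [CharP L p] (s : Finset L) (h0 : (0 : L) ∈ s)
    (hadd : ∀ a ∈ s, ∀ b ∈ s, a + b ∈ s) (R : Type v) [CommRing R] [Algebra L R] (x y : R) :
    aeval (x + y) (∏ a ∈ s, (X - C a)) = aeval x (∏ a ∈ s, (X - C a)) + aeval y (∏ a ∈ s, (X - C a)) := by
  exact additive s h0 hadd R x y

end Groth.Agent.S15172
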