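import Groth.Statements.S15173
import Mathlib

set_option autoImplicit false
universe u v
open Polynomial
open BddFin

namespace Groth.Agent.S15173


open Polynomial in
open scoped IsMulCommutative in
theorem main (K : Type u) [Field K] (p : ℕ) [Fact p.Prime] [CharP K p]
    (A : Type v) [DivisionRing A] [Algebra K A] [Algebra.IsCentral K A] [FiniteDimensional K A]
    (w : A) (hw : w ^ p ∈ (algebraMap K A).range) (hwK : w ∉ (algebraMap K A).range) (N : ℕ) :
    ∃ H : Subgroup Aˣ, (Units.map (algebraMap K A : K →* A)).range ≤ H ∧
      N < ((Units.map (algebraMap K A : K →* A)).range).relIndex H := by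
  classical
  have hinj : Function.Injective (algebraMap K A) := (algebraMap K A).injective
  -- K infinite
  have hKinf : Infinite K := by
    by_contra hfin
    rw [not_infinite_iff_finite] at hfin
    have hA : Finite A := Module.finite_of_finite K
    have hcomm : ∀ x y : A, x * y = y * x := (littleWedderburn A).mul_comm
    apply hwK
    have hc : w ∈ Subalgebra.center K A := by
      rw [Subalgebra.mem_center_iff]
      intro b; exact hcomm b w
    have h2 := Algebra.IsCentral.out (K := K) (D := A) hc
    rw [Algebra.mem_bot] at h2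
    obtain ⟨t, ht⟩ := h2
    exact ⟨t, ht⟩
  have : CharP A p := charP_of_injective_algebraMap hinj p
  obtain ⟨c, hc⟩ := hw
  obtain ⟨Z, hZ⟩ : ∃ Z : Subgroup Aˣ, Z = (Units.map (algebraMap K A : K →* A)).range := ⟨_, rfl⟩
  rw [← hZ]
  have hZmem : ∀ z : Aˣ, z ∈ Z ↔ (z : A) ∈ (algebraMap K A).range := by
    intro z; rw [hZ]; constructor
    · rintro ⟨t, rfl⟩; exact ⟨(t : K), by simp⟩
    · rintro ⟨t, ht⟩
      have ht0 : t ≠ 0 := by rintro rfl; rw [map_zero] at ht; exact z.ne_zero ht.symm
      exact ⟨Units.mk0 t ht0, Units.ext (by simpa using ht)⟩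
  have hZn : Z.Normal := by
    constructor
    intro z hz g
    rw [hZmem] at hz ⊢
    obtain ⟨t, ht⟩ := hz
    refine ⟨t, ?_⟩
    rw [Units.val_mul, Units.val_mul, ← ht,
      show (g : A) * algebraMap K A t = algebraMap K A t * g from (Algebra.commutes t (g:A)).symm,
      mul_assoc, Units.mul_inv, mul_one]
  have hne : ∀ a : K, w + algebraMap K A a ≠ 0 := by
    intro a h0
    apply hwK
    refine ⟨-a, ?_⟩
    rw [map_neg]; exact (eq_neg_of_add_eq_zero_left h0).symm
  obtain ⟨u, hu⟩ : ∃ u : K → Aˣ, ∀ a, ((u a : Aˣ) : A) = w + algebraMap K A a :=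
    ⟨fun a => Units.mk0 _ (hne a), fun a => rfl⟩
  have hcommu : ∀ a b : K, u a * u b = u b * u a := by
    intro a b
    apply Units.ext
    rw [Units.val_mul, Units.val_mul, hu, hu]
    exact (((Commute.refl w).add_left (Algebra.commute_algebraMap_left a w)).add_right
      (Algebra.commute_algebraMap_right b _)).eq
  have hpowu : ∀ a : K, (u a) ^ p ∈ Z := by
    intro a
    rw [hZmem, Units.val_pow_eq_pow_val, hu,
      add_pow_char_of_commute _ (Algebra.commute_algebraMap_right a w), ← hc, ← map_pow, ← map_add]
    exact ⟨_, rfl⟩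
  obtain ⟨π, hπsurj, hπker⟩ : ∃ π : Aˣ →* Aˣ ⧸ Z, Function.Surjective π ∧ π.ker = Z :=
    ⟨QuotientGroup.mk' Z, QuotientGroup.mk'_surjective Z, QuotientGroup.ker_mk' Z⟩
  have hdist : ∀ a b : K, π (u a) = π (u b) → a = b := by
    intro a b hab
    rw [MonoidHom.eq_iff, hπker, hZmem] at hab
    obtain ⟨t, ht⟩ := hab
    -- ht : algebraMap t = ↑((u b)⁻¹ * u a)
    have h1 : w + algebraMap K A a = (w + algebraMap K A b) * algebraMap K A t := by
      rw [ht, Units.val_mul, ← hu a, ← hu b, Units.mul_inv_cancel_left]
    have h2 : w * algebraMap K A (1 - t) = algebraMap K A (b * t - a) := by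
      rw [map_sub, map_one, map_sub, map_mul, mul_sub, mul_one, sub_eq_sub_iff_add_eq_add, h1,
        add_mul, add_comm]
    by_cases ht1 : (1 - t) = 0
    · have ht' : t = 1 := (sub_eq_zero.mp ht1).symm
      rw [ht', map_one, mul_one] at h1
      exact hinj (add_left_cancel h1)
    · exfalso
      apply hwK
      refine ⟨(b * t - a) * (1 - t)⁻¹, ?_⟩
      rw [map_mul, ← h2, mul_assoc, ← map_mul, mul_inv_cancel₀ ht1, map_one, mul_one]
  obtain ⟨f⟩ : Nonempty (ℕ ↪ K) := ⟨Infinite.natEmbedding K⟩
  obtain ⟨g, hg⟩ : ∃ g : Fin (N+1) → Aˣ ⧸ Z, ∀ i, g i = π (u (f i)) := ⟨fun i => π (u (f i)), fun i => rfl⟩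
  have hginj : Function.Injective g := by
    intro i j hij
    rw [hg, hg] at hij
    have := hdist _ _ hij
    exact Fin.ext (f.injective this)
  have hScomm : ∀ x ∈ Set.range g, ∀ y ∈ Set.range g, x * y = y * x := by
    rintro _ ⟨i, rfl⟩ _ ⟨j, rfl⟩
    rw [hg, hg, ← map_mul, ← map_mul, hcommu]
  have hSpow : ∀ x ∈ Set.range g, x ^ p = 1 := by
    rintro _ ⟨i, rfl⟩
    rw [hg, ← map_pow, ← MonoidHom.mem_ker, hπker]
    exact hpowu _
  have hFc : IsMulCommutative (Subgroup.closure (Set.range g)) :=
    Subgroup.isMulCommutative_closure hScomm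
  have hFpow : ∀ x ∈ Subgroup.closure (Set.range g), x ^ p = 1 := by
    intro x hx
    induction hx using Subgroup.closure_induction with
    | mem x hx => exact hSpow x hx
    | one => exact one_pow _
    | mul x y hx hy ihx ihy =>
      have hxy : Commute x y := setLike_mul_comm hx hy
      rw [hxy.mul_pow, ihx, ihy, one_mul]
    | inv x hx ih => rw [inv_pow, ih, inv_one]
  have hFfin : Finite (Subgroup.closure (Set.range g)) := by
    have : Group.FG (Subgroup.closure (Set.range g)) := Group.closure_finite_fg (Set.range g)
    apply CommGroup.finite_of_fg_isMulTorsion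
    intro x
    rw [isOfFinOrder_iff_pow_eq_one]
    refine ⟨p, (Fact.out : p.Prime).pos, ?_⟩
    apply Subtype.ext
    rw [Subgroup.coe_pow]
    exact hFpow x x.2
  have hcard : N + 1 ≤ Nat.card (Subgroup.closure (Set.range g)) := by
    have hinj' : Function.Injective (fun i : Fin (N+1) =>
        (⟨g i, Subgroup.subset_closure ⟨i, rfl⟩⟩ : Subgroup.closure (Set.range g))) := by
      intro i j hij
      exact hginj (congrArg Subtype.val hij)
    have := Nat.card_le_card_of_injective _ hinj'
    rwa [Nat.card_fin] at this
  refine ⟨(Subgroup.closure (Set.range g)).comap π, ?_, ?_⟩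
  · intro z hz
    rw [Subgroup.mem_comap]
    have : π z = 1 := by rw [← MonoidHom.mem_ker, hπker]; exact hz
    rw [this]; exact Subgroup.one_mem _
  · have hZ' : (⊥ : Subgroup (Aˣ ⧸ Z)).comap π = Z := by rw [MonoidHom.comap_bot, hπker]
    have key := Subgroup.relIndex_comap (H := (⊥ : Subgroup (Aˣ ⧸ Z))) π
      ((Subgroup.closure (Set.range g)).comap π)
    rw [hZ', Subgroup.map_comap_eq_self_of_surjective hπsurj, Subgroup.relIndex_bot_left] at key
    rw [key]
    omega


/-- Let K be a field of characteristic p > 0 such that K contains all roots of unity (for every n ≥ 1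
the polynomial X^n − 1 splits into linear factors over K), and A a finite-dimensional central
division algebra over K. If A contains an element w not in K with w ^ p in K, then the quotient of
the unit group of A by that of K has unbounded finite subgroups: for every N there is a subgroup H
of the units of A containing the units of K as a subgroup of finite index greater than N. (The
published statement assumes only that some element of A is inseparable over K and passes at once to
a purely inseparable subfield of degree p; this row assumes an element generating such a subfield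
directly, which is what the rest of the printed argument uses.) -/
theorem result
    (K : Type u) [Field K] (p : ℕ) [Fact p.Prime] [CharP K p] (hK : ∀ n : ℕ, 0 < n → (X ^ n - 1 : K[X]).Splits)
    (A : Type v) [DivisionRing A] [Algebra K A] [Algebra.IsCentral K A] [FiniteDimensional K A]
    (w : A) (hw : w ^ p ∈ (algebraMap K A).range) (hwK : w ∉ (algebraMap K A).range) (N : ℕ) :
    ∃ H : Subgroup Aˣ, (Units.map (algebraMap K A : K →* A)).range ≤ H ∧
      N < ((Units.map (algebraMap K A : K →* A)).range).relIndex H := by
  exact main K p A w hw hwK N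


end Groth.Agent.S15173
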