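import Groth.Statements.S15177
import Mathlib
import Groth.Agent.Lib.Helper15.ComodOps
import Groth.Agent.Lib.Helper15.MatCoef

set_option autoImplicit false
universe u v
open BddFin

namespace Groth.Agent.S15177

/-- Let K be a field and Γ a unipotent linear algebraic group over K, given here by its coordinate Hopf
algebra A (a finitely generated, formally smooth commutative Hopf algebra over K all of whose
non-zero finite-dimensional comodules have a non-zero fixed vector). Then the group Γ(K) of K-points
(K-algebra maps A → K under convolution) has no non-trivial element of finite order coprime to the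
characteristic of K: an element of finite order whose order is non-zero in K is the identity. -/
theorem result
    (K : Type u) [Field K] (A : Type v) [CommRing A] [HopfAlgebra K A] [Algebra.FiniteType K A]
    [Algebra.FormallySmooth K A] (hU : HopfRep.IsUnipotent K A)
    (g : WithConv (A →ₐ[K] K)) (hg : IsOfFinOrder g) (hcop : ((orderOf g : ℕ) : K) ≠ 0) : g = 1 := by
  classical
  apply WithConv.ofConv_injective
  ext x
  set W : Submodule K A := Groth.Agent.Lib.helper15.ComodFin.RCV (k := K) (A := A) (V := A) x with hWdef
  have hWsub : HopfRep.IsSubcomod (k := K) (A := A) W :=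
    Groth.Agent.Lib.helper15.ComodFin.RCV_isSubcomod (k := K) (A := A) (V := A) x
  have hxW : x ∈ W := Groth.Agent.Lib.helper15.ComodFin.mem_RCV (k := K) (A := A) (V := A) x
  letI : HopfRep.Comod K A W := Groth.Agent.Lib.helper15.ComodOps.subComod W hWsub
  have hfin : Module.Finite K W :=
    Module.Finite.iff_fg.mpr (Groth.Agent.Lib.helper15.ComodFin.RCV_fg (k := K) (A := A) (V := A) x)
  have hnil := Groth.Agent.Lib.helper15.ComodOps.isNilpotent_TV_sub_one hU g.ofConv _ W rfl
  have hpow : (Groth.Agent.Lib.helper15.ComodOps.TV g.ofConv : Module.End K W) ^ (orderOf g) = 1 := by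
    rw [← Groth.Agent.Lib.helper15.ComodOps.TV_pow, pow_orderOf_eq_one,
      Groth.Agent.Lib.helper15.ComodOps.TV_one]
  have hT1 := Groth.Agent.Lib.helper15.ComodOps.eq_one_of_nilpotent_sub_one_of_pow_eq_one
    (k := K) (E := Module.End K W)
    (Groth.Agent.Lib.helper15.ComodOps.TV g.ofConv : Module.End K W) hnil
    (orderOf g) hpow hcop
  have h1 : (Groth.Agent.Lib.helper15.ComodOps.TV g.ofConv : Module.End K W) ⟨x, hxW⟩ = ⟨x, hxW⟩ := by
    rw [hT1]; rfl
  have h2 := congr(W.subtype $h1)
  rw [Groth.Agent.Lib.helper15.ComodOps.TV_apply,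
    ← Groth.Agent.Lib.helper15.ComodOps.slV_rTensor] at h2
  have h3 : W.subtype.rTensor A (HopfRep.Comod.coact (k := K) (A := A) (V := W) ⟨x, hxW⟩) =
      Coalgebra.comul (R := K) x :=
    Groth.Agent.Lib.helper15.ComodOps.subtype_subCoact W hWsub ⟨x, hxW⟩
  rw [h3] at h2
  simp only [Submodule.subtype_apply] at h2
  -- apply the counit
  have h4 : ∀ t : TensorProduct K A A,
      Coalgebra.counit (R := K) (Groth.Agent.Lib.helper15.ComodFin.slV g.ofConv.toLinearMap t) =
        g.ofConv (Groth.Agent.Lib.helper15.HopfSub.slL (Coalgebra.counit (R := K)) t) := by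
    intro t
    induction t with
    | zero => simp
    | tmul a b => simp [mul_comm]
    | add x y hx hy => simp only [map_add, hx, hy]
  have h5 := h4 (Coalgebra.comul (R := K) x)
  rw [h2, Groth.Agent.Lib.helper15.MatCoef.slL_counit_comul] at h5
  exact h5.symm

end Groth.Agent.S15177
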