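import Groth.Statements.S15179
import Mathlib
import Groth.Agent.Lib.Helper6.LaurentAut

set_option autoImplicit false
universe u
attribute [local instance] MvPolynomial.gradedAlgebra
open BddFin

namespace Groth.Agent.S15179


open scoped LaurentPolynomial
open Groth.Agent.Lib.helper6.LaurentAut

section Binary

variable {K : Type u} [Field K]

theorem binary_decomp (f : MvPolynomial (Fin 2) K) (d : ℕ) (hf : f.IsHomogeneous d) :
    f = ∑ i ∈ Finset.range (d + 1),
      MvPolynomial.C (f.coeff (Finsupp.single 0 i + Finsupp.single 1 (d - i))) *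
        MvPolynomial.X 0 ^ i * MvPolynomial.X 1 ^ (d - i) := by
  have hmono : ∀ (i k : ℕ) (c : K),
      MvPolynomial.C c * MvPolynomial.X (0 : Fin 2) ^ i * MvPolynomial.X 1 ^ k =
      MvPolynomial.monomial (Finsupp.single 0 i + Finsupp.single 1 k) c := by
    intro i k c
    rw [MvPolynomial.X_pow_eq_monomial, MvPolynomial.X_pow_eq_monomial,
      MvPolynomial.C_mul_monomial, MvPolynomial.monomial_mul, mul_one, mul_one]
  ext m
  rw [MvPolynomial.coeff_sum]
  simp only [hmono, MvPolynomial.coeff_monomial]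
  have hm : m = Finsupp.single 0 (m 0) + Finsupp.single 1 (m 1) := by
    ext j; fin_cases j <;> simp
  by_cases hdeg : m 0 + m 1 = d
  · rw [Finset.sum_eq_single (m 0)]
    · have h1 : Finsupp.single 0 (m 0) + Finsupp.single 1 (d - m 0) = m := by
        rw [show d - m 0 = m 1 by omega]; exact hm.symm
      rw [if_pos h1, h1]
    · intro i _ hi
      rw [if_neg]
      intro h
      apply hi
      have e0 := congrArg (fun s => s 0) h
      simpa using e0
    · intro h
      exfalso; apply h; rw [Finset.mem_range]; omega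
  · have h0 : f.coeff m = 0 := by
      apply hf.coeff_eq_zero
      rw [Finsupp.degree_eq_sum, Fin.sum_univ_two]
      exact hdeg
    rw [h0]
    symm
    apply Finset.sum_eq_zero
    intro i hi
    rw [if_neg]
    intro h
    apply hdeg
    have e0 := congrArg (fun s => s 0) h
    have e1 := congrArg (fun s => s 1) h
    simp at e0 e1
    rw [Finset.mem_range] at hi
    omega

theorem indep {R F' : Type*} [CommRing R] [IsDomain R] [CommRing F'] [IsDomain F']
    (e : R →+* F') (j : K →+* R)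
    (hj : ∀ k, e (j k) = 0 → k = 0) (Xv Yv : R) (hY : e Yv = 0) (hX : e Xv ≠ 0) (hY0 : Yv ≠ 0) :
    ∀ (d : ℕ) (c : ℕ → K), (∑ i ∈ Finset.range (d + 1), j (c i) * Xv ^ i * Yv ^ (d - i)) = 0 →
      ∀ i ≤ d, c i = 0 := by
  intro d
  induction d with
  | zero =>
    intro c h i hi
    obtain rfl : i = 0 := by omega
    rw [Finset.sum_range_one] at h
    simp only [Nat.sub_self, pow_zero, mul_one] at h
    exact hj _ (by rw [h, map_zero])
  | succ d ih =>
    intro c h i hi
    rw [Finset.sum_range_succ] at h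
    have h1 : ∑ i ∈ Finset.range (d + 1), j (c i) * Xv ^ i * Yv ^ (d + 1 - i) =
        Yv * ∑ i ∈ Finset.range (d + 1), j (c i) * Xv ^ i * Yv ^ (d - i) := by
      rw [Finset.mul_sum]
      apply Finset.sum_congr rfl
      intro i hi
      rw [Finset.mem_range] at hi
      rw [show d + 1 - i = (d - i) + 1 by omega, pow_succ]
      ring
    rw [h1, Nat.sub_self, pow_zero, mul_one] at h
    have h2 : c (d + 1) = 0 := by
      have h3 := congrArg e h
      rw [map_add, map_mul, hY, zero_mul, zero_add, map_mul, map_pow, map_zero] at h3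
      have h4 : e (j (c (d + 1))) = 0 := (mul_eq_zero.mp h3).resolve_right (pow_ne_zero _ hX)
      exact hj _ h4
    rw [h2, map_zero, zero_mul, add_zero] at h
    have h4 := (mul_eq_zero.mp h).resolve_left hY0
    rcases Nat.lt_or_ge i (d + 1) with hlt | hge
    · exact ih c h4 i (by omega)
    · have h5 : i = d + 1 := by omega
      rw [h5]; exact h2

theorem hom_binary {R : Type*} [CommRing R] (φ : MvPolynomial (Fin 2) K →+* R)
    (f : MvPolynomial (Fin 2) K) (d : ℕ) (hf : f.IsHomogeneous d) :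
    φ f = ∑ i ∈ Finset.range (d + 1),
      φ (MvPolynomial.C (f.coeff (Finsupp.single 0 i + Finsupp.single 1 (d - i)))) *
        φ (MvPolynomial.X 0) ^ i * φ (MvPolynomial.X 1) ^ (d - i) := by
  conv_lhs => rw [binary_decomp f d hf]
  simp only [map_sum, map_mul, map_pow]

theorem q_form (q : MvPolynomial (Fin 2) K) (hq : q.IsHomogeneous 2) :
    q = MvPolynomial.C (q.coeff (Finsupp.single 0 2)) * MvPolynomial.X 0 ^ 2 +
      MvPolynomial.C (q.coeff (Finsupp.single 0 1 + Finsupp.single 1 1)) *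
        MvPolynomial.X 0 * MvPolynomial.X 1 +
      MvPolynomial.C (q.coeff (Finsupp.single 1 2)) * MvPolynomial.X 1 ^ 2 := by
  have h := binary_decomp q 2 hq
  rw [Finset.sum_range_succ, Finset.sum_range_succ, Finset.sum_range_one] at h
  simp only [Nat.sub_zero, Nat.sub_self, pow_zero, pow_one, mul_one, Finsupp.single_zero, zero_add,
    add_zero, show 2 - 1 = 1 from rfl] at h
  conv_lhs => rw [h]
  ring

theorem not_isUnit_of_eval_zero (p : MvPolynomial (Fin 2) K)
    (hp : MvPolynomial.eval (0 : Fin 2 → K) p = 0) : ¬ IsUnit p := by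
  intro hu
  have := (hu.map (MvPolynomial.eval (0 : Fin 2 → K))).ne_zero
  exact this hp

theorem lead_ne_zero (q : MvPolynomial (Fin 2) K) (hq : q.IsHomogeneous 2) (hirr : Irreducible q) :
    q.coeff (Finsupp.single 0 2) ≠ 0 := by
  intro ha
  have h := q_form q hq
  rw [ha, map_zero, zero_mul, zero_add] at h
  have h2 : q = MvPolynomial.X 1 *
      (MvPolynomial.C (q.coeff (Finsupp.single 0 1 + Finsupp.single 1 1)) * MvPolynomial.X 0 +
        MvPolynomial.C (q.coeff (Finsupp.single 1 2)) * MvPolynomial.X 1) := by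
    conv_lhs => rw [h]
    ring
  rcases hirr.isUnit_or_isUnit h2 with hu | hu
  · exact not_isUnit_of_eval_zero _ (by simp) hu
  · exact not_isUnit_of_eval_zero _ (by simp) hu

theorem no_root (q : MvPolynomial (Fin 2) K) (hq : q.IsHomogeneous 2) (hirr : Irreducible q)
    (r : K) : q.coeff (Finsupp.single 0 2) * r ^ 2 +
      q.coeff (Finsupp.single 0 1 + Finsupp.single 1 1) * r + q.coeff (Finsupp.single 1 2) ≠ 0 := by
  intro hr
  have h := q_form q hq
  have hc : q.coeff (Finsupp.single 1 2) = -(q.coeff (Finsupp.single 0 2) * r ^ 2 +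
      q.coeff (Finsupp.single 0 1 + Finsupp.single 1 1) * r) := by linear_combination hr
  have h2 : q = (MvPolynomial.X 0 - MvPolynomial.C r * MvPolynomial.X 1) *
      (MvPolynomial.C (q.coeff (Finsupp.single 0 2)) * MvPolynomial.X 0 +
        MvPolynomial.C (q.coeff (Finsupp.single 0 2) * r +
          q.coeff (Finsupp.single 0 1 + Finsupp.single 1 1)) * MvPolynomial.X 1) := by
    conv_lhs => rw [h, hc]
    simp only [map_add, map_mul, map_neg, map_pow]
    ring
  rcases hirr.isUnit_or_isUnit h2 with hu | hu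
  · exact not_isUnit_of_eval_zero _ (by simp) hu
  · exact not_isUnit_of_eval_zero _ (by simp) hu

end Binary

section Psi

variable {K : Type u} [Field K] (a₀ b₀ : K)

noncomputable def jj : K →+* (QuadraticAlgebra K a₀ b₀)[T;T⁻¹] :=
  (LaurentPolynomial.C).comp (algebraMap K (QuadraticAlgebra K a₀ b₀))

theorem jj_apply (k : K) :
    jj a₀ b₀ k = LaurentPolynomial.C (algebraMap K (QuadraticAlgebra K a₀ b₀) k) := rfl

noncomputable def X0v : (QuadraticAlgebra K a₀ b₀)[T;T⁻¹] :=
  LaurentPolynomial.C QuadraticAlgebra.omega -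
    LaurentPolynomial.C (star QuadraticAlgebra.omega) * LaurentPolynomial.T 1

noncomputable def Y0v : (QuadraticAlgebra K a₀ b₀)[T;T⁻¹] := 1 - LaurentPolynomial.T 1

noncomputable def psi : MvPolynomial (Fin 2) K →+* (QuadraticAlgebra K a₀ b₀)[T;T⁻¹] :=
  MvPolynomial.eval₂Hom (jj a₀ b₀) ![X0v a₀ b₀, Y0v a₀ b₀]

theorem psi_C (k : K) : psi a₀ b₀ (MvPolynomial.C k) = jj a₀ b₀ k := by simp [psi]
theorem psi_X0 : psi a₀ b₀ (MvPolynomial.X 0) = X0v a₀ b₀ := by simp [psi]
theorem psi_X1 : psi a₀ b₀ (MvPolynomial.X 1) = Y0v a₀ b₀ := by simp [psi]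

noncomputable def jp : K →+* Polynomial (QuadraticAlgebra K a₀ b₀) :=
  Polynomial.C.comp (algebraMap K (QuadraticAlgebra K a₀ b₀))

noncomputable def X0p : Polynomial (QuadraticAlgebra K a₀ b₀) :=
  Polynomial.C QuadraticAlgebra.omega - Polynomial.C (star QuadraticAlgebra.omega) * Polynomial.X

noncomputable def Y0p : Polynomial (QuadraticAlgebra K a₀ b₀) := 1 - Polynomial.X

noncomputable def psi0 : MvPolynomial (Fin 2) K →+* Polynomial (QuadraticAlgebra K a₀ b₀) :=
  MvPolynomial.eval₂Hom (jp a₀ b₀) ![X0p a₀ b₀, Y0p a₀ b₀]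

theorem psi_eq (f : MvPolynomial (Fin 2) K) :
    psi a₀ b₀ f = Polynomial.toLaurent (psi0 a₀ b₀ f) := by
  have h : psi a₀ b₀ = (Polynomial.toLaurent).comp (psi0 a₀ b₀) := by
    apply MvPolynomial.ringHom_ext
    · intro k; simp [psi, psi0, jj, jp]
    · intro i; fin_cases i <;> simp [psi, psi0, X0v, X0p, Y0v, Y0p]
  rw [h]; rfl

theorem psi_inj [Fact (∀ r : K, r ^ 2 ≠ a₀ + b₀ * r)] (hδ : b₀ ^ 2 + 4 * a₀ ≠ 0)
    (f : MvPolynomial (Fin 2) K) (d : ℕ) (hf : f.IsHomogeneous d) (h : psi a₀ b₀ f = 0) :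
    f = 0 := by
  have h0 : psi0 a₀ b₀ f = 0 := by
    apply Polynomial.toLaurent_injective
    rw [← psi_eq, h, map_zero]
  rw [hom_binary (psi0 a₀ b₀) f d hf] at h0
  have hC : ∀ k, psi0 a₀ b₀ (MvPolynomial.C k) = jp a₀ b₀ k := fun k => by simp [psi0]
  have hX0 : psi0 a₀ b₀ (MvPolynomial.X 0) = X0p a₀ b₀ := by simp [psi0]
  have hX1 : psi0 a₀ b₀ (MvPolynomial.X 1) = Y0p a₀ b₀ := by simp [psi0]
  simp only [hC, hX0, hX1] at h0
  have hcs := indep (Polynomial.evalRingHom (1 : QuadraticAlgebra K a₀ b₀)) (jp a₀ b₀) ?_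
    (X0p a₀ b₀) (Y0p a₀ b₀) ?_ ?_ ?_ d
    (fun i => f.coeff (Finsupp.single 0 i + Finsupp.single 1 (d - i))) h0
  · rw [binary_decomp f d hf]
    apply Finset.sum_eq_zero
    intro i hi
    rw [hcs i (by rw [Finset.mem_range] at hi; omega), map_zero, zero_mul, zero_mul]
  · intro k hk
    simpa [jp] using hk
  · simp [Y0p]
  · simp only [X0p, Polynomial.coe_evalRingHom, Polynomial.eval_sub, Polynomial.eval_C,
      Polynomial.eval_mul, Polynomial.eval_X, mul_one]
    exact omega_sub_star_ne hδ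
  · intro h1
    have := congrArg (Polynomial.eval 0) h1
    simp [Y0p] at this

theorem C_omega_sq :
    (LaurentPolynomial.C (QuadraticAlgebra.omega : QuadraticAlgebra K a₀ b₀)) ^ 2 =
      jj a₀ b₀ a₀ + jj a₀ b₀ b₀ * LaurentPolynomial.C QuadraticAlgebra.omega := by
  rw [pow_two, ← map_mul, omega_sq, map_add, map_mul]
  rfl

theorem C_star_omega :
    LaurentPolynomial.C (star (QuadraticAlgebra.omega : QuadraticAlgebra K a₀ b₀)) =
      jj a₀ b₀ b₀ - LaurentPolynomial.C QuadraticAlgebra.omega := by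
  rw [star_omega, map_sub]; rfl

theorem psi_q (a b c : K) (hb : b = -(a * b₀)) (hc : c = -(a * a₀)) :
    psi a₀ b₀ (MvPolynomial.C a * MvPolynomial.X 0 ^ 2 +
      MvPolynomial.C b * MvPolynomial.X 0 * MvPolynomial.X 1 +
      MvPolynomial.C c * MvPolynomial.X 1 ^ 2) =
    jj a₀ b₀ (a * (b₀ ^ 2 + 4 * a₀)) * LaurentPolynomial.T 1 := by
  simp only [map_add, map_mul, map_pow, psi_C, psi_X0, psi_X1, hb, hc, map_neg, map_ofNat]
  rw [X0v, Y0v, C_star_omega]
  have h := C_omega_sq a₀ b₀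
  linear_combination (jj a₀ b₀ a * (1 + LaurentPolynomial.T 1) ^ 2) * h

theorem tau_jj (k : K) : tau (jj a₀ b₀ k) = jj a₀ b₀ k := by
  rw [jj_apply, tau_C, star_algebraMap]

theorem T_neg_mul_T : (LaurentPolynomial.T (-1) : (QuadraticAlgebra K a₀ b₀)[T;T⁻¹]) *
    LaurentPolynomial.T 1 = 1 := by
  rw [← LaurentPolynomial.T_add, neg_add_cancel, LaurentPolynomial.T_zero]

theorem tau_X0v : tau (X0v a₀ b₀) = -LaurentPolynomial.T (-1) * X0v a₀ b₀ := by
  rw [X0v, map_sub, map_mul, tau_C, tau_C, star_star, tau_T]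
  linear_combination (-LaurentPolynomial.C (star (QuadraticAlgebra.omega :
    QuadraticAlgebra K a₀ b₀))) * T_neg_mul_T a₀ b₀

theorem tau_Y0v : tau (Y0v a₀ b₀) = -LaurentPolynomial.T (-1) * Y0v a₀ b₀ := by
  rw [Y0v, map_sub, map_one, tau_T]
  linear_combination (-1 : (QuadraticAlgebra K a₀ b₀)[T;T⁻¹]) * T_neg_mul_T a₀ b₀

theorem tau_psi (f : MvPolynomial (Fin 2) K) (d : ℕ) (hf : f.IsHomogeneous d) :
    tau (psi a₀ b₀ f) = (-LaurentPolynomial.T (-1)) ^ d * psi a₀ b₀ f := by
  rw [hom_binary (psi a₀ b₀) f d hf, map_sum, Finset.mul_sum]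
  apply Finset.sum_congr rfl
  intro i hi
  rw [Finset.mem_range] at hi
  rw [map_mul, map_mul, map_pow, map_pow, psi_C, psi_X0, psi_X1, tau_jj, tau_X0v, tau_Y0v,
    mul_pow, mul_pow]
  have h1 : (-LaurentPolynomial.T (-1) : (QuadraticAlgebra K a₀ b₀)[T;T⁻¹]) ^ d =
      (-LaurentPolynomial.T (-1)) ^ i * (-LaurentPolynomial.T (-1)) ^ (d - i) := by
    rw [← pow_add]; congr 1; omega
  rw [h1]; ring

end Psi

section Iota

variable {K : Type u} [Field K] (a₀ b₀ : K) (q : MvPolynomial (Fin 2) K)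

noncomputable def iota (hU : IsUnit (psi a₀ b₀ q)) :
    HomogeneousLocalization.Away (MvPolynomial.homogeneousSubmodule (Fin 2) K) q →+*
      (QuadraticAlgebra K a₀ b₀)[T;T⁻¹] :=
  (IsLocalization.Away.lift (S := Localization.Away q) q hU).comp
    (algebraMap (HomogeneousLocalization.Away (MvPolynomial.homogeneousSubmodule (Fin 2) K) q)
      (Localization.Away q))

theorem iota_apply (hU : IsUnit (psi a₀ b₀ q))
    (z : HomogeneousLocalization.Away (MvPolynomial.homogeneousSubmodule (Fin 2) K) q) :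
    iota a₀ b₀ q hU z = IsLocalization.Away.lift (S := Localization.Away q) q hU z.val := rfl

theorem iota_spec (hU : IsUnit (psi a₀ b₀ q))
    (hq : q ∈ MvPolynomial.homogeneousSubmodule (Fin 2) K 2) (n : ℕ)
    (f : MvPolynomial (Fin 2) K) (hf : f ∈ MvPolynomial.homogeneousSubmodule (Fin 2) K (n • 2)) :
    iota a₀ b₀ q hU (HomogeneousLocalization.Away.mk
      (MvPolynomial.homogeneousSubmodule (Fin 2) K) hq n f hf) * psi a₀ b₀ q ^ n =
      psi a₀ b₀ f := by
  have h1 : (HomogeneousLocalization.Away.mk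
      (MvPolynomial.homogeneousSubmodule (Fin 2) K) hq n f hf).val *
      algebraMap (MvPolynomial (Fin 2) K) (Localization.Away q) (q ^ n) =
      algebraMap (MvPolynomial (Fin 2) K) (Localization.Away q) f := by
    rw [HomogeneousLocalization.Away.val_mk, Localization.mk_eq_mk']
    exact IsLocalization.mk'_spec _ f _
  have h2 := congrArg (IsLocalization.Away.lift (S := Localization.Away q) q hU) h1
  rw [map_mul, IsLocalization.Away.lift_eq, IsLocalization.Away.lift_eq, map_pow] at h2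
  exact h2

theorem iota_smul (hU : IsUnit (psi a₀ b₀ q)) (k : K)
    (z : HomogeneousLocalization.Away (MvPolynomial.homogeneousSubmodule (Fin 2) K) q) :
    iota a₀ b₀ q hU (k • z) = jj a₀ b₀ k * iota a₀ b₀ q hU z := by
  rw [iota_apply, iota_apply, HomogeneousLocalization.val_smul]
  have h1 : k • z.val = algebraMap (MvPolynomial (Fin 2) K) (Localization.Away q)
      (MvPolynomial.C k) * z.val := by
    rw [Algebra.smul_def,
      IsScalarTower.algebraMap_apply K (MvPolynomial (Fin 2) K) (Localization.Away q),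
      MvPolynomial.algebraMap_eq]
  rw [h1, map_mul, IsLocalization.Away.lift_eq, psi_C]

variable [Fact (∀ r : K, r ^ 2 ≠ a₀ + b₀ * r)]

theorem iota_injective (hδ : b₀ ^ 2 + 4 * a₀ ≠ 0) (hU : IsUnit (psi a₀ b₀ q))
    (hq : q ∈ MvPolynomial.homogeneousSubmodule (Fin 2) K 2) :
    Function.Injective (iota a₀ b₀ q hU) := by
  rw [injective_iff_map_eq_zero]
  intro z hz
  obtain ⟨n, f, hf, rfl⟩ := HomogeneousLocalization.Away.mk_surjective
    (MvPolynomial.homogeneousSubmodule (Fin 2) K) hq z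
  have h1 := iota_spec a₀ b₀ q hU hq n f hf
  rw [hz, zero_mul] at h1
  have hf0 : f = 0 := psi_inj a₀ b₀ hδ f (n • 2)
    ((MvPolynomial.mem_homogeneousSubmodule _ _).mp hf) h1.symm
  subst hf0
  apply HomogeneousLocalization.val_injective
  rw [HomogeneousLocalization.Away.val_mk, HomogeneousLocalization.val_zero, Localization.mk_zero]

theorem iota_tau (hU : IsUnit (psi a₀ b₀ q))
    (hq : q ∈ MvPolynomial.homogeneousSubmodule (Fin 2) K 2) (d : K)
    (hUeq : psi a₀ b₀ q = jj a₀ b₀ d * LaurentPolynomial.T 1)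
    (z : HomogeneousLocalization.Away (MvPolynomial.homogeneousSubmodule (Fin 2) K) q) :
    tau (iota a₀ b₀ q hU z) = iota a₀ b₀ q hU z := by
  obtain ⟨n, f, hf, rfl⟩ := HomogeneousLocalization.Away.mk_surjective
    (MvPolynomial.homogeneousSubmodule (Fin 2) K) hq z
  have h1 := iota_spec a₀ b₀ q hU hq n f hf
  have hhom : f.IsHomogeneous (n • 2) := (MvPolynomial.mem_homogeneousSubmodule _ _).mp hf
  have h2 := congrArg tau h1
  rw [map_mul, map_pow, tau_psi a₀ b₀ f (n • 2) hhom, ← h1] at h2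
  have htU : tau (psi a₀ b₀ q) = psi a₀ b₀ q * LaurentPolynomial.T (-2) := by
    rw [hUeq, map_mul, tau_jj, tau_T, mul_assoc, ← LaurentPolynomial.T_add]
    norm_num
  have hs : (-LaurentPolynomial.T (-1) : (QuadraticAlgebra K a₀ b₀)[T;T⁻¹]) ^ (n • 2) =
      (LaurentPolynomial.T (-2)) ^ n := by
    rw [smul_eq_mul, mul_comm, pow_mul, neg_sq, pow_two, ← LaurentPolynomial.T_add]
    norm_num
  have hV : IsUnit (psi a₀ b₀ q ^ n *
      (LaurentPolynomial.T (-2) : (QuadraticAlgebra K a₀ b₀)[T;T⁻¹]) ^ n) :=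
    (hU.pow n).mul ((LaurentPolynomial.isUnit_T _).pow n)
  apply hV.mul_left_inj.mp
  rw [htU, hs, mul_pow] at h2
  linear_combination h2

theorem exists_w (hU : IsUnit (psi a₀ b₀ q))
    (hq : q ∈ MvPolynomial.homogeneousSubmodule (Fin 2) K 2) (a : K)
    (hUeq : psi a₀ b₀ q = jj a₀ b₀ (a * (b₀ ^ 2 + 4 * a₀)) * LaurentPolynomial.T 1) :
    ∃ w₁ w₂ : HomogeneousLocalization.Away (MvPolynomial.homogeneousSubmodule (Fin 2) K) q,
      iota a₀ b₀ q hU w₁ + LaurentPolynomial.C QuadraticAlgebra.omega * iota a₀ b₀ q hU w₂ =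
        LaurentPolynomial.T 1 := by
  have m0 : (MvPolynomial.X 0 ^ 2 : MvPolynomial (Fin 2) K) ∈
      MvPolynomial.homogeneousSubmodule (Fin 2) K (1 • 2) :=
    (MvPolynomial.mem_homogeneousSubmodule _ _).mpr (MvPolynomial.isHomogeneous_X_pow 0 2)
  have m1 : (MvPolynomial.X 0 * MvPolynomial.X 1 : MvPolynomial (Fin 2) K) ∈
      MvPolynomial.homogeneousSubmodule (Fin 2) K (1 • 2) :=
    (MvPolynomial.mem_homogeneousSubmodule _ _).mpr
      ((MvPolynomial.isHomogeneous_X K 0).mul (MvPolynomial.isHomogeneous_X K 1))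
  have m2 : (MvPolynomial.X 1 ^ 2 : MvPolynomial (Fin 2) K) ∈
      MvPolynomial.homogeneousSubmodule (Fin 2) K (1 • 2) :=
    (MvPolynomial.mem_homogeneousSubmodule _ _).mpr (MvPolynomial.isHomogeneous_X_pow 1 2)
  have hu := iota_spec a₀ b₀ q hU hq 1 _ m0
  have hv := iota_spec a₀ b₀ q hU hq 1 _ m1
  have hw := iota_spec a₀ b₀ q hU hq 1 _ m2
  rw [pow_one, map_pow, psi_X0] at hu
  rw [pow_one, map_mul, psi_X0, psi_X1] at hv
  rw [pow_one, map_pow, psi_X1] at hw
  rw [X0v, C_star_omega] at hu hv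
  rw [Y0v] at hv hw
  have hΘ := C_omega_sq a₀ b₀
  simp only [map_mul, map_add, map_pow, map_ofNat] at hUeq
  refine ⟨a • HomogeneousLocalization.Away.mk _ hq 1 _ m0 +
      (a * a₀) • HomogeneousLocalization.Away.mk _ hq 1 _ m2,
    (-2 * a) • HomogeneousLocalization.Away.mk _ hq 1 _ m1 +
      (a * b₀) • HomogeneousLocalization.Away.mk _ hq 1 _ m2, ?_⟩
  apply hU.mul_left_inj.mp
  rw [map_add, map_add, iota_smul, iota_smul, iota_smul, iota_smul]
  simp only [map_mul, map_neg, map_ofNat]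
  linear_combination (jj a₀ b₀ a) * hu +
    (jj a₀ b₀ a * jj a₀ b₀ a₀ + jj a₀ b₀ a * jj a₀ b₀ b₀ *
      LaurentPolynomial.C QuadraticAlgebra.omega) * hw -
    (2 * jj a₀ b₀ a * LaurentPolynomial.C QuadraticAlgebra.omega) * hv -
    LaurentPolynomial.T 1 * hUeq +
    (jj a₀ b₀ a * (4 * LaurentPolynomial.T 1 ^ 2 - (1 - LaurentPolynomial.T 1) ^ 2)) * hΘ

end Iota

theorem main (K : Type u) [Field K]
    (hK : ∀ n : ℕ, 0 < n → (Polynomial.X ^ n - 1 : Polynomial K).Splits)
    (q : MvPolynomial (Fin 2) K) (hq : q.IsHomogeneous 2) (hirr : Irreducible q)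
    (hdisc : (q.coeff (Finsupp.single 0 1 + Finsupp.single 1 1)) ^ 2 -
      4 * q.coeff (Finsupp.single 0 2) * q.coeff (Finsupp.single 1 2) ≠ 0)
    (G : Subgroup (HomogeneousLocalization.Away (MvPolynomial.homogeneousSubmodule (Fin 2) K) q ≃+*
      HomogeneousLocalization.Away (MvPolynomial.homogeneousSubmodule (Fin 2) K) q)) [Finite G]
    (hG : ∀ g ∈ G, ∀ (k : K)
      (z : HomogeneousLocalization.Away (MvPolynomial.homogeneousSubmodule (Fin 2) K) q),
      g (k • z) = k • g z) :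
    (∀ g ∈ G, g ^ 2 = 1) ∧ Nat.card G ≤ 4 := by
  have hform := q_form q hq
  have ha := lead_ne_zero q hq hirr
  have hroot := no_root q hq hirr
  obtain ⟨a, ha_def⟩ : ∃ a : K, a = q.coeff (Finsupp.single 0 2) := ⟨_, rfl⟩
  obtain ⟨b, hb_def⟩ : ∃ b : K, b = q.coeff (Finsupp.single 0 1 + Finsupp.single 1 1) :=
    ⟨_, rfl⟩
  obtain ⟨c, hc_def⟩ : ∃ c : K, c = q.coeff (Finsupp.single 1 2) := ⟨_, rfl⟩
  rw [← ha_def, ← hb_def, ← hc_def] at hform
  rw [← ha_def] at ha
  rw [← ha_def, ← hb_def, ← hc_def] at hroot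
  rw [← ha_def, ← hb_def, ← hc_def] at hdisc
  obtain ⟨a₀, ha₀⟩ : ∃ a₀ : K, a₀ = -c / a := ⟨_, rfl⟩
  obtain ⟨b₀, hb₀⟩ : ∃ b₀ : K, b₀ = -b / a := ⟨_, rfl⟩
  have hb : b = -(a * b₀) := by rw [hb₀]; field_simp
  have hc : c = -(a * a₀) := by rw [ha₀]; field_simp
  have : Fact (∀ r : K, r ^ 2 ≠ a₀ + b₀ * r) := ⟨fun r hr => hroot r (by
    rw [hb, hc]; linear_combination a * hr)⟩
  have hδ : b₀ ^ 2 + 4 * a₀ ≠ 0 := by
    have h1 : b₀ ^ 2 + 4 * a₀ = (b ^ 2 - 4 * a * c) / a ^ 2 := by
      rw [hb₀, ha₀]; field_simp; ring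
    rw [h1]; exact div_ne_zero hdisc (pow_ne_zero 2 ha)
  have hqm : q ∈ MvPolynomial.homogeneousSubmodule (Fin 2) K 2 :=
    (MvPolynomial.mem_homogeneousSubmodule 2 q).mpr hq
  have hUeq : psi a₀ b₀ q = jj a₀ b₀ (a * (b₀ ^ 2 + 4 * a₀)) * LaurentPolynomial.T 1 := by
    conv_lhs => rw [hform]
    exact psi_q a₀ b₀ a b c hb hc
  have hU : IsUnit (psi a₀ b₀ q) := by
    rw [hUeq]
    refine IsUnit.mul ?_ (LaurentPolynomial.isUnit_T 1)
    rw [jj_apply]
    apply IsUnit.map
    rw [isUnit_iff_ne_zero]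
    intro h0
    have h1 := congrArg QuadraticAlgebra.re h0
    simp only [QuadraticAlgebra.algebraMap_re, QuadraticAlgebra.re_zero] at h1
    exact mul_ne_zero ha hδ h1
  obtain ⟨w₁, w₂, hw⟩ := exists_w a₀ b₀ q hU hqm a hUeq
  let S : Setup K a₀ b₀
      (HomogeneousLocalization.Away (MvPolynomial.homogeneousSubmodule (Fin 2) K) q) :=
    { ι := iota a₀ b₀ q hU
      κ := fun k => k • 1
      ι_inj := iota_injective a₀ b₀ q hδ hU hqm
      ι_κ := fun k => by rw [iota_smul, map_one, mul_one]; rfl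
      τ_ι := iota_tau a₀ b₀ q hU hqm _ hUeq
      w₁ := w₁
      w₂ := w₂
      hT := hw
      hδ := hδ }
  have hGS : G ≤ FixG S := by
    intro g hg k
    show g (k • 1) = k • 1
    rw [hG g hg, map_one]
  exact main_abstract S hK G hGS


/-- Let K be a field such that K contains all roots of unity (for every n ≥ 1 the polynomial X^n − 1
splits into linear factors over K). Let q be an irreducible binary quadratic form over K with
non-zero discriminant, so that its zero locus in the projective line over K is a single closed point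
with separable quadratic residue field over K (a pair of distinct conjugate geometric points), and
let U be the complement of that point: the affine curve whose coordinate ring is the ring of
degree-0 fractions f / q ^ k (f a binary form of degree 2k). Then for every finite group G of
K-automorphisms of U (K-linear ring automorphisms of its coordinate ring), every g ∈ G satisfies g ^
2 = 1 and G has at most 4 elements. -/
theorem result
    (K : Type u) [Field K] (hK : ∀ n : ℕ, 0 < n → (Polynomial.X ^ n - 1 : Polynomial K).Splits)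
    (q : MvPolynomial (Fin 2) K) (hq : q.IsHomogeneous 2) (hirr : Irreducible q)
    (hdisc : (q.coeff (Finsupp.single 0 1 + Finsupp.single 1 1)) ^ 2 -
      4 * q.coeff (Finsupp.single 0 2) * q.coeff (Finsupp.single 1 2) ≠ 0)
    (G : Subgroup (HomogeneousLocalization.Away (MvPolynomial.homogeneousSubmodule (Fin 2) K) q ≃+* HomogeneousLocalization.Away (MvPolynomial.homogeneousSubmodule (Fin 2) K) q)) [Finite G]
    (hG : ∀ g ∈ G, ∀ (k : K) (z : HomogeneousLocalization.Away (MvPolynomial.homogeneousSubmodule (Fin 2) K) q), g (k • z) = k • g z) :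
    (∀ g ∈ G, g ^ 2 = 1) ∧ Nat.card G ≤ 4 := by
  exact main K hK q hq hirr hdisc G hG


end Groth.Agent.S15179
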