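import Groth.Statements.S15183
import Groth.Agent.Lib.Helper23.RootsOfUnity

set_option autoImplicit false
universe u v
open Polynomial
open BddFin

namespace Groth.Agent.S15183

/-- A simple artinian ring which is not a division ring has a nontrivial idempotent. -/
lemma exists_idempotent {A : Type v} [Ring A] [IsSimpleRing A] [IsArtinianRing A]
    (y : A) (hy0 : y ≠ 0) (hyu : ¬ IsUnit y) : ∃ e : A, e * e = e ∧ e ≠ 0 ∧ e ≠ 1 := by
  -- the left ideal generated by `y`
  let I : Submodule A A := Submodule.span A {y}
  have hI0 : I ≠ ⊥ := by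
    intro h
    have : y ∈ I := Submodule.subset_span (Set.mem_singleton y)
    rw [h, Submodule.mem_bot] at this
    exact hy0 this
  have hI1 : I ≠ ⊤ := by
    intro h
    have : (1 : A) ∈ I := by rw [h]; trivial
    obtain ⟨z, hz⟩ := Submodule.mem_span_singleton.mp this
    -- z * y = 1
    have hz' : z * y = 1 := by simpa using hz
    exact hyu (IsUnit.of_mul_eq_one z (mul_eq_one_comm.mp hz'))
  obtain ⟨J, hJ⟩ := exists_isCompl I
  have h1 : (1 : A) ∈ I ⊔ J := by rw [hJ.sup_eq_top]; trivial
  obtain ⟨e, he, f, hf, hef⟩ := Submodule.mem_sup.mp h1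
  have hee : e * e = e := by
    -- e = e * 1 = e * e + e * f, with e*f ∈ I ∩ J
    have h2 : e * f ∈ J := J.smul_mem e hf
    have h3 : e * f = e - e * e := by
      have : e * (e + f) = e := by rw [hef, mul_one]
      rw [mul_add] at this
      exact eq_sub_of_add_eq' this
    have h4 : e * f ∈ I := by
      rw [h3]
      exact I.sub_mem he (I.smul_mem e he)
    have h5 : e * f ∈ I ⊓ J := ⟨h4, h2⟩
    rw [hJ.inf_eq_bot, Submodule.mem_bot] at h5
    rw [h5] at h3
    exact (sub_eq_zero.mp h3.symm).symm
  refine ⟨e, hee, ?_, ?_⟩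
  · rintro rfl
    rw [zero_add] at hef
    subst hef
    -- J = ⊤, so I = ⊥
    have hJtop : J = ⊤ := by
      rw [Submodule.eq_top_iff']
      intro a
      have := J.smul_mem a hf
      simpa using this
    apply hI0
    have := hJ.inf_eq_bot
    rwa [hJtop, inf_top_eq] at this
  · rintro rfl
    apply hI1
    rw [Submodule.eq_top_iff']
    intro a
    have := I.smul_mem a he
    simpa using this

theorem main
    (K : Type u) [Field K] (hK : ∀ n : ℕ, 0 < n → (X ^ n - 1 : K[X]).Splits)
    (A : Type v) [Ring A] [Algebra K A] [IsSimpleRing A] [FiniteDimensional K A]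
    (hA : ∃ y : A, y ≠ 0 ∧ ¬ IsUnit y) (d : ℕ) (hd : 0 < d) (hdK : (d : K) ≠ 0) :
    ∃ x : A, IsUnit x ∧ x ^ d ∈ (algebraMap K A).range ∧
      ∀ k : ℕ, 0 < k → k < d → x ^ k ∉ (algebraMap K A).range := by
  have : IsArtinianRing A := IsArtinianRing.of_finite K A
  obtain ⟨y, hy0, hyu⟩ := hA
  obtain ⟨e, hee, he0, he1⟩ := exists_idempotent y hy0 hyu
  obtain ⟨ζ, hζ⟩ := Groth.Agent.Lib.helper23.exists_isPrimitiveRoot_of_splits d hd hdK (hK d hd)
  have hinj : Function.Injective (algebraMap K A) := (algebraMap K A).injective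
  set a : A := algebraMap K A ζ with ha
  have hae : a * e = e * a := Algebra.commutes ζ e
  have he1e : e * (1 - e) = 0 := by rw [mul_sub, mul_one, hee, sub_self]
  have h1ee : (1 - e) * e = 0 := by rw [sub_mul, one_mul, hee, sub_self]
  have h1e1e : (1 - e) * (1 - e) = 1 - e := by
    rw [sub_mul, one_mul, mul_sub, mul_one, hee, sub_self, sub_zero]
  have hpow : ∀ k : ℕ, (a * e + (1 - e)) ^ k = a ^ k * e + (1 - e) := by
    intro k
    induction k with
    | zero => simp
    | succ k ih =>
      have hcomm : e * a = a * e := hae.symm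
      rw [pow_succ, ih, pow_succ]
      calc (a ^ k * e + (1 - e)) * (a * e + (1 - e))
          = a ^ k * (e * a) * e + a ^ k * (e * (1 - e)) + ((1 - e) * a) * e + (1 - e) * (1 - e) := by
            noncomm_ring
        _ = a ^ k * a * e + (1 - e) := by
            have h2 : (1 - e) * a = a * (1 - e) := by
              rw [sub_mul, mul_sub, one_mul, mul_one, hcomm]
            rw [hcomm, he1e, h2, mul_assoc a, h1ee, h1e1e, mul_assoc (a ^ k) (a * e) e, mul_assoc a e e, hee]
            simp [mul_assoc]
  refine ⟨a * e + (1 - e), ?_, ?_, ?_⟩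
  · have : (a * e + (1 - e)) ^ d = 1 := by
      rw [hpow d, ha, ← map_pow, hζ.pow_eq_one, map_one, one_mul]; abel
    exact IsUnit.of_pow_eq_one this hd.ne'
  · refine ⟨1, ?_⟩
    rw [hpow d, ha, ← map_pow, hζ.pow_eq_one, map_one, one_mul]; abel
  · intro k hk0 hkd hmem
    obtain ⟨c, hc⟩ := hmem
    rw [hpow k, ha, ← map_pow] at hc
    -- (ζ^k - 1) • e = c - 1
    have h3 : algebraMap K A (ζ ^ k - 1) * e = algebraMap K A (c - 1) := by
      rw [map_sub, map_sub, map_one, sub_mul, one_mul, hc]; abel
    by_cases hb : ζ ^ k - 1 = 0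
    · have : ζ ^ k = 1 := sub_eq_zero.mp hb
      have := hζ.dvd_of_pow_eq_one k this
      exact absurd (Nat.le_of_dvd hk0 this) (not_le.mpr hkd)
    · -- e is a scalar
      have h4 : e = algebraMap K A ((ζ ^ k - 1)⁻¹ * (c - 1)) := by
        rw [map_mul, ← h3, ← mul_assoc, ← map_mul, inv_mul_cancel₀ hb, map_one, one_mul]
      set c' := (ζ ^ k - 1)⁻¹ * (c - 1) with hc'
      have h5 : c' * c' = c' := by
        apply hinj
        rw [map_mul, ← h4, hee]
      have h6 : c' = 0 ∨ c' = 1 := by
        have : c' * (c' - 1) = 0 := by rw [mul_sub, h5, mul_one, sub_self]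
        rcases mul_eq_zero.mp this with h | h
        · left; exact h
        · right; exact sub_eq_zero.mp h
      rcases h6 with h | h
      · apply he0; rw [h4, h, map_zero]
      · apply he1; rw [h4, h, map_one]


/-- Let K be a field such that K contains all roots of unity (for every n ≥ 1 the polynomial X^n − 1
splits into linear factors over K), and A a finite-dimensional central simple K-algebra which is not
a division algebra (some non-zero element is not a unit). Then the quotient of the unit group of A
by that of K has elements of every finite order invertible in K: for every d ≥ 1 with d ≠ 0 in K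
there is a unit x of A with x ^ d in K and x ^ k not in K for 0 < k < d. (The published assertion is
phrased for the automorphism group of the Severi–Brauer variety of A, which is isomorphic to the
units of A modulo those of K; this row is the algebra-side statement its proof establishes.) -/
theorem result
    (K : Type u) [Field K] (hK : ∀ n : ℕ, 0 < n → (X ^ n - 1 : K[X]).Splits)
    (A : Type v) [Ring A] [Algebra K A] [Algebra.IsCentral K A] [IsSimpleRing A] [FiniteDimensional K A]
    (hA : ∃ y : A, y ≠ 0 ∧ ¬ IsUnit y) (d : ℕ) (hd : 0 < d) (hdK : (d : K) ≠ 0) :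
    ∃ x : A, IsUnit x ∧ x ^ d ∈ (algebraMap K A).range ∧
      ∀ k : ℕ, 0 < k → k < d → x ^ k ∉ (algebraMap K A).range := by
  exact main K hK A hA d hd hdK

end Groth.Agent.S15183
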