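import Groth.Statements.S15185
import Mathlib
import Groth.Agent.S15168
-- import your own Groth.Agent.* helpers here

set_option autoImplicit false
universe u v
open Polynomial
open BddFin

namespace Groth.Agent.S15185

section helpers
open scoped TensorProduct


/-- the reduced norm of a scalar -/
theorem redNorm_algebraMap (K : Type u) [Field K] (A : Type v) [Ring A] [Algebra K A] (n : ℕ)
    (hA : Module.finrank K A = n ^ 2) (N : A →* K) (hN : CSAGal.IsRedNorm K A N) (c : K) :
    N (algebraMap K A c) = c ^ n := by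
  obtain ⟨K', _, _, _, n₁, φ, hφ⟩ := hN
  have h1 : Module.finrank K' (K' ⊗[K] A) = Module.finrank K A := Module.finrank_baseChange
  have h2 : Module.finrank K' (K' ⊗[K] A) = n₁ * n₁ := by
    rw [φ.toLinearEquiv.finrank_eq, Module.finrank_matrix]
    simp
  have hn : n₁ = n := by
    apply Nat.pow_left_injective (n := 2) (by norm_num)
    show n₁ ^ 2 = n ^ 2
    rw [sq, ← h2, h1, hA]
  subst hn
  apply (algebraMap K K').injective
  rw [hφ, map_pow]
  have h3 : (1 : K') ⊗ₜ[K] (algebraMap K A c) = algebraMap K' (K' ⊗[K] A) (algebraMap K K' c) := by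
    rw [Algebra.TensorProduct.algebraMap_apply]
    calc (1 : K') ⊗ₜ[K] (algebraMap K A c) = (1 : K') ⊗ₜ[K] (c • (1 : A)) := by
          rw [Algebra.algebraMap_eq_smul_one]
      _ = (c • (1 : K')) ⊗ₜ[K] (1 : A) := by
          rw [TensorProduct.tmul_smul, TensorProduct.smul_tmul']
      _ = (algebraMap K K' c) ⊗ₜ[K] (1 : A) := by
          rw [Algebra.algebraMap_eq_smul_one]
  rw [h3, AlgEquiv.commutes, Matrix.algebraMap_eq_diagonal, Matrix.det_diagonal]
  simp

/-- injectivity of the iterated Frobenius -/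
theorem eq_of_pow_char_pow_eq (K : Type u) [Field K] (p : ℕ) [Fact p.Prime] [CharP K p] (m : ℕ)
    (a b : K) (h : a ^ p ^ m = b ^ p ^ m) : a = b := by
  have h1 : (a - b) ^ p ^ m = 0 := by rw [sub_pow_char_pow, h, sub_self]
  exact sub_eq_zero.mp (pow_eq_zero_iff (pow_ne_zero _ (Fact.out : p.Prime).ne_zero) |>.mp h1)

theorem zpow_natpow_comm (K : Type u) [Field K] (a : K) (p : ℕ) (A : ℤ) :
    (a ^ p) ^ A = (a ^ A) ^ p := by
  rw [← zpow_natCast, ← zpow_mul, mul_comm, zpow_mul, zpow_natCast]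

/-- extracting a `p`-th root from a prime-to-`p` power -/
theorem exists_pow_eq_of_coprime (K : Type u) [Field K] (p n' : ℕ) (hcop : Nat.Coprime n' p)
    (c d : K) (hc : c ≠ 0) (h : c ^ n' = d ^ p) : ∃ e : K, c = e ^ p := by
  have hb := Nat.gcd_eq_gcd_ab n' p
  rw [hcop] at hb
  refine ⟨d ^ (Nat.gcdA n' p) * c ^ (Nat.gcdB n' p), ?_⟩
  calc c = c ^ ((n' : ℤ) * Nat.gcdA n' p + (p : ℤ) * Nat.gcdB n' p) := by
        rw [← hb]; simp
    _ = (c ^ n') ^ (Nat.gcdA n' p) * (c ^ p) ^ (Nat.gcdB n' p) := by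
        rw [zpow_add₀ hc, zpow_mul, zpow_mul, zpow_natCast, zpow_natCast]
    _ = (d ^ (Nat.gcdA n' p) * c ^ (Nat.gcdB n' p)) ^ p := by
        rw [h, zpow_natpow_comm, zpow_natpow_comm, mul_pow]


end helpers

/-- Let K be a field of characteristic p > 0 such that K contains all roots of unity (for every n ≥ 1
the polynomial X^n − 1 splits into linear factors over K), A a central division algebra of dimension
n ^ 2 over K, and write n = n' · p ^ m with n' prime to p; let N be the reduced norm of A. Consider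
the kernel of the homomorphism from the units of A modulo those of K to Kˣ/(Kˣ)^(p^m) induced by N.
Every element of finite order of that kernel has order dividing n': if x ≠ 0 in A has x ^ r in K for
some r ≥ 1 and N x is a (p ^ m)-th power of a non-zero element of K, then x ^ n' lies in K. -/
theorem result
    (K : Type u) [Field K] (p : ℕ) [Fact p.Prime] [CharP K p] (hK : ∀ n : ℕ, 0 < n → (X ^ n - 1 : K[X]).Splits)
    (A : Type v) [DivisionRing A] [Algebra K A] [Algebra.IsCentral K A] [FiniteDimensional K A]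
    (n n' m : ℕ) (hA : Module.finrank K A = n ^ 2) (hn : n = n' * p ^ m) (hn' : ¬ p ∣ n')
    (N : A →* K) (hN : CSAGal.IsRedNorm K A N)
    (x : A) (hx : x ≠ 0) (hxr : ∃ r : ℕ, 0 < r ∧ x ^ r ∈ (algebraMap K A).range)
    (hNx : ∃ b : K, b ≠ 0 ∧ N x = b ^ (p ^ m)) :
    x ^ n' ∈ (algebraMap K A).range := by
  classical
  have hpp : p.Prime := Fact.out
  have hxn : x ^ n ∈ (algebraMap K A).range := Groth.Agent.S15168.result K hK A n hA x hxr
  have hn0 : 0 < n := by
    rcases Nat.eq_zero_or_pos n with h | h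
    · subst h
      have hpos : 0 < Module.finrank K A := Module.finrank_pos
      rw [hA] at hpos
      simp at hpos
    · exact h
  -- the order of `x` modulo scalars
  have hex : ∃ j : ℕ, 0 < j ∧ x ^ j ∈ (algebraMap K A).range := ⟨n, hn0, hxn⟩
  set r₀ := Nat.find hex with hr₀
  obtain ⟨hr₀pos, c, hc⟩ := Nat.find_spec hex
  have hc0 : c ≠ 0 := by
    rintro rfl
    rw [map_zero] at hc
    exact hx (pow_eq_zero_iff hr₀pos.ne' |>.mp hc.symm)
  have hord : ∀ j : ℕ, x ^ j ∈ (algebraMap K A).range → r₀ ∣ j := by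
    intro j hj
    obtain ⟨aj, haj⟩ := hj
    by_contra hndvd
    have ht : 0 < j % r₀ := Nat.pos_of_ne_zero (fun h => hndvd (Nat.dvd_of_mod_eq_zero h))
    have hlt : j % r₀ < r₀ := Nat.mod_lt _ hr₀pos
    apply Nat.find_min hex hlt
    refine ⟨ht, (c ^ (j / r₀))⁻¹ * aj, ?_⟩
    have hsplit : x ^ j = (x ^ r₀) ^ (j / r₀) * x ^ (j % r₀) := by
      rw [← pow_mul, ← pow_add, Nat.div_add_mod]
    rw [← hc, ← map_pow] at hsplit
    rw [map_mul, haj, hsplit, ← mul_assoc, ← map_mul, inv_mul_cancel₀ (pow_ne_zero _ hc0), map_one,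
      one_mul]
  have hr₀n : r₀ ∣ n := hord n hxn
  -- `p` does not divide `r₀`
  have hpr₀ : ¬ p ∣ r₀ := by
    rintro ⟨s, hs⟩
    have hs0 : 0 < s := Nat.pos_of_ne_zero (by rintro rfl; rw [mul_zero] at hs; omega)
    have hslt : s < r₀ := by
      have := hpp.two_le
      nlinarith
    have hz : x ^ s ∉ (algebraMap K A).range := fun h => Nat.find_min hex hslt ⟨hs0, h⟩
    obtain ⟨b, hb0, hb⟩ := hNx
    have hnorm : N x ^ r₀ = c ^ n := by
      rw [← map_pow, ← hc, redNorm_algebraMap K A n hA N hN c]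
    rw [hb, hn, ← pow_mul, mul_comm (p ^ m) r₀, pow_mul, pow_mul c] at hnorm
    have h1 : b ^ r₀ = c ^ n' := eq_of_pow_char_pow_eq K p m _ _ hnorm
    have h2 : c ^ n' = (b ^ s) ^ p := by rw [← h1, hs, mul_comm, pow_mul]
    have hcop : Nat.Coprime n' p := ((Nat.Prime.coprime_iff_not_dvd hpp).mpr hn').symm
    obtain ⟨e, he⟩ := exists_pow_eq_of_coprime K p n' hcop c (b ^ s) hc0 h2
    have hcharA : CharP A p := charP_of_injective_algebraMap (algebraMap K A).injective p
    have hzp : (x ^ s) ^ p = (algebraMap K A e) ^ p := by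
      rw [← pow_mul, mul_comm, ← hs, ← hc, he, map_pow]
    have hcomm : Commute (x ^ s) (algebraMap K A e) := (Algebra.commutes e (x ^ s)).symm
    have h3 : (x ^ s - algebraMap K A e) ^ p = 0 := by
      rw [sub_pow_char_of_commute (p := p) (h := hcomm), hzp, sub_self]
    have h4 : x ^ s = algebraMap K A e := sub_eq_zero.mp (pow_eq_zero_iff hpp.ne_zero |>.mp h3)
    exact hz ⟨e, h4.symm⟩
  have hr₀n' : r₀ ∣ n' := by
    rw [hn] at hr₀n
    have hcop : Nat.Coprime r₀ (p ^ m) :=
      Nat.Coprime.pow_right m ((Nat.Prime.coprime_iff_not_dvd hpp).mpr hpr₀).symm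
    exact hcop.dvd_of_dvd_mul_right hr₀n
  obtain ⟨t, ht⟩ := hr₀n'
  refine ⟨c ^ t, ?_⟩
  rw [ht, pow_mul, ← hc, map_pow]

end Groth.Agent.S15185
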