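import Groth.Statements.S1519
import Groth.Agent.Lib.Lead.CurveInv
-- import your own Groth.Agent.* helpers here

set_option autoImplicit false
set_option backward.isDefEq.respectTransparency false
universe u
open CategoryTheory CategoryTheory.Limits AlgebraicGeometry
open Variety

namespace Groth.Agent.S1519

/-- On a proper curve over a field, if an invertible module has a nonzero global section which vanishes
at some point (the section does not generate the module near that point), then the degree is
positive. -/
theorem result (k : Type u) [Field k] (X : Scheme.{u}) [X.Over (Spec (CommRingCat.of k))]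
    [IsIntegral X] [IsProper (X ↘ (Spec (CommRingCat.of k)))] (hdim : topologicalKrullDim X = 1)
    (L : X.Modules) (hL : PicF.IsInvertible L) (s : Coh.structureModule X ⟶ L) (hs : s ≠ 0)
    (x : X) (hx : x ∉ CohB1.genLocus L s) :
    0 < Curv2.deg k X L 1 := by
  have hO := Groth.Agent.Lib.helper11.InvMod.isInvertible_structureModule X
  have h := Groth.Agent.Lib.Lead.CurveInv.deg_le k X hdim.le hO hL s hs
  rw [Groth.Agent.Lib.Lead.CurveEuler.deg_structureModule k X] at h
  rcases h.lt_or_eq with h | h
  · exact h
  · exfalso
    have heq : Curv2.deg k X (Coh.structureModule X) 1 = Curv2.deg k X L 1 := by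
      rw [Groth.Agent.Lib.Lead.CurveEuler.deg_structureModule k X]; exact h
    haveI := Groth.Agent.Lib.Lead.CurveInv.isIso_of_deg_eq k X hdim.le hO hL s hs heq
    have : CohB1.genLocus L s = ⊤ := (Groth.Agent.Lib.helper11.IsoLocus.genLocus_eq_top_iff L s).mpr inferInstance
    rw [this] at hx
    exact hx trivial

end Groth.Agent.S1519
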