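import Groth.Statements.S15224
import Mathlib
-- import your own Groth.Agent.* helpers here

set_option autoImplicit false
open Finset
open W4c2rk2extmaps

namespace Groth.Agent.S15224

section helpers
open Finset

theorem inv_fact_mul (k i : ℕ) (hi : i ≤ k) :
    ((Nat.factorial i : ℚ)⁻¹) * ((Nat.factorial (k - i) : ℚ)⁻¹)
      = (Nat.choose k i : ℚ) * (Nat.factorial k : ℚ)⁻¹ := by
  have h := Nat.choose_mul_factorial_mul_factorial hi
  have h' : (Nat.choose k i : ℚ) * (Nat.factorial i : ℚ) * (Nat.factorial (k - i) : ℚ)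
      = (Nat.factorial k : ℚ) := by exact_mod_cast h
  have h1 : (Nat.factorial i : ℚ) ≠ 0 := by exact_mod_cast Nat.factorial_ne_zero i
  have h2 : (Nat.factorial (k - i) : ℚ) ≠ 0 := by exact_mod_cast Nat.factorial_ne_zero _
  have h3 : (Nat.factorial k : ℚ) ≠ 0 := by exact_mod_cast Nat.factorial_ne_zero _
  field_simp
  linarith [h']

theorem scalar_id (k : ℕ) (hk : 1 ≤ k) :
    (∑ i ∈ Finset.Ico 1 k, (-1 : ℚ) ^ (i - 1) * ((Nat.factorial i : ℚ)⁻¹)
        * ((Nat.factorial (k - i) : ℚ)⁻¹))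
      + (-1 : ℚ) ^ (k - 1) * (Nat.factorial k : ℚ)⁻¹ = (Nat.factorial k : ℚ)⁻¹ := by
  obtain ⟨n, rfl⟩ : ∃ n, k = n + 1 := ⟨k - 1, by omega⟩
  have h := Int.alternating_sum_range_choose_of_ne (n := n + 1) (by omega)
  have hq : (∑ m ∈ range (n + 1 + 1), ((-1 : ℚ) ^ m * ((n + 1).choose m : ℚ))) = 0 := by
    exact_mod_cast h
  rw [Finset.sum_range_succ, Finset.sum_range_succ'] at hq
  simp only [pow_zero, Nat.choose_zero_right, Nat.cast_one, mul_one, Nat.choose_self] at hq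
  rw [Finset.sum_Ico_eq_sum_range]
  simp only [Nat.add_sub_cancel]
  have hterm : ∀ m ∈ range n, (-1 : ℚ) ^ (1 + m - 1) * ((Nat.factorial (1 + m) : ℚ)⁻¹)
        * ((Nat.factorial (n + 1 - (1 + m)) : ℚ)⁻¹)
      = - ((-1 : ℚ) ^ (m + 1) * ((n + 1).choose (m + 1) : ℚ)) * (Nat.factorial (n + 1) : ℚ)⁻¹ := by
    intro m hm
    have hm' : m < n := Finset.mem_range.1 hm
    rw [mul_assoc, inv_fact_mul (n + 1) (1 + m) (by omega)]
    have e1 : 1 + m - 1 = m := by omega
    rw [e1, add_comm 1 m, pow_succ]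
    ring
  rw [Finset.sum_congr rfl hterm, ← Finset.sum_mul, Finset.sum_neg_distrib]
  have hsum : ∑ x ∈ range n, ((-1 : ℚ) ^ (x + 1) * ((n + 1).choose (x + 1) : ℚ))
      = - 1 - (-1) ^ (n + 1) := by linarith [hq]
  rw [hsum, pow_succ]
  ring

theorem main (R : Type*) [CommRing R] [Algebra ℚ R] (y : R)
    (c : ℕ → R) (hc : ∀ k : ℕ, c k = ((Nat.factorial k : ℚ)⁻¹) • y ^ k)
    (k : ℕ) (hk : 1 ≤ k) :
    (∑ i ∈ Finset.Ico 1 k, (-1 : R) ^ (i - 1) * c i * c (k - i)) + (-1 : R) ^ (k - 1) * c k = c k := by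
  have hterm : ∀ i ∈ Finset.Ico 1 k, (-1 : R) ^ (i - 1) * c i * c (k - i)
      = ((-1 : ℚ) ^ (i - 1) * ((Nat.factorial i : ℚ)⁻¹) * ((Nat.factorial (k - i) : ℚ)⁻¹)) • y ^ k := by
    intro i hi
    have hi' := Finset.mem_Ico.1 hi
    have hik : i + (k - i) = k := by omega
    rw [hc i, hc (k - i)]
    have hneg : (-1 : R) ^ (i - 1) = ((-1 : ℚ) ^ (i - 1)) • (1 : R) := by
      rw [Algebra.smul_def, mul_one, map_pow, map_neg, map_one]
    rw [hneg]
    rw [smul_mul_assoc, one_mul, smul_mul_smul_comm, smul_mul_assoc, ← pow_add, hik, smul_smul]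
    congr 1
    ring
  have hlast : (-1 : R) ^ (k - 1) * c k = ((-1 : ℚ) ^ (k - 1) * (Nat.factorial k : ℚ)⁻¹) • y ^ k := by
    have hneg : (-1 : R) ^ (k - 1) = ((-1 : ℚ) ^ (k - 1)) • (1 : R) := by
      rw [Algebra.smul_def, mul_one, map_pow, map_neg, map_one]
    rw [hc k, hneg, smul_mul_assoc, one_mul, smul_smul]
  rw [Finset.sum_congr rfl hterm, hlast, ← Finset.sum_smul, ← add_smul, scalar_id k hk, hc k]


end helpers

/-- In a commutative ℚ-algebra R let y be an element and put c_k = y^k / k! for every k. Then for k ≥ 2,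
Σ_{i=1}^{k-1} (-1)^(i-1) c_i c_(k-i) + (-1)^(k-1) c_k = c_k. (The published statement concerns the
Chern classes of a specific vector bundle on a Jacobian, which are of the form c_k = (4θ)^k / k!;
the printed argument establishes the identity for every sequence of this form in a commutative
ℚ-algebra, which is the form stated here.) -/
theorem result (R : Type*) [CommRing R] [Algebra ℚ R] (y : R)
    (c : ℕ → R) (hc : ∀ k : ℕ, c k = ((Nat.factorial k : ℚ)⁻¹) • y ^ k)
    (k : ℕ) (hk : 2 ≤ k) :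
    (∑ i ∈ Finset.Ico 1 k, (-1 : R) ^ (i - 1) * c i * c (k - i)) + (-1 : R) ^ (k - 1) * c k = c k := by
  exact main R y c hc k (by omega)

end Groth.Agent.S15224
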