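import Groth.Statements.S15226
import Groth.Agent.Lib.Lead.VBCurve37
-- import your own Groth.Agent.* helpers here

set_option autoImplicit false
set_option backward.isDefEq.respectTransparency false
open CategoryTheory CategoryTheory.Limits AlgebraicGeometry MonoidalCategory
open VBCurve

namespace Groth.Agent.S15226

/-- Let X be a smooth proper integral curve over ℂ of genus at least 2 which is non-hyperelliptic, K a
module isomorphic to its sheaf of differentials, and E a slope-stable finite locally free module of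
rank 2 and degree 0 or 1 which is very stable: every O_X-linear α : E → E ⊗ K with α ∘ α = 0 (as a
map E → (E ⊗ K) ⊗ K) vanishes. Let L be an invertible module occurring as a line subbundle of E of
maximal degree (a monomorphism L → E with invertible quotient exists, and every invertible module
mapping monomorphically into E has degree at most deg L). Then for every non-zero s : L → E and
every non-zero t : E → L ⊗ K the composite L → E → L ⊗ K is non-zero; in other words the pairing
Hom(L, E) × Hom(E, L ⊗ K) → Hom(L, L ⊗ K) ≅ H^0(K) vanishes on no pair of non-zero elements. -/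
theorem result
    (X : Scheme.{0}) [X.Over (Spec (CommRingCat.of ℂ))] [IsIntegral X]
    [IsProper (X ↘ Spec (CommRingCat.of ℂ))] [Smooth (X ↘ Spec (CommRingCat.of ℂ))]
    (hdim : topologicalKrullDim X = 1) (hg : 2 ≤ Curv2.genus ℂ X)
    (hnh : ∀ M : X.Modules, PicF.IsInvertible M → Curv2.deg ℂ X M 1 = 2 →
      Module.finrank ℂ (Coh.HH X M 0) ≤ 1)
    (K : X.Modules) (eK : K ≅ Omega.sheaf (X ↘ Spec (CommRingCat.of ℂ)))
    (E : X.Modules) (hE : FlatMod.IsFinLocFreeOfRank 2 E)
    (hdegE : Curv2.deg ℂ X E 2 = 0 ∨ Curv2.deg ℂ X E 2 = 1)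
    (hst : ModFun.IsSlopeStable ℂ X E 2)
    (hvs : ∀ α : E ⟶ CohB1.tensorMod E K,
        α ≫ (CohB1.sheafifyMod X).map
          (MonoidalCategoryStruct.whiskerRight (C := CohB1.PMod X) α.val (CohB1.toPMod K)) = 0 → α = 0)
    (L : X.Modules) (hL : PicF.IsInvertible L)
    (hmax : ∃ j : L ⟶ E, Mono j ∧ PicF.IsInvertible (cokernel j) ∧
      ∀ (M : X.Modules) (i : M ⟶ E), PicF.IsInvertible M → Mono i → Curv2.deg ℂ X M 1 ≤ Curv2.deg ℂ X L 1)
    (s : L ⟶ E) (hs : s ≠ 0) (t : E ⟶ CohB1.tensorMod L K) (ht : t ≠ 0) :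
    s ≫ t ≠ 0 := by
  classical
  have hP := Groth.Agent.Lib.Lead.VBCurve.pidStalks_of_smooth ℂ X hdim.le
  haveI : IsLocallyNoetherian X := Groth.Agent.Lib.Lead.VBCurve.isLocallyNoetherian_of_smooth ℂ X
  have hK : FlatMod.IsFinLocFree K :=
    Groth.Agent.Lib.Lead.VBCurve.isFinLocFree_of_iso_omega (X ↘ Spec (CommRingCat.of ℂ)) eK
  haveI hsm : Mono s :=
    Groth.Agent.Lib.Lead.VBCurve.mono_of_ne_zero_of_isInvertible' hP hL hE s hs
  haveI hsK : Mono (Groth.Agent.Lib.Lead.ModTensor.tensorMap s (𝟙 K)) :=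
    Groth.Agent.Lib.helper11.ProjFormula.mono_tensorMap_of_isFinLocFree s hK
  intro h0
  have hα := hvs (t ≫ Groth.Agent.Lib.Lead.ModTensor.tensorMap s (𝟙 K)) (by
    have h := Groth.Agent.Lib.Lead.VBCurve.sq_zero_of_comp_zero s t h0
    rw [Groth.Agent.Lib.Helper20.TensorEquiv.tensorMap_eq_whiskerRight
      (t ≫ Groth.Agent.Lib.Lead.ModTensor.tensorMap s (𝟙 K)) K] at h
    exact h)
  exact ht (by rw [← cancel_mono (Groth.Agent.Lib.Lead.ModTensor.tensorMap s (𝟙 K)), hα, zero_comp])

end Groth.Agent.S15226
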