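import Groth.Statements.S15229
import Mathlib
import Groth.Agent.S15224
-- import your own Groth.Agent.* helpers here

set_option autoImplicit false
open Finset
open W4c2rk2extmaps

namespace Groth.Agent.S15229

section helpers
open Finset

theorem main (R : Type*) [CommRing R] [Algebra ℚ R]
    (θ η : R) (g : ℕ) (c : ℕ → R) (hc : ∀ k : ℕ, c k = ((Nat.factorial k : ℚ)⁻¹) • ((4 : R) * θ) ^ k)
    (hθ : θ ^ (g + 1) = 0)
    (hrel : η ^ (g + 1) = ∑ i ∈ Finset.Ico 1 (g + 2), (-1 : R) ^ (i - 1) * c i * η ^ (g + 1 - i))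
    (k : ℕ) (hkg : k ≤ g) :
    η ^ (g + k) * θ ^ (g - k) = c k * η ^ g * θ ^ (g - k) := by
  -- c i = d i * θ ^ i
  set d : ℕ → R := fun i => ((Nat.factorial i : ℚ)⁻¹) • (4 : R) ^ i with hd
  have hcd : ∀ i, c i = d i * θ ^ i := by
    intro i
    rw [hc i, mul_pow, hd, smul_mul_assoc]
  have hc0 : c 0 = 1 := by
    rw [hc 0]; simp
  induction k using Nat.strong_induction_on with
  | _ k ih =>
    rcases Nat.eq_zero_or_pos k with rfl | hk
    · rw [hc0, one_mul, add_zero]
    · have e1 : g + k = (k - 1) + (g + 1) := by omega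
      have hsplit : η ^ (g + k) * θ ^ (g - k) = η ^ (k - 1) * θ ^ (g - k) * η ^ (g + 1) := by
        rw [e1, pow_add]; ring
      rw [hsplit, hrel, Finset.mul_sum,
        ← Finset.sum_Ico_consecutive _ (show 1 ≤ k + 1 by omega) (show k + 1 ≤ g + 2 by omega)]
      have hzero : ∑ i ∈ Finset.Ico (k + 1) (g + 2),
          η ^ (k - 1) * θ ^ (g - k) * ((-1 : R) ^ (i - 1) * c i * η ^ (g + 1 - i)) = 0 := by
        apply Finset.sum_eq_zero
        intro i hi
        have hi' := Finset.mem_Ico.1 hi
        have e2 : (g - k) + i = (g + 1) + (i - k - 1) := by omega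
        have : θ ^ (g - k) * c i = 0 := by
          rw [hcd i, mul_left_comm, ← pow_add, e2, pow_add, hθ, zero_mul, mul_zero]
        calc η ^ (k - 1) * θ ^ (g - k) * ((-1 : R) ^ (i - 1) * c i * η ^ (g + 1 - i))
            = η ^ (k - 1) * ((-1 : R) ^ (i - 1)) * η ^ (g + 1 - i) * (θ ^ (g - k) * c i) := by ring
          _ = 0 := by rw [this, mul_zero]
      have hmain : ∀ i ∈ Finset.Ico 1 (k + 1),
          η ^ (k - 1) * θ ^ (g - k) * ((-1 : R) ^ (i - 1) * c i * η ^ (g + 1 - i))
            = ((-1 : R) ^ (i - 1) * c i * c (k - i)) * (η ^ g * θ ^ (g - k)) := by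
        intro i hi
        have hi' := Finset.mem_Ico.1 hi
        have hih := ih (k - i) (by omega) (by omega)
        have e3 : (k - 1) + (g + 1 - i) = g + (k - i) := by omega
        have e4 : i + (g - k) = g - (k - i) := by omega
        calc η ^ (k - 1) * θ ^ (g - k) * ((-1 : R) ^ (i - 1) * c i * η ^ (g + 1 - i))
            = (-1 : R) ^ (i - 1) * d i * ((η ^ (k - 1) * η ^ (g + 1 - i)) * (θ ^ i * θ ^ (g - k))) := by
              rw [hcd i]; ring
          _ = (-1 : R) ^ (i - 1) * d i * (η ^ (g + (k - i)) * θ ^ (g - (k - i))) := by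
              rw [← pow_add, ← pow_add, e3, e4]
          _ = (-1 : R) ^ (i - 1) * d i * (c (k - i) * η ^ g * θ ^ (g - (k - i))) := by rw [hih]
          _ = (-1 : R) ^ (i - 1) * d i * (c (k - i) * η ^ g * (θ ^ i * θ ^ (g - k))) := by
              rw [← pow_add, e4]
          _ = ((-1 : R) ^ (i - 1) * c i * c (k - i)) * (η ^ g * θ ^ (g - k)) := by
              rw [hcd i]; ring
      rw [hzero, add_zero, Finset.sum_congr rfl hmain, ← Finset.sum_mul,
        Finset.sum_Ico_succ_top (show 1 ≤ k by omega), Nat.sub_self, hc0, mul_one,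
        Groth.Agent.S15224.main R ((4 : R) * θ) c hc k hk]
      ring


end helpers

/-- In a commutative ℚ-algebra R let θ, η be elements and g a natural number, and put c_k = (4θ)^k / k!.
Suppose θ^(g+1) = 0 and that η satisfies the relation η^(g+1) = Σ_{i=1}^{g+1} (-1)^(i-1) c_i
η^(g+1-i). Then η^(g+k) θ^(g-k) = c_k η^g θ^(g-k) for every 1 ≤ k ≤ g. (The published statement
concerns the first Chern class η of the tautological line bundle on a projective bundle P(U) over a
g-dimensional Jacobian, with c_k the Chern classes of U, which are (4θ)^k / k!; there θ^(g+1)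
vanishes for dimension reasons and the displayed relation is the projective-bundle relation, and the
printed argument derives the identity from exactly these three inputs, which is the form stated
here.) -/
theorem result (R : Type*) [CommRing R] [Algebra ℚ R]
    (θ η : R) (g : ℕ) (c : ℕ → R) (hc : ∀ k : ℕ, c k = ((Nat.factorial k : ℚ)⁻¹) • ((4 : R) * θ) ^ k)
    (hθ : θ ^ (g + 1) = 0)
    (hrel : η ^ (g + 1) = ∑ i ∈ Finset.Ico 1 (g + 2), (-1 : R) ^ (i - 1) * c i * η ^ (g + 1 - i))
    (k : ℕ) (hk1 : 1 ≤ k) (hkg : k ≤ g) :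
    η ^ (g + k) * θ ^ (g - k) = c k * η ^ g * θ ^ (g - k) := by
  exact main R θ η g c hc hθ hrel k hkg

end Groth.Agent.S15229
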