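import Groth.Statements.S1523
import Mathlib
import Groth.Agent.Lib.Helper18.CurvePt3

set_option autoImplicit false
universe u
open CategoryTheory CategoryTheory.Limits AlgebraicGeometry
open Variety

namespace Groth.Agent.S1523

open Groth.Agent.Lib.Helper18.CurvePt in

/-- On a proper curve over an algebraically closed field there is an invertible module whose H^0 is
one-dimensional and whose H^1 vanishes, and an invertible module whose H^0 and H^1 both vanish. -/
theorem result (k : Type u) [Field k] [IsAlgClosed k] (X : Scheme.{u}) [X.Over (Spec (CommRingCat.of k))]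
    [IsIntegral X] [IsProper (X ↘ (Spec (CommRingCat.of k)))] (hdim : topologicalKrullDim X = 1) :
    (∃ L : X.Modules, PicF.IsInvertible L ∧ Module.finrank k (Coh.HH X L 0) = 1 ∧ Subsingleton (Coh.HH X L 1)) ∧
    (∃ N : X.Modules, PicF.IsInvertible N ∧ Subsingleton (Coh.HH X N 0) ∧ Subsingleton (Coh.HH X N 1)) := by
  haveI := Groth.Agent.Lib.Lead.CurveEuler.isNoetherian k X
  obtain ⟨M, hM, hM1, hM0⟩ := exists_start k X hdim
  obtain ⟨L, hL, hL0, hL1⟩ := exists_finrank_H0_eq k X hdim 1 (Module.finrank k (Coh.HH X M 0) - 1) hM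
    (by omega)
  obtain ⟨N, hN, hN0, hN1⟩ := descend_step k X hdim hL (by omega)
  have hLc := Groth.Agent.Lib.Lead.CurveInv.isCoh_of_isInvertible X hL
  have hNc := Groth.Agent.Lib.Lead.CurveInv.isCoh_of_isInvertible X hN
  haveI : Module.Finite k (Coh.HH X L 1) := Groth.Agent.Lib.Lead.ProperEuler.finite_HH k X _ hLc 1
  haveI : Module.Finite k (Coh.HH X N 0) := Groth.Agent.Lib.Lead.ProperEuler.finite_HH k X _ hNc 0
  haveI : Module.Finite k (Coh.HH X N 1) := Groth.Agent.Lib.Lead.ProperEuler.finite_HH k X _ hNc 1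
  refine ⟨⟨L, hL, hL0, ?_⟩, ⟨N, hN, ?_, ?_⟩⟩
  · exact (Module.finrank_zero_iff (R := k)).mp (by omega)
  · exact (Module.finrank_zero_iff (R := k)).mp (by omega)
  · exact (Module.finrank_zero_iff (R := k)).mp (by omega)

end Groth.Agent.S1523
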