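import Groth.Statements.S15233
import Mathlib
-- import your own Groth.Agent.* helpers here

set_option autoImplicit false
universe u
open CategoryTheory CategoryTheory.Limits Opposite
open CohSite

namespace Groth.Agent.S15233

section helpers

theorem hom_eq_zero {C : Type u} [SmallCategory C] (J : GrothendieckTopology C)
    (B : ObjectProperty C)
    (hB : ∀ (V : C) (S : Sieve V), S ∈ J V →
      Sieve.generate (fun (U : C) => {g : U ⟶ V | S.arrows g ∧ B U}) ∈ J V)
    (F : Cᵒᵖ ⥤ AddCommGrpCat.{u}) (hF : ∀ U : C, B U → IsZero (F.obj (op U)))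
    (G : Sheaf J AddCommGrpCat.{u}) (φ : F ⟶ G.obj) : φ = 0 := by
  ext ⟨V⟩ : 2
  have hcov := hB V ⊤ (J.top_mem V)
  have hsep := ((G.property (F.obj (op V))) _ hcov).isSeparatedFor
  refine hsep.ext (t₁ := φ.app (op V)) (t₂ := (0 : F.obj (op V) ⟶ G.obj.obj (op V))) ?_
  rintro Y f ⟨U, h, g, ⟨-, hU⟩, rfl⟩
  change φ.app (op V) ≫ G.obj.map (h ≫ g).op = 0 ≫ G.obj.map (h ≫ g).op
  rw [zero_comp, op_comp, G.obj.map_comp, ← Category.assoc, ← φ.naturality]
  have : F.map g.op = 0 := (hF U hU).eq_of_tgt _ _
  rw [this, zero_comp, zero_comp]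

theorem main {C : Type u} [SmallCategory C] (J : GrothendieckTopology C)
    (B : ObjectProperty C)
    (hB : ∀ (V : C) (S : Sieve V), S ∈ J V →
      Sieve.generate (fun (U : C) => {g : U ⟶ V | S.arrows g ∧ B U}) ∈ J V)
    (F : Cᵒᵖ ⥤ AddCommGrpCat.{u}) (hF : ∀ U : C, B U → IsZero (F.obj (op U))) :
    IsZero ((presheafToSheaf J AddCommGrpCat.{u}).obj F) := by
  rw [IsZero.iff_id_eq_zero]
  apply ((sheafificationAdjunction J AddCommGrpCat.{u}).homEquiv F _).injective
  exact (hom_eq_zero J B hB F hF _ _).trans (hom_eq_zero J B hB F hF _ _).symm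


end helpers

/-- Let C be a small category with a Grothendieck topology J, and let B be a class of objects forming a
prebasis: for every object V and every covering sieve S of V, the arrows of S whose domain lies in B
generate a covering sieve of V. If F is a presheaf of abelian groups on C such that F(U) = 0 for
every object U in B, then the sheafification of F is zero. -/
theorem result {C : Type u} [SmallCategory C] (J : GrothendieckTopology C)
    (B : ObjectProperty C)
    (hB : ∀ (V : C) (S : Sieve V), S ∈ J V →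
      Sieve.generate (fun (U : C) => {g : U ⟶ V | S.arrows g ∧ B U}) ∈ J V)
    (F : Cᵒᵖ ⥤ AddCommGrpCat.{u}) (hF : ∀ U : C, B U → IsZero (F.obj (op U))) :
    IsZero ((presheafToSheaf J AddCommGrpCat.{u}).obj F) := by
  exact main J B hB F hF

end Groth.Agent.S15233
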