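import Groth.Statements.S15235
import Mathlib
-- import your own Groth.Agent.* helpers here

set_option autoImplicit false
universe u
open CategoryTheory Opposite
open HomAlg3

namespace Groth.Agent.S15235

section helpers

section
variable (F : ℕᵒᵖ ⥤ Type u)

/-- transition map `F_b → F_a` for `a ≤ b` -/
def T (a b : ℕ) (h : a ≤ b) : F.obj (op b) → F.obj (op a) := F.map (homOfLE h).op

theorem map_eq {a b : ℕ} (φ : (op b : ℕᵒᵖ) ⟶ op a) (x : F.obj (op b)) :
    F.map φ x = T F a b (leOfHom φ.unop) x := by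
  have : φ = (homOfLE (leOfHom φ.unop)).op := Subsingleton.elim _ _
  conv_lhs => rw [this]
  rfl

theorem T_self (a : ℕ) (x : F.obj (op a)) : T F a a le_rfl x = x := by
  have : (homOfLE (le_refl a)).op = 𝟙 (op a : ℕᵒᵖ) := Subsingleton.elim _ _
  unfold T
  rw [this, F.map_id]
  rfl

theorem T_comp (a b c : ℕ) (h : a ≤ b) (h' : b ≤ c) (x : F.obj (op c)) :
    T F a b h (T F b c h' x) = T F a c (h.trans h') x := by
  have : (homOfLE (h.trans h')).op = (homOfLE h').op ≫ (homOfLE h).op := Subsingleton.elim _ _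
  unfold T
  rw [this, F.map_comp]
  rfl

theorem T_surj (j₀ : ℕ) (hs : ∀ j, j₀ ≤ j → Function.Surjective (T F j (j + 1) (Nat.le_succ j)))
    (a : ℕ) (ha : j₀ ≤ a) : ∀ b (h : a ≤ b), Function.Surjective (T F a b h) := by
  intro b h
  induction b, h using Nat.le_induction with
  | base => intro x; exact ⟨x, T_self F a x⟩
  | succ b hab ih =>
    intro x
    obtain ⟨y, hy⟩ := ih x
    obtain ⟨z, hz⟩ := hs b (ha.trans hab) y
    exact ⟨z, by rw [← T_comp F a b (b + 1) hab (Nat.le_succ b), hz, hy]⟩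

theorem T_inj (j₀ : ℕ) (hs : ∀ j, j₀ ≤ j → Function.Injective (T F j (j + 1) (Nat.le_succ j)))
    (a : ℕ) (ha : j₀ ≤ a) : ∀ b (h : a ≤ b), Function.Injective (T F a b h) := by
  intro b h
  induction b, h using Nat.le_induction with
  | base => intro x y hxy; rwa [T_self, T_self] at hxy
  | succ b hab ih =>
    intro x y hxy
    rw [← T_comp F a b (b + 1) hab (Nat.le_succ b), ← T_comp F a b (b + 1) hab (Nat.le_succ b)] at hxy
    exact hs b (ha.trans hab) (ih hxy)

theorem ml (j₀ : ℕ) (hs : ∀ j, j₀ ≤ j → Function.Surjective (T F j (j + 1) (Nat.le_succ j))) :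
    F.IsMittagLeffler := by
  rintro ⟨n⟩
  refine ⟨op (max n j₀), (homOfLE (le_max_left n j₀)).op, ?_⟩
  rintro ⟨m⟩ g x ⟨y, rfl⟩
  have hmn : n ≤ m := leOfHom g.unop
  obtain ⟨w, hw⟩ := T_surj F j₀ hs (max n j₀) (le_max_right _ _) (max m (max n j₀))
    (le_max_right _ _) y
  refine ⟨T F m (max m (max n j₀)) (le_max_left _ _) w, ?_⟩
  rw [map_eq, T_comp, map_eq, ← hw, T_comp]

theorem sections_surj (j₀ : ℕ)
    (hs : ∀ j, j₀ ≤ j → Function.Surjective (T F j (j + 1) (Nat.le_succ j))) :
    Function.Surjective (fun s : F.sections => s.1 (op j₀)) := by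
  intro x
  -- build the lifts
  let y : ∀ m : ℕ, F.obj (op (j₀ + m)) := fun m =>
    Nat.rec (motive := fun m => F.obj (op (j₀ + m))) x
      (fun m ym => Classical.choose (hs (j₀ + m) (Nat.le_add_right _ _) ym)) m
  have hy0 : y 0 = x := rfl
  have hys : ∀ m, T F (j₀ + m) (j₀ + m + 1) (Nat.le_succ _) (y (m + 1)) = y m := fun m =>
    Classical.choose_spec (hs (j₀ + m) (Nat.le_add_right _ _) (y m))
  have hyy : ∀ m m' (h : m ≤ m'),
      T F (j₀ + m) (j₀ + m') (Nat.add_le_add_left h j₀) (y m') = y m := by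
    intro m m' h
    induction m', h using Nat.le_induction with
    | base => exact T_self F _ _
    | succ m' hmm' ih =>
      rw [← ih, ← hys m', T_comp]
      rfl
  refine ⟨⟨fun j => T F j.unop (j₀ + j.unop) (Nat.le_add_left _ _) (y j.unop), ?_⟩, ?_⟩
  · rintro ⟨b⟩ ⟨a⟩ φ
    have hab : a ≤ b := leOfHom φ.unop
    change F.map φ (T F b (j₀ + b) _ (y b)) = T F a (j₀ + a) _ (y a)
    rw [map_eq, T_comp, ← hyy a b hab, T_comp]
  · change T F j₀ (j₀ + j₀) _ (y j₀) = x
    rw [← hy0, ← hyy 0 j₀ (Nat.zero_le _)]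
    rfl

theorem sections_inj (j₀ : ℕ)
    (hi : ∀ j, j₀ ≤ j → Function.Injective (T F j (j + 1) (Nat.le_succ j))) :
    Function.Injective (fun s : F.sections => s.1 (op j₀)) := by
  intro s s' hss
  apply Subtype.ext
  funext j
  obtain ⟨n⟩ := j
  rcases le_total n j₀ with h | h
  · have h1 := s.2 (homOfLE h).op
    have h2 := s'.2 (homOfLE h).op
    rw [← h1, ← h2]
    exact congrArg _ hss
  · apply T_inj F j₀ hi j₀ le_rfl n h
    have h1 := s.2 (homOfLE h).op
    have h2 := s'.2 (homOfLE h).op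
    change F.map (homOfLE h).op (s.1 (op n)) = F.map (homOfLE h).op (s'.1 (op n))
    rw [h1, h2]
    exact hss

end

theorem main (G : ℕᵒᵖ ⥤ AddCommGrpCat.{u})
    (j₀ : ℕ) (hs : ∀ j : ℕ, j₀ ≤ j → Function.Surjective (G.map (homOfLE (Nat.le_succ j)).op).hom) :
    (G ⋙ forget AddCommGrpCat.{u}).IsMittagLeffler ∧
      Function.Surjective (fun s : (G ⋙ forget AddCommGrpCat.{u}).sections => s.1 (op j₀)) ∧
      ((∀ j : ℕ, j₀ ≤ j → Function.Injective (G.map (homOfLE (Nat.le_succ j)).op).hom) →
        Function.Bijective (fun s : (G ⋙ forget AddCommGrpCat.{u}).sections => s.1 (op j₀))) := by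
  have hs' : ∀ j, j₀ ≤ j → Function.Surjective
      (T (G ⋙ forget AddCommGrpCat.{u}) j (j + 1) (Nat.le_succ j)) := fun j hj => hs j hj
  refine ⟨ml _ j₀ hs', sections_surj _ j₀ hs', fun hi => ⟨?_, sections_surj _ j₀ hs'⟩⟩
  exact sections_inj _ j₀ (fun j hj => hi j hj)


end helpers

/-- Let (G_j) be an inverse system of abelian groups indexed by the natural numbers, with transition
maps G_{j+1} → G_j, and let j₀ be a natural number such that the transition map G_{j+1} → G_j is
surjective for every j ≥ j₀. Then: (a) the system satisfies the Mittag-Leffler condition; (b) the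
evaluation map from the inverse limit (realised as the set of compatible families) to G_{j₀} is
surjective; (c) if in addition the transition maps G_{j+1} → G_j are injective for every j ≥ j₀,
that evaluation map is bijective. (The published statement indexes the system by the negative
integers and assumes j₀ ≥ 1; this row indexes it by the natural numbers and allows j₀ = 0, which
changes nothing.) -/
theorem result (G : ℕᵒᵖ ⥤ AddCommGrpCat.{u})
    (j₀ : ℕ) (hs : ∀ j : ℕ, j₀ ≤ j → Function.Surjective (G.map (homOfLE (Nat.le_succ j)).op).hom) :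
    (G ⋙ forget AddCommGrpCat.{u}).IsMittagLeffler ∧
      Function.Surjective (fun s : (G ⋙ forget AddCommGrpCat.{u}).sections => s.1 (op j₀)) ∧
      ((∀ j : ℕ, j₀ ≤ j → Function.Injective (G.map (homOfLE (Nat.le_succ j)).op).hom) →
        Function.Bijective (fun s : (G ⋙ forget AddCommGrpCat.{u}).sections => s.1 (op j₀))) := by
  exact main G j₀ hs

end Groth.Agent.S15235
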