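import Groth.Statements.S1524
import Groth.Agent.S0002
import Groth.Agent.S0016
import Groth.Agent.Lib.Helper18.HHEuler

set_option autoImplicit false
universe u
open CategoryTheory CategoryTheory.Limits AlgebraicGeometry
open Variety

namespace Groth.Agent.S1524

/-- If three coherent modules on a proper scheme over a field form a short exact sequence, the Euler
characteristic of the middle one is the sum of those of the two outer ones. -/
theorem result (k : Type u) [Field k] (X : Scheme.{u}) [X.Over (Spec (CommRingCat.of k))] [IsProper (X ↘ (Spec (CommRingCat.of k)))]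
    (S : ShortComplex X.Modules) (hS : S.ShortExact)
    (h₁ : Coh.IsCoh S.X₁) (h₂ : Coh.IsCoh S.X₂) (h₃ : Coh.IsCoh S.X₃) :
    Curv2.euler k X S.X₂ = Curv2.euler k X S.X₁ + Curv2.euler k X S.X₃ := by
  have hc : CompactSpace X :=
    (quasiCompact_iff_compactSpace (X ↘ (Spec (CommRingCat.of k)))).mp inferInstance
  have hqs : QuasiSeparatedSpace X :=
    (quasiSeparated_iff_quasiSeparatedSpace (X ↘ (Spec (CommRingCat.of k)))).mp inferInstance
  obtain ⟨d, hd⟩ := Groth.Agent.S0016.result X
  exact Groth.Agent.Lib.Helper18.HH.euler_additive k hS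
    (fun i => Groth.Agent.S0002.result k X S.X₁ h₁ i) (fun i => Groth.Agent.S0002.result k X S.X₃ h₃ i) d
    (fun i hi => hd S.X₁ h₁.1 i hi.le) (fun i hi => hd S.X₃ h₃.1 i hi.le)

end Groth.Agent.S1524
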