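import Groth.Statements.S15245
import Mathlib

set_option autoImplicit false
universe u
open CategoryTheory AlgebraicGeometry
open RedSub

namespace Groth.Agent.S15245

section

variable {idx M N : Type} [AddCommGroup M] [AddCommGroup N] (P : RootPairing idx ℤ M N)

theorem wordPerm_cons (i : idx) (l : List idx) :
    RedSub.wordPerm P (i :: l) = P.reflectionPerm i * RedSub.wordPerm P l := by
  simp [RedSub.wordPerm]

theorem wordPerm_append (l₁ l₂ : List idx) :
    RedSub.wordPerm P (l₁ ++ l₂) = RedSub.wordPerm P l₁ * RedSub.wordPerm P l₂ := by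
  simp [RedSub.wordPerm]

theorem wordPerm_singleton (i : idx) : RedSub.wordPerm P [i] = P.reflectionPerm i := by
  simp [RedSub.wordPerm]

theorem wordPerm_inv (l : List idx) : (RedSub.wordPerm P l)⁻¹ = RedSub.wordPerm P l.reverse := by
  induction l with
  | nil => simp [RedSub.wordPerm]
  | cons i l ih =>
    rw [wordPerm_cons, mul_inv_rev, ih, P.reflectionPerm_inv, List.reverse_cons, wordPerm_append,
      wordPerm_singleton]

/-- permutations of the roots compatible with integral linear relations -/
def Lin (v : Equiv.Perm idx) : Prop :=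
  ∀ (x y z : idx) (k : ℤ), P.root x = P.root y + k • P.root z →
    P.root (v x) = P.root (v y) + k • P.root (v z)

theorem lin_word (l : List idx) : Lin P (RedSub.wordPerm P l) := by
  induction l with
  | nil =>
    intro x y z k h
    simpa [RedSub.wordPerm] using h
  | cons i l ih =>
    intro x y z k h
    have e : ∀ a, RedSub.wordPerm P (i :: l) a = P.reflectionPerm i (RedSub.wordPerm P l a) := by
      intro a; rw [wordPerm_cons]; rfl
    rw [e, e, e, P.root_reflectionPerm, P.root_reflectionPerm, P.root_reflectionPerm,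
      ih x y z k h, map_add, map_zsmul]

/-- negation on indices -/
def ng (a : idx) : idx := P.reflectionPerm a a

theorem root_ng (a : idx) : P.root (ng P a) = -P.root a := by
  simp [ng]

theorem ng_ng (a : idx) : ng P (ng P a) = a :=
  P.root.injective (by rw [root_ng, root_ng, neg_neg])

theorem ng_injective : Function.Injective (ng P) :=
  Function.LeftInverse.injective (g := ng P) (ng_ng P)

theorem Lin.ng_comm {v : Equiv.Perm idx} (hv : Lin P v) (a : idx) : v (ng P a) = ng P (v a) := by
  apply P.root.injective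
  have h : P.root (ng P a) = P.root a + (-2 : ℤ) • P.root a := by
    rw [root_ng]; module
  rw [hv _ _ _ _ h, root_ng]; module

variable (b : P.Base)

/-- the cone of nonnegative combinations of simple roots -/
abbrev Cl : AddSubmonoid M := AddSubmonoid.closure (P.root '' (b.support : Set idx))

theorem mem_pos_iff (a : idx) : a ∈ RedSub.posRoots P b ↔ P.root a ∈ Cl P b := Iff.rfl

theorem mem_neg_iff (a : idx) : a ∈ RedSub.negRoots P b ↔ -P.root a ∈ Cl P b := Iff.rfl

theorem ng_pos_iff (a : idx) : ng P a ∈ RedSub.posRoots P b ↔ a ∈ RedSub.negRoots P b := by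
  rw [mem_pos_iff, mem_neg_iff, root_ng]

theorem ng_neg_iff (a : idx) : ng P a ∈ RedSub.negRoots P b ↔ a ∈ RedSub.posRoots P b := by
  rw [mem_pos_iff, mem_neg_iff, root_ng, neg_neg]

theorem pos_or_neg (a : idx) : a ∈ RedSub.posRoots P b ∨ a ∈ RedSub.negRoots P b :=
  b.root_mem_or_neg_mem a

theorem exists_nat_comb (m : M)
    (hm : m ∈ AddSubmonoid.closure (P.root '' (b.support : Set idx))) :
    ∃ f : idx → ℕ, m = ∑ j ∈ b.support, f j • P.root j := by
  classical
  refine AddSubmonoid.closure_induction ?_ ⟨0, by simp⟩ ?_ hm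
  · rintro - ⟨j, hj, rfl⟩
    refine ⟨Pi.single j 1, ?_⟩
    rw [Finset.sum_eq_single_of_mem j (Finset.mem_coe.mp hj)
      (by intro k _ hk; simp [hk])]
    simp
  · rintro x y - - ⟨f, rfl⟩ ⟨g, rfl⟩
    exact ⟨f + g, by simp [add_smul, Finset.sum_add_distrib]⟩

theorem height_pos_of_pos {a : idx} (h : a ∈ RedSub.posRoots P b) : 0 < b.height a := by
  obtain ⟨f, hf⟩ := exists_nat_comb P b _ h
  have hf' : P.root a = ∑ j ∈ b.support, ((f j : ℕ) : ℤ) • P.root j := by
    rw [hf]; simp
  have h1 := RootPairing.Base.height_eq_sum hf'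
  have h2 : 0 ≤ b.height a := by
    rw [h1]; exact Finset.sum_nonneg (fun j _ => by positivity)
  have h3 := b.height_ne_zero a
  omega

theorem height_neg_of_neg {a : idx} (h : a ∈ RedSub.negRoots P b) : b.height a < 0 := by
  obtain ⟨f, hf⟩ := exists_nat_comb P b _ h
  have hf' : P.root a = ∑ j ∈ b.support, (-((f j : ℕ) : ℤ)) • P.root j := by
    rw [← neg_neg (P.root a), hf]; simp
  have h1 := RootPairing.Base.height_eq_sum hf'
  have h2 : b.height a ≤ 0 := by
    rw [h1]
    exact Finset.sum_nonpos (fun j _ => by simp)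
  have h3 := b.height_ne_zero a
  omega

theorem not_pos_neg {a : idx} (h1 : a ∈ RedSub.posRoots P b) (h2 : a ∈ RedSub.negRoots P b) :
    False := by
  have := height_pos_of_pos P b h1
  have := height_neg_of_neg P b h2
  omega

theorem zsmul_mem_C {k : ℤ} (hk : 0 ≤ k) {y : M}
    (hy : y ∈ AddSubmonoid.closure (P.root '' (b.support : Set idx))) :
    k • y ∈ AddSubmonoid.closure (P.root '' (b.support : Set idx)) := by
  obtain ⟨n, rfl⟩ := Int.eq_ofNat_of_zero_le hk
  rw [natCast_zsmul]
  exact AddSubmonoid.nsmul_mem _ hy n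

/-- the number of inversions -/
noncomputable def Nv (v : Equiv.Perm idx) : ℕ :=
  Set.ncard {a : idx | a ∈ RedSub.posRoots P b ∧ v a ∈ RedSub.negRoots P b}

variable [Finite idx]

theorem Nv_le_inv (v : Equiv.Perm idx) (hv' : Lin P v⁻¹) : Nv P b v ≤ Nv P b v⁻¹ := by
  unfold Nv
  refine Set.ncard_le_ncard_of_injOn (fun β => ng P (v β)) ?_ ?_ (Set.toFinite _)
  · rintro β ⟨h1, h2⟩
    refine ⟨(ng_pos_iff P b _).2 h2, ?_⟩
    show v⁻¹ (ng P (v β)) ∈ RedSub.negRoots P b
    have e : v⁻¹ (v β) = β := Equiv.Perm.inv_eq_iff_eq.mpr rfl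
    rw [hv'.ng_comm, e]
    exact (ng_neg_iff P b _).2 h1
  · intro β₁ _ β₂ _ h
    exact v.injective (ng_injective P h)

theorem Nv_inv (v : Equiv.Perm idx) (hv : Lin P v) (hv' : Lin P v⁻¹) : Nv P b v = Nv P b v⁻¹ := by
  apply le_antisymm (Nv_le_inv P b v hv')
  have := Nv_le_inv P b v⁻¹ (by rw [inv_inv]; exact hv)
  rwa [inv_inv] at this

theorem Nv_lt (v : Equiv.Perm idx) (hv : Lin P v) (g : idx) (hg : g ∈ RedSub.posRoots P b)
    (hvg : v g ∈ RedSub.negRoots P b) :
    Nv P b (v * P.reflectionPerm g) < Nv P b v := by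
  classical
  have ht : ∀ β, P.reflectionPerm g (P.reflectionPerm g β) = β := fun β => by simp
  have htg : P.reflectionPerm g g = ng P g := rfl
  have hgS : g ∈ {a : idx | a ∈ RedSub.posRoots P b ∧ v a ∈ RedSub.negRoots P b} := ⟨hg, hvg⟩
  obtain ⟨φ, hφ⟩ : ∃ φ : idx → idx, φ = fun β =>
      if P.reflectionPerm g β ∈ RedSub.posRoots P b then P.reflectionPerm g β else β := ⟨_, rfl⟩
  have hφ1 : ∀ β, P.reflectionPerm g β ∈ RedSub.posRoots P b → φ β = P.reflectionPerm g β := by
    intro β h; rw [hφ]; simp [h]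
  have hφ2 : ∀ β, P.reflectionPerm g β ∉ RedSub.posRoots P b → φ β = β := by
    intro β h; rw [hφ]; simp [h]
  have hmaps : ∀ β ∈ {a : idx | a ∈ RedSub.posRoots P b ∧
      (v * P.reflectionPerm g) a ∈ RedSub.negRoots P b},
      φ β ∈ {a : idx | a ∈ RedSub.posRoots P b ∧ v a ∈ RedSub.negRoots P b} \ {g} := by
    rintro β ⟨hβ1, hβ2⟩
    have hβ2' : v (P.reflectionPerm g β) ∈ RedSub.negRoots P b := hβ2
    by_cases hp : P.reflectionPerm g β ∈ RedSub.posRoots P b
    · rw [hφ1 β hp]
      refine ⟨⟨hp, hβ2'⟩, ?_⟩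
      intro h
      have h' : P.reflectionPerm g β = g := h
      have hβ : β = ng P g := by
        rw [← ht β, h']; rfl
      rw [hβ, ng_pos_iff] at hβ1
      exact not_pos_neg P b hg hβ1
    · rw [hφ2 β hp]
      have hn : P.reflectionPerm g β ∈ RedSub.negRoots P b := (pos_or_neg P b _).resolve_left hp
      have hroot : P.root (P.reflectionPerm g β) = P.root β - P.pairing β g • P.root g := by
        rw [P.root_reflectionPerm, P.reflection_apply_root]
      have hk : 0 < P.pairing β g := by
        by_contra hk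
        apply hp
        rw [mem_pos_iff]
        have : P.root (P.reflectionPerm g β) = P.root β + (-P.pairing β g) • P.root g := by
          rw [hroot]; module
        rw [this]
        exact AddSubmonoid.add_mem _ hβ1 (zsmul_mem_C P b (by omega) hg)
      have hrel : P.root β = P.root (P.reflectionPerm g β) + P.pairing β g • P.root g := by
        rw [hroot]; module
      have hlin := hv _ _ _ _ hrel
      refine ⟨⟨hβ1, ?_⟩, ?_⟩
      · rw [mem_neg_iff]
        have : -P.root (v β) = -P.root (v (P.reflectionPerm g β)) +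
            P.pairing β g • (-P.root (v g)) := by
          rw [hlin]; module
        rw [this]
        exact AddSubmonoid.add_mem _ hβ2' (zsmul_mem_C P b hk.le hvg)
      · intro h
        have h' : β = g := h
        rw [h', htg, hv.ng_comm, ng_neg_iff] at hβ2'
        exact not_pos_neg P b hβ2' hvg
  have hinj : Set.InjOn φ {a : idx | a ∈ RedSub.posRoots P b ∧
      (v * P.reflectionPerm g) a ∈ RedSub.negRoots P b} := by
    rintro β₁ ⟨h11, -⟩ β₂ ⟨h21, -⟩ h
    by_cases hp1 : P.reflectionPerm g β₁ ∈ RedSub.posRoots P b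
    · by_cases hp2 : P.reflectionPerm g β₂ ∈ RedSub.posRoots P b
      · rw [hφ1 β₁ hp1, hφ1 β₂ hp2] at h
        exact (P.reflectionPerm g).injective h
      · rw [hφ1 β₁ hp1, hφ2 β₂ hp2] at h
        exfalso; apply hp2
        rw [← h, ht]; exact h11
    · by_cases hp2 : P.reflectionPerm g β₂ ∈ RedSub.posRoots P b
      · rw [hφ2 β₁ hp1, hφ1 β₂ hp2] at h
        exfalso; apply hp1
        rw [h, ht]; exact h21
      · rw [hφ2 β₁ hp1, hφ2 β₂ hp2] at h
        exact h
  calc Nv P b (v * P.reflectionPerm g)
      ≤ ({a : idx | a ∈ RedSub.posRoots P b ∧ v a ∈ RedSub.negRoots P b} \ {g}).ncard :=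
        Set.ncard_le_ncard_of_injOn φ hmaps hinj (Set.toFinite _)
    _ < Nv P b v := Set.ncard_sdiff_singleton_lt_of_mem hgS (Set.toFinite _)

end



/-- Let Φ be a finite reduced root system (a reduced root pairing over ℤ on a finite index set) with a
base b, w an element of its Weyl group, given as the product of the reflections along a word l and
acting on the roots, and γ a positive root. Writing ℓ(u) for the number of positive roots a with
u(a) negative, one has ℓ(w) < ℓ(σ_γ w) if and only if w⁻¹(γ) is positive. (Here the length is taken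
as the number of inverted positive roots.) -/
theorem result {idx M N : Type}
    [AddCommGroup M] [AddCommGroup N] [Finite idx]
    (P : RootPairing idx ℤ M N) [P.IsReduced] (b : P.Base) (l : List idx) (c : idx)
    (hc : c ∈ RedSub.posRoots P b) :
    Set.ncard {a : idx | a ∈ RedSub.posRoots P b ∧ RedSub.wordPerm P l a ∈ RedSub.negRoots P b} <
        Set.ncard {a : idx | a ∈ RedSub.posRoots P b ∧
          (P.reflectionPerm c * RedSub.wordPerm P l) a ∈ RedSub.negRoots P b} ↔
      (RedSub.wordPerm P l)⁻¹ c ∈ RedSub.posRoots P b := by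
  show Nv P b (RedSub.wordPerm P l) < Nv P b (P.reflectionPerm c * RedSub.wordPerm P l) ↔ _
  have htt : P.reflectionPerm c * P.reflectionPerm c = 1 :=
    mul_eq_one_iff_inv_eq.mpr (P.reflectionPerm_inv c)
  have hw : Lin P (RedSub.wordPerm P l) := lin_word P l
  have hv : Lin P (RedSub.wordPerm P l)⁻¹ := by rw [wordPerm_inv]; exact lin_word P _
  have e1 : Nv P b (RedSub.wordPerm P l) = Nv P b (RedSub.wordPerm P l)⁻¹ := Nv_inv P b _ hw hv
  have htw : P.reflectionPerm c * RedSub.wordPerm P l = RedSub.wordPerm P (c :: l) :=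
    (wordPerm_cons P c l).symm
  have hinv : (RedSub.wordPerm P (c :: l))⁻¹ = (RedSub.wordPerm P l)⁻¹ * P.reflectionPerm c := by
    rw [wordPerm_cons, mul_inv_rev, P.reflectionPerm_inv]
  have e2 : Nv P b (P.reflectionPerm c * RedSub.wordPerm P l) =
      Nv P b ((RedSub.wordPerm P l)⁻¹ * P.reflectionPerm c) := by
    rw [htw, ← hinv]
    exact Nv_inv P b _ (lin_word P _) (by rw [wordPerm_inv]; exact lin_word P _)
  rw [e1, e2]
  have hvt : Lin P ((RedSub.wordPerm P l)⁻¹ * P.reflectionPerm c) := by
    rw [← hinv, wordPerm_inv]; exact lin_word P _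
  constructor
  · intro hlt
    by_contra hnp
    have hneg := (pos_or_neg P b _).resolve_left hnp
    have := Nv_lt P b _ hv c hc hneg
    omega
  · intro hp
    have hneg : ((RedSub.wordPerm P l)⁻¹ * P.reflectionPerm c) c ∈ RedSub.negRoots P b := by
      show (RedSub.wordPerm P l)⁻¹ (P.reflectionPerm c c) ∈ RedSub.negRoots P b
      have : P.reflectionPerm c c = ng P c := rfl
      rw [this, hv.ng_comm, ng_neg_iff]
      exact hp
    have := Nv_lt P b _ hvt c hc hneg
    rw [mul_assoc, htt, mul_one] at this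
    exact this


end Groth.Agent.S15245
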