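import Groth.Statements.S15252
import Mathlib
import Groth.Agent.Lib.Helper6.LineGen
import Groth.Agent.Lib.Helper6.LinAlgGen
import Groth.Agent.Lib.Helper6.CommonZero

set_option autoImplicit false
open Fano
open Groth.Agent.Lib.Helper6.LineGen Groth.Agent.Lib.Helper6.LinAlgGen

namespace Groth.Agent.S15252

section helpers

open MvPolynomial
open Groth.Agent.Lib.Helper6.LineGen
open Groth.Agent.Lib.Helper6.LinAlgGen
open Groth.Agent.Lib.Helper6.CommonZero (exists_common_zero)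
open Groth.Agent.S12424 (eval_smul_of_homog)

/-- substitution of a linear combination of three vectors -/
noncomputable def par3 (p u v : Fin 5 → ℂ) (q : MvPolynomial (Fin 5) ℂ) : MvPolynomial (Fin 3) ℂ :=
  aeval (fun j : Fin 5 => C (p j) * X 0 + C (u j) * X 1 + C (v j) * X 2) q

theorem eval_par3 (p u v : Fin 5 → ℂ) (q : MvPolynomial (Fin 5) ℂ) (y : Fin 3 → ℂ) :
    eval y (par3 p u v q) = eval (y 0 • p + y 1 • u + y 2 • v) q := by
  induction q using MvPolynomial.induction_on with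
  | C a => simp [par3]
  | add a b ha hb =>
    simp only [par3, map_add] at *
    rw [ha, hb]
  | mul_X a i ha =>
    simp only [par3, map_mul, aeval_X, eval_X] at *
    rw [ha]
    congr 1
    simp only [map_add, map_mul, eval_C, eval_X, Pi.add_apply, Pi.smul_apply, smul_eq_mul]
    ring

theorem eval_zero_of_homog' (G : MvPolynomial (Fin 5) ℂ) {n : ℕ} (hn : n ≠ 0)
    (hG : G.IsHomogeneous n) : eval (0 : Fin 5 → ℂ) G = 0 := by
  have h := eval_smul_of_homog hG (0 : ℂ) (0 : Fin 5 → ℂ)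
  rw [zero_smul, zero_pow hn, zero_mul] at h
  exact h

/-- a smooth cubic threefold contains no plane -/
theorem no_plane (f : MvPolynomial (Fin 5) ℂ) (hf : f.IsHomogeneous 3)
    (hsm : ∀ u : Fin 5 → ℂ, u ≠ 0 → eval u f = 0 → ∃ i : Fin 5, eval u (pderiv i f) ≠ 0)
    (p u v : Fin 5 → ℂ) (hli : LinearIndependent ℂ ![p, u, v])
    (h : ∀ r s t : ℂ, eval (r • p + s • u + t • v) f = 0) : False := by
  classical
  have h2 : (2 : ℂ) ≠ 0 := by norm_num
  obtain ⟨Pl, hPl⟩ : ∃ Pl : Submodule ℂ (Fin 5 → ℂ),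
      Pl = Submodule.span ℂ (Set.range ![p, u, v]) := ⟨_, rfl⟩
  have hPl3 : Module.finrank ℂ Pl = 3 := by rw [hPl]; exact finrank_span_triple hli
  obtain ⟨W, hW⟩ := Submodule.exists_isCompl Pl
  have hW2 : Module.finrank ℂ W = 2 := by
    have := Submodule.finrank_add_eq_of_isCompl hW
    rw [hPl3, Module.finrank_fin_fun] at this
    omega
  obtain ⟨w₁, w₂, hw₁, hw₂, hWspan⟩ := exists_pair_span hW2
  have hz : ∀ w, eval (0 : Fin 3 → ℂ) (par3 p u v (polarP f w)) = 0 := by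
    intro w
    rw [eval_par3]
    simp only [Pi.zero_apply, zero_smul, add_zero]
    have hq : (polarP f w).IsHomogeneous 2 := polarP_homog f 3 hf w
    exact eval_zero_of_homog' _ (by norm_num) hq
  obtain ⟨y, hy0, hy⟩ := exists_common_zero 3
    {par3 p u v (polarP f w₁), par3 p u v (polarP f w₂)}
    (lt_of_le_of_lt Finset.card_le_two (by norm_num)) (by
      intro g hg
      rcases Finset.mem_insert.mp hg with rfl | hg
      · exact hz w₁
      · rw [Finset.mem_singleton.mp hg]; exact hz w₂)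
  obtain ⟨x, hx⟩ : ∃ x : Fin 5 → ℂ, x = y 0 • p + y 1 • u + y 2 • v := ⟨_, rfl⟩
  have hx0 : x ≠ 0 := by
    intro h0
    rw [hx] at h0
    obtain ⟨a, b, c⟩ := li3_coeff hli h0
    apply hy0
    funext i
    fin_cases i
    · exact a
    · exact b
    · exact c
  have hfx : eval x f = 0 := by rw [hx]; exact h _ _ _
  have hd1 : dd f x w₁ = 0 := by
    have := hy _ (Finset.mem_insert_self _ _)
    rwa [eval_par3, ← hx, eval_polarP] at this
  have hd2 : dd f x w₂ = 0 := by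
    have := hy _ (Finset.mem_insert_of_mem (Finset.mem_singleton_self _))
    rwa [eval_par3, ← hx, eval_polarP] at this
  have hdPl : ∀ π ∈ Pl, dd f x π = 0 := by
    intro π hπ
    rw [hPl, mem_span_triple] at hπ
    obtain ⟨r, s, t, hπ⟩ := hπ
    apply dd_zero_of_line h2 f hf
    intro a b
    have : a • x + b • π
        = (a * y 0 + b * r) • p + (a * y 1 + b * s) • u + (a * y 2 + b * t) • v := by
      rw [hx, hπ]; module
    rw [this]
    exact h _ _ _
  have hall : ∀ z : Fin 5 → ℂ, dd f x z = 0 := by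
    intro z
    have hz : z ∈ Pl ⊔ W := by rw [hW.sup_eq_top]; exact Submodule.mem_top
    obtain ⟨π, hπ, w, hw, rfl⟩ := Submodule.mem_sup.mp hz
    obtain ⟨a, b, rfl⟩ := hWspan w hw
    rw [dd_add, dd_add, dd_smul, dd_smul, hdPl π hπ, hd1, hd2]
    ring
  obtain ⟨i, hi⟩ := hsm x hx0 hfx
  apply hi
  rw [← dd_single]
  exact hall _

end helpers



/-- Let X be a smooth cubic hypersurface in projective 4-space over ℂ and let L₁, L₂ be two distinct
lines on X which meet. Then there is a finite set G of points of L₁ such that every line on X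
meeting both L₁ and L₂ passes through a point of G. Here X is given by a cubic form f in five
variables satisfying the Jacobian smoothness condition at every nonzero zero, a line on X is a
2-dimensional subspace of ℂ^5 on which f vanishes, two lines meet when the subspaces intersect
non-trivially, and a point of L₁ is a 1-dimensional subspace of it. (The published statement also
covers two disjoint lines; this row assumes that L₁ and L₂ meet.) -/
theorem result
    (f : MvPolynomial (Fin 5) ℂ) (hf : f.IsHomogeneous 3)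
    (hsm : ∀ u : Fin 5 → ℂ, u ≠ 0 → MvPolynomial.eval u f = 0 →
      ∃ i : Fin 5, MvPolynomial.eval u (MvPolynomial.pderiv i f) ≠ 0)
    (L₁ L₂ : Submodule ℂ (Fin 5 → ℂ)) (h₁ : Module.finrank ℂ ↥L₁ = 2) (h₂ : Module.finrank ℂ ↥L₂ = 2)
    (hf₁ : ∀ u ∈ L₁, MvPolynomial.eval u f = 0) (hf₂ : ∀ u ∈ L₂, MvPolynomial.eval u f = 0)
    (hne : L₁ ≠ L₂) (hmeet : L₁ ⊓ L₂ ≠ ⊥) :
    ∃ G : Set (Submodule ℂ (Fin 5 → ℂ)), G.Finite ∧ (∀ g ∈ G, Module.finrank ℂ ↥g = 1 ∧ g ≤ L₁) ∧
      ∀ L : Submodule ℂ (Fin 5 → ℂ), Module.finrank ℂ ↥L = 2 → (∀ u ∈ L, MvPolynomial.eval u f = 0) →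
        L ⊓ L₁ ≠ ⊥ → L ⊓ L₂ ≠ ⊥ → ∃ g ∈ G, g ≤ L := by
  classical
  have h2 : (2 : ℂ) ≠ 0 := by norm_num
  obtain ⟨p, hp12, hp0⟩ := Submodule.exists_mem_ne_zero_of_ne_bot hmeet
  obtain ⟨hp1, hp2⟩ := Submodule.mem_inf.mp hp12
  obtain ⟨u, hu1, hliu, hL₁⟩ := exists_compl_in_line h₁ hp1 hp0
  obtain ⟨v, hv2, hliv, hL₂⟩ := exists_compl_in_line h₂ hp2 hp0
  have hvL : v ∉ Submodule.span ℂ ({p, u} : Set (Fin 5 → ℂ)) := by
    intro hv
    apply hne
    rw [← hL₁] at hv
    symm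
    apply Submodule.eq_of_le_of_finrank_eq
    · rw [hL₂]; exact span_pair_le hp1 hv
    · rw [h₂, h₁]
  have hli := li3_of_not_mem hliu hvL
  have hmemL₁ : ∀ x ∈ L₁, ∃ r s : ℂ, x = r • p + s • u := by
    intro x hx
    rw [hL₁] at hx
    obtain ⟨r, s, h⟩ := Submodule.mem_span_pair.mp hx
    exact ⟨r, s, h.symm⟩
  have hmemL₂ : ∀ x ∈ L₂, ∃ r t : ℂ, x = r • p + t • v := by
    intro x hx
    rw [hL₂] at hx
    obtain ⟨r, s, h⟩ := Submodule.mem_span_pair.mp hx
    exact ⟨r, s, h.symm⟩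
  have hfL₁ : ∀ r s : ℂ, MvPolynomial.eval (r • p + s • u) f = 0 := fun r s =>
    hf₁ _ (L₁.add_mem (L₁.smul_mem _ hp1) (L₁.smul_mem _ hu1))
  have hfL₂ : ∀ r t : ℂ, MvPolynomial.eval (r • p + t • v) f = 0 := fun r t =>
    hf₂ _ (L₂.add_mem (L₂.smul_mem _ hp2) (L₂.smul_mem _ hv2))
  obtain ⟨M, hM⟩ : ∃ M : ℂ, M = dd (polarP f v) p u := ⟨_, rfl⟩
  obtain ⟨A, hA⟩ : ∃ A : ℂ, A = dd f u v := ⟨_, rfl⟩
  obtain ⟨B, hB⟩ : ∃ B : ℂ, B = dd f v u := ⟨_, rfl⟩
  have hform : ∀ r s t : ℂ, MvPolynomial.eval (r • p + s • u + t • v) f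
      = s * t * (M * r + A * s + B * t) := by
    intro r s t
    rw [two_lines_formula h2 f hf p u v hfL₁ hfL₂, hM, hA, hB]
  have hMAB : ¬ (M = 0 ∧ A = 0 ∧ B = 0) := by
    rintro ⟨hM0, hA0, hB0⟩
    apply no_plane f hf hsm p u v hli
    intro r s t
    rw [hform, hM0, hA0, hB0]
    ring
  refine ⟨{g | g = Submodule.span ℂ {p} ∨ (M ≠ 0 ∧ g = Submodule.span ℂ {A • p - M • u})},
    ?_, ?_, ?_⟩
  · apply Set.Finite.subset
      (Set.toFinite ({Submodule.span ℂ {p}, Submodule.span ℂ {A • p - M • u}} :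
        Set (Submodule ℂ (Fin 5 → ℂ))))
    rintro g (hg | ⟨-, hg⟩)
    · left; exact hg
    · right; exact hg
  · rintro g (hg | ⟨hM0, hg⟩)
    · rw [hg]
      exact ⟨finrank_span_singleton hp0, (Submodule.span_singleton_le_iff_mem _ _).mpr hp1⟩
    · rw [hg]
      have hne0 : A • p - M • u ≠ 0 := by
        intro h0
        have := (LinearIndependent.pair_iff.mp hliu) A (-M)
          (by rw [neg_smul, ← sub_eq_add_neg]; exact h0)
        exact hM0 (neg_eq_zero.mp this.2)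
      exact ⟨finrank_span_singleton hne0, (Submodule.span_singleton_le_iff_mem _ _).mpr
        (L₁.sub_mem (L₁.smul_mem _ hp1) (L₁.smul_mem _ hu1))⟩
  · intro L hL2 hLf hLL₁ hLL₂
    obtain ⟨q₁, hq₁, hq₁0⟩ := Submodule.exists_mem_ne_zero_of_ne_bot hLL₁
    obtain ⟨q₂, hq₂, hq₂0⟩ := Submodule.exists_mem_ne_zero_of_ne_bot hLL₂
    obtain ⟨hq₁L, hq₁L₁⟩ := Submodule.mem_inf.mp hq₁
    obtain ⟨hq₂L, hq₂L₂⟩ := Submodule.mem_inf.mp hq₂
    obtain ⟨r₁, s₁, e₁⟩ := hmemL₁ q₁ hq₁L₁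
    obtain ⟨r₂, t₂, e₂⟩ := hmemL₂ q₂ hq₂L₂
    have hpL : p ∈ L → ∃ g ∈ {g | g = Submodule.span ℂ {p} ∨
        (M ≠ 0 ∧ g = Submodule.span ℂ {A • p - M • u})}, g ≤ L := fun hp =>
      ⟨Submodule.span ℂ {p}, Or.inl rfl, (Submodule.span_singleton_le_iff_mem _ _).mpr hp⟩
    by_cases hs₁ : s₁ = 0
    · apply hpL
      rw [hs₁, zero_smul, add_zero] at e₁
      have hr₁ : r₁ ≠ 0 := by
        rintro rfl
        rw [zero_smul] at e₁
        exact hq₁0 e₁
      have : p = r₁⁻¹ • q₁ := by rw [e₁, smul_smul, inv_mul_cancel₀ hr₁, one_smul]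
      rw [this]
      exact L.smul_mem _ hq₁L
    by_cases ht₂ : t₂ = 0
    · apply hpL
      rw [ht₂, zero_smul, add_zero] at e₂
      have hr₂ : r₂ ≠ 0 := by
        rintro rfl
        rw [zero_smul] at e₂
        exact hq₂0 e₂
      have : p = r₂⁻¹ • q₂ := by rw [e₂, smul_smul, inv_mul_cancel₀ hr₂, one_smul]
      rw [this]
      exact L.smul_mem _ hq₂L
    have hval : ∀ a b : ℂ, (a * s₁) * (b * t₂) *
        (M * (a * r₁ + b * r₂) + A * (a * s₁) + B * (b * t₂)) = 0 := by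
      intro a b
      rw [← hform]
      have : (a * r₁ + b * r₂) • p + (a * s₁) • u + (b * t₂) • v = a • q₁ + b • q₂ := by
        rw [e₁, e₂]; module
      rw [this]
      exact hLf _ (L.add_mem (L.smul_mem _ hq₁L) (L.smul_mem _ hq₂L))
    have h11 := hval 1 1
    have h1m := hval 1 (-1)
    have e11 : M * (r₁ + r₂) + A * s₁ + B * t₂ = 0 := by
      have : s₁ * t₂ * (M * (r₁ + r₂) + A * s₁ + B * t₂) = 0 := by linear_combination h11
      exact (mul_eq_zero.mp this).resolve_left (mul_ne_zero hs₁ ht₂)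
    have e1m : M * (r₁ - r₂) + A * s₁ - B * t₂ = 0 := by
      have : s₁ * t₂ * (M * (r₁ - r₂) + A * s₁ - B * t₂) = 0 := by linear_combination -h1m
      exact (mul_eq_zero.mp this).resolve_left (mul_ne_zero hs₁ ht₂)
    have eq1 : M * r₁ + A * s₁ = 0 := by
      have : (2 : ℂ) * (M * r₁ + A * s₁) = 0 := by linear_combination e11 + e1m
      exact (mul_eq_zero.mp this).resolve_left h2
    have eq2 : M * r₂ + B * t₂ = 0 := by
      have : (2 : ℂ) * (M * r₂ + B * t₂) = 0 := by linear_combination e11 - e1m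
      exact (mul_eq_zero.mp this).resolve_left h2
    by_cases hM0 : M = 0
    · exfalso
      apply hMAB
      rw [hM0, zero_mul, zero_add] at eq1 eq2
      exact ⟨hM0, (mul_eq_zero.mp eq1).resolve_right hs₁, (mul_eq_zero.mp eq2).resolve_right ht₂⟩
    · refine ⟨Submodule.span ℂ {A • p - M • u}, Or.inr ⟨hM0, rfl⟩, ?_⟩
      rw [Submodule.span_singleton_le_iff_mem]
      have c1 : -(M / s₁) * r₁ = A := by
        have : A = -(M * r₁) / s₁ := by
          rw [eq_div_iff hs₁]; linear_combination eq1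
        rw [this]; ring
      have c2 : -(M / s₁) * s₁ = -M := by
        rw [neg_mul, div_mul_cancel₀ _ hs₁]
      have : A • p - M • u = (-(M / s₁)) • q₁ := by
        rw [e₁, smul_add, smul_smul, smul_smul, c1, c2, neg_smul, sub_eq_add_neg]
      rw [this]
      exact L.smul_mem _ hq₁L


end Groth.Agent.S15252
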