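import Groth.Statements.S15259
import Groth.Agent.Lib.Helper16.EssFT

set_option autoImplicit false
universe u
open CategoryTheory CategoryTheory.Limits AlgebraicGeometry TopologicalSpace
open W4c2seshadripos

namespace Groth.Agent.S15259

/-- Call f : X → Y locally essentially of finite type when Y has a cover by affine opens U = Spec A such
that each f⁻¹(U) has a cover by affine opens Spec B with A → B essentially of finite type (a
localization of a finite-type A-algebra; Mathlib's RingHom.EssFiniteType), and essentially of finite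
type when moreover f is quasi-compact. Then f is essentially of finite type exactly when every
affine open U = Spec A of Y has f⁻¹(U) covered by finitely many affine opens V = Spec B of X with A
→ B essentially of finite type. -/
theorem result {X Y : Scheme.{u}} (f : X ⟶ Y) :
    ((∃ S : Set Y.affineOpens, (⋃ U ∈ S, ((U : Y.Opens) : Set ↥Y)) = Set.univ ∧
      ∀ U ∈ S, ∃ T : Set X.affineOpens, (⋃ V ∈ T, ((V : X.Opens) : Set ↥X)) = ((f ⁻¹ᵁ (U : Y.Opens)) : Set ↥X) ∧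
        ∀ V ∈ T, ∃ e : (V : X.Opens) ≤ f ⁻¹ᵁ (U : Y.Opens), (f.appLE (U : Y.Opens) (V : X.Opens) e).hom.EssFiniteType) ∧ QuasiCompact f) ↔
    ∀ U : Y.affineOpens, ∃ T : Set X.affineOpens, T.Finite ∧ (⋃ V ∈ T, ((V : X.Opens) : Set ↥X)) = ((f ⁻¹ᵁ (U : Y.Opens)) : Set ↥X) ∧
        ∀ V ∈ T, ∃ e : (V : X.Opens) ≤ f ⁻¹ᵁ (U : Y.Opens), (f.appLE (U : Y.Opens) (V : X.Opens) e).hom.EssFiniteType := by
  constructor
  · rintro ⟨⟨S, hS, hT⟩, hqc⟩ U
    obtain ⟨T, hTc, hTe⟩ := Groth.Agent.Lib.helper16.EssFT.locEssAt_of_cover f S hS hT U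
    have hcpt : IsCompact ((f ⁻¹ᵁ (U : Y.Opens)) : Set ↥X) :=
      (quasiCompact_iff_forall_isAffineOpen.mp hqc) U U.2
    obtain ⟨T', hT'⟩ := hcpt.elim_finite_subcover (fun V : T => ((V.1 : X.Opens) : Set ↥X))
      (fun V => (V.1 : X.Opens).isOpen) (by
        rw [← hTc]
        intro x hx
        obtain ⟨V, hV, hxV⟩ := Set.mem_iUnion₂.mp hx
        exact Set.mem_iUnion.mpr ⟨⟨V, hV⟩, hxV⟩)
    refine ⟨(fun V : T => V.1) '' (T' : Set T), (T'.finite_toSet.image _), ?_, ?_⟩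
    · apply Set.Subset.antisymm
      · intro x hx
        obtain ⟨V, ⟨V0, _, rfl⟩, hxV⟩ := Set.mem_iUnion₂.mp hx
        rw [← hTc]
        exact Set.mem_iUnion₂.mpr ⟨V0.1, V0.2, hxV⟩
      · intro x hx
        obtain ⟨V, hV, hxV⟩ := Set.mem_iUnion₂.mp (hT' hx)
        exact Set.mem_iUnion₂.mpr ⟨V.1, ⟨V, hV, rfl⟩, hxV⟩
    · rintro V ⟨V0, _, rfl⟩
      exact hTe V0.1 V0.2
  · intro h
    refine ⟨⟨Set.univ, ?_, fun U _ => ?_⟩, ?_⟩
    · ext y
      simp only [Set.mem_iUnion, Set.mem_univ, exists_prop, true_and, iff_true]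
      obtain ⟨_, ⟨U, hU, rfl⟩, hyU, -⟩ := Y.isBasis_affineOpens.exists_subset_of_mem_open (Set.mem_univ y) isOpen_univ
      exact ⟨⟨U, hU⟩, hyU⟩
    · obtain ⟨T, -, hTc, hTe⟩ := h U
      exact ⟨T, hTc, hTe⟩
    · rw [quasiCompact_iff_forall_isAffineOpen]
      intro U hU
      obtain ⟨T, hTf, hTc, -⟩ := h ⟨U, hU⟩
      change IsCompact ((f ⁻¹ᵁ U : X.Opens) : Set ↥X)
      have : ((f ⁻¹ᵁ U : X.Opens) : Set ↥X) = ⋃ V ∈ T, ((V : X.Opens) : Set ↥X) := hTc.symm
      rw [this]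
      exact hTf.isCompact_biUnion (fun V _ => V.2.isCompact)

end Groth.Agent.S15259
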