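import Groth.Statements.S1526
import Mathlib
import Groth.Agent.Lib.Lead.DimOneVanish
import Groth.Agent.Lib.Helper20.DimZeroClosed
import Groth.Agent.S0020

set_option autoImplicit false
universe u
open CategoryTheory CategoryTheory.Limits AlgebraicGeometry
open Variety

namespace Groth.Agent.S1526



/-- On a proper scheme over a field, a coherent module whose support has dimension at most zero has
vanishing cohomology in all positive degrees. -/
theorem result (k : Type u) [Field k] (X : Scheme.{u}) [X.Over (Spec (CommRingCat.of k))] [IsProper (X ↘ (Spec (CommRingCat.of k)))]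
    (F : X.Modules) (hF : Coh.IsCoh F) (hsupp : topologicalKrullDim (CohB1.support F) ≤ 0)
    (i : ℕ) (hi : 1 ≤ i) : Subsingleton (Coh.HH X F i) := by
  have hln : IsLocallyNoetherian X :=
    LocallyOfFiniteType.isLocallyNoetherian (X ↘ Spec (CommRingCat.of k))
  have hcl : IsClosed (CohB1.support F) := Groth.Agent.S0020.result X F hF.2
  let U : X.Opens := ⟨(CohB1.support F)ᶜ, hcl.isOpen_compl⟩
  have hU : ∀ x : X, x ∉ U → IsClosed ({x} : Set X) := by
    intro x hx
    have hxs : x ∈ CohB1.support F := by
      by_contra h
      exact hx h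
    exact Groth.Agent.Lib.Helper20.DimZeroClosed.isClosed_singleton_of_dim_le_zero
      (CohB1.support F) hcl hsupp x hxs
  have h0 : ∀ O : X.Opens, O ≤ U → Subsingleton Γ(F, O) := by
    intro O hO
    refine ⟨fun a b => ?_⟩
    apply TopCat.Presheaf.section_ext ((Coh.toAb F)) O
    intro x hx
    have hxU : x ∈ U := hO hx
    have hns : Subsingleton (F.presheaf.stalk x) := by
      by_contra h
      exact hxU h
    exact @Subsingleton.elim _ hns _ _
  obtain ⟨n, rfl⟩ : ∃ n, i = n + 1 := ⟨i - 1, by omega⟩
  exact Groth.Agent.Lib.Lead.DimOneVanish.subsingleton_HH_of_sections_vanish F U hU h0 n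

end Groth.Agent.S1526
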