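import Groth.Statements.S1527
import Mathlib
import Groth.Agent.Lib.Helper20.ZeroDimSupp
import Groth.Agent.Lib.Helper20.DimZeroClosed
import Groth.Agent.Lib.Helper11.SerreGG

set_option autoImplicit false
universe u
open CategoryTheory CategoryTheory.Limits AlgebraicGeometry
open Variety

namespace Groth.Agent.S1527



open Opposite in
theorem result' (k : Type u) [Field k] (X : Scheme.{u}) [X.Over (Spec (CommRingCat.of k))] [IsProper (X ↘ (Spec (CommRingCat.of k)))]
    (F : X.Modules) (hF : Coh.IsCoh F) (hsupp : topologicalKrullDim (CohB1.support F) ≤ 0) :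
    Curv2.IsGloballyGenerated F := by
  haveI hln : IsLocallyNoetherian X :=
    LocallyOfFiniteType.isLocallyNoetherian (X ↘ Spec (CommRingCat.of k))
  have hZc : IsClosed (CohB1.support F) := Groth.Agent.S0020.result X F hF.2
  have h0 : ∀ x ∈ CohB1.support F, IsClosed ({x} : Set X) := fun x hx =>
    Groth.Agent.Lib.Helper20.DimZeroClosed.isClosed_singleton_of_dim_le_zero
      (CohB1.support F) hZc hsupp x hx
  have hZ : ∀ S : Set X, S ⊆ CohB1.support F → IsClosed S := fun S hS =>
    Groth.Agent.Lib.Helper20.ZeroDimSupp.isClosed_of_subset_closed_points X _ hZc h0 S hS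
  have hfl : TopCat.Sheaf.IsFlasque (X := X.carrier) (Coh.toAb F) :=
    Groth.Agent.Lib.Helper20.ZeroDimSupp.isFlasque_of_discrete_support (X := X.carrier)
      (Coh.toAb F) (CohB1.support F)
      (fun x hx => by
        have : ¬ ¬ Subsingleton (F.presheaf.stalk x) := hx
        exact not_not.mp this) hZ
  apply Groth.Agent.Lib.helper11.SerreGG.isGloballyGenerated_of_genAt
  intro y V σ hyV
  refine ⟨V, le_rfl, hyV, ?_⟩
  -- extend σ to a global section
  have hepi : Epi ((Coh.toAb F).obj.map (homOfLE (le_top : V ≤ ⊤)).op) := hfl.epi _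
  rw [AddCommGrpCat.epi_iff_surjective] at hepi
  obtain ⟨t, ht⟩ := hepi σ
  have hres : Groth.Agent.Lib.helper12.TwistExtend.res F (le_rfl : V ≤ V) σ = σ := by
    show (F.val.map (homOfLE (le_rfl : V ≤ V)).op).hom σ = σ
    have : (homOfLE (le_rfl : V ≤ V)).op = 𝟙 (op V) := rfl
    rw [this, F.val.map_id]
    rfl
  rw [hres]
  have : σ = Groth.Agent.Lib.helper12.TwistExtend.res F (le_top : V ≤ ⊤) t := ht.symm
  rw [this]
  exact Groth.Agent.Lib.helper11.SerreGG.res_top_mem_gsubBy F _ V t



/-- On a proper scheme over a field, a coherent module whose support has dimension at most zero is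
globally generated (a quotient of a free module). -/
theorem result (k : Type u) [Field k] (X : Scheme.{u}) [X.Over (Spec (CommRingCat.of k))] [IsProper (X ↘ (Spec (CommRingCat.of k)))]
    (F : X.Modules) (hF : Coh.IsCoh F) (hsupp : topologicalKrullDim (CohB1.support F) ≤ 0) :
    Curv2.IsGloballyGenerated F := by
  exact Groth.Agent.S1527.result' k X F hF hsupp

end Groth.Agent.S1527
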