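import Groth.Statements.S15285
import Mathlib

set_option autoImplicit false
universe v v' u u'
open PicCat

namespace Groth.Agent.S15285

open CategoryTheory MonoidalCategory

section

variable {C : Type u} [Category.{v} C] {D : Type u'} [Category.{v'} D] (F : C ⥤ D)

/-- transport bijectivity on endomorphisms along an isomorphism -/
lemma bijective_end_of_iso {A B : C} (e : A ≅ B)
    (h : Function.Bijective (fun φ : A ⟶ A => F.map φ)) :
    Function.Bijective (fun φ : B ⟶ B => F.map φ) := by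
  constructor
  · intro a b hab
    have hab' : F.map a = F.map b := hab
    have : e.hom ≫ a ≫ e.inv = e.hom ≫ b ≫ e.inv := by
      apply h.1
      change F.map (e.hom ≫ a ≫ e.inv) = F.map (e.hom ≫ b ≫ e.inv)
      simp only [Functor.map_comp, hab']
    have h2 := congrArg (fun k => e.inv ≫ k ≫ e.hom) this
    simpa using h2
  · intro k
    obtain ⟨a, ha⟩ := h.2 (F.map e.hom ≫ k ≫ F.map e.inv)
    have ha' : F.map a = F.map e.hom ≫ k ≫ F.map e.inv := ha
    refine ⟨e.inv ≫ a ≫ e.hom, ?_⟩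
    change F.map (e.inv ≫ a ≫ e.hom) = k
    simp only [Functor.map_comp, ha', Category.assoc]
    rw [← F.map_comp, e.inv_hom_id, F.map_id, Category.comp_id, ← Category.assoc, ← F.map_comp,
      e.inv_hom_id, F.map_id, Category.id_comp]

variable [IsGroupoid C] [IsGroupoid D]

/-- in groupoids, bijectivity on endomorphisms and injectivity on isomorphism classes give
bijectivity on all Hom sets -/
lemma bijective_hom (X Y : C) (hX : Function.Bijective (fun φ : X ⟶ X => F.map φ))
    (h0 : Nonempty (F.obj X ≅ F.obj Y) → Nonempty (X ≅ Y)) :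
    Function.Bijective (fun φ : X ⟶ Y => F.map φ) := by
  constructor
  · intro f g hfg
    have hfg' : F.map f = F.map g := hfg
    have : f ≫ inv g = 𝟙 X := by
      apply hX.1
      change F.map (f ≫ inv g) = F.map (𝟙 X)
      rw [F.map_comp, hfg', ← F.map_comp, IsIso.hom_inv_id]
    calc f = (f ≫ inv g) ≫ g := by simp
      _ = g := by rw [this, Category.id_comp]
  · intro k
    obtain ⟨e⟩ := h0 ⟨asIso k⟩
    obtain ⟨a, ha⟩ := hX.2 (k ≫ F.map e.inv)
    have ha' : F.map a = k ≫ F.map e.inv := ha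
    refine ⟨a ≫ e.hom, ?_⟩
    change F.map (a ≫ e.hom) = k
    rw [F.map_comp, ha', Category.assoc, ← F.map_comp, e.inv_hom_id, F.map_id, Category.comp_id]

end

section Mon

variable {C : Type u} [Category.{v} C] [MonoidalCategory C] [IsGroupoid C]
  {D : Type u'} [Category.{v'} D] [MonoidalCategory D] [IsGroupoid D]
  (F : C ⥤ D) [F.LaxMonoidal]

omit [IsGroupoid C] in
lemma bijective_whiskerLeft (X : C) (hX : (tensorLeft X).IsEquivalence) (A B : C) :
    Function.Bijective (fun φ : A ⟶ B => X ◁ φ) := by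
  have : (tensorLeft X).IsEquivalence := hX
  exact ⟨fun a b hab => (tensorLeft X).map_injective hab,
    fun k => (tensorLeft X).map_surjective k⟩

lemma bijective_end_tensor_unit (X : C) (hX : (tensorLeft X).IsEquivalence)
    (hFX : (tensorLeft (F.obj X)).IsEquivalence)
    (h1 : Function.Bijective (fun φ : 𝟙_ C ⟶ 𝟙_ C => F.map φ)) :
    Function.Bijective (fun g : X ⊗ 𝟙_ C ⟶ X ⊗ 𝟙_ C => F.map g) := by
  have b1 := bijective_whiskerLeft X hX (𝟙_ C) (𝟙_ C)
  have b3 := bijective_whiskerLeft (F.obj X) hFX (F.obj (𝟙_ C)) (F.obj (𝟙_ C))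
  let μ := Functor.LaxMonoidal.μ F X (𝟙_ C)
  have b4 : Function.Bijective
      (fun k : F.obj X ⊗ F.obj (𝟙_ C) ⟶ F.obj X ⊗ F.obj (𝟙_ C) => inv μ ≫ k ≫ μ) := by
    constructor
    · intro a b hab
      have h2 := congrArg (fun k => μ ≫ k ≫ inv μ) hab
      simpa using h2
    · intro k
      exact ⟨μ ≫ k ≫ inv μ, by simp⟩
  have hc : (fun g : X ⊗ 𝟙_ C ⟶ X ⊗ 𝟙_ C => F.map g) ∘ (fun φ : 𝟙_ C ⟶ 𝟙_ C => X ◁ φ) =
      (fun k : F.obj X ⊗ F.obj (𝟙_ C) ⟶ F.obj X ⊗ F.obj (𝟙_ C) => inv μ ≫ k ≫ μ) ∘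
        (fun ψ : F.obj (𝟙_ C) ⟶ F.obj (𝟙_ C) => F.obj X ◁ ψ) ∘
        (fun φ : 𝟙_ C ⟶ 𝟙_ C => F.map φ) := by
    funext φ
    change F.map (X ◁ φ) = inv μ ≫ (F.obj X ◁ F.map φ) ≫ μ
    rw [Functor.LaxMonoidal.μ_natural_right, IsIso.inv_hom_id_assoc]
  have hbij : Function.Bijective
      ((fun g : X ⊗ 𝟙_ C ⟶ X ⊗ 𝟙_ C => F.map g) ∘ (fun φ : 𝟙_ C ⟶ 𝟙_ C => X ◁ φ)) := by
    rw [hc]
    exact b4.comp (b3.comp h1)
  exact (Function.Bijective.of_comp_iff _ b1).1 hbij

end Mon

open CategoryTheory MonoidalCategory in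

open CategoryTheory MonoidalCategory in
/-- Let C and D be Picard categories (monoidal groupoids in which tensoring on either side with any
object is an equivalence of categories) and F : C ⥤ D a lax monoidal functor. If F induces a
bijection on isomorphism classes of objects (it is essentially surjective, and F X ≅ F Y only when X
≅ Y) and a bijection on endomorphisms of the unit object, then F is an equivalence of categories. -/
theorem result
    {C : Type u} [Category.{v} C] [MonoidalCategory C] [IsGroupoid C]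
    {D : Type u'} [Category.{v'} D] [MonoidalCategory D] [IsGroupoid D]
    (hC : ∀ X : C, (tensorLeft X).IsEquivalence ∧ (tensorRight X).IsEquivalence)
    (hD : ∀ X : D, (tensorLeft X).IsEquivalence ∧ (tensorRight X).IsEquivalence)
    (F : C ⥤ D) [F.LaxMonoidal] [F.EssSurj]
    (h0 : ∀ X Y : C, Nonempty (F.obj X ≅ F.obj Y) → Nonempty (X ≅ Y))
    (h1 : Function.Bijective (fun φ : 𝟙_ C ⟶ 𝟙_ C => F.map φ)) :
    F.IsEquivalence := by
  have hEnd : ∀ X : C, Function.Bijective (fun φ : X ⟶ X => F.map φ) := fun X =>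
    bijective_end_of_iso F (ρ_ X) (bijective_end_tensor_unit F X (hC X).1 (hD (F.obj X)).1 h1)
  have hHom : ∀ X Y : C, Function.Bijective (fun φ : X ⟶ Y => F.map φ) := fun X Y =>
    bijective_hom F X Y (hEnd X) (h0 X Y)
  exact
    { faithful := ⟨fun {X Y} a b hab => (hHom X Y).1 hab⟩
      full := ⟨fun {X Y} k => (hHom X Y).2 k⟩
      essSurj := inferInstance }

end Groth.Agent.S15285
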