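import Groth.Statements.S1529
import Mathlib.AlgebraicGeometry.Artinian
import Mathlib.RingTheory.Jacobson.Artinian
import Mathlib.AlgebraicGeometry.Morphisms.Finite

set_option autoImplicit false
universe u
open CategoryTheory CategoryTheory.Limits AlgebraicGeometry
open Variety

namespace Groth.Agent.S1529

/-- A scheme of finite type over a field whose underlying topological space has Krull dimension at most
zero is affine, and its structure morphism is finite. -/
theorem result (k : Type u) [Field k] (X : Scheme.{u}) [X.Over (Spec (CommRingCat.of k))]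
    [LocallyOfFiniteType (X ↘ (Spec (CommRingCat.of k)))] [QuasiCompact (X ↘ (Spec (CommRingCat.of k)))]
    (hdim : topologicalKrullDim X ≤ 0) :
    IsAffine X ∧ IsFinite (X ↘ (Spec (CommRingCat.of k))) := by
  have h1 : IsLocallyNoetherian X :=
    LocallyOfFiniteType.isLocallyNoetherian (X ↘ (Spec (CommRingCat.of k)))
  have h2 : CompactSpace X :=
    QuasiCompact.compactSpace_of_compactSpace (X ↘ (Spec (CommRingCat.of k)))
  have h3 : IsLocallyArtinian X := .of_topologicalKrullDim_le_zero hdim
  have h4 : IsArtinianScheme X := {}
  have h5 : IsAffine X := inferInstance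
  refine ⟨h5, ?_⟩
  rw [HasAffineProperty.iff_of_isAffine (P := @IsFinite)]
  refine ⟨h5, ?_⟩
  have hft : ((X ↘ (Spec (CommRingCat.of k))).appTop).hom.FiniteType :=
    (HasRingHomProperty.iff_of_isAffine (P := @LocallyOfFiniteType)).mp inferInstance
  have hJ : IsJacobsonRing Γ(Spec (CommRingCat.of k), ⊤) :=
    (isJacobsonRing_iso (Scheme.ΓSpecIso (CommRingCat.of k)).commRingCatIsoToRingEquiv.symm).mp
      (inferInstanceAs (IsJacobsonRing k))
  algebraize [((X ↘ (Spec (CommRingCat.of k))).appTop).hom]
  exact Module.finite_of_isArtinianRing _ _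

end Groth.Agent.S1529
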