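import Groth.Statements.S15295
import Groth.Agent.Lib.Helper22.DeRhamGen
import Groth.Agent.Lib.Helper22.ExtPowBaseChange

set_option autoImplicit false
universe u
open DeRham

namespace Groth.Agent.S15295

open exteriorPower TensorProduct in
/-- The de Rham complex commutes with base change. Let R → A and R → S be ring maps and B = S ⊗_R A (an
R-algebra over A and S with the pushout property), and let ψ be the induced map of de Rham complexes
from the p-forms of A over R to the p-forms of B over S (additive maps sending b₀ db₁ ∧ … ∧ db_p to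
g(b₀) d(g b₁) ∧ … ∧ d(g b_p), g : A → B the structure map). Then in each degree p the S-linear
extension S ⊗_R ⋀^p Ω_{A/R} → ⋀^p Ω_{B/S}, s ⊗ x ↦ s · ψ_p(x), is bijective. (This row states the
degreewise bijectivity, with the base change written S ⊗_R − rather than − ⊗_R S; the compatibility
of ψ with the differentials, which makes this an isomorphism of complexes, holds for any square of
ring maps.) -/
theorem result (R S A B : Type u) [CommRing R] [CommRing S] [CommRing A] [CommRing B]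
    [Algebra R S] [Algebra R A] [Algebra R B] [Algebra A B] [Algebra S B]
    [IsScalarTower R A B] [IsScalarTower R S B] [Algebra.IsPushout R S A B]
    (ψ : ∀ p : ℕ, ↥(⋀[A]^p (Ω[A⁄R])) →+ ↥(⋀[B]^p (Ω[B⁄S])))
    (hψ : DeRham.IsCxMap (KaehlerDifferential.D R A) (KaehlerDifferential.D S B) (algebraMap A B) ψ)
    (p : ℕ) (Φ : S ⊗[R] ↥(⋀[A]^p (Ω[A⁄R])) →+ ↥(⋀[B]^p (Ω[B⁄S])))
    (hΦ : ∀ (s : S) (x : ↥(⋀[A]^p (Ω[A⁄R]))), Φ (s ⊗ₜ[R] x) = s • ψ p x) :
    Function.Bijective Φ := by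
  classical
  let X := ↥(⋀[A]^p (Ω[A⁄R]))
  let e : B ⊗[A] Ω[A⁄R] ≃ₗ[B] Ω[B⁄S] := KaehlerDifferential.tensorKaehlerEquiv R S A B
  let c : B ⊗[A] X ≃ₗ[S] S ⊗[R] X := Algebra.IsPushout.cancelBaseChange R S A B X
  let L := Groth.Agent.Lib.helper22.ExtPowBC.Φ A B (Ω[A⁄R]) p
  have hL : Function.Bijective L := Groth.Agent.Lib.helper22.ExtPowBC.Φ_bijective A B (Ω[A⁄R]) p
  have h1 : (exteriorPower.map p (e.symm : Ω[B⁄S] →ₗ[B] B ⊗[A] Ω[A⁄R])).comp
      (exteriorPower.map p (e : B ⊗[A] Ω[A⁄R] →ₗ[B] Ω[B⁄S])) = LinearMap.id := by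
    rw [← exteriorPower.map_comp]
    have : (e.symm : Ω[B⁄S] →ₗ[B] B ⊗[A] Ω[A⁄R]).comp (e : B ⊗[A] Ω[A⁄R] →ₗ[B] Ω[B⁄S]) =
        LinearMap.id := LinearMap.ext fun x => e.symm_apply_apply x
    rw [this, exteriorPower.map_id]
  have h2 : (exteriorPower.map p (e : B ⊗[A] Ω[A⁄R] →ₗ[B] Ω[B⁄S])).comp
      (exteriorPower.map p (e.symm : Ω[B⁄S] →ₗ[B] B ⊗[A] Ω[A⁄R])) = LinearMap.id := by
    rw [← exteriorPower.map_comp]
    have : (e : B ⊗[A] Ω[A⁄R] →ₗ[B] Ω[B⁄S]).comp (e.symm : Ω[B⁄S] →ₗ[B] B ⊗[A] Ω[A⁄R]) =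
        LinearMap.id := LinearMap.ext fun x => e.apply_symm_apply x
    rw [this, exteriorPower.map_id]
  have hE : Function.Bijective (exteriorPower.map p (e : B ⊗[A] Ω[A⁄R] →ₗ[B] Ω[B⁄S])) := by
    refine ⟨fun x y hxy => ?_, fun y => ⟨exteriorPower.map p
      (e.symm : Ω[B⁄S] →ₗ[B] B ⊗[A] Ω[A⁄R]) y, ?_⟩⟩
    · have := congrArg (exteriorPower.map p (e.symm : Ω[B⁄S] →ₗ[B] B ⊗[A] Ω[A⁄R])) hxy
      rwa [← LinearMap.comp_apply, ← LinearMap.comp_apply, h1] at this
    · rw [← LinearMap.comp_apply, h2]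
      rfl
  have hΨ : Function.Bijective (fun z : S ⊗[R] X =>
      exteriorPower.map p (e : B ⊗[A] Ω[A⁄R] →ₗ[B] Ω[B⁄S]) (L (c.symm z))) :=
    hE.comp (hL.comp c.symm.bijective)
  have heq : ∀ z : S ⊗[R] X, Φ z =
      exteriorPower.map p (e : B ⊗[A] Ω[A⁄R] →ₗ[B] Ω[B⁄S]) (L (c.symm z)) := by
    intro z
    induction z with
    | zero => simp
    | add x y hx hy => rw [map_add, map_add, map_add, map_add, hx, hy]
    | tmul s x =>
      induction x using Groth.Agent.Lib.helper22.DeRhamGen.kaehler_gen_induction with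
      | zero => simp
      | add x y hx hy =>
        rw [TensorProduct.tmul_add, map_add, map_add, map_add, map_add, hx, hy]
      | gen b₀ b =>
        rw [hΦ, hψ p b₀ b]
        have hc : c.symm (s ⊗ₜ[R] DeRham.gen (KaehlerDifferential.D R A) p b₀ b) =
            algebraMap S B s ⊗ₜ[A] DeRham.gen (KaehlerDifferential.D R A) p b₀ b :=
          Algebra.IsPushout.cancelBaseChange_symm_tmul R S A B X s _
        have hT : Groth.Agent.Lib.helper22.ExtPowBC.T A B (Ω[A⁄R]) p
            (DeRham.gen (KaehlerDifferential.D R A) p b₀ b) =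
            algebraMap A B b₀ • ιMulti B p
              (fun i => (1 : B) ⊗ₜ[A] KaehlerDifferential.D R A (b i)) := by
          rw [DeRham.gen, map_smul, Groth.Agent.Lib.helper22.ExtPowBC.T_ιMulti, algebraMap_smul]
        rw [hc]
        simp only [L]
        rw [Groth.Agent.Lib.helper22.ExtPowBC.Φ_tmul, hT, map_smul, map_smul,
          exteriorPower.map_apply_ιMulti, DeRham.gen, ← algebraMap_smul B s]
        congr 3
        funext i
        simp [e]
  have : (Φ : S ⊗[R] X → _) = fun z =>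
      exteriorPower.map p (e : B ⊗[A] Ω[A⁄R] →ₗ[B] Ω[B⁄S]) (L (c.symm z)) := funext heq
  rw [this]
  exact hΨ

end Groth.Agent.S15295
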