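import Groth.Statements.S15297
import Groth.Agent.Lib.Helper22.DeRhamGen

set_option autoImplicit false
universe u
open DeRham

namespace Groth.Agent.S15297

open exteriorPower in
theorem comm_gen (R A : Type u) [CommRing R] [CommRing A] [Algebra R A]
    (d : ∀ p : ℕ, ↥(⋀[A]^p (Ω[A⁄R])) →ₗ[R] ↥(⋀[A]^(p + 1) (Ω[A⁄R])))
    (hd : DeRham.IsRule (KaehlerDifferential.D R A) d) (p : ℕ) (a b₀ : A) (b : Fin p → A) :
    Diff16.commutator R A _ _ (d p) a (DeRham.gen (KaehlerDifferential.D R A) p b₀ b) =
      b₀ • ιMulti A (p + 1) (Fin.cons (KaehlerDifferential.D R A a)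
        (fun i => KaehlerDifferential.D R A (b i)) : Fin (p + 1) → Ω[A⁄R]) := by
  have h1 : a • DeRham.gen (KaehlerDifferential.D R A) p b₀ b =
      DeRham.gen (KaehlerDifferential.D R A) p (a * b₀) b := by
    rw [DeRham.gen, DeRham.gen, smul_smul]
  simp only [Diff16.commutator, LinearMap.sub_apply, LinearMap.comp_apply,
    LinearMap.restrictScalars_apply, LinearMap.lsmul_apply]
  rw [h1, hd p, hd p, Derivation.leibniz]
  have h2 := (ιMulti A (p + 1) (M := Ω[A⁄R])).toMultilinearMap.cons_add
    (fun i => KaehlerDifferential.D R A (b i)) (a • KaehlerDifferential.D R A b₀)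
    (b₀ • KaehlerDifferential.D R A a)
  have h3 := (ιMulti A (p + 1) (M := Ω[A⁄R])).toMultilinearMap.cons_smul
    (fun i => KaehlerDifferential.D R A (b i)) a (KaehlerDifferential.D R A b₀)
  have h4 := (ιMulti A (p + 1) (M := Ω[A⁄R])).toMultilinearMap.cons_smul
    (fun i => KaehlerDifferential.D R A (b i)) b₀ (KaehlerDifferential.D R A a)
  simp only [AlternatingMap.coe_multilinearMap] at h2 h3 h4
  rw [h2, h3, h4]
  abel

open exteriorPower in
/-- Let R → A be a ring map and d a de Rham differential of the Kähler differentials of A over R. Then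
each d from p-forms to (p+1)-forms, an R-linear map between A-modules, is a differential operator of
order at most 1 relative to R → A: every commutator of d with multiplication by an element of A is
A-linear. -/
theorem result (R A : Type u) [CommRing R] [CommRing A] [Algebra R A]
    (d : ∀ p : ℕ, ↥(⋀[A]^p (Ω[A⁄R])) →ₗ[R] ↥(⋀[A]^(p + 1) (Ω[A⁄R])))
    (hd : DeRham.IsDiff (KaehlerDifferential.D R A) d) (p : ℕ) :
    Diff16.IsDiffOpLE R A ↥(⋀[A]^p (Ω[A⁄R])) ↥(⋀[A]^(p + 1) (Ω[A⁄R])) 1 (d p) := by
  intro a c x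
  induction x using Groth.Agent.Lib.helper22.DeRhamGen.kaehler_gen_induction with
  | zero => simp
  | add x y hx hy => rw [smul_add, map_add, map_add, hx, hy, smul_add]
  | gen b₀ b =>
    have h1 : c • DeRham.gen (KaehlerDifferential.D R A) p b₀ b =
        DeRham.gen (KaehlerDifferential.D R A) p (c * b₀) b := by
      rw [DeRham.gen, DeRham.gen, smul_smul]
    rw [h1, comm_gen R A d hd.1, comm_gen R A d hd.1, smul_smul]

end Groth.Agent.S15297
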