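import Groth.Statements.S15299
import Groth.Agent.Lib.Helper22.MvPolyDR

set_option autoImplicit false
universe u
open Omega

namespace Groth.Agent.S15299aux

open exteriorPower

variable {k : Type u} {A M : Type u} [CommRing k] [CommRing A] [Algebra k A] [AddCommGroup M]
  [Module A M] [Module k M] [IsScalarTower k A M] (δ : Derivation k A M)
  (d : ExteriorAlgebra A M →ₗ[k] ExteriorAlgebra A M)
  (h0 : ∀ a : A, d (algebraMap A _ a) = ExteriorAlgebra.ι A (δ a))
  (hdeg : ∀ (p : ℕ) (ω : ExteriorAlgebra A M), ω ∈ ⋀[A]^p M → d ω ∈ ⋀[A]^(p + 1) M)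
  (hder : ∀ (p : ℕ) (ω η : ExteriorAlgebra A M), ω ∈ ⋀[A]^p M →
    d (ω * η) = d ω * η + (-1) ^ p * ω * d η)
  (hdd : ∀ ω, d (d ω) = 0)

include h0 hder hdd in
theorem d_ιMulti (p : ℕ) (b : Fin p → A) :
    d (ExteriorAlgebra.ιMulti A p (fun i => δ (b i))) = 0 := by
  induction p with
  | zero =>
    rw [ExteriorAlgebra.ιMulti_zero_apply, ← map_one (algebraMap A (ExteriorAlgebra A M)), h0,
      Derivation.map_one_eq_zero, map_zero]
  | succ p ih =>
    rw [ExteriorAlgebra.ιMulti_succ_apply]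
    have hmem : ExteriorAlgebra.ι A (δ (b 0)) ∈ ⋀[A]^1 M := by
      unfold ExteriorAlgebra.exteriorPower
      rw [pow_one]
      exact ⟨_, rfl⟩
    rw [hder 1 _ _ hmem, ← h0, hdd, zero_mul, zero_add]
    have := ih (fun i => b i.succ)
    change d (ExteriorAlgebra.ιMulti A p (fun i => δ (b i.succ))) = 0 at this
    have hv : Matrix.vecTail (fun i => δ (b i)) = fun i => δ (b i.succ) := rfl
    rw [hv, this, mul_zero]

/-- The degreewise family. -/
noncomputable def dp (p : ℕ) : ↥(⋀[A]^p M) →ₗ[k] ↥(⋀[A]^(p + 1) M) where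
  toFun x := ⟨d x.1, hdeg p x.1 x.2⟩
  map_add' x y := Subtype.ext (by simp)
  map_smul' c x := Subtype.ext (by simp)

include h0 hder hdd in
theorem isRule : DeRham.IsRule δ (dp d hdeg) := by
  intro p b₀ b
  apply Subtype.ext
  change d ((b₀ • ιMulti A p (fun i => δ (b i)) : ↥(⋀[A]^p M)) : ExteriorAlgebra A M) = _
  rw [Submodule.coe_smul, exteriorPower.ιMulti_apply_coe, exteriorPower.ιMulti_apply_coe,
    Algebra.smul_def]
  have hmem : algebraMap A (ExteriorAlgebra A M) b₀ ∈ ⋀[A]^0 M := by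
    unfold ExteriorAlgebra.exteriorPower
    rw [pow_zero]
    exact Submodule.algebraMap_mem b₀
  rw [hder 0 _ _ hmem, d_ιMulti δ d h0 hder hdd, mul_zero, add_zero, h0,
    ExteriorAlgebra.ιMulti_succ_apply]
  rfl

include hdd in
theorem dd (p : ℕ) : dp d hdeg (p + 1) ∘ₗ dp d hdeg p = 0 := by
  ext x
  simp [dp, hdd]

end Groth.Agent.S15299aux

namespace Groth.Agent.S15299

/-- Let k be a field of characteristic zero, A = k[x_1, …, x_n] and Ω = Ω_{A/k}. Let d be a k-linear
endomorphism of the exterior algebra ⋀_A Ω which agrees with the universal derivation on A, sends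
⋀^p Ω into ⋀^(p+1) Ω, is a graded derivation and satisfies d ∘ d = 0 (these properties characterise
the de Rham differential). Then the de Rham complex 0 → k → A → Ω → ⋀^2 Ω → ⋯ → ⋀^n Ω → 0 is exact:
an element of A with d a = 0 is a constant, and every d-closed element of ⋀^(p+1) Ω is d of some
element of ⋀^p Ω. -/
theorem result (k : Type u) [Field k] [CharZero k] (n : ℕ)
    (d : ExteriorAlgebra (MvPolynomial (Fin n) k) (KaehlerDifferential k (MvPolynomial (Fin n) k)) →ₗ[k]
      ExteriorAlgebra (MvPolynomial (Fin n) k) (KaehlerDifferential k (MvPolynomial (Fin n) k)))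
    (h0 : ∀ a : MvPolynomial (Fin n) k,
      d (algebraMap (MvPolynomial (Fin n) k) _ a) =
        ExteriorAlgebra.ι (MvPolynomial (Fin n) k) (KaehlerDifferential.D k (MvPolynomial (Fin n) k) a))
    (hdeg : ∀ (p : ℕ) (ω : ExteriorAlgebra (MvPolynomial (Fin n) k) (KaehlerDifferential k (MvPolynomial (Fin n) k))),
      ω ∈ ExteriorAlgebra.exteriorPower (MvPolynomial (Fin n) k) p (KaehlerDifferential k (MvPolynomial (Fin n) k)) →
        d ω ∈ ExteriorAlgebra.exteriorPower (MvPolynomial (Fin n) k) (p + 1) (KaehlerDifferential k (MvPolynomial (Fin n) k)))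
    (hder : ∀ (p : ℕ) (ω η : ExteriorAlgebra (MvPolynomial (Fin n) k) (KaehlerDifferential k (MvPolynomial (Fin n) k))),
      ω ∈ ExteriorAlgebra.exteriorPower (MvPolynomial (Fin n) k) p (KaehlerDifferential k (MvPolynomial (Fin n) k)) →
        d (ω * η) = d ω * η + (-1) ^ p * ω * d η)
    (hdd : ∀ ω, d (d ω) = 0) :
    (∀ a : MvPolynomial (Fin n) k, d (algebraMap (MvPolynomial (Fin n) k) _ a) = 0 →
        ∃ c : k, a = MvPolynomial.C c) ∧
    ∀ (p : ℕ) (ω : ExteriorAlgebra (MvPolynomial (Fin n) k) (KaehlerDifferential k (MvPolynomial (Fin n) k))),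
      ω ∈ ExteriorAlgebra.exteriorPower (MvPolynomial (Fin n) k) (p + 1) (KaehlerDifferential k (MvPolynomial (Fin n) k)) →
        d ω = 0 →
          ∃ θ ∈ ExteriorAlgebra.exteriorPower (MvPolynomial (Fin n) k) p (KaehlerDifferential k (MvPolynomial (Fin n) k)),
            d θ = ω := by
  refine ⟨fun a ha => ?_, fun p ω hω hdω => ?_⟩
  · rw [h0] at ha
    have : KaehlerDifferential.D k (MvPolynomial (Fin n) k) a = 0 := by
      have h := (ExteriorAlgebra.ι_inj (MvPolynomial (Fin n) k)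
        (KaehlerDifferential.D k (MvPolynomial (Fin n) k) a) 0).mp (by rw [ha, map_zero])
      exact h
    exact Groth.Agent.Lib.helper22.MvPolyDR.const_of_D_eq_zero k (Fin n) a this
  · have hr := Groth.Agent.S15299aux.isRule (KaehlerDifferential.D k (MvPolynomial (Fin n) k)) d h0
      hdeg hder hdd
    have hdd' := Groth.Agent.S15299aux.dd d hdeg hdd
    obtain ⟨z, hz⟩ := Groth.Agent.Lib.helper22.MvPolyDR.exact_of_closed
      (Groth.Agent.S15299aux.dp d hdeg) hr hdd' p ⟨ω, hω⟩ (Subtype.ext hdω)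
    exact ⟨z.1, z.2, congrArg Subtype.val hz⟩

end Groth.Agent.S15299
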