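import Groth.Statements.S15300
import Mathlib
import Groth.Agent.Lib.Helper1.AbCxElem

set_option autoImplicit false
universe u
open HomAlg3

namespace Groth.Agent.S15300

set_option linter.style.haveILetI false
open CategoryTheory CategoryTheory.Limits Opposite HomologicalComplex
open Groth.Agent.H1.AbCxElem

/-! ### solving `y n - t (y (n+1)) = b n` in a surjective tower -/
section tower
variable (X : ℕ → Type u) [∀ n, AddCommGroup (X n)] (t : ∀ n, X (n + 1) →+ X n)
  (ht : ∀ n, Function.Surjective (t n))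

noncomputable def solve (b : ∀ n, X n) : ∀ n, X n
  | 0 => 0
  | n + 1 => Classical.choose (ht n (solve b n - b n))

include ht in
lemma solve_spec (b : ∀ n, X n) (n : ℕ) : solve X t ht b n - t n (solve X t ht b (n + 1)) = b n := by
  have : t n (solve X t ht b (n + 1)) = solve X t ht b n - b n :=
    Classical.choose_spec (ht n (solve X t ht b n - b n))
  rw [this]; abel

end tower

/-! ### concrete homology classes -/
section cls
variable (A : CochainComplex AddCommGrpCat.{u} ℤ) (i j : ℤ) (hj : i + 1 = j)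

noncomputable def cycEquiv : A.cycles i ≃+ (A.d i j).hom.ker :=
  AddEquiv.ofBijective ((A.iCycles i).hom.codRestrict (A.d i j).hom.ker (fun z => d_iCycles A i j z))
    ⟨fun z z' h => iCycles_injective A i (congrArg Subtype.val h), fun x => by
      obtain ⟨z, hz⟩ := exists_cycle A i j hj x.1 x.2
      exact ⟨z, Subtype.ext hz⟩⟩

noncomputable def clsHom : (A.d i j).hom.ker →+ A.homology i :=
  (A.homologyπ i).hom.comp (cycEquiv A i j hj).symm.toAddMonoidHom

lemma clsHom_iCycles (z : A.cycles i) (hz : A.iCycles i z ∈ (A.d i j).hom.ker) :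
    clsHom A i j hj ⟨A.iCycles i z, hz⟩ = A.homologyπ i z := by
  have : (cycEquiv A i j hj).symm ⟨A.iCycles i z, hz⟩ = z := by
    rw [AddEquiv.symm_apply_eq]; exact Subtype.ext rfl
  show A.homologyπ i ((cycEquiv A i j hj).symm ⟨A.iCycles i z, hz⟩) = _
  rw [this]

lemma clsHom_surjective : Function.Surjective (clsHom A i j hj) := by
  intro h
  obtain ⟨z, rfl⟩ := homologyπ_surjective A i h
  exact ⟨⟨A.iCycles i z, d_iCycles A i j z⟩, clsHom_iCycles A i j hj z _⟩

include hj in
lemma exists_rep (x : (A.d i j).hom.ker) : ∃ z : A.cycles i, A.iCycles i z = x.1 :=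
  exists_cycle A i j hj x.1 x.2

lemma clsHom_eq_zero_iff (h : ℤ) (hi : h + 1 = i) (x : (A.d i j).hom.ker) :
    clsHom A i j hj x = 0 ↔ ∃ y : A.X h, A.d h i y = x.1 := by
  obtain ⟨z, hz⟩ := exists_rep A i j hj x
  have hx : x = ⟨A.iCycles i z, by rw [hz]; exact x.2⟩ := Subtype.ext hz.symm
  rw [hx, clsHom_iCycles]
  constructor
  · intro h0
    obtain ⟨y, hy⟩ := exists_boundary A h i hi z h0
    exact ⟨y, by rw [← iCycles_toCycles, hy]⟩
  · rintro ⟨y, hy⟩
    have : z = A.toCycles h i y := by
      apply iCycles_injective A i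
      rw [iCycles_toCycles]; exact hy.symm
    rw [this, homologyπ_toCycles]

variable {A} {B : CochainComplex AddCommGrpCat.{u} ℤ} (f : A ⟶ B)

lemma f_mem_ker (x : (A.d i j).hom.ker) : f.f i x.1 ∈ (B.d i j).hom.ker := by
  show B.d i j (f.f i x.1) = 0
  have h1 : f.f j (A.d i j x.1) = B.d i j (f.f i x.1) := (congr($(f.comm i j).hom x.1)).symm
  rw [← h1]
  have : A.d i j x.1 = 0 := x.2
  rw [this, map_zero]

lemma clsHom_map (x : (A.d i j).hom.ker) :
    HomologicalComplex.homologyMap f i (clsHom A i j hj x) =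
      clsHom B i j hj ⟨f.f i x.1, f_mem_ker i j f x⟩ := by
  obtain ⟨z, hz⟩ := exists_rep A i j hj x
  have hx : x = ⟨A.iCycles i z, by rw [hz]; exact x.2⟩ := Subtype.ext hz.symm
  have h2 : (⟨f.f i x.1, f_mem_ker i j f x⟩ : (B.d i j).hom.ker) =
      ⟨B.iCycles i (HomologicalComplex.cyclesMap f i z), d_iCycles B i j _⟩ := by
    apply Subtype.ext
    show f.f i x.1 = B.iCycles i (HomologicalComplex.cyclesMap f i z)
    rw [iCycles_cyclesMap, hz]
  rw [h2, clsHom_iCycles]
  conv_lhs => rw [hx]
  rw [clsHom_iCycles, homologyMap_homologyπ]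

end cls


section main
variable (K : ℕᵒᵖ ⥤ HomologicalComplex AddCommGrpCat.{u} (ComplexShape.up ℤ))

noncomputable abbrev tr (n : ℕ) : K.obj (op (n + 1)) ⟶ K.obj (op n) :=
  K.map (homOfLE (Nat.le_succ n)).op

noncomputable abbrev tt (n : ℕ) (r : ℤ) : (K.obj (op (n + 1))).X r →+ (K.obj (op n)).X r :=
  ((tr K n).f r).hom

lemma compat_le (r : ℤ) (x : ∀ n : ℕ, (K.obj (op n)).X r) (h : ∀ n, tt K n r (x (n + 1)) = x n)
    (b : ℕ) : ∀ (a : ℕ) (hab : b ≤ a), (K.map (homOfLE hab).op).f r (x a) = x b := by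
  intro a hab
  induction a, hab using Nat.le_induction with
  | base =>
    have : (homOfLE (le_refl b)).op = 𝟙 (op b) := Subsingleton.elim _ _
    rw [this, K.map_id]; rfl
  | succ a hab ih =>
    have : (homOfLE (Nat.le_succ_of_le hab)).op = (homOfLE (Nat.le_succ a)).op ≫ (homOfLE hab).op :=
      Subsingleton.elim _ _
    rw [this, K.map_comp]
    show (K.map (homOfLE hab).op).f r (tt K a r (x (a + 1))) = x b
    rw [h a, ih]

lemma compat_all (r : ℤ) (x : ∀ n : ℕ, (K.obj (op n)).X r) (h : ∀ n, tt K n r (x (n + 1)) = x n) :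
    ∀ ⦃i j : ℕᵒᵖ⦄ (φ : i ⟶ j), (K.map φ).f r (x i.unop) = x j.unop := by
  intro i j φ
  have hle : j.unop ≤ i.unop := leOfHom φ.unop
  have : φ = (homOfLE hle).op := Subsingleton.elim _ _
  rw [this]
  exact compat_le K r x h j.unop i.unop hle

lemma L_ext (q : ℤ) (x x' : (limit K).X q)
    (h : ∀ n : ℕ, (limit.π K (op n)).f q x = (limit.π K (op n)).f q x') : x = x' := by
  have hc := isLimitOfPreserves (HomologicalComplex.eval _ _ q) (limit.isLimit K)
  exact Concrete.isLimit_ext _ hc x x' (fun i => h i.unop)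

lemma L_mk (q : ℤ) (x : ∀ n : ℕ, (K.obj (op n)).X q) (hx : ∀ n, tt K n q (x (n + 1)) = x n) :
    ∃ y : (limit K).X q, ∀ n : ℕ, (limit.π K (op n)).f q y = x n := by
  have hc := isLimitOfPreserves (HomologicalComplex.eval _ _ q) (limit.isLimit K)
  have hc' := isLimitOfPreserves (forget AddCommGrpCat) hc
  let s : ((K ⋙ HomologicalComplex.eval _ _ q) ⋙ forget AddCommGrpCat).sections :=
    ⟨fun i => x i.unop, fun φ => compat_all K q x hx φ⟩
  refine ⟨(Types.isLimitEquivSections hc').symm s, fun n => ?_⟩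
  exact Types.isLimitEquivSections_symm_apply hc' s (op n)

noncomputable def Lel (q : ℤ) (x : ∀ n : ℕ, (K.obj (op n)).X q)
    (hx : ∀ n, tt K n q (x (n + 1)) = x n) : (limit K).X q :=
  Classical.choose (L_mk K q x hx)

lemma Lel_spec (q : ℤ) (x : ∀ n : ℕ, (K.obj (op n)).X q)
    (hx : ∀ n, tt K n q (x (n + 1)) = x n) (n : ℕ) :
    (limit.π K (op n)).f q (Lel K q x hx) = x n :=
  Classical.choose_spec (L_mk K q x hx) n

lemma pi_tt (q : ℤ) (n : ℕ) (y : (limit K).X q) :
    tt K n q ((limit.π K (op (n + 1))).f q y) = (limit.π K (op n)).f q y := by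
  have h : limit.π K (op (n + 1)) ≫ tr K n = limit.π K (op n) := limit.w K _
  have h2 := congrArg (fun g => (HomologicalComplex.Hom.f g q)) h
  simp only [HomologicalComplex.comp_f] at h2
  exact congr($(h2).hom y)

lemma d_comm {A B : HomologicalComplex AddCommGrpCat.{u} (ComplexShape.up ℤ)} (f : A ⟶ B)
    (q q' : ℤ) (x : A.X q) : f.f q' (A.d q q' x) = B.d q q' (f.f q x) :=
  (congr($(f.comm q q').hom x)).symm

lemma d_tt (n : ℕ) (q q' : ℤ) (x : (K.obj (op (n + 1))).X q) :
    tt K n q' ((K.obj (op (n + 1))).d q q' x) = (K.obj (op n)).d q q' (tt K n q x) :=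
  d_comm (tr K n) q q' x

lemma d_d {A : HomologicalComplex AddCommGrpCat.{u} (ComplexShape.up ℤ)} (a b c : ℤ) (x : A.X a) :
    A.d b c (A.d a b x) = 0 :=
  congr($(A.d_comp_d a b c).hom x)


variable (q p : ℤ) (hqp : q + 1 = p)

/-- sequences whose "tower difference" consists of cycles -/
def W : AddSubgroup (∀ n : ℕ, (K.obj (op n)).X q) where
  carrier := {x | ∀ n, (K.obj (op n)).d q p (x n - tt K n q (x (n + 1))) = 0}
  zero_mem' := by intro n; simp
  add_mem' := by
    intro x y hx hy n
    have : (x + y) n - tt K n q ((x + y) (n + 1)) =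
        (x n - tt K n q (x (n + 1))) + (y n - tt K n q (y (n + 1))) := by
      simp only [Pi.add_apply, map_add]; abel
    rw [this, map_add, hx n, hy n, add_zero]
  neg_mem' := by
    intro x hx n
    have : (-x) n - tt K n q ((-x) (n + 1)) = -(x n - tt K n q (x (n + 1))) := by
      simp only [Pi.neg_apply, map_neg]; abel
    rw [this, map_neg, hx n, neg_zero]

lemma W_compat (x : W K q p) (n : ℕ) :
    tt K n p ((K.obj (op (n + 1))).d q p (x.1 (n + 1))) = (K.obj (op n)).d q p (x.1 n) := by
  have h := x.2 n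
  rw [map_sub, sub_eq_zero] at h
  rw [d_tt, ← h]

noncomputable def ell (x : W K q p) : (limit K).X p :=
  Lel K p (fun n => (K.obj (op n)).d q p (x.1 n)) (W_compat K q p x)

lemma ell_spec (x : W K q p) (n : ℕ) :
    (limit.π K (op n)).f p (ell K q p x) = (K.obj (op n)).d q p (x.1 n) :=
  Lel_spec K p _ _ n

lemma ell_mem (x : W K q p) : ell K q p x ∈ ((limit K).d p (p + 1)).hom.ker := by
  show (limit K).d p (p + 1) (ell K q p x) = 0
  apply L_ext K (p + 1)
  intro n
  rw [d_comm, ell_spec, d_d, map_zero]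

lemma ell_add (x y : W K q p) : ell K q p (x + y) = ell K q p x + ell K q p y := by
  apply L_ext K p
  intro n
  rw [map_add, ell_spec, ell_spec, ell_spec]
  show (K.obj (op n)).d q p (x.1 n + y.1 n) = _
  rw [map_add]

noncomputable def ellHom : W K q p →+ ((limit K).d p (p + 1)).hom.ker :=
  AddMonoidHom.mk' (fun x => ⟨ell K q p x, ell_mem K q p x⟩) (by
    intro x y
    apply Subtype.ext
    exact ell_add K q p x y)

noncomputable def β : W K q p →+
    ((HomologicalComplex.homologyFunctor AddCommGrpCat.{u} (ComplexShape.up ℤ) p).obj (limit K)) :=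
  ((clsHom (limit K) p (p + 1) rfl).comp (ellHom K q p) : W K q p →+ (limit K).homology p)

lemma β_apply (x : W K q p) :
    β K q p x = clsHom (limit K) p (p + 1) rfl ⟨ell K q p x, ell_mem K q p x⟩ := rfl

noncomputable def α : W K q p →+ ∀ n : ℕ, (K.obj (op n)).homology q :=
  AddMonoidHom.mk' (fun x n => clsHom (K.obj (op n)) q p hqp
      ⟨x.1 n - tt K n q (x.1 (n + 1)), x.2 n⟩) (by
    intro x y
    funext n
    rw [Pi.add_apply, ← map_add]
    congr 1
    apply Subtype.ext
    show (x.1 + y.1) n - tt K n q ((x.1 + y.1) (n + 1)) =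
      (x.1 n - tt K n q (x.1 (n + 1))) + (y.1 n - tt K n q (y.1 (n + 1)))
    simp only [Pi.add_apply, map_add]; abel)


lemma hpost (i : ℕᵒᵖ) (h : (limit K).homology p) :
    (limit.π (K ⋙ HomologicalComplex.homologyFunctor _ _ p) i).hom
      ((limit.post K (HomologicalComplex.homologyFunctor _ _ p)).hom h) =
        HomologicalComplex.homologyMap (limit.π K i) p h :=
  congr($(limit.post_π K (HomologicalComplex.homologyFunctor _ _ p) i).hom h)

lemma α_surj (hK : ∀ (n : ℕ) (r : ℤ), Function.Surjective (tt K n r)) :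
    Function.Surjective (α K q p hqp) := by
  intro h
  choose c hc using fun n => clsHom_surjective (K.obj (op n)) q p hqp (h n)
  have hx := solve_spec (fun n => (K.obj (op n)).X q) (fun n => tt K n q) (fun n => hK n q)
    (fun n => (c n).1)
  refine ⟨⟨solve (fun n => (K.obj (op n)).X q) (fun n => tt K n q) (fun n => hK n q)
    (fun n => (c n).1), fun n => by rw [hx n]; exact (c n).2⟩, ?_⟩
  funext n
  show clsHom _ q p hqp ⟨_, _⟩ = h n
  rw [← hc n]
  congr 1
  exact Subtype.ext (hx n)

include hqp in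
lemma range_β : (β K q p).range =
    (limit.post K (HomologicalComplex.homologyFunctor _ _ p)).hom.ker := by
  ext h
  constructor
  · rintro ⟨x, rfl⟩
    show (limit.post K (HomologicalComplex.homologyFunctor _ _ p)).hom (β K q p x) = 0
    apply Concrete.limit_ext
    intro i
    obtain ⟨n⟩ := i
    have h1 := hpost K p (op n) (β K q p x)
    have h2 : HomologicalComplex.homologyMap (limit.π K (op n)) p (β K q p x) = 0 := by
      rw [β_apply, clsHom_map, clsHom_eq_zero_iff _ p (p + 1) rfl q hqp]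
      exact ⟨x.1 n, (ell_spec K q p x n).symm⟩
    rw [h2] at h1
    exact h1.trans (map_zero _).symm
  · intro hh
    replace hh : (limit.post K (HomologicalComplex.homologyFunctor _ _ p)).hom h = 0 := hh
    obtain ⟨⟨ζ, hζ⟩, rfl⟩ := clsHom_surjective (limit K) p (p + 1) rfl h
    have h0 : ∀ n : ℕ, clsHom (K.obj (op n)) p (p + 1) rfl
        ⟨(limit.π K (op n)).f p ζ, f_mem_ker p (p + 1) (limit.π K (op n)) ⟨ζ, hζ⟩⟩ = 0 := by
      intro n
      have e1 := clsHom_map p (p + 1) rfl (limit.π K (op n)) ⟨ζ, hζ⟩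
      rw [← hpost K p (op n), hh, map_zero] at e1
      exact e1.symm
    choose x hx using fun n => (clsHom_eq_zero_iff _ p (p + 1) rfl q hqp _).1 (h0 n)
    have hxW : x ∈ W K q p := by
      intro n
      rw [map_sub, ← d_tt, hx n, hx (n + 1)]
      show (limit.π K (op n)).f p ζ - tt K n p ((limit.π K (op (n + 1))).f p ζ) = 0
      rw [pi_tt, sub_self]
    refine ⟨⟨x, hxW⟩, ?_⟩
    rw [β_apply]
    congr 1
    apply Subtype.ext
    apply L_ext K p
    intro n
    rw [ell_spec]
    exact hx n


/-- the tower-difference map on the `H^q` -/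
noncomputable abbrev δH : (∀ n : ℕ, (K.obj (op n)).homology q) →+ (∀ n : ℕ, (K.obj (op n)).homology q) :=
  Formal2.towerDiff (fun n => (K.obj (op n)).homology q)
    (fun n => (HomologicalComplex.homologyMap (K.map (homOfLE (Nat.le_succ n)).op) q).hom)

lemma δH_apply (g : ∀ n : ℕ, (K.obj (op n)).homology q) (n : ℕ) :
    δH K q g n = g n - HomologicalComplex.homologyMap (tr K n) q (g (n + 1)) := rfl

lemma α_apply (x : W K q p) (n : ℕ) :
    α K q p hqp x n = clsHom (K.obj (op n)) q p hqp ⟨x.1 n - tt K n q (x.1 (n + 1)), x.2 n⟩ := rfl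

lemma ker_β (r : ℤ) (hrq : r + 1 = q)
    (hK : ∀ (n : ℕ) (r : ℤ), Function.Surjective (tt K n r)) :
    (β K q p).ker = (δH K q).range.comap (α K q p hqp) := by
  ext x
  rw [AddSubgroup.mem_comap, AddMonoidHom.mem_ker, β_apply]
  constructor
  · intro hx
    obtain ⟨lam, hlam⟩ := (clsHom_eq_zero_iff _ p (p + 1) rfl q hqp _).1 hx
    replace hlam : (limit K).d q p lam = ell K q p x := hlam
    have he : ∀ n : ℕ, x.1 n - (limit.π K (op n)).f q lam ∈ ((K.obj (op n)).d q p).hom.ker := by
      intro n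
      show (K.obj (op n)).d q p (x.1 n - (limit.π K (op n)).f q lam) = 0
      rw [map_sub, ← d_comm, hlam, ell_spec, sub_self]
    refine ⟨fun n => clsHom (K.obj (op n)) q p hqp ⟨_, he n⟩, ?_⟩
    funext n
    rw [δH_apply, α_apply, clsHom_map, ← map_sub]
    congr 1
    apply Subtype.ext
    show (x.1 n - (limit.π K (op n)).f q lam) -
      tt K n q (x.1 (n + 1) - (limit.π K (op (n + 1))).f q lam) = _
    rw [map_sub, pi_tt]
    abel
  · rintro ⟨g, hg⟩
    choose e he using fun n => clsHom_surjective (K.obj (op n)) q p hqp (g n)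
    have h0 : ∀ n : ℕ, clsHom (K.obj (op n)) q p hqp
        ((⟨x.1 n - tt K n q (x.1 (n + 1)), x.2 n⟩ : ((K.obj (op n)).d q p).hom.ker) -
          (e n - ⟨tt K n q (e (n + 1)).1, f_mem_ker q p (tr K n) (e (n + 1))⟩)) = 0 := by
      intro n
      have h1 := congrFun hg n
      rw [δH_apply, α_apply] at h1
      rw [map_sub, map_sub, ← clsHom_map, he, he, ← h1, sub_self]
    choose b hb using fun n => (clsHom_eq_zero_iff _ q p hqp r hrq _).1 (h0 n)
    have hb' : ∀ n : ℕ, (K.obj (op n)).d r q (b n) =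
        (x.1 n - tt K n q (x.1 (n + 1))) - ((e n).1 - tt K n q (e (n + 1)).1) := hb
    have hy := solve_spec (fun n => (K.obj (op n)).X r) (fun n => tt K n r) (fun n => hK n r) b
    set y := solve (fun n => (K.obj (op n)).X r) (fun n => tt K n r) (fun n => hK n r) b with hydef
    have hcompat : ∀ n : ℕ, tt K n q (x.1 (n + 1) - (e (n + 1)).1 - (K.obj (op (n + 1))).d r q (y (n + 1))) =
        x.1 n - (e n).1 - (K.obj (op n)).d r q (y n) := by
      intro n
      have h2 : (K.obj (op n)).d r q (y n) - tt K n q ((K.obj (op (n + 1))).d r q (y (n + 1))) =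
          (K.obj (op n)).d r q (b n) := by
        rw [d_tt, ← map_sub, hy n]
      have h3 := hb' n
      rw [map_sub, map_sub]
      rw [← h2] at h3
      have h4 : ∀ (a1 a2 a3 b1 b2 b3 : (K.obj (op n)).X q), b3 - a3 = (b1 - a1) - (b2 - a2) →
          a1 - a2 - a3 = b1 - b2 - b3 := by
        intro a1 a2 a3 b1 b2 b3 h
        have : a3 = b3 - ((b1 - a1) - (b2 - a2)) := by rw [← h]; abel
        rw [this]; abel
      exact h4 _ _ _ _ _ _ h3
    have hex : ∃ lam : (limit K).X q, (limit K).d q p lam = ell K q p x := by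
      refine ⟨Lel K q (fun n => x.1 n - (e n).1 - (K.obj (op n)).d r q (y n)) hcompat, ?_⟩
      apply L_ext K p
      intro n
      rw [d_comm, Lel_spec, ell_spec, map_sub, map_sub, d_d, sub_zero]
      have : (K.obj (op n)).d q p (e n).1 = 0 := (e n).2
      rw [this, sub_zero]
    exact (clsHom_eq_zero_iff _ p (p + 1) rfl q hqp _).2 hex


include hqp in
lemma post_surj (hK : ∀ (n : ℕ) (r : ℤ), Function.Surjective (tt K n r)) :
    Function.Surjective (limit.post K (HomologicalComplex.homologyFunctor _ _ p)).hom := by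
  intro y
  have hcomp : ∀ n : ℕ, HomologicalComplex.homologyMap (tr K n) p
      ((limit.π (K ⋙ HomologicalComplex.homologyFunctor _ _ p) (op (n + 1))).hom y) =
        (limit.π (K ⋙ HomologicalComplex.homologyFunctor _ _ p) (op n)).hom y := by
    intro n
    exact congr($(limit.w (K ⋙ HomologicalComplex.homologyFunctor _ _ p)
      (homOfLE (Nat.le_succ n)).op).hom y)
  choose z hz using fun n : ℕ => clsHom_surjective (K.obj (op n)) p (p + 1) rfl
    ((limit.π (K ⋙ HomologicalComplex.homologyFunctor _ _ p) (op n)).hom y)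
  have h0 : ∀ n : ℕ, clsHom (K.obj (op n)) p (p + 1) rfl
      (z n - ⟨tt K n p (z (n + 1)).1, f_mem_ker p (p + 1) (tr K n) (z (n + 1))⟩) = 0 := by
    intro n
    rw [map_sub, ← clsHom_map, hz, hz, hcomp, sub_self]
  choose b hb using fun n => (clsHom_eq_zero_iff _ p (p + 1) rfl q hqp _).1 (h0 n)
  have hb' : ∀ n : ℕ, (K.obj (op n)).d q p (b n) = (z n).1 - tt K n p (z (n + 1)).1 := hb
  have hy := solve_spec (fun n => (K.obj (op n)).X q) (fun n => tt K n q) (fun n => hK n q) b
  set w := solve (fun n => (K.obj (op n)).X q) (fun n => tt K n q) (fun n => hK n q) b with hwdef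
  have hcompat : ∀ n : ℕ, tt K n p ((z (n + 1)).1 - (K.obj (op (n + 1))).d q p (w (n + 1))) =
      (z n).1 - (K.obj (op n)).d q p (w n) := by
    intro n
    have h2 : (K.obj (op n)).d q p (w n) - tt K n p ((K.obj (op (n + 1))).d q p (w (n + 1))) =
        (K.obj (op n)).d q p (b n) := by
      rw [d_tt, ← map_sub, hy n]
    have h3 := hb' n
    rw [map_sub]
    rw [← h2] at h3
    have h4 : ∀ (a1 a3 b1 b3 : (K.obj (op n)).X p), b3 - a3 = b1 - a1 → a1 - a3 = b1 - b3 := by
      intro a1 a3 b1 b3 h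
      have : a3 = b3 - (b1 - a1) := by rw [← h]; abel
      rw [this]; abel
    exact h4 _ _ _ _ h3
  have hζ : Lel K p (fun n => (z n).1 - (K.obj (op n)).d q p (w n)) hcompat ∈
      ((limit K).d p (p + 1)).hom.ker := by
    show (limit K).d p (p + 1) _ = 0
    apply L_ext K (p + 1)
    intro n
    rw [d_comm, Lel_spec, map_sub, d_d, sub_zero, map_zero]
    exact (z n).2
  refine ⟨clsHom (limit K) p (p + 1) rfl ⟨_, hζ⟩, ?_⟩
  apply Concrete.limit_ext
  intro i
  obtain ⟨n⟩ := i
  have h1 := hpost K p (op n) (clsHom (limit K) p (p + 1) rfl ⟨_, hζ⟩)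
  rw [clsHom_map] at h1
  refine h1.trans ?_
  rw [← hz n]
  have h5 : (⟨(limit.π K (op n)).f p (Lel K p (fun n => (z n).1 - (K.obj (op n)).d q p (w n)) hcompat),
      f_mem_ker p (p + 1) (limit.π K (op n)) ⟨_, hζ⟩⟩ : ((K.obj (op n)).d p (p + 1)).hom.ker) =
      z n - ⟨(K.obj (op n)).d q p (w n), d_d q p (p + 1) (w n)⟩ := by
    apply Subtype.ext
    exact Lel_spec K p _ hcompat n
  rw [h5, map_sub]
  have h6 : clsHom (K.obj (op n)) p (p + 1) rfl
      ⟨(K.obj (op n)).d q p (w n), d_d q p (p + 1) (w n)⟩ = 0 :=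
    (clsHom_eq_zero_iff _ p (p + 1) rfl q hqp _).2 ⟨w n, rfl⟩
  rw [h6, sub_zero]

include hqp in
theorem main
    (hK : ∀ (n : ℕ) (q : ℤ), Function.Surjective ((K.map (homOfLE (Nat.le_succ n)).op).f q).hom) :
    Function.Surjective (limit.post K (HomologicalComplex.homologyFunctor _ _ p)).hom ∧
      Nonempty ((limit.post K (HomologicalComplex.homologyFunctor _ _ p)).hom.ker ≃+
        Formal2.limOne (fun n => (K.obj (op n)).homology q)
          (fun n => (HomologicalComplex.homologyMap (K.map (homOfLE (Nat.le_succ n)).op) q).hom)) := by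
  have hK' : ∀ (n : ℕ) (r : ℤ), Function.Surjective (tt K n r) := hK
  refine ⟨post_surj K q p hqp hK', ?_⟩
  -- γ : W → lim¹
  let γ : W K q p →+ Formal2.limOne (fun n => (K.obj (op n)).homology q)
      (fun n => (HomologicalComplex.homologyMap (K.map (homOfLE (Nat.le_succ n)).op) q).hom) :=
    (QuotientAddGroup.mk' (δH K q).range).comp (α K q p hqp)
  have hγs : Function.Surjective γ :=
    (QuotientAddGroup.mk'_surjective _).comp (α_surj K q p hqp hK')
  have hker : γ.ker = (β K q p).ker := by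
    rw [ker_β K q p hqp (q - 1) (by ring) hK']
    ext x
    rw [AddMonoidHom.mem_ker, AddSubgroup.mem_comap]
    show (QuotientAddGroup.mk' (δH K q).range) (α K q p hqp x) = 0 ↔ _
    rw [QuotientAddGroup.mk'_apply, QuotientAddGroup.eq_zero_iff]
  have e1 := QuotientAddGroup.quotientKerEquivOfSurjective γ hγs
  have e2 := QuotientAddGroup.quotientKerEquivRange (β K q p)
  have e3 := QuotientAddGroup.quotientAddEquivOfEq hker
  have e4 := AddEquiv.addSubgroupCongr (range_β K q p hqp)
  exact ⟨e4.symm.trans (e2.symm.trans (e3.symm.trans e1))⟩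

end main



open CategoryTheory CategoryTheory.Limits Opposite in
/-- For abelian groups, let (A_n)_n be a tower of cochain complexes of abelian groups, indexed by the
natural numbers, all of whose transition maps A_{n+1}^p → A_n^p are surjective. Then for every p
there is a short exact sequence 0 → lim¹_n h^(p-1)(A_n) → h^p(lim_n A_n) → lim_n h^p(A_n) → 0: the
comparison map h^p(lim A_n) → lim h^p(A_n) is surjective and its kernel is isomorphic to lim¹ of the
tower of the (p-1)-st cohomology groups (existence of an isomorphism only). (The published statement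
is made in an axiomatic setting that also covers quasi-coherent sheaves; this row is the case of
abelian groups.) -/
theorem result
    (K : ℕᵒᵖ ⥤ HomologicalComplex AddCommGrpCat.{u} (ComplexShape.up ℤ))
    (hK : ∀ (n : ℕ) (q : ℤ), Function.Surjective ((K.map (homOfLE (Nat.le_succ n)).op).f q).hom)
    (p q : ℤ) (hqp : q + 1 = p) :
    Function.Surjective (limit.post K (HomologicalComplex.homologyFunctor _ _ p)).hom ∧
      Nonempty ((limit.post K (HomologicalComplex.homologyFunctor _ _ p)).hom.ker ≃+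
        Formal2.limOne (fun n => (K.obj (op n)).homology q)
          (fun n => (HomologicalComplex.homologyMap (K.map (homOfLE (Nat.le_succ n)).op) q).hom)) := by
  exact main K q p hqp hK

end Groth.Agent.S15300
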