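import Groth.Statements.S15302
import Mathlib
-- import your own Groth.Agent.* helpers here

set_option autoImplicit false
universe v u
open HomAlg3

namespace Groth.Agent.S15302

section Aux
open CategoryTheory CategoryTheory.Limits
namespace S15302aux

variable {C : Type u} [Category.{v} C] [Abelian C]

/-- a split epi gives a biproduct decomposition with the epi as first projection -/
lemma exists_iso_biprod_of_split {X Y : C} (r : X ⟶ Y) (s : Y ⟶ X) (h : s ≫ r = 𝟙 Y) :
    ∃ (K : C) (e : X ≅ Y ⊞ K), r = e.hom ≫ biprod.fst := by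
  have h1 : (𝟙 X - r ≫ s) ≫ r = 0 := by
    rw [Preadditive.sub_comp, Category.assoc, h, Category.comp_id, Category.id_comp, sub_self]
  refine ⟨kernel r, ⟨biprod.lift r (kernel.lift r (𝟙 X - r ≫ s) h1),
    biprod.desc s (kernel.ι r), ?_, ?_⟩, ?_⟩
  · rw [biprod.lift_desc, kernel.lift_ι]
    abel
  · apply biprod.hom_ext'
    · rw [biprod.inl_desc_assoc, Category.comp_id]
      apply biprod.hom_ext
      · rw [Category.assoc, biprod.lift_fst, h, biprod.inl_fst]
      · rw [Category.assoc, biprod.lift_snd, biprod.inl_snd]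
        apply (cancel_mono (kernel.ι r)).1
        rw [Category.assoc, kernel.lift_ι, zero_comp, Preadditive.comp_sub, Category.comp_id,
          ← Category.assoc, h, Category.id_comp, sub_self]
    · rw [biprod.inr_desc_assoc, Category.comp_id]
      apply biprod.hom_ext
      · rw [Category.assoc, biprod.lift_fst, kernel.condition, biprod.inr_fst]
      · rw [Category.assoc, biprod.lift_snd, biprod.inr_snd]
        apply (cancel_mono (kernel.ι r)).1
        rw [Category.assoc, kernel.lift_ι, Category.id_comp, Preadditive.comp_sub, Category.comp_id,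
          ← Category.assoc, kernel.condition, zero_comp, sub_zero]
  · rw [biprod.lift_fst]

variable (I : CochainComplex C ℕ)

open ZeroObject in
/-- shifted objects -/
noncomputable def sh : ℕ → C
  | 0 => 0
  | (q + 1) => I.X q

open ZeroObject in
lemma isZero_sh_zero : IsZero (sh I 0) := isZero_zero C

/-- the shifted differential -/
noncomputable def dd : ∀ q : ℕ, sh I q ⟶ I.X q
  | 0 => 0
  | (q + 1) => I.d q (q + 1)

lemma dd_d (q : ℕ) : dd I q ≫ I.d q (q + 1) = 0 := by
  cases q with
  | zero => exact zero_comp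
  | succ q => exact I.d_comp_d _ _ _

/-- the identification -/
noncomputable def ss (q : ℕ) : I.X q ⟶ sh I (q + 1) := 𝟙 (I.X q)

/-- the inverse identification -/
noncomputable def tt (q : ℕ) : sh I (q + 1) ⟶ I.X q := 𝟙 (I.X q)

lemma ss_tt (q : ℕ) : ss I q ≫ tt I q = 𝟙 _ := Category.id_comp _

lemma tt_ss (q : ℕ) : tt I q ≫ ss I q = 𝟙 _ := Category.id_comp _

lemma ss_dd (q : ℕ) : ss I q ≫ dd I (q + 1) = I.d q (q + 1) := Category.id_comp _

/-- the differential of the disk complex -/
noncomputable def dk (q : ℕ) : I.X q ⊞ sh I q ⟶ I.X (q + 1) ⊞ sh I (q + 1) :=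
  biprod.fst ≫ ss I q ≫ biprod.inr

lemma dk_dk (q : ℕ) : dk I q ≫ dk I (q + 1) = 0 := by
  unfold dk
  simp only [Category.assoc, biprod.inr_fst_assoc, zero_comp, comp_zero]

/-- the disk complex -/
noncomputable def Dk : CochainComplex C ℕ :=
  CochainComplex.of (fun q => I.X q ⊞ sh I q) (dk I) (dk_dk I)

lemma Dk_d (q : ℕ) : (Dk I).d q (q + 1) = dk I q := by
  unfold Dk
  simp only [CochainComplex.of_d]

/-- components of the projection -/
noncomputable def pkf (q : ℕ) : I.X q ⊞ sh I q ⟶ I.X q := biprod.desc (𝟙 _) (dd I q)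

lemma pkf_comm (q : ℕ) : pkf I q ≫ I.d q (q + 1) = dk I q ≫ pkf I (q + 1) := by
  unfold dk pkf
  apply biprod.hom_ext'
  · simp only [Category.assoc, biprod.inl_desc_assoc, Category.id_comp, biprod.inl_fst_assoc,
      biprod.inr_desc, ss_dd]
  · simp only [Category.assoc, biprod.inr_desc_assoc, biprod.inr_fst_assoc, zero_comp, dd_d]

/-- the projection -/
noncomputable def pk : Dk I ⟶ I where
  f q := pkf I q
  comm' := by
    rintro i _ rfl
    rw [Dk_d]
    exact pkf_comm I i

lemma inl_pk (q : ℕ) : (biprod.inl : I.X q ⟶ I.X q ⊞ sh I q) ≫ (pk I).f q = 𝟙 _ := by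
  show biprod.inl ≫ biprod.desc (𝟙 _) (dd I q) = 𝟙 _
  rw [biprod.inl_desc]


lemma fst_eq_zero_of_comp_dk {A : C} (q : ℕ) (x : A ⟶ I.X q ⊞ sh I q) (hx : x ≫ dk I q = 0) :
    x ≫ biprod.fst = 0 := by
  have := hx =≫ (biprod.snd ≫ tt I q)
  unfold dk at this
  simpa only [Category.assoc, biprod.inr_snd_assoc, ss_tt, Category.comp_id, zero_comp] using this

lemma exact_core (j : ℕ) {A : C} (x : A ⟶ I.X (j + 1) ⊞ sh I (j + 1))
    (hx : x ≫ dk I (j + 1) = 0) :
    x = (x ≫ biprod.snd ≫ tt I j ≫ biprod.inl) ≫ dk I j := by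
  have h1 := fst_eq_zero_of_comp_dk I (j + 1) x hx
  unfold dk
  simp only [Category.assoc, biprod.inl_fst_assoc]
  rw [← Category.assoc (tt I j), tt_ss, Category.id_comp]
  have h2 : x = x ≫ (biprod.fst ≫ biprod.inl + biprod.snd ≫ biprod.inr) := by
    rw [biprod.total, Category.comp_id]
  conv_lhs => rw [h2]
  rw [Preadditive.comp_add, ← Category.assoc, h1, zero_comp, zero_add]

lemma exact_core0 {A : C} (x : A ⟶ I.X 0 ⊞ sh I 0) (hx : x ≫ dk I 0 = 0) : x = 0 := by
  have h1 := fst_eq_zero_of_comp_dk I 0 x hx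
  have h3 : x ≫ biprod.snd = 0 := (isZero_sh_zero I).eq_of_tgt _ _
  have h2 : x = x ≫ (biprod.fst ≫ biprod.inl + biprod.snd ≫ biprod.inr) := by
    rw [biprod.total, Category.comp_id]
  rw [h2, Preadditive.comp_add, ← Category.assoc, h1, zero_comp, zero_add, ← Category.assoc, h3,
    zero_comp]

lemma Dk_exactAt_succ (j : ℕ) : (Dk I).ExactAt (j + 1) := by
  rw [(Dk I).exactAt_iff' j (j + 1) (j + 2) (by simp) (by simp),
    ShortComplex.exact_iff_exact_up_to_refinements]
  intro A x₂ hx
  replace hx : x₂ ≫ (Dk I).d (j + 1) (j + 2) = 0 := hx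
  rw [Dk_d] at hx
  refine ⟨A, 𝟙 A, inferInstance, x₂ ≫ biprod.snd ≫ tt I j ≫ biprod.inl, ?_⟩
  show 𝟙 A ≫ x₂ = (x₂ ≫ biprod.snd ≫ tt I j ≫ biprod.inl) ≫ (Dk I).d j (j + 1)
  rw [Dk_d, Category.id_comp]
  exact exact_core I j x₂ hx

lemma Dk_exactAt_zero : (Dk I).ExactAt 0 := by
  rw [(Dk I).exactAt_iff' 0 0 1 (by simp) (by simp),
    ShortComplex.exact_iff_exact_up_to_refinements]
  intro A x₂ hx
  replace hx : x₂ ≫ (Dk I).d 0 1 = 0 := hx
  rw [Dk_d] at hx
  refine ⟨A, 𝟙 A, inferInstance, 0, ?_⟩
  rw [Category.id_comp, zero_comp]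
  exact exact_core0 I x₂ hx

lemma Dk_exactAt (q : ℕ) : (Dk I).ExactAt q := by
  cases q with
  | zero => exact Dk_exactAt_zero I
  | succ j => exact Dk_exactAt_succ I j


lemma quasiIso_inl {ι : Type*} {c : ComplexShape ι} (K D : HomologicalComplex C c)
    (hD : ∀ i, D.ExactAt i) : QuasiIso (biprod.inl : K ⟶ K ⊞ D) := by
  rw [quasiIso_iff]
  intro i
  rw [quasiIsoAt_iff_isIso_homologyMap]
  have hz : IsZero (D.homology i) := (D.exactAt_iff_isZero_homology i).1 (hD i)
  refine ⟨HomologicalComplex.homologyMap biprod.fst i, ?_, ?_⟩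
  · rw [← HomologicalComplex.homologyMap_comp, biprod.inl_fst, HomologicalComplex.homologyMap_id]
  · have h : (biprod.fst : K ⊞ D ⟶ K) ≫ biprod.inl = 𝟙 _ - biprod.snd ≫ biprod.inr := by
      rw [← biprod.total]; abel
    rw [← HomologicalComplex.homologyMap_comp, h, HomologicalComplex.homologyMap_sub,
      HomologicalComplex.homologyMap_id, HomologicalComplex.homologyMap_comp,
      hz.eq_of_tgt (HomologicalComplex.homologyMap biprod.snd i) 0, zero_comp, sub_zero]

instance injective_sh [∀ q, Injective (I.X q)] (q : ℕ) : Injective (sh I q) := by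
  cases q with
  | zero => exact (isZero_sh_zero I).injective
  | succ q => exact (inferInstance : Injective (I.X q))

instance injective_Dk [∀ q, Injective (I.X q)] (q : ℕ) : Injective ((Dk I).X q) :=
  (inferInstance : Injective (I.X q ⊞ sh I q))


end S15302aux
end Aux


open CategoryTheory CategoryTheory.Limits in
/-- In an abelian category with enough injectives, let α : G ⟶ F be a morphism and I an injective
resolution of F. Then G has an injective resolution J together with a morphism of cochain complexes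
β : J ⟶ I lying over α (the augmentations commute with α and β) such that for every p there are an
object K^p and an isomorphism J^p ≅ I^p ⊕ K^p identifying β^p with the projection onto the first
factor (so K^p is injective as well). (The published statement is for abelian sheaves on a
topological space; its proof uses only an embedding of G into an injective object and cokernels, so
the row is stated in any abelian category with enough injectives.) -/
theorem result {C : Type u} [Category.{v} C] [Abelian C]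
    [EnoughInjectives C] {G F : C} (α : G ⟶ F) (I : InjectiveResolution F) :
    ∃ (J : InjectiveResolution G) (β : J.cocomplex ⟶ I.cocomplex),
      J.ι ≫ β = (CochainComplex.single₀ C).map α ≫ I.ι ∧
      ∀ p : ℕ, ∃ (K : C) (e : J.cocomplex.X p ≅ I.cocomplex.X p ⊞ K), β.f p = e.hom ≫ biprod.fst := by
  classical
  let J₀ : InjectiveResolution G := injectiveResolution G
  let β₀ := InjectiveResolution.desc α I J₀
  let D := S15302aux.Dk I.cocomplex
  let Jc : CochainComplex C ℕ := J₀.cocomplex ⊞ D
  have hinj : ∀ n, Injective (Jc.X n) := fun n =>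
    Injective.of_iso (HomologicalComplex.biprodXIso J₀.cocomplex D n).symm inferInstance
  have hq : QuasiIso (J₀.ι ≫ (biprod.inl : J₀.cocomplex ⟶ Jc)) := by
    have := S15302aux.quasiIso_inl J₀.cocomplex D (S15302aux.Dk_exactAt I.cocomplex)
    infer_instance
  let J : InjectiveResolution G :=
    { cocomplex := Jc
      injective := hinj
      ι := J₀.ι ≫ biprod.inl
      quasiIso := hq }
  refine ⟨J, biprod.desc β₀ (S15302aux.pk I.cocomplex), ?_, ?_⟩
  · show (J₀.ι ≫ biprod.inl) ≫ biprod.desc β₀ _ = _
    rw [Category.assoc, biprod.inl_desc, InjectiveResolution.desc_commutes]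
  · intro p
    apply S15302aux.exists_iso_biprod_of_split _
      ((biprod.inl : I.cocomplex.X p ⟶ I.cocomplex.X p ⊞ S15302aux.sh I.cocomplex p) ≫
        (biprod.inr : D ⟶ Jc).f p)
    have h1 : (biprod.inr : D ⟶ Jc).f p ≫ (biprod.desc β₀ (S15302aux.pk I.cocomplex)).f p =
        (S15302aux.pk I.cocomplex).f p := by
      rw [← HomologicalComplex.comp_f, biprod.inr_desc]
    rw [Category.assoc]
    erw [h1]
    exact S15302aux.inl_pk I.cocomplex p

end Groth.Agent.S15302
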