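import Groth.Statements.S15316
import Groth.Agent.Lib.Helper22.ArLefNode

set_option autoImplicit false
universe u
open ArLef ArLef.NodeAlg

namespace Groth.Agent.S15316

/-- Let B be a discrete valuation ring with uniformizer π and N = B[[t, e]]/(te - π) the complete local
ring of a semi-stable arithmetic surface at a singular point of the closed fibre. A ring
automorphism σ of N with σ(π) associated to π (for instance a B-algebra automorphism, or one lying
over an automorphism of B) either stabilizes the two branches, σ(t) = α t and σ(e) = β e for units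
α, β, or switches them, σ(t) = α e and σ(e) = β t for units α, β. (The published setting has B
complete with algebraically closed residue field and σ linear over B or over an automorphism of B;
the argument uses only that σ(π) generates (π).) -/
theorem result (B : Type u) [CommRing B] [IsDomain B] [IsDiscreteValuationRing B] (π : B) (hπ : Irreducible π)
    (σ : ArLef.NodeAlg B π ≃+* ArLef.NodeAlg B π)
    (hσ : Associated (σ (algebraMap B (ArLef.NodeAlg B π) π)) (algebraMap B (ArLef.NodeAlg B π) π)) :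
    (∃ α β : (ArLef.NodeAlg B π)ˣ, σ (ArLef.NodeAlg.t π) = (α : ArLef.NodeAlg B π) * ArLef.NodeAlg.t π ∧ σ (ArLef.NodeAlg.e π) = (β : ArLef.NodeAlg B π) * ArLef.NodeAlg.e π) ∨
      (∃ α β : (ArLef.NodeAlg B π)ˣ, σ (ArLef.NodeAlg.t π) = (α : ArLef.NodeAlg B π) * ArLef.NodeAlg.e π ∧ σ (ArLef.NodeAlg.e π) = (β : ArLef.NodeAlg B π) * ArLef.NodeAlg.t π) := by
  have hπm : IsLocalRing.maximalIdeal B = Ideal.span ({π} : Set B) := hπ.maximalIdeal_eq
  haveI := Groth.Agent.Lib.helper22.ArLefNode.isLocalRing_node π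
    (Groth.Agent.Lib.helper22.ArLefNode.span_ne_top π hπm)
  haveI := Groth.Agent.Lib.helper22.ArLefNode.isDomain_node π hπ.ne_zero hπm
  have pt : Prime (ArLef.NodeAlg.t π) := Groth.Agent.Lib.helper22.ArLefNode.prime_v π hπm 0
  have pe : Prime (ArLef.NodeAlg.e π) := Groth.Agent.Lib.helper22.ArLefNode.prime_v π hπm 1
  have pst : Prime (σ (ArLef.NodeAlg.t π)) := (MulEquiv.prime_iff σ).mpr pt
  have pse : Prime (σ (ArLef.NodeAlg.e π)) := (MulEquiv.prime_iff σ).mpr pe
  obtain ⟨u, hu⟩ := hσ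
  have key : σ (ArLef.NodeAlg.t π) * σ (ArLef.NodeAlg.e π) * (u : ArLef.NodeAlg B π) =
      ArLef.NodeAlg.t π * ArLef.NodeAlg.e π := by
    rw [← map_mul, Groth.Agent.Lib.helper22.ArLefNode.t_mul_e, hu]
  have hdvd : ArLef.NodeAlg.t π ∣ σ (ArLef.NodeAlg.t π) * σ (ArLef.NodeAlg.e π) * (u : ArLef.NodeAlg B π) :=
    ⟨ArLef.NodeAlg.e π, key⟩
  have hnu : ¬ ArLef.NodeAlg.t π ∣ (u : ArLef.NodeAlg B π) := fun h =>
    pt.not_isUnit (isUnit_of_dvd_unit h u.isUnit)
  rcases pt.dvd_or_dvd hdvd with h1 | h1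
  swap
  · exact absurd h1 hnu
  rcases pt.dvd_or_dvd h1 with ⟨a, ha⟩ | ⟨b, hb⟩
  · left
    have hau : IsUnit a := by
      rcases pst.irreducible.isUnit_or_isUnit ha with h | h
      · exact absurd h pt.not_isUnit
      · exact h
    obtain ⟨α, rfl⟩ := hau
    refine ⟨α, α⁻¹ * u⁻¹, by rw [ha, mul_comm], ?_⟩
    rw [ha] at key
    have h2 : ArLef.NodeAlg.t π * ((α : ArLef.NodeAlg B π) * σ (ArLef.NodeAlg.e π) * (u : ArLef.NodeAlg B π)) =
        ArLef.NodeAlg.t π * ArLef.NodeAlg.e π := by rw [← key]; ring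
    have h3 := mul_left_cancel₀ pt.ne_zero h2
    generalize σ (ArLef.NodeAlg.e π) = se at h3 ⊢
    rw [← h3, Units.val_mul]
    have e1 : ((α⁻¹ : (ArLef.NodeAlg B π)ˣ) : ArLef.NodeAlg B π) * (α : ArLef.NodeAlg B π) = 1 := by simp
    have e2 : ((u⁻¹ : (ArLef.NodeAlg B π)ˣ) : ArLef.NodeAlg B π) * (u : ArLef.NodeAlg B π) = 1 := by simp
    linear_combination (-se) * e1 -
      (((α⁻¹ : (ArLef.NodeAlg B π)ˣ) : ArLef.NodeAlg B π) * (α : ArLef.NodeAlg B π) * se) * e2
  · right
    have hbu : IsUnit b := by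
      rcases pse.irreducible.isUnit_or_isUnit hb with h | h
      · exact absurd h pt.not_isUnit
      · exact h
    obtain ⟨β, rfl⟩ := hbu
    refine ⟨β⁻¹ * u⁻¹, β, ?_, by rw [hb, mul_comm]⟩
    rw [hb] at key
    have h2 : ArLef.NodeAlg.t π * (σ (ArLef.NodeAlg.t π) * (β : ArLef.NodeAlg B π) * (u : ArLef.NodeAlg B π)) =
        ArLef.NodeAlg.t π * ArLef.NodeAlg.e π := by rw [← key]; ring
    have h3 := mul_left_cancel₀ pt.ne_zero h2
    generalize σ (ArLef.NodeAlg.t π) = st at h3 ⊢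
    rw [← h3, Units.val_mul]
    have e1 : ((β⁻¹ : (ArLef.NodeAlg B π)ˣ) : ArLef.NodeAlg B π) * (β : ArLef.NodeAlg B π) = 1 := by simp
    have e2 : ((u⁻¹ : (ArLef.NodeAlg B π)ˣ) : ArLef.NodeAlg B π) * (u : ArLef.NodeAlg B π) = 1 := by simp
    linear_combination (-st) * e1 -
      (((β⁻¹ : (ArLef.NodeAlg B π)ˣ) : ArLef.NodeAlg B π) * (β : ArLef.NodeAlg B π) * st) * e2

end Groth.Agent.S15316
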