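import Groth.Statements.S15317
import Groth.Agent.Lib.Helper22.ArLefNode

set_option autoImplicit false
universe u
open ArLef ArLef.NodeAlg

namespace Groth.Agent.S15317

/-- Let B be a discrete valuation ring with uniformizer π, N = B[[t, e]]/(te - π), and σ a non-trivial
B-algebra automorphism of N stabilizing both branches of the closed fibre (σ(t) associated to t,
σ(e) associated to e). Then the fixed-point ideal of σ, generated by all σ(r) - r, is g·(t, e) for a
non-zero g: the divisorial part of the fixed locus is cut out by g and its residual part is the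
reduced closed point, of multiplicity one. (Stated in the complete local ring, where the published
argument takes place; the published setting has B complete with algebraically closed residue field.) -/
theorem result (B : Type u) [CommRing B] [IsDomain B] [IsDiscreteValuationRing B] (π : B) (hπ : Irreducible π)
    (σ : ArLef.NodeAlg B π ≃ₐ[B] ArLef.NodeAlg B π) (hσ : σ ≠ AlgEquiv.refl)
    (ht : Associated (σ (ArLef.NodeAlg.t π)) (ArLef.NodeAlg.t π))
    (he : Associated (σ (ArLef.NodeAlg.e π)) (ArLef.NodeAlg.e π)) :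
    ∃ g : ArLef.NodeAlg B π, g ≠ 0 ∧
      ArLef.fixIdeal σ = Ideal.span {g} * Ideal.span ({ArLef.NodeAlg.t π, ArLef.NodeAlg.e π} : Set (ArLef.NodeAlg B π)) := by
  have hπm : IsLocalRing.maximalIdeal B = Ideal.span ({π} : Set B) := hπ.maximalIdeal_eq
  haveI := Groth.Agent.Lib.helper22.ArLefNode.isLocalRing_node π
    (Groth.Agent.Lib.helper22.ArLefNode.span_ne_top π hπm)
  haveI := Groth.Agent.Lib.helper22.ArLefNode.isDomain_node π hπ.ne_zero hπm
  have pt : Prime (ArLef.NodeAlg.t π) := Groth.Agent.Lib.helper22.ArLefNode.prime_v π hπm 0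
  have pe : Prime (ArLef.NodeAlg.e π) := Groth.Agent.Lib.helper22.ArLefNode.prime_v π hπm 1
  obtain ⟨u, hu⟩ := ht
  obtain ⟨w, hw⟩ := he
  set τ : ArLef.NodeAlg B π ≃+* ArLef.NodeAlg B π := σ.toRingEquiv with hτ
  have hτapp : ∀ x, τ x = σ x := fun _ => rfl
  have hfix : ArLef.fixIdeal σ = ArLef.fixIdeal τ := rfl
  -- α = u⁻¹, β = w⁻¹
  have hst : σ (ArLef.NodeAlg.t π) = ((u⁻¹ : (ArLef.NodeAlg B π)ˣ) : ArLef.NodeAlg B π) * ArLef.NodeAlg.t π := by
    have e1 : ((u⁻¹ : (ArLef.NodeAlg B π)ˣ) : ArLef.NodeAlg B π) * (u : ArLef.NodeAlg B π) = 1 := by simp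
    calc σ (ArLef.NodeAlg.t π) = ((u⁻¹ : (ArLef.NodeAlg B π)ˣ) : ArLef.NodeAlg B π) *
          (σ (ArLef.NodeAlg.t π) * (u : ArLef.NodeAlg B π)) := by
            linear_combination (-(σ (ArLef.NodeAlg.t π))) * e1
      _ = _ := by rw [hu]
  have hse : σ (ArLef.NodeAlg.e π) = ((w⁻¹ : (ArLef.NodeAlg B π)ˣ) : ArLef.NodeAlg B π) * ArLef.NodeAlg.e π := by
    have e1 : ((w⁻¹ : (ArLef.NodeAlg B π)ˣ) : ArLef.NodeAlg B π) * (w : ArLef.NodeAlg B π) = 1 := by simp
    calc σ (ArLef.NodeAlg.e π) = ((w⁻¹ : (ArLef.NodeAlg B π)ˣ) : ArLef.NodeAlg B π) *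
          (σ (ArLef.NodeAlg.e π) * (w : ArLef.NodeAlg B π)) := by
            linear_combination (-(σ (ArLef.NodeAlg.e π))) * e1
      _ = _ := by rw [hw]
  generalize hα : ((u⁻¹ : (ArLef.NodeAlg B π)ˣ) : ArLef.NodeAlg B π) = α at hst
  generalize hβ : ((w⁻¹ : (ArLef.NodeAlg B π)ˣ) : ArLef.NodeAlg B π) = β at hse
  have hαβ : α * β = 1 := by
    have h1 : σ (ArLef.NodeAlg.t π * ArLef.NodeAlg.e π) = ArLef.NodeAlg.t π * ArLef.NodeAlg.e π := by
      rw [Groth.Agent.Lib.helper22.ArLefNode.t_mul_e, AlgEquiv.commutes]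
    rw [map_mul, hst, hse] at h1
    have h2 : (ArLef.NodeAlg.t π * ArLef.NodeAlg.e π) * (α * β) =
        (ArLef.NodeAlg.t π * ArLef.NodeAlg.e π) * 1 := by rw [mul_one]; linear_combination h1
    exact mul_left_cancel₀ (mul_ne_zero pt.ne_zero pe.ne_zero) h2
  have hI : ArLef.fixIdeal σ = Ideal.span ({(α - 1) * ArLef.NodeAlg.t π, (β - 1) * ArLef.NodeAlg.e π} :
      Set (ArLef.NodeAlg B π)) := by
    apply le_antisymm
    · rw [hfix]
      refine Groth.Agent.Lib.helper22.ArLefNode.node_fixIdeal_le π hπm τ _ ?_ ?_ ?_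
      · rw [hτapp, hst]
        have : α * ArLef.NodeAlg.t π - ArLef.NodeAlg.t π = (α - 1) * ArLef.NodeAlg.t π := by ring
        rw [this]; exact Ideal.subset_span (by simp)
      · rw [hτapp, hse]
        have : β * ArLef.NodeAlg.e π - ArLef.NodeAlg.e π = (β - 1) * ArLef.NodeAlg.e π := by ring
        rw [this]; exact Ideal.subset_span (by simp)
      · intro c
        rw [hτapp, AlgEquiv.commutes, sub_self]
        exact Ideal.zero_mem _
    · rw [Ideal.span_le]
      rintro z (rfl | rfl)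
      · have : (α - 1) * ArLef.NodeAlg.t π = σ (ArLef.NodeAlg.t π) - ArLef.NodeAlg.t π := by rw [hst]; ring
        rw [this]; exact Ideal.subset_span ⟨_, rfl⟩
      · have : (β - 1) * ArLef.NodeAlg.e π = σ (ArLef.NodeAlg.e π) - ArLef.NodeAlg.e π := by rw [hse]; ring
        rw [this]; exact Ideal.subset_span ⟨_, rfl⟩
  have hβ1 : β - 1 = -β * (α - 1) := by linear_combination hαβ
  refine ⟨α - 1, ?_, ?_⟩
  · intro h0
    have hα1 : α = 1 := by linear_combination h0
    have hβ1' : β = 1 := by rw [hα1, one_mul] at hαβ; exact hαβ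
    apply hσ
    have hle : ArLef.fixIdeal τ ≤ ⊥ := by
      refine Groth.Agent.Lib.helper22.ArLefNode.node_fixIdeal_le π hπm τ _ ?_ ?_ ?_
      · rw [hτapp, hst, hα1, one_mul, sub_self]; exact Ideal.zero_mem _
      · rw [hτapp, hse, hβ1', one_mul, sub_self]; exact Ideal.zero_mem _
      · intro c
        rw [hτapp, AlgEquiv.commutes, sub_self]
        exact Ideal.zero_mem _
    ext x
    have : σ x - x ∈ ArLef.fixIdeal τ := Ideal.subset_span ⟨x, rfl⟩
    have h1 := hle this
    rw [Ideal.mem_bot] at h1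
    rw [AlgEquiv.coe_refl, id]
    linear_combination h1
  · rw [hI]
    apply le_antisymm
    · rw [Ideal.span_le]
      rintro z (rfl | rfl)
      · exact Ideal.mul_mem_mul (Ideal.subset_span (by simp)) (Ideal.subset_span (by simp))
      · rw [hβ1]
        have : -β * (α - 1) * ArLef.NodeAlg.e π = (α - 1) * (-β * ArLef.NodeAlg.e π) := by ring
        rw [this]
        exact Ideal.mul_mem_mul (Ideal.subset_span (by simp))
          (Ideal.mul_mem_left _ _ (Ideal.subset_span (by simp)))
    · rw [Ideal.span_singleton_mul_le_iff]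
      intro z hz
      obtain ⟨a, b, rfl⟩ := Ideal.mem_span_pair.mp hz
      have : (α - 1) * (a * ArLef.NodeAlg.t π + b * ArLef.NodeAlg.e π) =
          a * ((α - 1) * ArLef.NodeAlg.t π) + (-b * α) * ((β - 1) * ArLef.NodeAlg.e π) := by
        rw [hβ1]
        linear_combination (-(b * (α - 1) * ArLef.NodeAlg.e π)) * hαβ
      rw [this]
      exact Ideal.add_mem _ (Ideal.mul_mem_left _ _ (Ideal.subset_span (by simp)))
        (Ideal.mul_mem_left _ _ (Ideal.subset_span (by simp)))

end Groth.Agent.S15317
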