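import Groth.Statements.S15318
import Groth.Agent.Lib.Helper22.ArLefNode

set_option autoImplicit false
universe u
open ArLef ArLef.NodeAlg

namespace Groth.Agent.S15318

/-- Let B be a discrete valuation ring with uniformizer π, N = B[[t, e]]/(te - π), and σ a B-algebra
automorphism of N switching the two branches of the closed fibre (σ(t) associated to e, σ(e)
associated to t). Then the fixed-point ideal of σ is principal, generated by an element h of order
one (h is not in (t, e)²), and π is a non-zero-divisor modulo h: the fixed locus is a horizontal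
regular divisor through the point with empty residual part. (Stated in the complete local ring,
where the published argument takes place; the published setting has B complete with algebraically
closed residue field.) -/
theorem result (B : Type u) [CommRing B] [IsDomain B] [IsDiscreteValuationRing B] (π : B) (hπ : Irreducible π)
    (σ : ArLef.NodeAlg B π ≃ₐ[B] ArLef.NodeAlg B π)
    (ht : Associated (σ (ArLef.NodeAlg.t π)) (ArLef.NodeAlg.e π))
    (he : Associated (σ (ArLef.NodeAlg.e π)) (ArLef.NodeAlg.t π)) :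
    ∃ h : ArLef.NodeAlg B π, ArLef.fixIdeal σ = Ideal.span {h} ∧
      h ∉ (Ideal.span ({ArLef.NodeAlg.t π, ArLef.NodeAlg.e π} : Set (ArLef.NodeAlg B π))) ^ 2 ∧
      IsSMulRegular (ArLef.NodeAlg B π ⧸ Ideal.span ({h} : Set (ArLef.NodeAlg B π))) π := by
  have hπm : IsLocalRing.maximalIdeal B = Ideal.span ({π} : Set B) := hπ.maximalIdeal_eq
  haveI := Groth.Agent.Lib.helper22.ArLefNode.isLocalRing_node π
    (Groth.Agent.Lib.helper22.ArLefNode.span_ne_top π hπm)
  haveI := Groth.Agent.Lib.helper22.ArLefNode.isDomain_node π hπ.ne_zero hπm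
  have pt : Prime (ArLef.NodeAlg.t π) := Groth.Agent.Lib.helper22.ArLefNode.prime_v π hπm 0
  have pe : Prime (ArLef.NodeAlg.e π) := Groth.Agent.Lib.helper22.ArLefNode.prime_v π hπm 1
  haveI : Nontrivial (B ⧸ Ideal.span ({π} : Set B)) :=
    Ideal.Quotient.nontrivial_iff.mpr (Groth.Agent.Lib.helper22.ArLefNode.span_ne_top π hπm)
  obtain ⟨u, hu⟩ := ht
  obtain ⟨w, hw⟩ := he
  set τ : ArLef.NodeAlg B π ≃+* ArLef.NodeAlg B π := σ.toRingEquiv with hτ
  have hτapp : ∀ x, τ x = σ x := fun _ => rfl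
  have hfix : ArLef.fixIdeal σ = ArLef.fixIdeal τ := rfl
  have hst : σ (ArLef.NodeAlg.t π) = ((u⁻¹ : (ArLef.NodeAlg B π)ˣ) : ArLef.NodeAlg B π) * ArLef.NodeAlg.e π := by
    have e1 : ((u⁻¹ : (ArLef.NodeAlg B π)ˣ) : ArLef.NodeAlg B π) * (u : ArLef.NodeAlg B π) = 1 := by simp
    calc σ (ArLef.NodeAlg.t π) = ((u⁻¹ : (ArLef.NodeAlg B π)ˣ) : ArLef.NodeAlg B π) *
          (σ (ArLef.NodeAlg.t π) * (u : ArLef.NodeAlg B π)) := by
            linear_combination (-(σ (ArLef.NodeAlg.t π))) * e1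
      _ = _ := by rw [hu]
  have hse : σ (ArLef.NodeAlg.e π) = ((w⁻¹ : (ArLef.NodeAlg B π)ˣ) : ArLef.NodeAlg B π) * ArLef.NodeAlg.t π := by
    have e1 : ((w⁻¹ : (ArLef.NodeAlg B π)ˣ) : ArLef.NodeAlg B π) * (w : ArLef.NodeAlg B π) = 1 := by simp
    calc σ (ArLef.NodeAlg.e π) = ((w⁻¹ : (ArLef.NodeAlg B π)ˣ) : ArLef.NodeAlg B π) *
          (σ (ArLef.NodeAlg.e π) * (w : ArLef.NodeAlg B π)) := by
            linear_combination (-(σ (ArLef.NodeAlg.e π))) * e1
      _ = _ := by rw [hw]
  have hαu : IsUnit ((u⁻¹ : (ArLef.NodeAlg B π)ˣ) : ArLef.NodeAlg B π) := Units.isUnit _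
  generalize hα : ((u⁻¹ : (ArLef.NodeAlg B π)ˣ) : ArLef.NodeAlg B π) = α at hst hαu
  generalize hβ : ((w⁻¹ : (ArLef.NodeAlg B π)ˣ) : ArLef.NodeAlg B π) = β at hse
  have hαβ : α * β = 1 := by
    have h1 : σ (ArLef.NodeAlg.t π * ArLef.NodeAlg.e π) = ArLef.NodeAlg.t π * ArLef.NodeAlg.e π := by
      rw [Groth.Agent.Lib.helper22.ArLefNode.t_mul_e, AlgEquiv.commutes]
    rw [map_mul, hst, hse] at h1
    have h2 : (ArLef.NodeAlg.t π * ArLef.NodeAlg.e π) * (α * β) =
        (ArLef.NodeAlg.t π * ArLef.NodeAlg.e π) * 1 := by rw [mul_one]; linear_combination h1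
    exact mul_left_cancel₀ (mul_ne_zero pt.ne_zero pe.ne_zero) h2
  set h : ArLef.NodeAlg B π := α * ArLef.NodeAlg.e π - ArLef.NodeAlg.t π with hh
  have hse' : σ (ArLef.NodeAlg.e π) - ArLef.NodeAlg.e π = -β * h := by
    rw [hse, hh]; linear_combination (ArLef.NodeAlg.e π) * hαβ
  -- images of h on the two axes
  have hax0 : Groth.Agent.Lib.helper22.ArLefNode.axisN π 0 h = - PowerSeries.X := by
    rw [hh, map_sub, map_mul]
    have h1 := Groth.Agent.Lib.helper22.ArLefNode.axisN_v_ne π (i := 0) (j := 1) (by decide)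
    have h2 := Groth.Agent.Lib.helper22.ArLefNode.axisN_v_self π 0
    rw [Groth.Agent.Lib.helper22.ArLefNode.v_one] at h1
    rw [Groth.Agent.Lib.helper22.ArLefNode.v_zero] at h2
    rw [h1, h2, mul_zero, zero_sub]
  have hax1 : Groth.Agent.Lib.helper22.ArLefNode.axisN π 1 h =
      Groth.Agent.Lib.helper22.ArLefNode.axisN π 1 α * PowerSeries.X := by
    rw [hh, map_sub, map_mul]
    have h1 := Groth.Agent.Lib.helper22.ArLefNode.axisN_v_ne π (i := 1) (j := 0) (by decide)
    have h2 := Groth.Agent.Lib.helper22.ArLefNode.axisN_v_self π 1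
    rw [Groth.Agent.Lib.helper22.ArLefNode.v_zero] at h1
    rw [Groth.Agent.Lib.helper22.ArLefNode.v_one] at h2
    rw [h1, h2, sub_zero]
  have hnt : ¬ ArLef.NodeAlg.t π ∣ h := by
    rw [← Groth.Agent.Lib.helper22.ArLefNode.v_zero,
      ← Groth.Agent.Lib.helper22.ArLefNode.axisN_eq_zero_iff π (i := 1) (j := 0) (by decide), hax1]
    intro h0
    have hu' := hαu.map (Groth.Agent.Lib.helper22.ArLefNode.axisN π 1)
    have := hu'.mul_right_eq_zero.mp h0
    exact PowerSeries.X_ne_zero this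
  have hne : ¬ ArLef.NodeAlg.e π ∣ h := by
    rw [← Groth.Agent.Lib.helper22.ArLefNode.v_one,
      ← Groth.Agent.Lib.helper22.ArLefNode.axisN_eq_zero_iff π (i := 0) (j := 1) (by decide), hax0]
    intro h0
    exact PowerSeries.X_ne_zero (neg_eq_zero.mp h0)
  refine ⟨h, ?_, ?_, ?_⟩
  · apply le_antisymm
    · rw [hfix]
      refine Groth.Agent.Lib.helper22.ArLefNode.node_fixIdeal_le π hπm τ _ ?_ ?_ ?_
      · rw [hτapp, hst]
        exact Ideal.subset_span (by simp [hh])
      · rw [hτapp, hse']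
        exact Ideal.mul_mem_left _ _ (Ideal.subset_span (by simp))
      · intro c
        rw [hτapp, AlgEquiv.commutes, sub_self]
        exact Ideal.zero_mem _
    · rw [Ideal.span_le]
      rintro z rfl
      have : h = σ (ArLef.NodeAlg.t π) - ArLef.NodeAlg.t π := by rw [hst]
      rw [this]; exact Ideal.subset_span ⟨_, rfl⟩
  · intro hmem
    have h1 := Ideal.mem_map_of_mem (Groth.Agent.Lib.helper22.ArLefNode.axisN π 0) hmem
    rw [Ideal.map_pow, Ideal.map_span, Set.image_pair] at h1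
    have h2 := Groth.Agent.Lib.helper22.ArLefNode.axisN_v_ne π (i := 0) (j := 1) (by decide)
    have h3 := Groth.Agent.Lib.helper22.ArLefNode.axisN_v_self π 0
    rw [Groth.Agent.Lib.helper22.ArLefNode.v_one] at h2
    rw [Groth.Agent.Lib.helper22.ArLefNode.v_zero] at h3
    rw [h2, h3, hax0] at h1
    have h4 : Ideal.span ({PowerSeries.X, 0} : Set (PowerSeries (B ⧸ Ideal.span ({π} : Set B)))) =
        Ideal.span {PowerSeries.X} := by
      apply le_antisymm
      · rw [Ideal.span_le]; rintro z (rfl | rfl)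
        · exact Ideal.subset_span rfl
        · exact Ideal.zero_mem _
      · exact Ideal.span_mono (by simp)
    rw [h4, Ideal.span_singleton_pow, Ideal.mem_span_singleton] at h1
    obtain ⟨c, hc⟩ := h1
    have h5 := congrArg (PowerSeries.coeff 1) hc
    rw [map_neg, PowerSeries.coeff_one_X, PowerSeries.coeff_X_pow_mul'] at h5
    simp at h5
  · rw [isSMulRegular_iff_right_eq_zero_of_smul]
    intro z hz
    obtain ⟨x, rfl⟩ := Ideal.Quotient.mk_surjective z
    have hz' : Ideal.Quotient.mk (Ideal.span ({h} : Set (ArLef.NodeAlg B π)))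
        (algebraMap B (ArLef.NodeAlg B π) π * x) = 0 := by
      rw [← Algebra.smul_def]
      exact hz
    rw [Ideal.Quotient.eq_zero_iff_mem, Ideal.mem_span_singleton,
      ← Groth.Agent.Lib.helper22.ArLefNode.t_mul_e] at hz'
    obtain ⟨y, hy⟩ := hz'
    have d1 : ArLef.NodeAlg.t π ∣ h * y := ⟨ArLef.NodeAlg.e π * x, by rw [← hy]; ring⟩
    obtain ⟨y1, rfl⟩ := (pt.dvd_or_dvd d1).resolve_left hnt
    have hy' : ArLef.NodeAlg.e π * x = h * y1 := by
      apply mul_left_cancel₀ pt.ne_zero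
      rw [← mul_assoc, hy]; ring
    have d2 : ArLef.NodeAlg.e π ∣ h * y1 := ⟨x, hy'.symm⟩
    obtain ⟨y2, rfl⟩ := (pe.dvd_or_dvd d2).resolve_left hne
    have hx : x = h * y2 := by
      apply mul_left_cancel₀ pe.ne_zero
      rw [hy']; ring
    rw [Ideal.Quotient.eq_zero_iff_mem, Ideal.mem_span_singleton]
    exact ⟨y2, hx⟩

end Groth.Agent.S15318
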