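import Groth.Statements.S15319
import Mathlib

set_option autoImplicit false
universe u
open ArLef ArLef.NodeAlg

namespace Groth.Agent.S15319

section aux
open MvPowerSeries

variable {B : Type u} [CommRing B] [IsDomain B] (π : B)

lemma hxy : (X 0 * X 1 : MvPowerSeries (Fin 2) B) =
    monomial (Finsupp.single 0 1 + Finsupp.single 1 1) 1 := by
  rw [X_def, X_def, monomial_mul_monomial, mul_one]

lemma reg1 (hπ0 : π ≠ 0) (f g : MvPowerSeries (Fin 2) B)
    (h : C π * f = (X 0 * X 1 - C π) * g) :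
    ∃ g' : MvPowerSeries (Fin 2) B, f = (X 0 * X 1 - C π) * g' := by
  have hcoef : ∀ d : Fin 2 →₀ ℕ, coeff d g =
      π * (coeff (d + (Finsupp.single 0 1 + Finsupp.single 1 1)) f +
        coeff (d + (Finsupp.single 0 1 + Finsupp.single 1 1)) g) := by
    intro d
    have h1 := congrArg (coeff (d + (Finsupp.single 0 1 + Finsupp.single 1 1))) h
    rw [coeff_C_mul, hxy, sub_mul, map_sub, coeff_monomial_mul,
      if_pos (self_le_add_left _ d), one_mul, add_tsub_cancel_right, coeff_C_mul] at h1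
    linear_combination (-1 : B) * h1
  obtain ⟨g', hg'⟩ : ∃ g' : MvPowerSeries (Fin 2) B, g = C π * g' :=
    ⟨fun d => coeff (d + (Finsupp.single 0 1 + Finsupp.single 1 1)) f +
        coeff (d + (Finsupp.single 0 1 + Finsupp.single 1 1)) g, by
      ext d
      rw [coeff_C_mul]
      exact hcoef d⟩
  refine ⟨g', ?_⟩
  ext d
  have h2 := congrArg (coeff d) h
  rw [hg', show (X 0 * X 1 - C π) * (C π * g') = C π * ((X 0 * X 1 - C π) * g') by ring,
    coeff_C_mul, coeff_C_mul] at h2
  exact mul_left_cancel₀ hπ0 h2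

noncomputable abbrev Iπ (π : B) : Ideal (MvPowerSeries (Fin 2) B) :=
  Ideal.span {(X 0 * X 1 - C π : MvPowerSeries (Fin 2) B)}

lemma regN (hπ0 : π ≠ 0) : IsLeftRegular (Ideal.Quotient.mk (Iπ π) (C π)) := by
  rw [isLeftRegular_iff_right_eq_zero_of_mul]
  intro z hz
  obtain ⟨f, rfl⟩ := Ideal.Quotient.mk_surjective z
  rw [← map_mul, Ideal.Quotient.eq_zero_iff_mem, Ideal.mem_span_singleton] at hz
  obtain ⟨g, hg⟩ := hz
  obtain ⟨g', hg'⟩ := reg1 π hπ0 f g hg
  rw [Ideal.Quotient.eq_zero_iff_mem, Ideal.mem_span_singleton]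
  exact ⟨g', hg'⟩

noncomputable def eps (π : B) : ArLef.NodeAlg B π →+* B ⧸ Ideal.span {π} :=
  Ideal.Quotient.lift _
    ((Ideal.Quotient.mk (Ideal.span {π})).comp (constantCoeff (σ := Fin 2) (R := B))) (by
    intro a ha
    rw [Ideal.mem_span_singleton] at ha
    obtain ⟨c, rfl⟩ := ha
    have key : ((Ideal.Quotient.mk (Ideal.span {π})).comp (constantCoeff (σ := Fin 2) (R := B)))
        (X 0 * X 1 - C π) = 0 := by
      rw [RingHom.comp_apply, map_sub, map_mul, constantCoeff_X, zero_mul, zero_sub,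
        constantCoeff_C, map_neg,
        Ideal.Quotient.eq_zero_iff_mem.mpr (Ideal.mem_span_singleton_self π), neg_zero]
    rw [map_mul, key, zero_mul])

lemma eps_mk (f : MvPowerSeries (Fin 2) B) :
    eps π (Ideal.Quotient.mk (Iπ π) f) = Ideal.Quotient.mk (Ideal.span {π}) (constantCoeff f) := by
  unfold eps
  rw [Ideal.Quotient.lift_mk, RingHom.comp_apply]

end aux

/-- Let B be a discrete valuation ring with uniformizer π, N = B[[t, e]]/(te - π) the complete local
ring of a semi-stable arithmetic surface over B at a singular point of the closed fibre, and σ a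
ring automorphism of N sending π to π + γ π^j with γ a unit of B and j ≥ 1 (σ lies over an
automorphism τ of B with v(τ(π) - π) = j). Then the fixed-point ideal of σ is not contained in (π^j)
= (t^j e^j): the two branches through the point cannot both occur with multiplicity j in the
divisorial part of the fixed locus. (The published setting has B complete with algebraically closed
residue field.) -/
theorem result (B : Type u) [CommRing B] [IsDomain B] [IsDiscreteValuationRing B] (π : B) (hπ : Irreducible π)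
    (j : ℕ) (hj : 1 ≤ j) (γ : B) (hγ : IsUnit γ)
    (σ : ArLef.NodeAlg B π ≃+* ArLef.NodeAlg B π)
    (hσ : σ (algebraMap B (ArLef.NodeAlg B π) π) = algebraMap B (ArLef.NodeAlg B π) (π + γ * π ^ j)) :
    ¬ ArLef.fixIdeal σ ≤ Ideal.span ({algebraMap B (ArLef.NodeAlg B π) (π ^ j)} : Set (ArLef.NodeAlg B π)) := by
  intro hle
  have hπ0 : π ≠ 0 := hπ.ne_zero
  have hmk : ∀ b : B, algebraMap B (ArLef.NodeAlg B π) b =
      Ideal.Quotient.mk (Iπ π) (MvPowerSeries.C b) := by
    intro b
    rw [← Ideal.Quotient.mk_algebraMap, MvPowerSeries.algebraMap_apply]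
    rfl
  have hte : ArLef.NodeAlg.t π * ArLef.NodeAlg.e π = algebraMap B (ArLef.NodeAlg B π) π := by
    rw [hmk]
    show Ideal.Quotient.mk (Iπ π) (MvPowerSeries.X 0) * Ideal.Quotient.mk (Iπ π) (MvPowerSeries.X 1)
      = _
    rw [← map_mul, Ideal.Quotient.eq]
    exact Ideal.mem_span_singleton_self _
  obtain ⟨a, ha⟩ : ∃ a, a * algebraMap B (ArLef.NodeAlg B π) (π ^ j) =
      σ (ArLef.NodeAlg.t π) - ArLef.NodeAlg.t π := by
    have h0 := hle (show σ (ArLef.NodeAlg.t π) - ArLef.NodeAlg.t π ∈ ArLef.fixIdeal σ from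
      Ideal.subset_span ⟨ArLef.NodeAlg.t π, rfl⟩)
    exact Ideal.mem_span_singleton'.mp h0
  obtain ⟨b, hb⟩ : ∃ b, b * algebraMap B (ArLef.NodeAlg B π) (π ^ j) =
      σ (ArLef.NodeAlg.e π) - ArLef.NodeAlg.e π := by
    have h0 := hle (show σ (ArLef.NodeAlg.e π) - ArLef.NodeAlg.e π ∈ ArLef.fixIdeal σ from
      Ideal.subset_span ⟨ArLef.NodeAlg.e π, rfl⟩)
    exact Ideal.mem_span_singleton'.mp h0
  have hreg : IsLeftRegular (algebraMap B (ArLef.NodeAlg B π) (π ^ j)) := by
    rw [map_pow, hmk]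
    exact (regN π hπ0).pow j
  have h1 : σ (algebraMap B (ArLef.NodeAlg B π) π) =
      σ (ArLef.NodeAlg.t π) * σ (ArLef.NodeAlg.e π) := by rw [← hte, map_mul]
  have hst : σ (ArLef.NodeAlg.t π) =
      ArLef.NodeAlg.t π + a * algebraMap B (ArLef.NodeAlg B π) (π ^ j) := by rw [ha]; ring
  have hse : σ (ArLef.NodeAlg.e π) =
      ArLef.NodeAlg.e π + b * algebraMap B (ArLef.NodeAlg B π) (π ^ j) := by rw [hb]; ring
  have h2 : algebraMap B (ArLef.NodeAlg B π) (π ^ j) * algebraMap B (ArLef.NodeAlg B π) γ =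
      algebraMap B (ArLef.NodeAlg B π) (π ^ j) *
        (a * ArLef.NodeAlg.e π + b * ArLef.NodeAlg.t π +
          algebraMap B (ArLef.NodeAlg B π) (π ^ j) * a * b) := by
    have h3 : algebraMap B (ArLef.NodeAlg B π) (π + γ * π ^ j) =
        ArLef.NodeAlg.t π * ArLef.NodeAlg.e π +
          algebraMap B (ArLef.NodeAlg B π) γ * algebraMap B (ArLef.NodeAlg B π) (π ^ j) := by
      rw [map_add, map_mul, hte]
    rw [hσ, h3, hst, hse] at h1
    linear_combination h1
  have h4 := hreg h2
  have h5 := congrArg (eps π) h4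
  have e_t : eps π (ArLef.NodeAlg.t π) = 0 := by
    show eps π (Ideal.Quotient.mk (Iπ π) (MvPowerSeries.X 0)) = 0
    rw [eps_mk, MvPowerSeries.constantCoeff_X, map_zero]
  have e_e : eps π (ArLef.NodeAlg.e π) = 0 := by
    show eps π (Ideal.Quotient.mk (Iπ π) (MvPowerSeries.X 1)) = 0
    rw [eps_mk, MvPowerSeries.constantCoeff_X, map_zero]
  have e_alg : ∀ c : B, eps π (algebraMap B (ArLef.NodeAlg B π) c) =
      Ideal.Quotient.mk (Ideal.span {π}) c := by
    intro c
    rw [hmk, eps_mk, MvPowerSeries.constantCoeff_C]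
  have e_P : eps π (algebraMap B (ArLef.NodeAlg B π) (π ^ j)) = 0 := by
    rw [e_alg, map_pow, Ideal.Quotient.eq_zero_iff_mem.mpr (Ideal.mem_span_singleton_self π),
      zero_pow (by omega)]
  simp only [map_add, map_mul, e_t, e_e, e_P, mul_zero, zero_mul, add_zero] at h5
  rw [e_alg, Ideal.Quotient.eq_zero_iff_mem, Ideal.mem_span_singleton] at h5
  exact hπ.not_isUnit (isUnit_of_dvd_unit h5 hγ)

end Groth.Agent.S15319
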