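import Groth.Statements.S1532
-- import your own Groth.Agent.* helpers here
import Groth.Agent.Lib.Helper9.CurveTwist

set_option autoImplicit false
universe u
open CategoryTheory CategoryTheory.Limits AlgebraicGeometry
open Curves

namespace Groth.Agent.S1532

/-- Let X be a proper integral one-dimensional scheme over k whose global functions are k, of genus g, L
an invertible module and Z a closed subscheme of dimension zero with ideal sheaf I, with deg L > 2g
- 2 + deg Z. Then H^1(X, I ⊗ L) = 0, and if moreover H^0(X, I ⊗ L) = 0 then g = 0 and deg L = deg Z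
- 1. -/
theorem result (k : Type u) [Field k] (X : Scheme.{u}) [X.Over (Spec (CommRingCat.of k))]
    [IsProper (X ↘ (Spec (CommRingCat.of k)))] [IsIntegral X] (hdim : topologicalKrullDim X = 1)
    (h0 : Module.finrank k (Coh.HH X (Coh.structureModule X) 0) = 1)
    (L : X.Modules) (hL : PicF.IsInvertible L) (Z : X.IdealSheafData) (hZ : topologicalKrullDim (Z.support : Set X) ≤ 0)
    (hdeg : 2 * (Curv2.genus k X : ℤ) - 2 + Module.finrank k (Coh.HH X (ClSub.quotMod Z) 0) < Curv2.deg k X L 1) :
    Subsingleton (Coh.HH X (CohB1.tensorMod (ClSub.idealMod Z) L) 1) ∧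
      (Subsingleton (Coh.HH X (CohB1.tensorMod (ClSub.idealMod Z) L) 0) →
        Curv2.genus k X = 0 ∧ Curv2.deg k X L 1 = Module.finrank k (Coh.HH X (ClSub.quotMod Z) 0) - 1) := by
  have hsub : Subsingleton (Coh.HH X (CohB1.tensorMod (ClSub.idealMod Z) L) 1) := by
    by_contra h
    rw [not_subsingleton_iff_nontrivial] at h
    have := Groth.Agent.Lib.helper9.CurveTwist.deg_le_of_H1_idealTwist_nontrivial k X hdim.le h0 L hL Z hZ h
    linarith
  refine ⟨hsub, fun hsub0 => ?_⟩
  obtain ⟨hFc, heul, -⟩ := Groth.Agent.Lib.helper9.CurveTwist.idealTwist_main k X hdim.le L hL Z hZ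
  have e1 := Groth.Agent.Lib.Lead.CurveEuler.euler_eq k X hdim.le _ hFc.1
  have hO : Coh.IsQCoh (Coh.structureModule X) := inferInstance
  have e3 := Groth.Agent.Lib.Lead.CurveEuler.euler_eq k X hdim.le (Coh.structureModule X) hO
  have z0 : Module.finrank k (Coh.HH X (CohB1.tensorMod (ClSub.idealMod Z) L) 0) = 0 :=
    Module.finrank_zero_of_subsingleton
  have z1 : Module.finrank k (Coh.HH X (CohB1.tensorMod (ClSub.idealMod Z) L) 1) = 0 :=
    Module.finrank_zero_of_subsingleton
  have hg : (Curv2.genus k X : ℤ) = (Module.finrank k (Coh.HH X (Coh.structureModule X) 1) : ℤ) := rfl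
  have hdeg' : Curv2.deg k X L 1 = Curv2.euler k X L - 1 * Curv2.euler k X (Coh.structureModule X) := by
    unfold Curv2.deg
    push_cast
    ring
  rw [e1, z0, z1] at heul
  rw [e3, h0] at hdeg'
  push_cast at heul hdeg'
  have hgz : (Curv2.genus k X : ℤ) = 0 := by
    have h1 : (0 : ℤ) ≤ (Curv2.genus k X : ℤ) := Int.natCast_nonneg _
    linarith
  refine ⟨by exact_mod_cast hgz, ?_⟩
  linarith

end Groth.Agent.S1532
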