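import Groth.Statements.S15320
import Groth.Agent.Lib.Helper22.ArLefLen

set_option autoImplicit false
universe u
open ArLef ArLef.NodeAlg

namespace Groth.Agent.S15320

open Groth.Agent.Lib.helper22.ArLefGen Groth.Agent.Lib.helper22.ArLefNode Groth.Agent.Lib.helper22.ArLefLen

/-- Let B be a discrete valuation ring with uniformizer π, N = B[[t, e]]/(te - π) the complete local
ring of a semi-stable arithmetic surface over B at a singular point x of the closed fibre, and σ a
ring automorphism of N over an automorphism τ of B with v(τ(π) - π) = j ≥ 1, that is σ(π) = π + γ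
π^j with γ a unit of B, and with σ(b) - b ∈ π^j N for every b ∈ B (automatic when B is totally
ramified over the fixed ring of τ, as in the published setting, where the residue field is
algebraically closed). If σ switches the two branches through x (σ(t) associated to e and σ(e) to
t), then the fixed-point ideal I of σ is contained in no proper principal ideal (x is not on the
divisorial part of the fixed locus) and N/I has length 2j - 1 (the multiplicity of x in the residual
fixed-point scheme). -/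
theorem result (B : Type u) [CommRing B] [IsDomain B] [IsDiscreteValuationRing B] (π : B) (hπ : Irreducible π)
    (j : ℕ) (hj : 1 ≤ j) (γ : B) (hγ : IsUnit γ)
    (σ : ArLef.NodeAlg B π ≃+* ArLef.NodeAlg B π)
    (hσB : ∀ b : B, σ (algebraMap B (ArLef.NodeAlg B π) b) - algebraMap B (ArLef.NodeAlg B π) b ∈
      Ideal.span ({algebraMap B (ArLef.NodeAlg B π) (π ^ j)} : Set (ArLef.NodeAlg B π)))
    (hσπ : σ (algebraMap B (ArLef.NodeAlg B π) π) = algebraMap B (ArLef.NodeAlg B π) (π + γ * π ^ j))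
    (ht : Associated (σ (ArLef.NodeAlg.t π)) (ArLef.NodeAlg.e π)) (he : Associated (σ (ArLef.NodeAlg.e π)) (ArLef.NodeAlg.t π)) :
    (∀ g : ArLef.NodeAlg B π, ArLef.fixIdeal σ ≤ Ideal.span ({g} : Set (ArLef.NodeAlg B π)) → IsUnit g) ∧
      Module.length (ArLef.NodeAlg B π) (ArLef.NodeAlg B π ⧸ ArLef.fixIdeal σ) = ((2 * j - 1 : ℕ) : ℕ∞) := by
  have hπm : IsLocalRing.maximalIdeal B = Ideal.span ({π} : Set B) := hπ.maximalIdeal_eq
  haveI := isLocalRing_node π (span_ne_top π hπm)
  haveI := isDomain_node π hπ.ne_zero hπm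
  have pt : Prime (ArLef.NodeAlg.t π) := prime_v π hπm 0
  have pe : Prime (ArLef.NodeAlg.e π) := prime_v π hπm 1
  haveI : Nontrivial (B ⧸ Ideal.span ({π} : Set B)) :=
    Ideal.Quotient.nontrivial_iff.mpr (span_ne_top π hπm)
  obtain ⟨k, rfl⟩ : ∃ k, j = k + 1 := ⟨j - 1, by omega⟩
  obtain ⟨u, hu⟩ := ht
  obtain ⟨w, hw⟩ := he
  have hfixeq := node_fixIdeal_eq π hπm (k + 1) γ hγ σ hσB hσπ
  have hrel := node_rel π k γ σ hσπ
  have hst : σ (ArLef.NodeAlg.t π) = ((u⁻¹ : (ArLef.NodeAlg B π)ˣ) : ArLef.NodeAlg B π) * ArLef.NodeAlg.e π := by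
    have e1 : ((u⁻¹ : (ArLef.NodeAlg B π)ˣ) : ArLef.NodeAlg B π) * (u : ArLef.NodeAlg B π) = 1 := by simp
    calc σ (ArLef.NodeAlg.t π) = ((u⁻¹ : (ArLef.NodeAlg B π)ˣ) : ArLef.NodeAlg B π) *
          (σ (ArLef.NodeAlg.t π) * (u : ArLef.NodeAlg B π)) := by
            linear_combination (-(σ (ArLef.NodeAlg.t π))) * e1
      _ = _ := by rw [hu]
  have hse : σ (ArLef.NodeAlg.e π) = ((w⁻¹ : (ArLef.NodeAlg B π)ˣ) : ArLef.NodeAlg B π) * ArLef.NodeAlg.t π := by
    have e1 : ((w⁻¹ : (ArLef.NodeAlg B π)ˣ) : ArLef.NodeAlg B π) * (w : ArLef.NodeAlg B π) = 1 := by simp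
    calc σ (ArLef.NodeAlg.e π) = ((w⁻¹ : (ArLef.NodeAlg B π)ˣ) : ArLef.NodeAlg B π) *
          (σ (ArLef.NodeAlg.e π) * (w : ArLef.NodeAlg B π)) := by
            linear_combination (-(σ (ArLef.NodeAlg.e π))) * e1
      _ = _ := by rw [hw]
  have hαu : IsUnit ((u⁻¹ : (ArLef.NodeAlg B π)ˣ) : ArLef.NodeAlg B π) := Units.isUnit _
  generalize ((u⁻¹ : (ArLef.NodeAlg B π)ˣ) : ArLef.NodeAlg B π) = α at hst hαu
  generalize ((w⁻¹ : (ArLef.NodeAlg B π)ˣ) : ArLef.NodeAlg B π) = β at hse
  obtain ⟨γ', hγ'⟩ : ∃ γ' : ArLef.NodeAlg B π, γ' * algebraMap B (ArLef.NodeAlg B π) γ = 1 := by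
    obtain ⟨v, rfl⟩ := hγ
    exact ⟨algebraMap B (ArLef.NodeAlg B π) ((v⁻¹ : Bˣ) : B), by rw [← map_mul]; simp⟩
  obtain ⟨α', hα'⟩ : ∃ α' : ArLef.NodeAlg B π, α' * α = 1 := by
    obtain ⟨v, rfl⟩ := hαu
    exact ⟨((v⁻¹ : (ArLef.NodeAlg B π)ˣ) : ArLef.NodeAlg B π), by simp⟩
  set T := ArLef.NodeAlg.t π with hT
  set E := ArLef.NodeAlg.e π with hE
  set G := algebraMap B (ArLef.NodeAlg B π) γ with hG
  rw [hst, hse] at hrel hfixeq
  have hαβ : α * β = 1 + G * (T * E) ^ k := by
    have h2 : (T * E) * (α * β) = (T * E) * (1 + G * (T * E) ^ k) := by linear_combination hrel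
    exact mul_left_cancel₀ (mul_ne_zero pt.ne_zero pe.ne_zero) h2
  set h : ArLef.NodeAlg B π := α * E - T with hh
  obtain ⟨d, hd⟩ : h ∣ (T * E) ^ k - (α * E ^ 2) ^ k := by
    refine Dvd.dvd.trans ⟨-E, ?_⟩ (sub_dvd_pow_sub_pow (T * E) (α * E ^ 2) k)
    rw [hh]; ring
  have hP : (T * E) ^ k * E = α ^ k * E ^ (2 * k + 1) + h * d * E := by
    have : (T * E) ^ k = (α * E ^ 2) ^ k + h * d := by linear_combination hd
    rw [this]; ring
  have hse' : β * T - E = -β * h + G * ((T * E) ^ k * E) := by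
    rw [hh]; linear_combination E * hαβ
  have hpi : algebraMap B (ArLef.NodeAlg B π) (π ^ (k + 1)) = T * ((T * E) ^ k * E) := by
    rw [map_pow, ← t_mul_e]; ring
  have hax0 : axisN π 0 h = - PowerSeries.X := by
    rw [hh, map_sub, map_mul]
    have h1 := axisN_v_ne π (i := 0) (j := 1) (by decide)
    have h2 := axisN_v_self π 0
    rw [v_one] at h1
    rw [v_zero] at h2
    rw [h1, h2, mul_zero, zero_sub]
  have hne : ¬ E ∣ h := by
    rw [hE, ← v_one, ← axisN_eq_zero_iff π (i := 0) (j := 1) (by decide), hax0]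
    intro h0
    exact PowerSeries.X_ne_zero (neg_eq_zero.mp h0)
  have hI : ArLef.fixIdeal σ = Ideal.span ({E ^ (2 * k + 1), h} : Set (ArLef.NodeAlg B π)) := by
    rw [hfixeq]
    apply le_antisymm
    · rw [Ideal.span_le]
      rintro z (rfl | rfl | rfl)
      · rw [SetLike.mem_coe, hpi, hP, Ideal.mem_span_pair]
        exact ⟨T * α ^ k, T * d * E, by ring⟩
      · exact Ideal.subset_span (by simp)
      · rw [SetLike.mem_coe, hse', hP, Ideal.mem_span_pair]
        exact ⟨G * α ^ k, -β + G * d * E, by ring⟩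
    · rw [Ideal.span_le]
      rintro z (rfl | rfl)
      · have h1 : E ^ (2 * k + 1) = α' ^ k * (γ' * (β * T - E) + γ' * β * h - h * d * E) := by
          have e1 : α' ^ k * α ^ k = 1 := by rw [← mul_pow, hα', one_pow]
          have e2 : γ' * (β * T - E) + γ' * β * h = (T * E) ^ k * E := by
            rw [hse']; linear_combination ((T * E) ^ k * E) * hγ'
          rw [e2, hP]
          linear_combination (-(E ^ (2 * k + 1))) * e1
        rw [SetLike.mem_coe, h1]
        refine Ideal.mul_mem_left _ _ (Ideal.sub_mem _ (Ideal.add_mem _ ?_ ?_) ?_)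
        · exact Ideal.mul_mem_left _ _ (Ideal.subset_span (by simp))
        · exact Ideal.mul_mem_left _ _ (Ideal.subset_span (by simp))
        · have : h * d * E = (d * E) * h := by ring
          rw [this]
          exact Ideal.mul_mem_left _ _ (Ideal.subset_span (by simp))
      · exact Ideal.subset_span (by simp)
  constructor
  · intro g hg
    rw [hI, Ideal.span_le] at hg
    have h1 : g ∣ E ^ (2 * k + 1) := Ideal.mem_span_singleton.mp (hg (by simp))
    have h2 : g ∣ h := Ideal.mem_span_singleton.mp (hg (by simp))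
    obtain ⟨i, _, hi⟩ := (dvd_prime_pow pe _).mp h1
    rcases Nat.eq_zero_or_pos i with rfl | hipos
    · rw [pow_zero] at hi
      exact hi.isUnit_iff.mpr isUnit_one
    · exfalso
      apply hne
      exact (dvd_pow_self E (by omega)).trans (hi.symm.dvd.trans h2)
  · rw [length_quot_congr hI, length_quot_pow E h (isSMulRegular_of_prime pe hne)]
    have hspan : Ideal.span ({E, h} : Set (ArLef.NodeAlg B π)) =
        Ideal.span ({ArLef.NodeAlg.t π, ArLef.NodeAlg.e π} : Set (ArLef.NodeAlg B π)) := by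
      apply le_antisymm
      · rw [Ideal.span_le]
        rintro z (rfl | rfl)
        · exact Ideal.subset_span (Or.inr rfl)
        · rw [SetLike.mem_coe, hh, Ideal.mem_span_pair]
          exact ⟨-1, α, by ring⟩
      · rw [Ideal.span_le]
        rintro z (rfl | rfl)
        · rw [SetLike.mem_coe, Ideal.mem_span_pair]
          exact ⟨α, -1, by rw [hh]; ring⟩
        · exact Ideal.subset_span (Or.inl rfl)
    rw [length_quot_congr hspan, length_quot_t_e π hπm, mul_one]
    have : 2 * (k + 1) - 1 = 2 * k + 1 := by omega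
    rw [this]

end Groth.Agent.S15320
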