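import Groth.Statements.S15323
import Groth.Agent.Lib.Helper22.ArLefLen

set_option autoImplicit false
universe u
open ArLef ArLef.NodeAlg

namespace Groth.Agent.S15323

open Groth.Agent.Lib.helper22.ArLefGen Groth.Agent.Lib.helper22.ArLefNode Groth.Agent.Lib.helper22.ArLefLen

/-- In the cases where the branches through the point do not lie in the divisorial part of the fixed
locus, let B be a discrete valuation ring with uniformizer π, N = B[[t, e]]/(te - π) the complete
local ring of a semi-stable arithmetic surface over B at a singular point x of the closed fibre, and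
σ a ring automorphism of N with σ(π) = π + γ π^j (γ a unit of B, j ≥ 1) and σ(b) - b ∈ π^j N for all
b ∈ B (σ lies over an automorphism τ of B with v(τ(π) - π) = j, B totally ramified over the fixed
ring as in the published setting). Suppose σ fixes the branches, σ(t) = α t and σ(e) = β e with
units α, β, and that t does not divide β - 1 and e does not divide α - 1. Then the length of N
modulo the fixed-point ideal of σ (the multiplicity of x in the residual fixed-point scheme) is j
(s₁ + s₂) + 1, where s₁ = length N/(t, β - 1) and s₂ = length N/(e, α - 1) are the fixed-point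
multiplicities of σ at x along the two branches, each lowered by one. -/
theorem result (B : Type u) [CommRing B] [IsDomain B] [IsDiscreteValuationRing B] (π : B) (hπ : Irreducible π)
    (j : ℕ) (hj : 1 ≤ j) (γ : B) (hγ : IsUnit γ)
    (σ : ArLef.NodeAlg B π ≃+* ArLef.NodeAlg B π)
    (hσB : ∀ b : B, σ (algebraMap B (ArLef.NodeAlg B π) b) - algebraMap B (ArLef.NodeAlg B π) b ∈
      Ideal.span ({algebraMap B (ArLef.NodeAlg B π) (π ^ j)} : Set (ArLef.NodeAlg B π)))
    (hσπ : σ (algebraMap B (ArLef.NodeAlg B π) π) = algebraMap B (ArLef.NodeAlg B π) (π + γ * π ^ j))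
    (α β : (ArLef.NodeAlg B π)ˣ) (ht : σ (ArLef.NodeAlg.t π) = (α : ArLef.NodeAlg B π) * ArLef.NodeAlg.t π) (he : σ (ArLef.NodeAlg.e π) = (β : ArLef.NodeAlg B π) * ArLef.NodeAlg.e π)
    (htb : ¬ (ArLef.NodeAlg.t π ∣ (β : ArLef.NodeAlg B π) - 1)) (hea : ¬ (ArLef.NodeAlg.e π ∣ (α : ArLef.NodeAlg B π) - 1)) :
    Module.length (ArLef.NodeAlg B π) (ArLef.NodeAlg B π ⧸ ArLef.fixIdeal σ) =
      (j : ℕ∞) * (Module.length (ArLef.NodeAlg B π) (ArLef.NodeAlg B π ⧸ Ideal.span ({ArLef.NodeAlg.t π, (β : ArLef.NodeAlg B π) - 1} : Set (ArLef.NodeAlg B π))) +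
        Module.length (ArLef.NodeAlg B π) (ArLef.NodeAlg B π ⧸ Ideal.span ({ArLef.NodeAlg.e π, (α : ArLef.NodeAlg B π) - 1} : Set (ArLef.NodeAlg B π)))) + 1 := by
  have hπm : IsLocalRing.maximalIdeal B = Ideal.span ({π} : Set B) := hπ.maximalIdeal_eq
  haveI := isLocalRing_node π (span_ne_top π hπm)
  haveI := isDomain_node π hπ.ne_zero hπm
  have pt : Prime (ArLef.NodeAlg.t π) := prime_v π hπm 0
  have pe : Prime (ArLef.NodeAlg.e π) := prime_v π hπm 1
  have hte : ¬ ArLef.NodeAlg.t π ∣ ArLef.NodeAlg.e π :=
    not_v_dvd_v π (span_ne_top π hπm) (i := 1) (j := 0) (by decide)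
  have het : ¬ ArLef.NodeAlg.e π ∣ ArLef.NodeAlg.t π :=
    not_v_dvd_v π (span_ne_top π hπm) (i := 0) (j := 1) (by decide)
  obtain ⟨k, rfl⟩ : ∃ k, j = k + 1 := ⟨j - 1, by omega⟩
  have hfixeq := node_fixIdeal_eq π hπm (k + 1) γ hγ σ hσB hσπ
  have hrel := node_rel π k γ σ hσπ
  obtain ⟨γ', hγ'⟩ : ∃ γ' : ArLef.NodeAlg B π, γ' * algebraMap B (ArLef.NodeAlg B π) γ = 1 := by
    obtain ⟨v, rfl⟩ := hγ
    exact ⟨algebraMap B (ArLef.NodeAlg B π) ((v⁻¹ : Bˣ) : B), by rw [← map_mul]; simp⟩
  obtain ⟨α', hα'⟩ : ∃ α' : ArLef.NodeAlg B π, α' * (α : ArLef.NodeAlg B π) = 1 :=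
    ⟨((α⁻¹ : (ArLef.NodeAlg B π)ˣ) : ArLef.NodeAlg B π), by simp⟩
  have hαunit : IsUnit (α : ArLef.NodeAlg B π) := α.isUnit
  generalize (α : ArLef.NodeAlg B π) = A at *
  generalize (β : ArLef.NodeAlg B π) = Bt at *
  set T := ArLef.NodeAlg.t π with hT
  set E := ArLef.NodeAlg.e π with hE
  set G := algebraMap B (ArLef.NodeAlg B π) γ with hG
  rw [ht, he] at hrel hfixeq
  set a := A - 1 with ha
  set b := Bt - 1 with hb
  have hAB : A * Bt = 1 + G * (T * E) ^ k := by
    have h2 : (T * E) * (A * Bt) = (T * E) * (1 + G * (T * E) ^ k) := by linear_combination hrel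
    exact mul_left_cancel₀ (mul_ne_zero pt.ne_zero pe.ne_zero) h2
  have hab : a + b + a * b = G * (T * E) ^ k := by rw [ha, hb]; linear_combination hAB
  have hbA : b = α' * (G * (T * E) ^ k - a) := by
    have : b * A = G * (T * E) ^ k - a := by rw [ha] at hab ⊢; linear_combination hab
    calc b = α' * (b * A) := by linear_combination (-b) * hα'
      _ = _ := by rw [this]
  have hTEk : (T * E) ^ k = γ' * (a + b + a * b) := by
    rw [hab]; linear_combination (-((T * E) ^ k)) * hγ'
  have hI : ArLef.fixIdeal σ = Ideal.span ({T * a, E * b} : Set (ArLef.NodeAlg B π)) := by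
    rw [hfixeq]
    apply le_antisymm
    · rw [Ideal.span_le]
      rintro z (rfl | rfl | rfl)
      · have : algebraMap B (ArLef.NodeAlg B π) (π ^ (k + 1)) =
            (γ' * E + γ' * E * b) * (T * a) + (γ' * T) * (E * b) := by
          rw [map_pow, ← t_mul_e, pow_succ, hTEk]; ring
        rw [SetLike.mem_coe, this]
        exact Ideal.add_mem _ (Ideal.mul_mem_left _ _ (Ideal.subset_span (by simp)))
          (Ideal.mul_mem_left _ _ (Ideal.subset_span (by simp)))
      · have : A * T - T = T * a := by rw [ha]; ring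
        rw [SetLike.mem_coe, this]; exact Ideal.subset_span (by simp)
      · have : Bt * E - E = E * b := by rw [hb]; ring
        rw [SetLike.mem_coe, this]; exact Ideal.subset_span (by simp)
    · rw [Ideal.span_le]
      rintro z (rfl | rfl)
      · have : T * a = A * T - T := by rw [ha]; ring
        rw [SetLike.mem_coe, this]; exact Ideal.subset_span (by simp)
      · have : E * b = Bt * E - E := by rw [hb]; ring
        rw [SetLike.mem_coe, this]; exact Ideal.subset_span (by simp)
  have hspanab : Ideal.span ({a, b} : Set (ArLef.NodeAlg B π)) =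
      Ideal.span ({T ^ k * E ^ k, a} : Set (ArLef.NodeAlg B π)) := by
    apply le_antisymm
    · rw [Ideal.span_le]
      rintro z (rfl | rfl)
      · exact Ideal.subset_span (by simp)
      · rw [SetLike.mem_coe, hbA, Ideal.mem_span_pair]
        exact ⟨α' * G, -α', by rw [mul_pow]; ring⟩
    · rw [Ideal.span_le]
      rintro z (rfl | rfl)
      · rw [SetLike.mem_coe, ← mul_pow, hTEk, Ideal.mem_span_pair]
        exact ⟨γ' + γ' * b, γ', by ring⟩
      · exact Ideal.subset_span (by simp)
  have hlenab : Module.length (ArLef.NodeAlg B π)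
      (ArLef.NodeAlg B π ⧸ Ideal.span ({a, b} : Set (ArLef.NodeAlg B π))) =
      (k : ℕ∞) * (Module.length (ArLef.NodeAlg B π)
          (ArLef.NodeAlg B π ⧸ Ideal.span ({T, b} : Set (ArLef.NodeAlg B π))) +
        Module.length (ArLef.NodeAlg B π)
          (ArLef.NodeAlg B π ⧸ Ideal.span ({E, a} : Set (ArLef.NodeAlg B π)))) := by
    rcases Nat.eq_zero_or_pos k with rfl | hk
    · rw [length_quot_top (by
        rw [hspanab, Ideal.eq_top_iff_one]; exact Ideal.subset_span (by simp))]
      simp
    · have hTk : T ∣ (T * E) ^ k := (dvd_mul_right T E).trans (dvd_pow_self _ (by omega))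
      have hta : ¬ T ∣ a := by
        intro hdiv
        apply htb
        rw [hbA]
        exact Dvd.dvd.mul_left (dvd_sub (Dvd.dvd.mul_left hTk _) hdiv) _
      have hspanT : Ideal.span ({T, a} : Set (ArLef.NodeAlg B π)) =
          Ideal.span ({T, b} : Set (ArLef.NodeAlg B π)) := by
        obtain ⟨c, hc⟩ := hTk
        apply le_antisymm
        · rw [Ideal.span_le]
          rintro z (rfl | rfl)
          · exact Ideal.subset_span (by simp)
          · have : a = (G * c) * T + (-A) * b := by
              have h1 : b * A = G * (T * E) ^ k - a := by rw [ha] at hab ⊢; linear_combination hab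
              rw [hc] at h1
              linear_combination h1
            rw [SetLike.mem_coe, this]
            exact Ideal.add_mem _ (Ideal.mul_mem_left _ _ (Ideal.subset_span (by simp)))
              (Ideal.mul_mem_left _ _ (Ideal.subset_span (by simp)))
        · rw [Ideal.span_le]
          rintro z (rfl | rfl)
          · exact Ideal.subset_span (by simp)
          · rw [SetLike.mem_coe, hbA, hc, Ideal.mem_span_pair]
            exact ⟨α' * G * c, -α', by ring⟩
      rw [length_quot_congr hspanab,
        len_pow_mul_pow pt pe k k (fun _ => hta) (fun _ => hea), length_quot_congr hspanT]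
      ring
  rw [length_quot_congr hI, len_pq_mul pt pe hte het htb hea, length_quot_t_e π hπm, hlenab]
  push_cast
  ring

end Groth.Agent.S15323
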