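import Groth.Statements.S15325
import Groth.Agent.Lib.Helper22.ArLefExact

set_option autoImplicit false
universe u
open ArLef ArLef.NodeAlg

namespace Groth.Agent.S15325

open Groth.Agent.Lib.helper22.ArLefGen Groth.Agent.Lib.helper22.ArLefNode Groth.Agent.Lib.helper22.ArLefLen

/-- Let k be a field, A = k[[t, e]]/(te) the complete local ring of a nodal curve at a node x, and σ a
k-algebra automorphism of A fixing the two branches, σ(t) = α t and σ(e) = β e with units α, β.
Writing I for the fixed-point ideal of σ (generated by all σ(r) - r), the fixed-point multiplicity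
length(A/I) of σ at x and the fixed-point multiplicities length(A/(I + (t))), length(A/(I + (e))) of
the automorphisms induced on the two branches satisfy length(A/I) + 1 = length(A/(I + (t))) +
length(A/(I + (e))), as extended natural numbers (both sides are infinite when σ fixes a branch
pointwise). (The published setting has k algebraically closed.) -/
theorem result (k : Type u) [Field k]
    (σ : ArLef.NodeAlg k 0 ≃ₐ[k] ArLef.NodeAlg k 0) (α β : (ArLef.NodeAlg k 0)ˣ)
    (ht : σ (ArLef.NodeAlg.t (0 : k)) = (α : ArLef.NodeAlg k 0) * ArLef.NodeAlg.t (0 : k)) (he : σ (ArLef.NodeAlg.e (0 : k)) = (β : ArLef.NodeAlg k 0) * ArLef.NodeAlg.e (0 : k)) :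
    Module.length (ArLef.NodeAlg k 0) (ArLef.NodeAlg k 0 ⧸ ArLef.fixIdeal σ) + 1 =
      Module.length (ArLef.NodeAlg k 0) (ArLef.NodeAlg k 0 ⧸ (ArLef.fixIdeal σ ⊔ Ideal.span ({ArLef.NodeAlg.t (0 : k)} : Set (ArLef.NodeAlg k 0)))) +
        Module.length (ArLef.NodeAlg k 0) (ArLef.NodeAlg k 0 ⧸ (ArLef.fixIdeal σ ⊔ Ideal.span ({ArLef.NodeAlg.e (0 : k)} : Set (ArLef.NodeAlg k 0)))) := by
  have hπm : IsLocalRing.maximalIdeal k = Ideal.span ({(0 : k)} : Set k) := by
    rw [IsLocalRing.maximalIdeal_eq_bot, Ideal.span_singleton_eq_bot.mpr rfl]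
  have hne : Ideal.span ({(0 : k)} : Set k) ≠ ⊤ := span_ne_top (0 : k) hπm
  have hprime : (Ideal.span ({(0 : k)} : Set k)).IsPrime := span_isPrime (0 : k) hπm
  haveI := isLocalRing_node (0 : k) hne
  set T := ArLef.NodeAlg.t (0 : k) with hT
  set E := ArLef.NodeAlg.e (0 : k) with hE
  have hTE : T * E = 0 := by rw [hT, hE, t_mul_e, map_zero]
  have het : ¬ E ∣ T := not_v_dvd_v (0 : k) hne (i := 0) (j := 1) (by decide)
  have hte : ¬ T ∣ E := not_v_dvd_v (0 : k) hne (i := 1) (j := 0) (by decide)
  set τ : ArLef.NodeAlg k 0 ≃+* ArLef.NodeAlg k 0 := σ.toRingEquiv with hτ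
  have hτapp : ∀ x, τ x = σ x := fun _ => rfl
  have hfix : ArLef.fixIdeal σ = ArLef.fixIdeal τ := rfl
  generalize (α : ArLef.NodeAlg k 0) = A at *
  generalize (β : ArLef.NodeAlg k 0) = Bt at *
  set a := A - 1 with ha
  set b := Bt - 1 with hb
  have hI : ArLef.fixIdeal σ = Ideal.span ({a * T, b * E} : Set (ArLef.NodeAlg k 0)) := by
    apply le_antisymm
    · rw [hfix]
      refine node_fixIdeal_le (0 : k) hπm τ _ ?_ ?_ ?_
      · rw [hτapp, ht]
        have : A * T - T = a * T := by rw [ha]; ring
        rw [this]; exact Ideal.subset_span (by simp)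
      · rw [hτapp, he]
        have : Bt * E - E = b * E := by rw [hb]; ring
        rw [this]; exact Ideal.subset_span (by simp)
      · intro c
        rw [hτapp, AlgEquiv.commutes, sub_self]
        exact Ideal.zero_mem _
    · rw [Ideal.span_le]
      rintro z (hz | hz)
      · have : a * T = σ T - T := by rw [ht, ha]; ring
        rw [SetLike.mem_coe, hz, this]; exact Ideal.subset_span ⟨_, rfl⟩
      · have : b * E = σ E - E := by rw [he, hb]; ring
        rw [SetLike.mem_coe, hz, this]; exact Ideal.subset_span ⟨_, rfl⟩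
  set I := ArLef.fixIdeal σ with hIdef
  have hinf : (I ⊔ Ideal.span ({T} : Set (ArLef.NodeAlg k 0))) ⊓
      (I ⊔ Ideal.span ({E} : Set (ArLef.NodeAlg k 0))) = I := by
    apply le_antisymm
    · rintro x ⟨hx1, hx2⟩
      obtain ⟨i1, hi1, y1, hy1, rfl⟩ := Submodule.mem_sup.mp hx1
      obtain ⟨i2, hi2, y2, hy2, hxx⟩ := Submodule.mem_sup.mp hx2
      obtain ⟨u, rfl⟩ := Ideal.mem_span_singleton'.mp hy1
      obtain ⟨w, rfl⟩ := Ideal.mem_span_singleton'.mp hy2
      have hdiff : i2 - i1 ∈ I := I.sub_mem hi2 hi1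
      rw [hI, Ideal.mem_span_pair] at hdiff
      obtain ⟨c1, c2, hc⟩ := hdiff
      have hdvd : v (0 : k) 1 ∣ v (0 : k) 0 * (u - c1 * a) := by
        refine ⟨c2 * b + w, ?_⟩
        rw [v_zero, v_one]
        linear_combination (-1 : ArLef.NodeAlg k 0) * hxx - hc
      rcases v_dvd_mul (0 : k) hprime (i := 0) (j := 1) (by decide) hdvd with h1 | h1
      · rw [v_zero, v_one] at h1; exact absurd h1 het
      · rw [v_one] at h1
        obtain ⟨y, hy⟩ := h1
        have : i1 + u * T = i1 + c1 * (a * T) := by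
          have : u = c1 * a + E * y := by linear_combination hy
          rw [this]
          linear_combination y * hTE
        rw [this]
        refine I.add_mem hi1 (I.mul_mem_left _ ?_)
        rw [hI]; exact Ideal.subset_span (by simp)
    · exact le_inf le_sup_left le_sup_left
  have hsup : (I ⊔ Ideal.span ({T} : Set (ArLef.NodeAlg k 0))) ⊔
      (I ⊔ Ideal.span ({E} : Set (ArLef.NodeAlg k 0))) =
      Ideal.span ({ArLef.NodeAlg.t (0 : k), ArLef.NodeAlg.e (0 : k)} : Set (ArLef.NodeAlg k 0)) := by
    have hIle : I ≤ Ideal.span ({T, E} : Set (ArLef.NodeAlg k 0)) := by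
      rw [hI, Ideal.span_le]
      rintro z (hz | hz)
      · rw [SetLike.mem_coe, hz]
        exact Ideal.mul_mem_left _ _ (Ideal.subset_span (by simp))
      · rw [SetLike.mem_coe, hz]
        exact Ideal.mul_mem_left _ _ (Ideal.subset_span (by simp))
    apply le_antisymm
    · refine sup_le (sup_le hIle ?_) (sup_le hIle ?_)
      · exact Ideal.span_mono (Set.singleton_subset_iff.mpr (Or.inl rfl))
      · exact Ideal.span_mono (Set.singleton_subset_iff.mpr (Or.inr rfl))
    · rw [Ideal.span_le]
      rintro z (hz | hz)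
      · rw [SetLike.mem_coe, hz]
        exact Ideal.mem_sup_left (Ideal.mem_sup_right (Ideal.subset_span rfl))
      · rw [SetLike.mem_coe, hz]
        exact Ideal.mem_sup_right (Ideal.mem_sup_right (Ideal.subset_span rfl))
  have key := length_quot_add_length_quot (I ⊔ Ideal.span ({T} : Set (ArLef.NodeAlg k 0)))
    (I ⊔ Ideal.span ({E} : Set (ArLef.NodeAlg k 0)))
  rw [length_quot_congr hinf, length_quot_congr hsup, length_quot_t_e (0 : k) hπm] at key
  exact key.symm

end Groth.Agent.S15325
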