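import Groth.Statements.S15327
import Mathlib.LinearAlgebra.Matrix.Rank
import Mathlib.Tactic

set_option autoImplicit false
open ArLef ArLef.BlowupGraph

namespace Groth.Agent.S15327

section aux
variable {n : ℕ} (G : ArLef.BlowupGraph n)

/-- tt recursion in `Fin` form -/
theorem tt_eq (k m : Fin n) :
    G.tt k m = if m < k then 0 else if m = k then 1 else ∑ p ∈ G.par m, G.tt k p := by
  unfold ArLef.BlowupGraph.tt
  rw [ArLef.BlowupGraph.ttN]
  have hpar : G.parN m.1 = (G.par m).map Fin.valEmbedding := by
    unfold ArLef.BlowupGraph.parN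
    rw [dif_pos m.2]
  by_cases h1 : m < k
  · rw [if_pos h1, if_pos (Fin.lt_def.mp h1)]
  · rw [if_neg h1, if_neg (fun h => h1 (Fin.lt_def.mpr h))]
    by_cases h2 : m = k
    · rw [if_pos h2, if_pos (congrArg Fin.val h2)]
    · rw [if_neg h2, if_neg (fun h => h2 (Fin.ext h))]
      rw [Finset.sum_attach (G.parN m.1) (fun p => G.ttN k.1 p), hpar, Finset.sum_map]
      rfl

/-- the inverse of the total transform matrix -/
def U : Matrix (Fin n) (Fin n) ℚ := fun m k => if m = k then 1 else if m ∈ G.par k then -1 else 0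

/-- the total transform matrix -/
def Tm : Matrix (Fin n) (Fin n) ℚ := fun k m => (G.tt k m : ℚ)

theorem not_mem_par_self (m : Fin n) : m ∉ G.par m := fun h => lt_irrefl _ (G.par_lt m m h)

theorem Tm_mul_U : Tm G * U G = 1 := by
  ext k j
  rw [Matrix.mul_apply, Matrix.one_apply]
  have h1 : ∑ m, Tm G k m * U G m j = (G.tt k j : ℚ) - ∑ m ∈ G.par j, (G.tt k m : ℚ) := by
    have : ∀ m, Tm G k m * U G m j = (if m = j then (G.tt k j : ℚ) else 0) -
        (if m ∈ G.par j then (G.tt k m : ℚ) else 0) := by
      intro m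
      unfold U Tm
      by_cases hmj : m = j
      · subst hmj
        simp [not_mem_par_self G m]
      · by_cases hm : m ∈ G.par j <;> simp [hmj, hm]
    simp_rw [this, Finset.sum_sub_distrib]
    rw [Finset.sum_ite_eq' Finset.univ j, if_pos (Finset.mem_univ _), ← Finset.sum_filter,
      Finset.filter_mem_eq_inter, Finset.univ_inter]
  rw [h1, tt_eq G k j]
  by_cases hjk : j < k
  · have h0 : ∀ m ∈ G.par j, (G.tt k m : ℚ) = 0 := by
      intro m hm
      rw [tt_eq G k m, if_pos ((G.par_lt j m hm).trans hjk)]
      simp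
    rw [if_pos hjk, Finset.sum_eq_zero h0, if_neg (ne_of_gt hjk)]
    simp
  · rw [if_neg hjk]
    by_cases hjk' : j = k
    · subst hjk'
      have h0 : ∀ m ∈ G.par j, (G.tt j m : ℚ) = 0 := by
        intro m hm
        rw [tt_eq G j m, if_pos (G.par_lt j m hm)]
        simp
      rw [if_pos rfl, Finset.sum_eq_zero h0, if_pos rfl]
      simp
    · rw [if_neg hjk', if_neg (fun h => hjk' h.symm)]
      push_cast
      simp

theorem U_mul_Tm : U G * Tm G = 1 := by
  exact mul_eq_one_comm.mp (Tm_mul_U G)

theorem adj_symm (p q : Fin n) : G.Adj p q ↔ G.Adj q p := by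
  unfold ArLef.BlowupGraph.Adj
  exact or_comm

theorem mat_symm (p q : Fin n) : G.mat p q = G.mat q p := by
  unfold ArLef.BlowupGraph.mat
  by_cases h : p = q
  · subst h; rfl
  · rw [if_neg h, if_neg (fun h' : q = p => h h'.symm)]
    by_cases ha : G.Adj p q
    · rw [if_pos ha, if_pos ((adj_symm G p q).mp ha)]
    · rw [if_neg ha, if_neg (fun h' : G.Adj q p => ha ((adj_symm G q p).mp h'))]

theorem UUt_symm (p q : Fin n) : (U G * (U G).transpose) p q = (U G * (U G).transpose) q p := by
  rw [Matrix.mul_apply, Matrix.mul_apply]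
  refine Finset.sum_congr rfl fun k _ => ?_
  simp only [Matrix.transpose_apply]
  ring

theorem par_eq_pair_iff (p q k : Fin n) (hne : p ≠ q) :
    (p ∈ G.par k ∧ q ∈ G.par k) ↔ G.par k = {p, q} := by
  constructor
  · rintro ⟨h1, h2⟩
    symm
    apply Finset.eq_of_subset_of_card_le
    · intro x hx
      rw [Finset.mem_insert, Finset.mem_singleton] at hx
      rcases hx with rfl | rfl
      · exact h1
      · exact h2
    · rw [Finset.card_pair hne]
      exact G.card_le_two k
  · intro h
    rw [h]
    simp

theorem mat_eq_of_lt (p q : Fin n) (hpq : p < q) :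
    G.mat p q = -((U G * (U G).transpose) p q) := by
  have hne : p ≠ q := ne_of_lt hpq
  have hqp : q ∉ G.par p := fun h => lt_asymm hpq (G.par_lt p q h)
  rw [Matrix.mul_apply]
  simp only [Matrix.transpose_apply]
  have hterm : ∀ k, U G p k * U G q k =
      (if k = q then (if p ∈ G.par q then (-1 : ℚ) else 0) else 0) +
        (if p ∈ G.par k ∧ q ∈ G.par k then 1 else 0) := by
    intro k
    unfold U
    by_cases hkp : k = p
    · subst hkp
      simp [hne, hqp, not_mem_par_self G k, Ne.symm hne]
    · by_cases hkq : k = q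
      · subst hkq
        simp [hne, not_mem_par_self G k]
      · have h1' : p ≠ k := Ne.symm hkp
        have h2' : q ≠ k := Ne.symm hkq
        by_cases h1 : p ∈ G.par k <;> by_cases h2 : q ∈ G.par k <;> simp [*]
  simp_rw [hterm, Finset.sum_add_distrib]
  rw [Finset.sum_ite_eq' Finset.univ q, if_pos (Finset.mem_univ _), Finset.sum_boole]
  set c := (Finset.univ.filter fun k => p ∈ G.par k ∧ q ∈ G.par k) with hc
  have hmem : ∀ k, k ∈ c ↔ G.par k = {p, q} := by
    intro k
    rw [hc, Finset.mem_filter, ← par_eq_pair_iff G p q k hne]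
    simp
  have hmemq : ∀ k ∈ c, p ∈ G.par q ∧ q < k := by
    intro k hk
    have hk' := (hmem k).mp hk
    have hp : p ∈ G.par k := by rw [hk']; simp
    have hq : q ∈ G.par k := by rw [hk']; simp
    exact ⟨(G.meet_of_two k p q hp hq hpq).1, G.par_lt k q hq⟩
  have hc1 : c.card ≤ 1 := by
    rw [Finset.card_le_one]
    intro a ha b hb
    by_contra hab
    rcases lt_or_gt_of_ne hab with h | h
    · have hb' := (hmem b).mp hb
      have hp : p ∈ G.par b := by rw [hb']; simp
      have hq : q ∈ G.par b := by rw [hb']; simp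
      exact (G.meet_of_two b p q hp hq hpq).2 a (hmemq a ha).2 h ((hmem a).mp ha)
    · have ha' := (hmem a).mp ha
      have hp : p ∈ G.par a := by rw [ha']; simp
      have hq : q ∈ G.par a := by rw [ha']; simp
      exact (G.meet_of_two a p q hp hq hpq).2 b (hmemq b hb).2 h ((hmem b).mp hb)
  unfold ArLef.BlowupGraph.mat
  rw [if_neg hne]
  by_cases hp : p ∈ G.par q
  · by_cases hcz : c = ∅
    · have hadj : G.Adj p q := Or.inl ⟨hp, fun m _ hpar => by
        have : m ∈ c := (hmem m).mpr hpar
        rw [hcz] at this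
        exact absurd this (Finset.notMem_empty m)⟩
      rw [if_pos hadj, if_pos hp, hcz]
      simp
    · obtain ⟨k, hk⟩ := Finset.nonempty_iff_ne_empty.mpr hcz
      have hcard : c.card = 1 := le_antisymm hc1 (Finset.card_pos.mpr ⟨k, hk⟩)
      have hadj : ¬ G.Adj p q := by
        rintro (⟨_, h⟩ | ⟨h, _⟩)
        · exact h k (hmemq k hk).2 ((hmem k).mp hk)
        · exact hqp h
      rw [if_neg hadj, if_pos hp, hcard]
      simp
  · have hcz : c = ∅ := by
      rw [Finset.eq_empty_iff_forall_notMem]
      intro k hk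
      exact hp (hmemq k hk).1
    have hadj : ¬ G.Adj p q := by
      rintro (⟨h, _⟩ | ⟨h, _⟩)
      · exact hp h
      · exact hqp h
    rw [if_neg hadj, if_neg hp, hcz]
    simp

theorem mat_eq_diag (p : Fin n) : G.mat p p = -((U G * (U G).transpose) p p) := by
  rw [Matrix.mul_apply]
  simp only [Matrix.transpose_apply]
  have hterm : ∀ k, U G p k * U G p k =
      (if k = p then (1 : ℚ) else 0) + (if p ∈ G.par k then 1 else 0) := by
    intro k
    unfold U
    by_cases hkp : k = p
    · subst hkp
      simp [not_mem_par_self G k]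
    · have h1' : p ≠ k := Ne.symm hkp
      by_cases h1 : p ∈ G.par k <;> simp [*]
  simp_rw [hterm, Finset.sum_add_distrib]
  rw [Finset.sum_ite_eq' Finset.univ p, if_pos (Finset.mem_univ _), Finset.sum_boole]
  unfold ArLef.BlowupGraph.mat ArLef.BlowupGraph.selfInt
  rw [if_pos rfl]
  push_cast
  ring

theorem mat_eq : G.mat = -(U G * (U G).transpose) := by
  ext p q
  rw [Matrix.neg_apply]
  rcases lt_trichotomy p q with h | h | h
  · exact mat_eq_of_lt G p q h
  · subst h
    exact mat_eq_diag G p
  · rw [mat_symm, UUt_symm]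
    exact mat_eq_of_lt G q p h

/-- minus the inverse of the intersection matrix -/
def N : Matrix (Fin n) (Fin n) ℚ := -((Tm G).transpose * Tm G)

theorem N_apply (i j : Fin n) : N G i j = -(G.mult i j : ℚ) := by
  unfold N ArLef.BlowupGraph.mult
  rw [Matrix.neg_apply, Matrix.mul_apply]
  push_cast
  rfl

theorem N_symm (i j : Fin n) : N G i j = N G j i := by
  rw [N_apply, N_apply]
  unfold ArLef.BlowupGraph.mult
  congr 2
  refine Finset.sum_congr rfl fun k _ => ?_
  ring

theorem mat_mul_N : G.mat * N G = 1 := by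
  rw [mat_eq, N, neg_mul_neg, Matrix.mul_assoc, ← Matrix.mul_assoc (U G).transpose,
    ← Matrix.transpose_mul, Tm_mul_U, Matrix.transpose_one, Matrix.one_mul, U_mul_Tm]

theorem subM_isUnit (I : Finset (Fin n)) :
    IsUnit (G.mat.submatrix (fun x : I => x.1) (fun x : I => x.1)) := by
  set A : Matrix (Fin n) I ℚ := ((U G).submatrix (fun x : I => x.1) id).transpose with hA
  set B : Matrix I (Fin n) ℚ := ((Tm G).submatrix id (fun x : I => x.1)).transpose with hB
  have hBA : B * A = 1 := by
    rw [hA, hB, ← Matrix.transpose_mul]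
    have : (U G).submatrix (fun x : I => x.1) id * (Tm G).submatrix id (fun x : I => x.1) =
        (U G * Tm G).submatrix (fun x : I => x.1) (fun x : I => x.1) := by
      ext a b
      simp [Matrix.mul_apply]
    rw [this, U_mul_Tm, Matrix.submatrix_one _ Subtype.val_injective, Matrix.transpose_one]
  have hM : G.mat.submatrix (fun x : I => x.1) (fun x : I => x.1) = -(A.transpose * A) := by
    rw [mat_eq]
    ext a b
    simp [Matrix.mul_apply, hA]
  rw [hM, ← Matrix.mulVec_injective_iff_isUnit]
  have hlin : Function.Injective (-(A.transpose * A)).mulVecLin := by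
    rw [← LinearMap.ker_eq_bot, LinearMap.ker_eq_bot']
    intro v hv
    have h1 : (A.transpose * A).mulVecLin v = 0 := by
      rw [Matrix.mulVecLin_apply] at hv ⊢
      rw [Matrix.neg_mulVec, neg_eq_zero] at hv
      exact hv
    have h2 : v ∈ LinearMap.ker (A.transpose * A).mulVecLin := h1
    rw [Matrix.ker_mulVecLin_transpose_mul_self] at h2
    have h3 : A.mulVec v = 0 := h2
    have h4 : v = (B * A).mulVec v := by rw [hBA, Matrix.one_mulVec]
    rw [h4, ← Matrix.mulVec_mulVec, h3, Matrix.mulVec_zero]
  exact hlin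

theorem sum_split (I : Finset (Fin n)) (f : Fin n → ℚ) :
    ∑ j, f j = ∑ b : I, f b.1 + ∑ j ∈ Finset.univ.filter (fun j => j ∉ I), f j := by
  rw [Finset.sum_coe_sort I f, ← Finset.sum_filter_add_sum_filter_not Finset.univ (fun j => j ∈ I) f]
  congr 2
  ext x
  simp

theorem mat_mul_N_apply (a i : Fin n) :
    ∑ j, G.mat a j * N G j i = if a = i then 1 else 0 := by
  have := congrFun (congrFun (mat_mul_N G) a) i
  rwa [Matrix.mul_apply, Matrix.one_apply] at this

theorem key_sum (I : Finset (Fin n)) (a i : Fin n) (hi : i ∉ I) :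
    ∑ j ∈ Finset.univ.filter (fun j => j ∉ I), G.pairing I a j * N G j i =
      if a = i then 1 else 0 := by
  set J := Finset.univ.filter (fun j : Fin n => j ∉ I) with hJ
  set MII : Matrix I I ℚ := G.mat.submatrix (fun x : I => x.1) (fun x : I => x.1) with hMII
  set W : Matrix I I ℚ := MII⁻¹ with hW
  have hWM : W * MII = 1 :=
    Matrix.nonsing_inv_mul _ ((Matrix.isUnit_iff_isUnit_det _).mp (subM_isUnit G I))
  set v : I → ℚ := fun d => N G d.1 i with hv
  set r : I → ℚ := fun b => G.mat a b.1 with hr
  -- Claim 1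
  have claim1 : ∀ c : I, ∑ j ∈ J, G.mat c.1 j * N G j i = -(MII.mulVec v) c := by
    intro c
    have h0 := mat_mul_N_apply G c.1 i
    have hci : c.1 ≠ i := fun h => hi (h ▸ c.2)
    rw [if_neg hci, sum_split I] at h0
    have : (MII.mulVec v) c = ∑ b : I, G.mat c.1 b.1 * N G b.1 i := rfl
    rw [this]
    linarith
  -- unfold pairing
  have hpair : ∀ j, G.pairing I a j =
      G.mat a j - ∑ b : I, ∑ c : I, r b * W b c * G.mat c.1 j := fun j => rfl
  simp_rw [hpair, sub_mul, Finset.sum_sub_distrib]
  -- Claim 2
  have claim2 : ∑ j ∈ J, (∑ b : I, ∑ c : I, r b * W b c * G.mat c.1 j) * N G j i =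
      ∑ b : I, ∑ c : I, r b * W b c * ∑ j ∈ J, G.mat c.1 j * N G j i := by
    simp_rw [Finset.sum_mul, Finset.mul_sum]
    rw [Finset.sum_comm]
    refine Finset.sum_congr rfl fun b _ => ?_
    rw [Finset.sum_comm]
    refine Finset.sum_congr rfl fun c _ => ?_
    refine Finset.sum_congr rfl fun j _ => ?_
    ring
  rw [claim2]
  simp_rw [claim1]
  -- Claim 3
  have claim3 : ∑ b : I, ∑ c : I, r b * W b c * -(MII.mulVec v) c = -∑ b : I, r b * v b := by
    rw [← Finset.sum_neg_distrib]
    refine Finset.sum_congr rfl fun b _ => ?_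
    have h1 : ∑ c : I, r b * W b c * -(MII.mulVec v) c = -(r b * (W.mulVec (MII.mulVec v)) b) := by
      have : (W.mulVec (MII.mulVec v)) b = ∑ c : I, W b c * (MII.mulVec v) c := rfl
      rw [this, Finset.mul_sum, ← Finset.sum_neg_distrib]
      refine Finset.sum_congr rfl fun c _ => ?_
      ring
    rw [h1, Matrix.mulVec_mulVec, hWM, Matrix.one_mulVec]
  rw [claim3, sub_neg_eq_add, add_comm]
  have := mat_mul_N_apply G a i
  rw [sum_split I] at this
  exact this

end aux

/-- Let Φ be the labelled dual graph of the exceptional curves of n successive blow-ups of closed points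
starting from a regular surface with algebraically closed residue fields (vertices = exceptional
curves in order of creation, labels = intersection numbers), I any set of vertices (the curves
contracted to a normal surface) and σ a permutation of the vertices preserving all intersection
numbers and the set I. Let e_{ij} be the multiplicity of E_i × E_j in the fibre square of the
composite blow-down (the sum over k of c^k_i c^k_j, c^k the total transform of the k-th exceptional
curve) and (E_i · E_j)_I Mumford's rational intersection number of the images after contracting I.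
Then the sum over i, j outside I of e_{ij} (σ E_i · E_j)_I equals minus the number of σ-fixed
vertices outside I. (Stated for the dual graphs realized with all residue fields equal to the base
field, which is the case the published argument realizes geometrically.) -/
theorem result (n : ℕ) (G : ArLef.BlowupGraph n) (I : Finset (Fin n))
    (σ : Equiv.Perm (Fin n)) (hσ : ∀ i j : Fin n, G.mat (σ i) (σ j) = G.mat i j)
    (hσI : ∀ i : Fin n, σ i ∈ I ↔ i ∈ I) :
    G.lNum I σ = ArLef.BlowupGraph.rNum I σ := by
  unfold ArLef.BlowupGraph.lNum ArLef.BlowupGraph.rNum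
  have hinner : ∀ i ∈ Finset.univ.filter (fun i : Fin n => i ∉ I),
      ∑ j ∈ Finset.univ.filter (fun j : Fin n => j ∉ I), (G.mult i j : ℚ) * G.pairing I (σ i) j =
        -(if σ i = i then (1 : ℚ) else 0) := by
    intro i hi
    have hiI : i ∉ I := (Finset.mem_filter.mp hi).2
    rw [← key_sum G I (σ i) i hiI, ← Finset.sum_neg_distrib]
    refine Finset.sum_congr rfl fun j _ => ?_
    have : (G.mult i j : ℚ) = -N G j i := by rw [N_symm, N_apply, neg_neg]
    rw [this]
    ring
  rw [Finset.sum_congr rfl hinner, Finset.sum_neg_distrib, Finset.sum_boole, Finset.filter_filter]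

end Groth.Agent.S15327
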