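import Groth.Statements.S15328
import Groth.Agent.Lib.Lead.VBCurve31
-- import your own Groth.Agent.* helpers here

set_option autoImplicit false
set_option backward.isDefEq.respectTransparency false
open CategoryTheory AlgebraicGeometry CategoryTheory.Limits
open VBCurve

namespace Groth.Agent.S15328

open CategoryTheory AlgebraicGeometry CategoryTheory.Limits
open Groth.Agent.Lib.Lead.VBCurve Groth.Agent.Lib.Lead.ModTensor Groth.Agent.Lib.Helper20.TensorEquiv

lemma tm_eq {X : Scheme.{0}} {G E : X.Modules} (j : G ⟶ E) (L : X.Modules) :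
    tensorMap j (𝟙 L) = (CohB1.sheafifyMod X).map
      (MonoidalCategoryStruct.whiskerRight (C := CohB1.PMod X) j.val (CohB1.toPMod L)) :=
  tensorMap_eq_whiskerRight j L


/-- Let X be a smooth proper integral curve over the complex numbers, L an invertible module on X and
(E, φ) an L-valued Higgs bundle on X: E finite locally free of rank r ≥ 1 and φ : E → E ⊗ L. A
submodule j : G → E (a monomorphism) is a Higgs submodule when φ restricts to it, that is, some ψ :
G → G ⊗ L followed by j ⊗ L equals j followed by φ; (E, φ) is semistable when deg G · r ≤ deg E · r'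
for every finite locally free Higgs submodule G of rank r' ≥ 1, degrees being χ − rank · χ(O).
Suppose (E, φ) is semistable and F is a finite locally free Higgs submodule of rank r' ≥ 1 with the
same slope, deg F · r = deg E · r'. Then the quotient E/F is finite locally free of rank r − r' and
is semistable of the same slope for its induced Higgs field: for every φ' : E/F → (E/F) ⊗ L
compatible with φ along the projection and every finite locally free submodule G of E/F of rank s ≥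
1 to which φ' restricts, deg G · (r − r') ≤ deg(E/F) · s. (The published statement also assumes F
semistable, which the published argument does not use; this row omits it.) -/
theorem result
    (X : Scheme.{0}) [X.Over (Spec (CommRingCat.of ℂ))] [IsIntegral X]
    [IsProper (X ↘ Spec (CommRingCat.of ℂ))] [Smooth (X ↘ Spec (CommRingCat.of ℂ))]
    (hdim : topologicalKrullDim X = 1)
    (L : X.Modules) (hL : PicF.IsInvertible L)
    (r : ℕ) (hr : 0 < r) (E : X.Modules) (hE : FlatMod.IsFinLocFreeOfRank r E)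
    (φ : E ⟶ CohB1.tensorMod E L)
    (hss : ∀ (G : X.Modules) (s : ℕ) (j : G ⟶ E) (ψ : G ⟶ CohB1.tensorMod G L), Mono j → 0 < s →
      FlatMod.IsFinLocFreeOfRank s G →
      ψ ≫ (CohB1.sheafifyMod X).map (MonoidalCategoryStruct.whiskerRight (C := CohB1.PMod X) j.val (CohB1.toPMod L)) = j ≫ φ →
      Curv2.deg ℂ X G s * (r : ℤ) ≤ Curv2.deg ℂ X E r * (s : ℤ))
    (F : X.Modules) (r' : ℕ) (hr' : 0 < r') (hF : FlatMod.IsFinLocFreeOfRank r' F)
    (i : F ⟶ E) [Mono i] (ψF : F ⟶ CohB1.tensorMod F L)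
    (hψF : ψF ≫ (CohB1.sheafifyMod X).map (MonoidalCategoryStruct.whiskerRight (C := CohB1.PMod X) i.val (CohB1.toPMod L)) = i ≫ φ)
    (hslope : Curv2.deg ℂ X F r' * (r : ℤ) = Curv2.deg ℂ X E r * (r' : ℤ)) :
    FlatMod.IsFinLocFreeOfRank (r - r') (cokernel i) ∧
    ∀ (φ' : cokernel i ⟶ CohB1.tensorMod (cokernel i) L),
      cokernel.π i ≫ φ' = φ ≫ (CohB1.sheafifyMod X).map (MonoidalCategoryStruct.whiskerRight (C := CohB1.PMod X) (cokernel.π i).val (CohB1.toPMod L)) →
      ∀ (G : X.Modules) (s : ℕ) (j : G ⟶ cokernel i) (ψ : G ⟶ CohB1.tensorMod G L), Mono j → 0 < s →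
        FlatMod.IsFinLocFreeOfRank s G →
        ψ ≫ (CohB1.sheafifyMod X).map (MonoidalCategoryStruct.whiskerRight (C := CohB1.PMod X) j.val (CohB1.toPMod L)) = j ≫ φ' →
        Curv2.deg ℂ X G s * ((r - r' : ℕ) : ℤ) ≤ Curv2.deg ℂ X (cokernel i) (r - r') * (s : ℤ) := by
  have hP := pidStalks_of_smooth ℂ X hdim.le
  have hrpos : (0 : ℤ) < (r : ℤ) := by exact_mod_cast hr
  obtain ⟨L', -, ⟨e⟩, -⟩ := Groth.Agent.Lib.helper12.InvDual.exists_inverse hL
  -- saturation of `F`
  obtain ⟨G₁, l, ι₁, t, hm₁, hl, hG₁, hrk, hQ⟩ := exists_saturation ℂ X hP hdim.le hF hE i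
  haveI := hm₁
  haveI : Mono l := mono_of_mono_fac (hl.trans rfl)
  have hinvF : IsInvariant φ i := ⟨ψF, by rw [tm_eq]; exact hψF⟩
  obtain ⟨χ₁, hχ₁⟩ := isInvariant_saturation ℂ X hP hdim.le hL φ hF hG₁ i l ι₁ hl hQ hinvF
  have h1 := hss G₁ r' ι₁ χ₁ hm₁ hr' hG₁ (by rw [← tm_eq]; exact hχ₁)
  have h2 := Groth.Agent.Lib.Lead.VBCurve.deg_le ℂ X hdim.le hF hG₁ l
  have h3 : Curv2.deg ℂ X F r' = Curv2.deg ℂ X G₁ r' := by
    refine le_antisymm h2 ?_
    rw [← hslope] at h1
    exact le_of_mul_le_mul_right h1 hrpos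
  haveI : IsIso l := Groth.Agent.Lib.Lead.VBCurve.isIso_of_deg_eq ℂ X hdim.le hF hG₁ l h3
  have ht : t = r - r' := by omega
  subst ht
  have hC : FlatMod.IsFinLocFreeOfRank (r - r') (cokernel i) := by
    have e1 : cokernel (l ≫ ι₁) ≅ cokernel ι₁ := cokernelEpiComp l ι₁
    have e2 : cokernel i ≅ cokernel (l ≫ ι₁) := cokernelIsoOfEq hl.symm
    exact Groth.Agent.Lib.helper16.FLF.isFinLocFreeOfRank_of_iso (e2 ≪≫ e1).symm hQ
  refine ⟨hC, ?_⟩
  intro φ' hφ' G s j ψ hj hs hG hψ
  haveI := hj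
  let S : ShortComplex X.Modules := ShortComplex.mk i (cokernel.π i) (cokernel.condition i)
  have hS : S.ShortExact := shortExact_cokernel X i
  have hCc := Groth.Agent.Lib.Lead.RankAdd.isCoh_of_isFinLocFreeOfRank hC
  obtain ⟨P, a, f', g', hma, hf', hag, hg', hPr, hPd⟩ :=
    preimage_data ℂ X hP S hS hCc.1 hF hE hG j
  haveI := hma
  haveI := hg'
  have hinvG : IsInvariant φ' j := ⟨ψ, by rw [tm_eq]; exact hψ⟩
  have hφ'' : S.g ≫ φ' = φ ≫ tensorMap S.g (𝟙 L) := by rw [tm_eq]; exact hφ'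
  obtain ⟨χP, hχP⟩ := isInvariant_preimage X e S hS φ φ' hφ'' j hinvG a f' g' hf' hag
  have h4 := hss P (r' + s) a χP hma (by omega) hPr (by rw [← tm_eq]; exact hχP)
  have hPd' : Curv2.deg ℂ X P (r' + s) = Curv2.deg ℂ X F r' + Curv2.deg ℂ X G s := hPd
  rw [hPd'] at h4
  have hadd : Curv2.deg ℂ X E r = Curv2.deg ℂ X F r' + Curv2.deg ℂ X (cokernel i) (r - r') :=
    Groth.Agent.Lib.Lead.ProperEuler.deg_additive ℂ hS
      (Groth.Agent.Lib.Lead.RankAdd.isCoh_of_isFinLocFreeOfRank hF) hCc r' r (r - r') hrk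
  have hcast : ((r - r' : ℕ) : ℤ) = (r : ℤ) - (r' : ℤ) := by
    have : r' ≤ r := by omega
    push_cast [Nat.cast_sub this]; ring
  rw [hcast]
  push_cast at h4
  set dG := Curv2.deg ℂ X G s
  set dE := Curv2.deg ℂ X E r
  set dF := Curv2.deg ℂ X F r'
  set dC := Curv2.deg ℂ X (cokernel i) (r - r')
  have hr'le : (r' : ℤ) ≤ (r : ℤ) := by
    have : r' ≤ r := by omega
    exact_mod_cast this
  -- dG * r ≤ dE * s
  have h5 : dG * (r : ℤ) ≤ dE * (s : ℤ) := by
    have e1 : (dF + dG) * (r : ℤ) = dF * r + dG * r := by ring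
    have e2 : dE * ((r' : ℤ) + (s : ℤ)) = dE * r' + dE * s := by ring
    rw [e1, e2] at h4
    linarith
  refine le_of_mul_le_mul_right ?_ hrpos
  have h6 : dC * (r : ℤ) = dE * ((r : ℤ) - r') := by
    have : dC = dE - dF := by rw [hadd]; ring
    rw [this, sub_mul, hslope]; ring
  calc dG * ((r : ℤ) - r') * r = (dG * r) * ((r : ℤ) - r') := by ring
    _ ≤ (dE * s) * ((r : ℤ) - r') := mul_le_mul_of_nonneg_right h5 (by linarith)
    _ = dC * s * r := by rw [mul_assoc dC, mul_comm (s : ℤ) (r : ℤ), ← mul_assoc, h6]; ring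

end Groth.Agent.S15328
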