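import Groth.Statements.S15329

set_option autoImplicit false
open TensorProduct LaurentPolynomial
universe u v
open CAlg

namespace Groth.Agent.S15329

theorem gen_eq (k : Type u) [Field k] (E : Type v) [AddCommGroup E] [Module k E]
    (α : Module.Dual k E) (p n : ℤ) (w : E) :
    T p * (TensorProduct.AlgebraTensorModule.rid k k[T;T⁻¹] k[T;T⁻¹])
      (LinearMap.baseChange k[T;T⁻¹] α (T n ⊗ₜ[k] w)) = C (α w) * T (p + n) := by
  rw [LinearMap.baseChange_tmul, TensorProduct.AlgebraTensorModule.rid_tmul, smul_eq_C_mul, T_add]
  ring

/-- Let k be a field, E a k-vector space and F an increasing ℤ-indexed filtration of E by subspaces. In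
E[T, T⁻¹] = k[T, T⁻¹] ⊗ E the Rees module of (E, F) is the k-span of the elements T^n ⊗ v with v ∈ F
n; it is the module of global sections of the equivariant bundle on the affine line attached to (E,
F), and E[T, T⁻¹] that of its sections away from the origin. For a linear form α on E and an integer
p, the k[T, T⁻¹]-linear form m ↦ T^p · (id ⊗ α)(m) is the invariant section α of the dual bundle
away from the origin multiplied by T^p, and it extends over the origin exactly when it maps the Rees
module into the polynomial subring k[T]. This happens if and only if α vanishes on F(−p − 1); so the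
dual equivariant bundle corresponds to the dual space filtered by the annihilators of the F(−p − 1).
(The published statement has the annihilator of F(−p + 1), over the complex numbers; for E = k with
F n = 0 for n < 0 and F n = E for n ≥ 0 the form with p = 0 and α ≠ 0 maps the Rees module into k[T]
although α does not vanish on F(1) = E, and the published argument gives the index −p − 1, which
this row states, over any field.) -/
theorem result
    (k : Type u) [Field k] (E : Type v) [AddCommGroup E] [Module k E]
    (F : ℤ → Submodule k E) (hF : Monotone F)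
    (α : Module.Dual k E) (p : ℤ) :
    (∀ m ∈ Submodule.span k {x : k[T;T⁻¹] ⊗[k] E | ∃ (n : ℤ) (v : E), v ∈ F n ∧ x = T n ⊗ₜ[k] v},
      T p * (TensorProduct.AlgebraTensorModule.rid k k[T;T⁻¹] k[T;T⁻¹]) (LinearMap.baseChange k[T;T⁻¹] α m)
        ∈ (Polynomial.toLaurent : Polynomial k →+* k[T;T⁻¹]).range) ↔
    ∀ v ∈ F (-p - 1), α v = 0 := by
  constructor
  · intro h w hw
    have h1 := h (T (-p - 1) ⊗ₜ[k] w) (Submodule.subset_span ⟨-p - 1, w, hw, rfl⟩)
    rw [gen_eq] at h1
    obtain ⟨f, hf⟩ := h1
    have h3 : p + (-p - 1) = -1 := by ring
    rw [h3] at hf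
    have h4 : f = 0 := by
      rw [← Polynomial.trunc_toLaurent f, hf, trunc_C_mul_T]
      simp
    rw [h4, map_zero] at hf
    have h5 : (C (α w) : k[T;T⁻¹]) = 0 := by
      have := congrArg (· * (T 1 : k[T;T⁻¹])) hf
      simp only [zero_mul, mul_T_assoc] at this
      simpa using this.symm
    have h6 := congrArg (fun q : k[T;T⁻¹] => q.coeff 0) h5
    simpa using h6
  · intro h m hm
    induction hm using Submodule.span_induction with
    | mem x hx =>
      obtain ⟨n, w, hw, rfl⟩ := hx
      rw [gen_eq]
      by_cases hn : n ≤ -p - 1
      · rw [h w (hF hn hw), map_zero, zero_mul]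
        exact Subring.zero_mem _
      · have hn' : 0 ≤ p + n := by omega
        refine ⟨Polynomial.C (α w) * Polynomial.X ^ (p + n).toNat, ?_⟩
        rw [Polynomial.toLaurent_C_mul_X_pow, Int.toNat_of_nonneg hn']
    | zero =>
      rw [map_zero, map_zero, mul_zero]
      exact Subring.zero_mem _
    | add x y _ _ hx hy =>
      rw [map_add, map_add, mul_add]
      exact Subring.add_mem _ hx hy
    | smul c x _ hx =>
      have : (c • x : k[T;T⁻¹] ⊗[k] E) = (C c : k[T;T⁻¹]) • x := by
        rw [C_eq_algebraMap, algebraMap_smul]
      rw [this, map_smul, map_smul, smul_eq_mul, mul_left_comm]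
      refine Subring.mul_mem _ ⟨Polynomial.C c, Polynomial.toLaurent_C c⟩ hx

end Groth.Agent.S15329
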