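import Groth.Statements.S15330
import Groth.Agent.Lib.Lead.VBCurve36
import Groth.Agent.Lib.Helper7.CohKer
import Groth.Agent.Lib.Helper11.TwistH1
-- import your own Groth.Agent.* helpers here

set_option autoImplicit false
set_option backward.isDefEq.respectTransparency false
open CategoryTheory AlgebraicGeometry CategoryTheory.Limits
open VBCurve

namespace Groth.Agent.S15330

open CategoryTheory AlgebraicGeometry CategoryTheory.Limits
open Groth.Agent.Lib.Lead.VBCurve Groth.Agent.Lib.Lead.ModTensor Groth.Agent.Lib.Helper20.TensorEquiv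

lemma tm_eq {X : Scheme.{0}} {G E : X.Modules} (j : G ⟶ E) (L : X.Modules) :
    tensorMap j (𝟙 L) = (CohB1.sheafifyMod X).map
      (MonoidalCategoryStruct.whiskerRight (C := CohB1.PMod X) j.val (CohB1.toPMod L)) :=
  tensorMap_eq_whiskerRight j L

/-- the one-sided statement: a Higgs submodule `(Es, ψ)` of a semistable `(E, φ)` with the same slope is
semistable -/
lemma ss_sub {X : Scheme.{0}} [X.Over (Spec (CommRingCat.of ℂ))] {L E : X.Modules} {r : ℕ} (hr : 0 < r)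
    (d : ℤ) (φE : E ⟶ CohB1.tensorMod E L)
    (hEss' : ∀ (G : X.Modules) (s : ℕ) (j : G ⟶ E), Mono j → 0 < s → FlatMod.IsFinLocFreeOfRank s G →
      IsInvariant φE j → Curv2.deg ℂ X G s * (r : ℤ) ≤ d * (s : ℤ))
    {Es : X.Modules} {rEs : ℕ} (ι : Es ⟶ E) [Mono ι] (ψ : Es ⟶ CohB1.tensorMod Es L)
    (hψ : ψ ≫ tensorMap ι (𝟙 L) = ι ≫ φE)
    (heq : Curv2.deg ℂ X Es rEs * (r : ℤ) = d * (rEs : ℤ))
    (G : X.Modules) (s : ℕ) (j : G ⟶ Es) (hj : Mono j) (hs : 0 < s)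
    (hG : FlatMod.IsFinLocFreeOfRank s G) (hinv : IsInvariant ψ j) :
    Curv2.deg ℂ X G s * (rEs : ℤ) ≤ Curv2.deg ℂ X Es rEs * (s : ℤ) := by
  have hrpos : (0 : ℤ) < (r : ℤ) := by exact_mod_cast hr
  haveI := hj
  have hinv' : IsInvariant φE (j ≫ ι) := IsInvariant.comp hψ hinv
  have h1 := hEss' G s (j ≫ ι) (mono_comp _ _) hs hG hinv'
  refine le_of_mul_le_mul_right ?_ hrpos
  calc Curv2.deg ℂ X G s * (rEs : ℤ) * r = (Curv2.deg ℂ X G s * r) * rEs := by ring
    _ ≤ (d * s) * rEs := mul_le_mul_of_nonneg_right h1 (by positivity)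
    _ = (d * rEs) * s := by ring
    _ = (Curv2.deg ℂ X Es rEs * r) * s := by rw [heq]
    _ = Curv2.deg ℂ X Es rEs * s * r := by ring


/-- Let X be a smooth proper integral curve over the complex numbers, L an invertible module on X, and
(E, φ_E), (F, φ_F) two L-valued Higgs bundles on X of the same rank r ≥ 1 and the same degree d
(degree = χ − rank · χ(O)), each semistable: deg G · r ≤ d · s for every finite locally free
submodule G of rank s ≥ 1 to which the Higgs field restricts. Let E_0 ⊂ E_1 ⊂ … ⊂ E_n = E with E_0 =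
0 and F = F_0 ⊃ F_1 ⊃ … ⊃ F_n = 0 be chains of finite locally free submodules to which the Higgs
fields restrict, of ranks with rk E_i + rk F_i = r, which are opposite: E_{i+1}/E_i ≅ F_i/F_{i+1} as
O-modules for i < n. Then every E_i of positive rank and every F_i of positive rank has slope d/r,
that is deg · r = d · rank, and is semistable for its restricted Higgs field; and each graded piece
E_{i+1}/E_i of positive rank is finite locally free of rank rk E_{i+1} − rk E_i, of slope d/r, and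
semistable for every Higgs field on it compatible with that of E_{i+1} along the projection. (The
published statement indexes the second chain so that F_i/F_{i+1} matches E_i/E_{i−1} and takes the
isomorphisms of graded pieces as Higgs bundles; here they are assumed as O-modules only, together
with the rank bookkeeping rk E_i + rk F_i = r that they imply.) -/
theorem result
    (X : Scheme.{0}) [X.Over (Spec (CommRingCat.of ℂ))] [IsIntegral X]
    [IsProper (X ↘ Spec (CommRingCat.of ℂ))] [Smooth (X ↘ Spec (CommRingCat.of ℂ))]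
    (hdim : topologicalKrullDim X = 1)
    (L : X.Modules) (hL : PicF.IsInvertible L) (r : ℕ) (hr : 0 < r) (d : ℤ)
    (E : X.Modules) (hE : FlatMod.IsFinLocFreeOfRank r E) (φE : E ⟶ CohB1.tensorMod E L)
    (hEd : Curv2.deg ℂ X E r = d)
    (hEss : (∀ (G : X.Modules) (s : ℕ) (j : G ⟶ E) (χ : G ⟶ CohB1.tensorMod G L), Mono j → 0 < s →
        FlatMod.IsFinLocFreeOfRank s G →
        χ ≫ (CohB1.sheafifyMod X).map (MonoidalCategoryStruct.whiskerRight (C := CohB1.PMod X) j.val (CohB1.toPMod L)) = j ≫ φE →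
        Curv2.deg ℂ X G s * (r : ℤ) ≤ Curv2.deg ℂ X E r * (s : ℤ)))
    (F : X.Modules) (hF : FlatMod.IsFinLocFreeOfRank r F) (φF : F ⟶ CohB1.tensorMod F L)
    (hFd : Curv2.deg ℂ X F r = d)
    (hFss : (∀ (G : X.Modules) (s : ℕ) (j : G ⟶ F) (χ : G ⟶ CohB1.tensorMod G L), Mono j → 0 < s →
        FlatMod.IsFinLocFreeOfRank s G →
        χ ≫ (CohB1.sheafifyMod X).map (MonoidalCategoryStruct.whiskerRight (C := CohB1.PMod X) j.val (CohB1.toPMod L)) = j ≫ φF →
        Curv2.deg ℂ X G s * (r : ℤ) ≤ Curv2.deg ℂ X F r * (s : ℤ)))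
    (n : ℕ)
    (Es : ℕ → X.Modules) (rE : ℕ → ℕ) (hEs : ∀ i, FlatMod.IsFinLocFreeOfRank (rE i) (Es i))
    (ιE : ∀ i, Es i ⟶ E) (hιE : ∀ i, Mono (ιE i))
    (ψE : ∀ i, Es i ⟶ CohB1.tensorMod (Es i) L)
    (hψE : ∀ i, ψE i ≫ (CohB1.sheafifyMod X).map (MonoidalCategoryStruct.whiskerRight (C := CohB1.PMod X) (ιE i).val (CohB1.toPMod L)) = ιE i ≫ φE)
    (a : ∀ i, Es i ⟶ Es (i + 1)) (ha : ∀ i, a i ≫ ιE (i + 1) = ιE i)
    (hE0 : IsZero (Es 0)) (hEn : IsIso (ιE n))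
    (Fs : ℕ → X.Modules) (rF : ℕ → ℕ) (hFs : ∀ i, FlatMod.IsFinLocFreeOfRank (rF i) (Fs i))
    (ιF : ∀ i, Fs i ⟶ F) (hιF : ∀ i, Mono (ιF i))
    (ψF : ∀ i, Fs i ⟶ CohB1.tensorMod (Fs i) L)
    (hψF : ∀ i, ψF i ≫ (CohB1.sheafifyMod X).map (MonoidalCategoryStruct.whiskerRight (C := CohB1.PMod X) (ιF i).val (CohB1.toPMod L)) = ιF i ≫ φF)
    (b : ∀ i, Fs (i + 1) ⟶ Fs i) (hb : ∀ i, b i ≫ ιF i = ιF (i + 1))
    (hF0 : IsIso (ιF 0)) (hFn : IsZero (Fs n))
    (hrk : ∀ i, i ≤ n → rE i + rF i = r)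
    (hopp : ∀ i, i < n → Nonempty (cokernel (a i) ≅ cokernel (b i))) :
    (∀ i, i ≤ n → 0 < rE i →
      Curv2.deg ℂ X (Es i) (rE i) * (r : ℤ) = d * (rE i : ℤ) ∧
      (∀ (G : X.Modules) (s : ℕ) (j : G ⟶ (Es i)) (χ : G ⟶ CohB1.tensorMod G L), Mono j → 0 < s →
        FlatMod.IsFinLocFreeOfRank s G →
        χ ≫ (CohB1.sheafifyMod X).map (MonoidalCategoryStruct.whiskerRight (C := CohB1.PMod X) j.val (CohB1.toPMod L)) = j ≫ ψE i →
        Curv2.deg ℂ X G s * (rE i : ℤ) ≤ Curv2.deg ℂ X (Es i) (rE i) * (s : ℤ))) ∧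
    (∀ i, i ≤ n → 0 < rF i →
      Curv2.deg ℂ X (Fs i) (rF i) * (r : ℤ) = d * (rF i : ℤ) ∧
      (∀ (G : X.Modules) (s : ℕ) (j : G ⟶ (Fs i)) (χ : G ⟶ CohB1.tensorMod G L), Mono j → 0 < s →
        FlatMod.IsFinLocFreeOfRank s G →
        χ ≫ (CohB1.sheafifyMod X).map (MonoidalCategoryStruct.whiskerRight (C := CohB1.PMod X) j.val (CohB1.toPMod L)) = j ≫ ψF i →
        Curv2.deg ℂ X G s * (rF i : ℤ) ≤ Curv2.deg ℂ X (Fs i) (rF i) * (s : ℤ))) ∧
    (∀ i, i < n → rE i < rE (i + 1) →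
      FlatMod.IsFinLocFreeOfRank (rE (i + 1) - rE i) (cokernel (a i)) ∧
      Curv2.deg ℂ X (cokernel (a i)) (rE (i + 1) - rE i) * (r : ℤ) = d * ((rE (i + 1) - rE i : ℕ) : ℤ) ∧
      ∀ (φ' : cokernel (a i) ⟶ CohB1.tensorMod (cokernel (a i)) L),
        cokernel.π (a i) ≫ φ' = ψE (i + 1) ≫ (CohB1.sheafifyMod X).map (MonoidalCategoryStruct.whiskerRight (C := CohB1.PMod X) (cokernel.π (a i)).val (CohB1.toPMod L)) →
        (∀ (G : X.Modules) (s : ℕ) (j : G ⟶ cokernel (a i)) (χ : G ⟶ CohB1.tensorMod G L), Mono j → 0 < s →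
        FlatMod.IsFinLocFreeOfRank s G →
        χ ≫ (CohB1.sheafifyMod X).map (MonoidalCategoryStruct.whiskerRight (C := CohB1.PMod X) j.val (CohB1.toPMod L)) = j ≫ φ' →
        Curv2.deg ℂ X G s * ((rE (i + 1) - rE i : ℕ) : ℤ) ≤ Curv2.deg ℂ X (cokernel (a i)) (rE (i + 1) - rE i) * (s : ℤ))) := by
  have hP := pidStalks_of_smooth ℂ X hdim.le
  have hrpos : (0 : ℤ) < (r : ℤ) := by exact_mod_cast hr
  have hψE' : ∀ i, ψE i ≫ tensorMap (ιE i) (𝟙 L) = ιE i ≫ φE := fun i => by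
    rw [tm_eq]; exact hψE i
  have hψF' : ∀ i, ψF i ≫ tensorMap (ιF i) (𝟙 L) = ιF i ≫ φF := fun i => by
    rw [tm_eq]; exact hψF i
  have hEss' : ∀ (G : X.Modules) (s : ℕ) (j : G ⟶ E), Mono j → 0 < s →
      FlatMod.IsFinLocFreeOfRank s G → IsInvariant φE j →
      Curv2.deg ℂ X G s * (r : ℤ) ≤ d * (s : ℤ) := by
    rintro G s j hj hs hG ⟨χ, hχ⟩
    have := hEss G s j χ hj hs hG (by rw [← tm_eq]; exact hχ)
    rwa [hEd] at this
  have hFss' : ∀ (G : X.Modules) (s : ℕ) (j : G ⟶ F), Mono j → 0 < s →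
      FlatMod.IsFinLocFreeOfRank s G → IsInvariant φF j →
      Curv2.deg ℂ X G s * (r : ℤ) ≤ d * (s : ℤ) := by
    rintro G s j hj hs hG ⟨χ, hχ⟩
    have := hFss G s j χ hj hs hG (by rw [← tm_eq]; exact hχ)
    rwa [hFd] at this
  -- monos
  have hma : ∀ i, Mono (a i) := fun i => by
    haveI : Mono (a i ≫ ιE (i + 1)) := by rw [ha i]; exact hιE i
    exact mono_of_mono (a i) (ιE (i + 1))
  have hmb : ∀ i, Mono (b i) := fun i => by
    haveI : Mono (b i ≫ ιF i) := by rw [hb i]; exact hιF (i + 1)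
    exact mono_of_mono (b i) (ιF i)
  -- ranks
  have hrEmono : ∀ i, rE i ≤ rE (i + 1) := fun i => by
    haveI := hma i
    exact rank_le_of_mono X (hEs i) (hEs (i + 1)) (a i)
  have hrFmono : ∀ i, rF (i + 1) ≤ rF i := fun i => by
    haveI := hmb i
    exact rank_le_of_mono X (hFs (i + 1)) (hFs i) (b i)
  have hrF0 : rF 0 = r := by
    haveI := hιF 0
    haveI := hF0
    have h1 := rank_le_of_mono X (hFs 0) hF (ιF 0)
    have h2 := rank_le_of_mono X hF (hFs 0) (inv (ιF 0))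
    omega
  have hrE0 : rE 0 = 0 := by
    have := hrk 0 (Nat.zero_le n)
    omega
  have hcE : ∀ i, Coh.IsCoh (Es i) := fun i =>
    Groth.Agent.Lib.Lead.RankAdd.isCoh_of_isFinLocFreeOfRank (hEs i)
  have hcF : ∀ i, Coh.IsCoh (Fs i) := fun i =>
    Groth.Agent.Lib.Lead.RankAdd.isCoh_of_isFinLocFreeOfRank (hFs i)
  have haddE : ∀ i, Curv2.deg ℂ X (Es (i + 1)) (rE (i + 1)) =
      Curv2.deg ℂ X (Es i) (rE i) + Curv2.deg ℂ X (cokernel (a i)) (rE (i + 1) - rE i) := fun i => by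
    haveI := hma i
    exact Groth.Agent.Lib.Lead.ProperEuler.deg_additive ℂ (shortExact_cokernel X (a i)) (hcE i)
      (Groth.Agent.Lib.helper7.CohKer.isCoh_cokernel (hcE i) (hcE (i + 1)) (a i))
      (rE i) (rE (i + 1)) (rE (i + 1) - rE i) (by have := hrEmono i; omega)
  have haddF : ∀ i, Curv2.deg ℂ X (Fs i) (rF i) =
      Curv2.deg ℂ X (Fs (i + 1)) (rF (i + 1)) + Curv2.deg ℂ X (cokernel (b i)) (rF i - rF (i + 1)) :=
    fun i => by
    haveI := hmb i
    exact Groth.Agent.Lib.Lead.ProperEuler.deg_additive ℂ (shortExact_cokernel X (b i)) (hcF (i + 1))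
      (Groth.Agent.Lib.helper7.CohKer.isCoh_cokernel (hcF (i + 1)) (hcF i) (b i))
      (rF (i + 1)) (rF i) (rF i - rF (i + 1)) (by have := hrFmono i; omega)
  have hcoker : ∀ i, i < n → Curv2.deg ℂ X (cokernel (a i)) (rE (i + 1) - rE i) =
      Curv2.deg ℂ X (cokernel (b i)) (rF i - rF (i + 1)) := fun i hi => by
    obtain ⟨e⟩ := hopp i hi
    have h1 := hrk i hi.le
    have h2 := hrk (i + 1) hi
    have h3 := hrEmono i
    have h4 := hrFmono i
    have h5 : rE (i + 1) - rE i = rF i - rF (i + 1) := by omega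
    rw [h5]
    unfold Curv2.deg
    rw [Groth.Agent.Lib.Lead.CurveEuler.euler_eq_of_iso ℂ X e]
  have hsum : ∀ i, i ≤ n →
      Curv2.deg ℂ X (Es i) (rE i) + Curv2.deg ℂ X (Fs i) (rF i) = d := by
    intro i
    induction i with
    | zero =>
      intro _
      have h0 : Curv2.deg ℂ X (Es 0) (rE 0) = 0 := by
        rw [hrE0]; exact deg_zero_of_isZero ℂ X hE0
      have h1 : Curv2.deg ℂ X (Fs 0) (rF 0) = d := by
        rw [hrF0, ← hFd]
        haveI := hF0
        unfold Curv2.deg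
        rw [Groth.Agent.Lib.Lead.CurveEuler.euler_eq_of_iso ℂ X (asIso (ιF 0))]
      rw [h0, h1, zero_add]
    | succ i ih =>
      intro hi
      have h0 := ih (by omega)
      have h1 := haddE i
      have h2 := haddF i
      have h3 := hcoker i (by omega)
      linarith
  have hbE : ∀ i, Curv2.deg ℂ X (Es i) (rE i) * (r : ℤ) ≤ d * (rE i : ℤ) := fun i => by
    rcases Nat.eq_zero_or_pos (rE i) with h0 | hpos
    · have hz : IsZero (Es i) := isZero_of_isFinLocFreeOfRank_zero (by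
        have := hEs i; rwa [h0] at this)
      have : Curv2.deg ℂ X (Es i) (rE i) = 0 := by rw [h0]; exact deg_zero_of_isZero ℂ X hz
      rw [this, h0]; simp
    · exact hEss' (Es i) (rE i) (ιE i) (hιE i) hpos (hEs i) ⟨ψE i, hψE' i⟩
  have hbF : ∀ i, Curv2.deg ℂ X (Fs i) (rF i) * (r : ℤ) ≤ d * (rF i : ℤ) := fun i => by
    rcases Nat.eq_zero_or_pos (rF i) with h0 | hpos
    · have hz : IsZero (Fs i) := isZero_of_isFinLocFreeOfRank_zero (by
        have := hFs i; rwa [h0] at this)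
      have : Curv2.deg ℂ X (Fs i) (rF i) = 0 := by rw [h0]; exact deg_zero_of_isZero ℂ X hz
      rw [this, h0]; simp
    · exact hFss' (Fs i) (rF i) (ιF i) (hιF i) hpos (hFs i) ⟨ψF i, hψF' i⟩
  have heq : ∀ i, i ≤ n → Curv2.deg ℂ X (Es i) (rE i) * (r : ℤ) = d * (rE i : ℤ) ∧
      Curv2.deg ℂ X (Fs i) (rF i) * (r : ℤ) = d * (rF i : ℤ) := fun i hi => by
    have h1 := hbE i
    have h2 := hbF i
    have h3 := hsum i hi
    have h4 := hrk i hi
    have h5 : (rE i : ℤ) + (rF i : ℤ) = r := by exact_mod_cast h4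
    have h6 : (Curv2.deg ℂ X (Es i) (rE i) + Curv2.deg ℂ X (Fs i) (rF i)) * (r : ℤ) =
        d * ((rE i : ℤ) + (rF i : ℤ)) := by rw [h3, h5]
    constructor <;> linarith
  have hssE : ∀ i, i ≤ n → ∀ (G : X.Modules) (s : ℕ) (j : G ⟶ Es i), Mono j → 0 < s →
      FlatMod.IsFinLocFreeOfRank s G → IsInvariant (ψE i) j →
      Curv2.deg ℂ X G s * (rE i : ℤ) ≤ Curv2.deg ℂ X (Es i) (rE i) * (s : ℤ) := by
    intro i hi G s j hj hs hG hinv
    haveI := hιE i
    exact ss_sub hr d φE hEss' (ιE i) (ψE i) (hψE' i) (heq i hi).1 G s j hj hs hG hinv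
  have hssF : ∀ i, i ≤ n → ∀ (G : X.Modules) (s : ℕ) (j : G ⟶ Fs i), Mono j → 0 < s →
      FlatMod.IsFinLocFreeOfRank s G → IsInvariant (ψF i) j →
      Curv2.deg ℂ X G s * (rF i : ℤ) ≤ Curv2.deg ℂ X (Fs i) (rF i) * (s : ℤ) := by
    intro i hi G s j hj hs hG hinv
    haveI := hιF i
    exact ss_sub hr d φF hFss' (ιF i) (ψF i) (hψF' i) (heq i hi).2 G s j hj hs hG hinv
  refine ⟨?_, ?_, ?_⟩
  · intro i hi _
    refine ⟨(heq i hi).1, ?_⟩
    intro G s j χ hj hs hG hχ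
    exact hssE i hi G s j hj hs hG ⟨χ, by rw [tm_eq]; exact hχ⟩
  · intro i hi _
    refine ⟨(heq i hi).2, ?_⟩
    intro G s j χ hj hs hG hχ
    exact hssF i hi G s j hj hs hG ⟨χ, by rw [tm_eq]; exact hχ⟩
  · intro i hi hlt
    haveI := hma i
    have hpos : 0 < rE (i + 1) := by omega
    have hinvF : IsInvariant (ψE (i + 1)) (a i) := by
      refine ⟨ψE i, ?_⟩
      haveI := hιE (i + 1)
      haveI := Groth.Agent.Lib.helper11.TwistH1.mono_tensorMap_left (ιE (i + 1)) hL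
      rw [← cancel_mono (tensorMap (ιE (i + 1)) (𝟙 L)), Category.assoc, ← tmR_comp, ha i, hψE' i,
        Category.assoc, hψE' (i + 1), ← Category.assoc, ha i]
    have h1 := (heq i hi.le).1
    have h2 := (heq (i + 1) hi).1
    have hslope : Curv2.deg ℂ X (Es i) (rE i) * (rE (i + 1) : ℤ) =
        Curv2.deg ℂ X (Es (i + 1)) (rE (i + 1)) * (rE i : ℤ) := by
      refine mul_right_cancel₀ (ne_of_gt hrpos) ?_
      calc Curv2.deg ℂ X (Es i) (rE i) * (rE (i + 1) : ℤ) * r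
          = (Curv2.deg ℂ X (Es i) (rE i) * r) * rE (i + 1) := by ring
        _ = (d * rE i) * rE (i + 1) := by rw [h1]
        _ = (d * rE (i + 1)) * rE i := by ring
        _ = (Curv2.deg ℂ X (Es (i + 1)) (rE (i + 1)) * r) * rE i := by rw [h2]
        _ = Curv2.deg ℂ X (Es (i + 1)) (rE (i + 1)) * (rE i : ℤ) * r := by ring
    obtain ⟨hC, hle, hadd, hssC⟩ := higgs_quotient ℂ X hP hdim.le hL hpos (hEs (i + 1)) (ψE (i + 1))
      (hssE (i + 1) hi) (hEs i) (a i) hinvF hslope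
    refine ⟨hC, ?_, ?_⟩
    · have hcast : ((rE (i + 1) - rE i : ℕ) : ℤ) = (rE (i + 1) : ℤ) - (rE i : ℤ) := Nat.cast_sub hle
      rw [hcast]
      have h3 : Curv2.deg ℂ X (cokernel (a i)) (rE (i + 1) - rE i) =
          Curv2.deg ℂ X (Es (i + 1)) (rE (i + 1)) - Curv2.deg ℂ X (Es i) (rE i) := by
        rw [hadd]; ring
      rw [h3, sub_mul, h1, h2]; ring
    · intro φ' hφ' G s j χ hj hs hG hχ
      exact hssC φ' (by rw [tm_eq]; exact hφ') G s j hj hs hG ⟨χ, by rw [tm_eq]; exact hχ⟩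

end Groth.Agent.S15330
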