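import Groth.Statements.S15333
import Mathlib
import Groth.Agent.Lib.Lead.VBCurve5
-- import your own Groth.Agent.* helpers here

set_option autoImplicit false
set_option backward.isDefEq.respectTransparency false
universe u
open CategoryTheory CategoryTheory.Limits AlgebraicGeometry
open VBCurve

namespace Groth.Agent.S15333

/-- Let X be a smooth proper integral curve (integral, smooth and proper of dimension one) over an
algebraically closed field k. Let E and F be finite locally free O_X-modules of ranks r ≥ 1 and s ≥
1 which are slope-semistable and slope-stable (deg G · r ≤ deg E · r' for every finite locally free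
submodule G ⊂ E of rank r' ≥ 1, with strict inequality when r' < r, and likewise for F; degree = χ −
rank·χ(O_X)) and which have the same slope, deg E · s = deg F · r. Then either there is no nonzero
homomorphism E → F or E ≅ F; precisely, every nonzero homomorphism E → F is an isomorphism. -/
theorem result (k : Type u) [Field k] [IsAlgClosed k] (X : Scheme.{u}) [X.Over (Spec (CommRingCat.of k))]
    [IsIntegral X] [IsProper (X ↘ Spec (CommRingCat.of k))] [Smooth (X ↘ Spec (CommRingCat.of k))]
    (hdim : topologicalKrullDim X = 1)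
    (r s : ℕ) (hr : 0 < r) (hs : 0 < s) (E F : X.Modules)
    (hE : FlatMod.IsFinLocFreeOfRank r E) (hF : FlatMod.IsFinLocFreeOfRank s F)
    (hEss : ModFun.IsSlopeSemistable k X E r) (hEst : ModFun.IsSlopeStable k X E r)
    (hFss : ModFun.IsSlopeSemistable k X F s) (hFst : ModFun.IsSlopeStable k X F s)
    (hμ : Curv2.deg k X E r * (s : ℤ) = Curv2.deg k X F s * (r : ℤ))
    (f : E ⟶ F) (hf : f ≠ 0) : IsIso f := by
  classical
  have hP := Groth.Agent.Lib.Lead.VBCurve.pidStalks_of_smooth k X hdim.le
  have hsz : (0 : ℤ) < (s : ℤ) := by exact_mod_cast hs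
  have hrz : (0 : ℤ) < (r : ℤ) := by exact_mod_cast hr
  have hmono : Mono f := by
    by_contra hnm
    obtain ⟨rK, rI, hrI, hrr, hK, hI, hdeg, h3⟩ :=
      Groth.Agent.Lib.Lead.VBCurve.slope_image_gt k X hP hE hF hEst f hf hnm
    have h1 := hFss (Abelian.image f) rI (Abelian.image.ι f) inferInstance hrI hI
    have hrIz : (0 : ℤ) < (rI : ℤ) := by exact_mod_cast hrI
    have h4 : Curv2.deg k X E r * (rI : ℤ) * (s : ℤ) <
        Curv2.deg k X (Abelian.image f) rI * (r : ℤ) * (s : ℤ) := mul_lt_mul_of_pos_right h3 hsz
    have h5 : Curv2.deg k X (Abelian.image f) rI * (s : ℤ) * (r : ℤ) ≤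
        Curv2.deg k X F s * (rI : ℤ) * (r : ℤ) := mul_le_mul_of_nonneg_right h1 hrz.le
    have h6 : Curv2.deg k X E r * (s : ℤ) * (rI : ℤ) = Curv2.deg k X F s * (r : ℤ) * (rI : ℤ) := by
      rw [hμ]
    nlinarith
  have hle := Groth.Agent.Lib.Lead.VBCurve.rank_le_of_mono X hE hF f
  have hrs : r = s := by
    rcases Nat.lt_or_ge r s with hlt | hge
    · exfalso
      have := hFst E r f hmono hr hlt hE
      linarith
    · omega
  subst hrs
  have hdeq : Curv2.deg k X E r = Curv2.deg k X F r := by
    have := mul_right_cancel₀ hrz.ne' hμ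
    exact this
  exact Groth.Agent.Lib.Lead.VBCurve.isIso_of_deg_eq k X hdim.le hE hF f hdeq

end Groth.Agent.S15333
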