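import Groth.Statements.S15335
import Mathlib
import Groth.Agent.Lib.Lead.VBCurve5
-- import your own Groth.Agent.* helpers here

set_option autoImplicit false
set_option backward.isDefEq.respectTransparency false
universe u
open CategoryTheory CategoryTheory.Limits AlgebraicGeometry
open VBCurve

namespace Groth.Agent.S15335

/-- Let X be a smooth proper integral curve (integral, smooth and proper of dimension one) over an
algebraically closed field k, and E₁, E₂ finite locally free O_X-modules of ranks r₁ ≥ 1, r₂ ≥ 1.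
The maximal slope of E₁ ⊕ E₂ is at most the larger of the maximal slopes of E₁ and E₂: if m₁, m₂ are
rational numbers such that every finite locally free submodule of positive rank of E₁ (resp. E₂) has
slope deg/rank ≤ m₁ (resp. ≤ m₂), degree meaning χ − rank·χ(O_X), then every finite locally free
submodule F of the biproduct E₁ ⊞ E₂ of rank r' ≥ 1 has slope deg F / r' ≤ max(m₁, m₂). -/
theorem result (k : Type u) [Field k] [IsAlgClosed k] (X : Scheme.{u}) [X.Over (Spec (CommRingCat.of k))]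
    [IsIntegral X] [IsProper (X ↘ Spec (CommRingCat.of k))] [Smooth (X ↘ Spec (CommRingCat.of k))]
    (hdim : topologicalKrullDim X = 1)
    (r₁ r₂ : ℕ) (hr₁ : 0 < r₁) (hr₂ : 0 < r₂) (E₁ E₂ : X.Modules)
    (hE₁ : FlatMod.IsFinLocFreeOfRank r₁ E₁) (hE₂ : FlatMod.IsFinLocFreeOfRank r₂ E₂) (m₁ m₂ : ℚ)
    (h₁ : ∀ (G : X.Modules) (r' : ℕ) (i : G ⟶ E₁), Mono i → 0 < r' → FlatMod.IsFinLocFreeOfRank r' G →
      (Curv2.deg k X G r' : ℚ) / r' ≤ m₁)
    (h₂ : ∀ (G : X.Modules) (r' : ℕ) (i : G ⟶ E₂), Mono i → 0 < r' → FlatMod.IsFinLocFreeOfRank r' G →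
      (Curv2.deg k X G r' : ℚ) / r' ≤ m₂)
    (F : X.Modules) (r' : ℕ) (i : F ⟶ E₁ ⊞ E₂) (hi : Mono i) (hr' : 0 < r')
    (hF : FlatMod.IsFinLocFreeOfRank r' F) :
    (Curv2.deg k X F r' : ℚ) / r' ≤ max m₁ m₂ := by
  classical
  have hP := Groth.Agent.Lib.Lead.VBCurve.pidStalks_of_smooth k X hdim.le
  obtain ⟨rK, rI, hK, hI, hrr, hdeg, -, -, hK0⟩ :=
    Groth.Agent.Lib.Lead.VBCurve.kernel_image_data k X hP hF hE₂ (i ≫ biprod.snd)
  set g := i ≫ (biprod.snd : E₁ ⊞ E₂ ⟶ E₂) with hg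
  -- the kernel maps monomorphically to `E₁`
  let j : kernel g ⟶ E₁ := kernel.ι g ≫ i ≫ biprod.fst
  have hj : j ≫ biprod.inl = kernel.ι g ≫ i := by
    have h0 : (kernel.ι g ≫ i) ≫ (biprod.snd : E₁ ⊞ E₂ ⟶ E₂) = 0 := by
      rw [Category.assoc]; exact kernel.condition g
    apply biprod.hom_ext
    · simp [j]
    · rw [h0]; simp [j]
  haveI : Mono (j ≫ (biprod.inl : E₁ ⟶ E₁ ⊞ E₂)) := by rw [hj]; infer_instance
  haveI : Mono j := mono_of_mono j (biprod.inl : E₁ ⟶ E₁ ⊞ E₂)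
  have hr'z : (0 : ℚ) < (r' : ℚ) := by exact_mod_cast hr'
  have hKb : (Curv2.deg k X (kernel g) rK : ℚ) ≤ m₁ * rK := by
    rcases Nat.eq_zero_or_pos rK with h0 | h0
    · rw [hK0 h0, h0]; simp
    · have := h₁ (kernel g) rK j inferInstance h0 hK
      have hz : (0 : ℚ) < (rK : ℚ) := by exact_mod_cast h0
      rwa [div_le_iff₀ hz] at this
  have hIb : (Curv2.deg k X (Abelian.image g) rI : ℚ) ≤ m₂ * rI := by
    rcases Nat.eq_zero_or_pos rI with h0 | h0
    · subst h0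
      rw [Groth.Agent.Lib.Lead.VBCurve.deg_zero_of_isZero k X
        (Groth.Agent.Lib.Lead.VBCurve.isZero_of_isFinLocFreeOfRank_zero hI)]
      simp
    · have := h₂ (Abelian.image g) rI (Abelian.image.ι g) inferInstance h0 hI
      have hz : (0 : ℚ) < (rI : ℚ) := by exact_mod_cast h0
      rwa [div_le_iff₀ hz] at this
  rw [div_le_iff₀ hr'z]
  have hsum : (Curv2.deg k X F r' : ℚ) =
      (Curv2.deg k X (kernel g) rK : ℚ) + (Curv2.deg k X (Abelian.image g) rI : ℚ) := by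
    exact_mod_cast hdeg
  have hrq : (r' : ℚ) = (rK : ℚ) + (rI : ℚ) := by exact_mod_cast hrr
  have hK0' : (0 : ℚ) ≤ (rK : ℚ) := Nat.cast_nonneg _
  have hI0' : (0 : ℚ) ≤ (rI : ℚ) := Nat.cast_nonneg _
  have h1 : m₁ * rK ≤ max m₁ m₂ * rK := mul_le_mul_of_nonneg_right (le_max_left _ _) hK0'
  have h2 : m₂ * rI ≤ max m₁ m₂ * rI := mul_le_mul_of_nonneg_right (le_max_right _ _) hI0'
  rw [hsum, hrq]
  linarith

end Groth.Agent.S15335
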