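import Groth.Statements.S15338
import Groth.Agent.Lib.Lead.WeilFinEt2

set_option autoImplicit false
universe u
open CategoryTheory CategoryTheory.Limits AlgebraicGeometry
open VBCurve

namespace Groth.Agent.S15338

/-- Let X be a smooth proper integral curve (integral, smooth and proper of dimension one) over an
algebraically closed field k of characteristic zero, and E a finite locally free O_X-module of rank
r which is isotrivial: there is a finite étale surjective morphism f : Y → X with f^*E ≅ O_Y^{⊕ r}.
Then E is finite in the sense of Weil: there are two distinct polynomials P ≠ Q with natural-number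
coefficients such that P(E) ≅ Q(E), where P(E) denotes the direct sum over i of P_i copies of the
i-th tensor power E^{⊗ i} (E^{⊗ 0} = O_X). -/
theorem result (k : Type u) [Field k] [IsAlgClosed k] (X : Scheme.{u}) [X.Over (Spec (CommRingCat.of k))]
    [IsIntegral X] [IsProper (X ↘ Spec (CommRingCat.of k))] [Smooth (X ↘ Spec (CommRingCat.of k))]
    (hdim : topologicalKrullDim X = 1) [CharZero k]
    (r : ℕ) (E : X.Modules) (hE : FlatMod.IsFinLocFreeOfRank r E)
    (Y : Scheme.{u}) (f : Y ⟶ X) [IsFinite f] [Etale f] [Surjective f]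
    (htriv : Nonempty ((Scheme.Modules.pullback f).obj E ≅ FlatMod.freeMod Y r)) :
    ∃ P Q : Polynomial ℕ, P ≠ Q ∧ Nonempty ((∐ fun i : Fin (P.natDegree + 1) => ∐ fun _ : Fin (P.coeff ↑i) => CohB1.tensorPow E ↑i) ≅
      (∐ fun i : Fin (Q.natDegree + 1) => ∐ fun _ : Fin (Q.coeff ↑i) => CohB1.tensorPow E ↑i)) := by
  haveI : Nonempty X := inferInstance
  haveI : PreconnectedSpace X := inferInstance
  have hQ : ∀ n : ℕ, 0 < n → IsUnit ((n : Γ(X, ⊤))) := by
    intro n hn
    let φ : k →+* Γ(X, ⊤) :=
      ((X ↘ Spec (CommRingCat.of k)).appTop).hom.comp (Scheme.ΓSpecIso (CommRingCat.of k)).inv.hom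
    have h1 : IsUnit ((n : k)) := IsUnit.mk0 _ (Nat.cast_ne_zero.2 hn.ne')
    have h2 := h1.map φ
    rwa [map_natCast] at h2
  exact Groth.Agent.Lib.Lead.WeilFinEt.wFin_of_isTriv f k hQ hE ⟨r, htriv⟩

end Groth.Agent.S15338
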