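import Groth.Statements.S1534
import Mathlib
import Groth.Agent.Lib.Helper18.H0Field
import Groth.Agent.Lib.Helper18.EquiDim
import Groth.Agent.Lib.Helper18.CurveCM
import Groth.Agent.Lib.Lead.CurveEuler

set_option autoImplicit false
universe u
open CategoryTheory CategoryTheory.Limits AlgebraicGeometry
open Curves

namespace Groth.Agent.S1534

open Groth.Agent.Lib.Helper18 in
theorem cm_stalk (k : Type u) [Field k] (X : Scheme.{u}) [X.Over (Spec (CommRingCat.of k))]
    [IsProper (X ↘ (Spec (CommRingCat.of k)))] (hdim : topologicalKrullDim X = 1)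
    (h0 : Module.finrank k (Coh.HH X (Coh.structureModule X) 0) = 1) (x : X) :
    LocCoh.IsCohenMacaulayLocalRing (X.presheaf.stalk x) := by
  haveI := Groth.Agent.Lib.Lead.CurveEuler.isNoetherian k X
  haveI : IsNoetherianRing (X.presheaf.stalk x) := inferInstance
  have hd1 : ringKrullDim (X.presheaf.stalk x) ≤ 1 :=
    (RegPoint.ringKrullDim_stalk_le x).trans hdim.le
  apply CMDimOne.isCohenMacaulayLocalRing_of_dim_le_one _ hd1
  by_cases hx : IsClosed ({x} : Set X)
  · by_contra hcon
    push Not at hcon
    obtain ⟨-, hnr⟩ := hcon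
    obtain ⟨a, ha, hma⟩ := CMDimOne.exists_socle_of_forall_not_regular (X.presheaf.stalk x)
      hnr
    let W : X.Opens := ⟨{x}ᶜ, hx.isOpen_compl⟩
    obtain ⟨β, hβ, hβW⟩ := CurveCM.exists_section_supported_at x hx a ha hma W rfl
    have hu := H0Field.isUnit_of_ne_zero k X h0 β hβ
    have hu' := hu.map (X.presheaf.map (homOfLE (le_top : W ≤ ⊤)).op).hom
    have h10 : (1 : Γ(X, W)) = 0 := by
      have h1 : IsUnit (0 : Γ(X, W)) := by
        have : (X.presheaf.map (homOfLE (le_top : W ≤ ⊤)).op).hom β = 0 := hβW
        rw [this] at hu'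
        exact hu'
      obtain ⟨u, hu0⟩ := h1
      have := u.mul_inv
      rw [hu0, zero_mul] at this
      exact this.symm
    have hWbot := Groth.Agent.Lib.helper13.Normal.eq_bot_of_one_eq_zero W h10
    have hall : ∀ y : X, y = x := by
      intro y
      by_contra hy
      have : y ∈ (W : Set X) := hy
      rw [hWbot] at this
      exact this
    haveI : Subsingleton X := ⟨fun a b => (hall a).trans (hall b).symm⟩
    have := topologicalKrullDim_zero_of_discreteTopology X
    rw [hdim] at this
    exact absurd this (by decide)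
  · exact Or.inl (CurveCM.ringKrullDim_stalk_le_zero_of_not_isClosed hdim.le x hx)

open Groth.Agent.Lib.Helper18 in

/-- A proper scheme of dimension one over a field k whose global functions are k is connected, all of
its local rings are Cohen–Macaulay, and every irreducible component has dimension one. -/
theorem result (k : Type u) [Field k] (X : Scheme.{u}) [X.Over (Spec (CommRingCat.of k))]
    [IsProper (X ↘ (Spec (CommRingCat.of k)))] (hdim : topologicalKrullDim X = 1) (h0 : Module.finrank k (Coh.HH X (Coh.structureModule X) 0) = 1) :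
    ConnectedSpace X ∧ (∀ x : X, LocCoh.IsCohenMacaulayLocalRing (X.presheaf.stalk x)) ∧
      ∀ Z ∈ irreducibleComponents (X : Type u), topologicalKrullDim Z = 1 := by
  haveI := Groth.Agent.Lib.Lead.CurveEuler.isNoetherian k X
  haveI hconn : ConnectedSpace X := H0Field.connectedSpace_of_finrank_H0_eq_one k X h0
  haveI : TopologicalSpace.NoetherianSpace X := IsNoetherian.noetherianSpace (X := X)
  refine ⟨hconn, fun x => cm_stalk k X hdim h0 x, fun Z hZ => ?_⟩
  exact EquiDim.topologicalKrullDim_irreducibleComponent hdim Z hZ

end Groth.Agent.S1534
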