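import Groth.Statements.S15343
import Groth.Agent.Lib.Lead.WeilFinEt2
import Groth.Agent.Lib.Helper4.TorsorFpqc3

set_option autoImplicit false
universe u
open CategoryTheory CategoryTheory.Limits AlgebraicGeometry
open VBCurve

namespace Groth.Agent.S15343

/-- Let X be a smooth proper integral curve (integral, smooth and proper of dimension one) over an
algebraically closed field k of characteristic zero, G a finite group scheme over k and j : P → X a
torsor (fppf-locally trivial) under the X-group scheme G ×_k X. If E is a finite locally free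
O_X-module of rank r with j^*E ≅ O_P^{⊕ r}, then E is finite in the sense of Weil: there are
distinct polynomials P' ≠ Q' with natural-number coefficients and P'(E) ≅ Q'(E), P'(E) being the
direct sum over i of P'_i copies of E^{⊗ i}. (The published statement says that in characteristic
zero an essentially finite bundle is finite; this row takes as hypothesis the characterisation of
essentially finite bundles as those trivialised by a torsor under a finite group scheme.) -/
theorem result (k : Type u) [Field k] [IsAlgClosed k] (X : Scheme.{u}) [X.Over (Spec (CommRingCat.of k))]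
    [IsIntegral X] [IsProper (X ↘ Spec (CommRingCat.of k))] [Smooth (X ↘ Spec (CommRingCat.of k))]
    (hdim : topologicalKrullDim X = 1) [CharZero k]
    (G : Scheme.{u}) [G.Over (Spec (CommRingCat.of k))] [GrpObj (G.asOver (Spec (CommRingCat.of k)))]
    [IsFinite (G ↘ Spec (CommRingCat.of k))]
    (P : Over X) (a : AlgGrp.Action (Red.bc (X ↘ Spec (CommRingCat.of k)) (G.asOver (Spec (CommRingCat.of k)))) P)
    (hP : NonAbH1.IsTorsorFor Scheme.fppfPrecoverage a)
    (r : ℕ) (E : X.Modules) (hE : FlatMod.IsFinLocFreeOfRank r E)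
    (htriv : Nonempty ((Scheme.Modules.pullback P.hom).obj E ≅ FlatMod.freeMod P.left r)) :
    ∃ P' Q' : Polynomial ℕ, P' ≠ Q' ∧ Nonempty ((∐ fun i : Fin (P'.natDegree + 1) => ∐ fun _ : Fin (P'.coeff ↑i) => CohB1.tensorPow E ↑i) ≅
      (∐ fun i : Fin (Q'.natDegree + 1) => ∐ fun _ : Fin (Q'.coeff ↑i) => CohB1.tensorPow E ↑i)) := by
  haveI : Nonempty X := inferInstance
  haveI : PreconnectedSpace X := inferInstance
  have hQ : ∀ n : ℕ, 0 < n → IsUnit ((n : Γ(X, ⊤))) := by
    intro n hn
    let φ : k →+* Γ(X, ⊤) :=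
      ((X ↘ Spec (CommRingCat.of k)).appTop).hom.comp (Scheme.ΓSpecIso (CommRingCat.of k)).inv.hom
    have h1 : IsUnit ((n : k)) := IsUnit.mk0 _ (Nat.cast_ne_zero.2 hn.ne')
    have h2 := h1.map φ
    rwa [map_natCast] at h2
  have hfpqc : NonAbH1.IsTorsorFor Scheme.fpqcPrecoverage a := by
    obtain ⟨hps, R, hR, hsec⟩ := hP
    exact ⟨hps, R, Scheme.fppfPrecoverage_le_fpqcPrecoverage _ hR, hsec⟩
  have hGfin : IsFinite (Red.bc (X ↘ Spec (CommRingCat.of k)) (G.asOver (Spec (CommRingCat.of k)))).hom :=
    (inferInstance : IsFinite (pullback.snd (G ↘ Spec (CommRingCat.of k)) (X ↘ Spec (CommRingCat.of k))))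
  have hGflat : Flat (Red.bc (X ↘ Spec (CommRingCat.of k)) (G.asOver (Spec (CommRingCat.of k)))).hom :=
    (inferInstance : Flat (pullback.snd (G ↘ Spec (CommRingCat.of k)) (X ↘ Spec (CommRingCat.of k))))
  have hGlfp : LocallyOfFinitePresentation
      (Red.bc (X ↘ Spec (CommRingCat.of k)) (G.asOver (Spec (CommRingCat.of k)))).hom :=
    (inferInstance : LocallyOfFinitePresentation
      (pullback.snd (G ↘ Spec (CommRingCat.of k)) (X ↘ Spec (CommRingCat.of k))))
  haveI : IsFinite P.hom :=
    (Groth.Agent.Lib.Helper4.TorsorFpqc3.props_of_isTorsorFor_fpqc a hfpqc).2.2.1 hGfin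
  haveI : Flat P.hom :=
    Groth.Agent.Lib.Helper4.TorsorFpqc2.prop_of_isTorsorFor_fpqc @Flat _ P a hfpqc hGflat
  haveI : LocallyOfFinitePresentation P.hom :=
    Groth.Agent.Lib.Helper4.TorsorFpqc2.prop_of_isTorsorFor_fpqc @LocallyOfFinitePresentation _ P a hfpqc hGlfp
  haveI : Surjective P.hom :=
    Groth.Agent.Lib.Helper4.TorsorFpqc2.prop_of_isTorsorFor_fpqc @Surjective _ P a hfpqc
      (Groth.Agent.Lib.Helper4.TorsorFpqc2.surjective_of_grpObj _)
  exact Groth.Agent.Lib.Lead.WeilFinEt.wFin_of_isTriv P.hom k hQ hE ⟨r, htriv⟩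

end Groth.Agent.S15343
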