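import Groth.Statements.S15352
import Groth.Agent.Lib.Helper3.GrpConn2

set_option autoImplicit false
universe u
open CategoryTheory CategoryTheory.Limits MonoidalCategory CartesianMonoidalCategory MonObj GrpObj AlgebraicGeometry
open GrpSch

namespace Groth.Agent.S15352

/-- Let k be an algebraically closed field, G a group scheme locally of finite type over k, G⁰ ⊆ G the
connected component of the unit point, and U a nonempty open subscheme of G contained in G⁰. Then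
every point of G⁰ is in the image of the morphism U ×_k U ⟶ G, (g, h) ↦ g·h⁻¹. (The published
statement writes U as an open of G mapping to G⁰ × G⁰; this row makes the containment U ⊆ G⁰
explicit.) -/
theorem result (k : Type u) [Field k] [IsAlgClosed k]
    (G : Over (Spec (CommRingCat.of k))) [GrpObj G] [LocallyOfFiniteType G.hom] (U : G.left.Opens)
    (hne : (U : Set ↥G.left).Nonempty)
    (hU : (U : Set ↥G.left) ⊆ connectedComponent (η[G].left.base (IsLocalRing.closedPoint k))) :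
    connectedComponent (η[G].left.base (IsLocalRing.closedPoint k)) ⊆ Set.range
      ((((Over.homMk U.ι rfl : Over.mk (U.ι ≫ G.hom) ⟶ G) ⊗ₘ
          ((Over.homMk U.ι rfl : Over.mk (U.ι ≫ G.hom) ⟶ G) ≫ ι[G])) ≫ μ[G]).left.base) := by
  intro x hx
  have hrange := Groth.Agent.Lib.helper28.GrpPts.range_tensorHom_mul (G := G)
    (Over.homMk U.ι rfl : Over.mk (U.ι ≫ G.hom) ⟶ G)
    ((Over.homMk U.ι rfl : Over.mk (U.ι ≫ G.hom) ⟶ G) ≫ ι[G])
  have hcc : connectedComponent (Groth.Agent.Lib.helper3.GrpIrr.e G) =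
      Groth.Agent.Lib.helper3.GrpConn.Z G :=
    Groth.Agent.Lib.helper3.GrpConn.connectedComponent_unit_eq G
  have hxZ : x ∈ Groth.Agent.Lib.helper3.GrpConn.Z G := by rw [← hcc]; exact hx
  have hUZ : (U : Set ↥G.left) ⊆ Groth.Agent.Lib.helper3.GrpConn.Z G := by rw [← hcc]; exact hU
  have hopen : IsOpen {w | ∃ v ∈ U, Groth.Agent.Lib.helper28.GrpPts.Mul3 G x v w} :=
    Groth.Agent.S0351.translate_open k G U x
  obtain ⟨v0, hv0⟩ := hne
  obtain ⟨w0, hw0⟩ := Groth.Agent.Lib.helper28.GrpPts.Mul3.exists_mul G x v0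
  have hsub : {w | ∃ v ∈ U, Groth.Agent.Lib.helper28.GrpPts.Mul3 G x v w} ⊆
      Groth.Agent.Lib.helper3.GrpConn.Z G := by
    rintro w ⟨v, hv, hm⟩
    exact Groth.Agent.Lib.helper3.GrpConn.mul_mem_Z G hxZ (hUZ hv) hm
  obtain ⟨u, huZ, huU, v, hv, hm⟩ :=
    (Groth.Agent.Lib.helper3.GrpConn.isIrreducible_Z G).isPreirreducible (U : Set ↥G.left)
      {w | ∃ v ∈ U, Groth.Agent.Lib.helper28.GrpPts.Mul3 G x v w} U.isOpen hopen
      ⟨v0, hUZ hv0, hv0⟩ ⟨w0, hsub ⟨v0, hv0, hw0⟩, ⟨v0, hv0, hw0⟩⟩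
  have hm' := hm.rot_right
  show x ∈ Set.range ⇑(((Over.homMk U.ι rfl : Over.mk (U.ι ≫ G.hom) ⟶ G) ⊗ₘ
          ((Over.homMk U.ι rfl : Over.mk (U.ι ≫ G.hom) ⟶ G) ≫ ι[G])) ≫ μ[G]).left
  rw [hrange]
  refine ⟨u, ⟨⟨u, huU⟩, rfl⟩, ι[G].left v, ⟨⟨v, hv⟩, rfl⟩, hm'⟩

end Groth.Agent.S15352
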