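import Groth.Statements.S15353
import Mathlib
import Groth.Agent.Lib.Helper8.NilLift

set_option autoImplicit false
universe u
open CAlg

namespace Groth.Agent.S15353

/-- Let f : A' → A be a surjective ring homomorphism whose kernel is a nilpotent ideal. Then the induced
homomorphism of Picard groups Pic(A') → Pic(A), base change of invertible modules along f, is
bijective. -/
theorem result {A' A : Type u} [CommRing A'] [CommRing A]
    (f : A' →+* A) (hf : Function.Surjective f) (hker : IsNilpotent (RingHom.ker f)) :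
    Function.Bijective (CommRing.Pic.mapRingHom f) := by
  open Groth.Agent.Lib.helper8.NilLift TensorProduct in
  algebraize [f]
  have hsurj : Function.Surjective (algebraMap A' A) := hf
  have hI : IsNilpotent (RingHom.ker (algebraMap A' A)) := hker
  have hmap : CommRing.Pic.mapRingHom f = CommRing.Pic.mapAlgebra A' A := rfl
  rw [hmap]
  constructor
  · -- injective
    rw [injective_iff_map_eq_one]
    intro M hM
    rw [CommRing.Pic.mapAlgebra_apply, CommRing.Pic.mk_eq_one_iff] at hM
    obtain ⟨e0⟩ := hM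
    have e1 : A ⊗[A'] (M : Type u) ≃ₗ[A] A ⊗[A'] A' :=
      e0 ≪≫ₗ (TensorProduct.AlgebraTensorModule.rid A' A A).symm
    obtain ⟨e2⟩ := nonempty_linearEquiv_of_baseChange (M₁ := (M : Type u)) (M₂ := A') hsurj hI e1
    rw [← CommRing.Pic.mk_eq_self (M := M), CommRing.Pic.mk_eq_one_iff]
    exact ⟨e2⟩
  · -- surjective
    intro N
    obtain ⟨n, M, hMproj, hMfin, ⟨eM⟩⟩ := exists_projective_lift hsurj hI (N : Type u)
    obtain ⟨n₂, M₂, hM₂proj, hM₂fin, ⟨eM₂⟩⟩ :=
      exists_projective_lift hsurj hI (Module.Dual A (N : Type u))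
    have e3 : A ⊗[A'] ((M : Type u) ⊗[A'] (M₂ : Type u)) ≃ₗ[A] A ⊗[A'] A' :=
      TensorProduct.AlgebraTensorModule.distribBaseChange A' A M M₂ ≪≫ₗ
        TensorProduct.congr eM eM₂ ≪≫ₗ TensorProduct.comm A _ _ ≪≫ₗ
        Module.Invertible.linearEquiv A (N : Type u) ≪≫ₗ
        (TensorProduct.AlgebraTensorModule.rid A' A A).symm
    obtain ⟨e4⟩ := nonempty_linearEquiv_of_baseChange (M₁ := (M : Type u) ⊗[A'] (M₂ : Type u))
      (M₂ := A') hsurj hI e3
    haveI : Module.Invertible A' M := Module.Invertible.left e4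
    refine ⟨CommRing.Pic.mk A' M, ?_⟩
    rw [CommRing.Pic.mapAlgebra_apply, CommRing.Pic.mk_eq_iff]
    exact ⟨TensorProduct.AlgebraTensorModule.congr (LinearEquiv.refl A A)
      (CommRing.Pic.mk.linearEquiv A' M) ≪≫ₗ eM⟩

end Groth.Agent.S15353
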