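import Groth.Statements.S15354
import Mathlib
-- import your own Groth.Agent.* helpers here

set_option autoImplicit false
universe u
open CategoryTheory CategoryTheory.Limits AlgebraicGeometry
open Mor

namespace Groth.Agent.S15354

/-- Let f : Y ⟶ X be a morphism of schemes, A a valuation ring with fraction field K and residue field
k, and ξ, η : Spec A ⟶ Y two A-points of Y over the same A-point of X. If ξ and η restrict to the
same K-point and to the same k-point of Y, then ξ = η. (The published statement is an equivalence,
for algebraic spaces locally of finite presentation over a Noetherian scheme, between local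
separatedness of f and conditions (a), (b); this row is the necessity of (a) in the case of schemes,
where no hypothesis on f is needed.) -/
theorem result {X Y : Scheme.{u}} (f : Y ⟶ X)
    (A : Type u) [CommRing A] [IsDomain A] [ValuationRing A] (K : Type u) [Field K] [Algebra A K]
    [IsFractionRing A K] (ξ η : Spec (CommRingCat.of A) ⟶ Y) (hf : ξ ≫ f = η ≫ f)
    (hK : Spec.map (CommRingCat.ofHom (algebraMap A K)) ≫ ξ = Spec.map (CommRingCat.ofHom (algebraMap A K)) ≫ η)
    (hk : Spec.map (CommRingCat.ofHom (IsLocalRing.residue A)) ≫ ξ =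
      Spec.map (CommRingCat.ofHom (IsLocalRing.residue A)) ≫ η) :
    ξ = η := by
  -- the closed point
  have hm : ξ.base (IsLocalRing.closedPoint A) = η.base (IsLocalRing.closedPoint A) := by
    obtain ⟨s⟩ : Nonempty (Spec (CommRingCat.of (IsLocalRing.ResidueField A))) := inferInstance
    have hs : (Spec.map (CommRingCat.ofHom (IsLocalRing.residue A))).base s = IsLocalRing.closedPoint A :=
      IsLocalRing.PrimeSpectrum.comap_residue _ s
    have := congrArg (fun φ => φ.base s) hk
    simpa [hs] using this
  obtain ⟨V, hV, hyV, -⟩ := exists_isAffineOpen_mem_and_subset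
    (x := ξ.base (IsLocalRing.closedPoint A)) (U := (⊤ : Y.Opens)) trivial
  have key : ∀ ζ : Spec (CommRingCat.of A) ⟶ Y, ζ.base (IsLocalRing.closedPoint A) ∈ V →
      Set.range ζ.base ⊆ Set.range V.ι.base := by
    intro ζ hζ
    have h1 : ζ ⁻¹ᵁ V = ⊤ := (IsLocalRing.closedPoint_mem_iff (ζ ⁻¹ᵁ V)).mp hζ
    rintro _ ⟨x, rfl⟩
    have hx : x ∈ ζ ⁻¹ᵁ V := by rw [h1]; trivial
    simpa using hx
  have hξV := key ξ hyV
  have hηV := key η (hm ▸ hyV)
  haveI : IsAffine V := hV
  haveI : IsDominant (Spec.map (CommRingCat.ofHom (algebraMap A K))) := by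
    constructor
    have := (PrimeSpectrum.denseRange_comap_iff_ker_le_nilRadical (f := algebraMap A K)).mpr (by
      rw [(RingHom.injective_iff_ker_eq_bot _).mp (IsFractionRing.injective A K)]
      exact bot_le)
    exact this
  have hlift : IsOpenImmersion.lift V.ι ξ hξV = IsOpenImmersion.lift V.ι η hηV := by
    apply ext_of_isDominant (ι := Spec.map (CommRingCat.ofHom (algebraMap A K)))
    rw [← cancel_mono V.ι]
    simp only [Category.assoc, IsOpenImmersion.lift_fac]
    exact hK
  rw [← IsOpenImmersion.lift_fac V.ι ξ hξV, ← IsOpenImmersion.lift_fac V.ι η hηV, hlift]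

end Groth.Agent.S15354
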