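import Groth.Statements.S15355
import Mathlib
-- import your own Groth.Agent.* helpers here

set_option autoImplicit false
universe u
open CategoryTheory CategoryTheory.Limits AlgebraicGeometry
open Mor

namespace Groth.Agent.S15355

/-- Let f : Y ⟶ X be a morphism of schemes, A an integral domain and ξ, η : Spec A ⟶ Y two A-points of Y
over the same A-point of X. If ξ and η induce the same κ(p)-point of Y at every point p of some
dense subset of Spec A, then ξ and η agree on a nonempty open subscheme of Spec A. (The published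
statement is an equivalence, for algebraic spaces locally of finite presentation over a Noetherian
scheme, between local separatedness of f and conditions (a), (b); this row is the necessity of (b)
in the case of schemes, where no hypothesis on f is needed.) -/
theorem result {X Y : Scheme.{u}} (f : Y ⟶ X)
    (A : Type u) [CommRing A] [IsDomain A] (ξ η : Spec (CommRingCat.of A) ⟶ Y) (hf : ξ ≫ f = η ≫ f)
    (D : Set ↥(Spec (CommRingCat.of A))) (hD : Dense D)
    (hpt : ∀ p ∈ D, (Spec (CommRingCat.of A)).fromSpecResidueField p ≫ ξ =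
      (Spec (CommRingCat.of A)).fromSpecResidueField p ≫ η) :
    ∃ U : (Spec (CommRingCat.of A)).Opens, (U : Set ↥(Spec (CommRingCat.of A))).Nonempty ∧ U.ι ≫ ξ = U.ι ≫ η := by
  obtain ⟨p, hp⟩ : D.Nonempty := hD.nonempty
  have hy : ξ.base p = η.base p := by
    obtain ⟨s⟩ : Nonempty (Spec ((Spec (CommRingCat.of A)).residueField p)) := inferInstance
    have := congrArg (fun φ => φ.base s) (hpt p hp)
    simpa [Scheme.fromSpecResidueField_apply] using this
  obtain ⟨V, hV, hyV, -⟩ := exists_isAffineOpen_mem_and_subset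
    (x := ξ.base p) (U := (⊤ : Y.Opens)) trivial
  let W : (Spec (CommRingCat.of A)).Opens := ξ ⁻¹ᵁ V ⊓ η ⁻¹ᵁ V
  have hpW : p ∈ W := ⟨hyV, by show η.base p ∈ V; rw [← hy]; exact hyV⟩
  refine ⟨W, ⟨p, hpW⟩, ?_⟩
  have hξ : Set.range (W.ι ≫ ξ).base ⊆ Set.range V.ι.base := by
    rintro _ ⟨x, rfl⟩
    have hx : ξ.base x.1 ∈ V := x.2.1
    simp only [Scheme.Opens.range_ι, Scheme.Hom.comp_base, TopCat.hom_comp, ContinuousMap.comp_apply]
    exact hx
  have hη : Set.range (W.ι ≫ η).base ⊆ Set.range V.ι.base := by
    rintro _ ⟨x, rfl⟩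
    have hx : η.base x.1 ∈ V := x.2.2
    simp only [Scheme.Opens.range_ι, Scheme.Hom.comp_base, TopCat.hom_comp, ContinuousMap.comp_apply]
    exact hx
  have hVaff : IsAffine V := hV
  have hlift : IsOpenImmersion.lift V.ι (W.ι ≫ ξ) hξ = IsOpenImmersion.lift V.ι (W.ι ≫ η) hη := by
    apply ext_of_fromSpecResidueField_eq _ _ (terminal.from _) (W.ι.base ⁻¹' D)
      (hD.preimage W.ι.isOpenEmbedding.isOpenMap)
    · intro x hx
      rw [← cancel_mono V.ι]
      simp only [Category.assoc, IsOpenImmersion.lift_fac]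
      rw [← Scheme.Hom.SpecMap_residueFieldMap_fromSpecResidueField_assoc,
        ← Scheme.Hom.SpecMap_residueFieldMap_fromSpecResidueField_assoc, hpt _ hx]
    · exact terminal.hom_ext _ _
  rw [← IsOpenImmersion.lift_fac V.ι (W.ι ≫ ξ) hξ, ← IsOpenImmersion.lift_fac V.ι (W.ι ≫ η) hη, hlift]

end Groth.Agent.S15355
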