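import Groth.Statements.S15361
import Mathlib

set_option autoImplicit false
open GalCoh

namespace Groth.Agent.S15361

section helpers
open Matrix

section basics
variable {K : Type*} [Field K]

theorem tv01_eq (c : K) : transvection (0 : Fin 2) 1 c = !![1, c; 0, 1] := by
  ext i j
  fin_cases i <;> fin_cases j <;> simp [transvection, Matrix.single]

theorem tv10_eq (c : K) : transvection (1 : Fin 2) 0 c = !![1, 0; c, 1] := by
  ext i j
  fin_cases i <;> fin_cases j <;> simp [transvection, Matrix.single]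

/-- elementary transvections as `GL` elements -/
def tv (i j : Fin 2) (hij : i ≠ j) (c : K) : GL (Fin 2) K :=
  ⟨transvection i j c, transvection i j (-c),
    by rw [transvection_mul_transvection_same i j hij, add_neg_cancel, transvection_zero],
    by rw [transvection_mul_transvection_same i j hij, neg_add_cancel, transvection_zero]⟩

theorem tv_coe (i j : Fin 2) (hij : i ≠ j) (c : K) :
    ((tv i j hij c : GL (Fin 2) K) : Matrix (Fin 2) (Fin 2) K) = transvection i j c := rfl

theorem tv_mul (i j : Fin 2) (hij : i ≠ j) (c d : K) :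
    tv i j hij c * tv i j hij d = tv i j hij (c + d) := by
  apply Units.ext
  rw [Units.val_mul, tv_coe, tv_coe, tv_coe, transvection_mul_transvection_same i j hij]

theorem tv_pow (i j : Fin 2) (hij : i ≠ j) (c : K) (k : ℕ) :
    tv i j hij c ^ k = tv i j hij ((k : K) * c) := by
  induction k with
  | zero =>
    apply Units.ext
    rw [pow_zero, Nat.cast_zero, zero_mul, tv_coe, transvection_zero]
    rfl
  | succ k ih =>
    rw [pow_succ, ih, tv_mul]
    congr 1
    push_cast
    ring

/-- `diag(a, a⁻¹)` is a product of transvections. -/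
theorem diag_eq (a : K) (ha : a ≠ 0) :
    (!![a, 0; 0, a⁻¹] : Matrix (Fin 2) (Fin 2) K) =
      transvection 0 1 a * transvection 1 0 (-a⁻¹) * transvection 0 1 a *
        (transvection 0 1 (-1) * transvection 1 0 1 * transvection 0 1 (-1)) := by
  simp only [tv01_eq, tv10_eq, Matrix.mul_fin_two]
  ext i j
  fin_cases i <;> fin_cases j <;> simp [ha]

end basics


theorem sl2_le {K : Type*} [Field K] (H : Subgroup (GL (Fin 2) K))
    (h01 : ∀ c, tv 0 1 (by decide) c ∈ H) (h10 : ∀ c, tv 1 0 (by decide) c ∈ H)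
    (g : GL (Fin 2) K) (hg : (g : Matrix (Fin 2) (Fin 2) K).det = 1) : g ∈ H := by
  classical
  obtain ⟨L, L', D, hM⟩ :=
    Matrix.Pivot.exists_list_transvec_mul_diagonal_mul_list_transvec (g : Matrix (Fin 2) (Fin 2) K)
  have htH : ∀ t : TransvectionStruct (Fin 2) K,
      ∃ A ∈ H, (A : Matrix (Fin 2) (Fin 2) K) = t.toMatrix := by
    rintro ⟨i, j, hij, c⟩
    fin_cases i <;> fin_cases j
    · exact absurd rfl hij
    · exact ⟨_, h01 c, rfl⟩
    · exact ⟨_, h10 c, rfl⟩
    · exact absurd rfl hij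
  have hL : ∀ L : List (TransvectionStruct (Fin 2) K),
      ∃ A ∈ H, (A : Matrix (Fin 2) (Fin 2) K) = (L.map TransvectionStruct.toMatrix).prod := by
    intro L
    induction L with
    | nil => exact ⟨1, H.one_mem, by simp⟩
    | cons t L ih =>
      obtain ⟨A, hA, hAe⟩ := ih
      obtain ⟨T, hT, hTe⟩ := htH t
      exact ⟨T * A, H.mul_mem hT hA, by rw [List.map_cons, List.prod_cons, Units.val_mul, hTe, hAe]⟩
  obtain ⟨A, hA, hAe⟩ := hL L
  obtain ⟨B, hB, hBe⟩ := hL L'
  rw [← hAe, ← hBe] at hM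
  have hdet : D 0 * D 1 = 1 := by
    have h1 := congrArg Matrix.det hM
    rw [det_mul, det_mul, hAe, hBe, TransvectionStruct.det_toMatrix_prod,
      TransvectionStruct.det_toMatrix_prod, one_mul, mul_one, hg, det_diagonal,
      Fin.prod_univ_two] at h1
    exact h1.symm
  have ha : D 0 ≠ 0 := left_ne_zero_of_mul_eq_one hdet
  have hD1 : D 1 = (D 0)⁻¹ := eq_inv_of_mul_eq_one_right hdet
  have hdiag : diagonal D = !![D 0, 0; 0, (D 0)⁻¹] := by
    rw [← hD1]
    ext i j
    fin_cases i <;> fin_cases j <;> simp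
  set Dg : GL (Fin 2) K := tv 0 1 (by decide) (D 0) * tv 1 0 (by decide) (-(D 0)⁻¹) *
      tv 0 1 (by decide) (D 0) * (tv 0 1 (by decide) (-1) * tv 1 0 (by decide) 1 *
        tv 0 1 (by decide) (-1)) with hDg
  have hDgH : Dg ∈ H :=
    H.mul_mem (H.mul_mem (H.mul_mem (h01 _) (h10 _)) (h01 _))
      (H.mul_mem (H.mul_mem (h01 _) (h10 _)) (h01 _))
  have hDge : (Dg : Matrix (Fin 2) (Fin 2) K) = diagonal D := by
    rw [hdiag, diag_eq _ ha]
    rfl
  have : g = A * Dg * B := by
    apply Units.ext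
    rw [Units.val_mul, Units.val_mul, hDge]
    exact hM
  rw [this]
  exact H.mul_mem (H.mul_mem hA hDgH) hB


theorem eq_tv01_of_fix {K : Type*} [Field K] (g : GL (Fin 2) K)
    (h00 : (g : Matrix (Fin 2) (Fin 2) K) 0 0 = 1) (h10 : (g : Matrix (Fin 2) (Fin 2) K) 1 0 = 0)
    (hdet : (g : Matrix (Fin 2) (Fin 2) K).det = 1) :
    g = tv 0 1 (by decide) ((g : Matrix (Fin 2) (Fin 2) K) 0 1) := by
  apply Units.ext
  rw [tv_coe, tv01_eq]
  rw [det_fin_two, h00, h10, mul_zero, sub_zero, one_mul] at hdet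
  ext i j
  fin_cases i <;> fin_cases j <;> simp [h00, h10, hdet]

theorem eq_tv10_of_fix {K : Type*} [Field K] (g : GL (Fin 2) K)
    (h11 : (g : Matrix (Fin 2) (Fin 2) K) 1 1 = 1) (h01 : (g : Matrix (Fin 2) (Fin 2) K) 0 1 = 0)
    (hdet : (g : Matrix (Fin 2) (Fin 2) K).det = 1) :
    g = tv 1 0 (by decide) ((g : Matrix (Fin 2) (Fin 2) K) 1 0) := by
  apply Units.ext
  rw [tv_coe, tv10_eq]
  rw [det_fin_two, h11, h01, zero_mul, sub_zero, mul_one] at hdet
  ext i j
  fin_cases i <;> fin_cases j <;> simp [h11, h01, hdet]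

/-- Cayley–Hamilton for `2 × 2` matrices. -/
theorem sq_eq {K : Type*} [Field K] (N : Matrix (Fin 2) (Fin 2) K) :
    N * N = N.trace • N - N.det • (1 : Matrix (Fin 2) (Fin 2) K) := by
  rw [trace_fin_two, det_fin_two]
  ext i j
  fin_cases i <;> fin_cases j <;> simp [Matrix.mul_apply, Fin.sum_univ_two] <;> ring

theorem unipotent_of_order_p (p : ℕ) [Fact p.Prime] (u : GL (Fin 2) (ZMod p)) (hu : u ^ p = 1)
    (hu1 : u ≠ 1) :
    (u : Matrix (Fin 2) (Fin 2) (ZMod p)).det = 1 ∧
      ∃ v : Fin 2 → ZMod p, v ≠ 0 ∧ (u : Matrix (Fin 2) (Fin 2) (ZMod p)) *ᵥ v = v := by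
  have hp0 : p ≠ 0 := (Fact.out : p.Prime).ne_zero
  set N : Matrix (Fin 2) (Fin 2) (ZMod p) := (u : Matrix (Fin 2) (Fin 2) (ZMod p)) - 1 with hN
  have hNp : N ^ p = 0 := by
    rw [hN, sub_pow_char_of_commute p (Commute.one_right _), one_pow, ← Units.val_pow_eq_pow_val, hu,
      Units.val_one, sub_self]
  have hN0 : N ≠ 0 := by
    intro h0
    apply hu1
    apply Units.ext
    rw [Units.val_one]
    exact sub_eq_zero.mp h0
  have hdetN : N.det = 0 := by
    have := congrArg Matrix.det hNp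
    rw [det_pow, det_zero] at this
    exact pow_eq_zero_iff hp0 |>.mp this
  have hsq : N * N = N.trace • N := by
    rw [sq_eq, hdetN, zero_smul, sub_zero]
  have hpow : ∀ k : ℕ, N ^ (k + 1) = N.trace ^ k • N := by
    intro k
    induction k with
    | zero => simp
    | succ k ih => rw [pow_succ, ih, smul_mul_assoc, hsq, smul_smul, pow_succ]
  have htr : N.trace = 0 := by
    obtain ⟨k, hk⟩ : ∃ k, p = k + 1 := ⟨p - 1, by omega⟩
    have h1 := hpow k
    rw [← hk, hNp] at h1
    rcases smul_eq_zero.mp h1.symm with h | h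
    · rcases Nat.eq_zero_or_pos k with rfl | hkpos
      · -- p = 1 impossible
        exfalso
        have := (Fact.out : p.Prime).one_lt
        omega
      · exact pow_eq_zero_iff (by omega) |>.mp h
    · exact absurd h hN0
  have hNN : N * N = 0 := by rw [hsq, htr, zero_smul]
  have hu' : (u : Matrix (Fin 2) (Fin 2) (ZMod p)) = 1 + N := by rw [hN]; abel
  refine ⟨?_, ?_⟩
  · have h1 : N 0 0 + N 1 1 = 0 := by rw [← trace_fin_two]; exact htr
    have h2 : N 0 0 * N 1 1 - N 0 1 * N 1 0 = 0 := by rw [← det_fin_two]; exact hdetN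
    rw [hu', det_fin_two]
    simp only [Matrix.add_apply, Matrix.one_apply_eq, Matrix.one_apply_ne, ne_eq, zero_ne_one,
      not_false_eq_true, one_ne_zero, zero_add]
    linear_combination h1 + h2
  · -- a fixed vector
    have : ∃ x : Fin 2 → ZMod p, N *ᵥ x ≠ 0 := by
      by_contra hcon
      rw [not_exists] at hcon
      apply hN0
      ext i j
      have := congrFun (not_not.mp (hcon (Pi.single j 1))) i
      rw [Matrix.mulVec_single_one] at this
      exact this
    obtain ⟨x, hx⟩ := this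
    refine ⟨N *ᵥ x, hx, ?_⟩
    rw [hu', Matrix.add_mulVec, Matrix.one_mulVec, Matrix.mulVec_mulVec, hNN, Matrix.zero_mulVec,
      add_zero]


section cartan
variable (p : ℕ) [Fact p.Prime] (E : Subring (Matrix (Fin 2) (Fin 2) (ZMod p)))

theorem eq_zero_of_mulVec_eq_zero {E : Subring (Matrix (Fin 2) (Fin 2) (ZMod p))} (hE : IsField E)
    (e : E) (v : Fin 2 → ZMod p) (hv : v ≠ 0)
    (h : (e : Matrix (Fin 2) (Fin 2) (ZMod p)) *ᵥ v = 0) : e = 0 := by
  by_contra he
  obtain ⟨y, hy⟩ := hE.mul_inv_cancel he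
  have hy' : y * e = 1 := by rw [hE.mul_comm]; exact hy
  apply hv
  have h1 : ((y * e : E) : Matrix (Fin 2) (Fin 2) (ZMod p)) *ᵥ v = v := by
    rw [hy']; simp
  rw [Subring.coe_mul, ← Matrix.mulVec_mulVec, h, Matrix.mulVec_zero] at h1
  exact h1.symm

theorem transitive {E : Subring (Matrix (Fin 2) (Fin 2) (ZMod p))} (hE : IsField E)
    (hcard : Nat.card E = p ^ 2) (v w : Fin 2 → ZMod p) (hv : v ≠ 0) :
    ∃ e : E, (e : Matrix (Fin 2) (Fin 2) (ZMod p)) *ᵥ v = w := by
  have hinj : Function.Injective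
      (fun e : E => (e : Matrix (Fin 2) (Fin 2) (ZMod p)) *ᵥ v) := by
    intro e e' hee
    have : ((e - e' : E) : Matrix (Fin 2) (Fin 2) (ZMod p)) *ᵥ v = 0 := by
      rw [AddSubgroupClass.coe_sub, Matrix.sub_mulVec]
      exact sub_eq_zero.mpr hee
    exact sub_eq_zero.mp (eq_zero_of_mulVec_eq_zero p hE _ v hv this)
  have hc : Nat.card E = Nat.card (Fin 2 → ZMod p) := by
    rw [hcard, Nat.card_fun, Nat.card_zmod]
    simp
  exact ((Nat.bijective_iff_injective_and_card _).mpr ⟨hinj, hc⟩).2 w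

theorem scalar_mem (k : ZMod p) : k • (1 : Matrix (Fin 2) (Fin 2) (ZMod p)) ∈ E := by
  have h : k • (1 : Matrix (Fin 2) (Fin 2) (ZMod p)) = ((k.val : ℕ) : Matrix (Fin 2) (Fin 2) (ZMod p)) := by
    ext i j
    fin_cases i <;> fin_cases j <;> simp [Matrix.natCast_apply]
  rw [h]
  exact natCast_mem E _

theorem det_lin (e : Matrix (Fin 2) (Fin 2) (ZMod p)) (a b : ZMod p) :
    (a • (1 : Matrix (Fin 2) (Fin 2) (ZMod p)) + b • e).det =
      a ^ 2 + a * b * e.trace + b ^ 2 * e.det := by
  rw [det_fin_two, det_fin_two, trace_fin_two]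
  simp only [Matrix.add_apply, Matrix.smul_apply, Matrix.one_apply_eq, Matrix.one_apply_ne, ne_eq,
    zero_ne_one, not_false_eq_true, one_ne_zero, smul_eq_mul, mul_one, mul_zero, zero_add]
  ring

theorem det_surj {E : Subring (Matrix (Fin 2) (Fin 2) (ZMod p))} (hE : IsField E)
    (hcard : Nat.card E = p ^ 2) (d : ZMod p) (hd : d ≠ 0) :
    ∃ e : E, (e : Matrix (Fin 2) (Fin 2) (ZMod p)).det = d := by
  have hp := (Fact.out : p.Prime)
  rcases hp.eq_two_or_odd with h2 | hodd
  · -- p = 2
    subst h2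
    refine ⟨1, ?_⟩
    have : d = 1 := by
      fin_cases d
      · exact absurd rfl hd
      · rfl
    rw [this]
    simp
  -- a non-scalar element
  have hns : ∃ e : E, ∀ k : ZMod p, (e : Matrix (Fin 2) (Fin 2) (ZMod p)) ≠ k • 1 := by
    by_contra hcon
    push Not at hcon
    have hinj : Function.Injective
        (fun e : E => (e : Matrix (Fin 2) (Fin 2) (ZMod p)) 0 0) := by
      intro e e' hee
      obtain ⟨k, hk⟩ := hcon e
      obtain ⟨k', hk'⟩ := hcon e'
      apply Subtype.ext
      have h1 : k = k' := by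
        have := hee
        simp only [hk, hk'] at this
        simpa using this
      rw [hk, hk', h1]
    have hfin : Finite E := Nat.finite_of_card_ne_zero (by rw [hcard]; exact pow_ne_zero 2 hp.ne_zero)
    have := Nat.card_le_card_of_injective _ hinj
    rw [hcard, Nat.card_zmod] at this
    have h2 := hp.two_le
    nlinarith
  obtain ⟨e, he⟩ := hns
  set t := (e : Matrix (Fin 2) (Fin 2) (ZMod p)).trace with ht
  set n := (e : Matrix (Fin 2) (Fin 2) (ZMod p)).det with hn
  have h2ne : (2 : ZMod p) ≠ 0 := by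
    intro h
    have : ((2 : ℕ) : ZMod p) = 0 := by exact_mod_cast h
    rw [ZMod.natCast_eq_zero_iff] at this
    have := Nat.le_of_dvd (by norm_num) this
    have := hp.two_le
    omega
  have h4ne : (4 : ZMod p) ≠ 0 := by
    have : (4 : ZMod p) = 2 * 2 := by norm_num
    rw [this]
    exact mul_ne_zero h2ne h2ne
  -- discriminant nonzero
  have hdisc : t ^ 2 - 4 * n ≠ 0 := by
    intro h0
    apply he (t / 2)
    have hmem : (t / 2) • (1 : Matrix (Fin 2) (Fin 2) (ZMod p)) ∈ E := scalar_mem p E _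
    set x : E := e - ⟨_, hmem⟩ with hx
    have hxx : x * x = 0 := by
      apply Subtype.ext
      rw [Subring.coe_mul, hx, AddSubgroupClass.coe_sub, Subring.coe_zero]
      simp only [sub_mul, mul_sub, smul_mul_assoc, mul_smul_comm, one_mul, mul_one]
      rw [sq_eq, ← ht, ← hn]
      have hn' : n = t ^ 2 / 4 := by
        field_simp
        linear_combination (-1 : ZMod p) * h0
      rw [hn']
      ext i j
      simp only [Matrix.sub_apply, Matrix.smul_apply, Matrix.one_apply, smul_eq_mul, Matrix.zero_apply]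
      split_ifs <;> field_simp <;> ring
    have hx0 : x = 0 := by
      by_contra hne
      obtain ⟨y, hy⟩ := hE.mul_inv_cancel hne
      apply hne
      calc x = x * (x * y) := by rw [hy, mul_one]
        _ = (x * x) * y := by rw [mul_assoc]
        _ = 0 := by rw [hxx, zero_mul]
    have := congrArg (Subtype.val) hx0
    rw [hx, AddSubgroupClass.coe_sub, Subring.coe_zero, sub_eq_zero] at this
    exact this
  -- solve the norm equation
  have hdeg1 : (Polynomial.X ^ 2 : Polynomial (ZMod p)).degree = 2 := by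
    rw [Polynomial.degree_X_pow]; rfl
  have hdeg2 : (Polynomial.C (-(t ^ 2 - 4 * n) / 4) * Polynomial.X ^ 2 - Polynomial.C d :
      Polynomial (ZMod p)).degree = 2 := by
    have hc : -(t ^ 2 - 4 * n) / 4 ≠ 0 := div_ne_zero (neg_ne_zero.mpr hdisc) h4ne
    rw [Polynomial.degree_sub_C (by rw [Polynomial.degree_C_mul_X_pow 2 hc]; norm_num),
      Polynomial.degree_C_mul_X_pow 2 hc]
    rfl
  have hR : Fintype.card (ZMod p) % 2 = 1 := by rw [ZMod.card]; exact hodd
  obtain ⟨a', b, hab⟩ := FiniteField.exists_root_sum_quadratic hdeg1 hdeg2 hR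
  simp only [Polynomial.eval_pow, Polynomial.eval_X, Polynomial.eval_sub, Polynomial.eval_mul,
    Polynomial.eval_C] at hab
  set a := a' - t * b / 2 with ha
  have hmem : a • (1 : Matrix (Fin 2) (Fin 2) (ZMod p)) + b • (e : Matrix (Fin 2) (Fin 2) (ZMod p)) ∈ E :=
    E.add_mem (scalar_mem p E a) (by
      have : b • (e : Matrix (Fin 2) (Fin 2) (ZMod p)) = (b • (1 : Matrix (Fin 2) (Fin 2) (ZMod p))) * e := by
        rw [smul_mul_assoc, one_mul]
      rw [this]
      exact E.mul_mem (scalar_mem p E b) e.2)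
  refine ⟨⟨_, hmem⟩, ?_⟩
  rw [det_lin, ← ht, ← hn, ha]
  field_simp
  field_simp at hab
  linear_combination hab

end cartan

theorem tv_zero {K : Type*} [Field K] (i j : Fin 2) (hij : i ≠ j) : tv i j hij (0 : K) = 1 := by
  apply Units.ext
  rw [tv_coe, transvection_zero]
  rfl

theorem forward (p : ℕ) [Fact p.Prime] :
    (∃ (C : Subgroup (GL (Fin 2) (ZMod p))) (E : Subring (Matrix (Fin 2) (Fin 2) (ZMod p))),
          C ≤ ⊤ ∧ IsField E ∧ Nat.card E = p ^ 2 ∧
            (E : Set (Matrix (Fin 2) (Fin 2) (ZMod p))) =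
              insert 0 ((fun g : GL (Fin 2) (ZMod p) => (g : Matrix (Fin 2) (Fin 2) (ZMod p))) ''
                (C : Set (GL (Fin 2) (ZMod p))))) ∧
        p ∣ Nat.card (⊤ : Subgroup (GL (Fin 2) (ZMod p))) := by
  have hp := (Fact.out : p.Prime)
  constructor
  · let b : Module.Basis (Fin 2) (ZMod p) (GaloisField p 2) :=
      Module.finBasisOfFinrankEq (ZMod p) (GaloisField p 2) (GaloisField.finrank p two_ne_zero)
    let f : GaloisField p 2 →+* Matrix (Fin 2) (Fin 2) (ZMod p) :=
      (Algebra.leftMulMatrix b).toRingHom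
    have hf : Function.Injective f := Algebra.leftMulMatrix_injective b
    refine ⟨(Units.map (f : GaloisField p 2 →* Matrix (Fin 2) (Fin 2) (ZMod p))).range, f.range,
      le_top, ?_, ?_, ?_⟩
    · refine ⟨⟨0, 1, ?_⟩, ?_, ?_⟩
      · intro h
        have := congrArg Subtype.val h
        simp at this
      · rintro ⟨_, x, rfl⟩ ⟨_, y, rfl⟩
        apply Subtype.ext
        change f x * f y = f y * f x
        rw [← map_mul, ← map_mul, mul_comm]
      · rintro ⟨_, x, rfl⟩ hne
        have hx : x ≠ 0 := by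
          rintro rfl
          apply hne
          apply Subtype.ext
          exact map_zero f
        refine ⟨⟨f x⁻¹, x⁻¹, rfl⟩, ?_⟩
        apply Subtype.ext
        change f x * f x⁻¹ = 1
        rw [← map_mul, mul_inv_cancel₀ hx, map_one]
    · rw [← GaloisField.card p 2 two_ne_zero]
      exact (Nat.card_congr (Equiv.ofBijective f.rangeRestrict
        ⟨fun x y h => hf (congrArg Subtype.val h), f.rangeRestrict_surjective⟩)).symm
    · ext x
      simp only [RingHom.coe_range, Set.mem_range, Set.mem_insert_iff, Set.mem_image,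
        SetLike.mem_coe, MonoidHom.mem_range]
      constructor
      · rintro ⟨k, rfl⟩
        by_cases hk : k = 0
        · left; rw [hk, map_zero]
        · right
          exact ⟨_, ⟨Units.mk0 k hk, rfl⟩, rfl⟩
      · rintro (rfl | ⟨g, ⟨u, rfl⟩, rfl⟩)
        · exact ⟨0, map_zero f⟩
        · exact ⟨u, rfl⟩
  · have hx : (tv 0 1 (by decide) (1 : ZMod p)) ^ p = 1 := by
      rw [tv_pow, ZMod.natCast_self, zero_mul, tv_zero]
    have hx1 : tv 0 1 (by decide) (1 : ZMod p) ≠ 1 := by
      intro h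
      have := congrArg (fun g : GL (Fin 2) (ZMod p) => (g : Matrix (Fin 2) (Fin 2) (ZMod p)) 0 1) h
      simp only [tv_coe, tv01_eq] at this
      simp at this
    have ho := orderOf_eq_prime hx hx1
    have hdvd := orderOf_dvd_natCard (tv 0 1 (by decide) (1 : ZMod p))
    rw [ho] at hdvd
    rw [Subgroup.card_top]
    exact hdvd

theorem backward (p : ℕ) [Fact p.Prime] (H : Subgroup (GL (Fin 2) (ZMod p)))
    (C : Subgroup (GL (Fin 2) (ZMod p))) (E : Subring (Matrix (Fin 2) (Fin 2) (ZMod p)))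
    (hCH : C ≤ H) (hE : IsField E) (hcard : Nat.card E = p ^ 2)
    (hEC : (E : Set (Matrix (Fin 2) (Fin 2) (ZMod p))) =
      insert 0 ((fun g : GL (Fin 2) (ZMod p) => (g : Matrix (Fin 2) (Fin 2) (ZMod p))) ''
        (C : Set (GL (Fin 2) (ZMod p)))))
    (hpH : p ∣ Nat.card H) : H = ⊤ := by
  have hp := (Fact.out : p.Prime)
  -- nonzero elements of `E` lie in `C`
  have hmemC : ∀ e : E, e ≠ 0 → ∃ c ∈ C, (c : Matrix (Fin 2) (Fin 2) (ZMod p)) = e := by
    intro e he
    have : (e : Matrix (Fin 2) (Fin 2) (ZMod p)) ∈ (E : Set (Matrix (Fin 2) (Fin 2) (ZMod p))) := e.2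
    rw [hEC] at this
    rcases this with h0 | ⟨c, hc, hce⟩
    · exact absurd (Subtype.ext h0) he
    · exact ⟨c, hc, hce⟩
  -- an element of order p
  have hfinH : Finite H := inferInstance
  obtain ⟨u, hu⟩ := exists_prime_orderOf_dvd_card' p hpH
  have hup : (u : GL (Fin 2) (ZMod p)) ^ p = 1 := by
    have := pow_orderOf_eq_one u
    rw [hu] at this
    exact_mod_cast congrArg Subtype.val this
  have hu1 : (u : GL (Fin 2) (ZMod p)) ≠ 1 := by
    intro h
    have : u = 1 := Subtype.ext h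
    rw [this, orderOf_one] at hu
    exact hp.one_lt.ne hu
  obtain ⟨hdetu, v, hv, huv⟩ := unipotent_of_order_p p u hup hu1
  -- conjugates fixing a prescribed vector
  have hconj : ∀ w : Fin 2 → ZMod p, w ≠ 0 → ∃ g ∈ H, g ≠ 1 ∧
      (g : Matrix (Fin 2) (Fin 2) (ZMod p)).det = 1 ∧
      (g : Matrix (Fin 2) (Fin 2) (ZMod p)) *ᵥ w = w := by
    intro w hw
    obtain ⟨e, he⟩ := transitive p hE hcard v w hv
    have he0 : e ≠ 0 := by
      rintro rfl
      apply hw
      rw [← he]
      simp
    obtain ⟨c, hcC, hce⟩ := hmemC e he0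
    refine ⟨c * u * c⁻¹, H.mul_mem (H.mul_mem (hCH hcC) u.2) (H.inv_mem (hCH hcC)), ?_, ?_, ?_⟩
    · intro h
      apply hu1
      have : (u : GL (Fin 2) (ZMod p)) = c⁻¹ * (c * u * c⁻¹) * c := by group
      rw [this, h]
      group
    · rw [Units.val_mul, Units.val_mul, det_mul, det_mul, hdetu, mul_one, ← det_mul, Units.mul_inv,
        det_one]
    · have hcv : (c : Matrix (Fin 2) (Fin 2) (ZMod p)) *ᵥ v = w := by rw [hce]; exact he
      have hcw : ((c⁻¹ : GL (Fin 2) (ZMod p)) : Matrix (Fin 2) (Fin 2) (ZMod p)) *ᵥ w = v := by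
        rw [← hcv, Matrix.mulVec_mulVec, Units.inv_mul, Matrix.one_mulVec]
      rw [Units.val_mul, Units.val_mul, ← Matrix.mulVec_mulVec, ← Matrix.mulVec_mulVec, hcw, huv,
        hcv]
  -- root subgroups
  have h01 : ∀ t : ZMod p, tv 0 1 (by decide) t ∈ H := by
    obtain ⟨g, hgH, hg1, hgdet, hgw⟩ := hconj (Pi.single 0 1) (by
      intro h; have := congrFun h 0; simp at this)
    rw [Matrix.mulVec_single_one] at hgw
    have h00 : (g : Matrix (Fin 2) (Fin 2) (ZMod p)) 0 0 = 1 := by
      have := congrFun hgw 0; simpa using this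
    have h10 : (g : Matrix (Fin 2) (Fin 2) (ZMod p)) 1 0 = 0 := by
      have := congrFun hgw 1; simpa using this
    have hg := eq_tv01_of_fix g h00 h10 hgdet
    set β := (g : Matrix (Fin 2) (Fin 2) (ZMod p)) 0 1 with hβ
    have hβ0 : β ≠ 0 := by
      intro h0
      apply hg1
      rw [hg, h0, tv_zero]
    intro t
    have : tv 0 1 (by decide) t = g ^ (t / β).val := by
      rw [hg, tv_pow, ZMod.natCast_zmod_val, div_mul_cancel₀ _ hβ0]
    rw [this]
    exact H.pow_mem hgH _
  have h10 : ∀ t : ZMod p, tv 1 0 (by decide) t ∈ H := by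
    obtain ⟨g, hgH, hg1, hgdet, hgw⟩ := hconj (Pi.single 1 1) (by
      intro h; have := congrFun h 1; simp at this)
    rw [Matrix.mulVec_single_one] at hgw
    have h11 : (g : Matrix (Fin 2) (Fin 2) (ZMod p)) 1 1 = 1 := by
      have := congrFun hgw 1; simpa using this
    have h01' : (g : Matrix (Fin 2) (Fin 2) (ZMod p)) 0 1 = 0 := by
      have := congrFun hgw 0; simpa using this
    have hg := eq_tv10_of_fix g h11 h01' hgdet
    set β := (g : Matrix (Fin 2) (Fin 2) (ZMod p)) 1 0 with hβ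
    have hβ0 : β ≠ 0 := by
      intro h0
      apply hg1
      rw [hg, h0, tv_zero]
    intro t
    have : tv 1 0 (by decide) t = g ^ (t / β).val := by
      rw [hg, tv_pow, ZMod.natCast_zmod_val, div_mul_cancel₀ _ hβ0]
    rw [this]
    exact H.pow_mem hgH _
  -- conclusion
  rw [eq_top_iff]
  intro g _
  have hd : (g : Matrix (Fin 2) (Fin 2) (ZMod p)).det ≠ 0 := by
    have := (Matrix.isUnit_iff_isUnit_det _).mp g.isUnit
    exact this.ne_zero
  obtain ⟨e, he⟩ := det_surj p hE hcard _ hd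
  have he0 : e ≠ 0 := by
    rintro rfl
    apply hd
    rw [← he]
    simp
  obtain ⟨c, hcC, hce⟩ := hmemC e he0
  have hcg : c⁻¹ * g ∈ H := by
    apply sl2_le H h01 h10
    rw [Units.val_mul, det_mul, ← he, ← hce, ← det_mul, Units.inv_mul, det_one]
  have : g = c * (c⁻¹ * g) := by group
  rw [this]
  exact H.mul_mem (hCH hcC) hcg


end helpers

/-- Let p be a prime and H a subgroup of GL₂(𝔽_p). Then H = GL₂(𝔽_p) if and only if (i) some non-split
Cartan subgroup lies in H, i.e. some subgroup C ≤ H such that C ∪ {0} is a subfield of the matrix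
algebra M₂(𝔽_p) with p² elements, and (ii) p divides the order of H. -/
theorem result (p : ℕ) [Fact p.Prime]
    (H : Subgroup (GL (Fin 2) (ZMod p))) :
    H = ⊤ ↔
      (∃ (C : Subgroup (GL (Fin 2) (ZMod p))) (E : Subring (Matrix (Fin 2) (Fin 2) (ZMod p))),
          C ≤ H ∧ IsField E ∧ Nat.card E = p ^ 2 ∧
            (E : Set (Matrix (Fin 2) (Fin 2) (ZMod p))) =
              insert 0 ((fun g : GL (Fin 2) (ZMod p) => (g : Matrix (Fin 2) (Fin 2) (ZMod p))) ''
                (C : Set (GL (Fin 2) (ZMod p))))) ∧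
        p ∣ Nat.card H := by
  constructor
  · rintro rfl
    exact forward p
  · rintro ⟨⟨C, E, hCH, hE, hcard, hEC⟩, hpH⟩
    exact backward p H C E hCH hE hcard hEC hpH

end Groth.Agent.S15361
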