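import Groth.Statements.S3213
import Mathlib
import Groth.Agent.Lib.Helper24.SigmaLin

set_option autoImplicit false
universe u v
open SGA7II

namespace Groth.Agent.S3213

set_option linter.style.haveILetI false
set_option linter.unusedSectionVars false
set_option linter.unusedVariables false

open Groth.Agent.Lib.helper24.SigmaLinLib Polynomial

section Field

variable (k : Type u) [Field k] [IsSepClosed k] (p : ℕ) [Fact p.Prime] [CharP k p] (r : ℕ)

lemma sigma_iter (n : ℕ) (x : k) : (⇑(iterateFrobenius k p r))^[n] x = x ^ (p ^ r) ^ n := by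
  induction n with
  | zero => simp
  | succ n ih =>
    rw [Function.iterate_succ_apply', ih, iterateFrobenius_def, ← pow_mul, pow_succ]

lemma one_lt_q (hr : 0 < r) : 1 < p ^ r :=
  Nat.one_lt_pow hr.ne' (Fact.out : p.Prime).one_lt

lemma q_cast (hr : 0 < r) (i : ℕ) : (((p ^ r) ^ (i + 1) : ℕ) : k) = 0 := by
  rw [CharP.cast_eq_zero_iff k p, ← pow_mul]
  exact dvd_pow_self p (Nat.mul_ne_zero hr.ne' (Nat.succ_ne_zero i))

/-- hypothesis (ii) of helper24's theorem: Artin--Schreier type equations are solvable. -/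
lemma h3_sep (hr : 0 < r) : H3 (iterateFrobenius k p r) := by
  intro c
  have hq := one_lt_q p r hr
  set P : k[X] := X ^ (p ^ r) - X + C c with hP
  have hder : derivative P = -1 := by
    rw [hP]
    simp only [derivative_add, derivative_sub, derivative_X_pow, derivative_X, derivative_C, add_zero]
    have : ((p ^ r : ℕ) : k) = 0 := by
      have := q_cast k p r hr 0
      simpa using this
    rw [this, map_zero, zero_mul, zero_sub]
  have hsep : P.Separable := by
    rw [separable_def, hder]
    exact ⟨0, -1, by ring⟩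
  have hdeg : P.degree ≠ 0 := by
    have h1 : (X ^ (p ^ r) - X : k[X]).degree = ((p ^ r : ℕ) : WithBot ℕ) := by
      rw [degree_sub_eq_left_of_degree_lt]
      · exact degree_X_pow _
      · rw [degree_X, degree_X_pow]; exact_mod_cast hq
    have h2 : P.degree = ((p ^ r : ℕ) : WithBot ℕ) := by
      rw [hP, degree_add_eq_left_of_degree_lt, h1]
      rw [h1]
      refine lt_of_le_of_lt degree_C_le ?_
      exact_mod_cast (by omega : 0 < p ^ r)
    rw [h2]
    exact_mod_cast (by omega : p ^ r ≠ 0)
  obtain ⟨y, hy⟩ := IsSepClosed.exists_root P hdeg hsep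
  refine ⟨y, ?_⟩
  rw [IsRoot.def, hP] at hy
  simp only [eval_add, eval_sub, eval_pow, eval_X, eval_C] at hy
  rw [iterateFrobenius_def]
  exact hy

/-- hypothesis (i) of helper24's theorem. -/
lemma h2_sep (hr : 0 < r) : H2 (iterateFrobenius k p r) := by
  intro n b hb
  have hq := one_lt_q p r hr
  set q := p ^ r with hqdef
  set c : Fin (n + 1) → k := fun i => (b (Fin.rev i)) ^ q ^ i.val with hc
  set Q : k[X] := (∑ i : Fin (n + 1), C (c i) * X ^ (q ^ (i.val + 1) - 1)) - 1 with hQ
  have hpos : ∀ i : ℕ, 1 ≤ q ^ (i + 1) - 1 := by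
    intro i
    have : 2 ≤ q ^ (i + 1) := by
      calc 2 ≤ q := hq
        _ = q ^ 1 := (pow_one q).symm
        _ ≤ q ^ (i + 1) := Nat.pow_le_pow_right (by omega) (by omega)
    omega
  have hXQ : X * Q = (∑ i : Fin (n + 1), C (c i) * X ^ (q ^ (i.val + 1))) - X := by
    rw [hQ, mul_sub, mul_one, Finset.mul_sum]
    congr 1
    refine Finset.sum_congr rfl fun i _ => ?_
    have : q ^ (i.val + 1) = (q ^ (i.val + 1) - 1) + 1 := by have := hpos i.val; omega
    conv_rhs => rw [this, pow_succ]
    ring
  have hder : derivative (X * Q) = -1 := by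
    rw [hXQ, derivative_sub, derivative_X, derivative_sum]
    rw [Finset.sum_eq_zero, zero_sub]
    intro i _
    rw [derivative_C_mul, derivative_X_pow, q_cast k p r hr i.val, map_zero, zero_mul, mul_zero]
  have hsepXQ : (X * Q).Separable := by
    rw [separable_def, hder]
    exact ⟨0, -1, by ring⟩
  have hsep : Q.Separable := hsepXQ.of_mul_right
  -- a nonzero coefficient
  obtain ⟨j, hj⟩ : ∃ j : Fin (n + 1), c j ≠ 0 := by
    by_contra hcon
    push Not at hcon
    apply hb
    funext i
    have := hcon (Fin.rev i)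
    rw [hc] at this
    simp only [Fin.rev_rev] at this
    exact pow_eq_zero_iff (pow_ne_zero _ (by omega)) |>.mp this
  have hinj : ∀ i i' : ℕ, q ^ (i + 1) - 1 = q ^ (i' + 1) - 1 → i = i' := by
    intro i i' h
    have h1 := hpos i
    have h2 := hpos i'
    have h3 : q ^ (i + 1) = q ^ (i' + 1) := by omega
    have := Nat.pow_right_injective hq h3
    omega
  have hcoeff : Q.coeff (q ^ (j.val + 1) - 1) = c j := by
    rw [hQ, coeff_sub, finsetSum_coeff, coeff_one, if_neg (by have := hpos j.val; omega), sub_zero]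
    rw [Finset.sum_eq_single j]
    · rw [coeff_C_mul_X_pow, if_pos rfl]
    · intro i _ hij
      rw [coeff_C_mul_X_pow, if_neg]
      intro h
      exact hij (Fin.ext (hinj _ _ h.symm))
    · intro h; exact absurd (Finset.mem_univ j) h
  have hdeg : Q.degree ≠ 0 := by
    intro h0
    have := coeff_eq_zero_of_degree_lt (p := Q) (n := q ^ (j.val + 1) - 1)
      (by rw [h0]; exact_mod_cast (hpos j.val))
    rw [hcoeff] at this
    exact hj this
  obtain ⟨x, hx⟩ := IsSepClosed.exists_root Q hdeg hsep
  rw [IsRoot.def, hQ, eval_sub, eval_one, eval_finsetSum, sub_eq_zero] at hx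
  simp only [eval_mul, eval_C, eval_pow, eval_X] at hx
  have hx0 : x ≠ 0 := by
    intro h0
    rw [h0] at hx
    rw [Finset.sum_eq_zero] at hx
    · exact zero_ne_one hx
    · intro i _
      rw [zero_pow (by have := hpos i.val; omega), mul_zero]
  refine ⟨x, hx0, ?_⟩
  have h1 : x = x * ∑ i : Fin (n + 1), c i * x ^ (q ^ (i.val + 1) - 1) := by rw [hx, mul_one]
  conv_lhs => rw [h1]
  rw [Finset.mul_sum]
  refine Finset.sum_congr rfl fun i _ => ?_
  rw [sigma_iter, sigma_iter, hc]
  have : q ^ (i.val + 1) = (q ^ (i.val + 1) - 1) + 1 := by have := hpos i.val; omega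
  conv_rhs => rw [this, pow_succ]
  ring

end Field

section General

variable {k : Type u} [Field k] {σ : k →+* k}
variable {V : Type v} [AddCommGroup V] [Module k V] [FiniteDimensional k V] (T : V →ₛₗ[σ] V)

theorem tele (w : V) (N : ℕ) :
    (∑ i ∈ Finset.range N, (⇑T)^[i] w) - T (∑ i ∈ Finset.range N, (⇑T)^[i] w) = w - (⇑T)^[N] w := by
  rw [map_sum, ← Finset.sum_sub_distrib]
  have := Finset.sum_range_sub' (fun i => (⇑T)^[i] w) N
  simp only [Function.iterate_succ_apply'] at this
  rw [this, Function.iterate_zero, id_eq]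

theorem span_restrict_stable {m₀ : ℕ} (h : ∀ m, m₀ ≤ m → imgSpan T m = imgSpan T m₀) :
    Submodule.span k (Set.range ⇑(T.restrict (fun x hx => map_mem_stable T h hx))) = ⊤ := by
  rw [eq_top_iff]
  rintro ⟨y, hy⟩ -
  have hy' : y ∈ Submodule.span k (⇑T '' (imgSpan T m₀ : Set V)) := by
    apply imgSpan_succ_le_span_image T m₀
    rw [h (m₀ + 1) (Nat.le_succ _)]
    exact hy
  have hle : Submodule.span k (⇑T '' (imgSpan T m₀ : Set V)) ≤ imgSpan T m₀ := by
    rw [Submodule.span_le]
    rintro _ ⟨x, hx, rfl⟩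
    exact map_mem_stable T h hx
  have key : ∀ z (hz : z ∈ Submodule.span k (⇑T '' (imgSpan T m₀ : Set V)))
      (hz' : z ∈ imgSpan T m₀), (⟨z, hz'⟩ : ↥(imgSpan T m₀)) ∈
        Submodule.span k (Set.range ⇑(T.restrict (fun x hx => map_mem_stable T h hx))) := by
    intro z hz
    induction hz using Submodule.span_induction with
    | mem z hz =>
      intro hz'
      obtain ⟨x, hx, rfl⟩ := hz
      exact Submodule.subset_span ⟨⟨x, hx⟩, rfl⟩
    | zero => intro _; exact Submodule.zero_mem _
    | add a b ha hb iha ihb =>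
      intro hz'
      exact Submodule.add_mem _ (iha (hle ha)) (ihb (hle hb))
    | smul c a ha iha =>
      intro hz'
      exact Submodule.smul_mem _ c (iha (hle ha))
  exact key y hy' hy

/-- surjectivity of `1 - T` without surjectivity of `σ`. -/
theorem general' (h2 : H2 σ) (h3 : H3 σ) : Function.Surjective (fun v : V => v - T v) := by
  obtain ⟨m₀, h⟩ := exists_imgSpan_stable T
  have h1 := span_restrict_stable T h
  obtain ⟨-, hsurjP⟩ := fixed_basis_and_surjective
    (T.restrict (fun x hx => map_mem_stable T h hx)) h1 h2 h3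
  intro u
  have hu : (⇑T)^[m₀] u ∈ imgSpan T m₀ := Submodule.subset_span ⟨u, rfl⟩
  obtain ⟨q', hq'⟩ := hsurjP ⟨_, hu⟩
  have hq'' : (q' : V) - T (q' : V) = (⇑T)^[m₀] u := congrArg Subtype.val hq'
  refine ⟨(∑ i ∈ Finset.range m₀, (⇑T)^[i] u) + (q' : V), ?_⟩
  show (∑ i ∈ Finset.range m₀, (⇑T)^[i] u) + (q' : V) -
    T ((∑ i ∈ Finset.range m₀, (⇑T)^[i] u) + (q' : V)) = u
  rw [map_add]
  have ht := tele T u m₀
  calc (∑ i ∈ Finset.range m₀, (⇑T)^[i] u) + (q' : V) -
        (T (∑ i ∈ Finset.range m₀, (⇑T)^[i] u) + T (q' : V))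
      = ((∑ i ∈ Finset.range m₀, (⇑T)^[i] u) - T (∑ i ∈ Finset.range m₀, (⇑T)^[i] u)) +
        ((q' : V) - T (q' : V)) := by abel
    _ = u := by rw [ht, hq'']; abel

end General

/-- package an additive `q`-linear map as a semilinear map. -/
def mkT {k : Type u} [Field k] (p : ℕ) [Fact p.Prime] [CharP k p] (r : ℕ)
    {V : Type v} [AddCommGroup V] [Module k V] (φ : V →+ V)
    (hφ : ∀ (c : k) (v : V), φ (c • v) = c ^ (p ^ r) • φ v) : V →ₛₗ[iterateFrobenius k p r] V where
  toFun := φ
  map_add' := φ.map_add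
  map_smul' c v := by rw [hφ, iterateFrobenius_def]

theorem main (k : Type u) [Field k] [IsSepClosed k] (p : ℕ) [Fact p.Prime] [CharP k p]
    (r : ℕ) (hr : 0 < r) (V : Type v) [AddCommGroup V] [Module k V] [FiniteDimensional k V] (φ : V →+ V)
    (hφ : ∀ (c : k) (v : V), φ (c • v) = c ^ (p ^ r) • φ v) :
    Function.Surjective (fun v : V => v - φ v) :=
  general' (mkT p r φ hφ) (h2_sep k p r hr) (h3_sep k p r hr)



/-- Let k be a separably closed field of characteristic p > 0, q = p^r (r >= 1), V a finite-dimensional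
k-vector space and phi : V -> V additive with phi(c v) = c^q phi(v). Then the additive map v |-> v -
phi(v) is surjective. -/
theorem result (k : Type u) [Field k] [IsSepClosed k] (p : ℕ) [Fact p.Prime] [CharP k p]
    (r : ℕ) (hr : 0 < r) (V : Type v) [AddCommGroup V] [Module k V] [FiniteDimensional k V] (φ : V →+ V)
    (hφ : ∀ (c : k) (v : V), φ (c • v) = c ^ (p ^ r) • φ v) :
    Function.Surjective (fun v : V => v - φ v) := by
  exact main k p r hr V φ hφ

end Groth.Agent.S3213
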