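import Groth.Statements.S15362
import Mathlib
import Groth.Agent.S3213

set_option autoImplicit false
universe u v w
open CAlg

namespace Groth.Agent.S15362

set_option linter.style.haveILetI false
set_option linter.unusedSectionVars false
set_option linter.unusedVariables false

open Groth.Agent.Lib.helper24.SigmaLinLib Groth.Agent.S3213

theorem main (p : ℕ) [Fact p.Prime]
    (L : Type u) [Field L] [IsAlgClosed L] [CharP L p]
    (R : Type v) [CommRing R] [Algebra L R] [Algebra.IsIntegral L R] [ExpChar R p]
    (M : Type w) [AddCommGroup M] [Module R M] [Module.Finite R M]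
    (φ : M →ₛₗ[frobenius R p] M) :
    Function.Surjective fun m : M => φ m - m := by
  classical
  intro m₀
  letI : Module L M := Module.compHom M (algebraMap L R)
  haveI : IsScalarTower L R M := ⟨fun l r m => by
    change (l • r) • m = algebraMap L R l • (r • m)
    rw [Algebra.smul_def, mul_smul]⟩
  have hLsmul : ∀ (l : L) (m : M), l • m = algebraMap L R l • m := fun l m => rfl
  obtain ⟨S, hS⟩ := (Module.Finite.fg_top : (⊤ : Submodule R M).FG)
  have hcoef : ∀ x : M, ∃ a : M → R, x = ∑ g ∈ S, a g • g := by
    intro x
    have : x ∈ Submodule.span R (S : Set M) := by rw [hS]; trivial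
    obtain ⟨a, ha⟩ := Submodule.mem_span_finset'.mp this
    refine ⟨fun g => if h : g ∈ S then a ⟨g, h⟩ else 0, ?_⟩
    rw [← ha, ← Finset.sum_coe_sort S]
    refine Finset.sum_congr rfl fun g _ => ?_
    beta_reduce
    rw [dif_pos g.2]
  choose A hA using fun g : M => hcoef (φ g)
  obtain ⟨r0, hr0⟩ := hcoef m₀
  set gens : Set R := (Set.image2 A (S : Set M) (S : Set M)) ∪ (r0 '' (S : Set M)) with hgens
  have hgfin : gens.Finite :=
    (Set.Finite.image2 _ S.finite_toSet S.finite_toSet).union (S.finite_toSet.image _)
  set R' := Algebra.adjoin L gens with hR'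
  obtain ⟨B, hB⟩ := fg_adjoin_of_finite hgfin (fun x _ => Algebra.IsIntegral.isIntegral (R := L) x)
  set V : Submodule L M :=
    Submodule.span L (Set.image2 (fun (b : R) (g : M) => b • g) (B : Set R) (S : Set M)) with hVdef
  haveI hVfin : FiniteDimensional L V :=
    FiniteDimensional.span_of_finite L (Set.Finite.image2 _ B.finite_toSet S.finite_toSet)
  have hBR' : ∀ b ∈ B, b ∈ R' := by
    intro b hb
    have : b ∈ Submodule.span L (B : Set R) := Submodule.subset_span hb
    rw [hB] at this
    exact this
  have lemA : ∀ x ∈ R', ∀ g ∈ S, x • g ∈ V := by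
    intro x hx g hg
    have hx' : x ∈ Submodule.span L (B : Set R) := by rw [hB]; exact hx
    clear hx
    induction hx' using Submodule.span_induction with
    | mem b hb => exact Submodule.subset_span ⟨b, hb, g, hg, rfl⟩
    | zero => rw [zero_smul]; exact zero_mem _
    | add a b _ _ ha hb => rw [add_smul]; exact add_mem ha hb
    | smul l a _ ha => rw [smul_assoc]; exact Submodule.smul_mem _ l ha
  have hφV : ∀ v ∈ V, φ v ∈ V := by
    intro v hv
    induction hv using Submodule.span_induction with
    | mem x hx =>
      obtain ⟨b, hb, g, hg, rfl⟩ := hx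
      change φ (b • g) ∈ V
      rw [map_smulₛₗ, frobenius_def, hA g, Finset.smul_sum]
      refine Submodule.sum_mem _ fun g' hg' => ?_
      rw [smul_smul]
      apply lemA _ _ g' hg'
      exact R'.mul_mem (R'.pow_mem (hBR' b hb) p)
        (Algebra.subset_adjoin (Or.inl ⟨g, hg, g', hg', rfl⟩))
    | zero => rw [map_zero]; exact zero_mem _
    | add a b _ _ ha hb => rw [map_add]; exact add_mem ha hb
    | smul l a _ ha =>
      rw [hLsmul, map_smulₛₗ, frobenius_def, ← map_pow, ← hLsmul]
      exact Submodule.smul_mem _ _ ha
  have hm₀ : m₀ ∈ V := by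
    rw [hr0]
    exact Submodule.sum_mem _ fun g hg =>
      lemA _ (Algebra.subset_adjoin (Or.inr ⟨g, hg, rfl⟩)) g hg
  let T : V →ₛₗ[iterateFrobenius L p 1] V :=
    { toFun := fun v => ⟨φ v, hφV v v.2⟩
      map_add' := fun a b => Subtype.ext (by
        change φ ((a : M) + (b : M)) = φ a + φ b
        rw [map_add])
      map_smul' := fun l a => Subtype.ext (by
        change φ (l • (a : M)) = (iterateFrobenius L p 1 l) • φ a
        rw [hLsmul, map_smulₛₗ, frobenius_def, ← map_pow, ← hLsmul, iterateFrobenius_def, pow_one]) }
  obtain ⟨v, hv⟩ := general' T (h2_sep L p 1 one_pos) (h3_sep L p 1 one_pos) ⟨-m₀, neg_mem hm₀⟩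
  refine ⟨v, ?_⟩
  have h1 := congrArg Subtype.val hv
  change (v : M) - φ v = -m₀ at h1
  change φ v - (v : M) = m₀
  rw [← neg_sub, h1, neg_neg]



/-- For an algebraically closed field L of characteristic p > 0, a commutative L-algebra R integral over
L, and a finitely presented R-module M carrying an additive endomorphism φ with φ(r·m) = r^p·φ(m)
for r ∈ R, m ∈ M, the map m ↦ φ(m) − m is onto. (R is taken of exponential characteristic p so that
its Frobenius is a ring endomorphism; for a non-zero L-algebra this is automatic.) -/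
theorem result (p : ℕ) [Fact p.Prime]
    (L : Type u) [Field L] [IsAlgClosed L] [CharP L p]
    (R : Type v) [CommRing R] [Algebra L R] [Algebra.IsIntegral L R] [ExpChar R p]
    (M : Type w) [AddCommGroup M] [Module R M] [Module.FinitePresentation R M]
    (φ : M →ₛₗ[frobenius R p] M) :
    Function.Surjective fun m : M => φ m - m := by
  exact main p L R M φ

end Groth.Agent.S15362
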