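import Groth.Statements.S15363
import Mathlib
import Groth.Agent.Lib.Helper15.SekSuwaAct

set_option autoImplicit false
universe u
open CategoryTheory AlgebraicGeometry
open SekSuwa

namespace Groth.Agent.S15363

theorem key (R : Type u) [CommRing R]
    (p : ℕ) (lam : R) (h : SekSuwa.DivCond lam p)
    (G : Over (Spec (CommRingCat.of R)))
    (f g : G ⟶ SekSuwa.GK R lam p h)
    (hfg : f ≫ SekSuwa.alphaN R lam p h = g ≫ SekSuwa.alphaN R lam p h)
    (B' : CommRingCat.{u}) (j : Spec B' ⟶ G.left) [Flat (j ≫ G.hom)] :
    j ≫ f.left = j ≫ g.left := by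
  -- the structure map
  let ψ : CommRingCat.of R ⟶ B' := Spec.preimage (j ≫ G.hom)
  have hψ : Spec.map ψ = j ≫ G.hom := Spec.map_preimage _
  let _ : Algebra R B' := ψ.hom.toAlgebra
  have hflat : Module.Flat R B' := by
    have h1 : Flat (Spec.map ψ) := by rw [hψ]; infer_instance
    rw [Flat.SpecMap_iff] at h1
    exact h1
  let φf : CommRingCat.of (SekSuwa.AK R lam p h) ⟶ B' := Spec.preimage (j ≫ f.left)
  let φg : CommRingCat.of (SekSuwa.AK R lam p h) ⟶ B' := Spec.preimage (j ≫ g.left)
  have hφf : Spec.map φf = j ≫ f.left := Spec.map_preimage _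
  have hφg : Spec.map φg = j ≫ g.left := Spec.map_preimage _
  have hcf : CommRingCat.ofHom (algebraMap R (SekSuwa.AK R lam p h)) ≫ φf = ψ := by
    apply Spec.map_injective
    rw [Spec.map_comp, hφf, hψ]
    exact (Category.assoc j f.left _).trans (congrArg (j ≫ ·) (Over.w f))
  have hcg : CommRingCat.ofHom (algebraMap R (SekSuwa.AK R lam p h)) ≫ φg = ψ := by
    apply Spec.map_injective
    rw [Spec.map_comp, hφg, hψ]
    exact (Category.assoc j g.left _).trans (congrArg (j ≫ ·) (Over.w g))
  let af : SekSuwa.AK R lam p h →ₐ[R] B' :=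
    { φf.hom with commutes' := fun r => congrArg (fun (k : CommRingCat.of R ⟶ B') => k.hom r) hcf }
  let ag : SekSuwa.AK R lam p h →ₐ[R] B' :=
    { φg.hom with commutes' := fun r => congrArg (fun (k : CommRingCat.of R ⟶ B') => k.hom r) hcg }
  -- the hypothesis
  have h1 : CommRingCat.ofHom (SekSuwa.alphaNHom R lam p h : MonoidAlgebra R (Multiplicative (ZMod p)) →+* SekSuwa.AK R lam p h) ≫ φf =
      CommRingCat.ofHom (SekSuwa.alphaNHom R lam p h : MonoidAlgebra R (Multiplicative (ZMod p)) →+* SekSuwa.AK R lam p h) ≫ φg := by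
    apply Spec.map_injective
    rw [Spec.map_comp, Spec.map_comp, hφf, hφg]
    have h2 : f.left ≫ (SekSuwa.alphaN R lam p h).left = g.left ≫ (SekSuwa.alphaN R lam p h).left :=
      congrArg (fun k => k.left) hfg
    rw [SekSuwa.alphaN, SekSuwa.specHom_left] at h2
    exact (Category.assoc j f.left _).trans ((congrArg (j ≫ ·) h2).trans
      (Category.assoc j g.left _).symm)
  have h3 : af (1 + lam • SekSuwa.AK.t) = ag (1 + lam • SekSuwa.AK.t) := by
    have h4 := congrArg (fun (k : CommRingCat.of _ ⟶ B') =>
      k.hom (MonoidAlgebra.single (Multiplicative.ofAdd (1 : ZMod p)) 1)) h1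
    simp only [CommRingCat.hom_comp, CommRingCat.hom_ofHom, RingHom.comp_apply] at h4
    rw [show ((SekSuwa.alphaNHom R lam p h : MonoidAlgebra R (Multiplicative (ZMod p)) →+* SekSuwa.AK R lam p h)
      (MonoidAlgebra.single (Multiplicative.ofAdd (1 : ZMod p)) 1)) = 1 + lam • SekSuwa.AK.t from
      SekSuwa.alphaNHom_single_one R lam p h] at h4
    exact h4
  have h5 : WithConv.toConv af = WithConv.toConv ag := by
    apply Groth.Agent.Lib.helper15.SekSuwaAct.yc_injective
    · intro d hd
      have h6 := Module.Flat.isSMulRegular_of_nonZeroDivisors (M := B') h.nzd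
      apply h6
      change lam • d = lam • 0
      rw [smul_zero, Algebra.smul_def]
      exact hd
    · exact h3
  have h7 : af = ag := WithConv.toConv_injective h5
  rw [← hφf, ← hφg]
  congr 1
  ext x
  exact congrArg (fun (k : SekSuwa.AK R lam p h →ₐ[R] B') => k x) h7

/-- Let R be an integral domain, p a prime and λ ∈ R a non-zero element with λ^p dividing (1 + λX)^p −
1, so that the congruence group scheme G_λ = Spec R[T]/(P_λ(T)) of level λ and its homomorphism θ_λ
: G_λ → μ_p, X ↦ 1 + λT, are defined. For every scheme G flat over Spec R, composition with θ_λ is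
injective on R-morphisms G → G_λ; in particular θ_λ induces an injective map from the homomorphisms
G → G_λ of a flat R-group scheme G to its homomorphisms G → μ_p. (The published statement is over
the ring of integers of an algebraic closure of a complete discretely valued field of mixed
characteristic, for finite flat commutative group schemes killed by p; the published argument, that
θ_λ is an isomorphism on the generic fibre and G is flat, gives the form stated here.) -/
theorem result (R : Type u) [CommRing R] [IsDomain R]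
    (p : ℕ) [Fact p.Prime] (lam : R) (h : SekSuwa.DivCond lam p)
    (G : Over (Spec (CommRingCat.of R))) [Flat G.hom]
    (f g : G ⟶ SekSuwa.GK R lam p h)
    (hfg : f ≫ SekSuwa.alphaN R lam p h = g ≫ SekSuwa.alphaN R lam p h) : f = g := by
  apply Over.OverMorphism.ext
  refine Scheme.Cover.hom_ext G.left.affineCover _ _ (fun i => ?_)
  rw [← cancel_epi (G.left.affineCover.X i).isoSpec.inv, ← Category.assoc, ← Category.assoc]
  have : Flat (((G.left.affineCover.X i).isoSpec.inv ≫ G.left.affineCover.f i) ≫ G.hom) :=
    inferInstance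
  exact key R p lam h G f g hfg _ _

end Groth.Agent.S15363
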