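import Groth.Statements.S15365
import Mathlib.RingTheory.Smooth.StandardSmoothCotangent
import Mathlib.RingTheory.Etale.Basic
import Mathlib.Algebra.TrivSqZeroExt.Basic
import Mathlib.LinearAlgebra.Matrix.ToLinearEquiv
-- import your own Groth.Agent.* helpers here

set_option autoImplicit false
universe u
open scoped BigOperators
open CAlg

namespace Groth.Agent.S15365

open MvPolynomial

section
variable (p : ℕ) (A : Type u) [CommRing A] [CharP A p] (n : ℕ)
  (h : Matrix (Fin n) (Fin n) A)

/-- the relations -/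
noncomputable def rel (j : Fin n) : MvPolynomial (Fin n) A :=
  (X j : MvPolynomial (Fin n) A) ^ p - ∑ i : Fin n, C (h i j) * X i

lemma pderiv_rel (i j : Fin n) : pderiv i (rel p A n h j) = - C (h i j) := by
  classical
  have hp : (p : MvPolynomial (Fin n) A) = 0 := by
    have : (p : A) = 0 := CharP.cast_eq_zero A p
    rw [← map_natCast (C : A →+* MvPolynomial (Fin n) A), this, map_zero]
  unfold rel
  rw [map_sub, Derivation.leibniz_pow, map_sum]
  rw [nsmul_eq_mul, hp, zero_mul, zero_sub]
  congr 1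
  rw [Finset.sum_eq_single i]
  · rw [Derivation.leibniz, pderiv_C, pderiv_X_self]
    simp
  · intro l _ hl
    rw [Derivation.leibniz, pderiv_C, pderiv_X_of_ne hl]
    simp
  · intro hi; exact absurd (Finset.mem_univ i) hi

/-- the presubmersive presentation -/
noncomputable def pre : Algebra.PreSubmersivePresentation A
    (MvPolynomial (Fin n) A ⧸ Ideal.span (Set.range (rel p A n h))) (Fin n) (Fin n) :=
  { toPresentation := Algebra.Presentation.naive (v := rel p A n h)
    map := id
    map_inj := Function.injective_id }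

lemma jacobian_pre : (pre p A n h).jacobian =
    algebraMap A _ ((-h).det) := by
  classical
  rw [Algebra.PreSubmersivePresentation.jacobian_eq_jacobiMatrix_det]
  have h1 : (pre p A n h).jacobiMatrix = (C : A →+* MvPolynomial (Fin n) A).mapMatrix (-h) := by
    refine Matrix.ext fun i j => ?_
    rw [Algebra.PreSubmersivePresentation.jacobiMatrix_apply]
    change pderiv i (rel p A n h j) = _
    rw [pderiv_rel]
    simp
  rw [h1, ← RingHom.map_det]
  change algebraMap (MvPolynomial (Fin n) A) _ (C _) = _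
  rw [IsScalarTower.algebraMap_apply A (MvPolynomial (Fin n) A)
    (MvPolynomial (Fin n) A ⧸ Ideal.span (Set.range (rel p A n h)))]
  rfl

lemma etale_of_isUnit (hu : IsUnit h.det) :
    Algebra.Etale A (MvPolynomial (Fin n) A ⧸ Ideal.span (Set.range (rel p A n h))) := by
  let P : Algebra.SubmersivePresentation A
      (MvPolynomial (Fin n) A ⧸ Ideal.span (Set.range (rel p A n h))) (Fin n) (Fin n) :=
    { toPreSubmersivePresentation := pre p A n h
      jacobian_isUnit := by
        rw [jacobian_pre, Matrix.det_neg]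
        refine IsUnit.map _ (IsUnit.mul ?_ hu)
        exact (IsUnit.neg isUnit_one).pow _ }
  have : Algebra.IsStandardSmoothOfRelativeDimension 0 A
      (MvPolynomial (Fin n) A ⧸ Ideal.span (Set.range (rel p A n h))) :=
    P.isStandardSmoothOfRelativeDimension (by simp [Algebra.Presentation.dimension])
  infer_instance

end

section Dual
variable {A : Type u} [CommRing A] (m : Ideal A) (n p : ℕ) (hp : 2 ≤ p)
  (h : Matrix (Fin n) (Fin n) A)

/-- the map to the dual numbers -/
noncomputable def G₀ (w : Fin n → A ⧸ m) :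
    MvPolynomial (Fin n) A →ₐ[A] TrivSqZeroExt (A ⧸ m) (A ⧸ m) :=
  aeval (fun i => TrivSqZeroExt.inr (w i))

include hp in
lemma G₀_rel (w : Fin n → A ⧸ m)
    (hw : ∀ j, ∑ i, w i * Ideal.Quotient.mk m (h i j) = 0) (j : Fin n) :
    G₀ m n w (rel p A n h j) = 0 := by
  unfold rel G₀
  rw [map_sub, map_pow, aeval_X, map_sum]
  have h1 : (TrivSqZeroExt.inr (w j) : TrivSqZeroExt (A ⧸ m) (A ⧸ m)) ^ p = 0 := by
    obtain ⟨q, rfl⟩ := Nat.exists_eq_add_of_le hp
    rw [pow_add, pow_two, TrivSqZeroExt.inr_mul_inr, zero_mul]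
  rw [h1, zero_sub, neg_eq_zero]
  have h2 : ∀ i, aeval (fun i => (TrivSqZeroExt.inr (w i) : TrivSqZeroExt (A ⧸ m) (A ⧸ m)))
      (C (h i j) * X i) = TrivSqZeroExt.inr (w i * Ideal.Quotient.mk m (h i j)) := by
    intro i
    rw [map_mul, aeval_C, aeval_X, TrivSqZeroExt.algebraMap_eq_inl', TrivSqZeroExt.inl_mul_inr]
    congr 1
    rw [mul_comm]; rfl
  simp_rw [h2]
  rw [← TrivSqZeroExt.inr_sum, hw j, TrivSqZeroExt.inr_zero]

include hp in
lemma G₀_mem (w : Fin n → A ⧸ m)
    (hw : ∀ j, ∑ i, w i * Ideal.Quotient.mk m (h i j) = 0) :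
    ∀ a ∈ Ideal.span (Set.range (rel p A n h)), G₀ m n w a = 0 := by
  intro a ha
  have : Ideal.span (Set.range (rel p A n h)) ≤ RingHom.ker (G₀ m n w).toRingHom := by
    rw [Ideal.span_le]
    rintro _ ⟨j, rfl⟩
    exact G₀_rel m n p hp h w hw j
  exact this ha

end Dual

lemma isUnit_of_unramified (p : ℕ) (hp : 2 ≤ p) (A : Type u) [CommRing A] (n : ℕ)
    (h : Matrix (Fin n) (Fin n) A)
    [Algebra.FormallyUnramified A
      (MvPolynomial (Fin n) A ⧸ Ideal.span (Set.range (rel p A n h)))] : IsUnit h.det := by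
  classical
  by_contra hu
  obtain ⟨m, hm, hmem⟩ := exists_max_ideal_of_mem_nonunits hu
  letI : Field (A ⧸ m) := Ideal.Quotient.field m
  let hbar : Matrix (Fin n) (Fin n) (A ⧸ m) := (Ideal.Quotient.mk m).mapMatrix h
  have hdet : hbar.det = 0 := by
    rw [← RingHom.map_det]
    exact Ideal.Quotient.eq_zero_iff_mem.mpr hmem
  obtain ⟨v, hv, hvh⟩ := Matrix.exists_vecMul_eq_zero_iff.mpr hdet
  have hw : ∀ j, ∑ i, v i * Ideal.Quotient.mk m (h i j) = 0 := by
    intro j
    have := congrFun hvh j
    simpa [Matrix.vecMul, dotProduct, hbar] using this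
  have hw0 : ∀ j, ∑ i, (0 : Fin n → A ⧸ m) i * Ideal.Quotient.mk m (h i j) = 0 := by
    intro j; simp
  let g₁ := Ideal.Quotient.liftₐ (Ideal.span (Set.range (rel p A n h))) (G₀ m n v)
    (G₀_mem m n p hp h v hw)
  let g₂ := Ideal.Quotient.liftₐ (Ideal.span (Set.range (rel p A n h))) (G₀ m n 0)
    (G₀_mem m n p hp h 0 hw0)
  have hnil : IsNilpotent (RingHom.ker
      ((TrivSqZeroExt.fstHom A (A ⧸ m) (A ⧸ m)) : TrivSqZeroExt (A ⧸ m) (A ⧸ m) →+* A ⧸ m)) := by
    refine ⟨2, ?_⟩
    have h2 := pow_two (RingHom.ker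
      ((TrivSqZeroExt.fstHom A (A ⧸ m) (A ⧸ m)) : TrivSqZeroExt (A ⧸ m) (A ⧸ m) →+* A ⧸ m))
    rw [h2, Ideal.zero_eq_bot, eq_bot_iff, Ideal.mul_le]
    intro x hx y hy
    rw [RingHom.mem_ker] at hx hy
    change x.fst = 0 at hx
    change y.fst = 0 at hy
    rw [Ideal.mem_bot]
    ext
    · simp [hx]
    · simp [hx, hy]
  have heq : g₁ = g₂ := by
    refine Algebra.FormallyUnramified.ext' _ hnil g₁ g₂ fun x => ?_
    obtain ⟨x, rfl⟩ := Ideal.Quotient.mk_surjective x
    change TrivSqZeroExt.fst (G₀ m n v x) = TrivSqZeroExt.fst (G₀ m n 0 x)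
    induction x using MvPolynomial.induction_on with
    | C a => simp [G₀]
    | add a b ha hb => rw [map_add, map_add, TrivSqZeroExt.fst_add, TrivSqZeroExt.fst_add, ha, hb]
    | mul_X a i ha =>
      rw [map_mul, map_mul, TrivSqZeroExt.fst_mul, TrivSqZeroExt.fst_mul, ha]
      simp [G₀]
  apply hv
  funext i
  have h1 := AlgHom.congr_fun heq (Ideal.Quotient.mk _ (X i))
  change G₀ m n v (X i) = G₀ m n 0 (X i) at h1
  simp only [G₀, aeval_X, Pi.zero_apply] at h1
  exact TrivSqZeroExt.inr_injective h1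


/-- Let A be a commutative ring of characteristic p > 0 and (h_{ij})_{1 ≤ i,j ≤ n} a square matrix over
A, the matrix of a commutative p-Lie algebra (L, φ) with L free with basis e_1, …, e_n and φ(e_j) =
Σ_i h_{ij} e_i. The associated finite group scheme Spec A[X_1, …, X_n]/(X_j^p − Σ_i h_{ij} X_i)_{1 ≤
j ≤ n} is étale over A if and only if the matrix (h_{ij}) is invertible, i.e. its determinant is a
unit of A. Only the algebra structure enters this assertion. -/
theorem result (p : ℕ) [Fact p.Prime]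
    (A : Type u) [CommRing A] [CharP A p] (n : ℕ) (h : Matrix (Fin n) (Fin n) A) :
    Algebra.Etale A (MvPolynomial (Fin n) A ⧸ Ideal.span (Set.range fun j : Fin n =>
        (MvPolynomial.X j : MvPolynomial (Fin n) A) ^ p -
          ∑ i : Fin n, MvPolynomial.C (h i j) * MvPolynomial.X i)) ↔
      IsUnit h.det := by
  constructor
  · intro he
    have h1 : Algebra.FormallyUnramified A
        (MvPolynomial (Fin n) A ⧸ Ideal.span (Set.range fun j : Fin n =>
          (MvPolynomial.X j : MvPolynomial (Fin n) A) ^ p -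
            ∑ i : Fin n, MvPolynomial.C (h i j) * MvPolynomial.X i)) :=
      inferInstance
    exact @isUnit_of_unramified p (Fact.out : p.Prime).two_le A _ n h h1
  · intro hu
    exact etale_of_isUnit p A n h hu

end Groth.Agent.S15365
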