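import Groth.Statements.S15366
import Mathlib

set_option autoImplicit false
universe u
open CAlg

namespace Groth.Agent.S15366


open IsLocalRing

noncomputable section Constr

variable (k : Type u) [Field k]

abbrev D : Type u := MvPowerSeries (Fin 1) k

instance : IsDomain (D k) := NoZeroDivisors.to_isDomain _

abbrev K : Type u := AlgebraicClosure (FractionRing (D k))

def ι : D k →+* K k :=
  (algebraMap (FractionRing (D k)) (K k)).comp (algebraMap (D k) (FractionRing (D k)))

theorem ι_inj : Function.Injective (ι k) :=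
  (algebraMap (FractionRing (D k)) (K k)).injective.comp
    (IsFractionRing.injective (D k) (FractionRing (D k)))

def AA : Type u := PowerSeries (K k)

instance : CommRing (AA k) := inferInstanceAs (CommRing (PowerSeries (K k)))
instance : IsDomain (AA k) := inferInstanceAs (IsDomain (PowerSeries (K k)))
instance : IsDiscreteValuationRing (AA k) :=
  inferInstanceAs (IsDiscreteValuationRing (PowerSeries (K k)))

def Φ : MvPowerSeries (Fin 2) k →+* AA k :=
  (PowerSeries.map (ι k)).comp (MvPowerSeries.finSuccEquiv k 1 : MvPowerSeries (Fin 2) k →+* _)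

theorem Φ_apply (f : MvPowerSeries (Fin 2) k) :
    Φ k f = PowerSeries.map (ι k) (MvPowerSeries.finSuccEquiv k 1 f) := rfl

instance algA : Algebra k (AA k) :=
  ((Φ k).comp (algebraMap k (MvPowerSeries (Fin 2) k))).toAlgebra

def ΦAlg : MvPowerSeries (Fin 2) k →ₐ[k] AA k :=
  { Φ k with commutes' := fun _ => rfl }

theorem ΦAlg_apply (f : MvPowerSeries (Fin 2) k) : ΦAlg k f = Φ k f := rfl

theorem Φ_X0 : Φ k (MvPowerSeries.X 0) = (PowerSeries.X : PowerSeries (K k)) := by
  rw [Φ_apply, MvPowerSeries.finSuccEquiv_X_zero, PowerSeries.map_X]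

theorem map_ι_inj : Function.Injective (PowerSeries.map (ι k)) := by
  intro a b hab
  refine PowerSeries.ext fun n => ?_
  have h := congrArg (PowerSeries.coeff n) hab
  rw [PowerSeries.coeff_map, PowerSeries.coeff_map] at h
  exact ι_inj k h

theorem Φ_inj : Function.Injective (Φ k) := by
  intro a b hab
  rw [Φ_apply, Φ_apply] at hab
  exact (MvPowerSeries.finSuccEquiv k 1).injective (map_ι_inj k hab)

theorem mem_iff (f : MvPowerSeries (Fin 2) k) :
    f ∈ Ideal.span {(MvPowerSeries.X 0 : MvPowerSeries (Fin 2) k)} ↔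
      PowerSeries.constantCoeff (MvPowerSeries.finSuccEquiv k 1 f) = 0 := by
  rw [Ideal.mem_span_singleton, ← PowerSeries.X_dvd_iff]
  constructor
  · rintro ⟨g, rfl⟩
    rw [map_mul, MvPowerSeries.finSuccEquiv_X_zero]
    exact dvd_mul_right _ _
  · rintro ⟨h, hh⟩
    refine ⟨(MvPowerSeries.finSuccEquiv k 1).symm h, ?_⟩
    apply (MvPowerSeries.finSuccEquiv k 1).injective
    rw [map_mul, MvPowerSeries.finSuccEquiv_X_zero, AlgEquiv.apply_symm_apply, hh]

theorem isUnit_Φ_iff (f : MvPowerSeries (Fin 2) k) :
    IsUnit (Φ k f) ↔ f ∉ Ideal.span {(MvPowerSeries.X 0 : MvPowerSeries (Fin 2) k)} := by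
  rw [mem_iff, Φ_apply]
  have h1 : IsUnit (PowerSeries.map (ι k) (MvPowerSeries.finSuccEquiv k 1 f)) ↔
      IsUnit (PowerSeries.constantCoeff
        (PowerSeries.map (ι k) (MvPowerSeries.finSuccEquiv k 1 f))) :=
    PowerSeries.isUnit_iff_constantCoeff
  have h2 : PowerSeries.constantCoeff
      (PowerSeries.map (ι k) (MvPowerSeries.finSuccEquiv k 1 f))
      = ι k (PowerSeries.constantCoeff (MvPowerSeries.finSuccEquiv k 1 f)) := by
    rw [← PowerSeries.coeff_zero_eq_constantCoeff_apply, PowerSeries.coeff_map,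
      PowerSeries.coeff_zero_eq_constantCoeff_apply]
  show IsUnit (PowerSeries.map (ι k) (MvPowerSeries.finSuccEquiv k 1 f)) ↔ _
  rw [h1, h2, isUnit_iff_ne_zero, Ne, map_eq_zero_iff (ι k) (ι_inj k)]

end Constr

theorem main
    (p : ℕ) [Fact p.Prime] (k : Type u) [Field k] [IsAlgClosed k] [CharP k p]
    (P : Ideal (MvPowerSeries (Fin 2) k))
    (hP : P = Ideal.span {(MvPowerSeries.X 0 : MvPowerSeries (Fin 2) k)}) [P.IsPrime] :
    ∃ (A : Type u) (_ : CommRing A) (_ : IsDomain A) (_ : IsDiscreteValuationRing A) (_ : Algebra k A)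
      (φ : Localization.AtPrime P →ₐ[k] A),
      IsAdicComplete (IsLocalRing.maximalIdeal A) A ∧ IsAlgClosed (IsLocalRing.ResidueField A) ∧
        Function.Injective φ ∧ IsLocalHom φ.toRingHom ∧
          Irreducible (φ (algebraMap (MvPowerSeries (Fin 2) k) (Localization.AtPrime P)
            (MvPowerSeries.X 0))) := by
  have hunit : ∀ y : P.primeCompl, IsUnit (ΦAlg k (y : MvPowerSeries (Fin 2) k)) := by
    intro y
    rw [ΦAlg_apply, isUnit_Φ_iff, ← hP]
    exact y.2
  let φ : Localization.AtPrime P →ₐ[k] AA k := IsLocalization.liftAlgHom (M := P.primeCompl) hunit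
  have hφ : ∀ f, φ (algebraMap _ _ f) = Φ k f := fun f => by
    show IsLocalization.lift hunit (algebraMap _ _ f) = Φ k f
    rw [IsLocalization.lift_eq]; rfl
  have hmk : ∀ (f : MvPowerSeries (Fin 2) k) (s : P.primeCompl),
      φ (IsLocalization.mk' _ f s) * Φ k s = Φ k f := by
    intro f s
    rw [← hφ, ← hφ, ← map_mul, IsLocalization.mk'_spec]
  refine ⟨AA k, inferInstance, inferInstance, inferInstance, algA k, φ, ?_, ?_, ?_, ?_, ?_⟩
  · show IsAdicComplete (maximalIdeal (PowerSeries (K k))) (PowerSeries (K k))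
    rw [PowerSeries.maximalIdeal_eq_span_X]
    infer_instance
  · exact IsAlgClosed.of_ringEquiv (K k) _
      (PowerSeries.residueFieldOfPowerSeries (k := K k)).symm
  · rw [injective_iff_map_eq_zero]
    intro x hx
    obtain ⟨f, s, rfl⟩ := IsLocalization.exists_mk'_eq P.primeCompl x
    have h1 := hmk f s
    rw [hx, zero_mul] at h1
    have h2 : f = 0 := Φ_inj k (by rw [← h1, map_zero])
    rw [h2, IsLocalization.mk'_zero]
  · refine ⟨fun x hx => ?_⟩
    obtain ⟨f, s, rfl⟩ := IsLocalization.exists_mk'_eq P.primeCompl x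
    have hx' : IsUnit (φ (IsLocalization.mk' _ f s)) := hx
    have hs : IsUnit (Φ k s) := hunit s
    have h1 : IsUnit (Φ k f) := by rw [← hmk f s]; exact hx'.mul hs
    rw [isUnit_Φ_iff, ← hP] at h1
    exact (IsLocalization.AtPrime.isUnit_mk'_iff _ P f s).2 h1
  · rw [hφ, Φ_X0]
    exact PowerSeries.X_prime.irreducible


/-- Let k be an algebraically closed field of characteristic p > 0, R = k[[t₁, t₂]], and O = R_{(t₁)}
the local ring of Spec R at the generic point x of the divisor t₁ = 0 (a discrete valuation ring,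
with uniformizer t₁ and residue field k((t₂))). Then O embeds, by an injective local k-algebra map
φ, into some complete discrete valuation ring A containing k whose residue field is algebraically
closed and in which φ(t₁) is still a uniformizer. The prime ideal (t₁) is passed as an ideal P equal
to it together with its primality. -/
theorem result
    (p : ℕ) [Fact p.Prime] (k : Type u) [Field k] [IsAlgClosed k] [CharP k p]
    (P : Ideal (MvPowerSeries (Fin 2) k))
    (hP : P = Ideal.span {(MvPowerSeries.X 0 : MvPowerSeries (Fin 2) k)}) [P.IsPrime] :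
    ∃ (A : Type u) (_ : CommRing A) (_ : IsDomain A) (_ : IsDiscreteValuationRing A) (_ : Algebra k A)
      (φ : Localization.AtPrime P →ₐ[k] A),
      IsAdicComplete (IsLocalRing.maximalIdeal A) A ∧ IsAlgClosed (IsLocalRing.ResidueField A) ∧
        Function.Injective φ ∧ IsLocalHom φ.toRingHom ∧
          Irreducible (φ (algebraMap (MvPowerSeries (Fin 2) k) (Localization.AtPrime P)
            (MvPowerSeries.X 0))) := by
  exact main p k P hP


end Groth.Agent.S15366
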