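import Groth.Statements.S15367
import Mathlib

set_option autoImplicit false
universe u v
open TensorProduct
open CAlg

namespace Groth.Agent.S15367

section helpers

section helpers
variable {R : Type u} [CommRing R] [IsDomain R]

/-- multiplication by `c`: `R/(a) → R/(b)` where `b = a*c`. -/
noncomputable def mulC (a c b : R) (hb : b = a * c) : (R ⧸ Ideal.span {a}) →ₗ[R] (R ⧸ Ideal.span {b}) :=
  Submodule.liftQ (Ideal.span {a}) ((Ideal.span {b}).mkQ ∘ₗ (LinearMap.lsmul R R c)) (by
    show Submodule.span R {a} ≤ _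
    rw [Submodule.span_le]
    rintro x hx
    rw [Set.mem_singleton_iff] at hx
    subst hx
    simp only [SetLike.mem_coe, LinearMap.mem_ker, LinearMap.comp_apply, LinearMap.lsmul_apply,
      Submodule.mkQ_apply]
    rw [Submodule.Quotient.mk_eq_zero]
    rw [hb]
    exact Ideal.mem_span_singleton.mpr ⟨1, by simp [mul_comm]⟩)

lemma mulC_mk (a c b : R) (hb : b = a * c) (x : R) :
    mulC a c b hb (Ideal.Quotient.mk _ x) = Ideal.Quotient.mk _ (c * x) := rfl

noncomputable def psi (a c b : R) (hb : b = a * c) :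
    (R ⧸ Ideal.span {a}) →ₗ[R] ((R ⧸ Ideal.span {a}) →ₗ[R] (R ⧸ Ideal.span {b})) :=
  Submodule.liftQ (Ideal.span {a}) (LinearMap.toSpanSingleton R _ (mulC a c b hb)) (by
    show Submodule.span R {a} ≤ _
    rw [Submodule.span_le]
    rintro x hx
    rw [Set.mem_singleton_iff] at hx
    subst hx
    simp only [SetLike.mem_coe, LinearMap.mem_ker, LinearMap.toSpanSingleton_apply]
    apply LinearMap.ext
    intro y
    obtain ⟨y, rfl⟩ := Ideal.Quotient.mk_surjective y
    rw [LinearMap.smul_apply, mulC_mk, LinearMap.zero_apply, Algebra.smul_def,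
      Ideal.Quotient.algebraMap_eq, ← map_mul, Ideal.Quotient.eq_zero_iff_mem, hb]
    exact Ideal.mem_span_singleton.mpr ⟨y, by ring⟩)

lemma psi_mk (a c b : R) (hb : b = a * c) (r x : R) :
    psi a c b hb (Ideal.Quotient.mk _ r) (Ideal.Quotient.mk _ x) =
      Ideal.Quotient.mk _ (r * c * x) := by
  show (r • mulC a c b hb) (Ideal.Quotient.mk _ x) = _
  rw [LinearMap.smul_apply, mulC_mk, Algebra.smul_def, Ideal.Quotient.algebraMap_eq, ← map_mul,
    mul_assoc]

lemma psi_bijective (a c b : R) (hb : b = a * c) (ha : a ≠ 0) (hc : c ≠ 0) :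
    Function.Bijective (psi a c b hb) := by
  constructor
  · rw [← LinearMap.ker_eq_bot, eq_bot_iff]
    intro r hr
    obtain ⟨r, rfl⟩ := Ideal.Quotient.mk_surjective r
    rw [LinearMap.mem_ker] at hr
    have h1 := congrArg (fun φ => φ (Ideal.Quotient.mk _ 1)) hr
    simp only [psi_mk, LinearMap.zero_apply, mul_one] at h1
    rw [Ideal.Quotient.eq_zero_iff_mem, hb, Ideal.mem_span_singleton] at h1
    obtain ⟨s, hs⟩ := h1
    have : r = a * s := by
      apply mul_right_cancel₀ hc
      rw [hs]; ring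
    rw [Submodule.mem_bot, Ideal.Quotient.eq_zero_iff_mem, this]
    exact Ideal.mem_span_singleton.mpr ⟨s, rfl⟩
  · intro φ
    obtain ⟨y, hy⟩ := Ideal.Quotient.mk_surjective (φ (Ideal.Quotient.mk _ 1))
    have h1 : a • φ (Ideal.Quotient.mk _ 1) = 0 := by
      rw [← map_smul]
      have : a • (Ideal.Quotient.mk (Ideal.span {a}) 1) = 0 := by
        rw [Algebra.smul_def, Ideal.Quotient.algebraMap_eq, ← map_mul,
          Ideal.Quotient.eq_zero_iff_mem]
        exact Ideal.mem_span_singleton.mpr ⟨1, rfl⟩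
      rw [this, map_zero]
    rw [← hy, Algebra.smul_def, Ideal.Quotient.algebraMap_eq, ← map_mul,
      Ideal.Quotient.eq_zero_iff_mem, hb, Ideal.mem_span_singleton] at h1
    obtain ⟨z, hz⟩ := h1
    have hyz : y = c * z := by
      apply mul_left_cancel₀ ha
      rw [hz]; ring
    refine ⟨Ideal.Quotient.mk _ z, ?_⟩
    apply LinearMap.ext
    intro x
    obtain ⟨x, rfl⟩ := Ideal.Quotient.mk_surjective x
    rw [psi_mk]
    have : (Ideal.Quotient.mk (Ideal.span {a}) x) = x • Ideal.Quotient.mk _ 1 := by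
      rw [Algebra.smul_def, Ideal.Quotient.algebraMap_eq, ← map_mul, mul_one]
    rw [this, map_smul, ← hy, Algebra.smul_def, Ideal.Quotient.algebraMap_eq, ← map_mul, hyz]
    congr 1
    ring

end helpers


end helpers

/-- Let R be a discrete valuation ring with uniformizer π and residue field k, n ≥ 0, and M₀ a finitely
generated module over R/πⁿR, viewed as an R-module killed by πⁿ; put M₀* = Hom_R(M₀, R/πⁿR). Then
dim_k(M₀*/πM₀*) = dim_k(M₀/πM₀). The published lemma is stated for a finitely presented module over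
the quotient of the ring of integers of an algebraic closure of K by the elements of valuation ≥ t,
with its dual into that quotient ring, and the published proof reduces it by descent to exactly this
statement over the valuation ring of a finite extension of K; the row states that step. -/
theorem result
    (R : Type u) [CommRing R] [IsDomain R] [IsDiscreteValuationRing R] (ϖ : R) (hϖ : Irreducible ϖ) (n : ℕ)
    (M : Type v) [AddCommGroup M] [Module R M] [Module.Finite R M] (hM : ∀ m : M, ϖ ^ n • m = 0) :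
    Module.finrank (IsLocalRing.ResidueField R)
        (IsLocalRing.ResidueField R ⊗[R] (M →ₗ[R] (R ⧸ Ideal.span {ϖ ^ n}))) =
      Module.finrank (IsLocalRing.ResidueField R) (IsLocalRing.ResidueField R ⊗[R] M) := by
  classical
  have hb0 : ϖ ^ n ≠ 0 := pow_ne_zero _ hϖ.ne_zero
  have htors : Module.IsTorsion R M := by
    intro x
    exact ⟨⟨ϖ ^ n, mem_nonZeroDivisors_of_ne_zero hb0⟩, hM x⟩
  obtain ⟨ι, _, p, hp, e, ⟨E⟩⟩ := Module.equiv_directSum_of_isTorsion htors
  let Q : ι → Type u := fun i => R ⧸ Ideal.span {p i ^ e i}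
  let E' : M ≃ₗ[R] (∀ i, Q i) := E.trans (DirectSum.linearEquivFunOnFintype R ι _)
  -- each `p i ^ e i` divides `ϖ ^ n`
  have hdvd : ∀ i, ∃ c, ϖ ^ n = p i ^ e i * c := by
    intro i
    have h1 : ϖ ^ n • (E'.symm (Pi.single i (Ideal.Quotient.mk _ 1))) = 0 := hM _
    rw [← map_smul, LinearEquiv.map_eq_zero_iff] at h1
    have h2 := congrFun h1 i
    simp only [Pi.smul_apply, Pi.single_eq_same, Pi.zero_apply] at h2
    rw [Algebra.smul_def, Ideal.Quotient.algebraMap_eq, ← map_mul,
      Ideal.Quotient.eq_zero_iff_mem, Ideal.mem_span_singleton] at h2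
    obtain ⟨c, hc⟩ := h2
    exact ⟨c, by simpa using hc⟩
  choose c hc using hdvd
  have hc0 : ∀ i, c i ≠ 0 := by
    intro i h
    apply hb0
    rw [hc i, h, mul_zero]
  have ha0 : ∀ i, p i ^ e i ≠ 0 := fun i => pow_ne_zero _ (hp i).ne_zero
  let T := R ⧸ Ideal.span {ϖ ^ n}
  let F : ∀ i, (Q i) ≃ₗ[R] (Q i →ₗ[R] T) := fun i =>
    LinearEquiv.ofBijective (psi (p i ^ e i) (c i) (ϖ ^ n) (hc i))
      (psi_bijective _ _ _ (hc i) (ha0 i) (hc0 i))
  let G : (M →ₗ[R] T) ≃ₗ[R] M :=
    (LinearEquiv.arrowCongr E' (LinearEquiv.refl R T)).trans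
      ((LinearMap.lsum R Q R).symm.trans
        ((LinearEquiv.piCongrRight F).symm.trans E'.symm))
  exact (G.baseChange R (IsLocalRing.ResidueField R) _ _).finrank_eq

end Groth.Agent.S15367
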