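import Groth.Statements.S15368
import Mathlib

set_option autoImplicit false
universe u v
open TensorProduct
open CAlg

namespace Groth.Agent.S15368



/-- Let R be a discrete valuation ring with uniformizer π and residue field k, n ≥ 0, M₀ a finitely
generated R-module killed by πⁿ and N₀ a submodule of M₀. Then dim_k(N₀/πN₀) ≤ dim_k(M₀/πM₀). The
published lemma is stated for a finitely presented submodule N of a finitely presented module M over
the quotient of the ring of integers of an algebraic closure of K by the elements of valuation ≥ t,
and the published proof reduces it by descent to exactly this statement over the valuation ring of a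
finite extension of K (comparing π-torsion with π-cotorsion by additivity of length); the row states
that step. -/
theorem result
    (R : Type u) [CommRing R] [IsDomain R] [IsDiscreteValuationRing R] (ϖ : R) (hϖ : Irreducible ϖ) (n : ℕ)
    (M : Type v) [AddCommGroup M] [Module R M] [Module.Finite R M] (hM : ∀ m : M, ϖ ^ n • m = 0)
    (N : Submodule R M) :
    Module.finrank (IsLocalRing.ResidueField R) (IsLocalRing.ResidueField R ⊗[R] N) ≤
      Module.finrank (IsLocalRing.ResidueField R) (IsLocalRing.ResidueField R ⊗[R] M) := by
  classical
  let w := Module.finBasis (IsLocalRing.ResidueField R) (IsLocalRing.ResidueField R ⊗[R] M)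
  obtain ⟨v, hv⟩ := (TensorProduct.mk_surjective R M (IsLocalRing.ResidueField R)
    Ideal.Quotient.mk_surjective).comp_left w
  have hspan : Submodule.span R (Set.range v) = ⊤ :=
    IsLocalRing.span_eq_top_of_tmul_eq_basis v w (congr_fun hv)
  let p : (Fin (Module.finrank (IsLocalRing.ResidueField R)
      (IsLocalRing.ResidueField R ⊗[R] M)) → R) →ₗ[R] M := Fintype.linearCombination R v
  have hp : Function.Surjective p := by
    rw [← LinearMap.range_eq_top, Fintype.range_linearCombination, hspan]
  let pN : ↥(N.comap p) →ₗ[R] ↥N := p.restrict (fun x hx => hx)
  have hpN : Function.Surjective pN := by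
    rintro ⟨y, hy⟩
    obtain ⟨x, rfl⟩ := hp y
    exact ⟨⟨x, hy⟩, rfl⟩
  have hsurj : Function.Surjective (pN.baseChange (IsLocalRing.ResidueField R)) :=
    LinearMap.lTensor_surjective (IsLocalRing.ResidueField R) hpN
  have h1 := LinearMap.finrank_le_finrank_of_surjective hsurj
  have h2 : Module.finrank (IsLocalRing.ResidueField R)
      (IsLocalRing.ResidueField R ⊗[R] ↥(N.comap p)) = Module.finrank R ↥(N.comap p) :=
    Module.finrank_baseChange
  have h3 := Submodule.finrank_le (N.comap p)
  have h4 := Module.finrank_fin_fun R (n := Module.finrank (IsLocalRing.ResidueField R)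
      (IsLocalRing.ResidueField R ⊗[R] M))
  omega


end Groth.Agent.S15368
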