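import Groth.Statements.S1539
import Groth.Agent.Lib.Helper3.ResMap
import Groth.Agent.Lib.Helper3.GenericFibre2
import Groth.Agent.Lib.Helper3.CompCard
import Groth.Agent.S1540

set_option autoImplicit false
universe u
open CategoryTheory CategoryTheory.Limits AlgebraicGeometry
open Variety

namespace Groth.Agent.S1539

/-- If X_{k'} is irreducible for every finite separable field extension k' of k, then X is geometrically
irreducible over k. -/
theorem result (k : Type u) [Field k] (X : Scheme.{u}) [X.Over (Spec (CommRingCat.of k))]
    (h : ∀ (k' : Type u) [Field k'] [Algebra k k'] [FiniteDimensional k k'] [Algebra.IsSeparable k k'],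
      IrreducibleSpace (Curv2.bc k X k')) :
    GeometricallyIrreducible (X ↘ (Spec (CommRingCat.of k))) := by
  have hX : IrreducibleSpace X := by
    have h0 := h k
    have hs : Surjective (Curv2.bcFst k X k) :=
      MorphismProperty.pullback_fst (P := @Surjective) _ _
        (Groth.Agent.Lib.helper3.CompCard.surjective_specMap_field k k)
    exact { toPreirreducibleSpace :=
              (Scheme.Hom.surjective (Curv2.bcFst k X k)).preirreducibleSpace
                (Scheme.Hom.continuous _)
            toNonempty := (inferInstance : Nonempty ↥(Curv2.bc k X k)).map (Curv2.bcFst k X k) }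
  refine (Groth.Agent.S1540.result k X).mpr ?_
  let _ := Curv2.resAlgebra k X (genericPoint X)
  have hξ : IsGenericPoint (genericPoint X) Set.univ := genericPoint_spec X
  have hφ := Groth.Agent.Lib.helper3.ResMap.specMap_resMap k X (genericPoint X)
  have h4 : separableClosure k (X.residueField (genericPoint X)) = ⊥ := by
    apply Groth.Agent.Lib.helper3.GenericFibre.separableClosure_eq_bot_of_irr
    intro K _ _ _ _
    have hirr : IrreducibleSpace ↥(pullback (X ↘ (Spec (CommRingCat.of k)))
        (Spec.map (CommRingCat.ofHom (algebraMap k K)))) := h K
    have h1 := Groth.Agent.Lib.helper3.GenericFibre.isIrreducible_preimage_generic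
      (Groth.Agent.Lib.helper3.GeomConnPt.isOpenMap_fst_specMap
        (X ↘ (Spec (CommRingCat.of k))) K) hξ
    exact (Groth.Agent.Lib.helper3.GenericFibre.isIrreducible_preimage_singleton_iff
      (X ↘ (Spec (CommRingCat.of k))) (genericPoint X) _ hφ K).mp h1
  intro a ha
  have hmem : a ∈ separableClosure k (X.residueField (genericPoint X)) :=
    mem_separableClosure_iff.mpr ha
  rw [h4, IntermediateField.mem_bot] at hmem
  exact hmem

end Groth.Agent.S1539
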