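import Groth.Statements.S15391
import Mathlib

set_option autoImplicit false
universe u
open TensorProduct
open TorFree

namespace Groth.Agent.S15391

open TensorProduct in
/-- At a minimal prime of a reduced ring, vanishing in the fibre gives an annihilating element
outside the prime. -/
theorem exists_smul_eq_zero_of_fibre (R : Type u) [CommRing R] [IsReduced R]
    (M : Type u) [AddCommGroup M] [Module R M] (p : Ideal R) [hp : p.IsPrime]
    (hmin : p ∈ minimalPrimes R) (t : M)
    (ht : (1 : p.ResidueField) ⊗ₜ[R] t = (0 : p.ResidueField ⊗[R] M)) :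
    ∃ s : R, s ∉ p ∧ s • t = 0 := by
  have hred : IsReduced (Localization.AtPrime p) := inferInstance
  have hmax : IsLocalRing.maximalIdeal (Localization.AtPrime p) = ⊥ := by
    rw [← IsLocalization.AtPrime.map_eq_maximalIdeal p (Localization.AtPrime p),
      ← IsLocalization.AtPrime.radical_map_of_mem_minimalPrimes (A := Localization.AtPrime p) p ⊥ hmin,
      Ideal.map_bot]
    exact nilradical_eq_zero (Localization.AtPrime p)
  have hbij : Function.Bijective (IsLocalRing.residue (Localization.AtPrime p)) := by
    constructor
    · rw [injective_iff_map_eq_zero]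
      intro x hx
      have : x ∈ IsLocalRing.maximalIdeal (Localization.AtPrime p) := by
        rwa [← IsLocalRing.residue_eq_zero_iff]
      rw [hmax] at this
      exact this
    · exact IsLocalRing.residue_surjective
  let res : Localization.AtPrime p →ₗ[R] p.ResidueField :=
    (IsScalarTower.toAlgHom R (Localization.AtPrime p) p.ResidueField).toLinearMap
  have hres : ∀ x, res x = IsLocalRing.residue (Localization.AtPrime p) x := fun x => rfl
  let e : Localization.AtPrime p ≃ₗ[R] p.ResidueField := LinearEquiv.ofBijective res hbij
  have h1 : e.symm (1 : p.ResidueField) = 1 := by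
    rw [LinearEquiv.symm_apply_eq]
    show (1 : p.ResidueField) = res 1
    rw [hres, map_one]
  have h2 := congrArg (LinearMap.rTensor M e.symm.toLinearMap) ht
  rw [LinearMap.rTensor_tmul, map_zero, LinearEquiv.coe_coe, h1] at h2
  have h3 : TensorProduct.mk R (Localization.AtPrime p) M 1 t = 0 := h2
  rw [IsLocalizedModule.eq_zero_iff p.primeCompl] at h3
  obtain ⟨s, hs⟩ := h3
  exact ⟨s, s.2, hs⟩

/-- Let R be a reduced Noetherian commutative ring, M a finitely generated torsion-free R-module (no
non-zero element of M is annihilated by a non-zero-divisor of R), and t an element of M whose image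
1 ⊗ t in the fibre κ(p) ⊗_R M vanishes for every prime ideal p of R, κ(p) being the residue field at
p. Then t = 0. This is the affine form of the claim that a global section of a coherent torsion-free
module on a reduced Noetherian scheme which vanishes in every fibre is zero. -/
theorem result (R : Type u) [CommRing R] [IsReduced R] [IsNoetherianRing R]
    (M : Type u) [AddCommGroup M] [Module R M] [Module.Finite R M] [Module.IsTorsionFree R M]
    (t : M) (ht : ∀ p : PrimeSpectrum R, (1 : p.asIdeal.ResidueField) ⊗ₜ[R] t = (0 : p.asIdeal.ResidueField ⊗[R] M)) :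
    t = 0 := by
  classical
  by_contra ht0
  let 𝔞 : Ideal R := LinearMap.ker (LinearMap.toSpanSingleton R M t)
  have h𝔞 : ∀ r, r ∈ 𝔞 ↔ r • t = 0 := fun r => by
    simp [𝔞, LinearMap.mem_ker, LinearMap.toSpanSingleton_apply]
  have hfin := minimalPrimes.finite_of_isNoetherianRing R
  have hsub : (𝔞 : Set R) ⊆ ⋃ q ∈ (hfin.toFinset : Set (Ideal R)), ((id q : Ideal R) : Set R) := by
    intro r hr
    by_contra hnot
    simp only [Set.mem_iUnion, not_exists, Finset.mem_coe, Set.Finite.mem_toFinset, id] at hnot
    have hzero : ∀ y : R, r * y = 0 → y = 0 := by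
      intro y hy
      have hy' : y ∈ sInf (minimalPrimes R) := by
        rw [Ideal.mem_sInf]
        intro q hq
        have hqp : q.IsPrime := hq.1.1
        have : r * y ∈ q := by rw [hy]; exact q.zero_mem
        exact (hqp.mem_or_mem this).resolve_left (hnot q hq)
      have hrad : sInf (minimalPrimes R) = nilradical R := Ideal.sInf_minimalPrimes
      rw [hrad, nilradical_eq_zero] at hy'
      exact hy'
    have hreg : IsRegular r := by
      rw [isRegular_iff_eq_zero_of_mul]
      exact ⟨hzero, fun x hx => hzero x (by rw [mul_comm]; exact hx)⟩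
    have hsreg : IsSMulRegular M r := Module.IsTorsionFree.isSMulRegular hreg
    apply ht0
    apply hsreg
    show r • t = r • 0
    rw [(h𝔞 r).mp hr, smul_zero]
  rw [Ideal.subset_union_prime ⊥ ⊥ (fun q hq _ _ => by
    have := (Set.Finite.mem_toFinset hfin).mp hq
    exact this.1.1)] at hsub
  obtain ⟨q, hq, h𝔞q⟩ := hsub
  have hqmin : q ∈ minimalPrimes R := (Set.Finite.mem_toFinset hfin).mp hq
  have hqp : q.IsPrime := hqmin.1.1
  obtain ⟨s, hsq, hst⟩ := exists_smul_eq_zero_of_fibre R M q hqmin t (ht ⟨q, hqp⟩)
  exact hsq (h𝔞q ((h𝔞 s).mpr hst))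

end Groth.Agent.S15391
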