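import Groth.Statements.S15412
import Mathlib
-- import your own Groth.Agent.* helpers here

set_option autoImplicit false
universe w v u
open CategoryTheory Opposite
open Bitors

namespace Groth.Agent.S15412

section helpers

variable {C : Type u} [Category.{v} C] {J : GrothendieckTopology C} {G : Sheaf J GrpCat.{w}}

theorem smul_cancel (P : NonAbH1.GSheaf G) (hP : P.IsPseudoTorsor) {X : Cᵒᵖ} (p : P.P.obj.obj X)
    {g h : G.obj.obj X} (e : P.smul g p = P.smul h p) : g = h := by
  obtain ⟨k, _, hk⟩ := hP X p (P.smul h p)
  exact (hk g e).trans (hk h rfl).symm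

theorem isomFamily_ext {H : Sheaf J GrpCat.{w}} {P : NonAbH1.GSheaf G} (φ φ' : Bitors.IsomFamily P H)
    (h : ∀ (U : Cᵒᵖ) (p : P.P.obj.obj U) (x : H.obj.obj U), φ.φ p x = φ'.φ p x) : φ = φ' := by
  cases φ with | mk a b c =>
  cases φ' with | mk a' b' c' =>
  have : @a = @a' := by
    funext U p
    exact MulEquiv.ext (h U p)
  subst this
  rfl

theorem rightStr_ext {H : Sheaf J GrpCat.{w}} {P : NonAbH1.GSheaf G} (ρ ρ' : Bitors.RightStr P H)
    (h : ∀ (U : Cᵒᵖ) (p : P.P.obj.obj U) (x : H.obj.obj U), ρ.rsmul p x = ρ'.rsmul p x) : ρ = ρ' := by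
  cases ρ with | mk a _ _ _ _ _ =>
  cases ρ' with | mk a' _ _ _ _ _ =>
  have : @a = @a' := by
    funext U p x
    exact h U p x
  subst this
  rfl

variable (H : Sheaf J GrpCat.{w}) (P : NonAbH1.GSheaf G) (hP : P.IsPseudoTorsor)

/-- the family attached to a right structure -/
noncomputable def famOf (ρ : Bitors.RightStr P H) : Bitors.IsomFamily P H where
  φ {U} p :=
    { toFun := fun h => (hP U p (ρ.rsmul p h)).choose
      invFun := fun g => (ρ.existsUnique_rsmul p (P.smul g p)).choose
      left_inv := by
        intro h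
        have h1 := (hP U p (ρ.rsmul p h)).choose_spec.1
        have h2 := (ρ.existsUnique_rsmul p (P.smul (hP U p (ρ.rsmul p h)).choose p)).choose_spec
        exact (h2.2 h h1.symm).symm
      right_inv := by
        intro g
        have h2 := (ρ.existsUnique_rsmul p (P.smul g p)).choose_spec.1
        have h1 := (hP U p (ρ.rsmul p (ρ.existsUnique_rsmul p (P.smul g p)).choose)).choose_spec
        exact (h1.2 g h2.symm).symm
      map_mul' := by
        intro h h'
        have h1 := (hP U p (ρ.rsmul p h)).choose_spec.1
        have h2 := (hP U p (ρ.rsmul p h')).choose_spec.1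
        have h3 := (hP U p (ρ.rsmul p (h * h'))).choose_spec.1
        apply smul_cancel P hP p
        rw [h3, P.mul_smul, h2, ← ρ.smul_rsmul, h1, ρ.rsmul_mul] }
  map_φ {U V} f p h := by
    have h1 := (hP U p (ρ.rsmul p h)).choose_spec.1
    have h2 := (hP V (P.P.obj.map f p) (ρ.rsmul (P.P.obj.map f p) (H.obj.map f h))).choose_spec.1
    apply smul_cancel P hP (P.P.obj.map f p)
    change P.smul (G.obj.map f (hP U p (ρ.rsmul p h)).choose) (P.P.obj.map f p) =
      P.smul (hP V (P.P.obj.map f p) (ρ.rsmul (P.P.obj.map f p) (H.obj.map f h))).choose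
        (P.P.obj.map f p)
    rw [h2, ← P.map_smul, h1, ρ.map_rsmul]
  φ_smul {U} g p h := by
    have h1 := (hP U p (ρ.rsmul p h)).choose_spec.1
    have h2 := (hP U (P.smul g p) (ρ.rsmul (P.smul g p) h)).choose_spec.1
    apply smul_cancel P hP (P.smul g p)
    change P.smul (hP U (P.smul g p) (ρ.rsmul (P.smul g p) h)).choose (P.smul g p) =
      P.smul (g * (hP U p (ρ.rsmul p h)).choose * g⁻¹) (P.smul g p)
    rw [h2, ← P.mul_smul, inv_mul_cancel_right, P.mul_smul, h1, ρ.smul_rsmul]

theorem famOf_spec (ρ : Bitors.RightStr P H) (U : Cᵒᵖ) (p : P.P.obj.obj U) (h : H.obj.obj U) :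
    ρ.rsmul p h = P.smul ((famOf H P hP ρ).φ p h) p :=
  ((hP U p (ρ.rsmul p h)).choose_spec.1).symm

/-- the right structure attached to a family -/
def strOf (φ : Bitors.IsomFamily P H) : Bitors.RightStr P H where
  rsmul {U} p h := P.smul (φ.φ p h) p
  rsmul_one {U} p := by
    rw [map_one, P.one_smul]
  rsmul_mul {U} p h h' := by
    rw [φ.φ_smul, ← P.mul_smul, inv_mul_cancel_right, map_mul]
  map_rsmul {U V} f p h := by
    rw [P.map_smul, φ.map_φ]
  smul_rsmul {U} g p h := by
    rw [φ.φ_smul, ← P.mul_smul, inv_mul_cancel_right, P.mul_smul]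
  existsUnique_rsmul {U} p q := by
    obtain ⟨g, hg, huniq⟩ := hP U p q
    refine ⟨(φ.φ p).symm g, ?_, ?_⟩
    · change P.smul (φ.φ p ((φ.φ p).symm g)) p = q
      rw [MulEquiv.apply_symm_apply, hg]
    · intro h hh
      have := huniq (φ.φ p h) hh
      rw [← this, MulEquiv.symm_apply_apply]

end helpers

/-- On a site, let G and H be sheaves of groups and P a sheaf of sets with a left G-action which is
simply transitive on every set of sections P(U). The right H-actions on P that are compatible with
restriction, commute with the G-action and are simply transitive on every P(U) (for P a G-torsor: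
the structures of (G, H)-bitorsor on P) correspond exactly to the families of group isomorphisms φ_p
: H(U) ≃ G(U), one for each section p of P over each U, compatible with restriction and with φ_{g·p}
= g φ_p g⁻¹ (the equivariant maps from P to the sheaf of isomorphisms from H to G); the
correspondence is the rule p · h = φ_p(h) · p, and the statement is that every right structure
arises by this rule from exactly one family and every family from exactly one right structure. (The
published statement takes P a left G-torsor; only the simple transitivity of the G-action on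
sections enters, so local existence of sections is not assumed.) -/
theorem result
    {C : Type u} [Category.{v} C] {J : GrothendieckTopology C}
    (G H : Sheaf J GrpCat.{w}) (P : NonAbH1.GSheaf G) (hP : P.IsPseudoTorsor) :
    (∀ ρ : Bitors.RightStr P H, ∃! φ : Bitors.IsomFamily P H,
        ∀ (U : Cᵒᵖ) (p : P.P.obj.obj U) (h : H.obj.obj U), ρ.rsmul p h = P.smul (φ.φ p h) p) ∧
    (∀ φ : Bitors.IsomFamily P H, ∃! ρ : Bitors.RightStr P H,
        ∀ (U : Cᵒᵖ) (p : P.P.obj.obj U) (h : H.obj.obj U), ρ.rsmul p h = P.smul (φ.φ p h) p) := by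
  constructor
  · intro ρ
    refine ⟨famOf H P hP ρ, famOf_spec H P hP ρ, ?_⟩
    intro φ' hφ'
    apply isomFamily_ext
    intro U p x
    apply smul_cancel P hP p
    rw [← hφ' U p x, famOf_spec H P hP ρ U p x]
  · intro φ
    refine ⟨strOf H P hP φ, fun U p h => rfl, ?_⟩
    intro ρ' hρ'
    apply rightStr_ext
    intro U p x
    exact hρ' U p x

end Groth.Agent.S15412
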