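import Groth.Statements.S16274
import Mathlib
-- import your own Groth.Agent.* helpers here

set_option autoImplicit false
universe w' w v u
open CategoryTheory
open NonAbH1

namespace Groth.Agent.S16274

section helpers
open Opposite PresheafOfGroups

variable {C : Type u} [Category.{v} C] {J : GrothendieckTopology C} (G : Sheaf J GrpCat.{w})

/-- free group on one generator, in universe `w` -/
abbrev E : GrpCat.{w} := GrpCat.of (FreeGroup PUnit.{w+1})

/-- `Hom(E, H) ≃ H` -/
def eE (H : GrpCat.{w}) : (E ⟶ H) ≃ H where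
  toFun φ := φ.hom (FreeGroup.of PUnit.unit)
  invFun h := GrpCat.ofHom (FreeGroup.lift (fun _ => h))
  left_inv φ := by
    apply GrpCat.hom_ext
    apply FreeGroup.ext_hom
    intro a
    simp
  right_inv h := by simp

theorem isSheafG : Presieve.IsSheaf J (G.obj ⋙ forget GrpCat.{w}) := by
  have h1 : Presieve.IsSheaf J (G.obj ⋙ coyoneda.obj (op E.{w})) := G.property E
  refine Presieve.isSheaf_of_nat_equiv (fun X => eE (G.obj.obj (op X))) ?_ h1
  intro X Y f x
  rfl


variable {G} {I : Type w'} {U : I → C} (γ : OneCocycle G.obj U)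

/-- sections of the twisted torsor over `X` -/
structure BigS (X : C) where
  x : ∀ ⦃T : C⦄ (_ : T ⟶ X) (i : I) (_ : T ⟶ U i), G.obj.obj (op T)
  res : ∀ ⦃T T' : C⦄ (φ : T' ⟶ T) (a : T ⟶ X) (i : I) (b : T ⟶ U i),
    G.obj.map φ.op (x a i b) = x (φ ≫ a) i (φ ≫ b)
  trans : ∀ ⦃T : C⦄ (a : T ⟶ X) (i j : I) (b : T ⟶ U i) (b' : T ⟶ U j),
    x a i b * γ.ev i j b b' = x a j b'

variable {γ}

@[ext]
theorem BigS.ext' {X : C} {p q : BigS γ X}
    (h : ∀ ⦃T : C⦄ (a : T ⟶ X) (i : I) (b : T ⟶ U i), p.x a i b = q.x a i b) : p = q := by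
  cases p; cases q
  congr
  funext T a i b
  exact h a i b

/-- restriction -/
def BigS.restr {X Y : C} (f : Y ⟶ X) (p : BigS γ X) : BigS γ Y where
  x T a i b := p.x (a ≫ f) i b
  res T T' φ a i b := by
    rw [p.res φ (a ≫ f) i b, Category.assoc]
  trans T a i j b b' := p.trans (a ≫ f) i j b b'

/-- action -/
def BigS.smul {X : C} (g : G.obj.obj (op X)) (p : BigS γ X) : BigS γ X where
  x T a i b := G.obj.map a.op g * p.x a i b
  res T T' φ a i b := by
    rw [map_mul, p.res φ a i b]
    congr 1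
    rw [op_comp, Functor.map_comp]
    rfl
  trans T a i j b b' := by
    rw [mul_assoc, p.trans a i j b b']

variable (γ) in
/-- the presheaf -/
def Big : Cᵒᵖ ⥤ Type (max u v w' w) where
  obj X := BigS γ X.unop
  map f := ↾(BigS.restr f.unop)
  map_id X := by
    ext p T a i b
    change p.x (a ≫ 𝟙 _) i b = p.x a i b
    rw [Category.comp_id]
  map_comp f g := by
    ext p T a i b
    change p.x (a ≫ (g.unop ≫ f.unop)) i b = p.x ((a ≫ g.unop) ≫ f.unop) i b
    rw [Category.assoc]

variable (γ) in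
/-- the tautological sections -/
def sec (i : I) : BigS γ (U i) where
  x T a j b := γ.ev i j a b
  res T T' φ a j b := γ.ev_precomp i j φ a b
  trans T a j k b b' := γ.ev_trans i j k a b b'


section Gglue
variable (G)

theorem G_map_comp {T T' T'' : C} (φ : T' ⟶ T) (ψ : T'' ⟶ T') (g : G.obj.obj (op T)) :
    G.obj.map ψ.op (G.obj.map φ.op g) = G.obj.map (ψ ≫ φ).op g := by
  rw [op_comp, Functor.map_comp]
  rfl

theorem G_map_id {T : C} (g : G.obj.obj (op T)) : G.obj.map (𝟙 T).op g = g := by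
  rw [op_id, CategoryTheory.Functor.map_id]
  rfl

theorem G_sep {T : C} (S : Sieve T) (hS : S ∈ J T) (g h : G.obj.obj (op T))
    (e : ∀ ⦃T' : C⦄ (φ : T' ⟶ T), S φ → G.obj.map φ.op g = G.obj.map φ.op h) : g = h :=
  ((isSheafG G).isSeparated S hS).ext (fun T' φ hφ => e φ hφ)

theorem G_glue {T : C} (S : Sieve T) (hS : S ∈ J T)
    (y : ∀ ⦃T' : C⦄ (φ : T' ⟶ T), S φ → G.obj.obj (op T'))
    (hy : ∀ ⦃T' T'' : C⦄ (φ : T' ⟶ T) (ψ : T'' ⟶ T') (hφ : S φ),
      G.obj.map ψ.op (y φ hφ) = y (ψ ≫ φ) (S.downward_closed hφ ψ)) :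
    ∃ g : G.obj.obj (op T), ∀ ⦃T' : C⦄ (φ : T' ⟶ T) (hφ : S φ), G.obj.map φ.op g = y φ hφ := by
  let x : Presieve.FamilyOfElements (G.obj ⋙ forget GrpCat.{w}) S.arrows := fun T' φ hφ => y φ hφ
  have hx : x.Compatible := by
    rw [Presieve.compatible_iff_sieveCompatible]
    intro Y Z f g hf
    exact (hy f g hf).symm
  refine ⟨((isSheafG G) S hS).amalgamate x hx, ?_⟩
  intro T' φ hφ
  exact ((isSheafG G) S hS).valid_glue hx φ hφ

end Gglue

section sheafBig

variable {X : C} {S : Sieve X} (x : Presieve.FamilyOfElements (Big γ) S.arrows)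

/-- value at the identity -/
def val {Y : C} (f : Y ⟶ X) (hf : S f) (i : I) (b : Y ⟶ U i) : G.obj.obj (op Y) :=
  BigS.x (x f hf) (𝟙 Y) i b

theorem val_congr {Y : C} {f f' : Y ⟶ X} (h : f = f') (hf : S f) (hf' : S f') (i : I)
    {b b' : Y ⟶ U i} (hb : b = b') : val x f hf i b = val x f' hf' i b' := by
  subst h hb
  rfl

variable (hx : x.SieveCompatible)
include hx

theorem x_eq_val {Y : C} (f : Y ⟶ X) (hf : S f) {T : C} (a : T ⟶ Y) (i : I) (b : T ⟶ U i) :
    BigS.x (x f hf) a i b = val x (a ≫ f) (S.downward_closed hf a) i b := by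
  unfold val
  rw [hx f a hf]
  change BigS.x (x f hf) a i b = BigS.x (x f hf) (𝟙 T ≫ a) i b
  rw [Category.id_comp]

theorem val_res {Y Y' : C} (ψ : Y' ⟶ Y) (f : Y ⟶ X) (hf : S f) (i : I) (b : Y ⟶ U i) :
    G.obj.map ψ.op (val x f hf i b) = val x (ψ ≫ f) (S.downward_closed hf ψ) i (ψ ≫ b) := by
  have h1 : G.obj.map ψ.op (val x f hf i b) = BigS.x (x f hf) (ψ ≫ 𝟙 Y) i (ψ ≫ b) :=
    (x f hf).res ψ (𝟙 Y) i b
  rw [h1, x_eq_val x hx f hf]
  exact val_congr x (by simp) _ _ i rfl

omit hx in
theorem val_trans {Y : C} (f : Y ⟶ X) (hf : S f) (i j : I) (b : Y ⟶ U i) (b' : Y ⟶ U j) :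
    val x f hf i b * γ.ev i j b b' = val x f hf j b' :=
  (x f hf).trans (𝟙 Y) i j b b'

variable (hS : S ∈ J X)
include hS

theorem exists_glueval {T : C} (a : T ⟶ X) (i : I) (b : T ⟶ U i) :
    ∃ g : G.obj.obj (op T), ∀ ⦃T' : C⦄ (φ : T' ⟶ T) (hφ : S (φ ≫ a)),
      G.obj.map φ.op g = val x (φ ≫ a) hφ i (φ ≫ b) := by
  refine G_glue G (S.pullback a) (J.pullback_stable a hS)
    (fun T' φ hφ => val x (φ ≫ a) hφ i (φ ≫ b)) ?_
  intro T' T'' φ ψ hφ
  rw [val_res x hx]
  exact val_congr x (by simp) _ _ i (by simp)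

/-- the amalgamation -/
noncomputable def amalg : BigS γ X where
  x T a i b := (exists_glueval x hx hS a i b).choose
  res T T' φ₀ a i b := by
    have h1 := (exists_glueval x hx hS a i b).choose_spec
    have h2 := (exists_glueval x hx hS (φ₀ ≫ a) i (φ₀ ≫ b)).choose_spec
    apply G_sep G (S.pullback (φ₀ ≫ a)) (J.pullback_stable _ hS)
    intro T'' φ hφ
    rw [h2 φ hφ, G_map_comp, h1 (φ ≫ φ₀) (by simpa using hφ)]
    exact val_congr x (by simp) _ _ i (by simp)
  trans T a i j b b' := by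
    have h1 := (exists_glueval x hx hS a i b).choose_spec
    have h2 := (exists_glueval x hx hS a j b').choose_spec
    apply G_sep G (S.pullback a) (J.pullback_stable _ hS)
    intro T'' φ hφ
    rw [map_mul, h1 φ hφ, h2 φ hφ, γ.ev_precomp, val_trans]

theorem amalg_eq_val {T : C} (a : T ⟶ X) (ha : S a) (i : I) (b : T ⟶ U i) :
    (amalg x hx hS).x a i b = val x a ha i b := by
  have h1 := (exists_glueval x hx hS a i b).choose_spec (𝟙 T) (by simpa using ha)
  rw [G_map_id] at h1
  exact h1.trans (val_congr x (by simp) _ _ i (by simp))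

end sheafBig

variable (γ) in
theorem big_isSheaf : Presieve.IsSheaf J (Big γ) := by
  intro X S hS
  rw [← Presieve.isSeparatedFor_and_exists_isAmalgamation_iff_isSheafFor]
  constructor
  · intro x t t' ht ht'
    apply BigS.ext'
    intro T a i b
    apply G_sep G (S.pullback a) (J.pullback_stable a hS)
    intro T' φ hφ
    have h1 : BigS.restr (φ ≫ a) t = BigS.restr (φ ≫ a) t' :=
      (ht (φ ≫ a) hφ).trans (ht' (φ ≫ a) hφ).symm
    have h2 := congrArg (fun p : BigS γ T' => p.x (𝟙 T') i (φ ≫ b)) h1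
    change t.x (𝟙 T' ≫ φ ≫ a) i (φ ≫ b) = t'.x (𝟙 T' ≫ φ ≫ a) i (φ ≫ b) at h2
    rw [Category.id_comp] at h2
    rw [BigS.res, BigS.res, h2]
  · intro x hx
    rw [Presieve.compatible_iff_sieveCompatible] at hx
    refine ⟨amalg x hx hS, ?_⟩
    intro Y f hf
    apply BigS.ext'
    intro T a i b
    change (amalg x hx hS).x (a ≫ f) i b = BigS.x (x f hf) a i b
    rw [amalg_eq_val x hx hS (a ≫ f) (S.downward_closed hf a), x_eq_val x hx]


section torsorBig

theorem BigS.one_smul {X : C} (p : BigS γ X) : BigS.smul 1 p = p := by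
  apply BigS.ext'
  intro T a i b
  change G.obj.map a.op 1 * p.x a i b = p.x a i b
  rw [map_one, one_mul]

theorem BigS.mul_smul {X : C} (g h : G.obj.obj (op X)) (p : BigS γ X) :
    BigS.smul (g * h) p = BigS.smul g (BigS.smul h p) := by
  apply BigS.ext'
  intro T a i b
  change G.obj.map a.op (g * h) * p.x a i b = G.obj.map a.op g * (G.obj.map a.op h * p.x a i b)
  rw [map_mul, mul_assoc]

theorem BigS.restr_smul {X Y : C} (f : Y ⟶ X) (g : G.obj.obj (op X)) (p : BigS γ X) :
    BigS.restr f (BigS.smul g p) = BigS.smul (G.obj.map f.op g) (BigS.restr f p) := by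
  apply BigS.ext'
  intro T a i b
  change G.obj.map (a ≫ f).op g * p.x (a ≫ f) i b =
    G.obj.map a.op (G.obj.map f.op g) * p.x (a ≫ f) i b
  rw [G_map_comp]

theorem quot_indep {X : C} (p q : BigS γ X) {T : C} (a : T ⟶ X) (i j : I) (b : T ⟶ U i)
    (b' : T ⟶ U j) : q.x a j b' * (p.x a j b')⁻¹ = q.x a i b * (p.x a i b)⁻¹ := by
  rw [← p.trans a i j b b', ← q.trans a i j b b', mul_inv_rev, mul_assoc, mul_inv_cancel_left]

variable (hU : J.CoversTop U)
include hU

theorem big_pseudo {X : C} (p q : BigS γ X) : ∃! g : G.obj.obj (op X), BigS.smul g p = q := by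
  have hex : ∃ g : G.obj.obj (op X), ∀ ⦃T : C⦄ (a : T ⟶ X) (i : I) (b : T ⟶ U i),
      G.obj.map a.op g = q.x a i b * (p.x a i b)⁻¹ := by
    obtain ⟨g, hg⟩ := G_glue G (Sieve.ofObjects U X) (hU X)
      (fun T φ hφ => q.x φ hφ.choose hφ.choose_spec.some * (p.x φ hφ.choose hφ.choose_spec.some)⁻¹)
      (by
        intro T' T'' φ ψ hφ
        rw [map_mul, map_inv, q.res, p.res]
        exact (quot_indep p q _ _ _ _ _).symm)
    refine ⟨g, fun T a i b => ?_⟩
    rw [hg a ⟨i, ⟨b⟩⟩]
    exact quot_indep p q _ _ _ _ _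
  obtain ⟨g, hg⟩ := hex
  refine ⟨g, ?_, ?_⟩
  · apply BigS.ext'
    intro T a i b
    change G.obj.map a.op g * p.x a i b = q.x a i b
    rw [hg a i b, inv_mul_cancel_right]
  · intro g' hg'
    apply G_sep G (Sieve.ofObjects U X) (hU X)
    rintro T a ⟨i, ⟨b⟩⟩
    have h1 := congrArg (fun r : BigS γ X => r.x a i b) hg'
    change G.obj.map a.op g' * p.x a i b = q.x a i b at h1
    rw [hg a i b, ← h1, mul_inv_cancel_right]

theorem big_small (X : C) : Small.{w} (BigS γ X) := by
  by_cases hne : Nonempty (BigS γ X)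
  · obtain ⟨p₀⟩ := hne
    have hsurj : Function.Surjective (fun g : G.obj.obj (op X) => BigS.smul g p₀) := by
      intro q
      obtain ⟨g, hg, _⟩ := big_pseudo hU p₀ q
      exact ⟨g, hg⟩
    exact small_of_surjective hsurj
  · have : IsEmpty (BigS γ X) := not_nonempty_iff.mp hne
    infer_instance

end torsorBig


section final

theorem BigS.restr_id {X : C} (p : BigS γ X) : BigS.restr (𝟙 X) p = p := by
  apply BigS.ext'
  intro T a i b
  change p.x (a ≫ 𝟙 _) i b = p.x a i b
  rw [Category.comp_id]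

theorem BigS.restr_comp {X Y Z : C} (f : Y ⟶ X) (g : Z ⟶ Y) (p : BigS γ X) :
    BigS.restr (g ≫ f) p = BigS.restr g (BigS.restr f p) := by
  apply BigS.ext'
  intro T a i b
  change p.x (a ≫ (g ≫ f)) i b = p.x ((a ≫ g) ≫ f) i b
  rw [Category.assoc]

variable (γ) (hU : J.CoversTop U)

/-- the shrunk presheaf -/
noncomputable def Psh : Cᵒᵖ ⥤ Type w :=
  have := big_small (γ := γ) hU
  { obj := fun X => Shrink.{w} (BigS γ X.unop)
    map := fun {X Y} f => ↾(fun z => equivShrink (BigS γ Y.unop)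
      (BigS.restr f.unop ((equivShrink (BigS γ X.unop)).symm z)))
    map_id := fun X => by
      ext z : 3
      change equivShrink (BigS γ X.unop)
        (BigS.restr (𝟙 X.unop) ((equivShrink (BigS γ X.unop)).symm z)) = z
      rw [BigS.restr_id, Equiv.apply_symm_apply]
    map_comp := fun {X Y Z} f g => by
      ext z : 3
      change equivShrink (BigS γ Z.unop)
          (BigS.restr (g.unop ≫ f.unop) ((equivShrink (BigS γ X.unop)).symm z)) =
        equivShrink (BigS γ Z.unop) (BigS.restr g.unop ((equivShrink (BigS γ Y.unop)).symm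
          (equivShrink (BigS γ Y.unop) (BigS.restr f.unop ((equivShrink (BigS γ X.unop)).symm z)))))
      rw [BigS.restr_comp, Equiv.symm_apply_apply] }

end final


section final2

variable (γ) (hU : J.CoversTop U)

theorem psh_map {X Y : Cᵒᵖ} (f : X ⟶ Y) (z : (Psh γ hU).obj X) :
    (Psh γ hU).map f z =
      have := big_small (γ := γ) hU
      equivShrink (BigS γ Y.unop) (BigS.restr f.unop ((equivShrink (BigS γ X.unop)).symm z)) := rfl

theorem psh_isSheaf : Presheaf.IsSheaf J (Psh γ hU) := by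
  have := big_small (γ := γ) hU
  rw [isSheaf_iff_isSheaf_of_type]
  refine Presieve.isSheaf_of_nat_equiv (P₁ := Big γ) (P₂ := Psh γ hU)
    (fun X => equivShrink (BigS γ X)) ?_ (big_isSheaf γ)
  intro X Y f p
  change equivShrink (BigS γ X) (BigS.restr f p) =
    equivShrink (BigS γ X) (BigS.restr f ((equivShrink (BigS γ Y)).symm (equivShrink (BigS γ Y) p)))
  rw [Equiv.symm_apply_apply]

/-- the twisted `G`-sheaf -/
noncomputable def tw : NonAbH1.GSheaf G :=
  have := big_small (γ := γ) hU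
  { P := ⟨Psh γ hU, psh_isSheaf γ hU⟩
    smul := fun {X} g z => equivShrink (BigS γ X.unop)
      (BigS.smul g ((equivShrink (BigS γ X.unop)).symm z))
    one_smul := fun {X} z => by
      rw [BigS.one_smul, Equiv.apply_symm_apply]
    mul_smul := fun {X} g h z => by
      rw [BigS.mul_smul, Equiv.symm_apply_apply]
    map_smul := fun {X Y} f g z => by
      change equivShrink (BigS γ Y.unop) (BigS.restr f.unop ((equivShrink (BigS γ X.unop)).symm
          (equivShrink (BigS γ X.unop) (BigS.smul g ((equivShrink (BigS γ X.unop)).symm z))))) =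
        equivShrink (BigS γ Y.unop) (BigS.smul (G.obj.map f g) ((equivShrink (BigS γ Y.unop)).symm
          (equivShrink (BigS γ Y.unop) (BigS.restr f.unop ((equivShrink (BigS γ X.unop)).symm z)))))
      rw [Equiv.symm_apply_apply, Equiv.symm_apply_apply, BigS.restr_smul]
      rfl }

theorem tw_isTorsor : (tw γ hU).IsTorsor := by
  have := big_small (γ := γ) hU
  constructor
  · intro X p q
    obtain ⟨g, hg, huniq⟩ := big_pseudo hU ((equivShrink (BigS γ X.unop)).symm p)
      ((equivShrink (BigS γ X.unop)).symm q)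
    refine ⟨g, ?_, ?_⟩
    · change equivShrink (BigS γ X.unop) (BigS.smul g ((equivShrink (BigS γ X.unop)).symm p)) = q
      rw [hg, Equiv.apply_symm_apply]
    · intro g' hg'
      apply huniq
      change equivShrink (BigS γ X.unop) (BigS.smul g' ((equivShrink (BigS γ X.unop)).symm p)) = q
        at hg'
      rw [← hg', Equiv.symm_apply_apply]
  · intro X
    refine ⟨Sieve.ofObjects U X, hU X, ?_⟩
    rintro V f ⟨i, ⟨b⟩⟩
    exact ⟨equivShrink (BigS γ V) (BigS.restr b (sec γ i))⟩

theorem tw_cocycle :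
    have := big_small (γ := γ) hU
    (tw γ hU).IsCocycleOf U (fun i => equivShrink (BigS γ (U i)) (sec γ i)) γ := by
  intro inst i j T a b
  change equivShrink (BigS γ T) (BigS.smul (γ.ev i j a b) ((equivShrink (BigS γ T)).symm
      (equivShrink (BigS γ T) (BigS.restr b ((equivShrink (BigS γ (U j))).symm
        (equivShrink (BigS γ (U j)) (sec γ j))))))) =
    equivShrink (BigS γ T) (BigS.restr a ((equivShrink (BigS γ (U i))).symm
        (equivShrink (BigS γ (U i)) (sec γ i))))
  rw [Equiv.symm_apply_apply, Equiv.symm_apply_apply, Equiv.symm_apply_apply]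
  congr 1
  apply BigS.ext'
  intro T' a' k b''
  change G.obj.map a'.op (γ.ev i j a b) * γ.ev j k (a' ≫ b) b'' = γ.ev i k (a' ≫ a) b''
  rw [γ.ev_precomp, γ.ev_trans]

end final2

end helpers

/-- Let C be a category with a Grothendieck topology J, G a sheaf of groups and U a family of objects
which covers every object of the site. Every class in the Cech cohomology set H^1(U, G) is the Cech
class of some G-torsor that has a section over every U_i. (The published statement is for an etale
covering of a scheme; this row is stated for any family of objects covering the site.) -/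
theorem result {C : Type u} [Category.{v} C]
    {J : GrothendieckTopology C} (G : Sheaf J GrpCat.{w}) {I : Type w'} (U : I → C) (hU : J.CoversTop U)
    (c : PresheafOfGroups.H1 G.obj U) :
    ∃ P : NonAbH1.Torsor G, P.TrivialisedBy U ∧ P.HasCechClass U c := by
  obtain ⟨γ, rfl⟩ := Quot.exists_rep c
  have hs := big_small (γ := γ) hU
  refine ⟨⟨tw γ hU, tw_isTorsor γ hU⟩, ?_, ?_⟩
  · intro i
    exact ⟨equivShrink (BigS γ (U i)) (sec γ i)⟩
  · exact ⟨fun i => equivShrink (BigS γ (U i)) (sec γ i), γ, tw_cocycle γ hU, rfl⟩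

end Groth.Agent.S16274
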