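import Groth.Statements.S15418
import Mathlib
import Groth.Agent.S15417
import Groth.Agent.Lib.Helper19.Kz4

set_option autoImplicit false
universe u
open GrSyz

namespace Groth.Agent.S15418

-- MARK
open GrLC Groth.Agent.Lib.helper19.GrLes Groth.Agent.Lib.helper19.GrReg Groth.Agent.Lib.helper19.GrConv
  Groth.Agent.Lib.helper19.GrPoly in
/-- regularity `≤ d` in Mumford's form -/
theorem lcreg_iff_mumford (k : Type u) [Field k] (n : ℕ)
    (M : Type u) [AddCommGroup M] [Module k M] [Module (MvPolynomial (Fin n) k) M]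
    (ℳ : ℤ → Submodule k M) [DirectSum.Decomposition ℳ] [SetLike.GradedSMul (GrSyz.stdGr k (Fin n)) ℳ]
    (E : GrLC.StarInjRes (GrSyz.stdGr k (Fin n)) ℳ) (d : ℤ) :
    LCReg (mm k n) (addGr ℳ) d ↔
      (GrLC.endDeg (E.Hgr (GrSyz.irrel (GrSyz.stdGr k (Fin n))) 0) ≤ ((d : WithTop ℤ) : WithBot (WithTop ℤ)) ∧
      ∀ i : ℕ, 0 < i → E.Hcomp (GrSyz.irrel (GrSyz.stdGr k (Fin n))) i (d - (i : ℤ) + 1) = ⊥) := by
  classical
  have hcomp : ∀ (i : ℕ) (g : ℤ), E.Hgr (GrSyz.irrel (GrSyz.stdGr k (Fin n))) i g = ⊥ ↔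
      E.Hcomp (GrSyz.irrel (GrSyz.stdGr k (Fin n))) i g = ⊥ := by
    intro i g
    constructor
    · intro h
      rw [eq_bot_iff]
      intro y hy
      have h1 : y ∈ E.Hgr (GrSyz.irrel (GrSyz.stdGr k (Fin n))) i g := hy
      rw [h] at h1
      exact h1
    · intro h
      rw [eq_bot_iff]
      intro y hy
      have h1 : y ∈ E.Hcomp (GrSyz.irrel (GrSyz.stdGr k (Fin n))) i g := hy
      rw [h] at h1
      exact h1
  have hxs : ∀ x ∈ List.ofFn (MvPolynomial.X : Fin n → MvPolynomial (Fin n) k), x ∈ gr k n 1 := by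
    intro x hx
    obtain ⟨i, rfl⟩ := (List.mem_ofFn' _ _).1 hx
    exact X_mem k n i
  constructor
  · intro h
    have h' : ∀ (i : ℕ) (g : ℤ), d - i < g → E.Hgr (GrSyz.irrel (GrSyz.stdGr k (Fin n))) i g = ⊥ := by
      intro i g hg
      have h1 := h (resAdd (GrSyz.stdGr k (Fin n)) ℳ E) i g hg
      rw [resAdd_Hgr] at h1
      exact h1
    refine ⟨?_, fun i _ => ?_⟩
    · apply endDeg_le
      intro g hne
      rw [cast_le]
      by_contra hcon
      push Not at hcon
      exact hne (h' 0 g (by simpa using hcon))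
    · exact (hcomp i _).1 (h' i _ (by omega))
  · rintro ⟨h0, h1⟩
    have hm : ∀ m : ℕ, ∀ i : ℕ, 1 ≤ i →
        (resAdd (GrSyz.stdGr k (Fin n)) ℳ E).Hgr (mm k n) i (d + m + 1 - i) = ⊥ := by
      intro m
      induction m with
      | zero =>
        intro i hi
        rw [resAdd_Hgr]
        have h2 := (hcomp i _).2 (h1 i hi)
        have h3 : d + ((0 : ℕ) : ℤ) + 1 - i = d - i + 1 := by push_cast; ring
        rw [h3]
        exact h2
      | succ m ih =>
        intro i hi
        have h2 := Groth.Agent.Lib.helper19.Kz.mumford (resAdd (GrSyz.stdGr k (Fin n)) ℳ E) (mm k n) _ hxs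
          (mm_eq k n) (d + m) 1 le_rfl ih i hi
        have h3 : d + ((m + 1 : ℕ) : ℤ) + 1 - i = d + m + 2 - i := by push_cast; ring
        rw [h3]
        exact h2
    intro E₂ j g hg
    rw [Hgr_indep E₂ (resAdd (GrSyz.stdGr k (Fin n)) ℳ E) (mm k n) j g]
    cases j with
    | zero =>
      rw [resAdd_Hgr]
      by_contra hne
      have h2 := le_trans (le_endDeg _ hne) h0
      rw [cast_le] at h2
      push_cast at hg
      omega
    | succ j =>
      obtain ⟨m, hm'⟩ : ∃ m : ℕ, g = d + m + 1 - ((j + 1 : ℕ) : ℤ) :=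
        ⟨(g - (d - ((j + 1 : ℕ) : ℤ)) - 1).toNat, by omega⟩
      rw [hm']
      exact hm m (j + 1) (by omega)



/-- Let k be a field, S = k[x_0, …, x_r] graded by degree, 𝔪 = (x_0, …, x_r), M a finitely generated
ℤ-graded S-module, F a minimal graded free resolution of M by finite-rank free modules with
homogeneous bases (all matrix entries in 𝔪), and d an integer; graded local cohomology is computed
from any *injective resolution of M in the graded category. Then every term F_i is generated in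
degrees at most d + i if and only if M is d-regular: H^0_𝔪(M) has no nonzero piece in degrees above
d and H^i_𝔪(M) vanishes in degree d − i + 1 for every i > 0. (Stated for an arbitrary minimal
resolution in place of the regularity of M.) -/
theorem result (k : Type u) [Field k] (r : ℕ)
    (M : Type u) [AddCommGroup M] [Module k M] [Module (MvPolynomial (Fin (r + 1)) k) M]
    [IsScalarTower k (MvPolynomial (Fin (r + 1)) k) M] [Module.Finite (MvPolynomial (Fin (r + 1)) k) M]
    (ℳ : ℤ → Submodule k M) [DirectSum.Decomposition ℳ] [SetLike.GradedSMul (GrSyz.stdGr k (Fin (r + 1))) ℳ]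
    (F : GrSyz.FreeRes (GrSyz.stdGr k (Fin (r + 1))) ℳ) (hF : F.IsMinimal (GrSyz.irrel (GrSyz.stdGr k (Fin (r + 1)))).toIdeal)
    (E : GrLC.StarInjRes (GrSyz.stdGr k (Fin (r + 1))) ℳ) (d : ℤ) :
    F.IsGenLE d ↔ (GrLC.endDeg (E.Hgr (GrSyz.irrel (GrSyz.stdGr k (Fin (r + 1)))) 0) ≤ ((d : WithTop ℤ) : WithBot (WithTop ℤ)) ∧
      ∀ i : ℕ, 0 < i → E.Hcomp (GrSyz.irrel (GrSyz.stdGr k (Fin (r + 1)))) i (d - (i : ℤ) + 1) = ⊥) := by
  rw [Groth.Agent.S15417.isGenLE_iff_lcreg_poly k (r + 1) M ℳ F hF d]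
  exact lcreg_iff_mumford k (r + 1) M ℳ E d

end Groth.Agent.S15418
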