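import Groth.Statements.S1542
import Mathlib
import Groth.Agent.Lib.Helper3.StalkBC2
import Groth.Agent.Lib.Helper3.GeomRed2
import Groth.Agent.S1541

set_option autoImplicit false
universe u
open CategoryTheory CategoryTheory.Limits AlgebraicGeometry
open Variety

namespace Groth.Agent.S1542

open scoped TensorProduct
attribute [local instance] Curv2.stalkAlgebra

/-- Geometric reducedness at a point passes to every generisation of that point. -/
theorem result (k : Type u) [Field k] (X : Scheme.{u}) [X.Over (Spec (CommRingCat.of k))] (x x' : X) (h : x' ⤳ x)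
    (hx : Curv2.IsGeomReducedAt k X x) : Curv2.IsGeomReducedAt k X x' := by
  have hj : X.fromSpecStalk x ≫ (X ↘ Spec (CommRingCat.of k)) =
      Spec.map (CommRingCat.ofHom (algebraMap k (X.presheaf.stalk x))) :=
    Groth.Agent.Lib.helper3.StalkBC2.specMap_stalkMap k X x
  have hgr : Algebra.IsGeometricallyReduced k (X.presheaf.stalk x) :=
    (Groth.Agent.S1541.result k X x).mp hx
  intro K _ _ x'' hx''
  have hred : _root_.IsReduced (K ⊗[k] (X.presheaf.stalk x)) :=
    Groth.Agent.Lib.helper3.GeomRed.isReduced_tensor_of_isGeometricallyReduced k K _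
  have hred' : _root_.IsReduced ((X.presheaf.stalk x) ⊗[k] K) :=
    Groth.Agent.Lib.helper3.GeomRed.isReduced_comm _ _ hred
  obtain ⟨p, ⟨e⟩⟩ := Groth.Agent.Lib.helper3.StalkBC2.exists_prime_of_specializes x
    (X ↘ Spec (CommRingCat.of k)) K hj x'' (hx'' ▸ h)
  exact isReduced_of_injective e e.injective

end Groth.Agent.S1542
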