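import Groth.Statements.S15421
import Mathlib
import Groth.Agent.Lib.Helper19.GrReg8

set_option autoImplicit false
universe u
open GrSyz

namespace Groth.Agent.S15421

-- MARK


/-- Let k be a field, S = k[x_0, …, x_r] graded by degree, 𝔪 = (x_0, …, x_r), M a finitely generated
ℤ-graded S-module, x ∈ S_1 a linear form quasi-regular on M (the elements of M killed by x form a
submodule of finite length) and N = M/xM, given as a graded module with a surjective
degree-preserving S-linear map π : M → N with kernel xM. Then reg M = max(end H^0_𝔪(M), reg N),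
where reg is the Castelnuovo–Mumford regularity in the sense of minimal graded free resolutions (as
an extended integer, −∞ for the zero module) and end H^0_𝔪(M) is the largest degree of a nonzero
piece of the graded local cohomology H^0_𝔪(M), computed from any *injective resolution of M in the
graded category. (The published statement takes x quasi-regular without repeating that it is a
linear form; a linear form is meant, as in the proposition it rests on.) -/
theorem result (k : Type u) [Field k] (r : ℕ)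
    (M : Type u) [AddCommGroup M] [Module k M] [Module (MvPolynomial (Fin (r + 1)) k) M]
    [IsScalarTower k (MvPolynomial (Fin (r + 1)) k) M] [Module.Finite (MvPolynomial (Fin (r + 1)) k) M]
    (ℳ : ℤ → Submodule k M) [DirectSum.Decomposition ℳ] [SetLike.GradedSMul (GrSyz.stdGr k (Fin (r + 1))) ℳ]
    (x : MvPolynomial (Fin (r + 1)) k) (hx : x ∈ GrSyz.stdGr k (Fin (r + 1)) 1)
    (hq : IsFiniteLength (MvPolynomial (Fin (r + 1)) k) ↥(Submodule.torsionBy (MvPolynomial (Fin (r + 1)) k) M x))
    (N : Type u) [AddCommGroup N] [Module k N] [Module (MvPolynomial (Fin (r + 1)) k) N]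
    [IsScalarTower k (MvPolynomial (Fin (r + 1)) k) N] [Module.Finite (MvPolynomial (Fin (r + 1)) k) N]
    (𝒩 : ℤ → Submodule k N) [DirectSum.Decomposition 𝒩] [SetLike.GradedSMul (GrSyz.stdGr k (Fin (r + 1))) 𝒩]
    (π : M →ₗ[MvPolynomial (Fin (r + 1)) k] N) (hπ : Function.Surjective π) (hπg : GrLC.IsGrHom ℳ 𝒩 π)
    (hker : LinearMap.ker π = LinearMap.range (x • (LinearMap.id : M →ₗ[MvPolynomial (Fin (r + 1)) k] M)))
    (E : GrLC.StarInjRes (GrSyz.stdGr k (Fin (r + 1))) ℳ) :
    GrSyz.reg (GrSyz.stdGr k (Fin (r + 1))) ℳ (GrSyz.irrel (GrSyz.stdGr k (Fin (r + 1)))).toIdeal =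
      GrLC.endDeg (E.Hgr (GrSyz.irrel (GrSyz.stdGr k (Fin (r + 1)))) 0) ⊔ GrSyz.reg (GrSyz.stdGr k (Fin (r + 1))) 𝒩 (GrSyz.irrel (GrSyz.stdGr k (Fin (r + 1)))).toIdeal := by
  classical
  obtain ⟨F⟩ := Groth.Agent.S13215.result (MvPolynomial (Fin (r + 1)) k)
    (Groth.Agent.Lib.helper19.GrPoly.gr k (r + 1)) N (Groth.Agent.Lib.helper19.GrConv.addGr 𝒩)
  have hN : GrSyz.reg (GrSyz.stdGr k (Fin (r + 1))) 𝒩 (GrSyz.irrel (GrSyz.stdGr k (Fin (r + 1)))).toIdeal =
      ⨆ i : ℕ, (GrLC.endDeg (F.Hgr (Groth.Agent.Lib.helper19.GrPoly.mm k (r + 1)) i) +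
        (((i : ℤ) : WithTop ℤ) : WithBot (WithTop ℤ))) := by
    apply Groth.Agent.Lib.helper19.GrReg.reg_eq k r N 𝒩
    intro d
    rw [Groth.Agent.Lib.helper19.GrReg.lcreg_iff_endDeg_add F _ d, iSup_le_iff]
  rw [hN]
  apply Groth.Agent.Lib.helper19.GrReg.reg_eq k r M ℳ
  intro d
  rw [sup_le_iff, iSup_le_iff, ← Groth.Agent.Lib.helper19.GrReg.lcreg_iff_endDeg_add F _ d,
    Groth.Agent.Lib.helper19.GrReg.lcreg_quasi_poly k (r + 1) M ℳ N 𝒩 x hx hq π hπ hπg hker E d, and_comm]

end Groth.Agent.S15421
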