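import Groth.Statements.S15423
import Groth.Agent.Lib.Helper7.GrSyzUniq

set_option autoImplicit false
universe u
open GrSyz

namespace Groth.Agent.S15423


open Groth.Agent.Lib.helper7

/-- Order-theoretic lemma: an element of `WithBot (WithTop ℤ)` is the infimum of the integers above it. -/
theorem iInf_int_ge (X : WithBot (WithTop ℤ)) :
    (⨅ (r : ℤ) (_ : X ≤ ((r : WithTop ℤ) : WithBot (WithTop ℤ))), ((r : WithTop ℤ) : WithBot (WithTop ℤ))) = X := by
  apply le_antisymm
  · induction X using WithBot.recBotCoe with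
    | bot =>
      rw [le_bot_iff]
      by_contra hne
      obtain ⟨Y, hY⟩ : ∃ Y, Y = (⨅ (r : ℤ) (_ : (⊥ : WithBot (WithTop ℤ)) ≤ ((r : WithTop ℤ) : WithBot (WithTop ℤ))), ((r : WithTop ℤ) : WithBot (WithTop ℤ))) := ⟨_, rfl⟩
      rw [← hY] at hne
      have hle : ∀ r : ℤ, Y ≤ ((r : WithTop ℤ) : WithBot (WithTop ℤ)) := by
        intro r
        rw [hY]
        exact (iInf_le _ r).trans (iInf_le _ bot_le)
      induction Y using WithBot.recBotCoe with
      | bot => exact hne rfl
      | coe y =>
        induction y using WithTop.recTopCoe with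
        | top =>
          have := hle 0
          rw [WithBot.coe_le_coe, top_le_iff] at this
          exact WithTop.coe_ne_top this
        | coe y =>
          have := hle (y - 1)
          rw [WithBot.coe_le_coe, WithTop.coe_le_coe] at this
          omega
    | coe x =>
      induction x using WithTop.recTopCoe with
      | top => exact le_top
      | coe x => exact (iInf_le _ x).trans (iInf_le _ le_rfl)
  · exact le_iInf₂ fun r hr => hr

/-- Let k be a field, S = k[x_0, …, x_r] graded by degree, 𝔪 = (x_0, …, x_r), M a finitely generated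
ℤ-graded S-module and F a minimal graded free resolution of M by finite-rank free modules with
homogeneous bases (all matrix entries in 𝔪). Then the Castelnuovo–Mumford regularity of M (an
extended integer) is the supremum over i ≥ 0 of t_i − i, where t_i is the largest degree of a basis
vector of F_i, that is the largest nonzero degree of Tor_i^S(M, k) (−∞ when F_i = 0). In particular
the value does not depend on the minimal resolution chosen. -/
theorem result (k : Type u) [Field k] (r : ℕ)
    (M : Type u) [AddCommGroup M] [Module k M] [Module (MvPolynomial (Fin (r + 1)) k) M]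
    [IsScalarTower k (MvPolynomial (Fin (r + 1)) k) M] [Module.Finite (MvPolynomial (Fin (r + 1)) k) M]
    (ℳ : ℤ → Submodule k M) [DirectSum.Decomposition ℳ] [SetLike.GradedSMul (GrSyz.stdGr k (Fin (r + 1))) ℳ]
    (F : GrSyz.FreeRes (GrSyz.stdGr k (Fin (r + 1))) ℳ) (hF : F.IsMinimal (GrSyz.irrel (GrSyz.stdGr k (Fin (r + 1)))).toIdeal) :
    GrSyz.reg (GrSyz.stdGr k (Fin (r + 1))) ℳ (GrSyz.irrel (GrSyz.stdGr k (Fin (r + 1)))).toIdeal =
      ⨆ i : ℕ, WithBot.map (fun t : ℤ => ((t - (i : ℤ) : ℤ) : WithTop ℤ)) (F.maxGenDeg i) := by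
  classical
  have key : ∀ s : ℤ, GrSyz.IsRegLE (GrSyz.stdGr k (Fin (r + 1))) ℳ (GrSyz.irrel (GrSyz.stdGr k (Fin (r + 1)))).toIdeal s ↔
      (⨆ i : ℕ, WithBot.map (fun t : ℤ => ((t - (i : ℤ) : ℤ) : WithTop ℤ)) (F.maxGenDeg i)) ≤ ((s : WithTop ℤ) : WithBot (WithTop ℤ)) := by
    intro s
    have h2 : F.IsGenLE s ↔ (⨆ i : ℕ, WithBot.map (fun t : ℤ => ((t - (i : ℤ) : ℤ) : WithTop ℤ)) (F.maxGenDeg i)) ≤ ((s : WithTop ℤ) : WithBot (WithTop ℤ)) := by
      rw [iSup_le_iff]
      unfold GrSyz.FreeRes.IsGenLE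
      refine forall_congr' fun i => ?_
      have h3 : WithBot.map (fun t : ℤ => ((t - (i : ℤ) : ℤ) : WithTop ℤ)) (F.maxGenDeg i) ≤ ((s : WithTop ℤ) : WithBot (WithTop ℤ)) ↔ F.maxGenDeg i ≤ ((s + i : ℤ) : WithBot ℤ) := by
        induction F.maxGenDeg i using WithBot.recBotCoe with
        | bot => simp
        | coe x =>
          rw [WithBot.map_coe, WithBot.coe_le_coe, WithBot.coe_le_coe, WithTop.coe_le_coe]
          omega
      rw [h3]
      unfold GrSyz.FreeRes.maxGenDeg
      rw [Finset.sup_le_iff]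
      refine ⟨fun h b _ => ?_, fun h b => ?_⟩
      · exact WithBot.coe_le_coe.mpr (h b)
      · exact WithBot.coe_le_coe.mp (h b (Finset.mem_univ b))
    rw [← h2]
    constructor
    · rintro ⟨F', hF', hgen⟩ i b
      have hb : 0 < F.betti i (F.deg i b) := by
        unfold GrSyz.FreeRes.betti
        exact Finset.card_pos.mpr ⟨b, by simp⟩
      rw [GrSyzUniq.betti_eq hF hF'] at hb
      unfold GrSyz.FreeRes.betti at hb
      obtain ⟨c, hc⟩ := Finset.card_pos.mp hb
      rw [Finset.mem_filter] at hc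
      rw [← hc.2]
      exact hgen i c
    · intro h
      exact ⟨F, hF, h⟩
  unfold GrSyz.reg
  rw [← iInf_int_ge (⨆ i : ℕ, WithBot.map (fun t : ℤ => ((t - (i : ℤ) : ℤ) : WithTop ℤ)) (F.maxGenDeg i))]
  refine iInf_congr fun s => ?_
  exact iInf_congr_Prop (key s) (fun _ => rfl)

end Groth.Agent.S15423
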