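import Groth.Statements.S15427
import Groth.Agent.Lib.Helper7.GrSyzBasic

set_option autoImplicit false
universe u
open GrSyz

namespace Groth.Agent.S15427


open Groth.Agent.Lib.helper7

/-- Let k be a field, S = k[x_0, …, x_r] graded by degree, 𝔪 = (x_0, …, x_r), M a finitely generated
ℤ-graded S-module and F a graded free resolution of M by free modules of finite rank with chosen
homogeneous bases, written as matrices d_i : F_{i+1} → F_i together with the images aug b ∈ M of the
basis of F_0. Then F is a minimal complex (every matrix entry lies in 𝔪) if and only if every map of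
the resolution carries its basis to an irredundant (minimal) family of generators of its image: for
each b, aug b is not in the S-span of the remaining aug b', and for each i and each column of d_i,
that column is not in the S-span of the remaining columns. -/
theorem result (k : Type u) [Field k] (r : ℕ)
    (M : Type u) [AddCommGroup M] [Module k M] [Module (MvPolynomial (Fin (r + 1)) k) M]
    [IsScalarTower k (MvPolynomial (Fin (r + 1)) k) M] [Module.Finite (MvPolynomial (Fin (r + 1)) k) M]
    (ℳ : ℤ → Submodule k M) [DirectSum.Decomposition ℳ] [SetLike.GradedSMul (GrSyz.stdGr k (Fin (r + 1))) ℳ]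
    (F : GrSyz.FreeRes (GrSyz.stdGr k (Fin (r + 1))) ℳ) :
    F.IsMinimal (GrSyz.irrel (GrSyz.stdGr k (Fin (r + 1)))).toIdeal ↔
      ((∀ b : Fin (F.rk 0), F.aug b ∉ Submodule.span (MvPolynomial (Fin (r + 1)) k) (F.aug '' {b' | b' ≠ b})) ∧
        ∀ (i : ℕ) (b : Fin (F.rk (i + 1))),
          (fun a => F.d i a b) ∉ Submodule.span (MvPolynomial (Fin (r + 1)) k) ((fun b' a => F.d i a b') '' {b' | b' ≠ b})) := by
  classical
  have h1 := GrSyzBasic.one_not_mem_irrel k (Fin (r + 1))
  constructor
  · intro hF
    refine ⟨fun b hb => ?_, fun i b hb => ?_⟩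
    · obtain ⟨v, hvb, hv⟩ := GrSyzBasic.exists_rel_of_mem_span F.aug b hb
      have hker : v ∈ LinearMap.ker (Fintype.linearCombination _ F.aug) := hv
      rw [F.exact_zero] at hker
      obtain ⟨w, hw⟩ := hker
      have := GrSyzBasic.dLin_apply_mem F hF 0 w b
      change (Matrix.mulVecLin (F.d 0)) w b ∈ _ at this
      rw [hw, hvb] at this
      exact h1 this
    · obtain ⟨v, hvb, hv⟩ := GrSyzBasic.exists_rel_of_mem_span (fun b' a => F.d i a b') b hb
      have hker : v ∈ LinearMap.ker (Matrix.mulVecLin (F.d i)) := by
        rw [LinearMap.mem_ker, Matrix.mulVecLin_apply, GrSyzBasic.mulVec_eq_linearCombination]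
        exact hv
      rw [F.exact_succ i] at hker
      obtain ⟨w, hw⟩ := hker
      have := GrSyzBasic.dLin_apply_mem F hF (i + 1) w b
      change (Matrix.mulVecLin (F.d (i + 1))) w b ∈ _ at this
      rw [hw, hvb] at this
      exact h1 this
  · rintro ⟨hA, hB⟩ i a b
    by_contra hnm
    have hu : IsUnit (F.d i a b) :=
      GrSyzBasic.isUnit_of_mem_stdGr_of_not_mem_irrel (F.d_mem i a b) hnm
    have hwr : (fun a' => F.d i a' b) ∈ LinearMap.range (Matrix.mulVecLin (F.d i)) :=
      ⟨Pi.single b 1, by rw [Matrix.mulVecLin_apply, Matrix.mulVec_single_one]; rfl⟩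
    cases i with
    | zero =>
      rw [← F.exact_zero, LinearMap.mem_ker] at hwr
      exact hA a (GrSyzBasic.mem_span_of_rel F.aug a _ hu hwr)
    | succ j =>
      rw [← F.exact_succ j, LinearMap.mem_ker, Matrix.mulVecLin_apply,
        GrSyzBasic.mulVec_eq_linearCombination] at hwr
      exact hB j a (GrSyzBasic.mem_span_of_rel _ a _ hu hwr)

end Groth.Agent.S15427
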