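import Groth.Statements.S1543
import Mathlib
import Groth.Agent.Lib.Helper3.StalkBC2
import Groth.Agent.Lib.Helper3.GeomRed2
import Groth.Agent.Lib.Helper3.GeomRed4
import Groth.Agent.S1541

set_option autoImplicit false
universe u
open CategoryTheory CategoryTheory.Limits AlgebraicGeometry
open Variety

namespace Groth.Agent.S1543

open scoped TensorProduct
attribute [local instance] Curv2.stalkAlgebra

theorem closure_singleton_mem_irreducibleComponents {E : Type*} [TopologicalSpace E]
    [QuasiSober E] {η : E} (h : ∀ y : E, y ⤳ η → η ⤳ y) :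
    closure {η} ∈ irreducibleComponents E := by
  refine ⟨isIrreducible_singleton.closure, fun Z' hZ' hsub => ?_⟩
  obtain ⟨η', hη'⟩ := QuasiSober.sober hZ'.closure isClosed_closure
  have h1 : η' ⤳ η := hη'.specializes (subset_closure (hsub (subset_closure rfl)))
  have h2 : η ⤳ η' := h η' h1
  intro z hz
  have h3 : η' ⤳ z := hη'.specializes (subset_closure hz)
  exact (h2.trans h3).mem_closure

/-- the `k`-algebra map from the coordinate ring of an affine chart to a local ring of `X` -/
theorem exists_algHom (k : Type u) [Field k] (X : Scheme.{u}) [X.Over (Spec (CommRingCat.of k))]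
    (A : Type u) [CommRing A] [Algebra k A] (j : Spec (CommRingCat.of A) ⟶ X) [IsOpenImmersion j]
    (hj : j ≫ (X ↘ Spec (CommRingCat.of k)) = Spec.map (CommRingCat.ofHom (algebraMap k A)))
    (p : PrimeSpectrum A) :
    ∃ ψ : A →ₐ[k] X.presheaf.stalk (j p), ∀ a : A, ψ a = 0 → a ∈ p.asIdeal := by
  let ψc : CommRingCat.of A ⟶ X.presheaf.stalk (j p) :=
    (Scheme.ΓSpecIso (CommRingCat.of A)).inv ≫
      (Spec (CommRingCat.of A)).presheaf.germ ⊤ p trivial ≫ inv (j.stalkMap p)
  have hF1 : Spec.map ψc ≫ j = X.fromSpecStalk (j p) := by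
    have h1 : Spec.map ψc = Spec.map (inv (j.stalkMap p)) ≫
        (Spec (CommRingCat.of A)).fromSpecStalk p := by
      rw [Spec.fromSpecStalk_eq, ← Spec.map_comp]
      simp only [ψc, Category.assoc]
    rw [h1, Category.assoc, ← Scheme.SpecMap_stalkMap_fromSpecStalk, ← Spec.map_comp_assoc,
      IsIso.hom_inv_id, Spec.map_id, Category.id_comp]
  have hF2 : CommRingCat.ofHom (algebraMap k A) ≫ ψc =
      CommRingCat.ofHom (Curv2.stalkMap k X (j p)) := by
    apply Spec.map_injective
    rw [Spec.map_comp, ← hj, ← Category.assoc, hF1,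
      Groth.Agent.Lib.helper3.StalkBC2.specMap_stalkMap]
  refine ⟨{ toRingHom := ψc.hom, commutes' := fun c => ?_ }, fun a ha => ?_⟩
  · have := congrArg (fun φ => φ.hom c) hF2
    exact this
  · have ha' : ψc.hom a = 0 := ha
    have h2 : ((Scheme.ΓSpecIso (CommRingCat.of A)).inv ≫
        (Spec (CommRingCat.of A)).presheaf.germ ⊤ p trivial).hom a = 0 := by
      have hinj : Function.Injective (inv (j.stalkMap p)).hom :=
        ((asIso (inv (j.stalkMap p))).commRingCatIsoToRingEquiv).injective
      apply hinj
      rw [map_zero]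
      exact ha'
    have h3 : algebraMap A ((Spec.structureSheaf A).presheaf.stalk p) a = 0 := h2
    obtain ⟨m, hm⟩ := (IsLocalization.map_eq_zero_iff p.asIdeal.primeCompl
      ((Spec.structureSheaf A).presheaf.stalk p) a).mp h3
    have h4 : (m : A) * a ∈ p.asIdeal := by
      rw [hm]; exact p.asIdeal.zero_mem
    exact (p.isPrime.mem_or_mem h4).resolve_left m.2

/-- A reduced scheme over k which is geometrically reduced at every generic point of an irreducible
component is geometrically reduced over k. -/
theorem result (k : Type u) [Field k] (X : Scheme.{u}) [X.Over (Spec (CommRingCat.of k))] [IsReduced X]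
    (h : ∀ Z ∈ irreducibleComponents (X : Type u), ∀ η : X, IsGenericPoint η Z → Curv2.IsGeomReducedAt k X η) :
    GeometricallyReduced (X ↘ (Spec (CommRingCat.of k))) := by
  apply Groth.Agent.Lib.helper3.GeomRed.geometricallyReduced_of_forall
  intro A _ _ j _ hj
  have hA : _root_.IsReduced A := Groth.Agent.Lib.helper3.GeomRed.isReduced_of_openImmersion_spec A j
  rw [Algebra.isGeometricallyReduced_field_iff]
  let I := {p : PrimeSpectrum A // p.asIdeal ∈ minimalPrimes A}
  choose ψ hψ using fun p : I => exists_algHom k X A j hj p.1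
  refine Groth.Agent.Lib.helper3.GeomRed.isReduced_tensor_of_family (AlgebraicClosure k)
    (fun p : I => X.presheaf.stalk (j p.1)) ψ ?_ ?_
  · intro a ha
    have h1 : a ∈ sInf (minimalPrimes A) := by
      rw [Ideal.mem_sInf]
      intro q hq
      exact hψ ⟨⟨q, hq.1.1⟩, hq⟩ a (ha _)
    have h2 : a ∈ nilradical A := by
      rw [nilradical, ← Ideal.sInf_minimalPrimes]
      exact h1
    exact (mem_nilradical.mp h2).eq_zero
  · intro p
    have hcomp : closure {(j p.1 : X)} ∈ irreducibleComponents (X : Type u) := by
      apply closure_singleton_mem_irreducibleComponents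
      intro y hy
      have hy' : y ∈ Set.range j :=
        j.isOpenEmbedding.isOpen_range.stableUnderGeneralization hy ⟨p.1, rfl⟩
      obtain ⟨q, rfl⟩ := hy'
      have h1 : q ⤳ p.1 := j.isOpenEmbedding.isInducing.specializes_iff.mp hy
      have h2 : PrimeSpectrum.asIdeal (R := A) q ≤ p.1.asIdeal :=
        (PrimeSpectrum.le_iff_specializes (R := A) q p.1).mpr h1
      have h3 : p.1.asIdeal ≤ q.asIdeal := p.2.2 ⟨q.isPrime, bot_le⟩ h2
      have h4 : p.1 ⤳ q := (PrimeSpectrum.le_iff_specializes (R := A) p.1 q).mp h3
      exact h4.map j.continuous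
    have hgr := h _ hcomp (j p.1) isGenericPoint_closure
    have hgr2 : Algebra.IsGeometricallyReduced k (X.presheaf.stalk (j p.1)) :=
      (Groth.Agent.S1541.result k X (j p.1)).mp hgr
    exact Groth.Agent.Lib.helper3.GeomRed.isReduced_tensor_of_isGeometricallyReduced k _ _

end Groth.Agent.S1543
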