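import Groth.Statements.S15432
import Groth.Agent.Lib.Helper7.GrSyzPts
import Groth.Agent.Lib.Helper7.GrSyzHB

set_option autoImplicit false
universe u
open GrSyz

namespace Groth.Agent.S15432


open Groth.Agent.Lib.helper7

/-- Let k be a field, Z a nonempty finite set of nonzero vectors of k^3, regarded as points of the
projective plane, I ⊆ S = k[x_0, x_1, x_2] the homogeneous vanishing ideal of Z (a polynomial lies
in I exactly when each of its homogeneous components vanishes at every vector of Z), M = S/I given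
as a ℤ-graded S-module with a surjective degree-preserving S-linear map π : S → M with kernel I, and
F a minimal graded free resolution of M of length at most 2 whose terms F_1 and F_2 have ranks t + 1
and t, with basis degrees a_1 ≥ … ≥ a_{t+1} for F_1 and b_1 ≥ … ≥ b_t for F_2 (non-increasing along
the chosen bases), so that the (i, j) entry of the matrix F_2 → F_1 has degree b_j − a_i. Put e_i =
b_i − a_i and f_i = b_i − a_{i+1}. Then e_i ≥ 1 and f_i ≥ 1 for every i, and Σ_i a_i = Σ_j b_j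
(equivalently a_i = Σ_{j < i} e_j + Σ_{j ≥ i} f_j for every i). (The ordering of both bases is the
standing assumption under which the published statement is made; this row carries it as the
hypotheses on the basis degrees. The further inequalities f_i ≥ e_i and f_i ≥ e_{i+1} follow at once
from the ordering and are not restated.) -/
theorem result (k : Type u) [Field k]
    (Z : Finset (Fin 3 → k)) (hZ : ∀ p ∈ Z, p ≠ 0) (hZne : Z.Nonempty) (I : Ideal (MvPolynomial (Fin 3) k))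
    (hI : ∀ f : MvPolynomial (Fin 3) k, f ∈ I ↔
      ∀ p ∈ Z, ∀ j : ℕ, MvPolynomial.eval p (MvPolynomial.homogeneousComponent j f) = 0)
    (M : Type u) [AddCommGroup M] [Module k M] [Module (MvPolynomial (Fin 3) k) M] [IsScalarTower k (MvPolynomial (Fin 3) k) M]
    (ℳ : ℤ → Submodule k M) [DirectSum.Decomposition ℳ] [SetLike.GradedSMul (GrSyz.stdGr k (Fin 3)) ℳ]
    (π : MvPolynomial (Fin 3) k →ₗ[MvPolynomial (Fin 3) k] M) (hπ : Function.Surjective π)
    (hπg : GrLC.IsGrHom (GrSyz.stdGr k (Fin 3)) ℳ π) (hker : LinearMap.ker π = I)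
    (F : GrSyz.FreeRes (GrSyz.stdGr k (Fin 3)) ℳ) (hF : F.IsMinimal (GrSyz.irrel (GrSyz.stdGr k (Fin 3))).toIdeal) (hlen : F.HasLengthLE 2)
    (t : ℕ) (h1 : F.rk 1 = t + 1) (h2 : F.rk 2 = t)
    (ha : ∀ i j : Fin (t + 1), i ≤ j → F.deg 1 (Fin.cast h1.symm j) ≤ F.deg 1 (Fin.cast h1.symm i))
    (hb : ∀ i j : Fin t, i ≤ j → F.deg 2 (Fin.cast h2.symm j) ≤ F.deg 2 (Fin.cast h2.symm i)) :
    (∀ i : Fin t, 1 ≤ F.deg 2 (Fin.cast h2.symm i) - F.deg 1 (Fin.cast h1.symm i.castSucc) ∧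
        1 ≤ F.deg 2 (Fin.cast h2.symm i) - F.deg 1 (Fin.cast h1.symm i.succ)) ∧
      ∑ i : Fin (t + 1), F.deg 1 (Fin.cast h1.symm i) = ∑ j : Fin t, F.deg 2 (Fin.cast h2.symm j) := by
  classical
  have h1m : (1 : MvPolynomial (Fin 3) k) ∉ (GrSyz.irrel (GrSyz.stdGr k (Fin 3))).toIdeal :=
    GrSyzBasic.one_not_mem_irrel k (Fin 3)
  have hrk3 : F.rk 3 = 0 := hlen 3 (by norm_num)
  obtain ⟨D, hD⟩ : ∃ D : Matrix (Fin (t + 1)) (Fin t) (MvPolynomial (Fin 3) k),
      D = fun p q => F.d 1 (Fin.cast h1.symm p) (Fin.cast h2.symm q) := ⟨_, rfl⟩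
  -- injectivity of the last differential
  have hinj : ∀ W : Fin t → MvPolynomial (Fin 3) k, D.mulVec W = 0 → W = 0 := by
    intro W hW
    have hW' : (fun b : Fin (F.rk 2) => W (Fin.cast h2 b)) ∈
        LinearMap.ker (Matrix.mulVecLin (F.d 1)) := by
      rw [LinearMap.mem_ker, Matrix.mulVecLin_apply]
      funext a
      have h0 := congrFun hW (Fin.cast h1 a)
      rw [Matrix.mulVec, dotProduct] at h0 ⊢
      rw [Pi.zero_apply] at h0 ⊢
      rw [← h0]
      refine Fintype.sum_equiv (finCongr h2) _ _ (fun b => ?_)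
      rw [hD]
      rfl
    rw [F.exact_succ 1] at hW'
    obtain ⟨v, hv⟩ := hW'
    have hemp : IsEmpty (Fin (F.rk (1 + 1 + 1))) := by
      rw [show F.rk (1 + 1 + 1) = 0 from hrk3]; infer_instance
    have hv0 : v = 0 := Subsingleton.elim _ _
    rw [hv0, map_zero] at hv
    funext q
    have := congrFun hv (Fin.cast h2.symm q)
    simpa using this.symm
  -- rows of d_0 are killed by D
  have hg : ∀ p : Fin (t + 1), ∃ g : Fin (t + 1) → MvPolynomial (Fin 3) k,
      Matrix.vecMul g D = 0 ∧ g p ≠ 0 := by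
    intro p
    obtain ⟨a0, ha0⟩ := GrSyzBasic.exists_d_ne_zero F hF h1m 0 (Fin.cast h1.symm p)
    refine ⟨fun p' => F.d 0 a0 (Fin.cast h1.symm p'), ?_, ha0⟩
    funext q
    have hcol : (fun b : Fin (F.rk 1) => F.d 1 b (Fin.cast h2.symm q)) ∈
        LinearMap.range (Matrix.mulVecLin (F.d 1)) :=
      ⟨Pi.single (Fin.cast h2.symm q) 1, by
        rw [Matrix.mulVecLin_apply, Matrix.mulVec_single_one]; rfl⟩
    rw [← F.exact_succ 0, LinearMap.mem_ker, Matrix.mulVecLin_apply] at hcol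
    have h0 := congrFun hcol a0
    rw [Matrix.mulVec, dotProduct] at h0
    rw [Matrix.vecMul, dotProduct, Pi.zero_apply]
    rw [Pi.zero_apply] at h0
    rw [← h0]
    refine Fintype.sum_equiv (finCongr h1.symm) _ _ (fun p' => ?_)
    rw [hD]
    rfl
  have hzero : ∀ p q, F.deg 2 (Fin.cast h2.symm q) - F.deg 1 (Fin.cast h1.symm p) ≤ 0 →
      D p q = 0 := by
    intro p q hpq
    rw [hD]
    exact GrSyzBasic.eq_zero_of_mem_stdGr_of_mem_irrel hpq (F.d_mem 1 _ _) (hF 1 _ _)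
  refine ⟨fun i => GrSyzHB.degrees D hinj hg (fun p => F.deg 1 (Fin.cast h1.symm p))
    (fun q => F.deg 2 (Fin.cast h2.symm q)) hzero ha hb i, ?_⟩
  -- Part III: the Hilbert function is bounded
  obtain ⟨d0, hd0⟩ : ∃ d0 : ℤ, d0 = ∑ b : Fin (F.rk 0), |F.deg 0 b| + ∑ b : Fin (F.rk 1), |F.deg 1 b|
      + ∑ b : Fin (F.rk 2), |F.deg 2 b| := ⟨_, rfl⟩
  have hle0 : ∀ b : Fin (F.rk 0), F.deg 0 b ≤ d0 := by
    intro b
    have h1 := Finset.single_le_sum (f := fun b : Fin (F.rk 0) => |F.deg 0 b|)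
      (fun _ _ => abs_nonneg _) (Finset.mem_univ b)
    have h2 : 0 ≤ ∑ b : Fin (F.rk 1), |F.deg 1 b| := Finset.sum_nonneg (fun _ _ => abs_nonneg _)
    have h3 : 0 ≤ ∑ b : Fin (F.rk 2), |F.deg 2 b| := Finset.sum_nonneg (fun _ _ => abs_nonneg _)
    have := le_abs_self (F.deg 0 b)
    omega
  have hle1 : ∀ b : Fin (F.rk 1), F.deg 1 b ≤ d0 := by
    intro b
    have h1 := Finset.single_le_sum (f := fun b : Fin (F.rk 1) => |F.deg 1 b|)
      (fun _ _ => abs_nonneg _) (Finset.mem_univ b)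
    have h2 : 0 ≤ ∑ b : Fin (F.rk 0), |F.deg 0 b| := Finset.sum_nonneg (fun _ _ => abs_nonneg _)
    have h3 : 0 ≤ ∑ b : Fin (F.rk 2), |F.deg 2 b| := Finset.sum_nonneg (fun _ _ => abs_nonneg _)
    have := le_abs_self (F.deg 1 b)
    omega
  have hle2 : ∀ b : Fin (F.rk 2), F.deg 2 b ≤ d0 := by
    intro b
    have h1 := Finset.single_le_sum (f := fun b : Fin (F.rk 2) => |F.deg 2 b|)
      (fun _ _ => abs_nonneg _) (Finset.mem_univ b)
    have h2 : 0 ≤ ∑ b : Fin (F.rk 0), |F.deg 0 b| := Finset.sum_nonneg (fun _ _ => abs_nonneg _)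
    have h3 : 0 ≤ ∑ b : Fin (F.rk 1), |F.deg 1 b| := Finset.sum_nonneg (fun _ _ => abs_nonneg _)
    have := le_abs_self (F.deg 2 b)
    omega
  -- the quadratic expression
  have hq : ∀ (i : ℕ) (d : ℤ), (∀ b : Fin (F.rk i), F.deg i b ≤ d) →
      2 * ∑ b : Fin (F.rk i),
        (if F.deg i b ≤ d then ((Nat.choose (2 + (d - F.deg i b).toNat) 2 : ℕ) : ℤ) else 0) =
      (F.rk i : ℤ) * d ^ 2 + (3 * (F.rk i : ℤ) - 2 * ∑ b : Fin (F.rk i), F.deg i b) * d +
        ∑ b : Fin (F.rk i), (F.deg i b ^ 2 - 3 * F.deg i b + 2) := by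
    intro i d hd
    have hterm : ∀ b : Fin (F.rk i),
        2 * (if F.deg i b ≤ d then ((Nat.choose (2 + (d - F.deg i b).toNat) 2 : ℕ) : ℤ) else 0) =
          d ^ 2 + (3 - 2 * F.deg i b) * d + (F.deg i b ^ 2 - 3 * F.deg i b + 2) := by
      intro b
      rw [if_pos (hd b)]
      have h2 := GrSyzPts.two_mul_choose_two (d - F.deg i b).toNat
      have h3 : (((d - F.deg i b).toNat : ℕ) : ℤ) = d - F.deg i b :=
        Int.toNat_of_nonneg (by have := hd b; omega)
      have h4 : (2 : ℤ) * ((Nat.choose (2 + (d - F.deg i b).toNat) 2 : ℕ) : ℤ) =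
          ((((d - F.deg i b).toNat : ℕ) : ℤ) + 2) * ((((d - F.deg i b).toNat : ℕ) : ℤ) + 1) := by
        exact_mod_cast h2
      rw [h4, h3]
      ring
    rw [Finset.mul_sum, Finset.sum_congr rfl (fun b _ => hterm b)]
    simp only [Finset.sum_add_distrib, Finset.sum_const, Finset.card_univ, Fintype.card_fin,
      nsmul_eq_mul, ← Finset.sum_mul, Finset.sum_sub_distrib, ← Finset.mul_sum]
    ring
  have hbd : ∀ d : ℤ, d0 ≤ d →
      0 ≤ ((F.rk 0 : ℤ) - F.rk 1 + F.rk 2) * d ^ 2 +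
        ((3 * (F.rk 0 : ℤ) - 2 * ∑ b : Fin (F.rk 0), F.deg 0 b) -
          (3 * (F.rk 1 : ℤ) - 2 * ∑ b : Fin (F.rk 1), F.deg 1 b) +
          (3 * (F.rk 2 : ℤ) - 2 * ∑ b : Fin (F.rk 2), F.deg 2 b)) * d +
        (∑ b : Fin (F.rk 0), (F.deg 0 b ^ 2 - 3 * F.deg 0 b + 2) -
          ∑ b : Fin (F.rk 1), (F.deg 1 b ^ 2 - 3 * F.deg 1 b + 2) +
          ∑ b : Fin (F.rk 2), (F.deg 2 b ^ 2 - 3 * F.deg 2 b + 2)) ∧
      ((F.rk 0 : ℤ) - F.rk 1 + F.rk 2) * d ^ 2 +
        ((3 * (F.rk 0 : ℤ) - 2 * ∑ b : Fin (F.rk 0), F.deg 0 b) -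
          (3 * (F.rk 1 : ℤ) - 2 * ∑ b : Fin (F.rk 1), F.deg 1 b) +
          (3 * (F.rk 2 : ℤ) - 2 * ∑ b : Fin (F.rk 2), F.deg 2 b)) * d +
        (∑ b : Fin (F.rk 0), (F.deg 0 b ^ 2 - 3 * F.deg 0 b + 2) -
          ∑ b : Fin (F.rk 1), (F.deg 1 b ^ 2 - 3 * F.deg 1 b + 2) +
          ∑ b : Fin (F.rk 2), (F.deg 2 b ^ 2 - 3 * F.deg 2 b + 2)) ≤ 2 * (Z.card : ℤ) := by
    intro d hd
    have hfp := GrSyzHilb.finrank_piece (r := 2) F d 2 hlen
    rw [Finset.sum_range_succ, Finset.sum_range_succ, Finset.sum_range_one] at hfp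
    have e0 := hq 0 d (fun b => (hle0 b).trans hd)
    have e1 := hq 1 d (fun b => (hle1 b).trans hd)
    have e2 := hq 2 d (fun b => (hle2 b).trans hd)
    have hub : (Module.finrank k ↥(ℳ d) : ℤ) ≤ (Z.card : ℤ) := by
      exact_mod_cast GrSyzPts.finrank_piece_le (r := 2) ℳ π hπg hπ Z I hI hker d
    have hlb : (0 : ℤ) ≤ (Module.finrank k ↥(ℳ d) : ℤ) := Int.natCast_nonneg _
    constructor <;> nlinarith
  obtain ⟨hA, hB⟩ := GrSyzPts.quad_bdd _ _ _ _ d0 hbd
  have hrk0 : F.rk 0 = 1 := by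
    have : (F.rk 0 : ℤ) - F.rk 1 + F.rk 2 = 0 := hA
    have c1 : (F.rk 1 : ℤ) = (t : ℤ) + 1 := by exact_mod_cast h1
    have c2 : (F.rk 2 : ℤ) = (t : ℤ) := by exact_mod_cast h2
    rw [c1, c2] at this
    omega
  -- the generator of F_0 has degree 0
  have hsub : Subsingleton (Fin (F.rk 0)) := by rw [hrk0]; infer_instance
  have hdeg0 : ∀ b : Fin (F.rk 0), F.deg 0 b = 0 := by
    intro b
    have hge : 0 ≤ F.deg 0 b := by
      by_contra hneg
      have hbot := GrSyzPts.piece_eq_bot_of_neg (r := 2) ℳ π hπg hπ (not_le.mp hneg)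
      have hmem := F.aug_mem b
      rw [hbot, Submodule.mem_bot] at hmem
      exact GrSyzPts.aug_ne_zero F hF h1m b hmem
    have hle : F.deg 0 b ≤ 0 := by
      by_contra hpos
      have hpos' : ∀ b' : Fin (F.rk 0), 0 < F.deg 0 b' := by
        intro b'
        rw [Subsingleton.elim b' b]
        exact not_le.mp hpos
      -- π 1 ≠ 0
      have hπ1 : π 1 ≠ 0 := by
        intro h0
        have : (1 : MvPolynomial (Fin 3) k) ∈ LinearMap.ker π := h0
        rw [hker, hI] at this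
        obtain ⟨p, hp⟩ := hZne
        have := this p hp 0
        rw [GrSyzPts.homogeneousComponent_of_mem_stdGr (k := k) (r := 2) (d := 0)
          (SetLike.GradedOne.one_mem) 0] at this
        simp at this
      have hπ1mem : π 1 ∈ ℳ 0 := hπg 0 1 (SetLike.GradedOne.one_mem)
      obtain ⟨v, hv⟩ := F.aug_surjective (π 1)
      have hcomp := GrSyzHilb.aug_comp ℳ (F.deg 0) 0 F.aug F.aug_mem v
      rw [hv, DirectSum.decompose_of_mem_same ℳ hπ1mem] at hcomp
      apply hπ1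
      rw [← hcomp]
      have hzero' : GrSyzHilb.comp (F.deg 0) 0 v = 0 := by
        funext b'
        have hb' : (0 : ℤ) - F.deg 0 b' < 0 := by have := hpos' b'; omega
        have hmem : GrSyzHilb.comp (F.deg 0) 0 v b' ∈ GrSyz.stdGr k (Fin 3) (0 - F.deg 0 b') :=
          Submodule.coe_mem _
        rw [GrSyzPts.stdGr_neg_eq_bot (k := k) (r := 2) hb', Submodule.mem_bot] at hmem
        exact hmem
      rw [hzero', map_zero]
    omega
  have hs0 : ∑ b : Fin (F.rk 0), F.deg 0 b = 0 := Finset.sum_eq_zero (fun b _ => hdeg0 b)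
  have e1 : ∑ i : Fin (t + 1), F.deg 1 (Fin.cast h1.symm i) = ∑ b : Fin (F.rk 1), F.deg 1 b :=
    Fintype.sum_equiv (finCongr h1.symm) _ _ (fun _ => rfl)
  have e2 : ∑ j : Fin t, F.deg 2 (Fin.cast h2.symm j) = ∑ b : Fin (F.rk 2), F.deg 2 b :=
    Fintype.sum_equiv (finCongr h2.symm) _ _ (fun _ => rfl)
  rw [e1, e2]
  have c0 : (F.rk 0 : ℤ) = 1 := by exact_mod_cast hrk0
  have c1 : (F.rk 1 : ℤ) = (t : ℤ) + 1 := by exact_mod_cast h1
  have c2 : (F.rk 2 : ℤ) = (t : ℤ) := by exact_mod_cast h2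
  rw [hs0, c0, c1, c2] at hB
  linarith

end Groth.Agent.S15432
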