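import Groth.Statements.S15433
import Mathlib
import Groth.Agent.Lib.Helper19.GrReg8
import Groth.Agent.Lib.Helper19.GrLen2

set_option autoImplicit false
universe u
open GrSyz

namespace Groth.Agent.S15433

-- MARK
open GrLC MvPolynomial Groth.Agent.Lib.helper19.GrMod Groth.Agent.Lib.helper19.GrLes
  Groth.Agent.Lib.helper19.GrConv Groth.Agent.Lib.helper19.GrPoly Groth.Agent.Lib.helper19.GrFin
  Groth.Agent.Lib.helper19.GrLen Groth.Agent.Lib.helper19.GrReg

theorem mem_ofList_smul_top {R : Type u} [CommRing R] {M : Type u} [AddCommGroup M] [Module R M]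
    (ys : List R) (m : M) (hm : m ∈ Ideal.ofList ys • (⊤ : Submodule R M)) :
    ∃ f : Fin ys.length → M, m = ∑ j, ys.get j • f j := by
  classical
  let Ξ : (Fin ys.length → M) →ₗ[R] M :=
    { toFun := fun f => ∑ j, ys.get j • f j
      map_add' := fun f f' => by simp [smul_add, Finset.sum_add_distrib]
      map_smul' := fun a f => by
        simp only [Pi.smul_apply, RingHom.id_apply, Finset.smul_sum]
        exact Finset.sum_congr rfl (fun j _ => smul_comm _ _ _) }
  have hle : Ideal.ofList ys • (⊤ : Submodule R M) ≤ LinearMap.range Ξ := by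
    rw [Submodule.smul_le]
    intro r hr
    induction hr using Submodule.span_induction with
    | mem r hr =>
      intro m _
      obtain ⟨j, rfl⟩ := List.mem_iff_get.1 hr
      refine ⟨Pi.single j m, ?_⟩
      show ∑ i, ys.get i • (Pi.single j m : Fin ys.length → M) i = _
      rw [Finset.sum_eq_single j]
      · rw [Pi.single_eq_same]
      · intro i _ hij
        rw [Pi.single_eq_of_ne hij, smul_zero]
      · intro h
        exact absurd (Finset.mem_univ j) h
    | zero => intro m _; rw [zero_smul]; exact Submodule.zero_mem _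
    | add a b _ _ ha hb =>
      intro m hm
      rw [add_smul]
      exact Submodule.add_mem _ (ha m hm) (hb m hm)
    | smul a b _ hb =>
      intro m _
      rw [smul_eq_mul, mul_comm, mul_smul]
      exact hb (a • m) Submodule.mem_top
  obtain ⟨f, hf⟩ := hle hm
  exact ⟨f, hf.symm⟩



/-- Let k be a field, S = k[x_0, …, x_r] graded by degree, 𝔪 = (x_0, …, x_r), and M = S/I a graded
quotient of S, given with a surjective degree-preserving S-linear map π : S → M whose kernel I
contains no nonzero linear form. Let y_0, …, y_t be linear forms forming a weakly regular sequence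
on M (each a non-zerodivisor modulo the previous ones) and N = M/(y_0, …, y_t)M, given as a graded
module with a surjective degree-preserving S-linear map σ : M → N with kernel (y_0, …, y_t)M, and
suppose N has finite length ℓ. Then reg M + (r − t) ≤ ℓ, reg being the Castelnuovo–Mumford
regularity of M in the sense of minimal graded free resolutions. (The published statement is reg S_X
≤ deg X − codim X for an arithmetically Cohen–Macaulay subvariety X of P^r not contained in a
hyperplane; this row is the algebraic statement its proof establishes, with S_X any graded quotient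
of S by an ideal without linear forms, the maximal regular sequence of linear forms given, deg X
replaced by the length of S_X/(y_0, …, y_t)S_X and codim X by r − t, which agree with the degree and
the codimension in that situation.) -/
theorem result (k : Type u) [Field k] (r : ℕ)
    (M : Type u) [AddCommGroup M] [Module k M] [Module (MvPolynomial (Fin (r + 1)) k) M]
    [IsScalarTower k (MvPolynomial (Fin (r + 1)) k) M] [Module.Finite (MvPolynomial (Fin (r + 1)) k) M]
    (ℳ : ℤ → Submodule k M) [DirectSum.Decomposition ℳ] [SetLike.GradedSMul (GrSyz.stdGr k (Fin (r + 1))) ℳ]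
    (π : MvPolynomial (Fin (r + 1)) k →ₗ[MvPolynomial (Fin (r + 1)) k] M) (hπ : Function.Surjective π)
    (hπg : GrLC.IsGrHom (GrSyz.stdGr k (Fin (r + 1))) ℳ π)
    (hlin : ∀ x : MvPolynomial (Fin (r + 1)) k, x ∈ GrSyz.stdGr k (Fin (r + 1)) 1 → π x = 0 → x = 0)
    (ys : List (MvPolynomial (Fin (r + 1)) k)) (hys : ∀ y ∈ ys, y ∈ GrSyz.stdGr k (Fin (r + 1)) 1)
    (hreg : RingTheory.Sequence.IsWeaklyRegular M ys)
    (N : Type u) [AddCommGroup N] [Module k N] [Module (MvPolynomial (Fin (r + 1)) k) N]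
    [IsScalarTower k (MvPolynomial (Fin (r + 1)) k) N]
    (𝒩 : ℤ → Submodule k N) [DirectSum.Decomposition 𝒩] [SetLike.GradedSMul (GrSyz.stdGr k (Fin (r + 1))) 𝒩]
    (σ : M →ₗ[MvPolynomial (Fin (r + 1)) k] N) (hσ : Function.Surjective σ) (hσg : GrLC.IsGrHom ℳ 𝒩 σ)
    (hker : LinearMap.ker σ = Ideal.ofList ys • (⊤ : Submodule (MvPolynomial (Fin (r + 1)) k) M))
    (ℓ : ℕ) (hℓ : Module.length (MvPolynomial (Fin (r + 1)) k) N = (ℓ : ℕ∞)) :
    GrSyz.reg (GrSyz.stdGr k (Fin (r + 1))) ℳ (GrSyz.irrel (GrSyz.stdGr k (Fin (r + 1)))).toIdeal + ((((r : ℤ) + 1 - (ys.length : ℤ) : ℤ) : WithTop ℤ) : WithBot (WithTop ℤ)) ≤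
      (((ℓ : ℤ) : WithTop ℤ) : WithBot (WithTop ℤ)) := by
  classical
  have hN : IsFiniteLength (MvPolynomial (Fin (r + 1)) k) N :=
    Module.length_ne_top_iff.1 (by rw [hℓ]; exact ENat.natCast_ne_top ℓ)
  have hσg' : GrLC.IsGrHom (addGr ℳ) (addGr 𝒩) σ := hσg
  have hπg' : GrLC.IsGrHom (gr k (r + 1)) (addGr ℳ) π := hπg
  have hreg_eq : GrSyz.reg (GrSyz.stdGr k (Fin (r + 1))) ℳ
      (GrSyz.irrel (GrSyz.stdGr k (Fin (r + 1)))).toIdeal = GrLC.endDeg (addGr 𝒩) := by
    apply reg_eq k r M ℳ
    intro d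
    rw [lcreg_seq (mm k (r + 1)) ys M (addGr ℳ) N (addGr 𝒩) σ hσg' hσ hker
      (fun y hy => ⟨hys y hy, mem_mm_of_mem_gr k (r + 1) one_pos (hys y hy)⟩) hreg d]
    exact lcreg_iff_of_tors k (r + 1) N 𝒩 (isTors_of_finiteLength k (r + 1) N 𝒩 hN) d
  rw [hreg_eq]
  apply endDeg_add_le
  intro g hg
  rw [cast_add, cast_le]
  have hg' : 𝒩 g ≠ ⊥ := by
    intro h
    apply hg
    rw [eq_bot_iff]
    intro x hx
    have hx' : x ∈ 𝒩 g := hx
    rw [h] at hx'
    rw [AddSubgroup.mem_bot]
    exact (Submodule.mem_bot k).1 hx'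
  have h1mem : (1 : MvPolynomial (Fin (r + 1)) k) ∈ GrSyz.stdGr k (Fin (r + 1)) 0 :=
    isWeightedHomogeneous_one k (fun _ : Fin (r + 1) => (1 : ℤ))
  have hπ1 : π 1 ∈ ℳ 0 := hπg 0 1 h1mem
  have hν : σ (π 1) ∈ 𝒩 0 := hσg 0 _ hπ1
  have hgen : ∀ x : N, ∃ s : MvPolynomial (Fin (r + 1)) k, s • σ (π 1) = x := by
    intro x
    obtain ⟨m, rfl⟩ := hσ x
    obtain ⟨s, rfl⟩ := hπ m
    exact ⟨s, by rw [← map_smul, ← map_smul, smul_eq_mul, mul_one]⟩
  -- degree zero part of M is spanned by π 1
  have hM0 : ∀ m : M, m ∈ ℳ 0 → ∃ c : k, m = c • π 1 := by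
    intro m hm
    obtain ⟨s, rfl⟩ := hπ m
    have hm' : π s ∈ addGr ℳ 0 := hm
    have h1 := grHom_decompose (gr k (r + 1)) (addGr ℳ) π hπg' s 0
    rw [DirectSum.decompose_of_mem_same (addGr ℳ) hm', coe_decompose_addGr, decompose_zero_eq_C] at h1
    refine ⟨constantCoeff s, ?_⟩
    rw [h1, ← mul_one (C (constantCoeff s)), ← smul_eq_mul, map_smul, ← algebraMap_eq, algebraMap_smul]
  let Ψ : (Fin ys.length → k) →ₗ[k] MvPolynomial (Fin (r + 1)) k :=
    Fintype.linearCombination k (fun j => ys.get j)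
  have hΨa : ∀ d, Ψ d = ∑ j, d j • ys.get j := fun d => Fintype.linearCombination_apply k _ d
  have hΨ : ∀ c : Fin (r + 1) → k,
      (∑ i, c i • (X i : MvPolynomial (Fin (r + 1)) k)) • σ (π 1) = 0 →
      ∃ d, Ψ d = ∑ i, c i • (X i : MvPolynomial (Fin (r + 1)) k) := by
    intro c hc
    have hx1 : (∑ i, c i • (X i : MvPolynomial (Fin (r + 1)) k)) ∈ GrSyz.stdGr k (Fin (r + 1)) 1 :=
      Submodule.sum_mem _ (fun i _ => Submodule.smul_mem _ _ (X_mem k (r + 1) i))
    generalize (∑ i, c i • (X i : MvPolynomial (Fin (r + 1)) k)) = x at hc hx1 ⊢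
    have hσ0 : σ (π x) = 0 := by
      rw [← hc, ← map_smul, ← map_smul, smul_eq_mul, mul_one]
    have hmem : π x ∈ LinearMap.ker σ := hσ0
    rw [hker] at hmem
    obtain ⟨f, hf⟩ := mem_ofList_smul_top ys (π x) hmem
    have hπx : π x ∈ addGr ℳ 1 := hπg 1 x hx1
    have h2 : π x = ∑ j, ys.get j •
        ((DirectSum.decompose (addGr ℳ) (f j) 0 : addGr ℳ 0) : M) := by
      have h3 := congrArg (fun m => ((DirectSum.decompose (addGr ℳ) m 1 : addGr ℳ 1) : M)) hf
      simp only at h3
      rw [DirectSum.decompose_of_mem_same (addGr ℳ) hπx, DirectSum.decompose_sum,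
        DFinsupp.finsetSum_apply, AddSubgroup.val_finsetSum] at h3
      rw [h3]
      refine Finset.sum_congr rfl (fun j _ => ?_)
      have hyj : ys.get j ∈ gr k (r + 1) 1 := hys _ (List.get_mem ys j)
      rw [decompose_smul_apply (gr k (r + 1)) (addGr ℳ) hyj (f j) 1]
      rw [coe_decompose_congr (addGr ℳ) (f j) (show (1 : ℤ) - 1 = 0 by norm_num)]
    choose d hd using fun j => hM0 _ ((DirectSum.decompose (addGr ℳ) (f j) 0).2)
    refine ⟨d, ?_⟩
    have h4 : π x = π (Ψ d) := by
      rw [h2, hΨa, map_sum]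
      refine Finset.sum_congr rfl (fun j _ => ?_)
      rw [hd j]
      have h7 : π (d j • ys.get j) = (d j • ys.get j) • π 1 := by
        rw [← map_smul, smul_eq_mul, mul_one]
      rw [h7, smul_assoc, smul_comm]
    have h5 : Ψ d ∈ GrSyz.stdGr k (Fin (r + 1)) 1 := by
      rw [hΨa]
      exact Submodule.sum_mem _ (fun j _ => Submodule.smul_mem _ _ (hys _ (List.get_mem ys j)))
    have h6 := hlin (x - Ψ d) (Submodule.sub_mem _ hx1 h5) (by rw [map_sub, h4, sub_self])
    exact (sub_eq_zero.1 h6).symm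
  have hfin := cyc_length k (r + 1) N 𝒩 (σ (π 1)) hν hgen ys.length Ψ hΨ g hg' ℓ hℓ
  push_cast at hfin
  omega

end Groth.Agent.S15433
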