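import Groth.Statements.S15434
import Groth.Agent.Lib.Helper20.TildeRes
import Groth.Agent.Lib.Helper20.RegRes
import Groth.Agent.Lib.Helper20.SumTwReg

set_option autoImplicit false
universe u
open GrSyz

namespace Groth.Agent.S15434

open CategoryTheory CategoryTheory.Limits AlgebraicGeometry in
/-- Let k be a field, S = k[x_0, …, x_r] graded by degree, 𝔪 = (x_0, …, x_r), and M a finitely generated
ℤ-graded S-module; M̃ denotes the O-module on P^r_k associated with the pieces of M of non-negative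
degree (it depends only on the pieces of large degree). If the Castelnuovo–Mumford regularity of M
in the sense of minimal graded free resolutions is at most d, then the sheaf M̃ is d-regular:
H^i(P^r_k, M̃(d − i)) = 0 for 1 ≤ i ≤ r. In words, reg M̃ ≤ reg M. (The published statement also
asserts that equality holds exactly when M is the module of twisted global sections of M̃; that
characterisation fails in the 'only if' direction, for instance for M = S ⊕ k, and only the
inequality is stated here.) -/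
theorem result (k : Type u) [Field k] (r : ℕ)
    (M : Type u) [AddCommGroup M] [Module k M] [Module (MvPolynomial (Fin (r + 1)) k) M]
    [IsScalarTower k (MvPolynomial (Fin (r + 1)) k) M] [Module.Finite (MvPolynomial (Fin (r + 1)) k) M]
    (ℳ : ℤ → Submodule k M) [DirectSum.Decomposition ℳ] [SetLike.GradedSMul (GrSyz.stdGr k (Fin (r + 1))) ℳ]
    [SetLike.GradedSMul (CohB1.polyGrading r k) (fun n : ℕ => ℳ (n : ℤ))] (d : ℤ)
    (hd : GrSyz.IsRegLE (GrSyz.stdGr k (Fin (r + 1))) ℳ (GrSyz.irrel (GrSyz.stdGr k (Fin (r + 1)))).toIdeal d) :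
    Curv2.IsMRegular k r (GrTilde.tilde (CohB1.polyGrading r k) (fun n : ℕ => ℳ (n : ℤ)) 0) d := by
  obtain ⟨F, -, hgen⟩ := hd
  -- the matrices compose to zero
  have hDD : ∀ s : ℕ, F.d s * F.d (s + 1) = 0 := by
    intro s
    rw [Matrix.ext_iff_mulVec]
    intro v
    rw [Matrix.zero_mulVec, ← Matrix.mulVec_mulVec]
    have h1 : (F.d (s + 1)).mulVec v ∈ LinearMap.range (Matrix.mulVecLin (F.d (s + 1))) := ⟨v, rfl⟩
    rw [← F.exact_succ s] at h1
    exact h1
  have hker : ∀ (s : ℕ) (c : Fin (F.rk (s + 1)) → MvPolynomial (Fin (r + 1)) k),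
      (F.d s).mulVec c = 0 → ∃ h, c = (F.d (s + 1)).mulVec h := by
    intro s c hc
    have h1 : c ∈ LinearMap.ker (Matrix.mulVecLin (F.d s)) := hc
    rw [F.exact_succ s] at h1
    obtain ⟨h, hh⟩ := h1
    exact ⟨h, hh.symm⟩
  have haug0 : ∀ e : Fin (F.rk 1), ∑ b, F.d 0 b e • F.aug b = 0 := by
    intro e
    have h1 : (F.d 0).mulVec (Pi.single e 1) ∈ LinearMap.range (Matrix.mulVecLin (F.d 0)) :=
      ⟨_, rfl⟩
    rw [← F.exact_zero] at h1
    have h2 : Fintype.linearCombination (MvPolynomial (Fin (r + 1)) k) F.aug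
        ((F.d 0).mulVec (Pi.single e 1)) = 0 := h1
    rw [Fintype.linearCombination_apply] at h2
    rw [← h2]
    refine Finset.sum_congr rfl fun b _ => ?_
    rw [Matrix.mulVec_single_one]
    rfl
  have hker0 : ∀ c : Fin (F.rk 0) → MvPolynomial (Fin (r + 1)) k,
      ∑ b, c b • F.aug b = 0 → ∃ h, c = (F.d 0).mulVec h := by
    intro c hc
    have h1 : c ∈ LinearMap.ker (Fintype.linearCombination (MvPolynomial (Fin (r + 1)) k) F.aug) := by
      rw [LinearMap.mem_ker, Fintype.linearCombination_apply]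
      exact hc
    rw [F.exact_zero] at h1
    obtain ⟨h, hh⟩ := h1
    exact ⟨h, hh.symm⟩
  have hsurj : ∀ m : M, ∃ c : Fin (F.rk 0) → MvPolynomial (Fin (r + 1)) k,
      m = ∑ b, c b • F.aug b := by
    intro m
    obtain ⟨c, hc⟩ := F.aug_surjective m
    refine ⟨c, ?_⟩
    rw [← hc, Fintype.linearCombination_apply]
  -- the sheaf-level resolution
  let X : ℕ → (CohB1.ProjSpace r k).Modules := fun s =>
    Groth.Agent.Lib.helper20.SumTw.sumTw (k := k) (r := r) (F.deg s)
  let δ : ∀ s : ℕ, X (s + 1) ⟶ X s := fun s =>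
    Groth.Agent.Lib.helper20.SumTw.matHom (F.deg s) (F.deg (s + 1)) (F.d s) (F.d_mem s)
  have w : ∀ s : ℕ, δ (s + 1) ≫ δ s = 0 := fun s =>
    Groth.Agent.Lib.helper20.SumTw.matHom_comp_eq_zero (F.deg s) (F.deg (s + 1)) (F.deg (s + 2))
      (F.d s) (F.d_mem s) (F.d (s + 1)) (F.d_mem (s + 1)) (hDD s)
  have hex : ∀ s : ℕ, (ShortComplex.mk (δ (s + 1)) (δ s) (w s)).Exact := fun s =>
    Groth.Agent.Lib.helper20.SumTw.matHom_exact (F.deg s) (F.deg (s + 1)) (F.deg (s + 2))
      (F.d s) (F.d_mem s) (F.d (s + 1)) (F.d_mem (s + 1)) (w s) (hker s)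
  have hcoh : ∀ s : ℕ, Coh.IsCoh (X s) := fun s =>
    Groth.Agent.Lib.helper20.SumTwReg.isCoh_sigma' (F.rk s) (fun b => -F.deg s b)
  have hreg : ∀ s : ℕ, Curv2.IsMRegular k r (X s) (d + s) := fun s =>
    Groth.Agent.Lib.helper20.SumTwReg.regular_sigma (F.rk s) (fun b => -F.deg s b) (d + s)
      (fun b => by rw [neg_neg]; exact hgen s b)
  let T : (CohB1.ProjSpace r k).Modules :=
    GrTilde.tilde (CohB1.polyGrading r k) (fun n : ℕ => ℳ (n : ℤ)) 0
  let ε : X 0 ⟶ T :=
    Groth.Agent.Lib.helper20.TildeRes.augHom (F.deg 0) F.aug F.aug_mem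
  have hε : Epi ε :=
    Groth.Agent.Lib.helper20.TildeRes.augHom_epi (F.deg 0) F.aug F.aug_mem hsurj
  have w0 : δ 0 ≫ ε = 0 :=
    Groth.Agent.Lib.helper20.TildeRes.matHom_augHom_eq_zero (F.deg 0) (F.deg 1) F.aug F.aug_mem
      (F.d 0) (F.d_mem 0) haug0
  have hex0 : (ShortComplex.mk (δ 0) ε w0).Exact :=
    Groth.Agent.Lib.helper20.TildeRes.augHom_exact (F.deg 0) (F.deg 1) F.aug F.aug_mem
      (F.d 0) (F.d_mem 0) w0 hker0
  exact Groth.Agent.Lib.helper20.RegRes.regular_of_resolution X δ w hex hcoh d hreg (F := T) ε w0 hex0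

end Groth.Agent.S15434
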