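import Groth.Statements.S15437
import Groth.Agent.Lib.Helper7.GrSyzHilb

set_option autoImplicit false
universe u
open GrSyz

namespace Groth.Agent.S15437


open Groth.Agent.Lib.helper7

/-- Let k be a field, S = k[x_0, …, x_r] graded by degree and M a ℤ-graded S-module with a finite graded
free resolution F of length at most m by free modules of finite rank with homogeneous bases; write
β_{i,j} for the number of basis vectors of F_i of degree j (the graded Betti numbers when F is
minimal) and B_j = Σ_{i ≤ m} (−1)^i β_{i,j}. Then for every integer d, dim_k M_d = Σ_j B_j C(r + d −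
j, r), where a binomial with d < j counts as zero and only finitely many j contribute; and the B_j
are recovered from the Hilbert function by B_j = dim_k M_j − Σ_{n < j} B_n C(r + j − n, r). (Stated
for any finite graded free resolution; the published statement takes the minimal one.) -/
theorem result (k : Type u) [Field k] (r : ℕ)
    (M : Type u) [AddCommGroup M] [Module k M] [Module (MvPolynomial (Fin (r + 1)) k) M]
    [IsScalarTower k (MvPolynomial (Fin (r + 1)) k) M] [Module.Finite (MvPolynomial (Fin (r + 1)) k) M]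
    (ℳ : ℤ → Submodule k M) [DirectSum.Decomposition ℳ] [SetLike.GradedSMul (GrSyz.stdGr k (Fin (r + 1))) ℳ]
    (F : GrSyz.FreeRes (GrSyz.stdGr k (Fin (r + 1))) ℳ) (m : ℕ) (hF : F.HasLengthLE m) :
    (∀ d : ℤ, (Module.finrank k ↥(ℳ d) : ℤ) =
        ∑ᶠ j : ℤ, (∑ i ∈ Finset.range (m + 1), (-1 : ℤ) ^ i * (F.betti i j : ℤ)) *
          (if j ≤ d then ((Nat.choose (r + (d - j).toNat) r : ℕ) : ℤ) else 0)) ∧
      ∀ j : ℤ, (∑ i ∈ Finset.range (m + 1), (-1 : ℤ) ^ i * (F.betti i j : ℤ)) =
        (Module.finrank k ↥(ℳ j) : ℤ) -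
          ∑ᶠ n : ℤ, (if n < j then (∑ i ∈ Finset.range (m + 1), (-1 : ℤ) ^ i * (F.betti i n : ℤ)) * ((Nat.choose (r + (j - n).toNat) r : ℕ) : ℤ) else 0) := by
  classical
  -- notation
  obtain ⟨B, hB⟩ : ∃ B : ℤ → ℤ, B = fun j =>
      ∑ i ∈ Finset.range (m + 1), (-1 : ℤ) ^ i * (F.betti i j : ℤ) := ⟨_, rfl⟩
  obtain ⟨c, hc⟩ : ∃ c : ℤ → ℤ → ℤ, c = fun d j =>
      (if j ≤ d then ((Nat.choose (r + (d - j).toNat) r : ℕ) : ℤ) else 0) := ⟨_, rfl⟩
  obtain ⟨T, hT⟩ : ∃ T : Finset ℤ, T =
      (Finset.range (m + 1)).biUnion (fun i => Finset.univ.image (F.deg i)) := ⟨_, rfl⟩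
  have hmemT : ∀ i ∈ Finset.range (m + 1), ∀ b : Fin (F.rk i), F.deg i b ∈ T := by
    intro i hi b
    rw [hT, Finset.mem_biUnion]
    exact ⟨i, hi, Finset.mem_image_of_mem _ (Finset.mem_univ b)⟩
  have hB0 : ∀ j, j ∉ T → B j = 0 := by
    intro j hj
    rw [hB]
    refine Finset.sum_eq_zero (fun i hi => ?_)
    have : F.betti i j = 0 := by
      unfold GrSyz.FreeRes.betti
      rw [Finset.card_eq_zero, Finset.filter_eq_empty_iff]
      intro b _ hb
      exact hj (hb ▸ hmemT i hi b)
    rw [this]; simp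
  -- the key finite-sum formula
  have star : ∀ d : ℤ, (Module.finrank k ↥(ℳ d) : ℤ) = ∑ j ∈ T, B j * c d j := by
    intro d
    rw [GrSyzHilb.finrank_piece F d m hF]
    have h1 : ∑ j ∈ T, B j * c d j =
        ∑ i ∈ Finset.range (m + 1), (-1 : ℤ) ^ i * ∑ j ∈ T, (F.betti i j : ℤ) * c d j := by
      rw [hB]
      simp only [Finset.sum_mul, Finset.mul_sum]
      rw [Finset.sum_comm]
      refine Finset.sum_congr rfl (fun i _ => Finset.sum_congr rfl (fun j _ => ?_))
      ring
    rw [h1]
    refine Finset.sum_congr rfl (fun i hi => ?_)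
    congr 1
    have h2 := Finset.sum_fiberwise_of_maps_to (s := (Finset.univ : Finset (Fin (F.rk i))))
      (t := T) (g := F.deg i) (fun b _ => hmemT i hi b) (fun b => c d (F.deg i b))
    have h3 : ∑ b : Fin (F.rk i), c d (F.deg i b) =
        ∑ b : Fin (F.rk i), (if F.deg i b ≤ d then
          ((Nat.choose (r + (d - F.deg i b).toNat) r : ℕ) : ℤ) else 0) := by
      rw [hc]
    rw [← h3, ← h2]
    refine Finset.sum_congr rfl (fun j _ => ?_)
    have h4 : ∀ b ∈ Finset.univ.filter (fun b : Fin (F.rk i) => F.deg i b = j),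
        c d (F.deg i b) = c d j := by
      intro b hb
      rw [(Finset.mem_filter.mp hb).2]
    rw [Finset.sum_congr rfl h4, Finset.sum_const, nsmul_eq_mul]
    rfl
  refine ⟨fun d => ?_, fun j => ?_⟩
  · rw [star d]
    have hsupp : (Function.support fun j : ℤ =>
        (∑ i ∈ Finset.range (m + 1), (-1 : ℤ) ^ i * (F.betti i j : ℤ)) *
          (if j ≤ d then ((Nat.choose (r + (d - j).toNat) r : ℕ) : ℤ) else 0)) ⊆ ↑T := by
      intro j hj
      by_contra hjT
      apply hj
      have := hB0 j hjT
      rw [hB] at this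
      simp only [this, zero_mul]
    rw [finsum_eq_sum_of_support_subset _ hsupp, hB, hc]
  · have hsupp : (Function.support fun n : ℤ =>
        (if n < j then (∑ i ∈ Finset.range (m + 1), (-1 : ℤ) ^ i * (F.betti i n : ℤ)) *
          ((Nat.choose (r + (j - n).toNat) r : ℕ) : ℤ) else 0)) ⊆ ↑T := by
      intro n hn
      by_contra hnT
      apply hn
      have := hB0 n hnT
      rw [hB] at this
      simp only [this, zero_mul, ite_self]
    rw [finsum_eq_sum_of_support_subset _ hsupp, star j]
    have hpt : ∀ n ∈ T, B n * c j n = (if n = j then B j else 0) +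
        (if n < j then (∑ i ∈ Finset.range (m + 1), (-1 : ℤ) ^ i * (F.betti i n : ℤ)) *
          ((Nat.choose (r + (j - n).toNat) r : ℕ) : ℤ) else 0) := by
      intro n _
      rw [hc, hB]
      beta_reduce
      rcases lt_trichotomy n j with h | h | h
      · rw [if_neg (ne_of_lt h), if_pos h, if_pos (le_of_lt h), zero_add]
      · subst h
        simp
      · rw [if_neg (ne_of_gt h), if_neg (not_lt.mpr (le_of_lt h)), if_neg (not_le.mpr h)]
        simp
    rw [Finset.sum_congr rfl hpt, Finset.sum_add_distrib, Finset.sum_ite_eq']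
    have : (if j ∈ T then B j else 0) = B j := by
      split_ifs with h
      · rfl
      · exact (hB0 j h).symm
    rw [this, hB]
    ring

end Groth.Agent.S15437
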