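import Groth.Statements.S1544
import Mathlib
import Groth.Agent.Lib.Helper3.GeomRedSch
import Groth.Agent.Lib.Helper3.StalkBC2
import Groth.Agent.S1541

set_option autoImplicit false
universe u
open CategoryTheory CategoryTheory.Limits AlgebraicGeometry
attribute [local instance] Curv2.resAlgebra Curv2.stalkAlgebra
open Variety

namespace Groth.Agent.S1544

/-- For an integral scheme over k, geometric reducedness of the scheme is equivalent to geometric
reducedness over k of the function field (the local ring at the generic point), i.e. a separable
extension of k in the sense of commutative algebra. The source states this for varieties;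
integrality is what the proof uses. -/
theorem result (k : Type u) [Field k] (X : Scheme.{u}) [X.Over (Spec (CommRingCat.of k))] [IsIntegral X] :
    GeometricallyReduced (X ↘ (Spec (CommRingCat.of k))) ↔ Algebra.IsGeometricallyReduced k X.functionField := by
  constructor
  · intro hgr
    have h1 : Curv2.IsGeomReducedAt k X (genericPoint X) := by
      intro k' _ _ x' _
      haveI : AlgebraicGeometry.IsReduced (Curv2.bc k X k') :=
        GeometricallyReduced.geometrically_isReduced _ _ _ (.of_hasPullback _ _)
      infer_instance
    exact (Groth.Agent.S1541.result k X (genericPoint X)).mp h1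
  · intro hK
    apply Groth.Agent.Lib.helper3.GeomRed.geometricallyReduced_of_forall
    intro A _ _ j _ hj
    rcases subsingleton_or_nontrivial A with hA | hA
    · rw [Algebra.isGeometricallyReduced_field_iff]
      haveI : Subsingleton (TensorProduct k (AlgebraicClosure k) A) := by
        refine ⟨fun x y => ?_⟩
        have h0 : ∀ t : TensorProduct k (AlgebraicClosure k) A, t = 0 := by
          intro t
          induction t with
          | zero => rfl
          | tmul a b => rw [Subsingleton.elim b 0, TensorProduct.tmul_zero]
          | add a b ha hb => rw [ha, hb, add_zero]
        rw [h0 x, h0 y]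
      exact ⟨fun x _ => Subsingleton.elim _ _⟩
    · -- the generic point lies in the image of `j`
      set ξ := genericPoint X with hξ
      have hgen : IsGenericPoint ξ Set.univ := genericPoint_spec X
      have hξmem : ξ ∈ j.opensRange := by
        have : ((Set.univ : Set X) ∩ (j.opensRange : Set X)).Nonempty := by
          obtain ⟨a⟩ : Nonempty (Spec (CommRingCat.of A)) := inferInstance
          exact ⟨j a, trivial, a, rfl⟩
        exact (hgen.mem_open_set_iff j.opensRange.2).mpr this
      have hrange : Set.range (X.fromSpecStalk ξ) ⊆ Set.range j := by
        rw [Scheme.range_fromSpecStalk]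
        intro y hy
        exact hy.mem_open j.opensRange.2 hξmem
      let g : Spec (X.presheaf.stalk ξ) ⟶ Spec (CommRingCat.of A) :=
        IsOpenImmersion.lift j (X.fromSpecStalk ξ) hrange
      have hg : g ≫ j = X.fromSpecStalk ξ := IsOpenImmersion.lift_fac _ _ _
      let φ : CommRingCat.of A ⟶ X.presheaf.stalk ξ := Spec.preimage g
      have hφ : Spec.map φ = g := Spec.map_preimage g
      have hcomp : CommRingCat.ofHom (algebraMap k A) ≫ φ =
          CommRingCat.ofHom (Curv2.stalkMap k X ξ) := by
        apply Spec.map_injective
        rw [Spec.map_comp, hφ, ← hj, ← Category.assoc, hg]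
        exact Groth.Agent.Lib.helper3.StalkBC2.specMap_stalkMap k X ξ
      let ψ : A →ₐ[k] X.functionField :=
        { φ.hom with
          commutes' := fun r => by
            have := congrArg (fun f => f.hom r) hcomp
            exact this }
      have hinj : Function.Injective ψ := by
        haveI : IsIntegral (Spec (CommRingCat.of A)) := isIntegral_of_isOpenImmersion j
        haveI : IsDomain A := (affine_isIntegral_iff (CommRingCat.of A)).mp inferInstance
        let p : PrimeSpectrum A := g (IsLocalRing.closedPoint (X.presheaf.stalk ξ))
        let z : PrimeSpectrum A := ⟨⊥, Ideal.isPrime_bot⟩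
        have hjp : j p = ξ := by
          have : (g ≫ j) (IsLocalRing.closedPoint (X.presheaf.stalk ξ)) = ξ := by
            rw [hg]
            exact Scheme.fromSpecStalk_closedPoint
          exact this
        have hsp : p ⤳ z := by
          have h1 : j p ⤳ j z := by
            rw [hjp]
            exact hgen.specializes trivial
          exact j.isOpenEmbedding.isInducing.specializes_iff.mp h1
        have hle : p.asIdeal ≤ z.asIdeal := (PrimeSpectrum.le_iff_specializes p z).mpr hsp
        have hp0 : p.asIdeal = ⊥ := le_bot_iff.mp hle
        have hker : RingHom.ker φ.hom = p.asIdeal := by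
          have h1 : p = PrimeSpectrum.comap φ.hom (IsLocalRing.closedPoint (X.presheaf.stalk ξ)) := by
            show g _ = _
            rw [← hφ]
            rfl
          rw [h1]
          show _ = Ideal.comap φ.hom (IsLocalRing.maximalIdeal (X.presheaf.stalk ξ))
          have : IsLocalRing.maximalIdeal (X.presheaf.stalk ξ) = ⊥ :=
            IsLocalRing.maximalIdeal_eq_bot
          rw [this, RingHom.ker_eq_comap_bot]
        have : RingHom.ker φ.hom = ⊥ := hker.trans hp0
        exact (RingHom.injective_iff_ker_eq_bot φ.hom).mpr this
      exact Algebra.IsGeometricallyReduced.of_injective ψ hinj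

end Groth.Agent.S1544
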