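import Groth.Statements.S15446
import Groth.Agent.Lib.Helper17.WeilCohPush
import Mathlib

set_option autoImplicit false
universe u v
open CategoryTheory AlgebraicGeometry
open WeilCoh

namespace Groth.Agent.S15446

/-- For a Weil cohomology theory H^* (coefficients in K of characteristic zero, on nonsingular connected
projective varieties over an algebraically closed field k), a morphism f : X → Y of such varieties,
α ∈ H^i(X) and γ ∈ H^j(Y), one has f_*(α ∪ f^*(γ)) = f_*(α) ∪ γ, where f_* is the push-forward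
defined by Tr_Y(f_*(α) ∪ β) = Tr_X(α ∪ f^*(β)). -/
theorem result (k : Type u) [Field k] [IsAlgClosed k] (K : Type v) [Field K] [CharZero K]
    (T : WeilCoh.Theory k K) (X Y : WeilCoh.Var k) (f : X ⟶ Y) (i j : ℤ)
    (a : ↥(T.gr X i)) (c : ↥(T.gr Y j)) :
    (T.push f (i + j) ⟨(a : T.H X) * T.pull f c, SetLike.mul_mem_graded a.2 (T.pull_mem f j c c.2)⟩ : T.H Y) =
      (T.push f i a : T.H Y) * c := by
  have e1 : (i + 2 * (WeilCoh.dim Y.obj.left : ℤ) - 2 * (WeilCoh.dim X.obj.left : ℤ)) + j =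
      (i + j) + 2 * (WeilCoh.dim Y.obj.left : ℤ) - 2 * (WeilCoh.dim X.obj.left : ℤ) := by ring
  have e2 : j + (2 * (WeilCoh.dim X.obj.left : ℤ) - (i + j)) =
      2 * (WeilCoh.dim X.obj.left : ℤ) - i := by ring
  refine Groth.Agent.Lib.helper17.WeilCohPush.eq_of_forall_tr_mul_eq T
    ((i + j) + 2 * (WeilCoh.dim Y.obj.left : ℤ) - 2 * (WeilCoh.dim X.obj.left : ℤ))
    (2 * (WeilCoh.dim X.obj.left : ℤ) - (i + j)) (by ring) _ _ ?_ ?_ ?_
  · exact (T.push f (i + j) _).2
  · have := SetLike.mul_mem_graded (T.push f i a).2 c.2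
    rw [e1] at this
    exact this
  · intro b hb
    have hcb : (c : T.H Y) * b ∈ T.gr Y (2 * (WeilCoh.dim X.obj.left : ℤ) - i) := by
      have := SetLike.mul_mem_graded c.2 hb
      rw [e2] at this
      exact this
    rw [Groth.Agent.Lib.helper17.WeilCohPush.tr_push_mul T f (i + j) _ b hb,
      mul_assoc ((T.push f i a : T.H Y)) (c : T.H Y) b,
      Groth.Agent.Lib.helper17.WeilCohPush.tr_push_mul T f i a _ hcb]
    show T.tr X (((a : T.H X) * T.pull f c) * T.pull f b) = _
    rw [map_mul (T.pull f), mul_assoc]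

end Groth.Agent.S15446
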