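import Groth.Statements.S15449
import Mathlib
import Groth.Agent.Lib.Helper17.WeilCohPush

set_option autoImplicit false
universe u v
open CategoryTheory AlgebraicGeometry
open WeilCoh

namespace Groth.Agent.S15449

/-- For a Weil cohomology theory H^* (coefficients in K of characteristic zero, on nonsingular connected
projective varieties over an algebraically closed field k), such varieties X and Y with product X ×
Y and projections p, q, and α ∈ H^i(Y): p_*(q^*(α)) = Tr_Y(α) (as a multiple of 1 ∈ H^0(X)) if i = 2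
dim Y, and p_*(q^*(α)) = 0 otherwise. The product is any object Q with morphisms p : Q → X, q : Q →
Y forming a cartesian square over Spec k; both sides are read in the total cohomology ring of X. -/
theorem result (k : Type u) [Field k] [IsAlgClosed k] (K : Type v) [Field K] [CharZero K]
    (T : WeilCoh.Theory k K) (X Y Q : WeilCoh.Var k) (p : Q ⟶ X) (q : Q ⟶ Y)
    (hQ : WeilCoh.IsProd p q) (i : ℤ) (a : ↥(T.gr Y i)) :
    (i = 2 * (WeilCoh.dim Y.obj.left : ℤ) →
      (T.push p i ⟨T.pull q a, T.pull_mem q i a a.2⟩ : T.H X) = algebraMap K (T.H X) (T.tr Y a)) ∧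
    (i ≠ 2 * (WeilCoh.dim Y.obj.left : ℤ) →
      (T.push p i ⟨T.pull q a, T.pull_mem q i a a.2⟩ : T.H X) = 0) := by
  have hdim : 2 * (WeilCoh.dim X.obj.left : ℤ) + 2 * (WeilCoh.dim Y.obj.left : ℤ) =
      2 * (WeilCoh.dim Q.obj.left : ℤ) := by
    obtain ⟨a0, ha0⟩ := (T.tr_bijective X).2 1
    obtain ⟨b0, hb0⟩ := (T.tr_bijective Y).2 1
    have ha0' : T.tr X (a0 : T.H X) = 1 := ha0
    have hb0' : T.tr Y (b0 : T.H Y) = 1 := hb0
    by_contra hne
    have hmem := SetLike.mul_mem_graded (T.pull_mem p _ _ a0.2) (T.pull_mem q _ _ b0.2)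
    have h0 := T.tr_vanish Q _ _ hmem hne
    rw [T.tr_prod p q hQ _ _ a0.2 b0.2, ha0', hb0'] at h0
    simp at h0
  constructor
  · intro hi
    refine Groth.Agent.Lib.helper17.WeilCohPush.eq_of_forall_tr_mul_eq T
      (i + 2 * (WeilCoh.dim X.obj.left : ℤ) - 2 * (WeilCoh.dim Q.obj.left : ℤ))
      (2 * (WeilCoh.dim Q.obj.left : ℤ) - i) (by ring) _ _ ?_ ?_ ?_
    · exact (T.push p i _).2
    · have h0 : i + 2 * (WeilCoh.dim X.obj.left : ℤ) - 2 * (WeilCoh.dim Q.obj.left : ℤ) = 0 := by
        rw [hi, ← hdim]; ring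
      rw [h0, Algebra.algebraMap_eq_smul_one]
      exact Submodule.smul_mem _ _ (SetLike.GradedOne.one_mem)
    · intro b hb
      have hb' : b ∈ T.gr X (2 * (WeilCoh.dim X.obj.left : ℤ)) := by
        have h1 : 2 * (WeilCoh.dim Q.obj.left : ℤ) - i = 2 * (WeilCoh.dim X.obj.left : ℤ) := by
          rw [hi, ← hdim]; ring
        rwa [h1] at hb
      have ha' : (a : T.H Y) ∈ T.gr Y (2 * (WeilCoh.dim Y.obj.left : ℤ)) := by
        rw [← hi]; exact a.2
      rw [Groth.Agent.Lib.helper17.WeilCohPush.tr_push_mul T p i _ b hb]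
      show T.tr Q (T.pull q (a : T.H Y) * T.pull p b) = _
      have hcomm : T.pull q (a : T.H Y) * T.pull p b = T.pull p b * T.pull q (a : T.H Y) := by
        have h2 := T.gradedComm Q _ _ _ _ (T.pull_mem q _ _ ha') (T.pull_mem p _ _ hb')
        rw [h2]
        have he : Even ((2 * (WeilCoh.dim Y.obj.left : ℤ)).natAbs *
            (2 * (WeilCoh.dim X.obj.left : ℤ)).natAbs) :=
          Even.mul_right (Int.natAbs_even.mpr (even_two_mul _)) _
        rw [he.neg_one_pow, one_smul]
      rw [hcomm, T.tr_prod p q hQ _ _ hb' ha', Algebra.algebraMap_eq_smul_one, smul_mul_assoc,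
        one_mul, map_smul, smul_eq_mul, mul_comm]
  · intro hi
    refine Groth.Agent.Lib.helper17.WeilCohPush.eq_of_forall_tr_mul_eq T
      (i + 2 * (WeilCoh.dim X.obj.left : ℤ) - 2 * (WeilCoh.dim Q.obj.left : ℤ))
      (2 * (WeilCoh.dim Q.obj.left : ℤ) - i) (by ring) _ _ ?_ ?_ ?_
    · exact (T.push p i _).2
    · exact Submodule.zero_mem _
    · intro b hb
      rw [Groth.Agent.Lib.helper17.WeilCohPush.tr_push_mul T p i _ b hb, zero_mul, map_zero]
      show T.tr Q (T.pull q (a : T.H Y) * T.pull p b) = 0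
      rcases lt_or_gt_of_ne hi with h | h
      · have hv := T.vanish X (2 * (WeilCoh.dim Q.obj.left : ℤ) - i) (Or.inr (by linarith))
        rw [hv] at hb
        rw [(Submodule.mem_bot K).mp hb, map_zero, mul_zero, map_zero]
      · have hv := T.vanish Y i (Or.inr h)
        have ha0 : (a : T.H Y) = 0 := by
          have h3 : (a : T.H Y) ∈ (⊥ : Submodule K (T.H Y)) := hv.le a.2
          exact (Submodule.mem_bot K).mp h3
        rw [ha0, map_zero, zero_mul, map_zero]

end Groth.Agent.S15449
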