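import Groth.Statements.S1546
import Groth.Agent.Lib.Helper3.IrrCompImage

set_option autoImplicit false
universe u
open CategoryTheory CategoryTheory.Limits AlgebraicGeometry
open Variety

namespace Groth.Agent.S1546

/-- For a field extension K of k and a scheme X over k, the image in X of an irreducible component of
X_K is an irreducible component of X, and every irreducible component of X is such an image. -/
theorem result (k : Type u) [Field k] (X : Scheme.{u}) [X.Over (Spec (CommRingCat.of k))] (K : Type u) [Field K] [Algebra k K] :
    (∀ T ∈ irreducibleComponents (Curv2.bc k X K : Type u), (Curv2.bcFst k X K).base '' T ∈ irreducibleComponents (X : Type u)) ∧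
    (∀ Z ∈ irreducibleComponents (X : Type u), ∃ T ∈ irreducibleComponents (Curv2.bc k X K : Type u), (Curv2.bcFst k X K).base '' T = Z) := by
  refine ⟨fun T hT => ?_, fun Z hZ => ?_⟩
  · exact Groth.Agent.Lib.helper3.IrrCompImage.image_mem_irreducibleComponents
      (X ↘ (Spec (CommRingCat.of k))) K hT
  · exact Groth.Agent.Lib.helper3.IrrCompImage.exists_image_eq
      (X ↘ (Spec (CommRingCat.of k))) K hZ

end Groth.Agent.S1546
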