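import Groth.Statements.S15465
import Mathlib.CategoryTheory.Abelian.Refinements

set_option autoImplicit false
universe v u
open HomAlg

namespace Groth.Agent.S15465

open CategoryTheory CategoryTheory.Limits in
open CategoryTheory CategoryTheory.Limits in
/-- In an abelian category let 0 → A₂ → B₂ → C₂ → 0 (maps i₂, π₂), 0 → A₁ → A₂ → A₃ → 0 (maps i₁, p₁)
and 0 → C₁ → C₂ → C₃ → 0 (maps j, q) be short exact sequences, let α = i₁ ≫ i₂ : A₁ → B₂ and β = π₂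
≫ q : B₂ → C₃, and let K = ker β / im α be the homology object of the complex A₁ → B₂ → C₃. Let f :
A₃ → K be the map induced by i₂ (the unique map whose composite with p₁ is the homology class of the
cycle i₂) and g : K → C₁ the map induced by π₂ (the unique map whose composite with j is the map K →
C₂ induced by π₂). Then 0 → A₃ → K → C₁ → 0, with maps f and g, is a short exact sequence. (The
hypotheses w, h₂, h₃ are consequences of i₂ ≫ π₂ = 0, carried so that the maps can be named; the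
published statement assumes in addition that the category has enough injective objects, which plays
no role in this assertion.) -/
theorem result
    {C : Type u} [Category.{v} C] [Abelian C] {A₁ A₂ A₃ B₂ C₁ C₂ C₃ : C}
    (i₁ : A₁ ⟶ A₂) (p₁ : A₂ ⟶ A₃) (wA : i₁ ≫ p₁ = 0) (hA : (ShortComplex.mk i₁ p₁ wA).ShortExact)
    (i₂ : A₂ ⟶ B₂) (π₂ : B₂ ⟶ C₂) (wB : i₂ ≫ π₂ = 0) (hB : (ShortComplex.mk i₂ π₂ wB).ShortExact)
    (j : C₁ ⟶ C₂) (q : C₂ ⟶ C₃) (wC : j ≫ q = 0) (hC : (ShortComplex.mk j q wC).ShortExact)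
    (w : (i₁ ≫ i₂) ≫ (π₂ ≫ q) = 0) (h₂ : i₂ ≫ (π₂ ≫ q) = 0) (h₃ : (i₁ ≫ i₂) ≫ π₂ = 0)
    (f : A₃ ⟶ (CategoryTheory.ShortComplex.mk (i₁ ≫ i₂) (π₂ ≫ q) w).homology)
    (g : (CategoryTheory.ShortComplex.mk (i₁ ≫ i₂) (π₂ ≫ q) w).homology ⟶ C₁)
    (hf : p₁ ≫ f = (CategoryTheory.ShortComplex.mk (i₁ ≫ i₂) (π₂ ≫ q) w).liftCycles i₂ h₂ ≫ (CategoryTheory.ShortComplex.mk (i₁ ≫ i₂) (π₂ ≫ q) w).homologyπ)
    (hg : g ≫ j = (CategoryTheory.ShortComplex.mk (i₁ ≫ i₂) (π₂ ≫ q) w).homologyι ≫ (CategoryTheory.ShortComplex.mk (i₁ ≫ i₂) (π₂ ≫ q) w).descOpcycles π₂ h₃) :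
    ∃ wfg : f ≫ g = 0, (ShortComplex.mk f g wfg).ShortExact := by
  have : Mono i₂ := hB.mono_f
  have : Epi π₂ := hB.epi_g
  have : Mono j := hC.mono_f
  have : Epi p₁ := hA.epi_g
  -- key computation: a cycle z maps under g ≫ j to z ≫ π₂
  have key : ∀ {A : C} (z : A ⟶ B₂) (hz : z ≫ (π₂ ≫ q) = 0),
      ((ShortComplex.mk (i₁ ≫ i₂) (π₂ ≫ q) w).liftCycles z hz ≫ (ShortComplex.mk (i₁ ≫ i₂) (π₂ ≫ q) w).homologyπ) ≫ g ≫ j = z ≫ π₂ := by
    intro A z hz
    rw [hg]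
    simp only [Category.assoc, ShortComplex.homology_π_ι_assoc, ShortComplex.p_descOpcycles,
      ShortComplex.liftCycles_i_assoc]
  have wfg : f ≫ g = 0 := by
    rw [← cancel_epi p₁, ← cancel_mono j, comp_zero, zero_comp, ← Category.assoc, hf]
    have := key i₂ h₂
    simp only [Category.assoc] at this ⊢
    rw [this, wB]
  refine ⟨wfg, ?_⟩
  have hmono : Mono f := by
    rw [Preadditive.mono_iff_cancel_zero]
    intro A a ha
    obtain ⟨A', π, hπ, a₂, fac⟩ := surjective_up_to_refinements_of_epi p₁ a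
    have h1 : (ShortComplex.mk (i₁ ≫ i₂) (π₂ ≫ q) w).liftCycles (a₂ ≫ i₂) (by simp [h₂]) ≫ (ShortComplex.mk (i₁ ≫ i₂) (π₂ ≫ q) w).homologyπ = 0 := by
      have : (ShortComplex.mk (i₁ ≫ i₂) (π₂ ≫ q) w).liftCycles (a₂ ≫ i₂) (by simp [h₂]) = a₂ ≫ (ShortComplex.mk (i₁ ≫ i₂) (π₂ ≫ q) w).liftCycles i₂ h₂ := by
        rw [← cancel_mono (ShortComplex.mk (i₁ ≫ i₂) (π₂ ≫ q) w).iCycles]
        simp
      rw [this, Category.assoc, ← hf, ← Category.assoc, ← fac, Category.assoc, ha, comp_zero]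
    rw [ShortComplex.liftCycles_comp_homologyπ_eq_zero_iff_up_to_refinements] at h1
    obtain ⟨A'', π', hπ', x₁, fac'⟩ := h1
    have h2 : π' ≫ a₂ = x₁ ≫ i₁ := by
      rw [← cancel_mono i₂]
      simpa using fac'
    rw [← cancel_epi π, ← cancel_epi π', comp_zero, comp_zero, fac, ← Category.assoc, h2,
      Category.assoc, wA, comp_zero]
  have hepi : Epi g := by
    rw [epi_iff_surjective_up_to_refinements]
    intro A y
    obtain ⟨A', π, hπ, x, fac⟩ := surjective_up_to_refinements_of_epi π₂ (y ≫ j)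
    have hx : x ≫ (π₂ ≫ q) = 0 := by
      rw [← Category.assoc, ← fac, Category.assoc, Category.assoc, wC, comp_zero, comp_zero]
    refine ⟨A', π, hπ, (ShortComplex.mk (i₁ ≫ i₂) (π₂ ≫ q) w).liftCycles x hx ≫ (ShortComplex.mk (i₁ ≫ i₂) (π₂ ≫ q) w).homologyπ, ?_⟩
    rw [← cancel_mono j, Category.assoc, Category.assoc, key x hx, ← fac]
  have hexact : (ShortComplex.mk f g wfg).Exact := by
    rw [ShortComplex.exact_iff_exact_up_to_refinements]
    intro A k hk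
    dsimp at k hk
    obtain ⟨A', π, hπ, z, hz, fac⟩ := (ShortComplex.mk (i₁ ≫ i₂) (π₂ ≫ q) w).eq_liftCycles_homologyπ_up_to_refinements k
    have hzπ : z ≫ π₂ = 0 := by
      have := key z hz
      rw [← fac, Category.assoc, ← Category.assoc k, hk, zero_comp, comp_zero] at this
      exact this.symm
    obtain ⟨A'', π', hπ', a₂, fac'⟩ := hB.exact.exact_up_to_refinements z hzπ
    dsimp at a₂ fac'
    refine ⟨A'', π' ≫ π, epi_comp _ _, a₂ ≫ p₁, ?_⟩
    dsimp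
    have h3 : π' ≫ (ShortComplex.mk (i₁ ≫ i₂) (π₂ ≫ q) w).liftCycles z hz =
        a₂ ≫ (ShortComplex.mk (i₁ ≫ i₂) (π₂ ≫ q) w).liftCycles i₂ h₂ := by
      rw [← cancel_mono (ShortComplex.mk (i₁ ≫ i₂) (π₂ ≫ q) w).iCycles]
      simp [fac']
    calc (π' ≫ π) ≫ k = π' ≫ ((ShortComplex.mk (i₁ ≫ i₂) (π₂ ≫ q) w).liftCycles z hz ≫
            (ShortComplex.mk (i₁ ≫ i₂) (π₂ ≫ q) w).homologyπ) := by rw [Category.assoc, fac]
      _ = (π' ≫ (ShortComplex.mk (i₁ ≫ i₂) (π₂ ≫ q) w).liftCycles z hz) ≫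
            (ShortComplex.mk (i₁ ≫ i₂) (π₂ ≫ q) w).homologyπ := by rw [Category.assoc]
      _ = (a₂ ≫ (ShortComplex.mk (i₁ ≫ i₂) (π₂ ≫ q) w).liftCycles i₂ h₂) ≫
            (ShortComplex.mk (i₁ ≫ i₂) (π₂ ≫ q) w).homologyπ := by rw [h3]
      _ = (a₂ ≫ p₁) ≫ f := by rw [Category.assoc, Category.assoc, hf]
  exact ShortComplex.ShortExact.mk' hexact hmono hepi

end Groth.Agent.S15465
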