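import Groth.Statements.S15472
import Mathlib
import Groth.Agent.Lib.Helper4.AlgStIsoNat3
import Groth.Agent.Lib.Helper4.AlgStFull
import Groth.Agent.Lib.Helper4.AlgStLocQ7
import Groth.Agent.S12819
import Groth.Agent.S12858

set_option autoImplicit false
universe u
open CategoryTheory AlgebraicGeometry
open IsoNat

namespace Groth.Agent.S15472

/-- Quasi-compactness of algebraic stacks is detected by the presheaf of isomorphism classes. If 𝒳 and 𝒴
are algebraic stacks over a quasi-separated scheme S with isomorphic presheaves of isomorphism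
classes and 𝒳 has a smooth surjective morphism from an affine scheme, so does 𝒴. Here an algebraic
stack over a quasi-separated scheme S means a stack in groupoids for the fppf topology with a smooth
surjective atlas from a scheme, whose diagonal is representable by separated quasi-compact morphisms
of algebraic spaces and whose inertia is locally of finite presentation over it. -/
theorem result
    (S : Scheme.{u}) [QuasiSeparatedSpace S]
    (𝒳 𝒴 : AlgSt.Cat S)
    (h𝒳 : AlgSt.IsAlgStack Scheme.fppfPrecoverage 𝒳)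
    (h𝒳d : AlgSt.RepByAlgSpWith (AlgSp.IsSeparatedMor ⊓ AlgSp.IsQuasiCompactMor)
      (FibCat.diag (FibCat.toSelf 𝒳)))
    (h𝒳i : AlgSt.RepByAlgSpWith (AlgSp.LocP @LocallyOfFinitePresentation)
      (FibCat.inertiaToBase (FibCat.toSelf 𝒳)))
    (h𝒴 : AlgSt.IsAlgStack Scheme.fppfPrecoverage 𝒴)
    (h𝒴d : AlgSt.RepByAlgSpWith (AlgSp.IsSeparatedMor ⊓ AlgSp.IsQuasiCompactMor)
      (FibCat.diag (FibCat.toSelf 𝒴)))
    (h𝒴i : AlgSt.RepByAlgSpWith (AlgSp.LocP @LocallyOfFinitePresentation)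
      (FibCat.inertiaToBase (FibCat.toSelf 𝒴)))
    (φ : IsoNat.FIso 𝒳 𝒴)
    (hqc : AlgSt.IsQuasiCompact 𝒳) :
    AlgSt.IsQuasiCompact 𝒴 := by
  obtain ⟨U, x, hU, hsm, hsurj⟩ := hqc
  have hfg𝒳 := h𝒳.isStack.1
  have hfg𝒴 := h𝒴.isStack.1
  obtain ⟨y, hy⟩ := Groth.Agent.Lib.helper4.AlgStIsoNat3.exists_functor_of_cls hfg𝒴
    (φ.toEquiv U (IsoNat.objCls x))
  have hUa : AlgSt.IsAlgStack Scheme.fppfPrecoverage (FibCat.overCat U) :=
    Groth.Agent.Lib.helper4.AlgStSelf.isAlgStack_overCat U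
  have hx1 : AlgSt.RepByAlgSp1 x :=
    Groth.Agent.Lib.helper4.AlgStFull.repByAlgSp1_of_with AlgSp.IsSurjectiveMor x hsurj
  have hxs : AlgSt.IsSurjective x := (Groth.Agent.S12819.result hUa h𝒳 x hx1).2 hsurj
  have hys : AlgSt.IsSurjective y :=
    Groth.Agent.Lib.helper4.AlgStIsoNat2.isSurjective_of_fIsoSq hUa.isStack.1 hfg𝒳 x y
      (Groth.Agent.Lib.helper4.AlgStIsoNat3.fIsoSqChart hfg𝒴 φ x y hy.symm) hxs
  have : IsAffine U.left := hU
  exact Groth.Agent.S12858.result hUa h𝒴 y hys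
    (Groth.Agent.Lib.helper4.AlgStLocQ.isQuasiCompact_overCat U)

end Groth.Agent.S15472
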