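import Groth.Statements.S15480
import Mathlib
import Groth.Agent.Lib.Helper4.AlgStQCTop
import Groth.Agent.Lib.Helper4.AlgStIsoNatPts

set_option autoImplicit false
universe u
open CategoryTheory AlgebraicGeometry
open IsoNat

namespace Groth.Agent.S15480

/-- Quasi-compactness of a morphism of algebraic stacks is detected by the induced map of presheaves of
isomorphism classes. Let f : 𝒳 → 𝒴 and f' : 𝒳' → 𝒴' be morphisms of algebraic stacks over a
quasi-separated scheme S with isomorphisms of the presheaves of isomorphism classes of 𝒳 with 𝒳' and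
of 𝒴 with 𝒴' under which the induced maps correspond. If f is quasi-compact (its base change to
every quasi-compact algebraic stack is quasi-compact) then so is f'. Here an algebraic stack over a
quasi-separated scheme S means a stack in groupoids for the fppf topology with a smooth surjective
atlas from a scheme, whose diagonal is representable by separated quasi-compact morphisms of
algebraic spaces and whose inertia is locally of finite presentation over it. -/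
theorem result
    (S : Scheme.{u}) [QuasiSeparatedSpace S]
    (𝒳 𝒴 : AlgSt.Cat S)
    (h𝒳 : AlgSt.IsAlgStack Scheme.fppfPrecoverage 𝒳)
    (h𝒳d : AlgSt.RepByAlgSpWith (AlgSp.IsSeparatedMor ⊓ AlgSp.IsQuasiCompactMor)
      (FibCat.diag (FibCat.toSelf 𝒳)))
    (h𝒳i : AlgSt.RepByAlgSpWith (AlgSp.LocP @LocallyOfFinitePresentation)
      (FibCat.inertiaToBase (FibCat.toSelf 𝒳)))
    (h𝒴 : AlgSt.IsAlgStack Scheme.fppfPrecoverage 𝒴)
    (h𝒴d : AlgSt.RepByAlgSpWith (AlgSp.IsSeparatedMor ⊓ AlgSp.IsQuasiCompactMor)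
      (FibCat.diag (FibCat.toSelf 𝒴)))
    (h𝒴i : AlgSt.RepByAlgSpWith (AlgSp.LocP @LocallyOfFinitePresentation)
      (FibCat.inertiaToBase (FibCat.toSelf 𝒴)))
    (𝒳' 𝒴' : AlgSt.Cat S)
    (h𝒳' : AlgSt.IsAlgStack Scheme.fppfPrecoverage 𝒳')
    (h𝒳'd : AlgSt.RepByAlgSpWith (AlgSp.IsSeparatedMor ⊓ AlgSp.IsQuasiCompactMor)
      (FibCat.diag (FibCat.toSelf 𝒳')))
    (h𝒳'i : AlgSt.RepByAlgSpWith (AlgSp.LocP @LocallyOfFinitePresentation)
      (FibCat.inertiaToBase (FibCat.toSelf 𝒳')))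
    (h𝒴' : AlgSt.IsAlgStack Scheme.fppfPrecoverage 𝒴')
    (h𝒴'd : AlgSt.RepByAlgSpWith (AlgSp.IsSeparatedMor ⊓ AlgSp.IsQuasiCompactMor)
      (FibCat.diag (FibCat.toSelf 𝒴')))
    (h𝒴'i : AlgSt.RepByAlgSpWith (AlgSp.LocP @LocallyOfFinitePresentation)
      (FibCat.inertiaToBase (FibCat.toSelf 𝒴')))
    (f : 𝒳 ⥤ᵇ 𝒴) (f' : 𝒳' ⥤ᵇ 𝒴') (φ : IsoNat.FIsoSq f f')
    (hf : AlgSt.IsQuasiCompactMor Scheme.fppfPrecoverage f) :
    AlgSt.IsQuasiCompactMor Scheme.fppfPrecoverage f' := by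
  have hqs' : AlgSt.IsQuasiSeparatedOver 𝒴' :=
    Groth.Agent.Lib.helper4.AlgStQCOpen.isQuasiSeparatedOver_of_diag h𝒴'd
  rw [Groth.Agent.Lib.helper4.AlgStQCTop.isQuasiCompactMor_iff_isCompact_preimage h𝒳' h𝒴' f' hqs']
  intro T' hTo hTc
  let eS := Groth.Agent.Lib.helper4.AlgStIsoNatPts.ptsHomeo h𝒳.isStack.1 h𝒳'.isStack.1
    h𝒳.atlas h𝒳'.atlas φ.src
  let eT := Groth.Agent.Lib.helper4.AlgStIsoNatPts.ptsHomeo h𝒴.isStack.1 h𝒴'.isStack.1
    h𝒴.atlas h𝒴'.atlas φ.tgt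
  have hcomm : ∀ z, eT (AlgSt.Points.map f z) = AlgSt.Points.map f' (eS z) :=
    Groth.Agent.Lib.helper4.AlgStIsoNatPts.ptsEquiv_map h𝒳.isStack.1 h𝒳'.isStack.1
      h𝒴.isStack.1 h𝒴'.isStack.1 f f' φ
  have hT : IsOpen (eT ⁻¹' T') := hTo.preimage eT.continuous
  have hTc' : IsCompact (eT ⁻¹' T') := (eT.isCompact_preimage).2 hTc
  have h1 := Groth.Agent.Lib.helper4.AlgStQCTop.isCompact_preimage_of_isQuasiCompactMor
    h𝒳 h𝒴 f hf _ hT hTc'
  have hE : AlgSt.Points.map f' ⁻¹' T' = eS '' (AlgSt.Points.map f ⁻¹' (eT ⁻¹' T')) := by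
    ext w
    constructor
    · intro hw
      refine ⟨eS.symm w, ?_, eS.apply_symm_apply w⟩
      change eT (AlgSt.Points.map f (eS.symm w)) ∈ T'
      rw [hcomm, eS.apply_symm_apply]
      exact hw
    · rintro ⟨z, hz, rfl⟩
      change AlgSt.Points.map f' (eS z) ∈ T'
      rw [← hcomm]
      exact hz
  rw [hE]
  exact h1.image eS.continuous

end Groth.Agent.S15480
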