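import Groth.Statements.S15488
import Mathlib

set_option autoImplicit false
universe u
open IsoNat

namespace Groth.Agent.S15488

section
variable {A : Type u} [CommRing A] {G : Type u} [Group G]
  (g : G) (l : A) (hl : l ^ orderOf g = 1)

include hl in
lemma lpow_congr {i j : ℕ} (h : g ^ i = g ^ j) : l ^ i = l ^ j := by
  rw [pow_eq_pow_iff_modEq] at h
  have key : ∀ n : ℕ, l ^ n = l ^ (n % orderOf g) := by
    intro n
    conv_lhs => rw [← Nat.div_add_mod n (orderOf g), pow_add, pow_mul, hl, one_pow, one_mul]
  rw [key i, key j, h]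

/-- class of an element: the left coset of the inverse -/
def cls (h : G) : G ⧸ Subgroup.zpowers g := QuotientGroup.mk h⁻¹

/-- representative -/
noncomputable def rep (q : G ⧸ Subgroup.zpowers g) : G := (Quotient.out q)⁻¹

lemma cls_rep (q : G ⧸ Subgroup.zpowers g) : cls g (rep g q) = q := by
  simp [cls, rep]

lemma cls_mul (h : G) : cls g (g * h) = cls g h := by
  unfold cls
  rw [mul_inv_rev]
  exact QuotientGroup.mk_mul_of_mem _ (Subgroup.inv_mem _ (Subgroup.mem_zpowers g))

variable [Finite G]

lemma exists_pow (h : G) : ∃ i : ℕ, g ^ i * rep g (cls g h) = h := by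
  obtain ⟨z, hz⟩ := QuotientGroup.mk_out_eq_mul (Subgroup.zpowers g) h⁻¹
  have hz' : (z : G) ∈ Submonoid.powers g := by
    rw [mem_powers_iff_mem_zpowers]
    exact z.2
  obtain ⟨i, hi⟩ := hz'
  refine ⟨i, ?_⟩
  have hi' : g ^ i = (z : G) := hi
  unfold rep cls
  rw [hz, ← hi']
  simp

/-- the exponent -/
noncomputable def idx (h : G) : ℕ := (exists_pow g h).choose

lemma idx_spec (h : G) : g ^ idx g h * rep g (cls g h) = h := (exists_pow g h).choose_spec

/-- the coefficient -/
noncomputable def c (h : G) : A := l ^ idx g h

include hl in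
lemma c_mul (h : G) : c g l (g * h) = l * c g l h := by
  unfold c
  rw [← pow_succ']
  apply lpow_congr g l hl
  have h1 := idx_spec g (g * h)
  have h2 := idx_spec g h
  rw [cls_mul] at h1
  have : g ^ (idx g h + 1) * rep g (cls g h) = g * h := by
    rw [pow_succ', mul_assoc, h2]
  exact mul_right_cancel (h1.trans this.symm)

include hl in
lemma c_rep (q : G ⧸ Subgroup.zpowers g) : c g l (rep g q) = 1 := by
  unfold c
  rw [← pow_zero l]
  apply lpow_congr g l hl
  have h1 := idx_spec g (rep g q)
  rw [cls_rep] at h1
  rw [pow_zero]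
  exact mul_right_cancel (h1.trans (one_mul _).symm)

/-- extension from representatives -/
noncomputable def Φ : ((G ⧸ Subgroup.zpowers g) → A) →ₗ[A] (G → A) where
  toFun w := fun h => c g l h * w (cls g h)
  map_add' w w' := by ext h; simp [mul_add]
  map_smul' a w := by ext h; simp [mul_left_comm]

/-- restriction to representatives -/
noncomputable def Ψ : (G → A) →ₗ[A] ((G ⧸ Subgroup.zpowers g) → A) :=
  LinearMap.funLeft A A (rep g)

include hl in
lemma Ψ_Φ (w : (G ⧸ Subgroup.zpowers g) → A) : Ψ g (Φ g l w) = w := by
  ext q
  simp [Ψ, Φ, LinearMap.funLeft_apply, c_rep g l hl, cls_rep]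

include hl in
lemma ker_eq : LinearMap.ker (LinearMap.funLeft A A (fun h : G => g * h) - l • LinearMap.id) =
    LinearMap.range (Φ g l) := by
  ext v
  simp only [LinearMap.mem_ker, LinearMap.mem_range]
  constructor
  · intro hv
    have hv' : ∀ h, v (g * h) = l * v h := by
      intro h
      have := congrFun hv h
      simp [LinearMap.funLeft_apply, sub_eq_zero] at this
      exact this
    have hpow : ∀ (i : ℕ) (t : G), v (g ^ i * t) = l ^ i * v t := by
      intro i
      induction i with
      | zero => intro t; simp
      | succ i ih => intro t; rw [pow_succ', mul_assoc, hv', ih, pow_succ', mul_assoc]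
    refine ⟨Ψ g v, ?_⟩
    ext h
    change c g l h * v (rep g (cls g h)) = v h
    conv_rhs => rw [← idx_spec g h, hpow]
    rfl
  · rintro ⟨w, rfl⟩
    ext h
    simp only [LinearMap.sub_apply, LinearMap.funLeft_apply, LinearMap.smul_apply,
      LinearMap.id_apply, Pi.sub_apply, Pi.smul_apply, Pi.zero_apply, smul_eq_mul]
    change c g l (g * h) * w (cls g (g * h)) - l * (c g l h * w (cls g h)) = 0
    rw [c_mul g l hl, cls_mul]
    ring

end

/-- Let A be a nontrivial commutative ring, G a finite group, g an element of G of order ν and l an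
element of A with l ^ ν = 1. In the free A-module of functions G → A (the regular representation, g
acting by translation v ↦ v(g·)), the submodule of v with v(g h) = l v(h) for all h is a direct
summand, free of rank |G| / ν (stated as: free, rank · ν = |G|, and a complementary submodule
exists). (The published statement is over an arbitrary ring and also covers Hom(A^N, −) of the
regular representation, which follows; nontriviality of A is needed for the rank to be meaningful.) -/
theorem result
    (A : Type u) [CommRing A] [Nontrivial A] (G : Type u) [Group G] [Finite G]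
    (g : G) (l : A) (hl : l ^ orderOf g = 1) :
    Module.Free A (LinearMap.ker (LinearMap.funLeft A A (fun h : G => g * h) - l • LinearMap.id)) ∧
      Module.finrank A (LinearMap.ker (LinearMap.funLeft A A (fun h : G => g * h) - l • LinearMap.id)) * orderOf g = Nat.card G ∧
      ∃ E' : Submodule A (G → A), IsCompl (LinearMap.ker (LinearMap.funLeft A A (fun h : G => g * h) - l • LinearMap.id)) E' := by
  rw [ker_eq g l hl]
  have hinj : Function.Injective (Φ g l) :=
    Function.LeftInverse.injective (g := Ψ g) (Ψ_Φ g l hl)
  let e : ((G ⧸ Subgroup.zpowers g) → A) ≃ₗ[A] LinearMap.range (Φ g l) :=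
    LinearEquiv.ofInjective (Φ g l) hinj
  have : Fintype (G ⧸ Subgroup.zpowers g) := Fintype.ofFinite _
  refine ⟨Module.Free.of_equiv e, ?_, LinearMap.ker (Ψ g), ?_⟩
  · rw [← e.finrank_eq, Module.finrank_fintype_fun_eq_card, ← Nat.card_eq_fintype_card,
      ← Nat.card_zpowers, mul_comm]
    exact Subgroup.card_mul_index _
  · constructor
    · rw [Submodule.disjoint_def]
      rintro x ⟨w, rfl⟩ hx
      rw [LinearMap.mem_ker, Ψ_Φ g l hl] at hx
      rw [hx, map_zero]
    · rw [codisjoint_iff, eq_top_iff]
      intro v _
      have : v = Φ g l (Ψ g v) + (v - Φ g l (Ψ g v)) := by abel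
      rw [this]
      refine Submodule.add_mem_sup ⟨_, rfl⟩ ?_
      rw [LinearMap.mem_ker, map_sub, Ψ_Φ g l hl, sub_self]

end Groth.Agent.S15488
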