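import Groth.Statements.S1549
-- import your own Groth.Agent.* helpers here
import Groth.Agent.Lib.Helper17.GeomRedSmooth
import Groth.Agent.Lib.Helper7.GrpPerfect
import Groth.Agent.Lib.Helper18.NilThickScheme
import Groth.Agent.Lib.Helper1.SmoothReduced

set_option linter.style.haveILetI false
set_option backward.isDefEq.respectTransparency false

set_option autoImplicit false
universe u
open CategoryTheory CategoryTheory.Limits AlgebraicGeometry
open Variety

namespace Groth.Agent.S1549

/-- For a reduced scheme locally of finite type over k, being geometrically reduced is equivalent to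
having a dense open subscheme that is smooth over k. -/
theorem result (k : Type u) [Field k] (X : Scheme.{u}) [X.Over (Spec (CommRingCat.of k))] [IsReduced X] [LocallyOfFiniteType (X ↘ (Spec (CommRingCat.of k)))] :
    GeometricallyReduced (X ↘ (Spec (CommRingCat.of k))) ↔ ∃ U : X.Opens, Dense (U : Set X) ∧ Smooth (U.ι ≫ (X ↘ (Spec (CommRingCat.of k)))) := by
  haveI : LocallyOfFinitePresentation (X ↘ (Spec (CommRingCat.of k))) :=
    Groth.Agent.Lib.Helper18.NilThick.locallyOfFinitePresentation_of_isLocallyNoetherian _
  constructor
  · intro h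
    exact ⟨(X ↘ (Spec (CommRingCat.of k))).smoothLocus,
      Groth.Agent.Lib.helper17.GeomRedSmooth.dense_smoothLocus_of_geometricallyReduced _,
      Groth.Agent.Lib.helper7.GrpPerfect.smooth_smoothLocus_ι _⟩
  · rintro ⟨U, hU, hsm⟩
    refine ⟨(geometrically_iff_of_commRing_of_isClosedUnderIsomorphisms).mpr fun K _ _ => ?_⟩
    set p := (X ↘ (Spec (CommRingCat.of k))) with hp
    set ψ := Spec.map (CommRingCat.ofHom (algebraMap k K)) with hψ
    haveI : IsLocallyNoetherian X := LocallyOfFiniteType.isLocallyNoetherian p
    haveI : IsDominant U.ι := ⟨by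
      rw [DenseRange, Scheme.Opens.range_ι]
      exact hU⟩
    haveI : IsSchemeTheoreticallyDominant U.ι := IsSchemeTheoreticallyDominant.of_isDominant U.ι
    haveI : Flat ψ := inferInstance
    haveI : Flat (pullback.fst p ψ) := inferInstance
    haveI : IsSchemeTheoreticallyDominant (pullback.snd U.ι (pullback.fst p ψ)) := inferInstance
    haveI : QuasiCompact (pullback.snd U.ι (pullback.fst p ψ)) := inferInstance
    haveI : Smooth (pullback.snd (U.ι ≫ p) ψ) := inferInstance
    haveI : AlgebraicGeometry.IsReduced (pullback (U.ι ≫ p) ψ) :=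
      Groth.Agent.H1.SmoothReduced.isReduced_of_smooth (pullback.snd (U.ι ≫ p) ψ)
    haveI : AlgebraicGeometry.IsReduced (pullback U.ι (pullback.fst p ψ)) :=
      isReduced_of_isOpenImmersion (pullbackRightPullbackFstIso p ψ U.ι).hom
    exact IsSchemeTheoreticallyDominant.isReduced (pullback.snd U.ι (pullback.fst p ψ))

end Groth.Agent.S1549
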