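import Groth.Statements.S15491
import Mathlib

set_option autoImplicit false
universe v u
open CategoryTheory CategoryTheory.Functor
open IsoNat

namespace Groth.Agent.S15491

open CategoryTheory.Limits in
section

variable {A B A' B' A'' B'' : Type u} [Category.{v} A] [Category.{v} B] [Category.{v} A']
  [Category.{v} B'] [Category.{v} A''] [Category.{v} B'']
  (t : A ⥤ B) (l : A ⥤ A') (r : B ⥤ B') (t' : A' ⥤ B') (l' : A' ⥤ A'') (r' : B' ⥤ B'')
  (t'' : A'' ⥤ B'') (e₁ : t ⋙ r ≅ l ⋙ t') (e₂ : t' ⋙ r' ≅ l' ⋙ t'')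

open CategoryTheory.Limits

/-- comparison functor of a square -/
abbrev cmp {X A B D : Type u} [Category.{v} X] [Category.{v} A] [Category.{v} B] [Category.{v} D]
    (T : X ⥤ A) (L : X ⥤ D) (F : A ⥤ B) (G : D ⥤ B) (e : T ⋙ F ≅ L ⋙ G) :
    X ⥤ CategoricalPullback F G :=
  (CategoricalPullback.CatCommSqOver.toFunctorToCategoricalPullback F G X).obj ⟨T, L, e⟩

/-- the functor `B ×_{B'} A' ⥤ B ×_{B''} A''` induced by the lower square -/
def Θ : CategoricalPullback r t' ⥤ CategoricalPullback (r ⋙ r') t'' where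
  obj x := ⟨x.fst, l'.obj x.snd, r'.mapIso x.iso ≪≫ e₂.app x.snd⟩
  map {x y} f :=
    { fst := f.fst
      snd := l'.map f.snd
      w := by
        have h := f.w
        have h2 := e₂.hom.naturality f.snd
        dsimp at h h2 ⊢
        rw [← Category.assoc, ← r'.map_comp, h, r'.map_comp, Category.assoc, h2, Category.assoc] }
  map_id x := by apply CategoricalPullback.hom_ext <;> simp
  map_comp f g := by apply CategoricalPullback.hom_ext <;> simp

instance Θ_faithful [(cmp t' l' r' t'' e₂).Faithful] : (Θ r t' l' r' t'' e₂).Faithful where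
  map_injective {x y} f g h := by
    have h1 : f.fst = g.fst := congrArg (fun k => k.fst) h
    have h2 : l'.map f.snd = l'.map g.snd := congrArg (fun k => k.snd) h
    have h3 : t'.map f.snd = t'.map g.snd := by
      have wf := f.w
      have wg := g.w
      rw [← cancel_epi x.iso.hom, ← wf, ← wg, h1]
    have h4 : (cmp t' l' r' t'' e₂).map f.snd = (cmp t' l' r' t'' e₂).map g.snd := by
      apply CategoricalPullback.hom_ext
      · exact h3
      · exact h2
    apply CategoricalPullback.hom_ext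
    · exact h1
    · exact (cmp t' l' r' t'' e₂).map_injective h4

instance Θ_full [(cmp t' l' r' t'' e₂).Full] : (Θ r t' l' r' t'' e₂).Full where
  map_surjective {x y} n := by
    let β : x.fst ⟶ y.fst := n.fst
    let γ : l'.obj x.snd ⟶ l'.obj y.snd := n.snd
    have hw : r'.map (r.map β) ≫ (r'.map y.iso.hom ≫ e₂.hom.app y.snd) =
        (r'.map x.iso.hom ≫ e₂.hom.app x.snd) ≫ t''.map γ := n.w
    let δ : t'.obj x.snd ⟶ t'.obj y.snd := x.iso.inv ≫ r.map β ≫ y.iso.hom
    let k : (cmp t' l' r' t'' e₂).obj x.snd ⟶ (cmp t' l' r' t'' e₂).obj y.snd :=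
      { fst := δ
        snd := γ
        w := by
          change r'.map δ ≫ e₂.hom.app y.snd = e₂.hom.app x.snd ≫ t''.map γ
          rw [← cancel_epi (r'.map x.iso.hom)]
          simp only [δ, Functor.map_comp, Category.assoc] at hw ⊢
          rw [← r'.map_comp_assoc, Iso.hom_inv_id, r'.map_id, Category.id_comp]
          exact hw }
    obtain ⟨α, hα⟩ := (cmp t' l' r' t'' e₂).map_surjective k
    have hα1 : t'.map α = δ := congrArg (fun m => m.fst) hα
    have hα2 : l'.map α = γ := congrArg (fun m => m.snd) hα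
    refine ⟨⟨β, α, ?_⟩, ?_⟩
    · rw [hα1]
      simp [δ]
    · apply CategoricalPullback.hom_ext
      · rfl
      · exact hα2

instance Θ_essSurj [(cmp t' l' r' t'' e₂).EssSurj] : (Θ r t' l' r' t'' e₂).EssSurj where
  mem_essImage y := by
    let z : CategoricalPullback r' t'' := ⟨r.obj y.fst, y.snd, y.iso⟩
    let a' : A' := (cmp t' l' r' t'' e₂).objPreimage z
    let ι : (cmp t' l' r' t'' e₂).obj a' ≅ z := (cmp t' l' r' t'' e₂).objObjPreimageIso z
    -- ι : (t' a', l' a', e₂) ≅ (r b, a'', ψ)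
    let ι₁ : t'.obj a' ≅ r.obj y.fst := (CategoricalPullback.π₁ r' t'').mapIso ι
    let ι₂ : l'.obj a' ≅ y.snd := (CategoricalPullback.π₂ r' t'').mapIso ι
    have hι : r'.map ι₁.hom ≫ y.iso.hom = e₂.hom.app a' ≫ t''.map ι₂.hom := ι.hom.w
    let x : CategoricalPullback r t' := ⟨y.fst, a', ι₁.symm⟩
    refine ⟨x, ⟨CategoricalPullback.mkIso (Iso.refl _) ι₂ ?_⟩⟩
    change (r ⋙ r').map (𝟙 y.fst) ≫ y.iso.hom =
      (r'.map ι₁.inv ≫ e₂.hom.app a') ≫ t''.map ι₂.hom
    rw [Category.assoc, ← hι, ← r'.map_comp_assoc, Iso.inv_hom_id]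
    simp

/-- the comparison functors are compatible with `Θ` -/
def cmpIso : cmp t l r t' e₁ ⋙ Θ r t' l' r' t'' e₂ ≅
    cmp t (l ⋙ l') (r ⋙ r') t''
      ((Functor.associator t r r').symm ≪≫ isoWhiskerRight e₁ r' ≪≫ Functor.associator l t' r' ≪≫
          isoWhiskerLeft l e₂ ≪≫ (Functor.associator l l' t'').symm) :=
  NatIso.ofComponents (fun a => CategoricalPullback.mkIso (Iso.refl _) (Iso.refl _) (by
    change (r ⋙ r').map (𝟙 (t.obj a)) ≫ (𝟙 _ ≫ r'.map (e₁.hom.app a) ≫ 𝟙 _ ≫ e₂.hom.app (l.obj a) ≫ 𝟙 _) =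
      (r'.map (e₁.hom.app a) ≫ e₂.hom.app (l.obj a)) ≫ t''.map (𝟙 (l'.obj (l.obj a)))
    simp))
    (fun {a a'} f => by
      apply CategoricalPullback.hom_ext
      · change t.map f ≫ 𝟙 (t.obj a') = 𝟙 (t.obj a) ≫ t.map f
        simp
      · change l'.map (l.map f) ≫ 𝟙 (l'.obj (l.obj a')) = 𝟙 (l'.obj (l.obj a)) ≫ l'.map (l.map f)
        simp)

end

/-- Pasting of 2-cartesian squares, stated in the 2-category of categories. Consider functors t : A → B,
t' : A' → B', t'' : A'' → B'' and l : A → A', r : B → B', l' : A' → A'', r' : B' → B'' with natural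
isomorphisms e₁ : t ⋙ r ≅ l ⋙ t' and e₂ : t' ⋙ r' ≅ l' ⋙ t''. If the lower square (t', l', r', t'',
e₂) is 2-cartesian (its comparison functor to the 2-fibre product is an equivalence), then the upper
square (t, l, r, t', e₁) is 2-cartesian if and only if the outer rectangle (t, l ⋙ l', r ⋙ r', t'')
with the pasted isomorphism is. (The published statement is for an arbitrary 2-category whose
2-morphisms are invertible; this row is the case of categories, functors and natural isomorphisms.) -/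
theorem result
    {A B A' B' A'' B'' : Type u} [Category.{v} A] [Category.{v} B] [Category.{v} A'] [Category.{v} B']
    [Category.{v} A''] [Category.{v} B'']
    (t : A ⥤ B) (l : A ⥤ A') (r : B ⥤ B') (t' : A' ⥤ B') (l' : A' ⥤ A'') (r' : B' ⥤ B'') (t'' : A'' ⥤ B'')
    (e₁ : t ⋙ r ≅ l ⋙ t') (e₂ : t' ⋙ r' ≅ l' ⋙ t'')
    (h₂ : FibCat.IsTwoCart t' l' r' t'' e₂) :
    FibCat.IsTwoCart t l r t' e₁ ↔
      FibCat.IsTwoCart t (l ⋙ l') (r ⋙ r') t''
        ((Functor.associator t r r').symm ≪≫ isoWhiskerRight e₁ r' ≪≫ Functor.associator l t' r' ≪≫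
          isoWhiskerLeft l e₂ ≪≫ (Functor.associator l l' t'').symm) := by
  have h₂' : (cmp t' l' r' t'' e₂).IsEquivalence := h₂
  have hΘ : (Θ r t' l' r' t'' e₂).IsEquivalence := {}
  constructor
  · intro h
    have h' : (cmp t l r t' e₁).IsEquivalence := h
    exact Functor.isEquivalence_of_iso (cmpIso t l r t' l' r' t'' e₁ e₂)
  · intro h
    have h' : (cmp t (l ⋙ l') (r ⋙ r') t''
      ((Functor.associator t r r').symm ≪≫ isoWhiskerRight e₁ r' ≪≫ Functor.associator l t' r' ≪≫
          isoWhiskerLeft l e₂ ≪≫ (Functor.associator l l' t'').symm)).IsEquivalence := h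
    have h'' : (cmp t l r t' e₁ ⋙ Θ r t' l' r' t'' e₂).IsEquivalence :=
      Functor.isEquivalence_of_iso (cmpIso t l r t' l' r' t'' e₁ e₂).symm
    exact Functor.isEquivalence_of_comp_right (cmp t l r t' e₁) (Θ r t' l' r' t'' e₂)

end Groth.Agent.S15491
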