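import Groth.Statements.S15493
import Groth.Agent.S9928
import Groth.Agent.S12774
import Groth.Agent.Lib.Helper4.DiagBC

set_option autoImplicit false
universe u
open CategoryTheory AlgebraicGeometry
open IsoNat

namespace Groth.Agent.S15493

/-- The presheaf of isomorphism classes commutes with fibre products along an open immersion. Let f : 𝒳
→ 𝒴 be a morphism of algebraic stacks over a quasi-separated scheme S and i : 𝒴' → 𝒴 an open
immersion of algebraic stacks (representable by open immersions of algebraic spaces). If two objects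
of the 2-fibre product 𝒳 ×_𝒴 𝒴' over a scheme T have isomorphic images in 𝒳 over T and isomorphic
images in 𝒴' over T, then they are isomorphic over T. (Together with the evident surjectivity this
says that the natural map from the presheaf of isomorphism classes of 𝒳 ×_𝒴 𝒴' to the fibre product
of the presheaves of 𝒳 and 𝒴' over that of 𝒴 is an isomorphism; the published statement is for
arbitrary stacks, this row takes them algebraic.) -/
theorem result
    (S : Scheme.{u}) [QuasiSeparatedSpace S]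
    (𝒳 𝒴 𝒴' : AlgSt.Cat S)
    (h𝒳 : AlgSt.IsAlgStack Scheme.fppfPrecoverage 𝒳) (h𝒴 : AlgSt.IsAlgStack Scheme.fppfPrecoverage 𝒴)
    (h𝒴' : AlgSt.IsAlgStack Scheme.fppfPrecoverage 𝒴')
    (f : 𝒳 ⥤ᵇ 𝒴) (i : 𝒴' ⥤ᵇ 𝒴) (hi : AlgSt.IsOpenImm i)
    (T : Over S) (z₁ z₂ : (FibCat.fp f i).p.Fiber T)
    (h₁ : IsoNat.mapCls (FibCat.fpFst f i) T (IsoNat.cls z₁) = IsoNat.mapCls (FibCat.fpFst f i) T (IsoNat.cls z₂))
    (h₂ : IsoNat.mapCls (FibCat.fpSnd f i) T (IsoNat.cls z₁) = IsoNat.mapCls (FibCat.fpSnd f i) T (IsoNat.cls z₂)) :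
    IsoNat.cls z₁ = IsoNat.cls z₂ := by
  classical
  -- Step 1: `i` is a monomorphism, hence fully faithful
  have hmono : AlgSt.IsMono i := by
    intro U y
    obtain ⟨F, e, he, hP⟩ := hi U y
    refine ⟨F, e, he, ?_⟩
    have hI : AlgSp.RepWith @IsImmersion
        (AlgSt.spMapOfOver (BasedFunctor.comp e (FibCat.fpFst y i))) := by
      obtain ⟨hrep, hq⟩ := (AlgSp.repWith_iff _ _).1 hP
      exact (AlgSp.repWith_iff _ _).2 ⟨hrep, fun U V g fst snd sq => by
        have := hq g fst snd sq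
        infer_instance⟩
    exact Groth.Agent.S9928.mono_of_repWith_mono _ hI
  obtain ⟨hfull, hfaith⟩ := Groth.Agent.S12774.result h𝒴'.isStack.1 h𝒴.isStack.1 i hmono
  -- Step 2: an isomorphism of the first components
  obtain ⟨a⟩ := Quotient.exact h₁
  -- components
  let a₁ : z₁.1.obj.fst ⟶ z₂.1.obj.fst := (Functor.Fiber.fiberInclusion.mapIso a).hom
  let a₂ : z₂.1.obj.fst ⟶ z₁.1.obj.fst := (Functor.Fiber.fiberInclusion.mapIso a).inv
  have ha12 : a₁ ≫ a₂ = 𝟙 _ := (Functor.Fiber.fiberInclusion.mapIso a).hom_inv_id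
  have ha21 : a₂ ≫ a₁ = 𝟙 _ := (Functor.Fiber.fiberInclusion.mapIso a).inv_hom_id
  have ha₁ : 𝒳.p.IsHomLift (𝟙 T) a₁ := a.hom.2
  have ha₂ : 𝒳.p.IsHomLift (𝟙 T) a₂ := a.inv.2
  -- second components via fullness of `i`
  let c₁ : i.toFunctor.obj z₁.1.obj.snd ⟶ i.toFunctor.obj z₂.1.obj.snd :=
    z₁.1.obj.iso.inv ≫ f.toFunctor.map a₁ ≫ z₂.1.obj.iso.hom
  let c₂ : i.toFunctor.obj z₂.1.obj.snd ⟶ i.toFunctor.obj z₁.1.obj.snd :=
    z₂.1.obj.iso.inv ≫ f.toFunctor.map a₂ ≫ z₁.1.obj.iso.hom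
  let b₁ : z₁.1.obj.snd ⟶ z₂.1.obj.snd := i.toFunctor.preimage c₁
  let b₂ : z₂.1.obj.snd ⟶ z₁.1.obj.snd := i.toFunctor.preimage c₂
  have hb₁ : i.toFunctor.map b₁ = c₁ := i.toFunctor.map_preimage c₁
  have hb₂ : i.toFunctor.map b₂ = c₂ := i.toFunctor.map_preimage c₂
  have hc12 : c₁ ≫ c₂ = 𝟙 _ := by
    dsimp only [c₁, c₂]
    simp only [Category.assoc, Iso.hom_inv_id_assoc]
    rw [← CategoryTheory.Functor.map_comp_assoc, ha12, CategoryTheory.Functor.map_id,
      Category.id_comp, Iso.inv_hom_id]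
  have hc21 : c₂ ≫ c₁ = 𝟙 _ := by
    dsimp only [c₁, c₂]
    simp only [Category.assoc, Iso.hom_inv_id_assoc]
    rw [← CategoryTheory.Functor.map_comp_assoc, ha21, CategoryTheory.Functor.map_id,
      Category.id_comp, Iso.inv_hom_id]
  have hb12 : b₁ ≫ b₂ = 𝟙 _ := by
    apply i.toFunctor.map_injective
    rw [CategoryTheory.Functor.map_comp, hb₁, hb₂, hc12, CategoryTheory.Functor.map_id]
  have hb21 : b₂ ≫ b₁ = 𝟙 _ := by
    apply i.toFunctor.map_injective
    rw [CategoryTheory.Functor.map_comp, hb₁, hb₂, hc21, CategoryTheory.Functor.map_id]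
  -- the isomorphism of `fp f i`
  let τ : z₁.1 ≅ z₂.1 :=
    Groth.Agent.Lib.helper4.DiagBC.fpIsoMk f i ⟨a₁, a₂, ha12, ha21⟩ ⟨b₁, b₂, hb12, hb21⟩ (by
      change f.toFunctor.map a₁ ≫ z₂.1.obj.iso.hom = z₁.1.obj.iso.hom ≫ i.toFunctor.map b₁
      rw [hb₁]
      dsimp only [c₁]
      rw [Iso.hom_inv_id_assoc])
  have hτ : (FibCat.fp f i).p.IsHomLift (𝟙 T) τ.hom := by
    have h1 : (FibCat.fp f i).p.map τ.hom = 𝒳.p.map a₁ := rfl
    have hz1 : (FibCat.fp f i).p.obj z₁.1 = T := z₁.2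
    have hz2 : (FibCat.fp f i).p.obj z₂.1 = T := z₂.2
    apply IsHomLift.of_fac' _ _ _ hz1 hz2
    rw [h1]
    exact IsHomLift.fac' 𝒳.p (𝟙 T) a₁
  have hτ' : (FibCat.fp f i).p.IsHomLift (𝟙 T) τ.inv := IsHomLift.lift_id_inv _ _ _
  apply Quotient.sound
  exact ⟨{ hom := ⟨τ.hom, hτ⟩
           inv := ⟨τ.inv, hτ'⟩
           hom_inv_id := by
             apply Functor.Fiber.hom_ext
             exact τ.hom_inv_id
           inv_hom_id := by
             apply Functor.Fiber.hom_ext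
             exact τ.inv_hom_id }⟩

end Groth.Agent.S15493
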