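import Groth.Statements.S15495
import Mathlib.Algebra.Ring.GeomSum
import Mathlib.RingTheory.Jacobson.Ideal
import Mathlib.RingTheory.Ideal.Operations

set_option autoImplicit false
universe u
open CAlg

namespace Groth.Agent.S15495

/-- In an Artinian local ring R whose maximal ideal m contains the prime number p, the multiplicative
group 1 + m is annihilated under some power of p: there is n with (1 + x)^(p^n) = 1 for every x in
m. (The published text makes this assertion inside a proof, for Artinian local algebras over the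
Witt ring of a perfect field of characteristic p; only p ∈ m and the nilpotence of m are used.) -/
theorem result
    (R : Type u) [CommRing R] [IsLocalRing R] [IsArtinianRing R]
    (p : ℕ) (hp : p.Prime) (hpm : (p : R) ∈ IsLocalRing.maximalIdeal R) :
    ∃ n : ℕ, ∀ x ∈ IsLocalRing.maximalIdeal R, (1 + x) ^ (p ^ n) = 1 := by
  set m := IsLocalRing.maximalIdeal R with hm
  -- `a ≡ 1 mod m^j` implies `a^p ≡ 1 mod m^(j+1)` for `j ≥ 1`
  have step : ∀ (j : ℕ) (a : R), a - 1 ∈ m → a - 1 ∈ m ^ j → a ^ p - 1 ∈ m ^ (j + 1) := by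
    intro j a ha1 haj
    have hpow : ∀ i : ℕ, a ^ i - 1 ∈ m := by
      intro i
      rw [← mul_geom_sum]
      exact m.mul_mem_right _ ha1
    have hsum : ∑ i ∈ Finset.range p, a ^ i ∈ m := by
      have h1 : ∑ i ∈ Finset.range p, a ^ i = ∑ i ∈ Finset.range p, (a ^ i - 1) + (p : R) := by
        rw [Finset.sum_sub_distrib, Finset.sum_const, Finset.card_range, nsmul_eq_mul, mul_one]
        ring
      rw [h1]
      exact m.add_mem (m.sum_mem fun i _ => hpow i) hpm
    rw [← mul_geom_sum, pow_succ]
    exact Ideal.mul_mem_mul haj hsum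
  have main : ∀ (k : ℕ) (x : R), x ∈ m → (1 + x) ^ (p ^ k) - 1 ∈ m ^ (k + 1) := by
    intro k
    induction k with
    | zero => intro x hx; simpa using hx
    | succ k ih =>
      intro x hx
      rw [show p ^ (k + 1) = p ^ k * p from pow_succ p k, pow_mul]
      have h1 := ih x hx
      have h2 : (1 + x) ^ p ^ k - 1 ∈ m := Ideal.pow_le_self (Nat.succ_ne_zero k) h1
      exact step (k + 1) _ h2 h1
  obtain ⟨N, hN⟩ : IsNilpotent m := by
    have := IsArtinianRing.isNilpotent_jacobson_bot (R := R)
    rwa [IsLocalRing.jacobson_eq_maximalIdeal _ bot_ne_top] at this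
  refine ⟨N, fun x hx => ?_⟩
  have h := main N x hx
  rw [pow_succ, hN, Ideal.zero_eq_bot, Ideal.bot_mul, Ideal.mem_bot] at h
  exact sub_eq_zero.mp h

end Groth.Agent.S15495
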