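import Groth.Statements.S15498
import Mathlib

set_option autoImplicit false
open NewtonPoly

namespace Groth.Agent.S15498

section aux

lemma div_add_div (m n a b : ℕ) (hmn : Nat.Coprime m n) (ha : 0 < a) (hb : 0 < b)
    (hab : a + b = m) (hn : 0 < n) :
    a * n / m + b * n / m + 1 = n := by
  have hm : 0 < m := by omega
  have hra : a * n % m ≠ 0 := by
    intro h
    have hd : m ∣ a * n := Nat.dvd_of_mod_eq_zero h
    have h1 := hmn.dvd_of_dvd_mul_right hd
    have h2 := Nat.le_of_dvd ha h1
    omega
  have hrb : b * n % m ≠ 0 := by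
    intro h
    have hd : m ∣ b * n := Nat.dvd_of_mod_eq_zero h
    have h1 := hmn.dvd_of_dvd_mul_right hd
    have h2 := Nat.le_of_dvd hb h1
    omega
  have h1 := Nat.div_add_mod (a * n) m
  have h2 := Nat.div_add_mod (b * n) m
  have h3 : a * n + b * n = m * n := by rw [← add_mul, hab]
  have hlt1 := Nat.mod_lt (a * n) hm
  have hlt2 := Nat.mod_lt (b * n) hm
  generalize a * n / m = qa at *
  generalize b * n / m = qb at *
  generalize a * n % m = ra at *
  generalize b * n % m = rb at *
  have h4 : m * (qa + qb) + (ra + rb) = m * n := by rw [mul_add]; omega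
  have h5 : m * (qa + qb) < m * n := by omega
  have h6 : m * n < m * (qa + qb + 2) := by
    have : m * (qa + qb + 2) = m * (qa + qb) + 2 * m := by ring
    omega
  have h7 := Nat.lt_of_mul_lt_mul_left h5
  have h8 := Nat.lt_of_mul_lt_mul_left h6
  omega

lemma two_mul_sum_div (m n : ℕ) (hm : 0 < m) (hn : 0 < n) (hmn : Nat.Coprime m n) :
    2 * ∑ j ∈ Finset.range m, j * n / m = (m - 1) * (n - 1) := by
  obtain ⟨m', rfl⟩ := Nat.exists_eq_succ_of_ne_zero hm.ne'
  rw [Finset.sum_range_succ']
  simp only [zero_mul, Nat.zero_div, add_zero]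
  have hrefl := Finset.sum_range_reflect (fun t => (t + 1) * n / (m' + 1)) m'
  have h2 : ∑ t ∈ Finset.range m', ((m' - 1 - t + 1) * n / (m' + 1) + (t + 1) * n / (m' + 1))
      = ∑ _t ∈ Finset.range m', (n - 1) := by
    refine Finset.sum_congr rfl (fun t ht => ?_)
    have ht' : t < m' := Finset.mem_range.1 ht
    have := div_add_div (m' + 1) n (m' - 1 - t + 1) (t + 1) hmn (by omega) (by omega)
      (by omega) hn
    omega
  rw [Finset.sum_add_distrib, hrefl, Finset.sum_const, Finset.card_range, smul_eq_mul] at h2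
  rw [two_mul]
  exact h2

lemma row_count (m n j : ℕ) (hm : 0 < m) (hj : j < m) :
    ((Finset.range (m + n + 1)).filter
      (fun i => i ≤ j + n ∧ j * (m + n) < i * m)).card = n - j * n / m := by
  have : (Finset.range (m + n + 1)).filter (fun i => i ≤ j + n ∧ j * (m + n) < i * m)
      = Finset.Ioc (j + j * n / m) (j + n) := by
    ext i
    simp only [Finset.mem_filter, Finset.mem_range, Finset.mem_Ioc]
    constructor
    · rintro ⟨_, h1, h2⟩
      refine ⟨?_, h1⟩
      have hij : j < i := by
        by_contra hcon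
        have h3 : i * m ≤ j * m := Nat.mul_le_mul_right m (not_lt.1 hcon)
        have h4 : j * m ≤ j * (m + n) := Nat.mul_le_mul_left j (by omega)
        omega
      obtain ⟨t, rfl⟩ : ∃ t, i = j + t := ⟨i - j, by omega⟩
      have h5 : j * n < t * m := by
        have e1 : j * (m + n) = j * m + j * n := by ring
        have e2 : (j + t) * m = j * m + t * m := by ring
        omega
      have h6 : j * n / m < t := (Nat.div_lt_iff_lt_mul hm).2 h5
      omega
    · rintro ⟨h1, h2⟩
      refine ⟨by omega, h2, ?_⟩
      have hji : j ≤ i := le_trans (Nat.le_add_right _ _) h1.le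
      obtain ⟨t, rfl⟩ : ∃ t, i = j + t := ⟨i - j, by omega⟩
      have h6 : j * n / m < t := by
        generalize j * n / m = d at h1
        omega
      have h5 : j * n < t * m := (Nat.div_lt_iff_lt_mul hm).1 h6
      have e1 : j * (m + n) = j * m + j * n := by ring
      have e2 : (j + t) * m = j * m + t * m := by ring
      omega
  rw [this, Nat.card_Ioc]
  generalize j * n / m = d
  omega

end aux

/-- Let m, n ≥ 1 be coprime, h = m + n, δ the segment from (0,0) to (h,m) (the isoclinic Newton polygon
of slope m/h) and ρ the ordinary polygon with n slopes 0 followed with m slopes 1, so ρ(i) = max(0,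
i − n). The integer points (i,j), 0 ≤ i ≤ h, on or above ρ and strictly below δ — that is max(0, i −
n) ≤ j and j·h < i·m — are (m−1)(n−1)/2 + (m+n−1) in number (which equals mn − r for r =
(m−1)(n−1)/2). (The published text works under m ≥ n > 0 coprime; the inequality m ≥ n is not used
and not assumed.) -/
theorem result
    (m n : ℕ) (hm : 0 < m) (hn : 0 < n) (hmn : Nat.Coprime m n) :
    ((Finset.range (m + n + 1) ×ˢ Finset.range (m + 1)).filter
      (fun ij : ℕ × ℕ => ij.1 ≤ ij.2 + n ∧ ij.2 * (m + n) < ij.1 * m)).card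
      = (m - 1) * (n - 1) / 2 + (m + n - 1) := by
  have hcard : ((Finset.range (m + n + 1) ×ˢ Finset.range (m + 1)).filter
      (fun ij : ℕ × ℕ => ij.1 ≤ ij.2 + n ∧ ij.2 * (m + n) < ij.1 * m)).card
      = ∑ j ∈ Finset.range (m + 1), ((Finset.range (m + n + 1)).filter
        (fun i => i ≤ j + n ∧ j * (m + n) < i * m)).card := by
    rw [Finset.card_filter, Finset.sum_product_right]
    refine Finset.sum_congr rfl (fun j _ => ?_)
    rw [Finset.card_filter]
  rw [hcard, Finset.sum_range_succ]
  have hlast : ((Finset.range (m + n + 1)).filter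
      (fun i => i ≤ m + n ∧ m * (m + n) < i * m)).card = 0 := by
    rw [Finset.card_eq_zero, Finset.filter_eq_empty_iff]
    rintro i _ ⟨h1, h2⟩
    have : i * m ≤ (m + n) * m := Nat.mul_le_mul_right m h1
    have e : (m + n) * m = m * (m + n) := by ring
    omega
  rw [hlast, add_zero]
  rw [Finset.sum_congr rfl (fun j hj => row_count m n j hm (Finset.mem_range.1 hj))]
  have hle : ∀ j ∈ Finset.range m, j * n / m ≤ n := by
    intro j hj
    have hj' : j < m := Finset.mem_range.1 hj
    apply Nat.div_le_of_le_mul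
    have : j * n ≤ m * n := Nat.mul_le_mul_right n hj'.le
    exact this
  have hsum : ∑ j ∈ Finset.range m, (n - j * n / m) + ∑ j ∈ Finset.range m, j * n / m = m * n := by
    rw [← Finset.sum_add_distrib]
    rw [Finset.sum_congr rfl (fun j hj => Nat.sub_add_cancel (hle j hj))]
    rw [Finset.sum_const, Finset.card_range, smul_eq_mul]
  have h2 := two_mul_sum_div m n hm hn hmn
  have e : m * n = (m - 1) * (n - 1) + (m + n - 1) := by
    obtain ⟨m', rfl⟩ := Nat.exists_eq_succ_of_ne_zero hm.ne'
    obtain ⟨n', rfl⟩ := Nat.exists_eq_succ_of_ne_zero hn.ne'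
    simp only [Nat.succ_eq_add_one, Nat.add_sub_cancel]
    have : m' + 1 + (n' + 1) - 1 = m' + n' + 1 := by omega
    rw [this]; ring
  have h3 : (m - 1) * (n - 1) / 2 = ∑ j ∈ Finset.range m, j * n / m := by
    rw [← h2, Nat.mul_div_cancel_left _ (by norm_num : 0 < 2)]
  rw [h3]
  omega

end Groth.Agent.S15498
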