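import Groth.Statements.S17853
import Groth.Agent.Lib.Helper12.HorAff
import Groth.Agent.Lib.Helper12.HorP1

set_option linter.style.haveILetI false
set_option linter.unusedSectionVars false

set_option autoImplicit false
open Polynomial LaurentPolynomial TensorProduct
universe u
open CAlg

namespace Groth.Agent.S17853

/-- For an arbitrary commutative ring A, a finitely generated projective A[t]-module M is extended from
A (isomorphic to A[t] ⊗_A P for an A-module P) if and only if it extends to a vector bundle on the
projective line over A. The latter is stated by gluing: there are a finitely generated projective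
module N over the polynomial ring of the chart at infinity and an isomorphism over the Laurent
polynomial ring between the localisation of M and the base change of N along s ↦ t⁻¹, written as a
bijective additive map A[t,t⁻¹] ⊗ M → A[t,t⁻¹] ⊗ N that is semilinear with respect to the A-algebra
involution t ↦ t⁻¹ of A[t,t⁻¹]. (The published statement adds: for A semilocal, M is then free on
each connected component of the affine line.) -/
theorem result
    (A : Type u) [CommRing A] (M : Type u) [AddCommGroup M] [Module A[X] M]
    [Module.Finite A[X] M] [Module.Projective A[X] M] :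
    (∃ (P : Type u) (_ : AddCommGroup P) (_ : Module A P), Nonempty (M ≃ₗ[A[X]] (A[X] ⊗[A] P))) ↔
      ∃ (N : Type u) (_ : AddCommGroup N) (_ : Module A[X] N),
        Module.Finite A[X] N ∧ Module.Projective A[X] N ∧
        ∃ e : (A[T;T⁻¹] ⊗[A[X]] M) →ₛₗ[(LaurentPolynomial.invert (R := A)).toRingEquiv.toRingHom]
            (A[T;T⁻¹] ⊗[A[X]] N), Function.Bijective e := by
  classical
  haveI := Groth.Agent.Lib.helper12.HorP1.towerLaurent A
  constructor
  · rintro ⟨P, _, _, ⟨φ⟩⟩
    refine ⟨M, inferInstance, inferInstance, inferInstance, inferInstance, ?_⟩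
    let Φ : A[T;T⁻¹] ⊗[A[X]] M ≃ₗ[A[T;T⁻¹]] A[T;T⁻¹] ⊗[A] P :=
      (LinearEquiv.baseChange A[X] A[T;T⁻¹] M (A[X] ⊗[A] P) φ) ≪≫ₗ
        (TensorProduct.AlgebraTensorModule.cancelBaseChange A A[X] A[T;T⁻¹] A[T;T⁻¹] P)
    let e : (A[T;T⁻¹] ⊗[A[X]] M) →ₛₗ[(LaurentPolynomial.invert (R := A)).toRingEquiv.toRingHom]
        (A[T;T⁻¹] ⊗[A[X]] M) :=
      { toFun := fun x => Φ.symm (Groth.Agent.Lib.helper12.HorP1.tauInv P (Φ x))
        map_add' := fun x y => by simp only [map_add]
        map_smul' := fun l x => by
          rw [map_smul, Groth.Agent.Lib.helper12.HorP1.tauInv_smul, map_smul]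
          rfl }
    refine ⟨e, ?_⟩
    have hinv : Function.Involutive e := by
      intro x
      show Φ.symm (Groth.Agent.Lib.helper12.HorP1.tauInv P (Φ (Φ.symm
        (Groth.Agent.Lib.helper12.HorP1.tauInv P (Φ x))))) = x
      rw [LinearEquiv.apply_symm_apply, Groth.Agent.Lib.helper12.HorP1.tauInv_tauInv,
        LinearEquiv.symm_apply_apply]
    exact hinv.bijective
  · rintro ⟨N, _, _, hNfin, hNproj, e, he⟩
    obtain ⟨N0, _, _, _, _, g, α, β, hg, hβα, hαβ⟩ :=
      Groth.Agent.Lib.helper12.HorP1.exists_pseudo_extended (A := A) N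
    obtain ⟨F, uu, vv, hF, hvu, huv⟩ :=
      Groth.Agent.Lib.helper12.HorP1.pseudoIso_of_glue g hg α β hβα hαβ e he
    exact Groth.Agent.Lib.helper12.HorAff.extended_of_pseudoIso M N0 F hF uu vv hvu huv

end Groth.Agent.S17853
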