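import Groth.Statements.S15505
import Mathlib.FieldTheory.Finite.Basic
import Mathlib.FieldTheory.Perfect
import Mathlib.LinearAlgebra.Basis.Basic
import Mathlib.FieldTheory.IsAlgClosed.Basic

set_option autoImplicit false
universe u v w
open FrobAlg

namespace Groth.Agent.S15505

/-- Let k be an algebraically closed field of characteristic p, V a k-vector space, φ a p⁻¹-linear
endomorphism of V (additive, φ(a·v) = a^{1/p}·φ(v)) and b a finite basis of V consisting of vectors
fixed by φ. Then the vectors fixed by φ are exactly the combinations of the b_i with coefficients in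
the prime field: v is fixed if and only if v = Σ c_i·b_i with all c_i in the image of ℤ/p. -/
theorem result (p : ℕ) [Fact p.Prime]
    (k : Type u) [Field k] [CharP k p] [IsAlgClosed k]
    (V : Type v) [AddCommGroup V] [Module k V]
    (φ : V →ₛₗ[((frobeniusEquiv k p).symm : k →+* k)] V)
    {ι : Type w} [Fintype ι] (b : Module.Basis ι k V) (hb : ∀ i, φ (b i) = b i) (v : V) :
    φ v = v ↔ ∃ c : ι → ZMod p, v = ∑ i, (ZMod.castHom (dvd_refl p) k (c i)) • b i := by
  have hφ : ∀ w : V, φ w = ∑ i, ((frobeniusEquiv k p).symm (b.repr w i)) • b i := by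
    intro w
    conv_lhs => rw [← b.sum_repr w]
    rw [map_sum]
    refine Finset.sum_congr rfl fun i _ => ?_
    rw [φ.map_smulₛₗ, hb]
    rfl
  constructor
  · intro hv
    have hcoef : ∀ i, (b.repr v i) ^ p = b.repr v i := by
      intro i
      have h1 : b.repr (φ v) i = (frobeniusEquiv k p).symm (b.repr v i) := by
        rw [hφ v, map_sum]
        simp only [map_smul, Module.Basis.repr_self, Finsupp.coe_finsetSum, Finset.sum_apply,
          Finsupp.coe_smul, Pi.smul_apply, smul_eq_mul]
        rw [Finset.sum_eq_single i]
        · simp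
        · intro j _ hji
          rw [Finsupp.single_eq_of_ne (Ne.symm hji), mul_zero]
        · intro hi; exact absurd (Finset.mem_univ i) hi
      rw [hv] at h1
      conv_lhs => rw [h1]
      exact frobeniusEquiv_symm_pow_p k p _
    have hmem : ∀ i, ∃ c : ZMod p, ZMod.castHom (dvd_refl p) k c = b.repr v i := by
      intro i
      have h2 : b.repr v i ∈ (⊥ : Subfield k) := (Subfield.mem_bot_iff_pow_eq_self k p).2 (hcoef i)
      rw [← ZMod.fieldRange_castHom_eq_bot p] at h2
      exact h2
    choose c hc using hmem
    refine ⟨c, ?_⟩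
    conv_lhs => rw [← b.sum_repr v]
    exact Finset.sum_congr rfl fun i _ => by rw [hc]
  · rintro ⟨c, rfl⟩
    rw [map_sum]
    refine Finset.sum_congr rfl fun i _ => ?_
    rw [φ.map_smulₛₗ, hb]
    congr 1
    have h3 : (ZMod.castHom (dvd_refl p) k (c i)) ^ p = ZMod.castHom (dvd_refl p) k (c i) := by
      rw [← map_pow, ZMod.pow_card]
    change (frobeniusEquiv k p).symm (ZMod.castHom (dvd_refl p) k (c i)) = _
    conv_lhs => rw [← h3]
    exact frobeniusEquiv_symm_pow k p _

end Groth.Agent.S15505
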