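import Groth.Statements.S15506
import Mathlib

set_option autoImplicit false
universe u
open CategoryTheory AlgebraicGeometry
open EtBase

namespace Groth.Agent.S15506

open CategoryTheory CategoryTheory.Limits AlgebraicGeometry Opposite TopologicalSpace

theorem isIntegral_of_etale_field {k A : Type u} [Field k] [CommRing A] (φ₀ : k →+* A)
    (h : φ₀.Etale) : φ₀.IsIntegral := by
  algebraize [φ₀]
  have h1 : Algebra.FormallyUnramified k A := inferInstance
  have h2 : Algebra.EssFiniteType k A := inferInstance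
  have h3 : Module.Finite k A := Algebra.FormallyUnramified.finite_of_free k A
  have h4 : Algebra.IsIntegral k A := inferInstance
  exact algebraMap_isIntegral_iff.mpr h4

theorem mem_range_of_isIntegral {K Ω : Type u} [Field K] [IsAlgClosed K] [Field Ω] [Algebra K Ω]
    (ω : Ω) (h : IsIntegral K ω) : ω ∈ (algebraMap K Ω).range := by
  have hirr := minpoly.irreducible h
  have hdeg := IsAlgClosed.degree_eq_one_of_irreducible K hirr
  exact (minpoly.degree_eq_one_iff).mp hdeg

theorem epi_spec_field (K Ω : Type u) [Field K] [Field Ω] [Algebra K Ω] :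
    Epi (Spec.map (CommRingCat.ofHom (algebraMap K Ω))) := by
  have h : (CommRingCat.ofHom (algebraMap K Ω)).hom.FaithfullyFlat := by
    change (algebraMap K Ω).FaithfullyFlat
    rw [RingHom.faithfullyFlat_algebraMap_iff]
    infer_instance
  obtain ⟨h1, h2⟩ := (flat_and_surjective_SpecMap_iff _).mpr h
  exact Flat.epi_of_flat_of_surjective _

/-- Let k be a field, K an algebraic closure of k (an algebraically closed field algebraic over k), Ω a
field containing K, and Z a scheme étale over Spec k. Composition with Spec Ω → Spec K is a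
bijection from the k-morphisms Spec K → Z onto the k-morphisms Spec Ω → Z: two k-morphisms Spec K →
Z that agree on Spec Ω are equal, and every k-morphism Spec Ω → Z factors through Spec K. (The
published statement is the case where k has characteristic zero with a chosen embedding of its
algebraic closure into the complex numbers, Ω = ℂ, and Z is the scheme of isomorphisms between two
K3 surfaces over k, known there to be étale over k; this row states the fact about an arbitrary
étale k-scheme that the argument establishes.) -/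
theorem result
    (k K Ω : Type u) [Field k] [Field K] [Field Ω] [Algebra k K] [IsAlgClosed K] [Algebra.IsAlgebraic k K]
    [Algebra K Ω] [Algebra k Ω] [IsScalarTower k K Ω]
    (Z : Scheme.{u}) (f : Z ⟶ Spec (CommRingCat.of k)) [AlgebraicGeometry.Etale f] :
    (∀ g₁ g₂ : Spec (CommRingCat.of K) ⟶ Z,
        g₁ ≫ f = Spec.map (CommRingCat.ofHom (algebraMap k K)) →
        g₂ ≫ f = Spec.map (CommRingCat.ofHom (algebraMap k K)) →
        Spec.map (CommRingCat.ofHom (algebraMap K Ω)) ≫ g₁ = Spec.map (CommRingCat.ofHom (algebraMap K Ω)) ≫ g₂ →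
        g₁ = g₂) ∧
    (∀ h : Spec (CommRingCat.of Ω) ⟶ Z, h ≫ f = Spec.map (CommRingCat.ofHom (algebraMap k Ω)) →
        ∃ g : Spec (CommRingCat.of K) ⟶ Z, g ≫ f = Spec.map (CommRingCat.ofHom (algebraMap k K)) ∧
          Spec.map (CommRingCat.ofHom (algebraMap K Ω)) ≫ g = h) := by
  have hepi := epi_spec_field K Ω
  refine ⟨fun g₁ g₂ _ _ h12 => (cancel_epi _).mp h12, fun h hh => ?_⟩
  let z : Z := h (IsLocalRing.closedPoint Ω)
  obtain ⟨V, hV, hzV⟩ : ∃ V : Z.Opens, IsAffineOpen V ∧ z ∈ V := by
    obtain ⟨_, ⟨V, hV, rfl⟩, hzV, -⟩ :=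
      Z.isBasis_affineOpens.exists_subset_of_mem_open (Set.mem_univ z) isOpen_univ
    exact ⟨V, hV, hzV⟩
  have hrange : Set.range h ⊆ Set.range V.ι := by
    rintro _ ⟨y, rfl⟩
    have hy : y = IsLocalRing.closedPoint Ω :=
      @Subsingleton.elim (PrimeSpectrum Ω) _ y (IsLocalRing.closedPoint Ω)
    rw [Scheme.Opens.range_ι, hy]
    exact hzV
  let h' : Spec (CommRingCat.of Ω) ⟶ ↑V := IsOpenImmersion.lift V.ι h hrange
  have hh' : h' ≫ V.ι = h := IsOpenImmersion.lift_fac _ _ _
  have : IsAffine ↑V := hV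
  let g : (↑V : Scheme.{u}) ⟶ Spec (CommRingCat.of k) := V.ι ≫ f
  have hg : (g.appTop).hom.Etale :=
    (HasRingHomProperty.iff_of_isAffine (P := @Etale)).mp inferInstance
  let φ₀ : k →+* Γ(↑V, ⊤) := g.appTop.hom.comp (Scheme.ΓSpecIso (CommRingCat.of k)).inv.hom
  have hφ₀ : φ₀.Etale := by
    refine RingHom.Etale.stableUnderComposition _ _ (RingHom.Etale.of_bijective ?_) hg
    exact ConcreteCategory.bijective_of_isIso (Scheme.ΓSpecIso (CommRingCat.of k)).inv
  have hint : φ₀.IsIntegral := isIntegral_of_etale_field φ₀ hφ₀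
  let χ : Γ(↑V, ⊤) →+* Ω := (Scheme.ΓSpecIso (CommRingCat.of Ω)).hom.hom.comp h'.appTop.hom
  have hcat : (Scheme.ΓSpecIso (CommRingCat.of k)).inv ≫ g.appTop ≫ h'.appTop ≫
      (Scheme.ΓSpecIso (CommRingCat.of Ω)).hom = CommRingCat.ofHom (algebraMap k Ω) := by
    have e1 : h' ≫ g = Spec.map (CommRingCat.ofHom (algebraMap k Ω)) := by
      change h' ≫ V.ι ≫ f = _
      rw [← Category.assoc, hh', hh]
    have e2 := congrArg Scheme.Hom.appTop e1
    rw [Scheme.Hom.comp_appTop] at e2
    rw [← Category.assoc g.appTop, e2, Scheme.ΓSpecIso_naturality, Iso.inv_hom_id_assoc]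
  have hχφ : χ.comp φ₀ = algebraMap k Ω := by
    have := congrArg CommRingCat.Hom.hom hcat
    exact this
  let ι : K →+* Ω := algebraMap K Ω
  have hmem : ∀ a, χ a ∈ ι.range := by
    intro a
    apply mem_range_of_isIntegral
    obtain ⟨p, hp, hpa⟩ := hint a
    refine ⟨p.map (algebraMap k K), hp.map _, ?_⟩
    rw [Polynomial.eval₂_map, ← IsScalarTower.algebraMap_eq, ← hχφ, ← Polynomial.hom_eval₂, hpa,
      map_zero]
  let χ' : Γ(↑V, ⊤) →+* ι.range := χ.codRestrict ι.range hmem
  let eι : K ≃+* ι.range := RingEquiv.ofBijective ι.rangeRestrict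
    ⟨fun _ _ hab => ι.injective (congrArg Subtype.val hab), ι.rangeRestrict_surjective⟩
  let χK : Γ(↑V, ⊤) →+* K := eι.symm.toRingHom.comp χ'
  have hχK : ι.comp χK = χ := by
    ext a
    have h1 : (eι (eι.symm (χ' a)) : Ω) = χ a := by
      rw [RingEquiv.apply_symm_apply]
      rfl
    exact h1
  let gK : Spec (CommRingCat.of K) ⟶ Z :=
    Spec.map (CommRingCat.ofHom χK) ≫ (↑V : Scheme.{u}).isoSpec.inv ≫ V.ι
  have hgK : Spec.map (CommRingCat.ofHom ι) ≫ gK = h := by
    rw [← hh']
    change Spec.map _ ≫ Spec.map _ ≫ _ ≫ _ = _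
    rw [← Category.assoc, ← Spec.map_comp]
    have h2 : CommRingCat.ofHom χK ≫ CommRingCat.ofHom ι =
        h'.appTop ≫ (Scheme.ΓSpecIso (CommRingCat.of Ω)).hom := by
      ext a
      exact congrFun (congrArg DFunLike.coe hχK) a
    rw [h2, Spec.map_comp, Category.assoc, Scheme.isoSpec_inv_naturality_assoc,
      Scheme.isoSpec_Spec_inv, ← Spec.map_comp_assoc, Iso.inv_hom_id, Spec.map_id,
      Category.id_comp]
  refine ⟨gK, ?_, hgK⟩
  rw [← cancel_epi (Spec.map (CommRingCat.ofHom ι)), ← Category.assoc, hgK, hh, ← Spec.map_comp]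
  congr 1
  ext a
  exact IsScalarTower.algebraMap_apply k K Ω a

end Groth.Agent.S15506
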