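import Groth.Statements.S15512
import Mathlib
import Groth.Agent.Lib.Helper26.ExtRing
import Groth.Agent.Lib.Helper26.ProjDimRegular

set_option autoImplicit false
universe u
open CategoryTheory
open CAlg

namespace Groth.Agent.S15512

/-- Let A be a Noetherian ring which is regular (its localization at every maximal ideal is a regular
local ring) and of finite Krull dimension, M a finitely generated A-module and d a natural number.
If Ext^i_A(M, A) vanishes for every i > d, then the projective dimension of M is at most d. -/
theorem result (A : Type u) [CommRing A]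
    [IsNoetherianRing A] (hreg : ∀ m : MaximalSpectrum A, IsRegularLocalRing (Localization.AtPrime m.asIdeal))
    (hdim : ringKrullDim A < ⊤) (M : Type u) [AddCommGroup M] [Module A M] [Module.Finite A M] (d : ℕ)
    (h : ∀ i : ℕ, d < i → Subsingleton (Abelian.Ext (ModuleCat.of A M) (ModuleCat.of A A) i)) :
    HasProjectiveDimensionLT (ModuleCat.of A M) (d + 1) := by
  let Mc : ModuleCat.{u} A := ModuleCat.of A M
  have hfinM : Module.Finite A Mc := ‹Module.Finite A M›
  obtain ⟨D, hD⟩ : ∃ D : ℕ, ringKrullDim A ≤ (D : WithBot ℕ∞) := by
    generalize ringKrullDim A = k at hdim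
    induction k with
    | bot => exact ⟨0, bot_le⟩
    | coe k =>
      induction k with
      | top => exact absurd hdim (lt_irrefl _)
      | coe D => exact ⟨D, le_rfl⟩
  have hpdD : HasProjectiveDimensionLE Mc D := by
    rw [ModuleCat.hasProjectiveDimensionLE_iff_forall_maximalSpectrum D Mc]
    intro m
    have hreg' := hreg m
    have hprime : m.asIdeal.IsPrime := m.isMaximal.isPrime
    have hfin : Module.Finite (Localization.AtPrime m.asIdeal)
        (LocalizedModule m.asIdeal.primeCompl M) :=
      Module.Finite.of_isLocalizedModule m.asIdeal.primeCompl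
        (LocalizedModule.mkLinearMap _ _)
    have h1 := Groth.Agent.Lib.helper26.PDReg.hasProjectiveDimensionLE_of_isRegularLocalRing _
      (Localization.AtPrime m.asIdeal) rfl (LocalizedModule m.asIdeal.primeCompl M)
    have hle : (IsLocalRing.maximalIdeal (Localization.AtPrime m.asIdeal)).spanFinrank ≤ D := by
      have h2 := IsRegularLocalRing.spanFinrank_maximalIdeal (R := Localization.AtPrime m.asIdeal)
      have h3 : ringKrullDim (Localization.AtPrime m.asIdeal) ≤ ringKrullDim A := by
        rw [IsLocalization.AtPrime.ringKrullDim_eq_height m.asIdeal (Localization.AtPrime m.asIdeal)]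
        exact Ideal.height_le_ringKrullDim_of_isPrime
      have h4 := (h2 ▸ h3).trans hD
      exact_mod_cast h4
    have h5 : HasProjectiveDimensionLE (ModuleCat.of (Localization.AtPrime m.asIdeal)
        (LocalizedModule m.asIdeal.primeCompl M)) D :=
      @hasProjectiveDimensionLT_of_ge _ _ _ _
        ((IsLocalRing.maximalIdeal (Localization.AtPrime m.asIdeal)).spanFinrank + 1) (D + 1)
        (by omega) h1
    have e : (Mc.localizedModule m.1.primeCompl) ≃ₗ[Localization m.asIdeal.primeCompl]
        (ModuleCat.of (Localization m.asIdeal.primeCompl)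
          (LocalizedModule m.asIdeal.primeCompl M)) :=
      Shrink.linearEquiv (Localization m.asIdeal.primeCompl) (LocalizedModule m.asIdeal.primeCompl M)
    have h6 : HasProjectiveDimensionLE (ModuleCat.of (Localization m.asIdeal.primeCompl)
        (LocalizedModule m.asIdeal.primeCompl M)) D := h5
    exact ModuleCat.hasProjectiveDimensionLE_of_linearEquiv e.symm D
  exact Groth.Agent.Lib.helper26.ExtRing.hasProjectiveDimensionLT_succ_of_forall_ext_ring
    Mc d (D + 1) hpdD h


end Groth.Agent.S15512
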