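import Groth.Statements.S15514
import Groth.Agent.Lib.Helper21.FLFDualExt
import Groth.Agent.Lib.Helper21.ExtAdj
import Groth.Agent.Lib.Helper21.ModGroth
import Groth.Agent.Lib.Helper11.ProjFormulaA
-- import your own Groth.Agent.* helpers here

set_option autoImplicit false
universe u
open CategoryTheory CategoryTheory.Limits AlgebraicGeometry
open Coherent

namespace Groth.Agent.S15514

open Groth.Agent.Lib.helper21.FLFDual Groth.Agent.Lib.Helper21.TensorAdj
    Groth.Agent.Lib.helper12.InvDual

theorem ei (X : Scheme.{u}) : EnoughInjectives X.Modules :=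
  Groth.Agent.Lib.Helper21.ModGroth.enoughInjectives_mod X.ringCatSheaf

/-- `- ⊗ E` -/
noncomputable def Lf (X : Scheme.{u}) (E : X.Modules) : X.Modules ⥤ X.Modules := tens X.sheaf E

noncomputable def adjX (X : Scheme.{u}) (E : X.Modules) (hE : FlatMod.IsFinLocFree E) :
  Lf X E ⊣ Lf X (dualMod E) := tensDualAdj hE

theorem pm (X : Scheme.{u}) (E : X.Modules)
    (hE : FlatMod.IsFinLocFree E) : (Lf X E).PreservesMonomorphisms :=
    ⟨fun {K I} k _ => Groth.Agent.Lib.helper11.ProjFormula.mono_tensorMap_of_isFinLocFree k hE⟩

theorem pfl (X : Scheme.{u}) (E : X.Modules)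
    (hE : FlatMod.IsFinLocFree E) : PreservesFiniteLimits (Lf X (dualMod E)) :=
  preservesFiniteLimits_tens_dualMod hE

theorem pfc (X : Scheme.{u}) (E : X.Modules) : PreservesFiniteColimits (Lf X E) :=
  preservesFiniteColimits_tens E

theorem addv (X : Scheme.{u}) (E : X.Modules) : (Lf X E).Additive :=
  additive_tens' (O := X.sheaf) E

theorem res (X : Scheme.{u}) (E : X.Modules)
    (hE : FlatMod.IsFinLocFree E) (F G : X.Modules)
    [HasExt.{u} X.Modules] (i : ℕ) :
    Nonempty (Abelian.Ext ((Lf X E).obj F) G i ≃+
      Abelian.Ext F ((Lf X (dualMod E)).obj G) i) := by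
  haveI := ei X
  haveI := pm X E hE
  haveI := pfl X E hE
  haveI := pfc X (dualMod E)
  haveI := addv X (dualMod E)
  exact ⟨Groth.Agent.Lib.helper21.ExtAdj.extAddEquiv (adjX X E hE) F G i⟩

/-- Let X be a scheme, E a finite locally free O_X-module with dual E^∨ = Hom_{O_X}(E, O_X), and F, G
arbitrary O_X-modules. Then for every i the group Ext^i_{O_X}(F ⊗ E, G), computed in the category of
all O_X-modules, is isomorphic to Ext^i_{O_X}(F, G ⊗ E^∨). (Existence of an additive isomorphism
only; the published identification is the natural one, and the published statement is for an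
arbitrary ringed space. The published statement says only that E is locally free; finite rank, which
its proof uses, is assumed here. The internal Hom functor of E and the Ext groups of O_X-modules are
the stated instance hypotheses, both true.) -/
theorem result (X : Scheme.{u}) (E : X.Modules)
    (hE : FlatMod.IsFinLocFree E) (F G : X.Modules) [ModSite.HasSheafHom (O := X.sheaf) E]
    [HasExt.{u} X.Modules] (i : ℕ) :
    Nonempty (Abelian.Ext (CohB1.tensorMod F E) G i ≃+
      Abelian.Ext F (CohB1.tensorMod G ((ModSite.sheafHom (O := X.sheaf) E).obj (Coh.structureModule X))) i) :=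
  res X E hE F G i

end Groth.Agent.S15514
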