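import Groth.Statements.S1552
import Mathlib
import Groth.Agent.Lib.Helper18.PicGlue2

set_option autoImplicit false
universe u
open CategoryTheory CategoryTheory.Limits AlgebraicGeometry
open Variety

namespace Groth.Agent.S1552

open Groth.Agent.Lib.Helper18.PicGlue Groth.Agent.Lib.helper11.InvMod

/-- a point of a discrete subset has an open neighbourhood meeting the subset only in that point -/
theorem exists_open_inter_eq {T : Type*} [TopologicalSpace T] (s : Set T) (hs : DiscreteTopology s)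
    (y : T) (hy : y ∈ s) : ∃ O : Set T, IsOpen O ∧ y ∈ O ∧ ∀ x ∈ O, x ∈ s → x = y := by
  have h1 : IsOpen ({⟨y, hy⟩} : Set s) := isOpen_discrete _
  obtain ⟨O, hO, hOe⟩ := isOpen_induced_iff.1 h1
  refine ⟨O, hO, ?_, ?_⟩
  · have : (⟨y, hy⟩ : s) ∈ Subtype.val ⁻¹' O := by rw [hOe]; rfl
    exact this
  · intro x hxO hxs
    have : (⟨x, hxs⟩ : s) ∈ Subtype.val ⁻¹' O := hxO
    rw [hOe] at this
    exact congrArg Subtype.val this

/-- Let f : X → Y be finite, and V ⊆ Y an open over which f is an isomorphism, with Y minus V a discrete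
space. Then every invertible O_X-module is isomorphic to the pullback of an invertible O_Y-module. -/
theorem result {X Y : Scheme.{u}} (f : X ⟶ Y) [IsFinite f]
    (V : Y.Opens) (hV : IsIso (f ∣_ V)) (hdisc : DiscreteTopology ((V : Set Y)ᶜ : Set Y))
    (L : X.Modules) (hL : PicF.IsInvertible L) :
    ∃ N : Y.Modules, PicF.IsInvertible N ∧ Nonempty ((Scheme.Modules.pullback f).obj N ≅ L) := by
  classical
  -- the cover
  have hex : ∀ y : Y, ∃ W : Y.Opens, y ∈ W ∧ IsTrivOn L (f ⁻¹ᵁ W) ∧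
      (∀ x ∈ W, x ∉ V → x = y) := by
    intro y
    obtain ⟨W, hyW, hW⟩ := exists_isTrivOn_preimage f hL y
    by_cases hy : y ∈ V
    · refine ⟨W ⊓ V, ⟨hyW, hy⟩, hW.of_le (f.preimage_mono inf_le_left), ?_⟩
      intro x hx hxV
      exact absurd hx.2 hxV
    · obtain ⟨O, hO, hyO, hOe⟩ := exists_open_inter_eq ((V : Set Y)ᶜ) hdisc y hy
      refine ⟨W ⊓ ⟨O, hO⟩, ⟨hyW, hyO⟩, hW.of_le (f.preimage_mono inf_le_left), ?_⟩
      intro x hx hxV
      exact hOe x hx.2 hxV
  choose U hyU hT hU using hex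
  refine exists_invertible_pullback_of_cover f V hV U ?_ ?_ hT
  · rw [eq_top_iff]
    intro y _
    exact TopologicalSpace.Opens.mem_iSup.mpr ⟨y, hyU y⟩
  · intro a b hab x hx
    by_contra hxV
    exact hab ((hU a x hx.1 hxV).symm.trans (hU b x hx.2 hxV))

end Groth.Agent.S1552
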