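import Groth.Statements.S15522
import Groth.Agent.Lib.Helper11.GCM6
import Groth.Agent.Lib.Helper11.GCM7
import Groth.Agent.Lib.Helper21.GCFibre
import Groth.Agent.Lib.Helper2.TpGlobal

set_option autoImplicit false
universe u
attribute [local instance] HasDerivedCategory.standard
open Coherent

namespace Groth.Agent.S15522

open AlgebraicGeometry CategoryTheory in
/-- Let A be a reduced Noetherian ring, X a proper scheme over Spec A with structure morphism f, F a
coherent O_X-module flat over Spec A, and p a natural number such that the function y ↦ dim_{κ(y)}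
H^p(X_y, F_y) is locally constant on Spec A. For each q write T^q for the functor M ↦ H^q(X, f^*(M~)
⊗ F) from A-modules to abelian groups. Then T^p takes surjections to surjections, and so does
T^(p-1) when p ≥ 1; equivalently, every base-change map H^q(X, F) ⊗_A M → H^q(X, F ⊗_A M) is
bijective for q = p and q = p - 1. (The published statement also asserts that R^p f_*F is locally
free of finite rank; this row states the two exchange properties only, over an affine base.) -/
theorem result (A : Type u) [CommRing A]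
    [IsNoetherianRing A] [IsReduced A] (X : Scheme.{u}) [X.Over (Spec (CommRingCat.of A))]
    [IsProper (X ↘ Spec (CommRingCat.of A))] (F : X.Modules) (hF : Coh.IsCoh F)
    (hfl : FlatMod.IsFlatOver (X ↘ Spec (CommRingCat.of A)) F) (p : ℕ)
    (hconst : IsLocallyConstant (CohIII.fiberRank (X ↘ Spec (CommRingCat.of A)) F p)) :
    (CohIII.tensorAFunctor A F ⋙ CohIII.HAb X p).PreservesEpimorphisms ∧
      ∀ q : ℕ, q + 1 = p → (CohIII.tensorAFunctor A F ⋙ CohIII.HAb X q).PreservesEpimorphisms := by
  classical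
  obtain ⟨L, hL, ⟨N, hN⟩, hneg, hH, hBneg, hB, hM⟩ :=
    Groth.Agent.Lib.helper11.GCM.exists_grothendieck_complex_module A X F hF hfl
  have hLff : ∀ i, Module.Finite A (L.X i) ∧ Module.Flat A (L.X i) := fun i => by
    obtain ⟨h1, h2⟩ := hL i
    exact ⟨h1, inferInstance⟩
  have hP := Groth.Agent.Lib.helper11.NegCx.neg_fin_flat L hLff
  have hPfl : ∀ i, Module.Flat A ((Groth.Agent.Lib.helper11.NegCx.neg L).X i) := fun i => (hP i).2
  have hdr : CohIII.dRank L (p : ℤ) = CohIII.fiberRank (X ↘ Spec (CommRingCat.of A)) F p := by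
    funext x
    exact Groth.Agent.Lib.helper21.GCFibre.dRank_eq_fiberRank hB x p
  have hc : IsLocallyConstant (CohIII.dRank (Groth.Agent.Lib.helper11.NegCx.neg L) (-(p : ℤ))) := by
    rw [Groth.Agent.Lib.helper11.NegCx.dRank_neg', hdr]
    exact hconst
  obtain ⟨hm, he⟩ := Groth.Agent.Lib.helper2.TpLib.exact_of_locConst_dRank
    (Groth.Agent.Lib.helper11.NegCx.neg L) hP (-(p : ℤ)) hc
  refine ⟨?_, ?_⟩
  · obtain ⟨Φ⟩ := hM p
    rw [Groth.Agent.Lib.helper11.GCM.preservesEpi_iff Φ]
    exact (Functor.PreservesEpimorphisms.iso_iff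
      (Groth.Agent.Lib.helper11.NegCx.TFunIso' L (p : ℤ))).mp he
  · intro q hq
    obtain ⟨Φ⟩ := hM q
    rw [Groth.Agent.Lib.helper11.GCM.preservesEpi_iff Φ]
    have hq' : -((q : ℤ)) = -((p : ℤ)) + 1 := by
      rw [← hq]; push_cast; ring
    have he' : (CohIII.TFun (Groth.Agent.Lib.helper11.NegCx.neg L) (-(q : ℤ))).PreservesEpimorphisms :=
      (Groth.Agent.Lib.helper2.TpLib.preservesMono_iff_preservesEpi
        (Groth.Agent.Lib.helper11.NegCx.neg L) hPfl (-(q : ℤ)) (-(p : ℤ)) (by rw [hq'])).mp hm
    exact (Functor.PreservesEpimorphisms.iso_iff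
      (Groth.Agent.Lib.helper11.NegCx.TFunIso' L (q : ℤ))).mp he'

end Groth.Agent.S15522
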