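import Groth.Statements.S15524
import Groth.Agent.S7825

set_option autoImplicit false
open Finset
open Zeta

namespace Groth.Agent.S15524

/-- Let q ≥ 1 and let α_1, …, α_{2g} be complex numbers permuted by α ↦ q/α, i.e. α_{σ(i)} α_i = q for a
permutation σ of the indices; these play the role of the inverse roots of the numerator of the zeta
function of a curve over a field with q elements, for which #X(F_{q^N}) = q^N + 1 − Σ_i α_i^N. If
for some d ≥ 1 and real C one has |Σ_i α_i^{dN}| ≤ C q^{dN/2} for every N ≥ 1, then |α_i|^2 = q for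
every i (the Riemann hypothesis for the curve). -/
theorem result {g : ℕ} (q : ℕ) (hq : 0 < q)
    (α : Fin (2 * g) → ℂ) (σ : Equiv.Perm (Fin (2 * g))) (hσ : ∀ i, α (σ i) * α i = q)
    (d : ℕ) (hd : 0 < d) (C : ℝ)
    (hC : ∀ N : ℕ, 1 ≤ N → ‖∑ i, α i ^ (d * N)‖ ≤ C * (q : ℝ) ^ ((d : ℝ) * N / 2))
    (i : Fin (2 * g)) : ‖α i‖ ^ 2 = q := by
  have hq0 : (0 : ℝ) < q := by exact_mod_cast hq
  set Q : ℝ := (q : ℝ) ^ ((d : ℝ) / 2) with hQ
  have hQ0 : 0 < Q := Real.rpow_pos_of_pos hq0 _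
  have hQN : ∀ N : ℕ, Q ^ N = (q : ℝ) ^ ((d : ℝ) * N / 2) := by
    intro N
    rw [hQ, ← Real.rpow_natCast, ← Real.rpow_mul hq0.le]
    congr 1; ring
  have hQ2 : Q ^ 2 = (q : ℝ) ^ d := by
    rw [hQ, ← Real.rpow_natCast, ← Real.rpow_mul hq0.le]
    have : (d : ℝ) / 2 * ((2 : ℕ) : ℝ) = (d : ℝ) := by push_cast; ring
    rw [this, Real.rpow_natCast]
  -- normalised numbers
  set γ : Fin (2 * g) → ℂ := fun j => α j ^ d / (Q : ℂ) with hγ
  have hQc : (Q : ℂ) ≠ 0 := by exact_mod_cast hQ0.ne'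
  have hbound : ∀ r : ℕ, 1 ≤ r → ‖∑ j, γ j ^ r‖ ≤ C := by
    intro r hr
    have h1 : ∑ j, γ j ^ r = (∑ j, α j ^ (d * r)) / (Q : ℂ) ^ r := by
      rw [Finset.sum_div]
      refine Finset.sum_congr rfl fun j _ => ?_
      simp only [hγ, div_pow, ← pow_mul]
    rw [h1, norm_div, norm_pow, Complex.norm_real, Real.norm_eq_abs, abs_of_pos hQ0,
      div_le_iff₀ (pow_pos hQ0 r), hQN r]
    exact hC r hr
  have hle : ∀ j, ‖α j‖ ^ 2 ≤ q := by
    intro j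
    have h1 := Groth.Agent.S7825.result γ C hbound j
    simp only [hγ, norm_div, norm_pow, Complex.norm_real, Real.norm_eq_abs, abs_of_pos hQ0] at h1
    rw [div_le_one hQ0] at h1
    have h2 : (‖α j‖ ^ 2) ^ d ≤ (q : ℝ) ^ d := by
      rw [← hQ2, ← pow_mul, mul_comm, pow_mul]
      exact pow_le_pow_left₀ (pow_nonneg (norm_nonneg _) d) h1 2
    exact le_of_pow_le_pow_left₀ hd.ne' hq0.le h2
  have hprod : ‖α (σ i)‖ * ‖α i‖ = q := by
    rw [← norm_mul, hσ i]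
    simp
  have h1 := hle (σ i)
  have h2 := hle i
  have hnn := norm_nonneg (α i)
  have hnn' := norm_nonneg (α (σ i))
  apply le_antisymm h2
  -- q ^ 2 = ‖α (σ i)‖ ^ 2 * ‖α i‖ ^ 2 ≤ q * ‖α i‖ ^ 2
  have h3 : (q : ℝ) ^ 2 = ‖α (σ i)‖ ^ 2 * ‖α i‖ ^ 2 := by rw [← hprod]; ring
  have h4 : (q : ℝ) ^ 2 ≤ q * ‖α i‖ ^ 2 := by
    rw [h3]; exact mul_le_mul_of_nonneg_right h1 (sq_nonneg _)
  have h5 : (q : ℝ) * q ≤ q * ‖α i‖ ^ 2 := by rw [← sq]; exact h4
  exact le_of_mul_le_mul_left h5 hq0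

end Groth.Agent.S15524
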