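import Groth.Statements.S15525
import Mathlib.LinearAlgebra.Matrix.Charpoly.Coeff
import Mathlib.Algebra.Polynomial.Reverse
import Mathlib.Algebra.Polynomial.Splits
import Mathlib.Analysis.Complex.Polynomial.Basic
import Mathlib.Tactic.Ring

set_option autoImplicit false
universe u
open Zeta

namespace Groth.Agent.S15525

open Polynomial in
/-- For a multiset of complex numbers on the unit circle, conjugating `∏ (X - z)` is the same as
reflecting it, up to the scalar `∏ (-z̄)`. -/
theorem map_conj_prod_X_sub_C (s : Multiset ℂ) (hs : ∀ z ∈ s, ‖z‖ = 1) :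
    ((s.map (fun z => X - C z)).prod).map (starRingEnd ℂ) =
      C ((s.map (fun z => -(starRingEnd ℂ z))).prod) *
        reflect (Multiset.card s) ((s.map (fun z => X - C z)).prod) := by
  induction s using Multiset.induction_on with
  | empty => simp [reflect_one]
  | cons z s ih =>
    have hz : ‖z‖ = 1 := hs z (Multiset.mem_cons_self z s)
    have ih' := ih (fun w hw => hs w (Multiset.mem_cons_of_mem hw))
    have hzz : starRingEnd ℂ z * z = 1 := by
      rw [mul_comm, Complex.mul_conj, Complex.normSq_eq_norm_sq, hz]
      simp
    rw [Multiset.map_cons, Multiset.prod_cons, Multiset.map_cons, Multiset.prod_cons,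
      Multiset.card_cons, Polynomial.map_mul, ih', add_comm (Multiset.card s) 1,
      reflect_mul _ _ (natDegree_X_sub_C_le z)
        (natDegree_multiset_prod_X_sub_C_eq_card s).le]
    have h1 : reflect 1 (X - C z) = 1 - C z * X := by
      rw [reflect_sub, reflect_one_X, reflect_C, pow_one]
    rw [h1, Polynomial.map_sub, Polynomial.map_X, Polynomial.map_C, C_mul]
    have h2 : X - C (starRingEnd ℂ z) = C (-(starRingEnd ℂ z)) * (1 - C z * X) := by
      rw [mul_sub, mul_one, ← mul_assoc, ← C_mul, neg_mul, hzz, C_neg, C_neg, C_1]
      ring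
    rw [h2]
    ring

/-- Let L be a field with a ring embedding ι into ℂ and M an r × r matrix over L all of whose
eigenvalues, the complex roots of its characteristic polynomial mapped along ι, have absolute value
1. Then every coefficient of the characteristic polynomial of the block-diagonal matrix with blocks
M and the inverse transpose of M is mapped by ι into ℝ. This is the pointwise content of the
assertion that for a lisse sheaf F pure of weight 0 the sum of F and its dual is real, the Frobenius
of the dual acting by the inverse transpose. -/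
theorem result (L : Type u) [Field L] (ι : L →+* ℂ)
    {r : ℕ} (M : Matrix (Fin r) (Fin r) L)
    (hM : ∀ z ∈ ((Matrix.charpoly M).map ι).roots, ‖z‖ = 1) (n : ℕ) :
    (ι ((Matrix.fromBlocks M 0 0 (M⁻¹).transpose).charpoly.coeff n)).im = 0 := by
  classical
  have hcard : Fintype.card (Fin r) = r := Fintype.card_fin r
  set Q := M.charpoly with hQ
  set R := Q.map ι with hR
  have hQmonic : Q.Monic := Matrix.charpoly_monic M
  have hRmonic : R.Monic := hQmonic.map ι
  have hRdeg : R.natDegree = r := by
    rw [hR, hQmonic.natDegree_map, Matrix.charpoly_natDegree_eq_dim, hcard]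
  have hR0 : R ≠ 0 := hRmonic.ne_zero
  -- `M` is invertible
  have hdet : M.det ≠ 0 := by
    intro h0
    have h1 : Q.coeff 0 = 0 := by
      have := Matrix.det_eq_sign_charpoly_coeff M
      rw [h0] at this
      have h2 : ((-1 : L) ^ Fintype.card (Fin r)) ≠ 0 := pow_ne_zero _ (by simp)
      exact (mul_eq_zero.mp this.symm).resolve_left h2
    have h2 : R.IsRoot 0 := by
      rw [Polynomial.IsRoot, ← Polynomial.coeff_zero_eq_eval_zero, hR, Polynomial.coeff_map, h1,
        map_zero]
    have h3 := hM 0 ((Polynomial.mem_roots hR0).mpr h2)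
    simp at h3
  have hunit : IsUnit M := (Matrix.isUnit_iff_isUnit_det M).mpr (isUnit_iff_ne_zero.mpr hdet)
  -- the characteristic polynomial of the block matrix
  have hP : (Matrix.fromBlocks M 0 0 (M⁻¹).transpose).charpoly = Q * (M⁻¹).charpoly := by
    rw [Matrix.charpoly_fromBlocks_zero₁₂, Matrix.charpoly_transpose]
  have hinv : (M⁻¹).charpoly =
      (-1) ^ r * Polynomial.C (Ring.inverse M.det) * Polynomial.reflect r Q := by
    rw [Matrix.charpoly_inv M hunit, ← Matrix.reverse_charpoly, hcard, Polynomial.reverse,
      Matrix.charpoly_natDegree_eq_dim, hcard]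
  set c : ℂ := ι ((-1) ^ r * Ring.inverse M.det) with hc
  have hinvmap : ((M⁻¹).charpoly).map ι = Polynomial.C c * Polynomial.reflect r R := by
    rw [hinv, Polynomial.map_mul, Polynomial.map_mul, Polynomial.map_pow, Polynomial.map_neg,
      Polynomial.map_one, Polynomial.map_C, ← Polynomial.reflect_map, hc, map_mul, map_pow,
      map_neg, map_one, Polynomial.C_mul, Polynomial.C_pow, Polynomial.C_neg, Polynomial.C_1]
  -- conjugating `R`
  have hsplit : R.Splits := IsAlgClosed.splits R
  have hprod : R = (R.roots.map (fun z => Polynomial.X - Polynomial.C z)).prod :=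
    hsplit.eq_prod_roots_of_monic hRmonic
  have hcardroots : Multiset.card R.roots = r := by
    rw [← hsplit.natDegree_eq_card_roots, hRdeg]
  set d : ℂ := (R.roots.map (fun z => -(starRingEnd ℂ z))).prod with hd
  have hconj : R.map (starRingEnd ℂ) = Polynomial.C d * Polynomial.reflect r R := by
    have := map_conj_prod_X_sub_C R.roots hM
    rw [← hprod, hcardroots] at this
    exact this
  -- compare leading coefficients
  have hcoef : (Polynomial.reflect r R).coeff r = R.coeff 0 := by
    rw [Polynomial.coeff_reflect, Polynomial.revAt_le le_rfl, Nat.sub_self]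
  have h1 : c * R.coeff 0 = 1 := by
    have hm : (((M⁻¹).charpoly).map ι).Monic := (Matrix.charpoly_monic _).map ι
    have hdeg : (((M⁻¹).charpoly).map ι).natDegree = r := by
      rw [(Matrix.charpoly_monic _).natDegree_map, Matrix.charpoly_natDegree_eq_dim, hcard]
    have := hm.coeff_natDegree
    rw [hdeg, hinvmap, Polynomial.coeff_C_mul, hcoef] at this
    exact this
  have h2 : d * R.coeff 0 = 1 := by
    have hm : (R.map (starRingEnd ℂ)).Monic := hRmonic.map _
    have hdeg : (R.map (starRingEnd ℂ)).natDegree = r := by
      rw [hRmonic.natDegree_map, hRdeg]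
    have := hm.coeff_natDegree
    rw [hdeg, hconj, Polynomial.coeff_C_mul, hcoef] at this
    exact this
  have hR00 : R.coeff 0 ≠ 0 := by
    intro h
    rw [h, mul_zero] at h1
    exact zero_ne_one h1
  have hcd : c = d := mul_right_cancel₀ hR00 (h1.trans h2.symm)
  have hfinal : ((Matrix.fromBlocks M 0 0 (M⁻¹).transpose).charpoly).map ι =
      R * R.map (starRingEnd ℂ) := by
    rw [hP, Polynomial.map_mul, hinvmap, hconj, hcd]
  have hz : ι ((Matrix.fromBlocks M 0 0 (M⁻¹).transpose).charpoly.coeff n) =
      (R * R.map (starRingEnd ℂ)).coeff n := by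
    rw [← hfinal, Polynomial.coeff_map]
  rw [hz, ← Complex.conj_eq_iff_im]
  have key : ∀ T : Polynomial ℂ,
      (T * T.map (starRingEnd ℂ)).map (starRingEnd ℂ) = T * T.map (starRingEnd ℂ) := by
    intro T
    have hid : (starRingEnd ℂ).comp (starRingEnd ℂ) = RingHom.id ℂ := by
      ext z
      simp
    rw [Polynomial.map_mul, Polynomial.map_map, hid, Polynomial.map_id, mul_comm]
  have hmm := key R
  conv_rhs => rw [← hmm]
  rw [Polynomial.coeff_map]

end Groth.Agent.S15525
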