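import Groth.Statements.S15526
import Mathlib

set_option autoImplicit false
universe u
open MvPolynomial
open CAlg

namespace Groth.Agent.S15526

theorem core {R : Type u} [CommRing R] {A : Type u} [CommRing A] [Algebra R A] (g : ℕ)
    (P : Polynomial R) (hP : P.Monic) (hdeg : P.natDegree = 2 * g + 1)
    (x y z : A) (hyz : y * z = 1) (hy2 : y ^ 2 = Polynomial.aeval x P)
    (W : Submodule R A) (hWy : ∀ i n : ℕ, i ≤ 2 * g → x ^ i * y ^ n ∈ W)
    (hWz : ∀ i n : ℕ, i ≤ 2 * g → x ^ i * z ^ n ∈ W) :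
    ∀ i j k : ℕ, x ^ i * y ^ j * z ^ k ∈ W := by
  let uy : Aˣ := ⟨y, z, hyz, by rw [mul_comm]; exact hyz⟩
  have hY : ∀ e : ℤ, ∀ i, i ≤ 2 * g → x ^ i * ((uy ^ e : Aˣ) : A) ∈ W := by
    intro e i hi
    cases e with
    | ofNat n =>
      have h : ((uy ^ (Int.ofNat n) : Aˣ) : A) = y ^ n := by
        rw [Int.ofNat_eq_natCast, zpow_natCast, Units.val_pow_eq_pow_val]
      rw [h]; exact hWy i n hi
    | negSucc n =>
      have h : ((uy ^ (Int.negSucc n) : Aˣ) : A) = z ^ (n + 1) := by
        rw [zpow_negSucc, ← inv_pow, Units.val_pow_eq_pow_val]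
        try rfl
      rw [h]; exact hWz i (n + 1) hi
  have hx : x ^ (2 * g + 1)
      = y ^ 2 - ∑ l ∈ Finset.range (2 * g + 1), P.coeff l • x ^ l := by
    rw [hy2]
    have h := congrArg (Polynomial.aeval x) hP.as_sum
    rw [map_add, map_pow, Polynomial.aeval_X, map_sum, hdeg] at h
    have h2 : ∑ l ∈ Finset.range (2 * g + 1),
        (Polynomial.aeval x) (Polynomial.C (P.coeff l) * Polynomial.X ^ l)
        = ∑ l ∈ Finset.range (2 * g + 1), P.coeff l • x ^ l := by
      apply Finset.sum_congr rfl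
      intro l _
      rw [map_mul, Polynomial.aeval_C, map_pow, Polynomial.aeval_X, ← Algebra.smul_def]
    rw [h2] at h
    rw [h, add_sub_cancel_right]
  have hmain : ∀ i : ℕ, ∀ e : ℤ, x ^ i * ((uy ^ e : Aˣ) : A) ∈ W := by
    intro i
    induction i using Nat.strong_induction_on with
    | _ i ih =>
      intro e
      by_cases hi : i ≤ 2 * g
      · exact hY e i hi
      · obtain ⟨t, ht⟩ := Nat.exists_eq_add_of_le (show 2 * g + 1 ≤ i by omega)
        subst ht
        have hU2 : ((uy ^ (e + 2) : Aˣ) : A) = ((uy ^ e : Aˣ) : A) * y ^ 2 := by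
          rw [zpow_add, Units.val_mul, zpow_ofNat, Units.val_pow_eq_pow_val]
        have hS : ∑ l ∈ Finset.range (2 * g + 1),
              P.coeff l • (x ^ (t + l) * ((uy ^ e : Aˣ) : A))
            = (∑ l ∈ Finset.range (2 * g + 1), P.coeff l • x ^ l) * x ^ t
              * ((uy ^ e : Aˣ) : A) := by
          rw [Finset.sum_mul, Finset.sum_mul]
          apply Finset.sum_congr rfl
          intro l _
          rw [smul_mul_assoc, smul_mul_assoc, pow_add, mul_comm (x ^ t) (x ^ l)]
        have e1 : x ^ (2 * g + 1 + t) * ((uy ^ e : Aˣ) : A)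
            = x ^ t * ((uy ^ (e + 2) : Aˣ) : A)
              - ∑ l ∈ Finset.range (2 * g + 1),
                  P.coeff l • (x ^ (t + l) * ((uy ^ e : Aˣ) : A)) := by
          rw [hS, hU2, pow_add, hx]; ring
        rw [e1]
        refine W.sub_mem (ih t (by omega) _) (W.sum_mem ?_)
        intro l hl
        have hl' := Finset.mem_range.mp hl
        exact W.smul_mem _ (ih (t + l) (by omega) e)
  intro i j k
  have h : x ^ i * y ^ j * z ^ k = x ^ i * ((uy ^ ((j : ℤ) - k) : Aˣ) : A) := by
    rw [zpow_sub, zpow_natCast, zpow_natCast, Units.val_mul, Units.val_pow_eq_pow_val,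
      ← inv_pow, Units.val_pow_eq_pow_val, mul_assoc]
    try rfl
  rw [h]; exact hmain i _

theorem main {R : Type u} [CommRing R] (g : ℕ)
    (P : Polynomial R) (hP : P.Monic) (hdeg : P.natDegree = 2 * g + 1)
    (I : Ideal (MvPolynomial (Fin 3) R))
    (h1 : X 1 ^ 2 - Polynomial.aeval (X 0 : MvPolynomial (Fin 3) R) P ∈ I)
    (h2 : (X 1 * X 2 - 1 : MvPolynomial (Fin 3) R) ∈ I) :
    Submodule.span R {a : MvPolynomial (Fin 3) R ⧸ I |
        ∃ i n : ℕ, i ≤ 2 * g ∧
          (a = Ideal.Quotient.mk I (X 0 ^ i * X 1 ^ n) ∨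
            a = Ideal.Quotient.mk I (X 0 ^ i * X 2 ^ n))} = ⊤ := by
  have hyz : Ideal.Quotient.mk I (X 1) * Ideal.Quotient.mk I (X 2) = 1 := by
    rw [← map_mul, ← map_one (Ideal.Quotient.mk I)]
    exact Ideal.Quotient.eq.mpr h2
  have hy2 : Ideal.Quotient.mk I (X 1) ^ 2
      = Polynomial.aeval (Ideal.Quotient.mk I (X 0)) P := by
    rw [← map_pow]
    have e := Polynomial.aeval_algHom_apply (Ideal.Quotient.mkₐ R I)
      (X 0 : MvPolynomial (Fin 3) R) P
    have e' : Polynomial.aeval (Ideal.Quotient.mk I (X 0)) P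
        = Ideal.Quotient.mk I (Polynomial.aeval (X 0 : MvPolynomial (Fin 3) R) P) := e
    rw [e']
    exact Ideal.Quotient.eq.mpr h1
  have hcore := core g P hP hdeg (Ideal.Quotient.mk I (X 0)) (Ideal.Quotient.mk I (X 1))
    (Ideal.Quotient.mk I (X 2)) hyz hy2
    (Submodule.span R {a : MvPolynomial (Fin 3) R ⧸ I |
        ∃ i n : ℕ, i ≤ 2 * g ∧
          (a = Ideal.Quotient.mk I (X 0 ^ i * X 1 ^ n) ∨
            a = Ideal.Quotient.mk I (X 0 ^ i * X 2 ^ n))})
    (fun i n hi => Submodule.subset_span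
      ⟨i, n, hi, Or.inl (by rw [map_mul, map_pow, map_pow])⟩)
    (fun i n hi => Submodule.subset_span
      ⟨i, n, hi, Or.inr (by rw [map_mul, map_pow, map_pow])⟩)
  rw [eq_top_iff]
  rintro a -
  obtain ⟨q, rfl⟩ := Ideal.Quotient.mk_surjective a
  induction q using MvPolynomial.induction_on' with
  | monomial u c =>
    have e : (Ideal.Quotient.mk I) (monomial u c)
        = c • (Ideal.Quotient.mk I (X 0) ^ u 0 * Ideal.Quotient.mk I (X 1) ^ u 1
            * Ideal.Quotient.mk I (X 2) ^ u 2) := by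
      rw [MvPolynomial.monomial_eq, Finsupp.prod_fintype _ _ (fun i => pow_zero _),
        Fin.prod_univ_three, map_mul, map_mul, map_mul, map_pow, map_pow, map_pow]
      exact (Algebra.smul_def (A := MvPolynomial (Fin 3) R ⧸ I) c
        (Ideal.Quotient.mk I (X 0) ^ u 0 * Ideal.Quotient.mk I (X 1) ^ u 1
            * Ideal.Quotient.mk I (X 2) ^ u 2)).symm
    rw [e]
    exact Submodule.smul_mem _ _ (hcore (u 0) (u 1) (u 2))
  | add p q hp hq =>
    rw [map_add]; exact Submodule.add_mem _ hp hq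



/-- Let R be a commutative ring, P ∈ R[x] a monic polynomial of degree 2g + 1, and A = R[x, y, z]/(y^2 −
P(x), yz − 1). Then every element of A is a finite sum Σ_n Q_n(x) y^n over integers n, negative
powers of y meaning powers of z, with each Q_n ∈ R[x] of degree at most 2g: the R-submodule of A
spanned by the classes of x^i y^n and x^i z^n with i ≤ 2g and n ≥ 0 is all of A. (The published
statement takes for R the ring of Witt vectors of a finite field and for P a lift of a separable
polynomial; the argument uses only that P is monic of degree 2g + 1.) -/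
theorem result (R : Type u) [CommRing R] (g : ℕ)
    (P : Polynomial R) (hP : P.Monic) (hdeg : P.natDegree = 2 * g + 1) :
    Submodule.span R {a : MvPolynomial (Fin 3) R ⧸
        Ideal.span ({X 1 ^ 2 - Polynomial.aeval (X 0 : MvPolynomial (Fin 3) R) P, X 1 * X 2 - 1} :
          Set (MvPolynomial (Fin 3) R)) |
        ∃ i n : ℕ, i ≤ 2 * g ∧
          (a = Ideal.Quotient.mk _ (X 0 ^ i * X 1 ^ n) ∨ a = Ideal.Quotient.mk _ (X 0 ^ i * X 2 ^ n))} =
      ⊤ := by
  exact main g P hP hdeg _ (Ideal.subset_span (Set.mem_insert _ _))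
    (Ideal.subset_span (Set.mem_insert_of_mem _ (Set.mem_singleton _)))


end Groth.Agent.S15526
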