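import Groth.Statements.S1553
import Mathlib
import Groth.Agent.Lib.Helper3.FibreDimIneq

set_option autoImplicit false
universe u
open CategoryTheory CategoryTheory.Limits AlgebraicGeometry
open Variety

namespace Groth.Agent.S1553
open Groth.Agent.Lib.helper3.DimIneq Groth.Agent.Lib.helper3.DimFibre

open CategoryTheory AlgebraicGeometry Groth.Agent.Lib.helper3.DimIneq
  Groth.Agent.Lib.helper3.DimFibre in
theorem key {X Y : Scheme.{u}} (f : X ⟶ Y) [LocallyOfFiniteType f]
    (x : X) [IsNoetherianRing (Y.presheaf.stalk (f.base x))] (d : ℕ)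
    (hgen : ∀ Z ∈ irreducibleComponents (X : Type u), x ∈ Z → ∀ η : X, IsGenericPoint η Z →
      f.base η ≠ f.base x ∧ FlatMor.fibreDimAt f η = d)
    (x' : X) (hs : x' ⤳ x) (hx' : f.base x' = f.base x) :
    ∃ n p : ℕ, td (f.residueFieldMap x').hom = (n : Cardinal.{u}) ∧
      ringKrullDim (Y.presheaf.stalk (f.base x)) = (p : WithBot ℕ∞) ∧ n + 1 ≤ p + d := by
  haveI : IsNoetherianRing (Y.presheaf.stalk (f.base x')) := by rw [hx']; infer_instance
  have hgen' : ∀ Z ∈ irreducibleComponents (X : Type u), x' ∈ Z → ∀ η : X, IsGenericPoint η Z →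
      td (f.residueFieldMap η).hom ≤ (d : Cardinal.{u}) := by
    intro Z hZ hx'Z η hη
    have hxZ : x ∈ Z := hs.mem_closed (isClosed_of_mem_irreducibleComponents Z hZ) hx'Z
    have h2 := (hgen Z hZ hxZ η hη).2
    exact (fibreDimAt_le_iff f η d).mp (le_of_eq h2) η specializes_rfl rfl
  obtain ⟨h, n, p, -, hn, hp, hle, h0⟩ := dim_stalk_add_td_le f x' d hgen'
  rw [hx'] at hp
  refine ⟨n, p, hn, hp, ?_⟩
  have hh : h ≠ 0 := by
    intro h00
    have hcomp := h0 h00
    have := (hgen _ hcomp hs.mem_closure x' rfl).1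
    exact this hx'
  omega

/-- Let f : X → Y be locally of finite type, x a point with image y such that the local ring of Y at y
is Noetherian, and d a natural number such that at the generic points η of the irreducible
components of X passing through x we have f(η) ≠ y and local fibre dimension d. Then the local
dimension at x of the fibre over y is at most d + dim O_{Y,y} - 1 (written additively). -/
theorem result {X Y : Scheme.{u}} (f : X ⟶ Y) [LocallyOfFiniteType f]
    (x : X) [IsNoetherianRing (Y.presheaf.stalk (f.base x))] (d : ℕ)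
    (hgen : ∀ Z ∈ irreducibleComponents (X : Type u), x ∈ Z → ∀ η : X, IsGenericPoint η Z →
      f.base η ≠ f.base x ∧ FlatMor.fibreDimAt f η = d) :
    FlatMor.fibreDimAt f x + 1 ≤ (d : WithBot ℕ∞) + ringKrullDim (Y.presheaf.stalk (f.base x)) := by
  obtain ⟨m, hm⟩ := exists_nat_fibreDimAt f x
  obtain ⟨n, p, hn, hp, h1⟩ := key f x d hgen x specializes_rfl rfl
  have hle : FlatMor.fibreDimAt f x ≤ ((p + d - 1 : ℕ) : WithBot ℕ∞) := by
    rw [fibreDimAt_le_iff]
    intro x' hs hx'
    obtain ⟨n', p', hn', hp', h'⟩ := key f x d hgen x' hs hx'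
    have hpp : p' = p := by
      rw [hp] at hp'
      exact_mod_cast hp'.symm
    subst hpp
    rw [hn']
    have : n' ≤ p' + d - 1 := by omega
    exact_mod_cast this
  rw [hm] at hle
  have h2 : m ≤ p + d - 1 := by exact_mod_cast hle
  have h3 : m + 1 ≤ d + p := by omega
  rw [hm, hp]
  exact_mod_cast h3

end Groth.Agent.S1553
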