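import Groth.Statements.S15530
import Groth.Agent.Lib.Helper20.Euler5c

set_option autoImplicit false
universe u
open Coherent

namespace Groth.Agent.S15530

open CategoryTheory AlgebraicGeometry in
/-- For a ring A, n ≥ 1 and an O-module L on projective n-space P^n_A which is a p-th exterior power of
the sheaf of relative differentials of P^n_A over A, the cohomology group H^q(P^n_A, L) = H^q(P^n_A,
Ω^p) is zero unless 0 ≤ p = q ≤ n, i.e. it vanishes when p ≠ q or n < p. -/
theorem result (A : Type u) [CommRing A] (n : ℕ) (hn : 1 ≤ n)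
    [QuasiSeparated (CohB1.ProjSpace.toSpec n A)] (p : ℕ) (L : (CohB1.ProjSpace n A).Modules)
    (hL : ExtPow.IsExtPow p (Omega.sheaf (CohB1.ProjSpace.toSpec n A)) L) (q : ℕ) (h : p ≠ q ∨ n < p) :
    Subsingleton (Coh.HH (CohB1.ProjSpace n A) L q) := by
  haveI : QuasiSeparated (Groth.Agent.Lib.helper20.Euler2.fP n A) :=
    ‹QuasiSeparated (CohB1.ProjSpace.toSpec n A)›
  obtain ⟨φ, hφ⟩ := hL
  obtain ⟨e⟩ := Groth.Agent.Lib.helper20.Euler4f.nonempty_iso_Z (n := n) (A := A) (p := p)
    (L := L) φ hφ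
  have e' : L ≅ Groth.Agent.Lib.helper20.Euler5b.ZZ n A p := e
  exact Groth.Agent.Lib.helper20.Euler5a.subsingleton_of_iso e'.symm q
    (Groth.Agent.Lib.helper20.Euler5c.subsingleton_ZZ n A p q h)

end Groth.Agent.S15530
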