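import Groth.Statements.S15532
import Groth.Agent.Lib.Helper20.Euler5c

set_option autoImplicit false
universe u
open Coherent

namespace Groth.Agent.S15532

open CategoryTheory AlgebraicGeometry in
/-- For a ring A, n ≥ 1, p ≥ 0, an integer k > 0 and an O-module L on projective n-space P^n_A which is
a p-th exterior power of the sheaf of relative differentials of P^n_A over A, the Serre twist L(k) =
L ⊗ O(k), i.e. Ω^p(k), has H^q(P^n_A, Ω^p(k)) = 0 for all q > 0. -/
theorem result (A : Type u) [CommRing A] (n : ℕ)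
    (hn : 1 ≤ n) [QuasiSeparated (CohB1.ProjSpace.toSpec n A)] (p : ℕ) (L : (CohB1.ProjSpace n A).Modules)
    (hL : ExtPow.IsExtPow p (Omega.sheaf (CohB1.ProjSpace.toSpec n A)) L) (k : ℤ) (hk : 0 < k)
    (q : ℕ) (hq : 0 < q) :
    Subsingleton (Coh.HH (CohB1.ProjSpace n A) (CohB1.tensorMod L (Twist.twistProjSpace n A k)) q) := by
  haveI : QuasiSeparated (Groth.Agent.Lib.helper20.Euler2.fP n A) :=
    ‹QuasiSeparated (CohB1.ProjSpace.toSpec n A)›
  obtain ⟨φ, hφ⟩ := hL
  obtain ⟨e⟩ := Groth.Agent.Lib.helper20.Euler4f.nonempty_iso_Z (n := n) (A := A) (p := p)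
    (L := L) φ hφ
  have e' : L ≅ Groth.Agent.Lib.helper20.Euler5b.ZZ n A p := e
  have e2 : CohB1.tensorMod L (Twist.twistProjSpace n A k) ≅
      Groth.Agent.Lib.helper20.Euler5b.Zk n A k p :=
    Groth.Agent.Lib.Lead.ModTensor.tensorIso e' (Iso.refl _)
  refine Groth.Agent.Lib.helper20.Euler5a.subsingleton_of_iso e2.symm q ?_
  by_cases hpn : n < p
  · exact Groth.Agent.Lib.helper20.Euler5b.V_top n A k p q hpn
  · exact Groth.Agent.Lib.helper20.Euler5b.bott n A k p q (by omega) (by omega) (by omega)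
      (by omega)

end Groth.Agent.S15532
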