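import Groth.Statements.S15533
import Mathlib
import Groth.Agent.Lib.Helper1.SmoothReduced
import Groth.Agent.Lib.Helper24.FiniteEtaleLift

set_option autoImplicit false
universe u
open OmegaSh

namespace Groth.Agent.S15533

open Polynomial TensorProduct in
theorem geomReduced_of_smooth (k C : Type u) [Field k] [CommRing C] [Algebra k C]
    [Algebra.Smooth k C] : Algebra.IsGeometricallyReduced k C := by
  rw [Algebra.isGeometricallyReduced_field_iff]
  exact Groth.Agent.H1.SmoothReduced.isReduced_of_smooth_ring (AlgebraicClosure k)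
    (AlgebraicClosure k ⊗[k] C)

open Polynomial TensorProduct in
theorem separable_minpoly_of_geomReduced {k A : Type u} [Field k] [CommRing A] [Algebra k A]
    [Algebra.IsGeometricallyReduced k A] (s : A) (hs : IsIntegral k s) :
    (minpoly k s).Separable := by
  set P := minpoly k s with hP
  have hP0 : P ≠ 0 := minpoly.ne_zero hs
  let K := AlgebraicClosure k
  -- AdjoinRoot P embeds in A
  have h0 : eval₂ (algebraMap k A) s P = 0 := by
    rw [← Polynomial.aeval_def]; exact minpoly.aeval k s
  let ι : AdjoinRoot P →ₐ[k] A := AdjoinRoot.liftAlgHom P (Algebra.ofId k A) s (by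
    simpa using h0)
  have hι : Function.Injective ι := by
    rw [injective_iff_map_eq_zero]
    intro x hx
    obtain ⟨g, rfl⟩ := AdjoinRoot.mk_surjective x
    have : aeval s g = 0 := by rw [Polynomial.aeval_def]; simpa [ι] using hx
    exact AdjoinRoot.mk_eq_zero.mpr (minpoly.dvd k s this)
  haveI : Algebra.IsGeometricallyReduced k (AdjoinRoot P) :=
    Algebra.IsGeometricallyReduced.of_injective ι hι
  haveI : IsReduced (K ⊗[k] AdjoinRoot P) := inferInstance
  set PK : K[X] := P.map (algebraMap k K) with hPK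
  have hPK0 : PK ≠ 0 := (Polynomial.map_ne_zero_iff (algebraMap k K).injective).mpr hP0
  let e := Groth.Agent.Lib.Helper24.FiniteEtaleLift.tensorEquiv (T := K) P PK rfl
  haveI : IsReduced (AdjoinRoot PK) := isReduced_of_injective e.symm.toRingHom e.symm.injective
  rw [← Polynomial.separable_map (algebraMap k K), PerfectField.separable_iff_squarefree]
  intro g hg
  obtain ⟨h, hh⟩ := hg
  rw [← hPK] at hh
  have h1 : (AdjoinRoot.mk PK (g * h)) ^ 2 = 0 := by
    rw [← map_pow, AdjoinRoot.mk_eq_zero]
    exact ⟨h, by rw [hh]; ring⟩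
  have h2 : AdjoinRoot.mk PK (g * h) = 0 := IsReduced.eq_zero _ ⟨2, h1⟩
  rw [AdjoinRoot.mk_eq_zero, hh] at h2
  obtain ⟨q, hq⟩ := h2
  have hgh0 : g * h ≠ 0 := by
    intro h0
    apply hPK0
    rw [hh, mul_assoc, h0, mul_zero]
  have : g * h * 1 = g * h * (g * q) := by
    rw [mul_one]; conv_lhs => rw [hq]
    ring
  have := mul_left_cancel₀ hgh0 this
  exact IsUnit.of_mul_eq_one _ this.symm

open Polynomial TensorProduct in
theorem d_eq_zero {k C M : Type*} [Field k] [CommRing C] [Algebra k C] [AddCommGroup M]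
    [Module C M] (d : C →+ M) (hmul : ∀ a b, d (a * b) = a • d b + b • d a)
    (hk : ∀ r, d (algebraMap k C r) = 0) (c : C)
    (hsep : (minpoly k c).Separable) : d c = 0 := by
  letI : Module k M := Module.compHom M (algebraMap k C)
  haveI : IsScalarTower k C M := ⟨fun r a m => by
    change (r • a) • m = (algebraMap k C r) • (a • m)
    rw [Algebra.smul_def, mul_smul]⟩
  let D : Derivation k C M := Derivation.mk'
    { toFun := d, map_add' := d.map_add, map_smul' := fun r a => by
        change d (r • a) = (algebraMap k C r) • d a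
        rw [Algebra.smul_def, hmul, hk, smul_zero, add_zero] } hmul
  obtain ⟨a, b, hab⟩ := hsep
  have h1 : D (aeval c (minpoly k c)) = aeval c (derivative (minpoly k c)) • D c :=
    Derivation.map_aeval D _ c
  rw [minpoly.aeval, map_zero] at h1
  have h2 := congrArg (aeval c) hab
  simp only [map_add, map_mul, minpoly.aeval, mul_zero, zero_add, map_one] at h2
  have : D c = (aeval c b * aeval c (derivative (minpoly k c))) • D c := by rw [h2, one_smul]
  rw [mul_smul, ← h1, smul_zero] at this
  exact this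

open CategoryTheory AlgebraicGeometry Opposite in
theorem der_top_eq_zero (k : Type u) [Field k] (X : Scheme.{u})
    (f : X ⟶ Spec (CommRingCat.of k)) [IsProper f] [Smooth f] (F : X.Modules)
    (D : OmegaSh.Der f F) (s : Γ(X, ⊤)) : D.app ⊤ s = 0 := by
  letI : Field Γ(Spec (CommRingCat.of k), ⊤) :=
    ((Scheme.ΓSpecIso (.of k)).commRingCatIsoToRingEquiv.toMulEquiv.isField
      (Field.toIsField k)).toField
  have hsepF := F.isSheaf.isSeparated
  -- the vanishing on affine opens
  have key : ∀ (U : X.Opens) (hU : IsAffineOpen U),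
      D.app U (X.presheaf.map (homOfLE (le_top : U ≤ ⊤)).op s) = 0 := by
    intro U hU
    have htop : U ≤ f ⁻¹ᵁ ⊤ := le_top
    letI : Algebra Γ(Spec (CommRingCat.of k), ⊤) Γ(X, U) := (f.appLE ⊤ U htop).hom.toAlgebra
    haveI : Algebra.Smooth Γ(Spec (CommRingCat.of k), ⊤) Γ(X, U) :=
      f.smooth_appLE (isAffineOpen_top _) hU htop
    haveI := geomReduced_of_smooth Γ(Spec (CommRingCat.of k), ⊤) Γ(X, U)
    have hint : IsIntegral Γ(Spec (CommRingCat.of k), ⊤)
        (X.presheaf.map (homOfLE (le_top : U ≤ ⊤)).op s) := by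
      obtain ⟨p, hp, hps⟩ := isIntegral_appTop_of_universallyClosed f s
      refine ⟨p, hp, ?_⟩
      have := congrArg (X.presheaf.map (homOfLE (le_top : U ≤ ⊤)).op).hom hps
      rw [Polynomial.hom_eval₂, map_zero] at this
      exact this
    refine d_eq_zero (k := Γ(Spec (CommRingCat.of k), ⊤)) (D.app U) (fun a b => D.d_mul a b) ?_ _
      (separable_minpoly_of_geomReduced _ hint)
    intro r
    have h1 := D.d_app (X := op ⊤) r
    have h2 := D.d_map (X := op (f ⁻¹ᵁ ⊤)) (Y := op U) (homOfLE htop).op (f.c.app (op ⊤) r)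
    rw [h1, map_zero] at h2
    exact h2
  let S : Sieve (⊤ : X.Opens) :=
    { arrows := fun W _ => ∃ U : X.Opens, IsAffineOpen U ∧ W ≤ U
      downward_closed := fun ⟨U, hU, hWU⟩ g => ⟨U, hU, (leOfHom g).trans hWU⟩ }
  have hS : S ∈ Opens.grothendieckTopology X ⊤ := by
    intro x _
    obtain ⟨U, hU, hxU, -⟩ := exists_isAffineOpen_mem_and_subset (x := x) (U := ⊤) trivial
    exact ⟨U, homOfLE le_top, ⟨U, hU, le_rfl⟩, hxU⟩
  refine hsepF ⊤ S hS (D.app ⊤ s) 0 ?_
  rintro W g ⟨U, hU, hWU⟩
  have e1 : g = homOfLE hWU ≫ homOfLE (le_top : U ≤ ⊤) := Subsingleton.elim _ _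
  have h3 := D.d_map (X := op ⊤) (Y := op U) (homOfLE (le_top : U ≤ ⊤)).op s
  have h4 := key U hU
  rw [OmegaSh.Der.app_apply, h3] at h4
  rw [map_zero, e1, op_comp, Functor.map_comp]
  change F.presheaf.map (homOfLE hWU).op (F.presheaf.map (homOfLE (le_top : U ≤ ⊤)).op (D.app ⊤ s)) = 0
  have h5 : F.presheaf.map (homOfLE (le_top : U ≤ ⊤)).op (D.app ⊤ s) = 0 := h4
  rw [h5, map_zero]

open CategoryTheory AlgebraicGeometry in
/-- For a field k and a smooth proper k-scheme X with structure morphism f, the derivation d : O_X →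
Ω_{X/k} of f vanishes on global functions: d(s) = 0 in Γ(X, Ω_{X/k}) for every s ∈ Γ(X, O_X). -/
theorem result (k : Type u) [Field k] (X : Scheme.{u})
    (f : X ⟶ Spec (CommRingCat.of k)) [IsProper f] [Smooth f] (s : Γ(X, ⊤)) :
    (OmegaSh.dOmega f).app ⊤ s = 0 := by
  exact der_top_eq_zero k X f _ (OmegaSh.dOmega f) s

end Groth.Agent.S15533
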