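import Groth.Statements.S1554
import Mathlib
import Groth.Agent.Lib.Helper3.FibreDimIneq
import Groth.Agent.S0402

set_option autoImplicit false
universe u
open CategoryTheory CategoryTheory.Limits AlgebraicGeometry
open Variety

namespace Groth.Agent.S1554
open Groth.Agent.Lib.helper3.DimIneq Groth.Agent.Lib.helper3.DimFibre

/-- Let f : X → Y be locally of finite type, x a point with image y such that the local ring of Y at y
is Noetherian of dimension at most one, and d a natural number such that the local fibre dimension
is d at the generic points of the irreducible components of X passing through x. Then the local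
dimension at x of the fibre over y equals d. -/
theorem result {X Y : Scheme.{u}} (f : X ⟶ Y) [LocallyOfFiniteType f]
    (x : X) [IsNoetherianRing (Y.presheaf.stalk (f.base x))] (hdimY : ringKrullDim (Y.presheaf.stalk (f.base x)) ≤ 1) (d : ℕ)
    (hgen : ∀ Z ∈ irreducibleComponents (X : Type u), x ∈ Z → ∀ η : X, IsGenericPoint η Z → FlatMor.fibreDimAt f η = d) :
    FlatMor.fibreDimAt f x = d := by
  obtain ⟨m, hm⟩ := exists_nat_fibreDimAt f x
  apply le_antisymm
  · rw [fibreDimAt_le_iff]
    intro x' hs hx'
    have hx'' : f.base x' = f.base x := hx'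
    haveI : IsNoetherianRing (Y.presheaf.stalk (f.base x')) := by rw [hx'']; infer_instance
    have hgen' : ∀ Z ∈ irreducibleComponents (X : Type u), x' ∈ Z → ∀ η : X, IsGenericPoint η Z →
        td (f.residueFieldMap η).hom ≤ (d : Cardinal.{u}) := by
      intro Z hZ hx'Z η hη
      have hxZ : x ∈ Z := hs.mem_closed (isClosed_of_mem_irreducibleComponents Z hZ) hx'Z
      have h2 := hgen Z hZ hxZ η hη
      exact (fibreDimAt_le_iff f η d).mp (le_of_eq h2) η specializes_rfl rfl
    obtain ⟨h, n, p, -, hn, hp, hle, h0⟩ := dim_stalk_add_td_le f x' d hgen'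
    rw [hx''] at hp
    rw [hp] at hdimY
    have hp1 : p ≤ 1 := by exact_mod_cast hdimY
    by_cases hh : h = 0
    · have hcomp := h0 hh
      have h2 := hgen _ hcomp hs.mem_closure x' rfl
      exact (fibreDimAt_le_iff f x' d).mp (le_of_eq h2) x' specializes_rfl rfl
    · rw [hn]
      have : n ≤ d := by omega
      exact_mod_cast this
  · rw [hm]
    have hZ : irreducibleComponent x ∈ irreducibleComponents (X : Type u) :=
      irreducibleComponent_mem_irreducibleComponents x
    have hxZ : x ∈ irreducibleComponent x := mem_irreducibleComponent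
    obtain ⟨η, hη⟩ := QuasiSober.sober (isIrreducible_irreducibleComponent (x := x))
      isClosed_irreducibleComponent
    have hηx : η ⤳ x := hη.specializes hxZ
    have hopen := Groth.Agent.S0402.result f m
    have hx : x ∈ {x : X | FlatMor.fibreDimAt f x ≤ (m : WithBot ℕ∞)} := hm.le
    have := hηx.mem_open hopen hx
    rw [Set.mem_ofPred_eq, hgen _ hZ hxZ η hη] at this
    exact this

end Groth.Agent.S1554
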