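import Groth.Statements.S15544
import Groth.Agent.Lib.Helper8.SteinAlgClosed

set_option autoImplicit false
open CategoryTheory AlgebraicGeometry
universe u
open Coherent

namespace Groth.Agent.S15544

/-- Let X and Y be integral schemes, Y locally Noetherian with all local rings integrally closed, and f
: X ⟶ Y a proper birational morphism (the generic point of X maps to that of Y and the stalk map
there is an isomorphism). Then every fibre of f is connected and nonempty. (The published statement
takes X and Y Noetherian; over a locally Noetherian Y this is the same assertion fibre by fibre.) -/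
theorem result {X Y : Scheme.{u}} [IsIntegral X]
    [IsIntegral Y] [IsLocallyNoetherian Y] (hY : Pi1.IsNormalScheme Y) (f : X ⟶ Y) [IsProper f]
    (hgen : f.base (genericPoint X) = genericPoint Y) (hbir : IsIso (f.stalkMap (genericPoint X)))
    (y : Y) : ConnectedSpace ↥(f.fiber y) := by
  have hdom : f.base (genericPoint X) ⤳ genericPoint Y := by rw [hgen]
  have hdom' : genericPoint Y ⤳ f.base (genericPoint X) := by rw [hgen]
  have halg : ∀ x : X.functionField,
      (∃ q : Polynomial Y.functionField, q ≠ 0 ∧
        Polynomial.eval₂ (CohIII.stalkToFunctionField f (genericPoint Y) hdom) x q = 0) →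
      x ∈ Set.range (CohIII.stalkToFunctionField f (genericPoint Y) hdom) := by
    intro x _
    obtain ⟨z, hz⟩ := ((ConcreteCategory.isIso_iff_bijective _).mp hbir).2 x
    refine ⟨(Y.presheaf.stalkSpecializes hdom').hom z, ?_⟩
    unfold CohIII.stalkToFunctionField
    simp only [RingHom.coe_comp, Function.comp_apply]
    have h1 : (Y.presheaf.stalkSpecializes hdom).hom ((Y.presheaf.stalkSpecializes hdom').hom z) = z := by
      have := TopCat.Presheaf.stalkSpecializes_comp Y.presheaf hdom hdom'
      have h2 := congr($(this).hom z)
      simp only [CommRingCat.hom_comp, RingHom.coe_comp, Function.comp_apply] at h2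
      rw [h2]
      simp
    rw [h1]
    exact hz
  haveI := Groth.Agent.Lib.helper8.SteinAC.geometricallyConnected_fiber_of_nhd f y
    (Groth.Agent.Lib.helper8.SteinAC.exists_nhd_isIso_app f hdom halg y (hY y).2).choose
    (Groth.Agent.Lib.helper8.SteinAC.exists_nhd_isIso_app f hdom halg y (hY y).2).choose_spec.1
    (Groth.Agent.Lib.helper8.SteinAC.exists_nhd_isIso_app f hdom halg y (hY y).2).choose_spec.2
  exact GeometricallyConnected.connectedSpace_of_subsingleton (f := f.fiberToSpecResidueField y)

end Groth.Agent.S15544
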