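import Groth.Statements.S15545
import Groth.Agent.S3403
import Mathlib.AlgebraicGeometry.Morphisms.UniversallyOpen

set_option autoImplicit false
open CategoryTheory AlgebraicGeometry
universe u
open FDesc

namespace Groth.Agent.S15545

/-- Let f : X' ⟶ X be flat, quasi-compact and surjective, and Z a pro-constructible subset of X (locally
on X an intersection of locally constructible subsets) which is dense in X. Then the preimage of Z
under f is dense in X'. -/
theorem result {X' X : Scheme.{u}} (f : X' ⟶ X)
    [Flat f] [QuasiCompact f] [Surjective f] (Z : Set X) (hZ : ProCons.IsProConstructible Z)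
    (hd : Dense Z) : Dense (f.base ⁻¹' Z) := by
  intro x'
  -- `f x'` lies in the closure of `Z`, hence is not an interior point of `Zᶜ`
  have hZc : ProCons.IsIndConstructible Zᶜ :=
    Groth.Agent.Lib.helper9.isProConstructible_iff_compl.mp hZ
  have hnot : f.base x' ∉ interior Zᶜ := by
    rw [interior_compl, hd.closure_eq]
    simp
  rw [Groth.Agent.S3403.result X Zᶜ hZc (f.base x')] at hnot
  push Not at hnot
  obtain ⟨z, hz, hzZ⟩ := hnot
  have hzZ' : z ∈ Z := by simpa using hzZ
  obtain ⟨z', hz', hfz'⟩ := (Flat.generalizingMap (f := f)) hz
  have : z' ∈ f.base ⁻¹' Z := by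
    show f.base z' ∈ Z
    rw [hfz']; exact hzZ'
  exact hz'.mem_closed isClosed_closure (subset_closure this)

end Groth.Agent.S15545
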