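import Groth.Statements.S15546
import Mathlib

set_option autoImplicit false
open scoped TensorProduct
universe u
open Unram

namespace Groth.Agent.S15546

/-- Let E be a finite extension of a field k which is not separable over k, and K an algebraic closure
of k. Then E ⊗_k K has a nonzero nilpotent element. -/
theorem result (k E K : Type u) [Field k] [Field E]
    [Algebra k E] [FiniteDimensional k E] [Field K] [Algebra k K] [IsAlgClosure k K]
    (h : ¬ Algebra.IsSeparable k E) : ∃ x : E ⊗[k] K, x ≠ 0 ∧ IsNilpotent x := by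
  classical
  have : IsAlgClosed K := IsAlgClosure.isAlgClosed k
  -- an inseparable element
  obtain ⟨α, hα⟩ : ∃ α : E, ¬ IsSeparable k α := by
    by_contra hcon
    push Not at hcon
    exact h ⟨hcon⟩
  have hint : IsIntegral k α := Algebra.IsIntegral.isIntegral α
  set f := minpoly k α with hf
  have hf0 : f ≠ 0 := minpoly.ne_zero hint
  have hns : ¬ f.Separable := hα
  set fK := f.map (algebraMap k K) with hfK
  have hfK0 : fK ≠ 0 := (Polynomial.map_ne_zero_iff (algebraMap k K).injective).mpr hf0
  have hnsK : ¬ fK.Separable := fun hs => hns ((Polynomial.separable_map _).mp hs)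
  -- a double root
  obtain ⟨a, ha⟩ : ∃ a : K, 2 ≤ fK.rootMultiplicity a := by
    by_contra hcon
    push Not at hcon
    apply hnsK
    rw [← Polynomial.nodup_roots_iff_of_splits hfK0 (IsAlgClosed.splits fK),
      Multiset.nodup_iff_count_le_one]
    intro b
    rw [Polynomial.count_roots]
    have := hcon b
    omega
  obtain ⟨g, hg⟩ : (Polynomial.X - Polynomial.C a) ^ 2 ∣ fK :=
    (Polynomial.le_rootMultiplicity_iff hfK0).mp ha
  set g' := (Polynomial.X - Polynomial.C a) * g with hg'
  have hfKg' : fK = (Polynomial.X - Polynomial.C a) * g' := by rw [hg, hg', pow_two, mul_assoc]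
  have hg'0 : g' ≠ 0 := by
    intro h0
    rw [h0, mul_zero] at hfKg'
    exact hfK0 hfKg'
  have hsq : g' * g' = fK * g := by rw [hg, hg']; ring
  set d := f.natDegree with hd
  have hdK : fK.natDegree = d := Polynomial.natDegree_map _
  have hdeg : g'.natDegree < d := by
    rw [← hdK, hfKg', Polynomial.natDegree_mul (Polynomial.X_sub_C_ne_zero a) hg'0,
      Polynomial.natDegree_X_sub_C]
    omega
  -- the evaluation map
  let ev : Polynomial K →+* E ⊗[k] K :=
    Polynomial.eval₂RingHom (Algebra.TensorProduct.includeRight : K →ₐ[k] E ⊗[k] K).toRingHom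
      (α ⊗ₜ[k] (1 : K))
  have hev_mono : ∀ (i : ℕ) (c : K), ev (Polynomial.monomial i c) = (α ^ i) ⊗ₜ[k] c := by
    intro i c
    change Polynomial.eval₂ _ _ _ = _
    rw [Polynomial.eval₂_monomial]
    change (1 : E) ⊗ₜ[k] c * (α ⊗ₜ[k] (1 : K)) ^ i = _
    rw [Algebra.TensorProduct.tmul_pow, one_pow, Algebra.TensorProduct.tmul_mul_tmul, one_mul,
      mul_one]
  have hev_fK : ev fK = 0 := by
    change Polynomial.eval₂ _ _ (f.map (algebraMap k K)) = 0
    rw [Polynomial.eval₂_map]
    have h1 : ((Algebra.TensorProduct.includeRight : K →ₐ[k] E ⊗[k] K).toRingHom.comp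
        (algebraMap k K)) =
        (Algebra.TensorProduct.includeLeft : E →ₐ[k] E ⊗[k] K).toRingHom.comp (algebraMap k E) := by
      ext r
      simp only [RingHom.comp_apply, AlgHom.toRingHom_eq_coe, RingHom.coe_coe, AlgHom.commutes]
    rw [h1]
    have h2 : (α ⊗ₜ[k] (1 : K) : E ⊗[k] K) =
        (Algebra.TensorProduct.includeLeft : E →ₐ[k] E ⊗[k] K).toRingHom α := rfl
    rw [h2, ← Polynomial.hom_eval₂, ← Polynomial.aeval_def, hf, minpoly.aeval, map_zero]
  refine ⟨ev g', ?_, ⟨2, ?_⟩⟩
  swap
  · rw [pow_two, ← map_mul, hsq, map_mul, hev_fK, zero_mul]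
  -- nonvanishing
  intro hx
  apply hg'0
  have hli := linearIndependent_pow (K := k) α
  rw [← hf, ← hd] at hli
  have hinj : Function.Injective (Finsupp.linearCombination k fun i : Fin d => α ^ (i : ℕ)) := hli
  have hinj2 : Function.Injective
      ((Finsupp.linearCombination k fun i : Fin d => α ^ (i : ℕ)).rTensor K) :=
    Module.Flat.rTensor_preserves_injective_linearMap _ hinj
  let c : Fin d →₀ K := Finsupp.equivFunOnFinite.symm fun i => g'.coeff (i : ℕ)
  have hΛ : ((Finsupp.linearCombination k fun i : Fin d => α ^ (i : ℕ)).rTensor K)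
      ((TensorProduct.finsuppScalarLeft k K (Fin d)).symm c) = ev g' := by
    have hc : c = ∑ i : Fin d, Finsupp.single i (g'.coeff (i : ℕ)) := by
      ext j
      simp [c, Finsupp.single_apply]
    rw [hc, map_sum, map_sum]
    conv_rhs => rw [Polynomial.as_sum_range' g' d hdeg, map_sum, Finset.sum_range]
    refine Finset.sum_congr rfl fun i _ => ?_
    rw [TensorProduct.finsuppScalarLeft_symm_apply_single, LinearMap.rTensor_tmul,
      Finsupp.linearCombination_single, one_smul, hev_mono]
  rw [hx] at hΛ
  have hc0 : c = 0 := by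
    have := hinj2 (hΛ.trans (map_zero _).symm)
    exact (LinearEquiv.map_eq_zero_iff _).mp this
  ext i
  rw [Polynomial.coeff_zero]
  by_cases hi : i < d
  · have := DFunLike.congr_fun hc0 ⟨i, hi⟩
    simpa [c] using this
  · exact Polynomial.coeff_eq_zero_of_natDegree_lt (by omega)

end Groth.Agent.S15546
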