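import Groth.Statements.S15548
import Mathlib
import Groth.Agent.Lib.Helper10.NatTransDelta
import Groth.Agent.Lib.Helper7.TorAPI3

set_option autoImplicit false
universe u
open CategoryTheory
open CAlg

namespace Groth.Agent.S15548

set_option linter.style.haveILetI false

open CategoryTheory CategoryTheory.Limits MonoidalCategory Groth.Agent.Lib.helper7.TorAPI
open scoped TensorProduct

variable {R : Type u} [CommRing R]

/-- Artin–Rees, in tensor form -/
theorem ar_tensor [IsNoetherianRing R] (I : Ideal R) {F : Type u} [AddCommGroup F] [Module R F]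
    [Module.Finite R F] (K : Submodule R F) (n : ℕ) :
    ∃ m : ℕ, n ≤ m ∧ ∀ (h : I ^ m ≤ I ^ n) (z : K ⊗[R] (R ⧸ I ^ m)),
      (K.subtype.rTensor (R ⧸ I ^ m)) z = 0 →
      (LinearMap.lTensor K (Submodule.factor h)) z = 0 := by
  obtain ⟨c, hc⟩ := Ideal.exists_pow_inf_eq_pow_smul I K
  refine ⟨n + c, Nat.le_add_right n c, ?_⟩
  intro h z hz
  -- z = k ⊗ 1
  have hk : ∀ z : K ⊗[R] (R ⧸ I ^ (n + c)), ∃ k : K, k ⊗ₜ[R] (1 : R ⧸ I ^ (n + c)) = z := by
    intro z
    induction z using TensorProduct.induction_on with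
    | zero => exact ⟨0, TensorProduct.zero_tmul _ _⟩
    | tmul x y =>
      obtain ⟨r, rfl⟩ := Ideal.Quotient.mk_surjective y
      refine ⟨r • x, ?_⟩
      rw [TensorProduct.smul_tmul]
      congr 1
      rw [Algebra.smul_def, mul_one]
      rfl
    | add a b ha hb =>
      obtain ⟨ka, rfl⟩ := ha
      obtain ⟨kb, rfl⟩ := hb
      exact ⟨ka + kb, TensorProduct.add_tmul _ _ _⟩
  obtain ⟨k, rfl⟩ := hk z
  rw [LinearMap.rTensor_tmul] at hz
  have h1 : (k : F) ∈ I ^ (n + c) • (⊤ : Submodule R F) := by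
    have := congrArg (TensorProduct.tensorQuotEquivQuotSMul F (I ^ (n + c))) hz
    rw [map_zero, ← map_one (Ideal.Quotient.mk (I ^ (n + c))),
      TensorProduct.tensorQuotEquivQuotSMul_tmul_mk, one_smul,
      Submodule.Quotient.mk_eq_zero] at this
    exact this
  have h2 : (k : F) ∈ I ^ n • K := by
    have h3 : (k : F) ∈ I ^ (n + c) • (⊤ : Submodule R F) ⊓ K := ⟨h1, k.2⟩
    rw [hc (n + c) (Nat.le_add_left c n), Nat.add_sub_cancel] at h3
    exact Submodule.smul_mono le_rfl inf_le_right h3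
  have h4 : k ∈ I ^ n • (⊤ : Submodule R K) := by
    have : I ^ n • K = (I ^ n • (⊤ : Submodule R K)).map K.subtype := by
      rw [Submodule.map_smul'', Submodule.map_top, Submodule.range_subtype]
    rw [this] at h2
    obtain ⟨k', hk', hk'k⟩ := h2
    have : k' = k := Subtype.ext hk'k
    rw [← this]
    exact hk'
  rw [LinearMap.lTensor_tmul]
  apply (TensorProduct.tensorQuotEquivQuotSMul K (I ^ n)).injective
  have h5 : Submodule.factor h (1 : R ⧸ I ^ (n + c)) = Ideal.Quotient.mk (I ^ n) 1 := rfl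
  rw [map_zero, h5, TensorProduct.tensorQuotEquivQuotSMul_tmul_mk, one_smul,
    Submodule.Quotient.mk_eq_zero]
  exact h4

open Groth.Agent.Lib.helper10.NatTransLESNat in
theorem main (R : Type u) [CommRing R] [IsNoetherianRing R] (I : Ideal R)
    (M : Type u) [AddCommGroup M] [Module R M] [Module.Finite R M] (n : ℕ) :
    ∃ m : ℕ, n ≤ m ∧ ∀ h : I ^ m ≤ I ^ n,
      ((CategoryTheory.Tor (ModuleCat.{u} R) 1).obj (ModuleCat.of R M)).map
        (ModuleCat.ofHom (Submodule.factor h)) = 0 := by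
  obtain ⟨r, p, hp⟩ := Module.Finite.exists_fin' R M
  let K : Submodule R (Fin r → R) := LinearMap.ker p
  obtain ⟨m, hnm, hm⟩ := ar_tensor I K n
  refine ⟨m, hnm, fun h => ?_⟩
  let S : ShortComplex (ModuleCat.{u} R) :=
    ShortComplex.mk (ModuleCat.ofHom K.subtype) (ModuleCat.ofHom p)
      (ModuleCat.hom_ext (LinearMap.ext fun x => x.2))
  have hS : S.ShortExact := by
    have h1 : Mono S.f := (ModuleCat.mono_iff_injective _).2 K.subtype_injective
    have h2 : Epi S.g := (ModuleCat.epi_iff_surjective _).2 hp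
    have hex : S.Exact := by
      apply ShortComplex.Exact.moduleCat_of_range_eq_ker
      exact Submodule.range_subtype K
    exact ShortComplex.ShortExact.mk' hex h1 h2
  let α := (tensoringLeft (ModuleCat.{u} R)).map S.f
  let β := (tensoringLeft (ModuleCat.{u} R)).map S.g
  have w : α ≫ β = 0 := tensoringLeft_map_comp_eq_zero S
  have hex : ∀ (P : ModuleCat.{u} R) [Projective P],
      (ShortComplex.mk (α.app P) (β.app P)
        (Groth.Agent.Lib.helper7.NatTransLES.app_zero α β w P)).ShortExact :=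
    fun P _ => tensoringLeft_shortExact hS P
  let D := Δ α β w hex 0
  let X : ModuleCat.{u} R := ModuleCat.of R (R ⧸ I ^ m)
  let Y : ModuleCat.{u} R := ModuleCat.of R (R ⧸ I ^ n)
  let π : X ⟶ Y := ModuleCat.ofHom (Submodule.factor h)
  haveI : Module.Flat R S.X₂ := inferInstanceAs (Module.Flat R (Fin r → R))
  let DX : (T 1 S.X₃).obj X ⟶ (T 0 S.X₁).obj X := D.app X
  let DY : (T 1 S.X₃).obj Y ⟶ (T 0 S.X₁).obj Y := D.app Y
  have hmono : Mono DY := by
    have hz : IsZero ((T 1 S.X₂).obj Y) := isZero_T_flat S.X₂ Y 0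
    exact (exact_map_Δ α β w hex Y 0).mono_g (hz.eq_of_src _ _)
  change (T 1 S.X₃).map π = 0
  rw [← cancel_mono DY, zero_comp]
  have hnat : (T 1 S.X₃).map π ≫ DY = DX ≫ (T 0 S.X₁).map π := D.naturality π
  rw [hnat]
  let eX : (T 0 S.X₁).obj X ⟶ S.X₁ ⊗ X := (tor0Iso S.X₁).hom.app X
  let eY : (T 0 S.X₁).obj Y ⟶ S.X₁ ⊗ Y := (tor0Iso S.X₁).hom.app Y
  haveI : IsIso eY := inferInstanceAs (IsIso ((tor0Iso S.X₁).hom.app Y))
  haveI : Mono eY := IsIso.mono_of_iso eY
  rw [← cancel_mono eY, zero_comp, Category.assoc]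
  have hnat2 : (T 0 S.X₁).map π ≫ eY = eX ≫ (S.X₁ ◁ π) := (tor0Iso S.X₁).hom.naturality π
  rw [hnat2]
  have hzero : (DX ≫ eX) ≫ (S.f ▷ X) = 0 := by
    rw [Category.assoc, ← tor0Iso_naturality₁ S.f X, ← Category.assoc]
    have := Δ_comp_map α β w hex X 0
    change DX ≫ T₁map 0 S.f X = 0 at this
    rw [this, zero_comp]
  rw [← Category.assoc]
  ext t
  have h1 := ConcreteCategory.congr_hom hzero t
  exact hm h _ h1



/-- Let R be a Noetherian commutative ring, I an ideal of R and M a finitely generated R-module. Then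
for every natural number n there is m ≥ n such that the map Tor_1^R(M, R/I^m) → Tor_1^R(M, R/I^n)
induced by the projection R/I^m → R/I^n is the zero map. Here Tor_1^R(M, -) is the first left
derived functor of M ⊗_R - (derived in the second variable). -/
theorem result (R : Type u) [CommRing R] [IsNoetherianRing R] (I : Ideal R)
    (M : Type u) [AddCommGroup M] [Module R M] [Module.Finite R M] (n : ℕ) :
    ∃ m : ℕ, n ≤ m ∧ ∀ h : I ^ m ≤ I ^ n,
      ((CategoryTheory.Tor (ModuleCat.{u} R) 1).obj (ModuleCat.of R M)).map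
        (ModuleCat.ofHom (Submodule.factor h)) = 0 := by
  exact main R I M n

end Groth.Agent.S15548
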