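import Groth.Statements.S15555
import Mathlib
import Groth.Agent.Lib.Helper6.JacCore

set_option autoImplicit false
universe u
open CategoryTheory AlgebraicGeometry
open Zeta

namespace Groth.Agent.S15555

section aux

open MvPolynomial TensorProduct KaehlerDifferential

variable (k : Type u) [Field k]

/-- partial derivatives of a linear form -/
theorem pderiv_lin {σ : Type} [Fintype σ] [DecidableEq σ] (c : σ → k) (v : σ) :
    pderiv v (∑ u, C (c u) * X u : MvPolynomial σ k) = C (c v) := by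
  rw [map_sum, Finset.sum_eq_single v]
  · rw [pderiv_C_mul, pderiv_X_self, mul_one]
  · intro b _ hb
    rw [pderiv_C_mul, pderiv_X_of_ne hb, mul_zero]
  · intro h
    exact absurd (Finset.mem_univ v) h

theorem aeval_pderiv_term [Fintype k] {σ : Type} [DecidableEq σ] (pt : σ → k) (a b v : σ) :
    aeval pt (pderiv v (X a * X b ^ Fintype.card k : MvPolynomial σ k)) =
      pt b * (if a = v then 1 else 0) := by
  have h1 : aeval pt (pderiv v (X a : MvPolynomial σ k)) = if a = v then 1 else 0 := by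
    split_ifs with h
    · rw [h, pderiv_X_self, map_one]
    · rw [pderiv_X_of_ne h, map_zero]
  have h2 : aeval pt (pderiv v (X b ^ Fintype.card k : MvPolynomial σ k)) = 0 := by
    rw [Derivation.leibniz_pow, map_nsmul, nsmul_eq_mul, Nat.cast_card_eq_zero, zero_mul]
  rw [Derivation.leibniz, map_add, smul_eq_mul, smul_eq_mul, map_mul, map_mul, h1, h2, mul_zero,
    zero_add, map_pow, aeval_X, FiniteField.pow_card]

theorem aeval_pderiv_F [Fintype k] {ι : Type} [Fintype ι] [DecidableEq ι] (c : ι ⊕ ι → k)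
    (v : ι ⊕ ι) :
    aeval (Sum.elim (fun i => - c (Sum.inr i)) (fun i => c (Sum.inl i)) : ι ⊕ ι → k)
      (pderiv v (∑ i : ι, (X (Sum.inl i) * X (Sum.inr i) ^ Fintype.card k -
        X (Sum.inr i) * X (Sum.inl i) ^ Fintype.card k) : MvPolynomial (ι ⊕ ι) k)) = c v := by
  rw [map_sum, map_sum]
  simp only [map_sub, aeval_pderiv_term]
  rcases v with i | i
  · rw [Finset.sum_eq_single i]
    · simp
    · intro b _ hb
      simp [hb]
    · intro h
      exact absurd (Finset.mem_univ i) h
  · rw [Finset.sum_eq_single i]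
    · simp
    · intro b _ hb
      simp [hb]
    · intro h
      exact absurd (Finset.mem_univ i) h

theorem aeval_F [Fintype k] {ι : Type} [Fintype ι] (pt : ι ⊕ ι → k) :
    aeval pt (∑ i : ι, (X (Sum.inl i) * X (Sum.inr i) ^ Fintype.card k -
        X (Sum.inr i) * X (Sum.inl i) ^ Fintype.card k) : MvPolynomial (ι ⊕ ι) k) = 0 := by
  rw [map_sum]
  refine Finset.sum_eq_zero fun i _ => ?_
  rw [map_sub, map_mul, map_mul, map_pow, map_pow, aeval_X, aeval_X, FiniteField.pow_card,
    FiniteField.pow_card, mul_comm, sub_self]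

theorem aeval_L {ι : Type} [Fintype ι] (c : ι ⊕ ι → k) :
    aeval (Sum.elim (fun i => - c (Sum.inr i)) (fun i => c (Sum.inl i)) : ι ⊕ ι → k)
      (∑ v, C (c v) * X v : MvPolynomial (ι ⊕ ι) k) = 0 := by
  have hid : ∀ x : k, algebraMap k k x = x := fun x => rfl
  rw [map_sum, Fintype.sum_sum_type, ← Finset.sum_add_distrib]
  refine Finset.sum_eq_zero fun i _ => ?_
  rw [map_mul, map_mul, aeval_C, aeval_C, aeval_X, aeval_X, Sum.elim_inl, Sum.elim_inr, hid, hid]
  ring

theorem lin_prime {σ : Type} [Fintype σ] (c : σ → k) (hc : c ≠ 0) :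
    Prime (∑ v, C (c v) * X v : MvPolynomial σ k) := by
  classical
  obtain ⟨v₀, hv₀⟩ := Function.ne_iff.mp hc
  have h1 : (∑ v, C (c v) * X v : MvPolynomial σ k) =
      sumSMulX (Finsupp.equivFunOnFinite.symm c) := by
    rw [sumSMulX, Finsupp.linearCombination_apply,
      Finsupp.sum_fintype (Finsupp.equivFunOnFinite.symm c)
        (fun i a => a • (X i : MvPolynomial σ k)) (fun i => zero_smul _ _)]
    refine Finset.sum_congr rfl fun v _ => ?_
    rw [Finsupp.coe_equivFunOnFinite_symm, smul_eq_C_mul]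
  rw [h1]
  apply Irreducible.prime
  apply irreducible_sumSMulX
  · exact ⟨v₀, by rw [Finsupp.mem_support_iff]; exact hv₀⟩
  · intro r hr
    have h2 := hr v₀
    rw [isUnit_iff_ne_zero]
    rintro rfl
    exact hv₀ (eq_zero_of_zero_dvd h2)

theorem not_dvd [Fintype k] {ι : Type} [Fintype ι] [DecidableEq ι] [Nontrivial ι]
    (c : ι ⊕ ι → k) (hc : c ≠ 0) :
    ¬ (∑ v, C (c v) * X v : MvPolynomial (ι ⊕ ι) k) ∣
      (∑ i : ι, (X (Sum.inl i) * X (Sum.inr i) ^ Fintype.card k -
        X (Sum.inr i) * X (Sum.inl i) ^ Fintype.card k) : MvPolynomial (ι ⊕ ι) k) := by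
  classical
  obtain ⟨v₀, hv₀⟩ := Function.ne_iff.mp hc
  obtain ⟨i₀, hi₀⟩ : ∃ i₀ : ι, v₀ = Sum.inl i₀ ∨ v₀ = Sum.inr i₀ := by
    rcases v₀ with i | i
    · exact ⟨i, Or.inl rfl⟩
    · exact ⟨i, Or.inr rfl⟩
  obtain ⟨j, hj⟩ := exists_ne i₀
  have hv₀l : v₀ ≠ Sum.inl j := by
    rcases hi₀ with h | h <;> rw [h] <;> simp [hj.symm]
  have hv₀r : v₀ ≠ Sum.inr j := by
    rcases hi₀ with h | h <;> rw [h] <;> simp [hj.symm]
  have hq0 : Fintype.card k ≠ 0 := Fintype.card_ne_zero
  let h : Polynomial k := algebraMap k (Polynomial k) (-(c v₀)⁻¹) *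
    (algebraMap k (Polynomial k) (c (Sum.inl j)) * Polynomial.X +
      algebraMap k (Polynomial k) (c (Sum.inr j)))
  let g : ι ⊕ ι → Polynomial k := fun v =>
    (if v = Sum.inl j then Polynomial.X else 0) + (if v = Sum.inr j then 1 else 0) +
      (if v = v₀ then h else 0)
  have hg : ∀ v, g v = (if v = Sum.inl j then Polynomial.X else 0) +
      (if v = Sum.inr j then 1 else 0) + (if v = v₀ then h else 0) := fun v => rfl
  have hgl : g (Sum.inl j) = Polynomial.X := by
    rw [hg, if_pos rfl, if_neg Sum.inl_ne_inr, if_neg hv₀l.symm, add_zero, add_zero]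
  have hgr : g (Sum.inr j) = 1 := by
    rw [hg, if_neg Sum.inr_ne_inl, if_pos rfl, if_neg hv₀r.symm, add_zero, zero_add]
  have key : ∀ i, i ≠ j → g (Sum.inl i) = 0 ∨ g (Sum.inr i) = 0 := by
    intro i hij
    by_cases hv : Sum.inl i = v₀
    · right
      rw [hg, if_neg Sum.inr_ne_inl, if_neg (by simpa using hij),
        if_neg (by rw [← hv]; exact Sum.inr_ne_inl), add_zero, add_zero]
    · left
      rw [hg, if_neg (by simpa using hij), if_neg Sum.inl_ne_inr, if_neg hv, add_zero, add_zero]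
  have hρL : aeval g (∑ v, C (c v) * X v : MvPolynomial (ι ⊕ ι) k) = 0 := by
    rw [map_sum]
    simp only [map_mul, aeval_C, aeval_X, hg, mul_add, mul_ite, mul_zero, Finset.sum_add_distrib,
      Finset.sum_ite_eq', Finset.mem_univ, if_true]
    have h3 : algebraMap k (Polynomial k) (c v₀) * h =
        -(algebraMap k (Polynomial k) (c (Sum.inl j)) * Polynomial.X +
          algebraMap k (Polynomial k) (c (Sum.inr j))) := by
      show algebraMap k (Polynomial k) (c v₀) * (algebraMap k (Polynomial k) (-(c v₀)⁻¹) * _) = _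
      rw [← mul_assoc, ← map_mul, mul_neg, mul_inv_cancel₀ hv₀, map_neg, map_one, neg_one_mul]
    rw [h3]
    ring
  have hρF : aeval g (∑ i : ι, (X (Sum.inl i) * X (Sum.inr i) ^ Fintype.card k -
        X (Sum.inr i) * X (Sum.inl i) ^ Fintype.card k) : MvPolynomial (ι ⊕ ι) k) =
      Polynomial.X - Polynomial.X ^ Fintype.card k := by
    rw [map_sum, Finset.sum_eq_single j]
    · rw [map_sub, map_mul, map_mul, map_pow, map_pow, aeval_X, aeval_X, hgl, hgr, one_pow,
        mul_one, one_mul]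
    · intro i _ hij
      rw [map_sub, map_mul, map_mul, map_pow, map_pow, aeval_X, aeval_X]
      rcases key i hij with h0 | h0
      · rw [h0, zero_mul, zero_pow hq0, mul_zero, sub_zero]
      · rw [h0, zero_pow hq0, mul_zero, zero_mul, sub_zero]
    · intro hh
      exact absurd (Finset.mem_univ j) hh
  have hne : (Polynomial.X - Polynomial.X ^ Fintype.card k : Polynomial k) ≠ 0 := by
    rw [← neg_sub, neg_ne_zero]
    exact FiniteField.X_pow_card_sub_X_ne_zero k Fintype.one_lt_card
  rintro ⟨a, ha⟩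
  have h4 := congrArg (aeval g) ha
  rw [map_mul, hρL, zero_mul, hρF] at h4
  exact hne h4

theorem tmul_D_ne_zero {σ : Type} (κ : Type u) [Field κ] [Algebra (MvPolynomial σ k) κ]
    (f : MvPolynomial σ k) (v₀ : σ) (h : algebraMap (MvPolynomial σ k) κ (pderiv v₀ f) ≠ 0) :
    (1 : κ) ⊗ₜ[MvPolynomial σ k] D k (MvPolynomial σ k) f ≠ 0 := by
  intro h0
  have h1 := congrArg (LinearMap.liftBaseChange κ
    ((Algebra.linearMap (MvPolynomial σ k) κ).comp (pderiv v₀).liftKaehlerDifferential)) h0
  rw [map_zero, LinearMap.liftBaseChange_tmul, one_smul, LinearMap.comp_apply,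
    Derivation.liftKaehlerDifferential_comp_D, Algebra.linearMap_apply] at h1
  exact h h1

theorem tmul_D_eq_zero {σ : Type} [Fintype σ] (B : Type u) [CommRing B] [Algebra k B]
    [Algebra (MvPolynomial σ k) B] [IsScalarTower k (MvPolynomial σ k) B]
    (κ : Type u) [Field κ] [Algebra B κ]
    (G : MvPolynomial σ k)
    (hG : ∀ v, algebraMap B κ (algebraMap (MvPolynomial σ k) B (pderiv v G)) = 0) :
    (1 : κ) ⊗ₜ[B] D k B (algebraMap (MvPolynomial σ k) B G) = 0 := by
  have h1 : D k (MvPolynomial σ k) G = ∑ v, pderiv v G • D k (MvPolynomial σ k) (X v) := by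
    have h := (KaehlerDifferential.mvPolynomialBasis k σ).sum_repr (D k (MvPolynomial σ k) G)
    simp only [KaehlerDifferential.mvPolynomialBasis_repr_apply,
      KaehlerDifferential.mvPolynomialBasis_apply] at h
    exact h.symm
  have h2 : D k B (algebraMap (MvPolynomial σ k) B G) =
      ∑ v, algebraMap (MvPolynomial σ k) B (pderiv v G) •
        D k B (algebraMap (MvPolynomial σ k) B (X v)) := by
    rw [← KaehlerDifferential.map_D k k (MvPolynomial σ k) B, h1, map_sum]
    refine Finset.sum_congr rfl fun v _ => ?_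
    rw [LinearMap.map_smul, KaehlerDifferential.map_D, algebraMap_smul]
  rw [h2, TensorProduct.tmul_sum]
  refine Finset.sum_eq_zero fun v _ => ?_
  rw [TensorProduct.tmul_smul, TensorProduct.smul_tmul', Algebra.smul_def, mul_one, hG,
    TensorProduct.zero_tmul]

theorem core_abs {σ : Type} [Fintype σ] [DecidableEq σ]
    (B R : Type u) [CommRing B] [CommRing R] [Algebra k B] [Algebra k R]
    [Algebra (MvPolynomial σ k) B] [Algebra (MvPolynomial σ k) R] [Algebra B R]
    [IsScalarTower k (MvPolynomial σ k) B] [IsScalarTower k B R]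
    [IsScalarTower (MvPolynomial σ k) B R]
    (F L : MvPolynomial σ k)
    (hPB : Function.Surjective (algebraMap (MvPolynomial σ k) B))
    (hkerPB : RingHom.ker (algebraMap (MvPolynomial σ k) B) = Ideal.span {L})
    (hkerPR : RingHom.ker (algebraMap (MvPolynomial σ k) R) = Ideal.span {F, L})
    (hBR : Function.Surjective (algebraMap B R))
    (hLprime : Prime L) (hFL : ¬ L ∣ F)
    (pt : σ → k)
    (v₀ : σ) (hv₀ : aeval pt (pderiv v₀ L) ≠ 0)
    (hgrad : ∀ v, aeval pt (pderiv v F) = aeval pt (pderiv v L))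
    (p : Ideal R) [p.IsPrime]
    (hp : ∀ f : MvPolynomial σ k, algebraMap (MvPolynomial σ k) R f ∈ p ↔ aeval pt f = 0) :
    ¬ Algebra.IsSmoothAt k p := by
  classical
  intro hsm
  haveI : Algebra.FiniteType k B :=
    Algebra.FiniteType.of_surjective (IsScalarTower.toAlgHom k (MvPolynomial σ k) B) hPB
  have hLB : algebraMap (MvPolynomial σ k) B L = 0 := by
    rw [← RingHom.mem_ker, hkerPB]
    exact Ideal.mem_span_singleton_self L
  -- kernel of `B → R`
  have hkerBR : RingHom.ker (algebraMap B R) =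
      Ideal.span {algebraMap (MvPolynomial σ k) B F} := by
    ext b
    obtain ⟨f, rfl⟩ := hPB b
    rw [RingHom.mem_ker, ← IsScalarTower.algebraMap_apply (MvPolynomial σ k) B R,
      ← RingHom.mem_ker, hkerPR, Ideal.mem_span_pair, Ideal.mem_span_singleton']
    constructor
    · rintro ⟨a, b, hab⟩
      refine ⟨algebraMap _ B a, ?_⟩
      rw [← hab, map_add, map_mul, map_mul, hLB, mul_zero, add_zero]
    · rintro ⟨a', ha'⟩
      obtain ⟨a, rfl⟩ := hPB a'
      have h1 : f - a * F ∈ RingHom.ker (algebraMap (MvPolynomial σ k) B) := by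
        rw [RingHom.mem_ker, map_sub, map_mul, ha', sub_self]
      rw [hkerPB, Ideal.mem_span_singleton'] at h1
      obtain ⟨b, hb⟩ := h1
      exact ⟨a, b, by rw [hb]; ring⟩
  have hmemP : ∀ f : MvPolynomial σ k,
      algebraMap (MvPolynomial σ k) B f ∈ Ideal.comap (algebraMap B R) p ↔ aeval pt f = 0 := by
    intro f
    rw [Ideal.mem_comap, ← IsScalarTower.algebraMap_apply (MvPolynomial σ k) B R, hp]
  -- `B` is smooth at the preimage of `p`
  have hXP : Algebra.FormallySmooth k (Localization.AtPrime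
      (Ideal.comap (algebraMap (MvPolynomial σ k) B) (Ideal.comap (algebraMap B R) p))) := by
    haveI : Algebra.FormallyEtale (MvPolynomial σ k) (Localization.AtPrime
        (Ideal.comap (algebraMap (MvPolynomial σ k) B) (Ideal.comap (algebraMap B R) p))) :=
      Algebra.FormallyEtale.of_isLocalization
        (Ideal.comap (algebraMap (MvPolynomial σ k) B)
          (Ideal.comap (algebraMap B R) p)).primeCompl
    exact Algebra.FormallySmooth.comp k (MvPolynomial σ k) _
  have hXB : Algebra.IsSmoothAt k (Ideal.comap (algebraMap B R) p) := by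
    refine (Groth.Agent.Lib.helper6.JacCore.isSmoothAt_iff k (MvPolynomial σ k) B L
      (Ideal.comap (algebraMap B R) p) hPB hkerPB hXP).mpr (Or.inr ?_)
    apply tmul_D_ne_zero k _ L v₀
    rw [IsScalarTower.algebraMap_apply (MvPolynomial σ k) B
      (Ideal.comap (algebraMap B R) p).ResidueField, Ne,
      Ideal.algebraMap_residueField_eq_zero, hmemP]
    exact hv₀
  have hsm' := (Groth.Agent.Lib.helper6.JacCore.isSmoothAt_iff k B R
    (algebraMap (MvPolynomial σ k) B F) p hBR hkerBR hXB).mp hsm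
  rcases hsm' with h0 | h0
  · -- (D1)
    rw [IsLocalization.map_eq_zero_iff (Ideal.comap (algebraMap B R) p).primeCompl] at h0
    obtain ⟨⟨m, hm⟩, hm0⟩ := h0
    obtain ⟨s, rfl⟩ := hPB m
    have h1 : s * F ∈ RingHom.ker (algebraMap (MvPolynomial σ k) B) := by
      rw [RingHom.mem_ker, map_mul]
      exact hm0
    rw [hkerPB, Ideal.mem_span_singleton] at h1
    rcases hLprime.dvd_or_dvd h1 with h2 | h2
    · apply hm
      have h3 : algebraMap (MvPolynomial σ k) B s = 0 := by
        rw [← RingHom.mem_ker, hkerPB, Ideal.mem_span_singleton]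
        exact h2
      rw [h3]
      exact zero_mem _
    · exact hFL h2
  · -- (D2)
    apply h0
    have hG : algebraMap (MvPolynomial σ k) B F = algebraMap (MvPolynomial σ k) B (F - L) := by
      rw [map_sub, hLB, sub_zero]
    rw [hG]
    apply tmul_D_eq_zero
    intro v
    rw [IsScalarTower.algebraMap_apply B R p.ResidueField,
      Ideal.algebraMap_residueField_eq_zero,
      ← IsScalarTower.algebraMap_apply (MvPolynomial σ k) B R, hp, map_sub, map_sub, hgrad,
      sub_self]

theorem core [Fintype k] {ι : Type} [Fintype ι] [DecidableEq ι] [Nontrivial ι]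
    (F L : MvPolynomial (ι ⊕ ι) k)
    (hF : F = ∑ i : ι, (X (Sum.inl i) * X (Sum.inr i) ^ Fintype.card k -
      X (Sum.inr i) * X (Sum.inl i) ^ Fintype.card k))
    (c : ι ⊕ ι → k) (hc : c ≠ 0) (hL : L = ∑ v, C (c v) * X v)
    (w : ι ⊕ ι)
    (hw : (Sum.elim (fun i => - c (Sum.inr i)) (fun i => c (Sum.inl i)) : ι ⊕ ι → k) w ≠ 0) :
    ¬ Algebra.Smooth k (Localization.Away (Ideal.Quotient.mk (Ideal.span {F, L}) (X w))) := by
  classical
  intro hsm
  obtain ⟨v₀, hv₀⟩ := Function.ne_iff.mp hc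
  have hJI : Ideal.span {L} ≤ Ideal.span {F, L} := Ideal.span_mono (by simp)
  letI algBR : Algebra (MvPolynomial (ι ⊕ ι) k ⧸ Ideal.span {L})
      (MvPolynomial (ι ⊕ ι) k ⧸ Ideal.span {F, L}) :=
    (Ideal.Quotient.factor hJI).toAlgebra
  haveI : IsScalarTower k (MvPolynomial (ι ⊕ ι) k ⧸ Ideal.span {L})
      (MvPolynomial (ι ⊕ ι) k ⧸ Ideal.span {F, L}) :=
    IsScalarTower.of_algebraMap_eq (R := k) (S := MvPolynomial (ι ⊕ ι) k ⧸ Ideal.span {L})
      (A := MvPolynomial (ι ⊕ ι) k ⧸ Ideal.span {F, L}) (fun a => rfl)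
  haveI : IsScalarTower (MvPolynomial (ι ⊕ ι) k) (MvPolynomial (ι ⊕ ι) k ⧸ Ideal.span {L})
      (MvPolynomial (ι ⊕ ι) k ⧸ Ideal.span {F, L}) :=
    IsScalarTower.of_algebraMap_eq (R := MvPolynomial (ι ⊕ ι) k)
      (S := MvPolynomial (ι ⊕ ι) k ⧸ Ideal.span {L})
      (A := MvPolynomial (ι ⊕ ι) k ⧸ Ideal.span {F, L}) (fun a => rfl)
  let pt : ι ⊕ ι → k := Sum.elim (fun i => - c (Sum.inr i)) (fun i => c (Sum.inl i))
  have hevF : aeval pt F = 0 := by
    rw [hF]
    exact aeval_F k pt
  have hevL : aeval pt L = 0 := by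
    rw [hL]
    exact aeval_L k c
  have hI : ∀ a ∈ Ideal.span {F, L},
      (aeval pt : MvPolynomial (ι ⊕ ι) k →ₐ[k] k).toRingHom a = 0 := by
    intro a ha
    rw [Ideal.mem_span_pair] at ha
    obtain ⟨x, y, rfl⟩ := ha
    show aeval pt (x * F + y * L) = 0
    rw [map_add, map_mul, map_mul, hevF, hevL, mul_zero, mul_zero, add_zero]
  let evb : (MvPolynomial (ι ⊕ ι) k ⧸ Ideal.span {F, L}) →+* k :=
    Ideal.Quotient.lift _ (aeval pt : MvPolynomial (ι ⊕ ι) k →ₐ[k] k).toRingHom hI
  haveI hprime : (RingHom.ker evb).IsPrime := RingHom.ker_isPrime evb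
  have hp : ∀ f : MvPolynomial (ι ⊕ ι) k,
      algebraMap (MvPolynomial (ι ⊕ ι) k) (MvPolynomial (ι ⊕ ι) k ⧸ Ideal.span {F, L}) f ∈
        RingHom.ker evb ↔ aeval pt f = 0 := by
    intro f
    rw [RingHom.mem_ker]
    exact Iff.rfl
  haveI : Algebra.FinitePresentation k (MvPolynomial (ι ⊕ ι) k ⧸ Ideal.span {F, L}) :=
    Algebra.FinitePresentation.quotient (Submodule.fg_span ((Set.finite_singleton L).insert F))
  have hsub := (Algebra.basicOpen_subset_smoothLocus_iff_smooth (R := k)
    (A := MvPolynomial (ι ⊕ ι) k ⧸ Ideal.span {F, L})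
    (f := Ideal.Quotient.mk (Ideal.span {F, L}) (X w))).mpr hsm
  have hsmp : Algebra.IsSmoothAt k (RingHom.ker evb) := by
    have hmem : (⟨RingHom.ker evb, hprime⟩ :
        PrimeSpectrum (MvPolynomial (ι ⊕ ι) k ⧸ Ideal.span {F, L})) ∈
        (PrimeSpectrum.basicOpen (Ideal.Quotient.mk (Ideal.span {F, L}) (X w)) : Set _) := by
      rw [SetLike.mem_coe, PrimeSpectrum.mem_basicOpen]
      show ¬ (Ideal.Quotient.mk (Ideal.span {F, L}) (X w) ∈ RingHom.ker evb)
      rw [RingHom.mem_ker]
      show ¬ (aeval pt (X w : MvPolynomial (ι ⊕ ι) k) = 0)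
      rw [aeval_X]
      exact hw
    exact hsub hmem
  refine core_abs k (MvPolynomial (ι ⊕ ι) k ⧸ Ideal.span {L})
    (MvPolynomial (ι ⊕ ι) k ⧸ Ideal.span {F, L}) F L Ideal.Quotient.mk_surjective ?_ ?_ ?_ ?_ ?_
    pt v₀ ?_ ?_ (RingHom.ker evb) hp hsmp
  · rw [Ideal.Quotient.algebraMap_eq, Ideal.mk_ker]
  · rw [Ideal.Quotient.algebraMap_eq, Ideal.mk_ker]
  · intro x
    obtain ⟨f, rfl⟩ := Ideal.Quotient.mk_surjective x
    exact ⟨Ideal.Quotient.mk _ f, rfl⟩
  · rw [hL]
    exact lin_prime k c hc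
  · rw [hF, hL]
    exact not_dvd k c hc
  · rw [hL, pderiv_lin, aeval_C]
    exact hv₀
  · intro v
    rw [hF, hL, aeval_pderiv_F, pderiv_lin, aeval_C]
    rfl

end aux



/-- Let k be a finite field with q elements and n ≥ 1 a natural number; in the 2n + 2 variables X_0, …,
X_n, Y_0, …, Y_n (indexed by Fin (n+1) ⊕ Fin (n+1), the left summand carrying the X_i) let F = Σ_i
(X_i Y_i^q − Y_i X_i^q), a form of degree q + 1 defining the hypersurface Hyp ⊂ P^{2n+1}_k. Then no
hyperplane of P^{2n+1}_k defined over k meets Hyp transversally: for every linear form L = Σ_v c_v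
x_v with a nonzero coefficient vector c over k, the scheme-theoretic intersection Hyp ∩ (L = 0) ⊂
P^{2n+1}_k is not smooth over k. The intersection is presented through the standard open pieces of
its affine cone: with R = k[X, Y]/(F, L), the piece x_w ≠ 0 of the cone Spec R is (Hyp ∩ (L = 0) ∩
D₊(x_w)) × 𝔾_m, so Hyp ∩ (L = 0) is smooth over k exactly when every localisation R[1/x_w] is a
smooth k-algebra, and the row states that not all of them are. (The published example is stated for
every n ≥ 0; for n = 0 the hypersurface is the set of the q + 1 rational points of P^1_k, it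
contains every rational point H, and Hyp ∩ H = H is a reduced point, smooth over k; so this row
takes n ≥ 1, where no rational hyperplane is contained in Hyp and each one is tangent to Hyp at a
rational point, at which the intersection is singular.) -/
theorem result (k : Type u) [Field k] [Fintype k] (n : ℕ) (hn : 1 ≤ n)
    (F L : MvPolynomial (Fin (n + 1) ⊕ Fin (n + 1)) k)
    (hF : F = ∑ i : Fin (n + 1), (MvPolynomial.X (Sum.inl i) * MvPolynomial.X (Sum.inr i) ^ Fintype.card k -
      MvPolynomial.X (Sum.inr i) * MvPolynomial.X (Sum.inl i) ^ Fintype.card k))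
    (c : Fin (n + 1) ⊕ Fin (n + 1) → k) (hc : c ≠ 0)
    (hL : L = ∑ v, MvPolynomial.C (c v) * MvPolynomial.X v) :
    ¬ ∀ w : Fin (n + 1) ⊕ Fin (n + 1),
      Smooth (Spec.map (CommRingCat.ofHom (algebraMap k
        (Localization.Away (Ideal.Quotient.mk (Ideal.span {F, L}) (MvPolynomial.X w)))))) := by
  classical
  intro hall
  obtain ⟨v₀, hv₀⟩ := Function.ne_iff.mp hc
  haveI : Nontrivial (Fin (n + 1)) := Fin.nontrivial_iff_two_le.mpr (by omega)
  obtain ⟨w, hw⟩ : ∃ w, (Sum.elim (fun i => - c (Sum.inr i)) (fun i => c (Sum.inl i)) :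
      Fin (n + 1) ⊕ Fin (n + 1) → k) w ≠ 0 := by
    rcases v₀ with i | i
    · exact ⟨Sum.inr i, by rw [Sum.elim_inr]; exact hv₀⟩
    · exact ⟨Sum.inl i, by rw [Sum.elim_inl]; exact neg_ne_zero.mpr hv₀⟩
  have hsm : Algebra.Smooth k (Localization.Away
      (Ideal.Quotient.mk (Ideal.span {F, L}) (MvPolynomial.X w))) := by
    rw [← RingHom.smooth_algebraMap]
    exact (HasRingHomProperty.Spec_iff (P := @Smooth)).1 (hall w)
  exact core k F L hF c hc hL w hw hsm


end Groth.Agent.S15555
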