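import Groth.Statements.S15557
import Mathlib
-- import your own Groth.Agent.* helpers here

set_option autoImplicit false
universe v u
open CategoryTheory
open CohDer

namespace Groth.Agent.S15557

section helpers

open CategoryTheory Limits Pretriangulated

variable {D : Type u} [Category.{v} D] [Preadditive D]
    [Limits.HasZeroObject D] [HasShift D ℤ] [∀ n : ℤ, (shiftFunctor D n).Additive] [Pretriangulated D]

theorem main15557 (T T' : Triangle D) (hT : T ∈ distinguishedTriangles) (hT' : T' ∈ distinguishedTriangles)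
    (hXZ : ∀ u : T.obj₁ ⟶ T'.obj₃, u = 0)
    (hXZ' : ∀ u : T.obj₁ ⟶ (shiftFunctor D (-1 : ℤ)).obj T'.obj₃, u = 0) :
    Function.Bijective (fun u : T.obj₁ ⟶ T'.obj₁ => u ≫ T'.mor₁) ∧
      Function.Bijective (fun w : T.obj₃ ⟶ T'.obj₃ => T.mor₂ ≫ w) := by
  have hXZ1 : ∀ g : (shiftFunctor D (1 : ℤ)).obj T.obj₁ ⟶ T'.obj₃, g = 0 := by
    intro g
    apply (shiftFunctor D (-1 : ℤ)).map_injective
    rw [Functor.map_zero]
    have e : T.obj₁ ≅ (shiftFunctor D (-1 : ℤ)).obj ((shiftFunctor D (1 : ℤ)).obj T.obj₁) :=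
      (shiftEquiv D (1 : ℤ)).unitIso.app T.obj₁
    have h := hXZ' (e.hom ≫ (shiftFunctor D (-1 : ℤ)).map g)
    rw [← cancel_epi e.hom, h, comp_zero]
  refine ⟨⟨?_, ?_⟩, ⟨?_, ?_⟩⟩
  · intro u₁ u₂ h
    dsimp at h
    have h0 : (u₁ - u₂) ≫ T'.mor₁ = 0 := by rw [Preadditive.sub_comp, h, sub_self]
    obtain ⟨g, hg⟩ := Triangle.coyoneda_exact₂ _ (inv_rot_of_distTriang _ hT') (u₁ - u₂) h0
    have : g = 0 := hXZ' g
    rw [this, zero_comp] at hg
    exact sub_eq_zero.1 hg
  · intro v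
    obtain ⟨u, hu⟩ := Triangle.coyoneda_exact₂ _ hT' v (hXZ _)
    exact ⟨u, hu.symm⟩
  · intro w₁ w₂ h
    dsimp at h
    have h0 : T.mor₂ ≫ (w₁ - w₂) = 0 := by rw [Preadditive.comp_sub, h, sub_self]
    obtain ⟨g, hg⟩ := Triangle.yoneda_exact₃ _ hT (w₁ - w₂) h0
    rw [hXZ1 g, comp_zero] at hg
    exact sub_eq_zero.1 hg
  · intro v
    obtain ⟨w, hw⟩ := Triangle.yoneda_exact₂ _ hT v (hXZ _)
    exact ⟨w, hw.symm⟩

end helpers

open CategoryTheory.Pretriangulated in
/-- Let T = (X, Y, Z) and T' = (X', Y', Z') be distinguished triangles in a pretriangulated category and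
assume that every morphism X → Z' and every morphism X → Z'[-1] is zero. Then composing with the
first map X' → Y' of T' is a bijection Hom(X, X') → Hom(X, Y'), and composing with the second map Y
→ Z of T is a bijection Hom(Z, Z') → Hom(Y, Z'). (The published lemma is for triangulated
categories; the octahedral axiom plays no role.) -/
theorem result {D : Type u} [Category.{v} D] [Preadditive D]
    [Limits.HasZeroObject D] [HasShift D ℤ] [∀ n : ℤ, (shiftFunctor D n).Additive] [Pretriangulated D]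
    (T T' : Triangle D) (hT : T ∈ distinguishedTriangles) (hT' : T' ∈ distinguishedTriangles)
    (hXZ : ∀ u : T.obj₁ ⟶ T'.obj₃, u = 0)
    (hXZ' : ∀ u : T.obj₁ ⟶ (shiftFunctor D (-1 : ℤ)).obj T'.obj₃, u = 0) :
    Function.Bijective (fun u : T.obj₁ ⟶ T'.obj₁ => u ≫ T'.mor₁) ∧
      Function.Bijective (fun w : T.obj₃ ⟶ T'.obj₃ => T.mor₂ ≫ w) := by
  exact main15557 T T' hT hT' hXZ hXZ'

end Groth.Agent.S15557
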