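import Groth.Statements.S1556
import Groth.Agent.Lib.Helper17.RegSmoothSch2

set_option autoImplicit false
set_option linter.style.haveILetI false
universe u
open CategoryTheory CategoryTheory.Limits AlgebraicGeometry
attribute [local instance] Curv2.resAlgebra
open Variety

namespace Groth.Agent.S1556

/-- Let X be a curve over k (integral, separated, of finite type, of dimension one) and x a closed point
whose residue field is separable over k. Then the local ring at x is a discrete valuation ring if
and only if x lies in the smooth locus of X → Spec k. -/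
theorem result (k : Type u) [Field k] (X : Scheme.{u}) [X.Over (Spec (CommRingCat.of k))] [IsIntegral X]
    [IsSeparated (X ↘ (Spec (CommRingCat.of k)))] [LocallyOfFinitePresentation (X ↘ (Spec (CommRingCat.of k)))] [QuasiCompact (X ↘ (Spec (CommRingCat.of k)))]
    (hdim : topologicalKrullDim X = 1) (x : X) (hx : IsClosed ({x} : Set X))
    [Algebra.IsSeparable k (X.residueField x)] :
    IsDiscreteValuationRing (X.presheaf.stalk x) ↔ x ∈ (X ↘ (Spec (CommRingCat.of k))).smoothLocus := by
  classical
  have hsep : letI := (Groth.Agent.Lib.helper17.RegSmooth.resMap (X ↘ (Spec (CommRingCat.of k))) x).toAlgebra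
      Algebra.IsSeparable k (X.residueField x) := ‹Algebra.IsSeparable k (X.residueField x)›
  have key := Groth.Agent.Lib.helper17.RegSmooth.mem_smoothLocus_iff_isRegularLocalRing
    (X ↘ (Spec (CommRingCat.of k))) x
    (Groth.Agent.Lib.helper17.RegSmooth.formallySmooth_resMap_of_isSeparable _ x hsep)
  rw [key]
  have : IsLocallyNoetherian X :=
    LocallyOfFiniteType.isLocallyNoetherian (X ↘ (Spec (CommRingCat.of k)))
  have hdimB : ringKrullDim (X.presheaf.stalk x) ≤ 1 := by
    rw [← hdim, ← PrimeSpectrum.topologicalKrullDim_eq_ringKrullDim]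
    exact (X.fromSpecStalk x).isEmbedding.isInducing.topologicalKrullDim_le
  have hnf : ¬ IsField (X.presheaf.stalk x) := by
    intro hf
    letI := hf.toField
    have hη : genericPoint X ∈ Set.range (X.fromSpecStalk x) := by
      rw [Scheme.range_fromSpecStalk]
      exact genericPoint_specializes x
    obtain ⟨y, hy⟩ := hη
    have hy' : y = IsLocalRing.closedPoint (X.presheaf.stalk x) :=
      @Subsingleton.elim (PrimeSpectrum (X.presheaf.stalk x)) inferInstance y _
    rw [hy', Scheme.fromSpecStalk_closedPoint] at hy
    have h1 : closure ({x} : Set X) = Set.univ := by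
      rw [hy]; exact (genericPoint_spec X).def
    rw [hx.closure_eq] at h1
    have hsub : Subsingleton X := by
      refine ⟨fun a b => ?_⟩
      have ha : a ∈ ({x} : Set X) := h1 ▸ Set.mem_univ a
      have hb : b ∈ ({x} : Set X) := h1 ▸ Set.mem_univ b
      rw [Set.mem_singleton_iff] at ha hb
      rw [ha, hb]
    have h2 := topologicalKrullDim_zero_of_discreteTopology X
    rw [hdim] at h2
    exact absurd h2 (by decide)
  constructor
  · intro h
    infer_instance
  · intro hreg
    have h1 := (IsRegularLocalRing.iff_finrank_cotangentSpace (X.presheaf.stalk x)).mp hreg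
    have hfin : Module.finrank (IsLocalRing.ResidueField (X.presheaf.stalk x))
        (IsLocalRing.CotangentSpace (X.presheaf.stalk x)) ≤ 1 := by
      have h2 : ((Module.finrank (IsLocalRing.ResidueField (X.presheaf.stalk x))
        (IsLocalRing.CotangentSpace (X.presheaf.stalk x)) : ℕ) : WithBot ℕ∞) ≤ 1 := h1 ▸ hdimB
      exact_mod_cast h2
    have hpid : IsPrincipalIdealRing (X.presheaf.stalk x) :=
      ((tfae_of_isNoetherianRing_of_isLocalRing_of_isDomain
        (X.presheaf.stalk x)).out 5 0).mp hfin
    exact { not_a_field' := fun h => hnf (IsLocalRing.isField_iff_maximalIdeal_eq.mpr h) }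

end Groth.Agent.S1556
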