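import Groth.Statements.S15561
import Mathlib
-- import your own Groth.Agent.* helpers here

set_option autoImplicit false
universe u v w
open KronMod

namespace Groth.Agent.S15561


/-- The sum map `Vⁿ → W` of a Kronecker module. -/
noncomputable def sumMap {K : Type u} [Field K] {V : Type v} {W : Type w}
    [AddCommGroup V] [Module K V] [AddCommGroup W] [Module K W]
    {n : ℕ} (f : Fin n → (V →ₗ[K] W)) : (Fin n → V) →ₗ[K] W :=
  ∑ j, (f j) ∘ₗ (LinearMap.proj j)

theorem sumMap_apply {K : Type u} [Field K] {V : Type v} {W : Type w}
    [AddCommGroup V] [Module K V] [AddCommGroup W] [Module K W]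
    {n : ℕ} (f : Fin n → (V →ₗ[K] W)) (v : Fin n → V) : sumMap f v = ∑ j, f j (v j) := by
  simp [sumMap]

theorem isSubrep_top_range {K : Type u} [Field K] {V : Type v} {W : Type w}
    [AddCommGroup V] [Module K V] [AddCommGroup W] [Module K W]
    {n : ℕ} (f : Fin n → (V →ₗ[K] W)) : KronMod.IsSubrep f ⊤ (LinearMap.range (sumMap f)) := by
  classical
  rintro j _ ⟨v, -, rfl⟩
  refine ⟨Pi.single j v, ?_⟩
  rw [sumMap_apply, Finset.sum_eq_single j]
  · simp
  · intro i _ hij
    simp [Pi.single_eq_of_ne hij]
  · intro h; exact absurd (Finset.mem_univ j) h

/-- Let f be a Kronecker module with n arrows over a field K, from V of dimension d₋₁ > 0 to W of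
dimension n·d₋₁. Then f is semistable if and only if the sum map Vⁿ → W sending (v_j)_j to Σ_j
f_j(v_j) is bijective, i.e. every arrow f_j is injective and W is the direct sum of the images
f_j(V). (The published statement assumes K algebraically closed of characteristic zero and n ≥ 2;
this row allows any field K and any number n of arrows.) -/
theorem result (K : Type u) [Field K] (V : Type v) (W : Type w)
    [AddCommGroup V] [Module K V] [FiniteDimensional K V]
    [AddCommGroup W] [Module K W] [FiniteDimensional K W]
    (n : ℕ) (f : Fin n → (V →ₗ[K] W))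
    (hV : 0 < Module.finrank K V) (hW : Module.finrank K W = n * Module.finrank K V) :
    KronMod.IsSemistable f ↔ Function.Bijective (fun v : Fin n → V => ∑ j, f j (v j)) := by
  have hfun : (fun v : Fin n → V => ∑ j, f j (v j)) = sumMap f := by
    funext v; rw [sumMap_apply]
  rw [hfun]
  have hdim : Module.finrank K (Fin n → V) = Module.finrank K W := by
    rw [Module.finrank_pi_fintype, hW]; simp
  constructor
  · intro hss
    have hsurj : Function.Surjective (sumMap f) := by
      rw [← LinearMap.range_eq_top]
      by_contra hne
      haveI : Nontrivial V := Module.nontrivial_of_finrank_pos hV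
      have h1 := hss.2 ⊤ (LinearMap.range (sumMap f)) (isSubrep_top_range f)
        (fun h => top_ne_bot h.1) (fun h => hne h.2)
      rw [finrank_top] at h1
      have h2 : Module.finrank K W ≤ Module.finrank K (LinearMap.range (sumMap f)) := by
        rw [mul_comm] at h1
        exact Nat.le_of_mul_le_mul_left h1 hV
      exact hne (Submodule.eq_top_of_finrank_eq
        (le_antisymm (Submodule.finrank_le _) h2))
    exact ⟨(LinearMap.injective_iff_surjective_of_finrank_eq_finrank hdim).mpr hsurj, hsurj⟩
  · intro hbij
    refine ⟨by omega, ?_⟩
    intro V' W' hsub _ _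
    let Ψ : (Fin n → V') →ₗ[K] W' :=
      LinearMap.codRestrict W' (sumMap f ∘ₗ LinearMap.pi fun j => V'.subtype ∘ₗ LinearMap.proj j)
        (by
          intro v
          simp only [LinearMap.comp_apply, sumMap_apply, LinearMap.pi_apply, Submodule.subtype_apply,
            LinearMap.proj_apply]
          exact Submodule.sum_mem _ fun j _ => hsub j ⟨_, (v j).2, rfl⟩)
    have hΨ : Function.Injective Ψ := by
      intro a b hab
      have h1 : (Ψ a : W) = Ψ b := congrArg Subtype.val hab
      simp only [Ψ, LinearMap.codRestrict_apply, LinearMap.comp_apply] at h1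
      have h2 := hbij.injective h1
      funext j
      apply Subtype.ext
      have := congrFun h2 j
      simpa using this
    have h3 := LinearMap.finrank_le_finrank_of_injective hΨ
    rw [Module.finrank_pi_fintype] at h3
    simp only [Finset.sum_const, Finset.card_univ, Fintype.card_fin, smul_eq_mul] at h3
    calc Module.finrank K W * Module.finrank K V'
        = Module.finrank K V * (n * Module.finrank K V') := by rw [hW]; ring
      _ ≤ Module.finrank K V * Module.finrank K W' := Nat.mul_le_mul_left _ h3

end Groth.Agent.S15561
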