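import Groth.Statements.S15560
import Mathlib
import Groth.Agent.S15561
-- import your own Groth.Agent.* helpers here

set_option autoImplicit false
universe u v w
open KronMod

namespace Groth.Agent.S15560

/-- Let f be a Kronecker module with n arrows over a field K, from a space V of dimension d₋₁ > 0 to a
space W of dimension d₀ > 0. If n·d₋₁ < d₀ or n·d₀ < d₋₁, then f is not semistable; that is, there
are no semistable Kronecker modules of dimension vector (d₋₁, d₀). (The published statement assumes
K algebraically closed of characteristic zero and n ≥ 2; this row allows any field K and any number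
n of arrows.) -/
theorem result (K : Type u) [Field K] (V : Type v) (W : Type w)
    [AddCommGroup V] [Module K V] [FiniteDimensional K V]
    [AddCommGroup W] [Module K W] [FiniteDimensional K W]
    (n : ℕ) (f : Fin n → (V →ₗ[K] W))
    (hV : 0 < Module.finrank K V) (hW : 0 < Module.finrank K W)
    (h : n * Module.finrank K V < Module.finrank K W ∨ n * Module.finrank K W < Module.finrank K V) :
    ¬ KronMod.IsSemistable f := by
  intro hss
  haveI : Nontrivial V := Module.nontrivial_of_finrank_pos (R := K) hV
  haveI : Nontrivial W := Module.nontrivial_of_finrank_pos (R := K) hW
  rcases h with h | h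
  · have hle : Module.finrank K (LinearMap.range (Groth.Agent.S15561.sumMap f)) ≤
        n * Module.finrank K V := by
      have := LinearMap.finrank_range_le (Groth.Agent.S15561.sumMap f)
      rw [Module.finrank_pi_fintype] at this
      simpa using this
    have h1 := hss.2 ⊤ (LinearMap.range (Groth.Agent.S15561.sumMap f))
      (Groth.Agent.S15561.isSubrep_top_range f) (fun h => top_ne_bot h.1)
      (fun h' => by
        have := congrArg (fun S : Submodule K W => Module.finrank K S) h'.2
        simp only [finrank_top] at this
        omega)
    rw [finrank_top, mul_comm] at h1
    have h2 := Nat.le_of_mul_le_mul_left h1 hV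
    omega
  · let P : V →ₗ[K] (Fin n → W) := LinearMap.pi f
    have hsub : KronMod.IsSubrep f (LinearMap.ker P) ⊥ := by
      rintro j _ ⟨v, hv, rfl⟩
      have : P v = 0 := hv
      have := congrFun this j
      simpa [P] using this
    have hrk := LinearMap.finrank_range_add_finrank_ker P
    have hle : Module.finrank K (LinearMap.range P) ≤ n * Module.finrank K W := by
      have := Submodule.finrank_le (LinearMap.range P)
      rw [Module.finrank_pi_fintype] at this
      simpa using this
    have hpos : 0 < Module.finrank K (LinearMap.ker P) := by omega
    have h1 := hss.2 (LinearMap.ker P) ⊥ hsub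
      (fun h' => by
        have := congrArg (fun S : Submodule K V => Module.finrank K S) h'.1
        simp only [finrank_bot] at this
        omega)
      (fun h' => bot_ne_top h'.2)
    rw [finrank_bot, mul_zero] at h1
    have := Nat.eq_zero_of_le_zero h1
    rcases Nat.mul_eq_zero.mp this with h0 | h0 <;> omega

end Groth.Agent.S15560
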