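import Groth.Statements.S15562
import Mathlib
import Groth.Agent.S15561
-- import your own Groth.Agent.* helpers here

set_option autoImplicit false
universe u v w
open KronMod

namespace Groth.Agent.S15562


theorem sumMap_single {K : Type u} [Field K] {V : Type v} {W : Type w}
    [AddCommGroup V] [Module K V] [AddCommGroup W] [Module K W]
    {n : ℕ} (f : Fin n → (V →ₗ[K] W)) (j : Fin n) (v : V) :
    Groth.Agent.S15561.sumMap f (Pi.single j v) = f j v := by
  classical
  rw [Groth.Agent.S15561.sumMap_apply, Finset.sum_eq_single j]
  · simp
  · intro i _ hij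
    simp [Pi.single_eq_of_ne hij]
  · intro h; exact absurd (Finset.mem_univ j) h

/-- Over a field K, for V of dimension d₋₁ > 0 and W of dimension n·d₋₁, semistable Kronecker modules
with n arrows from V to W exist, and any two of them are isomorphic as Kronecker modules; in other
words the moduli space K(n; d₋₁, n·d₋₁) of semistable Kronecker modules is a single point. (The
published statement assumes K algebraically closed of characteristic zero and n ≥ 2; this row allows
any field K and any number n of arrows.) -/
theorem result (K : Type u) [Field K] (V : Type v) (W : Type w)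
    [AddCommGroup V] [Module K V] [FiniteDimensional K V]
    [AddCommGroup W] [Module K W] [FiniteDimensional K W]
    (n : ℕ) (hV : 0 < Module.finrank K V) (hW : Module.finrank K W = n * Module.finrank K V) :
    (∃ f : Fin n → (V →ₗ[K] W), KronMod.IsSemistable f) ∧
    ∀ f f' : Fin n → (V →ₗ[K] W), KronMod.IsSemistable f → KronMod.IsSemistable f' →
      KronMod.AreIso f f' := by
  classical
  have hdim : Module.finrank K (Fin n → V) = Module.finrank K W := by
    rw [Module.finrank_pi_fintype, hW]; simp
  have key : ∀ f : Fin n → (V →ₗ[K] W), KronMod.IsSemistable f ↔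
      Function.Bijective (Groth.Agent.S15561.sumMap f) := by
    intro f
    have := Groth.Agent.S15561.result K V W n f hV hW
    have hfun : (fun v : Fin n → V => ∑ j, f j (v j)) = Groth.Agent.S15561.sumMap f := by
      funext v; rw [Groth.Agent.S15561.sumMap_apply]
    rwa [hfun] at this
  constructor
  · let e : (Fin n → V) ≃ₗ[K] W := LinearEquiv.ofFinrankEq _ _ hdim
    refine ⟨fun j => (e : (Fin n → V) →ₗ[K] W) ∘ₗ LinearMap.single K (fun _ => V) j, ?_⟩
    rw [key]
    have : (Groth.Agent.S15561.sumMap fun j =>
        (e : (Fin n → V) →ₗ[K] W) ∘ₗ LinearMap.single K (fun _ => V) j) = e := by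
      ext j v
      simp only [LinearMap.comp_apply, LinearMap.single_apply, LinearEquiv.coe_coe]
      rw [sumMap_single]
      simp
    rw [this]
    exact e.bijective
  · intro f f' hf hf'
    let Φ : (Fin n → V) ≃ₗ[K] W := LinearEquiv.ofBijective _ ((key f).mp hf)
    let Φ' : (Fin n → V) ≃ₗ[K] W := LinearEquiv.ofBijective _ ((key f').mp hf')
    refine ⟨LinearEquiv.refl K V, Φ.symm.trans Φ', ?_⟩
    intro j
    ext v
    simp only [LinearMap.comp_apply, LinearEquiv.coe_coe, LinearEquiv.trans_apply,
      LinearEquiv.refl_apply]
    have h1 : Φ.symm (f j v) = Pi.single j v := by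
      rw [LinearEquiv.symm_apply_eq]
      exact (sumMap_single f j v).symm
    rw [h1]
    exact sumMap_single f' j v

end Groth.Agent.S15562
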