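import Groth.Statements.S15563
import Mathlib
import Groth.Agent.S15561
-- import your own Groth.Agent.* helpers here

set_option autoImplicit false
universe u v w
open KronMod

namespace Groth.Agent.S15563

/-- Let f be a Kronecker module with n arrows over a field K, from V of dimension d₋₁ > 0 to W of
dimension n·d₋₁. Then f is stable if and only if f is semistable and d₋₁ = 1: for d₋₁ = 1 every
semistable module is stable (so the stable locus of K(n; 1, n) is the one point), while for d₋₁ > 1
no module is stable. (The published statement assumes K algebraically closed of characteristic zero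
and n ≥ 2; this row allows any field K and any number n of arrows.) -/
theorem result (K : Type u) [Field K] (V : Type v) (W : Type w)
    [AddCommGroup V] [Module K V] [FiniteDimensional K V]
    [AddCommGroup W] [Module K W] [FiniteDimensional K W]
    (n : ℕ) (f : Fin n → (V →ₗ[K] W))
    (hV : 0 < Module.finrank K V) (hW : Module.finrank K W = n * Module.finrank K V) :
    KronMod.IsStable f ↔ (KronMod.IsSemistable f ∧ Module.finrank K V = 1) := by
  classical
  constructor
  · intro hst
    have hss : KronMod.IsSemistable f :=
      ⟨hst.1, fun V' W' h1 h2 h3 => (hst.2 V' W' h1 h2 h3).le⟩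
    refine ⟨hss, ?_⟩
    by_contra hne
    have h2 : 2 ≤ Module.finrank K V := by omega
    haveI : Nontrivial V := Module.nontrivial_of_finrank_pos hV
    obtain ⟨v, hv⟩ := exists_ne (0 : V)
    let Ψ : (Fin n → K) →ₗ[K] W := ∑ j, (LinearMap.toSpanSingleton K W (f j v)) ∘ₗ (LinearMap.proj j)
    have hΨ : ∀ c : Fin n → K, Ψ c = ∑ j, c j • f j v := by
      intro c; simp [Ψ]
    have hsub : KronMod.IsSubrep f (K ∙ v) (LinearMap.range Ψ) := by
      rintro j _ ⟨u, hu, rfl⟩
      obtain ⟨c, rfl⟩ := Submodule.mem_span_singleton.mp hu
      refine ⟨Pi.single j c, ?_⟩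
      rw [hΨ, Finset.sum_eq_single j]
      · simp
      · intro i _ hij; simp [Pi.single_eq_of_ne hij]
      · intro h; exact absurd (Finset.mem_univ j) h
    have hℓ : Module.finrank K (K ∙ v) = 1 := finrank_span_singleton hv
    have hlt := hst.2 (K ∙ v) (LinearMap.range Ψ) hsub
      (fun h => hv ((Submodule.span_singleton_eq_bot).mp h.1))
      (fun h => by
        have := congrArg (fun S : Submodule K V => Module.finrank K S) h.1
        simp only [finrank_top] at this
        omega)
    have hle : Module.finrank K (LinearMap.range Ψ) ≤ n := by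
      have := LinearMap.finrank_range_le Ψ
      simpa using this
    rw [hℓ, hW] at hlt
    have : Module.finrank K V * Module.finrank K (LinearMap.range Ψ) ≤ Module.finrank K V * n :=
      Nat.mul_le_mul_left _ hle
    nlinarith
  · rintro ⟨hss, h1⟩
    refine ⟨hss.1, ?_⟩
    intro V' W' hsub hnb hnt
    have hbij := (Groth.Agent.S15561.result K V W n f hV hW).mp hss
    have hfun : (fun v : Fin n → V => ∑ j, f j (v j)) = Groth.Agent.S15561.sumMap f := by
      funext v; rw [Groth.Agent.S15561.sumMap_apply]
    rw [hfun] at hbij
    have hV' : Module.finrank K V' ≤ 1 := h1 ▸ Submodule.finrank_le V'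
    rcases Nat.le_one_iff_eq_zero_or_eq_one.mp hV' with h0 | h0
    · have hVb : V' = ⊥ := Submodule.finrank_eq_zero.mp h0
      have hWb : W' ≠ ⊥ := fun h => hnb ⟨hVb, h⟩
      have : 0 < Module.finrank K W' := by
        rw [Nat.pos_iff_ne_zero]
        intro h
        exact hWb (Submodule.finrank_eq_zero.mp h)
      rw [h0, h1]
      omega
    · have hVt : V' = ⊤ := Submodule.eq_top_of_finrank_eq (h0.trans h1.symm)
      exfalso
      apply hnt
      refine ⟨hVt, ?_⟩
      rw [eq_top_iff, ← LinearMap.range_eq_top.mpr hbij.surjective]
      rintro _ ⟨v, rfl⟩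
      rw [Groth.Agent.S15561.sumMap_apply]
      refine Submodule.sum_mem _ fun j _ => hsub j ⟨v j, ?_, rfl⟩
      rw [hVt]; trivial

end Groth.Agent.S15563
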