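import Groth.Statements.S15564
import Mathlib
-- import your own Groth.Agent.* helpers here

set_option autoImplicit false
universe u v w
open KronMod

namespace Groth.Agent.S15564


theorem eq_bot_or_eq_top_of_finrank_eq_one {K : Type u} [Field K] {U : Type v} [AddCommGroup U]
    [Module K U] [FiniteDimensional K U] (hU : Module.finrank K U = 1) (U' : Submodule K U) :
    U' = ⊥ ∨ U' = ⊤ := by
  have h1 : Module.finrank K U' ≤ 1 := hU ▸ Submodule.finrank_le U'
  rcases Nat.le_one_iff_eq_zero_or_eq_one.mp h1 with h0 | h0
  · exact Or.inl (Submodule.finrank_eq_zero.mp h0)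
  · exact Or.inr (Submodule.eq_top_of_finrank_eq (h0.trans hU.symm))

/-- For a Kronecker module f with n arrows over a field K between one-dimensional spaces V and W,
semistability, stability and f ≠ 0 are equivalent: the semistable locus and the stable locus of
dimension vector (1, 1) are both the complement of the zero module. (The published statement assumes
K algebraically closed of characteristic zero and n ≥ 2; this row allows any field K and any n.) -/
theorem result (K : Type u) [Field K] (V : Type v) (W : Type w)
    [AddCommGroup V] [Module K V] [FiniteDimensional K V]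
    [AddCommGroup W] [Module K W] [FiniteDimensional K W]
    (n : ℕ) (f : Fin n → (V →ₗ[K] W))
    (hV : Module.finrank K V = 1) (hW : Module.finrank K W = 1) :
    (KronMod.IsSemistable f ↔ f ≠ 0) ∧ (KronMod.IsStable f ↔ f ≠ 0) := by
  haveI : Nontrivial V := Module.nontrivial_of_finrank_pos (R := K) (by rw [hV]; exact one_pos)
  haveI : Nontrivial W := Module.nontrivial_of_finrank_pos (R := K) (by rw [hW]; exact one_pos)
  have h_ss_ne : KronMod.IsSemistable f → f ≠ 0 := by
    intro hss hf
    have hsub : KronMod.IsSubrep f ⊤ ⊥ := by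
      intro j
      rw [hf]
      simp
    have := hss.2 ⊤ ⊥ hsub (fun h => top_ne_bot h.1) (fun h => bot_ne_top h.2)
    simp [hV, hW] at this
  have h_ne_st : f ≠ 0 → KronMod.IsStable f := by
    intro hf
    refine ⟨by omega, ?_⟩
    intro V' W' hsub hnb hnt
    rcases eq_bot_or_eq_top_of_finrank_eq_one hV V' with hV' | hV'
    · rcases eq_bot_or_eq_top_of_finrank_eq_one hW W' with hW' | hW'
      · exact absurd ⟨hV', hW'⟩ hnb
      · subst hV' hW'
        simp [hV, hW]
    · rcases eq_bot_or_eq_top_of_finrank_eq_one hW W' with hW' | hW'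
      · exfalso
        apply hf
        funext j
        ext v
        have : f j v ∈ W' := hsub j ⟨v, by rw [hV']; trivial, rfl⟩
        rw [hW'] at this
        simpa using this
      · exact absurd ⟨hV', hW'⟩ hnt
  have h_st_ss : KronMod.IsStable f → KronMod.IsSemistable f :=
    fun hst => ⟨hst.1, fun V' W' h1 h2 h3 => (hst.2 V' W' h1 h2 h3).le⟩
  exact ⟨⟨h_ss_ne, fun h => h_st_ss (h_ne_st h)⟩, ⟨fun h => h_ss_ne (h_st_ss h), h_ne_st⟩⟩

end Groth.Agent.S15564
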