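import Groth.Statements.S15565
import Mathlib
-- import your own Groth.Agent.* helpers here

set_option autoImplicit false
universe u v w
open KronMod

namespace Groth.Agent.S15565

/-- Over an algebraically closed field K, a Kronecker module with two arrows between spaces V and W of
the same dimension k ≥ 2 is never stable: the stable locus of dimension vector (k, k) for the
Kronecker quiver with two arrows is empty. (The published statement also assumes characteristic
zero; this row does not.) -/
theorem result (K : Type u) [Field K] [IsAlgClosed K] (V : Type v) (W : Type w)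
    [AddCommGroup V] [Module K V] [FiniteDimensional K V]
    [AddCommGroup W] [Module K W] [FiniteDimensional K W]
    (f : Fin 2 → (V →ₗ[K] W)) (k : ℕ) (hk : 2 ≤ k)
    (hV : Module.finrank K V = k) (hW : Module.finrank K W = k) :
    ¬ KronMod.IsStable f := by
  intro hst
  haveI : Nontrivial V := Module.nontrivial_of_finrank_pos (R := K) (by omega)
  have hex : ∃ (v : V) (w : W), v ≠ 0 ∧ ∀ j : Fin 2, f j v ∈ (K ∙ w) := by
    by_cases hinj : Function.Injective (f 1)
    · have hsurj : Function.Surjective (f 1) :=
        (LinearMap.injective_iff_surjective_of_finrank_eq_finrank (hV.trans hW.symm)).mp hinj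
      let e : V ≃ₗ[K] W := LinearEquiv.ofBijective (f 1) ⟨hinj, hsurj⟩
      let T : Module.End K V := (e.symm : W →ₗ[K] V) ∘ₗ f 0
      obtain ⟨μ, hμ⟩ := Module.End.exists_eigenvalue T
      obtain ⟨v, hv⟩ := hμ.exists_hasEigenvector
      have hTv : T v = μ • v := Module.End.mem_eigenspace_iff.mp hv.1
      have h0 : f 0 v = μ • f 1 v := by
        have : e (T v) = e (μ • v) := by rw [hTv]
        simpa [T, e] using this
      refine ⟨v, f 1 v, hv.2, ?_⟩
      rw [Fin.forall_fin_two]
      exact ⟨by rw [h0]; exact Submodule.smul_mem _ _ (Submodule.mem_span_singleton_self _),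
        Submodule.mem_span_singleton_self _⟩
    · have hker : LinearMap.ker (f 1) ≠ ⊥ := fun h => hinj (LinearMap.ker_eq_bot.mp h)
      obtain ⟨v, hv, hv0⟩ := Submodule.exists_mem_ne_zero_of_ne_bot hker
      refine ⟨v, f 0 v, hv0, ?_⟩
      rw [Fin.forall_fin_two]
      refine ⟨Submodule.mem_span_singleton_self _, ?_⟩
      have : f 1 v = 0 := hv
      rw [this]
      exact Submodule.zero_mem _
  obtain ⟨v, w, hv, hvw⟩ := hex
  have hsub : KronMod.IsSubrep f (K ∙ v) (K ∙ w) := by
    rintro j _ ⟨u, hu, rfl⟩
    obtain ⟨c, rfl⟩ := Submodule.mem_span_singleton.mp hu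
    rw [map_smul]
    exact Submodule.smul_mem _ _ (hvw j)
  have hℓ : Module.finrank K (K ∙ v) = 1 := finrank_span_singleton hv
  have hm : Module.finrank K (K ∙ w) ≤ 1 := by
    have := finrank_span_le_card (R := K) ({w} : Set W)
    simpa using this
  have hlt := hst.2 (K ∙ v) (K ∙ w) hsub
    (fun h => hv ((Submodule.span_singleton_eq_bot).mp h.1))
    (fun h => by
      have := congrArg (fun S : Submodule K V => Module.finrank K S) h.1
      simp only [finrank_top] at this
      omega)
  rw [hℓ, hV, hW] at hlt
  have : k * Module.finrank K (K ∙ w) ≤ k * 1 := Nat.mul_le_mul_left _ hm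
  omega

end Groth.Agent.S15565
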