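import Groth.Statements.S15566
import Mathlib
-- import your own Groth.Agent.* helpers here

set_option autoImplicit false
universe u v w
open KronMod

namespace Groth.Agent.S15566


section
variable {K : Type u} [Field K] {V : Type v} {W : Type w}
  [AddCommGroup V] [Module K V] [FiniteDimensional K V]
  [AddCommGroup W] [Module K W] [FiniteDimensional K W]

omit [FiniteDimensional K V] [FiniteDimensional K W] in
theorem comb_two {n : ℕ} (f : Fin n → (V →ₗ[K] W)) (j a : Fin n) (x y : K) :
    (∑ k, (Pi.single j x + Pi.single a y : Fin n → K) k • f k) = x • f j + y • f a := by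
  classical
  simp [add_smul, Finset.sum_add_distrib, Pi.single_apply, ite_smul]

omit [FiniteDimensional K W] in
theorem singular_range (hV : Module.finrank K V = 2) (G : V →ₗ[K] W)
    (hG : ¬ Function.Injective G) (v₀ : V) (h0 : G v₀ ≠ 0) (v : V) :
    ∃ β : K, G v = β • G v₀ := by
  have hker : LinearMap.ker G ≠ ⊥ := fun h => hG (LinearMap.ker_eq_bot.mp h)
  obtain ⟨u, hu, hu0⟩ := Submodule.exists_mem_ne_zero_of_ne_bot hker
  have hGu : G u = 0 := hu
  have hli : LinearIndependent K ![u, v₀] := by
    rw [LinearIndependent.pair_iff]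
    intro s t hst
    have h1 := congrArg G hst
    rw [map_add, map_smul, map_smul, hGu, smul_zero, zero_add, map_zero] at h1
    have ht : t = 0 := by
      rcases smul_eq_zero.mp h1 with h | h
      · exact h
      · exact absurd h h0
    rw [ht, zero_smul, add_zero] at hst
    rcases smul_eq_zero.mp hst with h | h
    · exact ⟨h, ht⟩
    · exact absurd h hu0
  have hspan : Submodule.span K (Set.range ![u, v₀]) = ⊤ :=
    hli.span_eq_top_of_card_eq_finrank' (by simp [hV])
  have hv : v ∈ Submodule.span K (Set.range ![u, v₀]) := by rw [hspan]; trivial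
  have hrange : Set.range ![u, v₀] = {u, v₀} := by
    ext x; simp [eq_comm, or_comm]
  rw [hrange, Submodule.mem_span_pair] at hv
  obtain ⟨a, b, rfl⟩ := hv
  exact ⟨b, by rw [map_add, map_smul, map_smul, hGu, smul_zero, zero_add]⟩

omit [FiniteDimensional K W] in
theorem claim1 (hV : Module.finrank K V = 2) (D A : V →ₗ[K] W)
    (h0 : ¬ Function.Injective D) (h1 : ¬ Function.Injective (D + A))
    (v₀ v₁ : V) (hA0 : A v₀ = 0) (hA1 : A v₁ ≠ 0) : D v₀ ∈ (K ∙ A v₁) := by
  by_contra hD
  have hDv : D v₀ ≠ 0 := by
    intro h; apply hD; rw [h]; exact Submodule.zero_mem _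
  obtain ⟨β₀, hβ₀⟩ := singular_range hV D h0 v₀ hDv v₁
  have hDA : (D + A) v₀ ≠ 0 := by
    rw [LinearMap.add_apply, hA0, add_zero]; exact hDv
  obtain ⟨β₁, hβ₁⟩ := singular_range hV (D + A) h1 v₀ hDA v₁
  rw [LinearMap.add_apply, LinearMap.add_apply, hA0, add_zero, hβ₀] at hβ₁
  have hw : A v₁ = (β₁ - β₀) • D v₀ := by
    rw [sub_smul, ← hβ₁]; abel
  have hne : β₁ - β₀ ≠ 0 := by
    intro h; rw [h, zero_smul] at hw; exact hA1 hw
  apply hD
  rw [Submodule.mem_span_singleton]
  refine ⟨(β₁ - β₀)⁻¹, ?_⟩
  rw [hw, smul_smul, inv_mul_cancel₀ hne, one_smul]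

end

/-- Case of dimension vector (2, 2). Over an algebraically closed field K, if a Kronecker module f with
n arrows between two-dimensional spaces V and W is semistable, then some linear combination Σ_j z_j
f_j of its arrows is a linear isomorphism V → W (equivalently, the determinant of the generic
combination is not identically zero): the semistable locus of dimension vector (2, 2) lies in the
open set of modules whose generic combination is invertible. (The published statement, over an
algebraically closed field of characteristic zero, covers dimension vectors (1, 1) and (2, 2) for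
every n ≥ 2 and (k, k) for two arrows; this row states the (2, 2) case, for any n and without the
characteristic assumption.) -/
theorem result (K : Type u) [Field K] [IsAlgClosed K] (V : Type v) (W : Type w)
    [AddCommGroup V] [Module K V] [FiniteDimensional K V]
    [AddCommGroup W] [Module K W] [FiniteDimensional K W]
    (n : ℕ) (f : Fin n → (V →ₗ[K] W))
    (hV : Module.finrank K V = 2) (hW : Module.finrank K W = 2)
    (hf : KronMod.IsSemistable f) :
    ∃ z : Fin n → K, Function.Bijective ((∑ j, z j • f j : V →ₗ[K] W) : V → W) := by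
  classical
  by_contra hcon
  push Not at hcon
  have hdim : Module.finrank K V = Module.finrank K W := hV.trans hW.symm
  have hsing : ∀ z : Fin n → K, ¬ Function.Injective ((∑ j, z j • f j : V →ₗ[K] W)) := by
    intro z hinj
    exact hcon z ⟨hinj, (LinearMap.injective_iff_surjective_of_finrank_eq_finrank hdim).mp hinj⟩
  have hsing2 : ∀ (j a : Fin n) (x y : K), ¬ Function.Injective (x • f j + y • f a) := by
    intro j a x y
    have := hsing (Pi.single j x + Pi.single a y)
    rwa [comb_two] at this
  have hsing1 : ∀ j : Fin n, ¬ Function.Injective (f j) := by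
    intro j
    have := hsing2 j j 1 0
    simpa using this
  haveI : Nontrivial V := Module.nontrivial_of_finrank_pos (R := K) (by omega)
  haveI : Nontrivial W := Module.nontrivial_of_finrank_pos (R := K) (by omega)
  -- some arrow is nonzero
  have hex : ∃ (a : Fin n) (v₁ : V), f a v₁ ≠ 0 := by
    by_contra hno
    push Not at hno
    have hsub : KronMod.IsSubrep f ⊤ ⊥ := by
      rintro j _ ⟨v, -, rfl⟩
      rw [hno j v]; exact Submodule.zero_mem _
    have := hf.2 ⊤ ⊥ hsub (fun h => top_ne_bot h.1) (fun h => bot_ne_top h.2)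
    simp [hV, hW] at this
  obtain ⟨a, v₁, hv₁⟩ := hex
  have hkera : LinearMap.ker (f a) ≠ ⊥ := fun h => hsing1 a (LinearMap.ker_eq_bot.mp h)
  obtain ⟨v₀, hv₀, hv₀0⟩ := Submodule.exists_mem_ne_zero_of_ne_bot hkera
  have hA0 : f a v₀ = 0 := hv₀
  -- every arrow maps v₀ into m
  have hclaim : ∀ j : Fin n, f j v₀ ∈ (K ∙ f a v₁) := by
    intro j
    refine claim1 hV (f j) (f a) (hsing1 j) ?_ v₀ v₁ hA0 hv₁
    have := hsing2 j a 1 1
    simpa using this
  -- some arrow does not kill v₀
  have hexb : ∃ b : Fin n, f b v₀ ≠ 0 := by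
    by_contra hno
    push Not at hno
    have hsub : KronMod.IsSubrep f (K ∙ v₀) ⊥ := by
      rintro j _ ⟨u, hu, rfl⟩
      obtain ⟨c, rfl⟩ := Submodule.mem_span_singleton.mp hu
      rw [map_smul, hno j, smul_zero]; exact Submodule.zero_mem _
    have := hf.2 (K ∙ v₀) ⊥ hsub
      (fun h => hv₀0 ((Submodule.span_singleton_eq_bot).mp h.1)) (fun h => bot_ne_top h.2)
    rw [finrank_span_singleton hv₀0, finrank_bot, hV, hW] at this
    omega
  obtain ⟨b, hb⟩ := hexb
  -- some arrow has range not inside m
  have hexc : ∃ (c : Fin n) (v : V), f c v ∉ (K ∙ f a v₁) := by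
    by_contra hno
    push Not at hno
    have hsub : KronMod.IsSubrep f ⊤ (K ∙ f a v₁) := by
      rintro j _ ⟨v, -, rfl⟩
      exact hno j v
    have := hf.2 ⊤ (K ∙ f a v₁) hsub (fun h => top_ne_bot h.1)
      (fun h => by
        have h2 := congrArg (fun S : Submodule K W => Module.finrank K S) h.2
        simp only [finrank_top, finrank_span_singleton hv₁] at h2
        omega)
    rw [finrank_span_singleton hv₁, finrank_top, hV, hW] at this
    omega
  obtain ⟨c, v, hcv⟩ := hexc
  obtain ⟨p, hp⟩ := Submodule.mem_span_singleton.mp (hclaim b)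
  obtain ⟨p', hp'⟩ := Submodule.mem_span_singleton.mp (hclaim c)
  have hp0 : p ≠ 0 := by
    intro h; rw [h, zero_smul] at hp; exact hb hp.symm
  -- B v ∈ m
  obtain ⟨β, hβ⟩ := singular_range hV (f b) (hsing1 b) v₀ hb v
  have hBv : f b v ∈ (K ∙ f a v₁) := by
    rw [hβ]; exact Submodule.smul_mem _ _ (hclaim b)
  -- the combination G
  set q : K := 1 - p' / p with hq
  have hG := hsing2 b c q 1
  have hGv₀ : (q • f b + (1 : K) • f c) v₀ = p • f a v₁ := by
    simp only [LinearMap.add_apply, LinearMap.smul_apply, one_smul]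
    rw [← hp, ← hp', smul_smul, ← add_smul, hq]
    congr 1
    field_simp
    ring
  have hGv₀ne : (q • f b + (1 : K) • f c) v₀ ≠ 0 := by
    rw [hGv₀]
    exact smul_ne_zero hp0 hv₁
  obtain ⟨γ, hγ⟩ := singular_range hV _ hG v₀ hGv₀ne v
  apply hcv
  have : f c v = (q • f b + (1 : K) • f c) v - q • f b v := by
    simp only [LinearMap.add_apply, LinearMap.smul_apply, one_smul]; abel
  rw [this, hγ, hGv₀]
  exact Submodule.sub_mem _ (Submodule.smul_mem _ _ (Submodule.smul_mem _ _
    (Submodule.mem_span_singleton_self _))) (Submodule.smul_mem _ _ hBv)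

end Groth.Agent.S15566
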