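import Groth.Statements.S15567
import Mathlib
-- import your own Groth.Agent.* helpers here

set_option autoImplicit false
universe u v w
open KronMod

namespace Groth.Agent.S15567


section
variable {K : Type u} [Field K] {V : Type v} {W : Type w}
  [AddCommGroup V] [Module K V] [FiniteDimensional K V]
  [AddCommGroup W] [Module K W] [FiniteDimensional K W] {n : ℕ}

theorem fwd (f : Fin n → (V →ₗ[K] W)) (rel : ℕ → ℕ → Prop)
    (hrel : ∀ p q r s X : ℕ, r + q = X → s + p = X → rel p q → rel r s)
    (H : ∀ (V' : Submodule K V) (W' : Submodule K W), KronMod.IsSubrep f V' W' →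
      ¬ (V' = ⊥ ∧ W' = ⊥) → ¬ (V' = ⊤ ∧ W' = ⊤) →
      rel (Module.finrank K W * Module.finrank K V') (Module.finrank K V * Module.finrank K W'))
    (A : Submodule K (Module.Dual K W)) (B : Submodule K (Module.Dual K V))
    (hsub : KronMod.IsSubrep (fun j => (f j).dualMap) A B)
    (hnb : ¬ (A = ⊥ ∧ B = ⊥)) (hnt : ¬ (A = ⊤ ∧ B = ⊤)) :
    rel (Module.finrank K (Module.Dual K V) * Module.finrank K A)
      (Module.finrank K (Module.Dual K W) * Module.finrank K B) := by
  have hA := Subspace.finrank_add_finrank_dualCoannihilator_eq A
  have hB := Subspace.finrank_add_finrank_dualCoannihilator_eq B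
  have hdV : Module.finrank K (Module.Dual K V) = Module.finrank K V := Subspace.dual_finrank_eq
  have hdW : Module.finrank K (Module.Dual K W) = Module.finrank K W := Subspace.dual_finrank_eq
  have hsub' : KronMod.IsSubrep f B.dualCoannihilator A.dualCoannihilator := by
    rintro j _ ⟨x, hx, rfl⟩
    rw [SetLike.mem_coe, Submodule.mem_dualCoannihilator] at hx
    rw [Submodule.mem_dualCoannihilator]
    intro φ hφ
    have : (f j).dualMap φ ∈ B := hsub j ⟨φ, hφ, rfl⟩
    exact hx _ this
  have h1 := H B.dualCoannihilator A.dualCoannihilator hsub'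
    (fun h => hnt ⟨by
        apply Submodule.eq_top_of_finrank_eq
        have := congrArg (fun S : Submodule K W => Module.finrank K S) h.2
        simp only [finrank_bot] at this
        omega, by
        apply Submodule.eq_top_of_finrank_eq
        have := congrArg (fun S : Submodule K V => Module.finrank K S) h.1
        simp only [finrank_bot] at this
        omega⟩)
    (fun h => hnb ⟨by
        apply Submodule.finrank_eq_zero.mp
        have := congrArg (fun S : Submodule K W => Module.finrank K S) h.2
        simp only [finrank_top] at this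
        omega, by
        apply Submodule.finrank_eq_zero.mp
        have := congrArg (fun S : Submodule K V => Module.finrank K S) h.1
        simp only [finrank_top] at this
        omega⟩)
  rw [hdV, hdW]
  refine hrel _ _ _ _ (Module.finrank K V * Module.finrank K W) ?_ ?_ h1
  · rw [← mul_add, hA]
  · rw [← mul_add, hB, mul_comm]

theorem bwd (f : Fin n → (V →ₗ[K] W)) (rel : ℕ → ℕ → Prop)
    (hrel : ∀ p q r s X : ℕ, r + q = X → s + p = X → rel p q → rel r s)
    (H : ∀ (A : Submodule K (Module.Dual K W)) (B : Submodule K (Module.Dual K V)),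
      KronMod.IsSubrep (fun j => (f j).dualMap) A B →
      ¬ (A = ⊥ ∧ B = ⊥) → ¬ (A = ⊤ ∧ B = ⊤) →
      rel (Module.finrank K (Module.Dual K V) * Module.finrank K A)
        (Module.finrank K (Module.Dual K W) * Module.finrank K B))
    (V' : Submodule K V) (W' : Submodule K W) (hsub : KronMod.IsSubrep f V' W')
    (hnb : ¬ (V' = ⊥ ∧ W' = ⊥)) (hnt : ¬ (V' = ⊤ ∧ W' = ⊤)) :
    rel (Module.finrank K W * Module.finrank K V') (Module.finrank K V * Module.finrank K W') := by
  have hA := Subspace.finrank_add_finrank_dualAnnihilator_eq W'
  have hB := Subspace.finrank_add_finrank_dualAnnihilator_eq V'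
  have hdV : Module.finrank K (Module.Dual K V) = Module.finrank K V := Subspace.dual_finrank_eq
  have hdW : Module.finrank K (Module.Dual K W) = Module.finrank K W := Subspace.dual_finrank_eq
  have hsub' : KronMod.IsSubrep (fun j => (f j).dualMap) W'.dualAnnihilator V'.dualAnnihilator := by
    rintro j _ ⟨φ, hφ, rfl⟩
    rw [SetLike.mem_coe, Submodule.mem_dualAnnihilator] at hφ
    rw [Submodule.mem_dualAnnihilator]
    intro x hx
    rw [LinearMap.dualMap_apply]
    exact hφ _ (hsub j ⟨x, hx, rfl⟩)
  have h1 := H W'.dualAnnihilator V'.dualAnnihilator hsub'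
    (fun h => hnt ⟨by
        apply Submodule.eq_top_of_finrank_eq
        have := congrArg (fun S : Submodule K (Module.Dual K V) => Module.finrank K S) h.2
        simp only [finrank_bot] at this
        omega, by
        apply Submodule.eq_top_of_finrank_eq
        have := congrArg (fun S : Submodule K (Module.Dual K W) => Module.finrank K S) h.1
        simp only [finrank_bot] at this
        omega⟩)
    (fun h => hnb ⟨by
        apply Submodule.finrank_eq_zero.mp
        have := congrArg (fun S : Submodule K (Module.Dual K V) => Module.finrank K S) h.2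
        simp only [finrank_top] at this
        omega, by
        apply Submodule.finrank_eq_zero.mp
        have := congrArg (fun S : Submodule K (Module.Dual K W) => Module.finrank K S) h.1
        simp only [finrank_top] at this
        omega⟩)
  rw [hdV, hdW] at h1
  refine hrel _ _ _ _ (Module.finrank K V * Module.finrank K W) ?_ ?_ h1
  · rw [← mul_add, hB, mul_comm]
  · rw [← mul_add, hA]

end

/-- Duality of Kronecker modules. Let f be a Kronecker module with n arrows over a field K, from V to W,
both finite-dimensional. The dual module has arrows the transposes f_j^∨ : W^∨ → V^∨, so its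
dimension vector is (d₀, d₋₁). Then f is semistable if and only if its dual is, and f is stable if
and only if its dual is. This is the module-level content of the isomorphism K(n; d₋₁, d₀) ≅ K(n;
d₀, d₋₁) of moduli spaces, stated here without the moduli spaces. (The published statement assumes K
algebraically closed of characteristic zero and n ≥ 2; this row allows any field K and any number n
of arrows.) -/
theorem result (K : Type u) [Field K] (V : Type v) (W : Type w)
    [AddCommGroup V] [Module K V] [FiniteDimensional K V]
    [AddCommGroup W] [Module K W] [FiniteDimensional K W]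
    (n : ℕ) (f : Fin n → (V →ₗ[K] W)) :
    (KronMod.IsSemistable f ↔ KronMod.IsSemistable (fun j => (f j).dualMap)) ∧
    (KronMod.IsStable f ↔ KronMod.IsStable (fun j => (f j).dualMap)) := by
  have hdV : Module.finrank K (Module.Dual K V) = Module.finrank K V := Subspace.dual_finrank_eq
  have hdW : Module.finrank K (Module.Dual K W) = Module.finrank K W := Subspace.dual_finrank_eq
  have hle : ∀ p q r s X : ℕ, r + q = X → s + p = X → p ≤ q → r ≤ s := by
    intro p q r s X h1 h2 h3; omega
  have hlt : ∀ p q r s X : ℕ, r + q = X → s + p = X → p < q → r < s := by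
    intro p q r s X h1 h2 h3; omega
  refine ⟨⟨fun h => ⟨?_, fun A B h1 h2 h3 => fwd f (· ≤ ·) hle h.2 A B h1 h2 h3⟩,
    fun h => ⟨?_, fun V' W' h1 h2 h3 => bwd f (· ≤ ·) hle h.2 V' W' h1 h2 h3⟩⟩,
    ⟨fun h => ⟨?_, fun A B h1 h2 h3 => fwd f (· < ·) hlt h.2 A B h1 h2 h3⟩,
    fun h => ⟨?_, fun V' W' h1 h2 h3 => bwd f (· < ·) hlt h.2 V' W' h1 h2 h3⟩⟩⟩
  · have := h.1; rw [hdV, hdW]; omega
  · have := h.1; rw [hdV, hdW] at this; omega
  · have := h.1; rw [hdV, hdW]; omega
  · have := h.1; rw [hdV, hdW] at this; omega

end Groth.Agent.S15567
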