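import Groth.Statements.S15568
import Mathlib

set_option autoImplicit false
universe u
open QuiverStab

namespace Groth.Agent.S15568

/-- Walls and chambers for stability weights of a quiver. Let I be the finite vertex set, d ∈ ℕ^I a
dimension vector, and call two weights θ₁, θ₂ ∈ ℝ^I orthogonal to d numerically equivalent when, for
every d′ ≤ d in ℕ^I, the numbers θ₁·d′ and θ₂·d′ are both positive, both negative or both zero. The
walls are the hyperplanes W(d′) = {θ ⊥ d : θ·d′ = 0} of d^⊥ for d′ ≤ d such that d is not a multiple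
of d′. Then θ₁ and θ₂ are numerically equivalent if and only if there is a set J₁ of such d′ for
which θ₁ and θ₂ lie in the same connected component of the locally closed subset of d^⊥ consisting
of the weights lying on W(d₁) for every d₁ ∈ J₁ and off W(d₂) for every other wall W(d₂). (Only the
quiver's vertex set enters; multiples are taken with natural-number factors.) -/
theorem result
    (I : Type u) [Fintype I] (d : I → ℕ) (θ₁ θ₂ : I → ℝ)
    (h₁ : ∑ i, θ₁ i * (d i : ℝ) = 0) (h₂ : ∑ i, θ₂ i * (d i : ℝ) = 0) :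
    (∀ d' : I → ℕ, d' ≤ d →
        SignType.sign (∑ i, θ₁ i * (d' i : ℝ)) = SignType.sign (∑ i, θ₂ i * (d' i : ℝ))) ↔
    ∃ J₁ : Set (I → ℕ), J₁ ⊆ {d' | d' ≤ d ∧ ¬ ∃ m : ℕ, d = m • d'} ∧
      θ₂ ∈ connectedComponentIn
        {θ : I → ℝ | ∑ i, θ i * (d i : ℝ) = 0 ∧ (∀ d₁ ∈ J₁, ∑ i, θ i * (d₁ i : ℝ) = 0) ∧
          ∀ d₂ : I → ℕ, d₂ ≤ d → (¬ ∃ m : ℕ, d = m • d₂) → d₂ ∉ J₁ →
            ∑ i, θ i * (d₂ i : ℝ) ≠ 0} θ₁ := by
  classical
  set L : (I → ℝ) → (I → ℕ) → ℝ := fun θ d' => ∑ i, θ i * (d' i : ℝ) with hL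
  have hLlin : ∀ (a b : ℝ) (θ θ' : I → ℝ) (d' : I → ℕ),
      L (a • θ + b • θ') d' = a * L θ d' + b * L θ' d' := by
    intro a b θ θ' d'
    simp only [hL, Pi.add_apply, Pi.smul_apply, smul_eq_mul, Finset.mul_sum, ← Finset.sum_add_distrib]
    apply Finset.sum_congr rfl
    intro i _
    ring
  have hLcont : ∀ d' : I → ℕ, Continuous fun θ : I → ℝ => L θ d' := by
    intro d'
    simp only [hL]
    exact continuous_finsetSum _ fun i _ => (continuous_apply i).mul continuous_const
  constructor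
  · intro hsign
    refine ⟨{d' | (d' ≤ d ∧ ¬ ∃ m : ℕ, d = m • d') ∧ L θ₁ d' = 0}, fun d' h => h.1, ?_⟩
    set J₁ : Set (I → ℕ) := {d' | (d' ≤ d ∧ ¬ ∃ m : ℕ, d = m • d') ∧ L θ₁ d' = 0} with hJ
    set S : Set (I → ℝ) := {θ : I → ℝ | ∑ i, θ i * (d i : ℝ) = 0 ∧ (∀ d₁ ∈ J₁, ∑ i, θ i * (d₁ i : ℝ) = 0) ∧
          ∀ d₂ : I → ℕ, d₂ ≤ d → (¬ ∃ m : ℕ, d = m • d₂) → d₂ ∉ J₁ →
            ∑ i, θ i * (d₂ i : ℝ) ≠ 0} with hS
    have hseg : segment ℝ θ₁ θ₂ ⊆ S := by
      rintro θ ⟨a, b, ha, hb, hab, rfl⟩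
      refine ⟨?_, ?_, ?_⟩
      · have := hLlin a b θ₁ θ₂ d
        simp only [hL] at this
        rw [this, h₁, h₂, mul_zero, mul_zero, add_zero]
      · intro d₁ hd₁
        have h0 : L θ₁ d₁ = 0 := hd₁.2
        have h0' : L θ₂ d₁ = 0 := by
          have := hsign d₁ hd₁.1.1
          change SignType.sign (L θ₁ d₁) = SignType.sign (L θ₂ d₁) at this
          rw [h0, sign_zero] at this
          exact sign_eq_zero_iff.1 this.symm
        have := hLlin a b θ₁ θ₂ d₁
        simp only [hL] at this h0 h0'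
        rw [this, h0, h0', mul_zero, mul_zero, add_zero]
      · intro d₂ hd₂ hm hnot
        have h0 : L θ₁ d₂ ≠ 0 := fun h => hnot ⟨⟨hd₂, hm⟩, h⟩
        have hs := hsign d₂ hd₂
        change SignType.sign (L θ₁ d₂) = SignType.sign (L θ₂ d₂) at hs
        have := hLlin a b θ₁ θ₂ d₂
        change L (a • θ₁ + b • θ₂) d₂ ≠ 0
        rw [this]
        rcases lt_or_gt_of_ne h0 with hneg | hpos
        · have h2 : L θ₂ d₂ < 0 := by
            rw [sign_neg hneg] at hs
            exact sign_eq_neg_one_iff.1 hs.symm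
          have : a * L θ₁ d₂ + b * L θ₂ d₂ < 0 := by
            rcases eq_or_lt_of_le ha with ha0 | hapos
            · have hb1 : b = 1 := by rw [← ha0] at hab; simpa using hab
              rw [← ha0, hb1]; simpa using h2
            · have h3 : a * L θ₁ d₂ < 0 := mul_neg_of_pos_of_neg hapos hneg
              have h4 : b * L θ₂ d₂ ≤ 0 := mul_nonpos_of_nonneg_of_nonpos hb h2.le
              linarith
          exact this.ne
        · have h2 : 0 < L θ₂ d₂ := by
            rw [sign_pos hpos] at hs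
            exact sign_eq_one_iff.1 hs.symm
          have : 0 < a * L θ₁ d₂ + b * L θ₂ d₂ := by
            rcases eq_or_lt_of_le ha with ha0 | hapos
            · have hb1 : b = 1 := by rw [← ha0] at hab; simpa using hab
              rw [← ha0, hb1]; simpa using h2
            · have h3 : 0 < a * L θ₁ d₂ := mul_pos hapos hpos
              have h4 : 0 ≤ b * L θ₂ d₂ := mul_nonneg hb h2.le
              linarith
          exact this.ne'
    have hconv : IsPreconnected (segment ℝ θ₁ θ₂) := (convex_segment θ₁ θ₂).isPreconnected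
    exact hconv.subset_connectedComponentIn (left_mem_segment ℝ θ₁ θ₂) hseg
      (right_mem_segment ℝ θ₁ θ₂)
  · rintro ⟨J₁, hJ₁, hmem⟩ d' hd'
    set S : Set (I → ℝ) := {θ : I → ℝ | ∑ i, θ i * (d i : ℝ) = 0 ∧ (∀ d₁ ∈ J₁, ∑ i, θ i * (d₁ i : ℝ) = 0) ∧
          ∀ d₂ : I → ℕ, d₂ ≤ d → (¬ ∃ m : ℕ, d = m • d₂) → d₂ ∉ J₁ →
            ∑ i, θ i * (d₂ i : ℝ) ≠ 0} with hS
    change SignType.sign (L θ₁ d') = SignType.sign (L θ₂ d')
    have hC : IsPreconnected (connectedComponentIn S θ₁) := isPreconnected_connectedComponentIn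
    have hCS : connectedComponentIn S θ₁ ⊆ S := connectedComponentIn_subset S θ₁
    have hθ₁S : θ₁ ∈ S := by
      by_contra hne
      rw [connectedComponentIn_eq_empty hne] at hmem
      exact hmem
    have hθ₁C : θ₁ ∈ connectedComponentIn S θ₁ := mem_connectedComponentIn hθ₁S
    have hθ₂S : θ₂ ∈ S := hCS hmem
    by_cases hm : ∃ m : ℕ, d = m • d'
    · obtain ⟨m, hm⟩ := hm
      have key : ∀ θ : I → ℝ, L θ d = 0 → L θ d' = 0 := by
        intro θ hθ
        rcases Nat.eq_zero_or_pos m with rfl | hmpos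
        · have hd0 : d = 0 := by rw [hm, zero_smul]
          have hd'0 : d' = 0 := by
            ext i
            have := hd' i
            rw [hd0] at this
            simpa using this
          simp [hL, hd'0]
        · have h1 : L θ d = (m : ℝ) * L θ d' := by
            simp only [hL, hm, Pi.smul_apply, smul_eq_mul, Nat.cast_mul, Finset.mul_sum]
            apply Finset.sum_congr rfl
            intro i _
            ring
          rw [h1] at hθ
          rcases mul_eq_zero.1 hθ with h | h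
          · exact absurd (Nat.cast_eq_zero.1 h) hmpos.ne'
          · exact h
      rw [key θ₁ h₁, key θ₂ h₂]
    · by_cases hJ : d' ∈ J₁
      · have e1 : L θ₁ d' = 0 := hθ₁S.2.1 d' hJ
        have e2 : L θ₂ d' = 0 := hθ₂S.2.1 d' hJ
        rw [e1, e2]
      · have hne : ∀ θ ∈ connectedComponentIn S θ₁, L θ d' ≠ 0 :=
          fun θ hθ => (hCS hθ).2.2 d' hd' hm hJ
        have hT : IsPreconnected ((fun θ : I → ℝ => L θ d') '' connectedComponentIn S θ₁) :=
          hC.image _ (hLcont d').continuousOn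
        have hOC := hT.ordConnected
        have m1 : L θ₁ d' ∈ (fun θ : I → ℝ => L θ d') '' connectedComponentIn S θ₁ := ⟨θ₁, hθ₁C, rfl⟩
        have m2 : L θ₂ d' ∈ (fun θ : I → ℝ => L θ d') '' connectedComponentIn S θ₁ := ⟨θ₂, hmem, rfl⟩
        have n1 := hne θ₁ hθ₁C
        have n2 := hne θ₂ hmem
        rcases lt_or_gt_of_ne n1 with hneg | hpos
        · rcases lt_or_gt_of_ne n2 with hneg2 | hpos2
          · rw [sign_neg hneg, sign_neg hneg2]
          · exfalso
            have := hOC.out m1 m2 (⟨hneg.le, hpos2.le⟩ : (0 : ℝ) ∈ Set.Icc (L θ₁ d') (L θ₂ d'))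
            obtain ⟨θ, hθ, h0⟩ := this
            exact hne θ hθ h0
        · rcases lt_or_gt_of_ne n2 with hneg2 | hpos2
          · exfalso
            have := hOC.out m2 m1 (⟨hneg2.le, hpos.le⟩ : (0 : ℝ) ∈ Set.Icc (L θ₂ d') (L θ₁ d'))
            obtain ⟨θ, hθ, h0⟩ := this
            exact hne θ hθ h0
          · rw [sign_pos hpos, sign_pos hpos2]

end Groth.Agent.S15568
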