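import Groth.Statements.S15572
import Mathlib
-- import your own Groth.Agent.* helpers here

set_option autoImplicit false
universe u v w
open KronMod

namespace Groth.Agent.S15572

/-- Let f be a Kronecker module with n arrows over a field K, from V of dimension n·d₀ to W of dimension
d₀ > 0. Then f is semistable if and only if the map V → Wⁿ sending v to (f_j(v))_j is bijective,
i.e. the arrows have zero common kernel. This is the characterisation dual to the one for dimension
vector (d₋₁, n·d₋₁), where the sum map Vⁿ → W is bijective. (The published statement assumes K
algebraically closed of characteristic zero and n ≥ 2; this row allows any field K and any number n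
of arrows.) -/
theorem result (K : Type u) [Field K] (V : Type v) (W : Type w)
    [AddCommGroup V] [Module K V] [FiniteDimensional K V]
    [AddCommGroup W] [Module K W] [FiniteDimensional K W]
    (n : ℕ) (f : Fin n → (V →ₗ[K] W))
    (hW : 0 < Module.finrank K W) (hV : Module.finrank K V = n * Module.finrank K W) :
    KronMod.IsSemistable f ↔ Function.Bijective (fun v : V => fun j : Fin n => f j v) := by
  let P : V →ₗ[K] (Fin n → W) := LinearMap.pi f
  have hfun : (fun v : V => fun j : Fin n => f j v) = P := by
    funext v; rfl
  rw [hfun]
  have hdim : Module.finrank K V = Module.finrank K (Fin n → W) := by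
    rw [Module.finrank_pi_fintype, hV]; simp
  haveI : Nontrivial W := Module.nontrivial_of_finrank_pos (R := K) hW
  constructor
  · intro hss
    have hinj : Function.Injective P := by
      rw [← LinearMap.ker_eq_bot]
      by_contra hne
      have hsub : KronMod.IsSubrep f (LinearMap.ker P) ⊥ := by
        rintro j _ ⟨v, hv, rfl⟩
        have : P v = 0 := hv
        have := congrFun this j
        simpa [P] using this
      have h1 := hss.2 (LinearMap.ker P) ⊥ hsub (fun h' => hne h'.1) (fun h' => bot_ne_top h'.2)
      rw [finrank_bot, mul_zero] at h1
      have := Nat.eq_zero_of_le_zero h1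
      rcases Nat.mul_eq_zero.mp this with h0 | h0
      · omega
      · exact hne (Submodule.finrank_eq_zero.mp h0)
    exact ⟨hinj, (LinearMap.injective_iff_surjective_of_finrank_eq_finrank hdim).mp hinj⟩
  · intro hbij
    refine ⟨by omega, ?_⟩
    intro V' W' hsub _ _
    let Ψ : V' →ₗ[K] (Fin n → W') :=
      LinearMap.pi fun j => (f j).restrict (fun x hx => hsub j ⟨x, hx, rfl⟩)
    have hΨ : Function.Injective Ψ := by
      intro a b hab
      apply Subtype.ext
      apply hbij.injective
      funext j
      have := congrArg Subtype.val (congrFun hab j)
      simpa [Ψ, P] using this
    have h3 := LinearMap.finrank_le_finrank_of_injective hΨ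
    rw [Module.finrank_pi_fintype] at h3
    simp only [Finset.sum_const, Finset.card_univ, Fintype.card_fin, smul_eq_mul] at h3
    calc Module.finrank K W * Module.finrank K V'
        ≤ Module.finrank K W * (n * Module.finrank K W') := Nat.mul_le_mul_left _ h3
      _ = Module.finrank K V * Module.finrank K W' := by rw [hV]; ring

end Groth.Agent.S15572
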