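import Groth.Statements.S15570
import Mathlib
import Groth.Agent.S15572
-- import your own Groth.Agent.* helpers here

set_option autoImplicit false
universe u v w
open KronMod

namespace Groth.Agent.S15570

/-- Let f be a Kronecker module with n arrows over a field K, from V of dimension n·d₀ to W of dimension
d₀ > 0. Then f is stable if and only if f is semistable and d₀ = 1: for d₀ = 1 every semistable
module is stable (the stable locus of K(n; n, 1) is the one point), while for d₀ > 1 no module is
stable. This is the case dual to dimension vector (d₋₁, n·d₋₁). (The published statement assumes K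
algebraically closed of characteristic zero and n ≥ 2; this row allows any field K and any number n
of arrows.) -/
theorem result (K : Type u) [Field K] (V : Type v) (W : Type w)
    [AddCommGroup V] [Module K V] [FiniteDimensional K V]
    [AddCommGroup W] [Module K W] [FiniteDimensional K W]
    (n : ℕ) (f : Fin n → (V →ₗ[K] W))
    (hW : 0 < Module.finrank K W) (hV : Module.finrank K V = n * Module.finrank K W) :
    KronMod.IsStable f ↔ (KronMod.IsSemistable f ∧ Module.finrank K W = 1) := by
  constructor
  · intro hst
    have hss : KronMod.IsSemistable f :=
      ⟨hst.1, fun V' W' h1 h2 h3 => (hst.2 V' W' h1 h2 h3).le⟩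
    refine ⟨hss, ?_⟩
    by_contra hne
    have h2 : 2 ≤ Module.finrank K W := by omega
    haveI : Nontrivial W := Module.nontrivial_of_finrank_pos (R := K) hW
    obtain ⟨w, hw⟩ := exists_ne (0 : W)
    obtain ⟨φ, hφ⟩ := Module.Projective.exists_dual_ne_zero K hw
    have hHtop : LinearMap.ker φ ≠ ⊤ := by
      intro h
      have : w ∈ LinearMap.ker φ := by rw [h]; trivial
      exact hφ this
    have hHlt : Module.finrank K (LinearMap.ker φ) < Module.finrank K W :=
      Submodule.finrank_lt hHtop
    have hHge : Module.finrank K W ≤ Module.finrank K (LinearMap.ker φ) + 1 := by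
      have h1 := LinearMap.finrank_range_add_finrank_ker φ
      have h3 : Module.finrank K (LinearMap.range φ) ≤ 1 := by
        have := Submodule.finrank_le (LinearMap.range φ)
        rwa [Module.finrank_self] at this
      omega
    let Q : V →ₗ[K] (Fin n → K) := LinearMap.pi fun j => φ ∘ₗ f j
    have hsub : KronMod.IsSubrep f (LinearMap.ker Q) (LinearMap.ker φ) := by
      rintro j _ ⟨v, hv, rfl⟩
      have : Q v = 0 := hv
      have := congrFun this j
      simpa [Q] using this
    have hQ : Module.finrank K V ≤ Module.finrank K (LinearMap.ker Q) + n := by
      have h1 := LinearMap.finrank_range_add_finrank_ker Q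
      have h3 : Module.finrank K (LinearMap.range Q) ≤ n := by
        have := Submodule.finrank_le (LinearMap.range Q)
        simpa using this
      omega
    have hlt := hst.2 (LinearMap.ker Q) (LinearMap.ker φ) hsub
      (fun h' => by
        have := congrArg (fun S : Submodule K W => Module.finrank K S) h'.2
        simp only [finrank_bot] at this
        omega)
      (fun h' => hHtop h'.2)
    have e1 : Module.finrank K W * Module.finrank K V ≤
        Module.finrank K W * (Module.finrank K (LinearMap.ker Q) + n) :=
      Nat.mul_le_mul_left _ hQ
    have e2 : Module.finrank K V * (Module.finrank K (LinearMap.ker φ) + 1) ≤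
        Module.finrank K V * Module.finrank K W :=
      Nat.mul_le_mul_left _ (by omega)
    rw [hV] at e1 e2 hlt
    nlinarith
  · rintro ⟨hss, h1⟩
    refine ⟨hss.1, ?_⟩
    intro V' W' hsub hnb hnt
    have hbij := (Groth.Agent.S15572.result K V W n f hW hV).mp hss
    have hW' : Module.finrank K W' ≤ 1 := h1 ▸ Submodule.finrank_le W'
    rcases Nat.le_one_iff_eq_zero_or_eq_one.mp hW' with h0 | h0
    · have hWb : W' = ⊥ := Submodule.finrank_eq_zero.mp h0
      exfalso
      apply hnb
      refine ⟨?_, hWb⟩
      rw [eq_bot_iff]
      intro v hv
      rw [Submodule.mem_bot]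
      apply hbij.injective
      funext j
      have : f j v ∈ W' := hsub j ⟨v, hv, rfl⟩
      rw [hWb, Submodule.mem_bot] at this
      simp [this]
    · have hWt : W' = ⊤ := Submodule.eq_top_of_finrank_eq (h0.trans h1.symm)
      have hVt : V' ≠ ⊤ := fun h => hnt ⟨h, hWt⟩
      have := Submodule.finrank_lt hVt
      rw [h0, h1]
      omega

end Groth.Agent.S15570
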