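import Mathlib
import Groth.Statements.S15573

set_option autoImplicit false
universe u v
open RInv

namespace Groth.Agent.S15573

section aux

variable {S : Type u} {R : Type v} [CommRing S] [CommRing R] [Algebra S R]

/-- If `r - lam r` is a unit then `(a, b) ↦ a + b r` is an `S`-linear bijection `S × S → R`. -/
theorem exists_equiv (lam : R ≃+* R) (hlam : Function.Involutive lam)
    (hS : RInv.IsFixedRing S R lam) (r : R) (hr : IsUnit (r - lam r)) :
    Function.Bijective (fun ab : S × S => algebraMap S R ab.1 + algebraMap S R ab.2 * r) := by
  obtain ⟨hinj, hfix⟩ := hS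
  obtain ⟨w, hw⟩ := hr
  set u := r - lam r with hu
  set v : R := ↑w⁻¹ with hv
  have huv : u * v = 1 := by rw [← hw]; exact w.mul_inv
  have hlamu : lam u = -u := by rw [hu, map_sub, hlam r]; ring
  have hlamv : lam v = -v := by
    have h1 : lam u * lam v = 1 := by rw [← map_mul, huv, map_one]
    rw [hlamu] at h1
    have : lam v = v * (u * lam v) := by rw [← mul_assoc, mul_comm v u, huv, one_mul]
    rw [this]
    linear_combination (-v) * h1
  have hfixS : ∀ s : S, lam (algebraMap S R s) = algebraMap S R s := fun s => (hfix _).mpr ⟨s, rfl⟩
  constructor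
  · rintro ⟨a, b⟩ ⟨a', b'⟩ h
    simp only at h
    have h' := congrArg lam h
    simp only [map_add, map_mul, hfixS] at h'
    have hb : (algebraMap S R b - algebraMap S R b') * u = 0 := by
      rw [hu]; linear_combination h - h'
    have hb' : algebraMap S R b = algebraMap S R b' := by
      have := congrArg (· * v) hb
      simp only [mul_assoc, huv, mul_one, zero_mul] at this
      exact sub_eq_zero.mp this
    have ha' : algebraMap S R a = algebraMap S R a' := by
      rw [hb'] at h
      exact add_right_cancel h
    rw [hinj hb', hinj ha']
  · intro x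
    have h1 : lam ((x - lam x) * v) = (x - lam x) * v := by
      rw [map_mul, map_sub, hlam x, hlamv]; ring
    obtain ⟨b, hb⟩ := (hfix _).mp h1
    have h2 : lam (x - (x - lam x) * v * r) = x - (x - lam x) * v * r := by
      rw [map_sub, map_mul, h1]
      have : (x - lam x) * v * (r - lam r) = x - lam x := by
        rw [← hu, mul_assoc, mul_comm v u, huv, mul_one]
      linear_combination this
    obtain ⟨a, ha⟩ := (hfix _).mp h2
    refine ⟨(a, b), ?_⟩
    simp only
    rw [ha, hb]
    ring

end aux

/-- Let `R` be a commutative ring with an involution `lam` and let `S` be its fixed ring. If there is an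
element `r` of `R` such that `r - lam r` is a unit, then `R` is a quadratic etale `S`-algebra. -/
theorem result (S : Type u) (R : Type v) [CommRing S] [CommRing R]
    [Algebra S R] (lam : R ≃+* R) (hlam : Function.Involutive lam) (hS : RInv.IsFixedRing S R lam)
    (h : ∃ r : R, IsUnit (r - lam r)) : RInv.IsQuadEtale S R := by
  obtain ⟨r, hr⟩ := h
  have hbij := exists_equiv lam hlam hS r hr
  let Φ : (S × S) →ₗ[S] R :=
    { toFun := fun ab => algebraMap S R ab.1 + algebraMap S R ab.2 * r
      map_add' := by intro x y; simp only [Prod.fst_add, Prod.snd_add, map_add]; ring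
      map_smul' := by
        intro c x
        simp only [Prod.smul_fst, Prod.smul_snd, smul_eq_mul, map_mul, RingHom.id_apply]
        rw [Algebra.smul_def]
        ring }
  let e : (S × S) ≃ₗ[S] R := LinearEquiv.ofBijective Φ hbij
  have hfree : Module.Free S R := Module.Free.of_equiv e
  have hfin : Module.Finite S R := Module.Finite.equiv e
  refine ⟨hfin, inferInstance, ?_, ?_⟩
  · constructor
    obtain ⟨hinj, hfix⟩ := hS
    -- the relation r^2 = t r - n
    obtain ⟨t, ht⟩ := (hfix (r + lam r)).mp (by rw [map_add, hlam r, add_comm])
    obtain ⟨n, hn⟩ := (hfix (r * lam r)).mp (by rw [map_mul, hlam r, mul_comm])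
    have hrel : r * r = algebraMap S R t * r - algebraMap S R n := by rw [ht, hn]; ring
    have hDr : KaehlerDifferential.D S R r = 0 := by
      have h1 := congrArg (KaehlerDifferential.D S R) hrel
      rw [Derivation.leibniz, map_sub, Derivation.leibniz, Derivation.map_algebraMap,
        Derivation.map_algebraMap, smul_zero, add_zero, sub_zero] at h1
      have h2 : (r - lam r) • KaehlerDifferential.D S R r = 0 := by
        have : r - lam r = r + r - algebraMap S R t := by rw [ht]; ring
        rw [this, sub_smul, add_smul, h1, sub_self]
      obtain ⟨w, hw⟩ := hr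
      rw [← hw] at h2
      have := congrArg (fun z => (↑w⁻¹ : R) • z) h2
      simpa [smul_smul] using this
    have hall : ∀ x, KaehlerDifferential.D S R x = 0 := by
      intro x
      obtain ⟨⟨a, b⟩, rfl⟩ := hbij.2 x
      simp only
      rw [map_add, Derivation.leibniz, Derivation.map_algebraMap, Derivation.map_algebraMap, hDr,
        smul_zero, smul_zero, add_zero, add_zero]
    have htop : (⊤ : Submodule R (Ω[R⁄S])) = ⊥ := by
      rw [← KaehlerDifferential.span_range_derivation, Submodule.span_eq_bot]
      rintro _ ⟨x, rfl⟩
      exact hall x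
    refine ⟨fun a b => ?_⟩
    have ha : a ∈ (⊤ : Submodule R (Ω[R⁄S])) := trivial
    have hb : b ∈ (⊤ : Submodule R (Ω[R⁄S])) := trivial
    rw [htop, Submodule.mem_bot] at ha hb
    rw [ha, hb]
  · intro p
    haveI : Nontrivial S := p.nontrivial
    rw [Module.rankAtStalk_eq_finrank_of_free]
    have : Module.finrank S R = 2 := by
      rw [← e.finrank_eq, Module.finrank_prod, Module.finrank_self]
    simp [this]

end Groth.Agent.S15573
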