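import Mathlib
import Groth.Statements.S15576
import Groth.Agent.S15573

set_option autoImplicit false
universe u v
open RInv

namespace Groth.Agent.S15576

/-- An anti-invariant element outside the Jacobson radical is a unit when the fixed ring is local. -/
theorem isUnit_of_notMem_jacobson {S : Type u} {R : Type v} [CommRing S] [CommRing R]
    [Algebra S R] [IsLocalRing S] (lam : R ≃+* R) (hlam : Function.Involutive lam)
    (hS : RInv.IsFixedRing S R lam) (w : R) (hw : lam w = -w) (hnj : w ∉ Ring.jacobson R) :
    IsUnit w := by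
  obtain ⟨hinj, hfix⟩ := hS
  have hnorm : ∀ x : R, ∃ s : S, algebraMap S R s = x * lam x := fun x =>
    (hfix _).mp (by rw [map_mul, hlam x, mul_comm])
  have htrace : ∀ x : R, ∃ s : S, algebraMap S R s = x + lam x := fun x =>
    (hfix _).mp (by rw [map_add, hlam x, add_comm])
  have hproper : ∀ I : Ideal R, I ≠ ⊤ → ∀ s : S, algebraMap S R s ∈ I →
      s ∈ IsLocalRing.maximalIdeal S := by
    intro I hI s hs
    by_contra h
    have := (IsLocalRing.notMem_maximalIdeal.mp h).map (algebraMap S R)
    exact hI (Ideal.eq_top_of_isUnit_mem _ hs this)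
  have hmax : ∀ M : Ideal R, M.IsMaximal → ∀ s ∈ IsLocalRing.maximalIdeal S,
      algebraMap S R s ∈ M := by
    intro M hM s hs
    by_contra hsM
    obtain ⟨y, i, hi, hyi⟩ := hM.exists_inv hsM
    obtain ⟨n, hn⟩ := hnorm i
    obtain ⟨t, ht⟩ := htrace y
    obtain ⟨q, hq⟩ := hnorm y
    have hfs : lam (algebraMap S R s) = algebraMap S R s := (hfix _).mpr ⟨s, rfl⟩
    have hi' : i = 1 - y * algebraMap S R s := by rw [← hyi]; ring
    have hn' : n = 1 - s * (t - s * q) := by
      apply hinj
      rw [hn, map_sub, map_one, map_mul, map_sub, map_mul, ht, hq, hi', map_sub, map_one, map_mul,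
        hfs]
      ring
    have hnM : algebraMap S R n ∈ M := by rw [hn]; exact M.mul_mem_right _ hi
    have hnm := hproper M hM.ne_top n hnM
    have h1 : (1 : S) ∈ IsLocalRing.maximalIdeal S := by
      have : (1 : S) = n + s * (t - s * q) := by rw [hn']; ring
      rw [this]
      exact Ideal.add_mem _ hnm (Ideal.mul_mem_right _ _ hs)
    exact (Ideal.ne_top_iff_one _).mp (IsLocalRing.maximalIdeal.isMaximal S).ne_top h1
  rw [Ring.jacobson_eq_sInf_isMaximal, Ideal.mem_sInf] at hnj
  push Not at hnj
  obtain ⟨M, hM, hwM⟩ := hnj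
  have hM : M.IsMaximal := hM
  by_contra hnu
  obtain ⟨M', hM', hle⟩ := Ideal.exists_le_maximal (Ideal.span {w})
    (by rwa [Ne, Ideal.span_singleton_eq_top])
  have hwM' : w ∈ M' := hle (Ideal.mem_span_singleton_self w)
  set lM := M.comap (lam : R →+* R) with hlM
  haveI : lM.IsPrime := Ideal.comap_isPrime _ _
  have hwlM : w ∉ lM := by
    intro h
    rw [hlM, Ideal.mem_comap] at h
    change lam w ∈ M at h
    rw [hw] at h
    exact hwM (by simpa using M.neg_mem h)
  have hnot : ¬ ((M' : Set R) ⊆ (M : Set R) ∪ (lM : Set R)) := by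
    rw [Ideal.subset_union]
    rintro (h | h)
    · exact hwM (h hwM')
    · exact hwlM (h hwM')
  rw [Set.not_subset] at hnot
  obtain ⟨x, hxM', hx⟩ := hnot
  rw [Set.mem_union, not_or] at hx
  obtain ⟨hxM, hxlM⟩ := hx
  obtain ⟨s, hs⟩ := hnorm x
  have hsM' : algebraMap S R s ∈ M' := by rw [hs]; exact M'.mul_mem_right _ hxM'
  have hsm := hproper M' hM'.ne_top s hsM'
  have hsM := hmax M hM s hsm
  rw [hs] at hsM
  rcases hM.isPrime.mem_or_mem hsM with h | h
  · exact hxM h
  · exact hxlM h

/-- Let `R` be a commutative ring with an involution `lam` whose fixed ring `S` is local. If the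
automorphism induced by `lam` on `R` modulo its Jacobson radical is not the identity, then `R` is a
quadratic etale `S`-algebra. -/
theorem result (S : Type u) (R : Type v) [CommRing S] [CommRing R]
    [Algebra S R] (lam : R ≃+* R) (hlam : Function.Involutive lam) (hS : RInv.IsFixedRing S R lam)
    [IsLocalRing S] (h : ∃ r : R, lam r - r ∉ Ring.jacobson R) : RInv.IsQuadEtale S R := by
  obtain ⟨r, hr⟩ := h
  have hw : lam (lam r - r) = -(lam r - r) := by rw [map_sub, hlam r]; ring
  have hu := isUnit_of_notMem_jacobson lam hlam hS (lam r - r) hw hr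
  refine Groth.Agent.S15573.result S R lam hlam hS ⟨r, ?_⟩
  have : r - lam r = -(lam r - r) := by ring
  rw [this]
  exact hu.neg

end Groth.Agent.S15576
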