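import Mathlib
import Groth.Statements.S15577

set_option autoImplicit false
universe u v
open RInv

namespace Groth.Agent.S15577

section aux

variable {S : Type u} {R : Type v} [CommRing S] [CommRing R] [Algebra S R]

/-- elements of `S` lying in a proper ideal of `R` are in the maximal ideal of `S`. -/
theorem mem_maximalIdeal_of_mem_proper [IsLocalRing S] (I : Ideal R) (hI : I ≠ ⊤) (s : S)
    (hs : algebraMap S R s ∈ I) : s ∈ IsLocalRing.maximalIdeal S := by
  by_contra h
  have := (IsLocalRing.notMem_maximalIdeal.mp h).map (algebraMap S R)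
  exact hI (Ideal.eq_top_of_isUnit_mem _ hs this)

/-- the maximal ideal of the fixed ring maps into every maximal ideal of `R`. -/
theorem algebraMap_mem_of_isMaximal [IsLocalRing S] (lam : R ≃+* R)
    (hlam : Function.Involutive lam) (hS : RInv.IsFixedRing S R lam)
    (M : Ideal R) (hM : M.IsMaximal) (s : S) (hs : s ∈ IsLocalRing.maximalIdeal S) :
    algebraMap S R s ∈ M := by
  obtain ⟨hinj, hfix⟩ := hS
  have hnorm : ∀ x : R, ∃ s : S, algebraMap S R s = x * lam x := fun x =>
    (hfix _).mp (by rw [map_mul, hlam x, mul_comm])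
  have htrace : ∀ x : R, ∃ s : S, algebraMap S R s = x + lam x := fun x =>
    (hfix _).mp (by rw [map_add, hlam x, add_comm])
  by_contra hsM
  obtain ⟨y, i, hi, hyi⟩ := hM.exists_inv hsM
  obtain ⟨n, hn⟩ := hnorm i
  obtain ⟨t, ht⟩ := htrace y
  obtain ⟨q, hq⟩ := hnorm y
  have hfs : lam (algebraMap S R s) = algebraMap S R s := (hfix _).mpr ⟨s, rfl⟩
  have hi' : i = 1 - y * algebraMap S R s := by rw [← hyi]; ring
  have hn' : n = 1 - s * (t - s * q) := by
    apply hinj
    rw [hn, map_sub, map_one, map_mul, map_sub, map_mul, ht, hq, hi', map_sub, map_one, map_mul,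
      hfs]
    ring
  have hnM : algebraMap S R n ∈ M := by rw [hn]; exact M.mul_mem_right _ hi
  have hnm := mem_maximalIdeal_of_mem_proper M hM.ne_top n hnM
  have h1 : (1 : S) ∈ IsLocalRing.maximalIdeal S := by
    have : (1 : S) = n + s * (t - s * q) := by rw [hn']; ring
    rw [this]
    exact Ideal.add_mem _ hnm (Ideal.mul_mem_right _ _ hs)
  exact (Ideal.ne_top_iff_one _).mp (IsLocalRing.maximalIdeal.isMaximal S).ne_top h1

/-- If `lam` is the identity modulo the Jacobson radical, `R` is local. -/
theorem isLocalRing_of_forall_mem_jacobson [IsLocalRing S] (lam : R ≃+* R)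
    (hlam : Function.Involutive lam) (hS : RInv.IsFixedRing S R lam)
    (h : ∀ r : R, lam r - r ∈ Ring.jacobson R) : IsLocalRing R := by
  haveI : Nontrivial R := hS.1.nontrivial
  have hnorm : ∀ x : R, ∃ s : S, algebraMap S R s = x * lam x := fun x =>
    (hS.2 _).mp (by rw [map_mul, hlam x, mul_comm])
  have hjM : ∀ M : Ideal R, M.IsMaximal → ∀ r, lam r - r ∈ M := by
    intro M hM r
    have := h r
    rw [Ring.jacobson_eq_sInf_isMaximal, Ideal.mem_sInf] at this
    exact this hM
  have key : ∀ M M' : Ideal R, M.IsMaximal → M'.IsMaximal → M' ≤ M := by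
    intro M M' hM hM' x hxM'
    obtain ⟨s, hs⟩ := hnorm x
    have hsM' : algebraMap S R s ∈ M' := by rw [hs]; exact M'.mul_mem_right _ hxM'
    have hsm := mem_maximalIdeal_of_mem_proper M' hM'.ne_top s hsM'
    have hsM := algebraMap_mem_of_isMaximal lam hlam hS M hM s hsm
    rw [hs] at hsM
    rcases hM.isPrime.mem_or_mem hsM with h1 | h1
    · exact h1
    · have : x = lam x - (lam x - x) := by ring
      rw [this]
      exact M.sub_mem h1 (hjM M hM x)
  obtain ⟨M, hM⟩ := Ideal.exists_maximal R
  refine IsLocalRing.of_unique_max_ideal ⟨M, hM, fun M' hM' => ?_⟩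
  exact hM'.eq_of_le hM.ne_top (key M M' hM hM')

/-- If `R` is formally unramified and finite over `S` and `lam` is the identity modulo the Jacobson
radical, then `lam` is the identity. -/
theorem lam_eq_id_of_forall_mem_jacobson (lam : R ≃+* R)
    (hS : RInv.IsFixedRing S R lam) [Module.Finite S R] [Algebra.FormallyUnramified S R]
    (h : ∀ r : R, lam r - r ∈ Ring.jacobson R) : ∀ r : R, lam r = r := by
  obtain ⟨t, ht, ht1⟩ := (Algebra.FormallyUnramified.iff_exists_tensorProduct (R := S) (S := R)).mp
    inferInstance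
  let lamA : R →ₐ[S] R :=
    { (lam : R →+* R) with
      commutes' := fun s => (hS.2 _).mpr ⟨s, rfl⟩ }
  let φ : TensorProduct S R R →ₐ[S] R :=
    Algebra.TensorProduct.lift (AlgHom.id S R) lamA (fun _ _ => Commute.all _ _)
  have hφ : ∀ x y : R, φ (x ⊗ₜ[S] y) = x * lam y := fun x y => by
    simp [φ, lamA]
  have hdiff : ∀ z : TensorProduct S R R, φ z - Algebra.TensorProduct.lmul' S z ∈ Ring.jacobson R := by
    intro z
    induction z using TensorProduct.induction_on with
    | zero => simp
    | tmul x y =>
      rw [hφ, Algebra.TensorProduct.lmul'_apply_tmul]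
      have : x * lam y - x * y = x * (lam y - y) := by ring
      rw [this]
      exact Ideal.mul_mem_left _ _ (h y)
    | add z w hz hw =>
      have : φ (z + w) - Algebra.TensorProduct.lmul' S (z + w) =
          (φ z - Algebra.TensorProduct.lmul' S z) + (φ w - Algebra.TensorProduct.lmul' S w) := by
        rw [map_add, map_add]; ring
      rw [this]
      exact Ideal.add_mem _ hz hw
  have hunit : IsUnit (φ t) := by
    have h1 := hdiff t
    rw [ht1, ← Ideal.jacobson_bot, Ideal.mem_jacobson_bot] at h1
    have := h1 1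
    simpa using this
  intro r
  have h2 := congrArg φ (ht r)
  rw [map_mul, map_sub, hφ, hφ, map_zero, one_mul, map_one, mul_one] at h2
  have := hunit.mul_left_eq_zero.mp h2
  exact sub_eq_zero.mp this

end aux

/-- Let `R` be a commutative ring with an involution `lam` whose fixed ring `S` is local. If `lam`
induces the identity on `R` modulo its Jacobson radical, then `R` is a local ring and is not a
quadratic etale `S`-algebra. -/
theorem result (S : Type u) (R : Type v) [CommRing S] [CommRing R]
    [Algebra S R] (lam : R ≃+* R) (hlam : Function.Involutive lam) (hS : RInv.IsFixedRing S R lam)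
    [IsLocalRing S] (h : ∀ r : R, lam r - r ∈ Ring.jacobson R) :
    IsLocalRing R ∧ ¬ RInv.IsQuadEtale S R := by
  refine ⟨isLocalRing_of_forall_mem_jacobson lam hlam hS h, ?_⟩
  rintro ⟨hfin, hproj, hunr, hrank⟩
  have hid := lam_eq_id_of_forall_mem_jacobson lam hS h
  have hsurj : Function.Surjective (algebraMap S R) := fun r => (hS.2 r).mp (hid r)
  let e : S ≃ₗ[S] R := LinearEquiv.ofBijective (Algebra.linearMap S R) ⟨hS.1, hsurj⟩
  have h1 := hrank (IsLocalRing.closedPoint S)
  rw [← Module.rankAtStalk_eq_of_equiv e, Module.rankAtStalk_self] at h1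
  simp at h1

end Groth.Agent.S15577
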