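import Mathlib
import Groth.Statements.S15574
import Groth.Agent.S15576
import Groth.Agent.S15577

set_option autoImplicit false
universe u v
open RInv

namespace Groth.Agent.S15574

/-- Let `R` be a commutative ring with an involution `lam` whose fixed ring `S` is local, and suppose
`R` is a quadratic etale `S`-algebra. Then some `r` in `R` has `r - lam r` invertible. -/
theorem result (S : Type u) (R : Type v) [CommRing S] [CommRing R]
    [Algebra S R] (lam : R ≃+* R) (hlam : Function.Involutive lam) (hS : RInv.IsFixedRing S R lam)
    [IsLocalRing S] (hq : RInv.IsQuadEtale S R) : ∃ r : R, IsUnit (r - lam r) := by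
  by_contra hcon
  push Not at hcon
  have hall : ∀ r : R, lam r - r ∈ Ring.jacobson R := by
    intro r
    by_contra hr
    have hw : lam (lam r - r) = -(lam r - r) := by rw [map_sub, hlam r]; ring
    have hu := Groth.Agent.S15576.isUnit_of_notMem_jacobson lam hlam hS (lam r - r) hw hr
    apply hcon r
    have : r - lam r = -(lam r - r) := by ring
    rw [this]
    exact hu.neg
  exact (Groth.Agent.S15577.result S R lam hlam hS hall).2 hq

end Groth.Agent.S15574
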