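import Mathlib
import Groth.Statements.S15586

set_option autoImplicit false
universe u v w
open scoped TensorProduct
open RInv

namespace Groth.Agent.S15586

section aux

variable {S : Type u} {R : Type v} {S' : Type w}
    [CommRing S] [CommRing R] [Algebra S R] [CommRing S'] [Algebra S S']

lemma congr_apply_eq_lTensor (lam : R ≃ₐ[S] R) (z : S' ⊗[S] R) :
    (Algebra.TensorProduct.congr (AlgEquiv.refl : S' ≃ₐ[S] S') lam).toRingEquiv z =
      LinearMap.lTensor S' lam.toLinearMap z := by
  induction z using TensorProduct.induction_on with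
  | zero => simp
  | tmul x y => simp
  | add x y hx hy => simp only [map_add, hx, hy]

lemma algebraMap_eq (s' : S') : algebraMap S' (S' ⊗[S] R) s' = s' ⊗ₜ[S] (1 : R) := rfl

lemma algebraMap_eq_lTensor (s' : S') : algebraMap S' (S' ⊗[S] R) s' =
    LinearMap.lTensor S' (Algebra.linearMap S R) ((TensorProduct.rid S S').symm s') := by
  simp [algebraMap_eq]

/-- flat case -/
theorem flat_case (lam : R ≃ₐ[S] R) (hS : RInv.IsFixedRing S R lam.toRingEquiv)
    [Module.Flat S S'] :
    RInv.IsFixedRing S' (S' ⊗[S] R)
      (Algebra.TensorProduct.congr (AlgEquiv.refl : S' ≃ₐ[S] S') lam).toRingEquiv := by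
  obtain ⟨hinj, hfix⟩ := hS
  set ι : S →ₗ[S] R := Algebra.linearMap S R with hι
  set δ : R →ₗ[S] R := lam.toLinearMap - LinearMap.id with hδ
  have hex : Function.Exact ι δ := by
    intro x
    rw [hδ, LinearMap.sub_apply, LinearMap.id_apply, sub_eq_zero]
    exact hfix x
  have hex' := Module.Flat.lTensor_exact S' hex
  have hinj' : Function.Injective (LinearMap.lTensor S' ι) :=
    Module.Flat.lTensor_preserves_injective_linearMap ι hinj
  constructor
  · intro a b hab
    rw [algebraMap_eq_lTensor, algebraMap_eq_lTensor] at hab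
    exact (TensorProduct.rid S S').symm.injective (hinj' hab)
  · intro z
    rw [congr_apply_eq_lTensor]
    have h1 : LinearMap.lTensor S' lam.toLinearMap z = z ↔ LinearMap.lTensor S' δ z = 0 := by
      rw [hδ, LinearMap.lTensor_sub, LinearMap.sub_apply, LinearMap.lTensor_id, LinearMap.id_apply,
        sub_eq_zero]
    rw [h1, hex' z]
    constructor
    · rintro ⟨y, rfl⟩
      refine ⟨TensorProduct.rid S S' y, ?_⟩
      rw [algebraMap_eq_lTensor, LinearEquiv.symm_apply_apply]
    · rintro ⟨s', rfl⟩
      exact ⟨_, (algebraMap_eq_lTensor s').symm⟩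

/-- case where 2 is invertible -/
theorem two_case (lam : R ≃ₐ[S] R) (hlam : Function.Involutive lam)
    (hS : RInv.IsFixedRing S R lam.toRingEquiv) (h2 : IsUnit (2 : S)) :
    RInv.IsFixedRing S' (S' ⊗[S] R)
      (Algebra.TensorProduct.congr (AlgEquiv.refl : S' ≃ₐ[S] S') lam).toRingEquiv := by
  obtain ⟨hinj, hfix⟩ := hS
  obtain ⟨two, htwo⟩ := h2
  set h : S := ↑two⁻¹ with hh
  have hhalf : (2 : S) * h = 1 := by rw [← htwo]; exact two.mul_inv
  set ι : S →ₗ[S] R := Algebra.linearMap S R with hι
  -- the averaging projector
  set π : R →ₗ[S] R := h • (LinearMap.id + lam.toLinearMap) with hπ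
  have hπfix : ∀ x, ∃ s : S, algebraMap S R s = π x := by
    intro x
    apply (hfix _).mp
    change lam (π x) = π x
    simp only [hπ, LinearMap.smul_apply, LinearMap.add_apply, LinearMap.id_apply,
      AlgEquiv.toLinearMap_apply, map_smul, map_add, hlam x]
    rw [add_comm]
  choose p hp using hπfix
  have hpι : ∀ s : S, p (algebraMap S R s) = s := by
    intro s
    apply hinj
    rw [hp]
    simp only [hπ, LinearMap.smul_apply, LinearMap.add_apply, LinearMap.id_apply,
      AlgEquiv.toLinearMap_apply, AlgEquiv.commutes]
    rw [← two_smul S (algebraMap S R s), smul_smul, mul_comm, hhalf, one_smul]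
  let pl : R →ₗ[S] S :=
    { toFun := p
      map_add' := fun x y => by
        apply hinj
        rw [map_add, hp, hp, hp, map_add]
      map_smul' := fun c x => by
        apply hinj
        rw [RingHom.id_apply, smul_eq_mul, map_mul, hp, hp, map_smul, Algebra.smul_def] }
  have hιp : ∀ x, ι (pl x) = π x := hp
  -- left inverse of `algebraMap S' (S' ⊗ R)`
  let L : S' ⊗[S] R →ₗ[S] S' := (TensorProduct.rid S S').toLinearMap ∘ₗ LinearMap.lTensor S' pl
  have hL : ∀ s' : S', L (algebraMap S' (S' ⊗[S] R) s') = s' := by
    intro s'
    have h1 : pl 1 = 1 := by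
      have := hpι 1
      rwa [map_one] at this
    simp [L, algebraMap_eq, h1]
  constructor
  · intro a b hab
    rw [← hL a, ← hL b, hab]
  · intro z
    rw [congr_apply_eq_lTensor]
    constructor
    · intro hz
      -- z = Π z
      have h1 : LinearMap.lTensor S' π z = z := by
        rw [hπ, LinearMap.lTensor_smul, LinearMap.lTensor_add, LinearMap.lTensor_id,
          LinearMap.smul_apply, LinearMap.add_apply, LinearMap.id_apply, hz, ← two_smul S z,
          smul_smul, mul_comm, hhalf, one_smul]
      rw [← h1]
      -- Π z is in the range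
      have hrange : ∀ w : S' ⊗[S] R, LinearMap.lTensor S' π w ∈
          Set.range (algebraMap S' (S' ⊗[S] R)) := by
        intro w
        induction w using TensorProduct.induction_on with
        | zero => exact ⟨0, by simp⟩
        | tmul x y =>
          refine ⟨pl y • x, ?_⟩
          rw [LinearMap.lTensor_tmul, ← hιp, algebraMap_eq, hι, Algebra.linearMap_apply,
            Algebra.algebraMap_eq_smul_one, TensorProduct.smul_tmul]
        | add x y hx hy =>
          obtain ⟨a, ha⟩ := hx
          obtain ⟨b, hb⟩ := hy
          exact ⟨a + b, by rw [map_add, map_add, ha, hb]⟩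
      exact hrange z
    · rintro ⟨s', rfl⟩
      rw [algebraMap_eq, LinearMap.lTensor_tmul]
      simp

end aux

/-- Let `R` be a commutative ring with an involution `lam` and fixed ring `S`, and let `S'` be a
commutative `S`-algebra. If `S'` is flat over `S`, or if `2` is invertible in `S`, then `S'` is the
fixed ring of the base-changed involution `id ⊗ lam` of `S' ⊗_S R`: the structure map `S' → S' ⊗_S
R` is injective with image the fixed elements. (In general the fixed ring does not commute with base
change.) -/
theorem result (S : Type u) (R : Type v) (S' : Type w)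
    [CommRing S] [CommRing R] [Algebra S R] [CommRing S'] [Algebra S S']
    (lam : R ≃ₐ[S] R) (hlam : Function.Involutive lam)
    (hS : RInv.IsFixedRing S R lam.toRingEquiv)
    (h : Module.Flat S S' ∨ IsUnit (2 : S)) :
    RInv.IsFixedRing S' (S' ⊗[S] R)
      (Algebra.TensorProduct.congr (AlgEquiv.refl : S' ≃ₐ[S] S') lam).toRingEquiv := by
  rcases h with h | h
  · exact flat_case lam hS
  · exact two_case lam hlam hS h

end Groth.Agent.S15586
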