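import Groth.Statements.S15587
import Groth.Agent.S15576
import Groth.Agent.S15577
import Groth.Agent.S15586

set_option autoImplicit false
universe u v
open scoped TensorProduct
open RInv

namespace Groth.Agent.S15587

open TensorProduct

section aux

variable {S : Type u} {R : Type v} [CommRing S] [CommRing R] [Algebra S R]

theorem isIntegral_of_fixed (lam : R ≃+* R) (hlam : Function.Involutive lam)
    (hS : RInv.IsFixedRing S R lam) : Algebra.IsIntegral S R := by
  constructor
  intro r
  obtain ⟨t, ht⟩ := (hS.2 (r + lam r)).1 (by rw [map_add, hlam r, add_comm])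
  obtain ⟨n, hn⟩ := (hS.2 (r * lam r)).1 (by rw [map_mul, hlam r, mul_comm])
  refine ⟨Polynomial.X ^ 2 + (Polynomial.C (-t) * Polynomial.X + Polynomial.C n), ?_, ?_⟩
  · apply Polynomial.monic_X_pow_add
    exact lt_of_le_of_lt (Polynomial.degree_linear_le) (by norm_num)
  · simp only [Polynomial.eval₂_add, Polynomial.eval₂_pow, Polynomial.eval₂_X, Polynomial.eval₂_mul,
      Polynomial.eval₂_C]
    rw [map_neg, ht, hn]
    ring

/-- the `S`-algebra automorphism underlying `lam`. -/
noncomputable def lamA (lam : R ≃+* R) (hS : RInv.IsFixedRing S R lam) : R ≃ₐ[S] R :=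
  AlgEquiv.ofRingEquiv (f := lam) (fun s => (hS.2 _).2 ⟨s, rfl⟩)

theorem lamA_toRingEquiv (lam : R ≃+* R) (hS : RInv.IsFixedRing S R lam) :
    (lamA lam hS).toRingEquiv = lam := rfl

theorem lamA_apply (lam : R ≃+* R) (hS : RInv.IsFixedRing S R lam) (r : R) :
    lamA lam hS r = lam r := rfl

variable (S' : Type u) [CommRing S'] [Algebra S S']

/-- base-changed involution -/
noncomputable def lamP (lam : R ≃+* R) (hS : RInv.IsFixedRing S R lam) : (S' ⊗[S] R) ≃+* (S' ⊗[S] R) :=
  (Algebra.TensorProduct.congr (AlgEquiv.refl : S' ≃ₐ[S] S') (lamA lam hS)).toRingEquiv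

theorem lamP_tmul (lam : R ≃+* R) (hS : RInv.IsFixedRing S R lam) (s : S') (r : R) :
    lamP S' lam hS (s ⊗ₜ[S] r) = s ⊗ₜ[S] lam r := by
  simp [lamP, lamA_apply]

theorem lamP_involutive (lam : R ≃+* R) (hlam : Function.Involutive lam)
    (hS : RInv.IsFixedRing S R lam) : Function.Involutive (lamP S' lam hS) := by
  intro z
  induction z using TensorProduct.induction_on with
  | zero => simp
  | tmul s r => rw [lamP_tmul, lamP_tmul, hlam r]
  | add a b ha hb => rw [map_add, map_add, ha, hb]

theorem isFixedRing_lamP (lam : R ≃+* R) (hlam : Function.Involutive lam)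
    (hS : RInv.IsFixedRing S R lam) [Module.Flat S S'] :
    RInv.IsFixedRing S' (S' ⊗[S] R) (lamP S' lam hS) :=
  Groth.Agent.S15586.result S R S' (lamA lam hS) hlam hS (Or.inl inferInstance)

section main

variable (lam : R ≃+* R) (hlam : Function.Involutive lam) (hS : RInv.IsFixedRing S R lam)
  (p : PrimeSpectrum S)

include hlam in
theorem not_qe_iff :
    ¬ RInv.IsQuadEtale (Localization.AtPrime p.asIdeal) (Localization.AtPrime p.asIdeal ⊗[S] R) ↔
      ∀ z : Localization.AtPrime p.asIdeal ⊗[S] R,
        lamP (Localization.AtPrime p.asIdeal) lam hS z - z ∈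
          Ring.jacobson (Localization.AtPrime p.asIdeal ⊗[S] R) := by
  have hfix := isFixedRing_lamP (Localization.AtPrime p.asIdeal) lam hlam hS
  have hinv := lamP_involutive (Localization.AtPrime p.asIdeal) lam hlam hS
  constructor
  · intro hnq z
    by_contra hz
    exact hnq (Groth.Agent.S15576.result _ _ _ hinv hfix ⟨z, hz⟩)
  · intro h
    exact (Groth.Agent.S15577.result _ _ _ hinv hfix h).2

/-- the map `R → S_p ⊗ R`. -/
noncomputable def iota : R →+* (Localization.AtPrime p.asIdeal ⊗[S] R) :=
  (Algebra.TensorProduct.includeRight : R →ₐ[S] Localization.AtPrime p.asIdeal ⊗[S] R).toRingHom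

theorem iota_apply (r : R) : iota p r = (1 : Localization.AtPrime p.asIdeal) ⊗ₜ[S] r := rfl

theorem comap_comap_iota (Q : Ideal (Localization.AtPrime p.asIdeal ⊗[S] R)) :
    (Q.comap (iota (R := R) p)).comap (algebraMap S R) =
      (Q.comap (algebraMap (Localization.AtPrime p.asIdeal)
        (Localization.AtPrime p.asIdeal ⊗[S] R))).comap
        (algebraMap S (Localization.AtPrime p.asIdeal)) := by
  rw [Ideal.comap_comap, Ideal.comap_comap]
  congr 1
  ext s
  simp only [RingHom.comp_apply, iota_apply]
  rw [Algebra.TensorProduct.algebraMap_apply, Algebra.algebraMap_self, RingHom.id_apply,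
    Algebra.algebraMap_eq_smul_one, Algebra.algebraMap_eq_smul_one, TensorProduct.smul_tmul]

include hlam hS in
theorem comap_of_isMaximal (M : Ideal (Localization.AtPrime p.asIdeal ⊗[S] R)) (hM : M.IsMaximal) :
    (M.comap (iota (R := R) p)).comap (algebraMap S R) = p.asIdeal := by
  have hint : Algebra.IsIntegral S R := isIntegral_of_fixed lam hlam hS
  have h1 := Ideal.isMaximal_comap_of_isIntegral_of_isMaximal (R := Localization.AtPrime p.asIdeal) M
  rw [comap_comap_iota, IsLocalRing.eq_maximalIdeal h1]
  exact Localization.AtPrime.under_maximalIdeal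

theorem lamP_sub_mem (M : Ideal (Localization.AtPrime p.asIdeal ⊗[S] R))
    (h : ∀ r : R, lam r - r ∈ M.comap (iota (R := R) p))
    (z : Localization.AtPrime p.asIdeal ⊗[S] R) :
    lamP (Localization.AtPrime p.asIdeal) lam hS z - z ∈ M := by
  induction z using TensorProduct.induction_on with
  | zero => simp
  | tmul s r =>
    rw [lamP_tmul, ← TensorProduct.tmul_sub]
    have h1 : s ⊗ₜ[S] (lam r - r) = (s ⊗ₜ[S] (1 : R)) * iota p (lam r - r) := by
      rw [iota_apply, Algebra.TensorProduct.tmul_mul_tmul, mul_one, one_mul]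
    rw [h1]
    exact M.mul_mem_left _ (h r)
  | add a b ha hb =>
    have : lamP (Localization.AtPrime p.asIdeal) lam hS (a + b) - (a + b) =
        (lamP (Localization.AtPrime p.asIdeal) lam hS a - a) +
        (lamP (Localization.AtPrime p.asIdeal) lam hS b - b) := by
      rw [map_add]; ring
    rw [this]
    exact M.add_mem ha hb

end main

section final

variable (lam : R ≃+* R) (hlam : Function.Involutive lam) (hS : RInv.IsFixedRing S R lam)
  (p : PrimeSpectrum S)

include hlam hS in
/-- a prime of `R` over `p` extends to a maximal ideal of `S_p ⊗ R` contracting to it. -/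
theorem exists_maximal_over (q' : Ideal R) [hq'p : q'.IsPrime]
    (hq' : q'.comap (algebraMap S R) = p.asIdeal) :
    ∃ Q : Ideal (Localization.AtPrime p.asIdeal ⊗[S] R), Q.IsMaximal ∧
      Q.comap (iota (R := R) p) = q' := by
  have hint : Algebra.IsIntegral S R := isIntegral_of_fixed lam hlam hS
  let _ : Algebra R (Localization.AtPrime p.asIdeal ⊗[S] R) := Algebra.TensorProduct.rightAlgebra
  have halg : algebraMap R (Localization.AtPrime p.asIdeal ⊗[S] R) = iota p := rfl
  have hloc' : IsLocalization (Algebra.algebraMapSubmonoid R p.asIdeal.primeCompl)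
      (Localization.AtPrime p.asIdeal ⊗[S] R) :=
    IsLocalization.tensorRight (R := S) (S := R) (Localization.AtPrime p.asIdeal) p.asIdeal.primeCompl
  have hdisj : Disjoint (Algebra.algebraMapSubmonoid R p.asIdeal.primeCompl : Set R) q' := by
    rw [Set.disjoint_left]
    rintro x ⟨s, hs, rfl⟩ hx
    exact hs (by rw [← hq']; exact hx)
  set Q' := q'.map (iota (R := R) p) with hQ'
  have hQ'prime : Q'.IsPrime := by
    have := IsLocalization.isPrime_of_isPrime_disjoint
      (Algebra.algebraMapSubmonoid R p.asIdeal.primeCompl)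
      (Localization.AtPrime p.asIdeal ⊗[S] R) q' hq'p hdisj
    rwa [halg] at this
  have hQ'comap : Q'.comap (iota (R := R) p) = q' := by
    have := IsLocalization.under_map_of_isPrime_disjoint
      (Algebra.algebraMapSubmonoid R p.asIdeal.primeCompl)
      (Localization.AtPrime p.asIdeal ⊗[S] R) hq'p hdisj
    rw [Ideal.under, halg] at this
    exact this
  refine ⟨Q', ?_, hQ'comap⟩
  apply Ideal.isMaximal_of_isIntegral_of_isMaximal_comap (R := Localization.AtPrime p.asIdeal)
  have h2 : ((Q'.comap (algebraMap (Localization.AtPrime p.asIdeal)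
      (Localization.AtPrime p.asIdeal ⊗[S] R))).comap
      (algebraMap S (Localization.AtPrime p.asIdeal))) = p.asIdeal := by
    rw [← comap_comap_iota, hQ'comap, hq']
  have h3 : Q'.comap (algebraMap (Localization.AtPrime p.asIdeal)
      (Localization.AtPrime p.asIdeal ⊗[S] R)) =
      IsLocalRing.maximalIdeal (Localization.AtPrime p.asIdeal) := by
    have e1 := IsLocalization.map_under p.asIdeal.primeCompl (Localization.AtPrime p.asIdeal)
      (Q'.comap (algebraMap (Localization.AtPrime p.asIdeal)
      (Localization.AtPrime p.asIdeal ⊗[S] R)))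
    have e2 := IsLocalization.map_under p.asIdeal.primeCompl (Localization.AtPrime p.asIdeal)
      (IsLocalRing.maximalIdeal (Localization.AtPrime p.asIdeal))
    rw [Ideal.under] at e1 e2
    rw [h2] at e1
    rw [show (IsLocalRing.maximalIdeal (Localization.AtPrime p.asIdeal)).comap
      (algebraMap S (Localization.AtPrime p.asIdeal)) = p.asIdeal from
      Localization.AtPrime.under_maximalIdeal] at e2
    rw [← e1, e2]
  rw [h3]
  infer_instance

include hlam hS in
theorem final :
    ¬ RInv.IsQuadEtale (Localization.AtPrime p.asIdeal) (Localization.AtPrime p.asIdeal ⊗[S] R) ↔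
      ∃ q : PrimeSpectrum R, q.asIdeal.comap (algebraMap S R) = p.asIdeal ∧
        (∀ q' : PrimeSpectrum R, q'.asIdeal.comap (algebraMap S R) = p.asIdeal → q' = q) ∧
        ∀ r : R, lam r - r ∈ q.asIdeal := by
  rw [not_qe_iff lam hlam hS p]
  constructor
  · intro h
    have hfix := isFixedRing_lamP (Localization.AtPrime p.asIdeal) lam hlam hS
    have hinv := lamP_involutive (Localization.AtPrime p.asIdeal) lam hlam hS
    have hloc : IsLocalRing (Localization.AtPrime p.asIdeal ⊗[S] R) :=
      (Groth.Agent.S15577.result _ _ _ hinv hfix h).1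
    set 𝔪 := IsLocalRing.maximalIdeal (Localization.AtPrime p.asIdeal ⊗[S] R) with h𝔪
    have h𝔪max : 𝔪.IsMaximal := IsLocalRing.maximalIdeal.isMaximal _
    refine ⟨⟨𝔪.comap (iota (R := R) p), h𝔪max.isPrime.comap _⟩,
      comap_of_isMaximal lam hlam hS p 𝔪 h𝔪max, ?_, ?_⟩
    · intro q' hq'
      obtain ⟨Q, hQmax, hQ⟩ := exists_maximal_over lam hlam hS p q'.asIdeal hq'
      have : Q = 𝔪 := IsLocalRing.eq_maximalIdeal hQmax
      apply PrimeSpectrum.ext
      show q'.asIdeal = 𝔪.comap (iota (R := R) p)
      rw [← this, hQ]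
    · intro r
      show iota p (lam r - r) ∈ 𝔪
      have h1 := h (iota p r)
      rw [iota_apply, lamP_tmul, ← TensorProduct.tmul_sub] at h1
      rw [Ring.jacobson_eq_sInf_isMaximal, Ideal.mem_sInf] at h1
      exact h1 h𝔪max
  · rintro ⟨q, hq, huniq, hmem⟩ z
    rw [Ring.jacobson_eq_sInf_isMaximal, Ideal.mem_sInf]
    intro M hM
    apply lamP_sub_mem lam hS p M _ z
    intro r
    have hMp := comap_of_isMaximal lam hlam hS p M hM
    have h1 : (⟨M.comap (iota (R := R) p), hM.isPrime.comap _⟩ : PrimeSpectrum R) = q :=
      huniq _ hMp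
    have h2 : M.comap (iota (R := R) p) = q.asIdeal := congrArg PrimeSpectrum.asIdeal h1
    rw [h2]
    exact hmem r

end final

end aux


/-- (b) ⇔ (d): let `R` be a commutative ring with an involution `lam` and fixed ring `S`, so that `Spec
R → Spec S` is a good quotient by the involution, and let `p` be a prime of `S`. Then `p` is a
branch point, i.e. the localisation `S_p ⊗_S R` is not quadratic etale over `S_p`, if and only if
exactly one prime `q` of `R` lies over `p` and `lam` induces the identity on the residue field of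
`q` (equivalently `lam r - r ∈ q` for all `r`). This is the affine-local form of the statement for a
good quotient of schemes, to which the general case reduces since such quotients are affine
morphisms. -/
theorem result (S : Type u) (R : Type v) [CommRing S] [CommRing R]
    [Algebra S R] (lam : R ≃+* R) (hlam : Function.Involutive lam) (hS : RInv.IsFixedRing S R lam)
    (p : PrimeSpectrum S) :
    ¬ RInv.IsQuadEtale (Localization.AtPrime p.asIdeal) (Localization.AtPrime p.asIdeal ⊗[S] R) ↔
      ∃ q : PrimeSpectrum R, q.asIdeal.comap (algebraMap S R) = p.asIdeal ∧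
        (∀ q' : PrimeSpectrum R, q'.asIdeal.comap (algebraMap S R) = p.asIdeal → q' = q) ∧
        ∀ r : R, lam r - r ∈ q.asIdeal := by
  exact final lam hlam hS p

end Groth.Agent.S15587
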