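import Groth.Statements.S15575
import Mathlib
import Groth.Agent.S15573
import Groth.Agent.S15574
import Groth.Agent.S15587

set_option autoImplicit false
universe u v
open scoped TensorProduct
open RInv

namespace Groth.Agent.S15575

open TensorProduct

section aux

open Groth.Agent.S15587

variable {S : Type u} {R : Type v} [CommRing S] [CommRing R] [Algebra S R]

theorem final (lam : R ≃+* R) (hlam : Function.Involutive lam) (hS : RInv.IsFixedRing S R lam)
    (p : PrimeSpectrum S)
    (hp : RInv.IsQuadEtale (Localization.AtPrime p.asIdeal) (Localization.AtPrime p.asIdeal ⊗[S] R)) :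
    ∃ s : S, s ∉ p.asIdeal ∧
      RInv.IsQuadEtale (Localization.Away s) (Localization.Away s ⊗[S] R) := by
  have hfix := isFixedRing_lamP (Localization.AtPrime p.asIdeal) lam hlam hS
  have hinv := lamP_involutive (Localization.AtPrime p.asIdeal) lam hlam hS
  obtain ⟨z, hz⟩ := Groth.Agent.S15574.result _ _ _ hinv hfix hp
  let _ : Algebra R (Localization.AtPrime p.asIdeal ⊗[S] R) := Algebra.TensorProduct.rightAlgebra
  have halg : algebraMap R (Localization.AtPrime p.asIdeal ⊗[S] R) = iota p := rfl
  have hloc' : IsLocalization (Algebra.algebraMapSubmonoid R p.asIdeal.primeCompl)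
      (Localization.AtPrime p.asIdeal ⊗[S] R) :=
    IsLocalization.tensorRight (R := S) (S := R) (Localization.AtPrime p.asIdeal) p.asIdeal.primeCompl
  -- write z as a fraction
  obtain ⟨⟨r, m⟩, hrm⟩ := IsLocalization.surj (Algebra.algebraMapSubmonoid R p.asIdeal.primeCompl) z
  simp only [halg] at hrm
  -- hrm : z * iota p m = iota p r
  obtain ⟨b, hb, hbm⟩ := m.2
  have hlm : lamP (Localization.AtPrime p.asIdeal) lam hS (iota p (m : R)) = iota p (m : R) := by
    rw [iota_apply, lamP_tmul, ← hbm, (hS.2 _).2 ⟨b, rfl⟩]
  have h1 : (z - lamP (Localization.AtPrime p.asIdeal) lam hS z) * iota p (m : R) =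
      iota p (r - lam r) := by
    have h2 : lamP (Localization.AtPrime p.asIdeal) lam hS z * iota p (m : R) = iota p (lam r) := by
      rw [← hlm, ← map_mul, hrm, iota_apply, lamP_tmul, iota_apply]
    rw [sub_mul, hrm, h2, map_sub]
  have hmunit : IsUnit (iota (R := R) p (m : R)) := by
    rw [← halg]; exact IsLocalization.map_units _ m
  have hdunit : IsUnit (iota (R := R) p (r - lam r)) := by
    rw [← h1]; exact hz.mul hmunit
  -- extract divisor
  obtain ⟨w, hw⟩ := hdunit.exists_right_inv
  obtain ⟨⟨y, m'⟩, hym⟩ := IsLocalization.surj (Algebra.algebraMapSubmonoid R p.asIdeal.primeCompl) w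
  simp only [halg] at hym
  have h3 : iota (R := R) p ((r - lam r) * y) = iota p (m' : R) := by
    rw [map_mul, ← hym, ← mul_assoc, hw, one_mul]
  rw [← halg] at h3
  obtain ⟨c, hc⟩ := (IsLocalization.eq_iff_exists (Algebra.algebraMapSubmonoid R p.asIdeal.primeCompl) _).1 h3
  obtain ⟨s, hs, hsc⟩ := (c * m').2
  refine ⟨s, hs, ?_⟩
  -- now over Localization.Away s
  have hfix' := isFixedRing_lamP (Localization.Away s) lam hlam hS
  have hinv' := lamP_involutive (Localization.Away s) lam hlam hS
  apply Groth.Agent.S15573.result _ _ _ hinv' hfix'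
  refine ⟨(1 : Localization.Away s) ⊗ₜ[S] r, ?_⟩
  rw [lamP_tmul, ← TensorProduct.tmul_sub]
  have h4 : ((1 : Localization.Away s) ⊗ₜ[S] (r - lam r)) * ((1 : Localization.Away s) ⊗ₜ[S] ((c : R) * y)) =
      algebraMap (Localization.Away s) (Localization.Away s ⊗[S] R) (algebraMap S _ s) := by
    rw [Algebra.TensorProduct.tmul_mul_tmul, one_mul, Algebra.TensorProduct.algebraMap_apply,
      Algebra.algebraMap_self, RingHom.id_apply]
    have h5 : (r - lam r) * ((c : R) * y) = algebraMap S R s := by
      rw [hsc, Submonoid.coe_mul, ← hc]; ring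
    rw [h5, Algebra.algebraMap_eq_smul_one, Algebra.algebraMap_eq_smul_one, TensorProduct.smul_tmul]
  have h6 : IsUnit (algebraMap (Localization.Away s) (Localization.Away s ⊗[S] R)
      (algebraMap S _ s)) :=
    (IsLocalization.Away.algebraMap_isUnit (S := Localization.Away s) s).map _
  rw [← h4] at h6
  exact isUnit_of_mul_isUnit_left h6

end aux


/-- Let `R` be a commutative ring with an involution `lam` and fixed ring `S` (no finiteness assumed).
If the localisation of `R` at a prime `p` of `S` is quadratic etale over `S_p`, then there is `s ∉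
p` with `R[1/s]` quadratic etale over `S[1/s]`; in particular the set of such primes is open in
`Spec S`. Localisations of `R` are written as base changes `S_p ⊗ R` and `S_s ⊗ R`. -/
theorem result (S : Type u) (R : Type v) [CommRing S] [CommRing R]
    [Algebra S R] (lam : R ≃+* R) (hlam : Function.Involutive lam) (hS : RInv.IsFixedRing S R lam)
    (p : PrimeSpectrum S)
    (hp : RInv.IsQuadEtale (Localization.AtPrime p.asIdeal) (Localization.AtPrime p.asIdeal ⊗[S] R)) :
    ∃ s : S, s ∉ p.asIdeal ∧
      RInv.IsQuadEtale (Localization.Away s) (Localization.Away s ⊗[S] R) := by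
  exact final lam hlam hS p hp

end Groth.Agent.S15575
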