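import Groth.Statements.S15579
import Mathlib

set_option autoImplicit false
universe u v
open RInv

namespace Groth.Agent.S15579

/-- For a local ring `S` with maximal ideal `m` and a quadratic etale `S`-algebra `R`, the Jacobson
radical of `R` is `mR`. -/
theorem result (S : Type u) (R : Type v) [CommRing S]
    [CommRing R] [Algebra S R] [IsLocalRing S] (hq : RInv.IsQuadEtale S R) :
    Ring.jacobson R = (IsLocalRing.maximalIdeal S).map (algebraMap S R) := by
  obtain ⟨hfin, _, hunr, _⟩ := hq
  apply le_antisymm
  · have h1 : ((IsLocalRing.maximalIdeal S).map (algebraMap S R)).jacobson =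
        (IsLocalRing.maximalIdeal S).map (algebraMap S R) := by
      rw [Ideal.jacobson_eq_iff_jacobson_quotient_eq_bot]
      letI : Field (S ⧸ IsLocalRing.maximalIdeal S) := Ideal.Quotient.field _
      haveI : Module.Finite S (R ⧸ (IsLocalRing.maximalIdeal S).map (algebraMap S R)) :=
        Module.Finite.of_surjective (Ideal.Quotient.mkₐ S _).toLinearMap
          (Ideal.Quotient.mkₐ_surjective S _)
      haveI : Module.Finite (S ⧸ IsLocalRing.maximalIdeal S)
          (R ⧸ (IsLocalRing.maximalIdeal S).map (algebraMap S R)) :=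
        Module.Finite.of_restrictScalars_finite S _ _
      haveI : Algebra.FormallyUnramified (S ⧸ IsLocalRing.maximalIdeal S)
          (R ⧸ (IsLocalRing.maximalIdeal S).map (algebraMap S R)) :=
        Algebra.FormallyUnramified.quotient_map R (IsLocalRing.maximalIdeal S)
      haveI : IsReduced (R ⧸ (IsLocalRing.maximalIdeal S).map (algebraMap S R)) :=
        Algebra.FormallyUnramified.isReduced_of_field (S ⧸ IsLocalRing.maximalIdeal S) _
      haveI : IsArtinianRing (R ⧸ (IsLocalRing.maximalIdeal S).map (algebraMap S R)) :=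
        IsArtinianRing.of_finite (S ⧸ IsLocalRing.maximalIdeal S) _
      obtain ⟨n, hn⟩ := IsArtinianRing.isNilpotent_jacobson_bot
        (R := R ⧸ (IsLocalRing.maximalIdeal S).map (algebraMap S R))
      rw [eq_bot_iff]
      intro x hx
      have h2 : x ^ n ∈ (Ideal.jacobson (⊥ : Ideal
          (R ⧸ (IsLocalRing.maximalIdeal S).map (algebraMap S R)))) ^ n := Ideal.pow_mem_pow hx n
      rw [hn] at h2
      have h3 : x ^ n = 0 := h2
      exact (Ideal.mem_bot).mpr (IsReduced.eq_zero x ⟨n, h3⟩)
    calc Ring.jacobson R ≤ ((IsLocalRing.maximalIdeal S).map (algebraMap S R)).jacobson :=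
          Ideal.ringJacobson_le_jacobson
      _ = _ := h1
  · rw [Ring.jacobson_eq_sInf_isMaximal, le_sInf_iff]
    intro M hM
    rw [Ideal.map_le_iff_le_comap]
    haveI : M.IsMaximal := hM
    have : (M.comap (algebraMap S R)).IsMaximal :=
      Ideal.isMaximal_comap_of_isIntegral_of_isMaximal M
    exact (IsLocalRing.eq_maximalIdeal this).ge

end Groth.Agent.S15579
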