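import Mathlib
import Groth.Statements.S15580
import Groth.Agent.S15574

set_option autoImplicit false
universe u v
open RInv

namespace Groth.Agent.S15580

/-- A semi-invariant element (`lam w = c * w`) outside the Jacobson radical is a unit when the fixed ring is local. -/
theorem isUnit_of_notMem_jacobson' {S : Type u} {R : Type v} [CommRing S] [CommRing R]
    [Algebra S R] [IsLocalRing S] (lam : R ≃+* R) (hlam : Function.Involutive lam)
    (hS : RInv.IsFixedRing S R lam) (w c : R) (hw : lam w = c * w) (hnj : w ∉ Ring.jacobson R) :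
    IsUnit w := by
  obtain ⟨hinj, hfix⟩ := hS
  have hnorm : ∀ x : R, ∃ s : S, algebraMap S R s = x * lam x := fun x =>
    (hfix _).mp (by rw [map_mul, hlam x, mul_comm])
  have htrace : ∀ x : R, ∃ s : S, algebraMap S R s = x + lam x := fun x =>
    (hfix _).mp (by rw [map_add, hlam x, add_comm])
  have hproper : ∀ I : Ideal R, I ≠ ⊤ → ∀ s : S, algebraMap S R s ∈ I →
      s ∈ IsLocalRing.maximalIdeal S := by
    intro I hI s hs
    by_contra h
    have := (IsLocalRing.notMem_maximalIdeal.mp h).map (algebraMap S R)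
    exact hI (Ideal.eq_top_of_isUnit_mem _ hs this)
  have hmax : ∀ M : Ideal R, M.IsMaximal → ∀ s ∈ IsLocalRing.maximalIdeal S,
      algebraMap S R s ∈ M := by
    intro M hM s hs
    by_contra hsM
    obtain ⟨y, i, hi, hyi⟩ := hM.exists_inv hsM
    obtain ⟨n, hn⟩ := hnorm i
    obtain ⟨t, ht⟩ := htrace y
    obtain ⟨q, hq⟩ := hnorm y
    have hfs : lam (algebraMap S R s) = algebraMap S R s := (hfix _).mpr ⟨s, rfl⟩
    have hi' : i = 1 - y * algebraMap S R s := by rw [← hyi]; ring
    have hn' : n = 1 - s * (t - s * q) := by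
      apply hinj
      rw [hn, map_sub, map_one, map_mul, map_sub, map_mul, ht, hq, hi', map_sub, map_one, map_mul,
        hfs]
      ring
    have hnM : algebraMap S R n ∈ M := by rw [hn]; exact M.mul_mem_right _ hi
    have hnm := hproper M hM.ne_top n hnM
    have h1 : (1 : S) ∈ IsLocalRing.maximalIdeal S := by
      have : (1 : S) = n + s * (t - s * q) := by rw [hn']; ring
      rw [this]
      exact Ideal.add_mem _ hnm (Ideal.mul_mem_right _ _ hs)
    exact (Ideal.ne_top_iff_one _).mp (IsLocalRing.maximalIdeal.isMaximal S).ne_top h1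
  rw [Ring.jacobson_eq_sInf_isMaximal, Ideal.mem_sInf] at hnj
  push Not at hnj
  obtain ⟨M, hM, hwM⟩ := hnj
  have hM : M.IsMaximal := hM
  by_contra hnu
  obtain ⟨M', hM', hle⟩ := Ideal.exists_le_maximal (Ideal.span {w})
    (by rwa [Ne, Ideal.span_singleton_eq_top])
  have hwM' : w ∈ M' := hle (Ideal.mem_span_singleton_self w)
  set lM := M.comap (lam : R →+* R) with hlM
  haveI : lM.IsPrime := Ideal.comap_isPrime _ _
  have hwlM : w ∉ lM := by
    intro h
    rw [hlM, Ideal.mem_comap] at h
    change lam w ∈ M at h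
    have h2 : w = lam c * lam w := by rw [← map_mul, ← hw, hlam w]
    rw [h2] at hwM
    exact hwM (M.mul_mem_left _ h)
  have hnot : ¬ ((M' : Set R) ⊆ (M : Set R) ∪ (lM : Set R)) := by
    rw [Ideal.subset_union]
    rintro (h | h)
    · exact hwM (h hwM')
    · exact hwlM (h hwM')
  rw [Set.not_subset] at hnot
  obtain ⟨x, hxM', hx⟩ := hnot
  rw [Set.mem_union, not_or] at hx
  obtain ⟨hxM, hxlM⟩ := hx
  obtain ⟨s, hs⟩ := hnorm x
  have hsM' : algebraMap S R s ∈ M' := by rw [hs]; exact M'.mul_mem_right _ hxM'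
  have hsm := hproper M' hM'.ne_top s hsM'
  have hsM := hmax M hM s hsm
  rw [hs] at hsM
  rcases hM.isPrime.mem_or_mem hsM with h | h
  · exact hxM h
  · exact hxlM h

/-- Let `S` be a local ring, `R` a quadratic etale `S`-algebra and `lam` an involution of `R` with fixed
ring `S`. Then every unit `r` of `R` with `lam r * r = 1` can be written `a⁻¹ * lam a` for a unit
`a` of `R`. -/
theorem result (S : Type u) (R : Type v) [CommRing S] [CommRing R]
    [Algebra S R] (lam : R ≃+* R) (hlam : Function.Involutive lam) (hS : RInv.IsFixedRing S R lam)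
    [IsLocalRing S] (hq : RInv.IsQuadEtale S R) (r : Rˣ) (hr : lam r * r = 1) :
    ∃ a : Rˣ, (r : R) = (a⁻¹ : Rˣ) * lam a := by
  classical
  obtain ⟨θ, hθ⟩ := Groth.Agent.S15574.result S R lam hlam hS hq
  haveI : Nontrivial R := hS.1.nontrivial
  have hr' : (r : R) * lam r = 1 := by rw [mul_comm]; exact hr
  have hlr : IsUnit (lam (r : R)) := IsUnit.of_mul_eq_one _ hr
  -- the twisted averaging map
  have ha : ∀ y : R, lam (y + lam r * lam y) = r * (y + lam r * lam y) := by
    intro y
    rw [map_add, map_mul, hlam, hlam]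
    linear_combination (-(lam y)) * hr'
  have hex : ∃ y : R, y + lam r * lam y ∉ Ring.jacobson R := by
    by_contra hcon
    push Not at hcon
    have h1 := hcon 1
    have h2 := hcon θ
    have h3 : lam (r : R) * (θ - lam θ) ∈ Ring.jacobson R := by
      have : lam (r : R) * (θ - lam θ) = θ * (1 + lam r * lam 1) - (θ + lam r * lam θ) := by
        rw [map_one]; ring
      rw [this]
      exact Ideal.sub_mem _ (Ideal.mul_mem_left _ _ h1) h2
    have hu : IsUnit (lam (r : R) * (θ - lam θ)) := hlr.mul hθ
    have htop : Ring.jacobson R = ⊤ := Ideal.eq_top_of_isUnit_mem _ h3 hu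
    rw [← Ideal.jacobson_bot, Ideal.jacobson_eq_top_iff] at htop
    exact bot_ne_top htop
  obtain ⟨y, hy⟩ := hex
  have hunit := isUnit_of_notMem_jacobson' lam hlam hS (y + lam r * lam y) r (ha y) hy
  obtain ⟨a, hau⟩ := hunit
  refine ⟨a, ?_⟩
  have h4 : lam (a : R) = r * a := by rw [hau]; exact ha y
  rw [h4, mul_comm (r : R) a, ← mul_assoc, ← Units.val_mul, inv_mul_cancel, Units.val_one, one_mul]

end Groth.Agent.S15580
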