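import Mathlib
import Groth.Statements.S15581

set_option autoImplicit false
universe u v
open RInv

namespace Groth.Agent.S15581

/-- Let `A` be a commutative ring with an involution `lam` whose fixed ring `B` is local with `2`
invertible. Then `Jac(A)^2 ⊆ Jac(B) A`. -/
theorem result (B : Type u) (A : Type v) [CommRing B]
    [CommRing A] [Algebra B A] (lam : A ≃+* A) (hlam : Function.Involutive lam)
    (hB : RInv.IsFixedRing B A lam) [IsLocalRing B] (h2 : IsUnit (2 : B)) :
    (Ring.jacobson A) ^ 2 ≤ (IsLocalRing.maximalIdeal B).map (algebraMap B A) := by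
  obtain ⟨hinj, hfix⟩ := hB
  haveI hntA : Nontrivial A := hinj.nontrivial
  have hjac : Ring.jacobson A = (⊥ : Ideal A).jacobson := Ideal.jacobson_bot.symm
  -- `lam` preserves the Jacobson radical
  have hlamJ : ∀ x ∈ Ring.jacobson A, lam x ∈ Ring.jacobson A := by
    intro x hx
    rw [hjac, Ideal.mem_jacobson_bot] at hx ⊢
    intro y
    have h := (hx (lam y)).map lam
    simpa [hlam y] using h
  -- fixed elements of the Jacobson radical come from the maximal ideal of `B`
  have hfixJ : ∀ x ∈ Ring.jacobson A, lam x = x →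
      x ∈ (IsLocalRing.maximalIdeal B).map (algebraMap B A) := by
    intro x hx hfx
    obtain ⟨b, rfl⟩ := (hfix x).mp hfx
    apply Ideal.mem_map_of_mem
    by_contra hb
    have hbu : IsUnit b := (IsLocalRing.notMem_maximalIdeal).mp hb
    obtain ⟨u, hu⟩ := hbu.map (algebraMap B A)
    rw [hjac, Ideal.mem_jacobson_bot] at hx
    have := hx (-↑u⁻¹)
    rw [← hu] at this
    simp at this
  obtain ⟨two, htwo⟩ := h2
  set h : A := algebraMap B A ↑two⁻¹ with hh
  have hhalf : (2 : A) * h = 1 := by
    have : (2 : B) * ↑two⁻¹ = 1 := by rw [← htwo]; exact two.mul_inv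
    have := congrArg (algebraMap B A) this
    rw [map_mul, map_ofNat, map_one] at this
    exact this
  have hlamh : lam h = h := (hfix _).mpr ⟨_, rfl⟩
  rw [pow_two, Ideal.mul_le]
  intro a ha a' ha'
  have hla := hlamJ a ha
  have hla' := hlamJ a' ha'
  set s := h * (a + lam a) with hs_def
  set d := h * (a - lam a) with hd_def
  set s' := h * (a' + lam a') with hs'_def
  set d' := h * (a' - lam a') with hd'_def
  have hsJ : s ∈ Ring.jacobson A := Ideal.mul_mem_left _ _ (Ideal.add_mem _ ha hla)
  have hs'J : s' ∈ Ring.jacobson A := Ideal.mul_mem_left _ _ (Ideal.add_mem _ ha' hla')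
  have hdJ : d ∈ Ring.jacobson A := Ideal.mul_mem_left _ _ (Ideal.sub_mem _ ha hla)
  have hs : s ∈ (IsLocalRing.maximalIdeal B).map (algebraMap B A) := by
    refine hfixJ s hsJ ?_
    rw [hs_def, map_mul, map_add, hlam a, hlamh, add_comm]
  have hs' : s' ∈ (IsLocalRing.maximalIdeal B).map (algebraMap B A) := by
    refine hfixJ s' hs'J ?_
    rw [hs'_def, map_mul, map_add, hlam a', hlamh, add_comm]
  have hd : lam d = -d := by
    rw [hd_def, map_mul, map_sub, hlam a, hlamh]; ring
  have hd' : lam d' = -d' := by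
    rw [hd'_def, map_mul, map_sub, hlam a', hlamh]; ring
  have hdd : d * d' ∈ (IsLocalRing.maximalIdeal B).map (algebraMap B A) := by
    refine hfixJ _ (Ideal.mul_mem_right _ _ hdJ) ?_
    rw [map_mul, hd, hd', neg_mul_neg]
  have hsum : a = s + d := by
    rw [hs_def, hd_def]
    linear_combination (-a) * hhalf
  have hsum' : a' = s' + d' := by
    rw [hs'_def, hd'_def]
    linear_combination (-a') * hhalf
  have : a * a' = s * a' + d * s' + d * d' := by
    conv_lhs => rw [hsum]
    conv_rhs => rw [hsum']
    rw [hsum']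
    ring
  rw [this]
  refine Ideal.add_mem _ (Ideal.add_mem _ (Ideal.mul_mem_right _ _ hs) (Ideal.mul_mem_left _ _ hs'))
    hdd

end Groth.Agent.S15581
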