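import Groth.Statements.S15582
import Mathlib

set_option autoImplicit false
universe u
open CategoryTheory TopologicalSpace
open CohTop

namespace Groth.Agent.S15582

/-- Let `π : X → Y` be a continuous map such that every open set containing a fibre `π⁻¹(y)` contains
the preimage of an open neighbourhood of `y`, and such that every fibre is finite with its points
separated by pairwise disjoint open sets of `X`. Then the direct image of sheaves of sets along `π`
preserves epimorphisms. -/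
theorem result
    {X Y : TopCat.{u}} (π : X ⟶ Y)
    (h1 : ∀ (y : Y) (U : Set X), IsOpen U → π ⁻¹' {y} ⊆ U →
      ∃ V : Set Y, IsOpen V ∧ y ∈ V ∧ π ⁻¹' V ⊆ U)
    (h2 : ∀ y : Y, (π ⁻¹' {y}).Finite ∧ ∃ U : X → Set X,
      (∀ x ∈ π ⁻¹' {y}, IsOpen (U x) ∧ x ∈ U x) ∧ (π ⁻¹' {y}).PairwiseDisjoint U) :
    (TopCat.Sheaf.pushforward (Type u) π).PreservesEpimorphisms := by
  classical
  refine ⟨fun {F G} φ hφ => ?_⟩
  have hls : Sheaf.IsLocallySurjective φ := (Sheaf.isLocallySurjective_iff_epi φ).mpr hφ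
  refine (Sheaf.isLocallySurjective_iff_epi (J := Opens.grothendieckTopology Y)
    ((TopCat.Sheaf.pushforward (Type u) π).map φ)).mp ?_
  refine ⟨fun {V} s => ?_⟩
  intro y hyV
  obtain ⟨hfin, Ux, hUx, hdisj⟩ := h2 y
  -- local lifts near the points of the fibre
  have hloc : ∀ x : (π ⁻¹' {y} : Set X), ∃ (W : Opens X), x.1 ∈ W ∧ (W : Set X) ⊆ Ux x.1 ∧
      ∃ (hW : W ≤ (Opens.map π).obj V) (t : F.obj.obj (Opposite.op W)),
        φ.hom.app (Opposite.op W) t = G.obj.map (homOfLE hW).op s := by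
    intro x
    have hxV : x.1 ∈ (Opens.map π).obj V := by
      change π x.1 ∈ V
      rw [x.2]
      exact hyV
    obtain ⟨W₁, f, ⟨t, ht⟩, hxW₁⟩ := hls.imageSieve_mem (show ToType (G.obj.obj
      (Opposite.op ((Opens.map π).obj V))) from s) x.1 hxV
    let W : Opens X := W₁ ⊓ ⟨Ux x.1, (hUx x.1 x.2).1⟩
    have hWW₁ : W ≤ W₁ := inf_le_left
    refine ⟨W, ⟨hxW₁, (hUx x.1 x.2).2⟩, fun z hz => hz.2, hWW₁.trans f.le,
      F.obj.map (homOfLE hWW₁).op t, ?_⟩
    have hn := NatTrans.naturality_apply φ.hom (homOfLE hWW₁).op t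
    refine hn.trans ?_
    rw [ht]
    change (G.obj.map f.op ≫ G.obj.map (homOfLE hWW₁).op) s = _
    rw [← G.obj.map_comp]
    rfl
  choose Wf hxW hWU hWV tf htf using hloc
  -- the `Wf` are pairwise disjoint
  have hdisjW : ∀ i j, i ≠ j → Wf i ⊓ Wf j = ⊥ := by
    intro i j hij
    apply le_bot_iff.mp
    intro z hz
    have hne : i.1 ≠ j.1 := fun h => hij (Subtype.ext h)
    have := hdisj i.2 j.2 hne
    exact (Set.disjoint_left.mp this (hWU i hz.1) (hWU j hz.2)).elim
  -- glue the lifts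
  let FX : TopCat.Sheaf (Type u) X := F
  have hcompat : TopCat.Presheaf.IsCompatible FX.1 Wf tf := by
    intro i j
    by_cases hij : i = j
    · subst hij
      rfl
    · haveI : Subsingleton (FX.1.obj (Opposite.op (Wf i ⊓ Wf j))) :=
        ((CategoryTheory.Limits.Types.isTerminalEquivUnique _) (FX.isTerminalOfEqEmpty (hdisjW i j hij))).instSubsingleton
      exact Subsingleton.elim _ _
  obtain ⟨t, ht, -⟩ := FX.existsUnique_gluing Wf tf hcompat
  -- the union of the `Wf` contains the fibre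
  have hfib : π ⁻¹' {y} ⊆ ((iSup Wf : Opens X) : Set X) := fun x hx =>
    Opens.mem_iSup.mpr ⟨⟨x, hx⟩, hxW ⟨x, hx⟩⟩
  obtain ⟨V₁, hV₁o, hyV₁, hV₁⟩ := h1 y _ (iSup Wf).2 hfib
  let V' : Opens Y := ⟨V₁, hV₁o⟩ ⊓ V
  have hV'sup : (Opens.map π).obj V' ≤ iSup Wf := fun z hz => hV₁ hz.1
  have hsupV : iSup Wf ≤ (Opens.map π).obj V := iSup_le hWV
  refine ⟨V', homOfLE inf_le_right, ⟨FX.1.map (homOfLE hV'sup).op t, ?_⟩, ⟨hyV₁, hyV⟩⟩
  -- `φ t = s` on the union, checked locally
  let GX : TopCat.Sheaf (Type u) X := G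
  have hts : φ.hom.app (Opposite.op (iSup Wf)) t = GX.1.map (homOfLE hsupV).op s := by
    apply GX.eq_of_locally_eq Wf
    intro i
    have hn := NatTrans.naturality_apply φ.hom (Opens.leSupr Wf i).op t
    refine hn.symm.trans ?_
    rw [ht i, htf i]
    change _ = (GX.1.map (homOfLE hsupV).op ≫ GX.1.map (Opens.leSupr Wf i).op) s
    rw [← GX.1.map_comp]
    rfl
  have hn := NatTrans.naturality_apply φ.hom (homOfLE hV'sup).op t
  refine hn.trans ?_
  rw [hts]
  change (GX.1.map (homOfLE hsupV).op ≫ GX.1.map (homOfLE hV'sup).op) s = _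
  rw [← GX.1.map_comp]
  rfl

end Groth.Agent.S15582
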