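import Groth.Statements.S15583
import Mathlib

set_option autoImplicit false
universe u v
open RInv

namespace Groth.Agent.S15583

open Matrix

section basics
variable {A : Type v} [CommRing A] (lam : A ≃+* A)

/-- conjugate transpose w.r.t. `lam` -/
def cst {m n : Type*} (v : Matrix m n A) : Matrix n m A := (v.map lam).transpose

theorem cst_apply {m n : Type*} (v : Matrix m n A) (i : n) (j : m) :
    cst lam v i j = lam (v j i) := rfl

theorem cst_mul {m n p : Type*} [Fintype n] (v : Matrix m n A) (w : Matrix n p A) :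
    cst lam (v * w) = cst lam w * cst lam v := by
  ext i j
  simp only [cst_apply, Matrix.mul_apply, map_sum, map_mul]
  exact Finset.sum_congr rfl fun k _ => mul_comm _ _

theorem cst_one {n : Type*} [DecidableEq n] : cst lam (1 : Matrix n n A) = 1 := by
  ext i j
  rw [cst_apply, Matrix.one_apply, Matrix.one_apply]
  by_cases h : i = j
  · rw [if_pos h, if_pos h.symm, map_one]
  · rw [if_neg h, if_neg (Ne.symm h), map_zero]

theorem cst_zero {m n : Type*} : cst lam (0 : Matrix m n A) = 0 := by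
  ext i j
  rw [cst_apply, Matrix.zero_apply, Matrix.zero_apply, map_zero]

theorem cst_fromBlocks {a b c d : Type*} (P : Matrix a c A) (Q : Matrix a d A)
    (R : Matrix b c A) (T : Matrix b d A) :
    cst lam (Matrix.fromBlocks P Q R T) =
      Matrix.fromBlocks (cst lam P) (cst lam R) (cst lam Q) (cst lam T) := by
  ext (i | i) (j | j) <;> rfl

theorem isUnit_cst {n : Type*} [Fintype n] [DecidableEq n] {v : Matrix n n A} (hv : IsUnit v) :
    IsUnit (cst lam v) := by
  obtain ⟨u, rfl⟩ := hv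
  refine ⟨⟨cst lam u, cst lam (u⁻¹ : (Matrix n n A)ˣ), ?_, ?_⟩, rfl⟩
  · rw [← cst_mul, Units.inv_mul, cst_one]
  · rw [← cst_mul, Units.mul_inv, cst_one]

theorem mv_apply {m n : Type*} [Fintype n] (M : Matrix m n A) (y : n → A) (j : m) :
    M.mulVec y j = ∑ k, M j k * y k := rfl

/-- the sesquilinear form of a matrix -/
def sq {n : Type*} [Fintype n] (h : Matrix n n A) (x y : n → A) : A :=
  ∑ j, lam (x j) * (h.mulVec y) j

section sqlemmas
variable {n : Type*} [Fintype n] (h : Matrix n n A) (x x' y y' : n → A) (c : A)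

theorem sq_add_right : sq lam h x (y + y') = sq lam h x y + sq lam h x y' := by
  unfold sq; rw [Matrix.mulVec_add, ← Finset.sum_add_distrib]
  exact Finset.sum_congr rfl fun j _ => by rw [Pi.add_apply, mul_add]

theorem sq_add_left : sq lam h (x + x') y = sq lam h x y + sq lam h x' y := by
  unfold sq; rw [← Finset.sum_add_distrib]
  exact Finset.sum_congr rfl fun j _ => by rw [Pi.add_apply, map_add, add_mul]

theorem sq_smul_right : sq lam h x (c • y) = c * sq lam h x y := by
  unfold sq; rw [Matrix.mulVec_smul, Finset.mul_sum]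
  exact Finset.sum_congr rfl fun j _ => by rw [Pi.smul_apply, smul_eq_mul]; ring

theorem sq_smul_left : sq lam h (c • x) y = lam c * sq lam h x y := by
  unfold sq; rw [Finset.mul_sum]
  exact Finset.sum_congr rfl fun j _ => by rw [Pi.smul_apply, smul_eq_mul, map_mul]; ring

theorem sq_zero_right : sq lam h x 0 = 0 := by
  have := sq_smul_right lam h x x 0
  rwa [zero_smul, zero_mul] at this

theorem sq_zero_left : sq lam h 0 y = 0 := by
  have := sq_smul_left lam h y y 0
  rwa [zero_smul, map_zero, zero_mul] at this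

theorem sq_sub_right : sq lam h x (y - y') = sq lam h x y - sq lam h x y' := by
  have e : y - y' = y + (-1 : A) • y' := by rw [neg_one_smul, sub_eq_add_neg]
  rw [e, sq_add_right, sq_smul_right]; ring

theorem sq_sub_left : sq lam h (x - x') y = sq lam h x y - sq lam h x' y := by
  have e : x - x' = x + (-1 : A) • x' := by rw [neg_one_smul, sub_eq_add_neg]
  rw [e, sq_add_left, sq_smul_left, map_neg, map_one]; ring

theorem sq_single_left [DecidableEq n] (j : n) : sq lam h (Pi.single j 1) y = (h.mulVec y) j := by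
  unfold sq
  rw [Finset.sum_eq_single j]
  · rw [Pi.single_eq_same, map_one, one_mul]
  · intro k _ hk; rw [Pi.single_eq_of_ne hk, map_zero, zero_mul]
  · intro hj; exact absurd (Finset.mem_univ j) hj

theorem mulVec_single_one' [DecidableEq n] (k : n) (j : n) :
    h.mulVec (Pi.single k 1) j = h j k := by
  rw [mv_apply, Finset.sum_eq_single k]
  · rw [Pi.single_eq_same, mul_one]
  · intro l _ hl; rw [Pi.single_eq_of_ne hl, mul_zero]
  · intro hk; exact absurd (Finset.mem_univ k) hk

theorem sq_single_single [DecidableEq n] (j k : n) :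
    sq lam h (Pi.single j 1) (Pi.single k 1) = h j k := by
  rw [sq_single_left, mulVec_single_one']

theorem sq_congr (v : Matrix n n A) :
    sq lam (cst lam v * h * v) x y = sq lam h (v.mulVec x) (v.mulVec y) := by
  unfold sq
  rw [← Matrix.mulVec_mulVec, ← Matrix.mulVec_mulVec]
  obtain ⟨w, hw⟩ : ∃ w, w = h.mulVec (v.mulVec y) := ⟨_, rfl⟩
  rw [← hw]
  calc ∑ j, lam (x j) * (cst lam v).mulVec w j
      = ∑ j, ∑ k, lam (x j) * (lam (v k j) * w k) :=
        Finset.sum_congr rfl fun j _ => by rw [mv_apply, Finset.mul_sum]; rfl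
    _ = ∑ k, ∑ j, lam (x j) * (lam (v k j) * w k) := Finset.sum_comm
    _ = ∑ k, lam (v.mulVec x k) * w k := Finset.sum_congr rfl fun k _ => by
        rw [mv_apply, map_sum, Finset.sum_mul]
        exact Finset.sum_congr rfl fun j _ => by rw [map_mul]; ring

theorem herm_entry {ε : A} (herm : ε • cst lam h = h) (j k : n) : h k j = ε * lam (h j k) := by
  have := congrFun (congrFun herm k) j
  rw [← this]; rfl

theorem sq_symm {ε : A} (hlam : Function.Involutive lam) (herm : ε • cst lam h = h) :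
    sq lam h y x = ε * lam (sq lam h x y) := by
  have hent := herm_entry lam h herm
  calc sq lam h y x = ∑ k, ∑ j, lam (y k) * (h k j * x j) := by
        unfold sq
        exact Finset.sum_congr rfl fun k _ => by rw [mv_apply, Finset.mul_sum]
    _ = ∑ j, ∑ k, lam (y k) * (h k j * x j) := Finset.sum_comm
    _ = ∑ j, ∑ k, ε * (x j * (lam (h j k) * lam (y k))) :=
        Finset.sum_congr rfl fun j _ => Finset.sum_congr rfl fun k _ => by rw [hent j k]; ring
    _ = ε * lam (sq lam h x y) := by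
        unfold sq
        rw [map_sum, Finset.mul_sum]
        refine Finset.sum_congr rfl fun j _ => ?_
        rw [map_mul, hlam (x j), mv_apply, map_sum, Finset.mul_sum, Finset.mul_sum]
        refine Finset.sum_congr rfl fun k _ => ?_
        rw [map_mul]

theorem q_add : sq lam h (x + y) (x + y) =
    sq lam h x x + sq lam h y y + (sq lam h x y + sq lam h y x) := by
  simp only [sq_add_left, sq_add_right]; ring

theorem q_smul : sq lam h (c • x) (c • x) = lam c * c * sq lam h x x := by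
  rw [sq_smul_left, sq_smul_right]; ring

theorem sq_pair [DecidableEq n] (j k : n) (t : A) :
    sq lam h (Pi.single j 1 + t • Pi.single k 1) (Pi.single j 1 + t • Pi.single k 1) =
      h j j + t * h j k + lam t * h k j + lam t * t * h k k := by
  simp only [sq_add_left, sq_add_right, sq_smul_left, sq_smul_right, sq_single_single]
  ring

end sqlemmas

/-! Jacobson radical facts -/

theorem mem_jac_iff (x : A) : x ∈ Ring.jacobson A ↔ ∀ y, IsUnit (x * y + 1) := by
  rw [← Ideal.jacobson_bot]; exact Ideal.mem_jacobson_bot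

theorem lam_mem_jac (hlam : Function.Involutive lam) {x : A} (hx : x ∈ Ring.jacobson A) :
    lam x ∈ Ring.jacobson A := by
  rw [mem_jac_iff] at hx ⊢
  intro y
  have := (hx (lam y)).map lam
  rwa [map_add, map_mul, hlam y, map_one] at this

theorem jac_radical {c : A} (hc : c * c ∈ Ring.jacobson A) : c ∈ Ring.jacobson A := by
  rw [Ring.jacobson_eq_sInf_isMaximal] at hc ⊢
  rw [Ideal.mem_sInf] at hc ⊢
  intro M hM
  have hM' : M.IsMaximal := hM
  exact (hM'.isPrime.mem_or_mem (hc hM)).elim id id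

theorem not_mem_jac_of_isUnit [Nontrivial A] {c : A} (hc : IsUnit c) : c ∉ Ring.jacobson A := by
  intro hmem
  obtain ⟨u, rfl⟩ := hc
  have h1 : (1 : A) ∈ Ring.jacobson A := by
    have := (Ring.jacobson A).mul_mem_left (↑u⁻¹ : A) hmem
    rwa [Units.inv_mul] at this
  exact (Ring.jacobson_lt_top (R := A)).ne ((Ideal.eq_top_iff_one _).mpr h1)

end basics

structure Ctx (B : Type u) (A : Type v) [CommRing B] [CommRing A] [Algebra B A]
    (lam : A ≃+* A) (ε : A) : Prop where
  hlam : Function.Involutive lam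
  hB : RInv.IsFixedRing B A lam
  hε : ε = 1 ∨ ε = -1

section ctx
variable {B : Type u} {A : Type v} [CommRing B] [CommRing A] [Algebra B A]
  {lam : A ≃+* A} {ε : A}

theorem Ctx.lam_eps (cx : Ctx B A lam ε) : lam ε = ε := by
  rcases cx.hε with rfl | rfl
  · exact map_one lam
  · rw [map_neg, map_one]

theorem Ctx.eps_sq (cx : Ctx B A lam ε) : ε * ε = 1 := by
  rcases cx.hε with rfl | rfl <;> ring

theorem Ctx.fixed_of (cx : Ctx B A lam ε) {c : A} (hc : lam c = c) :
    ∃ b : B, algebraMap B A b = c := (cx.hB.2 c).mp hc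

theorem Ctx.nonunit_fixed_mem_jac [IsLocalRing B] (cx : Ctx B A lam ε) {c : A} (hc : lam c = c)
    (hnu : ¬ IsUnit c) : c ∈ Ring.jacobson A := by
  obtain ⟨b, rfl⟩ := cx.fixed_of hc
  have hb : ¬ IsUnit b := fun hb => hnu (hb.map (algebraMap B A))
  rw [mem_jac_iff]
  intro y
  obtain ⟨t, ht⟩ := cx.fixed_of
    (show lam (y + lam y) = y + lam y by rw [map_add, cx.hlam y, add_comm])
  obtain ⟨n, hn⟩ := cx.fixed_of
    (show lam (y * lam y) = y * lam y by rw [map_mul, cx.hlam y, mul_comm])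
  have hu : IsUnit (1 + b * (t + b * n) : B) := by
    have hnu' : ¬ IsUnit (-(b * (t + b * n))) := fun h =>
      hb (isUnit_of_mul_isUnit_left ((IsUnit.neg_iff _).mp h))
    have hsum : -(b * (t + b * n)) + (1 + b * (t + b * n)) = 1 := by ring
    exact (IsLocalRing.isUnit_or_isUnit_of_add_one hsum).resolve_left hnu'
  have hprod : (algebraMap B A b * y + 1) * (algebraMap B A b * lam y + 1) =
      algebraMap B A (1 + b * (t + b * n)) := by
    simp only [map_add, map_mul, map_one, ht, hn]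
    ring
  have hu' : IsUnit ((algebraMap B A b * y + 1) * (algebraMap B A b * lam y + 1)) := by
    rw [hprod]; exact hu.map (algebraMap B A)
  exact isUnit_of_mul_isUnit_left hu'

theorem Ctx.isUnit_of_notMem_jac [IsLocalRing B] (cx : Ctx B A lam ε) {c : A}
    (hc : lam c = ε * c) (hcJ : c ∉ Ring.jacobson A) : IsUnit c := by
  by_contra hnu
  apply hcJ
  apply jac_radical
  have hfix : lam (c * lam c) = c * lam c := by rw [map_mul, cx.hlam c, mul_comm]
  have hnu2 : ¬ IsUnit (c * lam c) := fun h => hnu (isUnit_of_mul_isUnit_left h)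
  have hmem := cx.nonunit_fixed_mem_jac hfix hnu2
  rw [hc] at hmem
  have h2 := (Ring.jacobson A).mul_mem_left ε hmem
  have e : ε * (c * (ε * c)) = c * c := by
    have := cx.eps_sq
    linear_combination (c * c) * this
  rwa [e] at h2

end ctx

section main
variable {B : Type u} {A : Type v} [CommRing B] [CommRing A] [Algebra B A]
  {lam : A ≃+* A} {ε : A}

/-- under C₁ or C₂ there is a vector with a coordinate `1` whose value is not in the radical -/
theorem exists_good_vec_of_C (cx : Ctx B A lam ε) {ι : Type} [Fintype ι] [DecidableEq ι]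
    [Nonempty ι] (h : Matrix ι ι A) (hh : IsUnit h) (herm : ε • cst lam h = h)
    (hC : (∃ a : A, lam a - a ∉ Ring.jacobson A) ∨ ε + 1 ∉ Ring.jacobson A) :
    ∃ (x : ι → A) (i : ι), x i = 1 ∧ sq lam h x x ∉ Ring.jacobson A := by
  by_contra hno
  push_neg at hno
  have hdiag : ∀ j, h j j ∈ Ring.jacobson A := fun j => by
    have := hno (Pi.single j 1) j (Pi.single_eq_same j 1)
    rwa [sq_single_single] at this
  have hT : ∀ (j k : ι) (t : A), t * h j k + ε * lam (t * h j k) ∈ Ring.jacobson A := by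
    intro j k t
    by_cases hjk : j = k
    · subst hjk
      exact (Ring.jacobson A).add_mem ((Ring.jacobson A).mul_mem_left t (hdiag j))
        ((Ring.jacobson A).mul_mem_left ε
          (lam_mem_jac lam cx.hlam ((Ring.jacobson A).mul_mem_left t (hdiag j))))
    · have hx1 : (Pi.single j 1 + t • Pi.single k 1 : ι → A) j = 1 := by
        rw [Pi.add_apply, Pi.smul_apply, Pi.single_eq_same, Pi.single_eq_of_ne hjk, smul_zero,
          add_zero]
      have := hno _ j hx1
      rw [sq_pair] at this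
      have hkj : h k j = ε * lam (h j k) := herm_entry lam h herm j k
      have e : t * h j k + ε * lam (t * h j k) =
          (h j j + t * h j k + lam t * h k j + lam t * t * h k k) - h j j
            - lam t * t * h k k := by
        rw [hkj, map_mul]; ring
      rw [e]
      exact (Ring.jacobson A).sub_mem ((Ring.jacobson A).sub_mem this (hdiag j))
        ((Ring.jacobson A).mul_mem_left _ (hdiag k))
  obtain ⟨j₀⟩ := ‹Nonempty ι›
  obtain ⟨g, hg⟩ : ∃ g : Matrix ι ι A, h * g = 1 := by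
    obtain ⟨u, rfl⟩ := hh; exact ⟨↑u⁻¹, u.mul_inv⟩
  have hone : ∑ k, h j₀ k * g k j₀ = 1 := by
    have := congrFun (congrFun hg j₀) j₀
    rwa [Matrix.mul_apply, Matrix.one_apply_eq] at this
  have hTs : ∀ s : A, s + ε * lam s ∈ Ring.jacobson A := by
    intro s
    have hs : ∑ k, s * g k j₀ * h j₀ k = s := by
      calc ∑ k, s * g k j₀ * h j₀ k = s * ∑ k, h j₀ k * g k j₀ := by
            rw [Finset.mul_sum]; exact Finset.sum_congr rfl fun k _ => by ring
        _ = s := by rw [hone, mul_one]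
    have e : s + ε * lam s =
        ∑ k, ((s * g k j₀) * h j₀ k + ε * lam ((s * g k j₀) * h j₀ k)) := by
      rw [Finset.sum_add_distrib, ← Finset.mul_sum, ← map_sum, hs]
    rw [e]; exact Ideal.sum_mem _ fun k _ => hT j₀ k _
  have h1 := hTs 1
  rw [map_one, mul_one] at h1
  rcases hC with ⟨a, ha⟩ | h2
  · apply ha
    have h3 := hTs a
    have e : lam a - a = (1 + ε) * lam a - (a + ε * lam a) := by ring
    rw [e]; exact (Ring.jacobson A).sub_mem ((Ring.jacobson A).mul_mem_right _ h1) h3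
  · apply h2
    rwa [add_comm] at h1

/-- in the bad case the polar form vanishes mod the radical -/
theorem polar_mem (cx : Ctx B A lam ε) (hid : ∀ a : A, lam a - a ∈ Ring.jacobson A)
    (hε1 : ε + 1 ∈ Ring.jacobson A) {ι : Type} [Fintype ι] (h : Matrix ι ι A)
    (herm : ε • cst lam h = h) (x y : ι → A) :
    sq lam h x y + sq lam h y x ∈ Ring.jacobson A := by
  rw [sq_symm lam h x y cx.hlam herm]
  have e : sq lam h x y + ε * lam (sq lam h x y) =
      (ε + 1) * lam (sq lam h x y) - (lam (sq lam h x y) - sq lam h x y) := by ring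
  rw [e]
  exact (Ring.jacobson A).sub_mem ((Ring.jacobson A).mul_mem_right _ hε1) (hid _)

theorem q_sum_mem (cx : Ctx B A lam ε) (hid : ∀ a : A, lam a - a ∈ Ring.jacobson A)
    (hε1 : ε + 1 ∈ Ring.jacobson A) {ι : Type} [Fintype ι] (h : Matrix ι ι A)
    (herm : ε • cst lam h = h) {κ : Type} [DecidableEq κ] (w : κ → (ι → A)) (c : κ → A)
    (s : Finset κ) (hw : ∀ j ∈ s, sq lam h (w j) (w j) ∈ Ring.jacobson A) :
    sq lam h (∑ j ∈ s, c j • w j) (∑ j ∈ s, c j • w j) ∈ Ring.jacobson A := by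
  induction s using Finset.induction_on with
  | empty =>
    rw [Finset.sum_empty, sq_zero_left]; exact (Ring.jacobson A).zero_mem
  | insert a s ha ih =>
    rw [Finset.sum_insert ha, q_add]
    refine (Ring.jacobson A).add_mem ((Ring.jacobson A).add_mem ?_
      (ih fun j hj => hw j (Finset.mem_insert_of_mem hj))) (polar_mem cx hid hε1 h herm _ _)
    rw [q_smul]
    exact (Ring.jacobson A).mul_mem_left _ (hw a (Finset.mem_insert_self a s))

theorem vec_eq_sum {ι : Type} [Fintype ι] [DecidableEq ι] (x : ι → A) :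
    x = ∑ j, x j • (Pi.single j 1 : ι → A) := by
  funext k
  rw [Finset.sum_apply, Finset.sum_eq_single k]
  · rw [Pi.smul_apply, Pi.single_eq_same, smul_eq_mul, mul_one]
  · intro j _ hj
    rw [Pi.smul_apply, Pi.single_eq_of_ne (Ne.symm hj), smul_zero]
  · intro hk; exact absurd (Finset.mem_univ k) hk

/-- E3: in the bad case, if all diagonal entries are in the radical so are all values -/
theorem q_mem_of_diag (cx : Ctx B A lam ε) (hid : ∀ a : A, lam a - a ∈ Ring.jacobson A)
    (hε1 : ε + 1 ∈ Ring.jacobson A) {ι : Type} [Fintype ι] [DecidableEq ι] (h : Matrix ι ι A)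
    (herm : ε • cst lam h = h) (hd : ∀ j, h j j ∈ Ring.jacobson A) (x : ι → A) :
    sq lam h x x ∈ Ring.jacobson A := by
  rw [vec_eq_sum x]
  refine q_sum_mem cx hid hε1 h herm (fun j => (Pi.single j 1 : ι → A)) x Finset.univ ?_
  intro j _
  rw [sq_single_single]; exact hd j

theorem vmv_mulVec {ι : Type} [Fintype ι] (a b y : ι → A) :
    (Matrix.vecMulVec a b).mulVec y = (∑ k, b k * y k) • a := by
  funext j
  rw [mv_apply, Pi.smul_apply, smul_eq_mul, Finset.sum_mul]
  exact Finset.sum_congr rfl fun k _ => by rw [Matrix.vecMulVec_apply]; ring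

theorem vmv_sq_zero {ι : Type} [Fintype ι] (a b : ι → A) (hab : ∑ k, b k * a k = 0) :
    Matrix.vecMulVec a b * Matrix.vecMulVec a b = 0 := by
  ext j k
  rw [Matrix.mul_apply, Matrix.zero_apply]
  calc ∑ l, Matrix.vecMulVec a b j l * Matrix.vecMulVec a b l k
      = a j * (∑ l, b l * a l) * b k := by
        rw [Finset.mul_sum, Finset.sum_mul]
        exact Finset.sum_congr rfl fun l _ => by
          rw [Matrix.vecMulVec_apply, Matrix.vecMulVec_apply]; ring
    _ = 0 := by rw [hab, mul_zero, zero_mul]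

theorem isUnit_one_add_vmv {ι : Type} [Fintype ι] [DecidableEq ι] (a b : ι → A)
    (hab : ∑ k, b k * a k = 0) : IsUnit (1 + Matrix.vecMulVec a b) := by
  have hz := vmv_sq_zero a b hab
  refine ⟨⟨1 + Matrix.vecMulVec a b, 1 - Matrix.vecMulVec a b, ?_, ?_⟩, rfl⟩
  · have : (1 + Matrix.vecMulVec a b) * (1 - Matrix.vecMulVec a b) =
        1 - Matrix.vecMulVec a b * Matrix.vecMulVec a b := by noncomm_ring
    rw [this, hz, sub_zero]
  · have : (1 - Matrix.vecMulVec a b) * (1 + Matrix.vecMulVec a b) =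
        1 - Matrix.vecMulVec a b * Matrix.vecMulVec a b := by noncomm_ring
    rw [this, hz, sub_zero]

theorem sum_single_mul {ι : Type} [Fintype ι] [DecidableEq ι] (i : ι) (y : ι → A) :
    ∑ k, (Pi.single i 1 : ι → A) k * y k = y i := by
  rw [Finset.sum_eq_single i]
  · rw [Pi.single_eq_same, one_mul]
  · intro k _ hk; rw [Pi.single_eq_of_ne hk, zero_mul]
  · intro hk; exact absurd (Finset.mem_univ i) hk

theorem sum_mul_single {ι : Type} [Fintype ι] [DecidableEq ι] (i : ι) (y : ι → A) :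
    ∑ k, y k * (Pi.single i 1 : ι → A) k = y i := by
  rw [Finset.sum_eq_single i]
  · rw [Pi.single_eq_same, mul_one]
  · intro k _ hk; rw [Pi.single_eq_of_ne hk, mul_zero]
  · intro hk; exact absurd (Finset.mem_univ i) hk

theorem one_add_vmv_mulVec {ι : Type} [Fintype ι] [DecidableEq ι] (a b y : ι → A) :
    (1 + Matrix.vecMulVec a b).mulVec y = y + (∑ k, b k * y k) • a := by
  rw [Matrix.add_mulVec, Matrix.one_mulVec, vmv_mulVec]

theorem sum_compl_of_zero {ι : Type} [Fintype ι] [DecidableEq ι] (i : ι) (f : ι → A)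
    (hf : f i = 0) : ∑ j, f j = ∑ a : {j // ¬ j = i}, f a.val := by
  have key := Fintype.sum_subtype_add_sum_subtype (fun j => j = i) f
  have h0 : ∀ a : {j // j = i}, f a.val = 0 := fun a => by rw [a.property, hf]
  simp only [h0, Finset.sum_const_zero, zero_add] at key
  rw [← key]

/-- diagonalizability -/
def Diagble (lam : A ≃+* A) {ι : Type} [Fintype ι] [DecidableEq ι] (h : Matrix ι ι A) : Prop :=
  ∃ v : Matrix ι ι A, IsUnit v ∧ ∃ d : ι → A, cst lam v * h * v = Matrix.diagonal d

theorem Diagble.congr {ι : Type} [Fintype ι] [DecidableEq ι] {h : Matrix ι ι A}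
    (V : Matrix ι ι A) (hV : IsUnit V) (hd : Diagble lam (cst lam V * h * V)) :
    Diagble lam h := by
  obtain ⟨v, hv, d, hvd⟩ := hd
  refine ⟨V * v, hV.mul hv, d, ?_⟩
  rw [cst_mul, ← hvd]; simp only [Matrix.mul_assoc]

theorem Diagble.reindex {ι ι' : Type} [Fintype ι] [DecidableEq ι] [Fintype ι'] [DecidableEq ι']
    (e : ι' ≃ ι) {h : Matrix ι ι A} (hd : Diagble lam (h.submatrix e e)) : Diagble lam h := by
  obtain ⟨v, hv, d, hvd⟩ := hd
  refine ⟨v.submatrix e.symm e.symm, ?_, d ∘ e.symm, ?_⟩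
  · rw [Matrix.isUnit_iff_isUnit_det, Matrix.det_submatrix_equiv_self]
    exact (Matrix.isUnit_iff_isUnit_det _).mp hv
  · have hh : h = (h.submatrix e e).submatrix e.symm e.symm := by simp
    have hc : cst lam (v.submatrix e.symm e.symm) = (cst lam v).submatrix e.symm e.symm := rfl
    calc cst lam (v.submatrix e.symm e.symm) * h * v.submatrix e.symm e.symm
        = (cst lam v).submatrix e.symm e.symm * (h.submatrix e e).submatrix e.symm e.symm *
            v.submatrix e.symm e.symm := by rw [hc, ← hh]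
      _ = (cst lam v * h.submatrix e e * v).submatrix e.symm e.symm := by
          rw [Matrix.submatrix_mul_equiv, Matrix.submatrix_mul_equiv]
      _ = Matrix.diagonal (d ∘ e.symm) := by rw [hvd, Matrix.submatrix_diagonal_equiv]

theorem Diagble.blocks {α β : Type} [Fintype α] [DecidableEq α] [Fintype β] [DecidableEq β]
    [Subsingleton α] {N₁₁ : Matrix α α A} {S : Matrix β β A} (hd : Diagble lam S) :
    Diagble lam (Matrix.fromBlocks N₁₁ 0 0 S) := by
  obtain ⟨w, hw, d, hwd⟩ := hd
  refine ⟨Matrix.fromBlocks 1 0 0 w, ?_, Sum.elim (fun a => N₁₁ a a) d, ?_⟩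
  · obtain ⟨wu, rfl⟩ := hw
    refine ⟨⟨Matrix.fromBlocks 1 0 0 ↑wu, Matrix.fromBlocks 1 0 0 ↑wu⁻¹, ?_, ?_⟩, rfl⟩
    · rw [Matrix.fromBlocks_multiply]
      simp only [Matrix.mul_one, Matrix.mul_zero, Matrix.zero_mul, add_zero, zero_add,
        Units.mul_inv, Matrix.fromBlocks_one]
    · rw [Matrix.fromBlocks_multiply]
      simp only [Matrix.mul_one, Matrix.mul_zero, Matrix.zero_mul, add_zero, zero_add,
        Units.inv_mul, Matrix.fromBlocks_one]
  · rw [cst_fromBlocks, cst_one, cst_zero, cst_zero, Matrix.fromBlocks_multiply,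
      Matrix.fromBlocks_multiply]
    simp only [Matrix.one_mul, Matrix.mul_one, Matrix.mul_zero, Matrix.zero_mul, add_zero,
      zero_add, hwd]
    rw [← Matrix.fromBlocks_diagonal]
    congr 1
    ext a a'
    obtain rfl := Subsingleton.elim a a'
    rw [Matrix.diagonal_apply_eq]

theorem det_alt_odd {R : Type*} [CommRing R] {n : ℕ} (hn : Odd n) (M : Matrix (Fin n) (Fin n) R)
    (hd : ∀ j, M j j = 0) (hs : ∀ j k, M k j = - M j k) : M.det = 0 := by
  rw [Matrix.det_apply']
  refine Finset.sum_involution (fun σ _ => σ⁻¹) ?_ ?_ (fun σ _ => Finset.mem_univ _)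
    (fun σ _ => inv_inv σ)
  · intro σ _
    have h1 : ∏ i, M (σ⁻¹ i) i = ∏ i, M i (σ i) := by
      rw [← Equiv.prod_comp σ]
      exact Finset.prod_congr rfl fun i _ => by rw [Equiv.Perm.inv_def, Equiv.symm_apply_apply]
    have h2 : ∏ i, M i (σ i) = - ∏ i, M (σ i) i := by
      have : ∀ i, M i (σ i) = -1 * M (σ i) i := fun i => by rw [hs (σ i) i]; ring
      simp_rw [this]
      rw [Finset.prod_mul_distrib, Finset.prod_const, Finset.card_univ, Fintype.card_fin,
        hn.neg_one_pow]
      ring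
    rw [Equiv.Perm.sign_inv, h1, h2]; ring
  · intro σ _ hne hσ
    apply hne
    have hσ2 : σ ^ 2 ^ 1 = 1 := by
      rw [pow_one, pow_two]
      exact (congrArg (· * σ) hσ).symm.trans (inv_mul_cancel σ)
    have hnd : ¬ 2 ∣ Fintype.card (Fin n) := by
      rw [Fintype.card_fin]; exact hn.not_two_dvd_nat
    obtain ⟨a, ha⟩ := Equiv.Perm.exists_fixed_point_of_prime hnd hσ2
    have : ∏ i, M (σ i) i = 0 :=
      Finset.prod_eq_zero (Finset.mem_univ a) (by rw [ha]; exact hd a)
    rw [this, mul_zero]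

theorem exists_diag_of_odd (cx : Ctx B A lam ε) [Nontrivial A]
    (hid : ∀ a : A, lam a - a ∈ Ring.jacobson A) (hε1 : ε + 1 ∈ Ring.jacobson A)
    {n : ℕ} (hn : Odd n) (h : Matrix (Fin n) (Fin n) A) (hh : IsUnit h)
    (herm : ε • cst lam h = h) : ∃ j, h j j ∉ Ring.jacobson A := by
  by_contra hno
  push_neg at hno
  have hdet : (h.map (Ideal.Quotient.mk (Ring.jacobson A))).det = 0 := by
    refine det_alt_odd hn _ (fun j => ?_) (fun j k => ?_)
    · rw [Matrix.map_apply]; exact Ideal.Quotient.eq_zero_iff_mem.mpr (hno j)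
    · rw [Matrix.map_apply, Matrix.map_apply, ← map_neg, ← sub_eq_zero, ← map_sub]
      apply Ideal.Quotient.eq_zero_iff_mem.mpr
      rw [herm_entry lam h herm j k]
      have e : ε * lam (h j k) - -h j k = (ε + 1) * lam (h j k) - (lam (h j k) - h j k) := by ring
      rw [e]
      exact (Ring.jacobson A).sub_mem ((Ring.jacobson A).mul_mem_right _ hε1) (hid _)
  have hu : IsUnit (h.map (Ideal.Quotient.mk (Ring.jacobson A))).det := by
    have := ((Matrix.isUnit_iff_isUnit_det _).mp hh).map (Ideal.Quotient.mk (Ring.jacobson A))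
    rwa [RingHom.map_det] at this
  rw [hdet] at hu
  have h10 : (0 : A ⧸ Ring.jacobson A) = 1 := isUnit_zero_iff.mp hu
  have h1 : (1 : A) ∈ Ring.jacobson A := by
    apply Ideal.Quotient.eq_zero_iff_mem.mp
    rw [map_one]; exact h10.symm
  exact (Ring.jacobson_lt_top (R := A)).ne ((Ideal.eq_top_iff_one _).mpr h1)

theorem bad_choice (cx : Ctx B A lam ε) [IsLocalRing B] [Nontrivial A]
    (hid : ∀ a : A, lam a - a ∈ Ring.jacobson A) (hε1 : ε + 1 ∈ Ring.jacobson A)
    {ι : Type} [Fintype ι] [DecidableEq ι] (h : Matrix ι ι A) (hh : IsUnit h)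
    (herm : ε • cst lam h = h) (hex : ∃ x, sq lam h x x ∉ Ring.jacobson A) :
    ∃ (x : ι → A) (i : ι), x i = 1 ∧ sq lam h x x ∉ Ring.jacobson A ∧
      (Fintype.card ι = 1 ∨
        ∃ y', sq lam h x y' = 0 ∧ sq lam h y' y' ∉ Ring.jacobson A) := by
  obtain ⟨x₀, hx₀⟩ := hex
  obtain ⟨j₀, hj₀⟩ : ∃ j₀, h j₀ j₀ ∉ Ring.jacobson A := by
    by_contra hno
    push_neg at hno
    exact hx₀ (q_mem_of_diag cx hid hε1 h herm hno x₀)
  obtain ⟨u, hudef⟩ : ∃ u, u = h j₀ j₀ := ⟨_, rfl⟩
  rw [← hudef] at hj₀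
  have hlu : lam u = ε * u := by
    have := herm_entry lam h herm j₀ j₀
    rw [← hudef] at this
    calc lam u = (ε * ε) * lam u := by rw [cx.eps_sq, one_mul]
      _ = ε * (ε * lam u) := by ring
      _ = ε * u := by rw [← this]
  obtain ⟨uu, huu⟩ := cx.isUnit_of_notMem_jac hlu hj₀
  obtain ⟨ui, huidef⟩ : ∃ ui, ui = ((uu⁻¹ : Aˣ) : A) := ⟨_, rfl⟩
  have hui : u * ui = 1 := by rw [huidef, ← huu]; exact uu.mul_inv
  obtain ⟨e₀, he₀⟩ : ∃ e₀ : ι → A, e₀ = Pi.single j₀ 1 := ⟨_, rfl⟩
  have hq0 : sq lam h e₀ e₀ = u := by rw [he₀, sq_single_single, hudef]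
  have hsym : ∀ a b : ι → A, sq lam h b a = ε * lam (sq lam h a b) :=
    fun a b => sq_symm lam h a b cx.hlam herm
  have he₀j : e₀ j₀ = 1 := by rw [he₀, Pi.single_eq_same]
  by_cases hcard : Fintype.card ι = 1
  · exact ⟨e₀, j₀, he₀j, by rw [hq0]; exact hj₀, Or.inl hcard⟩
  have hcard2 : 1 < Fintype.card ι := by
    have : 0 < Fintype.card ι := Fintype.card_pos_iff.mpr ⟨j₀⟩
    omega
  obtain ⟨j₁, hj₁⟩ := Fintype.exists_ne_of_one_lt_card hcard2 j₀
  by_cases hI : ∃ z, sq lam h (z - (ui * sq lam h e₀ z) • e₀) (z - (ui * sq lam h e₀ z) • e₀)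
      ∉ Ring.jacobson A
  · obtain ⟨z, hz⟩ := hI
    refine ⟨e₀, j₀, he₀j, by rw [hq0]; exact hj₀, Or.inr ⟨_, ?_, hz⟩⟩
    rw [sq_sub_right, sq_smul_right, hq0]
    linear_combination (- sq lam h e₀ z) * hui
  · push_neg at hI
    have hII : ∀ z, sq lam h e₀ z = 0 → sq lam h z z ∈ Ring.jacobson A := by
      intro z hz0
      have := hI z
      rwa [hz0, mul_zero, zero_smul, sub_zero] at this
    obtain ⟨g, hg⟩ : ∃ g : Matrix ι ι A, h * g = 1 := by
      obtain ⟨w, rfl⟩ := hh; exact ⟨↑w⁻¹, w.mul_inv⟩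
    obtain ⟨e₁, he₁⟩ : ∃ e₁ : ι → A, e₁ = Pi.single j₁ 1 := ⟨_, rfl⟩
    obtain ⟨z₁, hz₁def⟩ : ∃ z₁, z₁ = g.mulVec e₁ := ⟨_, rfl⟩
    have hhz : h.mulVec z₁ = e₁ := by
      rw [hz₁def, Matrix.mulVec_mulVec, hg, Matrix.one_mulVec]
    have h0z : sq lam h e₀ z₁ = 0 := by
      rw [he₀, sq_single_left, hhz, he₁, Pi.single_eq_of_ne hj₁.symm]
    have h1z : sq lam h e₁ z₁ = 1 := by
      rw [he₁, sq_single_left, hhz, he₁, Pi.single_eq_same]
    obtain ⟨β, hβ⟩ : ∃ β, β = ui * h j₀ j₁ := ⟨_, rfl⟩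
    have h01 : sq lam h e₀ e₁ = h j₀ j₁ := by rw [he₀, he₁, sq_single_single]
    obtain ⟨w, hwdef⟩ : ∃ w, w = e₁ - β • e₀ := ⟨_, rfl⟩
    have h0w : sq lam h e₀ w = 0 := by
      rw [hwdef, sq_sub_right, sq_smul_right, hq0, h01, hβ]
      linear_combination (- h j₀ j₁) * hui
    have hw0 : sq lam h w e₀ = 0 := by rw [hsym e₀ w, h0w, map_zero, mul_zero]
    have hqw : sq lam h w w ∈ Ring.jacobson A := hII w h0w
    have hqz : sq lam h z₁ z₁ ∈ Ring.jacobson A := hII z₁ h0z
    have hz0 : sq lam h z₁ e₀ = 0 := by rw [hsym e₀ z₁, h0z, map_zero, mul_zero]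
    have hwz : sq lam h w z₁ = 1 := by
      rw [hwdef, sq_sub_left, sq_smul_left, h1z, h0z, mul_zero, sub_zero]
    refine ⟨e₀ + w, j₁, ?_, ?_, Or.inr ⟨z₁ - ui • e₀, ?_, ?_⟩⟩
    · rw [hwdef, he₀, he₁]
      simp only [Pi.add_apply, Pi.sub_apply, Pi.smul_apply, smul_eq_mul, Pi.single_eq_same,
        Pi.single_eq_of_ne hj₁, mul_zero, sub_zero, zero_add]
    · rw [q_add, hq0, h0w, hw0, add_zero, add_zero]
      intro hmem
      apply hj₀
      have := (Ring.jacobson A).sub_mem hmem hqw
      rwa [add_sub_cancel_right] at this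
    · simp only [sq_add_left, sq_sub_right, sq_smul_right, h0z, hq0, hwz, hw0]
      linear_combination (-1 : A) * hui
    · have e : sq lam h (z₁ - ui • e₀) (z₁ - ui • e₀) = sq lam h z₁ z₁ + lam ui := by
        simp only [sq_sub_left, sq_sub_right, sq_smul_left, sq_smul_right, hz0, h0z, hq0]
        linear_combination (lam ui) * hui
      rw [e]
      intro hmem
      have hlui : IsUnit (lam ui) := IsUnit.map lam ⟨uu⁻¹, huidef.symm⟩
      apply not_mem_jac_of_isUnit hlui
      have := (Ring.jacobson A).sub_mem hmem hqz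
      rwa [add_sub_cancel_left] at this

theorem step (cx : Ctx B A lam ε) [IsLocalRing B] [Nontrivial A]
    {ι : Type} [Fintype ι] [DecidableEq ι] (h : Matrix ι ι A) (hh : IsUnit h)
    (herm : ε • cst lam h = h) (x : ι → A) (i : ι) (hxi : x i = 1)
    (hq : sq lam h x x ∉ Ring.jacobson A) :
    ∃ (S : Matrix {j // ¬ j = i} {j // ¬ j = i} A), IsUnit S ∧ ε • cst lam S = S ∧
      (Diagble lam S → Diagble lam h) ∧
      (∀ y', sq lam h x y' = 0 → sq lam h y' y' ∉ Ring.jacobson A →
        ∃ c, sq lam S c c ∉ Ring.jacobson A) := by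
  have hsym : ∀ a b : ι → A, sq lam h b a = ε * lam (sq lam h a b) :=
    fun a b => sq_symm lam h a b cx.hlam herm
  obtain ⟨u, hudef⟩ : ∃ u, u = sq lam h x x := ⟨_, rfl⟩
  rw [← hudef] at hq
  have hlu : lam u = ε * u := by
    have := hsym x x
    rw [← hudef] at this
    calc lam u = (ε * ε) * lam u := by rw [cx.eps_sq, one_mul]
      _ = ε * (ε * lam u) := by ring
      _ = ε * u := by rw [← this]
  obtain ⟨uu, huu⟩ := cx.isUnit_of_notMem_jac hlu hq
  obtain ⟨ui, huidef⟩ : ∃ ui, ui = ((uu⁻¹ : Aˣ) : A) := ⟨_, rfl⟩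
  have hui : u * ui = 1 := by rw [huidef, ← huu]; exact uu.mul_inv
  obtain ⟨ei, hei⟩ : ∃ ei : ι → A, ei = Pi.single i 1 := ⟨_, rfl⟩
  obtain ⟨α, hα⟩ : ∃ α : ι → A,
      α = fun k => if k = i then 0 else ui * sq lam h x (Pi.single k 1) := ⟨_, rfl⟩
  have hαi : α i = 0 := by rw [hα]; exact if_pos rfl
  have hαk : ∀ k, k ≠ i → α k = ui * sq lam h x (Pi.single k 1) := by
    intro k hk; rw [hα]; exact if_neg hk
  obtain ⟨v₁, hv₁⟩ : ∃ v₁ : Matrix ι ι A, v₁ = 1 + Matrix.vecMulVec (x - ei) ei := ⟨_, rfl⟩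
  obtain ⟨v₂, hv₂⟩ : ∃ v₂ : Matrix ι ι A, v₂ = 1 + Matrix.vecMulVec ei (-α) := ⟨_, rfl⟩
  have hu1 : IsUnit v₁ := by
    rw [hv₁]; apply isUnit_one_add_vmv
    rw [hei, sum_single_mul, Pi.sub_apply, hxi, Pi.single_eq_same, sub_self]
  have hu2 : IsUnit v₂ := by
    rw [hv₂]; apply isUnit_one_add_vmv
    rw [hei, sum_mul_single, Pi.neg_apply, hαi, neg_zero]
  obtain ⟨V, hV⟩ : ∃ V, V = v₁ * v₂ := ⟨_, rfl⟩
  have hVu : IsUnit V := by rw [hV]; exact hu1.mul hu2
  have hVei : V.mulVec ei = x := by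
    rw [hV, ← Matrix.mulVec_mulVec, hv₂, one_add_vmv_mulVec]
    have h0 : ∑ k, (-α) k * ei k = 0 := by
      rw [hei, sum_mul_single, Pi.neg_apply, hαi, neg_zero]
    rw [h0, zero_smul, add_zero, hv₁, one_add_vmv_mulVec]
    have h1 : ∑ k, ei k * ei k = 1 := by rw [hei, sum_single_mul, Pi.single_eq_same]
    rw [h1, one_smul, add_sub_cancel]
  have hVek : ∀ k, k ≠ i → V.mulVec (Pi.single k 1) = Pi.single k 1 - α k • x := by
    intro k hk
    rw [hV, ← Matrix.mulVec_mulVec, hv₂, one_add_vmv_mulVec]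
    have h0 : ∑ l, (-α) l * (Pi.single k 1 : ι → A) l = - α k := by
      rw [sum_mul_single, Pi.neg_apply]
    rw [h0, hv₁, one_add_vmv_mulVec]
    have h1 : ∑ l, ei l * ((Pi.single k 1 : ι → A) + (-α k) • ei) l = - α k := by
      rw [hei, sum_single_mul, Pi.add_apply, Pi.smul_apply, Pi.single_eq_same,
        Pi.single_eq_of_ne hk.symm, smul_eq_mul, mul_one, zero_add]
    rw [h1]
    simp only [neg_smul, smul_sub]
    abel
  obtain ⟨M', hM'⟩ : ∃ M', M' = cst lam V * h * V := ⟨_, rfl⟩
  have hM'u : IsUnit M' := by rw [hM']; exact ((isUnit_cst lam hVu).mul hh).mul hVu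
  have hM : ∀ j k, M' j k =
      sq lam h (V.mulVec (Pi.single j 1)) (V.mulVec (Pi.single k 1)) := by
    intro j k; rw [← sq_congr, ← hM', sq_single_single]
  have hMsym : ∀ j k, M' k j = ε * lam (M' j k) := by
    intro j k; rw [hM, hM, hsym]
  have hMii : M' i i = u := by rw [hM, ← hei, hVei, hudef]
  have hMik : ∀ k, k ≠ i → M' i k = 0 := by
    intro k hk
    rw [hM, ← hei, hVei, hVek k hk, sq_sub_right, sq_smul_right, ← hudef, hαk k hk]
    linear_combination (- sq lam h x (Pi.single k 1)) * hui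
  have hMki : ∀ k, k ≠ i → M' k i = 0 := by
    intro k hk; rw [hMsym i k, hMik k hk, map_zero, mul_zero]
  obtain ⟨S, hS⟩ : ∃ S : Matrix {j // ¬ j = i} {j // ¬ j = i} A,
      S = fun a b => M' a.val b.val := ⟨_, rfl⟩
  have hSherm : ε • cst lam S = S := by
    ext a b
    rw [hS]
    exact (hMsym b.val a.val).symm
  -- block structure
  obtain ⟨e, he⟩ : ∃ e : {j // j = i} ⊕ {j // ¬ j = i} ≃ ι,
      e = Equiv.sumCompl (fun j => j = i) := ⟨_, rfl⟩
  have hblock : M'.submatrix e e =
      Matrix.fromBlocks (M'.submatrix e e).toBlocks₁₁ 0 0 S := by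
    have h12 : (M'.submatrix e e).toBlocks₁₂ = 0 := by
      ext a b
      rw [Matrix.toBlocks₁₂, Matrix.of_apply, Matrix.submatrix_apply, he,
        Equiv.sumCompl_apply_inl, Equiv.sumCompl_apply_inr, a.property, Matrix.zero_apply]
      exact hMik b.val b.property
    have h21 : (M'.submatrix e e).toBlocks₂₁ = 0 := by
      ext a b
      rw [Matrix.toBlocks₂₁, Matrix.of_apply, Matrix.submatrix_apply, he,
        Equiv.sumCompl_apply_inl, Equiv.sumCompl_apply_inr, b.property, Matrix.zero_apply]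
      exact hMki a.val a.property
    have h22 : (M'.submatrix e e).toBlocks₂₂ = S := by
      ext a b
      rw [Matrix.toBlocks₂₂, Matrix.of_apply, Matrix.submatrix_apply, he,
        Equiv.sumCompl_apply_inr, Equiv.sumCompl_apply_inr, hS]
    rw [← h12, ← h21, ← h22]
    exact (Matrix.fromBlocks_toBlocks _).symm
  have hSu : IsUnit S := by
    have hdet : IsUnit (M'.submatrix e e).det := by
      rw [Matrix.det_submatrix_equiv_self]; exact (Matrix.isUnit_iff_isUnit_det _).mp hM'u
    rw [hblock, Matrix.det_fromBlocks_zero₂₁] at hdet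
    exact (Matrix.isUnit_iff_isUnit_det _).mpr (isUnit_of_mul_isUnit_right hdet)
  refine ⟨S, hSu, hSherm, ?_, ?_⟩
  · intro hd
    apply Diagble.congr V hVu
    rw [← hM']
    apply Diagble.reindex e
    rw [hblock]
    exact Diagble.blocks hd
  · intro y' hxy hqy
    obtain ⟨Vi, hVi⟩ : ∃ Vi : Matrix ι ι A, V * Vi = 1 := by
      obtain ⟨w, hw⟩ := hVu; exact ⟨↑w⁻¹, by rw [← hw]; exact w.mul_inv⟩
    obtain ⟨c', hc'⟩ : ∃ c', c' = Vi.mulVec y' := ⟨_, rfl⟩
    have hVc : V.mulVec c' = y' := by rw [hc', Matrix.mulVec_mulVec, hVi, Matrix.one_mulVec]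
    have hrow : (M'.mulVec c') i = 0 := by
      rw [← sq_single_left lam M' c' i, hM', sq_congr, ← hei, hVei, hVc, hxy]
    have hci : c' i = 0 := by
      have h1 : (M'.mulVec c') i = u * c' i := by
        rw [mv_apply, Finset.sum_eq_single i]
        · rw [hMii]
        · intro k _ hk; rw [hMik k hk, zero_mul]
        · intro hk; exact absurd (Finset.mem_univ i) hk
      rw [h1] at hrow
      calc c' i = (u * ui) * c' i := by rw [hui, one_mul]
        _ = ui * (u * c' i) := by ring
        _ = 0 := by rw [hrow, mul_zero]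
    have hqc : sq lam M' c' c' = sq lam h y' y' := by rw [hM', sq_congr, hVc]
    refine ⟨fun b => c' b.val, ?_⟩
    have heq : sq lam S (fun b => c' b.val) (fun b => c' b.val) = sq lam M' c' c' := by
      unfold sq
      rw [sum_compl_of_zero i (fun j => lam (c' j) * (M'.mulVec c') j)
        (by rw [hci, map_zero, zero_mul])]
      refine Finset.sum_congr rfl fun a _ => ?_
      congr 1
      rw [mv_apply, mv_apply, sum_compl_of_zero i (fun k => M' a.val k * c' k)
        (by rw [hci, mul_zero])]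
      rw [hS]
    rw [heq, hqc]; exact hqy

def Good (lam : A ≃+* A) (ε : A) {ι : Type} [Fintype ι] (h : Matrix ι ι A) : Prop :=
  (∃ a : A, lam a - a ∉ Ring.jacobson A) ∨ ε + 1 ∉ Ring.jacobson A ∨ IsEmpty ι ∨
    ∃ x, sq lam h x x ∉ Ring.jacobson A

theorem main_ind (cx : Ctx B A lam ε) [IsLocalRing B] [Nontrivial A] :
    ∀ m : ℕ, ∀ (ι : Type) [Fintype ι] [DecidableEq ι], Fintype.card ι = m →
      ∀ h : Matrix ι ι A, IsUnit h → ε • cst lam h = h → Good lam ε h → Diagble lam h := by
  intro m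
  induction m with
  | zero =>
    intro ι _ _ hcard h _ _ _
    haveI : IsEmpty ι := Fintype.card_eq_zero_iff.mp hcard
    exact ⟨1, isUnit_one, fun _ => 0, by ext i; exact isEmptyElim i⟩
  | succ m ih =>
    intro ι _ _ hcard h hh herm hgood
    haveI : Nonempty ι := Fintype.card_pos_iff.mp (by omega)
    have hpack : ∃ (x : ι → A) (i : ι), x i = 1 ∧ sq lam h x x ∉ Ring.jacobson A ∧
        ((∃ a : A, lam a - a ∉ Ring.jacobson A) ∨ ε + 1 ∉ Ring.jacobson A ∨ m = 0 ∨
          ∃ y', sq lam h x y' = 0 ∧ sq lam h y' y' ∉ Ring.jacobson A) := by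
      by_cases hC : (∃ a : A, lam a - a ∉ Ring.jacobson A) ∨ ε + 1 ∉ Ring.jacobson A
      · obtain ⟨x, i, hxi, hq⟩ := exists_good_vec_of_C cx h hh herm hC
        exact ⟨x, i, hxi, hq, hC.elim Or.inl (fun h' => Or.inr (Or.inl h'))⟩
      · push_neg at hC
        obtain ⟨hid, hε1⟩ := hC
        have hex : ∃ x, sq lam h x x ∉ Ring.jacobson A := by
          rcases hgood with hg | hg | hg | hg
          · obtain ⟨a, ha⟩ := hg; exact absurd (hid a) ha
          · exact absurd hε1 hg
          · exact absurd ‹Nonempty ι› (not_nonempty_iff.mpr hg)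
          · exact hg
        obtain ⟨x, i, hxi, hq, hrest⟩ := bad_choice cx hid hε1 h hh herm hex
        refine ⟨x, i, hxi, hq, Or.inr (Or.inr ?_)⟩
        rcases hrest with h1 | hy
        · left; omega
        · right; exact hy
    obtain ⟨x, i, hxi, hq, hextra⟩ := hpack
    obtain ⟨S, hS, hSherm, hdiag, hgt⟩ := step cx h hh herm x i hxi hq
    apply hdiag
    have hcardβ : Fintype.card {j // ¬ j = i} = m := by
      rw [Fintype.card_subtype_compl, Fintype.card_subtype_eq, hcard]; omega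
    apply ih {j // ¬ j = i} hcardβ S hS hSherm
    rcases hextra with hg | hg | hg | ⟨y', hy1, hy2⟩
    · exact Or.inl hg
    · exact Or.inr (Or.inl hg)
    · right; right; left; exact Fintype.card_eq_zero_iff.mp (hcardβ.trans hg)
    · right; right; right; exact hgt y' hy1 hy2

end main


/-- Let `A` be a commutative ring with an involution `lam` whose fixed ring `B` is local, let `ε = ±1`,
and let `h` be an invertible `n × n` matrix over `A` that is `(ε, lam)`-hermitian: `h` equals `ε`
times the transpose of `lam` applied entrywise to `h`. If `lam` is not the identity modulo the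
Jacobson radical of `A`, or `ε ≠ -1` modulo that radical, or `n` is odd, then `h` is congruent to a
diagonal matrix: there is an invertible `v` with `(lam v)ᵀ h v` diagonal. -/
theorem result (B : Type u) (A : Type v) [CommRing B] [CommRing A]
    [Algebra B A] (lam : A ≃+* A) (hlam : Function.Involutive lam) (hB : RInv.IsFixedRing B A lam)
    [IsLocalRing B] (n : ℕ) (ε : A) (hε : ε = 1 ∨ ε = -1) (h : Matrix (Fin n) (Fin n) A)
    (hh : IsUnit h) (herm : ε • (h.map lam).transpose = h)
    (hcase : (∃ a : A, lam a - a ∉ Ring.jacobson A) ∨ ε + 1 ∉ Ring.jacobson A ∨ Odd n) :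
    ∃ v : Matrix (Fin n) (Fin n) A, IsUnit v ∧
      ∃ d : Fin n → A, (v.map lam).transpose * h * v = Matrix.diagonal d := by
  by_cases hA : Subsingleton A
  · exact ⟨1, isUnit_one, fun _ => 0, Subsingleton.elim _ _⟩
  haveI : Nontrivial A := not_subsingleton_iff_nontrivial.mp hA
  have cx : Ctx B A lam ε := ⟨hlam, hB, hε⟩
  have herm' : ε • cst lam h = h := herm
  have hgood : Good lam ε h := by
    rcases hcase with hc | hc | hodd
    · exact Or.inl hc
    · exact Or.inr (Or.inl hc)
    · by_cases hC : (∃ a : A, lam a - a ∉ Ring.jacobson A) ∨ ε + 1 ∉ Ring.jacobson A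
      · exact hC.elim Or.inl (fun h' => Or.inr (Or.inl h'))
      · push_neg at hC
        obtain ⟨j, hj⟩ := exists_diag_of_odd cx hC.1 hC.2 hodd h hh herm'
        right; right; right
        exact ⟨Pi.single j 1, by rwa [sq_single_single]⟩
  obtain ⟨v, hv, d, hvd⟩ := main_ind cx n (Fin n) (Fintype.card_fin n) h hh herm' hgood
  exact ⟨v, hv, d, hvd⟩


end Groth.Agent.S15583
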