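import Mathlib
import Groth.Statements.S15585

set_option autoImplicit false
universe u v
open RInv

namespace Groth.Agent.S15585

/-- A reduced two-dimensional algebra over a field that is not a field is `k × k`. -/
theorem two_dim_split (k : Type u) [Field k] (A : Type v) [CommRing A] [Algebra k A] [IsReduced A]
    (h2 : Module.finrank k A = 2) (hF : ¬ IsField A) : Nonempty (A ≃ₐ[k] k × k) := by
  haveI : Module.Finite k A := Module.finite_of_finrank_pos (by omega)
  haveI : Nontrivial A := Module.nontrivial_of_finrank_pos (R := k) (by omega)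
  have hex : ∃ x : A, x ≠ 0 ∧ ¬ IsUnit x := by
    by_contra hcon
    push Not at hcon
    exact hF ⟨exists_pair_ne A, mul_comm, fun ha => (hcon _ ha).exists_right_inv⟩
  obtain ⟨x, hx0, hxu⟩ := hex
  have hxk : ∀ c : k, x ≠ c • (1 : A) := by
    intro c hc
    by_cases hc0 : c = 0
    · rw [hc0, zero_smul] at hc; exact hx0 hc
    · apply hxu
      rw [hc, Algebra.smul_def, mul_one]
      exact (isUnit_iff_ne_zero.mpr hc0).map (algebraMap k A)
  have hindep : LinearIndependent k ![(1 : A), x] := by
    rw [LinearIndependent.pair_iff]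
    intro s t hst
    by_cases ht : t = 0
    · rw [ht, zero_smul, add_zero] at hst
      exact ⟨(smul_eq_zero.mp hst).resolve_right one_ne_zero, ht⟩
    · exfalso
      apply hxk (-(t⁻¹ * s))
      have h1 : t • x = -(s • (1 : A)) := eq_neg_of_add_eq_zero_right hst
      calc x = t⁻¹ • (t • x) := by rw [smul_smul, inv_mul_cancel₀ ht, one_smul]
        _ = -(t⁻¹ * s) • (1 : A) := by rw [h1, smul_neg, smul_smul, neg_smul]
  have hspan : Submodule.span k (Set.range ![(1 : A), x]) = ⊤ :=
    hindep.span_eq_top_of_card_eq_finrank (by simp [h2])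
  have hmem : x * x ∈ Submodule.span k (Set.range ![(1 : A), x]) := by rw [hspan]; trivial
  rw [Submodule.mem_span_range_iff_exists_fun] at hmem
  obtain ⟨c, hc⟩ := hmem
  rw [Fin.sum_univ_two] at hc
  simp only [Matrix.cons_val_zero, Matrix.cons_val_one] at hc
  set a := c 0
  set b := c 1
  have ha : a = 0 := by
    by_contra ha
    apply hxu
    refine IsUnit.of_mul_eq_one (a⁻¹ • (x - b • (1 : A))) ?_
    have : x * (x - b • (1 : A)) = a • (1 : A) := by
      rw [mul_sub, ← hc]
      simp only [Algebra.smul_def, mul_one]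
      ring
    rw [mul_smul_comm, this, smul_smul, inv_mul_cancel₀ ha, one_smul]
  rw [ha, zero_smul, zero_add] at hc
  have hb : b ≠ 0 := by
    intro hb
    rw [hb, zero_smul] at hc
    apply hx0
    exact IsReduced.eq_zero x ⟨2, by rw [pow_two, hc]⟩
  set e : A := b⁻¹ • x with he_def
  have he : e * e = e := by
    rw [he_def, smul_mul_smul_comm, ← hc, smul_smul, mul_assoc, inv_mul_cancel₀ hb, mul_one]
  have he0 : e ≠ 0 := smul_ne_zero (inv_ne_zero hb) hx0
  have he1 : e ≠ 1 := by
    intro h
    apply hxk b
    rw [← h, he_def, smul_smul, mul_inv_cancel₀ hb, one_smul]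
  have he1' : 1 - e ≠ 0 := sub_ne_zero.mpr (Ne.symm he1)
  let ψl : (k × k) →ₗ[k] A :=
    LinearMap.coprod (LinearMap.toSpanSingleton k A e) (LinearMap.toSpanSingleton k A (1 - e))
  have hψl : ∀ p : k × k, ψl p = p.1 • e + p.2 • (1 - e) := fun p => by
    simp [ψl, LinearMap.coprod_apply, LinearMap.toSpanSingleton_apply]
  let ψ : (k × k) →ₐ[k] A :=
    AlgHom.ofLinearMap ψl (by rw [hψl]; simp)
      (by
        intro p q
        rw [hψl, hψl, hψl]
        simp only [Prod.fst_mul, Prod.snd_mul, Algebra.smul_def, map_mul]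
        linear_combination
          (-(algebraMap k A p.1 * algebraMap k A q.1 - algebraMap k A p.1 * algebraMap k A q.2 -
            algebraMap k A p.2 * algebraMap k A q.1 + algebraMap k A p.2 * algebraMap k A q.2)) * he)
  have hinj : Function.Injective ψ := by
    rw [injective_iff_map_eq_zero]
    intro p hp
    change ψl p = 0 at hp
    rw [hψl] at hp
    have h1 : p.1 • e = 0 := by
      have := congrArg (· * e) hp
      simp only [add_mul, smul_mul_assoc, sub_mul, one_mul, he, sub_self, smul_zero, add_zero,
        zero_mul] at this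
      exact this
    have h2' : p.2 • (1 - e) = 0 := by
      rw [h1, zero_add] at hp
      exact hp
    have h3 : p.1 = 0 := (smul_eq_zero.mp h1).resolve_right he0
    have h4 : p.2 = 0 := (smul_eq_zero.mp h2').resolve_right he1'
    exact Prod.ext h3 h4
  have hsurj : Function.Surjective ψ := by
    have hfr : Module.finrank k (k × k) = Module.finrank k A := by
      rw [Module.finrank_prod, Module.finrank_self, h2]
    exact (LinearMap.injective_iff_surjective_of_finrank_eq_finrank (f := ψ.toLinearMap) hfr).mp hinj
  exact ⟨(AlgEquiv.ofBijective ψ ⟨hinj, hsurj⟩).symm⟩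

/-- For a local ring `S` (maximal ideal `m`, residue field `k`) and a quadratic etale `S`-algebra `R`,
the ring `R/mR` is a field that is a separable extension of `k` of degree 2, or else it is
isomorphic as a `k`-algebra to `k × k`. -/
theorem result (S : Type u) (R : Type v) [CommRing S]
    [CommRing R] [Algebra S R] [IsLocalRing S] (hq : RInv.IsQuadEtale S R) :
    (IsField (R ⧸ (IsLocalRing.maximalIdeal S).map (algebraMap S R)) ∧
      Module.finrank (S ⧸ IsLocalRing.maximalIdeal S)
        (R ⧸ (IsLocalRing.maximalIdeal S).map (algebraMap S R)) = 2 ∧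
      Algebra.IsSeparable (S ⧸ IsLocalRing.maximalIdeal S)
        (R ⧸ (IsLocalRing.maximalIdeal S).map (algebraMap S R))) ∨
    Nonempty ((R ⧸ (IsLocalRing.maximalIdeal S).map (algebraMap S R)) ≃ₐ[S ⧸ IsLocalRing.maximalIdeal S]
      ((S ⧸ IsLocalRing.maximalIdeal S) × (S ⧸ IsLocalRing.maximalIdeal S))) := by
  obtain ⟨hfin, hproj, hunr, hrank⟩ := hq
  letI : Field (S ⧸ IsLocalRing.maximalIdeal S) := Ideal.Quotient.field _
  haveI : Module.Free S R := Module.free_of_flat_of_isLocalRing
  have hfr : Module.finrank S R = 2 := by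
    have := hrank (IsLocalRing.closedPoint S)
    rw [Module.rankAtStalk_eq_finrank_of_free] at this
    simpa using this
  have hfrA : Module.finrank (S ⧸ IsLocalRing.maximalIdeal S)
      (R ⧸ (IsLocalRing.maximalIdeal S).map (algebraMap S R)) = 2 := by
    rw [IsLocalRing.finrank_quotient_map, hfr]
  haveI : Module.Finite (S ⧸ IsLocalRing.maximalIdeal S)
      (R ⧸ (IsLocalRing.maximalIdeal S).map (algebraMap S R)) :=
    Module.Finite.of_restrictScalars_finite S _ _
  haveI : Algebra.FormallyUnramified (S ⧸ IsLocalRing.maximalIdeal S)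
      (R ⧸ (IsLocalRing.maximalIdeal S).map (algebraMap S R)) := inferInstance
  haveI : IsReduced (R ⧸ (IsLocalRing.maximalIdeal S).map (algebraMap S R)) :=
    Algebra.FormallyUnramified.isReduced_of_field (S ⧸ IsLocalRing.maximalIdeal S) _
  by_cases hF : IsField (R ⧸ (IsLocalRing.maximalIdeal S).map (algebraMap S R))
  · left
    refine ⟨hF, hfrA, ?_⟩
    letI := hF.toField
    exact Algebra.FormallyUnramified.isSeparable (S ⧸ IsLocalRing.maximalIdeal S) _
  · right
    exact two_dim_split _ _ hfrA hF

end Groth.Agent.S15585
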