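import Groth.Statements.S15588
import Mathlib
import Groth.Agent.S15587

set_option autoImplicit false
universe u v
open scoped TensorProduct
open RInv

namespace Groth.Agent.S15588

/-- Let `R` be a commutative ring with an involution `lam` and fixed ring `S`, let `W ⊆ Spec S` be the
branch locus (the primes `p` with `S_p ⊗_S R` not quadratic etale over `S_p`) and `I` its vanishing
ideal. Then `lam` is the identity on `R/rad(IR)`, i.e. on the reduced closed subscheme `π⁻¹(W)` of
`Spec R`: `lam r - r ∈ rad(IR)` for all `r`. Affine-local form of the statement for a good quotient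
of schemes by an involution. -/
theorem result (S : Type u) (R : Type v) [CommRing S] [CommRing R]
    [Algebra S R] (lam : R ≃+* R) (hlam : Function.Involutive lam) (hS : RInv.IsFixedRing S R lam)
    (W : Set (PrimeSpectrum S))
    (hW : W = {p : PrimeSpectrum S | ¬ RInv.IsQuadEtale (Localization.AtPrime p.asIdeal) (Localization.AtPrime p.asIdeal ⊗[S] R)})
    (r : R) :
    lam r - r ∈ ((PrimeSpectrum.vanishingIdeal W).map (algebraMap S R)).radical := by
  set d := lam r - r with hd
  have hld : lam (d ^ 2) = d ^ 2 := by
    rw [map_pow, hd, map_sub, hlam r]; ring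
  obtain ⟨s, hs⟩ := (hS.2 _).1 hld
  have hsI : s ∈ PrimeSpectrum.vanishingIdeal W := by
    rw [PrimeSpectrum.mem_vanishingIdeal]
    intro w hw
    rw [hW] at hw
    obtain ⟨q, hq, -, hmem⟩ := (Groth.Agent.S15587.result S R lam hlam hS w).1 hw
    have h1 : d ^ 2 ∈ q.asIdeal := Ideal.pow_mem_of_mem _ (hmem r) 2 (by norm_num)
    rw [← hs] at h1
    rw [← hq]
    exact h1
  refine ⟨2, ?_⟩
  rw [← hs]
  exact Ideal.mem_map_of_mem _ hsI

end Groth.Agent.S15588
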